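import Cfsg.Statements.S0143
import Cfsg.Agent.CharBasic.Integral
import Mathlib.GroupTheory.Subgroup.Simple
import Mathlib.GroupTheory.SpecificGroups.Cyclic

set_option autoImplicit false
open Cfsg

namespace Cfsg.Agent.S0143


/-- If a finite simple group has a non-identity element whose conjugacy class has prime-power size, then the group has prime order. -/
theorem result {G : Type*} [Group G] [Finite G] [IsSimpleGroup G] (p k : ℕ) (hp : p.Prime) (g : G) (hg : g ≠ 1) (hclass : (Subgroup.centralizer ({g} : Set G)).index = p ^ k) : (Nat.card G).Prime := by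
  classical
  rcases eq_or_ne (Subgroup.center G) ⊥ with hZ | hZ
  swap
  · have hcomm : ∀ a b : G, a * b = b * a := fun a b => by
      have htop := (IsSimpleGroup.eq_bot_or_eq_top_of_normal (Subgroup.center G) inferInstance).resolve_left hZ
      exact Subgroup.mem_center_iff.mp (htop ▸ Subgroup.mem_top b) a
    let _ : CommGroup G := { (inferInstance : Group G) with mul_comm := hcomm }
    exact IsSimpleGroup.prime_card
  exfalso
  have := Fintype.ofFinite G
  have hk : p ∣ (Subgroup.centralizer ({g} : Set G)).index := by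
    rw [hclass]
    refine dvd_pow_self p fun hk0 => hg ?_
    rw [hk0, pow_zero, Subgroup.index_eq_one] at hclass
    have : g ∈ Subgroup.center G := Subgroup.mem_center_iff.mpr fun x =>
      (Subgroup.mem_centralizer_singleton_iff.mp (hclass ▸ Subgroup.mem_top x))
    rwa [hZ, Subgroup.mem_bot] at this
  let one : Cfsg.IrrCharacter G := ⟨fun _ => 1, CharBasic.isIrrCharacter_one⟩
  have hterm : ∀ χ ∈ Finset.univ.erase one, ∃ z : ℂ, IsIntegral ℤ z ∧
      (χ : G → ℂ) 1 * (χ : G → ℂ) g = (p : ℂ) * z := by
    intro χ hχ
    obtain ⟨n, ρ, hρ, hχρ⟩ := χ.2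
    have h1 : (χ : G → ℂ) 1 = (Module.finrank ℂ (Fin n → ℂ) : ℂ) := by
      rw [← hχρ]; exact Representation.char_one ρ
    by_cases hd : p ∣ Module.finrank ℂ (Fin n → ℂ)
    · obtain ⟨m, hm⟩ := hd
      refine ⟨(m : ℂ) * ρ.character g,
        isIntegral_algebraMap.mul (CharBasic.isIntegral_character ρ g), ?_⟩
      rw [h1, ← hχρ, hm]; push_cast; ring
    · refine ⟨0, isIntegral_zero, ?_⟩
      have hcop : Nat.Coprime (Module.finrank ℂ (Fin n → ℂ))
          (Subgroup.centralizer ({g} : Set G)).index := by
        rw [hclass]; exact (Nat.Prime.coprime_iff_not_dvd hp |>.mpr hd).symm.pow_right k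
      rcases CharBasic.burnside_zero_or_scalar ρ g hcop with h0 | habs
      · rw [← hχρ, h0]; ring
      exfalso
      obtain ⟨ω, hω⟩ := (CharBasic.norm_character_eq_iff ρ g).mp habs
      have hker : MonoidHom.ker ρ ≠ ⊤ := by
        intro htop
        refine (Finset.mem_erase.mp hχ).1 (Subtype.ext ?_)
        have hconst : ∀ x, (χ : G → ℂ) x = (χ : G → ℂ) 1 := fun x => by
          have hx : ρ x = ρ 1 := by
            rw [map_one]; exact MonoidHom.mem_ker.mp (htop ▸ Subgroup.mem_top x)
          rw [← hχρ]; simp only [Representation.character, hx]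
        have ho := CharBasic.classInner_irr χ.2 one.2
        split_ifs at ho with h
        · exact h
        · exfalso
          rw [CharBasic.classInner_def] at ho
          simp only [one, map_one, mul_one, hconst, Finset.sum_const, Finset.card_univ,
            nsmul_eq_mul, ← Nat.card_eq_fintype_card] at ho
          rw [← mul_assoc, inv_mul_cancel₀ (by exact_mod_cast Nat.card_pos.ne'), one_mul] at ho
          exact CharBasic.IsIrr.one_ne_zero χ.2 ho
      have hbot := (IsSimpleGroup.eq_bot_or_eq_top_of_normal (MonoidHom.ker ρ) inferInstance).resolve_right hker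
      have hgc : g ∈ Subgroup.center G := by
        rw [Subgroup.mem_center_iff]
        intro x
        apply (MonoidHom.ker_eq_bot_iff ρ).mp hbot
        rw [map_mul, map_mul, hω]
        ext v
        simp
      rw [hZ, Subgroup.mem_bot] at hgc
      exact hg hgc
  choose z hz hzeq using hterm
  have hsum := CharBasic.sum_degree_mul_apply (G := G) g
  rw [if_neg hg, ← Finset.add_sum_erase _ _ (Finset.mem_univ one),
    ← Finset.sum_attach (Finset.univ.erase one),
    Finset.sum_congr rfl fun x _ => hzeq x.1 x.2, ← Finset.mul_sum] at hsum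
  have hI : IsIntegral ℤ (∑ x ∈ (Finset.univ.erase one).attach, z x.1 x.2) :=
    IsIntegral.sum _ fun x _ => hz _ _
  set S := ∑ x ∈ (Finset.univ.erase one).attach, z x.1 x.2
  simp only [one, mul_one] at hsum
  have hp0 : (p : ℚ) ≠ 0 := by exact_mod_cast hp.ne_zero
  have hS : S = algebraMap ℚ ℂ (-1 / p) := by
    rw [map_div₀, map_neg, map_one, map_natCast, eq_div_iff (by exact_mod_cast hp.ne_zero)]
    linear_combination hsum
  rw [hS, isIntegral_algebraMap_iff (algebraMap ℚ ℂ).injective] at hI
  obtain ⟨w, hw⟩ := IsIntegrallyClosed.isIntegral_iff.mp hI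
  rw [eq_div_iff hp0] at hw
  have hw' : w * (p : ℤ) = -1 := by
    have hw2 : (w : ℚ) * (p : ℚ) = -1 := by simpa using hw
    exact_mod_cast hw2
  exact hp.ne_one (Nat.dvd_one.mp (Int.natCast_dvd_natCast.mp ⟨-w, by push_cast; linarith⟩))

end Cfsg.Agent.S0143
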