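import Cfsg.Statements.S0144
import Cfsg.Agent.S0143
import Mathlib.GroupTheory.Nilpotent

set_option autoImplicit false
open Cfsg

namespace Cfsg.Agent.S0144

universe u

/-- Burnside's theorem, by induction on the order. -/
theorem burnside (p q : ℕ) (hp : p.Prime) (hq : q.Prime) :
    ∀ (m : ℕ) (G : Type u) [Group G] [Finite G], Nat.card G ≤ m →
      ∀ a b : ℕ, Nat.card G = p ^ a * q ^ b → Group.IsSolvable G := by
  intro m
  induction m with
  | zero =>
    intro G _ _ hm a b _
    exact absurd hm (by simp [Nat.card_pos.ne'])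
  | succ m ih =>
    intro G _ _ hm a b hcard
    rcases subsingleton_or_nontrivial G with hs | hnt
    · exact Group.isSolvable_of_comm fun x y => Subsingleton.elim _ _
    have hdvd : ∀ d, d ∣ Nat.card G → ∃ a' b', d = p ^ a' * q ^ b' := by
      intro d hd
      rw [hcard] at hd
      obtain ⟨d1, d2, h1, h2, rfl⟩ := exists_dvd_and_dvd_of_dvd_mul hd
      obtain ⟨a', -, rfl⟩ := (Nat.dvd_prime_pow hp).mp h1
      obtain ⟨b', -, rfl⟩ := (Nat.dvd_prime_pow hq).mp h2
      exact ⟨a', b', rfl⟩
    by_cases hnor : ∃ N : Subgroup G, N.Normal ∧ N ≠ ⊥ ∧ N ≠ ⊤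
    · obtain ⟨N, hN, hb, ht⟩ := hnor
      have h1 : Nat.card N < Nat.card G := by
        refine lt_of_le_of_ne (Subgroup.card_le_card_group N) fun he => ht ?_
        exact Subgroup.eq_top_of_card_eq N he
      have h2 : Nat.card (G ⧸ N) < Nat.card G := by
        have h3 := (Subgroup.one_lt_card_iff_ne_bot N).mpr hb
        rw [Subgroup.card_eq_card_quotient_mul_card_subgroup N]
        exact lt_mul_of_one_lt_right Nat.card_pos h3
      obtain ⟨a1, b1, e1⟩ := hdvd _ (Subgroup.card_subgroup_dvd_card N)
      obtain ⟨a2, b2, e2⟩ := hdvd _ (Subgroup.card_quotient_dvd_card N)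
      have := ih N (by omega) a1 b1 e1
      have := ih (G ⧸ N) (by omega) a2 b2 e2
      exact Group.isSolvable_of_ker_le_range N.subtype (QuotientGroup.mk' N)
        (by rw [QuotientGroup.ker_mk', Subgroup.range_subtype])
    have hsimple : IsSimpleGroup G := ⟨fun N hN => by
      by_contra h
      push Not at h
      exact hnor ⟨N, hN, h.1, h.2⟩⟩
    suffices hprime : (Nat.card G).Prime by
      have := Fact.mk hprime
      have : IsCyclic G := isCyclic_of_prime_card (p := Nat.card G) rfl
      let _ : CommGroup G := IsCyclic.commGroup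
      exact Group.isSolvable_of_comm mul_comm
    rcases Nat.eq_zero_or_pos a with rfl | ha
    · have := Fact.mk hq
      have hpg : IsPGroup q G := IsPGroup.of_card (by rw [hcard, pow_zero, one_mul])
      obtain ⟨z, hz⟩ := Subgroup.ne_bot_iff_exists_ne_one.1 (ne_of_gt hpg.bot_lt_center)
      refine Cfsg.Agent.S0143.result q 0 hq z.1 (fun h => hz (Subtype.ext h)) ?_
      rw [pow_zero, Subgroup.index_eq_one, eq_top_iff]
      intro x _
      exact Subgroup.mem_centralizer_singleton_iff.mpr (Subgroup.mem_center_iff.mp z.2 x)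
    · have := Fact.mk hp
      let P : Sylow p G := default
      have hne : (P : Subgroup G) ≠ ⊥ :=
        P.ne_bot_of_dvd_card (hcard ▸ (dvd_pow_self p ha.ne').mul_right _)
      have : Nontrivial (P : Subgroup G) := (P : Subgroup G).nontrivial_iff_ne_bot.mpr hne
      obtain ⟨z, hz⟩ := Subgroup.ne_bot_iff_exists_ne_one.1 (ne_of_gt P.isPGroup'.bot_lt_center)
      let g : G := ((z : (P : Subgroup G)) : G)
      have hg : g ≠ 1 := fun h => hz (Subtype.ext (Subtype.ext h))
      have hle : (P : Subgroup G) ≤ Subgroup.centralizer ({g} : Set G) := fun x hx =>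
        Subgroup.mem_centralizer_singleton_iff.mpr
          (congrArg Subtype.val (Subgroup.mem_center_iff.mp z.2 ⟨x, hx⟩))
      have hd := Subgroup.index_dvd_of_le hle
      by_cases hpq : p = q
      · subst hpq
        obtain ⟨a', b', e⟩ := hdvd _ ((Subgroup.centralizer ({g} : Set G)).index_dvd_card)
        exact Cfsg.Agent.S0143.result p (a' + b') hp g hg (by rw [e, pow_add])
      · obtain ⟨a', b', e⟩ := hdvd _ ((Subgroup.centralizer ({g} : Set G)).index_dvd_card)
        have ha' : a' = 0 := by
          by_contra h0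
          exact P.not_dvd_index ((e ▸ (dvd_pow_self p h0).mul_right _ :
            p ∣ (Subgroup.centralizer ({g} : Set G)).index).trans hd)
        exact Cfsg.Agent.S0143.result q b' hq g hg (by rw [e, ha', pow_zero, one_mul])


/-- The Burnside two-prime Theorem: a finite group of order p ^ a * q ^ b, for primes p and q, is solvable. -/
theorem result {G : Type*} [Group G] [Finite G] (p q a b : ℕ) (hp : p.Prime) (hq : q.Prime) (hcard : Nat.card G = p ^ a * q ^ b) : Group.IsSolvable G := by
  exact burnside p q hp hq _ G le_rfl a b hcard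

end Cfsg.Agent.S0144
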