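import Cfsg.Statements.S4655
import Cfsg.Agent.H82.BrauerPairs
import Mathlib.GroupTheory.Nilpotent

set_option autoImplicit false
open Cfsg

namespace Cfsg.Agent.S4655

open Cfsg.Agent Cfsg.Agent.BlockBasic


theorem existsUnique_below {G : Type*} [Group G] [Finite G] {p : ℕ} [Fact p.Prime]
    {M : Ideal Cfsg.AlgInt} (hM : Cfsg.IsPModular p M) {P : Subgroup G}
    {e : Set (Cfsg.IrrCharacter (Subgroup.centralizer (P : Set G)))}
    (hPe : Cfsg.IsBrauerPair p M P e) (Q : Subgroup G) (hQP : Q ≤ P) :
    ∃! f : Set (Cfsg.IrrCharacter (Subgroup.centralizer (Q : Set G))),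
      Cfsg.IsPBlock M f ∧ Cfsg.SubpairLE p M Q f P e := by
  induction Q using WellFoundedGT.induction generalizing P e with
  | _ Q ih =>
    rcases hQP.eq_or_lt with rfl | hlt
    · refine ⟨e, ⟨hPe.2, Relation.ReflTransGen.refl⟩, fun f ⟨_, hle⟩ => ?_⟩
      -- every step of such a chain stays at the same subgroup
      suffices ∀ b : Cfsg.BrauerPairIdx G,
          Relation.ReflTransGen (Cfsg.NormalSubpairRel p M) ⟨Q, f⟩ b → b.1 = Q →
            b = ⟨Q, f⟩ from (eq_of_heq (Sigma.mk.inj_iff.mp (this ⟨Q, e⟩ hle rfl)).2).symm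
      intro b hb
      induction hb with
      | refl => exact fun _ => rfl
      | @tail b c hab hs ih' =>
        intro hc
        have hb : b.1 = Q := le_antisymm (hs.2.2.1.trans hc.le)
          (H82.le_of_subpairLE (p := p) (M := M) hab)
        obtain ⟨R, g⟩ := c
        have hbb := ih' hb
        subst hbb
        obtain rfl : R = Q := hc
        obtain ⟨ξ, hξ⟩ := isPBlock_nonempty hM hs.2.1.2
        have h1 := H82.brOmega_blockUp_of_isNormalSubpair hs hξ
        classical
        cases nonempty_fintype (Subgroup.centralizer (R : Set G))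
        have hbr : H82.br R (H82.blockUp (Subgroup.centralizer (R : Set G)) f) = blockElem f :=
          MonoidAlgebra.coeff_injective (Finsupp.ext fun c => by
            rw [H82.coeff_br, H82.coeff_blockUp_of_mem, coeff_blockElem])
        rw [H82.brOmega_eq, hbr, omega_blockElem] at h1
        split_ifs at h1 with hmem
        · rw [show f = g from isPBlock_eq_of_mem hM hs.1.2 hs.2.1.2 hmem hξ]
        · exact absurd (by simpa using memLocalIdeal_neg h1) (not_memLocalIdeal_one hM)
    · set N := P ⊓ Subgroup.normalizer (Q : Set G) with hN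
      have hQN : Q < N := by
        refine lt_of_le_of_ne (le_inf hlt.le Subgroup.le_normalizer) fun heq => ?_
        have hQsub : Q.subgroupOf P < ⊤ := lt_top_iff_ne_top.mpr fun h =>
          hlt.ne (le_antisymm hlt.le (Subgroup.subgroupOf_eq_top.mp h))
        haveI := hPe.1.isNilpotent
        obtain ⟨x, hxn, hx⟩ := SetLike.exists_of_lt
          (Group.normalizerCondition_of_isNilpotent (G := P) _ hQsub)
        refine hx (heq ▸ ⟨x.2, Subgroup.mem_normalizer_iff.mpr fun g => ?_⟩ : (x : G) ∈ Q)
        constructor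
        · intro hg
          have := (Subgroup.mem_normalizer_iff.mp hxn ⟨g, hlt.le hg⟩).mp hg
          exact this
        · intro hg
          have hgP : g ∈ P := by
            have := P.mul_mem (P.mul_mem (P.inv_mem x.2) (hlt.le hg)) x.2
            simpa [mul_assoc] using this
          exact (Subgroup.mem_normalizer_iff.mp hxn ⟨g, hgP⟩).mpr hg
      obtain ⟨h, ⟨hh, hNh⟩, -⟩ := ih N hQN hPe inf_le_left
      have hNbp : Cfsg.IsBrauerPair p M N h := ⟨hPe.1.to_le inf_le_left, hh⟩
      obtain ⟨f₀, hf₀, -⟩ := H82.existsUnique_isNormalSubpair hM hNbp hQN.le inf_le_right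
      refine ⟨f₀, ⟨hf₀.1.2, Relation.ReflTransGen.head
        (b := (⟨N, h⟩ : Cfsg.BrauerPairIdx G)) hf₀ hNh⟩, fun f ⟨_, hle⟩ => ?_⟩
      -- the first proper step of the chain
      suffices ∀ a : Cfsg.BrauerPairIdx G,
          Relation.ReflTransGen (Cfsg.NormalSubpairRel p M) a ⟨P, e⟩ → a.1 = Q →
            a = ⟨Q, f₀⟩ from eq_of_heq (Sigma.mk.inj_iff.mp (this ⟨Q, f⟩ hle rfl)).2
      intro a ha
      induction ha using Relation.ReflTransGen.head_induction_on with
      | refl => exact fun h => absurd h.symm hlt.ne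
      | @head a c hs hcb ih' =>
        intro haQ
        obtain ⟨Q', f'⟩ := a
        obtain ⟨R, g⟩ := c
        obtain rfl : Q' = Q := haQ
        rcases (hs.2.2.1 : Q' ≤ R).eq_or_lt with hQR | hQR
        · subst hQR
          have hc := ih' rfl
          rw [hc] at hs
          obtain ⟨ξ, hξ⟩ := isPBlock_nonempty hM hs.2.1.2
          have h1 := H82.brOmega_blockUp_of_isNormalSubpair hs hξ
          classical
          cases nonempty_fintype (Subgroup.centralizer (Q' : Set G))
          have hbr : H82.br Q' (H82.blockUp (Subgroup.centralizer (Q' : Set G)) f') = blockElem f' :=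
            MonoidAlgebra.coeff_injective (Finsupp.ext fun c => by
              rw [H82.coeff_br, H82.coeff_blockUp_of_mem, coeff_blockElem])
          rw [H82.brOmega_eq, hbr, omega_blockElem] at h1
          split_ifs at h1 with hmem
          · rw [show f' = f₀ from isPBlock_eq_of_mem hM hs.1.2 hs.2.1.2 hmem hξ]
          · exact absurd (by simpa using memLocalIdeal_neg h1) (not_memLocalIdeal_one hM)
        · have hRP : R ≤ P := H82.le_of_subpairLE (p := p) (M := M) hcb
          have hRN : R ≤ N := le_inf hRP hs.2.2.2.1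
          -- the pair at `R` below `(N, h)` agrees with `g`
          obtain ⟨g', ⟨hg', hgle⟩, -⟩ := ih R hQR hNbp hRN
          obtain ⟨g₁, -, huniq⟩ := ih R hQR hPe hRP
          obtain rfl : g = g' := (huniq g ⟨hs.2.1.2, hcb⟩).trans
            (huniq g' ⟨hg', hgle.trans hNh⟩).symm
          have hst : ∀ x ∈ R, Cfsg.StabilizesBlock (Subgroup.centralizer (Q' : Set G)) f₀ x :=
            fun x hx => hf₀.2.2.2.2.1 x (hRN hx)
          have hnew : Cfsg.IsNormalSubpair p M Q' f₀ R g := by
            refine ⟨hf₀.1, hs.2.1, hQR.le, hs.2.2.2.1, hst, fun ξ hξ => ?_⟩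
            obtain ⟨ζ, hζ⟩ := isPBlock_nonempty hM hh
            have h1 := H82.brOmega_congr_of_subpairLE hM hgle hNbp hζ hξ
              (H82.isInvElt_blockUp_of_stabilizes hM hf₀.1.2 hf₀.2.2.2.2.1)
              (H82.isInvElt_blockUp_centralizer hQR.le f₀) (H82.isIntElt_blockUp hM hf₀.1.2)
            have h2 := memLocalIdeal_sub hM (H82.brOmega_blockUp_of_isNormalSubpair hf₀ hζ) h1
            rw [sub_sub_sub_cancel_left, H82.brOmega,
              funext (H82.coeff_blockUp (Subgroup.centralizer (Q' : Set G)) f₀)] at h2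
            exact h2
          rw [show f' = f₀ from
            (H82.existsUnique_isNormalSubpair hM hs.2.1 hQR.le hs.2.2.2.1).unique hs hnew]

/-- Fix a prime p and a maximal ideal M of the algebraic integers containing p. Let (P, e) be a Brauer pair of the finite group G (P a p-subgroup, e a p-block of C_G(P)) and Q a subgroup of P. Then there is exactly one p-block f of C_G(Q) such that the Brauer pair (Q, f) lies below (P, e). -/
theorem result {G : Type*} [Group G] [Fintype G] (p : ℕ) [Fact p.Prime] (M : Ideal Cfsg.AlgInt) (hM : Cfsg.IsPModular p M) (P Q : Subgroup G) (e : Set (Cfsg.IrrCharacter (Subgroup.centralizer (P : Set G)))) (hPe : Cfsg.IsBrauerPair p M P e) (hQP : Q ≤ P) : ∃! f : Set (Cfsg.IrrCharacter (Subgroup.centralizer (Q : Set G))), Cfsg.IsPBlock M f ∧ Cfsg.SubpairLE p M Q f P e := by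
  exact existsUnique_below hM hPe Q hQP

end Cfsg.Agent.S4655
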