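import Cfsg.Statements.S0969
import Cfsg.Agent.H35.BlockInduction
import Cfsg.Agent.H83.RegSum
import Cfsg.Agent.CharInduce.Ops
-- import your own Cfsg.Agent.* helpers here

set_option autoImplicit false
open Cfsg Cfsg.Agent.H35 Cfsg.Agent.BlockBasic
open scoped ComplexConjugate

namespace Cfsg.Agent.S0969

open Cfsg.Agent

/-- A central element scales an irreducible character by a complex number of norm one. -/
theorem exists_scalar {G : Type*} [Group G] [Finite G] (χ : IrrCharacter G) {u : G}
    (hu : u ∈ Subgroup.center G) :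
    ∃ c : ℂ, ‖c‖ = 1 ∧ ∀ g, (χ : G → ℂ) (u * g) = c * (χ : G → ℂ) g := by
  cases nonempty_fintype G
  obtain ⟨n, ρ, hρ, he⟩ := χ.2
  obtain ⟨c, hc⟩ := CharBasic.schur_scalar ρ (ρ u) fun g => by
    rw [← map_mul, ← map_mul, Subgroup.mem_center_iff.1 hu g]
  have hmul : ∀ g, (χ : G → ℂ) (u * g) = c * (χ : G → ℂ) g := fun g => by
    rw [← he]
    simp only [Representation.character, map_mul, hc, smul_mul_assoc, map_smul, smul_eq_mul]
    rfl
  refine ⟨c, Complex.norm_eq_one_of_pow_eq_one ?_ (orderOf_pos u).ne', hmul⟩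
  have hpow : ∀ k : ℕ, (χ : G → ℂ) (u ^ k) = c ^ k * (χ : G → ℂ) 1 := by
    intro k
    induction k with
    | zero => simp
    | succ k ih => rw [pow_succ', hmul, ih]; ring
  have := hpow (orderOf u)
  rw [pow_orderOf_eq_one] at this
  exact (mul_eq_right₀ (irr_one_ne_zero χ.2)).1 this.symm

/-- A character sum over the `p`-regular elements against another one is divisible by the degree. -/
theorem exists_integral_regular_sum {G : Type*} [Group G] [Fintype G] (p : ℕ)
    (χ ψ : IrrCharacter G) [DecidablePred fun s : G => IsPRegular p s] :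
    ∃ J : ℂ, IsIntegral ℤ J ∧
      ∑ s : G with IsPRegular p s, (χ : G → ℂ) s * conj ((ψ : G → ℂ) s) = (χ : G → ℂ) 1 * J ∧
      J = omega (χ : G → ℂ) (ofFun fun g => if IsPRegular p g then conj ((ψ : G → ℂ) g) else 0) := by
  classical
  haveI : Finite (ConjClasses G) := Finite.of_surjective _ ConjClasses.mk_surjective
  haveI : Fintype (ConjClasses G) := Fintype.ofFinite _
  set z : MonoidAlgebra ℂ G :=
    ofFun fun g => if IsPRegular p g then conj ((ψ : G → ℂ) g) else 0 with hz
  have hzc : IsCentralElt z := isCentralElt_ofFun fun g h => by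
    have hord : orderOf (h * g * h⁻¹) = orderOf g := (MulAut.conj h).orderOf_eq g
    by_cases hh : p ∣ orderOf g <;>
      simp [IsPRegular, hord, hh, CharBasic.IsIrr.isClassFunction ψ.2 g h]
  refine ⟨omega (χ : G → ℂ) z, ?_, ?_, rfl⟩
  · rw [omega_eq_sum_classes (CharBasic.IsIrr.isClassFunction χ.2) hzc]
    refine IsIntegral.sum _ fun C _ => IsIntegral.mul ?_ (isIntegral_centralChar χ.2 _)
    simp only [hz, coeff_ofFun]
    split_ifs
    · exact isIntegral_conj_apply ψ _
    · exact isIntegral_zero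
  · rw [omega, mul_div_cancel₀ _ (irr_one_ne_zero χ.2), chiLin, Finset.sum_filter]
    refine Finset.sum_congr rfl fun s _ => ?_
    simp only [hz, coeff_ofFun]
    split_ifs <;> ring

/-- Let D be a central p-subgroup of the finite group G and χ an irreducible character with the exponent of p in χ(1) equal to the exponent of p in the index of D; fix a maximal ideal M of the algebraic integers containing p. Then D is a defect group of the block of χ, and χ g = 0 whenever the p-part of g does not lie in D. -/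
theorem result {G : Type*} [Group G] [Finite G] (p : ℕ) [Fact p.Prime] (M : Ideal Cfsg.AlgInt) (hM : Cfsg.IsPModular p M) (D : Subgroup G) (hD : IsPGroup p D) (hDZ : D ≤ Subgroup.center G) (χ : Cfsg.IrrCharacter G) (hdeg : (Cfsg.charDegree (χ : G → ℂ)).factorization p = D.index.factorization p) : Cfsg.IsDefectGroup p M (Cfsg.blockOf M (χ : G → ℂ)) D ∧ ∀ g x : G, Cfsg.IsPPart p g x → x ∉ D → (χ : G → ℂ) g = 0 := by
  classical
  cases nonempty_fintype G
  have hp : p.Prime := Fact.out
  haveI hDn : D.Normal := ⟨fun n hn g => by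
    rw [Subgroup.mem_center_iff.1 (hDZ hn) g, mul_inv_cancel_right]; exact hn⟩
  set v := (Nat.card G).factorization p with hv
  set m := Nat.card G / p ^ v with hm
  set e := D.index.factorization p with he
  obtain ⟨d, hd⟩ := hD.exists_card_eq
  have hDI : Nat.card D * D.index = Nat.card G := D.card_mul_index
  have hidx0 : D.index ≠ 0 := Subgroup.index_ne_zero_of_finite
  have hvde : v = d + e := by
    rw [hv, ← hDI, hd, Nat.factorization_mul (pow_ne_zero _ hp.ne_zero) hidx0,
      hp.factorization_pow]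
    simp [he]
  have hpm : ¬ p ∣ m := Nat.not_dvd_ordCompl hp Nat.card_pos.ne'
  have hGm : Nat.card G = p ^ v * m := (Nat.ordProj_mul_ordCompl_eq_self _ p).symm
  have hidx : D.index = p ^ e * m := by
    apply Nat.eq_of_mul_eq_mul_left (Nat.card_pos (α := D))
    rw [hDI, hd, hGm, hvde, pow_add, mul_assoc]
  -- the sum over the regular elements
  set R : Finset G := Finset.univ.filter fun s : G => IsPRegular p s with hR
  set T : ℝ := ∑ s ∈ R, Complex.normSq ((χ : G → ℂ) s) with hT
  have hTC : (T : ℂ) = ∑ s : G with IsPRegular p s, (χ : G → ℂ) s * conj ((χ : G → ℂ) s) := by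
    rw [hT, Complex.ofReal_sum]
    exact Finset.sum_congr rfl fun s _ => Complex.normSq_eq_conj_mul_self.trans (mul_comm _ _)
  obtain ⟨n, hn⟩ := H83.sum_pRegular_dvd (p := p)
    (φ := fun s => (χ : G → ℂ) s * conj ((χ : G → ℂ) s))
    (CharInduce.IsChar.mul (CharBasic.IsIrr.isCharacter χ.2)
      (CharInduce.IsChar.conj (CharBasic.IsIrr.isCharacter χ.2)))
  have hTn : (T : ℂ) = (n : ℂ) * (m : ℂ) := hTC.trans hn
  have hTn' : T = (n : ℝ) * (m : ℝ) := by exact_mod_cast hTn
  obtain ⟨J, hJ, hTJ, hJω⟩ := exists_integral_regular_sum p χ χ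
  have hdegne : ((charDegree (χ : G → ℂ) : ℕ) : ℂ) ≠ 0 :=
    Nat.cast_ne_zero.2 (charDegree_pos χ).ne'
  have hdvd : (charDegree (χ : G → ℂ) : ℤ) ∣ n * (m : ℤ) := by
    refine dvd_of_isIntegral_div (by exact_mod_cast (charDegree_pos χ).ne') ?_
    have h1 : ((n * (m : ℤ) : ℤ) : ℂ) = (χ : G → ℂ) 1 * J := by
      rw [← hTJ, ← hTC, hTn]; push_cast; rfl
    rw [h1, apply_one_eq_charDegree, Int.cast_natCast, mul_div_cancel_left₀ _ hdegne]
    exact hJ
  have hpe : ((p ^ e : ℕ) : ℤ) ∣ n := by
    have h1 : p ^ e ∣ charDegree (χ : G → ℂ) := hdeg ▸ Nat.ordProj_dvd _ p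
    have h2 : p ^ e ∣ n.natAbs * m := by
      have := Int.natAbs_dvd_natAbs.2 ((Int.natCast_dvd_natCast.2 h1).trans hdvd)
      simpa [Int.natAbs_mul, Int.natAbs_pow] using this
    rw [Int.natCast_dvd]
    exact (((hp.coprime_iff_not_dvd).2 hpm).pow_left e).dvd_of_dvd_mul_right h2
  have h1R : (1 : G) ∈ R := Finset.mem_filter.2 ⟨Finset.mem_univ _, by
    show ¬ p ∣ orderOf (1 : G)
    rw [orderOf_one, Nat.dvd_one]
    exact hp.ne_one⟩
  have hTpos : 0 < T := lt_of_lt_of_le (Complex.normSq_pos.2 (irr_one_ne_zero χ.2))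
    (Finset.single_le_sum (f := fun s => Complex.normSq ((χ : G → ℂ) s))
      (fun s _ => Complex.normSq_nonneg _) h1R)
  have hnpos : 0 < n := by
    by_contra h
    have h' : (n : ℝ) ≤ 0 := by exact_mod_cast not_lt.1 h
    rw [hTn'] at hTpos
    nlinarith [(Nat.cast_nonneg m : (0 : ℝ) ≤ (m : ℝ))]
  have hTge : ((D.index : ℕ) : ℝ) ≤ T := by
    rw [hTn', hidx]
    push_cast
    refine mul_le_mul_of_nonneg_right ?_ (Nat.cast_nonneg m)
    exact_mod_cast Int.le_of_dvd hnpos hpe
  -- the elements with `p`-part in `D`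
  set S : Finset G := Finset.univ.filter fun g : G => pPart (p := p) g ∈ D with hS
  have hnorm : ∀ u : D, ∀ g : G,
      Complex.normSq ((χ : G → ℂ) ((u : G) * g)) = Complex.normSq ((χ : G → ℂ) g) := fun u g => by
    obtain ⟨c, hc, hcg⟩ := exists_scalar χ (hDZ u.2)
    rw [hcg, map_mul, Complex.normSq_eq_norm_sq c, hc, one_pow, one_mul]
  have hDpow : ∀ u : D, ∃ k, orderOf (u : G) = p ^ k := fun u => by
    obtain ⟨k, hk⟩ := IsPGroup.iff_orderOf.1 hD u
    exact ⟨k, by rw [Subgroup.orderOf_coe, hk]⟩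
  have hcomm : ∀ (u : D) (g : G), Commute (u : G) g := fun u g =>
    (Subgroup.mem_center_iff.1 (hDZ u.2) g).symm
  have hsumS : ∑ g ∈ S, Complex.normSq ((χ : G → ℂ) g) = (Nat.card D : ℝ) * T := by
    have h1 : ∑ x ∈ (Finset.univ : Finset D) ×ˢ R,
        Complex.normSq ((χ : G → ℂ) ((x.1 : G) * x.2)) = (Nat.card D : ℝ) * T := by
      rw [Finset.sum_product]
      simp only [hnorm, Finset.sum_const, Finset.card_univ, ← Nat.card_eq_fintype_card,
        nsmul_eq_mul, hT]
    rw [← h1]
    refine (Finset.sum_bij (fun x _ => (x.1 : G) * x.2) ?_ ?_ ?_ fun _ _ => rfl).symm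
    · intro x hx
      simp only [hS, Finset.mem_filter, Finset.mem_univ, true_and]
      rw [pPart_mul_of (hcomm x.1 x.2) (hDpow x.1) (Finset.mem_filter.1 (Finset.mem_product.1 hx).2).2]
      exact x.1.2
    · intro x hx y hy hxy
      have ex := pPart_mul_of (hcomm x.1 x.2) (hDpow x.1)
        (Finset.mem_filter.1 (Finset.mem_product.1 hx).2).2
      have ey := pPart_mul_of (hcomm y.1 y.2) (hDpow y.1)
        (Finset.mem_filter.1 (Finset.mem_product.1 hy).2).2
      have h : (x.1 : G) = y.1 := by rw [← ex, ← ey, hxy]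
      refine Prod.ext (Subtype.ext h) ?_
      have h2 : (x.1 : G) * x.2 = (y.1 : G) * y.2 := hxy
      rw [h] at h2
      exact mul_left_cancel h2
    · intro g hg
      refine ⟨(⟨pPart (p := p) g, (Finset.mem_filter.1 hg).2⟩, pReg (p := p) g), ?_, pPart_mul_pReg g⟩
      exact Finset.mem_product.2 ⟨Finset.mem_univ _,
        Finset.mem_filter.2 ⟨Finset.mem_univ _, not_dvd_orderOf_pReg g⟩⟩
  have hall : ∑ g : G, Complex.normSq ((χ : G → ℂ) g) = (Nat.card G : ℝ) := by
    have h1 := CharBasic.classInner_irr_self χ.2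
    rw [CharBasic.classInner_def, inv_mul_eq_iff_eq_mul₀ (Nat.cast_ne_zero.2 Nat.card_pos.ne'),
      mul_one] at h1
    have h2 : ((∑ g : G, Complex.normSq ((χ : G → ℂ) g) : ℝ) : ℂ) = ((Nat.card G : ℝ) : ℂ) := by
      rw [Complex.ofReal_natCast, ← h1, Complex.ofReal_sum]
      exact Finset.sum_congr rfl fun s _ => Complex.normSq_eq_conj_mul_self.trans (mul_comm _ _)
    exact_mod_cast h2
  have hle : (Nat.card D : ℝ) * T ≤ (Nat.card G : ℝ) := by
    rw [← hsumS, ← hall]
    exact Finset.sum_le_sum_of_subset_of_nonneg (Finset.subset_univ S)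
      fun g _ _ => Complex.normSq_nonneg _
  have hDT : (Nat.card G : ℝ) ≤ (Nat.card D : ℝ) * T := by
    rw [← hDI]
    push_cast
    exact mul_le_mul_of_nonneg_left hTge (Nat.cast_nonneg _)
  have hTeq : T = ((D.index : ℕ) : ℝ) := by
    have h1 : (Nat.card D : ℝ) * T = (Nat.card D : ℝ) * (D.index : ℝ) := by
      rw [le_antisymm hle hDT, ← hDI]; push_cast; rfl
    exact mul_left_cancel₀ (Nat.cast_ne_zero.2 Nat.card_pos.ne') h1
  have hrest : ∀ g : G, pPart (p := p) g ∉ D → (χ : G → ℂ) g = 0 := by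
    intro g hg
    have h1 := Finset.sum_add_sum_compl S fun g => Complex.normSq ((χ : G → ℂ) g)
    rw [hsumS, hall, le_antisymm hle hDT, add_eq_left] at h1
    have h2 := (Finset.sum_eq_zero_iff_of_nonneg fun x _ => Complex.normSq_nonneg _).1 h1 g
      (by simp [hS, hg])
    exact Complex.normSq_eq_zero.1 h2
  refine ⟨?_, fun g x hx hxD => hrest g (by rwa [pPart_eq_of_isPPart hx])⟩
  -- the defect of the block
  set B := blockOf M (χ : G → ℂ)
  have hB : IsPBlock M B := isPBlock_blockOf M χ
  have hχB : χ ∈ B := self_mem_blockOf hM χ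
  have hdeg' : e = (charDegree (χ : G → ℂ)).factorization p := hdeg.symm
  have hJne : ¬ MemLocalIdeal M J := by
    intro hJm
    have h1 : ((D.index : ℕ) : ℂ) = (χ : G → ℂ) 1 * J := by
      rw [← hTJ, ← hTC, hTeq]; norm_cast
    set c := charDegree (χ : G → ℂ) / p ^ e
    have hc : charDegree (χ : G → ℂ) = p ^ e * c := by
      simp only [c, hdeg']; exact (Nat.ordProj_mul_ordCompl_eq_self _ p).symm
    rw [apply_one_eq_charDegree, hc, hidx] at h1
    push_cast at h1
    rw [mul_assoc] at h1
    have h2 := mul_left_cancel₀ (pow_ne_zero e (Nat.cast_ne_zero.2 hp.ne_zero)) h1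
    have h3 := memLocalIdeal_mul hM (memLocalRing_natCast hM c) hJm
    rw [← h2, memLocalIdeal_natCast_iff hM] at h3
    exact hpm h3
  have hge : ∀ ψ ∈ B, e ≤ (charDegree (ψ : G → ℂ)).factorization p := by
    intro ψ hψ
    by_contra hlt
    apply hJne
    obtain ⟨J', hJ', hχψ, -⟩ := exists_integral_regular_sum p χ ψ
    obtain ⟨K, -, hψχ, hKω⟩ := exists_integral_regular_sum p ψ χ
    have hzc : IsCentralElt (ofFun fun g : G => if IsPRegular p g then conj ((χ : G → ℂ) g) else 0) :=
      isCentralElt_ofFun fun g h => by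
        have hord : orderOf (h * g * h⁻¹) = orderOf g := (MulAut.conj h).orderOf_eq g
        by_cases hh : p ∣ orderOf g <;>
          simp [IsPRegular, hord, hh, CharBasic.IsIrr.isClassFunction χ.2 g h]
    have hzi : IsIntElt M (ofFun fun g : G => if IsPRegular p g then conj ((χ : G → ℂ) g) else 0) := by
      intro g
      rw [coeff_ofFun]
      split_ifs
      · exact memLocalRing_of_isIntegral hM (isIntegral_conj_apply χ g)
      · exact (locRing hM).zero_mem
    have h1 := omega_congr hM (CharBasic.IsIrr.isClassFunction χ.2)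
      (CharBasic.IsIrr.isClassFunction ψ.2) hψ hzc hzi
    rw [← hJω, ← hKω] at h1
    have hK : MemLocalIdeal M K := by
      have hcomm' : (ψ : G → ℂ) 1 * K = (χ : G → ℂ) 1 * conj J' := by
        have h2 := congrArg conj hχψ
        rw [map_sum, map_mul, apply_one_eq_charDegree χ, Complex.conj_natCast] at h2
        rw [← hψχ, apply_one_eq_charDegree χ, ← h2]
        exact Finset.sum_congr rfl fun s _ => by rw [map_mul, Complex.conj_conj, mul_comm]
      rw [apply_one_eq_charDegree, apply_one_eq_charDegree] at hcomm'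
      have hK' : K = (charDegree (χ : G → ℂ) : ℂ) * conj J' / (charDegree (ψ : G → ℂ) : ℂ) := by
        rw [← hcomm', mul_div_cancel_left₀ _ (Nat.cast_ne_zero.2 (charDegree_pos ψ).ne')]
      rw [hK']
      refine memLocalIdeal_natCast_div hM (charDegree_pos χ).ne' (charDegree_pos ψ).ne'
        (by omega) (memLocalRing_of_isIntegral hM ?_)
      exact hJ'.map (starRingEnd ℂ).toIntAlgHom
    simpa using memLocalIdeal_add hM h1 hK
  have hdefect : blockDefect p B = d := by
    have hinf : sInf ((fun χ : IrrCharacter G => (charDegree (χ : G → ℂ)).factorization p) '' B) = e := by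
      refine le_antisymm (Nat.sInf_le ⟨χ, hχB, hdeg'.symm⟩) (le_csInf ⟨_, χ, hχB, rfl⟩ ?_)
      rintro _ ⟨ψ, hψ, rfl⟩
      exact hge ψ hψ
    rw [blockDefect, hinf]
    omega
  obtain ⟨g, hg⟩ := exists_isDefectClass hM hB
  have hE : IsDefectGroup p M B (sylImage (default : Sylow p (Subgroup.centralizer ({g} : Set G)))) :=
    ⟨g, hg, default, rfl⟩
  have hDE := le_defectGroup_of_normal hM hB hE D hD
  rw [Subgroup.eq_of_le_of_card_ge hDE (by rw [card_defectGroup hM hB hE, hdefect, hd])]
  exact hE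

end Cfsg.Agent.S0969
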