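import Cfsg.Statements.S4657
import Cfsg.Agent.H82.BrauerPairs

set_option autoImplicit false
open Cfsg

namespace Cfsg.Agent.S4657

open Cfsg.Agent Cfsg.Agent.BlockBasic


/-- Fix a prime p and a maximal ideal M of the algebraic integers containing p. Every Brauer pair (P, e) of the finite group G is a Brauer pair of exactly one p-block B of G. -/
theorem result {G : Type*} [Group G] [Fintype G] (p : ℕ) [Fact p.Prime] (M : Ideal Cfsg.AlgInt) (hM : Cfsg.IsPModular p M) (P : Subgroup G) (e : Set (Cfsg.IrrCharacter (Subgroup.centralizer (P : Set G)))) (hPe : Cfsg.IsBrauerPair p M P e) : ∃! B : Set (Cfsg.IrrCharacter G), Cfsg.IsBrauerPairOf p M B P e := by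
  classical
  obtain ⟨ξ, hξ⟩ := isPBlock_nonempty hM hPe.2
  cases nonempty_fintype {B : Set (Cfsg.IrrCharacter G) // Cfsg.IsPBlock M B}
  set F : Set (Cfsg.IrrCharacter G) → ℂ := fun B => H82.brOmega P (ξ : _ → ℂ) (blockElem B)
  have hc := fun B : Set (Cfsg.IrrCharacter G) => isCentralElt_blockElem B
  have hloc : ∀ B, Cfsg.IsPBlock M B → Cfsg.MemLocalRing M (F B) := fun B hB =>
    H82.memLocalRing_brOmega hM ξ.2 (H82.isInvElt_of_isCentralElt (hc B) _) (isIntElt_blockElem hM hB)
  have hmul : ∀ B B', Cfsg.IsPBlock M B → Cfsg.IsPBlock M B' →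
      Cfsg.MemLocalIdeal M (F (B ∩ B') - F B * F B') := by
    intro B B' hB hB'
    have := H82.brOmega_mul hM hPe.1 ξ.2 (isIntElt_blockElem hM hB) (isIntElt_blockElem hM hB')
      (H82.isInvElt_of_isCentralElt (hc B) _) (H82.isInvElt_of_isCentralElt (hc B') _)
      (H82.isInvElt_of_isCentralElt (hc B) _) (H82.isInvElt_of_isCentralElt (hc B') _)
    rwa [blockElem_mul] at this
  have hsum : ∑ B : {B : Set (Cfsg.IrrCharacter G) // Cfsg.IsPBlock M B}, F B.1 = 1 := by
    simp only [F]
    rw [← H82.brOmega_sum, H82.sum_blockElem hM, H82.brOmega_one ξ.2]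
  obtain ⟨⟨B, hB⟩, hne⟩ : ∃ B : {B : Set (Cfsg.IrrCharacter G) // Cfsg.IsPBlock M B},
      ¬ Cfsg.MemLocalIdeal M (F B.1) := by
    by_contra hcon
    simp only [not_exists, not_not] at hcon
    exact not_memLocalIdeal_one hM (hsum ▸ memLocalIdeal_sum hM _ _ fun B _ => hcon B)
  have hB1 : Cfsg.MemLocalIdeal M (F B - 1) := by
    have h1 := hmul B B hB hB
    rw [Set.inter_self] at h1
    have h2 : Cfsg.MemLocalIdeal M (F B * (F B - 1)) := by
      convert memLocalIdeal_neg h1 using 1
      ring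
    exact ((memLocalIdeal_mul_iff hM (hloc B hB)
      ((locRing hM).sub_mem (hloc B hB) (locRing hM).one_mem)).mp h2).resolve_left hne
  refine ⟨B, H82.isBrauerPairOf_of_mem hM hB hPe hξ hB1, fun B' hB' => ?_⟩
  by_contra hne'
  have hint : B' ∩ B = ∅ := by
    by_contra hi
    exact hne' (H82.isPBlock_eq_of_sameBlock hM hB'.2.1 hB (Set.nonempty_iff_ne_empty.mpr hi))
  have h1 := hmul B' B hB'.2.1 hB
  have h0 : F ∅ = 0 := by
    simp only [F, show blockElem (∅ : Set (Cfsg.IrrCharacter G)) = 0 from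
      MonoidAlgebra.coeff_injective (Finsupp.ext fun g => by
        simp [coeff_blockElem, Cfsg.blockCoeff]), H82.brOmega_zero]
  rw [hint, h0, zero_sub] at h1
  have h2 : Cfsg.MemLocalIdeal M (F B' - 1) := H82.brOmega_blockElem_of_isBrauerPairOf hB' hξ
  have h3 := memLocalIdeal_add hM (memLocalIdeal_mul hM (hloc B' hB'.2.1) hB1) h2
  have h4 := memLocalIdeal_sub hM (memLocalIdeal_neg h1) h3
  apply not_memLocalIdeal_one hM
  convert h4 using 1
  ring

end Cfsg.Agent.S4657
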