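import Cfsg.Statements.S0016
import Cfsg.Agent.PGroups.TwoGroups
-- import your own Cfsg.Agent.* helpers here

set_option autoImplicit false
open Cfsg

namespace Cfsg.Agent.S0016

open Subgroup

/-- A finite p-group in which only one subgroup has order p is either cyclic or (with p = 2) isomorphic to a generalized quaternion group. -/
theorem result {G : Type*} [Group G] [Finite G] (p : ℕ) [Fact p.Prime]
    (hG : IsPGroup p G) (huniq : ∀ H K : Subgroup G, Nat.card H = p → Nat.card K = p → H = K) :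
    IsCyclic G ∨ (p = 2 ∧ ∃ n : ℕ, Nonempty (G ≃* QuaternionGroup (2 ^ n))) := by
  by_cases hcyc : IsCyclic G
  · exact Or.inl hcyc
  right
  haveI : Nontrivial G := not_subsingleton_iff_nontrivial.mp fun _ => hcyc inferInstance
  obtain ⟨x, -, hx⟩ := PGroups.exists_orderOf_eq hG (H := ⊤) top_ne_bot
  have hx' : Nat.card (zpowers x) = p := by rw [Nat.card_zpowers, hx]
  have hW : ∀ a : G, a ^ p = 1 → a ∈ zpowers x := by
    intro a ha
    by_cases ha1 : a = 1
    · exact ha1 ▸ one_mem _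
    · rw [← huniq (zpowers a) (zpowers x) (by rw [Nat.card_zpowers, orderOf_eq_prime ha ha1]) hx']
      exact mem_zpowers a
  have hcy : ∀ A : Subgroup G, IsMulCommutative A → IsCyclic A := fun A hA =>
    PGroups.isCyclic_of_small_omega hG hA (zpowers x) (fun a _ ha => hW a ha) hx'.le
  have hp2 : p = 2 := by
    by_contra hp
    obtain ⟨A, -, hA, hAe, hAc⟩ := PGroups.exists_normal_elementary_sq hG hp hcyc
    have := Subgroup.card_le_of_le (fun a ha => hW a (hAe a ha) : A ≤ zpowers x)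
    rw [hAc, hx', sq] at this
    nlinarith [(Fact.out : p.Prime).two_le]
  subst hp2
  refine ⟨rfl, ?_⟩
  obtain ⟨k, c, y, hc, hcard, hy, h⟩ :=
    PGroups.structure_of_normal_abelian_cyclic hG hcyc fun A _ hA => hcy A hA
  have hnosq : y ^ 2 ≠ 1 := fun h2 => by
    have hy1 : y ≠ 1 := fun h => hy (h ▸ one_mem _)
    have hk1 : 1 ≤ k := by rcases h with ⟨h, -⟩ | ⟨h, -⟩ | ⟨h, -⟩ <;> omega
    have hne : c ^ 2 ^ (k - 1) ≠ 1 := fun h => by
      have := orderOf_dvd_of_pow_eq_one h
      rw [hc] at this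
      exact absurd ((Nat.pow_dvd_pow_iff_le_right one_lt_two).mp this) (by omega)
    have hsq : (c ^ 2 ^ (k - 1)) ^ 2 = 1 := by
      rw [← pow_mul, ← pow_succ, Nat.sub_add_cancel hk1, ← hc, pow_orderOf_eq_one]
    have heq := PGroups.eq_of_sq_eq_one (inferInstance : IsCyclic (zpowers x)) (hW y h2) (hW _ hsq) h2 hsq hy1 hne
    exact hy (heq ▸ pow_mem (mem_zpowers c) _)
  rcases h with ⟨-, -, h2⟩ | ⟨hk, h1, h2⟩ | ⟨-, -, h2⟩
  · exact absurd h2 hnosq
  · obtain ⟨l, rfl⟩ : ∃ l, k = l + 1 := ⟨k - 1, by omega⟩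
    haveI : NeZero (2 ^ l) := ⟨by positivity⟩
    rw [Nat.add_sub_cancel] at h2
    exact ⟨l, PGroups.nonempty_mulEquiv_quaternion (by rw [hc, pow_succ']) hy h2 h1
      (by rw [hcard, pow_succ, pow_succ]; ring)⟩
  · exact absurd h2 hnosq

end Cfsg.Agent.S0016
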