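import Cfsg.Statements.S0031
import Mathlib.Tactic.Group

set_option autoImplicit false
open Cfsg

namespace Cfsg.Agent.S0031

/-- A fixed-point-free automorphism of a finite group maps some Sylow p-subgroup to itself. -/
theorem result {G : Type*} [Group G] [Finite G] (φ : G ≃* G)
    (hφ : MonoidHom.FixedPointFree (φ : G →* G)) (p : ℕ) [Fact p.Prime] :
    ∃ P : Sylow p G, (P : Subgroup G).map (φ : G →* G) = P := by
  let P : Sylow p G := default
  have hP' : IsPGroup p ((P : Subgroup G).map (φ : G →* G)) := P.2.map _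
  obtain ⟨Q, hQ⟩ := hP'.exists_le_sylow
  have hcard : Nat.card ((P : Subgroup G).map (φ : G →* G)) = Nat.card (Q : Subgroup G) := by
    rw [Subgroup.card_map_of_injective (by exact φ.injective), P.card_eq_multiplicity, Q.card_eq_multiplicity]
  have hQeq : (P : Subgroup G).map (φ : G →* G) = Q := Subgroup.eq_of_le_of_card_ge hQ hcard.ge
  obtain ⟨g, hg⟩ := MulAction.exists_smul_eq G P Q
  have hsurj : Function.Surjective fun x : G => (φ x)⁻¹ * x :=
    Finite.injective_iff_surjective.1 fun a b h => by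
      have h1 : φ (a * b⁻¹) = a * b⁻¹ := by
        rw [map_mul, map_inv]
        calc φ a * (φ b)⁻¹ = φ a * ((φ b)⁻¹ * b) * b⁻¹ := by group
          _ = φ a * ((φ a)⁻¹ * a) * b⁻¹ := congrArg (fun t => φ a * t * b⁻¹) h.symm
          _ = a * b⁻¹ := by group
      exact mul_inv_eq_one.1 (hφ (a * b⁻¹) h1)
  obtain ⟨x, hx⟩ := hsurj g
  have hgx : φ x * g = x := by rw [← show (φ x)⁻¹ * x = g from hx]; group
  refine ⟨x • P, ?_⟩
  ext y
  simp only [Sylow.coe_subgroup_smul, Subgroup.mem_map, Subgroup.mem_pointwise_smul_iff_inv_smul_mem,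
    MulAut.smul_def, MulAut.conj_inv_apply]
  constructor
  · rintro ⟨z, hz, rfl⟩
    have h1 : φ (x⁻¹ * z * x) ∈ (Q : Subgroup G) := hQeq ▸ Subgroup.mem_map_of_mem _ hz
    rw [← hg, Sylow.coe_subgroup_smul, Subgroup.mem_pointwise_smul_iff_inv_smul_mem,
      MulAut.smul_def, MulAut.conj_inv_apply] at h1
    have h2 : g⁻¹ * φ (x⁻¹ * z * x) * g = x⁻¹ * (φ : G →* G) z * x := by
      conv_rhs => rw [← hgx]
      simp only [map_mul, map_inv, MonoidHom.coe_coe]
      group
    rwa [h2] at h1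
  · intro hy
    have h1 : g * (x⁻¹ * y * x) * g⁻¹ ∈ (Q : Subgroup G) := by
      rw [← hg, Sylow.coe_subgroup_smul, Subgroup.mem_pointwise_smul_iff_inv_smul_mem,
        MulAut.smul_def, MulAut.conj_inv_apply]
      simpa [mul_assoc] using hy
    rw [← hQeq] at h1
    obtain ⟨w, hw, hwe⟩ := h1
    refine ⟨x * w * x⁻¹, ?_, ?_⟩
    · have e : x⁻¹ * (x * w * x⁻¹) * x = w := by group
      rw [e]; exact hw
    simp only [map_mul, map_inv, hwe]
    have h3 : φ x * g = x := hgx
    simp only [MonoidHom.coe_coe]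
    calc φ x * (g * (x⁻¹ * y * x) * g⁻¹) * (φ x)⁻¹
        = (φ x * g) * (x⁻¹ * y * x) * (φ x * g)⁻¹ := by group
      _ = y := by rw [h3]; group

end Cfsg.Agent.S0031
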