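import Cfsg.Statements.S1536
import Cfsg.Agent.H43.Irreducible

set_option autoImplicit false
open Cfsg

namespace Cfsg.Agent.S1536

/-- Let H be a normal subgroup of the finite group M whose order is coprime to its index. For x ∈ M: some non-principal irreducible character of H is unchanged under h ↦ θ(x h x⁻¹) if and only if some non-identity element of H commutes with x. -/
theorem result {M : Type*} [Group M] [Finite M] (H : Subgroup M) [hN : H.Normal] (hHall : Nat.Coprime (Nat.card H) H.index) (x : M) : (∃ θ : H → ℂ, Cfsg.IsIrrCharacter H θ ∧ θ ≠ (fun _ => 1) ∧ (fun h : H => θ ⟨x * h * x⁻¹, hN.conj_mem h h.2 x⟩) = θ) ↔ ∃ h ∈ H, h ≠ 1 ∧ x * h = h * x := by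
  classical
  haveI : Fintype M := Fintype.ofFinite M
  have hcount := H43.perm_count H x
  set s := Finset.univ.filter fun φ : Cfsg.IrrCharacter H =>
    CharInduce.conjFun H (φ : H → ℂ) x = (φ : H → ℂ) with hs
  let triv : Cfsg.IrrCharacter H := ⟨fun _ => 1, CharBasic.isIrrCharacter_one⟩
  have htriv : triv ∈ s := by simp [hs, triv, CharInduce.conjFun]; rfl
  constructor
  · rintro ⟨θ, hθ, hne, hfix⟩
    by_contra hcon
    push Not at hcon
    -- with `C_H(x) = 1`, every element of `H x` is conjugate to `x`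
    have hfree : ∀ h : H, (h : M) * x = x * h → h = 1 := by
      intro h he
      by_contra h1
      exact hcon h h.2 (fun e => h1 (Subtype.ext e)) he.symm
    have hinj : Function.Injective (fun h : H =>
        (⟨(h : M) * x * (h : M)⁻¹ * x⁻¹, by
          rw [show (h : M) * x * (h : M)⁻¹ * x⁻¹ = h * (x * (h : M)⁻¹ * x⁻¹) by group]
          exact H.mul_mem h.2 (hN.conj_mem _ (H.inv_mem h.2) x)⟩ : H)) := by
      intro a b hab
      have e : (a : M) * x * (a : M)⁻¹ = b * x * (b : M)⁻¹ := mul_right_cancel (congrArg Subtype.val hab)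
      have hc : ((b⁻¹ * a : H) : M) * x = x * (b⁻¹ * a : H) := by
        calc ((b⁻¹ * a : H) : M) * x = (b : M)⁻¹ * ((a : M) * x * (a : M)⁻¹) * a := by
              simp [mul_assoc]
          _ = (b : M)⁻¹ * (b * x * (b : M)⁻¹) * a := by rw [e]
          _ = x * (b⁻¹ * a : H) := by simp [mul_assoc]
      exact (inv_mul_eq_one.mp (hfree _ hc)).symm
    have hsurj := Finite.injective_iff_surjective.mp hinj
    have hterm : ∀ n : H, Nat.card {k : H // (k : M) * n * (k : M)⁻¹ = x * n * x⁻¹}
        = if n = 1 then Nat.card H else 0 := by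
      intro n
      split_ifs with h
      · subst h
        exact Nat.card_congr (Equiv.subtypeUnivEquiv fun k => by simp)
      · rw [Nat.card_eq_zero]
        left
        refine ⟨fun ⟨k, hk⟩ => ?_⟩
        obtain ⟨h', hh'⟩ := hsurj k⁻¹
        have e : (h' : M) * x * (h' : M)⁻¹ * x⁻¹ = (k : M)⁻¹ := congrArg Subtype.val hh'
        have e' : (k : M)⁻¹ * x = h' * x * (h' : M)⁻¹ := by rw [← e]; group
        have hcomm : (k : M)⁻¹ * x * n = n * ((k : M)⁻¹ * x) := by
          calc (k : M)⁻¹ * x * n = (k : M)⁻¹ * (x * n * x⁻¹) * x := by group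
            _ = (k : M)⁻¹ * (k * n * (k : M)⁻¹) * x := by rw [hk]
            _ = n * ((k : M)⁻¹ * x) := by group
        rw [e'] at hcomm
        refine hcon ((h' : M)⁻¹ * n * h') ?_ ?_ ?_
        · exact H.mul_mem (H.mul_mem (H.inv_mem h'.2) n.2) h'.2
        · intro he
          apply h
          have : (n : M) = h' * ((h' : M)⁻¹ * n * h') * (h' : M)⁻¹ := by group
          rw [he] at this
          exact Subtype.ext (by simpa using this)
        · calc x * ((h' : M)⁻¹ * n * h')
              = (h' : M)⁻¹ * ((h' : M) * x * (h' : M)⁻¹ * n) * h' := by group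
            _ = (h' : M)⁻¹ * ((n : M) * ((h' : M) * x * (h' : M)⁻¹)) * h' := by rw [hcomm]
            _ = (h' : M)⁻¹ * n * h' * x := by group
    simp only [hterm, Nat.cast_ite, Nat.cast_zero, Finset.sum_ite_eq', Finset.mem_univ, if_true] at hcount
    have hcard : s.card = 1 := by
      have h1 : (s.card : ℂ) = 1 := mul_right_cancel₀
        (Nat.cast_ne_zero.mpr (Nat.card_pos (α := H)).ne') (by convert hcount.trans (one_mul _).symm)
      exact_mod_cast h1
    have hθs : (⟨θ, hθ⟩ : Cfsg.IrrCharacter H) ∈ s := by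
      simp only [hs, Finset.mem_filter, Finset.mem_univ, true_and]; exact hfix
    exact hne (congrArg Subtype.val (Finset.card_le_one.mp hcard.le _ hθs _ htriv))
  · rintro ⟨h, hh, h1, hcomm⟩
    have hge : ∀ n : H, x * n * x⁻¹ = n →
        1 ≤ Nat.card {k : H // (k : M) * n * (k : M)⁻¹ = x * n * x⁻¹} := by
      intro n hn
      haveI : Nonempty {k : H // (k : M) * n * (k : M)⁻¹ = x * n * x⁻¹} := ⟨⟨1, by simp [hn]⟩⟩
      exact Nat.card_pos
    have hlt : Nat.card H < ∑ n : H, Nat.card {k : H // (k : M) * n * (k : M)⁻¹ = x * n * x⁻¹} := by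
      have hone : Nat.card {k : H // (k : M) * ((1 : H) : M) * (k : M)⁻¹ = x * ((1 : H) : M) * x⁻¹}
          = Nat.card H := Nat.card_congr (Equiv.subtypeUnivEquiv fun k => by simp)
      rw [← hone]
      refine Finset.single_lt_sum
        (f := fun n : H => Nat.card {k : H // (k : M) * n * (k : M)⁻¹ = x * n * x⁻¹}) (i := (1 : H)) (j := ⟨h, hh⟩) (fun e => h1 (congrArg Subtype.val e))
        (Finset.mem_univ _) (Finset.mem_univ _) ?_ (fun _ _ _ => Nat.zero_le _)
      exact hge ⟨h, hh⟩ (mul_inv_eq_iff_eq_mul.mpr hcomm)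
    have hcard : 1 < s.card := by
      by_contra hle
      push Not at hle
      have : s.card * Nat.card H
          = ∑ n : H, Nat.card {k : H // (k : M) * n * (k : M)⁻¹ = x * n * x⁻¹} := by
        exact_mod_cast hcount
      nlinarith
    obtain ⟨φ, hφ, hne⟩ := Finset.exists_mem_ne hcard triv
    refine ⟨φ, φ.2, fun e => hne (Subtype.ext e), ?_⟩
    exact (Finset.mem_filter.mp hφ).2

end Cfsg.Agent.S1536
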