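import Mathlib
import Cfsg.Statements.S1894
import Cfsg.Agent.PGroups.Basic
-- import your own Cfsg.Agent.* helpers here

set_option autoImplicit false
open Cfsg

namespace Cfsg.Agent.S1894

/-- Let P be a finite p-group, A a normal subgroup of P and B an abelian subgroup of A that is normal in P. Then some subgroup C of A containing B is normal in P and is self-centralizing and normal in A (C ∈ SCN(A)). -/
theorem result {P : Type*} [Group P] [Finite P] {p : ℕ} [Fact p.Prime] (hP : IsPGroup p P)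
    (A : Subgroup P) [A.Normal] (B : Subgroup P) [B.Normal] (hBA : B ≤ A) (hB : IsMulCommutative B) :
    ∃ C : Subgroup P, C.Normal ∧ B ≤ C ∧ Cfsg.IsSCN A C := by
  haveI := hB
  obtain ⟨C, ⟨hCn, hBC, hCA, hCc⟩, hmax⟩ := (Set.toFinite
    {C : Subgroup P | C.Normal ∧ B ≤ C ∧ C ≤ A ∧ C ≤ Subgroup.centralizer (C : Set P)}).exists_maximal
    ⟨B, inferInstance, le_rfl, hBA, Subgroup.le_centralizer B⟩
  haveI := hCn
  refine ⟨C, hCn, hBC, hCA, fun a _ => ?_, le_antisymm ?_ (le_inf hCA hCc)⟩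
  · rw [Subgroup.normalizer_eq_top]
    trivial
  by_contra hne
  set D := A ⊓ Subgroup.centralizer (C : Set P) with hD
  haveI hDn : D.Normal := by
    rw [hD]
    infer_instance
  have hDbot : D.map (QuotientGroup.mk' C) ≠ ⊥ := fun h => hne (by
    rwa [Subgroup.map_eq_bot_iff, QuotientGroup.ker_mk'] at h)
  haveI : (D.map (QuotientGroup.mk' C)).Normal := hDn.map _ (QuotientGroup.mk'_surjective C)
  haveI : Nontrivial ↥(D.map (QuotientGroup.mk' C)) :=
    (Subgroup.nontrivial_iff_ne_bot _).mpr hDbot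
  haveI : Nontrivial ↥(D.map (QuotientGroup.mk' C) ⊓ Subgroup.center (P ⧸ C) : Subgroup (P ⧸ C)) :=
    (Subgroup.nontrivial_iff_ne_bot _).mpr
      (Cfsg.Agent.PGroups.inf_center_ne_bot (hP.to_quotient C) _ hDbot)
  obtain ⟨⟨x', hx'D, hx'Z⟩, hx'1⟩ :=
    exists_ne (1 : ↥(D.map (QuotientGroup.mk' C) ⊓ Subgroup.center (P ⧸ C) : Subgroup (P ⧸ C)))
  obtain ⟨x, hxD, rfl⟩ := hx'D
  have hxC : x ∉ C := fun h => hx'1 (Subtype.ext ((QuotientGroup.eq_one_iff x).mpr h))
  have hC' : (C ⊔ Subgroup.zpowers x).Normal := by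
    refine ⟨fun a ha g => ?_⟩
    have hxg : g * x * g⁻¹ ∈ C ⊔ Subgroup.zpowers x := by
      have h1 := Subgroup.mem_center_iff.mp hx'Z (QuotientGroup.mk' C g)
      have h2 : (QuotientGroup.mk' C) ((g * x * g⁻¹) * x⁻¹) = 1 := by
        simp only [map_mul, map_inv]
        rw [h1]
        group
      have h3 : (g * x * g⁻¹) * x⁻¹ ∈ C := (QuotientGroup.eq_one_iff _).mp h2
      have := mul_mem (Subgroup.mem_sup_left (T := Subgroup.zpowers x) h3)
        (Subgroup.mem_sup_right (S := C) (Subgroup.mem_zpowers x))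
      rwa [inv_mul_cancel_right] at this
    have hle : (C ⊔ Subgroup.zpowers x).map (MulAut.conj g).toMonoidHom ≤ C ⊔ Subgroup.zpowers x := by
      rw [Subgroup.map_sup, sup_le_iff]
      constructor
      · rintro _ ⟨c, hc, rfl⟩
        exact Subgroup.mem_sup_left (hCn.conj_mem c hc g)
      · rw [MonoidHom.map_zpowers, Subgroup.zpowers_le]
        exact hxg
    exact hle ⟨a, ha, rfl⟩
  have hsup : C ⊔ Subgroup.zpowers x ≤ Subgroup.centralizer ((C ⊔ Subgroup.zpowers x : Subgroup P) : Set P) := by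
    refine Subgroup.le_centralizer_iff.mp (sup_le ?_ ?_) <;> refine Subgroup.le_centralizer_iff.mp (sup_le ?_ ?_)
    · exact hCc
    · rw [Subgroup.zpowers_le]; exact hxD.2
    · rw [Subgroup.le_centralizer_iff, Subgroup.zpowers_le]; exact hxD.2
    · exact Subgroup.le_centralizer _
  exact hxC (hmax ⟨hC', hBC.trans le_sup_left, sup_le hCA (Subgroup.zpowers_le.mpr hxD.1), hsup⟩
    le_sup_left (Subgroup.mem_sup_right (Subgroup.mem_zpowers x)))


end Cfsg.Agent.S1894
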