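import Cfsg.Statements.S0120
import Cfsg.Agent.PGroups.Commutator
import Cfsg.Agent.PGroups.Critical

set_option autoImplicit false
open Cfsg

namespace Cfsg.Agent.S0120

open scoped commutatorElement


/-- For odd p, a p'-automorphism of a p-group acting trivially on the elements of order dividing p is trivial. -/
theorem result {G : Type*} [Group G] [Finite G] {p : ℕ} [Fact p.Prime] (hp : p ≠ 2) (hG : IsPGroup p G) (a : MulAut G) (ha : Nat.Coprime (orderOf a) p) (h : ∀ x : G, x ^ p = 1 → a x = x) : a = 1 := by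
  obtain ⟨H, hH, hΦ, hHG, hC⟩ := PGroups.exists_critical hG
  have := hH
  refine PGroups.mulAut_eq_one_of_fixed hG H hC a ha ?_
  have hpP : IsPGroup p H := hG.to_subgroup H
  have hpow : ∀ y : H, y ^ p ∈ Subgroup.center H := fun y => by
    rw [Subgroup.mem_center_iff]
    intro z
    exact Subtype.ext (Subgroup.mem_centralizer_iff.mp
      (hΦ ⟨y ^ p, PGroups.pow_mem_frattini hpP y, rfl⟩) z z.2)
  have hcom : ∀ x y : H, ⁅x, y⁆ ∈ Subgroup.center H := fun x y => by
    rw [Subgroup.mem_center_iff]
    intro z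
    exact Subtype.ext (Subgroup.mem_centralizer_iff.mp
      (hHG (Subgroup.commutator_mem_commutator x.2 (Subgroup.mem_top (y : G)))).2 z z.2)
  have hcp : ∀ x y : H, ⁅x, y⁆ ^ p = 1 := fun x y => by
    rw [← PGroups.commutatorElement_pow_left_of_mem_center (hcom x y),
      commutatorElement_eq_one_iff_mul_comm]
    exact (Subgroup.mem_center_iff.mp (hpow x) y).symm
  suffices key : ∀ n : ℕ, ∀ x : G, x ∈ H → orderOf x = n → a x = x from
    fun x hx => key _ x hx rfl
  intro n
  induction n using Nat.strong_induction_on with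
  | _ n ih =>
    intro x hx hn
    by_cases hx1 : x = 1
    · rw [hx1, map_one]
    obtain ⟨k, hk⟩ := IsPGroup.iff_orderOf.mp hG x
    have hk0 : k ≠ 0 := fun h0 => hx1 (orderOf_eq_one_iff.mp (by rw [hk, h0, pow_zero]))
    have hdvd : p ∣ orderOf x := hk ▸ dvd_pow_self p hk0
    have hlt : orderOf (x ^ p) < n := by
      rw [orderOf_pow_of_dvd (Fact.out : p.Prime).ne_zero hdvd, hn.symm]
      exact Nat.div_lt_self (orderOf_pos x) (Fact.out : p.Prime).one_lt
    have hxp : a (x ^ p) = x ^ p := ih _ hlt _ (pow_mem hx p) rfl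
    have hax : a x ∈ H := (PGroups.apply_mem_iff_of_characteristic hH a).mpr hx
    let u : H := ⟨x⁻¹, inv_mem hx⟩
    let v : H := ⟨a x, hax⟩
    have hm := PGroups.mul_pow_of_commutator_mem_center (hcom v u) p
    obtain ⟨d, hd⟩ := PGroups.dvd_choose_two (Fact.out : p.Prime) hp
    rw [hd, pow_mul, hcp, one_pow, mul_one] at hm
    have hw : (x⁻¹ * a x) ^ p = 1 := by
      have h1 := congrArg (Subtype.val : H → G) hm
      simp only [Subgroup.coe_pow, Subgroup.coe_mul] at h1
      rw [h1, inv_pow, ← map_pow, hxp, inv_mul_cancel]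
    have hwfix : a (x⁻¹ * a x) = x⁻¹ * a x := h _ hw
    have hiter : ∀ i : ℕ, (a ^ i) x = x * (x⁻¹ * a x) ^ i := by
      intro i
      induction i with
      | zero => simp
      | succ i hi =>
        rw [pow_succ', MulAut.mul_apply, hi, map_mul, map_pow, hwfix, pow_succ', ← mul_assoc,
          ← mul_assoc, mul_inv_cancel, one_mul]
    have ho := hiter (orderOf a)
    rw [pow_orderOf_eq_one, MulAut.one_apply, left_eq_mul] at ho
    have h5 := pow_gcd_eq_one.mpr ⟨ho, hw⟩
    rw [ha.gcd_eq_one, pow_one] at h5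
    exact (inv_mul_eq_one.mp h5).symm

end Cfsg.Agent.S0120
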