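import Cfsg.Statements.S1393
import Cfsg.Agent.H41.Transitivity
import Cfsg.Agent.H41.RankTwo
-- import your own Cfsg.Agent.* helpers here

set_option autoImplicit false
open Cfsg

namespace Cfsg.Agent.S1393

/-- Let G be a minimal simple group of odd order, A a subgroup satisfying the transitivity hypothesis whose centre has rank at least 3, K = O_{π(A)'}(C_G(A)), and q a prime not dividing the order of A. Then any two maximal A-invariant q-subgroups of G are conjugate by an element of K. -/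
theorem result {G : Type*} [Group G] [Finite G] (hG : Cfsg.IsMinSimpleOddOrder G)
    (A : Subgroup G) (hA : Cfsg.TransitivityHypothesis A) (hZ : ¬ Cfsg.RankLE 2 ↥(A ⊓ Subgroup.centralizer (A : Set G)))
    (q : ℕ) (hq : q.Prime) (hqA : ¬ q ∣ Nat.card A) :
    ∀ Q₁ ∈ Cfsg.maxInvSubgroups ⊤ A {q}, ∀ Q₂ ∈ Cfsg.maxInvSubgroups ⊤ A {q}, ∃ k ∈ Cfsg.piCoreOf (Cfsg.primesNotDvd (Nat.card A)) (Subgroup.centralizer (A : Set G)), Q₂ = Q₁.map (MulAut.conj k).toMonoidHom := by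
  classical
  haveI := Fact.mk hq
  set Z := A ⊓ Subgroup.centralizer (A : Set G) with hZdef
  obtain ⟨p, hp, E, hEZ, hEc, hEe, hE⟩ := H41.exists_elementary_of_not_rankLE hZ
  haveI := Fact.mk hp
  have hEN : ∀ Q ∈ Cfsg.maxInvSubgroups ⊤ A {q}, E ≤ Subgroup.normalizer (Q : Set G) := fun Q hQ =>
    (hEZ.trans inf_le_left).trans hQ.1.2.2
  have hAC : ∀ e ∈ E, A ≤ Subgroup.centralizer ({e} : Set G) := fun e he a ha =>
    Subgroup.mem_centralizer_singleton_iff.2 (Subgroup.mem_centralizer_iff.1 (hEZ he).2 a ha)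
  have hCtop : ∀ e ∈ E, e ≠ 1 → Subgroup.centralizer ({e} : Set G) ≠ ⊤ := by
    intro e he he1 h
    haveI := hG.2.1
    have hz : e ∈ Subgroup.center G := Subgroup.mem_center_iff.2 fun g =>
      Subgroup.mem_centralizer_singleton_iff.1 (h ▸ Subgroup.mem_top g)
    rcases (inferInstance : (Subgroup.center G).Normal).eq_bot_or_eq_top with h0 | h0
    · rw [h0, Subgroup.mem_bot] at hz; exact he1 hz
    · exact hG.2.2.1 ⟨⟨fun a b => (Subgroup.mem_center_iff.1 (h0 ▸ Subgroup.mem_top b) a)⟩⟩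
  intro Q₁ h₁ Q₂ h₂
  by_cases h1 : Q₁ = ⊥
  · refine ⟨1, one_mem _, ?_⟩
    rw [Coprime.map_conj_one]
    exact h₁.2 Q₂ h₂.1 (h1 ▸ bot_le)
  by_cases h2 : Q₂ = ⊥
  · exact absurd (h₂.2 Q₁ h₁.1 (h2 ▸ bot_le)) (h2 ▸ h1)
  obtain ⟨e, he, he1, hn1, hn2⟩ := H41.exists_common_centralizer hEc hEe hE.ge
    (H41.isPGroup_of_invSubgroups hq h₁.1) (H41.isPGroup_of_invSubgroups hq h₂.1) h1 h2
    (hEN Q₁ h₁) (hEN Q₂ h₂)
  exact H41.transitivity_of_common hG.2 hA hq hqA h₁ h₂ (hCtop e he he1) (hAC e he)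
    (inf_comm Q₁ _ ▸ hn1) (inf_comm Q₂ _ ▸ hn2)

end Cfsg.Agent.S1393
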