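import Cfsg.Statements.S1395
import Cfsg.Agent.H41.Transitivity2
-- import your own Cfsg.Agent.* helpers here

set_option autoImplicit false
open Cfsg

namespace Cfsg.Agent.S1395

/-- Let G be a minimal simple group of odd order, A a subgroup satisfying the transitivity hypothesis with K = O_{π(A)'}(C_G(A)), q a prime not dividing the order of A, and P a proper subgroup all of whose prime divisors divide the order of A, containing A as a subnormal subgroup, such that any two maximal A-invariant q-subgroups are conjugate under K. Then (a) K ∩ C_G(P) = O_{π(A)'}(C_G(P)); (b) any two maximal P-invariant q-subgroups are conjugate under O_{π(A)'}(C_G(P)); (c) every maximal P-invariant q-subgroup is a maximal A-invariant q-subgroup; (d) for every maximal P-invariant q-subgroup Q, P ∩ N_G(P)' ≤ N_G(Q)' and N_G(P) is generated by O_{π(A)'}(C_G(P)) and N_G(P) ∩ N_G(Q). -/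
theorem result {G : Type*} [Group G] [Finite G] (hG : Cfsg.IsMinSimpleOddOrder G)
    (A : Subgroup G) (hA : Cfsg.TransitivityHypothesis A) (q : ℕ) (hq : q.Prime) (hqA : ¬ q ∣ Nat.card A)
    (P : Subgroup G) (hP : P ≠ ⊤) (hPπ : (∀ r : ℕ, r.Prime → r ∣ Nat.card P → r ∣ Nat.card A)) (hAP : A ≤ P) (hsn : (A.subgroupOf P).IsSubnormal)
    (htr : ∀ Q₁ ∈ Cfsg.maxInvSubgroups ⊤ A {q}, ∀ Q₂ ∈ Cfsg.maxInvSubgroups ⊤ A {q}, ∃ k ∈ Cfsg.piCoreOf (Cfsg.primesNotDvd (Nat.card A)) (Subgroup.centralizer (A : Set G)), Q₂ = Q₁.map (MulAut.conj k).toMonoidHom) :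
    Cfsg.piCoreOf (Cfsg.primesNotDvd (Nat.card A)) (Subgroup.centralizer (A : Set G)) ⊓ Subgroup.centralizer (P : Set G) = Cfsg.piCoreOf (Cfsg.primesNotDvd (Nat.card A)) (Subgroup.centralizer (P : Set G)) ∧
      (∀ Q₁ ∈ Cfsg.maxInvSubgroups ⊤ P {q}, ∀ Q₂ ∈ Cfsg.maxInvSubgroups ⊤ P {q}, ∃ k ∈ Cfsg.piCoreOf (Cfsg.primesNotDvd (Nat.card A)) (Subgroup.centralizer (P : Set G)), Q₂ = Q₁.map (MulAut.conj k).toMonoidHom) ∧
      Cfsg.maxInvSubgroups ⊤ P {q} ⊆ Cfsg.maxInvSubgroups ⊤ A {q} ∧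
      ∀ Q ∈ Cfsg.maxInvSubgroups ⊤ P {q},
        P ⊓ ⁅Subgroup.normalizer (P : Set G), Subgroup.normalizer (P : Set G)⁆ ≤ ⁅Subgroup.normalizer (Q : Set G), Subgroup.normalizer (Q : Set G)⁆ ∧
        Subgroup.normalizer (P : Set G) = Cfsg.piCoreOf (Cfsg.primesNotDvd (Nat.card A)) (Subgroup.centralizer (P : Set G)) ⊔ (Subgroup.normalizer (P : Set G) ⊓ Subgroup.normalizer (Q : Set G)) := by
  classical
  obtain ⟨hT, hsub⟩ := H41.isTransOn_of_subnormal hG.2 hA hq hqA hP hPπ hAP hsn htr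
  have ha := H41.transK_inf_centralizer hG.2 hA hAP
  set M₀ := Subgroup.normalizer (P : Set G) with hM₀
  have htrans : ∀ Q₁ ∈ Cfsg.maxInvSubgroups ⊤ P {q}, ∀ Q₂ ∈ Cfsg.maxInvSubgroups ⊤ P {q},
      ∃ k ∈ Cfsg.piCoreOf (Cfsg.primesNotDvd (Nat.card A)) (Subgroup.centralizer (P : Set G)),
        Q₂ = Q₁.map (MulAut.conj k).toMonoidHom := fun Q₁ h₁ Q₂ h₂ => by
    obtain ⟨k, hk, e⟩ := hT Q₁ h₁ Q₂ h₂
    exact ⟨k, ha ▸ hk, e⟩
  refine ⟨ha, htrans, hsub, fun Q hQ => ?_⟩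
  set K := Cfsg.piCoreOf (Cfsg.primesNotDvd (Nat.card A)) (Subgroup.centralizer (P : Set G)) with hKdef
  set M := M₀ ⊓ Subgroup.normalizer (Q : Set G) with hM
  have hKM₀ : K ≤ M₀ := (H41.piCoreOf_le _ _).trans (H41.centralizer_le_normalizer P)
  have hKn : M₀ ≤ Subgroup.normalizer (K : Set G) := by
    rw [← ha]
    exact H41.conj_mem_inf_centralizer_base hG.2 hA hAP
  have hfac : ∀ n ∈ M₀, ∃ k ∈ K, ∃ m ∈ M, k * m = n := by
    intro n hn
    obtain ⟨k, hk, e⟩ := htrans Q hQ _ (H41.maxInvSubgroups_map_conj hn hQ)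
    refine ⟨k, hk, k⁻¹ * n, ⟨M₀.mul_mem (M₀.inv_mem (hKM₀ hk)) hn, ?_⟩, mul_inv_cancel_left k n⟩
    refine Coprime.mem_normalizer_of_map_conj ?_
    rw [← Coprime.map_conj_map_conj, e, Coprime.map_conj_map_conj, inv_mul_cancel, Coprime.map_conj_one]
  have hN : M₀ = K ⊔ M := by
    refine le_antisymm (fun n hn => ?_) (sup_le hKM₀ inf_le_left)
    obtain ⟨k, hk, m, hm, rfl⟩ := hfac n hn
    exact Subgroup.mul_mem_sup hk hm
  refine ⟨?_, hN⟩
  -- `M₀' ≤ K M'`
  have hMK : ⁅M, M⁆ ≤ Subgroup.normalizer (K : Set G) :=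
    ((Subgroup.commutator_le_self M).trans inf_le_left).trans hKn
  have hder : ⁅M₀, M₀⁆ ≤ K ⊔ ⁅M, M⁆ := by
    set N := Subgroup.normalizer (K : Set G) with hN'
    haveI : (K.subgroupOf N).Normal := Subgroup.normal_in_normalizer
    let φ := QuotientGroup.mk' (K.subgroupOf N)
    have himg : (M₀.subgroupOf N).map φ ≤ (M.subgroupOf N).map φ := by
      rintro _ ⟨n, hn, rfl⟩
      obtain ⟨k, hk, m, hm, e⟩ := hfac n hn
      refine ⟨⟨m, hKn hm.1⟩, hm, ?_⟩
      rw [show n = ⟨k, Subgroup.le_normalizer hk⟩ * ⟨m, hKn hm.1⟩ from Subtype.ext e.symm, map_mul,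
        (QuotientGroup.eq_one_iff (N := K.subgroupOf N) ⟨k, Subgroup.le_normalizer hk⟩).2 hk |>
          (fun h => (show φ ⟨k, Subgroup.le_normalizer hk⟩ = 1 from h)), one_mul]
    have h1 : (⁅M₀.subgroupOf N, M₀.subgroupOf N⁆).map φ ≤ (⁅M.subgroupOf N, M.subgroupOf N⁆).map φ := by
      rw [Subgroup.map_commutator, Subgroup.map_commutator]
      exact Subgroup.commutator_mono himg himg
    rw [Subgroup.map_le_map_iff, QuotientGroup.ker_mk'] at h1
    have h2 := Subgroup.map_mono (f := N.subtype) h1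
    rw [Subgroup.map_sup, Subgroup.map_commutator, Subgroup.map_commutator,
      Subgroup.map_subgroupOf_eq_of_le hKn, Subgroup.map_subgroupOf_eq_of_le (inf_le_left.trans hKn),
      Subgroup.map_subgroupOf_eq_of_le Subgroup.le_normalizer, sup_comm] at h2
    exact h2
  intro x hx
  obtain ⟨k, hk, m, hm, e⟩ := (Coprime.mem_sup_iff hMK).1 (hder hx.2)
  have hPM : P ≤ M := le_inf Subgroup.le_normalizer hQ.1.2.2
  have hkM : k ∈ M := by
    rw [eq_mul_inv_of_mul_eq e]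
    exact M.mul_mem (hPM hx.1) (M.inv_mem (Subgroup.commutator_le_self M hm))
  refine Subgroup.commutator_mono (inf_le_right : M ≤ Subgroup.normalizer (Q : Set G)) inf_le_right
    (H41.mem_commutator_of_coprime_pow (n := Nat.card K) (fun z hz => ?_) (hPM hx.1) hk hkM hm e.symm ?_)
  · exact congrArg Subtype.val (pow_card_eq_one' (x := (⟨z, hz⟩ : K)))
  · exact Nat.Coprime.coprime_dvd_left
      (by rw [← Subgroup.orderOf_mk x hx.1]; exact orderOf_dvd_natCard _)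
      (H41.coprime_of_primes_dvd hPπ (H41.piCoreOf_isPiNumber _ _))

end Cfsg.Agent.S1395
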