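import Cfsg.Statements.S1396
import Cfsg.Agent.H41.Basic
import Cfsg.Agent.Cores.PCore
import Cfsg.Agent.Cores.PSolvable
import Cfsg.Agent.Cores.Constrained
import Cfsg.Agent.Coprime.Basic
import Cfsg.Agent.Coprime.Abelian
import Cfsg.Agent.H42.FixedLift
import Cfsg.Agent.H42.InvariantSignalizer
import Cfsg.Agent.S0120

set_option autoImplicit false
open Cfsg

namespace Cfsg.Agent.S1396


open Subgroup

/-- In a group of `p`-length at most one the `p`-elements lie in `O_{p',p}`. -/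
theorem mem_pPrimePCore_of_pLength {X : Type*} [Group X] [Finite X] {p : ℕ} [Fact p.Prime]
    (h : Cfsg.PLengthLE p 1 X) {x : X} {m : ℕ} (hx : x ^ p ^ m = 1) :
    x ∈ Cfsg.pPrimePCore p X := by
  haveI := upperPSeries_normal p X 2
  have h3 : (Cfsg.pPrimeCore p (X ⧸ (Cfsg.upperPSeries p X 2).1)).comap (QuotientGroup.mk' _) = ⊤ := h
  have h3' : Cfsg.pPrimeCore p (X ⧸ (Cfsg.upperPSeries p X 2).1) = ⊤ := by
    rw [eq_top_iff]
    intro y _
    obtain ⟨z, rfl⟩ := QuotientGroup.mk'_surjective _ y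
    exact (h3.symm ▸ Subgroup.mem_top z : z ∈ (Cfsg.pPrimeCore p _).comap (QuotientGroup.mk' _))
  have hq : QuotientGroup.mk' (Cfsg.upperPSeries p X 2).1 x = 1 := by
    set y := QuotientGroup.mk' (Cfsg.upperPSeries p X 2).1 x with hy
    have h1 : y ^ p ^ m = 1 := by rw [hy, ← map_pow, hx, map_one]
    exact orderOf_eq_one_iff.mp (Nat.eq_one_of_dvd_coprimes
      ((Cfsg.Agent.Cores.pPrimeCore_eq_top_iff.mp h3').symm.pow_left m)
      (orderOf_dvd_of_pow_eq_one h1) (orderOf_dvd_natCard y))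
  have hx2 : x ∈ (Cfsg.upperPSeries p X 2).1 := (QuotientGroup.eq_one_iff x).mp hq
  have h1eq : (Cfsg.upperPSeries p X 1).1 = Cfsg.pPrimeCore p X :=
    Cfsg.Agent.Cores.comap_pPrimeCore_quotient (⊥ : Subgroup X) (by simp)
  have key : ∀ (N : Subgroup X) [N.Normal], N = Cfsg.pPrimeCore p X →
      (Cfsg.pCore p (X ⧸ N)).comap (QuotientGroup.mk' N) = Cfsg.pPrimePCore p X := by
    rintro N _ rfl
    rfl
  haveI := upperPSeries_normal p X 1
  exact key _ h1eq ▸ hx2

/-- The image in `X / O_{p'}(X)` of an element of order `p` of the centralizer of `E` comes from `E`. -/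
theorem mem_map_of_pow_eq_one {X : Type*} [Group X] [Finite X] {p : ℕ} [Fact p.Prime]
    (E : Subgroup X) (hE : IsPGroup p E)
    (hΩ : ∀ x ∈ centralizer (E : Set X), x ^ p = 1 → x ∈ E) {z : X ⧸ Cfsg.pPrimeCore p X}
    (hz : z ∈ centralizer (E.map (QuotientGroup.mk' (Cfsg.pPrimeCore p X)) : Set (X ⧸ Cfsg.pPrimeCore p X)))
    (hzp : z ^ p = 1) : z ∈ E.map (QuotientGroup.mk' (Cfsg.pPrimeCore p X)) := by
  set N := Cfsg.pPrimeCore p X with hN
  rw [← Cfsg.Agent.Cores.map_centralizer_of_coprime N Cfsg.Agent.Cores.coprime_card_pPrimeCore hE] at hz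
  obtain ⟨u, hu, rfl⟩ := hz
  obtain ⟨k, hk, hk'⟩ := Cfsg.Agent.H42.exists_pPart (p := p) u
  have hkz : QuotientGroup.mk' N (u ^ k) = QuotientGroup.mk' N u := by
    rw [map_pow]
    exact hk' _ (QuotientGroup.mk' N) 1 (by rwa [pow_one])
  have h1 : (u ^ k) ^ p ∈ zpowers (u ^ k) ⊓ N := by
    refine ⟨pow_mem (mem_zpowers _) p, (QuotientGroup.eq_one_iff _).mp ?_⟩
    show QuotientGroup.mk' N ((u ^ k) ^ p) = 1
    rw [map_pow (QuotientGroup.mk' N) (u ^ k) p, hkz, hzp]
  rw [Cfsg.Agent.Cores.disjoint_of_isPGroup_of_coprime hk Cfsg.Agent.Cores.coprime_card_pPrimeCore,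
    mem_bot] at h1
  exact ⟨u ^ k, hΩ _ (pow_mem hu k) h1, hkz⟩

/-- Case (1), inside a proper subgroup. -/
theorem le_pPrimeCore_of_pLength {X : Type*} [Group X] [Finite X] {p : ℕ} [Fact p.Prime]
    (hp : p ≠ 2) (hpl : Cfsg.PLengthLE p 1 X) (hcon : Cfsg.IsPConstrained p X)
    (E Y : Subgroup X) (hE : IsPGroup p E)
    (hΩ : ∀ x ∈ centralizer (E : Set X), x ^ p = 1 → x ∈ E)
    (hEY : E ≤ normalizer (Y : Set X)) (hY : (Nat.card Y).Coprime p) :
    Y ≤ Cfsg.pPrimeCore p X := by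
  set q := QuotientGroup.mk' (Cfsg.pPrimeCore p X) with hq
  set R := Cfsg.pCore p (X ⧸ Cfsg.pPrimeCore p X) with hR
  set E' := E.map q with hE'
  set Y' := Y.map q with hY'
  have hRC := Cfsg.Agent.Cores.isPConstrained_iff.mp hcon
  have hER : E' ≤ R := by
    rintro _ ⟨e, he, rfl⟩
    obtain ⟨m, hm⟩ := hE ⟨e, he⟩
    exact mem_pPrimePCore_of_pLength hpl (x := e) (m := m) (by simpa using congrArg Subtype.val hm)
  have hRp : IsPGroup p R := Cfsg.Agent.Cores.pCore_isPGroup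
  have hY'cop : (Nat.card Y').Coprime p := hY.coprime_dvd_left (card_map_dvd Y q)
  have hE'Y' : E' ≤ normalizer (Y' : Set _) :=
    (Subgroup.map_mono hEY).trans (le_normalizer_map q)
  have hRnormal : R.Normal := by rw [hR]; infer_instance
  have hRn : ∀ Z : Subgroup (X ⧸ Cfsg.pPrimeCore p X), Z ≤ normalizer (R : Set _) := fun Z =>
    (Subgroup.normalizer_eq_top_iff.mpr hRnormal).symm ▸ le_top
  have hdisj : R ⊓ Y' = ⊥ := Cfsg.Agent.Cores.disjoint_of_isPGroup_of_coprime hRp hY'cop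
  -- `Y'` centralizes `E'`
  have hYE : ∀ y ∈ Y', ∀ e ∈ E', y * e * y⁻¹ = e := by
    intro y hy e he
    have hmem : y * e * y⁻¹ * e⁻¹ ∈ R ⊓ Y' := by
      refine ⟨R.mul_mem (hRnormal.conj_mem e (hER he) y) (R.inv_mem (hER he)), ?_⟩
      rw [show y * e * y⁻¹ * e⁻¹ = y * (e * y⁻¹ * e⁻¹) by group]
      exact Y'.mul_mem hy (Cfsg.Agent.Coprime.conj_mem (hE'Y' he) (Y'.inv_mem hy))
    rw [hdisj, mem_bot, mul_inv_eq_one] at hmem
    exact hmem
  set C := R ⊓ centralizer (E' : Set _) with hC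
  have hYC : Y' ≤ normalizer (C : Set _) := by
    rw [le_normalizer_iff]
    intro y hy x hx
    refine ⟨hRnormal.conj_mem x hx.1 y, fun e he => ?_⟩
    have h1 : y * e = e * y := mul_inv_eq_iff_eq_mul.mp (hYE y hy e he)
    have h2 : e * x = x * e := hx.2 e he
    exact ((Commute.mul_right (show Commute e y from h1.symm) h2).mul_right
      (show Commute e y from h1.symm).inv_right).eq
  have hfix : C ≤ centralizer (Y' : Set _) := by
    intro x hx y hy
    let a : MulAut C := Cfsg.Agent.Coprime.conjOn hYC ⟨y, hy⟩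
    have ha : (orderOf a).Coprime p :=
      hY'cop.coprime_dvd_left ((orderOf_map_dvd _ _).trans (orderOf_dvd_natCard _))
    have h1 := Cfsg.Agent.S0120.result hp (hRp.to_le inf_le_left : IsPGroup p C) a ha (fun z hz => by
      refine Subtype.ext ?_
      have h2 := mem_map_of_pow_eq_one E hE hΩ z.2.2 (by simpa using congrArg Subtype.val hz)
      exact mul_inv_eq_iff_eq_mul.mpr (mul_inv_eq_iff_eq_mul.mp (hYE y hy _ h2)))
    have h2 : y * x * y⁻¹ = x := congrArg Subtype.val (DFunLike.congr_fun h1 (⟨x, hx⟩ : C))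
    exact mul_inv_eq_iff_eq_mul.mp h2
  have hcent : Y' ≤ centralizer (R : Set _) :=
    Cfsg.Agent.H42.centralizes_of_fixed_le hp (hE.map q) hY'cop hE'Y' R hRp (hRn _) (hRn _) hfix
  have hbot : Y' = ⊥ := le_bot_iff.mp (hdisj ▸ le_inf (hcent.trans hRC) le_rfl)
  rw [hY', Subgroup.map_eq_bot_iff, hq, QuotientGroup.ker_mk'] at hbot
  exact hbot

/-- Case (2): a self-centralizing normal subgroup of a Sylow subgroup contains all `p`-elements
of its centralizer. -/
theorem mem_of_isSCN {G : Type*} [Group G] [Finite G] {p : ℕ} [Fact p.Prime] {A : Subgroup G}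
    (hA : IsMulCommutative A) {P : Sylow p G} (h : Cfsg.IsSCN (P : Subgroup G) A) {x : G}
    (hx : x ∈ centralizer (A : Set G)) (hxp : IsPGroup p (zpowers x)) : x ∈ A := by
  set C := centralizer (A : Set G) with hC
  set N := normalizer (A : Set G) with hN
  have hAC : A ≤ C := fun a ha b hb => by
    have := hA.is_comm.comm ⟨b, hb⟩ ⟨a, ha⟩
    exact congrArg Subtype.val this
  have hCN : C ≤ N := by
    intro c hc
    rw [hN, mem_normalizer_iff]
    intro a
    constructor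
    · intro ha
      rw [← hc a ha, mul_inv_cancel_right]; exact ha
    · intro ha
      have := hc _ ha
      rw [mul_assoc (c * a) c⁻¹ c, inv_mul_cancel, mul_one] at this
      have h2 : a = c * a * c⁻¹ := mul_left_cancel this
      rw [h2]; exact ha
  let P' : Sylow p N := P.subtype h.2.1
  haveI : (C.subgroupOf N).Normal := by
    rw [normal_subgroupOf_iff_le_normalizer hCN]
    intro n hn
    rw [hC, mem_normalizer_iff]
    intro c
    have key : ∀ m ∈ N, ∀ d ∈ C, m * d * m⁻¹ ∈ C := by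
      intro m hm d hd a ha
      have ha' : m⁻¹ * a * m ∈ A := (mem_normalizer_iff''.1 hm a).1 ha
      calc a * (m * d * m⁻¹) = m * ((m⁻¹ * a * m) * d) * m⁻¹ := by group
        _ = m * (d * (m⁻¹ * a * m)) * m⁻¹ := by rw [hd _ ha']
        _ = m * d * m⁻¹ * a := by group
    refine ⟨key n hn c, fun hc => ?_⟩
    have := key n⁻¹ (inv_mem hn) _ hc
    rwa [show n⁻¹ * (n * c * n⁻¹) * n⁻¹⁻¹ = c by group] at this
  have hidx : ¬ p ∣ A.relIndex C := by
    have h1 := Cfsg.Agent.H41.not_dvd_relIndex_sylow P' (C.subgroupOf N)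
    rw [Sylow.coe_subtype, relIndex_subgroupOf hCN, ← inf_relIndex_right, h.2.2] at h1
    exact h1
  haveI : (A.subgroupOf C).Normal := by
    rw [normal_subgroupOf_iff_le_normalizer hAC]
    exact hCN
  obtain ⟨j, hj⟩ := hxp ⟨x, mem_zpowers x⟩
  have hj' : x ^ p ^ j = 1 := by simpa using congrArg Subtype.val hj
  have h1 : (⟨x, hx⟩ : C) ^ p ^ j ∈ A.subgroupOf C := by
    rw [show (⟨x, hx⟩ : C) ^ p ^ j = 1 from Subtype.ext (by simpa using hj')]
    exact one_mem _
  have h2 := (A.subgroupOf C).pow_index_mem (⟨x, hx⟩ : C)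
  have hcop : (p ^ j).gcd (A.subgroupOf C).index = 1 :=
    ((Fact.out : p.Prime).coprime_iff_not_dvd.mpr hidx).pow_left j
  have hb := Nat.gcd_eq_gcd_ab (p ^ j) (A.subgroupOf C).index
  rw [hcop] at hb
  have h3 : (⟨x, hx⟩ : C) ^ ((1 : ℕ) : ℤ) ∈ A.subgroupOf C := by
    rw [hb, zpow_add, zpow_mul, zpow_mul, zpow_natCast, zpow_natCast]
    exact mul_mem (zpow_mem h1 _) (zpow_mem h2 _)
  simpa [mem_subgroupOf] using h3

/-- Let G be a minimal simple group of odd order, p a prime dividing the order of G and A an abelian p-subgroup. Suppose either (1) A consists exactly of the elements x of C_G(A) with x^p = 1, and every proper subgroup of G has p-length at most one, or (2) A is normal and self-centralizing in some Sylow p-subgroup of G and has rank at least 2. Then A satisfies the transitivity hypothesis. -/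
theorem result {G : Type*} [Group G] [Finite G] (hG : Cfsg.IsMinSimpleOddOrder G)
    (p : ℕ) [Fact p.Prime] (hp : p ∣ Nat.card G) (A : Subgroup G) (hAp : IsPGroup p A) (hAc : IsMulCommutative A)
    (h : (∀ x ∈ Subgroup.centralizer (A : Set G), x ^ p = 1 ↔ x ∈ A) ∧ (∀ H : Subgroup G, H ≠ ⊤ → Cfsg.PLengthLE p 1 H) ∨
      ∃ P : Sylow p G, Cfsg.IsSCN (P : Subgroup G) A ∧ ¬ Cfsg.PRankLE p 1 A) :
    Cfsg.TransitivityHypothesis A := by
  have hmin := hG.2
  have hpr : p.Prime := Fact.out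
  have hp2 : p ≠ 2 := by
    rintro rfl
    exact Nat.not_even_iff_odd.mpr hG.1 (even_iff_two_dvd.mpr hp)
  obtain ⟨k, hk⟩ := IsPGroup.iff_card.mp hAp
  have hA0 : A ≠ ⊥ := by
    intro h0
    rcases h with ⟨h1, -⟩ | ⟨P, -, h2⟩
    · obtain ⟨x, hx⟩ := exists_prime_orderOf_dvd_card' (G := G) p hp
      have hxA : x ∈ A := by
        refine (h1 x ?_).mp (hx ▸ pow_orderOf_eq_one x)
        subst h0
        intro a ha
        rw [show a = 1 from ha, one_mul, mul_one]
      rw [h0, mem_bot] at hxA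
      rw [hxA, orderOf_one] at hx
      exact hpr.one_lt.ne hx
    · refine h2 fun B _ _ => ?_
      calc Nat.card B ≤ Nat.card A := Subgroup.card_le_card_group B
        _ = 1 := by rw [h0]; exact Nat.card_unique
        _ ≤ p ^ 1 := Nat.one_le_pow _ _ hpr.pos
  have hk1 : k ≠ 0 := by
    rintro rfl
    exact hA0 (card_eq_one.mp (by rw [hk, pow_zero]))
  have hπ : ∀ r : ℕ, r ∈ Cfsg.primesNotDvd (Nat.card A) ↔ r.Prime ∧ r ≠ p := by
    intro r
    show r.Prime ∧ ¬ r ∣ Nat.card A ↔ _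
    constructor
    · rintro ⟨hr, h1⟩
      exact ⟨hr, fun he => h1 (by rw [hk, he]; exact dvd_pow_self p hk1)⟩
    · rintro ⟨hr, h1⟩
      refine ⟨hr, fun he => h1 ?_⟩
      rw [hk] at he
      exact (Nat.prime_dvd_prime_iff_eq hr hpr).mp (hr.dvd_of_dvd_pow he)
  refine ⟨hA0, fun h1 => hmin.2.1 ?_, fun X hX hAX => le_antisymm (sSup_le ?_) ?_⟩
  · subst h1
    exact ⟨⟨fun a b => congrArg Subtype.val
      (hAc.is_comm.comm (⟨a, mem_top a⟩ : (⊤ : Subgroup G)) ⟨b, mem_top b⟩)⟩⟩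
  swap
  · refine le_sSup ⟨Subgroup.map_subtype_le _, ?_, ?_⟩
    · intro r hr hd
      rw [Cfsg.piCoreOf, Cfsg.Agent.Cores.card_map_eq _ X.subtype_injective] at hd
      exact Cfsg.Agent.Cores.piCore_isPiNumber _ r hr hd
    · rw [le_normalizer_iff]
      rintro a ha _ ⟨z, hz, rfl⟩
      exact ⟨⟨a, hAX ha⟩ * z * ⟨a, hAX ha⟩⁻¹, (piCore_normal _ _).conj_mem z hz _, rfl⟩
  rintro Y ⟨hYX, hYπ, hYA⟩
  haveI : Group.IsSolvable X := hmin.2.2 X hX
  have hcon : Cfsg.IsPConstrained p X :=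
    Cfsg.Agent.Cores.isPConstrained_of_isPSolvable Cfsg.Agent.Cores.isPSolvable_of_isSolvable
  have hEp : IsPGroup p (A.subgroupOf X) := hAp.comap_subtype
  have hEY : A.subgroupOf X ≤ normalizer (Y.subgroupOf X : Set X) := by
    rw [le_normalizer_iff]
    intro a ha y hy
    show (a : G) * (y : G) * (a : G)⁻¹ ∈ Y
    exact Cfsg.Agent.Coprime.conj_mem (hYA ha) hy
  have hYc : (Nat.card (Y.subgroupOf X)).Coprime p := by
    rw [Nat.card_congr (subgroupOfEquivOfLe hYX).toEquiv, Nat.coprime_comm,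
      hpr.coprime_iff_not_dvd]
    exact fun hd => ((hπ p).mp (hYπ p hpr hd)).2 rfl
  have hcent : ∀ x : X, x ∈ centralizer (A.subgroupOf X : Set X) → (x : G) ∈ centralizer (A : Set G) :=
    fun x hx a ha => congrArg Subtype.val (hx ⟨a, hAX ha⟩ ha)
  have hle : Y.subgroupOf X ≤ Cfsg.pPrimeCore p X := by
    rcases h with ⟨h1, h2⟩ | ⟨P, hP, -⟩
    · exact le_pPrimeCore_of_pLength hp2 (h2 X hX) hcon _ _ hEp
        (fun x hx hxp => (h1 _ (hcent x hx)).mp (by simpa using congrArg Subtype.val hxp)) hEY hYc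
    · refine Cfsg.Agent.H42.le_pPrimeCore_of_invariant hcon _ _ hEp (fun x hx hxp => ?_) hEY hYc
        (fun h => absurd h hp2)
      refine mem_of_isSCN hAc hP (hcent x hx) fun y => ?_
      obtain ⟨i, hi⟩ := mem_zpowers_iff.mp y.2
      obtain ⟨j, hj⟩ := hxp ⟨x ^ i, zpow_mem (mem_zpowers x) i⟩
      refine ⟨j, Subtype.ext ?_⟩
      have := congrArg (fun z : zpowers x => ((z : X) : G)) hj
      show (y : G) ^ p ^ j = 1
      rw [← hi]
      simpa using this
  refine le_trans ?_ (Subgroup.map_mono (le_trans hle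
    (Cfsg.Agent.Cores.pPrimeCore_le fun N _ hN => Cfsg.Agent.Cores.le_piCore fun r hr hd =>
      (hπ r).mpr ⟨hr, fun he => ?_⟩)))
  · exact (map_subgroupOf_eq_of_le hYX).ge
  · subst he
    exact hpr.ne_one (Nat.eq_one_of_dvd_coprimes hN hd dvd_rfl)

end Cfsg.Agent.S1396
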