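import Cfsg.Statements.S1399
import Cfsg.Agent.S1398
import Cfsg.Agent.H41.RankTwo

set_option autoImplicit false
open Cfsg

namespace Cfsg.Agent.S1399

/-- Let G be a minimal simple group of odd order, L a subgroup contained in exactly one maximal subgroup of G, and K a subgroup of C_G(L) having, for some prime p, an elementary abelian subgroup of order p ^ 2. Then K is contained in exactly one maximal subgroup of G. -/
theorem result {G : Type*} [Group G] [Finite G] (hG : Cfsg.IsMinSimpleOddOrder G)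
    (L K : Subgroup G) (hL : Cfsg.InUniqueMaximal L) (hK : K ≤ Subgroup.centralizer (L : Set G)) (hKr : ¬ Cfsg.RankLE 1 K) :
    Cfsg.InUniqueMaximal K := by
  obtain ⟨M, ⟨hM, hLM⟩, huniq⟩ := hL
  haveI := hG.2.1
  have hcent : ∀ z : G, (∀ g : G, g * z = z * g) → z = 1 := by
    intro z hz
    rcases (inferInstance : (Subgroup.center G).Normal).eq_bot_or_eq_top with h0 | h0
    · exact Subgroup.mem_bot.1 (h0 ▸ Subgroup.mem_center_iff.2 hz)
    · exact absurd ⟨⟨fun a b => (Subgroup.mem_center_iff.1 (h0 ▸ Subgroup.mem_top b) a)⟩⟩ hG.2.2.1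
  have htop : ∀ X : Subgroup G, X ≠ ⊤ → L ≤ X → X ≤ M := fun X hX hLX => by
    obtain ⟨H, hH, hXH⟩ := (eq_top_or_exists_le_coatom X).resolve_left hX
    exact huniq H ⟨hH, hLX.trans hXH⟩ ▸ hXH
  have hKtop : K ≠ ⊤ := by
    rintro rfl
    have hL1 : L = ⊥ := (Subgroup.eq_bot_iff_forall L).2 fun z hz => hcent z fun g =>
      (hK (Subgroup.mem_top g) z hz).symm
    refine hM.1 (top_le_iff.1 fun g _ => htop (Subgroup.zpowers g) (fun h => ?_) (hL1 ▸ bot_le)
      (Subgroup.mem_zpowers g))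
    exact hG.2.2.1 ⟨⟨fun a b => by
      obtain ⟨i, rfl⟩ := Subgroup.mem_zpowers_iff.1 (h ▸ Subgroup.mem_top a)
      obtain ⟨j, rfl⟩ := Subgroup.mem_zpowers_iff.1 (h ▸ Subgroup.mem_top b)
      exact zpow_mul_comm g i j⟩⟩
  obtain ⟨p, hp, E, hEK, hEc, hEe, hEcard⟩ := H41.exists_elementary_of_not_rankLE hKr
  haveI := Fact.mk hp
  have hC : ∀ b ∈ E, b ≠ 1 → Subgroup.centralizer ({b} : Set G) ≤ M := fun b hb hb1 => by
    refine htop _ (fun h => hb1 (hcent b fun g => ?_)) fun z hz => ?_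
    · exact Subgroup.mem_centralizer_singleton_iff.1 (h ▸ Subgroup.mem_top g)
    · exact Subgroup.mem_centralizer_singleton_iff.2 (hK (hEK hb) z hz)
  have hEM : E ≤ M := fun b hb => by
    by_cases hb1 : b = 1
    · exact hb1 ▸ one_mem M
    · exact hC b hb hb1 (Subgroup.mem_centralizer_singleton_iff.2 rfl)
  obtain ⟨M₀, -, hu⟩ := Cfsg.Agent.S1398.result hG M hM p E hEM
    ⟨⟨⟨fun a b => Subtype.ext (hEc a a.2 b b.2)⟩⟩, hEe⟩ (H41.not_isCyclic_of_card_sq hEcard hEe)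
    (Or.inl hC)
  have hM₀ : M = M₀ := hu M ⟨hM, hEM⟩
  obtain ⟨H, hH, hKH⟩ := (eq_top_or_exists_le_coatom K).resolve_left hKtop
  have hHM : H = M := (hu H ⟨hH, hEK.trans hKH⟩).trans hM₀.symm
  exact ⟨M, ⟨hM, hHM ▸ hKH⟩, fun H' hH' => (hu H' ⟨hH'.1, hEK.trans hH'.2⟩).trans hM₀.symm⟩

end Cfsg.Agent.S1399
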