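import Cfsg.Statements.S1500
import Cfsg.Agent.H42.Dade

set_option autoImplicit false
open Cfsg

namespace Cfsg.Agent.S1500

/-- Under the Dade hypothesis for (A, L, H), let α be a class function of L vanishing outside A. Then (i) for every class function β of L vanishing outside A, the inner product over G of the Dade images of α and β equals the inner product of α and β over L; and (ii) for every class function χ of G and every function ψ on L whose value at each a ∈ A is the average of χ over the coset a·H(a), the inner product over G of the Dade image of α with χ equals the inner product over L of α with ψ. -/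
theorem result {G : Type*} [Group G] [Fintype G] (A : Set G) (L : Subgroup G) [Fintype L] (H : G → Subgroup G) (hD : Cfsg.DadeHypothesis A L H) (α : L → ℂ) (hα : Cfsg.IsClassFunction L α) (hαA : ∀ x : L, (x : G) ∉ A → α x = 0) : (∀ β : L → ℂ, Cfsg.IsClassFunction L β → (∀ x : L, (x : G) ∉ A → β x = 0) → Cfsg.classInner (Cfsg.dadeIsometry A L H α) (Cfsg.dadeIsometry A L H β) = Cfsg.classInner α β) ∧ (∀ (χ : G → ℂ) (ψ : L → ℂ), Cfsg.IsClassFunction G χ → (∀ a : L, (a : G) ∈ A → ψ a = (Nat.card (H a) : ℂ)⁻¹ * ∑ᶠ u ∈ (H a : Set G), χ (a * u)) → Cfsg.classInner (Cfsg.dadeIsometry A L H α) χ = Cfsg.classInner α ψ) := by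
  classical
  have main : ∀ (χ : G → ℂ) (ψ : L → ℂ), Cfsg.IsClassFunction G χ →
      (∀ a : L, (a : G) ∈ A → ψ a = (Nat.card (H a) : ℂ)⁻¹ * ∑ᶠ u ∈ (H a : Set G), χ (a * u)) →
      Cfsg.classInner (Cfsg.dadeIsometry A L H α) χ = Cfsg.classInner α ψ := by
    intro χ ψ hχ hψ
    let P : L → G → Prop := fun a z => (a : G) ∈ A ∧ (a : G)⁻¹ * z ∈ H a
    let w : L → ℂ := fun a => α a * (Nat.card (H a) : ℂ)⁻¹
    let F : G → ℂ := fun z => (starRingEnd ℂ) (χ z)
    have hF : ∀ x z : G, F (x * z * x⁻¹) = F z := fun x z => by simp only [F, hχ z x]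
    -- the sum over conjugators of the weights
    have hN : ∀ g : G, ∑ x : G, ∑ a : L, (if P a (x * g * x⁻¹) then w a else 0) =
        (Nat.card L : ℂ) * Cfsg.dadeIsometry A L H α g := by
      intro g
      by_cases h : ∃ a : ↥L, (a : G) ∈ A ∧ ∃ x : G, ∃ u ∈ H (a : G), x * g * x⁻¹ = (a : G) * u
      · obtain ⟨ha₀, x₀, u₀, hu₀, hx₀⟩ := Classical.choose_spec h
        set a₀ := Classical.choose h with ha₀def
        have hd : Cfsg.dadeIsometry A L H α g = α a₀ := by
          simp only [Cfsg.dadeIsometry, dif_pos h, ha₀def]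
        have hw : ∀ (a : L) (x : G), P a (x * g * x⁻¹) → w a = w a₀ := by
          intro a x hax
          have he : (x * x₀⁻¹) * ((a₀ : G) * u₀) * (x * x₀⁻¹)⁻¹ =
              (a : G) * ((a : G)⁻¹ * (x * g * x⁻¹)) := by
            rw [← hx₀]; group
          have hc := Cfsg.Agent.H42.dade_conj_eq_of_coset hD ha₀ hax.1 hu₀ hax.2 he
          obtain ⟨l, hl, hla⟩ := hD.fusion a₀ ha₀ (x * x₀⁻¹) (hc.symm ▸ hax.1)
          have hla' : l * (a₀ : G) * l⁻¹ = a := hla.trans hc
          have h1 : α a = α a₀ := by
            rw [← hα a₀ ⟨l, hl⟩]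
            exact congrArg α (Subtype.ext (by push_cast; exact hla'.symm))
          have h2 : Nat.card (H a) = Nat.card (H a₀) := by
            rw [← hla', Cfsg.Agent.H42.dade_conj_H hD ha₀ hl]
            exact Subgroup.card_map_of_injective (MulAut.conj l).injective
          simp only [w, h1, h2]
        have huniq : ∀ x : G, ∑ a : L, (if P a (x * g * x⁻¹) then w a else 0) =
            if (∃ a ∈ A, a⁻¹ * (x * g * x⁻¹) ∈ H a) then w a₀ else 0 := by
          intro x
          split_ifs with hx
          · obtain ⟨a, ha, hav⟩ := hx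
            rw [Finset.sum_eq_single (⟨a, hD.subset ha⟩ : L), if_pos ⟨ha, hav⟩]
            · exact hw _ x ⟨ha, hav⟩
            · intro b _ hne
              rw [if_neg]
              intro hb
              apply hne
              have := Cfsg.Agent.H42.dade_conj_eq_of_coset hD (g := 1) hb.1 ha hb.2 hav
                (by group)
              exact Subtype.ext (by simpa using this)
            · exact fun h => absurd (Finset.mem_univ _) h
          · exact Finset.sum_eq_zero fun a _ => if_neg fun ha => hx ⟨a, ha.1, ha.2⟩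
        simp only [huniq]
        rw [← Finset.sum_filter, Finset.sum_const, ← Fintype.card_subtype, hd, nsmul_eq_mul,
          ← Nat.card_eq_fintype_card, Cfsg.Agent.H42.dade_conjugators hD ha₀ hu₀ hx₀]
        have hne : (Nat.card (H a₀) : ℂ) ≠ 0 := Nat.cast_ne_zero.mpr Nat.card_pos.ne'
        simp only [w]; push_cast; field_simp
      · have hd : Cfsg.dadeIsometry A L H α g = 0 := by simp only [Cfsg.dadeIsometry, dif_neg h]
        rw [hd, mul_zero]
        refine Finset.sum_eq_zero fun x _ => Finset.sum_eq_zero fun a _ => if_neg fun ha => h ?_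
        exact ⟨a, ha.1, x, _, ha.2, by group⟩
    -- for fixed a and x, the sum over g
    have hS : ∀ (a : L) (x : G), (a : G) ∈ A →
        ∑ g : G, (if P a (x * g * x⁻¹) then w a else 0) * F g =
          α a * (starRingEnd ℂ) (ψ a) := by
      intro a x ha
      calc ∑ g : G, (if P a (x * g * x⁻¹) then w a else 0) * F g
          = ∑ z : G, (if P a z then w a else 0) * F z :=
            Fintype.sum_equiv (MulAut.conj x).toEquiv _ _ (fun g => by
              show _ = (if P a (x * g * x⁻¹) then w a else 0) * F (x * g * x⁻¹)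
              rw [hF x g])
        _ = ∑ u : G, (if u ∈ H a then w a else 0) * F ((a : G) * u) :=
            (Fintype.sum_equiv (Equiv.mulLeft (a : G)) _ _ (fun u => by simp [P, ha])).symm
        _ = w a * (starRingEnd ℂ) (∑ u : G, if u ∈ H a then χ ((a : G) * u) else 0) := by
            rw [map_sum, Finset.mul_sum]
            refine Finset.sum_congr rfl fun u _ => ?_
            split_ifs <;> simp [F]
        _ = α a * (starRingEnd ℂ) (ψ a) := by
            rw [hψ a ha, map_mul, map_inv₀, map_natCast,
              finsum_mem_eq_finite_toFinset_sum _ (Set.toFinite _), ← Finset.sum_filter]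
            simp only [w]
            rw [mul_assoc]
            congr 4
            ext u; simp
    have hS0 : ∀ (a : L) (x : G), ∑ g : G, (if P a (x * g * x⁻¹) then w a else 0) * F g =
          α a * (starRingEnd ℂ) (ψ a) := by
      intro a x
      by_cases ha : (a : G) ∈ A
      · exact hS a x ha
      · simp [P, ha, hαA a ha]
    have key : (Nat.card L : ℂ) * ∑ g : G, Cfsg.dadeIsometry A L H α g * F g =
        (Nat.card G : ℂ) * ∑ a : L, α a * (starRingEnd ℂ) (ψ a) := by
      calc (Nat.card L : ℂ) * ∑ g : G, Cfsg.dadeIsometry A L H α g * F g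
          = ∑ g : G, ∑ x : G, ∑ a : L, (if P a (x * g * x⁻¹) then w a else 0) * F g := by
            rw [Finset.mul_sum]
            refine Finset.sum_congr rfl fun g _ => ?_
            rw [← mul_assoc, ← hN g, Finset.sum_mul]
            exact Finset.sum_congr rfl fun x _ => Finset.sum_mul _ _ _
        _ = ∑ x : G, ∑ a : L, ∑ g : G, (if P a (x * g * x⁻¹) then w a else 0) * F g := by
            rw [Finset.sum_comm]
            exact Finset.sum_congr rfl fun x _ => Finset.sum_comm
        _ = ∑ _x : G, ∑ a : L, α a * (starRingEnd ℂ) (ψ a) := by simp only [hS0]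
        _ = _ := by rw [Finset.sum_const, Finset.card_univ, nsmul_eq_mul, Nat.card_eq_fintype_card]
    have hL : (Nat.card L : ℂ) ≠ 0 := Nat.cast_ne_zero.mpr Nat.card_pos.ne'
    have hG : (Nat.card G : ℂ) ≠ 0 := Nat.cast_ne_zero.mpr Nat.card_pos.ne'
    show (Nat.card G : ℂ)⁻¹ * ∑ g : G, Cfsg.dadeIsometry A L H α g * F g =
      (Nat.card L : ℂ)⁻¹ * ∑ a : L, α a * (starRingEnd ℂ) (ψ a)
    field_simp
    linear_combination key
  refine ⟨fun β hβ hβA => main _ β ?_ ?_, main⟩
  · -- the Dade image is a class function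
    intro g y
    simp only [Cfsg.dadeIsometry]
    split_ifs with h1 h2 h2
    · obtain ⟨ha, x, u, hu, hx⟩ := Classical.choose_spec h1
      obtain ⟨hb, x', v, hv, hx'⟩ := Classical.choose_spec h2
      set a := Classical.choose h1
      set b := Classical.choose h2
      have he : (x' * y⁻¹ * x⁻¹) * ((a : G) * u) * (x' * y⁻¹ * x⁻¹)⁻¹ = (b : G) * v := by
        rw [← hx, ← hx']; group
      have hc := Cfsg.Agent.H42.dade_conj_eq_of_coset hD ha hb hu hv he
      obtain ⟨l, hl, hla⟩ := hD.fusion a ha _ (hc.symm ▸ hb)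
      rw [← hβ a ⟨l, hl⟩]
      exact congrArg β (Subtype.ext (by push_cast; exact hla.trans hc))
    · obtain ⟨a, ha, x, u, hu, hx⟩ := h1
      exact absurd ⟨a, ha, x * y, u, hu, by rw [← hx]; group⟩ h2
    · obtain ⟨a, ha, x, u, hu, hx⟩ := h2
      exact absurd ⟨a, ha, x * y⁻¹, u, hu, by rw [← hx]; group⟩ h1
    · rfl
  · intro a ha
    have hval : ∀ u ∈ (H a : Set G), Cfsg.dadeIsometry A L H β ((a : G) * u) = β a := by
      intro u hu
      have h : ∃ b : ↥L, (b : G) ∈ A ∧ ∃ x : G, ∃ v ∈ H (b : G), x * ((a : G) * u) * x⁻¹ = (b : G) * v :=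
        ⟨a, ha, 1, u, hu, by group⟩
      simp only [Cfsg.dadeIsometry, dif_pos h]
      obtain ⟨hb, x, v, hv, hx⟩ := Classical.choose_spec h
      set b := Classical.choose h
      have hc := Cfsg.Agent.H42.dade_conj_eq_of_coset hD ha hb hu hv hx
      obtain ⟨l, hl, hla⟩ := hD.fusion a ha _ (hc.symm ▸ hb)
      rw [← hβ a ⟨l, hl⟩]
      exact congrArg β (Subtype.ext (by push_cast; exact (hla.trans hc).symm))
    rw [finsum_mem_congr rfl hval, finsum_mem_eq_finite_toFinset_sum _ (Set.toFinite _),
      Finset.sum_const, nsmul_eq_mul, ← Nat.card_eq_card_finite_toFinset, ← mul_assoc]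
    simp only [SetLike.coe_sort_coe]
    rw [
      inv_mul_cancel₀ (Nat.cast_ne_zero.mpr (Nat.card_pos (α := H (a : G))).ne'), one_mul]

end Cfsg.Agent.S1500
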