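import Cfsg.Statements.S1525
import Mathlib
import Cfsg.Agent.H43.Dade

set_option autoImplicit false
open Cfsg

namespace Cfsg.Agent.S1525

/-- Under the Dade hypothesis for (A, L, H), let χ be a class function of G and let ψ be a function on L whose value at each a ∈ A is the average of χ over the coset a·H(a). Then (1/|G|) Σ |χ g|² over the elements g of G conjugate into some coset a·H(a) with a ∈ A is at least (1/|L|) Σ_{a ∈ A ∩ L} |ψ a|². -/
theorem result {G : Type*} [Group G] [Fintype G] (A : Set G) (L : Subgroup G) [Fintype L] (H : G → Subgroup G) (hD : Cfsg.DadeHypothesis A L H) (χ : G → ℂ) (hχ : Cfsg.IsClassFunction G χ) (ψ : L → ℂ) (hψ : ∀ a : L, (a : G) ∈ A → ψ a = (Nat.card (H a) : ℂ)⁻¹ * ∑ᶠ u ∈ (H a : Set G), χ (a * u)) : (Nat.card L : ℝ)⁻¹ * ∑ᶠ a ∈ {a : L | (a : G) ∈ A}, ‖ψ a‖ ^ 2 ≤ (Nat.card G : ℝ)⁻¹ * ∑ᶠ g ∈ {g : G | ∃ a ∈ A, ∃ u ∈ H a, ∃ x : G, x * g * x⁻¹ = a * u}, ‖χ g‖ ^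 2 := by
  classical
  set As := Finset.univ.filter (· ∈ A) with hAs
  have hsum := Cfsg.Agent.H43.dade_sum hD (fun g => ‖χ g‖ ^ 2)
    (fun g h => by show ‖χ (h * g * h⁻¹)‖ ^ 2 = ‖χ g‖ ^ 2; rw [hχ g h])
  have hR : ∑ᶠ g ∈ {g : G | ∃ a ∈ A, ∃ u ∈ H a, ∃ x : G, x * g * x⁻¹ = a * u}, ‖χ g‖ ^ 2
      = ∑ g ∈ Finset.univ.filter (· ∈ Cfsg.Agent.H43.dadeSupp A H), ‖χ g‖ ^ 2 :=
    (finsum_mem_eq_toFinset_sum _ _).trans (Finset.sum_congr (Finset.ext fun g => by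
      rw [Set.mem_toFinset, Finset.mem_filter]; simp only [Finset.mem_univ, true_and]; rfl) fun _ _ => rfl)
  have hLsum : ∑ᶠ a ∈ {a : L | (a : G) ∈ A}, ‖ψ a‖ ^ 2
      ≤ ∑ a ∈ As, (Nat.card (H a) : ℝ)⁻¹ *
          ∑ u ∈ Finset.univ.filter (· ∈ H a), ‖χ (a * u)‖ ^ 2 := by
    rw [finsum_mem_eq_sum_of_inter_support_eq _
      (show {a : L | (a : G) ∈ A} ∩ _ = ↑(Finset.univ.filter fun a : L => (a : G) ∈ A) ∩ _ by simp)]
    have himg : As = (Finset.univ.filter fun a : L => (a : G) ∈ A).map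
        ⟨Subtype.val, Subtype.val_injective⟩ := by
      ext a
      simp only [hAs, Finset.mem_filter, Finset.mem_univ, true_and, Finset.mem_map,
        Function.Embedding.coeFn_mk, Subtype.exists]
      exact ⟨fun h => ⟨a, hD.subset h, h, rfl⟩, by rintro ⟨b, hb, h, rfl⟩; exact h⟩
    rw [himg, Finset.sum_map]
    refine Finset.sum_le_sum fun a ha => ?_
    simp only [Function.Embedding.coeFn_mk]
    rw [hψ a (Finset.mem_filter.mp ha).2,
      finsum_mem_eq_sum_of_inter_support_eq _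
        (show (H (a : G) : Set G) ∩ _ = ↑(Finset.univ.filter (· ∈ H (a : G))) ∩ _ by
          simp [Finset.coe_filter]),
      norm_mul, norm_inv, Complex.norm_natCast, mul_pow]
    set s := Finset.univ.filter (· ∈ H (a : G)) with hs
    have hc : (s.card : ℝ) = Nat.card (H (a : G)) := by
      rw [hs, ← Fintype.card_subtype, ← Nat.card_eq_fintype_card]
    have h1 : ‖∑ u ∈ s, χ ((a : G) * u)‖ ^ 2
        ≤ (Nat.card (H (a : G)) : ℝ) * ∑ u ∈ s, ‖χ ((a : G) * u)‖ ^ 2 := by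
      rw [← hc]
      exact le_trans (pow_le_pow_left₀ (norm_nonneg _) (norm_sum_le _ _) 2) sq_sum_le_card_mul_sum_sq
    have hpos : (0 : ℝ) < Nat.card (H (a : G)) := by exact_mod_cast Nat.card_pos
    calc ((Nat.card (H (a : G)) : ℝ)⁻¹) ^ 2 * ‖∑ u ∈ s, χ ((a : G) * u)‖ ^ 2
        ≤ ((Nat.card (H (a : G)) : ℝ)⁻¹) ^ 2 *
          ((Nat.card (H (a : G)) : ℝ) * ∑ u ∈ s, ‖χ ((a : G) * u)‖ ^ 2) :=
            mul_le_mul_of_nonneg_left h1 (sq_nonneg _)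
      _ = _ := by field_simp
  rw [hR]
  have hGpos : (0 : ℝ) < Nat.card G := by exact_mod_cast Nat.card_pos
  have hLpos : (0 : ℝ) < Nat.card L := by exact_mod_cast Nat.card_pos
  rw [inv_mul_le_iff₀ hLpos, ← mul_assoc, mul_comm (Nat.card L : ℝ), mul_assoc, hsum, ← mul_assoc,
    inv_mul_cancel₀ hGpos.ne', one_mul]
  exact hLsum

end Cfsg.Agent.S1525
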