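import Cfsg.Statements.S1470
import Mathlib

set_option autoImplicit false
open Cfsg

namespace Cfsg.Agent.S1470

/-- Let p and q be odd primes with (p^q − 1)/(p − 1) coprime to p − 1, and let E be the set of elements a of the field with p ^ q elements whose norm to the prime field is 1 and for which 2 − a also has norm 1. If a⁻¹ ∈ E for every a ∈ E and E has at least two elements, then p ≤ q. -/
theorem result (p q : ℕ) [Fact p.Prime] [Fact q.Prime] (hp : p ≠ 2) (hq : q ≠ 2) (hA : Nat.Coprime ((p ^ q - 1) / (p - 1)) (p - 1))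
    (hinv : ∀ a ∈ {a : GaloisField p q | Algebra.norm (ZMod p) a = 1 ∧ Algebra.norm (ZMod p) (2 - a) = 1}, a⁻¹ ∈ {a : GaloisField p q | Algebra.norm (ZMod p) a = 1 ∧ Algebra.norm (ZMod p) (2 - a) = 1})
    (h2 : 2 ≤ Set.ncard {a : GaloisField p q | Algebra.norm (ZMod p) a = 1 ∧ Algebra.norm (ZMod p) (2 - a) = 1}) :
    p ≤ q := by
  classical
  let N : GaloisField p q → ZMod p := fun x => Algebra.norm (ZMod p) x
  have hN0 : ∀ x, N x = 1 → x ≠ 0 := fun x hx h => by simp [N, h] at hx
  set E := {a : GaloisField p q | Algebra.norm (ZMod p) a = 1 ∧ Algebra.norm (ZMod p) (2 - a) = 1} with hE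
  obtain ⟨a, haE, ha1⟩ : ∃ a ∈ E, a ≠ 1 := by
    by_contra hcon
    push_neg at hcon
    have := Set.ncard_le_ncard (t := {(1 : GaloisField p q)}) (fun x hx => hcon x hx) (Set.toFinite _)
    rw [Set.ncard_singleton] at this
    omega
  set b := 1 - a with hb
  have hb0 : b ≠ 0 := sub_ne_zero.mpr (Ne.symm ha1)
  let c : ℕ → GaloisField p q := fun k => 1 + (k : GaloisField p q) * b
  have hc : ∀ k, N (c k) = 1 ∧ N (c (k + 1)) = 1 ∧ c k / c (k + 1) ∈ E := by
    intro k
    induction k with
    | zero =>
      have h1 : c 1 = 2 - a := by simp [c, b]; ring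
      have h0 : c 0 = 1 := by simp [c]
      refine ⟨by simp [N, h0], by rw [zero_add, h1]; exact haE.2, ?_⟩
      rw [zero_add, h0, one_div, h1]
      exact hinv _ ⟨haE.2, by rw [sub_sub_cancel]; exact haE.1⟩
    | succ k ih =>
      have hne := hN0 _ ih.2.1
      have h2 : 2 - c k / c (k + 1) = c (k + 2) / c (k + 1) := by
        rw [sub_eq_iff_eq_add, ← add_div, eq_div_iff hne]
        simp only [c]; push_cast; ring
      have hd : N (c (k + 2) / c (k + 1)) = 1 := by rw [← h2]; exact ih.2.2.2
      have hd' : N (c (k + 2)) = 1 := by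
        have h3 : c (k + 2) = (c (k + 2) / c (k + 1)) * c (k + 1) := (div_mul_cancel₀ _ hne).symm
        rw [h3]
        simp only [N, map_mul] at hd ⊢
        rw [hd, one_mul]
        exact ih.2.1
      refine ⟨ih.2.1, hd', ?_⟩
      have h4 : c (k + 2) / c (k + 1) ∈ E := ⟨hd, by rw [← h2, sub_sub_cancel]; exact ih.2.2.1⟩
      have h5 := hinv _ h4
      rwa [inv_div] at h5
  -- a polynomial of degree at most `q` with `p` roots
  let P : Polynomial (GaloisField p q) :=
    (∏ i ∈ Finset.range q, (Polynomial.C (b ^ p ^ i) * Polynomial.X + 1)) - 1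
  have hfr : Module.finrank (ZMod p) (GaloisField p q) = q :=
    GaloisField.finrank p (Fact.out : q.Prime).ne_zero
  haveI : CharP (GaloisField p q) p := inferInstance
  have hroot : ∀ k : ℕ, P.eval (k : GaloisField p q) = 0 := by
    intro k
    have h := congrArg (algebraMap (ZMod p) (GaloisField p q)) (hc k).1
    simp only [N] at h
    rw [FiniteField.algebraMap_norm_eq_prod_pow, hfr, Nat.card_zmod, map_one] at h
    have hk : ∀ i : ℕ, (k : GaloisField p q) ^ p ^ i = k := by
      intro i
      induction i with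
      | zero => simp
      | succ i ih =>
        rw [pow_succ, pow_mul, ih]
        have := map_natCast (frobenius (GaloisField p q) p) k
        rwa [frobenius_def] at this
    simp only [P, Polynomial.eval_sub, Polynomial.eval_prod, Polynomial.eval_add, Polynomial.eval_mul,
      Polynomial.eval_C, Polynomial.eval_X, Polynomial.eval_one, sub_eq_zero]
    refine Eq.trans (Finset.prod_congr rfl fun i _ => ?_) h
    simp only [c]
    rw [add_pow_char_pow, one_pow, mul_pow, hk i]
    ring
  have hlin : ∀ i : ℕ, (Polynomial.C (b ^ p ^ i) * Polynomial.X + 1).natDegree = 1 := fun i => by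
    rw [← Polynomial.C_1]; exact Polynomial.natDegree_linear (pow_ne_zero _ hb0)
  have hdeg : (∏ i ∈ Finset.range q, (Polynomial.C (b ^ p ^ i) * Polynomial.X + 1)).natDegree = q := by
    rw [Polynomial.natDegree_prod _ _ (fun i _ h => by have := hlin i; rw [h] at this; simp at this),
      Finset.sum_congr rfl (fun i _ => hlin i)]
    simp
  have hq0 : q ≠ 0 := (Fact.out : q.Prime).ne_zero
  have hPdeg : P.natDegree = q := by
    simp only [P, ← Polynomial.C_1, Polynomial.natDegree_sub_C] at hdeg ⊢
    exact hdeg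
  by_contra hlt
  push_neg at hlt
  have hinj : Set.InjOn (fun k : ℕ => (k : GaloisField p q)) (Finset.range p : Set ℕ) := by
    intro i hi j hj h
    simp only [Finset.coe_range, Set.mem_Iio] at hi hj
    exact Nat.ModEq.eq_of_lt_of_lt ((CharP.natCast_eq_natCast (GaloisField p q) p).mp h) hi hj
  have hP0 : P = 0 := Polynomial.eq_zero_of_natDegree_lt_card_of_eval_eq_zero' P
    ((Finset.range p).image fun k : ℕ => (k : GaloisField p q))
    (fun x hx => by
      obtain ⟨k, -, rfl⟩ := Finset.mem_image.mp hx
      exact hroot k)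
    (by rw [Finset.card_image_of_injOn hinj, Finset.card_range, hPdeg]; exact hlt)
  rw [hP0, Polynomial.natDegree_zero] at hPdeg
  exact hq0 hPdeg.symm

end Cfsg.Agent.S1470
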