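import Cfsg.Statements.S1471
import Mathlib
import Cfsg.Agent.H42.NormPair

set_option autoImplicit false
open Cfsg

namespace Cfsg.Agent.S1471

/-- Let p and q be odd primes with (p^q − 1)/(p − 1) coprime to p − 1. Then there are at least two elements a of the field with p ^ q elements such that both a and 2 − a have norm 1 to the prime field. -/
theorem result (p q : ℕ) [Fact p.Prime] [Fact q.Prime] (hp : p ≠ 2) (hq : q ≠ 2) (hA : Nat.Coprime ((p ^ q - 1) / (p - 1)) (p - 1)) :
    2 ≤ Set.ncard {a : GaloisField p q | Algebra.norm (ZMod p) a = 1 ∧ Algebra.norm (ZMod p) (2 - a) = 1} := by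
  classical
  have hpr : p.Prime := Fact.out
  have hqr : q.Prime := Fact.out
  have hp3 : 3 ≤ p := lt_of_le_of_ne hpr.two_le (Ne.symm hp)
  have hone : (1 : GaloisField p q) ∈
      {a : GaloisField p q | Algebra.norm (ZMod p) a = 1 ∧ Algebra.norm (ZMod p) (2 - a) = 1} := by
    refine ⟨map_one _, ?_⟩
    rw [show (2 : GaloisField p q) - 1 = 1 by norm_num]; exact map_one _
  suffices h : ∃ a : GaloisField p q, a ≠ 1 ∧ Algebra.norm (ZMod p) a = 1 ∧
      Algebra.norm (ZMod p) (2 - a) = 1 by
    obtain ⟨a, ha, h1, h2⟩ := h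
    have hsub : ({1, a} : Set (GaloisField p q)) ⊆
        {a : GaloisField p q | Algebra.norm (ZMod p) a = 1 ∧ Algebra.norm (ZMod p) (2 - a) = 1} := by
      rintro x (rfl | rfl)
      exacts [hone, ⟨h1, h2⟩]
    have := Set.ncard_le_ncard hsub (Set.toFinite _)
    rwa [Set.ncard_pair (Ne.symm ha)] at this
  rcases eq_or_ne q 3 with rfl | hq3
  · exact Cfsg.Agent.H42.exists_norm_pair_cube p hp
  · exact Cfsg.Agent.H42.exists_norm_pair_large p q hp3 (by
      rcases hqr.eq_two_or_odd with h | h
      · exact absurd h hq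
      · have := hqr.two_le; omega)

end Cfsg.Agent.S1471
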