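import Cfsg.Statements.S1472
import Cfsg.Agent.OddOrder.AppendixC.Translations
import Cfsg.Agent.S1470
import Cfsg.Agent.S1471
-- import your own Cfsg.Agent.* helpers here

set_option autoImplicit false
open Cfsg

namespace Cfsg.Agent.S1472

/-- Let p, q be primes with (p^q − 1)/(p − 1) coprime to p − 1, G a finite group, F a field with p ^ q elements, and P, U, Q subgroups of G with: f : G → F bijective from P onto F and additive on P; U normalizing P and acting through ψ : G → F, injective and multiplicative on U with ψ(u) ≠ 0 and f(uxu⁻¹) = ψ(u) f(x); #U · (p − 1) = p^q − 1; Q abelian of order coprime to p, normalized by every x ∈ P with f(x) in the prime field; and some y ∈ Q such that y x y⁻¹ normalizes U for every such x. Then p ≤ q. -/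
theorem result {G : Type*} [Group G] [Finite G] (p q : ℕ) [Fact p.Prime] [Fact q.Prime] (hA : Nat.Coprime ((p ^ q - 1) / (p - 1)) (p - 1))
    (F : Type*) [Field F] [Fintype F] (hF : Fintype.card F = p ^ q) (P U Q : Subgroup G) (f ψ : G → F)
    (hf : Set.BijOn f (P : Set G) Set.univ) (hfadd : ∀ x ∈ P, ∀ z ∈ P, f (x * z) = f x + f z)
    (hUP : U ≤ Subgroup.normalizer (P : Set G)) (hψ : ∀ u ∈ U, ψ u ≠ 0 ∧ ∀ x ∈ P, f (u * x * u⁻¹) = ψ u * f x)
    (hψmul : ∀ u ∈ U, ∀ v ∈ U, ψ (u * v) = ψ u * ψ v) (hψinj : Set.InjOn ψ (U : Set G)) (hUcard : Nat.card U * (p - 1) = p ^ q - 1)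
    (hQ : IsMulCommutative Q) (hQp : (Nat.card Q).Coprime p) (hP0Q : ∀ x ∈ P, f x ^ p = f x → x ∈ Subgroup.normalizer (Q : Set G))
    (y : G) (hy : y ∈ Q) (hP0U : ∀ x ∈ P, f x ^ p = f x → y * x * y⁻¹ ∈ Subgroup.normalizer (U : Set G)) :
    p ≤ q := by
  classical
  have hp : p.Prime := Fact.out
  have hq : q.Prime := Fact.out
  rcases eq_or_ne p 2 with rfl | hp2
  · exact hq.two_le
  have hp3 : 3 ≤ p := lt_of_le_of_ne hp.two_le (Ne.symm hp2)
  rcases eq_or_ne q 2 with rfl | hq2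
  · exfalso
    have h1 : (p ^ 2 - 1) / (p - 1) = p + 1 := by
      have h0 : p ^ 2 - 1 = (p + 1) * (p - 1) := by simpa using Nat.sq_sub_sq p 1
      rw [h0, Nat.mul_div_cancel _ (by omega)]
    rw [h1] at hA
    obtain ⟨k, hk⟩ := hp.odd_of_ne_two hp2
    have := Nat.dvd_gcd (show 2 ∣ p + 1 by omega) (show 2 ∣ p - 1 by omega)
    rw [hA] at this
    omega
  have hFc : Nat.card F = p ^ q := by rw [Nat.card_eq_fintype_card, hF]
  have : CharP F p := charP_of_card_eq_prime_pow hF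
  have hN : (p ^ q - 1) / (p - 1) = Nat.card U := by
    rw [← hUcard, Nat.mul_div_cancel _ (by omega)]
  let S : Cfsg.Agent.OddOrder.AppendixC.Config G F p q :=
    { P := P, U := U, Q := Q, f := f, ψ := ψ, y := y, hf := hf, hfadd := hfadd, hUP := hUP,
      hψ := hψ, hψmul := hψmul, hψinj := hψinj, hUcard := hUcard, hA := hN ▸ hA, hF := hFc,
      hp3 := hp3, hq := hq.two_le, hQ := hQ, hQp := hQp, hP0Q := hP0Q, hy := hy, hP0U := hP0U }
  refine Cfsg.Agent.S1470.result p q hp2 hq2 hA ?_ (Cfsg.Agent.S1471.result p q hp2 hq2 hA)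
  let _ : Fintype (GaloisField p q) := Fintype.ofFinite _
  let e : F ≃+* GaloisField p q := FiniteField.ringEquivOfCardEq (by
    rw [hF, ← Nat.card_eq_fintype_card, GaloisField.card p q hq.ne_zero])
  have hnorm : ∀ a : GaloisField p q,
      Algebra.norm (ZMod p) a = 1 ↔ a ^ Nat.card U = 1 := by
    intro a
    rw [← (algebraMap (ZMod p) (GaloisField p q)).injective.eq_iff,
      FiniteField.algebraMap_norm_eq_pow, map_one, GaloisField.card p q hq.ne_zero, Nat.card_zmod,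
      hN]
  rintro a ⟨ha1, ha2⟩
  rw [hnorm] at ha1 ha2
  obtain ⟨v, hv, hve⟩ := S.exists_ψ (w := e.symm a) (by
    show e.symm a ^ Nat.card U = 1
    rw [← map_pow, ha1, map_one])
  obtain ⟨u, hu, hue⟩ := S.exists_ψ (w := e.symm (2 - a)) (by
    show e.symm (2 - a) ^ Nat.card U = 1
    rw [← map_pow, ha2, map_one])
  obtain ⟨hv', u', hu', h⟩ := S.E_inv (v := v) ⟨hv, u, hu, by
    rw [hue, hve, ← map_add, sub_add_cancel, map_ofNat]⟩
  have h1 : a⁻¹ = e (ψ v⁻¹) := by
    rw [show ψ v⁻¹ = S.ψ v⁻¹ from rfl, S.ψ_inv hv, hve, map_inv₀, e.apply_symm_apply]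
  have h2 : 2 - a⁻¹ = e (ψ u') := by
    rw [h1, sub_eq_iff_eq_add, ← map_add, show ψ u' + ψ v⁻¹ = 2 from h, map_ofNat]
  refine ⟨(hnorm _).mpr ?_, (hnorm _).mpr ?_⟩
  · rw [h1, ← map_pow, show ψ v⁻¹ ^ Nat.card U = 1 from S.ψ_pow_card (u := v⁻¹) hv', map_one]
  · rw [h2, ← map_pow, show ψ u' ^ Nat.card U = 1 from S.ψ_pow_card hu', map_one]

end Cfsg.Agent.S1472
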