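import Cfsg.Statements.S1507
import Cfsg.Agent.H43.CyclicTI

set_option autoImplicit false
open Cfsg

namespace Cfsg.Agent.S1507

theorem hom_card (W : Type*) [Group W] [Finite W] (hc : IsCyclic W) :
    Nat.card (W →* ℂˣ) = Nat.card W := by
  letI : CommGroup W := hc.commGroup
  haveI : NeZero (Monoid.exponent W : ℂ) := ⟨Nat.cast_ne_zero.mpr Monoid.exponent_ne_zero_of_finite⟩
  exact CommGroup.card_monoidHom_of_hasEnoughRootsOfUnity W ℂ

theorem isCyclic_of_le {G : Type*} [Group G] {H K : Subgroup G} (h : H ≤ K) (hc : IsCyclic ↥K) :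
    IsCyclic ↥H := by
  haveI := hc
  exact isCyclic_of_injective (Subgroup.inclusion h) (Subgroup.inclusion_injective h)

theorem card_sup {G : Type*} [Group G] [Finite G] {W₁ W₂ : Subgroup G}
    (hW : Cfsg.IsSelfNormalizingCyclic W₁ W₂) :
    Nat.card ↥(W₁ ⊔ W₂) = Nat.card W₁ * Nat.card W₂ := by
  rw [← Nat.card_prod]
  symm
  refine Nat.card_eq_of_bijective (fun p : ↥W₁ × ↥W₂ =>
    (⟨(p.1 : G) * p.2, mul_mem (Subgroup.mem_sup_left p.1.2) (Subgroup.mem_sup_right p.2.2)⟩ :
      ↥(W₁ ⊔ W₂))) ⟨?_, ?_⟩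
  · intro p q h
    have h' : (p.1 : G) * p.2 = q.1 * q.2 := congrArg Subtype.val h
    have h1 : (q.1 : G)⁻¹ * p.1 = q.2 * (p.2 : G)⁻¹ := by
      rw [eq_mul_inv_iff_mul_eq, mul_assoc, h', inv_mul_cancel_left]
    have h2 : (q.1 : G)⁻¹ * p.1 ∈ W₁ ⊓ W₂ :=
      Subgroup.mem_inf.mpr ⟨mul_mem (inv_mem q.1.2) p.1.2, h1 ▸ mul_mem q.2.2 (inv_mem p.2.2)⟩
    rw [hW.2.2.1, Subgroup.mem_bot, inv_mul_eq_one] at h2
    have e1 : p.1 = q.1 := Subtype.ext h2.symm
    rw [e1] at h'
    exact Prod.ext e1 (Subtype.ext (mul_left_cancel h'))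
  · intro w
    obtain ⟨a, b, ha, hb, rfl⟩ := H43.exists_mul_decomp hW w
    exact ⟨(⟨a, ha⟩, ⟨b, hb⟩), rfl⟩

open scoped Classical in
/-- A table `r i + c j` with few nonzero entries is supported on one row or one column. -/
theorem rc_cases {I J : Type*} [Finite I] [Finite J] {K : Type*} [Field K] (r : I → K) (c : J → K)
    (hI : 3 ≤ Nat.card I) (hJ : Nat.card I + 2 ≤ Nat.card J)
    (hfew : Nat.card {p : I × J // r p.1 + c p.2 ≠ 0} < 2 * Nat.card I) :
    (∀ i j, r i + c j = 0) ∨ (∃ j₀ a, ∀ i j, r i + c j = if j = j₀ then a else 0) ∨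
      (∃ i₀ a, ∀ i j, r i + c j = if i = i₀ then a else 0) := by
  haveI : Fintype I := Fintype.ofFinite I
  haveI : Fintype J := Fintype.ofFinite J
  simp only [Nat.card_eq_fintype_card, Fintype.card_subtype] at hfew hI hJ
  set S := Finset.univ.filter fun p : I × J => r p.1 + c p.2 ≠ 0
  obtain ⟨i₀, j₀, h0⟩ : ∃ i j, r i + c j = 0 := by
    by_contra hne
    push Not at hne
    have hS : S = Finset.univ := Finset.filter_true_of_mem fun p _ => hne p.1 p.2
    rw [hS, Finset.card_univ, Fintype.card_prod] at hfew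
    have : Fintype.card I * 5 ≤ Fintype.card I * Fintype.card J := Nat.mul_le_mul_left _ (by omega)
    omega
  set M := Finset.univ.filter fun i => r i ≠ r i₀ with hM
  set N := Finset.univ.filter fun j => c j ≠ c j₀ with hN
  have key : ∀ i j, r i + c j = (r i - r i₀) + (c j - c j₀) := fun i j => by linear_combination h0
  have hsub : M ×ˢ Nᶜ ∪ Mᶜ ×ˢ N ⊆ S := by
    intro p hp
    simp only [hM, hN, S, Finset.mem_union, Finset.mem_product, Finset.mem_compl, Finset.mem_filter,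
      Finset.mem_univ, true_and, not_not] at hp ⊢
    rw [key]
    rcases hp with ⟨h1, h2⟩ | ⟨h1, h2⟩
    · simpa [h2, sub_eq_zero] using h1
    · simpa [h1, sub_eq_zero] using h2
  have hdisj : Disjoint (M ×ˢ Nᶜ) (Mᶜ ×ˢ N) := by
    rw [Finset.disjoint_left]
    intro p h1 h2
    simp only [Finset.mem_product, Finset.mem_compl] at h1 h2
    exact h2.1 h1.1
  have hcard := Finset.card_le_card hsub
  rw [Finset.card_union_of_disjoint hdisj, Finset.card_product, Finset.card_product,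
    Finset.card_compl, Finset.card_compl] at hcard
  have hm : M.card ≤ Fintype.card I - 1 := by
    have : M ⊆ Finset.univ.erase i₀ := fun i hi => by
      rw [Finset.mem_erase]
      exact ⟨fun e => (Finset.mem_filter.mp hi).2 (by rw [e]), Finset.mem_univ _⟩
    simpa [Finset.card_erase_of_mem] using Finset.card_le_card this
  have hn : N.card ≤ Fintype.card J - 1 := by
    have : N ⊆ Finset.univ.erase j₀ := fun j hj => by
      rw [Finset.mem_erase]
      exact ⟨fun e => (Finset.mem_filter.mp hj).2 (by rw [e]), Finset.mem_univ _⟩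
    simpa [Finset.card_erase_of_mem] using Finset.card_le_card this
  rcases Nat.eq_zero_or_pos M.card with hM0 | hMp
  · have hr : ∀ i, r i = r i₀ := fun i => by
      by_contra h
      have : i ∈ M := by simp [hM, h]
      rw [Finset.card_eq_zero.mp hM0] at this
      exact absurd this (Finset.notMem_empty i)
    rcases Nat.eq_zero_or_pos N.card with hN0 | hNp
    · left
      intro i j
      have hc : c j = c j₀ := by
        by_contra h
        have : j ∈ N := by simp [hN, h]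
        rw [Finset.card_eq_zero.mp hN0] at this
        exact absurd this (Finset.notMem_empty j)
      rw [hr i, hc, h0]
    · have hN1 : N.card = 1 := by
        simp only [hM0, Nat.sub_zero, zero_mul, zero_add] at hcard
        by_contra h
        have : Fintype.card I * 2 ≤ Fintype.card I * N.card := Nat.mul_le_mul_left _ (by omega)
        omega
      obtain ⟨j₁, hj₁⟩ := Finset.card_eq_one.mp hN1
      right; left
      refine ⟨j₁, r i₀ + c j₁, fun i j => ?_⟩
      rw [hr i]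
      split_ifs with hj
      · rw [hj]
      · have : j ∉ N := by rw [hj₁]; simp [hj]
        simp only [hN, Finset.mem_filter, Finset.mem_univ, true_and, not_not] at this
        rw [this, h0]
  · rcases Nat.eq_zero_or_pos N.card with hN0 | hNp
    · have hc : ∀ j, c j = c j₀ := fun j => by
        by_contra h
        have : j ∈ N := by simp [hN, h]
        rw [Finset.card_eq_zero.mp hN0] at this
        exact absurd this (Finset.notMem_empty j)
      have hM1 : M.card = 1 := by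
        simp only [hN0, Nat.sub_zero, mul_zero, add_zero] at hcard
        by_contra h
        have : 2 * Fintype.card J ≤ M.card * Fintype.card J := Nat.mul_le_mul_right _ (by omega)
        omega
      obtain ⟨i₁, hi₁⟩ := Finset.card_eq_one.mp hM1
      right; right
      refine ⟨i₁, r i₁ + c j₀, fun i j => ?_⟩
      rw [hc j]
      split_ifs with hi
      · rw [hi]
      · have : i ∉ M := by rw [hi₁]; simp [hi]
        simp only [hM, Finset.mem_filter, Finset.mem_univ, true_and, not_not] at this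
        rw [this, h0]
    · exfalso
      obtain ⟨a, ha⟩ := Nat.exists_eq_add_of_le hMp
      obtain ⟨b, hb⟩ := Nat.exists_eq_add_of_le hNp
      obtain ⟨a', ha'⟩ := Nat.exists_eq_add_of_le (show M.card + 1 ≤ Fintype.card I by omega)
      obtain ⟨b', hb'⟩ := Nat.exists_eq_add_of_le (show N.card + 1 ≤ Fintype.card J by omega)
      rw [show Fintype.card I - M.card = a' + 1 by omega,
        show Fintype.card J - N.card = b' + 1 by omega] at hcard
      rw [ha, hb] at hcard
      nlinarith [Nat.zero_le (a * b'), Nat.zero_le (a' * b)]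


open Classical in
/-- Let W₁, W₂ ≤ G form a self-normalising cyclic subgroup W = W₁ ⊔ W₂ of odd order with Nat.card W₁ < Nat.card W₂, and χ an orthonormal family of irreducible characters of G up to sign, indexed by the linear characters ω of W, with χ_1 = 1, χ_ω = ω on W outside W₁ ∪ W₂, and the induction identity for (1 − φ)(1 − ψ). Let θ be a class function of G vanishing on W outside W₁ ∪ W₂, and suppose fewer than 2 · Nat.card W₁ linear characters ω of W have ⟨θ, χ ω⟩ ≠ 0. Then one of: all ⟨θ, χ ω⟩ vanish; or there are ψ₀ and a with ⟨θ, χ ω⟩ = a when ω ψ₀⁻¹ is trivial on W₂ and 0 otherwise; or there are φ₀ and a with ⟨θ, χ ω⟩ = a when ω φ₀⁻¹ is trivial on W₁ and 0 otherwise. -/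
theorem result {G : Type*} [Group G] [Fintype G] (W₁ W₂ : Subgroup G) (hW : Cfsg.IsSelfNormalizingCyclic W₁ W₂) (hodd : Odd (Nat.card ↥(W₁ ⊔ W₂))) (χ : (↥(W₁ ⊔ W₂) →* ℂˣ) → (G → ℂ)) (hχ : Cfsg.IsCyclicTIFamily W₁ W₂ χ) (hlt : Nat.card W₁ < Nat.card W₂) (θ : G → ℂ) (hθ : Cfsg.IsClassFunction G θ) (hθV : ∀ w : ↥(W₁ ⊔ W₂), (w : G) ∉ W₁ → (w : G) ∉ W₂ → θ w = 0) (hfew : Nat.card {ω : ↥(W₁ ⊔ W₂) →* ℂˣ // Cfsg.classInner θ (χ ω) ≠ 0} < 2 * Nat.card W₁) : (∀ ω, Cfsg.classInner θ (χ ω) = 0) ∨ (∃ (ψ₀ : ↥(W₁ ⊔ W₂) →* ℂˣ) (a : ℂ), ∀ ω, Cfsg.classInner θ (χ ω) = if (∀ w : ↥(W₁ ⊔ W₂), (w : G) ∈ W₂ → (ω * ψ₀⁻¹) w = 1) then a else 0) ∨ (∃ (φ₀ : ↥(W₁ ⊔ W₂) →* ℂˣ) (a : ℂ), ∀ ω, Cfsg.classInner θ (χ ω) = if (∀ w : ↥(W₁ ⊔ W₂), (w : G) ∈ W₁ → (ω * φ₀⁻¹) w = 1) then a else 0) := by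
  let P := {φ : ↥(W₁ ⊔ W₂) →* ℂˣ // H43.TrivR φ}
  let Q := {ψ : ↥(W₁ ⊔ W₂) →* ℂˣ // H43.TrivL ψ}
  haveI hcyc : IsCyclic ↥(W₁ ⊔ W₂) := hW.2.2.2.2.1
  haveI : Fintype P := Fintype.ofFinite _
  haveI : Fintype Q := Fintype.ofFinite _
  have hc : Nat.card P = Nat.card W₁ ∧ Nat.card Q = Nat.card W₂ := by
    have hbij : Function.Bijective (fun pq : P × Q => pq.1.1 * pq.2.1) := by
      constructor
      · intro a b h
        obtain ⟨h1, h2⟩ := H43.factor_unique hW a.1.2 b.1.2 a.2.2 b.2.2 h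
        exact Prod.ext (Subtype.ext h1) (Subtype.ext h2)
      · intro ω
        obtain ⟨φ, ψ, h1, h2, rfl⟩ := H43.exists_factor hW ω
        exact ⟨(⟨φ, h1⟩, ⟨ψ, h2⟩), rfl⟩
    have h := Nat.card_eq_of_bijective _ hbij
    rw [Nat.card_prod, hom_card _ hcyc, card_sup hW] at h
    have hle1 : Nat.card P ≤ Nat.card W₁ := by
      rw [← hom_card _ (isCyclic_of_le le_sup_left hcyc)]
      refine Nat.card_le_card_of_injective (fun φ : P => φ.1.comp (Subgroup.inclusion le_sup_left)) ?_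
      intro a b e
      exact Subtype.ext (H43.linear_ext hW (fun w hw => DFunLike.congr_fun e ⟨w, hw⟩)
        (fun w hw => by rw [a.2 w hw, b.2 w hw]))
    have hle2 : Nat.card Q ≤ Nat.card W₂ := by
      rw [← hom_card _ (isCyclic_of_le le_sup_right hcyc)]
      refine Nat.card_le_card_of_injective (fun ψ : Q => ψ.1.comp (Subgroup.inclusion le_sup_right)) ?_
      intro a b e
      exact Subtype.ext (H43.linear_ext hW (fun w hw => by rw [a.2 w hw, b.2 w hw])
        (fun w hw => DFunLike.congr_fun e ⟨w, hw⟩))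
    have hp1 : 0 < Nat.card W₁ := Nat.card_pos
    have hp2 : 0 < Nat.card W₂ := Nat.card_pos
    constructor
    · by_contra hne
      have : Nat.card P * Nat.card Q < Nat.card W₁ * Nat.card W₂ :=
        calc Nat.card P * Nat.card Q ≤ Nat.card P * Nat.card W₂ := Nat.mul_le_mul_left _ hle2
          _ < Nat.card W₁ * Nat.card W₂ := Nat.mul_lt_mul_of_pos_right (by omega) hp2
      omega
    · by_contra hne
      have : Nat.card P * Nat.card Q < Nat.card W₁ * Nat.card W₂ :=
        calc Nat.card P * Nat.card Q ≤ Nat.card W₁ * Nat.card Q := Nat.mul_le_mul_right _ hle1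
          _ < Nat.card W₁ * Nat.card W₂ := Nat.mul_lt_mul_of_pos_left (by omega) hp1
      omega
  let r : P → ℂ := fun φ => Cfsg.classInner θ (χ φ.1) - Cfsg.classInner θ (χ 1)
  let c : Q → ℂ := fun ψ => Cfsg.classInner θ (χ ψ.1)
  have hA : ∀ (φ : P) (ψ : Q), Cfsg.classInner θ (χ (φ.1 * ψ.1)) = r φ + c ψ := by
    intro φ ψ
    rw [H43.family_relation hW hχ θ hθ hθV φ.2 ψ.2]; ring
  have hcard := card_sup hW
  rw [hcard, Nat.odd_mul] at hodd
  have h3 : 3 ≤ Nat.card W₁ := by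
    have h1 : Nat.card W₁ ≠ 1 := fun e => hW.1 (Subgroup.card_eq_one.mp e)
    have := Nat.odd_iff.mp hodd.1
    omega
  have hfew' : Nat.card {p : P × Q // r p.1 + c p.2 ≠ 0} < 2 * Nat.card P := by
    rw [hc.1]
    refine lt_of_le_of_lt (Nat.card_le_card_of_injective
      (fun p => (⟨p.1.1.1 * p.1.2.1, by rw [hA]; exact p.2⟩ :
        {ω : ↥(W₁ ⊔ W₂) →* ℂˣ // Cfsg.classInner θ (χ ω) ≠ 0})) ?_) hfew
    intro a b e
    obtain ⟨h1, h2⟩ := H43.factor_unique hW a.1.1.2 b.1.1.2 a.1.2.2 b.1.2.2 (congrArg Subtype.val e)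
    exact Subtype.ext (Prod.ext (Subtype.ext h1) (Subtype.ext h2))
  have hI : 3 ≤ Nat.card P := by rw [hc.1]; exact h3
  have hJ : Nat.card P + 2 ≤ Nat.card Q := by
    rw [hc.1, hc.2]
    have := Nat.odd_iff.mp hodd.1
    have := Nat.odd_iff.mp hodd.2
    omega
  rcases rc_cases r c hI hJ hfew' with h | ⟨q, a, h⟩ | ⟨p, a, h⟩
  · left
    intro ω
    obtain ⟨φ, ψ, h1, h2, rfl⟩ := H43.exists_factor hW ω
    rw [hA ⟨φ, h1⟩ ⟨ψ, h2⟩, h]
  · right; left
    refine ⟨q.1, a, fun ω => ?_⟩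
    obtain ⟨φ, ψ, h1, h2, rfl⟩ := H43.exists_factor hW ω
    rw [hA ⟨φ, h1⟩ ⟨ψ, h2⟩, h]
    have hiff : (⟨ψ, h2⟩ : Q) = q ↔
        ∀ w : ↥(W₁ ⊔ W₂), (w : G) ∈ W₂ → (φ * ψ * q.1⁻¹) w = 1 := by
      constructor
      · intro e w hw
        rw [← e]
        simp [h1 w hw]
      · intro e
        refine Subtype.ext (H43.linear_ext hW (fun w hw => by rw [h2 w hw, q.2 w hw]) fun w hw => ?_)
        have := e w hw
        simp only [MonoidHom.mul_apply, MonoidHom.inv_apply, h1 w hw, one_mul] at this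
        exact mul_inv_eq_one.mp this
    simp only [hiff]
  · right; right
    refine ⟨p.1, a, fun ω => ?_⟩
    obtain ⟨φ, ψ, h1, h2, rfl⟩ := H43.exists_factor hW ω
    rw [hA ⟨φ, h1⟩ ⟨ψ, h2⟩, h]
    have hiff : (⟨φ, h1⟩ : P) = p ↔
        ∀ w : ↥(W₁ ⊔ W₂), (w : G) ∈ W₁ → (φ * ψ * p.1⁻¹) w = 1 := by
      constructor
      · intro e w hw
        rw [← e]
        simp [h2 w hw]
      · intro e
        refine Subtype.ext (H43.linear_ext hW (fun w hw => ?_) fun w hw => by rw [h1 w hw, p.2 w hw])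
        have := e w hw
        simp only [MonoidHom.mul_apply, MonoidHom.inv_apply, h2 w hw, mul_one] at this
        exact mul_inv_eq_one.mp this
    simp only [hiff]

end Cfsg.Agent.S1507
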