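import Cfsg.Statements.S1508
import Cfsg.Agent.H43.CyclicTI
import Cfsg.Agent.H43.Galois

set_option autoImplicit false
open Cfsg

namespace Cfsg.Agent.S1508

theorem linear_eq_on_V {G : Type*} [Group G] [Finite G] {W₁ W₂ : Subgroup G}
    (hW : Cfsg.IsSelfNormalizingCyclic W₁ W₂) (hodd : Odd (Nat.card ↥(W₁ ⊔ W₂)))
    (ω η : ↥(W₁ ⊔ W₂) →* ℂˣ) (s : ℂ) (hs : s = 1 ∨ s = -1)
    (h : ∀ w : ↥(W₁ ⊔ W₂), (w : G) ∉ W₁ → (w : G) ∉ W₂ → (η w : ℂ) = s * (ω w : ℂ)) :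
    s = 1 ∧ η = ω := by
  have hodd' : ∀ w : ↥(W₁ ⊔ W₂), w ≠ 1 → w * w ≠ 1 := by
    intro w hw hw2
    have ho : orderOf w ∣ 2 := orderOf_dvd_of_pow_eq_one (by rw [pow_two]; exact hw2)
    have hoo : Odd (orderOf w) := hodd.of_dvd_nat (orderOf_dvd_natCard w)
    rcases (Nat.dvd_prime Nat.prime_two).mp ho with h1 | h1
    · exact hw (orderOf_eq_one_iff.mp h1)
    · rw [h1] at hoo; exact absurd hoo (by decide)
  set ρ : ↥(W₁ ⊔ W₂) →* ℂˣ := η * ω⁻¹ with hρ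
  have hab : ∀ a b : ↥(W₁ ⊔ W₂), (a : G) ∈ W₁ → (b : G) ∈ W₂ → a ≠ 1 → b ≠ 1 →
      (ρ a : ℂ) * (ρ b : ℂ) = s := by
    intro a b ha hb ha1 hb1
    have hdis : ∀ x : G, x ∈ W₁ → x ∈ W₂ → x = 1 := fun x h1 h2 => by
      have h3 : x ∈ W₁ ⊓ W₂ := Subgroup.mem_inf.mpr ⟨h1, h2⟩
      rwa [hW.2.2.1, Subgroup.mem_bot] at h3
    have n1 : ((a * b : ↥(W₁ ⊔ W₂)) : G) ∉ W₁ := fun hh =>
      hb1 (Subtype.ext (hdis _ (by simpa using mul_mem (inv_mem ha) hh) hb))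
    have n2 : ((a * b : ↥(W₁ ⊔ W₂)) : G) ∉ W₂ := fun hh =>
      ha1 (Subtype.ext (hdis _ ha (by simpa using mul_mem hh (inv_mem hb))))
    have hv := h _ n1 n2
    rw [← Units.val_mul, ← map_mul, hρ, MonoidHom.mul_apply, MonoidHom.inv_apply, Units.val_mul,
      Units.val_inv_eq_inv_val, hv, mul_inv_cancel_right₀ (Units.ne_zero _)]
  obtain ⟨a₀, ha₀, ha₀1⟩ := W₁.bot_or_exists_ne_one.resolve_left hW.1
  obtain ⟨b₀, hb₀, hb₀1⟩ := W₂.bot_or_exists_ne_one.resolve_left hW.2.1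
  set A : ↥(W₁ ⊔ W₂) := ⟨a₀, Subgroup.mem_sup_left ha₀⟩ with hA
  set B : ↥(W₁ ⊔ W₂) := ⟨b₀, Subgroup.mem_sup_right hb₀⟩ with hB
  have hA1 : A ≠ 1 := fun e => ha₀1 (congrArg Subtype.val e)
  have hB1 : B ≠ 1 := fun e => hb₀1 (congrArg Subtype.val e)
  have hone₁ : ∀ a : ↥(W₁ ⊔ W₂), (a : G) ∈ W₁ → ρ a = 1 := by
    intro a ha
    by_cases ha1 : a = 1
    · rw [ha1, map_one]
    have e1 := hab a B ha hb₀ ha1 hB1
    have e2 := hab (a * a) B (mul_mem ha ha) hb₀ (hodd' a ha1) hB1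
    rw [map_mul, Units.val_mul, ← e1] at e2
    have e3 : (ρ a : ℂ) * (ρ a : ℂ) = (ρ a : ℂ) := mul_right_cancel₀ (Units.ne_zero _) e2
    exact Units.ext (mul_left_cancel₀ (Units.ne_zero _) (e3.trans (mul_one _).symm))
  have hone₂ : ∀ b : ↥(W₁ ⊔ W₂), (b : G) ∈ W₂ → ρ b = 1 := by
    intro b hb
    by_cases hb1 : b = 1
    · rw [hb1, map_one]
    have e1 := hab A b ha₀ hb hA1 hb1
    have e2 := hab A (b * b) ha₀ (mul_mem hb hb) hA1 (hodd' b hb1)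
    rw [map_mul, Units.val_mul, ← e1] at e2
    have e3 : (ρ b : ℂ) * (ρ b : ℂ) = (ρ b : ℂ) := mul_left_cancel₀ (Units.ne_zero _) e2
    exact Units.ext (mul_left_cancel₀ (Units.ne_zero _) (e3.trans (mul_one _).symm))
  refine ⟨?_, ?_⟩
  · have := hab A B ha₀ hb₀ hA1 hB1
    simpa [hone₁ A ha₀, hone₂ B hb₀] using this.symm
  · have : ρ = 1 := H43.linear_ext hW (fun w hw => by rw [hone₁ w hw]; rfl) (fun w hw => by rw [hone₂ w hw]; rfl)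
    ext w
    have h1 := DFunLike.congr_fun this w
    rw [hρ, MonoidHom.mul_apply, MonoidHom.inv_apply, MonoidHom.one_apply, mul_inv_eq_one] at h1
    rw [h1]

theorem signed_unique {G : Type*} [Group G] [Fintype G] {W₁ W₂ : Subgroup G}
    (hW : Cfsg.IsSelfNormalizingCyclic W₁ W₂) (hodd : Odd (Nat.card ↥(W₁ ⊔ W₂)))
    {χ : (↥(W₁ ⊔ W₂) →* ℂˣ) → (G → ℂ)} (hχ : Cfsg.IsCyclicTIFamily W₁ W₂ χ) {θ : G → ℂ}
    (hθ : H43.Signed θ) {ω : ↥(W₁ ⊔ W₂) →* ℂˣ}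
    (h : ∀ w : ↥(W₁ ⊔ W₂), (w : G) ∉ W₁ → (w : G) ∉ W₂ → θ w = (ω w : ℂ)) : θ = χ ω := by
  obtain ⟨a₀, ha₀, ha₀1⟩ := W₁.bot_or_exists_ne_one.resolve_left hW.1
  obtain ⟨b₀, hb₀, hb₀1⟩ := W₂.bot_or_exists_ne_one.resolve_left hW.2.1
  have hdis : ∀ x : G, x ∈ W₁ → x ∈ W₂ → x = 1 := fun x h1 h2 => by
    have h3 : x ∈ W₁ ⊓ W₂ := Subgroup.mem_inf.mpr ⟨h1, h2⟩
    rwa [hW.2.2.1, Subgroup.mem_bot] at h3
  let v : ↥(W₁ ⊔ W₂) := ⟨a₀ * b₀, mul_mem (Subgroup.mem_sup_left ha₀) (Subgroup.mem_sup_right hb₀)⟩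
  have n1 : (v : G) ∉ W₁ := fun hh =>
    hb₀1 (hdis _ (by simpa [v] using mul_mem (inv_mem ha₀) hh) hb₀)
  have n2 : (v : G) ∉ W₂ := fun hh =>
    ha₀1 (hdis _ ha₀ (by simpa [v] using mul_mem hh (inv_mem hb₀)))
  obtain ⟨η, hη⟩ : ∃ η, Cfsg.classInner θ (χ η) ≠ 0 := by
    by_contra hcon
    push Not at hcon
    have := H43.family_orth_zero hW hχ θ hθ.isClassFunction hcon v n1 n2
    rw [h v n1 n2] at this
    exact Units.ne_zero _ this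
  rcases H43.Signed.inner_cases hθ (hχ.irr_or_neg η) with h0 | he | he
  · exact absurd h0 hη
  · obtain ⟨-, he'⟩ := linear_eq_on_V hW hodd ω η 1 (Or.inl rfl) (fun w h1 h2 => by
      rw [one_mul, ← h w h1 h2, he, hχ.eq_on η w h1 h2])
    rw [he, he']
  · obtain ⟨hs, -⟩ := linear_eq_on_V hW hodd ω η (-1) (Or.inr rfl) (fun w h1 h2 => by
      rw [neg_one_mul, ← h w h1 h2, he, Pi.neg_apply, neg_neg, hχ.eq_on η w h1 h2])
    norm_num at hs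


/-- Let W₁, W₂ ≤ G form a self-normalising cyclic subgroup W = W₁ ⊔ W₂ of odd order and χ an orthonormal family of irreducible characters of G up to sign, indexed by the linear characters ω of W, with χ_1 = 1, χ_ω = ω on W outside W₁ ∪ W₂, and the induction identity for (1 − φ)(1 − ψ). Let ω be a linear character of W and g an element of G whose order is coprime to the order of ω. Then χ ω g is an integer. -/
theorem result {G : Type*} [Group G] [Fintype G] (W₁ W₂ : Subgroup G) (hW : Cfsg.IsSelfNormalizingCyclic W₁ W₂) (hodd : Odd (Nat.card ↥(W₁ ⊔ W₂))) (χ : (↥(W₁ ⊔ W₂) →* ℂˣ) → (G → ℂ)) (hχ : Cfsg.IsCyclicTIFamily W₁ W₂ χ) (ω : ↥(W₁ ⊔ W₂) →* ℂˣ) (g : G) (hg : Nat.Coprime (orderOf g) (orderOf ω)) : ∃ n : ℤ, χ ω g = n := by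
  haveI hcyc : IsCyclic ↥(W₁ ⊔ W₂) := hW.2.2.2.2.1
  have hgen : Cfsg.IsGeneralizedCharacter G (χ ω) := H43.Signed.gen (hχ.irr_or_neg ω)
  have hfix : ∀ σ : ℂ ≃+* ℂ, σ (χ ω g) = χ ω g := by
    intro σ
    obtain ⟨k₀, hk₀, hσ⟩ := H43.aut_eq_pow σ (orderOf_pos g).ne'
    have ha : orderOf ω ≠ 0 := (orderOf_pos ω).ne'
    obtain ⟨k, hk1, hk2⟩ := Nat.chineseRemainder hg k₀ 1
    have hkm : k.Coprime (orderOf g) := by
      have := hk1.gcd_eq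
      rw [Nat.coprime_iff_gcd_eq_one] at *
      rw [this]; exact hk₀
    have hka : k.Coprime (orderOf ω) := by
      have := hk2.gcd_eq
      rw [Nat.coprime_iff_gcd_eq_one] at *
      simpa using this
    obtain ⟨σ', hσ'⟩ := H43.exists_aut_pow (mul_ne_zero (orderOf_pos g).ne' ha) (hkm.mul_right hka)
    have hω : ∀ w, σ' (ω w : ℂ) = (ω w : ℂ) := by
      intro w
      have h1 : (ω w : ℂ) ^ orderOf ω = 1 := by
        rw [← Units.val_pow_eq_pow_val, ← MonoidHom.pow_apply, pow_orderOf_eq_one]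
        simp
      rw [hσ' _ (by rw [mul_comm, pow_mul, h1, one_pow])]
      calc (ω w : ℂ) ^ k = (ω w : ℂ) ^ 1 :=
            (pow_mod_orderOf _ k).symm.trans ((congrArg ((ω w : ℂ) ^ ·)
              (hk2.of_dvd (orderOf_dvd_of_pow_eq_one h1))).trans (pow_mod_orderOf _ 1))
        _ = _ := pow_one _
    have heq : (fun x => σ' (χ ω x)) = χ ω := by
      refine signed_unique hW hodd hχ (H43.aut_signed σ' (hχ.irr_or_neg ω)) ?_
      intro w h1 h2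
      show σ' (χ ω w) = _
      rw [hχ.eq_on ω w h1 h2, hω]
    rw [H43.aut_eq_on_value hgen g σ σ' (fun z hz => by
      rw [hσ z hz, hσ' z (by rw [pow_mul, hz, one_pow])]
      exact (pow_mod_orderOf z k₀).symm.trans ((congrArg (z ^ ·)
        (hk1.of_dvd (orderOf_dvd_of_pow_eq_one hz)).symm).trans (pow_mod_orderOf z k)))]
    exact congrFun heq g
  obtain ⟨q, hq⟩ := H43.rat_of_fixed ((H43.gen_isIntegral hgen g).tower_top) hfix
  exact H43.int_of_rat_integral (H43.gen_isIntegral hgen g) hq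

end Cfsg.Agent.S1508
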