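import Cfsg.Statements.S0181
import Cfsg.Agent.H26.RepBasic

set_option autoImplicit false
open Cfsg

namespace Cfsg.Agent.S0181

/-- Let H be a normal subgroup of a finite group G and ρ an irreducible complex representation whose kernel does not contain H. If g commutes with no non-identity element of H, then the character of ρ vanishes at g. -/
theorem result {G : Type*} [Group G] [Finite G] {V : Type*} [AddCommGroup V] [Module ℂ V] [FiniteDimensional ℂ V] (ρ : Representation ℂ G V) [ρ.IsIrreducible] (H : Subgroup G) [H.Normal] (hker : ∃ h ∈ H, ρ h ≠ LinearMap.id) (g : G) (hg : ∀ h ∈ H, h * g = g * h → h = 1) : ρ.character g = 0 := by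
  classical
  have : Fintype H := Fintype.ofFinite H
  set S : Module.End ℂ V := ∑ h : H, ρ (h : G) with hS
  have hHS : ∀ h : H, ρ (h : G) * S = S := by
    intro h
    rw [hS, Finset.mul_sum]
    simp only [← map_mul]
    exact Fintype.sum_equiv (Equiv.mulLeft h) _ _ (fun b => rfl)
  have hS0 : S = 0 := by
    let W : Submodule ℂ V :=
      { carrier := {v | ∀ h : H, ρ (h : G) v = v}
        add_mem' := fun ha hb h => by rw [map_add, ha h, hb h]
        zero_mem' := fun h => map_zero _
        smul_mem' := fun c _ ha h => by rw [map_smul, ha h] }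
    rcases H26.invariant_submodule_eq_bot_or_top ρ W (fun x v hv h => by
      have := hv ⟨x⁻¹ * h * x, by simpa using ‹H.Normal›.conj_mem h h.2 x⁻¹⟩
      calc ρ (h : G) (ρ x v) = ρ x (ρ (x⁻¹ * h * x) v) := by
            simp only [← Module.End.mul_apply, ← map_mul]; congr 2; group
        _ = ρ x v := by rw [this]) with hW | hW
    · ext v
      have : S v ∈ W := fun h => by rw [← Module.End.mul_apply, hHS]
      rw [hW, Submodule.mem_bot] at this
      simpa using this
    · exfalso
      obtain ⟨h, hh, hne⟩ := hker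
      apply hne
      ext v
      have : v ∈ W := hW ▸ Submodule.mem_top
      simpa using this ⟨h, hh⟩
  have hinj : Function.Injective (fun h : H => (⟨g⁻¹ * (h : G) * g * (h : G)⁻¹,
      mul_mem (by simpa using ‹H.Normal›.conj_mem h h.2 g⁻¹) (inv_mem h.2)⟩ : H)) := by
    intro a b hab
    have hab' : g⁻¹ * (a : G) * g * (a : G)⁻¹ = g⁻¹ * (b : G) * g * (b : G)⁻¹ := congrArg Subtype.val hab
    have hab'' : (a : G) * g * (a : G)⁻¹ = (b : G) * g * (b : G)⁻¹ := by
      simpa [mul_assoc] using hab'
    have : (b : G)⁻¹ * a = 1 := hg _ (mul_mem (inv_mem b.2) a.2) (by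
      calc (b : G)⁻¹ * a * g = (b : G)⁻¹ * ((a : G) * g * (a : G)⁻¹) * a := by group
        _ = g * ((b : G)⁻¹ * a) := by rw [hab'']; group)
    exact Subtype.ext (inv_mul_eq_one.1 this).symm
  have hchar : ∀ h : H, ρ.character (g * (h : G)) = ρ.character g := by
    intro h
    obtain ⟨c, hc⟩ := (Finite.injective_iff_surjective.1 hinj) h
    rw [← hc]
    show ρ.character (g * (g⁻¹ * (c : G) * g * (c : G)⁻¹)) = _
    rw [← mul_assoc, ← mul_assoc, mul_inv_cancel_left, Representation.char_conj]
  have h1 : LinearMap.trace ℂ V (ρ g * S) = (Fintype.card H : ℂ) * ρ.character g := by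
    rw [hS, Finset.mul_sum, map_sum]
    simp only [← map_mul]
    show ∑ h : H, ρ.character (g * (h : G)) = _
    simp [hchar]
  rw [hS0, mul_zero, map_zero] at h1
  exact (mul_eq_zero.1 h1.symm).resolve_left (Nat.cast_ne_zero.2 Fintype.card_ne_zero)

end Cfsg.Agent.S0181
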