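import Cfsg.Statements.S0154
import Cfsg.Agent.CharInduce.Ops
import Mathlib.GroupTheory.FiniteAbelian.Duality
import Mathlib.RingTheory.RootsOfUnity.AlgebraicallyClosed
import Mathlib.Analysis.Complex.Polynomial.Basic

set_option autoImplicit false
open Cfsg

namespace Cfsg.Agent.S0154


/-- A finite group has exactly as many irreducible complex characters of degree 1 as the index of its commutator subgroup. -/
theorem result {G : Type*} [Group G] [Finite G] : Nat.card {χ : Cfsg.IrrCharacter G // (χ : G → ℂ) 1 = 1} = (commutator G).index := by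
  have := Fintype.ofFinite G
  have : NeZero (Monoid.exponent (Abelianization G)) := ⟨Monoid.exponent_ne_zero_of_finite⟩
  have : NeZero ((Monoid.exponent (Abelianization G) : ℂ)) :=
    ⟨Nat.cast_ne_zero.mpr Monoid.exponent_ne_zero_of_finite⟩
  let f : (G →* ℂˣ) → {χ : Cfsg.IrrCharacter G // (χ : G → ℂ) 1 = 1} := fun l =>
    ⟨⟨fun g => (l g : ℂ), CharInduce.isIrrCharacter_hom l⟩, by simp⟩
  have hf : Function.Bijective f := by
    refine ⟨fun a b h => MonoidHom.ext fun g => Units.ext ?_, fun χ => ?_⟩
    · exact congrFun (congrArg (fun x : {χ : Cfsg.IrrCharacter G // (χ : G → ℂ) 1 = 1} =>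
        (x.1 : G → ℂ)) h) g
    · obtain ⟨l, hl⟩ := CharInduce.IsChar.exists_hom_of_degree_one
        (CharBasic.IsIrr.isCharacter χ.1.2) χ.2
      exact ⟨l, Subtype.ext (Subtype.ext (funext fun g => (hl g).symm))⟩
  rw [← Nat.card_congr (Equiv.ofBijective f hf), Nat.card_congr Abelianization.lift,
    CommGroup.card_monoidHom_of_hasEnoughRootsOfUnity, Subgroup.index_eq_card]
  rfl

end Cfsg.Agent.S0154
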