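import Cfsg.Statements.S1524
import Cfsg.Agent.OddOrder.PF6.TICoherence

set_option autoImplicit false
open Cfsg
open scoped Pointwise

namespace Cfsg.Agent.S1524

/-- Let G be a finite group and H ≤ L subgroups with L of odd order, H ≠ ⊥ nilpotent and normal in L with a nontrivial complement W₁ in L (H ⊓ W₁ = ⊥, H ⊔ W₁ = L) acting on H without non-identity fixed points (L is a Frobenius group with kernel H), and suppose the underlying set of H is a TI-subset of G whose normaliser is L. Let S be the set of functions on L induced from the non-principal irreducible characters of H. Then (S, L minus 1, induction to G) is coherent. -/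
theorem result {G : Type*} [Group G] [Fintype G] (H L W₁ : Subgroup G) [Fintype L] (hodd : Odd (Nat.card L)) (hHL : H ≤ L) (hW₁L : W₁ ≤ L) (hH1 : H ≠ ⊥) (hW1 : W₁ ≠ ⊥) (hnil : Group.IsNilpotent H) (hHn : ∀ x ∈ L, ∀ h ∈ H, x * h * x⁻¹ ∈ H) (hinf : H ⊓ W₁ = ⊥) (hsup : H ⊔ W₁ = L) (hfpf : ∀ w ∈ W₁, w ≠ 1 → ∀ h ∈ H, w * h = h * w → h = 1) (hTI : Cfsg.IsTISubset (H : Set G)) (hN : Subgroup.normalizer (H : Set G) = L) : Cfsg.IsCoherent (Cfsg.inducedIrrAbove (H.subgroupOf L) ⊥) {1}ᶜ (fun α : L → ℂ => Cfsg.indFun L α) := by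
  have hlt : H < L := lt_of_le_of_ne hHL fun e => hW1 (by
    rw [eq_bot_iff, ← hinf]
    exact le_inf (e ▸ hW₁L) le_rfl)
  refine OddOrder.PF6.sibley hN hnil hH1 hlt hTI (by simpa using hodd) fun h hh h1 x hx => ?_
  obtain ⟨hxL, hxc⟩ := hx
  have hWn : W₁ ≤ Subgroup.normalizer (H : Set G) := hN ▸ hW₁L
  have hxHW : x ∈ ((H : Set G) * (W₁ : Set G)) := by
    rw [← Subgroup.coe_mul_of_right_le_normalizer_left H W₁ hWn, hsup]
    exact hxL
  obtain ⟨a, ha, w, hw, rfl⟩ := Set.mem_mul.1 hxHW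
  rcases eq_or_ne w 1 with rfl | hw1
  · simpa using ha
  exfalso
  have hwn : ∀ y ∈ H, w * y * w⁻¹ ∈ H := fun y hy => hHn w (hW₁L hw) y hy
  let f : H → H := fun y => ⟨y * (w * (y : G)⁻¹ * w⁻¹), mul_mem y.2 (hwn _ (inv_mem y.2))⟩
  have hf : Function.Injective f := fun y z hyz => by
    have h' : (y : G) * (w * (y : G)⁻¹ * w⁻¹) = z * (w * (z : G)⁻¹ * w⁻¹) :=
      congrArg Subtype.val hyz
    have h2 : w * ((z : G)⁻¹ * y) = ((z : G)⁻¹ * y) * w := by
      have h3 : (z : G)⁻¹ * y = (w * (z : G)⁻¹ * w⁻¹) * (w * (y : G) * w⁻¹) := by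
        calc (z : G)⁻¹ * y = (z : G)⁻¹ * ((y : G) * (w * (y : G)⁻¹ * w⁻¹)) * (w * (y : G) * w⁻¹) := by
              group
          _ = (z : G)⁻¹ * ((z : G) * (w * (z : G)⁻¹ * w⁻¹)) * (w * (y : G) * w⁻¹) := by rw [h']
          _ = _ := by group
      calc w * ((z : G)⁻¹ * y) = ((w * (z : G)⁻¹ * w⁻¹) * (w * (y : G) * w⁻¹)) * w := by group
        _ = ((z : G)⁻¹ * y) * w := by rw [← h3]
    exact (Subtype.ext (inv_mul_eq_one.1 (hfpf w hw hw1 _ (mul_mem (inv_mem z.2) y.2) h2))).symm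
  obtain ⟨y, hy⟩ := (Finite.injective_iff_surjective.1 hf) ⟨a, ha⟩
  have hy' : (y : G) * (w * (y : G)⁻¹ * w⁻¹) = a := congrArg Subtype.val hy
  have hxc' : a * w * h = h * (a * w) := Subgroup.mem_centralizer_singleton_iff.1 hxc
  rw [← hy'] at hxc'
  have h3 : w * ((y : G)⁻¹ * h * y) = ((y : G)⁻¹ * h * y) * w := by
    calc w * ((y : G)⁻¹ * h * y) = (y : G)⁻¹ * ((y : G) * (w * (y : G)⁻¹ * w⁻¹) * w * h) * y := by
          group
      _ = (y : G)⁻¹ * (h * ((y : G) * (w * (y : G)⁻¹ * w⁻¹) * w)) * y := by rw [hxc']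
      _ = _ := by group
  have h4 := hfpf w hw hw1 _ (mul_mem (mul_mem (inv_mem y.2) hh) y.2) h3
  exact h1 (by
    calc h = (y : G) * ((y : G)⁻¹ * h * y) * (y : G)⁻¹ := by group
      _ = 1 := by rw [h4]; simp)

end Cfsg.Agent.S1524
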