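import Cfsg.Statements.S1531
import Cfsg.Agent.H43.Coherence

set_option autoImplicit false
open Cfsg

namespace Cfsg.Agent.S1531

/-- Let N be a subgroup of the finite group G, S a set of irreducible characters of N, and α a linear isometry on the integer combinations of S vanishing at 1 with values virtual characters of G vanishing at 1. Let X, Y ⊆ S be disjoint, each with at least two members, and σ, τ linear isometries on ℤ[X], ℤ[Y] into virtual characters agreeing with α on the members vanishing at 1. Then ⟨σ χ, τ η⟩ = 0 for χ ∈ X, η ∈ Y; and if for some χ₀ ∈ X, η₀ ∈ Y with degrees c = χ₀ 1, e = η₀ 1 one has α (c • η₀ − e • χ₀) = c • τ η₀ − e • σ χ₀, then (X ∪ Y, N minus 1, α) is coherent. -/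
theorem result {G : Type*} [Group G] [Fintype G] (N : Subgroup G) [Fintype N] (S X Y : Set (N → ℂ)) (hirr : ∀ ξ ∈ S, Cfsg.IsIrrCharacter N ξ) (hXS : X ⊆ S) (hYS : Y ⊆ S) (hXY : Disjoint X Y) (hX2 : ∃ a ∈ X, ∃ b ∈ X, a ≠ b) (hY2 : ∃ a ∈ Y, ∃ b ∈ Y, a ≠ b) (α : (N → ℂ) → (G → ℂ)) (hα : Cfsg.IsLinearIsometryOn (Cfsg.zspanOn S {1}ᶜ) α) (hα1 : ∀ θ ∈ Cfsg.zspanOn S {1}ᶜ, α θ 1 = 0) (σ τ : (N → ℂ) → (G → ℂ)) (hσ : Cfsg.IsLinearIsometryOn (Cfsg.zspan X) σ) (hσα : ∀ θ ∈ Cfsg.zspanOn X {1}ᶜ, σ θ = α θ) (hτ : Cfsg.IsLinearIsometryOn (Cfsg.zspan Y) τ) (hτα : ∀ θ ∈ Cfsg.zspanOn Y {1}ᶜ, τ θ = α θ) : (∀ χ ∈ X, ∀ η ∈ Y, Cfsg.classInner (σ χ) (τ η) = 0) ∧ ((∃ χ₀ ∈ X, ∃ η₀ ∈ Y, α (χ₀ 1 • η₀ - η₀ 1 • χ₀) = χ₀ 1 • τ η₀ - η₀ 1 • σ χ₀) → Cfsg.IsCoherent (X ∪ Y) {1}ᶜ α) := by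
  classical
  have hdeg : ∀ a ∈ S, ∃ r : ℕ, 0 < r ∧ a 1 = (r : ℂ) := fun a ha =>
    CharBasic.IsIrr.exists_degree (hirr a ha)
  have hsig : ∀ {T : Set (N → ℂ)} {g : (N → ℂ) → (G → ℂ)}, T ⊆ S →
      Cfsg.IsLinearIsometryOn (Cfsg.zspan T) g → (∀ θ ∈ Cfsg.zspanOn T {1}ᶜ, g θ = α θ) →
      ∀ a ∈ T, ∀ b ∈ T, ∀ r s : ℕ, a 1 = (r : ℂ) → b 1 = (s : ℂ) →
        ((s : ℤ) • a - (r : ℤ) • b ∈ Cfsg.zspanOn S {1}ᶜ) ∧
        α ((s : ℤ) • a - (r : ℤ) • b) = (s : ℤ) • g a - (r : ℤ) • g b ∧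
        (s : ℂ) * g a 1 = (r : ℂ) * g b 1 := by
    intro T g hT hg hgα a ha b hb r s hr hs
    have m1 := H43.zspan_zsmul (H43.zspan_mem ha) (s : ℤ)
    have m2 := H43.zspan_zsmul (H43.zspan_mem hb) (r : ℤ)
    have hm : (s : ℤ) • a - (r : ℤ) • b ∈ Cfsg.zspanOn T {1}ᶜ :=
      H43.zspanOn_compl_one.mpr ⟨H43.zspan_sub m1 m2, by simp [hr, hs, mul_comm]⟩
    have hmS : (s : ℤ) • a - (r : ℤ) • b ∈ Cfsg.zspanOn S {1}ᶜ := ⟨H43.zspan_mono hT hm.1, hm.2⟩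
    have e : α ((s : ℤ) • a - (r : ℤ) • b) = (s : ℤ) • g a - (r : ℤ) • g b := by
      rw [← hgα _ hm, H43.iso_sub hg m1 m2 (H43.zspan_sub m1 m2), hg.2.1 a (H43.zspan_mem ha),
        hg.2.1 b (H43.zspan_mem hb)]
    refine ⟨hmS, e, ?_⟩
    have h := hα1 _ hmS
    rw [e] at h
    simpa [sub_eq_zero] using h
  have horthS : ∀ a ∈ S, ∀ b ∈ S, a ≠ b → Cfsg.classInner a b = 0 := fun a ha b hb =>
    CharBasic.classInner_irr_of_ne (hirr a ha) (hirr b hb)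
  have hsigned : ∀ {T : Set (N → ℂ)} {g : (N → ℂ) → (G → ℂ)}, T ⊆ S →
      Cfsg.IsLinearIsometryOn (Cfsg.zspan T) g → ∀ a ∈ T, H43.Signed (g a) := fun hT hg a ha =>
    H43.iso_signed hg (H43.zspan_mem ha) (CharBasic.classInner_irr_self (hirr a (hT ha)))
  have hne : ∀ {x y : N → ℂ}, x ∈ X → y ∈ Y → x ≠ y :=
    fun hx hy e => Set.disjoint_left.mp hXY hx (e ▸ hy)
  have hexists : ∀ {T : Set (N → ℂ)}, (∃ a ∈ T, ∃ b ∈ T, a ≠ b) → ∀ χ, ∃ b ∈ T, b ≠ χ := by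
    rintro T ⟨a, ha, b, hb, hab⟩ χ
    by_cases h : a = χ
    · exact ⟨b, hb, h ▸ Ne.symm hab⟩
    · exact ⟨a, ha, h⟩
  have hcross : ∀ χ ∈ X, ∀ η ∈ Y, Cfsg.classInner (σ χ) (τ η) = 0 := by
    intro χ hχ η hη
    obtain ⟨χ', hχ', hχne⟩ := hexists hX2 χ
    obtain ⟨η', hη', hηne⟩ := hexists hY2 η
    obtain ⟨r, hr0, hr⟩ := hdeg χ (hXS hχ)
    obtain ⟨r', hr0', hr'⟩ := hdeg χ' (hXS hχ')
    obtain ⟨s, hs0, hs⟩ := hdeg η (hYS hη)
    obtain ⟨s', hs0', hs'⟩ := hdeg η' (hYS hη')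
    obtain ⟨m1, e1, d1⟩ := hsig hXS hσ hσα χ hχ χ' hχ' r r' hr hr'
    obtain ⟨m2, e2, d2⟩ := hsig hYS hτ hτα η hη η' hη' s s' hs hs'
    refine H43.signed_orth2 (β := σ χ') (δ := τ η') (hsigned hXS hσ χ hχ) (hsigned hXS hσ χ' hχ')
      (hsigned hYS hτ η hη) (hsigned hYS hτ η' hη') (p := (r' : ℝ)) (q := (r : ℝ)) (u := (s' : ℝ))
      (v := (s : ℝ)) (by exact_mod_cast hr0'.ne') (by exact_mod_cast hs0'.ne')
      (by exact_mod_cast hs0.ne') ?_ ?_ ?_ (by exact_mod_cast d1) (by exact_mod_cast d2)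
    · rw [H43.iso_inner hσ (H43.zspan_mem hχ) (H43.zspan_mem hχ'),
        horthS χ (hXS hχ) χ' (hXS hχ') hχne.symm]
    · rw [H43.iso_inner hτ (H43.zspan_mem hη) (H43.zspan_mem hη'),
        horthS η (hYS hη) η' (hYS hη') hηne.symm]
    · have h := H43.iso_inner hα m1 m2
      rw [e1, e2] at h
      simp only [Complex.ofReal_natCast]
      rw [← Int.cast_smul_eq_zsmul ℂ, ← Int.cast_smul_eq_zsmul ℂ, ← Int.cast_smul_eq_zsmul ℂ,
        ← Int.cast_smul_eq_zsmul ℂ] at h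
      simp only [Int.cast_natCast] at h
      rw [h]
      simp only [CharBasic.classInner_sub_left, CharBasic.classInner_sub_right,
        H43.classInner_zsmul_left, H43.classInner_zsmul_right,
        horthS χ (hXS hχ) η (hYS hη) (hne hχ hη), horthS χ (hXS hχ) η' (hYS hη') (hne hχ hη'),
        horthS χ' (hXS hχ') η (hYS hη) (hne hχ' hη), horthS χ' (hXS hχ') η' (hYS hη') (hne hχ' hη'), mul_zero, sub_zero]
  refine ⟨hcross, ?_⟩
  rintro ⟨χ₀, hχ₀, η₀, hη₀, h0⟩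
  haveI : Finite {ξ // ξ ∈ S} :=
    Finite.of_injective (fun ξ => (⟨ξ.1, hirr ξ.1 ξ.2⟩ : Cfsg.IrrCharacter N))
      (fun a b h => Subtype.ext (congrArg Subtype.val h :))
  have hSfin : S.Finite := Set.finite_coe_iff.mp (inferInstance : Finite S)
  have hfin : (X ∪ Y).Finite := hSfin.subset (Set.union_subset hXS hYS)
  let d : (N → ℂ) → ℤ := fun a => if h : a ∈ S then ((Classical.choose (hdeg a h) : ℕ) : ℤ) else 0
  have hd : ∀ a (ha : a ∈ S), a 1 = ((Classical.choose (hdeg a ha) : ℕ) : ℂ) :=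
    fun a ha => (Classical.choose_spec (hdeg a ha)).2
  have hd' : ∀ a (ha : a ∈ S), d a = ((Classical.choose (hdeg a ha) : ℕ) : ℤ) := fun a ha => dif_pos ha
  let f : (N → ℂ) → (G → ℂ) := fun a => if a ∈ X then σ a else τ a
  have fX : ∀ a ∈ X, f a = σ a := fun a ha => if_pos ha
  have fY : ∀ a ∈ Y, f a = τ a := fun a ha => if_neg (fun h => Set.disjoint_left.mp hXY h ha)
  have hmem : ∀ {a}, a ∈ hfin.toFinset → a ∈ X ∨ a ∈ Y := fun h => (hfin.mem_toFinset.mp h)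
  have hSmem : ∀ {a}, a ∈ hfin.toFinset → a ∈ S := fun h =>
    (hfin.mem_toFinset.mp h).elim (fun h => hXS h) (fun h => hYS h)
  have hcoh := H43.coherent_of_images hfin.toFinset S (fun a ha => hSmem (Finset.mem_coe.mp ha))
    α hα (fun a ha e => by
      have := CharBasic.classInner_irr_self (hirr a (hSmem ha))
      rw [e] at this; simp at this)
    (fun a ha b hb => horthS a (hSmem ha) b (hSmem hb)) d
    (fun a ha => by rw [hd' a (hSmem ha), Int.cast_natCast, ← hd a (hSmem ha)])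
    χ₀ (hfin.mem_toFinset.mpr (Or.inl hχ₀))
    (by rw [hd' χ₀ (hXS hχ₀)]; exact_mod_cast (Classical.choose_spec (hdeg χ₀ (hXS hχ₀))).1.ne')
    f ?_ ?_ ?_ ⟨η₀, hfin.mem_toFinset.mpr (Or.inr hη₀), (hne hχ₀ hη₀).symm⟩
  · rwa [Set.Finite.coe_toFinset] at hcoh
  · intro a ha
    rcases hmem ha with h | h
    · rw [fX a h]; exact H43.iso_gen hσ (H43.zspan_mem h)
    · rw [fY a h]; exact H43.iso_gen hτ (H43.zspan_mem h)
  · intro a ha b hb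
    rcases hmem ha with h | h <;> rcases hmem hb with h' | h'
    · rw [fX a h, fX b h']; exact H43.iso_inner hσ (H43.zspan_mem h) (H43.zspan_mem h')
    · rw [fX a h, fY b h', hcross a h b h', horthS a (hXS h) b (hYS h') (hne h h')]
    · rw [fY a h, fX b h', ← CharBasic.classInner_conj_symm, hcross b h' a h, map_zero,
        horthS a (hYS h) b (hXS h') (hne h' h).symm]
    · rw [fY a h, fY b h']; exact H43.iso_inner hτ (H43.zspan_mem h) (H43.zspan_mem h')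
  · intro a ha
    rw [fX χ₀ hχ₀, hd' a (hSmem ha), hd' χ₀ (hXS hχ₀)]
    rcases hmem ha with h | h
    · rw [fX a h]
      exact (hsig hXS hσ hσα a h χ₀ hχ₀ _ _ (hd a (hXS h)) (hd χ₀ (hXS hχ₀))).2.1
    · rw [fY a h]
      set c := Classical.choose (hdeg χ₀ (hXS hχ₀))
      set x := Classical.choose (hdeg a (hSmem ha))
      obtain ⟨e, he0, he⟩ := hdeg η₀ (hYS hη₀)
      have hc : χ₀ 1 = (c : ℂ) := hd χ₀ (hXS hχ₀)
      have hx : a 1 = (x : ℂ) := hd a (hSmem ha)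
      obtain ⟨mY, eY, -⟩ := hsig hYS hτ hτα a h η₀ hη₀ x e hx he
      rw [hc, he] at h0
      simp only [← Int.cast_natCast (R := ℂ), Int.cast_smul_eq_zsmul] at h0
      have m0 : (c : ℤ) • η₀ - (e : ℤ) • χ₀ ∈ Cfsg.zspanOn S {1}ᶜ :=
        H43.zspanOn_compl_one.mpr ⟨H43.zspan_sub (H43.zspan_zsmul (H43.zspan_mem (hYS hη₀)) _)
          (H43.zspan_zsmul (H43.zspan_mem (hXS hχ₀)) _), by simp [hc, he, mul_comm]⟩
      have ma : (c : ℤ) • a - (x : ℤ) • χ₀ ∈ Cfsg.zspanOn S {1}ᶜ :=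
        H43.zspanOn_compl_one.mpr ⟨H43.zspan_sub (H43.zspan_zsmul (H43.zspan_mem (hYS h)) _)
          (H43.zspan_zsmul (H43.zspan_mem (hXS hχ₀)) _), by simp [hc, hx, mul_comm]⟩
      have key : (e : ℤ) • ((c : ℤ) • a - (x : ℤ) • χ₀)
          = (c : ℤ) • ((e : ℤ) • a - (x : ℤ) • η₀) + (x : ℤ) • ((c : ℤ) • η₀ - (e : ℤ) • χ₀) := by
        simp only [smul_sub, smul_smul, mul_comm]
        abel
      have h2 := congrArg α key
      rw [hα.2.1 _ ma, hα.1 _ (H43.zspanOn_zsmul mY _) _ (H43.zspanOn_zsmul m0 _), hα.2.1 _ mY,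
        hα.2.1 _ m0, eY, h0] at h2
      refine smul_right_injective _ (show (e : ℤ) ≠ 0 by exact_mod_cast he0.ne') ?_
      show (e : ℤ) • α _ = _
      rw [h2]
      simp only [smul_sub, smul_smul, mul_comm]
      abel

end Cfsg.Agent.S1531
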