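import Cfsg.Statements.S1515
import Cfsg.Agent.H43.Isometry

set_option autoImplicit false
open Cfsg

namespace Cfsg.Agent.S1515

/-- Let (S, τ, R) be a coherence system from L to G, χ ∈ S, and ψ an integer combination of S with ⟨χ, ψ⟩ = ⟨conj χ, ψ⟩ = 0. Let τ₁ be a linear isometry on the integer combinations of χ − ψ and χ − conj χ, with virtual-character values, agreeing with τ on integer multiples of χ − conj χ. Then the sum over α ∈ R χ of the squared absolute values of ⟨τ₁(χ − ψ), α⟩ is at least ⟨χ, χ⟩; and if ⟨τ₁(χ − ψ), τ₁(χ − ψ)⟩ minus that sum is at least ⟨ψ, ψ⟩, then the sum equals ⟨χ, χ⟩ and every ⟨τ₁(χ − ψ), α⟩ with α ∈ R χ is 0 or 1. -/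
theorem result {L : Type*} [Group L] [Fintype L] {G : Type*} [Group G] [Fintype G] (S : Set (L → ℂ)) (τ : (L → ℂ) → (G → ℂ)) (R : (L → ℂ) → Finset (G → ℂ)) (hS : Cfsg.IsCoherenceSystem S τ R) (χ : L → ℂ) (hχ : χ ∈ S) (ψ : L → ℂ) (hψ : ψ ∈ Cfsg.zspan S) (h1 : Cfsg.classInner χ ψ = 0) (h2 : Cfsg.classInner (Cfsg.conjFun χ) ψ = 0) (τ₁ : (L → ℂ) → (G → ℂ)) (hτ₁ : Cfsg.IsLinearIsometryOn (Cfsg.zspan {χ - ψ, χ - Cfsg.conjFun χ}) τ₁) (hagree : ∀ n : ℤ, τ₁ (n • (χ - Cfsg.conjFun χ)) = τ (n • (χ - Cfsg.conjFun χ))) : (Cfsg.classInner χ χ).re ≤ ∑ α ∈ R χ, ‖Cfsg.classInner (τ₁ (χ - ψ)) α‖ ^ 2 ∧ ((Cfsg.classInner ψ ψ).re ≤ (Cfsg.classInner (τ₁ (χ - ψ)) (τ₁ (χ - ψ))).re - ∑ α ∈ R χ, ‖Cfsg.classInner (τ₁ (χ - ψ)) α‖ ^ 2 → (∑ α ∈ R χ, ‖Cfsg.classInner (τ₁ (χ - ψ)) α‖ ^ 2 = (Cfsg.classInner χ χ).re ∧ ∀ α ∈ R χ, Cfsg.classInner (τ₁ (χ - ψ)) α = 0 ∨ Cfsg.classInner (τ₁ (χ - ψ)) α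 = 1)) := by
  classical
  set x := χ - ψ with hx
  set y := χ - Cfsg.conjFun χ with hy
  have hxm : x ∈ Cfsg.zspan ({x, y} : Set (L → ℂ)) := H43.zspan_mem (Or.inl rfl)
  have hym : y ∈ Cfsg.zspan ({x, y} : Set (L → ℂ)) := H43.zspan_mem (Or.inr rfl)
  have hchic : Cfsg.classInner χ (Cfsg.conjFun χ) = 0 :=
    hS.orthogonal χ hχ _ (hS.conj_mem χ hχ) (hS.conj_ne χ hχ).symm
  have h1' : Cfsg.classInner ψ χ = 0 := by rw [← CharBasic.classInner_conj_symm, h1, map_zero]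
  have h2' : Cfsg.classInner ψ (Cfsg.conjFun χ) = 0 := by
    rw [← CharBasic.classInner_conj_symm, h2, map_zero]
  have hty : τ₁ y = ∑ α ∈ R χ, α := by
    rw [← hS.sum_eq χ hχ]
    simpa using hagree 1
  choose n hn using fun α : {α // α ∈ R χ} =>
    H43.gen_inner_int (H43.iso_gen hτ₁ hxm) (hS.virtual χ hχ α.1 α.2)
  have hsum : ((∑ α, n α : ℤ) : ℂ) = Cfsg.classInner χ χ := by
    have e := H43.iso_inner hτ₁ hxm hym
    rw [hty, CharBasic.classInner_sum_right, ← Finset.sum_coe_sort] at e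
    simp only [hn] at e
    rw [Int.cast_sum, e, hx, hy]
    simp [CharBasic.classInner_sub_left, CharBasic.classInner_sub_right, hchic, h1', h2']
  have hxx : Cfsg.classInner (τ₁ x) (τ₁ x) = Cfsg.classInner χ χ + Cfsg.classInner ψ ψ := by
    rw [H43.iso_inner hτ₁ hxm hxm, hx]
    simp [CharBasic.classInner_sub_left, CharBasic.classInner_sub_right, h1, h1']
  have hsq : ∑ α ∈ R χ, ‖Cfsg.classInner (τ₁ x) α‖ ^ 2 = ((∑ α, n α ^ 2 : ℤ) : ℝ) := by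
    rw [← Finset.sum_coe_sort, Int.cast_sum]
    refine Finset.sum_congr rfl fun α _ => ?_
    rw [hn, Complex.norm_intCast, Int.cast_pow, sq_abs]
  have hre : (Cfsg.classInner χ χ).re = ((∑ α, n α : ℤ) : ℝ) := by rw [← hsum]; simp
  have hle : ∀ α, n α ≤ n α ^ 2 := fun α => Int.le_self_sq _
  refine ⟨?_, fun hineq => ?_⟩
  · rw [hsq, hre]
    exact_mod_cast Finset.sum_le_sum fun α _ => hle α
  · rw [hxx, Complex.add_re, hsq, hre] at hineq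
    have h3 : ((∑ α, n α ^ 2 : ℤ) : ℝ) ≤ ((∑ α, n α : ℤ) : ℝ) := by linarith
    have h4 : ∑ α, n α ^ 2 = ∑ α, n α :=
      le_antisymm (by exact_mod_cast h3) (Finset.sum_le_sum fun α _ => hle α)
    refine ⟨by rw [hsq, hre, h4], fun α hα => ?_⟩
    have h5 := ((Finset.sum_eq_sum_iff_of_le fun α _ => hle α).mp h4.symm) ⟨α, hα⟩ (Finset.mem_univ _)
    have h6 : n ⟨α, hα⟩ * (n ⟨α, hα⟩ - 1) = 0 := by linear_combination -h5
    rcases mul_eq_zero.mp h6 with h | h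
    · left; rw [hn ⟨α, hα⟩, h]; simp
    · right; rw [hn ⟨α, hα⟩, sub_eq_zero.mp h]; simp

end Cfsg.Agent.S1515
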