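import Cfsg.Statements.S1516
import Cfsg.Agent.H43.CoherenceSystem

set_option autoImplicit false
open Cfsg

namespace Cfsg.Agent.S1516

/-- Let (S, τ, R) be a coherence system from L to G with degrees φ 1 = d φ and squared norms ⟨φ, φ⟩ = n φ for φ ∈ S. Let S₁ ⊆ S be a finite subset closed under complex conjugation such that (S₁, L minus 1, τ) is coherent, let χ ∈ S with χ ∉ S₁ and conj χ ∉ S₁, and let χ₁ ∈ S₁ with d χ₁ dividing d χ and 2 d χ d χ₁ < Σ_{φ ∈ S₁} (d φ)² / n φ. Then S₁ together with χ and conj χ is coherent. -/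
theorem result {L : Type*} [Group L] [Fintype L] {G : Type*} [Group G] [Fintype G] (S : Set (L → ℂ)) (τ : (L → ℂ) → (G → ℂ)) (R : (L → ℂ) → Finset (G → ℂ)) (hS : Cfsg.IsCoherenceSystem S τ R) (d n : (L → ℂ) → ℕ) (hd : ∀ φ ∈ S, φ 1 = (d φ : ℂ)) (hn : ∀ φ ∈ S, Cfsg.classInner φ φ = (n φ : ℂ)) (S₁ : Finset (L → ℂ)) (hS₁ : ↑S₁ ⊆ S) (hS₁c : ∀ φ ∈ S₁, Cfsg.conjFun φ ∈ S₁) (hcoh : Cfsg.IsCoherent (↑S₁ : Set (L → ℂ)) {1}ᶜ τ) (χ : L → ℂ) (hχ : χ ∈ S) (hχ₁ : χ ∉ S₁) (hχ₂ : Cfsg.conjFun χ ∉ S₁) (χ₁ : L → ℂ) (hχ₁S : χ₁ ∈ S₁) (hdvd : d χ₁ ∣ d χ) (hineq : (2 * d χ * d χ₁ : ℝ) < ∑ φ ∈ S₁, ((d φ : ℝ) ^ 2 / (n φ : ℝ))) : Cfsg.IsCoherent (↑S₁ ∪ {χ, Cfsg.conjFun χ} : Set (L → ℂ)) {1}ᶜ τ := by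
  classical
  obtain ⟨-, τ₁, hτ₁, hagr⟩ := hcoh
  have hχ₁mem : χ₁ ∈ S := hS₁ hχ₁S
  have hχ' : Cfsg.conjFun χ ∈ S := hS.conj_mem χ hχ
  obtain ⟨hχχ', hχ'χ⟩ := H43.sys_orth_conj hS hχ
  have hneχ : ∀ ξ ∈ S₁, ξ ≠ χ ∧ ξ ≠ Cfsg.conjFun χ := fun ξ hξ =>
    ⟨fun e => hχ₁ (e ▸ hξ), fun e => hχ₂ (e ▸ hξ)⟩
  have hdpos : ∀ a ∈ S, 0 < d a := by
    intro a ha
    obtain ⟨r, hr, hr', -⟩ := H43.sys_degree hS ha
    have h := (hd a ha).symm.trans hr'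
    rw [Nat.cast_inj] at h
    omega
  have hnpos : ∀ a ∈ S, 0 < n a := by
    intro a ha
    obtain ⟨r, hr, hr', -⟩ := H43.sys_norm hS ha
    have h := (hn a ha).symm.trans hr'
    rw [Nat.cast_inj] at h
    omega
  have hdconj : Cfsg.conjFun χ 1 = (d χ : ℂ) := by simp [Cfsg.conjFun, hd χ hχ]
  have hnconj : Cfsg.classInner (Cfsg.conjFun χ) (Cfsg.conjFun χ) = (n χ : ℂ) := by
    rw [H43.classInner_conjFun, hn χ hχ, map_natCast]
  obtain ⟨m, hm⟩ := hdvd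
  set ψ := (m : ℤ) • χ₁ with hψdef
  set β := χ - ψ with hβdef
  have hψmem : ψ ∈ Cfsg.zspan S := H43.zspan_zsmul (H43.zspan_mem hχ₁mem) _
  have hψdeg : χ 1 = ψ 1 := by simp [hψdef, hd χ hχ, hd χ₁ hχ₁mem, hm, mul_comm]
  have hχξ : ∀ ξ ∈ S₁, Cfsg.classInner χ ξ = 0 ∧ Cfsg.classInner ξ χ = 0 ∧
      Cfsg.classInner (Cfsg.conjFun χ) ξ = 0 ∧ Cfsg.classInner ξ (Cfsg.conjFun χ) = 0 := fun ξ hξ =>
    ⟨hS.orthogonal χ hχ ξ (hS₁ hξ) (hneχ ξ hξ).1.symm, hS.orthogonal ξ (hS₁ hξ) χ hχ (hneχ ξ hξ).1,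
      hS.orthogonal _ hχ' ξ (hS₁ hξ) (hneχ ξ hξ).2.symm, hS.orthogonal ξ (hS₁ hξ) _ hχ' (hneχ ξ hξ).2⟩
  have hβmem : β ∈ Cfsg.zspanOn S {1}ᶜ :=
    H43.sys_pair_subset hS hχ hψmem hψdeg (H43.zspan_mem (Or.inl rfl))
  have hψ1 : Cfsg.classInner χ ψ = 0 := by
    rw [hψdef, H43.classInner_zsmul_right, (hχξ χ₁ hχ₁S).1, mul_zero]
  have hψ2 : Cfsg.classInner (Cfsg.conjFun χ) ψ = 0 := by
    rw [hψdef, H43.classInner_zsmul_right, (hχξ χ₁ hχ₁S).2.2.1, mul_zero]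
  have hψ1' : Cfsg.classInner ψ χ = 0 := by rw [← CharBasic.classInner_conj_symm, hψ1, map_zero]
  obtain ⟨hlow, hexact⟩ := H43.sys_part hS hχ hψmem hψ1 hψ2 hψdeg
  rw [← hβdef] at hlow hexact
  obtain ⟨hp1, hp2⟩ := H43.proj_norm (hS.orthonormal χ hχ) (τ β)
  set sR : ℝ := ∑ α ∈ R χ, ‖Cfsg.classInner (τ β) α‖ ^ 2 with hsR
  rw [hn χ hχ, Complex.natCast_re] at hlow
  have hψψ : Cfsg.classInner ψ ψ = (m : ℂ) ^ 2 * (n χ₁ : ℂ) := by
    rw [hψdef, H43.classInner_zsmul_left, H43.classInner_zsmul_right, hn χ₁ hχ₁mem]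
    push_cast; ring
  have hββ : Cfsg.classInner (τ β) (τ β) = (n χ : ℂ) + (m : ℂ) ^ 2 * (n χ₁ : ℂ) := by
    rw [H43.iso_inner hS.isometry hβmem hβmem, hβdef]
    simp [CharBasic.classInner_sub_left, CharBasic.classInner_sub_right, hψ1, hψ1', hn χ hχ, hψψ]
  -- images of S₁
  have hsubS : Cfsg.zspanOn (↑S₁ : Set (L → ℂ)) {1}ᶜ ⊆ Cfsg.zspanOn S {1}ᶜ :=
    fun α hα => ⟨H43.zspan_mono hS₁ hα.1, hα.2⟩
  have hfproj : ∀ ξ ∈ S₁, τ₁ ξ = H43.proj (R ξ) (τ₁ ξ) := fun ξ hξ =>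
    H43.sys_image_eq_proj hS hτ₁ hagr (hS₁ hξ) (Finset.mem_coe.mpr hξ) (Finset.mem_coe.mpr (hS₁c ξ hξ))
  have hfR : ∀ ξ ∈ S₁, ∀ α ∈ R χ, Cfsg.classInner (τ₁ ξ) α = 0 := by
    intro ξ hξ α hα
    rw [hfproj ξ hξ]
    exact H43.inner_proj_zero (fun β hβ => H43.sys_R_orth hS hχ (hS₁ hξ) (hneχ ξ hξ).1 (hneχ ξ hξ).2
      β hβ α hα) _
  set X := H43.proj (R χ) (τ β) with hX
  have hXf : ∀ ξ ∈ S₁, Cfsg.classInner X (τ₁ ξ) = 0 := fun ξ hξ =>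
    H43.inner_proj_zero (fun α hα => by rw [← CharBasic.classInner_conj_symm, hfR ξ hξ α hα, map_zero]) _
  choose g hg using fun ξ : {ξ // ξ ∈ S₁} => H43.gen_inner_int (H43.iso_gen hS.isometry hβmem)
    (H43.iso_gen hτ₁ (H43.zspan_mem (Finset.mem_coe.mpr ξ.2)))
  let a : (L → ℂ) → ℤ := fun ξ => if h : ξ ∈ S₁ then g ⟨ξ, h⟩ else 0
  have ha : ∀ ξ ∈ S₁, Cfsg.classInner (τ β) (τ₁ ξ) = (a ξ : ℂ) := by
    intro ξ hξ; simp only [a, dif_pos hξ]; exact hg ⟨ξ, hξ⟩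
  have hpairmem : ∀ ξ ∈ S₁,
      (d χ₁ : ℤ) • ξ - (d ξ : ℤ) • χ₁ ∈ Cfsg.zspanOn (↑S₁ : Set (L → ℂ)) {1}ᶜ := by
    intro ξ hξ
    refine H43.zspanOn_compl_one.mpr ⟨H43.zspan_sub (H43.zspan_zsmul (H43.zspan_mem (Finset.mem_coe.mpr hξ)) _)
      (H43.zspan_zsmul (H43.zspan_mem (Finset.mem_coe.mpr hχ₁S)) _), ?_⟩
    simp [hd ξ (hS₁ hξ), hd χ₁ hχ₁mem]; ring
  have hτpair : ∀ ξ ∈ S₁,
      τ ((d χ₁ : ℤ) • ξ - (d ξ : ℤ) • χ₁) = (d χ₁ : ℤ) • τ₁ ξ - (d ξ : ℤ) • τ₁ χ₁ := by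
    intro ξ hξ
    have h1 := H43.zspan_zsmul (H43.zspan_mem (S := (↑S₁ : Set (L → ℂ))) (Finset.mem_coe.mpr hξ)) (d χ₁ : ℤ)
    have h2 := H43.zspan_zsmul (H43.zspan_mem (S := (↑S₁ : Set (L → ℂ))) (Finset.mem_coe.mpr hχ₁S)) (d ξ : ℤ)
    rw [← hagr _ (hpairmem ξ hξ), H43.iso_sub hτ₁ h1 h2 (H43.zspan_sub h1 h2),
      hτ₁.2.1 ξ (H43.zspan_mem (Finset.mem_coe.mpr hξ)),
      hτ₁.2.1 χ₁ (H43.zspan_mem (Finset.mem_coe.mpr hχ₁S))]
  set k : ℤ := a χ₁ + m * n χ₁ with hk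
  have hrel : ∀ ξ ∈ S₁, (d χ₁ : ℤ) * (a ξ + if ξ = χ₁ then (m : ℤ) * n χ₁ else 0) = (d ξ : ℤ) * k := by
    intro ξ hξ
    have h := H43.iso_inner hS.isometry hβmem (hsubS (hpairmem ξ hξ))
    rw [hτpair ξ hξ] at h
    generalize hb : τ β = b at h
    simp only [hβdef, hψdef, CharBasic.classInner_sub_left, CharBasic.classInner_sub_right,
      H43.classInner_zsmul_left, H43.classInner_zsmul_right, (hχξ ξ hξ).1, (hχξ χ₁ hχ₁S).1,
      hn χ₁ hχ₁mem] at h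
    rw [← hb, ha ξ hξ, ha χ₁ hχ₁S] at h
    have h2 : (((d χ₁ : ℤ) * (a ξ + if ξ = χ₁ then (m : ℤ) * n χ₁ else 0) : ℤ) : ℂ)
        = (((d ξ : ℤ) * k : ℤ) : ℂ) := by
      rw [hk]
      push_cast at h ⊢
      by_cases he : ξ = χ₁
      · rw [if_pos he]; subst he; rw [hn ξ hχ₁mem] at h
      · rw [if_neg he]; rw [hS.orthogonal χ₁ hχ₁mem ξ (hS₁ hξ) (Ne.symm he)] at h; linear_combination h
    exact_mod_cast h2
  -- Bessel
  set B := ∑ ξ ∈ S₁, ((a ξ : ℂ) / (n ξ : ℂ)) • τ₁ ξ with hB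
  have hnC : ∀ ξ ∈ S₁, (n ξ : ℂ) ≠ 0 := fun ξ hξ => by exact_mod_cast (hnpos ξ (hS₁ hξ)).ne'
  have hff : ∀ ξ ∈ S₁, ∀ η ∈ S₁, Cfsg.classInner (τ₁ η) (τ₁ ξ) = if η = ξ then (n ξ : ℂ) else 0 := by
    intro ξ hξ η hη
    rw [H43.iso_inner hτ₁ (H43.zspan_mem (Finset.mem_coe.mpr hη)) (H43.zspan_mem (Finset.mem_coe.mpr hξ))]
    split_ifs with h
    · subst h; exact hn η (hS₁ hη)
    · exact hS.orthogonal η (hS₁ hη) ξ (hS₁ hξ) h
  have hBf : ∀ ξ ∈ S₁, Cfsg.classInner B (τ₁ ξ) = (a ξ : ℂ) := by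
    intro ξ hξ
    rw [hB, CharBasic.classInner_sum_left, Finset.sum_eq_single ξ (fun η hη hne => by
      rw [CharBasic.classInner_smul_left, hff ξ hξ η hη, if_neg hne, mul_zero])
      (fun h => absurd hξ h), CharBasic.classInner_smul_left, hff ξ hξ ξ hξ, if_pos rfl,
      div_mul_cancel₀ _ (hnC ξ hξ)]
  set Z := τ β - X - B with hZ
  have hZf : ∀ ξ ∈ S₁, Cfsg.classInner Z (τ₁ ξ) = 0 := fun ξ hξ => by
    rw [hZ, CharBasic.classInner_sub_left, CharBasic.classInner_sub_left, ha ξ hξ, hXf ξ hξ,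
      hBf ξ hξ]; ring
  have hBX : Cfsg.classInner B X = 0 := by
    rw [hB, CharBasic.classInner_sum_left]
    refine Finset.sum_eq_zero fun ξ hξ => ?_
    rw [CharBasic.classInner_smul_left, ← CharBasic.classInner_conj_symm, hXf ξ hξ, map_zero, mul_zero]
  have hZX : Cfsg.classInner Z X = 0 := by
    rw [hZ, CharBasic.classInner_sub_left, CharBasic.classInner_sub_left, hp2, hp1, hBX]; ring
  set P : ℝ := ∑ ξ ∈ S₁, (a ξ : ℝ) ^ 2 / (n ξ : ℝ) with hP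
  have hτB : Cfsg.classInner B (τ β) = (P : ℂ) := by
    rw [hB, CharBasic.classInner_sum_left, hP, Complex.ofReal_sum]
    refine Finset.sum_congr rfl fun ξ hξ => ?_
    rw [CharBasic.classInner_smul_left, ← CharBasic.classInner_conj_symm, ha ξ hξ, map_intCast]
    push_cast; ring
  have hZZ : Cfsg.classInner Z Z = (((n χ : ℝ) + (m : ℝ) ^ 2 * n χ₁ - sR - P : ℝ) : ℂ) := by
    have e : Cfsg.classInner Z Z = Cfsg.classInner Z (τ β) := by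
      conv_lhs => arg 2; rw [hZ]
      rw [CharBasic.classInner_sub_right, CharBasic.classInner_sub_right, hZX, hB,
        CharBasic.classInner_sum_right, Finset.sum_eq_zero (fun ξ hξ => by
          rw [CharBasic.classInner_smul_right, hZf ξ hξ, mul_zero])]
      ring
    have hXτ : Cfsg.classInner X (τ β) = (sR : ℂ) := by
      rw [← CharBasic.classInner_conj_symm, hp2, Complex.conj_ofReal]
    rw [e, hZ, CharBasic.classInner_sub_left, CharBasic.classInner_sub_left, hββ, hXτ, hτB]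
    push_cast; ring
  have hZnn : 0 ≤ (n χ : ℝ) + (m : ℝ) ^ 2 * n χ₁ - sR - P := by
    have := H43.classInner_self_re_nonneg Z
    rwa [hZZ, Complex.ofReal_re] at this
  set J : ℝ := ∑ ξ ∈ S₁, ((a ξ + if ξ = χ₁ then (m : ℤ) * n χ₁ else 0 : ℤ) : ℝ) ^ 2 / (n ξ : ℝ) with hJdef
  have hn1R : (n χ₁ : ℝ) ≠ 0 := by exact_mod_cast (hnpos χ₁ hχ₁mem).ne'
  have hJ : J = P + 2 * k * m - (m : ℝ) ^ 2 * n χ₁ := by
    have : ∀ ξ ∈ S₁, ((a ξ + if ξ = χ₁ then (m : ℤ) * n χ₁ else 0 : ℤ) : ℝ) ^ 2 / (n ξ : ℝ)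
        = (a ξ : ℝ) ^ 2 / (n ξ : ℝ) + if ξ = χ₁ then 2 * (a χ₁ : ℝ) * m + (m : ℝ) ^ 2 * n χ₁ else 0 := by
      intro ξ _
      split_ifs with h
      · subst h; push_cast; field_simp; ring
      · push_cast; ring
    rw [hJdef, Finset.sum_congr rfl this, Finset.sum_add_distrib, Finset.sum_ite_eq', if_pos hχ₁S, hk, hP]
    push_cast; ring
  have hJle : J ≤ 2 * k * m := by linarith
  have hJd : (d χ₁ : ℝ) ^ 2 * J = (k : ℝ) ^ 2 * ∑ ξ ∈ S₁, (d ξ : ℝ) ^ 2 / (n ξ : ℝ) := by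
    rw [hJdef, Finset.mul_sum, Finset.mul_sum]
    refine Finset.sum_congr rfl fun ξ hξ => ?_
    have := congrArg (fun z : ℤ => (z : ℝ)) (hrel ξ hξ)
    push_cast at this ⊢
    rw [← mul_div_assoc, ← mul_pow, this, mul_pow]
    ring
  have hk0 : k = 0 := by
    by_contra hk0
    have hd1 : (0 : ℝ) < d χ₁ := by exact_mod_cast hdpos χ₁ hχ₁mem
    have hmc : (d χ : ℝ) = d χ₁ * m := by exact_mod_cast hm
    have hineq' : 2 * (d χ : ℝ) * d χ₁ < ∑ ξ ∈ S₁, (d ξ : ℝ) ^ 2 / (n ξ : ℝ) := hineq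
    have hkabs : (0 : ℤ) ≤ k * (k - 1) := by
      rcases Int.lt_or_lt_of_ne hk0 with h | h
      · exact mul_nonneg_of_nonpos_of_nonpos (by omega) (by omega)
      · exact mul_nonneg (by omega) (by omega)
    have hkR : (0 : ℝ) ≤ (k : ℝ) * ((k : ℝ) - 1) := by exact_mod_cast hkabs
    have hksq : (0 : ℝ) < (k : ℝ) ^ 2 := by positivity
    have e1 := mul_lt_mul_of_pos_left hineq' hksq
    rw [← hJd, hmc] at e1
    have e3 : (d χ₁ : ℝ) ^ 2 * J ≤ (d χ₁ : ℝ) ^ 2 * (2 * k * m) :=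
      mul_le_mul_of_nonneg_left hJle (by positivity)
    have e2 : 0 ≤ ((k : ℝ) * ((k : ℝ) - 1)) * (2 * (d χ₁ : ℝ) ^ 2 * m) := mul_nonneg hkR (by positivity)
    nlinarith
  have hacoef : ∀ ξ ∈ S₁, a ξ = - if ξ = χ₁ then (m : ℤ) * n χ₁ else 0 := by
    intro ξ hξ
    have h := hrel ξ hξ
    rw [hk0, mul_zero, mul_eq_zero] at h
    have := h.resolve_left (by exact_mod_cast (hdpos χ₁ hχ₁mem).ne')
    omega
  have hPval : P = (m : ℝ) ^ 2 * n χ₁ := by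
    have hz : J = 0 := by
      rw [hJdef]
      refine Finset.sum_eq_zero fun ξ hξ => ?_
      rw [hacoef ξ hξ]; simp
    rw [hJ, hk0] at hz
    push_cast at hz
    linarith
  have hsReq : sR = n χ := by linarith
  have hZ0 : Z = 0 := by
    refine CharBasic.classInner_self_eq_zero.mp ?_
    rw [hZZ, hsReq, hPval]; simp
  have hBval : B = -((m : ℤ) • τ₁ χ₁) := by
    rw [hB, Finset.sum_eq_single χ₁ (fun ξ hξ hne => by rw [hacoef ξ hξ, if_neg hne]; simp)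
      (fun h => absurd hχ₁S h), hacoef χ₁ hχ₁S, if_pos rfl]
    have hc : (n χ₁ : ℂ) ≠ 0 := hnC χ₁ hχ₁S
    push_cast
    rw [neg_div, mul_div_assoc, div_self hc, mul_one, neg_smul, ← Int.cast_natCast (R := ℂ),
      Int.cast_smul_eq_zsmul]
  have hτβ : τ β = X - (m : ℤ) • τ₁ χ₁ := by
    have := hZ0
    rw [hZ, hBval] at this
    rw [← sub_eq_zero, ← this]; abel
  have h01 := hexact (by
    rw [hψψ, hββ, hsReq]
    simp [Complex.add_re, sq])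
  have hXgen : Cfsg.IsGeneralizedCharacter G X := by
    rw [hX, H43.proj]
    refine H43.gen_sum _ _ fun α hα => ?_
    rcases h01 α hα with h | h <;> rw [h]
    · rw [zero_smul]; exact H43.gen_zero
    · rw [one_smul]; exact hS.virtual χ hχ α hα
  set D := τ (χ - Cfsg.conjFun χ) with hD
  have hDm := H43.sys_diff_mem hS hχ
  have hDsum : D = ∑ α ∈ R χ, α := hS.sum_eq χ hχ
  have hXD : Cfsg.classInner X D = (n χ : ℂ) := by
    rw [hDsum, CharBasic.classInner_sum_right,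
      Finset.sum_congr rfl (fun α hα => H43.inner_proj_mem (hS.orthonormal χ hχ) (τ β) hα),
      ← CharBasic.classInner_sum_right, ← hDsum, H43.iso_inner hS.isometry hβmem hDm, hβdef]
    simp only [CharBasic.classInner_sub_left, CharBasic.classInner_sub_right, hn χ hχ, hχχ', hψ1',
      show Cfsg.classInner ψ (Cfsg.conjFun χ) = 0 by rw [← CharBasic.classInner_conj_symm, hψ2, map_zero]]
    ring
  have hDX : Cfsg.classInner D X = (n χ : ℂ) := by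
    rw [← CharBasic.classInner_conj_symm, hXD, map_natCast]
  have hXX : Cfsg.classInner X X = (n χ : ℂ) := by rw [hp1, hsReq, Complex.ofReal_natCast]
  have hDD : Cfsg.classInner D D = 2 * (n χ : ℂ) := by
    rw [hD, H43.iso_inner hS.isometry hDm hDm]
    simp only [CharBasic.classInner_sub_left, CharBasic.classInner_sub_right, hn χ hχ, hχχ', hχ'χ, hnconj]
    ring
  have hDf : ∀ ξ ∈ S₁, Cfsg.classInner D (τ₁ ξ) = 0 := by
    intro ξ hξ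
    rw [hDsum, CharBasic.classInner_sum_left]
    exact Finset.sum_eq_zero fun α hα => by rw [← CharBasic.classInner_conj_symm, hfR ξ hξ α hα, map_zero]
  -- the extension
  have hne' : Cfsg.conjFun χ ≠ χ := hS.conj_ne χ hχ
  set T := insert χ (insert (Cfsg.conjFun χ) S₁) with hT
  let f : (L → ℂ) → (G → ℂ) := fun ξ => if ξ = χ then X else if ξ = Cfsg.conjFun χ then X - D else τ₁ ξ
  have fχ : f χ = X := if_pos rfl
  have fχ' : f (Cfsg.conjFun χ) = X - D := (if_neg hne').trans (if_pos rfl)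
  have fS : ∀ ξ ∈ S₁, f ξ = τ₁ ξ := fun ξ hξ =>
    (if_neg (hneχ ξ hξ).1).trans (if_neg (hneχ ξ hξ).2)
  have hTsub : (↑T : Set (L → ℂ)) ⊆ S := by
    intro x hx
    simp only [hT, Finset.coe_insert, Set.mem_insert_iff, Finset.mem_coe] at hx
    rcases hx with rfl | rfl | hx
    · exact hχ
    · exact hχ'
    · exact hS₁ hx
  have hTmem : ∀ {x}, x ∈ T → x = χ ∨ x = Cfsg.conjFun χ ∨ x ∈ S₁ := fun hx => by
    simpa [hT] using hx
  have hd' : ∀ a ∈ T, a 1 = ((d a : ℤ) : ℂ) := fun a ha => by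
    rw [Int.cast_natCast]; exact hd a (hTsub (Finset.mem_coe.mpr ha))
  have hdc : d (Cfsg.conjFun χ) = d χ := by
    have h := (hd _ hχ').symm.trans hdconj
    exact_mod_cast h
  have hres := H43.coherent_of_images T S hTsub τ hS.isometry
    (fun a ha => H43.sys_ne_zero hS (hTsub (Finset.mem_coe.mpr ha)))
    (fun a ha b hb => hS.orthogonal a (hTsub (Finset.mem_coe.mpr ha)) b (hTsub (Finset.mem_coe.mpr hb)))
    (fun a => (d a : ℤ)) hd' χ₁ (by simp [hT, hχ₁S]) (by exact_mod_cast (hdpos χ₁ hχ₁mem).ne')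
    f ?_ ?_ ?_ ⟨χ, by simp [hT], (hneχ χ₁ hχ₁S).1.symm⟩
  · have e : (↑S₁ : Set (L → ℂ)) ∪ {χ, Cfsg.conjFun χ} = ↑T := by
      ext x; simp [hT]
    rw [e]; exact hres
  · intro x hx
    rcases hTmem hx with rfl | rfl | hx
    · rw [fχ]; exact hXgen
    · rw [fχ']; exact H43.gen_sub hXgen (H43.iso_gen hS.isometry hDm)
    · rw [fS x hx]; exact H43.iso_gen hτ₁ (H43.zspan_mem (Finset.mem_coe.mpr hx))
  · intro x hx y hy
    rcases hTmem hx with hxe | hxe | hx <;> rcases hTmem hy with hye | hye | hy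
    · rw [hxe, hye, fχ, hXX, hn χ hχ]
    · rw [hxe, hye, fχ, fχ', CharBasic.classInner_sub_right, hXX, hXD, sub_self, hχχ']
    · rw [hxe, fχ, fS y hy, hXf y hy, (hχξ y hy).1]
    · rw [hxe, hye, fχ, fχ', CharBasic.classInner_sub_left, hXX, hDX, sub_self, hχ'χ]
    · rw [hxe, hye, fχ', CharBasic.classInner_sub_left, CharBasic.classInner_sub_right,
        CharBasic.classInner_sub_right, hXX, hXD, hDX, hDD, hnconj]
      ring
    · rw [hxe, fχ', fS y hy, CharBasic.classInner_sub_left, hXf y hy, hDf y hy, sub_self, (hχξ y hy).2.2.1]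
    · rw [hye, fχ, fS x hx, ← CharBasic.classInner_conj_symm, hXf x hx, map_zero, (hχξ x hx).2.1]
    · rw [hye, fχ', fS x hx, ← CharBasic.classInner_conj_symm, CharBasic.classInner_sub_left, hXf x hx,
        hDf x hx, sub_self, map_zero, (hχξ x hx).2.2.2]
    · rw [fS x hx, fS y hy]
      exact H43.iso_inner hτ₁ (H43.zspan_mem (Finset.mem_coe.mpr hx)) (H43.zspan_mem (Finset.mem_coe.mpr hy))
  · intro x hx
    rw [fS χ₁ hχ₁S]
    rcases hTmem hx with hxe | hxe | hx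
    · rw [hxe, fχ]
      have e : (d χ₁ : ℤ) • χ - (d χ : ℤ) • χ₁ = (d χ₁ : ℤ) • β := by
        rw [hβdef, hψdef, smul_sub, smul_smul, hm, Nat.cast_mul]
      rw [e, hS.isometry.2.1 β hβmem, hτβ, smul_sub, smul_smul, hm, Nat.cast_mul]
    · rw [hxe, fχ', hdc]
      have e : (d χ₁ : ℤ) • Cfsg.conjFun χ - (d χ : ℤ) • χ₁
          = (d χ₁ : ℤ) • (β - (χ - Cfsg.conjFun χ)) := by
        rw [hβdef, hψdef, hm, Nat.cast_mul]
        simp only [smul_sub, smul_smul]; abel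
      rw [e, hS.isometry.2.1 _ (H43.zspanOn_sub hβmem hDm),
        H43.iso_sub hS.isometry hβmem hDm (H43.zspanOn_sub hβmem hDm), hτβ, ← hD, hm, Nat.cast_mul]
      simp only [smul_sub, smul_smul]; abel
    · rw [fS x hx]; exact hτpair x hx

end Cfsg.Agent.S1516
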