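import Cfsg.Statements.S1517
import Cfsg.Agent.H43.CoherenceSystem

set_option autoImplicit false
open Cfsg

namespace Cfsg.Agent.S1517

/-- Let (S, τ, R) be a coherence system from L to G such that φ 1 = ψ 1 for all φ, ψ ∈ S. Then (S, L minus 1, τ) is coherent. -/
theorem result {L : Type*} [Group L] [Fintype L] {G : Type*} [Group G] [Fintype G] (S : Set (L → ℂ)) (τ : (L → ℂ) → (G → ℂ)) (R : (L → ℂ) → Finset (G → ℂ)) (hS : Cfsg.IsCoherenceSystem S τ R) (hdeg : ∀ φ ∈ S, ∀ ψ ∈ S, φ 1 = ψ 1) : Cfsg.IsCoherent S {1}ᶜ τ := by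
  classical
  obtain ⟨χ₁, hχ₁⟩ := hS.nonempty
  obtain ⟨d, hd0, hd, -⟩ := H43.sys_degree hS hχ₁
  obtain ⟨n₁, hn₁0, hn₁, -⟩ := H43.sys_norm hS hχ₁
  have hdeg' : ∀ φ ∈ S, φ 1 = (d : ℂ) := fun φ hφ => (hdeg φ hφ χ₁ hχ₁).trans hd
  have hfin := H43.finite_of_orth S (fun a ha => H43.sys_ne_zero hS ha) hS.orthogonal
  have hvmem : ∀ ξ ∈ S, χ₁ - ξ ∈ Cfsg.zspanOn S {1}ᶜ := fun ξ hξ =>
    H43.zspanOn_compl_one.mpr
      ⟨H43.zspan_sub (H43.zspan_mem hχ₁) (H43.zspan_mem hξ), by simp [hdeg' ξ hξ, hd]⟩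
  have hτ0 : τ 0 = 0 := H43.iso_zero hS.isometry H43.zspanOn_zero
  have hc1 : Cfsg.conjFun χ₁ ∈ S := hS.conj_mem χ₁ hχ₁
  -- decomposition of τ(χ₁ - ξ) for ξ outside the pair
  have hdec : ∀ ξ ∈ S, ξ ≠ χ₁ → ξ ≠ Cfsg.conjFun χ₁ →
      τ (χ₁ - ξ) = H43.proj (R χ₁) (τ (χ₁ - ξ)) + H43.proj (R ξ) (τ (χ₁ - ξ)) ∧
      Cfsg.classInner (τ (χ₁ - ξ)) (H43.proj (R χ₁) (τ (χ₁ - ξ))) = (n₁ : ℂ) ∧
      (∀ α ∈ R χ₁, Cfsg.classInner (τ (χ₁ - ξ)) α = 0 ∨ Cfsg.classInner (τ (χ₁ - ξ)) α = 1) := by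
    intro ξ hξ h1 h2
    obtain ⟨nξ, -, hnξ, -⟩ := H43.sys_norm hS hξ
    have o1 : Cfsg.classInner χ₁ ξ = 0 := hS.orthogonal χ₁ hχ₁ ξ hξ h1.symm
    have o2 : Cfsg.classInner (Cfsg.conjFun χ₁) ξ = 0 := hS.orthogonal _ hc1 ξ hξ h2.symm
    have o3 : Cfsg.classInner ξ χ₁ = 0 := hS.orthogonal ξ hξ χ₁ hχ₁ h1
    have h2' : χ₁ ≠ Cfsg.conjFun ξ := fun e => h2 (by rw [e, H43.conjFun_conjFun])
    have o4 : Cfsg.classInner (Cfsg.conjFun ξ) χ₁ = 0 :=
      hS.orthogonal _ (hS.conj_mem ξ hξ) χ₁ hχ₁ h2'.symm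
    obtain ⟨a1, b1⟩ := H43.sys_part hS hχ₁ (H43.zspan_mem hξ) o1 o2 (hdeg χ₁ hχ₁ ξ hξ)
    obtain ⟨a2, -⟩ := H43.sys_part hS hξ (H43.zspan_mem hχ₁) o3 o4 (hdeg ξ hξ χ₁ hχ₁)
    set v := τ (χ₁ - ξ) with hv
    have hm2 : ξ - χ₁ ∈ Cfsg.zspanOn S {1}ᶜ := H43.zspanOn_compl_one.mpr
      ⟨H43.zspan_sub (H43.zspan_mem hξ) (H43.zspan_mem hχ₁), by simp [hdeg' ξ hξ, hd]⟩
    have hneg : τ (ξ - χ₁) = -v := by
      have h := hS.isometry.1 _ hm2 _ (hvmem ξ hξ)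
      rw [sub_add_sub_cancel, sub_self, hτ0] at h
      exact eq_neg_of_add_eq_zero_left h.symm
    rw [hneg] at a2
    simp only [CharBasic.classInner_neg_left, norm_neg] at a2
    obtain ⟨p1, p2⟩ := H43.proj_norm (hS.orthonormal χ₁ hχ₁) v
    obtain ⟨q1, q2⟩ := H43.proj_norm (hS.orthonormal ξ hξ) v
    set s₁ : ℝ := ∑ α ∈ R χ₁, ‖Cfsg.classInner v α‖ ^ 2 with hs₁
    set s₂ : ℝ := ∑ α ∈ R ξ, ‖Cfsg.classInner v α‖ ^ 2 with hs₂
    set P := H43.proj (R χ₁) v with hP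
    set Q := H43.proj (R ξ) v with hQ
    have hQP : Cfsg.classInner Q P = 0 := by
      refine H43.inner_proj_zero (fun β hβ => ?_) _
      rw [← CharBasic.classInner_conj_symm,
        H43.inner_proj_zero (fun α hα => H43.sys_R_orth hS hξ hχ₁ h1.symm h2' α hα β hβ), map_zero]
    have hPQ : Cfsg.classInner P Q = 0 := by rw [← CharBasic.classInner_conj_symm, hQP, map_zero]
    rw [hn₁, Complex.natCast_re] at a1
    rw [hnξ, Complex.natCast_re] at a2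
    have hvv : Cfsg.classInner v v = (n₁ : ℂ) + nξ := by
      rw [hv, H43.iso_inner hS.isometry (hvmem ξ hξ) (hvmem ξ hξ)]
      simp [CharBasic.classInner_sub_left, CharBasic.classInner_sub_right, o1, o3, hn₁, hnξ]
    have hres : Cfsg.classInner (v - (P + Q)) (v - (P + Q))
        = (((n₁ : ℝ) + nξ - s₁ - s₂ : ℝ) : ℂ) := by
      have hPv : Cfsg.classInner P v = (s₁ : ℂ) := by
        rw [← CharBasic.classInner_conj_symm, p2, Complex.conj_ofReal]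
      have hQv : Cfsg.classInner Q v = (s₂ : ℂ) := by
        rw [← CharBasic.classInner_conj_symm, q2, Complex.conj_ofReal]
      simp only [CharBasic.classInner_sub_left, CharBasic.classInner_sub_right,
        CharBasic.classInner_add_left, CharBasic.classInner_add_right, hvv, p1, p2, q1, q2, hPQ, hQP,
        hPv, hQv]
      push_cast; ring
    have hnn := H43.classInner_self_re_nonneg (v - (P + Q))
    rw [hres, Complex.ofReal_re] at hnn
    have e1 : s₁ = n₁ := by linarith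
    have e2 : s₂ = nξ := by linarith
    refine ⟨?_, ?_, b1 ?_⟩
    · refine sub_eq_zero.mp (CharBasic.classInner_self_eq_zero.mp ?_)
      rw [hres, e1, e2]; simp
    · rw [p2, e1, Complex.ofReal_natCast]
    · rw [hvv, hnξ, e1]; simp
  -- the common image of χ₁
  obtain ⟨X, hXgen, hXX, hXv⟩ : ∃ X : G → ℂ, Cfsg.IsGeneralizedCharacter G X ∧
      Cfsg.classInner X X = (n₁ : ℂ) ∧
      ∀ ξ ∈ S, ξ ≠ χ₁ → Cfsg.classInner (τ (χ₁ - ξ)) X = (n₁ : ℂ) := by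
    by_cases hex : ∃ ξ₀ ∈ S, ξ₀ ≠ χ₁ ∧ ξ₀ ≠ Cfsg.conjFun χ₁
    · obtain ⟨ξ₀, hξ₀, g1, g2⟩ := hex
      obtain ⟨e₀, p₀, z₀⟩ := hdec ξ₀ hξ₀ g1 g2
      set v₀ := τ (χ₁ - ξ₀) with hv₀
      have g2' : χ₁ ≠ Cfsg.conjFun ξ₀ := fun e => g2 (by rw [e, H43.conjFun_conjFun])
      refine ⟨H43.proj (R χ₁) v₀, ?_, ?_, ?_⟩
      · refine H43.gen_sum _ _ fun α hα => ?_
        rcases z₀ α hα with h | h <;> rw [h]
        · rw [zero_smul]; exact H43.gen_zero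
        · rw [one_smul]; exact hS.virtual χ₁ hχ₁ α hα
      · obtain ⟨p1, p2⟩ := H43.proj_norm (hS.orthonormal χ₁ hχ₁) v₀
        rw [p1, ← p2, p₀]
      · intro ξ hξ h1
        have hXsumR : Cfsg.classInner (∑ α ∈ R χ₁, α) (H43.proj (R χ₁) v₀) = (n₁ : ℂ) := by
          rw [← CharBasic.classInner_conj_symm, CharBasic.classInner_sum_right,
            Finset.sum_congr rfl (fun α hα => H43.inner_proj_mem (hS.orthonormal χ₁ hχ₁) v₀ hα),
            ← CharBasic.classInner_sum_right, ← hS.sum_eq χ₁ hχ₁, hv₀,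
            H43.iso_inner hS.isometry (hvmem ξ₀ hξ₀) (H43.sys_diff_mem hS hχ₁)]
          simp [CharBasic.classInner_sub_left, CharBasic.classInner_sub_right, hn₁,
            (H43.sys_orth_conj hS hχ₁).1, hS.orthogonal ξ₀ hξ₀ χ₁ hχ₁ g1,
            hS.orthogonal ξ₀ hξ₀ _ hc1 g2]
        have horthR : ∀ α ∈ R ξ₀, Cfsg.classInner α (H43.proj (R χ₁) v₀) = 0 := by
          intro α hα
          rw [← CharBasic.classInner_conj_symm,
            H43.inner_proj_zero (fun β hβ => H43.sys_R_orth hS hξ₀ hχ₁ g1.symm g2' β hβ α hα), map_zero]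
        by_cases h2 : ξ = Cfsg.conjFun χ₁
        · rw [h2, hS.sum_eq χ₁ hχ₁]; exact hXsumR
        by_cases h3 : ξ = ξ₀
        · rw [h3]; exact p₀
        by_cases h4 : ξ = Cfsg.conjFun ξ₀
        · have e : χ₁ - ξ = (χ₁ - ξ₀) + (ξ₀ - Cfsg.conjFun ξ₀) := by rw [h4]; abel
          rw [e, hS.isometry.1 _ (hvmem ξ₀ hξ₀) _ (H43.sys_diff_mem hS hξ₀), ← hv₀,
            CharBasic.classInner_add_left, p₀, hS.sum_eq ξ₀ hξ₀, CharBasic.classInner_sum_left,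
            Finset.sum_eq_zero horthR, add_zero]
        obtain ⟨e, -, -⟩ := hdec ξ hξ h1 h2
        have hX : H43.proj (R χ₁) v₀ = v₀ - H43.proj (R ξ₀) v₀ := eq_sub_of_add_eq e₀.symm
        have o0 : Cfsg.classInner χ₁ ξ₀ = 0 := hS.orthogonal χ₁ hχ₁ ξ₀ hξ₀ g1.symm
        have hinner : Cfsg.classInner (τ (χ₁ - ξ)) v₀ = (n₁ : ℂ) := by
          rw [hv₀, H43.iso_inner hS.isometry (hvmem ξ hξ) (hvmem ξ₀ hξ₀)]
          simp [CharBasic.classInner_sub_left, CharBasic.classInner_sub_right, hn₁, o0,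
            hS.orthogonal ξ hξ χ₁ hχ₁ h1, hS.orthogonal ξ hξ ξ₀ hξ₀ h3]
        have hzero : Cfsg.classInner (τ (χ₁ - ξ)) (H43.proj (R ξ₀) v₀) = 0 := by
          have hw : ∀ α ∈ R ξ₀, Cfsg.classInner α (τ (χ₁ - ξ)) = 0 := by
            intro α hα
            rw [← CharBasic.classInner_conj_symm, e, CharBasic.classInner_add_left,
              H43.inner_proj_zero (fun β hβ => H43.sys_R_orth hS hξ₀ hχ₁ g1.symm g2' β hβ α hα),
              H43.inner_proj_zero (fun β hβ => H43.sys_R_orth hS hξ₀ hξ h3 h4 β hβ α hα),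
              add_zero, map_zero]
          rw [← CharBasic.classInner_conj_symm, H43.inner_proj_zero hw, map_zero]
        rw [hX, CharBasic.classInner_sub_right, hinner, hzero, sub_zero]
    · push Not at hex
      obtain ⟨T, hT, hTc⟩ := Finset.exists_subset_card_eq (s := R χ₁) (n := n₁)
        (by rw [H43.sys_card_R hS hχ₁ hn₁]; omega)
      have horth : ∀ α ∈ R χ₁, ∀ β ∈ R χ₁, Cfsg.classInner α β = if α = β then 1 else 0 :=
        hS.orthonormal χ₁ hχ₁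
      have key : ∀ U : Finset (G → ℂ), T ⊆ U → U ⊆ R χ₁ →
          Cfsg.classInner (∑ α ∈ U, α) (∑ α ∈ T, α) = (n₁ : ℂ) := by
        intro U hTU hU
        rw [CharBasic.classInner_sum_right, Finset.sum_congr rfl (fun β hβ => by
          rw [CharBasic.classInner_sum_left, Finset.sum_eq_single β
            (fun α hα hne => by rw [horth α (hU hα) β (hT hβ), if_neg hne])
            (fun h => absurd (hTU hβ) h), horth β (hT hβ) β (hT hβ), if_pos rfl]),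
          Finset.sum_const, hTc, nsmul_one]
      refine ⟨∑ α ∈ T, α, H43.gen_sum _ _ fun α hα => hS.virtual χ₁ hχ₁ α (hT hα),
        key T subset_rfl hT, fun ξ hξ h1 => ?_⟩
      rw [hex ξ hξ h1, hS.sum_eq χ₁ hχ₁]
      exact key _ hT subset_rfl
  -- the extension
  obtain ⟨ξ₁, hξ₁, hne₁⟩ : ∃ ξ ∈ S, ξ ≠ χ₁ := ⟨_, hc1, hS.conj_ne χ₁ hχ₁⟩
  let f : (L → ℂ) → (G → ℂ) := fun ξ => X - τ (χ₁ - ξ)
  have hres := H43.coherent_of_images hfin.toFinset S (by simp) τ hS.isometry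
    (fun a ha => H43.sys_ne_zero hS (hfin.mem_toFinset.mp ha))
    (fun a ha b hb => hS.orthogonal a (hfin.mem_toFinset.mp ha) b (hfin.mem_toFinset.mp hb))
    (fun _ => (d : ℤ)) (fun a ha => by simp [hdeg' a (hfin.mem_toFinset.mp ha)]) χ₁
    (hfin.mem_toFinset.mpr hχ₁) (by exact_mod_cast hd0.ne') f ?_ ?_ ?_
    ⟨ξ₁, hfin.mem_toFinset.mpr hξ₁, hne₁⟩
  · rwa [Set.Finite.coe_toFinset] at hres
  · intro a ha
    exact H43.gen_sub hXgen (H43.iso_gen hS.isometry (hvmem a (hfin.mem_toFinset.mp ha)))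
  · intro a ha b hb
    have ha' := hfin.mem_toFinset.mp ha
    have hb' := hfin.mem_toFinset.mp hb
    have hv : ∀ ξ ∈ S, Cfsg.classInner (τ (χ₁ - ξ)) X = if ξ = χ₁ then 0 else (n₁ : ℂ) := by
      intro ξ hξ
      split_ifs with h
      · subst h; rw [sub_self, hτ0, CharBasic.classInner_zero_left]
      · exact hXv ξ hξ h
    have hv' : ∀ ξ ∈ S, Cfsg.classInner X (τ (χ₁ - ξ)) = if ξ = χ₁ then 0 else (n₁ : ℂ) := by
      intro ξ hξ
      rw [← CharBasic.classInner_conj_symm, hv ξ hξ]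
      split_ifs <;> simp
    simp only [f, CharBasic.classInner_sub_left, CharBasic.classInner_sub_right, hXX, hv a ha', hv' b hb',
      H43.iso_inner hS.isometry (hvmem a ha') (hvmem b hb')]
    have ho : ∀ ξ ∈ S, (Cfsg.classInner χ₁ ξ = if ξ = χ₁ then (n₁ : ℂ) else 0) ∧
        (Cfsg.classInner ξ χ₁ = if ξ = χ₁ then (n₁ : ℂ) else 0) := by
      intro ξ hξ
      split_ifs with h
      · subst h; exact ⟨hn₁, hn₁⟩
      · exact ⟨hS.orthogonal χ₁ hχ₁ ξ hξ (Ne.symm h), hS.orthogonal ξ hξ χ₁ hχ₁ h⟩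
    simp only [CharBasic.classInner_sub_left, CharBasic.classInner_sub_right, hn₁, (ho b hb').1,
      (ho a ha').2]
    split_ifs <;> ring
  · intro a ha
    have ha' := hfin.mem_toFinset.mp ha
    have hmem : a - χ₁ ∈ Cfsg.zspanOn S {1}ᶜ := H43.zspanOn_compl_one.mpr
      ⟨H43.zspan_sub (H43.zspan_mem ha') (H43.zspan_mem hχ₁), by simp [hdeg' a ha', hd]⟩
    have h := hS.isometry.1 _ hmem _ (hvmem a ha')
    rw [sub_add_sub_cancel, sub_self, hτ0] at h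
    rw [← smul_sub, hS.isometry.2.1 _ hmem, eq_neg_of_add_eq_zero_left h.symm, ← smul_sub]
    simp only [f, sub_self, hτ0, sub_zero]
    congr 1
    abel

end Cfsg.Agent.S1517
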