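import Cfsg.Statements.S1505
import Cfsg.Agent.H43.CyclicTI

set_option autoImplicit false
open Cfsg

namespace Cfsg.Agent.S1505

open Classical in
/-- Let W₁, W₂ ≤ G form a self-normalising cyclic subgroup W = W₁ ⊔ W₂. For nontrivial linear characters φ, φ' of W trivial on W₂ and ψ, ψ' trivial on W₁, put α = (1 − φ)(1 − ψ) and α' = (1 − φ')(1 − ψ'). Then the function induced from α to G has inner product 1 with the principal character, and the inner product of the functions induced from α and α' is 1 + a + b + ab where a = 1 if φ = φ' (else 0) and b = 1 if ψ = ψ' (else 0). -/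
theorem result {G : Type*} [Group G] [Fintype G] (W₁ W₂ : Subgroup G) (hW : Cfsg.IsSelfNormalizingCyclic W₁ W₂) (φ φ' ψ ψ' : ↥(W₁ ⊔ W₂) →* ℂˣ) (hφ : φ ≠ 1) (hφ' : φ' ≠ 1) (hψ : ψ ≠ 1) (hψ' : ψ' ≠ 1) (hφ₂ : ∀ w : ↥(W₁ ⊔ W₂), (w : G) ∈ W₂ → φ w = 1 ∧ φ' w = 1) (hψ₁ : ∀ w : ↥(W₁ ⊔ W₂), (w : G) ∈ W₁ → ψ w = 1 ∧ ψ' w = 1) : Cfsg.classInner (Cfsg.indFun (W₁ ⊔ W₂) (fun w => 1 - (φ w : ℂ) - (ψ w : ℂ) + (φ w : ℂ) * (ψ w : ℂ))) (fun _ => 1) = 1 ∧ Cfsg.classInner (Cfsg.indFun (W₁ ⊔ W₂) (fun w => 1 - (φ w : ℂ) - (ψ w : ℂ) + (φ w : ℂ) * (ψ w : ℂ))) (Cfsg.indFun (W₁ ⊔ W₂) (fun w => 1 - (φ' w : ℂ) - (ψ' w : ℂ) + (φ' w : ℂ) * (ψ' w : ℂ))) = 1 + (if φ = φ' then 1 else 0) + (if ψ = ψ' then 1 else 0) + (if φ = φ' then 1 else 0) * (if ψ = ψ' then 1 else 0) := by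
  haveI : Fintype ↥(W₁ ⊔ W₂) := Fintype.ofFinite _
  have hR : H43.TrivR φ := fun w hw => (hφ₂ w hw).1
  have hR' : H43.TrivR φ' := fun w hw => (hφ₂ w hw).2
  have hL : H43.TrivL ψ := fun w hw => (hψ₁ w hw).1
  have hL' : H43.TrivL ψ' := fun w hw => (hψ₁ w hw).2
  let c : (↥(W₁ ⊔ W₂) →* ℂˣ) → (↥(W₁ ⊔ W₂) → ℂ) := fun ω w => (ω w : ℂ)
  have halpha : ∀ a b : ↥(W₁ ⊔ W₂) →* ℂˣ, H43.cycAlpha a b = c 1 - c a - c b + c (a * b) := by
    intro a b; funext w; simp [H43.cycAlpha, c]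
  have ho : ∀ ω η, Cfsg.classInner (c ω) (c η) = if ω = η then 1 else 0 :=
    fun ω η => by convert H43.linear_orth ω η
  have f1 : φ ≠ ψ := fun e => hφ ((H43.factor_unique hW hR H43.trivR_one H43.trivL_one hL
    (by rw [← e]; ext; simp)).1)
  have f1' : φ' ≠ ψ' := fun e => hφ' ((H43.factor_unique hW hR' H43.trivR_one H43.trivL_one hL'
    (by rw [← e]; ext; simp)).1)
  have fne : ∀ {a b a' b' : ↥(W₁ ⊔ W₂) →* ℂˣ}, H43.TrivR a → H43.TrivL b → H43.TrivR a' → H43.TrivL b' →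
      (a * b = a' * b' ↔ a = a' ∧ b = b') := fun ha hb ha' hb' =>
    ⟨H43.factor_unique hW ha ha' hb hb', fun h => by rw [h.1, h.2]⟩
  have g1 : φ * ψ ≠ 1 := fun e => hφ ((fne hR hL H43.trivR_one H43.trivL_one).mp (e.trans (by ext; simp))).1
  have g2 : φ * ψ ≠ φ' := fun e => hψ ((fne hR hL hR' H43.trivL_one).mp (e.trans (by ext; simp))).2
  have g3 : φ * ψ ≠ ψ' := fun e => hφ ((fne hR hL H43.trivR_one hL').mp (e.trans (by ext; simp))).1
  have g4 : φ ≠ ψ' := fun e => hφ ((fne hR H43.trivL_one H43.trivR_one hL').mp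
    (by rw [← e]; ext; simp)).1
  have g5 : ψ ≠ φ' := fun e => hψ ((fne H43.trivR_one hL hR' H43.trivL_one).mp
    (by rw [← e]; ext; simp)).2
  have g1' : φ' * ψ' ≠ 1 := fun e => hφ' ((fne hR' hL' H43.trivR_one H43.trivL_one).mp (e.trans (by ext; simp))).1
  have g2' : φ' * ψ' ≠ φ := fun e => hψ' ((fne hR' hL' hR H43.trivL_one).mp (e.trans (by ext; simp))).2
  have g3' : φ' * ψ' ≠ ψ := fun e => hφ' ((fne hR' hL' H43.trivR_one hL).mp (e.trans (by ext; simp))).1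
  constructor
  · show Cfsg.classInner (Cfsg.indFun (W₁ ⊔ W₂) (H43.cycAlpha φ ψ)) (fun _ => 1) = 1
    rw [CharInduce.classInner_indFun_left _ _ _ (fun _ _ => rfl),
      show (fun h : ↥(W₁ ⊔ W₂) => (1 : ℂ)) = c 1 from funext fun w => by simp [c], halpha]
    simp [CharBasic.classInner_add_left, CharBasic.classInner_sub_left, ho, hφ, hψ, g1]
  · show Cfsg.classInner (Cfsg.indFun (W₁ ⊔ W₂) (H43.cycAlpha φ ψ))
      (Cfsg.indFun (W₁ ⊔ W₂) (H43.cycAlpha φ' ψ')) = _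
    rw [CharInduce.classInner_indFun_left _ _ _ (fun g h => by
      simp only [CharInduce.indFun_apply]
      congr 1
      exact Fintype.sum_equiv (Equiv.mulLeft h⁻¹) _ _ (fun x => by simp [mul_assoc]))]
    have hres : Cfsg.classInner (H43.cycAlpha φ ψ)
        (fun w : ↥(W₁ ⊔ W₂) => Cfsg.indFun (W₁ ⊔ W₂) (H43.cycAlpha φ' ψ') w)
        = Cfsg.classInner (H43.cycAlpha φ ψ) (H43.cycAlpha φ' ψ') := by
      simp only [CharBasic.classInner_def]
      congr 1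
      refine Finset.sum_congr rfl fun w _ => ?_
      by_cases hw : (w : G) ∈ W₁ ∨ (w : G) ∈ W₂
      · rw [H43.cycAlpha_zero hR hL w hw, zero_mul, zero_mul]
      · push Not at hw
        rw [H43.indFun_cycAlpha_apply hW hR' hL' w hw.1 hw.2]
    rw [hres, halpha, halpha]
    simp only [CharBasic.classInner_add_left, CharBasic.classInner_sub_left,
      CharBasic.classInner_add_right, CharBasic.classInner_sub_right, ho, fne hR hL hR' hL']
    simp [hφ, hψ, hφ.symm, hψ.symm, hφ'.symm, hψ'.symm, hφ', hψ', g1, g2, g3, g4, g5, g1.symm, g1'.symm, g2'.symm, g3'.symm]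
    split_ifs <;> simp_all <;> norm_num

end Cfsg.Agent.S1505
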