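import Cfsg.Statements.S1388
import Cfsg.Agent.H41.Nilpotent
-- import your own Cfsg.Agent.* helpers here

set_option autoImplicit false
open Cfsg

namespace Cfsg.Agent.S1388

/-- Let M be a subgroup of a finite group G with type-P data (W₁, U, W₂) and H = M_F. Then the derived subgroup of U centralizes H, and if U ≠ 1 then U does not centralize H. -/
theorem result {G : Type*} [Group G] [Finite G] (M W₁ U W₂ : Subgroup G) (hP : Cfsg.IsTypePWith M W₁ U W₂) :
    ⁅U, U⁆ ≤ Subgroup.centralizer (Cfsg.fittingHallOf M : Set G) ∧ (U ≠ ⊥ → ¬ U ≤ Subgroup.centralizer (Cfsg.fittingHallOf M : Set G)) := by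
  refine ⟨?_, ?_⟩
  · refine (le_inf (Subgroup.commutator_le_self U) ?_).trans (H41.typeP_inf_fitting_le_centralizer hP)
    rw [← hP.fitting_eq]
    exact (Subgroup.commutator_mono hP.U_compl.2.1 hP.U_compl.2.1).trans hP.derived_two_le
  · intro hU1 hUC
    have hM'M : ⁅M, M⁆ ≤ M := Subgroup.commutator_le_self M
    have hUM : U ≤ M := hP.U_compl.2.1.trans hM'M
    have hle : ⁅M, M⁆ ≤ Cfsg.fittingOf M := by
      intro m hm
      obtain ⟨h, hh, u, hu, rfl⟩ := hP.U_compl.2.2.2 m hm
      rw [← hP.fitting_eq]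
      exact Subgroup.mul_mem_sup hh ⟨hUM hu, hUC hu⟩
    have hnil : Group.IsNilpotent ↥⁅M, M⁆ := by
      haveI := Cores.fittingSubgroup_isNilpotent (G := M)
      haveI : Group.IsNilpotent (Cfsg.fittingOf M) :=
        Group.nilpotent_of_surjective (M.subtype.subgroupMap _) (M.subtype.subgroupMap_surjective _)
      exact Group.nilpotent_of_mulEquiv (Subgroup.subgroupOfEquivOfLe hle)
    have hnorm : (⁅M, M⁆.subgroupOf M).Normal :=
      (Subgroup.normal_subgroupOf_iff_le_normalizer hM'M).2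
        (Subgroup.le_normalizer_iff_commutator_le_right.2 (Subgroup.commutator_mono le_rfl hM'M))
    have hcop : (Nat.card (⁅M, M⁆.subgroupOf M)).Coprime (⁅M, M⁆.subgroupOf M).index := by
      obtain ⟨e1, e2⟩ := H41.IsComplIn.relIndex_eq hP.W₁_compl
      have h := hP.W₁_hall.symm
      rw [e1] at h
      rw [Nat.card_congr (Subgroup.subgroupOfEquivOfLe hM'M).toEquiv]
      change (Nat.card ↥⁅M, M⁆).Coprime (⁅M, M⁆.relIndex M)
      rwa [e2]
    have hnil' : Group.IsNilpotent (⁅M, M⁆.subgroupOf M) :=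
      (Group.isNilpotent_congr (Subgroup.subgroupOfEquivOfLe hM'M)).2 hnil
    have hH : ⁅M, M⁆ ≤ Cfsg.fittingHallOf M := by
      rw [← Subgroup.map_subgroupOf_eq_of_le hM'M]
      exact Subgroup.map_mono (le_sSup ⟨hnorm, hnil', hcop⟩)
    apply hU1
    rw [← le_bot_iff, ← hP.U_compl.2.2.1]
    exact le_inf (hP.U_compl.2.1.trans hH) le_rfl

end Cfsg.Agent.S1388
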