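import Cfsg.Statements.S0205
import Cfsg.Agent.OddOrder.PF14.CTrivial
import Cfsg.Agent.OddOrder.PF14.Inputs
import Cfsg.Agent.OddOrder.PF14.Coherence
import Cfsg.Agent.OddOrder.PF11.Unconditional
import Cfsg.Agent.OddOrder.Assemble

set_option autoImplicit false
open Cfsg

namespace Cfsg.Agent.S0205

open Cfsg.Agent.OddOrder in
/-- Peterfalvi (14) in a minimal simple group of odd order. -/
theorem config {G : Type*} [Group G] [Finite G] (hG : Cfsg.IsMinSimpleOddOrder G) :
    ConfigTheorem G := by
  classical
  let := Fintype.ofFinite G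
  exact PF14.configTheorem_of_C hG fun S T U V W₁ W₂ hS hT hSP hTP hII hor d d' =>
    PF14.core_centralizer_eq_bot hG (BG16.sectionFacts hG) (PF14.typeI_frobenius hG)
      (PF14.typeI_coherent hG (BG16.sectionFacts hG) (PF14.typeI_frobenius hG))
      hS hT hSP hTP hII hor d d' fun hIII => (PF11.nonII_facts_all hG T W₂ V W₁ hT hTP
        fun h => PF8.not_typeIII_IV_of_typeII h (Or.inl hIII)).2.2.2.2

/-- The Odd Order Theorem: a finite group of odd order is solvable. -/
theorem result {G : Type*} [Group G] [Finite G] (hG : Odd (Nat.card G)) : Group.IsSolvable G := by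
  exact OddOrder.solvable_of_S1544
    (fun G _ _ hG => by
      classical
      let := Fintype.ofFinite G
      exact OddOrder.PF14.typeI_frobenius hG)
    (fun G _ _ hG => config hG) G hG

end Cfsg.Agent.S0205
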