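import Cfsg.Statements.S0841
import Mathlib.Tactic.Group
import Mathlib.Data.Nat.Choose.Basic
import Mathlib.Tactic.Set
import Mathlib.Tactic.Ring

set_option autoImplicit false
open Cfsg

namespace Cfsg.Agent.S0841

/-- If the commutator subgroup of G lies in the centre, then for all x, y in G and every natural number n one has (x * y) ^ n = x ^ n * y ^ n * c ^ (n * (n - 1) / 2) with c = y⁻¹ * x⁻¹ * y * x. -/
theorem result {G : Type*} [Group G] (hG : commutator G ≤ Subgroup.center G) (x y : G) (n : ℕ) : (x * y) ^ n = x ^ n * y ^ n * (y⁻¹ * x⁻¹ * y * x) ^ (n * (n - 1) / 2) := by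
  set c := y⁻¹ * x⁻¹ * y * x with hcdef
  have hc : ∀ z : G, z * c = c * z := by
    have hmem : c ∈ commutator G := by
      have h := Subgroup.commutator_mem_commutator (Subgroup.mem_top y⁻¹) (Subgroup.mem_top x⁻¹)
      simpa [commutator, commutatorElement_def, hcdef, mul_assoc] using h
    exact fun z => Subgroup.mem_center_iff.mp (hG hmem) z
  have hyx : y * x = x * y * c := by rw [hcdef]; group
  have hcp : ∀ (z : G) (k : ℕ), z * c ^ k = c ^ k * z := fun z k =>
    (Commute.pow_right (hc z : Commute z c) k).eq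
  have hmove : ∀ k : ℕ, y ^ k * x = x * y ^ k * c ^ k := by
    intro k
    induction k with
    | zero => simp
    | succ k ih =>
      calc y ^ (k + 1) * x = y ^ k * (y * x) := by rw [pow_succ, mul_assoc]
        _ = (y ^ k * x) * (y * c) := by rw [hyx]; simp only [mul_assoc]
        _ = x * y ^ k * (c ^ k * y) * c := by rw [ih]; simp only [mul_assoc]
        _ = x * y ^ k * (y * c ^ k) * c := by rw [← hcp y k]
        _ = x * y ^ (k + 1) * c ^ (k + 1) := by rw [pow_succ, pow_succ]; simp only [mul_assoc]
  induction n with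
  | zero => simp
  | succ k ih =>
    have harith : k * (k - 1) / 2 + k = (k + 1) * (k + 1 - 1) / 2 := by
      rw [← Nat.choose_two_right, ← Nat.choose_two_right, Nat.choose_succ_succ', Nat.choose_one_right, add_comm]
    rw [pow_succ, ih, ← harith]
    calc x ^ k * y ^ k * c ^ (k * (k - 1) / 2) * (x * y)
        = x ^ k * y ^ k * (x * y) * c ^ (k * (k - 1) / 2) := by rw [mul_assoc, ← hcp, ← mul_assoc]
      _ = x ^ k * (y ^ k * x) * y * c ^ (k * (k - 1) / 2) := by simp only [mul_assoc]
      _ = x ^ k * x * y ^ k * (c ^ k * y) * c ^ (k * (k - 1) / 2) := by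
          rw [hmove]; simp only [mul_assoc]
      _ = x ^ k * x * y ^ k * (y * c ^ k) * c ^ (k * (k - 1) / 2) := by rw [← hcp y k]
      _ = x ^ (k + 1) * y ^ (k + 1) * c ^ (k * (k - 1) / 2 + k) := by
          rw [pow_succ, pow_succ, add_comm (k * (k - 1) / 2) k, pow_add]; simp only [mul_assoc]

end Cfsg.Agent.S0841
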