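import Cfsg.Statements.S1469
import Cfsg.Agent.H42.PuigCenter

set_option autoImplicit false
open Cfsg

namespace Cfsg.Agent.S1469

/-- Let p be an odd prime, G a solvable group of odd order and S a Sylow p-subgroup, and let Z be the centre of the Puig subgroup L(S), viewed inside G. Then G is generated by O_{p'}(G) and N_G(Z); and if O_{p'}(G) = 1 then Z is normal in G. -/
theorem result {G : Type*} [Group G] [Finite G] [Group.IsSolvable G] (hodd : Odd (Nat.card G)) (p : ℕ) [Fact p.Prime] (hp : p ≠ 2) (S : Sylow p G) :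
    Cfsg.pPrimeCore p G ⊔ Subgroup.normalizer ((((Subgroup.center ↥(Cfsg.puigSubgroup ↥(S : Subgroup G))).map (Cfsg.puigSubgroup ↥(S : Subgroup G)).subtype).map (S : Subgroup G).subtype : Subgroup G) : Set G) = ⊤ ∧
      (Cfsg.pPrimeCore p G = ⊥ → (((Subgroup.center ↥(Cfsg.puigSubgroup ↥(S : Subgroup G))).map (Cfsg.puigSubgroup ↥(S : Subgroup G)).subtype).map (S : Subgroup G).subtype).Normal) := by
  classical
  rw [Cfsg.Agent.H42.center_upperIn]
  refine ⟨?_, fun hO => Cfsg.Agent.H42.puig_center_normal hp hodd hO S⟩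
  set K := Cfsg.pPrimeCore p G with hK
  set L := Cfsg.Agent.H42.upperIn (S : Subgroup G) with hL
  set Z := L ⊓ Subgroup.centralizer (L : Set G) with hZ
  set π := QuotientGroup.mk' K with hπ
  have hsurj : Function.Surjective π := QuotientGroup.mk'_surjective _
  have hd : ∀ x, x ∈ (S : Subgroup G) → x ∈ K → x = 1 := fun x hx hxK =>
    (Subgroup.disjoint_def.mp (disjoint_iff.mpr (Cfsg.Agent.Cores.disjoint_of_isPGroup_of_coprime
      S.isPGroup' Cfsg.Agent.Cores.coprime_card_pPrimeCore))) hx hxK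
  have hinj : ∀ a ∈ (S : Subgroup G), ∀ b ∈ (S : Subgroup G), π a = π b → a = b := by
    intro a ha b hb h
    have h1 : a⁻¹ * b ∈ K := QuotientGroup.eq.mp h
    exact inv_mul_eq_one.mp (hd _ (mul_mem (inv_mem ha) hb) h1)
  have hodd' : Odd (Nat.card (G ⧸ K)) := hodd.of_dvd_nat (Subgroup.card_quotient_dvd_card _)
  haveI : Group.IsSolvable (G ⧸ K) := Group.isSolvable_of_surjective hsurj
  have hn := Cfsg.Agent.H42.puig_center_normal hp hodd'
    Cfsg.Agent.Cores.pPrimeCore_quotient_pPrimeCore (S.mapSurjective hsurj)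
  rw [Sylow.coe_mapSurjective, ← Cfsg.Agent.H42.map_upperIn_of_injOn π hinj, ← hL] at hn
  have hLS : L ≤ (S : Subgroup G) := Cfsg.Agent.H42.upperIn_le _
  have hZmap : Z.map π = L.map π ⊓ Subgroup.centralizer ((L.map π : Subgroup _) : Set (G ⧸ K)) := by
    refine le_antisymm ?_ ?_
    · rintro _ ⟨x, hx, rfl⟩
      refine ⟨⟨x, hx.1, rfl⟩, Subgroup.mem_centralizer_iff.mpr ?_⟩
      rintro _ ⟨y, hy, rfl⟩
      rw [← map_mul, ← map_mul, Subgroup.mem_centralizer_iff.mp hx.2 y hy]
    · rintro _ ⟨⟨x, hx, rfl⟩, hc⟩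
      refine ⟨x, ⟨hx, Subgroup.mem_centralizer_iff.mpr fun y hy => ?_⟩, rfl⟩
      refine hinj _ (mul_mem (hLS hy) (hLS hx)) _ (mul_mem (hLS hx) (hLS hy)) ?_
      rw [map_mul, map_mul]
      exact Subgroup.mem_centralizer_iff.mp hc _ ⟨y, hy, rfl⟩
  rw [← hZmap] at hn
  have hKZ : (K ⊔ Z).Normal := by
    have := hn.comap π
    rwa [Subgroup.comap_map_eq, QuotientGroup.ker_mk', sup_comm] at this
  have hi : (S : Subgroup G) ⊓ (K ⊔ Z) = Z := by
    refine le_antisymm ?_ (le_inf (inf_le_left.trans hLS) le_sup_right)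
    rintro x ⟨hxS, hx⟩
    obtain ⟨k, hk, z, hz, rfl⟩ := Subgroup.mem_sup_of_normal_left.mp hx
    have hkS : k ∈ (S : Subgroup G) := by
      have := (S : Subgroup G).mul_mem hxS ((S : Subgroup G).inv_mem (hLS hz.1))
      simpa using this
    rw [hd k hkS hk, one_mul]
    exact hz
  haveI := hKZ
  have h := Cfsg.Agent.Thompson.frattini_inf S (K ⊔ Z)
  rw [hi] at h
  refine eq_top_iff.mpr (h.ge.trans (sup_le le_sup_right (sup_le le_sup_left ?_)))
  exact Subgroup.le_normalizer.trans le_sup_right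

end Cfsg.Agent.S1469
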