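import Cfsg.Statements.S0738
import Mathlib
import Cfsg.Agent.H33.Zassenhaus

set_option autoImplicit false
open Cfsg

namespace Cfsg.Agent.S0738

open MulAction Cfsg.Agent.H33

open scoped Classical in
/-- `H` acts by automorphisms, freely on the non-identity elements, of the finite group `F`, and
`|F| - 1 ≤ 2 * |H|`.  Then `F` is abelian of prime exponent (or trivial). -/
theorem kernel_struct {F H : Type*} [Group F] [Group H] [Finite F] [Finite H] (φ : H →* MulAut F)
    (hfree : ∀ h : H, ∀ u : F, φ h u = u → u = 1 ∨ h = 1)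
    (hd : Nat.card F ≤ 2 * Nat.card H + 1) (hF : 2 ≤ Nat.card F) :
    IsMulCommutative F ∧ ∃ p f : ℕ, p.Prime ∧ (∀ u : F, u ^ p = 1) ∧ Nat.card F = p ^ f := by
  have := Fintype.ofFinite F
  have := Fintype.ofFinite H
  set d := Nat.card H with hdd
  have hd0 : 0 < d := Nat.card_pos
  obtain ⟨p, hp, hpF⟩ := Nat.exists_prime_and_dvd (show Nat.card F ≠ 1 by omega)
  have : Fact p.Prime := ⟨hp⟩
  obtain ⟨u, hu⟩ := exists_prime_orderOf_dvd_card' p hpF
  let O : F → Finset F := fun v => Finset.univ.image fun h : H => φ h v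
  have hOcard : ∀ v : F, v ≠ 1 → (O v).card = d := by
    intro v hv
    rw [Finset.card_image_of_injective, Finset.card_univ, ← Nat.card_eq_fintype_card]
    intro h k e
    have e' : φ (k⁻¹ * h) v = v := by
      simp only at e
      rw [map_mul, MulAut.mul_apply, e, ← MulAut.mul_apply, ← map_mul, inv_mul_cancel, map_one,
        MulAut.one_apply]
    rcases hfree _ _ e' with h1 | h1
    · exact absurd h1 hv
    · exact (inv_mul_eq_one.mp h1).symm
  have hO1 : ∀ v : F, v ≠ 1 → (1 : F) ∉ O v := by
    intro v hv h
    obtain ⟨g, -, hg⟩ := Finset.mem_image.mp h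
    exact hv ((φ g).injective (hg.trans (map_one _).symm))
  have hOdisj : ∀ v w : F, v ∉ O w → Disjoint (O v) (O w) := by
    intro v w h
    rw [Finset.disjoint_left]
    intro x hx hx'
    obtain ⟨g, -, rfl⟩ := Finset.mem_image.mp hx
    obtain ⟨k, -, hk⟩ := Finset.mem_image.mp hx'
    refine h (Finset.mem_image.mpr ⟨g⁻¹ * k, Finset.mem_univ _, ?_⟩)
    simp only [map_mul, MulAut.mul_apply, hk]
    rw [← MulAut.mul_apply, ← map_mul, inv_mul_cancel, map_one, MulAut.one_apply]
  have hu1 : u ≠ 1 := fun e => by rw [e, orderOf_one] at hu; exact hp.ne_one hu.symm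
  have hcard : Fintype.card F = Nat.card F := Nat.card_eq_fintype_card.symm
  -- it suffices that all non-identity elements have order `p` and some are central
  suffices hmain : IsMulCommutative F ∧ ∀ v : F, v ^ p = 1 by
    have hpg : IsPGroup p F := fun v => ⟨1, by rw [pow_one]; exact hmain.2 v⟩
    obtain ⟨f, hf⟩ := hpg.exists_card_eq
    exact ⟨hmain.1, p, f, hp, hmain.2, hf⟩
  rcases Nat.even_or_odd d with hde | hdo
  · -- an involution of `H` inverts `F`
    have : Fact (Nat.Prime 2) := ⟨Nat.prime_two⟩
    obtain ⟨z, hz⟩ := exists_prime_orderOf_dvd_card' (G := H) 2 (even_iff_two_dvd.mp hde)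
    have hz1 : z ≠ 1 := fun e => by simp [e] at hz
    have hfp : MonoidHom.FixedPointFree (φ z).toMonoidHom :=
      fun v hv => (hfree z v hv).resolve_right hz1
    have hinv : Function.Involutive (φ z).toMonoidHom := fun v => by
      show φ z (φ z v) = v
      rw [← MulAut.mul_apply, ← map_mul, ← pow_two, ← hz, pow_orderOf_eq_one, map_one,
        MulAut.one_apply]
    have hcomm : ∀ v w : F, v * w = w * v := fun v w =>
      MonoidHom.FixedPointFree.commute_all_of_involutive hfp hinv v w
    refine ⟨⟨⟨hcomm⟩⟩, fun w => ?_⟩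
    by_contra hw
    let A : Subgroup F :=
      { carrier := {v | v ^ p = 1}
        one_mem' := one_pow p
        mul_mem' := fun {x y} hx hy => by
          show (x * y) ^ p = 1
          rw [(show Commute x y from hcomm x y).mul_pow, hx, hy, one_mul]
        inv_mem' := fun {x} hx => by
          show (x⁻¹) ^ p = 1
          rw [inv_pow, hx, inv_one] }
    let As : Finset F := Finset.univ.filter fun v => v ^ p = 1
    have hup : u ^ p = 1 := by rw [← hu]; exact pow_orderOf_eq_one u
    have hw1 : w ≠ 1 := fun e => hw (by rw [e, one_pow])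
    have hsub1 : insert 1 (O u) ⊆ As := by
      intro x hx
      simp only [As, Finset.mem_filter, Finset.mem_univ, true_and]
      rcases Finset.mem_insert.mp hx with rfl | hx
      · exact one_pow p
      · obtain ⟨g, -, rfl⟩ := Finset.mem_image.mp hx
        rw [← map_pow, hup, map_one]
    have hsub2 : O w ⊆ Asᶜ := by
      intro x hx
      simp only [As, Finset.mem_compl, Finset.mem_filter, Finset.mem_univ, true_and]
      obtain ⟨g, -, rfl⟩ := Finset.mem_image.mp hx
      rw [← map_pow, map_eq_one_iff _ (φ g).injective]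
      exact hw
    have h1 := Finset.card_le_card hsub1
    rw [Finset.card_insert_of_notMem (hO1 u hu1), hOcard u hu1] at h1
    have h2 := Finset.card_le_card hsub2
    rw [hOcard w hw1, Finset.card_compl, hcard] at h2
    have hAs : As.card = Nat.card A := by
      rw [Nat.card_eq_fintype_card, Fintype.card_subtype]; rfl
    have h3 : As.card = d + 1 ∧ Nat.card F = 2 * d + 1 := by omega
    have h4 := Subgroup.card_subgroup_dvd_card A
    rw [← hAs, h3.1, h3.2] at h4
    have h5 : d + 1 ∣ 1 := by
      have h6 : d + 1 ∣ 2 * (d + 1) := dvd_mul_left _ _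
      have := Nat.dvd_sub h6 h4
      rwa [show 2 * (d + 1) - (2 * d + 1) = 1 by omega] at this
    have := Nat.le_of_dvd Nat.one_pos h5
    omega
  · -- the orbit of `u` and of `u⁻¹` cover everything
    have hcov : ∀ w : F, w ≠ 1 → w ∈ O u ∨ w⁻¹ ∈ O u := by
      intro w hw1
      by_contra hcon
      push Not at hcon
      have hd1 := hOdisj w u hcon.1
      by_cases hself : u⁻¹ ∈ O u
      · -- then `u` is an involution and `|F|` is even
        obtain ⟨g, -, hg⟩ := Finset.mem_image.mp hself
        have hgg : φ (g * g) u = u := by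
          rw [map_mul, MulAut.mul_apply, hg, map_inv, hg, inv_inv]
        have hg2 : g * g = 1 := (hfree _ _ hgg).resolve_left hu1
        have hg1 : g = 1 := by
          by_contra hg1
          have ho : orderOf g = 2 := orderOf_eq_prime (by rw [pow_two, hg2]) hg1
          have hdv := orderOf_dvd_natCard g
          rw [ho, ← hdd] at hdv
          obtain ⟨r, hr⟩ := hdo
          omega
        rw [hg1, map_one, MulAut.one_apply] at hg
        have hp2 : p = 2 := by
          have h2 : u ^ 2 = 1 := by rw [pow_two]; exact eq_inv_iff_mul_eq_one.mp hg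
          have h2' := orderOf_dvd_of_pow_eq_one h2
          rw [hu] at h2'
          exact (Nat.prime_dvd_prime_iff_eq hp Nat.prime_two).mp h2'
        have hsub : insert 1 (O w ∪ O u) ⊆ (Finset.univ : Finset F) := Finset.subset_univ _
        have h1 := Finset.card_le_card hsub
        rw [Finset.card_insert_of_notMem (by simp [hO1 w hw1, hO1 u hu1]),
          Finset.card_union_of_disjoint hd1, hOcard w hw1, hOcard u hu1, Finset.card_univ, hcard] at h1
        obtain ⟨r, hr⟩ := hp2 ▸ hpF
        omega
      · have hw2 : w ∉ O u⁻¹ := fun h => hcon.2 (by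
          obtain ⟨g, -, hg⟩ := Finset.mem_image.mp h
          refine Finset.mem_image.mpr ⟨g, Finset.mem_univ _, ?_⟩
          rw [← hg, map_inv, inv_inv])
        have hd2 := hOdisj w u⁻¹ hw2
        have hd3 := hOdisj u⁻¹ u hself
        have hu1' : u⁻¹ ≠ 1 := inv_ne_one.mpr hu1
        have h1 := Finset.card_le_card (Finset.subset_univ (insert 1 (O w ∪ (O u⁻¹ ∪ O u))))
        rw [Finset.card_insert_of_notMem (by simp [hO1 w hw1, hO1 u hu1, hO1 _ hu1']),
          Finset.card_union_of_disjoint (Finset.disjoint_union_right.mpr ⟨hd2, hd1⟩),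
          Finset.card_union_of_disjoint hd3, hOcard w hw1, hOcard _ hu1', hOcard u hu1,
          Finset.card_univ, hcard] at h1
        omega
    have hexp : ∀ v : F, v ^ p = 1 := by
      intro v
      rcases eq_or_ne v 1 with rfl | hv
      · exact one_pow p
      · have hup : u ^ p = 1 := by rw [← hu]; exact pow_orderOf_eq_one u
        rcases hcov v hv with h | h <;> obtain ⟨g, -, hg⟩ := Finset.mem_image.mp h
        · rw [← hg, ← map_pow, hup, map_one]
        · rw [← inv_inv v, ← hg, inv_pow, ← map_pow, hup, map_one, inv_one]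
    refine ⟨?_, hexp⟩
    have hpg : IsPGroup p F := fun v => ⟨1, by rw [pow_one]; exact hexp v⟩
    have : Nontrivial F := ⟨⟨u, 1, hu1⟩⟩
    have := hpg.center_nontrivial
    obtain ⟨c, hc⟩ := exists_ne (1 : Subgroup.center F)
    have hc1 : (c : F) ≠ 1 := fun e => hc (Subtype.ext e)
    have hmove : ∀ (g : H) (x : F), x ∈ Subgroup.center F → φ g x ∈ Subgroup.center F := by
      intro g x hx
      rw [Subgroup.mem_center_iff] at hx ⊢
      intro y
      obtain ⟨y', rfl⟩ := (φ g).surjective y
      rw [← map_mul, ← map_mul, hx]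
    have hback : ∀ (g : H) (x : F), φ g x ∈ Subgroup.center F → x ∈ Subgroup.center F := by
      intro g x hx
      have := hmove g⁻¹ _ hx
      rwa [← MulAut.mul_apply, ← map_mul, inv_mul_cancel, map_one, MulAut.one_apply] at this
    have hu_c : u ∈ Subgroup.center F := by
      rcases hcov c hc1 with h | h <;> obtain ⟨g, -, hg⟩ := Finset.mem_image.mp h
      · exact hback g u (by rw [hg]; exact c.2)
      · exact hback g u (by rw [hg]; exact inv_mem c.2)
    have hall : ∀ v : F, v ∈ Subgroup.center F := by
      intro v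
      rcases eq_or_ne v 1 with rfl | hv
      · exact one_mem _
      · rcases hcov v hv with h | h <;> obtain ⟨g, -, hg⟩ := Finset.mem_image.mp h
        · rw [← hg]; exact hmove g u hu_c
        · rw [← inv_inv v, ← hg]; exact inv_mem (hmove g u hu_c)
    exact ⟨⟨fun v w => (Subgroup.mem_center_iff.mp (hall w) v)⟩⟩

/-- Let a finite Zassenhaus group of degree `n + 1` have two-point stabilisers of order `d` with `2d ≥ n - 1`. Then a normal subgroup of a point stabiliser acting regularly on the remaining points is elementary abelian, and the degree is a prime power plus one. -/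
theorem result {G Ω : Type*} [Group G] [Finite G] [MulAction G Ω] [Fintype Ω] (hZ : Cfsg.IsZassenhausGroup G Ω) {a b : Ω} (hab : a ≠ b) (hd : Fintype.card Ω - 2 ≤ 2 * Nat.card ↥(MulAction.stabilizer G a ⊓ MulAction.stabilizer G b)) (F : Subgroup G) (hFle : F ≤ MulAction.stabilizer G a) (hFn : (F.subgroupOf (MulAction.stabilizer G a)).Normal) (hreg : ∀ y z : Ω, y ≠ a → z ≠ a → ∃! u : F, (u : G) • y = z) : IsMulCommutative F ∧ ∃ p f : ℕ, p.Prime ∧ (∀ u ∈ F, u ^ p = 1) ∧ Fintype.card Ω = p ^ f + 1 := by
  classical
  haveI := hZ.1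
  have hN3 := zas_three_le_card hZ
  rw [Nat.card_eq_fintype_card] at hN3
  have hcardF : Nat.card F = Fintype.card Ω - 1 := by
    have e : F ≃ {y : Ω // y ≠ a} := Equiv.ofBijective
      (fun u => ⟨(u : G) • b, fun h => hab.symm (MulAction.injective (u : G)
        (h.trans (hFle u.2).symm))⟩)
      ⟨fun u v h => (hreg b ((v : G) • b) hab.symm (fun h' => hab.symm
          (MulAction.injective (v : G) (h'.trans (hFle v.2).symm)))).unique
          (congrArg Subtype.val h) rfl,
       fun y => let ⟨u, hu, _⟩ := hreg b y hab.symm y.2; ⟨u, Subtype.ext hu⟩⟩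
    rw [Nat.card_congr e, Nat.card_eq_fintype_card, Fintype.card_subtype_compl,
      Fintype.card_subtype_eq]
  set K := stabilizer G a ⊓ stabilizer G b with hK
  have hKN : K ≤ Subgroup.normalizer (F : Set G) := inf_le_left.trans
    (Subgroup.normal_subgroupOf_iff_le_normalizer hFle |>.mp hFn)
  let φ : K →* MulAut F := F.normalizerMonoidHom.comp (Subgroup.inclusion hKN)
  have hφ : ∀ (h : K) (u : F), ((φ h u : F) : G) = (h : G) * u * (h : G)⁻¹ := fun h u => rfl
  have hfree : ∀ h : K, ∀ u : F, φ h u = u → u = 1 ∨ h = 1 := by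
    intro h u e
    by_contra hcon
    push Not at hcon
    have e' : (h : G) * u = u * h := by
      have := hφ h u
      rw [e] at this
      exact (eq_mul_inv_iff_mul_eq.mp this).symm
    have hfix : (u : G) • b ∈ fixedBy Ω (h : G) := by
      show (h : G) • (u : G) • b = (u : G) • b
      rw [smul_smul, e', mul_smul, h.2.2]
    rw [zas_fixed_of_pair hZ (fun x => hcon.2 (Subtype.ext x)) hab h.2.1 h.2.2] at hfix
    rcases hfix with hfix | hfix
    · exact hab.symm (MulAction.injective (u : G) (hfix.trans (hFle u.2).symm))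
    · exact hcon.1 ((hreg b b hab.symm hab.symm).unique hfix (one_smul G b))
  obtain ⟨hcomm, p, f, hp, hexp, hf⟩ := kernel_struct φ hfree (by omega) (by omega)
  refine ⟨hcomm, p, f, hp, fun u hu => ?_, by omega⟩
  exact congrArg Subtype.val (hexp ⟨u, hu⟩)

end Cfsg.Agent.S0738
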