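import Cfsg.Statements.S0340
import Cfsg.Agent.H28.ZassClassify

set_option autoImplicit false
open Cfsg

namespace Cfsg.Agent.S0340

/-- Classification of Zassenhaus groups, simple case, order-level form: a finite simple Zassenhaus group is
isomorphic to `PSL₂(F)` for some finite field `F` or is simple of Suzuki order. -/
theorem result {G Ω : Type*} [Group G] [Finite G] [MulAction G Ω]
    [Finite Ω] (hZ : Cfsg.IsZassenhausGroup G Ω) [IsSimpleGroup G] :
    (∃ (F : Type) (_ : Field F) (_ : Fintype F), Nonempty (G ≃* Matrix.ProjectiveSpecialLinearGroup (Fin 2) F)) ∨ Cfsg.IsSuzuki G := by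
  classical
  have := Fintype.ofFinite G
  obtain ⟨g, -, a, b, hab, -, -⟩ := hZ.2.2.2.1
  obtain ⟨H, hH, -⟩ := H28.Zass.exists_ker hZ a
  by_cases hcomm : ∀ u ∈ H, ∀ v ∈ H, u * v = v * u
  · rcases H28.Zass.kernel_cases hH hZ hab hcomm with he | he
    · rcases Nat.even_or_odd (Nat.card ↥(MulAction.stabilizer G a ⊓ MulAction.stabilizer G b))
        with hev | hodd
      · have := H28.Zass.even_simple_half hH hZ hab hev
        have : 0 < Nat.card ↥(MulAction.stabilizer G a ⊓ MulAction.stabilizer G b) := Nat.card_pos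
        omega
      · obtain ⟨hcyc, -, hinv⟩ := H28.Zass.inverted_of_simple hZ hab hodd
        obtain ⟨F, hF1, hF2, -, -, hiso⟩ := H28.Zass.sharp_equiv hH hZ hab hcomm
          (fun x hx y hy => by
            let := hcyc
            letI : CommGroup ↥(MulAction.stabilizer G a ⊓ MulAction.stabilizer G b) :=
              IsCyclic.commGroup
            exact congrArg Subtype.val (mul_comm
              (⟨x, hx⟩ : ↥(MulAction.stabilizer G a ⊓ MulAction.stabilizer G b)) ⟨y, hy⟩))
          hinv he (he ▸ hodd.add_one)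
        exact Or.inl ⟨F, hF1, hF2, hiso⟩
    · obtain ⟨F, hF1, hF2, -, -, hiso⟩ := H28.Zass.half_equiv hH hZ hab hcomm he
      exact Or.inl ⟨F, hF1, hF2, hiso⟩
  · push Not at hcomm
    obtain ⟨u, hu, v, hv, huv⟩ := hcomm
    have := H28.Zass.finite_of_zas hZ
    have := Fintype.ofFinite Ω
    have hodd : Odd (Nat.card ↥(MulAction.stabilizer G a ⊓ MulAction.stabilizer G b)) :=
      Nat.not_even_iff_odd.1 fun he => huv (H28.Zass.even_comm hH hZ hab he u hu v hv)
    have hlt : 2 * Nat.card ↥(MulAction.stabilizer G a ⊓ MulAction.stabilizer G b) <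
        Nat.card H - 1 := by
      by_contra hle
      have hn : (H.subgroupOf (MulAction.stabilizer G a)).Normal := hH.normal_sub hZ
      obtain ⟨hc, -⟩ := S0738.result hZ hab (by
        rw [← Nat.card_eq_fintype_card, ← hH.card]; omega) H hH.le hn
        (fun y z hy hz => hH.regular hZ hy hz)
      exact huv (congrArg Subtype.val (hc.is_comm.comm ⟨u, hu⟩ ⟨v, hv⟩))
    obtain ⟨h2, -, -⟩ := H28.Zass.simple_feit_two hH hZ hab hodd hlt
    obtain ⟨n, hn, hn1, hU, he, -⟩ := H28.ZT.setup hH hZ hab h2 ⟨u, hu, v, hv, huv⟩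
    obtain ⟨m, rfl⟩ := hn
    refine Or.inr ⟨inferInstance, m, by omega, ?_⟩
    rw [hH.card_group hZ hab, ← hH.card, hU, Nat.eq_sub_of_add_eq he]
    ring

end Cfsg.Agent.S0340
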