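import Cfsg.Statements.S1127
import Cfsg.Agent.H38.Counting


set_option autoImplicit false
open Cfsg

namespace Cfsg.Agent.S1127

/-- In the rank-one set-up (`G` finite and doubly transitive on `Ω`, `t` an involution moving `a`, `Q` normal in `G_a` with `G_a = Q D`, `Q ⊓ D = 1` for the two-point stabiliser `D = G_a ⊓ G_{t • a}`, `|Q|` even, `|D|` odd): if `s` is an involution of `G_a` and `r ∈ Q` satisfy `t s t = r⁻¹ t r`, then `C_D(t) = C_D(s)`; moreover `C_D(t) ⊓ C_D(K) = C_D(I ∩ G_a)`, where `K` is the set of elements of `D` inverted by `t` and `I ∩ G_a` the set of involutions of `G_a`. -/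
theorem result {G Ω : Type*} [Group G] [Finite G] [MulAction G Ω] {a : Ω} {t : G} {Q : Subgroup G}
    (hS : Cfsg.IsRankOneSetup G Ω a t Q) :
    (∀ s r : G, s ∈ Cfsg.involutionsIn (MulAction.stabilizer G a : Set G) → r ∈ Q → t * s * t = r⁻¹ * t * r →
        (MulAction.stabilizer G a ⊓ MulAction.stabilizer G (t • a)) ⊓ Subgroup.centralizer {t} = (MulAction.stabilizer G a ⊓ MulAction.stabilizer G (t • a)) ⊓ Subgroup.centralizer {s}) ∧
      (MulAction.stabilizer G a ⊓ MulAction.stabilizer G (t • a)) ⊓ Subgroup.centralizer {t} ⊓ Subgroup.centralizer (Cfsg.invertedBy (MulAction.stabilizer G a ⊓ MulAction.stabilizer G (t • a)) t) =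
        (MulAction.stabilizer G a ⊓ MulAction.stabilizer G (t • a)) ⊓ Subgroup.centralizer (Cfsg.involutionsIn (MulAction.stabilizer G a : Set G)) := by
  have hC : ∀ s r : G, s ∈ involutionsIn (MulAction.stabilizer G a : Set G) → r ∈ Q →
      t * s * t = r⁻¹ * t * r →
      (MulAction.stabilizer G a ⊓ MulAction.stabilizer G (t • a)) ⊓ Subgroup.centralizer {t} =
        (MulAction.stabilizer G a ⊓ MulAction.stabilizer G (t • a)) ⊓ Subgroup.centralizer {s} :=
    fun s r hs hr he => H38.centralizer_distinguished hS hs hr he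
  refine ⟨hC, ?_⟩
  obtain ⟨⟨s, r⟩, ⟨hs, hr, he⟩, -⟩ := H38.structure_equation hS
  have hCs := hC s r hs hr he
  ext d
  constructor
  · rintro ⟨hdt, hdK⟩
    refine ⟨hdt.1, Subgroup.mem_centralizer_iff.mpr fun x hx => ?_⟩
    obtain ⟨k, hk, rfl⟩ := H38.conj_transitive hS hs hx
    have h1 : k * d = d * k := Subgroup.mem_centralizer_iff.mp hdK k hk
    have hds : d ∈ (MulAction.stabilizer G a ⊓ MulAction.stabilizer G (t • a)) ⊓
        Subgroup.centralizer {s} := hCs ▸ hdt
    have h2 : Commute d s := Subgroup.mem_centralizer_singleton_iff.mp hds.2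
    have h1' : Commute d k := h1.symm
    exact ((h1'.inv_right.mul_right h2).mul_right h1').eq.symm
  · rintro ⟨hd, hdI⟩
    have hdI' : ∀ x ∈ involutionsIn (MulAction.stabilizer G a : Set G), x * d = d * x :=
      fun x hx => Subgroup.mem_centralizer_iff.mp hdI x hx
    have key : ∀ e ∈ MulAction.stabilizer G a ⊓ MulAction.stabilizer G (t • a),
        e * s = s * e → e * t = t * e := by
      intro e he' hes
      have : e ∈ (MulAction.stabilizer G a ⊓ MulAction.stabilizer G (t • a)) ⊓
          Subgroup.centralizer {s} := ⟨he', Subgroup.mem_centralizer_singleton_iff.mpr hes⟩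
      rw [← hCs] at this
      exact Subgroup.mem_centralizer_singleton_iff.mp this.2
    have hdt : d * t = t * d := key d hd (hdI' s hs).symm
    refine ⟨⟨hd, Subgroup.mem_centralizer_singleton_iff.mpr hdt⟩,
      Subgroup.mem_centralizer_iff.mpr fun k hk => ?_⟩
    have h2 := hdI' (k⁻¹ * s * k) (H38.conj_mem_invol hS hs hk.1.1)
    have h3 : k * d * k⁻¹ * s = s * (k * d * k⁻¹) := by
      have := congrArg (fun z => k * z * k⁻¹) h2
      simpa [mul_assoc] using this.symm
    have h4 := key _ (mul_mem (mul_mem hk.1 hd) (inv_mem hk.1)) h3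
    have h5 : t * (k * d * k⁻¹) * t⁻¹ = k * d * k⁻¹ := by rw [← h4, mul_inv_cancel_right]
    rw [show t * (k * d * k⁻¹) * t⁻¹ = t * k * t⁻¹ * (t * d * t⁻¹) * (t * k * t⁻¹)⁻¹ by group,
      hk.2, ← hdt, mul_inv_cancel_right, inv_inv] at h5
    have h6 : Commute (k * k) d := by
      have := congrArg (fun z => k * z * k) h5
      show k * k * d = d * (k * k)
      simpa [mul_assoc] using this.symm
    exact (H38.commute_of_commute_sq hS.odd_card hk.1 h6).eq

end Cfsg.Agent.S1127
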