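import Cfsg.Statements.S0873
import Mathlib.GroupTheory.PGroup

set_option autoImplicit false
open Cfsg

namespace Cfsg.Agent.S0873

/-- Let C be a normal subgroup of the finite group G of order prime to p and P a p-subgroup with C ⊔ P = G. Let λ be a character of C of degree 1 invariant under conjugation by G and equal to 1 at every element of C centralized by P. Then λ is identically 1. -/
theorem result {G : Type*} [Group G] [Finite G] (p : ℕ) [Fact p.Prime] (C P : Subgroup G) [hC : C.Normal] (hP : IsPGroup p P) (hcop : Nat.Coprime (Nat.card C) p) (hCP : C ⊔ P = ⊤) (lam : C → ℂ) (hlam : Cfsg.IsCharacter C lam ∧ lam 1 = 1) (hinv : ∀ (g : G) (c : C), lam ⟨g * c * g⁻¹, hC.conj_mem (c : G) c.2 g⟩ = lam c) (hker : ∀ c : C, (c : G) ∈ Subgroup.centralizer (P : Set G) → lam c = 1) : lam = fun _ => 1 := by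
  obtain ⟨⟨k, ρ, hρ⟩, h1⟩ := hlam
  have hk : k = 1 := by
    rw [← hρ, Representation.char_one] at h1
    simpa using h1
  subst hk
  have hmul : ∀ a b : C, lam (a * b) = lam a * lam b := by
    intro a b
    rw [← hρ]
    simp only [Representation.character, map_mul]
    rw [LinearMap.trace_eq_matrix_trace ℂ (Pi.basisFun ℂ (Fin 1)),
      LinearMap.trace_eq_matrix_trace ℂ (Pi.basisFun ℂ (Fin 1)),
      LinearMap.trace_eq_matrix_trace ℂ (Pi.basisFun ℂ (Fin 1)), LinearMap.toMatrix_mul]
    simp [Matrix.trace, Matrix.mul_apply]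
  let f : C →* ℂ := { toFun := lam, map_one' := h1, map_mul' := hmul }
  funext c
  -- the coset of the kernel through `c` contains a fixed point of `P`
  let X := {d : C // lam d = lam c}
  let _ : SMul P X := ⟨fun u d => ⟨⟨(u : G) * d.1 * (u : G)⁻¹, hC.conj_mem _ d.1.2 _⟩,
    (hinv (u : G) d.1).trans d.2⟩⟩
  let _ : MulAction P X :=
    { one_smul := fun d => by
        apply Subtype.ext
        apply Subtype.ext
        show ((1 : P) : G) * (d.1 : G) * ((1 : P) : G)⁻¹ = (d.1 : G)
        simp
      mul_smul := fun u v d => by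
        apply Subtype.ext
        apply Subtype.ext
        show ((u * v : P) : G) * (d.1 : G) * ((u * v : P) : G)⁻¹ =
          (u : G) * ((v : G) * (d.1 : G) * (v : G)⁻¹) * (u : G)⁻¹
        push_cast
        group }
  have hX : Nat.card X = Nat.card f.ker := Nat.card_congr
    { toFun := fun d => ⟨d.1 * c⁻¹, by
        rw [MonoidHom.mem_ker, map_mul]
        show lam d.1 * lam c⁻¹ = 1
        rw [d.2, ← hmul, mul_inv_cancel]
        exact h1⟩
      invFun := fun d => ⟨d.1 * c, by
        show lam (d.1 * c) = lam c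
        rw [hmul, show lam d.1 = 1 from d.2, one_mul]⟩
      left_inv := fun d => Subtype.ext (inv_mul_cancel_right _ _)
      right_inv := fun d => Subtype.ext (mul_inv_cancel_right _ _) }
  have hnd : ¬ p ∣ Nat.card X := by
    rw [hX]
    exact fun h => (Nat.Prime.coprime_iff_not_dvd Fact.out).mp hcop.symm
      (h.trans (Subgroup.card_subgroup_dvd_card f.ker))
  obtain ⟨d, hd⟩ := hP.nonempty_fixed_point_of_prime_not_dvd_card X hnd
  show lam c = 1
  rw [← d.2]
  refine hker d.1 ?_
  rw [Subgroup.mem_centralizer_iff]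
  intro u hu
  exact mul_inv_eq_iff_eq_mul.mp (congrArg (fun z : X => (z.1 : G)) (hd ⟨u, hu⟩))

end Cfsg.Agent.S0873
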