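import Cfsg.Statements.S0319
import Cfsg.Agent.H28.BNBasic

set_option autoImplicit false
open Cfsg

namespace Cfsg.Agent.S0319

open Cfsg.Agent.H28 in
/-- Tits: for a normal subgroup `K`, the generators in `B ⊔ K` commute mod `B` with the others. -/
theorem commute_of_normal {G : Type*} [Group G] (P : Cfsg.BNPair G) {K : Subgroup G} [hKn : K.Normal]
    {s s' : G} (hs : s ∈ P.S) (hs' : s' ∈ P.S) (h : s ∈ P.B ⊔ K) (h' : s' ∉ P.B ⊔ K) :
    s * s' * s⁻¹ * s'⁻¹ ∈ P.B := by
  set M := P.B ⊔ K with hM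
  have hBM : P.B ≤ M := le_sup_left
  have hKM : K ≤ M := le_sup_right
  obtain ⟨a, ha, k, hk, hak⟩ : ∃ a ∈ P.B, ∃ k ∈ K, a * k = s :=
    Subgroup.mem_sup_of_normal_right.1 h
  have hk' : k ∈ dc P s := by
    rw [show k = a⁻¹ * s by rw [← hak]; group]
    exact left_mem_dc (inv_mem ha) (self_mem_dc P s)
  have hN : s' ∈ P.N := S_mem_N hs'
  have hsN : s ∈ P.N := S_mem_N hs
  have hprod : s' * s ∈ P.N := mul_mem hN hsN
  have hne : len P s ≤ len P (s' * s) := by
    rcases len_cases hs' hsN with h1 | h1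
    · omega
    · exfalso
      rw [len_S hs] at h1
      have h2 := mem_B_of_len_eq_zero hprod (by omega)
      have h3 : s'⁻¹⁻¹ * s ∈ P.B := by simpa using h2
      have h4 : s'⁻¹ * s ∈ P.B := by
        have e : s'⁻¹ * s = (s' * s')⁻¹ * (s' * s) := by group
        rw [e]
        exact mul_mem (sq_inv_mem_B hs') h2
      exact h' (P.inj s' hs' s hs h4 ▸ h)
  -- conjugate of `k` by `s'`
  obtain ⟨x, hx, y, hy, hxy⟩ := (mem_dc P).1 hk'
  obtain ⟨x1, hx1, x2, hx2, hxx⟩ := (mem_dc P).1 (mul_mem_dc_of_len_le _ hs' hsN rfl hne x hx)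
  have hconj : s' * k * s' ⁻¹ ∈ M := hKM (hKn.conj_mem k hk s')
  have e2 : s' * k * s'⁻¹ * (s' * s') = x1 * (s' * s * (x2 * y) * s') := by
    have : s' * k * s'⁻¹ * (s' * s') = (s' * x * s) * y * s' := by rw [hxy]; group
    rw [this, hxx]; group
  have hz : s' * s * (x2 * y) * s' ∈ M := by
    have : s' * s * (x2 * y) * s' = x1⁻¹ * (s' * k * s'⁻¹ * (s' * s')) := by rw [e2]; group
    rw [this]
    exact mul_mem (inv_mem (hBM hx1)) (mul_mem hconj (hBM (P.sq_mem s' hs')))
  have hcell : ∀ {n z : G}, z ∈ M → z ∈ dc P n → n ∈ M := by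
    intro n z hz hzn
    obtain ⟨p, hp, q, hq, rfl⟩ := (mem_dc P).1 hzn
    have : n = p⁻¹ * (p * n * q) * q⁻¹ := by group
    rw [this]
    exact mul_mem (mul_mem (inv_mem (hBM hp)) hz) (inv_mem (hBM hq))
  rcases axiom_right hs' hprod (mul_mem hx2 hy) with h1 | h1
  · -- `s' s s' ∈ M`
    have hn : s' * s * s' ∈ M := hcell hz h1
    have hnN : s' * s * s' ∈ P.N := mul_mem hprod hN
    have hrep : Rep P [s', s, s'] (s' * s * s') :=
      ⟨by simp [hs, hs'], by simp [mul_assoc]⟩
    have hl : len P (s' * s * s') ≠ 3 := fun h3 =>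
      h' (mem_of_reduced hnN hrep (by simp [h3]) hBM
        (fun y hy => mul_mem (mul_mem hn (hBM hy)) (inv_mem hn)) s' (by simp))
    obtain ⟨L, hsub, hlt, hr⟩ := deletion hnN hrep (by simpa using Ne.symm hl)
    obtain ⟨L', hr', hl'⟩ := exists_red hnN
    have hlen : L'.length ≤ 2 := by
      have := len_le hr
      simp at hlt
      omega
    have hpar : len P (s' * s * s') ≠ 2 ∧ len P (s' * s * s') ≠ 0 := by
      have c1 := len_cases hs' (mul_mem hsN hN)
      have c2 := len_cases hs hN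
      rw [← mul_assoc] at c1
      rw [len_S hs'] at c2
      omega
    match L', hr', hl', hlen with
    | [], _, hl', _ => exact absurd hl'.symm hpar.2
    | [_, _], _, hl', _ => exact absurd hl'.symm hpar.1
    | [z], hr', _, _ =>
      have hzS : z ∈ P.S := hr'.1 z (by simp)
      have hz1 : z⁻¹ * (s' * s * s') ∈ P.B := by simpa using hr'.2
      have hzM : z ∈ M := by
        have : z = (s' * s * s') * (z⁻¹ * (s' * s * s'))⁻¹ := by group
        rw [this]
        exact mul_mem hn (inv_mem (hBM hz1))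
      have hzT : z⁻¹ * (s' * s * s') ∈ P.B ⊓ P.N :=
        Subgroup.mem_inf.2 ⟨hz1, mul_mem (inv_mem (S_mem_N hzS)) hnN⟩
      have hmem : s ∈ Subgroup.closure {z, s'} ⊔ (P.B ⊓ P.N) := by
        have e : s = s'⁻¹ * z * (z⁻¹ * (s' * s * s')) * s'⁻¹ := by group
        rw [e]
        exact mul_mem (mul_mem (mul_mem
          (inv_mem (Subgroup.mem_sup_left (Subgroup.subset_closure (by simp))))
          (Subgroup.mem_sup_left (Subgroup.subset_closure (by simp))))
          (Subgroup.mem_sup_right hzT))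
          (inv_mem (Subgroup.mem_sup_left (Subgroup.subset_closure (by simp))))
      have hsz : s = z ∨ s = s' := by
        simpa using mem_of_mem_sup (J := {z, s'}) (by
          rintro w (rfl | rfl)
          · exact hzS
          · exact hs') hs hmem
      rcases hsz with rfl | rfl
      · have ht : s⁻¹ * (s' * s * s') ∈ P.B ⊓ P.N := hzT
        have h5 := (Subgroup.mem_inf.1 (mul_mem
          (conj_T (mul_mem hsN hN) (inv_mem (sq_mem_T hs')))
          (conj_T hsN (inv_mem ht)))).1
        have e : s * s' * (s' * s')⁻¹ * (s * s')⁻¹ * (s * (s⁻¹ * (s' * s * s'))⁻¹ * s⁻¹) =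
            (s * s' * (s' * s')⁻¹ * (s * s')⁻¹) * (s * s'⁻¹ * s⁻¹ * s'⁻¹) := by group
        rw [e] at h5
        have h6 := (Subgroup.mem_inf.1 (conj_T (mul_mem hsN hN) (inv_mem (sq_mem_T hs')))).1
        have h7 : s * s'⁻¹ * s⁻¹ * s'⁻¹ ∈ P.B := (mul_mem_cancel_left h6).1 h5
        have h8 := (Subgroup.mem_inf.1 (conj_T hsN (sq_mem_T hs'))).1
        have e2 : s * s' * s⁻¹ * s'⁻¹ = (s * (s' * s') * s⁻¹) * (s * s'⁻¹ * s⁻¹ * s'⁻¹) := by group
        rw [e2]
        exact mul_mem h8 h7
      · exact absurd h h'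
    | _ :: _ :: _ :: _, _, _, hlen => simp at hlen
  · exfalso
    have h2 : s' * s ∈ M := hcell hz h1
    refine h' ?_
    have : s' = (s' * s) * s⁻¹ := by group
    rw [this]
    exact mul_mem h2 (inv_mem h)


/-- Simplicity criterion for groups with a (B,N)-pair: if the distinguished generators admit no
splitting into two non-empty mutually commuting parts, `B` is solvable, `G` is perfect and the intersection
of all conjugates of `B` is trivial, then `G` is simple. -/
theorem result {G : Type*} [Group G] [Nontrivial G]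
    (P : Cfsg.BNPair G) (hirr : P.Irreducible) (hsolv : Group.IsSolvable P.B) (hperf : commutator G = ⊤)
    (hcore : P.B.normalCore = ⊥) : IsSimpleGroup G := by
  haveI := hsolv
  refine ⟨fun K hK => ?_⟩
  by_cases hJ : {s ∈ P.S | s ∈ P.B ⊔ K}.Nonempty
  · right
    have hall : P.S ⊆ {s ∈ P.S | s ∈ P.B ⊔ K} := by
      by_contra hne
      obtain ⟨s, hs, s', hs', h⟩ := hirr {s ∈ P.S | s ∈ P.B ⊔ K} (fun s hs => hs.1) hJ
        (Set.sdiff_nonempty.2 hne)
      exact h (commute_of_normal P hs.1 hs'.1 hs.2 (fun hm => hs'.2 ⟨hs'.1, hm⟩))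
    have htop : P.B ⊔ K = ⊤ := by
      rw [eq_top_iff, ← H28.parabolic_S (P := P)]
      exact sup_le le_sup_left ((Subgroup.closure_le _).2 fun s hs => (hall hs).2)
    -- `G ⧸ K` is solvable and perfect
    have hsurj : Function.Surjective ((QuotientGroup.mk' K).comp P.B.subtype) := by
      intro q
      obtain ⟨g, rfl⟩ := QuotientGroup.mk'_surjective K q
      obtain ⟨b, hb, k, hk, rfl⟩ :=
        (Subgroup.mem_sup_of_normal_right).1 (htop ▸ Subgroup.mem_top g : g ∈ P.B ⊔ K)
      exact ⟨⟨b, hb⟩, by simp [QuotientGroup.eq, hk]⟩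
    haveI : Group.IsSolvable (G ⧸ K) := solvable_of_surjective hsurj
    by_contra hKtop
    haveI : Nontrivial (G ⧸ K) := QuotientGroup.nontrivial_iff.2 hKtop
    have h1 := Group.IsSolvable.commutator_lt_top_of_nontrivial (G ⧸ K)
    refine h1.ne ?_
    rw [eq_top_iff, ← Subgroup.map_top_of_surjective _ (QuotientGroup.mk'_surjective K), ← hperf,
      commutator_def, commutator_def, Subgroup.map_commutator]
    exact Subgroup.commutator_mono le_top le_top
  · left
    have hle : P.B ⊔ K = P.B := by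
      rw [H28.eq_parabolic (le_sup_left : P.B ≤ P.B ⊔ K), Set.not_nonempty_iff_eq_empty.1 hJ]
      simp [Cfsg.BNPair.parabolic]
    refine eq_bot_iff.2 ?_
    rw [← hcore, Subgroup.normal_le_normalCore]
    exact le_sup_right.trans hle.le

end Cfsg.Agent.S0319
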