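import Cfsg.Statements.S3183
import Mathlib
import Cfsg.Agent.PGroups.Basic

set_option autoImplicit false
open Cfsg

namespace Cfsg.Agent.S3183

open Subgroup

/-- In a CI-group an element which is central in some Sylow subgroup is central in each Sylow subgroup containing it. -/
theorem central_of_central {G : Type*} [Group G] [Finite G]
    (hCI : ∀ S T : Sylow 2 G, S ≠ T → ∃ U : Sylow 2 G,
      (S : Subgroup G) ⊓ (T : Subgroup G) ≤ (center ↥(U : Subgroup G)).map (U : Subgroup G).subtype)
    (S U : Sylow 2 G) {x : G} (hxS : x ∈ (S : Subgroup G))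
    (hxU : x ∈ (center ↥(U : Subgroup G)).map (U : Subgroup G).subtype) :
    (S : Subgroup G) ≤ centralizer ({x} : Set G) := by
  set C := centralizer ({x} : Set G)
  have hUC : (U : Subgroup G) ≤ C := by
    obtain ⟨z, hz, rfl⟩ := hxU
    intro u hu
    exact mem_centralizer_singleton_iff.2 (congrArg Subtype.val (mem_center_iff.1 hz ⟨u, hu⟩))
  by_contra hSC
  set D := (S : Subgroup G) ⊓ C
  have hD : IsPGroup 2 (D.subgroupOf C) :=
    (S.2.to_le inf_le_left).of_equiv (subgroupOfEquivOfLe (inf_le_right : D ≤ C)).symm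
  obtain ⟨Q, hQ⟩ := hD.exists_le_sylow
  obtain ⟨c, hc⟩ := MulAction.exists_smul_eq C (U.subtype hUC) Q
  set U' : Sylow 2 G := (c : G) • U
  have hU'C : (U' : Subgroup G) ≤ C := by
    rintro _ ⟨u, hu, rfl⟩
    exact C.mul_mem (C.mul_mem c.2 (hUC hu)) (C.inv_mem c.2)
  have hDU' : D ≤ (U' : Subgroup G) := by
    intro d hd
    have h := hQ (show (⟨d, hd.2⟩ : C) ∈ D.subgroupOf C from hd)
    rw [← hc] at h
    obtain ⟨u, hu, hu'⟩ := h
    exact ⟨u, hu, congrArg Subtype.val hu'⟩
  have hne : S ≠ U' := fun h => hSC (h ▸ hU'C)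
  obtain ⟨W, hW⟩ := hCI S U' hne
  have hWD : (W : Subgroup G) ≤ centralizer (D : Set G) := by
    intro w hw
    rw [mem_centralizer_iff]
    intro d hd
    obtain ⟨z, hz, rfl⟩ := hW ⟨hd.1, hDU' hd⟩
    exact (congrArg Subtype.val (mem_center_iff.1 hz ⟨w, hw⟩)).symm
  have hlt : D < (S : Subgroup G) := lt_of_le_of_ne inf_le_left fun h => hSC (h ▸ inf_le_right)
  obtain ⟨s, hsS, hsD, hsN⟩ : ∃ s ∈ (S : Subgroup G), s ∉ D ∧ s ∈ normalizer (D : Set G) := by
    have hne' : D.subgroupOf (S : Subgroup G) ≠ ⊤ := fun h => hlt.not_ge (subgroupOf_eq_top.1 h)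
    obtain ⟨s, hs, hs'⟩ := SetLike.exists_of_lt (PGroups.lt_normalizer S.2 hne')
    refine ⟨s, s.2, hs', ?_⟩
    rw [mem_normalizer_iff]
    intro d
    constructor
    · intro hd
      exact ((mem_normalizer_iff.1 hs ⟨d, hd.1⟩).1 hd : _)
    · intro hd
      have hdS : d ∈ (S : Subgroup G) := by
        have := (S : Subgroup G).mul_mem ((S : Subgroup G).mul_mem ((S : Subgroup G).inv_mem s.2) hd.1) s.2
        simpa [mul_assoc] using this
      exact ((mem_normalizer_iff.1 hs ⟨d, hdS⟩).2 hd : _)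
  set N := normalizer (D : Set G)
  have hWN : (W : Subgroup G) ≤ N := hWD.trans (centralizer_le_normalizer _)
  obtain ⟨R, hR⟩ := ((S.2.to_le (zpowers_le.2 hsS)).of_equiv
    (subgroupOfEquivOfLe (zpowers_le.2 hsN : zpowers s ≤ N)).symm).exists_le_sylow
  obtain ⟨n, hn⟩ := MulAction.exists_smul_eq N (W.subtype hWN) R
  have hsR : (⟨s, hsN⟩ : N) ∈ R := hR (mem_zpowers s)
  rw [← hn] at hsR
  obtain ⟨w, hw, hw'⟩ := hsR
  have hsw : (n : G) * w * (n : G)⁻¹ = s := congrArg Subtype.val hw'
  have : s ∈ centralizer (D : Set G) := by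
    rw [mem_centralizer_iff]
    intro d hd
    have hd' : (n : G)⁻¹ * d * n ∈ D := (mem_normalizer_iff''.1 n.2 d).1 hd
    have := mem_centralizer_iff.1 (hWD hw) _ hd'
    rw [← hsw]
    calc d * ((n : G) * w * (n : G)⁻¹) = (n : G) * (((n : G)⁻¹ * d * n) * w) * (n : G)⁻¹ := by group
      _ = _ := by simp only [Subgroup.coe_subtype] at this; rw [this]; group
  exact hsD ⟨hsS, mem_centralizer_singleton_iff.2
    (mem_centralizer_iff.1 this x ⟨hxS, mem_centralizer_singleton_iff.2 rfl⟩).symm⟩

/-- Let G be a finite group in which the intersection of any two distinct Sylow 2-subgroups is contained in the centre of some Sylow 2-subgroup, and let S be a Sylow 2-subgroup. Then for every x in S the centralizer of x in S is a Sylow 2-subgroup of the centralizer of x in G (no 2-subgroup centralizing x is larger), and for every other Sylow 2-subgroup T the intersection S ∩ T lies in both the centre of S and the centre of T. -/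
theorem result {G : Type*} [Group G] [Finite G]
    (hCI : ∀ S T : Sylow 2 G, S ≠ T → ∃ U : Sylow 2 G,
      (S : Subgroup G) ⊓ (T : Subgroup G) ≤ (Subgroup.center ↥(U : Subgroup G)).map (U : Subgroup G).subtype)
    (S : Sylow 2 G) :
    (∀ x ∈ (S : Subgroup G), ∀ P : Subgroup G, IsPGroup 2 ↥P → P ≤ Subgroup.centralizer ({x} : Set G) →
        Nat.card ↥P ≤ Nat.card ↥((S : Subgroup G) ⊓ Subgroup.centralizer ({x} : Set G))) ∧
    (∀ T : Sylow 2 G, T ≠ S →
        (S : Subgroup G) ⊓ (T : Subgroup G) ≤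
          (Subgroup.center ↥(S : Subgroup G)).map (S : Subgroup G).subtype ⊓
            (Subgroup.center ↥(T : Subgroup G)).map (T : Subgroup G).subtype) := by
  refine ⟨fun x hx P hP hPx => ?_, fun T hT => ?_⟩
  · obtain ⟨T, hT⟩ := (hP.to_sup_of_normal_right' (K := Subgroup.zpowers x)
      ((S.2.to_le (Subgroup.zpowers_le.2 hx))) (fun g hg => Subgroup.centralizer_le_normalizer _ (by
        rw [Subgroup.mem_centralizer_iff]
        rintro y ⟨k, rfl⟩
        exact ((show Commute x g from (Subgroup.mem_centralizer_singleton_iff.1 (hPx hg)).symm).zpow_left k).eq))).exists_le_sylow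
    · by_cases hTS : T = S
      · subst hTS
        exact Subgroup.card_le_of_le (le_inf (le_sup_left.trans hT) hPx)
      · have hxT : x ∈ (T : Subgroup G) := hT (Subgroup.mem_sup_right (Subgroup.mem_zpowers x))
        obtain ⟨U, hU⟩ := hCI S T (fun h => hTS h.symm)
        have hz : (S : Subgroup G) ≤ Subgroup.centralizer ({x} : Set G) :=
          central_of_central hCI S U hx (hU ⟨hx, hxT⟩)
        rw [inf_eq_left.2 hz]
        obtain ⟨T', hT'⟩ := hP.exists_le_sylow
        exact (Subgroup.card_le_of_le hT').trans (Sylow.card_eq_multiplicity T' |>.trans (Sylow.card_eq_multiplicity S).symm).le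
  · obtain ⟨U, hU⟩ := hCI S T (fun h => hT h.symm)
    rintro x ⟨hxS, hxT⟩
    have h : ∀ V : Sylow 2 G, x ∈ (V : Subgroup G) →
        x ∈ (Subgroup.center ↥(V : Subgroup G)).map (V : Subgroup G).subtype := by
      intro V hV
      have := central_of_central hCI V U hV (hU ⟨hxS, hxT⟩)
      exact ⟨⟨x, hV⟩, Subgroup.mem_center_iff.2 fun s =>
        Subtype.ext (Subgroup.mem_centralizer_singleton_iff.1 (this s.2)), rfl⟩
    exact ⟨h S hxS, h T hxT⟩

end Cfsg.Agent.S3183
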