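import Cfsg.Statements.S5345

set_option autoImplicit false
open Cfsg

namespace Cfsg.Agent.S5345

variable {G : Type*} [Group G]

/-- Two members of a 3-transposition set lying in a common 2-subgroup commute. -/
theorem commute_of_two_group {D : Set G} (hD : Cfsg.IsThreeTranspositionSet D) {T : Subgroup G}
    (hT : IsPGroup 2 T) {a b : G} (ha : a ∈ D) (hb : b ∈ D) (haT : a ∈ T) (hbT : b ∈ T) :
    Commute a b := by
  have haa : a * a = 1 := by rw [← pow_two, ← hD.1 a ha]; exact pow_orderOf_eq_one a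
  have hbb : b * b = 1 := by rw [← pow_two, ← hD.1 b hb]; exact pow_orderOf_eq_one b
  have h2 : (a * b) ^ 2 = 1 := by
    rcases hD.2 a ha b hb with h | h
    · exact h
    obtain ⟨k, hk⟩ := hT ⟨a * b, T.mul_mem haT hbT⟩
    have hk' : (a * b) ^ 2 ^ k = 1 := by simpa using congrArg Subtype.val hk
    have hco : Nat.Coprime (2 ^ k) 3 := Nat.Coprime.pow_left k (by norm_num)
    have := Nat.eq_one_of_dvd_coprimes hco (orderOf_dvd_of_pow_eq_one hk') (orderOf_dvd_of_pow_eq_one h)
    rw [orderOf_eq_one_iff.1 this, one_pow]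
  rw [pow_two] at h2
  have h3 := eq_inv_of_mul_eq_one_left h2
  rw [mul_inv_rev, inv_eq_of_mul_eq_one_right haa, inv_eq_of_mul_eq_one_right hbb] at h3
  exact h3

/-- Commuting involutions generate a 2-group. -/
theorem isPGroup_closure {E : Set G} (hord : ∀ e ∈ E, orderOf e = 2)
    (hcomm : ∀ a ∈ E, ∀ b ∈ E, Commute a b) : IsPGroup 2 (Subgroup.closure E) := by
  have hcomm' := Subgroup.isMulCommutative_closure fun a ha b hb => (hcomm a ha b hb).eq
  rintro ⟨x, hx⟩
  refine ⟨1, Subtype.ext ?_⟩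
  show x ^ (2 ^ 1) = 1
  rw [pow_one]
  induction hx using Subgroup.closure_induction with
  | mem y hy => rw [← hord y hy]; exact pow_orderOf_eq_one y
  | one => exact one_pow 2
  | mul a b ha hb iha ihb =>
    have : Commute a b := congrArg Subtype.val (hcomm'.is_comm.comm ⟨a, ha⟩ ⟨b, hb⟩)
    rw [this.mul_pow, iha, ihb, one_mul]
  | inv a _ iha => rw [inv_pow, iha, inv_one]


/-- Let D be a conjugation-invariant generating set of 3-transpositions of a finite group G and T a Sylow 2-subgroup of G. Then the members of D lying in T generate an abelian subgroup, and their number is the width of D (the largest number of pairwise commuting members of D). -/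
theorem result {G : Type*} [Group G] [Finite G] {D : Set G} (hD : Cfsg.IsThreeTranspositionGroup D) (T : Sylow 2 G) : IsMulCommutative (Subgroup.closure {d : G | d ∈ D ∧ d ∈ T}) ∧ {d : G | d ∈ D ∧ d ∈ T}.ncard = Cfsg.commutingWidth D := by
  obtain ⟨h3, hconj, -⟩ := hD
  set E0 := {d : G | d ∈ D ∧ d ∈ T} with hE0
  have hc0 : ∀ a ∈ E0, ∀ b ∈ E0, Commute a b := fun a ha b hb =>
    commute_of_two_group h3 T.2 ha.1 hb.1 ha.2 hb.2
  refine ⟨Subgroup.isMulCommutative_closure fun a ha b hb => (hc0 a ha b hb).eq, ?_⟩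
  have hmem : E0.ncard ∈ {n : ℕ | ∃ E : Set G, E ⊆ D ∧ E.Finite ∧ (∀ a ∈ E, ∀ b ∈ E, Commute a b) ∧ E.ncard = n} :=
    ⟨E0, fun x hx => hx.1, Set.toFinite _, hc0, rfl⟩
  refine (IsGreatest.csSup_eq ⟨hmem, ?_⟩).symm
  rintro n ⟨E, hED, -, hcomm, rfl⟩
  have hpg := isPGroup_closure (fun e he => h3.1 e (hED he)) hcomm
  obtain ⟨T', hT'⟩ := hpg.exists_le_sylow
  obtain ⟨g, hg⟩ := MulAction.exists_smul_eq G T' T
  refine Set.ncard_le_ncard_of_injOn (fun x => g * x * g⁻¹) (fun x hx => ⟨hconj g x (hED hx), ?_⟩)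
    (fun a _ b _ h => by simpa using h) (Set.toFinite _)
  rw [← hg]
  exact Subgroup.mem_map_of_mem _ (hT' (Subgroup.subset_closure hx))

end Cfsg.Agent.S5345
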