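import Cfsg.Statements.S5344
import Cfsg.Agent.H66.PermLift
import Cfsg.Agent.H29.ThreeTransp

set_option autoImplicit false
open Cfsg

namespace Cfsg.Agent.S5344

/-- The three products of two disjoint transpositions. -/
def klein : List (Equiv.Perm (Fin 4)) :=
  [Equiv.swap 0 1 * Equiv.swap 2 3, Equiv.swap 0 2 * Equiv.swap 1 3, Equiv.swap 0 3 * Equiv.swap 1 2]

theorem exists_klein : ∀ σ : Equiv.Perm (Fin 4), σ = 1 ∨ σ ∈ klein ∨
    ∃ τ ∈ klein, τ * σ * τ⁻¹ * σ⁻¹ ∈ klein := by
  decide +kernel

theorem klein_conj : ∀ v ∈ klein,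
    (Equiv.swap 1 2 * v * (Equiv.swap 1 2)⁻¹ = Equiv.swap 0 1 * Equiv.swap 2 3) ∨
    (Equiv.swap 1 3 * v * (Equiv.swap 1 3)⁻¹ = Equiv.swap 0 1 * Equiv.swap 2 3) ∨
    v = Equiv.swap 0 1 * Equiv.swap 2 3 := by
  decide +kernel

theorem injective_of_ne {G : Type*} [Group G] (φ : Equiv.Perm (Fin 4) →* G)
    (h : φ (Equiv.swap 0 1 * Equiv.swap 2 3) ≠ 1) : Function.Injective φ := by
  have hv : ∀ v ∈ klein, φ v ≠ 1 := by
    intro v hv he
    rcases klein_conj v hv with e | e | e
    · exact h (by rw [← e, map_mul, map_mul, he, map_inv, mul_one, mul_inv_cancel])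
    · exact h (by rw [← e, map_mul, map_mul, he, map_inv, mul_one, mul_inv_cancel])
    · exact h (e ▸ he)
  refine (injective_iff_map_eq_one φ).2 fun σ hσ => ?_
  rcases exists_klein σ with e | e | ⟨τ, -, e⟩
  · exact e
  · exact absurd hσ (hv σ e)
  · exact absurd (by rw [map_mul, map_mul, map_mul, hσ, map_inv φ σ, hσ, mul_one, inv_one, mul_one,
      map_inv, mul_inv_cancel]) (hv _ e)


/-- In a set of 3-transpositions, let a, b, c be members with a and c different and commuting, while neither a nor c commutes with b (a 3-string). Then there is an injective homomorphism from the symmetric group of degree 4 into the ambient group sending the transpositions (0 1), (1 2), (2 3) to a, b, c; so a, b, c generate a copy of the symmetric group of degree 4 in which they are transpositions. -/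
theorem result {G : Type*} [Group G] {D : Set G} (hD : Cfsg.IsThreeTranspositionSet D) {a b c : G} (ha : a ∈ D) (hb : b ∈ D) (hc : c ∈ D) (hac : a ≠ c) (hac' : Commute a c) (hab : ¬ Commute a b) (hbc : ¬ Commute b c) : ∃ φ : Equiv.Perm (Fin 4) →* G, Function.Injective φ ∧ φ (Equiv.swap 0 1) = a ∧ φ (Equiv.swap 1 2) = b ∧ φ (Equiv.swap 2 3) = c := by
  obtain ⟨φ, hφ⟩ := H66.exists_perm_hom 3 (fun i => if i = 0 then a else if i = 1 then b else c)
    (fun i hi => by interval_cases i <;> simp [H29.tt_sq hD ha, H29.tt_sq hD hb, H29.tt_sq hD hc])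
    (fun i hi => by
      have hi2 : i < 2 := by omega
      interval_cases i
      · rcases hD.2 a ha b hb with h | h
        · exfalso
          apply hab
          have h4 : a * b = (a * b)⁻¹ := by rw [eq_inv_iff_mul_eq_one, ← pow_two, h]
          rwa [mul_inv_rev, H29.tt_inv hD ha, H29.tt_inv hD hb] at h4
        · simpa using h
      · rcases hD.2 b hb c hc with h | h
        · exfalso
          apply hbc
          have h4 : b * c = (b * c)⁻¹ := by rw [eq_inv_iff_mul_eq_one, ← pow_two, h]
          rwa [mul_inv_rev, H29.tt_inv hD hb, H29.tt_inv hD hc] at h4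
        · simpa using h)
    (fun i j hij hj => by
      obtain ⟨rfl, rfl⟩ : i = 0 ∧ j = 2 := by omega
      show (a * c) ^ 2 = 1
      rw [hac'.mul_pow, pow_two, pow_two, H29.tt_sq hD ha, H29.tt_sq hD hc, one_mul])
  have e0 : φ (Equiv.swap 0 1) = a := by
    have := hφ 0 (by omega); rwa [H66.adjSwap_of_lt (by omega : 0 < 3), if_pos rfl] at this
  have e1 : φ (Equiv.swap 1 2) = b := by
    have := hφ 1 (by omega); rwa [H66.adjSwap_of_lt (by omega : 1 < 3), if_neg (by omega), if_pos rfl] at this
  have e2 : φ (Equiv.swap 2 3) = c := by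
    have := hφ 2 (by omega)
    rwa [H66.adjSwap_of_lt (by omega : 2 < 3), if_neg (by omega), if_neg (by omega)] at this
  refine ⟨φ, injective_of_ne φ fun h => hac ?_, e0, e1, e2⟩
  rw [map_mul, e0, e2] at h
  rw [eq_inv_of_mul_eq_one_left h, H29.tt_inv hD hc]

end Cfsg.Agent.S5344
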