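import Cfsg.Statements.S5347

set_option autoImplicit false
open Cfsg

namespace Cfsg.Agent.S5347


/-- Let D be a conjugation-invariant generating set of 3-transpositions of a finite group G, p a prime bigger than 3, and P a p-subgroup of G. If a member d of D normalizes P then d centralizes P. -/
theorem result {G : Type*} [Group G] [Finite G] {D : Set G} (hD : Cfsg.IsThreeTranspositionGroup D) {p : ℕ} (hp : p.Prime) (hp3 : 3 < p) (P : Subgroup G) (hP : IsPGroup p P) {d : G} (hd : d ∈ D) (hnorm : d ∈ Subgroup.normalizer (P : Set G)) : ∀ x ∈ P, Commute d x := by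
  intro x hx
  obtain ⟨⟨hord, h3t⟩, hconj, -⟩ := hD
  have hdd : d * d = 1 := by rw [← pow_two, ← hord d hd]; exact pow_orderOf_eq_one d
  have hdi : d⁻¹ = d := inv_eq_of_mul_eq_one_right hdd
  set e := x * d * x⁻¹ with he
  have hy : d * e ∈ P := by
    have h1 : d * x * d⁻¹ ∈ P := (Subgroup.mem_set_normalizer_iff.1 hnorm x).1 hx
    have h2 := P.mul_mem h1 (P.inv_mem hx)
    rw [hdi] at h2
    simpa [he, mul_assoc] using h2
  obtain ⟨k, hk⟩ := hP ⟨_, hy⟩
  have hk' : (d * e) ^ p ^ k = 1 := by simpa using congrArg Subtype.val hk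
  have hone : d * e = 1 := by
    rw [← orderOf_eq_one_iff]
    have hd1 := orderOf_dvd_of_pow_eq_one hk'
    obtain ⟨j, hj, hje⟩ := (Nat.dvd_prime_pow hp).1 hd1
    rcases h3t d hd e (hconj x d hd) with h | h
    · have := orderOf_dvd_of_pow_eq_one h
      have hco : Nat.Coprime (p ^ k) 2 :=
        Nat.Coprime.pow_left k ((Nat.coprime_primes hp Nat.prime_two).2 (by omega))
      exact Nat.eq_one_of_dvd_coprimes hco hd1 this
    · have := orderOf_dvd_of_pow_eq_one h
      have hco : Nat.Coprime (p ^ k) 3 :=
        Nat.Coprime.pow_left k ((Nat.coprime_primes hp Nat.prime_three).2 (by omega))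
      exact Nat.eq_one_of_dvd_coprimes hco hd1 this
  have he' : e = d := (mul_left_cancel (hone.trans hdd.symm))
  show d * x = x * d
  calc d * x = e * x := by rw [he']
    _ = x * d := by simp [he]

end Cfsg.Agent.S5347
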