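import Cfsg.Statements.S2089
import Cfsg.Agent.Linear.Mult.Unitary.Cross
import Cfsg.Agent.Linear.Mult.Unitary.Defining
import Cfsg.Agent.Linear.Mult.CentralQuot
import Cfsg.Agent.Unitary.Simple
-- import your own Cfsg.Agent.* helpers here

set_option autoImplicit false
open Cfsg Cfsg.Agent Cfsg.Agent.Linear

namespace Cfsg.Agent.S2089

/-- Schur multipliers of the unitary groups: for n ≥ 3 and a field F with q² elements, (n, q) ≠ (3, 2), apart from the exceptional pairs (n, q) = (4, 2), (4, 3), (6, 2), the Schur multiplier of PSU_n(q) is cyclic of order gcd(n, q + 1); here the Schur multiplier is described through stem extensions, as in the definitions. -/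
theorem result {F : Type*} [Field F] [Fintype F] (n q : ℕ) (hF : Fintype.card F = q ^ 2) (hn : 3 ≤ n) (h3 : ¬ (n = 3 ∧ q = 2)) (hexc : (n, q) ∉ ({(4, 2), (4, 3), (6, 2)} : Set (ℕ × ℕ))) : Cfsg.HasCyclicSchurMultiplier (Cfsg.PSU n F q) (Nat.gcd n (q + 1)) := by
  simp only [Set.mem_insert_iff, Set.mem_singleton_iff, Prod.mk.injEq, not_or] at hexc
  obtain ⟨e42, e43, e62⟩ := hexc
  have hbig := Unitary.hbig_of hF hn h3
  have hperf : Group.IsPerfect (SU n F q) := ⟨Unitary.commutator_eq_top hF hbig⟩
  have h1 : Cfsg.HasCyclicSchurMultiplier (SU n F q) 1 := by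
    refine Mult.hasTrivialMultiplier_of_noStem fun l hl => ?_
    by_cases hlq : l ∣ q
    · exact Mult.Uni.noStem_SU_defining hF hl hlq n hn h3
        (fun h => h.2.elim (fun h' => e42 ⟨h.1, h'⟩) (fun h' => e43 ⟨h.1, h'⟩))
        (fun h => e62 h)
    · exact Mult.Uni.noStem_SU_cross hF hl hlq n
  let π := QuotientGroup.mk' (Subgroup.center (SU n F q))
  have hker : π.ker = Subgroup.center (SU n F q) := QuotientGroup.ker_mk' _
  refine Mult.hasCyclicSchurMultiplier_of_cover hperf h1 π
    (QuotientGroup.mk'_surjective _) hker.le ?_ ?_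
  · rw [hker]
    let e : Fin n → F := Pi.single ⟨0, by omega⟩ 1
    have he : hermForm n F q e e = 1 := by
      rw [Unitary.herm_single_single hF, if_pos rfl]
    choose c hc using fun a : Subgroup.center (SU n F q) =>
      Unitary.eq_smul_of_mem_center hF (by omega : 2 ≤ n) a.2
    let χ : Subgroup.center (SU n F q) →* F :=
      { toFun := fun a => hermForm n F q (Unitary.ap a.1 e) e
        map_one' := by
          show hermForm n F q (Unitary.ap (1 : SU n F q) e) e = 1
          rw [Unitary.ap_one, he]
        map_mul' := fun a b => by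
          show hermForm n F q (Unitary.ap (a.1 * b.1) e) e =
            hermForm n F q (Unitary.ap a.1 e) e * hermForm n F q (Unitary.ap b.1 e) e
          rw [Unitary.ap_mul, hc b, Unitary.ap_smul, hc a, smul_smul]
          simp only [Unitary.herm_smul_left, he]
          ring }
    refine isCyclic_of_subgroup_isDomain χ fun a b h => Subtype.ext (Unitary.ap_ext fun x => ?_)
    have h' : hermForm n F q (Unitary.ap a.1 e) e = hermForm n F q (Unitary.ap b.1 e) e := h
    rw [hc a, hc b, Unitary.herm_smul_left, Unitary.herm_smul_left, he, mul_one, mul_one] at h'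
    rw [hc a, hc b, h']
  · rw [hker, Unitary.card_center_SU hF (by omega)]

end Cfsg.Agent.S2089
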