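import Cfsg.Statements.S0939
import Cfsg.Agent.BlockBasic.Kernel
import Cfsg.Agent.Cores.PCore

set_option autoImplicit false
open Cfsg

namespace Cfsg.Agent.S0939

/-- Let G be a finite group with a normal p-complement (the largest normal subgroup O_p'(G) of order prime to p has p-power index). Then, relative to any maximal ideal M of the algebraic integers containing p, the principal block of G is the set of irreducible characters χ with χ n = χ 1 for every n ∈ O_p'(G). -/
theorem result {G : Type*} [Group G] [Finite G] (p : ℕ) [Fact p.Prime] (M : Ideal Cfsg.AlgInt) (hM : Cfsg.IsPModular p M) (hnc : ∃ k : ℕ, (Cfsg.pPrimeCore p G).index = p ^ k) : Cfsg.principalBlock M G = {χ : Cfsg.IrrCharacter G | ∀ n ∈ Cfsg.pPrimeCore p G, (χ : G → ℂ) n = (χ : G → ℂ) 1} := by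
  classical
  cases nonempty_fintype G
  set K := Cfsg.pPrimeCore p G with hK
  have hKp : ¬ p ∣ Nat.card K := Cores.not_dvd_card_pPrimeCore
  have hprinc : ∀ n ∈ K, ((BlockBasic.trivialIrr : Cfsg.IrrCharacter G) : G → ℂ) n =
      ((BlockBasic.trivialIrr : Cfsg.IrrCharacter G) : G → ℂ) 1 := fun n _ => rfl
  ext χ
  simp only [Set.mem_ofPred_eq]
  constructor
  · exact fun h n hn => BlockBasic.le_blockKer hM (χ := BlockBasic.trivialIrr) h K hKp hprinc hn
  · intro hχ
    have key : ∀ (η : Cfsg.IrrCharacter G), (∀ n ∈ K, (η : G → ℂ) n = (η : G → ℂ) 1) →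
        ∀ g : G, (BlockBasic.blockElem (Cfsg.blockOf M (η : G → ℂ))).coeff g =
          if g ∈ K then (Nat.card K : ℂ)⁻¹ else 0 := by
      intro η hη
      set B := Cfsg.blockOf M (η : G → ℂ)
      have hB : Cfsg.IsPBlock M B := BlockBasic.isPBlock_blockOf M η
      have hsupp : ∀ g : G, g ∉ K → Cfsg.blockCoeff B g = 0 := fun g hg =>
        BlockBasic.blockCoeff_eq_zero_of_singular hM hB
          (not_not.1 fun h => hg (BlockBasic.mem_of_regular hnc h))
      have hconst : ∀ g ∈ K, Cfsg.blockCoeff B g = Cfsg.blockCoeff B 1 := by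
        intro g hg
        unfold Cfsg.blockCoeff
        congr 1
        exact finsum_mem_congr rfl fun ψ hψ => by
          rw [BlockBasic.le_blockKer hM hψ K hKp hη hg]
      have h1 : BlockBasic.omega (η : G → ℂ) (BlockBasic.blockElem B) = 1 := by
        rw [BlockBasic.omega_blockElem, if_pos (BlockBasic.self_mem_blockOf hM η)]
      have h2 : BlockBasic.omega (η : G → ℂ) (BlockBasic.blockElem B) =
          (Nat.card K : ℂ) * Cfsg.blockCoeff B 1 := by
        rw [BlockBasic.omega, BlockBasic.chiLin,
          ← Finset.sum_subset (Finset.subset_univ (Finset.univ.filter (· ∈ K))) (fun g _ hg => by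
            rw [BlockBasic.coeff_blockElem, hsupp g (by simpa using hg), zero_mul]),
          Finset.sum_congr rfl (g := fun _ => Cfsg.blockCoeff B 1 * (η : G → ℂ) 1) (fun g hg => by
            rw [BlockBasic.coeff_blockElem, hconst g (Finset.mem_filter.1 hg).2,
              hη g (Finset.mem_filter.1 hg).2]),
          Finset.sum_const, nsmul_eq_mul, Nat.card_eq_fintype_card, Fintype.card_subtype, ← mul_assoc,
          mul_div_assoc, div_self (BlockBasic.irr_one_ne_zero η.2), mul_one]
      intro g
      rw [BlockBasic.coeff_blockElem]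
      split_ifs with hg
      · rw [hconst g hg]
        exact eq_inv_of_mul_eq_one_right (h2.symm.trans h1)
      · exact hsupp g hg
    have he : BlockBasic.blockElem (Cfsg.blockOf M (χ : G → ℂ)) = BlockBasic.blockElem (Cfsg.principalBlock M G) := by
      apply MonoidAlgebra.coeff_injective
      ext g
      rw [key χ hχ g]
      exact (key BlockBasic.trivialIrr hprinc g).symm
    have h3 := congrArg (BlockBasic.omega (χ : G → ℂ)) he
    rw [BlockBasic.omega_blockElem, BlockBasic.omega_blockElem, if_pos (BlockBasic.self_mem_blockOf hM χ)] at h3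
    by_contra hne
    rw [if_neg hne] at h3
    exact one_ne_zero h3

end Cfsg.Agent.S0939
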