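import Cfsg.Statements.S0947
import Cfsg.Agent.Cores.PrincipalSection
import Cfsg.Agent.Cores.PCore
import Cfsg.Agent.BlockBasic.Kernel
import Cfsg.Agent.S0939

set_option autoImplicit false
open Cfsg

namespace Cfsg.Agent.S0947

/-- Let z ≠ 1 be a p-element of the finite group G with centralizer H, and fix a maximal ideal M of the algebraic integers containing p. (i) For every y ∈ H of order prime to p, the sum over ζ in the principal block of G of |ζ (z * y)|² equals the sum over χ in the principal block of H of |χ y|². (ii) If moreover H has a normal p-complement (its largest normal subgroup of order prime to p has p-power index), that common value is the largest power of p dividing the order of H. -/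
theorem result {G : Type*} [Group G] [Finite G] (p : ℕ) [Fact p.Prime] (M : Ideal Cfsg.AlgInt) (hM : Cfsg.IsPModular p M) (z : G) (hz : ∃ k : ℕ, orderOf z = p ^ k) (hz1 : z ≠ 1) (y : Subgroup.centralizer ({z} : Set G)) (hy : ¬ p ∣ orderOf y) : (∑ᶠ ζ ∈ Cfsg.principalBlock M G, ‖(ζ : G → ℂ) (z * (y : G))‖ ^ 2 = ∑ᶠ χ ∈ Cfsg.principalBlock M (Subgroup.centralizer ({z} : Set G)), ‖(χ : Subgroup.centralizer ({z} : Set G) → ℂ) y‖ ^ 2) ∧ ((∃ k : ℕ, (Cfsg.pPrimeCore p (Subgroup.centralizer ({z} : Set G))).index = p ^ k) → ∑ᶠ ζ ∈ Cfsg.principalBlock M G, ‖(ζ : G → ℂ) (z * (y : G))‖ ^ 2 = ((p ^ (Nat.card (Subgroup.centralizer ({z} : Set G))).factorization p : ℕ) : ℝ)) := by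
  classical
  obtain ⟨e, he⟩ := hz
  have hnorm : ∀ a : ℂ, ((‖a‖ ^ 2 : ℝ) : ℂ) = a * (starRingEnd ℂ) a := fun a => by
    rw [Complex.mul_conj, Complex.normSq_eq_norm_sq]
  have heq := Cores.principal_column_inner hM he y hy
  rw [BlockBasic.blockKernel] at heq
  have h1 : ∑ᶠ ζ ∈ Cfsg.principalBlock M G, ‖(ζ : G → ℂ) (z * (y : G))‖ ^ 2 =
      ∑ᶠ χ ∈ Cfsg.principalBlock M (Subgroup.centralizer ({z} : Set G)),
        ‖(χ : Subgroup.centralizer ({z} : Set G) → ℂ) y‖ ^ 2 := by
    apply Complex.ofReal_injective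
    simp only [finsum_mem_eq_finite_toFinset_sum _ (Set.toFinite _), Complex.ofReal_sum, hnorm] at heq ⊢
    exact heq
  refine ⟨h1, fun hnc => ?_⟩
  rw [h1]
  cases nonempty_fintype G
  haveI : Fintype (Subgroup.centralizer ({z} : Set G)) := Fintype.ofFinite _
  have hb := Cfsg.Agent.S0939.result p M hM hnc
  have hyN : y ∈ Cfsg.pPrimeCore p (Subgroup.centralizer ({z} : Set G)) := BlockBasic.mem_of_regular hnc hy
  have hidx : (Cfsg.pPrimeCore p (Subgroup.centralizer ({z} : Set G))).index = p ^ (Nat.card (Subgroup.centralizer ({z} : Set G))).factorization p := by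
    obtain ⟨k, hk⟩ := hnc
    rw [← (Cfsg.pPrimeCore p (Subgroup.centralizer ({z} : Set G))).card_mul_index, hk,
      Nat.factorization_mul Nat.card_pos.ne' (pow_ne_zero _ (Fact.out : p.Prime).ne_zero),
      Finsupp.add_apply, Nat.factorization_eq_zero_of_not_dvd Cores.not_dvd_card_pPrimeCore,
      (Fact.out : p.Prime).factorization_pow, Finsupp.single_eq_same, zero_add]
  rw [← hidx]
  apply Complex.ofReal_injective
  rw [Complex.ofReal_natCast, ← Cores.sum_sq_degree_trivial_on,
    finsum_mem_eq_finite_toFinset_sum _ (Set.toFinite _), Complex.ofReal_sum]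
  refine Finset.sum_congr ?_ fun χ hχ => ?_
  · ext χ
    simp [hb]
  · rw [hnorm, (Finset.mem_filter.1 hχ).2 y hyN, BlockBasic.apply_one_eq_charDegree,
      Complex.conj_natCast]

end Cfsg.Agent.S0947
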