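import Cfsg.Statements.S0948
import Cfsg.Agent.Cores.KleinBlock
import Cfsg.Agent.BlockBasic.Basic

set_option autoImplicit false
open Cfsg

namespace Cfsg.Agent.S0948

/-- Let the finite group G have a Sylow 2-subgroup P that is a Klein four-group, suppose all involutions of G are conjugate, and fix a maximal ideal M of the algebraic integers containing 2. Then the principal block consists of exactly four irreducible characters, the principal character and ζ₂, ζ₃, ζ₄, and there is a sign ε such that for every involution z: ζ₂ z = 1, ζ₃ z = ε, ζ₄ z = -1; moreover ζ₂ 1 ≡ 1, ζ₃ 1 ≡ ε, ζ₄ 1 ≡ -1 (mod 4), and 1 + ζ₂ y + ε ζ₃ y - ζ₄ y = 0 for every y of odd order. -/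
theorem result {G : Type*} [Group G] [Finite G] (M : Ideal Cfsg.AlgInt) (hM : Cfsg.IsPModular 2 M) (P : Sylow 2 G) (hP : IsKleinFour (P : Subgroup G)) (hone : ∀ s t : G, orderOf s = 2 → orderOf t = 2 → IsConj s t) : ∃ ζ₂ ζ₃ ζ₄ : Cfsg.IrrCharacter G, ∃ ε : ℤ, (ε = 1 ∨ ε = -1) ∧ (ζ₂ : G → ℂ) ≠ (fun _ => 1) ∧ (ζ₃ : G → ℂ) ≠ (fun _ => 1) ∧ ζ₂ ≠ ζ₃ ∧ ζ₂ ≠ ζ₄ ∧ ζ₃ ≠ ζ₄ ∧ Cfsg.principalBlock M G = {χ : Cfsg.IrrCharacter G | (χ : G → ℂ) = (fun _ => 1) ∨ χ = ζ₂ ∨ χ = ζ₃ ∨ χ = ζ₄} ∧ (∀ z : G, orderOf z = 2 → (ζ₂ : G → ℂ) z = 1 ∧ (ζ₃ : G → ℂ) z = (ε : ℂ) ∧ (ζ₄ : G → ℂ) z = -1) ∧ (4 : ℤ) ∣ (Cfsg.charDegree (ζ₂ : G → ℂ) : ℤ) - 1 ∧ (4 : ℤ) ∣ (Cfsg.charDegree (ζ₃ : G → ℂ) : ℤ) - ε ∧ (4 : ℤ) ∣ (Cfsg.charDegree (ζ₄ : G → ℂ) : ℤ) + 1 ∧ ∀ y : G, Odd (orderOf y) → 1 + (ζ₂ : G → ℂ) y + (ε : ℂ) * (ζ₃ : G → ℂ) y - (ζ₄ : G → ℂ) y = 0 := by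
  classical
  cases nonempty_fintype G
  haveI := hP
  obtain ⟨z₀, hz₀⟩ := exists_prime_orderOf_dvd_card' (G := (P : Subgroup G)) 2
    (by rw [hP.card_four]; norm_num)
  set z : G := (z₀ : G) with hzdef
  have hz : orderOf z = 2 := by rw [hzdef, Subgroup.orderOf_coe, hz₀]
  have hz1 : z ≠ 1 := fun h => by rw [h, orderOf_one] at hz; omega
  choose a ha using Cores.exists_int_value hz
  have hv2 : (Nat.card G).factorization 2 = 2 := Cores.card_klein hP
  have hvC : (Nat.card (Subgroup.centralizer ({z} : Set G))).factorization 2 = 2 := by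
    refine le_antisymm ?_ ?_
    · have h := (Nat.factorization_le_iff_dvd (Nat.card_pos (α := Subgroup.centralizer ({z} : Set G))).ne'
        (Nat.card_pos (α := G)).ne').2 (Subgroup.card_subgroup_dvd_card _) 2
      omega
    · have hPC : (P : Subgroup G) ≤ Subgroup.centralizer ({z} : Set G) := fun x hx =>
        Subgroup.mem_centralizer_singleton_iff.2
          (congrArg Subtype.val (hP.isMulCommutative.is_comm.comm (⟨x, hx⟩ : (P : Subgroup G)) z₀))
      have h := Subgroup.card_dvd_of_le hPC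
      rw [hP.card_four, show (4 : ℕ) = 2 ^ 2 from rfl] at h
      exact (Nat.prime_two.pow_dvd_iff_le_factorization Nat.card_pos.ne').1 h
  -- squares of the values at `z` sum to four
  have hsum : ∑ χ : Cfsg.IrrCharacter G,
      (if χ ∈ Cfsg.principalBlock M G then (a χ) ^ 2 else 0) = 4 := by
    have hC := Cores.hasNormalPComplement_centralizer_involution P hP hz z₀.2
    have hidx : ∃ k : ℕ, (Cfsg.pPrimeCore 2 (Subgroup.centralizer ({z} : Set G))).index = 2 ^ k := by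
      obtain ⟨S⟩ : Nonempty (Sylow 2 (Subgroup.centralizer ({z} : Set G))) := inferInstance
      have hc := Cores.exists_normal_isComplement'_sylow hC S
      exact ⟨_, by rw [hc.symm.index_eq_card]; exact S.card_eq_multiplicity⟩
    have h := (Cfsg.Agent.S0947.result 2 M hM z ⟨1, by rw [hz]; norm_num⟩ hz1 1
      (by rw [orderOf_one]; norm_num)).2 hidx
    rw [hvC, OneMemClass.coe_one, mul_one, finsum_mem_eq_finite_toFinset_sum _ (Set.toFinite _)] at h
    have h2 : ((∑ χ : Cfsg.IrrCharacter G,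
        (if χ ∈ Cfsg.principalBlock M G then (a χ) ^ 2 else 0) : ℤ) : ℝ) = ((4 : ℤ) : ℝ) := by
      push_cast at h ⊢
      norm_num at h
      rw [← h, ← Finset.sum_filter]
      refine Finset.sum_congr (by ext; simp) fun χ _ => ?_
      rw [ha χ, Complex.norm_intCast, sq_abs]
    exact_mod_cast h2
  set F : Finset (Cfsg.IrrCharacter G) :=
    Finset.univ.filter fun χ => χ ∈ Cfsg.principalBlock M G ∧ χ ≠ BlockBasic.trivialIrr with hF
  have htriv : (BlockBasic.trivialIrr (G := G)) ∈ Cfsg.principalBlock M G :=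
    BlockBasic.sameBlock_refl hM _
  have ha1 : a BlockBasic.trivialIrr = 1 := by
    have h := ha BlockBasic.trivialIrr
    simp only [BlockBasic.trivialIrr] at h
    exact_mod_cast h.symm
  have hsplit : ∀ f : Cfsg.IrrCharacter G → ℂ,
      ∑ χ : Cfsg.IrrCharacter G, (if χ ∈ Cfsg.principalBlock M G then f χ else 0) =
        f BlockBasic.trivialIrr + ∑ χ ∈ F, f χ := by
    intro f
    rw [← Finset.add_sum_erase Finset.univ _ (Finset.mem_univ (BlockBasic.trivialIrr (G := G))),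
      if_pos htriv, ← Finset.sum_filter]
    congr 1
    refine Finset.sum_congr ?_ fun _ _ => rfl
    ext χ; simp [hF, and_comm]
  have hF3 : ∑ χ ∈ F, (a χ) ^ 2 = 3 := by
    have h : ((∑ χ : Cfsg.IrrCharacter G,
        (if χ ∈ Cfsg.principalBlock M G then (a χ) ^ 2 else 0) : ℤ) : ℂ) = ((4 : ℤ) : ℂ) := by
      rw [hsum]
    push_cast at h
    rw [hsplit fun χ => (a χ : ℂ) ^ 2, ha1] at h
    have h' : ((∑ χ ∈ F, (a χ) ^ 2 : ℤ) : ℂ) = ((3 : ℤ) : ℂ) := by
      push_cast at h ⊢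
      linear_combination h
    exact_mod_cast h'
  have hne0 : ∀ χ ∈ F, a χ ≠ 0 := by
    intro χ hχ h0
    obtain ⟨hχB, hχt⟩ := (Finset.mem_filter.1 hχ).2
    have hdiv := Cores.four_dvd_degree P hP hone hz χ (ha χ)
    rw [h0, mul_zero, add_zero] at hdiv
    have h4 : 4 ∣ Cfsg.charDegree (χ : G → ℂ) := by exact_mod_cast hdiv
    have hsing : ¬ 2 ∣ Nat.card G / Cfsg.charDegree (χ : G → ℂ) := by
      intro hd
      obtain ⟨q, hq⟩ := BlockBasic.charDegree_dvd χ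
      rw [hq, Nat.mul_div_cancel_left _ (BlockBasic.charDegree_pos χ)] at hd
      have h8 : 2 ^ 3 ∣ Nat.card G := by
        rw [hq]
        exact (show 2 ^ 3 = 4 * 2 by norm_num) ▸ Nat.mul_dvd_mul h4 hd
      have := (Nat.prime_two.pow_dvd_iff_le_factorization Nat.card_pos.ne').1 h8
      omega
    have hb := (BlockBasic.blockOf_eq_singleton_iff hM χ).2 hsing
    rw [← BlockBasic.isPBlock_eq_blockOf hM (BlockBasic.isPBlock_principalBlock M) hχB] at hb
    exact hχt (Set.mem_singleton_iff.1 (hb ▸ htriv)).symm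
  have hone' : ∀ χ ∈ F, a χ = 1 ∨ a χ = -1 := by
    intro χ hχ
    have h1 : a χ ^ 2 ≤ 3 := hF3 ▸ Finset.single_le_sum (fun ψ _ => sq_nonneg (a ψ)) hχ
    have h2 : -2 < a χ ∧ a χ < 2 := ⟨by nlinarith, by nlinarith⟩
    have := hne0 χ hχ
    omega
  have hcard : F.card = 3 := by
    have h : ∑ χ ∈ F, (a χ) ^ 2 = (F.card : ℤ) := by
      rw [Finset.sum_congr rfl (g := fun _ => (1 : ℤ))]
      · simp
      · intro χ hχ; rcases hone' χ hχ with h | h <;> simp [h]
    omega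
  have horth : ∀ y : G, Odd (orderOf y) → 1 + ∑ χ ∈ F, (χ : G → ℂ) y * (a χ : ℂ) = 0 := by
    intro y hy
    have h := BlockBasic.blockKernel_eq_zero_of_regular_of_singular hM
      (BlockBasic.isPBlock_principalBlock M) (g := y) (h := z)
      (fun h2 => Nat.not_even_iff_odd.2 hy (even_iff_two_dvd.2 h2)) (by rw [hz])
    rw [BlockBasic.blockKernel, BlockBasic.finsum_mem_eq_sum_ite, hsplit] at h
    simp only [ha, map_intCast] at h
    rw [ha1] at h
    simp only [BlockBasic.trivialIrr] at h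
    simpa using h
  have hdeg : 1 + ∑ χ ∈ F, (Cfsg.charDegree (χ : G → ℂ) : ℤ) * a χ = 0 := by
    have h := horth 1 (by rw [orderOf_one]; exact odd_one)
    simp only [BlockBasic.apply_one_eq_charDegree] at h
    exact_mod_cast h
  obtain ⟨z₂, hz₂, hz₂a⟩ : ∃ χ ∈ F, a χ = 1 := by
    by_contra hcon
    push Not at hcon
    have hall : ∀ χ ∈ F, a χ = -1 := fun χ hχ => (hone' χ hχ).resolve_left (hcon χ hχ)
    rw [Finset.sum_congr rfl (g := fun χ : Cfsg.IrrCharacter G => -(Cfsg.charDegree (χ : G → ℂ) : ℤ))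
      (fun χ hχ => by rw [hall χ hχ]; ring), Finset.sum_neg_distrib] at hdeg
    have h3 : (F.card : ℤ) • (1 : ℤ) ≤ ∑ χ ∈ F, (Cfsg.charDegree (χ : G → ℂ) : ℤ) := by
      have := Finset.card_nsmul_le_sum F (fun χ => (Cfsg.charDegree (χ : G → ℂ) : ℤ)) 1
        (fun χ _ => by exact_mod_cast BlockBasic.charDegree_pos χ)
      simpa using this
    rw [hcard] at h3
    simp at h3
    omega
  obtain ⟨z₄, hz₄, hz₄a⟩ : ∃ χ ∈ F, a χ = -1 := by
    by_contra hcon
    push Not at hcon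
    have hall : ∀ χ ∈ F, a χ = 1 := fun χ hχ => (hone' χ hχ).resolve_right (hcon χ hχ)
    rw [Finset.sum_congr rfl (g := fun χ : Cfsg.IrrCharacter G => (Cfsg.charDegree (χ : G → ℂ) : ℤ))
      (fun χ hχ => by rw [hall χ hχ, mul_one])] at hdeg
    have h3 : (0 : ℤ) ≤ ∑ χ ∈ F, (Cfsg.charDegree (χ : G → ℂ) : ℤ) :=
      Finset.sum_nonneg fun χ _ => by positivity
    omega
  have h24 : z₂ ≠ z₄ := fun h => by rw [h, hz₄a] at hz₂a; omega
  obtain ⟨z₃, hz₃⟩ := Finset.card_eq_one.1 (show ((F.erase z₂).erase z₄).card = 1 by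
    rw [Finset.card_erase_of_mem (Finset.mem_erase.2 ⟨h24.symm, hz₄⟩),
      Finset.card_erase_of_mem hz₂, hcard])
  have hz₃m : z₃ ∈ (F.erase z₂).erase z₄ := hz₃ ▸ Finset.mem_singleton_self z₃
  simp only [Finset.mem_erase] at hz₃m
  have hFeq : ∀ χ, χ ∈ F ↔ χ = z₂ ∨ χ = z₃ ∨ χ = z₄ := by
    intro χ
    constructor
    · intro hχ
      by_cases h2 : χ = z₂
      · exact Or.inl h2
      by_cases h4 : χ = z₄
      · exact Or.inr (Or.inr h4)
      · exact Or.inr (Or.inl (Finset.mem_singleton.1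
          (hz₃ ▸ Finset.mem_erase.2 ⟨h4, Finset.mem_erase.2 ⟨h2, hχ⟩⟩)))
    · rintro (rfl | rfl | rfl)
      exacts [hz₂, hz₃m.2.2, hz₄]
  have hnt : ∀ χ ∈ F, (χ : G → ℂ) ≠ fun _ => 1 := fun χ hχ h =>
    (Finset.mem_filter.1 hχ).2.2 (Subtype.ext h)
  refine ⟨z₂, z₃, z₄, a z₃, hone' _ hz₃m.2.2, hnt _ hz₂, hnt _ hz₃m.2.2, hz₃m.2.1.symm, h24,
    hz₃m.1, ?_, ?_, ?_, ?_, ?_, ?_⟩
  · ext χ
    show χ ∈ Cfsg.principalBlock M G ↔ _
    constructor
    · intro hχ
      by_cases ht : χ = BlockBasic.trivialIrr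
      · exact Or.inl (congrArg Subtype.val ht)
      · exact Or.inr ((hFeq χ).1 (Finset.mem_filter.2 ⟨Finset.mem_univ _, hχ, ht⟩))
    · rintro (h | h)
      · rwa [show χ = BlockBasic.trivialIrr from Subtype.ext h]
      · exact (Finset.mem_filter.1 ((hFeq χ).2 h)).2.1
  · intro t ht
    obtain ⟨c, rfl⟩ := isConj_iff.1 (hone z t hz ht)
    simp only [fun χ : Cfsg.IrrCharacter G => CharBasic.IsIrr.isClassFunction χ.2 z c, ha, hz₂a, hz₄a]
    exact ⟨by norm_num, trivial, by norm_num⟩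
  · have := Cores.four_dvd_degree P hP hone hz z₂ (ha z₂)
    rw [hz₂a] at this; omega
  · have := Cores.four_dvd_degree P hP hone hz z₃ (ha z₃)
    omega
  · have := Cores.four_dvd_degree P hP hone hz z₄ (ha z₄)
    rw [hz₄a] at this; omega
  · intro y hy
    have hFs : F = {z₂, z₃, z₄} := Finset.ext fun χ => by simp [hFeq]
    have h := horth y hy
    rw [hFs, Finset.sum_insert (by simp [hz₃m.2.1.symm, h24]), Finset.sum_pair hz₃m.1, hz₂a, hz₄a] at h
    push_cast at h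
    linear_combination h

end Cfsg.Agent.S0948
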