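import Cfsg.Statements.S0895
import Cfsg.Agent.CharBasic.Indicator

set_option autoImplicit false
open Cfsg

namespace Cfsg.Agent.S0895

/-- Let χ be a real-valued irreducible character of a finite group G whose degree is an odd natural number. Then the average over s in G of χ (s * s) equals 1. -/
theorem result {G : Type*} [Group G] [Fintype G] (χ : G → ℂ) (hχ : Cfsg.IsIrrCharacter G χ) (hreal : ∀ g : G, (χ g).im = 0) (d : ℕ) (hd : χ 1 = d) (hodd : Odd d) : (Nat.card G : ℂ)⁻¹ * ∑ s : G, χ (s * s) = 1 := by
  obtain ⟨n, ρ, hρ, rfl⟩ := hχ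
  obtain ⟨B, hB0, hB⟩ := CharBasic.exists_invariant_of_real ρ hreal
  have hT := CharBasic.transpose_eq_indicator_smul ρ hB
  have hnd : n = d := by
    rw [Representation.char_one, Module.finrank_fin_fun] at hd
    exact_mod_cast hd
  subst hnd
  have hdet := CharBasic.det_ne_zero_of_invariant ρ hB hB0
  set ν := (Nat.card G : ℂ)⁻¹ * ∑ s : G, ρ.character (s * s)
  have h1 := congrArg Matrix.det hT
  rw [Matrix.det_transpose, Matrix.det_smul, Fintype.card_fin] at h1
  have hpow : ν ^ n = 1 := (mul_eq_right₀ hdet).1 h1.symm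
  have h2 : ν * ν = 1 := by
    have h := congrArg Matrix.transpose hT
    rw [Matrix.transpose_transpose, Matrix.transpose_smul, hT, smul_smul] at h
    obtain ⟨i, j, hij⟩ : ∃ i j, B i j ≠ 0 := by
      by_contra hc
      push Not at hc
      exact hB0 (Matrix.ext hc)
    have h' := congrFun (congrFun h i) j
    simp only [Matrix.smul_apply, smul_eq_mul] at h'
    exact (mul_eq_right₀ hij).1 h'.symm
  obtain ⟨k, rfl⟩ := hodd
  rwa [pow_succ, pow_mul, sq, h2, one_pow, one_mul] at hpow

end Cfsg.Agent.S0895
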