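import Cfsg.Statements.S0107
import Cfsg.Agent.H25.InvolutionTransfer
import Mathlib.GroupTheory.SpecificGroups.Dihedral

set_option autoImplicit false
open Cfsg

namespace Cfsg.Agent.S0107


/-- A finite group with no nontrivial 2-group quotient and dihedral Sylow 2-subgroups of order at least 8 has a single class of involutions. -/
theorem result {G : Type*} [Group G] [Finite G] (T : Sylow 2 G) (n : ℕ) (hn : 2 ≤ n) (hT : Nonempty ((T : Subgroup G) ≃* DihedralGroup (2 ^ n))) (hO : Cfsg.pResidual 2 G = ⊤) (x y : G) (hx : orderOf x = 2) (hy : orderOf y = 2) : ∃ g : G, g * x * g⁻¹ = y := by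
  obtain ⟨e⟩ := hT
  have hodd : ¬ ∃ M : Subgroup G, M.Normal ∧ M.index = 2 := by
    rintro ⟨M, hM, hMi⟩
    have hle : Cfsg.pResidual 2 G ≤ M := (Subgroup.closure_le _).mpr fun g hg => by
      have h1 : orderOf (QuotientGroup.mk' M g) ∣ 2 :=
        hMi ▸ M.index_eq_card ▸ orderOf_dvd_natCard _
      exact (QuotientGroup.eq_one_iff g).mp (orderOf_eq_one_iff.mp
        (Nat.eq_one_of_dvd_coprimes hg (orderOf_map_dvd (QuotientGroup.mk' M) g) h1))
    rw [hO, top_le_iff] at hle
    rw [hle, Subgroup.index_top] at hMi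
    omega
  let r : DihedralGroup (2 ^ n) := DihedralGroup.r 1
  let C : Subgroup G := (Subgroup.zpowers (e.symm r)).map (T : Subgroup G).subtype
  have hCT : C ≤ (T : Subgroup G) := Subgroup.map_subtype_le _
  have hCcard : Nat.card C = 2 ^ n := by
    rw [Subgroup.card_map_of_injective (Subgroup.subtype_injective _), Nat.card_zpowers,
      MulEquiv.orderOf_eq, DihedralGroup.orderOf_r_one]
  have hTcard : Nat.card (T : Subgroup G) = 2 * 2 ^ n := by
    rw [Nat.card_congr e.toEquiv, DihedralGroup.nat_card]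
  have hCi : C.relIndex (T : Subgroup G) = 2 := by
    have h1 := Subgroup.card_mul_index (C.subgroupOf (T : Subgroup G))
    rw [Nat.card_congr (Subgroup.subgroupOfEquivOfLe hCT).toEquiv, hCcard, hTcard] at h1
    rw [Subgroup.relIndex]
    exact Nat.eq_of_mul_eq_mul_left (pow_pos two_pos n) (h1.trans (mul_comm _ _))
  have hCc : IsCyclic C := isCyclic_of_surjective
    ((T : Subgroup G).subtype.subgroupMap (Subgroup.zpowers (e.symm r)))
    ((T : Subgroup G).subtype.subgroupMap_surjective _)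
  have key : ∀ u : G, orderOf u = 2 → ∃ g : G, g * u * g⁻¹ ∈ C := by
    intro u hu
    obtain ⟨R, hR⟩ := (IsPGroup.of_card (n := 1) (G := Subgroup.zpowers u)
      (by rw [Nat.card_zpowers, hu, pow_one])).exists_le_sylow
    obtain ⟨g, hg⟩ := MulAction.exists_smul_eq G R T
    have huT : g * u * g⁻¹ ∈ (T : Subgroup G) := by
      rw [← hg]; exact ⟨u, hR (Subgroup.mem_zpowers u), rfl⟩
    by_cases huC : g * u * g⁻¹ ∈ C
    · exact ⟨g, huC⟩
    have hu' : orderOf (g * u * g⁻¹) = 2 := by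
      rw [show g * u * g⁻¹ = MulAut.conj g u from rfl, MulEquiv.orderOf_eq, hu]
    rcases H25.thompson_transfer T C hCT hCi _ hu' huT huC with ⟨M, hM, hMi, -⟩ | ⟨k, hk⟩
    · exact absurd ⟨M, hM, hMi⟩ hodd
    · exact ⟨k * g, by simpa [mul_assoc] using hk⟩
  obtain ⟨a, ha⟩ := key x hx
  obtain ⟨b, hb⟩ := key y hy
  have h2 : ∀ w : G, orderOf w = 2 → ∀ k : G, orderOf (k * w * k⁻¹) = 2 := fun w hw k => by
    rw [show k * w * k⁻¹ = MulAut.conj k w from rfl, MulEquiv.orderOf_eq, hw]
  have huniq : (⟨a * x * a⁻¹, ha⟩ : C) = ⟨b * y * b⁻¹, hb⟩ := by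
    classical
    have := Fintype.ofFinite C
    have hcard := IsCyclic.card_orderOf_eq_totient (α := C) (d := 2)
      (by rw [← Nat.card_eq_fintype_card, hCcard]; exact dvd_pow_self 2 (by omega))
    rw [Nat.totient_two, Finset.card_eq_one] at hcard
    obtain ⟨z, hz⟩ := hcard
    have hmem : ∀ (w : G) (hw : w ∈ C), orderOf w = 2 → (⟨w, hw⟩ : C) = z := fun w hw hw2 => by
      rw [← Finset.mem_singleton, ← hz, Finset.mem_filter]
      exact ⟨Finset.mem_univ _, by rw [← hw2]; exact (Subgroup.orderOf_mk _ _)⟩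
    rw [hmem _ ha (h2 x hx a), hmem _ hb (h2 y hy b)]
  refine ⟨b⁻¹ * a, ?_⟩
  have : a * x * a⁻¹ = b * y * b⁻¹ := congrArg (Subtype.val : C → G) huniq
  calc b⁻¹ * a * x * (b⁻¹ * a)⁻¹ = b⁻¹ * (a * x * a⁻¹) * b := by group
    _ = y := by rw [this]; group

end Cfsg.Agent.S0107
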