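import Cfsg.Statements.S4481
import Cfsg.Agent.Cores.DihedralBlock
import Cfsg.Agent.Cores.DihedralGen

set_option autoImplicit false
open Cfsg

namespace Cfsg.Agent.S4481

/-- The principal 2-block of a group with dihedral Sylow 2-subgroups. Let G be a finite group whose Sylow 2-subgroup P is dihedral of order 2^n ≥ 8, let σ be an element of P of order 2^(n−1), ζ a primitive 2^(n−1)-th root of unity, and M a maximal ideal of the algebraic integers containing 2. Then the principal 2-block consists of exactly 3 + 2^(n−2) irreducible characters, which can be labelled 1, χ₁, χ₂, χ₃ and χ^(j) for 1 ≤ j ≤ 2^(n−2) − 1 (all distinct), with signs δ₁, δ₂, δ₃ such that for 0 < λ < 2^(n−1): χ₁(σ^λ) = δ₁, χ₂(σ^λ) = δ₂(−1)^(λ+1), χ₃(σ^λ) = δ₃(−1)^(λ+1) and χ^(j)(σ^λ) = δ₁(ζ^(jλ) + ζ^(−jλ));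 and for every element ρ of odd order and every j: 1 + δ₁χ₁(ρ) = −δ₂χ₂(ρ) − δ₃χ₃(ρ) = δ₁χ^(j)(ρ). -/
theorem result {G : Type*} [Group G] [Finite G] (M : Ideal Cfsg.AlgInt) (hM : Cfsg.IsPModular 2 M) (n : ℕ) (hn : 3 ≤ n) (P : Sylow 2 G) (hP : Nonempty ((P : Subgroup G) ≃* DihedralGroup (2 ^ (n - 1)))) (σ : G) (hσ : σ ∈ (P : Subgroup G)) (hσo : orderOf σ = 2 ^ (n - 1)) (ζ : ℂ) (hζ : IsPrimitiveRoot ζ (2 ^ (n - 1))) : Nat.card (Cfsg.principalBlock M G) = 3 + 2 ^ (n - 2) ∧ ∃ (χ₁ χ₂ χ₃ : Cfsg.IrrCharacter G) (χ' : Fin (2 ^ (n - 2) - 1) → Cfsg.IrrCharacter G) (δ₁ δ₂ δ₃ : ℤ), (δ₁ = 1 ∨ δ₁ = -1) ∧ (δ₂ = 1 ∨ δ₂ = -1) ∧ (δ₃ = 1 ∨ δ₃ = -1) ∧ Function.Injective χ' ∧ (χ₁ : G → ℂ) ≠ (fun _ => 1) ∧ (χ₂ : G → ℂ) ≠ (fun _ => 1) ∧ (χ₃ : G → ℂ) ≠ (fun _ => 1) ∧ χ₁ ≠ χ₂ ∧ χ₁ ≠ χ₃ ∧ χ₂ ≠ χ₃ ∧ (∀ j,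 χ' j ≠ χ₁ ∧ χ' j ≠ χ₂ ∧ χ' j ≠ χ₃ ∧ (χ' j : G → ℂ) ≠ (fun _ => 1)) ∧ Cfsg.principalBlock M G = {χ : Cfsg.IrrCharacter G | (χ : G → ℂ) = (fun _ => 1) ∨ χ = χ₁ ∨ χ = χ₂ ∨ χ = χ₃ ∨ ∃ j, χ = χ' j} ∧ (∀ l : ℕ, 0 < l → l < 2 ^ (n - 1) → (χ₁ : G → ℂ) (σ ^ l) = δ₁ ∧ (χ₂ : G → ℂ) (σ ^ l) = δ₂ * (-1) ^ (l + 1) ∧ (χ₃ : G → ℂ) (σ ^ l) = δ₃ * (-1) ^ (l + 1) ∧ ∀ j : Fin (2 ^ (n - 2) - 1), (χ' j : G → ℂ) (σ ^ l) = δ₁ * (ζ ^ (((j : ℕ) + 1) * l) + (ζ ^ (((j : ℕ) + 1) * l))⁻¹)) ∧ ∀ ρ : G, Odd (orderOf ρ) → ∀ j : Fin (2 ^ (n - 2) - 1), 1 + δ₁ * (χ₁ : G → ℂ) ρ = -δ₂ * (χ₂ : G → ℂ) ρ - δ₃ * (χ₃ : G → ℂ) ρ ∧ 1 + δ₁ * (χ₁ : G → ℂ) ρ = δ₁ * (χ' j : G → ℂ) ρ := by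
  classical
  obtain ⟨d, rfl⟩ : ∃ d, n = d + 3 := ⟨n - 3, by omega⟩
  have hm : 2 ^ (d + 3 - 1) = 2 * 2 ^ (d + 3 - 2) := by
    rw [show d + 3 - 1 = (d + 1) + 1 by omega, show d + 3 - 2 = d + 1 by omega, pow_succ, mul_comm]
  generalize hh : 2 ^ (d + 3 - 2) = h at hm ⊢
  rw [hm] at hP hσo hζ ⊢
  have hh2 : 2 ≤ h := by
    rw [← hh, show d + 3 - 2 = d + 1 by omega, pow_succ]
    have := Nat.one_le_two_pow (n := d)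
    omega
  obtain ⟨e⟩ := hP
  obtain ⟨τ, hD⟩ := Cores.dGen_of_equiv hh2 e hσ hσo
  obtain ⟨χ₁, χ₂, χ₃, χ', δ₁, δ₂, δ₃, hδ₁, hδ₂, hδ₃, hinj, ⟨n1, n2, n3, h12, h13, h23⟩, hχ', hB,
    hval, hρ⟩ := Cores.dihedral_principal_block hD hh2 hM hζ
  have hne : ∀ χ : Cfsg.IrrCharacter G, χ ≠ BlockBasic.trivialIrr → (χ : G → ℂ) ≠ fun _ => 1 :=
    fun χ hχ he => hχ (Subtype.ext he)
  have hset : Cfsg.principalBlock M G = {χ : Cfsg.IrrCharacter G | (χ : G → ℂ) = (fun _ => 1) ∨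
      χ = χ₁ ∨ χ = χ₂ ∨ χ = χ₃ ∨ ∃ j, χ = χ' j} := by
    ext χ
    rw [hB]
    exact or_congr_left ⟨fun he => by rw [he]; rfl, fun he => Subtype.ext he⟩
  refine ⟨?_, χ₁, χ₂, χ₃, χ', δ₁, δ₂, δ₃, hδ₁, hδ₂, hδ₃, hinj, hne _ n1, hne _ n2, hne _ n3, h12,
    h13, h23, fun j => ⟨(hχ' j).1, (hχ' j).2.1, (hχ' j).2.2.1, hne _ (hχ' j).2.2.2⟩, hset, hval,
    fun ρ hodd j => ⟨(hρ ρ hodd).1, (hρ ρ hodd).2 j⟩⟩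
  let f : Fin 4 ⊕ Fin (h - 1) → Cfsg.IrrCharacter G :=
    Sum.elim ![BlockBasic.trivialIrr, χ₁, χ₂, χ₃] χ'
  have hf : Function.Injective f := by
    refine Function.Injective.sumElim ?_ hinj ?_
    · intro a b hab
      fin_cases a <;> fin_cases b <;> simp_all [Fin.ext_iff, eq_comm]
    · intro a b hab
      obtain ⟨q1, q2, q3, q4⟩ := hχ' b
      fin_cases a <;> simp_all [eq_comm]
  have hr : Cfsg.principalBlock M G = Set.range f := by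
    ext χ
    rw [hB]
    constructor
    · rintro (e | e | e | e | ⟨j, e⟩)
      exacts [⟨Sum.inl 0, e.symm⟩, ⟨Sum.inl 1, e.symm⟩, ⟨Sum.inl 2, e.symm⟩, ⟨Sum.inl 3, e.symm⟩,
        ⟨Sum.inr j, e.symm⟩]
    · rintro ⟨a | j, rfl⟩
      · fin_cases a <;> simp [f]
      · exact Or.inr (Or.inr (Or.inr (Or.inr ⟨j, rfl⟩)))
  rw [hr, Nat.card_range_of_injective hf, Nat.card_sum, Nat.card_fin, Nat.card_fin]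
  omega

end Cfsg.Agent.S4481
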