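import Cfsg.Statements.S2119
import Mathlib

set_option autoImplicit false
open Cfsg Equiv Equiv.Perm

namespace Cfsg.Agent.S2119

variable {α : Type*} [DecidableEq α]

/-- the 3-cycle `a → b → c → a` -/
def cyc (a b c : α) : Perm α := swap a b * swap b c

theorem cyc_apply (a b c : α) (hab : a ≠ b) (hac : a ≠ c) (hbc : b ≠ c) :
    cyc a b c a = b ∧ cyc a b c b = c ∧ cyc a b c c = a ∧
      ∀ x, x ≠ a → x ≠ b → x ≠ c → cyc a b c x = x := by
  refine ⟨?_, ?_, ?_, ?_⟩ <;>
    simp only [cyc, coe_mul, Function.comp_apply, swap_apply_def] <;> intros <;> split_ifs <;> grind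

theorem cyc_conj (g : Perm α) (a b c : α) : g * cyc a b c * g⁻¹ = cyc (g a) (g b) (g c) := by
  simp only [cyc, swap_apply_apply]
  group

theorem cyc_rot (a b c : α) (hab : a ≠ b) (hac : a ≠ c) (hbc : b ≠ c) :
    cyc b c a = cyc a b c := by
  ext x
  simp only [cyc, coe_mul, Function.comp_apply, swap_apply_def]
  split_ifs <;> grind

theorem cyc_inv (a b c : α) (hab : a ≠ b) (hac : a ≠ c) (hbc : b ≠ c) :
    (cyc a b c)⁻¹ = cyc a c b := by
  rw [inv_eq_iff_mul_eq_one]
  ext x
  simp only [cyc, coe_mul, Function.comp_apply, swap_apply_def, one_apply]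
  split_ifs <;> grind

theorem cyc_isThreeCycle [Fintype α] (a b c : α) (hab : a ≠ b) (hac : a ≠ c) (hbc : b ≠ c) :
    (cyc a b c).IsThreeCycle := by
  rw [cyc, swap_comm a b]
  exact isThreeCycle_swap_mul_swap_same hab.symm hbc hac

theorem eq_cyc [Fintype α] {x : Perm α} (hx : x.IsThreeCycle) (e : α) (he : x e ≠ e) :
    e ≠ x e ∧ e ≠ x (x e) ∧ x e ≠ x (x e) ∧ x (x (x e)) = e ∧
      (∀ y, y ≠ e → y ≠ x e → y ≠ x (x e) → x y = y) ∧ x = cyc e (x e) (x (x e)) := by
  have hs := hx.support_eq_iff_mem_support.2 (mem_support.2 he)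
  have h3 : x (x (x e)) = e := by
    have := pow_orderOf_eq_one x
    rw [hx.orderOf] at this
    exact DFunLike.congr_fun this e
  have h1 : x e ≠ x (x e) := fun h => he (x.injective h).symm
  have h2 : e ≠ x (x e) := fun h => he (by rw [← h] at h3; exact h3)
  have hf : ∀ y, y ≠ e → y ≠ x e → y ≠ x (x e) → x y = y := by
    intro y a b c
    by_contra hy
    have hm := mem_support.2 hy
    rw [hs] at hm
    simp [a, b, c] at hm
  refine ⟨Ne.symm he, h2, h1, h3, hf, ?_⟩
  obtain ⟨ca, cb, cc, cd⟩ := cyc_apply e (x e) (x (x e)) (Ne.symm he) h2 h1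
  ext y
  by_cases a : y = e
  · rw [a, ca]
  by_cases b : y = x e
  · rw [b, cb]
  by_cases c : y = x (x e)
  · rw [c, cc, h3]
  rw [cd y a b c, hf y a b c]

variable [Fintype α]

set_option linter.unusedSectionVars false

/-- two 3-cycles whose product is an involution share exactly one arc -/
theorem share_arc {x y : Perm α} (hx : x.IsThreeCycle) (hy : y.IsThreeCycle)
    (h2 : orderOf (x * y) = 2) :
    ∃ e d, x e ≠ e ∧ x d = d ∧ y = cyc e (x e) d ∧ d ≠ e ∧ d ≠ x e := by
  have hsq : x * y * (x * y) = 1 := by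
    have := pow_orderOf_eq_one (x * y); rwa [h2, pow_two] at this
  have hd : ∃ d, y d ≠ d ∧ x d = d := by
    by_contra hc
    push Not at hc
    have hsub : y.support ⊆ x.support := fun d hd => mem_support.2 (hc d (mem_support.1 hd))
    have heq : y.support = x.support := Finset.eq_of_subset_of_card_le hsub
      (by rw [hx.card_support, hy.card_support])
    have hne : y.support.Nonempty := by
      rw [← Finset.card_pos, hy.card_support]; norm_num
    obtain ⟨d, hd⟩ := hne
    have hxd : x d ≠ d := mem_support.1 (hsub hd)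
    obtain ⟨a1, a2, a3, a4, a5, a6⟩ := eq_cyc hx d hxd
    obtain ⟨b1, b2, b3, b4, b5, b6⟩ := eq_cyc hy d (mem_support.1 hd)
    have hyd : y d = x d ∨ y d = x (x d) := by
      have : y d ∈ x.support := by rw [← heq]; exact apply_mem_support.2 hd
      rw [hx.support_eq_iff_mem_support.2 (mem_support.2 hxd)] at this
      simp only [Finset.mem_insert, Finset.mem_singleton] at this
      rcases this with h | h | h
      · exact absurd h b1.symm
      · exact Or.inl h
      · exact Or.inr h
    have hyyd : y (y d) ∈ x.support := by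
      rw [← heq]; exact apply_mem_support.2 (apply_mem_support.2 hd)
    rw [hx.support_eq_iff_mem_support.2 (mem_support.2 hxd)] at hyyd
    simp only [Finset.mem_insert, Finset.mem_singleton] at hyyd
    rcases hyd with h | h
    · have h' : y (y d) = x (x d) := by
        rcases hyyd with e | e | e
        · exact absurd e b2.symm
        · exact absurd (e.trans h.symm) b3.symm
        · exact e
      have hxy : y = x := by rw [b6, a6]; rw [h', h]
      rw [hxy] at h2
      have := hx.isThreeCycle_sq.orderOf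
      omega
    · have h' : y (y d) = x d := by
        rcases hyyd with e | e | e
        · exact absurd e b2.symm
        · exact e
        · exact absurd (e.trans h.symm) b3.symm
      have hxy : y = x⁻¹ := by
        rw [b6, h', h]; conv_rhs => rw [a6]
        rw [cyc_inv _ _ _ a1 a2 a3]
      rw [hxy, mul_inv_cancel, orderOf_one] at h2
      omega
  obtain ⟨d, hyd, hxd⟩ := hd
  obtain ⟨b1, b2, b3, b4, b5, b6⟩ := eq_cyc hy d hyd
  have hrel : y (x (y d)) = d := by
    have := DFunLike.congr_fun hsq d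
    simp only [coe_mul, Function.comp_apply, one_apply] at this
    exact x.injective (this.trans hxd.symm)
  have hxe : x (y d) = y (y d) := y.injective (hrel.trans b4.symm)
  refine ⟨y d, d, ?_, hxd, ?_, b1, ?_⟩
  · rw [hxe]; exact b3.symm
  · rw [hxe]; conv_lhs => rw [b6]
    exact (cyc_rot _ _ _ b1 b2 b3).symm
  · rw [hxe]; exact b2

theorem orderOf_cyc_mul (a b c d : α) (hab : a ≠ b) (hac : a ≠ c) (hbc : b ≠ c) (had : a ≠ d)
    (hbd : b ≠ d) (hcd : c ≠ d) : orderOf (cyc a b c * cyc a b d) = 2 := by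
  obtain ⟨xa, xb, xc, xo⟩ := cyc_apply a b c hab hac hbc
  obtain ⟨ya, yb, yd, yo⟩ := cyc_apply a b d hab had hbd
  have pa : (cyc a b c * cyc a b d) a = c := by rw [mul_apply, ya, xb]
  have pb : (cyc a b c * cyc a b d) b = d := by rw [mul_apply, yb, xo d had.symm hbd.symm hcd.symm]
  have pc : (cyc a b c * cyc a b d) c = a := by rw [mul_apply, yo c hac.symm hbc.symm hcd, xc]
  have pd : (cyc a b c * cyc a b d) d = b := by rw [mul_apply, yd, xa]
  refine orderOf_eq_prime ?_ ?_
  · ext x
    rw [pow_two, mul_apply, one_apply]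
    by_cases hxa : x = a
    · rw [hxa, pa, pc]
    by_cases hxb : x = b
    · rw [hxb, pb, pd]
    by_cases hxc : x = c
    · rw [hxc, pc, pa]
    by_cases hxd : x = d
    · rw [hxd, pd, pb]
    have e : (cyc a b c * cyc a b d) x = x := by rw [mul_apply, yo x hxa hxb hxd, xo x hxa hxb hxc]
    rw [e, e]
  · intro h
    rw [h, one_apply] at pd
    exact hbd pd.symm

theorem cyc_mem {a b : α} (hab : a ≠ b) (H : Subgroup (Perm α))
    (hH : ∀ j, j ≠ a → j ≠ b → cyc a b j ∈ H) :
    alternatingGroup α ≤ H := by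
  have h1 : ∀ j, j ≠ a → j ≠ b → cyc b a j ∈ H := by
    intro j ja jb
    have := H.inv_mem (hH j ja jb)
    rwa [cyc_inv a b j hab ja.symm jb.symm, cyc_rot b a j hab.symm jb.symm ja.symm] at this
  have h2 : ∀ i j, i ≠ a → i ≠ b → j ≠ a → j ≠ b → i ≠ j → cyc b j i ∈ H ∧ cyc a i j ∈ H := by
    intro i j ia ib ja jb ij
    obtain ⟨c1, c2, c3, c4⟩ := cyc_apply a b j hab ja.symm jb.symm
    have m1 : cyc a b j * cyc a b i * (cyc a b j)⁻¹ ∈ H :=
      H.mul_mem (H.mul_mem (hH j ja jb) (hH i ia ib)) (H.inv_mem (hH j ja jb))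
    rw [cyc_conj, c1, c2, c4 i ia ib ij] at m1
    obtain ⟨d1, d2, d3, d4⟩ := cyc_apply b a j hab.symm jb.symm ja.symm
    have m2 : cyc b a j * cyc b a i * (cyc b a j)⁻¹ ∈ H :=
      H.mul_mem (H.mul_mem (h1 j ja jb) (h1 i ia ib)) (H.inv_mem (h1 j ja jb))
    rw [cyc_conj, d1, d2, d4 i ib ia ij] at m2
    have := H.inv_mem m2
    rw [cyc_inv a j i ja.symm ia.symm ij.symm] at this
    exact ⟨m1, this⟩
  have h3 : ∀ i j k, i ≠ a → i ≠ b → j ≠ a → j ≠ b → k ≠ a → k ≠ b → i ≠ j → i ≠ k → j ≠ k →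
      cyc k i j ∈ H := by
    intro i j k ia ib ja jb ka kb ij ik jk
    obtain ⟨c1, c2, c3, c4⟩ := cyc_apply a b k hab ka.symm kb.symm
    have m : cyc a b k * cyc b i j * (cyc a b k)⁻¹ ∈ H :=
      H.mul_mem (H.mul_mem (hH k ka kb) (h2 j i ja jb ia ib ij.symm).1) (H.inv_mem (hH k ka kb))
    rwa [cyc_conj, c2, c4 i ia ib ik, c4 j ja jb jk] at m
  have h4 : ∀ p q r, p ≠ q → p ≠ r → q ≠ r → q ≠ a → r ≠ a → q ≠ b → r ≠ b → cyc p q r ∈ H := by
    intro p q r pq pr qr qa ra qb rb
    rcases eq_or_ne p a with rfl | pa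
    · exact (h2 q r qa qb ra rb qr).2
    rcases eq_or_ne p b with rfl | pb
    · exact (h2 r q ra rb qa qb qr.symm).1
    exact h3 q r p qa qb ra rb pa pb qr pq.symm pr.symm
  have h5 : ∀ p q r, p ≠ q → p ≠ r → q ≠ r → cyc p q r ∈ H := by
    intro p q r pq pr qr
    have rot1 := cyc_rot p q r pq pr qr
    have rot2 := cyc_rot q r p qr pq.symm pr.symm
    have key1 : ∀ j, j ≠ a → j ≠ b → cyc b j a ∈ H := fun j ja jb => by
      rw [cyc_rot a b j hab ja.symm jb.symm]; exact hH j ja jb
    have key2 : ∀ j, j ≠ a → j ≠ b → cyc a j b ∈ H := fun j ja jb => by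
      rw [cyc_rot b a j hab.symm jb.symm ja.symm]; exact h1 j ja jb
    by_cases hp : p = a ∨ p = b
    · by_cases hq : q = a ∨ q = b
      · have hr : r ≠ a ∧ r ≠ b := ⟨by grind, by grind⟩
        rcases hp with rfl | rfl <;> rcases hq with rfl | rfl
        · exact absurd rfl pq
        · exact hH r hr.1 hr.2
        · exact h1 r hr.1 hr.2
        · exact absurd rfl pq
      · push Not at hq
        by_cases hr : r = a ∨ r = b
        · rcases hp with rfl | rfl <;> rcases hr with rfl | rfl
          · exact absurd rfl pr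
          · exact key2 q hq.1 hq.2
          · exact key1 q hq.1 hq.2
          · exact absurd rfl pr
        · push Not at hr
          exact h4 p q r pq pr qr hq.1 hr.1 hq.2 hr.2
    · push Not at hp
      by_cases hq : q = a ∨ q = b
      · by_cases hr : r = a ∨ r = b
        · rw [← rot1]
          rcases hq with rfl | rfl <;> rcases hr with rfl | rfl
          · exact absurd rfl qr
          · exact hH p hp.1 hp.2
          · exact h1 p hp.1 hp.2
          · exact absurd rfl qr
        · push Not at hr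
          rw [← rot1]
          exact h4 q r p qr pq.symm pr.symm hr.1 hp.1 hr.2 hp.2
      · push Not at hq
        rw [← rot1, ← rot2]
        exact h4 r p q pr.symm qr.symm pq hp.1 hq.1 hp.2 hq.2
  rw [← closure_three_cycles_eq_alternating, Subgroup.closure_le]
  intro x hx
  have hne : x.support.Nonempty := by rw [← Finset.card_pos, (hx : x.IsThreeCycle).card_support]; norm_num
  obtain ⟨e, he⟩ := hne
  obtain ⟨a1, a2, a3, -, -, a6⟩ := eq_cyc hx e (mem_support.1 he)
  rw [a6]; exact h5 _ _ _ a1 a2 a3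

open Nat in
theorem count_ineq (n k : ℕ) (hn : 7 ≤ n) (hk : 2 ≤ k) (h3k : 3 * k ≤ n) :
    2 * (3 * (n - 3 * k)! * 3 ^ (k - 1) * k !) < 3 * (n - 3)! := by
  rcases eq_or_lt_of_le hk with rfl | hk3
  · obtain ⟨m, rfl⟩ : ∃ m, n = m + 7 := ⟨n - 7, by omega⟩
    rw [show m + 7 - 3 * 2 = m + 1 by omega, show m + 7 - 3 = m + 4 by omega,
      factorial_succ (m + 3), factorial_succ (m + 2), factorial_succ (m + 1)]
    have h24 : 24 ≤ (m + 3 + 1) * ((m + 2 + 1) * (m + 1 + 1)) :=
      Nat.mul_le_mul (by omega : 4 ≤ m + 3 + 1) (Nat.mul_le_mul (by omega : 3 ≤ m + 2 + 1) (by omega : 2 ≤ m + 1 + 1))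
    have := Nat.mul_le_mul_right (m + 1)! h24
    have hp := factorial_pos (m + 1)
    rw [← mul_assoc (m + 3 + 1), ← mul_assoc ((m + 3 + 1) * (m + 2 + 1))]
    rw [← mul_assoc (m + 3 + 1) (m + 2 + 1)] at this
    norm_num [show (2 : ℕ).factorial = 2 from rfl]
    omega
  · have hd : (n - 3 * k)! * (3 * k - 3)! ≤ (n - 3)! := by
      refine Nat.le_of_dvd (factorial_pos _) ?_
      have := factorial_mul_factorial_dvd_factorial_add (n - 3 * k) (3 * k - 3)
      rwa [show n - 3 * k + (3 * k - 3) = n - 3 by omega] at this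
    have key : ∀ j, 3 ≤ j → 2 * (3 ^ (j - 1) * j !) < (3 * j - 3)! := by
      intro j hj
      induction j, hj using Nat.le_induction with
      | base => norm_num [factorial]
      | succ j hj ih =>
        rw [show 3 * (j + 1) - 3 = (3 * j - 3) + 3 by omega, show j + 1 - 1 = (j - 1) + 1 by omega,
          pow_succ, factorial_succ j, factorial_succ, factorial_succ, factorial_succ]
        obtain ⟨i, hi⟩ : ∃ i, 3 * j - 3 = i + 6 := ⟨3 * j - 9, by omega⟩
        rw [hi] at ih ⊢
        have h1 : 3 * (j + 1) ≤ (i + 6 + 2 + 1) * ((i + 6 + 1 + 1) * (i + 6 + 1)) := by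
          calc 3 * (j + 1) ≤ (i + 6 + 2 + 1) * 2 := by omega
            _ ≤ _ := Nat.mul_le_mul_left _ (le_trans (by omega) (Nat.le_mul_of_pos_right _ (by omega)))
        have h2 := Nat.mul_le_mul h1 ih.le
        nlinarith [factorial_pos (i + 6), h2]
    have := key k hk3
    have h2 := Nat.mul_lt_mul_of_pos_left this (factorial_pos (n - 3 * k))
    nlinarith

/-- an automorphism of `alternatingGroup (Fin n)` maps 3-cycles to 3-cycles -/
theorem map_isThreeCycle {n : ℕ} (hn : 4 ≤ n) (h6 : n ≠ 6)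
    (φ : MulAut (alternatingGroup (Fin n))) {x : alternatingGroup (Fin n)}
    (hx : (x : Perm (Fin n)).IsThreeCycle) : (φ x : Perm (Fin n)).IsThreeCycle := by
  classical
  have ho : orderOf (φ x : Perm (Fin n)) = 3 := by
    rw [Subgroup.orderOf_coe, MulEquiv.orderOf_eq, ← Subgroup.orderOf_coe, hx.orderOf]
  have : Fact (Nat.Prime 3) := ⟨Nat.prime_three⟩
  obtain ⟨k, hk⟩ := cycleType_prime_order (σ := (φ x : Perm (Fin n))) (by rw [ho]; exact Nat.prime_three)
  rw [ho] at hk
  rcases Nat.eq_zero_or_pos k with rfl | hkpos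
  · exact hk
  exfalso
  have hsum := sum_cycleType_le (φ x : Perm (Fin n))
  rw [hk, Multiset.sum_replicate, Fintype.card_fin, smul_eq_mul] at hsum
  have h5 : 5 ≤ Nat.card (Fin n) := by rw [Nat.card_fin]; omega
  set T : ℕ → Finset (alternatingGroup (Fin n)) :=
    fun j => {g | (g : Perm (Fin n)).cycleType = Multiset.replicate j 3} with hT
  have hcard : ∀ j, 0 < j → 3 * j ≤ n →
      (T j).card * ((n - 3 * j).factorial * 3 ^ j * j.factorial) = n.factorial := by
    intro j hj hjn
    have := AlternatingGroup.card_of_cycleType_mul_eq (Fin n) (Multiset.replicate j 3)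
    simp only [Multiset.sum_replicate, Multiset.prod_replicate, Multiset.toFinset_replicate,
      Fintype.card_fin, Multiset.card_replicate, smul_eq_mul, if_neg hj.ne',
      Finset.prod_singleton, Multiset.count_replicate_self] at this
    rw [if_pos ⟨⟨by omega, fun a ha => by rw [Multiset.eq_of_mem_replicate ha]; norm_num⟩,
      ⟨2 * j, by omega⟩⟩, mul_comm j 3] at this
    exact this
  obtain ⟨a, b, hab⟩ : ∃ a b : Fin n, a ≠ b := ⟨⟨0, by omega⟩, ⟨1, by omega⟩, by simp [Fin.ext_iff]⟩
  let τ : Perm (Fin n) := swap a b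
  let cτ : MulAut (alternatingGroup (Fin n)) := MulAut.conjNormal τ
  have hsub : T (k + 1) ⊆ (T 1).image (fun g => φ g) ∪ (T 1).image (fun g => cτ (φ g)) := by
    intro y hy
    simp only [hT, Finset.mem_filter, Finset.mem_univ, true_and] at hy
    obtain ⟨c, hc⟩ := isConj_iff.1 (isConj_iff_cycleType_eq.2 (hk.trans hy.symm))
    have conjcase : ∀ π : alternatingGroup (Fin n),
        π * φ x * π⁻¹ ∈ (T 1).image (fun g => φ g) := by
      intro π
      refine Finset.mem_image.2 ⟨φ.symm π * x * (φ.symm π)⁻¹, Finset.mem_filter.2 ⟨Finset.mem_univ _, ?_⟩, by simp⟩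
      rw [Multiset.replicate_one, Subgroup.coe_mul, Subgroup.coe_mul, Subgroup.coe_inv, cycleType_conj]
      exact hx
    rw [Finset.mem_union]
    rcases Int.units_eq_one_or (sign c) with hs | hs
    · left
      have : y = ⟨c, mem_alternatingGroup.2 hs⟩ * φ x * ⟨c, mem_alternatingGroup.2 hs⟩⁻¹ :=
        Subtype.ext (by simpa using hc.symm)
      rw [this]; exact conjcase _
    · right
      have hm : τ⁻¹ * c ∈ alternatingGroup (Fin n) := by
        rw [mem_alternatingGroup, map_mul, map_inv, hs, sign_swap hab]; simp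
      obtain ⟨g, hg, hgy⟩ := Finset.mem_image.1 (conjcase ⟨_, hm⟩)
      refine Finset.mem_image.2 ⟨g, hg, ?_⟩
      rw [hgy]
      refine Subtype.ext ?_
      rw [MulAut.conjNormal_apply]
      simp only [Subgroup.coe_mul, Subgroup.coe_inv]
      rw [← hc]
      group
  have hle : (T (k + 1)).card ≤ 2 * (T 1).card :=
    (Finset.card_le_card hsub).trans ((Finset.card_union_le _ _).trans
      (by have := Finset.card_image_le (s := T 1) (f := fun g => φ g)
          have := Finset.card_image_le (s := T 1) (f := fun g => cτ (φ g))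
          omega))
  have c1 := hcard 1 one_pos (by omega)
  have c2 := hcard (k + 1) (by omega) (by omega)
  have hin := count_ineq n (k + 1) (by omega) (by omega) (by omega)
  rw [Nat.add_sub_cancel] at hin
  simp only [Nat.factorial_one, pow_one, mul_one] at c1
  rw [pow_succ] at c2
  have hpos := n.factorial_pos
  nlinarith [Nat.mul_le_mul_right ((n - 3 * (k+1)).factorial * (3 ^ k * 3) * (k+1).factorial) hle]

/-- Automorphisms of the alternating groups. -/
theorem result (n : ℕ) (hn : 4 ≤ n) (h6 : n ≠ 6) : Function.Bijective (MulAut.conjNormal : Equiv.Perm (Fin n) →* MulAut ↥(alternatingGroup (Fin n))) := by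
  let A := alternatingGroup (Fin n)
  have mkc : ∀ a b c : Fin n, a ≠ b → a ≠ c → b ≠ c → cyc a b c ∈ A :=
    fun a b c x y z => (cyc_isThreeCycle a b c x y z).mem_alternatingGroup
  constructor
  · rw [injective_iff_map_eq_one]
    intro g hg
    ext a : 1
    by_contra hne
    rw [one_apply] at hne
    obtain ⟨c, d, hc, hd, hcd⟩ : ∃ c d, (c ≠ a ∧ c ≠ g a) ∧ (d ≠ a ∧ d ≠ g a) ∧ c ≠ d := by
      have : 1 < ((Finset.univ : Finset (Fin n)) \ {a, g a}).card := by
        rw [Finset.card_sdiff, Finset.inter_univ, Finset.card_univ, Fintype.card_fin]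
        have := (Finset.card_insert_le a ({g a} : Finset (Fin n)))
        simp at this
        omega
      obtain ⟨c, hc, d, hd, hcd⟩ := Finset.one_lt_card.1 this
      simp only [Finset.mem_sdiff, Finset.mem_univ, Finset.mem_insert, Finset.mem_singleton, true_and,
        not_or] at hc hd
      exact ⟨c, d, hc, hd, hcd⟩
    have h := DFunLike.congr_fun hg ⟨cyc a c d, mkc a c d hc.1.symm hd.1.symm hcd⟩
    have h' := congrArg Subtype.val h
    rw [MulAut.conjNormal_apply, MulAut.one_apply] at h'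
    simp only [cyc_conj] at h'
    obtain ⟨-, -, -, fx⟩ := cyc_apply a c d hc.1.symm hd.1.symm hcd
    obtain ⟨ga, -, -, -⟩ := cyc_apply (g a) (g c) (g d) (g.injective.ne hc.1.symm)
      (g.injective.ne hd.1.symm) (g.injective.ne hcd)
    have h'' := DFunLike.congr_fun h' (g a)
    rw [ga, fx (g a) hne hc.2.symm hd.2.symm] at h''
    exact hc.1 (g.injective h'')
  intro φ
  let o : Fin n := ⟨0, by omega⟩
  let l : Fin n := ⟨1, by omega⟩
  let t : Fin n := ⟨2, by omega⟩
  have hol : o ≠ l := by simp [o, l, Fin.ext_iff]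
  have hot : o ≠ t := by simp [o, t, Fin.ext_iff]
  have hlt : l ≠ t := by simp [l, t, Fin.ext_iff]
  let J := {j : Fin n // j ≠ o ∧ j ≠ l}
  let x : J → A := fun j => ⟨cyc o l j, mkc o l j hol j.2.1.symm j.2.2.symm⟩
  let y : J → Perm (Fin n) := fun j => (φ (x j) : Perm (Fin n))
  have hy3 : ∀ j, (y j).IsThreeCycle := fun j =>
    map_isThreeCycle hn h6 φ (cyc_isThreeCycle o l j hol j.2.1.symm j.2.2.symm)
  have hy2 : ∀ i j : J, i ≠ j → orderOf (y i * y j) = 2 := by
    intro i j hij
    simp only [y, ← Subgroup.coe_mul, ← map_mul, Subgroup.orderOf_coe, MulEquiv.orderOf_eq]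
    rw [← Subgroup.orderOf_coe, Subgroup.coe_mul]
    exact orderOf_cyc_mul o l i j hol i.2.1.symm i.2.2.symm j.2.1.symm j.2.2.symm
      (fun h => hij (Subtype.ext h))
  obtain ⟨s, hs⟩ : ∃ s : Fin n, s ≠ o ∧ s ≠ l ∧ s ≠ t := by
    refine ⟨⟨3, by omega⟩, ?_⟩
    simp [o, l, t, Fin.ext_iff]
  let j0 : J := ⟨t, hot.symm, hlt.symm⟩
  let j1 : J := ⟨s, hs.1, hs.2.1⟩
  have hj01 : j0 ≠ j1 := fun h => hs.2.2 (congrArg Subtype.val h).symm
  obtain ⟨a, d, ha, hd, hy1, hda, hdb⟩ := share_arc (hy3 j0) (hy3 j1) (hy2 j0 j1 hj01)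
  obtain ⟨q1, q2, q3, q4, q5, q6⟩ := eq_cyc (hy3 j0) a ha
  have form : ∀ j : J, ∃ e, y j = cyc a (y j0 a) e ∧ e ≠ a ∧ e ≠ y j0 a := by
    intro j
    by_cases h0 : j = j0
    · exact ⟨y j0 (y j0 a), by rw [h0]; exact q6, q2.symm, q3.symm⟩
    by_cases h1 : j = j1
    · exact ⟨d, by rw [h1]; exact hy1, hda, hdb⟩
    obtain ⟨f, e, hf, he, hye, hef, heb⟩ := share_arc (hy3 j0) (hy3 j) (hy2 j0 j (Ne.symm h0))
    by_cases hfa : f = a
    · exact ⟨e, by rw [← hfa]; exact hye, hfa ▸ hef, hfa ▸ heb⟩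
    exfalso
    obtain ⟨g, e', hg, he', hye', heg', heb'⟩ := share_arc (hy3 j1) (hy3 j) (hy2 j1 j (Ne.symm h1))
    -- values of the three permutations
    obtain ⟨u1, u2, u3, u4⟩ := cyc_apply a (y j0 a) d q1 hda.symm hdb.symm
    rw [← hy1] at u1 u2 u3 u4
    have hfb : f ≠ y j0 f := (Ne.symm hf)
    obtain ⟨w1, w2, w3, w4⟩ := cyc_apply f (y j0 f) e hfb hef.symm heb.symm
    rw [← hye] at w1 w2 w3 w4
    obtain ⟨z1, z2, z3, z4⟩ := cyc_apply g (y j1 g) e' (Ne.symm hg) heg'.symm heb'.symm
    rw [← hye'] at z1 z2 z3 z4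
    have hfin : f = a ∨ f = y j0 a ∨ f = y j0 (y j0 a) := by
      by_contra hh
      push Not at hh
      exact hf (q5 f hh.1 hh.2.1 hh.2.2)
    have hgin : g = a ∨ g = y j0 a ∨ g = d := by
      by_contra hh
      push Not at hh
      exact hg (u4 g hh.1 hh.2.1 hh.2.2)
    rcases hfin with r | r | r <;> rcases hgin with r' | r' | r' <;> subst r' <;>
      grind
  choose e he hea heb using form
  let gfun : Fin n → Fin n := fun j =>
    if h : j = o then a else if h' : j = l then y j0 a else e ⟨j, h, h'⟩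
  have einj : Function.Injective e := by
    intro i j hij
    have : y i = y j := by rw [he i, he j, hij]
    have hx : x i = x j := φ.injective (Subtype.ext this)
    have hx' : cyc o l (i : Fin n) = cyc o l (j : Fin n) := congrArg Subtype.val hx
    have := DFunLike.congr_fun hx' l
    rw [(cyc_apply o l i hol i.2.1.symm i.2.2.symm).2.1,
      (cyc_apply o l j hol j.2.1.symm j.2.2.symm).2.1] at this
    exact Subtype.ext this
  have ginj : Function.Injective gfun := by
    intro i j hij
    simp only [gfun] at hij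
    split_ifs at hij with a1 a2 a3 a4 a5 a6 <;>
      first
        | (subst_vars; rfl)
        | exact absurd hij q1
        | exact absurd hij q1.symm
        | exact absurd hij (hea _).symm
        | exact absurd hij (hea _)
        | exact absurd hij (heb _).symm
        | exact absurd hij (heb _)
        | exact congrArg Subtype.val (einj hij)
  let g : Perm (Fin n) := Equiv.ofBijective gfun (Finite.injective_iff_bijective.1 ginj)
  refine ⟨g, ?_⟩
  let H : Subgroup A := MonoidHom.eqLocus (MulAut.conjNormal g : MulAut A).toMonoidHom φ.toMonoidHom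
  have hH : ∀ j, j ≠ o → j ≠ l → cyc o l j ∈ H.map A.subtype := by
    intro j jo jl
    refine ⟨x ⟨j, jo, jl⟩, ?_, rfl⟩
    refine Subtype.ext ?_
    change ((MulAut.conjNormal g : MulAut A) (x ⟨j, jo, jl⟩) : Perm (Fin n)) = y ⟨j, jo, jl⟩
    rw [MulAut.conjNormal_apply, cyc_conj, he]
    simp [g, gfun, jo, jl, hol.symm]
  have htop : A ≤ H.map A.subtype := cyc_mem hol _ hH
  ext z : 1
  obtain ⟨w, hw, hwz⟩ := htop z.2
  rw [Subgroup.coe_subtype, SetLike.coe_eq_coe] at hwz
  rw [← hwz]
  exact hw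

end Cfsg.Agent.S2119
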