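import Cfsg.Statements.S0600
import Cfsg.Agent.H31.JSub

set_option autoImplicit false
open Cfsg

namespace Cfsg.Agent.S0600

/-- A normal elementary abelian p-subgroup generated by the fixed points of the Sylow p-subgroups admits no nontrivial normal p-subgroup of G modulo its centralizer. -/
theorem result {G : Type*} [Group G] [Finite G] {p : ℕ} [Fact p.Prime] (V : Subgroup G) [V.Normal] (hV : Cfsg.IsElementaryAbelian p V) (hgen : V = ⨆ S : Sylow p G, V ⊓ Subgroup.centralizer ((S : Subgroup G) : Set G)) : Cfsg.pCore p (G ⧸ Subgroup.centralizer (V : Set G)) = ⊥ := by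
  set C := Subgroup.centralizer (V : Set G) with hC
  set D := (Cfsg.pCore p (G ⧸ C)).comap (QuotientGroup.mk' C) with hD
  haveI : (Cfsg.pCore p (G ⧸ C)).Normal := inferInstance
  haveI : D.Normal := Subgroup.Normal.comap inferInstance _
  obtain ⟨k, hk⟩ := Cfsg.Agent.H31.exists_relIndex_comap_pCore (p := p) C
  have hDC : D ≤ C := by
    rw [hC, Subgroup.le_centralizer_iff]
    calc V = ⨆ S : Sylow p G, V ⊓ Subgroup.centralizer ((S : Subgroup G) : Set G) := hgen
      _ ≤ Subgroup.centralizer (D : Set G) := iSup_le fun S => ?_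
    rw [← Subgroup.le_centralizer_iff]
    refine (Cfsg.Agent.H31.le_sup_sylow_inf S (Cfsg.Agent.H31.le_comap_mk' C _) hk).trans
      (sup_le ?_ ?_)
    · exact Subgroup.centralizer_le (SetLike.coe_subset_coe.mpr inf_le_left)
    · exact inf_le_left.trans (Subgroup.le_centralizer_iff.mp inf_le_right)
  rw [eq_bot_iff]
  intro q hq
  obtain ⟨g, rfl⟩ := QuotientGroup.mk_surjective q
  rw [Subgroup.mem_bot]
  exact (QuotientGroup.eq_one_iff g).mpr (hDC hq)

end Cfsg.Agent.S0600
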