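import Cfsg.Statements.S0601
import Cfsg.Agent.H31.VSub

set_option autoImplicit false
open Cfsg

namespace Cfsg.Agent.S0601

/-- When O_p(G) contains its centralizer, the normal closure of Ω₁(Z(S)) is elementary abelian and G has no nontrivial normal p-subgroup modulo its centralizer. -/
theorem result {G : Type*} [Group G] [Finite G] {p : ℕ} [Fact p.Prime] (hc : Subgroup.centralizer (Cfsg.pCore p G : Set G) ≤ Cfsg.pCore p G) : (⨆ S : Sylow p G, Cfsg.omegaOne p (((S : Subgroup G)) ⊓ Subgroup.centralizer ((S : Subgroup G) : Set G))).Normal ∧ Cfsg.IsElementaryAbelian p (⨆ S : Sylow p G, Cfsg.omegaOne p (((S : Subgroup G)) ⊓ Subgroup.centralizer ((S : Subgroup G) : Set G))) ∧ ∀ D : Subgroup G, D.Normal → Subgroup.centralizer ((⨆ S : Sylow p G, Cfsg.omegaOne p (((S : Subgroup G)) ⊓ Subgroup.centralizer ((S : Subgroup G) : Set G)) : Subgroup G) : Set G) ≤ D → (∃ k : ℕ, (Subgroup.centralizer ((⨆ S : Sylow p G, Cfsg.omegaOne p (((S : Subgroup G)) ⊓ Subgroup.centralizer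 ((S : Subgroup G) : Set G)) : Subgroup G) : Set G)).relIndex D = p ^ k) → D = Subgroup.centralizer ((⨆ S : Sylow p G, Cfsg.omegaOne p (((S : Subgroup G)) ⊓ Subgroup.centralizer ((S : Subgroup G) : Set G)) : Subgroup G) : Set G) := by
  set V := ⨆ S : Sylow p G, Cfsg.Agent.H31.omegaZ p (S : Subgroup G) with hV
  have hVn : V.Normal := Cfsg.Agent.H31.normal_iSup_omegaZ p
  have hQ : ∀ S : Sylow p G,
      Cfsg.Agent.H31.omegaZ p (S : Subgroup G) ≤
        Cfsg.pCore p G ⊓ Subgroup.centralizer (Cfsg.pCore p G : Set G) := by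
    intro S
    have h1 : Cfsg.Agent.H31.omegaZ p (S : Subgroup G) ≤ Subgroup.centralizer (Cfsg.pCore p G : Set G) :=
      (Cfsg.Agent.H31.omegaOne_le p _).trans (inf_le_right.trans
        (Subgroup.centralizer_le (SetLike.coe_subset_coe.mpr (Cfsg.Agent.Cores.pCore_le_sylow S))))
    exact le_inf (h1.trans hc) h1
  have hVel : Cfsg.IsElementaryAbelian p V := by
    set U : Set G := ⋃ S : Sylow p G, {x | x ∈ (S : Subgroup G) ⊓ Subgroup.centralizer ((S : Subgroup G) : Set G) ∧ x ^ p = 1} with hU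
    have hVU : V ≤ Subgroup.closure U := iSup_le fun S =>
      Subgroup.closure_mono fun x hx => Set.mem_iUnion.mpr ⟨S, hx⟩
    refine Cfsg.Agent.H31.elem_le (Cfsg.Agent.H31.elem_closure ?_ ?_) hVU
    · intro x hx y hy
      obtain ⟨S, hS⟩ := Set.mem_iUnion.mp hx
      obtain ⟨T, hT⟩ := Set.mem_iUnion.mp hy
      have h1 := hQ S (Cfsg.Agent.H31.mem_omegaOne hS.1 hS.2)
      have h2 := hQ T (Cfsg.Agent.H31.mem_omegaOne hT.1 hT.2)
      exact Subgroup.mem_centralizer_iff.mp (Subgroup.mem_inf.mp h2).2 x (Subgroup.mem_inf.mp h1).1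
    · intro x hx
      obtain ⟨S, hS⟩ := Set.mem_iUnion.mp hx
      exact hS.2
  refine ⟨hVn, hVel, fun D hD hCD hk => ?_⟩
  obtain ⟨k, hk⟩ := hk
  haveI := hD
  refine le_antisymm (Cfsg.Agent.H31.le_centralizer_iSup_omegaZ fun S => ?_) hCD
  refine (Cfsg.Agent.H31.le_sup_sylow_inf S hCD hk).trans (sup_le ?_ ?_)
  · exact Subgroup.centralizer_le (SetLike.coe_subset_coe.mpr
      (le_iSup (fun S : Sylow p G => Cfsg.Agent.H31.omegaZ p (S : Subgroup G)) S))
  · exact inf_le_left.trans (Subgroup.le_centralizer_iff.mp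
      ((Cfsg.Agent.H31.omegaOne_le p _).trans inf_le_right))

end Cfsg.Agent.S0601
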