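import Cfsg.Statements.S0602
import Cfsg.Agent.H31.JSub

set_option autoImplicit false
open Cfsg

namespace Cfsg.Agent.S0602

/-- The Thompson subgroup is characteristic, and nontrivial as soon as p divides the group order. -/
theorem result {G : Type*} [Group G] [Finite G] {p : ℕ} [Fact p.Prime] : (Cfsg.thompsonSubgroup p G).Characteristic ∧ (p ∣ Nat.card G → Cfsg.thompsonSubgroup p G ≠ ⊥) := by
  refine ⟨Subgroup.characteristic_iff_map_eq.mpr fun φ => ?_, fun hp hbot => ?_⟩
  · rw [← Cfsg.Agent.H31.thompsonSubgroupOf_top, Cfsg.Agent.H31.thompsonSubgroupOf_map φ.injective,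
      Subgroup.map_top_of_surjective _ φ.surjective]
  obtain ⟨x, hx⟩ := exists_prime_orderOf_dvd_card' p hp
  have hel : Cfsg.IsElementaryAbelian p (Subgroup.closure {x}) :=
    Cfsg.Agent.H31.elem_closure (by simp) (by simp [← hx, pow_orderOf_eq_one])
  obtain ⟨A, hA⟩ := Cfsg.Agent.H31.exists_maxIn p (⊤ : Subgroup G)
  have h1 := hA.2.2 _ le_top hel
  have h2 : A ≤ ⊥ := by
    rw [← hbot, ← Cfsg.Agent.H31.thompsonSubgroupOf_top]
    exact Cfsg.Agent.H31.le_thompsonSubgroupOf hA
  rw [le_bot_iff.mp h2, Subgroup.card_bot, ← Subgroup.zpowers_eq_closure, Nat.card_zpowers, hx] at h1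
  exact absurd h1 (Nat.not_le.mpr (Fact.out : p.Prime).one_lt)

end Cfsg.Agent.S0602
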