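import Cfsg.Statements.S0606
import Cfsg.Agent.H31.Offender

set_option autoImplicit false
open Cfsg

namespace Cfsg.Agent.S0606

/-- Elementary abelian p-subgroups of maximal order are best offenders on any normal elementary abelian p-subgroup. -/
theorem result {G : Type*} [Group G] [Finite G] {p : ℕ} [Fact p.Prime] (V : Subgroup G) [V.Normal] (hV : Cfsg.IsElementaryAbelian p V) (A : Subgroup G) (hA : A ∈ Cfsg.maxElementaryAbelianSubgroups p G) : Cfsg.IsBestOffenderOn p V A := by
  haveI := hA.1.1
  haveI := hV.1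
  have hAc : ∀ x ∈ A, ∀ y ∈ A, x * y = y * x := fun x hx y hy =>
    congrArg Subtype.val (mul_comm' (⟨x, hx⟩ : A) ⟨y, hy⟩)
  have hVc : ∀ x ∈ V, ∀ y ∈ V, x * y = y * x := fun x hx y hy =>
    congrArg Subtype.val (mul_comm' (⟨x, hx⟩ : V) ⟨y, hy⟩)
  refine ⟨fun B hB => ?_, ?_, fun a ha => ?_⟩
  · set C := V ⊓ Subgroup.centralizer (B : Set G) with hC
    have hBC : B ⊔ C ≤ Subgroup.centralizer ((B ⊔ C : Subgroup G) : Set G) := by
      have h1 : B ≤ Subgroup.centralizer (B : Set G) := by
        intro b hb
        rw [Subgroup.mem_centralizer_iff]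
        exact fun z hz => hAc z (hB hz) b (hB hb)
      have h2 : C ≤ Subgroup.centralizer (C : Set G) := by
        intro b hb
        rw [Subgroup.mem_centralizer_iff]
        exact fun z hz => hVc z (Subgroup.mem_inf.mp hz).1 b (Subgroup.mem_inf.mp hb).1
      refine sup_le (Subgroup.le_centralizer_iff.mp (sup_le ?_ inf_le_right))
        (Subgroup.le_centralizer_iff.mp (sup_le ?_ h2))
      · exact h1
      · exact Subgroup.le_centralizer_iff.mp inf_le_right
    haveI : IsMulCommutative (B ⊔ C : Subgroup G) :=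
      ⟨⟨fun a b => Subtype.ext (Subgroup.mem_centralizer_iff.mp (hBC b.2) a a.2)⟩⟩
    have hel : Cfsg.IsElementaryAbelian p (B ⊔ C) := by
      refine ⟨inferInstance, fun x hx => ?_⟩
      rw [Subgroup.sup_eq_closure] at hx
      induction hx using Subgroup.closure_induction with
      | mem z hz =>
        rcases hz with hz | hz
        · exact hA.1.2 z (hB hz)
        · exact hV.2 z (Subgroup.mem_inf.mp hz).1
      | one => exact one_pow p
      | mul a b ha hb h1 h2 =>
        rw [← Subgroup.sup_eq_closure] at ha hb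
        rw [Commute.mul_pow (show Commute a b from
          (Subgroup.mem_centralizer_iff.mp (hBC ha) b hb).symm), h1, h2, one_mul]
      | inv a _ h1 => rw [inv_pow, h1, inv_one]
    have hI : B ⊓ C ≤ V ⊓ Subgroup.centralizer (A : Set G) := by
      refine le_inf (inf_le_right.trans inf_le_left) (inf_le_left.trans (hB.trans ?_))
      intro b hb
      rw [Subgroup.mem_centralizer_iff]
      exact fun z hz => hAc z hz b hb
    calc Nat.card B * Nat.card C
        ≤ Nat.card (B ⊔ C : Subgroup G) * Nat.card (B ⊓ C : Subgroup G) :=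
          Cfsg.Agent.H31.card_mul_card_le B C
      _ ≤ _ := Nat.mul_le_mul (hA.2 _ hel) (Subgroup.card_le_of_le hI)
  · rw [Subgroup.commutator_le]
    intro a ha b hb
    rw [commutatorElement_eq_one_iff_mul_comm.mpr (hAc a ha b hb)]
    exact one_mem _
  · rw [hA.1.2 a ha]
    exact one_mem _

end Cfsg.Agent.S0606
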