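import Cfsg.Statements.S0604
import Cfsg.Agent.H31.JSub

set_option autoImplicit false
open Cfsg

namespace Cfsg.Agent.S0604

/-- The Thompson subgroup of G is the join of the Thompson subgroups of its Sylow p-subgroups. -/
theorem result {G : Type*} [Group G] [Finite G] {p : ℕ} [Fact p.Prime] : Cfsg.thompsonSubgroup p G = ⨆ S : Sylow p G, Cfsg.thompsonSubgroupOf p (S : Subgroup G) := by
  rw [← Cfsg.Agent.H31.thompsonSubgroupOf_top, Cfsg.Agent.H31.thompsonSubgroupOf_eq]
  refine le_antisymm (sSup_le fun A hA => ?_) (iSup_le fun S => ?_)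
  · obtain ⟨S, hS⟩ := (Cfsg.Agent.H31.elem_isPGroup hA.2.1).exists_le_sylow
    exact le_iSup_of_le S
      (Cfsg.Agent.H31.le_thompsonSubgroupOf ((Cfsg.Agent.H31.maxIn_sylow_iff S).mpr ⟨hS, hA⟩))
  · rw [Cfsg.Agent.H31.thompsonSubgroupOf_eq]
    exact sSup_le fun A hA => le_sSup ((Cfsg.Agent.H31.maxIn_sylow_iff S).mp hA).2

end Cfsg.Agent.S0604
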