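import Cfsg.Statements.S0608
import Cfsg.Agent.H31.VSub
import Cfsg.Agent.S0604

set_option autoImplicit false
open Cfsg

namespace Cfsg.Agent.S0608

open scoped Pointwise

/-- With trivial p'-core, Thompson factorizability is equivalent to J(G) centralizing the subgroup generated by all Ω₁(Z(S)), S Sylow. -/
theorem result {G : Type*} [Group G] [Finite G] {p : ℕ} [Fact p.Prime] (hO : Cfsg.pPrimeCore p G = ⊥) : Cfsg.IsThompsonFactorizable p G ↔ Cfsg.thompsonSubgroup p G ≤ Subgroup.centralizer ((⨆ S : Sylow p G, Cfsg.omegaOne p (((S : Subgroup G)) ⊓ Subgroup.centralizer ((S : Subgroup G) : Set G)) : Subgroup G) : Set G) := by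
  constructor
  · intro hfac
    refine Cfsg.Agent.H31.le_centralizer_iSup_omegaZ fun S => ?_
    rw [Cfsg.Agent.S0604.result]
    refine iSup_le fun T => ?_
    obtain ⟨g, rfl⟩ := MulAction.exists_smul_eq G S T
    obtain ⟨x, hx, c, hc, n, hn, rfl⟩ := hfac S g
    rw [hO, Subgroup.mem_bot] at hx
    subst hx
    have hmap : Cfsg.thompsonSubgroupOf p (((1 * c * n) • S : Sylow p G) : Subgroup G)
        = (Cfsg.thompsonSubgroupOf p (S : Subgroup G)).map (MulAut.conj (1 * c * n)).toMonoidHom := by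
      rw [Cfsg.Agent.H31.conj_thompsonSubgroupOf, Sylow.coe_subgroup_smul, Subgroup.pointwise_smul_def]
      rfl
    rw [hmap]
    rintro _ ⟨j, hj, rfl⟩
    rw [Subgroup.mem_centralizer_iff]
    intro z hz
    have hj' : n * j * n⁻¹ ∈ Cfsg.thompsonSubgroupOf p (S : Subgroup G) :=
      (Subgroup.mem_normalizer_iff.mp hn j).mp hj
    have hcz : z * c = c * z := Subgroup.mem_centralizer_iff.mp hc z hz
    have hzj : (n * j * n⁻¹) * z = z * (n * j * n⁻¹) :=
      Subgroup.mem_centralizer_iff.mp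
        (Subgroup.mem_inf.mp ((Cfsg.Agent.H31.omegaOne_le p _) hz)).2 _
        (Cfsg.Agent.H31.thompsonSubgroupOf_le p _ hj')
    show z * ((1 * c * n) * j * (1 * c * n)⁻¹) = (1 * c * n) * j * (1 * c * n)⁻¹ * z
    have hcz' : c⁻¹ * z = z * c⁻¹ := by
      calc c⁻¹ * z = c⁻¹ * (z * c) * c⁻¹ := by group
        _ = c⁻¹ * (c * z) * c⁻¹ := by rw [hcz]
        _ = _ := by group
    calc z * ((1 * c * n) * j * (1 * c * n)⁻¹) = (z * c) * (n * j * n⁻¹) * c⁻¹ := by group
      _ = c * (z * (n * j * n⁻¹)) * c⁻¹ := by rw [hcz]; group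
      _ = c * ((n * j * n⁻¹) * z) * c⁻¹ := by rw [hzj]
      _ = c * (n * j * n⁻¹) * (z * c⁻¹) := by group
      _ = c * (n * j * n⁻¹) * (c⁻¹ * z) := by rw [hcz']
      _ = _ := by group
  · intro hJ S g
    set V := ⨆ S : Sylow p G, Cfsg.Agent.H31.omegaZ p (S : Subgroup G) with hV
    haveI : V.Normal := Cfsg.Agent.H31.normal_iSup_omegaZ p
    set C := Subgroup.centralizer (V : Set G) with hC
    set P := (S : Subgroup G) ⊓ C with hP
    have hJS : Cfsg.thompsonSubgroupOf p (S : Subgroup G) ≤ P :=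
      le_inf (Cfsg.Agent.H31.thompsonSubgroupOf_le p _)
        (le_trans (by rw [Cfsg.Agent.S0604.result]; exact le_iSup (fun T : Sylow p G => Cfsg.thompsonSubgroupOf p (T : Subgroup G)) S) hJ)
    have hJP := Cfsg.Agent.H31.thompsonSubgroupOf_eq_of_le hJS inf_le_left
    have hN : Subgroup.normalizer (P : Set G) ≤
        Subgroup.normalizer (Cfsg.thompsonSubgroupOf p (S : Subgroup G) : Set G) := by
      rw [← hJP]; exact Cfsg.Agent.H31.normalizer_le_normalizer_thompsonSubgroupOf p P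
    have hg : g ∈ (↑(C ⊔ Subgroup.normalizer (P : Set G)) : Set G) := by
      rw [sup_comm, Cfsg.Agent.H31.normalizer_sylow_inf_sup S C]; trivial
    rw [Subgroup.normal_mul] at hg
    obtain ⟨c, hc, n, hn, rfl⟩ := hg
    refine ⟨1, one_mem _, c, ?_, n, hN hn, by group⟩
    exact Subgroup.centralizer_le (SetLike.coe_subset_coe.mpr
      (le_iSup (fun T : Sylow p G => Cfsg.Agent.H31.omegaZ p (T : Subgroup G)) S)) hc

end Cfsg.Agent.S0608
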