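import Cfsg.Statements.S0618
import Cfsg.Agent.H31.FFAmbient
import Cfsg.Agent.H31.VSub
import Cfsg.Agent.S0600
import Cfsg.Agent.S0601
import Cfsg.Agent.S0602
import Cfsg.Agent.S0606
import Cfsg.Agent.S0608

set_option autoImplicit false
open Cfsg

namespace Cfsg.Agent.S0618

open Cfsg.Agent.H31 in
theorem block {G : Type*} [Group G] [Finite G] {p : ℕ} [Fact p.Prime] (hsep : Cfsg.IsPSolvable p G)
    (V : Subgroup G) [V.Normal] (hV : Cfsg.IsElementaryAbelian p V)
    (hOV : Cfsg.pCore p (G ⧸ Subgroup.centralizer (V : Set G)) = ⊥)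
    (hne : ¬ Cfsg.thompsonSubgroup p G ≤ Subgroup.centralizer (V : Set G)) :
    (p = 2 ∨ p = 3) ∧ ∃ E : Subgroup G, Subgroup.centralizer (V : Set G) ≤ E ∧
      E ≤ Cfsg.thompsonSubgroup p G ⊔ Subgroup.centralizer (V : Set G) ∧
      Cfsg.thompsonSubgroup p G ⊔ Subgroup.centralizer (V : Set G) ≤ Subgroup.normalizer (E : Set G) ∧
      ∃ hn : ((Subgroup.centralizer (V : Set G)).subgroupOf E).Normal,
        Nonempty ((↥E ⧸ (Subgroup.centralizer (V : Set G)).subgroupOf E) ≃*
          Matrix.SpecialLinearGroup (Fin 2) (ZMod p)) := by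
  set C := Subgroup.centralizer (V : Set G) with hC
  set J := Cfsg.thompsonSubgroup p G with hJ
  haveI : J.Characteristic := (Cfsg.Agent.S0602.result (G := G) (p := p)).1
  haveI : (J.map (QuotientGroup.mk' C)).Normal :=
    (inferInstance : J.Normal).map _ (QuotientGroup.mk'_surjective C)
  have hO : Cfsg.pCore p ↥(J.map (QuotientGroup.mk' C)) = ⊥ := by
    rw [Cfsg.Agent.Cores.pCore_of_normal, hOV, Subgroup.bot_subgroupOf]
  have hs := FFAmb.setting V hV J (Cfsg.Agent.Cores.isPSolvable_subgroup hsep J) hO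
  set H := J.map (FFAmb.toAmb V) with hH
  have hS3 : H = ⨆ A : {A : Subgroup (FFAmb.Amb V) // A ≤ H ∧ Cfsg.IsBestOffenderOn p (FFAmb.Vb V) A},
      (A : Subgroup (FFAmb.Amb V)) := by
    refine le_antisymm ?_ (iSup_le fun A => A.2.1)
    conv_lhs => rw [hH, hJ, Cfsg.thompsonSubgroup, sSup_eq_iSup', Subgroup.map_iSup]
    refine iSup_le fun A => ?_
    refine le_iSup_of_le ⟨(A : Subgroup G).map (FFAmb.toAmb V), (hH ▸ Subgroup.map_mono (le_sSup A.2) : _ ≤ H),
      FFAmb.offender V A (Cfsg.Agent.S0606.result V hV A A.2)⟩ le_rfl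
  have hH1 : H ≠ ⊥ := fun e => hne (by
    rw [hH, Subgroup.map_eq_bot_iff, FFAmb.toAmb_ker] at e; exact e)
  obtain ⟨a, ha⟩ : ∃ a, FF.IsTv p (FFAmb.Vb V) H a := by
    by_contra hcon
    push Not at hcon
    exact hH1 (le_bot_iff.mp ((hs.le_closure hS3).trans
      ((Subgroup.closure_le _).mpr fun b hb => absurd hb (hcon b))))
  refine ⟨hs.prime_two_or_three ha, (FF.Setting.blk p H a).comap (FFAmb.toAmb V), ?_, ?_, ?_, ?_⟩
  · exact (FFAmb.toAmb_ker V).ge.trans (MonoidHom.ker_le_comap _ _)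
  · refine (Subgroup.comap_mono (FF.Setting.blk_le ha)).trans ?_
    rw [hH, Subgroup.comap_map_eq, FFAmb.toAmb_ker]
  · refine sup_le ?_ ?_
    · intro g hg
      exact Subgroup.le_normalizer_comap _
        (hs.le_normalizer_blk hS3 ha (Subgroup.mem_map_of_mem _ hg) :
          g ∈ (Subgroup.normalizer (FF.Setting.blk p H a : Set (FFAmb.Amb V))).comap (FFAmb.toAmb V))
    · exact (((FFAmb.toAmb_ker V).ge.trans (MonoidHom.ker_le_comap _ _))).trans Subgroup.le_normalizer
  · refine ⟨inferInstance, ?_⟩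
    set E := (FF.Setting.blk p H a).comap (FFAmb.toAmb V) with hE
    obtain ⟨e⟩ := (hs.blk_facts ha).1
    have hker : ((FFAmb.toAmb V).subgroupComap (FF.Setting.blk p H a)).ker = C.subgroupOf E := by
      ext x
      rw [Subgroup.mem_subgroupOf, hC]
      exact ⟨fun h => (FFAmb.toAmb_ker V).le (show (x : G) ∈ (FFAmb.toAmb V).ker from congrArg Subtype.val h),
        fun h => Subtype.ext ((FFAmb.toAmb_ker V).ge h)⟩
    have hsurj : Function.Surjective ((FFAmb.toAmb V).subgroupComap (FF.Setting.blk p H a)) := by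
      intro y
      obtain ⟨g, -, hg⟩ := FF.Setting.blk_le ha y.2
      exact ⟨⟨g, show FFAmb.toAmb V g ∈ FF.Setting.blk p H a by rw [hg]; exact y.2⟩, Subtype.ext hg⟩
    exact ⟨((QuotientGroup.quotientMulEquivOfEq hker.symm).trans
      (QuotientGroup.quotientKerEquivOfSurjective _ hsurj)).trans e⟩

/-- A p-separable group with trivial p'-core in which the Thompson factorization fails has p = 2 or 3, and J(G) induces on the normal closure of Ω₁(Z(S)) a group containing a normal SL(2, p). -/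
theorem result {G : Type*} [Group G] [Finite G] {p : ℕ} [Fact p.Prime] (hsep : Cfsg.IsPSolvable p G) (hO : Cfsg.pPrimeCore p G = ⊥) (hnf : ¬ Cfsg.IsThompsonFactorizable p G) : (p = 2 ∨ p = 3) ∧ ∃ E : Subgroup G, Subgroup.centralizer ((⨆ S : Sylow p G, Cfsg.omegaOne p ((S : Subgroup G) ⊓ Subgroup.centralizer ((S : Subgroup G) : Set G))) : Set G) ≤ E ∧ E ≤ Cfsg.thompsonSubgroup p G ⊔ Subgroup.centralizer ((⨆ S : Sylow p G, Cfsg.omegaOne p ((S : Subgroup G) ⊓ Subgroup.centralizer ((S : Subgroup G) : Set G))) : Set G) ∧ Cfsg.thompsonSubgroup p G ⊔ Subgroup.centralizer ((⨆ S : Sylow p G, Cfsg.omegaOne p ((S : Subgroup G) ⊓ Subgroup.centralizer ((S : Subgroup G) : Set G))) : Set G) ≤ Subgroup.normalizer (E : Set G) ∧ ∃ hn : ((Subgroup.centralizer ((⨆ S : Sylow p G, Cfsg.omegaOne p ((S : Subgroup G) ⊓ Subgroup.centralizer ((S : Subgroup G) : Set G))) : Set G)).subgroupOf E).Normal, Nonempty ((↥E ⧸ (Subgroup.centralizer ((⨆ S : Sylow p G, Cfsg.omegaOne p ((S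 : Subgroup G) ⊓ Subgroup.centralizer ((S : Subgroup G) : Set G))) : Set G)).subgroupOf E) ≃* Matrix.SpecialLinearGroup (Fin 2) (ZMod p)) := by
  have hc := Cfsg.Agent.Cores.centralizer_pCore_le hsep hO
  obtain ⟨hn, hel, -⟩ := Cfsg.Agent.S0601.result (p := p) hc
  have e : Subgroup.centralizer (⨆ S : Sylow p G, ((Cfsg.omegaOne p ((S : Subgroup G) ⊓ Subgroup.centralizer ((S : Subgroup G) : Set G)) : Subgroup G) : Set G)) =
      Subgroup.centralizer ((⨆ S : Sylow p G, Cfsg.omegaOne p ((S : Subgroup G) ⊓ Subgroup.centralizer ((S : Subgroup G) : Set G)) : Subgroup G) : Set G) := by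
    rw [Subgroup.iSup_eq_closure, Subgroup.centralizer_closure]
    rfl
  rw [e]
  haveI := hn
  refine block hsep _ hel (Cfsg.Agent.S0600.result _ hel ?_) ?_
  · refine le_antisymm (iSup_le fun S => le_iSup_of_le S (le_inf ?_ ?_)) (iSup_le fun S => inf_le_left)
    · exact le_iSup (fun S : Sylow p G => Cfsg.omegaOne p ((S : Subgroup G) ⊓ Subgroup.centralizer ((S : Subgroup G) : Set G))) S
    · exact (Cfsg.Agent.H31.omegaOne_le p _).trans inf_le_right
  · exact fun h => hnf ((Cfsg.Agent.S0608.result hO).mpr h)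

end Cfsg.Agent.S0618
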