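import Cfsg.Statements.S5238
import Cfsg.Agent.PGroups.MaxClassPower
import Cfsg.Agent.PGroups.Extraspecial
import Cfsg.Agent.FusionSys.Basic

set_option autoImplicit false
set_option linter.style.haveILetI false
set_option linter.unusedSectionVars false
open Cfsg

namespace Cfsg.Agent.S5238

open Subgroup
open scoped commutatorElement
open Cfsg.Agent.PGroups

universe u

/-- A nonabelian group of order `p ^ 3` is extraspecial. -/
theorem isExtraspecial_card_cube {X : Type u} [Group X] [Finite X] {p : ℕ} [hp : Fact p.Prime]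
    (hX : Nat.card X = p ^ 3) (hna : center X ≠ ⊤) : Cfsg.IsExtraspecial p X := by
  have hP := IsPGroup.of_card hX
  obtain ⟨j, hj2, hj3, hjq, hjc⟩ := card_quotient_center hX hna
  obtain rfl : j = 2 := by omega
  rw [show 3 - 2 = 1 by rfl, pow_one] at hjc
  have hidx : (center X).index = p ^ 2 := by rw [Subgroup.index_eq_card, hjq]
  have hle : commutator X ≤ center X := commutator_le_of_index_dvd_sq (p := p) _ hidx.dvd
  have hcomm : commutator X = center X := by
    refine Subgroup.eq_of_le_of_card_ge hle ?_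
    rw [hjc]
    refine Nat.le_of_dvd Nat.card_pos (dvd_card_of_ne_bot hP fun h => hna ?_)
    refine eq_top_iff.2 fun a _ => Subgroup.mem_center_iff.2 fun b => ?_
    have hb : ⁅b, a⁆ ∈ commutator X := commutator_mem_commutator (mem_top _) (mem_top _)
    rw [h, Subgroup.mem_bot, commutatorElement_eq_one_iff_mul_comm] at hb
    exact hb
  have hpow : ∀ v : X, v ^ p ∈ center X := by
    intro v
    set q := QuotientGroup.mk' (center X)
    obtain ⟨k, hk⟩ := IsPGroup.iff_orderOf.1 (hP.to_quotient (center X)) (q v)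
    have hk2 : k ≤ 2 := by
      have h := orderOf_dvd_natCard (q v)
      rw [hk, hjq] at h
      exact (Nat.pow_dvd_pow_iff_le_right hp.out.one_lt).1 h
    rcases eq_or_lt_of_le hk2 with rfl | hk1
    · exfalso
      have htop : zpowers (q v) = ⊤ := Subgroup.eq_top_of_card_eq _ (by rw [Nat.card_zpowers, hk, hjq])
      refine hna (eq_top_iff.2 fun a _ => Subgroup.mem_center_iff.2 fun b => ?_)
      have key : ∀ w : X, ∃ i : ℤ, ∃ c ∈ center X, w = v ^ i * c := by
        intro w
        obtain ⟨i, hi⟩ := Subgroup.mem_zpowers_iff.1 (htop ▸ mem_top (q w))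
        refine ⟨i, (v ^ i)⁻¹ * w, (QuotientGroup.eq_one_iff _).1 ?_, by group⟩
        show q ((v ^ i)⁻¹ * w) = 1
        rw [map_mul, map_inv, map_zpow, hi, inv_mul_cancel]
      obtain ⟨i, c, hc, rfl⟩ := key a
      obtain ⟨i', c', hc', rfl⟩ := key b
      exact ((((Commute.refl v).zpow_zpow i' i).mul_right (commute_of_mem_center hc _).symm).mul_left
        ((commute_of_mem_center hc' _).mul_right (commute_of_mem_center hc' c))).eq
    · rw [← QuotientGroup.eq_one_iff]
      show q (v ^ p) = 1
      rw [map_pow, ← orderOf_dvd_iff_pow_eq_one, hk]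
      exact (Nat.pow_dvd_pow p (by omega : k ≤ 1)).trans (pow_one p).dvd
  exact ⟨⟨hP, le_antisymm (frattini_le_of_commutator_le (p := p) _ hle hpow)
    (hcomm ▸ commutator_le_frattini hP), hcomm⟩, hjc⟩

/-- A group of order at most `p ^ 2` is generated by two elements. -/
theorem exists_gen_small {X : Type u} [Group X] [Finite X] {p n : ℕ} [hp : Fact p.Prime] (hX : Nat.card X = p ^ n)
    (hn : n ≤ 2) (L : Subgroup X) : ∃ T : Finset X, T.card ≤ p ∧ Subgroup.closure (T : Set X) = L := by
  classical
  by_cases hc : ∃ h, zpowers h = L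
  · obtain ⟨h, hh⟩ := hc
    refine ⟨{h}, by rw [Finset.card_singleton]; exact hp.out.one_lt.le, ?_⟩
    rw [Finset.coe_singleton, ← Subgroup.zpowers_eq_closure, hh]
  push Not at hc
  obtain ⟨h₁, hh₁, hne⟩ : ∃ h ∈ L, h ≠ 1 := by
    by_contra hall
    push Not at hall
    exact hc 1 (le_antisymm (zpowers_le.2 (one_mem L)) fun v hv => by rw [hall v hv]; exact one_mem _)
  obtain ⟨h₂, hh₂, hh₂'⟩ : ∃ h ∈ L, h ∉ zpowers h₁ := by
    by_contra hall
    push Not at hall
    exact hc h₁ (le_antisymm (zpowers_le.2 hh₁) hall)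
  refine ⟨{h₁, h₂}, Finset.card_le_two.trans hp.out.two_le, ?_⟩
  set K := Subgroup.closure ((({h₁, h₂} : Finset X)) : Set X)
  have hKL : K ≤ L := (Subgroup.closure_le _).2 (by simp [Set.insert_subset_iff, hh₁, hh₂])
  have hlt : zpowers h₁ < K := lt_of_le_of_ne (zpowers_le.2 (Subgroup.subset_closure (by simp)))
    fun h => hh₂' (h ▸ Subgroup.subset_closure (by simp))
  have hP := IsPGroup.of_card hX
  obtain ⟨b, hb⟩ := IsPGroup.iff_card.1 (hP.to_subgroup (zpowers h₁))
  obtain ⟨c, hc'⟩ := IsPGroup.iff_card.1 (hP.to_subgroup K)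
  have h1 : Nat.card (zpowers h₁) < Nat.card K := by
    by_contra hle
    exact hlt.ne (Subgroup.eq_of_le_of_card_ge hlt.le (not_lt.1 hle))
  have hb0 : b ≠ 0 := fun h0 => hne (by
    rw [h0, pow_zero, Subgroup.card_eq_one] at hb
    exact Subgroup.zpowers_eq_bot.1 hb)
  rw [hb, hc', Nat.pow_lt_pow_iff_right hp.out.one_lt] at h1
  refine Subgroup.eq_of_le_of_card_ge hKL ((Subgroup.card_le_card_group L).trans ?_)
  rw [hX, hc']
  exact Nat.pow_le_pow_right hp.out.pos (by omega)

variable {X : Type u} [Group X] [Finite X] {p n : ℕ} [hp : Fact p.Prime]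

theorem center_eq_of_self_centralizing {A : Subgroup X} (hn : 3 ≤ n) (hX : Nat.card X = p ^ n)
    (hA : Nat.card A = p ^ 2) (hC : centralizer (A : Set X) = A) :
    ∃ x ∈ A, Nat.card (centralizer ({x} : Set X)) = p ^ 2 := by
  have hP := IsPGroup.of_card hX
  have hcl := nilpotencyClass_of_self_centralizing n X hX A hA hC
  obtain ⟨hZ, -, -⟩ := card_center_of_maxClass hn hX hcl
  have hZA : center X ≤ A := hC ▸ Subgroup.center_le_centralizer _
  obtain ⟨x, hxA, hxZ⟩ : ∃ x ∈ A, x ∉ center X := by
    by_contra hall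
    push Not at hall
    have := Subgroup.card_le_of_le (show A ≤ center X from hall)
    rw [hA, hZ] at this
    nlinarith [hp.out.two_le]
  refine ⟨x, hxA, ?_⟩
  have hsup : center X ⊔ zpowers x = A := by
    refine Subgroup.eq_of_le_of_card_ge (sup_le hZA (zpowers_le.2 hxA)) ?_
    obtain ⟨c, hc⟩ := IsPGroup.iff_card.1 (hP.to_subgroup (center X ⊔ zpowers x))
    have hlt : center X < center X ⊔ zpowers x := lt_of_le_of_ne le_sup_left fun h =>
      hxZ (h ▸ Subgroup.mem_sup_right (mem_zpowers x))
    have h1 : Nat.card (center X) < Nat.card ↑(center X ⊔ zpowers x) := by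
      by_contra hle
      exact hlt.ne (Subgroup.eq_of_le_of_card_ge hlt.le (not_lt.1 hle))
    rw [hA, hc]
    rw [hZ, hc] at h1
    refine Nat.pow_le_pow_right hp.out.pos ?_
    by_contra hc2
    exact absurd h1 (not_lt.2 ((Nat.pow_le_pow_right hp.out.pos (by omega : c ≤ 1)).trans (pow_one p).le))
  have hCx : centralizer ({x} : Set X) = A := by
    refine le_antisymm (fun g hg => ?_) (fun g hg => Subgroup.mem_centralizer_iff.2 fun v hv =>
      Subgroup.mem_centralizer_iff.1 (hC.symm ▸ hg : g ∈ centralizer (A : Set X)) v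
        (Set.mem_singleton_iff.1 hv ▸ hxA))
    rw [← hC]
    have hle : A ≤ centralizer ({g} : Set X) := hsup ▸ sup_le (Subgroup.center_le_centralizer _)
      (zpowers_le.2 (Subgroup.mem_centralizer_iff.2 fun v hv => by
        rw [Set.mem_singleton_iff.1 hv]
        exact (Subgroup.mem_centralizer_iff.1 hg x rfl).symm))
    exact Subgroup.mem_centralizer_iff.2 fun a ha => (Subgroup.mem_centralizer_iff.1 (hle ha) g rfl).symm
  rw [hCx, hA]

theorem pair_of_cube (hn : 3 ≤ n) (hX : Nat.card X = p ^ n) (A : Subgroup X) (hA : Nat.card A = p ^ 3)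
    (hAn : ¬ IsMulCommutative A) (hC : centralizer (A : Set X) ≤ A) :
    Group.nilpotencyClass X = n - 1 ∧ ∃ x, Nat.card (centralizer ({x} : Set X)) = p ^ 2 := by
  have hP := IsPGroup.of_card hX
  have hna : center A ≠ ⊤ := fun h => hAn ⟨⟨fun a b =>
    (commute_of_mem_center (h ▸ mem_top a : a ∈ center A) b).eq⟩⟩
  have hE := isExtraspecial_card_cube hA hna
  have hZA : center X ≤ A := (Subgroup.center_le_centralizer _).trans hC
  have hZmap : (center A).map A.subtype = center X := by
    have hle : center X ≤ (center A).map A.subtype := fun z hz => ⟨⟨z, hZA hz⟩,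
      Subgroup.mem_center_iff.2 fun a => Subtype.ext (Subgroup.mem_center_iff.1 hz a), rfl⟩
    refine (Subgroup.eq_of_le_of_card_ge hle ?_).symm
    rw [Subgroup.card_map_of_injective A.subtype_injective, hE.2]
    haveI : Nontrivial X := Finite.one_lt_card_iff_nontrivial.1 (hX ▸ Nat.one_lt_pow (by omega) hp.out.one_lt)
    exact Nat.le_of_dvd Nat.card_pos (dvd_card_of_ne_bot hP hP.bot_lt_center.ne')
  have hZc : Nat.card (center X) = p := by
    rw [← hZmap, Subgroup.card_map_of_injective A.subtype_injective, hE.2]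
  set q := QuotientGroup.mk' (center X)
  have hAq : Nat.card (A.map q) = p ^ 2 := by
    have h := card_eq_card_map_mul (center X) A
    rw [inf_eq_right.2 hZA, hA, hZc, pow_succ] at h
    exact (Nat.eq_of_mul_eq_mul_right hp.out.pos h).symm
  have hmemZ : ∀ v : A, v ∈ center A ↔ (v : X) ∈ center X := fun v => by
    rw [← hZmap]
    exact ⟨fun h => ⟨v, h, rfl⟩, fun ⟨w, hw, he⟩ => (Subtype.ext he : w = v) ▸ hw⟩
  have hCq : centralizer (A.map q : Set (X ⧸ center X)) = A.map q := by
    refine le_antisymm ?_ fun g hg => Subgroup.mem_centralizer_iff.2 fun v hv =>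
      congrArg Subtype.val (IsPGroup.commutative_of_card_eq_prime_sq hAq (⟨v, hv⟩ : A.map q) ⟨g, hg⟩)
    intro g hg
    obtain ⟨g, rfl⟩ := QuotientGroup.mk'_surjective _ g
    have hconj : ∀ a ∈ A, g * a * g⁻¹ * a⁻¹ ∈ center X := fun a ha => by
      rw [← QuotientGroup.eq_one_iff]
      show q (g * a * g⁻¹ * a⁻¹) = 1
      have h : q a * q g = q g * q a := Subgroup.mem_centralizer_iff.1 hg (q a) ⟨a, ha, rfl⟩
      simp only [map_mul, map_inv]
      rw [← h]; group
    have hgn : g ∈ Subgroup.normalizer (A : Set X) := FusionSys.mem_normalizer_of_maps fun a ha => by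
      simpa using mul_mem (hZA (hconj a ha)) ha
    obtain ⟨e, he⟩ := exists_conj_of_trivial_mod_center hE (FusionSys.conjAut hgn) fun a => by
      rw [hmemZ]
      exact hconj a a.2
    refine ⟨g, ?_, rfl⟩
    have h : (e : X)⁻¹ * g ∈ centralizer (A : Set X) := Subgroup.mem_centralizer_iff.2 fun a ha => by
      have h1 : (e : X) * a * (e : X)⁻¹ = g * a * g⁻¹ := by
        simpa [MulAut.conj_apply, FusionSys.coe_conjAut] using
          congrArg Subtype.val (DFunLike.congr_fun he (⟨a, ha⟩ : A))
      calc a * ((e : X)⁻¹ * g) = (e : X)⁻¹ * ((e : X) * a * (e : X)⁻¹) * g := by group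
        _ = _ := by rw [h1]; group
    simpa using mul_mem e.2 (hC h)
  obtain ⟨j, hj2, -, hjq, hjc⟩ := card_quotient_center hX fun h => by
    have h' : A ≤ (⊤ : Subgroup X) := le_top
    rw [h, Subgroup.card_top, hX] at hZc
    have := Nat.pow_right_injective hp.out.two_le (hZc.trans (pow_one p).symm)
    omega
  have hnj : n - j = 1 := Nat.pow_right_injective hp.out.two_le (hjc.symm.trans (hZc.trans (pow_one p).symm))
  have hq := nilpotencyClass_of_self_centralizing j (X ⧸ center X) hjq (A.map q) hAq hCq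
  haveI := hP.isNilpotent
  have hcl : Group.nilpotencyClass X = n - 1 := by
    rw [Group.nilpotencyClass_quotient_center] at hq
    have h0 : Group.nilpotencyClass X ≠ 0 := fun h => by
      haveI := Group.nilpotencyClass_zero_iff_subsingleton.1 h
      rw [Nat.card_of_subsingleton (1 : X)] at hX
      exact absurd hX.symm (Nat.one_lt_pow (by omega) hp.out.one_lt).ne'
    omega
  refine ⟨hcl, ?_⟩
  rcases eq_or_lt_of_le hn with rfl | hn4
  · obtain ⟨x, hx⟩ : ∃ x, x ∉ center X := by
      by_contra hall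
      push Not at hall
      have := Subgroup.card_le_of_le (show (⊤ : Subgroup X) ≤ center X from fun v _ => hall v)
      rw [Subgroup.card_top, hX, hZc] at this
      exact absurd this (not_le.2 (by nlinarith [hp.out.two_le]))
    refine ⟨x, ?_⟩
    have hxC : x ∈ centralizer ({x} : Set X) := Subgroup.mem_centralizer_iff.2 fun v hv => by
      rw [Set.mem_singleton_iff.1 hv]
    obtain ⟨c, hc⟩ := IsPGroup.iff_card.1 (hP.to_subgroup (centralizer ({x} : Set X)))
    have h1 : Nat.card (center X) < Nat.card (centralizer ({x} : Set X)) := by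
      by_contra hle
      exact hx ((Subgroup.eq_of_le_of_card_ge (Subgroup.center_le_centralizer _) (not_lt.1 hle)).ge hxC)
    have h2 : Nat.card (centralizer ({x} : Set X)) < p ^ 3 := by
      rw [← hX]
      refine lt_of_le_of_ne (Subgroup.card_le_card_group _) fun h => hx ?_
      have ht := Subgroup.eq_top_of_card_eq _ h
      exact Subgroup.mem_center_iff.2 fun g =>
        (Subgroup.mem_centralizer_iff.1 (ht.ge (mem_top g)) x rfl).symm
    rw [hc, hZc] at h1
    rw [hc, Nat.pow_lt_pow_iff_right hp.out.one_lt] at h2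
    rw [hc, show c = 2 by
      have : 2 ≤ c := by
        by_contra hh
        exact absurd h1 (not_lt.2 ((Nat.pow_le_pow_right hp.out.pos (by omega : c ≤ 1)).trans (pow_one p).le))
      omega]
  · obtain ⟨xq, hxq, hCx⟩ := center_eq_of_self_centralizing (n := j) (by omega) hjq hAq hCq
    obtain ⟨x, hxA, rfl⟩ := hxq
    refine ⟨x, ?_⟩
    set C := centralizer ({x} : Set X)
    have hCA : C ≤ A := by
      have hsub : C.map q ≤ A.map q := by
        have h2 : A.map q ≤ centralizer ({q x} : Set (X ⧸ center X)) := fun v hv =>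
          Subgroup.mem_centralizer_iff.2 fun w hw => by
            rw [Set.mem_singleton_iff.1 hw]
            exact congrArg Subtype.val (IsPGroup.commutative_of_card_eq_prime_sq hAq
              (⟨q x, ⟨x, hxA, rfl⟩⟩ : A.map q) ⟨v, hv⟩)
        rw [Subgroup.eq_of_le_of_card_ge h2 (le_of_eq (hCx.trans hAq.symm))]
        rintro _ ⟨c, hc, rfl⟩
        exact Subgroup.mem_centralizer_iff.2 fun w hw => by
          rw [Set.mem_singleton_iff.1 hw, ← map_mul, ← map_mul, Subgroup.mem_centralizer_iff.1 hc x rfl]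
      intro c hc
      obtain ⟨a, ha, he⟩ := hsub ⟨c, hc, rfl⟩
      have hz : a⁻¹ * c ∈ center X := (QuotientGroup.eq (s := center X)).1 he
      simpa using mul_mem ha (hZA hz)
    have hxZ : x ∉ center X := by
      intro h
      have h1 : q x = 1 := (QuotientGroup.eq_one_iff x).2 h
      rw [h1, show centralizer ({(1 : X ⧸ center X)} : Set (X ⧸ center X)) = ⊤ from eq_top_iff.2 fun g _ =>
        Subgroup.mem_centralizer_iff.2 fun v hv => by rw [Set.mem_singleton_iff.1 hv, one_mul, mul_one],
        Subgroup.card_top, hjq] at hCx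
      have := Nat.pow_right_injective hp.out.two_le hCx
      omega
    obtain ⟨c, hc⟩ := IsPGroup.iff_card.1 (hP.to_subgroup C)
    have hxC : x ∈ C := Subgroup.mem_centralizer_iff.2 fun v hv => by rw [Set.mem_singleton_iff.1 hv]
    have h1 : Nat.card (center X) < Nat.card C := by
      by_contra hle
      exact hxZ ((Subgroup.eq_of_le_of_card_ge (Subgroup.center_le_centralizer _) (not_lt.1 hle)).ge hxC)
    have h2 : Nat.card C < p ^ 3 := by
      rw [← hA]
      refine lt_of_le_of_ne (Subgroup.card_le_of_le hCA) fun h => hxZ ?_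
      have heq := Subgroup.eq_of_le_of_card_ge hCA h.ge
      exact (hmemZ ⟨x, hxA⟩).1 (Subgroup.mem_center_iff.2 fun a => Subtype.ext
        (Subgroup.mem_centralizer_iff.1 (heq ▸ a.2 : (a : X) ∈ C) x rfl).symm)
    rw [hc, hZc] at h1
    rw [hc, Nat.pow_lt_pow_iff_right hp.out.one_lt] at h2
    rw [hc, show c = 2 by
      have : 2 ≤ c := by
        by_contra hh
        exact absurd h1 (not_lt.2 ((Nat.pow_le_pow_right hp.out.pos (by omega : c ≤ 1)).trans (pow_one p).le))
      omega]

/-- Let p be an odd prime and F a saturated fusion system over a finite p-group S having a pearl: an F-essential subgroup E that is elementary abelian of order p² or nonabelian of order p³. Then S has maximal nilpotency class (if S has order pⁿ with n ≥ 3, the term of index n − 2 of its lower central series, counting S itself as the term of index 0, is nontrivial), and every subgroup of S can be generated by at most p elements (the sectional rank of S is at most p). -/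
theorem result {Ω : Type*} [Group Ω] {S : Subgroup Ω} [Finite S] (p : ℕ) [Fact p.Prime] (hS : IsPGroup p S) (F : Cfsg.FusionSystem S) (hF : F.IsSaturated p) (hp : p ≠ 2) (E : Subgroup Ω) (hE : F.IsEssential p E) (hpearl : (Nat.card E = p ^ 2 ∧ ∀ x ∈ E, x ^ p = 1 ∧ IsMulCommutative ↥E) ∨ (Nat.card E = p ^ 3 ∧ ¬ IsMulCommutative ↥E)) : (∀ n : ℕ, Nat.card S = p ^ n → 3 ≤ n → Subgroup.lowerCentralSeries S (n - 2) ≠ ⊥) ∧ ∀ H : Subgroup Ω, H ≤ S → ∃ T : Finset Ω, T.card ≤ p ∧ Subgroup.closure (T : Set Ω) = H := by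
  classical
  obtain ⟨hES, hcent⟩ := hE.1
  have hCE := hcent E (FusionSys.isConj_refl F hES)
  set A := E.subgroupOf S
  have hAc : Nat.card A = Nat.card E := Nat.card_congr (Subgroup.subgroupOfEquivOfLe hES).toEquiv
  have hCA : centralizer (A : Set S) ≤ A := fun g hg => Subgroup.mem_subgroupOf.2
    (hCE (FusionSys.mem_centralizerIn.2 ⟨g.2, fun y hy =>
      congrArg Subtype.val (Subgroup.mem_centralizer_iff.1 hg ⟨y, hES hy⟩ (Subgroup.mem_subgroupOf.2 hy))⟩))
  obtain ⟨n, hn⟩ := IsPGroup.iff_card.1 hS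
  have key : 3 ≤ n → ∃ x : S, PGroups.MaxClassPair S p n x := by
    intro hn3
    haveI := hS.isNilpotent
    have mk : Group.nilpotencyClass S = n - 1 → ∀ x : S, Nat.card (centralizer ({x} : Set S)) = p ^ 2 →
        PGroups.MaxClassPair S p n x := fun hcl x hx => ⟨hn, hn3, fun h => by
      rw [Subgroup.lowerCentralSeries_eq_bot_iff_nilpotencyClass_le] at h
      omega, hx⟩
    rcases hpearl with ⟨hc, hEe⟩ | ⟨hc, hEn⟩
    · have hA2 : Nat.card A = p ^ 2 := hAc.trans hc
      have hCA' : centralizer (A : Set S) = A := le_antisymm hCA fun g hg =>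
        Subgroup.mem_centralizer_iff.2 fun v hv => congrArg Subtype.val
          (IsPGroup.commutative_of_card_eq_prime_sq hA2 (⟨v, hv⟩ : A) ⟨g, hg⟩)
      obtain ⟨x, -, hx⟩ := center_eq_of_self_centralizing hn3 hn hA2 hCA'
      exact ⟨x, mk (PGroups.nilpotencyClass_of_self_centralizing n S hn A hA2 hCA') x hx⟩
    · obtain ⟨hcl, x, hx⟩ := pair_of_cube hn3 hn A (hAc.trans hc) (fun h => hEn ⟨⟨fun a b => by
        haveI := h
        have := mul_comm' ((Subgroup.subgroupOfEquivOfLe hES).symm a) ((Subgroup.subgroupOfEquivOfLe hES).symm b)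
        exact (Subgroup.subgroupOfEquivOfLe hES).symm.injective (by rw [map_mul, map_mul, this])⟩⟩) hCA
      exact ⟨x, mk hcl x hx⟩
  refine ⟨fun k hk hk3 => ?_, fun H hH => ?_⟩
  · obtain rfl : k = n := Nat.pow_right_injective (Fact.out : p.Prime).two_le (hk.symm.trans hn)
    obtain ⟨x, hx⟩ := key hk3
    intro h
    refine hx.cls ((Subgroup.map_eq_bot_iff_of_injective _ S.subtype_injective).1 ?_)
    rw [Subgroup.top_subtype_lowerCentralSeries, h]
  · obtain ⟨T, hT, hTc⟩ : ∃ T : Finset S, T.card ≤ p ∧ Subgroup.closure (T : Set S) = H.subgroupOf S := by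
      by_cases hn3 : 3 ≤ n
      · obtain ⟨x, hx⟩ := key hn3
        exact hx.exists_gen _
      · exact exists_gen_small hn (by omega) _
    refine ⟨T.image S.subtype, Finset.card_image_le.trans hT, ?_⟩
    rw [Finset.coe_image, ← MonoidHom.map_closure, hTc]
    exact Subgroup.map_subgroupOf_eq_of_le hH

end Cfsg.Agent.S5238
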