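import Cfsg.Statements.S0206
import Cfsg.Agent.H26.Invol
import Mathlib.GroupTheory.SpecificGroups.Dihedral

set_option autoImplicit false
open Cfsg

namespace Cfsg.Agent.S0206

/-- Two distinct involutions x, y of a finite group generate a subgroup isomorphic to the dihedral group of order 2·|xy|. -/
theorem result {G : Type*} [Group G] [Finite G] (x y : G) (hx : orderOf x = 2) (hy : orderOf y = 2) (hxy : x ≠ y) : Nonempty (↥(Subgroup.closure ({x, y} : Set G)) ≃* DihedralGroup (orderOf (x * y))) := by
  set n := orderOf (x * y) with hn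
  have hx' := H26.mul_self_of_orderOf_two hx
  have hy' := H26.mul_self_of_orderOf_two hy
  have : NeZero n := ⟨(orderOf_pos _).ne'⟩
  set e : ZMod n → G := fun i => (x * y) ^ (i.val : ℤ) with he
  have hek : ∀ k : ℤ, e (k : ZMod n) = (x * y) ^ k := by
    intro k
    show (x * y) ^ (((k : ZMod n)).val : ℤ) = _
    rw [ZMod.val_intCast, zpow_eq_zpow_iff_modEq, ← hn]
    exact Int.mod_modEq k n
  let f : DihedralGroup n → G := fun d => match d with
    | .r i => e i
    | .sr i => x * e i
  have hmul : ∀ a b, f (a * b) = f a * f b := by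
    rintro (i | i) (j | j) <;> obtain ⟨i, rfl⟩ := ZMod.intCast_surjective i <;>
      obtain ⟨j, rfl⟩ := ZMod.intCast_surjective j
    · rw [DihedralGroup.r_mul_r, ← Int.cast_add]; show e _ = e _ * e _
      rw [hek, hek, hek, zpow_add]
    · rw [DihedralGroup.r_mul_sr, ← Int.cast_sub]; show x * e _ = e _ * (x * e _)
      rw [hek, hek, hek, ← mul_assoc, H26.mul_zpow_mul_comm hx' hy', mul_assoc, ← zpow_add]
      congr 2; ring
    · rw [DihedralGroup.sr_mul_r, ← Int.cast_add]; show x * e _ = x * e _ * e _
      rw [hek, hek, hek, zpow_add, mul_assoc]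
    · rw [DihedralGroup.sr_mul_sr, ← Int.cast_sub]; show e _ = x * e _ * (x * e _)
      rw [hek, hek, hek, ← mul_assoc, H26.conj_zpow_mul hx' hy', ← zpow_add]
      congr 1; ring
  have hinj : Function.Injective f := by
    have hnm := H26.fst_notMem_zpowers hx' hy' (H26.ne_one_of_orderOf_two hx)
      (H26.ne_one_of_orderOf_two hy)
    have heinj : Function.Injective e := by
      intro i j h
      obtain ⟨i, rfl⟩ := ZMod.intCast_surjective i
      obtain ⟨j, rfl⟩ := ZMod.intCast_surjective j
      rw [hek, hek, zpow_eq_zpow_iff_modEq, ← hn] at h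
      exact (ZMod.intCast_eq_intCast_iff _ _ _).2 h
    rintro (i | i) (j | j) h
    · exact congrArg _ (heinj h)
    · refine absurd ?_ hnm
      have : x = e i * (e j)⁻¹ := eq_mul_inv_of_mul_eq h.symm
      conv => arg 2; rw [this]
      exact mul_mem (zpow_mem (Subgroup.mem_zpowers _) _)
        (inv_mem (zpow_mem (Subgroup.mem_zpowers _) _))
    · refine absurd ?_ hnm
      have : x = e j * (e i)⁻¹ := eq_mul_inv_of_mul_eq h
      conv => arg 2; rw [this]
      exact mul_mem (zpow_mem (Subgroup.mem_zpowers _) _)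
        (inv_mem (zpow_mem (Subgroup.mem_zpowers _) _))
    · exact congrArg _ (heinj (mul_left_cancel h))
  let φ : DihedralGroup n →* G := MonoidHom.mk' f hmul
  have hrange : φ.range = Subgroup.closure ({x, y} : Set G) := by
    ext d
    rw [MonoidHom.mem_range, H26.mem_closure_pair_iff hx' hy']
    constructor
    · rintro ⟨i | i, rfl⟩
      · exact ⟨_, Or.inl rfl⟩
      · exact ⟨_, Or.inr rfl⟩
    · rintro ⟨k, rfl | rfl⟩
      · exact ⟨.r k, hek k⟩
      · exact ⟨.sr k, congrArg (x * ·) (hek k)⟩
  exact ⟨(MulEquiv.subgroupCongr hrange).symm.trans (MonoidHom.ofInjective (f := φ) hinj).symm⟩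

end Cfsg.Agent.S0206
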