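import Cfsg.Statements.S4487
import Cfsg.Agent.BlockBasic.Kernel
import Cfsg.Agent.BlockBasic.Brauer
import Cfsg.Agent.Cores.PCore

set_option autoImplicit false
open Cfsg

namespace Cfsg.Agent.S4487

/-- Let G be a finite group and p a prime such that G has no non-trivial normal subgroup of order prime to p and C_G(O_p(G)) ≤ O_p(G). Then G has a single p-block: any two irreducible characters lie in the same block relative to every maximal ideal M of the algebraic integers containing p. -/
theorem result {G : Type*} [Group G] [Finite G] (p : ℕ) [Fact p.Prime] (M : Ideal Cfsg.AlgInt) (hM : Cfsg.IsPModular p M) (hcore : Cfsg.pPrimeCore p G = ⊥) (hconstr : Subgroup.centralizer ((Cfsg.pCore p G) : Set G) ≤ Cfsg.pCore p G) (χ ψ : Cfsg.IrrCharacter G) : Cfsg.SameBlock M (χ : G → ℂ) (ψ : G → ℂ) := by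
  refine BlockBasic.sameBlock_of_congr_regular hM fun g hg => ?_
  by_cases h1 : g = 1
  · subst h1
    have : ∀ θ : IrrCharacter G, centralChar (θ : G → ℂ) 1 = 1 := fun θ => by
      have h0 : (θ : G → ℂ) 1 ≠ 0 := CharBasic.IsIrr.one_ne_zero θ.2
      have hC : Subgroup.centralizer ({(1 : G)} : Set G) = ⊤ :=
        eq_top_iff.2 fun x _ => Subgroup.mem_centralizer_singleton_iff.2 (by simp)
      rw [centralChar, hC, Subgroup.index_top, Nat.cast_one, one_mul, div_self h0]
    rw [this, this, sub_self]
    exact BlockBasic.memLocalIdeal_zero hM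
  have hgC : g ∉ Subgroup.centralizer ((pCore p G : Subgroup G) : Set G) := fun h => by
    obtain ⟨k, hk⟩ := IsPGroup.iff_orderOf.1 Cores.pCore_isPGroup ⟨g, hconstr h⟩
    rw [Subgroup.orderOf_mk] at hk
    rcases k with _ | k
    · exact h1 (orderOf_eq_one_iff.1 (by simpa using hk))
    · exact hg (hk ▸ dvd_pow_self p k.succ_ne_zero)
  exact BlockBasic.memLocalIdeal_sub hM
    (BlockBasic.centralChar_mem_of_not_centralizer hM _ Cores.pCore_isPGroup χ hgC)
    (BlockBasic.centralChar_mem_of_not_centralizer hM _ Cores.pCore_isPGroup ψ hgC)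

end Cfsg.Agent.S4487
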