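import Cfsg.Statements.S0013

set_option autoImplicit false
open Cfsg
open scoped commutatorElement

namespace Cfsg.Agent.S0013

theorem frattini_eq_bot {Q : Type*} [Group Q] [Finite Q] (p : ℕ) [Fact p.Prime]
    (hc : ∀ a b : Q, a * b = b * a) (hp : ∀ x : Q, x ^ p = 1) : frattini Q = ⊥ := by
  rw [eq_bot_iff]
  intro x hx
  by_contra hx1
  rw [Subgroup.mem_bot] at hx1
  obtain ⟨M, hM⟩ := (Set.toFinite {M : Subgroup Q | x ∉ M}).exists_maximal ⟨⊥, by simpa using hx1⟩
  have hco : IsCoatom M := by
    refine ⟨fun h => hM.1 (h ▸ Subgroup.mem_top x), fun L hL => ?_⟩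
    have hxL : x ∈ L := by
      by_contra hxL
      exact hL.not_ge (hM.2 hxL hL.le)
    rw [eq_top_iff]
    intro y _
    by_cases hy : y ∈ M
    · exact hL.le hy
    have : M.Normal := ⟨fun m hm g => by rw [hc g m, mul_assoc, mul_inv_cancel, mul_one]; exact hm⟩
    have hxs : x ∈ M ⊔ Subgroup.zpowers y := by
      by_contra hn
      exact hy (hM.2 hn le_sup_left (Subgroup.mem_sup_right (Subgroup.mem_zpowers y)))
    rw [Subgroup.mem_sup_of_normal_left] at hxs
    obtain ⟨m, hm, w, hw, rfl⟩ := hxs
    have hwM : w ∉ M := fun h => hM.1 (mul_mem hm h)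
    have hwL : w ∈ L := by
      have := mul_mem (inv_mem (hL.le hm)) hxL
      simpa using this
    have hord : orderOf y = p := orderOf_eq_prime (hp y) (fun h => hy (h ▸ one_mem M))
    have hw1 : w ≠ 1 := fun h => hwM (h ▸ one_mem M)
    have hwy : Subgroup.zpowers w = Subgroup.zpowers y := by
      apply Subgroup.eq_of_le_of_card_ge (Subgroup.zpowers_le.2 hw)
      rw [Nat.card_zpowers, Nat.card_zpowers, hord, orderOf_eq_prime (hp w) hw1]
    exact (Subgroup.zpowers_le.2 hwL) (hwy ▸ Subgroup.mem_zpowers y)
  exact hM.1 (frattini_le_coatom hco hx)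

/-- In a finite p-group the Frattini subgroup is the smallest normal subgroup with elementary abelian quotient: it lies below any normal subgroup containing all commutators and all p-th powers. -/
theorem result {G : Type*} [Group G] [Finite G] (p : ℕ) [Fact p.Prime]
    (hG : IsPGroup p G) (N : Subgroup G) [N.Normal] (hcomm : commutator G ≤ N) (hpow : ∀ x : G, x ^ p ∈ N) :
    frattini G ≤ N := by
  have h := frattini_le_comap_frattini_of_surjective (QuotientGroup.mk'_surjective N)
  have hb : frattini (G ⧸ N) = ⊥ := by
    refine frattini_eq_bot p ?_ ?_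
    · intro a b
      induction a using QuotientGroup.induction_on
      induction b using QuotientGroup.induction_on
      rename_i a b
      rw [← QuotientGroup.mk_mul, ← QuotientGroup.mk_mul, QuotientGroup.eq]
      have hm : ⁅b⁻¹, a⁻¹⁆ ∈ N :=
        hcomm (Subgroup.commutator_mem_commutator (Subgroup.mem_top _) (Subgroup.mem_top _))
      simpa [commutatorElement_def, mul_assoc] using hm
    · intro x
      induction x using QuotientGroup.induction_on
      rename_i x
      rw [← QuotientGroup.mk_pow, QuotientGroup.eq_one_iff]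
      exact hpow x
  rw [hb, MonoidHom.comap_bot, QuotientGroup.ker_mk'] at h
  exact h

end Cfsg.Agent.S0013
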