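import Cfsg.Statements.S0640
import Cfsg.Agent.PGroups.Critical
import Cfsg.Agent.PGroups.Commutator
import Cfsg.Agent.H62.CoprimeFix

set_option autoImplicit false
open Cfsg

namespace Cfsg.Agent.S0640

open Subgroup
open scoped commutatorElement

/-- An automorphism of prime order `q`: the number of fixed points is congruent to the order. -/
private theorem card_fixed_modEq {E : Type*} [Group E] [Finite E] (b : MulAut E) {q : ℕ}
    [Fact q.Prime] (hb : b ^ q = 1) :
    Nat.card E ≡ Nat.card {x : E // b x = x} [MOD q] := by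
  have hq : IsPGroup q (Subgroup.zpowers b) := by
    intro x
    obtain ⟨k, hk⟩ := Subgroup.mem_zpowers_iff.mp x.2
    refine ⟨1, Subtype.ext ?_⟩
    rw [pow_one, SubmonoidClass.coe_pow, ← hk, ← zpow_natCast, ← zpow_mul, mul_comm, zpow_mul, zpow_natCast, hb, one_zpow]
    rfl
  have h := hq.card_modEq_card_fixedPoints E
  suffices he : Nat.card (MulAction.fixedPoints (Subgroup.zpowers b) E) = Nat.card {x : E // b x = x} by
    rwa [he] at h
  refine Nat.card_congr (Equiv.subtypeEquivRight fun x => ?_)
  rw [MulAction.mem_fixedPoints]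
  constructor
  · intro h1; exact h1 ⟨b, Subgroup.mem_zpowers b⟩
  · rintro h1 ⟨c, hc⟩
    obtain ⟨k, rfl⟩ := Subgroup.mem_zpowers_iff.mp hc
    exact MulAction.mem_stabilizer_iff.mp
      (zpow_mem (show b ∈ MulAction.stabilizer (MulAut E) x from h1) k)

/-- The subgroup of fixed points of an automorphism. -/
private def fixedSubgroup {E : Type*} [Group E] (b : MulAut E) : Subgroup E where
  carrier := {x | b x = x}
  one_mem' := map_one b
  mul_mem' := fun {x y} (hx : b x = x) (hy : b y = y) => show b (x * y) = x * y by rw [map_mul, hx, hy]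
  inv_mem' := fun {x} (hx : b x = x) => show b x⁻¹ = x⁻¹ by rw [map_inv, hx]

/-- Coprime automorphisms of small `p`-groups. -/
private theorem dvd_of_small {E : Type*} [Group E] [Finite E] {p q : ℕ} [hp : Fact p.Prime]
    [hq : Fact q.Prime] (hqp : q ≠ p) (hE : IsPGroup p E) (hrk : Cfsg.PRankLE p 2 E)
    (hexp : ∀ x : E, x ^ p = 1) (b : MulAut E) (hb : b ^ q = 1) (hb1 : b ≠ 1) : q ∣ p ^ 2 - 1 := by
  have hcop : ∀ j, Nat.Coprime q (p ^ j) := fun j =>
    ((Nat.coprime_primes hq.out hp.out).mpr hqp).pow_right j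
  have hred : ∀ j m, 1 ≤ m → m ≤ 2 → p ^ (j + m) ≡ p ^ j [MOD q] → q ∣ p ^ 2 - 1 := by
    intro j m hm1 hm2 h
    have h1 : p ^ m ≡ 1 [MOD q] := by
      rw [pow_add] at h
      exact Nat.ModEq.cancel_left_of_coprime (hcop j) (by simpa using h)
    have h2 : p ^ 2 ≡ 1 [MOD q] := by
      interval_cases m
      · simpa using h1.pow 2
      · exact h1
    exact (Nat.modEq_iff_dvd' (Nat.one_le_pow _ _ hp.out.pos)).mp h2.symm
  obtain ⟨k, hk⟩ := IsPGroup.iff_card.mp hE
  have hk3 : k ≤ 3 := by
    haveI : (⊥ : Subgroup E).Normal := inferInstance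
    obtain ⟨A, hAn, hA, -, hmax⟩ := PGroups.exists_maximal_normal_abelian (⊥ : Subgroup E)
      (PGroups.isMulCommutative_of_comm fun x hx y hy => by
        rw [Subgroup.mem_bot.mp hx, Subgroup.mem_bot.mp hy])
    haveI := hAn
    obtain ⟨a, ha⟩ := IsPGroup.iff_card.mp (hE.to_subgroup A)
    have h1 := hrk A hA fun x _ => hexp x
    rw [ha, Nat.pow_le_pow_iff_right hp.out.one_lt] at h1
    have h2 := PGroups.card_le_of_maximal_normal_abelian hE hA hmax ha
    rw [hk, Nat.pow_le_pow_iff_right hp.out.one_lt] at h2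
    interval_cases a <;> omega
  obtain ⟨j, hj⟩ := IsPGroup.iff_card.mp (hE.to_subgroup (fixedSubgroup b))
  have hjk : j < k := by
    rw [← Nat.pow_lt_pow_iff_right hp.out.one_lt, ← hk, ← hj]
    refine lt_of_le_of_ne (Subgroup.card_le_card_group _) fun h => hb1 (MulEquiv.ext fun x => ?_)
    have := Subgroup.eq_top_of_card_eq _ h
    exact (show x ∈ fixedSubgroup b by rw [this]; exact Subgroup.mem_top x)
  have hmod := card_fixed_modEq b hb
  rw [show Nat.card {x : E // b x = x} = Nat.card (fixedSubgroup b) from rfl, hk, hj] at hmod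
  by_cases hsmall : k - j ≤ 2
  · exact hred j (k - j) (by omega) hsmall (by rwa [Nat.add_sub_cancel' hjk.le])
  -- fixed point free on a group of order `p ^ 3`
  obtain rfl : k = 3 := by omega
  obtain rfl : j = 0 := by omega
  have hnc : center E ≠ ⊤ := fun h => by
    have h1 := hrk ⊤ (PGroups.isMulCommutative_of_comm fun x _ y _ =>
      ((Subgroup.mem_center_iff.mp (h.symm ▸ Subgroup.mem_top x : x ∈ center E)) y).symm) fun x _ => hexp x
    rw [Subgroup.card_top, hk, Nat.pow_le_pow_iff_right hp.out.one_lt] at h1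
    omega
  haveI : Nontrivial E := Finite.one_lt_card_iff_nontrivial.mp (hk ▸ Nat.one_lt_pow (by omega) hp.out.one_lt)
  haveI := hE.center_nontrivial
  obtain ⟨m, hm⟩ := IsPGroup.iff_card.mp (hE.to_subgroup (center E))
  have hm1 : 1 ≤ m := by
    by_contra h
    have h1 := Finite.one_lt_card (α := center E)
    rw [hm, show m = 0 by omega, pow_zero] at h1
    omega
  have hm3 : m < 3 := by
    rw [← Nat.pow_lt_pow_iff_right hp.out.one_lt, ← hm, ← hk]
    exact lt_of_le_of_ne (Subgroup.card_le_card_group _) fun h => hnc (Subgroup.eq_top_of_card_eq _ h)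
  let c : MulAut (center E) := Subgroup.centerCongr b
  have hc : ∀ (n : ℕ) (z : center E), (((c ^ n) z : center E) : E) = (b ^ n) z := by
    intro n z
    induction n generalizing z with
    | zero => rfl
    | succ n ih => rw [pow_succ, pow_succ, MulAut.mul_apply, MulAut.mul_apply, ih]; rfl
  have hcq : c ^ q = 1 := MulEquiv.ext fun z => Subtype.ext (by rw [hc, hb]; rfl)
  have h1 := card_fixed_modEq c hcq
  have hfix : Nat.card {z : center E // c z = z} = 1 := by
    rw [Nat.card_eq_one_iff_unique]
    refine ⟨⟨fun u v => ?_⟩, ⟨⟨1, map_one c⟩⟩⟩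
    have key : ∀ w : {z : center E // c z = z}, ((w : center E) : E) = 1 := fun w => by
      have hw : (w.1 : E) ∈ fixedSubgroup b := congrArg Subtype.val w.2
      rw [pow_zero, Subgroup.card_eq_one] at hj
      rw [hj] at hw
      exact Subgroup.mem_bot.mp hw
    exact Subtype.ext (Subtype.ext ((key u).trans (key v).symm))
  rw [hfix, hm] at h1
  exact hred 0 m hm1 (by omega) (by simpa using h1)

/-- For odd p, a prime q ≠ p dividing the order of the automorphism group of a p-group of rank at most 2 divides p² - 1 and is less than p. -/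
theorem result {R : Type*} [Group R] [Finite R] {p : ℕ} [Fact p.Prime] (hp : p ≠ 2) (hR : IsPGroup p R) (hrk : Cfsg.PRankLE p 2 R) (q : ℕ) (hq : q.Prime) (hqp : q ≠ p) (hdvd : q ∣ Nat.card (MulAut R)) : q ∣ p ^ 2 - 1 ∧ q < p := by
  classical
  have hpp := (Fact.out : p.Prime)
  haveI := Fact.mk hq
  have main : q ∣ p ^ 2 - 1 := by
    obtain ⟨a, ha⟩ := exists_prime_orderOf_dvd_card' q hdvd
    have haq : a ^ q = 1 := ha ▸ pow_orderOf_eq_one a
    have hcop : Nat.Coprime (orderOf a) p := ha.symm ▸ (Nat.coprime_primes hq hpp).mpr hqp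
    obtain ⟨C, hCchar, -, hC2, hCC⟩ := PGroups.exists_critical hR
    haveI := hCchar
    have hres : ∀ (S : Subgroup R), (∀ x, a x ∈ S ↔ x ∈ S) →
        ∃ b : MulAut S, b ^ q = 1 ∧ ∀ x : S, ((b x : S) : R) = a x := by
      intro S hS
      let b : MulAut S :=
        { toFun := fun x => ⟨a x, (hS _).mpr x.2⟩
          invFun := fun x => ⟨a.symm x, (hS _).mp (by simp)⟩
          left_inv := fun x => Subtype.ext (by simp)
          right_inv := fun x => Subtype.ext (by simp)
          map_mul' := fun x y => Subtype.ext (by simp) }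
      have hb : ∀ (n : ℕ) (x : S), (((b ^ n) x : S) : R) = (a ^ n) x := by
        intro n x
        induction n generalizing x with
        | zero => rfl
        | succ n ih => rw [pow_succ, pow_succ, MulAut.mul_apply, MulAut.mul_apply, ih]; rfl
      exact ⟨b, MulEquiv.ext fun x => Subtype.ext (by rw [hb, haq]; rfl), fun x => rfl⟩
    have hClass : PGroups.SmallClass p C := by
      refine Or.inl ⟨hp, ?_⟩
      rw [commutator_def, Subgroup.commutator_le]
      intro x _ y _
      rw [Subgroup.mem_center_iff]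
      intro z
      have h1 := (hC2 (Subgroup.commutator_mem_commutator x.2 (Subgroup.mem_top (y : R)))).2
      exact Subtype.ext (Subgroup.mem_centralizer_iff.mp h1 z z.2)
    let E : Subgroup R :=
      { carrier := {x | x ∈ C ∧ x ^ p = 1}
        one_mem' := ⟨one_mem _, one_pow p⟩
        mul_mem' := fun {x y} hx hy => ⟨mul_mem hx.1 hy.1, by
          have := congrArg Subtype.val ((hClass.mul_pow (⟨x, hx.1⟩ : C) ⟨y, hy.1⟩).2 (Subtype.ext (by simpa using hy.2)))
          simpa [hx.2, hy.2] using this⟩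
        inv_mem' := fun {x} hx => ⟨inv_mem hx.1, by rw [inv_pow, hx.2, inv_one]⟩ }
    have hEinv : ∀ x, a x ∈ E ↔ x ∈ E := fun x => by
      change (a x ∈ C ∧ a x ^ p = 1) ↔ (x ∈ C ∧ x ^ p = 1)
      rw [PGroups.apply_mem_iff_of_characteristic hCchar a, ← map_pow, map_eq_one_iff a (MulEquiv.injective a)]
    obtain ⟨b, hbq, hb⟩ := hres E hEinv
    have hb1 : b ≠ 1 := by
      intro h
      obtain ⟨c, hcq, hc⟩ := hres C (fun x => PGroups.apply_mem_iff_of_characteristic hCchar a)
      have hc1 : c = 1 := H62.fix_all (hR.to_subgroup C) c ((Nat.coprime_primes hq hpp).mpr hqp) hcq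
        (fun x hx => Subtype.ext (by
          have h1 := congrArg (fun u : MulAut E => ((u ⟨x, x.2, congrArg Subtype.val hx⟩ : E) : R)) h
          simp only [hb, MulAut.one_apply] at h1
          rw [hc, h1])) (fun h2 => absurd h2 hp)
      have ha1 := PGroups.mulAut_eq_one_of_fixed hR C hCC a hcop fun x hx => by
        have h1 := hc ⟨x, hx⟩
        rw [hc1] at h1
        exact h1.symm
      rw [ha1, orderOf_one] at ha
      exact hq.ne_one ha.symm
    refine dvd_of_small hqp (hR.to_subgroup E) (fun A hA hA1 => ?_) (fun x => Subtype.ext x.2.2) b hbq hb1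
    have h1 := hrk (A.map E.subtype) (Subgroup.map_isMulCommutative A E.subtype)
      (by rintro _ ⟨y, hy, rfl⟩; rw [← map_pow, hA1 y hy, map_one])
    rwa [Subgroup.card_map_of_injective E.subtype_injective] at h1
  refine ⟨main, ?_⟩
  have h2 := hpp.two_le
  have hodd : p % 2 = 1 := hpp.eq_two_or_odd.resolve_left hp
  rw [show p ^ 2 - 1 = (p + 1) * (p - 1) by rw [← Nat.sq_sub_sq, one_pow]] at main
  rcases hq.dvd_mul.mp main with h | h
  · obtain ⟨c, hc⟩ := h
    rcases c with _ | _ | c
    · omega
    · exfalso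
      simp only [zero_add, mul_one] at hc
      rcases hq.eq_two_or_odd with h3 | h3 <;> omega
    · have := Nat.mul_le_mul_left q (show 2 ≤ c + 1 + 1 by omega)
      omega
  · have := Nat.le_of_dvd (by omega) h
    omega

end Cfsg.Agent.S0640
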