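import Cfsg.Statements.S1754

set_option autoImplicit false
open Cfsg

namespace Cfsg.Agent.S1754

/-- Let A be a standard subgroup of the finite group G (A quasisimple, C_G(A) tightly embedded of even order, A commuting elementwise with no other conjugate of itself, and N_G(A) = N_G(C_G(A))), and let t be an involution of G centralizing A. Then the centralizer of t lies in the normalizer of A; in particular A, viewed inside C_G(t), is a component of C_G(t). -/
theorem result {G : Type*} [Group G] [Finite G]
    (A : Subgroup G) (hA : Cfsg.IsStandardSubgroup A) (t : G) (ht : orderOf t = 2) (htA : t ∈ Subgroup.centralizer (A : Set G)) :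
    Subgroup.centralizer ({t} : Set G) ≤ Subgroup.normalizer (A : Set G) ∧
      Cfsg.IsComponent (A.subgroupOf (Subgroup.centralizer ({t} : Set G))) := by
  obtain ⟨hqs, ⟨-, htight⟩, -, hnorm⟩ := hA
  set C := Subgroup.centralizer ({t} : Set G) with hC
  have hle : C ≤ Subgroup.normalizer (A : Set G) := by
    intro g hg
    by_contra hgn
    rw [hnorm] at hgn
    have hodd := htight g hgn
    set D := Subgroup.centralizer (A : Set G)
    have htg : t ∈ D.map (MulAut.conj g).toMonoidHom := by
      refine ⟨t, htA, ?_⟩
      have hcomm := Subgroup.mem_centralizer_singleton_iff.mp hg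
      show g * t * g⁻¹ = t
      rw [hcomm, mul_inv_cancel_right]
    have h2 : orderOf t ∣ Nat.card ↥(D ⊓ D.map (MulAut.conj g).toMonoidHom) := by
      rw [← Subgroup.orderOf_mk t (Subgroup.mem_inf.mpr ⟨htA, htg⟩)]
      exact orderOf_dvd_natCard _
    rw [ht] at h2
    exact Nat.not_even_iff_odd.mpr hodd (even_iff_two_dvd.mpr h2)
  have hAC : A ≤ C := by
    intro a ha
    exact Subgroup.mem_centralizer_singleton_iff.mpr (Subgroup.mem_centralizer_iff.mp htA a ha)
  refine ⟨hle, ?_, ?_⟩
  · have : (A.subgroupOf C).Normal := by
      constructor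
      intro n hn g
      exact (Subgroup.mem_normalizer_iff.mp (hle g.2) n).mp hn
    exact this.isSubnormal
  · obtain ⟨hp, hs⟩ := hqs
    let e : ↥(A.subgroupOf C) ≃* ↥A := Subgroup.subgroupOfEquivOfLe hAC
    refine ⟨?_, ?_⟩
    · haveI := hp
      exact Group.IsPerfect.ofSurjective (f := e.symm.toMonoidHom) e.symm.surjective
    · have e' : ↥(A.subgroupOf C) ⧸ Subgroup.center ↥(A.subgroupOf C) ≃* ↥A ⧸ Subgroup.center ↥A :=
        QuotientGroup.congr _ _ e (by
          ext y
          simp only [Subgroup.mem_map, Subgroup.mem_center_iff]
          constructor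
          · rintro ⟨x, hx, rfl⟩ b
            have := congrArg e (hx (e.symm b))
            simpa using this
          · intro hy
            refine ⟨e.symm y, fun b => e.injective ?_, by simp⟩
            simpa using hy (e b))
      exact e'.isSimpleGroup

end Cfsg.Agent.S1754
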