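import Cfsg.Statements.S1983
import Cfsg.Agent.H49.KCore
import Cfsg.Agent.H49.ChiefDeg
import Cfsg.Agent.Cores.PCore
import Cfsg.Agent.PGroups.Critical
-- import your own Cfsg.Agent.* helpers here

set_option autoImplicit false
universe u
open Cfsg

namespace Cfsg.Agent.S1983

/-- Let p be a prime, G a finite group with Sylow p-subgroup S and T = O_p(G). Suppose that the lower or the upper K-infinity subgroup of S is not normal in G. Then there is an element g of S outside T such that [X, g, g, g, g] ≤ Y for every chief factor X/Y of G with X ≤ T, and [Z(T), g, g] = 1; and if moreover C_G(T) ≤ T then some quotient group of G is not p-stable (in the normalizer form: some quadratically acting element of a normalizer fails to map into O_p of the automizer). -/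
theorem result {G : Type u} [Group G] [Finite G] {p : ℕ} [Fact p.Prime] (S : Sylow p G) (hK : ¬ (Cfsg.inducedFunctor Cfsg.kInfLower (S : Subgroup G)).Normal ∨ ¬ (Cfsg.inducedFunctor Cfsg.kInfUpper (S : Subgroup G)).Normal) : ∃ g : G, g ∈ (S : Subgroup G) ∧ g ∉ (Cfsg.pCore p G) ∧ (∀ U V : Subgroup G, Cfsg.IsChiefFactor U V → U ≤ (Cfsg.pCore p G) → Cfsg.iterCommutator U (Subgroup.zpowers g) 4 ≤ V) ∧ ⁅⁅((Cfsg.pCore p G) ⊓ Subgroup.centralizer (((Cfsg.pCore p G) : Subgroup G) : Set G)), (Subgroup.zpowers g)⁆, (Subgroup.zpowers g)⁆ = ⊥ ∧ (Subgroup.centralizer (((Cfsg.pCore p G) : Subgroup G) : Set G) ≤ (Cfsg.pCore p G) → ∃ (N : Subgroup G) (_ : N.Normal), ¬ Cfsg.IsNormalizerPStable p (G ⧸ N)) := by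
  have hTp : IsPGroup p ↥(Cfsg.pCore p G) := Cores.pCore_isPGroup
  set T := Cfsg.pCore p G with hT
  obtain ⟨H, hHc, hHf, hHT, hHC⟩ := PGroups.exists_critical (p := p) hTp
  set A : Subgroup G := H.map T.subtype with hA
  haveI := hHc
  haveI : A.Normal := ConjAct.normal_of_characteristic_of_normal
  have hAT : A ≤ T := Subgroup.map_subtype_le H
  have hinj : Function.Injective T.subtype := T.subtype_injective
  have eZ : (H49.zc H).map T.subtype = H49.zc A := H49.map_zc T.subtype hinj H
  have hTA : ⁅T, A⁆ ≤ H49.zc A := by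
    have := Subgroup.map_mono (f := T.subtype) hHT
    rw [Subgroup.map_commutator, ← MonoidHom.range_eq_map, Subgroup.range_subtype,
      Subgroup.commutator_comm] at this
    exact this.trans eZ.le
  have hA2 : ⁅A, A⁆ ≤ Subgroup.centralizer (A : Set G) :=
    ((Subgroup.commutator_mono hAT le_rfl).trans hTA).trans inf_le_right
  have hA4 : T ⊓ Subgroup.centralizer (A : Set G) = A ⊓ Subgroup.centralizer (A : Set G) := by
    refine le_antisymm (le_inf ?_ inf_le_right) (inf_le_inf_right _ hAT)
    have := H49.map_centralizer_inf T.subtype hinj H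
    rw [Subgroup.range_subtype] at this
    exact this.symm.le.trans (Subgroup.map_mono hHC)
  have hA5 : ∀ φ : MulAut ↥T, (orderOf φ).Coprime p → (∀ a : ↥T, (a : G) ∈ A → φ a = a) → φ = 1 :=
    fun φ hφ hfix => PGroups.mulAut_eq_one_of_fixed hTp H hHC φ hφ
      fun x hx => hfix x (Subgroup.mem_map_of_mem T.subtype hx)
  obtain ⟨g, hgS, hgT, hcub, hquad, hfac⟩ := H49.kInf_main (p := p) (S : Subgroup G) T A
    (Cores.pCore_le_sylow S) hTp (fun N hN hp => haveI := hN; Cores.le_pCore hp) hAT hTA hA2 hK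
  refine ⟨g, hgS, hgT, fun U V hc hU => ?_, ?_, fun hC => ?_⟩
  · refine H49.chief_degree (p := p) T hTp A hAT hTA hA4 (Subgroup.zpowers g) 3 2 (by omega)
      (fun U V hc hU => ?_) (fun U V hc hU => ?_) U V hc hU
    · haveI := hc.2.1
      haveI := hc.2.2.1
      haveI : (U ⊓ H49.zc A).Normal := inferInstance
      rcases hc.2.2.2 ((U ⊓ H49.zc A) ⊔ V) inferInstance le_sup_right
        (sup_le inf_le_left hc.1.le) with h | h
      · exact ((le_inf (H49.iter_le_self U _ 3) ((H49.iter_mono hU _ 3).trans hcub)).trans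
          le_sup_left).trans h.le
      · refine H49.iter_le_of_sup h _ _ ?_
        exact ((H49.iter_antitone _ _ (by omega : 2 ≤ 3)).trans
          ((H49.iter_mono inf_le_right _ 2).trans (le_of_eq hquad))).trans bot_le
    · exact ((H49.iter_mono hU _ 2).trans (le_of_eq hquad)).trans bot_le
  · refine le_bot_iff.mp (le_of_le_of_eq ?_ hquad)
    refine Subgroup.commutator_mono (Subgroup.commutator_mono ?_ le_rfl) le_rfl
    exact (inf_le_inf_left T (Subgroup.centralizer_le hAT)).trans hA4.le
  · obtain ⟨U, V, hc, hU, hq, hn⟩ := hfac hA5 hC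
    exact ⟨V, hc.2.2.1, @H49.not_pStable_of_quadratic _ _ _ p _ U V hc.2.2.1 hc
      (hTp.to_le (hU.trans hAT)) g hq hn⟩

end Cfsg.Agent.S1983
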