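import Cfsg.Statements.S1959
import Cfsg.Agent.H48.Local


set_option autoImplicit false
open Cfsg

namespace Cfsg.Agent.S1959

open Subgroup H48

/-- Let p be a prime, G a finite group with Sylow p-subgroup S, and 𝓦 a set of conjugacy functors for p on G. Suppose that 𝓦 controls strong fusion in N_G(T) for every nonidentity subgroup T of S for which N_S(T) is a Sylow p-subgroup of N_G(T). Then 𝓦 controls strong fusion in G. (A set of functors controls strong fusion in a subgroup H when, for a Sylow p-subgroup T' of H, every conjugation of a tuple of elements of T' into T' by an element of H is a composite of conjugations inside the normalizers N_H(W(T')), W ∈ 𝓦, all intermediate tuples staying in T'.) -/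
theorem result {G : Type*} [Group G] [Finite G] {p : ℕ} [Fact p.Prime] (S : Sylow p G) (𝓦 : Set (Subgroup G → Subgroup G)) (h𝓦 : ∀ W ∈ 𝓦, Cfsg.IsConjugacyFunctor p W) (hloc : ∀ T : Subgroup G, T ≤ (S : Subgroup G) → T ≠ ⊥ → ¬ p ∣ ((S : Subgroup G) ⊓ Subgroup.normalizer ((T : Subgroup G) : Set G)).relIndex (Subgroup.normalizer ((T : Subgroup G) : Set G)) → Cfsg.FamilyControlsStrongFusionIn p 𝓦 (Subgroup.normalizer ((T : Subgroup G) : Set G))) : Cfsg.FamilyControlsStrongFusionIn p 𝓦 ⊤ := by
  set J : Set G := {x | ∃ W ∈ 𝓦, x ∈ (⊤ : Subgroup G) ⊓ normalizer ((W (S : Subgroup G) : Subgroup G) : Set G)}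
    with hJ
  have main := local_induction S (Agree J ((S : Subgroup G) : Set G))
    (fun V => ∀ (A : Set G) (y : G), y ∈ normalizer (V : Set G) →
      A ⊆ ((S : Subgroup G) ⊓ normalizer (V : Set G) : Subgroup G) →
      limg A y ⊆ ((S : Subgroup G) ⊓ normalizer (V : Set G) : Subgroup G) →
      Agree J ((S : Subgroup G) : Set G) A y)
    (fun A h k => Agree.trans) (fun A B h => Agree.mono) ?_ (fun V _ _ _ hΦ => hΦ) ?_
  · refine ⟨S, le_top, S.isPGroup', by rw [relIndex_top_right]; exact S.not_dvd_index,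
      fun A h _ hA hA' => ?_⟩
    obtain ⟨g, hg, he⟩ : Agree J ((S : Subgroup G) : Set G) A h := by
      by_cases hT : closure A = ⊥
      · refine ⟨1, Steps.nil A hA, fun a ha => ?_⟩
        have : a = 1 := mem_bot.mp (hT ▸ subset_closure ha)
        subst this; group
      · refine (main.1 (closure A) ((closure_le _).mpr hA) hT h ?_).mono subset_closure
        rw [show H48.cj h (closure A) = _ from MonoidHom.map_closure _ A, closure_le]
        exact hA'
    obtain ⟨n, c, h0, hs, hi, hl⟩ := hg.to_def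
    exact ⟨n, c, h0, hs, hi, fun a ha => by rw [hl]; exact he a ha⟩
  · intro V hV hne hsyl hbig A y hy hA hA'
    obtain ⟨T₀, hle, hp, hidx, hctl⟩ := hloc V hV hne hsyl.ndvd
    set N := normalizer (V : Set G) with hN
    set R := (S : Subgroup G) ⊓ N with hR
    obtain ⟨k, hk, hkT⟩ := (IsSylowIn.mk hle hp hidx).exists_conj hsyl
    have hA1 : (fun a => k⁻¹ * a * k) '' A ⊆ (T₀ : Set G) := by
      rintro _ ⟨a, ha, rfl⟩
      refine H48.mem_cj.mp ?_
      rw [hkT]; exact hA ha
    obtain ⟨n, c, h0, hs, hi, hlast⟩ := hctl ((fun a => k⁻¹ * a * k) '' A) (k⁻¹ * y * k)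
      (mul_mem (mul_mem (inv_mem hk) hy) hk) hA1 (by
        rw [Set.image_image]
        rintro _ ⟨a, ha, rfl⟩
        have h2 : k⁻¹ * (y * a * y⁻¹) * k ∈ T₀ := H48.mem_cj.mp (by rw [hkT]; exact hA' ⟨a, ha, rfl⟩)
        simpa [mul_assoc] using h2)
    set M₀ : Set G := {x | ∃ W ∈ 𝓦, x ∈ N ⊓ normalizer ((W T₀ : Subgroup G) : Set G)}
    have hsteps : Steps M₀ (T₀ : Set G) ((fun a => k⁻¹ * a * k) '' A) (c (Fin.last n)) :=
      Steps.of_def n _ c h0 hs hi
    have lift : ∀ (B : Set G) (g : G), Steps M₀ (T₀ : Set G) B g →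
        Agree J ((S : Subgroup G) : Set G) (limg B k) (k * g * k⁻¹) := by
      intro B g hB
      induction hB with
      | nil B hB =>
        refine ⟨1, Steps.nil _ ?_, fun a _ => by group⟩
        refine (Set.image_mono hB).trans ?_
        rw [show (fun a => k * a * k⁻¹) '' (T₀ : Set G) = _ from limg_coe T₀ k, hkT]
        exact inf_le_left
      | cons B x g hB hx _ ih =>
        obtain ⟨W, hW, hxN, hxW⟩ := hx
        have e : k * (g * x) * k⁻¹ = k * g * k⁻¹ * (k * x * k⁻¹) := by group
        rw [e]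
        refine Agree.trans ?_ (by rwa [limg_limg, show k * x * k⁻¹ * k = k * x by group, ← limg_limg])
        have hWR : k * x * k⁻¹ ∈ normalizer ((W R : Subgroup G) : Set G) := by
          rw [← hkT, functor_cj (h𝓦 W hW) hp, ← H48.cj_normalizer]
          exact H48.conj_mem_cj hxW
        have hB1 : limg B k ⊆ (R : Set G) := by
          refine (Set.image_mono hB).trans ?_
          rw [show (fun a => k * a * k⁻¹) '' (T₀ : Set G) = _ from limg_coe T₀ k, hkT]
        have hB2 : limg (limg B k) (k * x * k⁻¹) ⊆ (R : Set G) := by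
          rw [limg_limg, show k * x * k⁻¹ * k = k * x by group, ← limg_limg]
          refine (Set.image_mono (by assumption : Steps M₀ (T₀ : Set G) (limg B x) g).subset).trans ?_
          rw [show (fun a => k * a * k⁻¹) '' (T₀ : Set G) = _ from limg_coe T₀ k, hkT]
        by_cases hRS : R = (S : Subgroup G)
        · refine ⟨1 * (k * x * k⁻¹), Steps.cons _ _ 1 (hB1.trans inf_le_left)
            ⟨W, hW, mem_top _, by rw [← hRS]; exact hWR⟩ (Steps.nil _ (hB2.trans inf_le_left)),
            fun a _ => by rw [one_mul]⟩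
        · have hRp : IsPGroup p R := S.isPGroup'.to_le inf_le_left
          have hRne : R ≠ ⊥ := fun hb => hne (eq_bot_iff.mpr (hb ▸ le_inf hV le_normalizer))
          have hsub : R ≤ (S : Subgroup G) ⊓ normalizer ((W R : Subgroup G) : Set G) :=
            le_inf inf_le_left (le_normalizer_functor (h𝓦 W hW) hRp)
          refine hbig (W R) ((functor_le (h𝓦 W hW) hRp).trans inf_le_left)
            (functor_ne_bot (h𝓦 W hW) hRp hRne) ?_ _ _ hWR (hB1.trans hsub) (hB2.trans hsub)
          refine (card_lt_card_inf_normalizer S.isPGroup' inf_le_left hRS).trans_le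
            (card_le_of_le (inf_le_inf le_rfl ?_))
          exact normalizer_le_normalizer_functor (h𝓦 W hW) hRp
    have h3 := lift _ _ hsteps
    rw [show limg ((fun a => k⁻¹ * a * k) '' A) k = A by
      rw [limg, Set.image_image]; simp [mul_assoc]] at h3
    obtain ⟨g, hg, he⟩ := h3
    refine ⟨g, hg, fun a ha => ?_⟩
    rw [he a ha]
    have h4 := hlast _ ⟨a, ha, rfl⟩
    calc k * c (Fin.last n) * k⁻¹ * a * (k * c (Fin.last n) * k⁻¹)⁻¹
        = k * (c (Fin.last n) * (k⁻¹ * a * k) * (c (Fin.last n))⁻¹) * k⁻¹ := by group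
      _ = k * ((k⁻¹ * y * k) * (k⁻¹ * a * k) * (k⁻¹ * y * k)⁻¹) * k⁻¹ := by rw [h4]
      _ = y * a * y⁻¹ := by group
  · intro V h hV hne l hsyl r1 r2 hΦ A y hy hA hA'
    have i1 : limg A h ⊆ ((H48.cj h ((S : Subgroup G) ⊓ normalizer (V : Set G)) : Subgroup G) : Set G) := by
      rw [← limg_coe]; exact Set.image_mono hA
    have i2 : limg (limg A y) h ⊆ ((H48.cj h ((S : Subgroup G) ⊓ normalizer (V : Set G)) : Subgroup G) : Set G) := by
      rw [← limg_coe]; exact Set.image_mono hA'
    have hy' : h * y * h⁻¹ ∈ normalizer ((H48.cj h V : Subgroup G) : Set G) := by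
      rw [← H48.cj_normalizer]; exact H48.conj_mem_cj hy
    have e1 : limg (limg A h) (h * y * h⁻¹) = limg (limg A y) h := by
      rw [limg_limg, limg_limg, inv_mul_cancel_right]
    have a3 := hΦ (limg A h) _ hy' (i1.trans l) (by rw [e1]; exact i2.trans l)
    have a4 : Agree J ((S : Subgroup G) : Set G) A (h⁻¹ * (h * y * h⁻¹) * h) :=
      (r1.mono hA).trans (a3.trans (by rw [e1]; exact r2.mono i2))
    simpa [mul_assoc] using a4

end Cfsg.Agent.S1959
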