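import Cfsg.Statements.S1996
import Cfsg.Agent.Fusion.StrongInduction

set_option autoImplicit false
universe u
open Cfsg

namespace Cfsg.Agent.S1996

/-- Let p be a prime, G a finite group and W₁, W₂ two isomorphism-invariant p-group functors (W assigns to every group Q a subgroup W(Q), nontrivial whenever Q is a nontrivial finite p-group, and every isomorphism from a finite p-group Q onto a group R carries W(Q) onto W(R)). Suppose that G* = N_{G*}(W₁(S*)) N_{G*}(W₂(S*)) whenever G* = K/R is a section of G with C_{G*}(O_p(G*)) ≤ O_p(G*) and S* is a Sylow p-subgroup of G*. Then the pair {W₁, W₂} controls strong fusion in G. -/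
theorem result {G : Type u} [Group G] [Finite G] {p : ℕ} [Fact p.Prime] (W₁ W₂ : ∀ (Q : Type u) [Group Q], Subgroup Q) (hW₁ : Cfsg.IsCharPFunctor.{u} p W₁) (hW₂ : Cfsg.IsCharPFunctor.{u} p W₂) (hfac : ∀ (K R : Subgroup G) [hR : (R.subgroupOf K).Normal], Subgroup.centralizer ((Cfsg.pCore p (↥K ⧸ R.subgroupOf K) : Subgroup (↥K ⧸ R.subgroupOf K)) : Set (↥K ⧸ R.subgroupOf K)) ≤ Cfsg.pCore p (↥K ⧸ R.subgroupOf K) → ∀ T : Sylow p (↥K ⧸ R.subgroupOf K), ∀ x : (↥K ⧸ R.subgroupOf K), ∃ a ∈ Subgroup.normalizer ((Cfsg.inducedFunctor (G := (↥K ⧸ R.subgroupOf K)) W₁ (T : Subgroup (↥K ⧸ R.subgroupOf K)) : Subgroup (↥K ⧸ R.subgroupOf K)) : Set (↥K ⧸ R.subgroupOf K)), ∃ b ∈ Subgroup.normalizer ((Cfsg.inducedFunctor (G := (↥K ⧸ R.subgroupOf K)) W₂ (T : Subgroup (↥K ⧸ R.subgroupOf K)) : Subgroup (↥K ⧸ R.subgroupOf K)) : Set (↥K ⧸ R.subgroupOf K)), x = a * b) : Cfsg.FamilyControlsStrongFusionIn p {Cfsg.inducedFunctor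 (G := G) W₁, Cfsg.inducedFunctor (G := G) W₂} ⊤ := by
  have h𝓦 : ∀ W ∈ ({W₁, W₂} : Set (∀ (Q : Type u) [Group Q], Subgroup Q)),
      Cfsg.IsCharPFunctor.{u} p W := by rintro _ (rfl | rfl) <;> assumption
  have hs : Fusion.SCtl {W₁, W₂} p G := by
    refine Fusion.sctl_self h𝓦 fun K R _ => Fusion.sctl_sections h𝓦 ?_ K R
    intro K R _ hc T A y hA hA'
    obtain ⟨a, ha, b, hb, rfl⟩ := hfac K R hc T y
    set N₁ := Subgroup.normalizer ((Cfsg.inducedFunctor (G := (↥K ⧸ R.subgroupOf K)) W₁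
      (T : Subgroup (↥K ⧸ R.subgroupOf K)) : Subgroup (↥K ⧸ R.subgroupOf K)) :
      Set (↥K ⧸ R.subgroupOf K))
    set N₂ := Subgroup.normalizer ((Cfsg.inducedFunctor (G := (↥K ⧸ R.subgroupOf K)) W₂
      (T : Subgroup (↥K ⧸ R.subgroupOf K)) : Subgroup (↥K ⧸ R.subgroupOf K)) :
      Set (↥K ⧸ R.subgroupOf K))
    have h1 : (T : Subgroup (↥K ⧸ R.subgroupOf K)) ≤ N₁ :=
      Fusion.le_normalizer_inducedFunctor hW₁ T.isPGroup'
    have h2 : (T : Subgroup (↥K ⧸ R.subgroupOf K)) ≤ N₂ :=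
      Fusion.le_normalizer_inducedFunctor hW₂ T.isPGroup'
    -- move `b A b⁻¹` into the Sylow subgroup inside both normalizers
    have hsub : H48.limg A b ⊆ ((N₁ ⊓ N₂ : Subgroup (↥K ⧸ R.subgroupOf K)) :
        Set (↥K ⧸ R.subgroupOf K)) := by
      rintro _ ⟨z, hz, rfl⟩
      refine Subgroup.mem_inf.mpr ⟨?_, mul_mem (mul_mem hb (h2 (hA hz))) (inv_mem hb)⟩
      have h3 := mul_mem (mul_mem (inv_mem ha) (h1 (hA' ⟨z, hz, rfl⟩))) ha
      rwa [show a⁻¹ * (a * b * z * (a * b)⁻¹) * a = b * z * b⁻¹ by group] at h3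
    have hPp : IsPGroup p (Subgroup.closure (H48.limg A b)) := by
      refine (T.isPGroup'.map (MulAut.conj b).toMonoidHom).to_le ((Subgroup.closure_le _).mpr ?_)
      rintro _ ⟨z, hz, rfl⟩
      exact ⟨z, hA hz, rfl⟩
    obtain ⟨m, hm, hmT⟩ := (Fusion.isSylowIn_of_le T (le_inf h1 h2)).exists_cj_le hPp
      ((Subgroup.closure_le _).mpr hsub)
    have hB : H48.limg A (m * b) ⊆ ((T : Subgroup (↥K ⧸ R.subgroupOf K)) :
        Set (↥K ⧸ R.subgroupOf K)) := by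
      rintro _ ⟨z, hz, rfl⟩
      have h3 : m * (b * z * b⁻¹) * m⁻¹ ∈ (T : Subgroup (↥K ⧸ R.subgroupOf K)) :=
        hmT ⟨_, Subgroup.subset_closure ⟨z, hz, rfl⟩, rfl⟩
      rwa [show m * (b * z * b⁻¹) * m⁻¹ = m * b * z * (m * b)⁻¹ by group] at h3
    have e1 : H48.limg (H48.limg A (m * b)) (a * m⁻¹) = H48.limg A (a * b) := by
      rw [H48.limg_limg]; congr 1; group
    refine ⟨1 * (a * m⁻¹) * (m * b), H48.Steps.cons A (m * b) _ hA
      ⟨W₂, Set.mem_insert_of_mem _ rfl, mul_mem hm.2 hb⟩ (H48.Steps.cons _ (a * m⁻¹) 1 hB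
        ⟨W₁, Set.mem_insert _ _, mul_mem ha (inv_mem hm.1)⟩ (H48.Steps.nil _ (e1 ▸ hA'))),
      fun z _ => ?_⟩
    group
  have h3 := (Fusion.sctl_iff h𝓦).mpr hs
  simp only [Set.image_insert_eq, Set.image_singleton] at h3
  exact h3

end Cfsg.Agent.S1996
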