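import Cfsg.Statements.S1961
import Cfsg.Agent.H48.Local


set_option autoImplicit false
open Cfsg

namespace Cfsg.Agent.S1961

open Subgroup H48

/-- Local-to-global control of strong fusion through well-placed subgroups. Let p be a prime, G a finite group with Sylow p-subgroup S, and W a conjugacy functor for p on G. If W controls strong fusion in N_G(T) for every nonidentity subgroup T of S that is well placed in S with respect to W, then W controls strong fusion in G. -/
theorem result {G : Type*} [Group G] [Finite G] {p : ℕ} [Fact p.Prime] (S : Sylow p G) (W : Subgroup G → Subgroup G) (hW : Cfsg.IsConjugacyFunctor p W) (hloc : ∀ T : Subgroup G, T ≠ ⊥ → Cfsg.IsWellPlaced p W (S : Subgroup G) T → Cfsg.ControlsStrongFusionIn p W (Subgroup.normalizer ((T : Subgroup G) : Set G))) : Cfsg.ControlsStrongFusionIn p W ⊤ := by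
  have hS := S.isPGroup'
  have step : ∀ T : Subgroup G, T ≠ ⊥ → Cfsg.IsWellPlaced p W (S : Subgroup G) T →
      ∀ (A : Set G) (h : G), h ∈ normalizer (T : Set G) →
        A ⊆ ((S : Subgroup G) ⊓ normalizer (T : Set G) : Subgroup G) →
        limg A h ⊆ ((S : Subgroup G) ⊓ normalizer (T : Set G) : Subgroup G) →
        ∃ n ∈ normalizer ((W (S : Subgroup G) : Subgroup G) : Set G),
          ∀ a ∈ A, n * a * n⁻¹ = h * a * h⁻¹ := by
    refine wellPlaced_induction hS hW _ fun T hne hT ih A h hh hA hA' => ?_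
    obtain ⟨x, hx, hxa⟩ := strongFusionAt_of_controls hW (hloc T hne hT)
      (IsWellPlaced.isSylowIn hS hT) A h hh hA hA'
    by_cases hRS : (S : Subgroup G) ⊓ normalizer (T : Set G) = (S : Subgroup G)
    · rw [hRS] at hx; exact ⟨x, hx.2, hxa⟩
    · have hsub : (S : Subgroup G) ⊓ normalizer (T : Set G) ≤ (S : Subgroup G) ⊓
          normalizer ((W ((S : Subgroup G) ⊓ normalizer (T : Set G)) : Subgroup G) : Set G) :=
        le_inf inf_le_left (le_normalizer_functor hW (hS.to_le inf_le_left))
      obtain ⟨n, hn, hna⟩ := ih hRS A x hx.2 (hA.trans hsub) (by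
        rw [limg_congr hxa]; exact hA'.trans hsub)
      exact ⟨n, hn, fun a ha => (hna a ha).trans (hxa a ha)⟩
  refine controls_of_strongFusionAt (isSylowIn_sylow S) fun A g _ hA hA' => ?_
  have hch : Chain {T : Subgroup G | Cfsg.IsWellPlaced p W (S : Subgroup G) T} A g⁻¹ :=
    chain_wellPlaced S hW A g⁻¹ hA (by simpa [rimg] using hA')
  have key : ∀ {B : Set G} {u : G},
      Chain {T : Subgroup G | Cfsg.IsWellPlaced p W (S : Subgroup G) T} B u →
      ∃ n ∈ normalizer ((W (S : Subgroup G) : Subgroup G) : Set G),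
        ∀ a ∈ B, n * a * n⁻¹ = u⁻¹ * a * u := by
    intro B u hB
    induction hB with
    | nil B => exact ⟨1, one_mem _, fun a _ => by group⟩
    | cons B T x u hT hx hB h ih =>
      obtain ⟨n, hn, hna⟩ := ih
      obtain ⟨m, hm, hma⟩ : ∃ m ∈ normalizer ((W (S : Subgroup G) : Subgroup G) : Set G),
          ∀ a ∈ B, m * a * m⁻¹ = x⁻¹ * a * x := by
        by_cases hne : T = ⊥
        · refine ⟨1, one_mem _, fun a ha => ?_⟩
          have : a = 1 := coe_subset_one_of_eq_bot hB hne ha
          subst this; group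
        · have hTR : T ≤ (S : Subgroup G) ⊓ normalizer (T : Set G) := le_inf hT.1 le_normalizer
          obtain ⟨m, hm, hma⟩ := step T hne hT B x⁻¹ (inv_mem hx) (hB.trans hTR) (by
            refine Set.Subset.trans ?_ hTR
            have := rimg_subset_of_mem_normalizer hx hB
            simpa [limg, rimg] using this)
          exact ⟨m, hm, fun a ha => by rw [hma a ha, inv_inv]⟩
      refine ⟨n * m, mul_mem hn hm, fun a ha => ?_⟩
      calc n * m * a * (n * m)⁻¹ = n * (m * a * m⁻¹) * n⁻¹ := by group
        _ = n * (x⁻¹ * a * x) * n⁻¹ := by rw [hma a ha]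
        _ = u⁻¹ * (x⁻¹ * a * x) * u := hna _ ⟨a, ha, rfl⟩
        _ = (x * u)⁻¹ * a * (x * u) := by group
  obtain ⟨n, hn, hna⟩ := key hch
  exact ⟨n, ⟨mem_top n, hn⟩, fun a ha => by rw [hna a ha, inv_inv]⟩

end Cfsg.Agent.S1961
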