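import Cfsg.Statements.S5093
import Cfsg.Agent.Fusion.AlperinFocal
import Cfsg.Agent.Fusion.PResidual
import Cfsg.Agent.Fusion.Basic
import Cfsg.Agent.FusionSys.Group
import Cfsg.Agent.H90.Tate
import Cfsg.Agent.PGroups.Basic

set_option autoImplicit false
open Cfsg

namespace Cfsg.Agent.S5093

open Cfsg.FusionSystem Cfsg.Agent.FusionSys Subgroup
open scoped commutatorElement

universe u

variable {G : Type u} [Group G] [Finite G] {p : ℕ} [Fact p.Prime]

theorem hyp_le_inf (S : Sylow p G) :
    (groupFusionSystem (S : Subgroup G)).hyperfocalSubgroup p ≤ (S : Subgroup G) ⊓ pResidual p G := by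
  refine le_inf (H90.hyp_le _ p) ?_
  unfold hyperfocalSubgroup
  rw [closure_le]
  rintro _ ⟨P, α, x, hP, hα, rfl⟩
  set c := conjAutHom P with hc
  obtain ⟨n, hn⟩ : (α : MulAut P) ∈ c.range := by
    rw [range_conjAutHom P, ← autGroup_group hP]
    exact α.2
  have hr : c.range = (groupFusionSystem (S : Subgroup G)).autGroup P := by
    rw [range_conjAutHom P, ← autGroup_group hP]
  have hα' : (α : MulAut P) ∈ (pResidual p (normalizer (P : Set G))).map c := by
    let c' : normalizer (P : Set G) →* (groupFusionSystem (S : Subgroup G)).autGroup P :=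
      c.codRestrict _ fun m => hr ▸ ⟨m, rfl⟩
    have hsurj : Function.Surjective c' := by
      rintro ⟨β, hβ⟩
      obtain ⟨m, hm⟩ := hr.symm ▸ hβ
      exact ⟨m, Subtype.ext hm⟩
    haveI : Finite (MulAut P) := inferInstance
    rw [← Fusion.map_pResidual_of_surjective c' hsurj] at hα
    obtain ⟨m, hm, hme⟩ := hα
    exact ⟨m, hm, congrArg Subtype.val hme⟩
  obtain ⟨m, hm, hme⟩ := hα'
  have hmK : (m : G) ∈ pResidual p G := Fusion.pResidual_le_subgroupOf _ hm
  have he : (((α : MulAut P) x : P) : G) = m * (x : G) * (m : G)⁻¹ := by rw [← hme]; rfl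
  rw [SetLike.mem_coe, he]
  have h := mul_mem (Fusion.pResidual_normal.conj_mem _ hmK (x : G)⁻¹) (inv_mem hmK)
  convert h using 1
  group

theorem diff_mem_hyp (S : Sylow p G) {A : Subgroup G} (hA : A ≤ S) {n : G}
    (hn : n ∈ normalizer (A : Set G)) (hco : (orderOf n).Coprime p) {a : G} (ha : a ∈ A) :
    a⁻¹ * (n * a * n⁻¹) ∈ (groupFusionSystem (S : Subgroup G)).hyperfocalSubgroup p := by
  have hmem : conjAutHom A ⟨n, hn⟩ ∈ (groupFusionSystem (S : Subgroup G)).autGroup A := by
    rw [autGroup_group hA, ← range_conjAutHom A]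
    exact ⟨_, rfl⟩
  refine subset_closure ⟨A, ⟨_, hmem⟩, ⟨a, ha⟩, hA, Fusion.mem_pResidual ?_, rfl⟩
  rw [← Subgroup.orderOf_coe]
  refine hco.coprime_dvd_left ?_
  have h := orderOf_map_dvd (conjAutHom A) ⟨n, hn⟩
  rwa [← Subgroup.orderOf_coe (⟨n, hn⟩ : normalizer (A : Set G))] at h

theorem main (S : Sylow p G) :
    (groupFusionSystem (S : Subgroup G)).hyperfocalSubgroup p = (S : Subgroup G) ⊓ pResidual p G := by
  refine le_antisymm (hyp_le_inf S) ?_
  set K := pResidual p G with hKdef
  set H := (groupFusionSystem (S : Subgroup G)).hyperfocalSubgroup p with hH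
  haveI : K.Normal := Fusion.pResidual_normal
  let R : Sylow p K := (S.isPGroup'.comap_subtype (K := K)).toSylow
    (not_dvd_relIndex_of_normal _ K S.not_dvd_index)
  have hRmem : ∀ x : K, x ∈ (R : Subgroup K) ↔ (x : G) ∈ (S : Subgroup G) := fun x => Iff.rfl
  set Φ := (frattini (R : Subgroup K)).map (R : Subgroup K).subtype with hΦ
  set W : Subgroup K := H.subgroupOf K ⊔ Φ with hW
  have hcomm : ∀ a ∈ (R : Subgroup K), ∀ b ∈ (R : Subgroup K), a⁻¹ * (b * a * b⁻¹) ∈ Φ := by
    intro a ha b hb
    refine ⟨⁅(⟨a, ha⟩ : (R : Subgroup K))⁻¹, ⟨b, hb⟩⁆,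
      PGroups.commutator_le_frattini R.isPGroup'
        (commutator_mem_commutator (mem_top _) (mem_top _)), ?_⟩
    simp only [commutatorElement_def, inv_inv, Subgroup.subtype_apply]
    push_cast
    group
  have hgood : ∀ Q : Sylow p K, Fusion.IsTame R Q →
      ∀ n ∈ normalizer (((R : Subgroup K) ⊓ (Q : Subgroup K) : Subgroup K) : Set K),
        ∀ a ∈ (R : Subgroup K) ⊓ (Q : Subgroup K), a⁻¹ * (n⁻¹ * a * n) ∈ W := by
    intro Q hQ
    set A := (R : Subgroup K) ⊓ (Q : Subgroup K) with hA
    set N := normalizer (A : Set K) with hN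
    let good : Subgroup N :=
      { carrier := {n | ∀ a ∈ A, a⁻¹ * ((n : K) * a * (n : K)⁻¹) ∈ W}
        one_mem' := fun a _ => by simp
        mul_mem' := fun {m n} hm hn a ha => by
          have h1 := (mem_normalizer_iff.mp n.2 a).mp ha
          have h2 := mul_mem (hn a ha) (hm _ h1)
          convert h2 using 1
          push_cast
          group
        inv_mem' := fun {n} hn a ha => by
          have h1 : (n : K)⁻¹ * a * n ∈ A := (mem_normalizer_iff''.mp n.2 a).mp ha
          have h2 := inv_mem (hn _ h1)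
          convert h2 using 1
          push_cast
          group }
    have hres : pResidual p N ≤ good := Fusion.pResidual_le.mpr fun n hn a ha => by
      refine mem_sup_left ?_
      rw [mem_subgroupOf]
      have hA' : A.map K.subtype ≤ S := by
        rintro _ ⟨b, hb, rfl⟩
        exact hb.1
      have hn' : ((n : K) : G) ∈ normalizer (A.map K.subtype : Set G) :=
        le_normalizer_map K.subtype ⟨(n : K), n.2, rfl⟩
      have h := diff_mem_hyp S hA' hn' (by rwa [Subgroup.orderOf_coe, Subgroup.orderOf_coe])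
        (mem_map_of_mem K.subtype ha)
      exact h
    let T : Sylow p N :=
      (R.isPGroup'.to_le (inf_le_left : (R : Subgroup K) ⊓ N ≤ R)).comap_subtype.toSylow
        (fun hd => hQ.1 hd)
    have hTgood : (T : Subgroup N) ≤ good := fun n hn a ha =>
      mem_sup_right (hcomm a ha.1 n hn.1)
    have htop : good = ⊤ :=
      top_le_iff.mp ((Fusion.sylow_sup_pResidual T).ge.trans (sup_le hTgood hres))
    intro n hn a ha
    have h : (⟨n, hn⟩⁻¹ : N) ∈ good := htop ▸ mem_top _
    simpa using h a ha
  have hfocal : (R : Subgroup K).focalSubgroup ≤ W := by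
    rw [focalSubgroup_def, closure_le]
    rintro g ⟨hg, x, hx, u, rfl⟩
    have hmem : (u⁻¹)⁻¹ * x⁻¹ * u⁻¹ ∈ (R : Subgroup K) := by
      have := mul_mem (inv_mem hx) hg
      simpa [commutatorElement_def, mul_assoc] using this
    have hc := Fusion.alperin R (A := {x⁻¹}) (g := u⁻¹)
      (Set.singleton_subset_iff.mpr (inv_mem hx))
      (by rw [Set.image_singleton]; exact Set.singleton_subset_iff.mpr hmem)
    have h := hc.diff_mem (m := 0) (fun Q hQ _ => hgood Q hQ) (Nat.zero_le _) x⁻¹ rfl
    simpa [commutatorElement_def, mul_assoc] using h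
  have hRW : (R : Subgroup K) ≤ W := by
    refine le_trans ?_ hfocal
    rw [← commutator_inf_eq_focalSubgroup]
    refine le_trans ?_ (Fusion.pResidual_inf_le_commutator R)
    exact le_inf (le_top.trans Fusion.pResidual_pResidual_eq_top.ge) le_rfl
  have hHR : H.subgroupOf K ≤ (R : Subgroup K) := fun x hx => (hyp_le_inf S hx).1
  have htop : (H.subgroupOf K).subgroupOf (R : Subgroup K) ⊔ frattini (R : Subgroup K) = ⊤ := by
    apply map_injective (R : Subgroup K).subtype_injective
    rw [Subgroup.map_sup, map_subgroupOf_eq_of_le hHR, ← MonoidHom.range_eq_map, range_subtype]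
    exact le_antisymm (sup_le hHR (map_subtype_le _)) hRW
  have h2 := frattini_nongenerating htop
  rw [subgroupOf_eq_top] at h2
  intro x hx
  exact h2 ((hRmem ⟨x, hx.2⟩).mpr hx.1)


/-- Hyperfocal subgroup Theorem: for a finite group G with Sylow p-subgroup S, the hyperfocal subgroup of the fusion system of G on S equals S ∩ O^p(G), where O^p(G) is the subgroup generated by the elements of order prime to p. -/
theorem result {G : Type*} [Group G] [Finite G] (p : ℕ) [Fact p.Prime] (S : Sylow p G) : (Cfsg.groupFusionSystem (S : Subgroup G)).hyperfocalSubgroup p = (S : Subgroup G) ⊓ Cfsg.pResidual p G := by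
  exact main S

end Cfsg.Agent.S5093
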