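import Cfsg.Statements.S5124
import Cfsg.Agent.H91.SmallFix
import Cfsg.Agent.H89.Extend

set_option autoImplicit false
open Cfsg

namespace Cfsg.Agent.S5124

open Cfsg.FusionSystem Cfsg.Agent.FusionSys Cfsg.Agent.H89

universe u

theorem main {Ω : Type u} [Group Ω] {S : Subgroup Ω} [Finite S] {p : ℕ} [Fact p.Prime]
    (hS : IsPGroup p S) (F : Cfsg.FusionSystem S) (hF : F.IsSaturated p) :
    F.StronglyClosed (F.hyperfocalSubgroup p) := by
  refine stronglyClosed_iff.2 ⟨H90.hyp_le F p, fun R f hR hf x hx => ?_⟩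
  refine map_induction hS hF
    (Φ := fun P g => ∀ y ∈ P, y ∈ F.hyperfocalSubgroup p → g y ∈ F.hyperfocalSubgroup p)
    ?_ ?_ ?_ ?_ hf x hx (hR hx)
  · exact fun P f g _ he h y hy hy' => (he y hy).symm ▸ h y hy hy'
  · exact fun R P f _ hPR h y hy hy' => h y (hPR hy) hy'
  · exact fun P Q f g _ _ hPQ h₁ h₂ y hy hy' => h₂ _ (hPQ y hy) (h₁ y hy hy')
  intro Q hQ _ g hg y hy hy'
  obtain ⟨α, hα, hαg⟩ := hg.exists_aut
  have h := H91.mem_traceStab_hyperfocal hS hF hQ ⟨α, hα⟩ ⟨y, hy⟩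
  rw [← hαg y hy, autMap_apply α hy]
  exact (h.2 ⟨hy, hy'⟩).2


/-- In a saturated fusion system over a finite p-group S the hyperfocal subgroup is strongly closed in the system. -/
theorem result {Ω : Type*} [Group Ω] {S : Subgroup Ω} [Finite S] (p : ℕ) [Fact p.Prime] (hS : IsPGroup p S) (F : Cfsg.FusionSystem S) (hF : F.IsSaturated p) : F.StronglyClosed (F.hyperfocalSubgroup p) := by
  exact main hS F hF

end Cfsg.Agent.S5124
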