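import Cfsg.Statements.S5118
import Cfsg.Agent.H91.NormalSub

set_option autoImplicit false
open Cfsg

namespace Cfsg.Agent.S5118

open Cfsg.Agent.FusionSys in
theorem realized_self {G : Type*} [Group G] (S : Subgroup G) :
    (Cfsg.groupFusionSystem S).IsRealizedBy S.subtype :=
  ⟨S.subtype_injective, fun P hP φ hφ => ⟨fun h => h.2.2, fun h => ⟨hP, hφ, h⟩⟩⟩

open Cfsg.Agent.FusionSys in
theorem isNormalIn_aux {G : Type*} [Group G] [Finite G] {p : ℕ} [Fact p.Prime] (S : Subgroup G)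
    (hSyl : ∃ Sy : Sylow p G, (Sy : Subgroup G) = S) (H : Subgroup G) [H.Normal] :
    (Cfsg.fusionSystemOfSubgroup H (S ⊓ H) inf_le_right).IsNormalIn (Cfsg.groupFusionSystem S) p := by
  obtain ⟨Sy, rfl⟩ := hSyl
  have hT : ∀ x, x ∈ (Sy : Subgroup G) ⊓ H ↔
      x ∈ (Sy : Subgroup G) ∧ homFun (Sy : Subgroup G).subtype x ∈ H := fun x =>
    ⟨fun hx => ⟨hx.1, by rw [homFun_mem _ hx.1]; exact hx.2⟩,
      fun hx => ⟨hx.1, by have h := hx.2; rwa [homFun_mem _ hx.1] at h⟩⟩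
  have h := H91.subSys_isNormalIn (H := H) hT (realized_self (Sy : Subgroup G)) Sy.isPGroup'
    ⟨Sy, (Subgroup.range_subtype _).symm⟩
  suffices e : H91.subSys _ _ H hT (realized_self (Sy : Subgroup G)) =
      Cfsg.fusionSystemOfSubgroup H ((Sy : Subgroup G) ⊓ H) inf_le_right by rwa [e] at h
  refine ext_hom fun P => Set.ext fun φ => ⟨?_, ?_⟩
  · rintro ⟨hP, hφ, g, hg, he⟩
    have hval : ∀ x : P, φ x = g * (x : G) * g⁻¹ := fun x => by
      have := he x
      rwa [homFun_mem _ (hφ.2.1 x), homFun_mem _ (hP x.2).1] at this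
    refine ⟨hP, fun x => ⟨hφ.2.1 x, ?_⟩, g, hg, hval⟩
    rw [hval x]
    exact mul_mem (mul_mem hg (hP x.2).2) (Subgroup.inv_mem H hg)
  · rintro ⟨hP, hφT, g, hg, he⟩
    refine ⟨hP, ⟨fun x hx => (hP hx).1, fun x => (hφT x).1, g, he⟩, g, hg, fun x => ?_⟩
    rw [homFun_mem _ (hφT x).1, homFun_mem _ (hP x.2).1]
    exact he x

/-- For a finite group G with Sylow p-subgroup S and a normal subgroup H, the fusion system of H on S ∩ H is a normal subsystem of the fusion system of G on S. -/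
theorem result {G : Type*} [Group G] [Finite G] (p : ℕ) [Fact p.Prime] (S : Sylow p G) (H : Subgroup G) [H.Normal] : (Cfsg.fusionSystemOfSubgroup H ((S : Subgroup G) ⊓ H) inf_le_right).IsNormalIn (Cfsg.groupFusionSystem (S : Subgroup G)) p := by
  exact isNormalIn_aux (S : Subgroup G) ⟨S, rfl⟩ H

end Cfsg.Agent.S5118
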