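import Cfsg.Statements.S5336
import Cfsg.Agent.S5118
import Cfsg.Agent.Cores.PCore

set_option autoImplicit false
open Cfsg

namespace Cfsg.Agent.S5336

theorem inf_ne_bot {G : Type*} [Group G] [Finite G] {p : ℕ} [Fact p.Prime] (Sy : Sylow p G)
    (N : Subgroup G) [N.Normal] (hcore : Cfsg.pPrimeCore p G = ⊥) (hN : N ≠ ⊥) :
    (Sy : Subgroup G) ⊓ N ≠ ⊥ := by
  intro h
  obtain ⟨Q, hQ⟩ := Thompson.exists_sylow_inf_normal Sy N
  rw [h, Subgroup.map_eq_bot_iff_of_injective _ N.subtype_injective] at hQ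
  refine hN (le_bot_iff.1 (hcore ▸ Cores.le_pPrimeCore ?_))
  refine ((Nat.Prime.coprime_iff_not_dvd (Fact.out : p.Prime)).2 fun hd => ?_).symm
  exact Q.ne_bot_of_dvd_card hd hQ


/-- Let G be a finite group with Sylow p-subgroup S whose fusion system F_S(G) is simple. If G has no nontrivial normal subgroup of order prime to p and no proper subgroup H containing S induces the same fusion system on S as G does, then G is a simple group. -/
theorem result {G : Type*} [Group G] [Finite G] (p : ℕ) [Fact p.Prime] (S : Sylow p G) (hsimple : (Cfsg.groupFusionSystem (S : Subgroup G)).IsSimple p) (hcore : Cfsg.pPrimeCore p G = ⊥) (hmin : ∀ (H : Subgroup G) (hSH : (S : Subgroup G) ≤ H), H ≠ ⊤ → ∃ P : Subgroup G, (Cfsg.fusionSystemOfSubgroup H (S : Subgroup G) hSH).Hom P ≠ (Cfsg.groupFusionSystem (S : Subgroup G)).Hom P) : IsSimpleGroup G := by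
  have hS : (S : Subgroup G) ≠ ⊥ := hsimple.2.1
  haveI : Nontrivial G := by
    by_contra hn
    haveI := not_nontrivial_iff_subsingleton.1 hn
    exact hS (Subsingleton.elim _ _)
  refine ⟨fun N hN => ?_⟩
  by_contra! hne
  haveI := hN
  rcases hsimple.2.2 _ _ (S5118.isNormalIn_aux (p := p) (S : Subgroup G) ⟨S, rfl⟩ N) with h | ⟨h, he⟩
  · exact inf_ne_bot S N hcore hne.1 h
  · have hSN : (S : Subgroup G) ≤ N := inf_eq_left.1 h
    obtain ⟨P, hP⟩ := hmin N hSN hne.2
    refine hP (?_ : _ = _)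
    rw [← he P]
    ext φ
    show (_ ∧ _) ↔ (_ ∧ _)
    rw [h]

end Cfsg.Agent.S5336
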