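import Cfsg.Statements.S5343
import Cfsg.Agent.S5336

set_option autoImplicit false
universe u
open Cfsg

namespace Cfsg.Agent.S5343

open Cfsg.Agent.FusionSys Cfsg.Agent.H91

theorem inf_pPrimeCore_eq_bot {G : Type*} [Group G] [Finite G] {p : ℕ} [Fact p.Prime] {R : Subgroup G}
    (hR : IsPGroup p R) : R ⊓ Cfsg.pPrimeCore p G = ⊥ := by
  refine Subgroup.eq_bot_of_card_eq _ ?_
  obtain ⟨n, hn⟩ := IsPGroup.iff_card.1 (hR.to_le (inf_le_left : R ⊓ Cfsg.pPrimeCore p G ≤ R))
  by_contra h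
  have hdvd := Subgroup.card_dvd_of_le (inf_le_right : R ⊓ Cfsg.pPrimeCore p G ≤ _)
  rw [hn] at h hdvd
  rcases n with _ | n
  · simp at h
  · exact Cores.not_dvd_card_pPrimeCore ((dvd_pow_self p n.succ_ne_zero).trans hdvd)

/-- A realized system is still realized after dividing out the `p'`-core. -/
theorem realized_quotient {Ω : Type*} [Group Ω] {S : Subgroup Ω} {F : Cfsg.FusionSystem S} {G : Type*}
    [Group G] [Finite G] {p : ℕ} [Fact p.Prime] {ι : S →* G} (hr : F.IsRealizedBy ι)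
    (Sy : Sylow p G) (hSy : (Sy : Subgroup G) = ι.range) :
    F.IsRealizedBy ((QuotientGroup.mk' (Cfsg.pPrimeCore p G)).comp ι) ∧
      ∃ T : Sylow p (G ⧸ Cfsg.pPrimeCore p G),
        (T : Subgroup (G ⧸ Cfsg.pPrimeCore p G)) = ((QuotientGroup.mk' (Cfsg.pPrimeCore p G)).comp ι).range := by
  set K := Cfsg.pPrimeCore p G with hK
  have hinf : (Sy : Subgroup G) ⊓ K = ⊥ := inf_pPrimeCore_eq_bot Sy.isPGroup'
  have hmemS : ∀ s : S, ι s ∈ (Sy : Subgroup G) := fun s => hSy ▸ ⟨s, rfl⟩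
  have hinj : ∀ a ∈ (Sy : Subgroup G), ∀ b ∈ (Sy : Subgroup G),
      QuotientGroup.mk' K a = QuotientGroup.mk' K b → a = b := fun a ha b hb h => by
    have : a⁻¹ * b ∈ (Sy : Subgroup G) ⊓ K := Subgroup.mem_inf.2 ⟨mul_mem (inv_mem ha) hb, QuotientGroup.eq.1 h⟩
    rw [hinf, Subgroup.mem_bot, inv_mul_eq_one] at this
    exact this
  refine ⟨⟨fun a b hab => hr.1 (hinj _ (hmemS a) _ (hmemS b) hab), fun P hP φ hφ => ?_⟩, ?_⟩
  · rw [hr.2 P hP φ hφ]
    constructor
    · rintro ⟨g, hg⟩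
      refine ⟨QuotientGroup.mk' K g, fun x => ?_⟩
      rw [MonoidHom.comp_apply, hg x, map_mul, map_mul, map_inv]
      rfl
    · rintro ⟨g, hg⟩
      obtain ⟨g, rfl⟩ := QuotientGroup.mk'_surjective K g
      let T : Subgroup G := (P.subgroupOf S).map ((MulAut.conj g).toMonoidHom.comp ι)
      have hcong : ∀ x : P, QuotientGroup.mk' K (g * ι ⟨x, hP x.2⟩ * g⁻¹) =
          QuotientGroup.mk' K (ι ⟨φ x, hφ x⟩) := fun x => by
        rw [map_mul, map_mul, map_inv]
        exact (hg x).symm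
      have hle : T ≤ (Sy : Subgroup G) ⊔ K := by
        rintro _ ⟨s, hs, rfl⟩
        have h := QuotientGroup.eq.1 (hcong ⟨s, hs⟩)
        have e : g * ι s * g⁻¹ = ι ⟨φ ⟨s, hs⟩, hφ _⟩ *
            ((g * ι s * g⁻¹)⁻¹ * ι ⟨φ ⟨s, hs⟩, hφ _⟩)⁻¹ := by group
        show g * ι s * g⁻¹ ∈ _
        rw [e]
        exact mul_mem (Subgroup.mem_sup_left (hmemS _)) (inv_mem (Subgroup.mem_sup_right h))
      have hTp : IsPGroup p T := by
        have hSp : IsPGroup p S := by
          have := Sy.isPGroup'.to_le (le_of_eq hSy.symm)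
          exact this.of_injective ι.rangeRestrict
            (MonoidHom.rangeRestrict_injective_iff.2 hr.1)
        exact (hSp.to_subgroup _).map _
      obtain ⟨c, hc, hcT⟩ := exists_conj_le_of_normal Sy.isPGroup' Sy.not_dvd_index hTp hle
      refine ⟨c * g, fun x => ?_⟩
      have hx : g * ι ⟨x, hP x.2⟩ * g⁻¹ ∈ T := ⟨⟨x, hP x.2⟩, x.2, rfl⟩
      have h1 := hcT _ hx
      rw [show c * g * ι ⟨x, hP x.2⟩ * (c * g)⁻¹ = c * (g * ι ⟨x, hP x.2⟩ * g⁻¹) * c⁻¹ by group]
      refine hinj _ (hmemS _) _ h1 ?_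
      have hc1 : QuotientGroup.mk' K c = 1 := (QuotientGroup.eq_one_iff c).2 hc
      rw [← hcong x, map_mul _ _ c⁻¹, map_mul _ c, map_inv, hc1, one_mul, inv_one, mul_one]
  · refine ⟨Sy.mapSurjective (QuotientGroup.mk'_surjective K), ?_⟩
    rw [Sylow.coe_mapSurjective, hSy, MonoidHom.range_comp]

universe v in
theorem exists_simple {Ω : Type v} [Group Ω] {S : Subgroup Ω} [Finite S] {p : ℕ} [Fact p.Prime]
    (hS : IsPGroup p S) {F : Cfsg.FusionSystem S} (hsimple : F.IsSimple p) :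
    ∀ (n : ℕ) (G : Type v) [Group G] [Finite G] (ι : S →* G), Nat.card G < n → F.IsRealizedBy ι →
      (∃ T : Sylow p G, (T : Subgroup G) = ι.range) →
      ∃ (G : Type v) (_ : Group G) (_ : Finite G) (_ : IsSimpleGroup G) (ι : ↥S →* G),
        F.IsRealizedBy ι ∧ ∃ T : Sylow p G, (T : Subgroup G) = ι.range := by
  intro n
  induction n with
  | zero => intro G _ _ ι h; omega
  | succ n ih =>
    intro G _ _ ι hlt hr hSyl
    obtain ⟨Sy, hSy⟩ := hSyl
    by_cases hcore : Cfsg.pPrimeCore p G = ⊥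
    · by_cases hG : IsSimpleGroup G
      · exact ⟨G, inferInstance, inferInstance, hG, ι, hr, Sy, hSy⟩
      haveI : Nontrivial S := (Subgroup.nontrivial_iff_ne_bot S).2 hsimple.2.1
      haveI : Nontrivial G := hr.1.nontrivial
      obtain ⟨N, hN, hne, hnt⟩ : ∃ N : Subgroup G, N.Normal ∧ N ≠ ⊥ ∧ N ≠ ⊤ := by
        by_contra! h
        exact hG ⟨fun N hN => or_iff_not_imp_left.2 fun hb => h N hN hb⟩
      have hT : ∀ x, x ∈ (N.comap ι).map S.subtype ↔ x ∈ S ∧ homFun ι x ∈ N := fun x =>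
        ⟨by rintro ⟨s, hs, rfl⟩; exact ⟨s.2, by rw [S.subtype_apply, homFun_coe]; exact hs⟩,
          fun ⟨hx, h⟩ => ⟨⟨x, hx⟩, by rwa [homFun_mem ι hx] at h, rfl⟩⟩
      rcases hsimple.2.2 _ _ (subSys_isNormalIn hT hr hS ⟨Sy, hSy⟩) with h | ⟨h, he⟩
      · exfalso
        refine S5336.inf_ne_bot Sy N hcore hne (le_bot_iff.1 ?_)
        rintro y ⟨hy, hyN⟩
        rw [hSy] at hy
        obtain ⟨s, rfl⟩ := hy
        have hs : (s : Ω) ∈ (N.comap ι).map S.subtype := ⟨s, hyN, rfl⟩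
        rw [h, Subgroup.mem_bot] at hs
        rw [show s = 1 from Subtype.ext hs, map_one]
        exact one_mem _
      · have hmem : ∀ s : S, ι s ∈ N := fun s => by
          have := ((hT s).1 (h.ge s.2)).2
          rwa [homFun_coe] at this
        let ι' : S →* N := ι.codRestrict N hmem
        refine ih N ι' ?_ ⟨fun a b hab => hr.1 (congrArg Subtype.val hab), fun P hP φ hφ => ?_⟩ ?_
        · have : Nat.card N < Nat.card G := lt_of_le_of_ne (Subgroup.card_le_card_group _)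
            (fun e => hnt (Subgroup.eq_top_of_card_eq _ e))
          omega
        · constructor
          · intro hh
            rw [← he P] at hh
            obtain ⟨-, -, g, hg, hge⟩ := hh
            refine ⟨⟨g, hg⟩, fun x => Subtype.ext ?_⟩
            have := hge x
            rwa [homFun_mem ι (hφ x), homFun_mem ι (hP x.2)] at this
          · rintro ⟨g, hg⟩
            exact (hr.2 P hP φ hφ).2 ⟨g, fun x => congrArg Subtype.val (hg x)⟩
        · have hle : (Sy : Subgroup G) ≤ N := by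
            rw [hSy]
            rintro _ ⟨s, rfl⟩
            exact hmem s
          refine ⟨Sy.subtype hle, ?_⟩
          rw [Sylow.coe_subtype]
          ext y
          rw [Subgroup.mem_subgroupOf, hSy]
          exact ⟨fun ⟨s, hs⟩ => ⟨s, Subtype.ext hs⟩, fun ⟨s, hs⟩ => ⟨s, congrArg Subtype.val hs⟩⟩
    · obtain ⟨h1, h2⟩ := realized_quotient hr Sy hSy
      refine ih _ _ ?_ h1 h2
      have h := Subgroup.card_eq_card_quotient_mul_card_subgroup (Cfsg.pPrimeCore p G)
      have hk : 1 < Nat.card (Cfsg.pPrimeCore p G) :=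
        (Subgroup.one_lt_card_iff_ne_bot _).2 hcore
      have hq : 0 < Nat.card (G ⧸ Cfsg.pPrimeCore p G) := Nat.card_pos
      nlinarith


/-- Let F be a simple saturated fusion system over a finite p-group S that is realized by some finite group on a Sylow p-subgroup. Then F is realized by a finite simple group on a Sylow p-subgroup. -/
theorem result {Ω : Type u} [Group Ω] {S : Subgroup Ω} [Finite S] (p : ℕ) [Fact p.Prime] (hS : IsPGroup p S) (F : Cfsg.FusionSystem S) (hsimple : F.IsSimple p) (hreal : F.IsRealizable p) : ∃ (G : Type u) (_ : Group G) (_ : Finite G) (_ : IsSimpleGroup G) (ι : ↥S →* G), F.IsRealizedBy ι ∧ ∃ T : Sylow p G, (T : Subgroup G) = ι.range := by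
  obtain ⟨G, _, _, ι, hr, hSyl⟩ := hreal
  exact exists_simple hS hsimple (Nat.card G + 1) G ι (Nat.lt_succ_self _) hr hSyl

end Cfsg.Agent.S5343
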