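import Cfsg.Statements.S5292
import Cfsg.Agent.FusionSys.ModelFacts
import Cfsg.Agent.Cores.Constrained
import Cfsg.Agent.S5343

set_option autoImplicit false
universe u
open Cfsg

namespace Cfsg.Agent.S5292

/-- Let F be a saturated fusion system over a finite p-group S. Then F is the fusion system of some finite p-solvable group on a Sylow p-subgroup if and only if F is constrained (some subgroup normal in F is centric in F) and the group of automorphisms that F induces on its largest normal subgroup O_p(F) is p-solvable. -/
theorem result {Ω : Type u} [Group Ω] {S : Subgroup Ω} [Finite S] (p : ℕ) [Fact p.Prime] (hS : IsPGroup p S)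
    (F : Cfsg.FusionSystem S) (hF : F.IsSaturated p) :
    (∃ (G : Type u) (_ : Group G) (_ : Finite G) (ι : S →* G), Cfsg.IsPSolvable p G ∧ F.IsRealizedBy ι ∧
        ∃ T : Sylow p G, (T : Subgroup G) = ι.range) ↔
      (F.IsConstrained p ∧ Cfsg.IsPSolvable p ↥(F.autGroup F.core)) := by
  classical
  constructor
  · rintro ⟨G, _, _, ι, hsol, hr, T, hT⟩
    obtain ⟨hr', hT'⟩ := Agent.S5343.realized_quotient hr T hT
    have hmod : F.IsModel p (G ⧸ pPrimeCore p G) ((QuotientGroup.mk' (pPrimeCore p G)).comp ι) :=
      ⟨inferInstance, hr', hT', Agent.Cores.centralizer_pCore_le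
        (Agent.Cores.isPSolvable_quotient hsol _) Agent.Cores.pPrimeCore_quotient_pPrimeCore⟩
    have hc := Agent.FusionSys.isConstrained_of_model hS hmod
    refine ⟨hc, ?_⟩
    let D := Agent.FusionSys.setupCore hS hc
    obtain ⟨e, -⟩ := Agent.FusionSys.exists_equiv_models hS hc hmod D.isModel
    haveI := D.finite_model
    exact Agent.Cores.isPSolvable_of_surjective
      (Agent.Cores.isPSolvable_of_surjective (Agent.Cores.isPSolvable_quotient hsol _)
        e.toMonoidHom e.surjective) D.modelProj D.modelProj_surjective
  · rintro ⟨hc, hsol⟩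
    let D := Agent.FusionSys.setupCore hS hc
    haveI := D.finite_model
    refine ⟨D.Model, inferInstance, inferInstance, D.iota, ?_, D.isRealizedBy, D.exists_sylow_range⟩
    have hker : IsPGroup p D.modelProj.ker := by
      refine (hS.of_surjective _ D.iota.rangeRestrict_surjective).to_le fun g hg => ?_
      obtain ⟨z, rfl⟩ := D.exists_eq_iota_of_modelProj_eq_one hg
      exact ⟨_, rfl⟩
    obtain ⟨n, hn⟩ := IsPGroup.iff_card.1 hker
    refine Agent.Cores.isPSolvable_of_normal_of_quotient D.modelProj.ker
      (Agent.Cores.isPSolvable_of_card hn (Or.inl ⟨n, rfl⟩)) ?_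
    exact (Agent.Cores.isPSolvable_congr
      (QuotientGroup.quotientKerEquivOfSurjective D.modelProj D.modelProj_surjective)).2 hsol

end Cfsg.Agent.S5292
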