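import Cfsg.Statements.S2758
import Cfsg.Agent.H58.Involve

set_option autoImplicit false
open Cfsg

namespace Cfsg.Agent.S2758

/-- For an odd prime p and a finite group G the following are equivalent: the dihedral group of order 2p is involved in G; some element of 2-power order normalizes but does not centralize some p-subgroup of G; some element of 2-power order inverts some nonidentity element of p-power order. -/
theorem result {G : Type*} [Group G] [Finite G] {p : ℕ} [Fact p.Prime] (hp : p ≠ 2) : (Cfsg.Involves (DihedralGroup p) G ↔ ∃ (x : G) (P : Subgroup G), (∃ k : ℕ, orderOf x = 2 ^ k) ∧ IsPGroup p ↥P ∧ x ∈ Subgroup.normalizer (P : Set G) ∧ x ∉ Subgroup.centralizer (P : Set G)) ∧ (Cfsg.Involves (DihedralGroup p) G ↔ ∃ x y : G, (∃ k : ℕ, orderOf x = 2 ^ k) ∧ (∃ k : ℕ, orderOf y = p ^ k) ∧ y ≠ 1 ∧ x * y * x⁻¹ = y⁻¹) := by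
  classical
  have h13 : ∀ x y : G, (∃ k : ℕ, orderOf x = 2 ^ k) → (∃ k : ℕ, orderOf y = p ^ k) → y ≠ 1 →
      x * y * x⁻¹ = y⁻¹ → Cfsg.Involves (DihedralGroup p) G :=
    fun x y hx hy hy1 hi => H58.Inv.involves_dihedral hp hx hy hy1 hi
  have h12 : Cfsg.Involves (DihedralGroup p) G → ∃ (x : G) (P : Subgroup G), (∃ k : ℕ, orderOf x = 2 ^ k) ∧
      IsPGroup p ↥P ∧ x ∈ Subgroup.normalizer (P : Set G) ∧ x ∉ Subgroup.centralizer (P : Set G) := by
    intro h
    obtain ⟨K, f, hf⟩ := H58.Inv.exists_hom_of_involves h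
    have : NeZero p := ⟨(Fact.out : p.Prime).ne_zero⟩
    obtain ⟨P⟩ := (inferInstance : Nonempty (Sylow p ↥K))
    set rot : Subgroup (DihedralGroup p) := Subgroup.zpowers (DihedralGroup.r 1) with hrot
    have hrotcard : Nat.card rot = p := by rw [hrot, Nat.card_zpowers, DihedralGroup.orderOf_r_one]
    have hrotidx : rot.index = 2 := by
      have h := rot.card_mul_index
      rw [hrotcard, DihedralGroup.nat_card, mul_comm 2 p] at h
      exact Nat.eq_of_mul_eq_mul_left (Fact.out : p.Prime).pos h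
    have hrotn : rot.Normal := Subgroup.normal_of_index_eq_two hrotidx
    let R : Sylow p (DihedralGroup p) := (IsPGroup.of_card (p := p) (n := 1) (by rw [pow_one]; exact hrotcard)).toSylow
      (by
        rw [hrotidx]
        exact fun h2 => hp ((Nat.prime_dvd_prime_iff_eq Fact.out Nat.prime_two).1 h2))
    have hR : (R : Subgroup (DihedralGroup p)) = rot := rfl
    have := Sylow.unique_of_normal R (hR ▸ hrotn)
    have hmap : (P : Subgroup ↥K).map f = rot := by
      rw [← hR, ← Sylow.coe_mapSurjective hf P, Subsingleton.elim (P.mapSurjective hf) R]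
    have hPN : (P : Subgroup ↥K) ≤ rot.comap f := Subgroup.map_le_iff_le_comap.1 hmap.le
    have := hrotn.comap f
    have hsup := Sylow.normalizer_sup_eq_top' P hPN
    obtain ⟨s, hs⟩ := hf (DihedralGroup.sr 0)
    obtain ⟨n, hn, m, hm, hnm⟩ := Subgroup.mem_sup_of_normal_right.1
      (hsup ▸ Subgroup.mem_top s : s ∈ _)
    obtain ⟨j, hj⟩ := Subgroup.mem_zpowers_iff.1 (show f m ∈ rot from hm)
    have hfn : f n = DihedralGroup.sr (-(j : ZMod p)) := by
      have : f n * f m = DihedralGroup.sr 0 := by rw [← map_mul, hnm, hs]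
      rw [eq_mul_inv_of_mul_eq this, ← hj, DihedralGroup.r_one_zpow, DihedralGroup.inv_r, DihedralGroup.sr_mul_r,
        zero_add]
    obtain ⟨k, o, ho, he⟩ := Nat.exists_eq_two_pow_mul_odd (orderOf_pos n).ne'
    have hfo : f (n ^ o) = f n := by
      rw [map_pow, ← pow_mod_orderOf, hfn, DihedralGroup.orderOf_sr, Nat.odd_iff.1 ho, pow_one]
    refine ⟨((n ^ o : ↥K) : G), (P : Subgroup ↥K).map K.subtype, ⟨k, ?_⟩, P.isPGroup'.map _, ?_, ?_⟩
    · rw [Subgroup.orderOf_coe, orderOf_pow' _ (by rintro rfl; simp at ho), he, Nat.gcd_mul_left_left,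
        Nat.mul_div_cancel _ (Nat.pos_of_ne_zero (by rintro rfl; simp at ho))]
    · exact Subgroup.le_normalizer_map K.subtype ⟨n ^ o, pow_mem hn o, rfl⟩
    · intro hc
      obtain ⟨w, hw, hw1⟩ : ∃ w ∈ (P : Subgroup ↥K), f w = DihedralGroup.r 1 := by
        have : DihedralGroup.r 1 ∈ (P : Subgroup ↥K).map f := by rw [hmap]; exact Subgroup.mem_zpowers _
        exact this
      have e : w * n ^ o = n ^ o * w :=
        Subtype.ext (Subgroup.mem_centralizer_iff.1 hc _ ⟨w, hw, rfl⟩)
      have e' := congrArg f e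
      rw [map_mul, map_mul, hfo, hfn, hw1, DihedralGroup.r_mul_sr, DihedralGroup.sr_mul_r] at e'
      injection e' with e''
      have h2 : ((2 : ℕ) : ZMod p) = 0 := by
        rw [Nat.cast_two]; linear_combination -e''
      rw [ZMod.natCast_eq_zero_iff] at h2
      exact hp ((Nat.prime_dvd_prime_iff_eq Fact.out Nat.prime_two).1 h2)
  refine ⟨⟨h12, ?_⟩, ⟨?_, ?_⟩⟩
  · rintro ⟨x, P, hx, hP, hn, hc⟩
    obtain ⟨z, y, hz, hy, hy1, hi⟩ := H58.Inv.exists_inverted hx hP hn hc
    exact h13 z y hz hy hy1 hi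
  · intro h
    obtain ⟨x, P, hx, hP, hn, hc⟩ := h12 h
    exact H58.Inv.exists_inverted hx hP hn hc
  · rintro ⟨x, y, hx, hy, hy1, hi⟩
    exact h13 x y hx hy hy1 hi

end Cfsg.Agent.S2758
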