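import Cfsg.Statements.S1634
import Cfsg.Agent.H92.McLTriangle
import Cfsg.Agent.H92.LeechFrames

set_option autoImplicit false
open Cfsg

namespace Cfsg.Agent.S1634

open Cfsg.Agent.Golay Cfsg.Agent.H92.LeechOrbit

/-- The McLaughlin group acts on 2025 points (minimal vectors orthogonal to v with customary inner product 2 with w) transitively with rank 4 and subdegrees 1, 330, 462, 1232. -/
theorem result (v w : ↥Cfsg.leechLattice) (hv : Cfsg.sqNorm (v : Cfsg.GolayPt → ℤ) = 32) (hw : Cfsg.sqNorm (w : Cfsg.GolayPt → ℤ) = 32) (hvw : Cfsg.dotInt (v : Cfsg.GolayPt → ℤ) (w : Cfsg.GolayPt → ℤ) = -8) : {x : ↥Cfsg.leechLattice | Cfsg.sqNorm (x : Cfsg.GolayPt → ℤ) = 32 ∧ Cfsg.dotInt (v : Cfsg.GolayPt → ℤ) (x : Cfsg.GolayPt → ℤ) = 0 ∧ Cfsg.dotInt (w : Cfsg.GolayPt → ℤ) (x : Cfsg.GolayPt → ℤ) = 16}.ncard = 2025 ∧ (∀ x ∈ {x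 : ↥Cfsg.leechLattice | Cfsg.sqNorm (x : Cfsg.GolayPt → ℤ) = 32 ∧ Cfsg.dotInt (v : Cfsg.GolayPt → ℤ) (x : Cfsg.GolayPt → ℤ) = 0 ∧ Cfsg.dotInt (w : Cfsg.GolayPt → ℤ) (x : Cfsg.GolayPt → ℤ) = 16}, ∀ x' ∈ {x : ↥Cfsg.leechLattice | Cfsg.sqNorm (x : Cfsg.GolayPt → ℤ) = 32 ∧ Cfsg.dotInt (v : Cfsg.GolayPt → ℤ) (x : Cfsg.GolayPt → ℤ) = 0 ∧ Cfsg.dotInt (w : Cfsg.GolayPt → ℤ) (x : Cfsg.GolayPt → ℤ) = 16}, ∃ g : ↥Cfsg.Co0, g • v = v ∧ g • w = w ∧ g • x = x') ∧ ∀ x ∈ {x : ↥Cfsg.leechLattice | Cfsg.sqNorm (x : Cfsg.GolayPt → ℤ) = 32 ∧ Cfsg.dotInt (v : Cfsg.GolayPt → ℤ) (x : Cfsg.GolayPt → ℤ) = 0 ∧ Cfsg.dotInt (w : Cfsg.GolayPt → ℤ) (x : Cfsg.GolayPt → ℤ) = 16}, ∃ y₁ ∈ {x : ↥Cfsg.leechLattice | Cfsg.sqNorm (x : Cfsg.GolayPt → ℤ) = 32 ∧ Cfsg.dotInt (v : Cfsg.GolayPt → ℤ) (x : Cfsg.GolayPt → ℤ) = 0 ∧ Cfsg.dotInt (w : Cfsg.GolayPt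 → ℤ) (x : Cfsg.GolayPt → ℤ) = 16}, ∃ y₂ ∈ {x : ↥Cfsg.leechLattice | Cfsg.sqNorm (x : Cfsg.GolayPt → ℤ) = 32 ∧ Cfsg.dotInt (v : Cfsg.GolayPt → ℤ) (x : Cfsg.GolayPt → ℤ) = 0 ∧ Cfsg.dotInt (w : Cfsg.GolayPt → ℤ) (x : Cfsg.GolayPt → ℤ) = 16}, ∃ y₃ ∈ {x : ↥Cfsg.leechLattice | Cfsg.sqNorm (x : Cfsg.GolayPt → ℤ) = 32 ∧ Cfsg.dotInt (v : Cfsg.GolayPt → ℤ) (x : Cfsg.GolayPt → ℤ) = 0 ∧ Cfsg.dotInt (w : Cfsg.GolayPt → ℤ) (x : Cfsg.GolayPt → ℤ) = 16}, (MulAction.orbit ↥(MulAction.stabilizer ↥Cfsg.Co0 v ⊓ MulAction.stabilizer ↥Cfsg.Co0 w ⊓ MulAction.stabilizer ↥Cfsg.Co0 x) y₁).ncard = 330 ∧ (MulAction.orbit ↥(MulAction.stabilizer ↥Cfsg.Co0 v ⊓ MulAction.stabilizer ↥Cfsg.Co0 w ⊓ MulAction.stabilizer ↥Cfsg.Co0 x) y₂).ncard = 462 ∧ (MulAction.orbit ↥(MulAction.stabilizer ↥Cfsg.Co0 v ⊓ MulAction.stabilizer ↥Cfsg.Co0 w ⊓ MulAction.stabilizer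 ↥Cfsg.Co0 x) y₃).ncard = 1232 := by
  obtain ⟨k, hv', hw'⟩ := exists_move_triangle v w hv hw hvw
  have hF : Frame triCert [(v, 0), (w, 16)] k := by
    show [((k • v : Cfsg.leechLattice).1, (0 : ℤ)), ((k • w : Cfsg.leechLattice).1, (16 : ℤ))] = _
    rw [hv', hw']
    rfl
  have e : atSet [(v, 0), (w, 16)] = {x : ↥Cfsg.leechLattice | Cfsg.sqNorm (x : Cfsg.GolayPt → ℤ) = 32 ∧
      Cfsg.dotInt (v : Cfsg.GolayPt → ℤ) (x : Cfsg.GolayPt → ℤ) = 0 ∧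
      Cfsg.dotInt (w : Cfsg.GolayPt → ℤ) (x : Cfsg.GolayPt → ℤ) = 16} := by
    ext x; simp [atSet]
  rw [← e]
  refine ⟨hF.ncard triCert_ok triCert_cover, fun x hx x' hx' => ?_, fun x hx => ?_⟩
  · obtain ⟨g, hg, he⟩ := hF.transitive triCert_ok triCert_cover hx hx'
    exact ⟨g, hg (v, 0) (by simp), hg (w, 16) (by simp), he⟩
  have hroot : Nat.beq (triCert.code triCert.root) 62062060636173731114942761092 = true := by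
    decide +kernel
  have key : ∀ (C : Cert) (d : ℤ), certOK C = true → Cover C →
      C.refs = triCert.refs ++ [(62062060636173731114942761092, d)] → 0 < C.N →
      ∃ y ∈ atSet [(v, 0), (w, 16)], (MulAction.orbit ↥(MulAction.stabilizer ↥Cfsg.Co0 v ⊓
        MulAction.stabilizer ↥Cfsg.Co0 w ⊓ MulAction.stabilizer ↥Cfsg.Co0 x) y).ncard = C.N := by
    intro C d hok hcov hrefs hpos
    obtain ⟨k', hK⟩ := hF.extend triCert_ok triCert_cover (C' := C) (d := d) hroot hrefs hx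
    have hn := hK.ncard hok hcov
    obtain ⟨y, hy⟩ := Set.nonempty_of_ncard_ne_zero (s := atSet ([(v, 0), (w, 16)] ++ [(x, d)]))
      (by omega)
    refine ⟨y, ⟨hy.1, fun p hp => hy.2 p (List.mem_append_left _ hp)⟩, ?_⟩
    rw [hK.orbit hok hcov (fun g => by simp [Subgroup.mem_inf, MulAction.mem_stabilizer_iff, and_assoc]) hy,
      hn]
  obtain ⟨y₁, h1, e1⟩ := key triZeroCert 0 triZeroCert_ok triZeroCert_cover rfl (by decide)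
  obtain ⟨y₂, h2, e2⟩ := key triHighCert 16 triHighCert_ok triHighCert_cover rfl (by decide)
  obtain ⟨y₃, h3, e3⟩ := key triLowCert 8 triLowCert_ok triLowCert_cover rfl (by decide)
  exact ⟨y₁, h1, y₂, h2, y₃, h3, e1, e2, e3⟩

end Cfsg.Agent.S1634
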