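import Cfsg.Statements.S1581
import Cfsg.Agent.H92.McLOrbit
import Cfsg.Agent.H92.LeechFrames

set_option autoImplicit false
open Cfsg

namespace Cfsg.Agent.S1581

open Cfsg.Agent.Golay Cfsg.Agent.H92.LeechOrbit

/-- The McLaughlin group acts with rank 3 and subdegrees 1, 112, 162 on its 275 points: the point stabiliser has two orbits on the remaining points, distinguished by customary inner product 1 or 2 with the fixed point. -/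
theorem result (u v x : ↥Cfsg.leechLattice) (hu : Cfsg.sqNorm (u : Cfsg.GolayPt → ℤ) = 48) (hv : Cfsg.sqNorm (v : Cfsg.GolayPt → ℤ) = 32 ∧ Cfsg.sqNorm ((u - v) : Cfsg.GolayPt → ℤ) = 32) (hx : x ∈ {x : ↥Cfsg.leechLattice | Cfsg.sqNorm (x : Cfsg.GolayPt → ℤ) = 32 ∧ Cfsg.sqNorm ((u - x) : Cfsg.GolayPt → ℤ) = 32 ∧ Cfsg.dotInt (v : Cfsg.GolayPt → ℤ) (x : Cfsg.GolayPt → ℤ) = 16}) : {y : ↥Cfsg.leechLattice | y ∈ {x : ↥Cfsg.leechLattice | Cfsg.sqNorm (x : Cfsg.GolayPt → ℤ) = 32 ∧ Cfsg.sqNorm ((u - x) : Cfsg.GolayPt → ℤ) = 32 ∧ Cfsg.dotInt (v : Cfsg.GolayPt → ℤ) (x : Cfsg.GolayPt → ℤ) = 16} ∧ Cfsg.dotInt (x : Cfsg.GolayPt → ℤ) (y : Cfsg.GolayPt → ℤ) = 8}.ncard = 112 ∧ {y : ↥Cfsg.leechLattice | y ∈ {x : ↥Cfsg.leechLattice | Cfsg.sqNorm (x : Cfsg.GolayPt → ℤ) = 32 ∧ Cfsg.sqNorm ((u - x) : Cfsg.GolayPt → ℤ) = 32 ∧ Cfsg.dotInt (v : Cfsg.GolayPt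 → ℤ) (x : Cfsg.GolayPt → ℤ) = 16} ∧ y ≠ x ∧ Cfsg.dotInt (x : Cfsg.GolayPt → ℤ) (y : Cfsg.GolayPt → ℤ) = 16}.ncard = 162 ∧ ∀ y ∈ {x : ↥Cfsg.leechLattice | Cfsg.sqNorm (x : Cfsg.GolayPt → ℤ) = 32 ∧ Cfsg.sqNorm ((u - x) : Cfsg.GolayPt → ℤ) = 32 ∧ Cfsg.dotInt (v : Cfsg.GolayPt → ℤ) (x : Cfsg.GolayPt → ℤ) = 16}, ∀ y' ∈ {x : ↥Cfsg.leechLattice | Cfsg.sqNorm (x : Cfsg.GolayPt → ℤ) = 32 ∧ Cfsg.sqNorm ((u - x) : Cfsg.GolayPt → ℤ) = 32 ∧ Cfsg.dotInt (v : Cfsg.GolayPt → ℤ) (x : Cfsg.GolayPt → ℤ) = 16}, y ≠ x → y' ≠ x → Cfsg.dotInt (x : Cfsg.GolayPt → ℤ) (y : Cfsg.GolayPt → ℤ) = Cfsg.dotInt (x : Cfsg.GolayPt → ℤ) (y' : Cfsg.GolayPt → ℤ) → ∃ g : ↥Cfsg.Co0, g • u = u ∧ g • v = v ∧ g • x = x ∧ g • y = y' := by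
  obtain ⟨k, hu', hv'⟩ := exists_move_edge u v hu hv
  have hF : Frame mclCert [(u, 24), (v, 16)] k := by
    show [((k • u : Cfsg.leechLattice).1, (24 : ℤ)), ((k • v : Cfsg.leechLattice).1, (16 : ℤ))] = _
    rw [hu', hv']
    rfl
  have conv : ∀ z : Cfsg.leechLattice, (Cfsg.sqNorm (z : Cfsg.GolayPt → ℤ) = 32 ∧
      Cfsg.sqNorm ((u - z) : Cfsg.GolayPt → ℤ) = 32 ∧
      Cfsg.dotInt (v : Cfsg.GolayPt → ℤ) (z : Cfsg.GolayPt → ℤ) = 16) ↔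
        (Cfsg.sqNorm z.1 = 32 ∧ Cfsg.dotInt u.1 z.1 = 24 ∧ Cfsg.dotInt v.1 z.1 = 16) := by
    intro z
    rw [sqNorm_diff, hu]
    constructor <;> rintro ⟨a, b, c⟩ <;> exact ⟨a, by omega, c⟩
  have hx' : x ∈ atSet [(u, 24), (v, 16)] := by
    obtain ⟨h1, h2, h3⟩ := (conv x).1 hx
    exact ⟨h1, by simp [h2, h3]⟩
  have hroot : Nat.beq (mclCert.code mclCert.root) 62062060636173731114942777480 = true := by
    decide +kernel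
  obtain ⟨k1, hN⟩ := hF.extend mclCert_ok mclCert_cover (C' := mclNearCert) (d := 8) hroot rfl hx'
  obtain ⟨k2, hR⟩ := hF.extend mclCert_ok mclCert_cover (C' := mclFarCert) (d := 16) hroot rfl hx'
  have hxx : Cfsg.dotInt x.1 x.1 = 32 := by
    rw [← hx'.1]; exact Finset.sum_congr rfl fun i _ => (sq _).symm
  refine ⟨?_, ?_, ?_⟩
  · rw [show ({y : ↥Cfsg.leechLattice | y ∈ {x : ↥Cfsg.leechLattice | Cfsg.sqNorm (x : Cfsg.GolayPt → ℤ) = 32 ∧ Cfsg.sqNorm ((u - x) : Cfsg.GolayPt → ℤ) = 32 ∧ Cfsg.dotInt (v : Cfsg.GolayPt → ℤ) (x : Cfsg.GolayPt → ℤ) = 16} ∧ Cfsg.dotInt (x : Cfsg.GolayPt → ℤ) (y : Cfsg.GolayPt → ℤ) = 8} : Set ↥Cfsg.leechLattice)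
        = atSet ([(u, 24), (v, 16)] ++ [(x, 8)]) by
      ext y; simp [atSet, conv, and_assoc], hN.ncard mclNearCert_ok mclNearCert_cover]
    rfl
  · rw [show ({y : ↥Cfsg.leechLattice | y ∈ {x : ↥Cfsg.leechLattice | Cfsg.sqNorm (x : Cfsg.GolayPt → ℤ) = 32 ∧ Cfsg.sqNorm ((u - x) : Cfsg.GolayPt → ℤ) = 32 ∧ Cfsg.dotInt (v : Cfsg.GolayPt → ℤ) (x : Cfsg.GolayPt → ℤ) = 16} ∧ y ≠ x ∧ Cfsg.dotInt (x : Cfsg.GolayPt → ℤ) (y : Cfsg.GolayPt → ℤ) = 16} : Set ↥Cfsg.leechLattice)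
        = atSet ([(u, 24), (v, 16)] ++ [(x, 16)]) by
      ext y
      simp only [Set.mem_setOf_eq, conv, atSet, List.cons_append, List.nil_append,
        List.forall_mem_cons, List.mem_singleton, forall_eq]
      constructor
      · rintro ⟨⟨a, b, c⟩, -, d⟩; exact ⟨a, b, c, d⟩
      · rintro ⟨a, b, c, d⟩
        exact ⟨⟨a, b, c⟩, fun h => by subst h; omega, d⟩, hR.ncard mclFarCert_ok mclFarCert_cover]
    rfl
  · intro y hy y' hy' hne hne' hd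
    obtain ⟨a, b, c⟩ := (conv y).1 hy
    obtain ⟨a', b', c'⟩ := (conv y').1 hy'
    have hc := hF.cases mclCert_ok mclCert_cover hroot (ds := [8, 16]) (by decide +kernel) hx'
      (show y ∈ atSet [(u, 24), (v, 16)] from ⟨a, by simp [b, c]⟩) hne
    simp only [List.mem_cons, List.not_mem_nil, or_false] at hc
    rcases hc with h | h
    · obtain ⟨g, hg, he⟩ := hN.transitive mclNearCert_ok mclNearCert_cover (x := y) (y := y')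
        ⟨a, by simp [b, c, h]⟩ ⟨a', by simp [b', c', ← hd, h]⟩
      exact ⟨g, hg (u, 24) (by simp), hg (v, 16) (by simp), hg (x, 8) (by simp), he⟩
    · obtain ⟨g, hg, he⟩ := hR.transitive mclFarCert_ok mclFarCert_cover (x := y) (y := y')
        ⟨a, by simp [b, c, h]⟩ ⟨a', by simp [b', c', ← hd, h]⟩
      exact ⟨g, hg (u, 24) (by simp), hg (v, 16) (by simp), hg (x, 16) (by simp), he⟩

end Cfsg.Agent.S1581
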