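import Cfsg.Agent.H65.Constrained
import Cfsg.Agent.H65.Invol
import Cfsg.Agent.H61.CharP
import Cfsg.Agent.PGroups.Basic
import Cfsg.Statements.S3246
-- import your own Cfsg.Agent.* helpers here

set_option autoImplicit false
open Cfsg

namespace Cfsg.Agent.S3246

open Cfsg Cfsg.Agent.H65

variable {G : Type*} [Group G] [Finite G]

/-- `M` normalises a 2-subgroup of itself containing its centraliser in `M`. -/
def Good (M : Subgroup G) : Prop :=
  ∃ Q : Subgroup G, Q ≤ M ∧ IsPGroup 2 ↥Q ∧ M ≤ Subgroup.normalizer (Q : Set G) ∧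
    M ⊓ Subgroup.centralizer (Q : Set G) ≤ Q

theorem good_of (M : Subgroup G)
    (hM : Subgroup.centralizer (pCore 2 ↥M : Set ↥M) ≤ pCore 2 ↥M) : Good M := by
  refine ⟨(pCore 2 ↥M).map M.subtype, Subgroup.map_subtype_le _,
    (Cores.pCore_isPGroup (p := 2) (G := ↥M)).map _, ?_, ?_⟩
  · have := Subgroup.le_normalizer_map M.subtype (H := pCore 2 ↥M)
    rw [Subgroup.normalizer_eq_top_iff.2 inferInstance, ← MonoidHom.range_eq_map,
      Subgroup.range_subtype] at this
    exact this
  · rintro x ⟨hxM, hxC⟩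
    refine ⟨⟨x, hxM⟩, hM (fun y hy => Subtype.ext (hxC _ ⟨y, hy, rfl⟩)), rfl⟩

theorem normalizer_zpowers_invol {u : G} (hu : orderOf u = 2) :
    Subgroup.normalizer (Subgroup.zpowers u : Set G) = Subgroup.centralizer ({u} : Set G) := by
  refine le_antisymm (fun g hg => ?_) (fun g hg => ?_)
  · classical
    have h1 := (Subgroup.mem_normalizer_iff.1 hg u).1 (Subgroup.mem_zpowers u)
    rw [mem_zpowers_iff_mem_range_orderOf, hu] at h1
    simp [Finset.range_add_one] at h1
    rcases h1 with h | h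
    · exact Subgroup.mem_centralizer_singleton_iff.2 (mul_inv_eq_iff_eq_mul.1 (by first | exact h | exact h.symm))
    · exact absurd h (ne_one_of_orderOf hu)
  · refine Subgroup.mem_normalizer_iff.2 fun x => ?_
    have hg' := Subgroup.mem_centralizer_singleton_iff.1 hg
    constructor
    · rintro ⟨k, rfl⟩
      exact ⟨k, by simp [((show Commute g u from hg').zpow_right k).eq]⟩
    · rintro ⟨k, hk⟩
      refine ⟨k, ?_⟩
      simp only at hk ⊢
      have h2 := ((show Commute g u from hg').zpow_right k).eq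
      calc u ^ k = g⁻¹ * (u ^ k * g) := by rw [← h2, inv_mul_cancel_left]
        _ = x := by rw [hk]; group

/-- The normaliser of `T` has characteristic 2 as soon as some good subgroup contains `T` and
its centraliser. -/
theorem local_char2 {T M : Subgroup G} (hT : IsPGroup 2 ↥T) (hTM : T ≤ M)
    (hCM : Subgroup.centralizer (T : Set G) ≤ M) (hM : Good M) :
    Subgroup.centralizer (pCore 2 ↥(Subgroup.normalizer (T : Set G)) :
      Set ↥(Subgroup.normalizer (T : Set G))) ≤ pCore 2 ↥(Subgroup.normalizer (T : Set G)) := by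
  haveI : Fact (Nat.Prime 2) := ⟨Nat.prime_two⟩
  obtain ⟨Q, hQM, hQ, hMQ, hCQ⟩ := hM
  set N := Subgroup.normalizer (T : Set G) with hN
  set R := pCore 2 ↥N with hR
  refine Cores.le_pCore (H61.isPGroup_of_forall_coprime fun y hy hco => ?_)
  have hTN : T ≤ N := Subgroup.le_normalizer
  haveI : (T.subgroupOf N).Normal := Subgroup.normal_subgroupOf_iff_le_normalizer hTN |>.2 le_rfl
  have hTR : T.subgroupOf N ≤ R :=
    Cores.le_pCore (hT.comap_of_injective N.subtype N.subtype_injective)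
  have hyT : ∀ t ∈ T, Commute (y : G) t := fun t ht =>
    (congrArg Subtype.val (hy _ (hTR (show (⟨t, hTN ht⟩ : ↥N) ∈ T.subgroupOf N from ht)))).symm
  have hyM : (y : G) ∈ M := hCM fun t ht => (hyT t ht).symm
  -- fixed points of T on Q lie in R
  set C := Subgroup.centralizer (T : Set G) with hC
  have hCN : C ≤ N := fun c hc => Subgroup.mem_normalizer_iff.2 fun t => by
    constructor
    · intro ht
      rwa [← hc t ht, mul_inv_cancel_right]
    · intro ht
      have h := hc _ ht
      rw [show c * t * c⁻¹ * c = c * t by group, mul_right_inj] at h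
      rw [h]; exact ht
  haveI : (C.subgroupOf N).Normal := by
    refine ⟨fun c hc g => ?_⟩
    intro t ht
    have h1 := hc _ ((Subgroup.mem_normalizer_iff.1 (inv_mem g.2) t).1 ht)
    simp only [inv_inv] at h1
    simp only [Subgroup.coe_subtype, Subgroup.coe_mul, Subgroup.coe_inv] at h1 ⊢
    calc t * (↑g * ↑c * (↑g)⁻¹) = ↑g * (((↑g)⁻¹ * t * ↑g) * ↑c) * (↑g)⁻¹ := by group
      _ = ↑g * (↑c * ((↑g)⁻¹ * t * ↑g)) * (↑g)⁻¹ := by rw [h1]
      _ = ↑g * ↑c * (↑g)⁻¹ * t := by group
  have hfix : ∀ x ∈ Q, (∀ a ∈ T, Commute a x) → Commute (y : G) x := by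
    intro x hxQ hxT
    have hsub : ((Q ⊓ C).subgroupOf N).IsSubnormal := by
      refine Subgroup.IsSubnormal.trans (K := C.subgroupOf N)
        (fun d hd => hd.2) ?_ (Subgroup.Normal.isSubnormal inferInstance)
      refine Subgroup.Normal.isSubnormal ⟨fun d hd c => ?_⟩
      exact ⟨(Subgroup.mem_normalizer_iff.1 (hMQ (hCM c.2)) _).1 hd.1,
        C.mul_mem (C.mul_mem c.2 hd.2) (C.inv_mem c.2)⟩
    have hxR : (⟨x, hCN (fun a ha => hxT a ha)⟩ : ↥N) ∈ R :=
      Cores.le_pCore_of_isSubnormal hsub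
        ((hQ.to_le inf_le_left).comap_of_injective N.subtype N.subtype_injective)
        (show _ ∈ (Q ⊓ C).subgroupOf N from ⟨hxQ, fun a ha => hxT a ha⟩)
    exact (congrArg Subtype.val (hy _ hxR)).symm
  have hco' : (orderOf (y : G)).Coprime 2 := by rwa [Subgroup.orderOf_coe]
  have hyQ : (y : G) ∈ Q := by
    refine hCQ ⟨hyM, fun x hx => ?_⟩
    exact (H61.commute_of_commute_centralizer hQ hT (hTM.trans hMQ) hco' (hMQ hyM) hyT hfix
      x hx).symm
  exact Subtype.ext (H61.eq_one_of_mem_pGroup hQ hyQ hco')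

theorem exists_maximal_local {T : Subgroup G} (hT : IsPGroup 2 ↥T) (hT1 : T ≠ ⊥) :
    ∃ M : Subgroup G, IsMaximalTwoLocal M ∧ Subgroup.normalizer (T : Set G) ≤ M := by
  obtain ⟨M, hle, hM⟩ := (Set.toFinite {M : Subgroup G | IsTwoLocal M}).exists_le_maximal
    (a := Subgroup.normalizer (T : Set G)) ⟨T, hT, hT1, rfl⟩
  exact ⟨M, ⟨hM.prop, fun N hN hMN => le_antisymm (hM.le_of_ge hN hMN) hMN⟩, hle⟩

theorem exists_invol_center {T : Subgroup G} (hT : IsPGroup 2 ↥T) (hT1 : T ≠ ⊥) :
    ∃ z : G, orderOf z = 2 ∧ z ∈ T ∧ ∀ t ∈ T, t * z = z * t := by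
  haveI : Fact (Nat.Prime 2) := ⟨Nat.prime_two⟩
  haveI : Nontrivial ↥T := (Subgroup.nontrivial_iff_ne_bot T).2 hT1
  obtain ⟨z, -, hzc, hz⟩ := PGroups.exists_mem_center_orderOf_eq hT (⊤ : Subgroup ↥T) top_ne_bot
  exact ⟨z, (Subgroup.orderOf_coe z).trans hz, z.2, fun t ht =>
    congrArg Subtype.val (Subgroup.mem_center_iff.1 hzc ⟨t, ht⟩)⟩

/-- An odd subgroup normalised by an involution without fixed points is inverted. -/
theorem inverted {X : Subgroup G} {u : G} (hu : orderOf u = 2)
    (hn : ∀ x ∈ X, u * x * u⁻¹ ∈ X) (hf : ∀ x ∈ X, Commute x u → x = 1) :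
    ∀ x ∈ X, u * x * u⁻¹ = x⁻¹ := by
  intro a ha
  let f : ↥X → ↥X := fun x => ⟨(x : G)⁻¹ * (u * x * u⁻¹), mul_mem (inv_mem x.2) (hn _ x.2)⟩
  have hinj : Function.Injective f := by
    intro x y h
    have h : (x : G)⁻¹ * (u * x * u⁻¹) = (y : G)⁻¹ * (u * y * u⁻¹) := congrArg Subtype.val h
    have hc : Commute ((y : G) * (x : G)⁻¹) u := by
      change (y : G) * (x : G)⁻¹ * u = u * ((y : G) * (x : G)⁻¹)
      calc (y : G) * (x : G)⁻¹ * u = y * ((x : G)⁻¹ * (u * x * u⁻¹)) * u * (x : G)⁻¹ := by group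
        _ = y * ((y : G)⁻¹ * (u * y * u⁻¹)) * u * (x : G)⁻¹ := by rw [h]
        _ = u * ((y : G) * (x : G)⁻¹) := by group
    exact Subtype.ext (mul_inv_eq_one.1 (hf _ (mul_mem y.2 (inv_mem x.2)) hc)).symm
  obtain ⟨x, hx⟩ := (Finite.injective_iff_surjective.1 hinj) ⟨a, ha⟩
  have hx : (x : G)⁻¹ * (u * x * u⁻¹) = a := congrArg Subtype.val hx
  rw [← hx]
  have h2 : u * u = 1 := mul_self_eq_one hu
  have hui : u⁻¹ = u := inv_eq_self hu
  rw [mul_inv_rev, inv_inv, mul_inv_rev, mul_inv_rev, inv_inv, hui]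
  calc u * ((x : G)⁻¹ * (u * x * u)) * u = u * ((x : G)⁻¹ * u) * x * (u * u) := by group
    _ = _ := by simp only [h2, mul_one, mul_assoc]


/-- Let G be a finite group whose Sylow 2-subgroup S has a self-centralizing normal subgroup of rank at least 3. Suppose that either every maximal 2-local subgroup of G is 2-constrained with no nontrivial normal subgroup of odd order, or the centralizer of every involution of G is 2-constrained with no nontrivial normal subgroup of odd order. Then S normalizes no nontrivial subgroup of G of odd order and every 2-local subgroup of G is 2-constrained. -/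
theorem result {G : Type*} [Group G] [Finite G]
    (S : Sylow 2 G) (A : Subgroup G) (hA : Cfsg.IsSCN (S : Subgroup G) A) (hA3 : ¬ Cfsg.PRankLE 2 2 ↥A)
    (h : (∀ M : Subgroup G, Cfsg.IsMaximalTwoLocal M → Cfsg.IsPConstrained 2 ↥M ∧ Cfsg.oddCore ↥M = ⊥) ∨
      (∀ t : G, orderOf t = 2 → Cfsg.IsPConstrained 2 ↥(Subgroup.centralizer ({t} : Set G)) ∧
        Cfsg.oddCore ↥(Subgroup.centralizer ({t} : Set G)) = ⊥)) :
    (∀ X : Subgroup G, Odd (Nat.card ↥X) → (S : Subgroup G) ≤ Subgroup.normalizer (X : Set G) → X = ⊥) ∧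
      (∀ T : Subgroup G, IsPGroup 2 ↥T → T ≠ ⊥ → Cfsg.IsPConstrained 2 ↥(Subgroup.normalizer (T : Set G))) := by
  haveI : Fact (Nat.Prime 2) := ⟨Nat.prime_two⟩
  have hgood : ∀ T : Subgroup G, IsPGroup 2 ↥T → T ≠ ⊥ →
      ∃ M, T ≤ M ∧ Subgroup.centralizer (T : Set G) ≤ M ∧ Good M := by
    intro T hT hT1
    rcases h with h | h
    · obtain ⟨M, hM, hle⟩ := exists_maximal_local hT hT1
      refine ⟨M, Subgroup.le_normalizer.trans hle, le_trans ?_ hle,
        good_of M (centralizer_pCore_le (h M hM).1 (h M hM).2)⟩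
      intro c hc
      refine Subgroup.mem_normalizer_iff.2 fun t => ⟨fun ht => ?_, fun ht => ?_⟩
      · rwa [← hc t ht, mul_inv_cancel_right]
      · have h' := hc _ ht
        rw [show c * t * c⁻¹ * c = c * t by group, mul_right_inj] at h'
        rw [h']; exact ht
    · obtain ⟨z, hz, hzT, hzc⟩ := exists_invol_center hT hT1
      exact ⟨_, fun t ht => Subgroup.mem_centralizer_singleton_iff.2 (hzc t ht),
        Subgroup.centralizer_le (Set.singleton_subset_iff.2 hzT),
        good_of _ (centralizer_pCore_le (h z hz).1 (h z hz).2)⟩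
  have hloc : ∀ T : Subgroup G, IsPGroup 2 ↥T → T ≠ ⊥ →
      Subgroup.centralizer (pCore 2 ↥(Subgroup.normalizer (T : Set G)) :
        Set ↥(Subgroup.normalizer (T : Set G))) ≤ pCore 2 ↥(Subgroup.normalizer (T : Set G)) := by
    intro T hT hT1
    obtain ⟨M, hTM, hCM, hM⟩ := hgood T hT hT1
    exact local_char2 hT hTM hCM hM
  refine ⟨?_, fun T hT hT1 => isPConstrained_of_centralizer_le (hloc T hT hT1)⟩
  intro X hXodd hSX
  -- a normal four subgroup of S
  have hAab : ∀ a ∈ A, ∀ b ∈ A, a * b = b * a := fun a ha b hb =>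
    (show b ∈ (S : Subgroup G) ⊓ Subgroup.centralizer (A : Set G) from hA.2.2.symm ▸ hb).2 a ha
  let W : Subgroup ↥(S : Subgroup G) :=
    { carrier := {a | (a : G) ∈ A ∧ (a : G) ^ 2 = 1}
      one_mem' := ⟨A.one_mem, one_pow 2⟩
      mul_mem' := fun {a b} ha hb => ⟨A.mul_mem ha.1 hb.1, by
        rw [Subgroup.coe_mul, (show Commute (a : G) b from hAab _ ha.1 _ hb.1).mul_pow, ha.2, hb.2,
          one_mul]⟩
      inv_mem' := fun {a} ha => ⟨A.inv_mem ha.1, by rw [Subgroup.coe_inv, inv_pow, ha.2, inv_one]⟩ }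
  haveI : W.Normal := ⟨fun n hn g => ⟨(Subgroup.mem_normalizer_iff.1 (hA.2.1 g.2) n).1 hn.1, by
    rw [Subgroup.coe_mul, Subgroup.coe_mul, Subgroup.coe_inv, conj_pow, hn.2, mul_one,
      mul_inv_cancel]⟩⟩
  have hW4 : 4 ≤ Nat.card ↥W := by
    by_contra hlt
    apply hA3
    intro B _ hB
    refine le_trans ?_ (show 2 ^ 2 ≥ Nat.card ↥W by omega)
    refine Nat.card_le_card_of_injective
      (fun b => ⟨⟨((b : ↥A) : G), hA.1 (b : ↥A).2⟩, (b : ↥A).2,
        congrArg Subtype.val (hB _ b.2)⟩) ?_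
    intro b b' hbb
    exact Subtype.ext (Subtype.ext (congrArg (fun w => ((w.1 : ↥(S : Subgroup G)) : G)) hbb))
  obtain ⟨U, hUn, hUW, hUcard⟩ : ∃ U : Subgroup ↥(S : Subgroup G), U.Normal ∧ U ≤ W ∧
      Nat.card ↥U = 4 := by
    obtain ⟨U, h1, h2, h3⟩ := PGroups.exists_normal_card_le S.isPGroup' W 2 hW4
    exact ⟨U, h1, h2, by simpa using h3⟩
  have hU1 : U ≠ ⊥ := by
    intro hU
    rw [hU, Subgroup.card_bot] at hUcard
    omega
  obtain ⟨z, hzU, hzc, hz⟩ := PGroups.exists_mem_center_orderOf_eq S.isPGroup' U hU1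
  have hz2 : orderOf (z : G) = 2 := (Subgroup.orderOf_coe z).trans hz
  obtain ⟨v, hvU, hv1, hvz⟩ : ∃ v ∈ U, v ≠ 1 ∧ v ≠ z := by
    by_contra hcon
    push Not at hcon
    have : (U : Set ↥(S : Subgroup G)) ⊆ {1, z} := by
      intro w hw
      by_cases hw1 : w = 1
      · exact Or.inl hw1
      · exact Or.inr (hcon w hw hw1)
    have h1 := (Set.ncard_le_ncard this).trans (Set.ncard_insert_le _ _)
    rw [Set.ncard_singleton, ← Nat.card_coe_set_eq] at h1
    simp only [SetLike.coe_sort_coe, hUcard] at h1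
    omega
  have hord : ∀ w ∈ U, w ≠ 1 → orderOf (w : G) = 2 := fun w hw hw1 =>
    orderOf_eq_prime (hUW hw).2 (fun h => hw1 (Subtype.ext h))
  have hvzc : Commute (v : G) z :=
    congrArg Subtype.val (Subgroup.mem_center_iff.1 hzc v)
  have hvz1 : v * z ≠ 1 := by
    intro h
    apply hvz
    have hzz : z * z = 1 := Subtype.ext (mul_self_eq_one hz2)
    calc v = v * (z * z) := by rw [hzz, mul_one]
      _ = z := by rw [← mul_assoc, h, one_mul]
  -- fixed points in X of each involution of U are trivial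
  have hfpf : ∀ u ∈ U, u ≠ 1 → ∀ x ∈ X, Commute x (u : G) → x = 1 := by
    intro u hu hu1 y hy hyu
    have hu2 := hord u hu hu1
    have hQ0 := good_of _ (hloc (Subgroup.zpowers (u : G))
      (IsPGroup.of_card (n := 1) (by rw [Nat.card_zpowers, hu2, pow_one]))
      (fun h => ne_one_of_orderOf hu2 (Subgroup.zpowers_eq_bot.1 h)))
    rw [normalizer_zpowers_invol hu2] at hQ0
    obtain ⟨Q, hQM, hQ, hMQ, hCQ⟩ := hQ0
    set C := Subgroup.centralizer ({(u : G)} : Set G) with hC
    set S0 := (S : Subgroup G) ⊓ C with hS0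
    have hS0p : IsPGroup 2 ↥S0 := S.isPGroup'.to_le inf_le_left
    obtain ⟨R, hR⟩ := (hQ.to_sup_of_normal_left' hS0p (inf_le_right.trans hMQ)).exists_le_sylow
    have hUmem : ∀ w ∈ U, w = 1 ∨ w = z ∨ w = v ∨ w = v * z := by
      intro w hw
      by_contra hcon
      push Not at hcon
      have hsub : ({w, 1, z, v, v * z} : Set ↥(S : Subgroup G)) ⊆ U := by
        rintro _ (rfl | rfl | rfl | rfl | rfl)
        exacts [hw, U.one_mem, hzU, hvU, U.mul_mem hvU hzU]
      have hz1 : z ≠ 1 := fun h => ne_one_of_orderOf hz2 (congrArg Subtype.val h)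
      have hzvz : z ≠ v * z := fun h => hv1 (mul_eq_right.1 h.symm)
      have hvvz : v ≠ v * z := fun h => hz1 (mul_eq_left.1 h.symm)
      have h5 : ({w, 1, z, v, v * z} : Set ↥(S : Subgroup G)).ncard = 5 := by
        rw [Set.ncard_insert_of_notMem (by simp [hcon.1, hcon.2.1, hcon.2.2.1, hcon.2.2.2]),
          Set.ncard_insert_of_notMem (by simp [Ne.symm hz1, Ne.symm hv1, Ne.symm hvz1]),
          Set.ncard_insert_of_notMem (by simp [Ne.symm hvz, hzvz]),
          Set.ncard_pair hvvz]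
      have := Set.ncard_le_ncard hsub
      rw [h5, ← Nat.card_coe_set_eq] at this
      simp only [SetLike.coe_sort_coe, hUcard] at this
      omega
    -- `S0` has index at most two in `S`
    have hstep : ∀ a ∈ (S : Subgroup G), ∀ b ∈ (S : Subgroup G), a ∉ C → b ∉ C → a⁻¹ * b ∈ C := by
      intro a ha b hb haC hbC
      have hsame : (⟨a, ha⟩ : ↥(S : Subgroup G)) * u * ⟨a, ha⟩⁻¹ =
          (⟨b, hb⟩ : ↥(S : Subgroup G)) * u * ⟨b, hb⟩⁻¹ := by
        have hne : ∀ s : ↥(S : Subgroup G), (s : G) ∉ C →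
            s * u * s⁻¹ ≠ u ∧ s * u * s⁻¹ ≠ 1 ∧ s * u * s⁻¹ ≠ z := by
          intro s hs
          refine ⟨fun h => hs (Subgroup.mem_centralizer_singleton_iff.2 ?_), ?_, fun h => hs ?_⟩
          · exact congrArg Subtype.val (mul_inv_eq_iff_eq_mul.1 h)
          · simpa using hu1
          · have huz : u = z := by
              calc u = s⁻¹ * (s * u * s⁻¹) * s := by group
                _ = s⁻¹ * z * s := by rw [h]
                _ = z := by
                  rw [mul_assoc, ← Subgroup.mem_center_iff.1 hzc s, inv_mul_cancel_left]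
            exact Subgroup.mem_centralizer_singleton_iff.2
              (huz ▸ congrArg Subtype.val (Subgroup.mem_center_iff.1 hzc s))
        obtain ⟨a1, a2, a3⟩ := hne ⟨a, ha⟩ haC
        obtain ⟨b1, b2, b3⟩ := hne ⟨b, hb⟩ hbC
        have hcases := fun s : ↥(S : Subgroup G) => hUmem _ (hUn.conj_mem u hu s)
        rcases (hcases ⟨a, ha⟩).resolve_left a2 |>.resolve_left a3 with e | e <;>
          rcases (hcases ⟨b, hb⟩).resolve_left b2 |>.resolve_left b3 with e' | e'
        · rw [e, e']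
        · exfalso
          rcases hUmem u hu with hh | hh | hh | hh
          · exact hu1 hh
          · subst hh
            exact a1 (by rw [Subgroup.mem_center_iff.1 hzc, mul_inv_cancel_right])
          · exact a1 (e.trans hh.symm)
          · exact b1 (e'.trans hh.symm)
        · exfalso
          rcases hUmem u hu with hh | hh | hh | hh
          · exact hu1 hh
          · subst hh
            exact a1 (by rw [Subgroup.mem_center_iff.1 hzc, mul_inv_cancel_right])
          · exact b1 (e'.trans hh.symm)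
          · exact a1 (e.trans hh.symm)
        · rw [e, e']
      have hsame' : a * (u : G) * a⁻¹ = b * (u : G) * b⁻¹ := congrArg Subtype.val hsame
      refine Subgroup.mem_centralizer_singleton_iff.2 ?_
      calc a⁻¹ * b * (u : G) = a⁻¹ * (b * (u : G) * b⁻¹) * b := by group
        _ = a⁻¹ * (a * (u : G) * a⁻¹) * b := by rw [hsame']
        _ = (u : G) * (a⁻¹ * b) := by group
    have hindex : S0.relIndex (S : Subgroup G) ≤ 2 := by
      by_cases hall : ∀ s ∈ (S : Subgroup G), s ∈ C
      · have : S0.relIndex (S : Subgroup G) = 1 :=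
          Subgroup.relIndex_eq_one.2 fun s hs => ⟨hs, hall s hs⟩
        omega
      · push Not at hall
        obtain ⟨a, ha, haC⟩ := hall
        have : S0.relIndex (S : Subgroup G) ∣ 2 := by
          refine Subgroup.relIndex_dvd_two_iff.2 ⟨a⁻¹, inv_mem ha, fun b hb => ?_⟩
          by_cases hbC : b ∈ C
          · exact Or.inr ⟨hb, hbC⟩
          · refine Or.inl ⟨(S : Subgroup G).mul_mem hb ((S : Subgroup G).inv_mem ha), ?_⟩
            have hb' : b⁻¹ ∉ C := fun h => hbC (by simpa using C.inv_mem h)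
            have ha' : a⁻¹ ∉ C := fun h => haC (by simpa using C.inv_mem h)
            have := hstep _ (inv_mem hb) _ (inv_mem ha) hb' ha'
            simpa using this
        exact Nat.le_of_dvd two_pos this
    have hQR : Q ≤ (R : Subgroup G) := le_sup_left.trans hR
    have hS0R : S0 ≤ (R : Subgroup G) := le_sup_right.trans hR
    have hindR : S0.relIndex (R : Subgroup G) ≤ 2 := by
      have e1 := Subgroup.relIndex_mul_relIndex (H := (⊥ : Subgroup G)) (K := S0)
        (L := (R : Subgroup G)) bot_le hS0R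
      have e2 := Subgroup.relIndex_mul_relIndex (H := (⊥ : Subgroup G)) (K := S0)
        (L := (S : Subgroup G)) bot_le inf_le_left
      simp only [Subgroup.relIndex_bot_left] at e1 e2
      have e3 : Nat.card ↥(R : Subgroup G) = Nat.card ↥(S : Subgroup G) := by
        rw [R.card_eq_multiplicity, S.card_eq_multiplicity]
      have hpos : 0 < Nat.card ↥S0 := Nat.card_pos
      rw [e3, ← e2] at e1
      rw [Nat.eq_of_mul_eq_mul_left hpos e1]
      exact hindex
    have hyC : y ∈ C := Subgroup.mem_centralizer_singleton_iff.2 hyu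
    have hco : (orderOf y).Coprime 2 := by
      refine Nat.Coprime.coprime_dvd_left (Subgroup.orderOf_dvd_natCard X hy) ?_
      rwa [Nat.coprime_two_right]
    have hQX : ∀ q ∈ Q, q ∈ X → q = 1 := fun q hq hqX =>
      H61.eq_one_of_mem_pGroup hQ hq (Nat.Coprime.coprime_dvd_left
        (Subgroup.orderOf_dvd_natCard X hqX) (Nat.coprime_two_right.2 hXodd))
    have hyQn := Subgroup.mem_normalizer_iff.1 (hMQ hyC)
    have hc0 : ∀ q ∈ Q, q ∈ S0 → Commute y q := by
      intro q hq hqS
      have h1 : y * q * y⁻¹ * q⁻¹ ∈ Q := mul_mem ((hyQn q).1 hq) (inv_mem hq)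
      have h2 : y * q * y⁻¹ * q⁻¹ ∈ X := by
        have := (Subgroup.mem_normalizer_iff.1 (hSX hqS.1) y⁻¹).1 (inv_mem hy)
        simpa [mul_assoc] using mul_mem hy this
      have := hQX _ h1 h2
      exact mul_inv_eq_iff_eq_mul.1 (mul_inv_eq_one.1 this)
    have hyQ : y ∈ Q := by
      refine hCQ ⟨hyC, fun q hq => ?_⟩
      by_cases hqS : q ∈ S0
      · exact (hc0 q hq hqS).symm
      have hr : y * q * y⁻¹ ∈ Q := (hyQn q).1 hq
      have hrS : y * q * y⁻¹ ∉ S0 := by
        intro hr'
        refine hqS ?_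
        have := (hc0 _ hr hr').eq
        have e : q = y * q * y⁻¹ := by
          calc q = y⁻¹ * (y * q * y⁻¹ * y) := by group
            _ = y⁻¹ * (y * (y * q * y⁻¹)) := by rw [← this]
            _ = y * q * y⁻¹ := by rw [inv_mul_cancel_left]
        rw [e]; exact hr'
      have hd : y * q * y⁻¹ * q⁻¹ ∈ S0 := by
        have h2 : (S0.subgroupOf (R : Subgroup G)).index = 2 := by
          have h1 : S0.relIndex (R : Subgroup G) ≠ 1 := fun h =>
            hqS (Subgroup.relIndex_eq_one.1 h (hQR hq))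
          have h0 : S0.relIndex (R : Subgroup G) ≠ 0 := Subgroup.index_ne_zero_of_finite
          change S0.relIndex (R : Subgroup G) = 2
          omega
        have := (Subgroup.mul_mem_iff_of_index_two h2 (a := ⟨_, hQR hr⟩)
          (b := ⟨q⁻¹, hQR (inv_mem hq)⟩)).2 ?_
        · exact this
        · simp only [Subgroup.mem_subgroupOf]
          exact ⟨fun h => absurd h hrS, fun h => absurd (by simpa using S0.inv_mem h) hqS⟩
      exact (H61.commute_of_comm_mem hQ hco (mul_mem hr (inv_mem hq))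
        (hc0 _ (mul_mem hr (inv_mem hq)) hd)).symm
    exact H61.eq_one_of_mem_pGroup hQ hyQ hco
  -- conclude
  have hnX : ∀ u : ↥(S : Subgroup G), ∀ x ∈ X, (u : G) * x * (u : G)⁻¹ ∈ X := fun u x hx =>
    (Subgroup.mem_normalizer_iff.1 (hSX u.2) x).1 hx
  have hz1 : z ≠ 1 := fun h => ne_one_of_orderOf hz2 (congrArg Subtype.val h)
  rw [Subgroup.eq_bot_iff_forall]
  intro x hx
  have iz := inverted hz2 (hnX z) (hfpf z hzU hz1)
  have iv := inverted (hord v hvU hv1) (hnX v) (hfpf v hvU hv1)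
  refine hfpf (v * z) (U.mul_mem hvU hzU) hvz1 x hx ?_
  have : ((v * z : ↥(S : Subgroup G)) : G) * x * ((v * z : ↥(S : Subgroup G)) : G)⁻¹ = x := by
    rw [Subgroup.coe_mul, mul_inv_rev,
      show (v : G) * z * x * ((z : G)⁻¹ * (v : G)⁻¹) = v * (z * x * (z : G)⁻¹) * (v : G)⁻¹ by group,
      iz x hx, iv _ (inv_mem hx), inv_inv]
  exact (mul_inv_eq_iff_eq_mul.1 this).symm

end Cfsg.Agent.S3246
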