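import Cfsg.Statements.S0502


set_option autoImplicit false
open Cfsg

namespace Cfsg.Agent.S0502

open Subgroup

universe u

variable {P : Type u} [Group P]

/-- The edge relation of the commuting graph on four-groups. -/
def Adj (A B : Subgroup P) : Prop :=
  IsKleinFour A ∧ IsKleinFour B ∧ ∀ a ∈ A, ∀ b ∈ B, a * b = b * a

theorem adj_symm {A B : Subgroup P} (h : Adj A B) : Adj B A :=
  ⟨h.2.1, h.1, fun b hb a ha => (h.2.2 a ha b hb).symm⟩

theorem closure_pair_klein {u e : P} (hu : u * u = 1) (he : e * e = 1) (huv : u * e = e * u)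
    (hu1 : u ≠ 1) (he1 : e ≠ 1) (hne : u ≠ e) :
    IsKleinFour (closure ({u, e} : Set P)) ∧
      ∀ x ∈ closure ({u, e} : Set P), x = 1 ∨ x = u ∨ x = e ∨ x = u * e := by
  let H : Subgroup P :=
    { carrier := {1, u, e, u * e}
      one_mem' := by simp
      mul_mem' := by
        have r1 : u * (u * e) = e := by rw [← mul_assoc, hu, one_mul]
        have r2 : e * (u * e) = u := by rw [huv, ← mul_assoc, he, one_mul]
        have r3 : u * e * u = e := by rw [huv, mul_assoc, hu, mul_one]
        have r4 : u * e * e = u := by rw [mul_assoc, he, mul_one]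
        have r5 : u * e * (u * e) = 1 := by rw [← mul_assoc, r3, he]
        rintro a b (rfl | rfl | rfl | rfl) (rfl | rfl | rfl | rfl) <;>
          simp [r1, r2, r3, r4, r5, hu, he, huv.symm]
      inv_mem' := by
        have r5 : (u * e)⁻¹ = u * e := by
          rw [inv_eq_iff_mul_eq_one, mul_assoc, ← mul_assoc e, ← huv, mul_assoc u e e, he, mul_one, hu]
        rintro a (rfl | rfl | rfl | rfl) <;>
          simp [r5, inv_eq_of_mul_eq_one_right hu, inv_eq_of_mul_eq_one_right he] }
  have heq : closure ({u, e} : Set P) = H := by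
    refine le_antisymm ((closure_le H).2 ?_) ?_
    · rintro x (rfl | rfl) <;> simp [H]
    · rintro x (rfl | rfl | rfl | rfl)
      · exact one_mem _
      · exact subset_closure (by simp)
      · exact subset_closure (by simp)
      · exact mul_mem (subset_closure (by simp)) (subset_closure (by simp))
  rw [heq]
  refine ⟨⟨?_, ?_⟩, fun x hx => hx⟩
  · have h1 : u * e ≠ 1 := fun h => hne (by
      calc u = u * e * e := by rw [mul_assoc, he, mul_one]
        _ = e := by rw [h, one_mul])
    have h2 : u * e ≠ u := fun h => he1 (by simpa using h)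
    have h3 : u * e ≠ e := fun h => hu1 (by simpa using h)
    change Nat.card ({1, u, e, u * e} : Set P) = 4
    rw [Nat.card_coe_set_eq, Set.ncard_insert_of_notMem, Set.ncard_insert_of_notMem,
      Set.ncard_pair h3.symm] <;> simp [hu1.symm, he1.symm, h1.symm, hne, h2.symm]
  · have hdvd : Monoid.exponent H ∣ 2 := by
      refine Monoid.exponent_dvd_of_forall_pow_eq_one fun x => Subtype.ext ?_
      rw [SubmonoidClass.coe_pow, OneMemClass.coe_one, pow_two]
      rcases x.2 with h | h | h | h <;> rw [h]
      · exact one_mul 1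
      · exact hu
      · exact he
      · rw [← mul_assoc, huv, mul_assoc e u u, hu, mul_one, he]
    rcases (Nat.dvd_prime Nat.prime_two).1 hdvd with h | h
    · exfalso
      have h2 := Monoid.exp_eq_one_iff.1 h
      have h3 : (⟨u, by simp [H]⟩ : H) = 1 := Subsingleton.elim _ _
      exact hu1 (congrArg Subtype.val h3)
    · exact h

theorem klein_facts {U : Subgroup P} (hU : IsKleinFour U) :
    (∀ x ∈ U, x * x = 1) ∧ (∀ x ∈ U, ∀ y ∈ U, x * y = y * x) := by
  have h1 : ∀ x ∈ U, x * x = 1 := fun x hx => congrArg Subtype.val (IsKleinFour.mul_self (⟨x, hx⟩ : U))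
  refine ⟨h1, fun x hx y hy => ?_⟩
  have hxy := h1 _ (mul_mem hx hy)
  calc x * y = x * (x * y * (x * y)) * y := by rw [hxy, mul_one]
    _ = (x * x) * y * x * (y * y) := by simp [mul_assoc]
    _ = y * x := by rw [h1 x hx, h1 y hy]; simp

theorem klein_exists {U : Subgroup P} (hU : IsKleinFour U) (e : P) :
    ∃ u ∈ U, u ≠ 1 ∧ u ≠ e := by
  by_contra h
  push Not at h
  have : (U : Set P) ⊆ {1, e} := by
    intro x hx
    by_cases h1 : x = 1
    · exact Or.inl h1
    · exact Or.inr (h x hx h1)
  have h2 := Set.ncard_le_ncard this (by simp)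
  have h3 : (U : Set P).ncard = 4 := by rw [← Nat.card_coe_set_eq]; exact hU.card_four
  have h4 : ({1, e} : Set P).ncard ≤ 2 :=
    (Set.ncard_insert_le _ _).trans (by simp)
  omega

theorem four_connected [Finite P] (hP : IsPGroup 2 P) (E : Subgroup P) [hEn : E.Normal]
    (hE : IsMulCommutative E) (hE2 : ∀ e ∈ E, e ^ 2 = 1) (hE8 : 8 ≤ Nat.card E) :
    Cfsg.IsFourConnected P := by
  have hcomm : ∀ a ∈ E, ∀ b ∈ E, a * b = b * a := fun a ha b hb =>
    congrArg Subtype.val (hE.is_comm.comm (⟨a, ha⟩ : E) ⟨b, hb⟩)
  have hsq : ∀ a ∈ E, a * a = 1 := fun a ha => by rw [← pow_two]; exact hE2 a ha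
  -- centralizers in `E` of involutions have order at least four
  have hcent : ∀ u : P, u * u = 1 → ∀ e : P, ∃ k ∈ E, u * k = k * u ∧ k ≠ 1 ∧ k ≠ e := by
    intro u hu e
    have huinv : u⁻¹ = u := inv_eq_of_mul_eq_one_right hu
    have hconj : ∀ a ∈ E, u * a * u ∈ E := fun a ha => by
      have := hEn.conj_mem a ha u; rwa [huinv] at this
    let f : E →* P :=
      { toFun := fun a => u * a * u * a
        map_one' := by simp [hu]
        map_mul' := fun a b => by
          show u * (a * b : P) * u * (a * b : P) = (u * a * u * a) * (u * b * u * b)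
          have e1 : u * (a * b : P) * u = (u * a * u) * (u * b * u) := by
            calc u * (a * b : P) * u = u * a * (u * u) * b * u := by rw [hu]; group
              _ = (u * a * u) * (u * b * u) := by group
          rw [e1]
          calc (u * a * u) * (u * b * u) * (a * b : P)
              = (u * a * u) * ((u * b * u) * a) * b := by group
            _ = (u * a * u) * (a * (u * b * u)) * b := by
                rw [hcomm _ (hconj b b.2) a a.2]
            _ = (u * a * u * a) * (u * b * u * b) := by group }
    have hker : ∀ a : E, a ∈ f.ker → u * a = a * u := by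
      intro a ha
      have h1 : u * a * u * a = 1 := ha
      calc u * (a : P) = (u * a * u * a) * a * u := by
            rw [mul_assoc (u * a * u) (a : P) a, hsq a a.2, mul_one, mul_assoc, hu, mul_one]
        _ = a * u := by rw [h1, one_mul]
    have hrange : ∀ x ∈ f.range, x ∈ E ∧ u * x = x * u := by
      rintro _ ⟨a, rfl⟩
      refine ⟨mul_mem (hconj a a.2) a.2, ?_⟩
      show u * (u * a * u * a) = (u * a * u * a) * u
      rw [hcomm _ (hconj a a.2) a a.2]
      calc u * ((a : P) * (u * a * u)) = (u * a * u) * (a * u) := by group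
        _ = ((u * a * u) * a) * u := by group
        _ = a * (u * a * u) * u := by rw [hcomm _ (hconj a a.2) a a.2]
    by_contra hno
    push Not at hno
    have hle : ∀ S : Set P, (∀ x ∈ S, x ∈ E ∧ u * x = x * u) → S.ncard ≤ 2 := fun S hS => by
      refine (Set.ncard_le_ncard (t := {1, e}) (fun x hx => ?_) (by simp)).trans
        ((Set.ncard_insert_le _ _).trans (by simp))
      by_cases h1 : x = 1
      · exact Or.inl h1
      · exact Or.inr (hno x (hS x hx).1 (hS x hx).2 h1)
    have h1 : Nat.card f.range ≤ 2 := by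
      have := hle (f.range : Set P) hrange; rwa [← Nat.card_coe_set_eq] at this
    have h2 : Nat.card f.ker ≤ 2 := by
      have := hle ((f.ker.map E.subtype : Subgroup P) : Set P) (by
        rintro _ ⟨a, ha, rfl⟩
        exact ⟨a.2, hker a ha⟩)
      rw [← Nat.card_coe_set_eq] at this
      change Nat.card (f.ker.map E.subtype) ≤ 2 at this
      rwa [card_map_of_injective E.subtype_injective] at this
    have h3 := card_mul_index f.ker
    rw [index_ker] at h3
    nlinarith
  -- every four-group is adjacent to one containing an element of `E`, hence to one inside `E`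
  have hstep : ∀ U : Subgroup P, IsKleinFour U →
      ∃ V : Subgroup P, V ≤ E ∧ IsKleinFour V ∧ Relation.ReflTransGen Adj U V := by
    intro U hU
    obtain ⟨hU2, hUc⟩ := klein_facts hU
    obtain ⟨u, hu, hu1, -⟩ := klein_exists hU 1
    obtain ⟨v, hv, hv1, hvu⟩ := klein_exists hU u
    obtain ⟨hK, hKmem⟩ := closure_pair_klein (hU2 u hu) (hU2 v hv) (hUc u hu v hv) hu1 hv1 (Ne.symm hvu)
    have hUgen : ∀ x ∈ U, x = 1 ∨ x = u ∨ x = v ∨ x = u * v := by
      have : closure ({u, v} : Set P) = U := by
        refine SetLike.coe_injective (Set.eq_of_subset_of_ncard_le ?_ ?_ (Set.toFinite _))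
        · exact (closure_le U).2 (by rintro x (rfl | rfl) <;> assumption)
        · rw [← Nat.card_coe_set_eq, ← Nat.card_coe_set_eq]
          exact le_of_eq (hU.card_four.trans hK.card_four.symm)
      intro x hx
      exact hKmem x (this.symm ▸ hx)
    obtain ⟨k, hkE, hku, hk1, -⟩ := hcent u (hU2 u hu) 1
    -- an element of `E` centralizing `U`
    obtain ⟨e, heE, he1, hecu, hecv⟩ : ∃ e ∈ E, e ≠ 1 ∧ u * e = e * u ∧ v * e = e * v := by
      have hvinv : v⁻¹ = v := inv_eq_of_mul_eq_one_right (hU2 v hv)
      have hvk : v * k * v ∈ E := by have := hEn.conj_mem k hkE v; rwa [hvinv] at this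
      by_cases h : v * k * v * k = 1
      · refine ⟨k, hkE, hk1, hku, ?_⟩
        calc v * k = (v * k * v * k) * k * v := by
              rw [mul_assoc (v * k * v) k k, hsq k hkE, mul_one, mul_assoc, hU2 v hv, mul_one]
          _ = k * v := by rw [h, one_mul]
      · refine ⟨v * k * v * k, mul_mem hvk hkE, h, ?_, ?_⟩
        · have hc : Commute u (v * k * v * k) :=
            (((Commute.mul_right (hUc u hu v hv) hku).mul_right (hUc u hu v hv)).mul_right hku)
          exact hc.eq
        · calc v * (v * k * v * k) = (v * v) * k * (v * k) := by group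
            _ = k * (v * k) := by rw [hU2 v hv, one_mul]
            _ = (k * (v * k * v)) * v := by
                rw [mul_assoc k (v * k * v) v, mul_assoc (v * k) v v, hU2 v hv, mul_one]
            _ = ((v * k * v) * k) * v := by rw [hcomm k hkE _ hvk]
            _ = v * k * v * k * v := by group
    have hUe : ∀ x ∈ U, x * e = e * x := by
      intro x hx
      rcases hUgen x hx with rfl | rfl | rfl | rfl
      · simp
      · exact hecu
      · exact hecv
      · exact (Commute.mul_left hecu hecv).eq
    -- a four group through `e`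
    obtain ⟨U', hU', heU', hUU'⟩ : ∃ U' : Subgroup P, IsKleinFour U' ∧ e ∈ U' ∧
        Relation.ReflTransGen Adj U U' := by
      by_cases heU : e ∈ U
      · exact ⟨U, hU, heU, .refl⟩
      · obtain ⟨hK', hK'mem⟩ := closure_pair_klein (hU2 u hu) (hsq e heE) hecu hu1 he1
          (fun h => heU (h ▸ hu))
        refine ⟨_, hK', subset_closure (by simp), .single ⟨hU, hK', fun a ha b hb => ?_⟩⟩
        rcases hK'mem b hb with rfl | rfl | rfl | rfl
        · simp
        · exact hUc a ha b hu
        · exact hUe a ha
        · exact (Commute.mul_right (hUc a ha u hu) (hUe a ha)).eq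
    by_cases hU'E : U' ≤ E
    · exact ⟨U', hU'E, hU', hUU'⟩
    obtain ⟨w, hw, hwE⟩ := SetLike.not_le_iff_exists.1 hU'E
    obtain ⟨hU'2, hU'c⟩ := klein_facts hU'
    obtain ⟨k', hk'E, hwk', hk'1, hk'e⟩ := hcent w (hU'2 w hw) e
    obtain ⟨hV, hVmem⟩ := closure_pair_klein (hsq e heE) (hsq k' hk'E) (hcomm e heE k' hk'E) he1
      hk'1 (Ne.symm hk'e)
    refine ⟨_, (closure_le E).2 (by rintro x (rfl | rfl) <;> assumption), hV,
      hUU'.tail ⟨hU', hV, fun a ha b hb => ?_⟩⟩
    obtain ⟨hW, hWmem⟩ := closure_pair_klein (hU'2 w hw) (hsq e heE) (hU'c w hw e heU')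
      (fun h => hwE (h ▸ one_mem E)) he1 (fun h => hwE (h ▸ heE))
    have : closure ({w, e} : Set P) = U' := by
      refine SetLike.coe_injective (Set.eq_of_subset_of_ncard_le ?_ ?_ (Set.toFinite _))
      · exact (closure_le U').2 (by rintro x (rfl | rfl) <;> assumption)
      · rw [← Nat.card_coe_set_eq, ← Nat.card_coe_set_eq]
        exact le_of_eq (hU'.card_four.trans hW.card_four.symm)
    have h1 : a * e = e * a := hU'c a ha e heU'
    have h2 : a * k' = k' * a := by
      rcases hWmem a (this.symm ▸ ha) with rfl | rfl | rfl | rfl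
      · simp
      · exact hwk'
      · exact hcomm _ heE k' hk'E
      · exact (Commute.mul_left hwk' (hcomm e heE k' hk'E)).eq
    rcases hVmem b hb with rfl | rfl | rfl | rfl
    · simp
    · exact h1
    · exact h2
    · exact (Commute.mul_right h1 h2).eq
  intro U V hU hV
  obtain ⟨U', hU'E, hU', hUU'⟩ := hstep U hU
  obtain ⟨V', hV'E, hV', hVV'⟩ := hstep V hV
  refine (hUU'.tail ⟨hU', hV', fun a ha b hb => hcomm a (hU'E ha) b (hV'E hb)⟩).trans ?_
  have hrev : ∀ {X Y : Subgroup P}, Relation.ReflTransGen Adj X Y → Relation.ReflTransGen Adj Y X := by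
    intro X Y h
    induction h with
    | refl => exact .refl
    | tail _ h2 ih => exact Relation.ReflTransGen.head (adj_symm h2) ih
  exact hrev hVV'


/-- If a finite 2-group has a normal elementary abelian subgroup of order at least 8, then any two of its Klein
four-subgroups are joined by a chain of Klein four-subgroups with consecutive members commuting elementwise. -/
theorem result {P : Type*} [Group P] [Finite P] (hP : IsPGroup 2 P)
    (E : Subgroup P) [E.Normal] (hE : IsMulCommutative E) (hE2 : ∀ e ∈ E, e ^ 2 = 1) (hE8 : 8 ≤ Nat.card E) :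
    Cfsg.IsFourConnected P := by
  exact four_connected hP E hE hE2 hE8

end Cfsg.Agent.S0502
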