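import Cfsg.Statements.S0949
import Cfsg.Agent.H86.Homocyclic

set_option autoImplicit false
open Cfsg

namespace Cfsg.Agent.S0949

open Subgroup Cfsg.Agent.H86

theorem eq_bot_of_hasNormalPComplement {G : Type*} [Group G] [Finite G]
    (hO : ∀ N : Subgroup G, N.Normal → Odd (Nat.card N) → N = ⊥)
    (h : HasNormalPComplement 2 G) (P : Sylow 2 G) : (P : Subgroup G) = ⊤ := by
  haveI : Fact (Nat.Prime 2) := ⟨Nat.prime_two⟩
  obtain ⟨N, hN, hc⟩ := (Fusion.hasNormalPComplement_iff_exists P).mp h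
  have h0 := hO N hN (Nat.odd_iff.2 (Nat.two_dvd_ne_zero.1 (Fusion.not_dvd_card_of_isComplement' P hc)))
  have := hc.sup_eq_top
  rwa [h0, bot_sup_eq] at this

/-- The group is 2-closed. -/
theorem normal_and_self_centralizing {G : Type*} [Group G] [Fintype G] (P : Sylow 2 G)
    [IsMulCommutative (P : Subgroup G)] {M : Ideal Cfsg.AlgInt} (hM : IsPModular 2 M) {g : G}
    (hg : Rotor P g) (h4 : Nat.card {x : (P : Subgroup G) // x ^ 2 = 1} ≤ 4)
    (hq : 16 ≤ Nat.card (P : Subgroup G))
    (hO : ∀ N : Subgroup G, N.Normal → Odd (Nat.card N) → N = ⊥) :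
    (P : Subgroup G).Normal ∧ centralizer (P : Set G) = (P : Subgroup G) := by
  classical
  haveI : Fact (Nat.Prime 2) := ⟨Nat.prime_two⟩
  haveI : Fintype (P : Subgroup G) := Fintype.ofFinite _
  obtain ⟨χ, hχ, hχ1, hne, hχP⟩ := exists_linear P hg h4 hM hq
  let f : G →* ℂ :=
    { toFun := (χ : G → ℂ), map_one' := hχ1, map_mul' := apply_mul_of_one χ.2 hχ1 }
  set K := f.ker
  have hPK : (P : Subgroup G) ≤ K := fun y hy => hχP y hy
  have hCK : centralizer ((P : Subgroup G) : Set G) ≤ K := by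
    intro c hc
    show (χ : G → ℂ) c = 1
    obtain ⟨a, b, rfl, ha, hb, ⟨k, hak⟩, hbp⟩ := Fusion.exists_mul_eq_pPart (p := 2) c
    have haC := zpowers_le.mpr hc ha
    have hbC := zpowers_le.mpr hc hb
    have haP : a ∈ (P : Subgroup G) := by
      have hA : IsPGroup 2 (zpowers a) := by
        refine IsPGroup.of_card_dvd_pow (n := k) ?_
        rw [Nat.card_zpowers]; exact hak
      have hle : (P : Subgroup G) ⊔ zpowers a = (P : Subgroup G) :=
        P.is_maximal' (P.isPGroup'.to_sup_of_normal_left' hA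
          (zpowers_le.mpr (centralizer_le_normalizer _ haC))) le_sup_left
      exact hle ▸ mem_sup_right (mem_zpowers a)
    obtain ⟨x, hx, hx1⟩ : ∃ x ∈ (P : Subgroup G), x ≠ 1 := by
      by_contra h
      push Not at h
      have : (P : Subgroup G) = ⊥ := (eq_bot_iff_forall _).2 h
      rw [this, card_bot] at hq
      omega
    have hbx : b ∈ centralizer ({x} : Set G) :=
      mem_centralizer_singleton_iff.2 (mem_centralizer_iff.1 hbC x hx).symm
    obtain ⟨j, hj⟩ := IsPGroup.iff_orderOf.1 P.isPGroup' ⟨x, hx⟩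
    have h1 := principal_apply_mul hM ⟨j, by rw [← hj, Subgroup.orderOf_mk]⟩ (pNilAt_of_mem P h4 hx hx1) hχ
      (c := ⟨b, hbx⟩) (by rw [Subgroup.orderOf_mk]; exact (Nat.prime_two.coprime_iff_not_dvd).1 hbp.symm)
    rw [apply_mul_of_one χ.2 hχ1, hχP x hx, one_mul] at h1
    rw [apply_mul_of_one χ.2 hχ1, hχP a haP, h1, one_mul]
  haveI : K.Normal := inferInstance
  have hKtop : K ≠ ⊤ := fun h => hne (Subtype.ext (funext fun y =>
    show (χ : G → ℂ) y = 1 from (h ▸ mem_top y : y ∈ K)))
  have hgK : g ∉ K := by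
    intro hgK
    apply hKtop
    have hNK : normalizer ((P : Subgroup G) : Set G) ≤ K := by
      intro n hn
      obtain ⟨i, hi⟩ := hg.cover n hn
      have := K.mul_mem (K.pow_mem hgK (i : ℕ)) (hCK hi)
      rwa [mul_inv_cancel_left] at this
    rw [← Sylow.normalizer_sup_eq_top' P hPK]
    exact (sup_eq_right.2 hNK).symm
  set Q := P.subtype hPK
  have hQC : normalizer ((Q : Subgroup K) : Set K) ≤ centralizer ((Q : Subgroup K) : Set K) := by
    intro n hn
    have hnN : (n : G) ∈ normalizer (P : Set G) := by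
      refine mem_normalizer_iff.mpr fun y => ?_
      constructor
      · exact fun hy => (mem_normalizer_iff.mp hn ⟨y, hPK hy⟩).1 hy
      · intro hy
        have hy' : y ∈ K := by
          have := K.mul_mem (K.mul_mem (K.inv_mem n.2) (hPK hy)) n.2
          simpa [mul_assoc] using this
        exact (mem_normalizer_iff.mp hn ⟨y, hy'⟩).2 hy
    obtain ⟨i, hi⟩ := hg.cover _ hnN
    have hgi : g ^ (i : ℕ) ∈ K := by
      have := K.mul_mem n.2 (K.inv_mem (hCK hi))
      simpa [mul_assoc] using this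
    have hnC : (n : G) ∈ centralizer ((P : Subgroup G) : Set G) := by
      have hi3 := i.2
      rcases (by omega : (i : ℕ) = 0 ∨ (i : ℕ) = 1 ∨ (i : ℕ) = 2) with e | e | e <;> rw [e] at hgi hi
      · simpa using hi
      · exact absurd (by simpa using hgi) hgK
      · refine absurd ?_ hgK
        have := K.mul_mem (hCK hg.cube) (K.inv_mem hgi)
        rwa [show g ^ 3 * (g ^ 2)⁻¹ = g by group] at this
    exact mem_centralizer_iff.2 fun y hy => Subtype.ext (mem_centralizer_iff.1 hnC y hy)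
  have hnc := Fusion.hasNormalPComplement_of_normalizer_le_centralizer Q hQC
  have hcore : pPrimeCore 2 G = ⊥ :=
    hO _ inferInstance (Nat.odd_iff.2 (Nat.two_dvd_ne_zero.1 Cores.not_dvd_card_pPrimeCore))
  have hQtop : (Q : Subgroup K) = ⊤ := by
    obtain ⟨N, hN, hc⟩ := (Fusion.hasNormalPComplement_iff_exists Q).mp hnc
    have hNle : N ≤ pPrimeCore 2 K :=
      Cores.le_pPrimeCore (((Nat.prime_two.coprime_iff_not_dvd).2 (Fusion.not_dvd_card_of_isComplement' Q hc)).symm)
    have hbot : N = ⊥ := by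
      have h := (Subgroup.map_mono (f := K.subtype) hNle).trans (Cores.map_pPrimeCore_le_of_normal K)
      rw [hcore, le_bot_iff, Subgroup.map_eq_bot_iff_of_injective _ K.subtype_injective] at h
      exact h
    have := hc.sup_eq_top
    rwa [hbot, bot_sup_eq] at this
  have hKP : (P : Subgroup G) = K := le_antisymm hPK fun y hy =>
    (show (⟨y, hy⟩ : K) ∈ (Q : Subgroup K) by rw [hQtop]; exact mem_top _)
  refine ⟨hKP ▸ inferInstance, le_antisymm ?_ (le_centralizer_iff_isMulCommutative.mpr inferInstance)⟩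
  exact fun c hc => hKP.symm ▸ hCK hc

/-- Let the finite group G have a Sylow 2-subgroup P isomorphic to Z/2^m × Z/2^m with m ≥ 2, and suppose G has no nontrivial normal subgroup of odd order. Then P is normal in G, C_G(P) = P, and the index of P is 1 or 3. -/
theorem result {G : Type*} [Group G] [Finite G] (P : Sylow 2 G) (m : ℕ) (hm : 2 ≤ m) (e : (P : Subgroup G) ≃* Multiplicative (ZMod (2 ^ m) × ZMod (2 ^ m))) (hO : ∀ N : Subgroup G, N.Normal → Odd (Nat.card N) → N = ⊥) : (P : Subgroup G).Normal ∧ Subgroup.centralizer (P : Set G) = (P : Subgroup G) ∧ ((P : Subgroup G).index = 1 ∨ (P : Subgroup G).index = 3) := by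
  classical
  cases nonempty_fintype G
  haveI : Fact (Nat.Prime 2) := ⟨Nat.prime_two⟩
  haveI hab : IsMulCommutative (P : Subgroup G) :=
    ⟨⟨fun a b => e.injective (by rw [map_mul, map_mul, mul_comm])⟩⟩
  have h4 := H86.card_sq_eq_one_le m e
  have hq : 16 ≤ Nat.card (P : Subgroup G) := by
    rw [Nat.card_congr e.toEquiv, Nat.card_eq_of_bijective Multiplicative.toAdd
      Multiplicative.toAdd.bijective, Nat.card_prod, Nat.card_zmod]
    calc 16 = 2 ^ 2 * 2 ^ 2 := by norm_num
      _ ≤ 2 ^ m * 2 ^ m := Nat.mul_le_mul (Nat.pow_le_pow_right two_pos hm) (Nat.pow_le_pow_right two_pos hm)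
  by_cases hnc : HasNormalPComplement 2 G
  · have htop := eq_bot_of_hasNormalPComplement hO hnc P
    refine ⟨htop ▸ inferInstance, ?_, Or.inl (by rw [htop]; exact index_top)⟩
    refine le_antisymm (by rw [htop]; exact le_top) (le_centralizer_iff_isMulCommutative.mpr hab)
  obtain ⟨g, hg⟩ := H86.exists_rotor P h4 hnc
  obtain ⟨M, hM⟩ := BlockBasic.exists_isPModular Nat.prime_two
  obtain ⟨hn, hc⟩ := normal_and_self_centralizing P hM hg h4 hq hO
  refine ⟨hn, hc, Or.inr ?_⟩
  have hNtop : normalizer ((P : Subgroup G) : Set G) = ⊤ := normalizer_eq_top_iff.2 hn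
  rw [index_eq_card, ← Nat.card_fin 3]
  refine (Nat.card_congr (Equiv.ofBijective
    (fun i : Fin 3 => ((g ^ (i : ℕ) : G) : G ⧸ (P : Subgroup G))) ⟨?_, ?_⟩)).symm
  · intro i j h
    rw [QuotientGroup.eq] at h
    have key : ∀ i j : Fin 3, (i : ℕ) < (j : ℕ) → g ^ ((j : ℕ) - (i : ℕ)) ∉ (P : Subgroup G) := by
      intro i j hij hmem
      rw [← hc] at hmem
      have hj := j.2
      rcases (by omega : (j : ℕ) - (i : ℕ) = 1 ∨ (j : ℕ) - (i : ℕ) = 2) with e | e <;> rw [e] at hmem
      · exact hg.not_mem (by simpa using hmem)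
      · refine hg.not_mem ?_
        have := mul_mem hg.cube (inv_mem hmem)
        rwa [show g ^ 3 * (g ^ 2)⁻¹ = g by group] at this
    rcases lt_trichotomy (i : ℕ) (j : ℕ) with hl | hl | hl
    · exact absurd (by rwa [pow_sub g hl.le, (Commute.pow_pow (Commute.refl g) j i).inv_right.eq]) (key i j hl)
    · exact Fin.ext hl
    · refine absurd ?_ (key j i hl)
      have h' := inv_mem h
      rw [mul_inv_rev, inv_inv] at h'
      rwa [pow_sub g hl.le, (Commute.pow_pow (Commute.refl g) i j).inv_right.eq]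
  · intro q
    obtain ⟨n, rfl⟩ := QuotientGroup.mk_surjective q
    obtain ⟨i, hi⟩ := hg.cover n (hNtop ▸ mem_top n)
    exact ⟨i, QuotientGroup.eq.2 (hc ▸ hi)⟩

end Cfsg.Agent.S0949
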