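import Cfsg.Statements.S1898


set_option autoImplicit false
open Cfsg

namespace Cfsg.Agent.S1898

open scoped commutatorElement

theorem four_mul {X : Type*} [Group X]
    (hsq : ∀ x y : X, x ^ 2 * y = y * x ^ 2) (hc : ∀ x y : X, ⁅x, y⁆ ^ 2 = 1)
    (hcen : commutator X ≤ Subgroup.center X) (x y : X) :
    (x * y) ^ 4 = x ^ 4 * y ^ 4 := by
  have hcc : ∀ a b z : X, z * ⁅a, b⁆ = ⁅a, b⁆ * z := fun a b z =>
    Subgroup.mem_center_iff.mp (hcen (Subgroup.commutator_mem_commutator
      (Subgroup.mem_top a) (Subgroup.mem_top b))) z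
  have h1 : (x * y) ^ 2 = x ^ 2 * y ^ 2 * ⁅y, x⁆ := by
    have e : y * x = ⁅y, x⁆ * (x * y) := by group
    calc (x * y) ^ 2 = x * (y * x) * y := by simp only [pow_two, mul_assoc]
      _ = x * (⁅y, x⁆ * (x * y)) * y := by rw [← e]
      _ = ⁅y, x⁆ * (x ^ 2 * y ^ 2) := by
          rw [← mul_assoc x ⁅y, x⁆, hcc]; simp only [pow_two, mul_assoc]
      _ = x ^ 2 * y ^ 2 * ⁅y, x⁆ := (hcc _ _ _).symm
  have c1 : Commute (x ^ 2 * y ^ 2) ⁅y, x⁆ := hcc _ _ _
  have c2 : Commute (x ^ 2) (y ^ 2) := hsq x (y ^ 2)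
  calc (x * y) ^ 4 = ((x * y) ^ 2) ^ 2 := by rw [← pow_mul]
    _ = (x ^ 2) ^ 2 * (y ^ 2) ^ 2 := by rw [h1, c1.mul_pow, c2.mul_pow, hc, mul_one]
    _ = x ^ 4 * y ^ 4 := by rw [← pow_mul, ← pow_mul]

/-- Let X be a finite 2-group whose derived subgroup is elementary abelian and central. Then the subgroup generated by the elements of order dividing 4 has exponent dividing 4, and every automorphism of X fixing each element of order dividing 4 has 2-power order. -/
theorem result {X : Type*} [Group X] [Finite X] (hX : IsPGroup 2 X)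
    (hel : Cfsg.IsElementaryAbelian 2 (commutator X)) (hcen : commutator X ≤ Subgroup.center X) :
    (∀ x ∈ Subgroup.closure {g : X | g ^ 4 = 1}, x ^ 4 = 1) ∧
      ∀ φ : MulAut X, (∀ g : X, g ^ 4 = 1 → φ g = g) → ∃ k : ℕ, φ ^ (2 ^ k) = 1 := by
  have hc : ∀ x y : X, ⁅x, y⁆ ^ 2 = 1 := fun x y =>
    hel.2 _ (Subgroup.commutator_mem_commutator (Subgroup.mem_top x) (Subgroup.mem_top y))
  have hcc : ∀ a b z : X, z * ⁅a, b⁆ = ⁅a, b⁆ * z := fun a b z =>
    Subgroup.mem_center_iff.mp (hcen (Subgroup.commutator_mem_commutator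
      (Subgroup.mem_top a) (Subgroup.mem_top b))) z
  have hsq : ∀ x y : X, x ^ 2 * y = y * x ^ 2 := by
    intro x y
    calc x ^ 2 * y = x * ⁅x, y⁆ * (y * x) := by
          simp [pow_two, commutatorElement_def, mul_assoc]
      _ = ⁅x, y⁆ * x * (y * x) := by rw [hcc]
      _ = ⁅x, y⁆ ^ 2 * (y * x ^ 2) := by
          simp [pow_two, commutatorElement_def, mul_assoc]
      _ = y * x ^ 2 := by rw [hc, one_mul]
  have h4 := four_mul hsq hc hcen
  refine ⟨fun x hx => ?_, fun φ hφ => ?_⟩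
  · induction hx using Subgroup.closure_induction with
    | mem x hx => exact hx
    | one => simp
    | mul x y _ _ hx hy => rw [h4, hx, hy, one_mul]
    | inv x _ hx => rw [inv_pow, hx, inv_one]
  have key : ∀ j : ℕ, ∀ x : X, x ^ (2 ^ (j + 2)) = 1 → (φ ^ (4 ^ j)) x = x := by
    intro j
    induction j with
    | zero => intro x hx; simpa using hφ x (by simpa using hx)
    | succ j ih =>
      intro x hx
      set ψ := φ ^ (4 ^ j) with hψ
      have hx2 : ψ (x ^ 2) = x ^ 2 := ih _ (by rw [← pow_mul]; convert hx using 2; ring)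
      have hd4 : (x⁻¹ * ψ x) ^ 4 = 1 := by
        rw [h4, inv_pow, ← map_pow, show x ^ 4 = (x ^ 2) ^ 2 by rw [← pow_mul], map_pow, hx2,
          inv_mul_cancel]
      have hdfix : ψ (x⁻¹ * ψ x) = x⁻¹ * ψ x := by
        have hfix := hφ _ hd4
        have : ∀ m : ℕ, (φ ^ m) (x⁻¹ * ψ x) = x⁻¹ * ψ x := by
          intro m
          induction m with
          | zero => simp
          | succ m ihm => rw [pow_succ, MulAut.mul_apply, hfix, ihm]
        exact this _
      have hstep : ∀ m : ℕ, (ψ ^ m) x = x * (x⁻¹ * ψ x) ^ m := by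
        intro m
        induction m with
        | zero => simp
        | succ m ihm =>
          rw [pow_succ', MulAut.mul_apply, ihm, map_mul, map_pow, hdfix, pow_succ' _ m]
          simp [mul_assoc]
      rw [pow_succ, pow_mul, ← hψ, hstep, hd4, mul_one]
  obtain ⟨n, hn⟩ := IsPGroup.iff_card.mp hX
  refine ⟨2 * n, MulEquiv.ext fun x => ?_⟩
  rw [pow_mul, show (2:ℕ) ^ 2 = 4 by norm_num]
  refine key n x ?_
  rw [pow_add, pow_mul, ← hn, pow_card_eq_one', one_pow]

end Cfsg.Agent.S1898
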