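import Cfsg.Statements.S1237
import Cfsg.Agent.H28.RankTwoOrder
import Cfsg.Agent.H28.RankTwoFPF
import Cfsg.Agent.H28.RankTwoModel
import Cfsg.Agent.H33.SylU.Embed

set_option autoImplicit false
open Cfsg

namespace Cfsg.Agent.S1237
open H28.RankTwo H33.SylU

/-- The model has a fixed-point-free automorphism of order three. -/
theorem heis_dat {F : Type*} [Field F] [Fintype F] [QField F 2] :
    Nonempty (H63.SixtyFour.Dat (Heis F 2)) := by
  have hF : Nat.card F = 16 := by rw [Nat.card_eq_fintype_card, (inferInstance : QField F 2).card]; norm_num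
  have hcu : Nat.card Fˣ = 15 := by rw [Nat.card_units, hF]
  have : Fact (Nat.Prime 3) := ⟨Nat.prime_three⟩
  obtain ⟨m, hm⟩ := exists_prime_orderOf_dvd_card' (G := Fˣ) 3 (by rw [hcu]; norm_num)
  have hm3 : ((m : F)) ^ 3 = 1 := by
    rw [← Units.val_pow_eq_pow_val, ← hm, pow_orderOf_eq_one, Units.val_one]
  have hm1 : (m : F) ≠ 1 := fun h => by
    rw [Units.val_eq_one] at h
    rw [h, orderOf_one] at hm
    norm_num at hm
  have hfix : cj2 2 (m : F) = m := by
    show (m : F) ^ (2 ^ 2) = m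
    rw [show (2 : ℕ) ^ 2 = 3 + 1 by norm_num, pow_succ, hm3, one_mul]
  let u : fixUnits F 2 := ⟨m, hfix⟩
  refine ⟨⟨torusAut u, fun g => ?_, fun g hg => ?_, ?_, ?_⟩⟩
  · refine Heis.ext ?_ ?_
    · rw [torusAut_a, torusAut_a, torusAut_a]
      linear_combination g.a * hm3
    · rw [torusAut_b, torusAut_b, torusAut_b]
      linear_combination (g.b * ((m : F) ^ 3 + 1)) * hm3
  · have ha := congrArg Heis.a hg
    have hb := congrArg Heis.b hg
    rw [torusAut_a] at ha
    rw [torusAut_b] at hb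
    have hm2 : (m : F) * m ≠ 1 := fun h => hm1 (by linear_combination hm3 - (m : F) * h)
    refine Heis.ext ?_ ?_
    · have : ((m : F) - 1) * g.a = 0 := by rw [sub_mul, one_mul, ha, sub_self]
      exact (mul_eq_zero.1 this).resolve_left (sub_ne_zero.2 hm1)
    · have : ((m : F) * m - 1) * g.b = 0 := by rw [sub_mul, one_mul, hb, sub_self]
      exact (mul_eq_zero.1 this).resolve_left (sub_ne_zero.2 hm2)
  · rw [card_heis]; norm_num
  · intro hc
    have h1 : Subgroup.center (Heis F 2) = ⊤ :=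
      eq_top_iff.2 fun g _ => Subgroup.mem_center_iff.2 fun k => hc.is_comm.comm k g
    have h2 := card_center (F := F) (n := 2)
    rw [h1, Subgroup.card_top, card_heis] at h2
    norm_num at h2

/-- Let T be a finite 2-group of 2-rank exactly 2 (it has a Klein four-subgroup but no elementary abelian subgroup of order 8) admitting an automorphism φ such that any two involutions of T are carried to one another by a power of φ. Then T ≅ Z_{2^n} × Z_{2^n} for some n ≥ 1, or T is isomorphic to a Sylow 2-subgroup of PSU(3) over the field with 16 elements. -/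
theorem result {T : Type*} [Group T] [Finite T] (hT : IsPGroup 2 T) (h2 : Cfsg.PRankLE 2 2 T) (h1 : ¬ Cfsg.PRankLE 2 1 T) (φ : MulAut T) (htrans : ∀ s t : T, orderOf s = 2 → orderOf t = 2 → ∃ k : ℕ, (φ ^ k) s = t) {F : Type*} [Field F] [Fintype F] (hF : Fintype.card F = 16) (P : Sylow 2 (Cfsg.PSU 3 F 4)) : (∃ n : ℕ, 1 ≤ n ∧ Nonempty (T ≃* Multiplicative (ZMod (2 ^ n) × ZMod (2 ^ n)))) ∨ Nonempty (T ≃* (P : Subgroup (Cfsg.PSU 3 F 4))) := by
  classical
  obtain ⟨hz, hI, σ, h3, hfp⟩ := exists_fpf hT h2 h1 φ htrans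
  let d : Hyp T := ⟨hT, σ, h3, hfp, hz, hI⟩
  by_cases hc : IsMulCommutative T
  · obtain ⟨n, -, -, hcard, ⟨e⟩⟩ := d.homocyclic ⊤ (fun x _ => Subgroup.mem_top _)
      (fun a _ b _ => hc.is_comm.comm a b)
    refine Or.inl ⟨n, ?_, ⟨Subgroup.topEquiv.symm.trans e⟩⟩
    by_contra h
    rw [Subgroup.card_top, show n = 0 by omega, pow_zero] at hcard
    have := (Nat.card_le_card_of_injective (fun x : {x : T // x ^ 2 = 1} => x.1)
      Subtype.val_injective)
    omega
  · refine Or.inr ?_
    have : H33.SylU.QField F 2 := ⟨by rw [hF]; norm_num⟩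
    let d₁ : H63.SixtyFour.Dat T := ⟨σ, h3, hfp, d.card_sixtyFour hc, hc⟩
    obtain ⟨d₂⟩ := heis_dat (F := F)
    obtain ⟨e⟩ := nonempty_mulEquiv d₁ d₂ (fun g hg => hz g (by rw [pow_two]; exact hg))
      (fun g hg => mem_center_iff.2 (mul_self_eq_one_iff.1 hg))
    obtain ⟨e'⟩ := nonempty_equiv_PSU (F := F) (n := 2) P
    exact ⟨e.trans e'⟩

end Cfsg.Agent.S1237
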