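import Cfsg.Statements.S1248
import Mathlib
import Cfsg.Agent.H33.SylU.Transfer

set_option autoImplicit false
open Cfsg

namespace Cfsg.Agent.S1248

open Cfsg.Agent.H33.SylU

theorem facts {F : Type*} [Field F] [Fintype F] [QField F 2] {G : Type*} [Group G] (e : Heis F 2 ≃* G) :
    Nat.card G = 64 ∧ IsKleinFour (Subgroup.center G) ∧
      Subgroup.center G = Subgroup.closure {x : G | orderOf x = 2} ∧
      Subgroup.center G = commutator G ∧ Nat.card (G ⧸ Subgroup.center G) = 16 ∧
      ∀ x : G ⧸ Subgroup.center G, x ^ 2 = 1 := by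
  have : Finite G := Finite.of_equiv _ e.toEquiv
  have hc : Nat.card (Subgroup.center G) = 4 := by
    rw [← center_map (F := F) (n := 2) e, Subgroup.card_map_of_injective (f := e.toMonoidHom) e.injective,
      card_center]
    norm_num
  have hS : Nat.card G = 64 := by
    rw [← Nat.card_congr e.toEquiv, card_heis]
    norm_num
  have hsq : ∀ x : G,
      x ∈ Subgroup.center G → x * x = 1 := by
    intro x hx
    rw [← center_map (F := F) (n := 2) e] at hx
    obtain ⟨g, hg, rfl⟩ := hx
    show e g * e g = 1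
    rw [← map_mul, mul_self_eq_one_iff.2 (mem_center_iff.1 hg), map_one]
  refine ⟨hS, ⟨hc, ?_⟩, ?_, ?_, ?_, ?_⟩
  · refine Nat.dvd_antisymm (Monoid.exponent_dvd_of_forall_pow_eq_one fun x => ?_) ?_
    · refine Subtype.ext ?_
      rw [Subgroup.coe_pow, sq, hsq x.1 x.2]
      rfl
    · have : 1 < Nat.card (Subgroup.center G) := by omega
      have : Nontrivial (Subgroup.center G) := Finite.one_lt_card_iff_nontrivial.1 this
      obtain ⟨x, hx⟩ := exists_ne (α := Subgroup.center G) 1
        
      rw [← orderOf_eq_prime (p := 2) (x := x) (Subtype.ext (by rw [Subgroup.coe_pow, sq, hsq x.1 x.2]; rfl)) hx]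
      exact Monoid.order_dvd_exponent x
  · rw [← center_map (F := F) (n := 2) e, ← closure_involutions, MonoidHom.map_closure]
    congr 1
    ext x
    constructor
    · rintro ⟨g, hg, rfl⟩
      show orderOf (e g) = 2
      rw [MulEquiv.orderOf_eq]
      exact hg
    · intro hx
      refine ⟨e.symm x, ?_, e.apply_symm_apply x⟩
      show orderOf (e.symm x) = 2
      rw [MulEquiv.orderOf_eq]
      exact hx
  · rw [← center_map (F := F) (n := 2) e, ← commutator_eq_center, commutator_def, commutator_def,
      Subgroup.map_commutator, Subgroup.map_top_of_surjective _ e.surjective]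
  · have h := Subgroup.card_eq_card_quotient_mul_card_subgroup
      (Subgroup.center G)
    rw [hS, hc] at h
    omega
  · intro x
    obtain ⟨x, rfl⟩ := QuotientGroup.mk'_surjective _ x
    rw [← map_pow, QuotientGroup.mk'_apply, QuotientGroup.eq_one_iff, sq]
    obtain ⟨g, rfl⟩ := e.surjective x
    rw [← map_mul, sq_eq, ← center_map (F := F) (n := 2) e]
    exact ⟨_, mem_center_iff.2 rfl, rfl⟩

/-- Let F be a field with 16 elements and S a Sylow 2-subgroup of PSU(3) over F (the unitary group U₃(4)). Then |S| = 64; the centre Z(S) is a Klein four-group and coincides with the subgroup generated by the involutions of S and with the derived subgroup; and every element of S ⧸ Z(S) squares to the identity, S ⧸ Z(S) having order 16. -/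
theorem result {F : Type*} [Field F] [Fintype F] (hF : Fintype.card F = 16) (S : Sylow 2 (Cfsg.PSU 3 F 4)) : Nat.card S = 64 ∧ IsKleinFour (Subgroup.center (S : Subgroup (Cfsg.PSU 3 F 4))) ∧ Subgroup.center (S : Subgroup (Cfsg.PSU 3 F 4)) = Subgroup.closure {x : (S : Subgroup (Cfsg.PSU 3 F 4)) | orderOf x = 2} ∧ Subgroup.center (S : Subgroup (Cfsg.PSU 3 F 4)) = commutator (S : Subgroup (Cfsg.PSU 3 F 4)) ∧ Nat.card ((S : Subgroup (Cfsg.PSU 3 F 4)) ⧸ Subgroup.center (S : Subgroup (Cfsg.PSU 3 F 4))) = 16 ∧ ∀ x : (S : Subgroup (Cfsg.PSU 3 F 4)) ⧸ Subgroup.center (S : Subgroup (Cfsg.PSU 3 F 4)), x ^ 2 = 1 := by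
  have : QField F 2 := ⟨by rw [hF]; norm_num⟩
  obtain ⟨e⟩ := nonempty_equiv_PSU (F := F) (n := 2) S
  exact facts e

end Cfsg.Agent.S1248
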