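import Cfsg.Statements.S1238
import Cfsg.Agent.H29.RankTwoFusion.Main
import Cfsg.Agent.FusionSys.Group

set_option autoImplicit false
set_option linter.style.haveILetI false
open Cfsg

namespace Cfsg.Agent.S1238

/-- Let G be a finite group of 2-rank 2 (a Klein four-subgroup but no elementary abelian subgroup of order 8) which is fusion simple: G has no subgroup of index 2 and no isolated involution. Let S be a Sylow 2-subgroup. Then S is dihedral, quasi-dihedral, wreathed, isomorphic to Z_{2^n} × Z_{2^n} for some n ≥ 2, or isomorphic to a Sylow 2-subgroup of PSU(3) over the field with 16 elements. -/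
theorem result {G : Type*} [Group G] [Finite G] (h2 : Cfsg.PRankLE 2 2 G) (h1 : ¬ Cfsg.PRankLE 2 1 G) (hidx : ∀ H : Subgroup G, H.index ≠ 2) (hiso : ∀ z : G, ¬ Cfsg.IsIsolatedInvolution z) (S : Sylow 2 G) {F : Type*} [Field F] [Fintype F] (hF : Fintype.card F = 16) (P : Sylow 2 (Cfsg.PSU 3 F 4)) : (∃ m : ℕ, 2 ≤ m ∧ Nonempty ((S : Subgroup G) ≃* DihedralGroup m)) ∨ Cfsg.IsQuasiDihedral (S : Subgroup G) ∨ Cfsg.IsWreathed (S : Subgroup G) ∨ (∃ n : ℕ, 2 ≤ n ∧ Nonempty ((S : Subgroup G) ≃* Multiplicative (ZMod (2 ^ n) × ZMod (2 ^ n)))) ∨ Nonempty ((S : Subgroup G) ≃* (P : Subgroup (Cfsg.PSU 3 F 4))) := by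
  classical
  haveI : Fact (Nat.Prime 2) := ⟨Nat.prime_two⟩
  have hrk : H29.RankTwoFusion.RankTwo (S : Subgroup G) := fun A _ hc he => h2 A hc he
  have hr1 : ¬ ∀ A : Subgroup G, A ≤ (S : Subgroup G) → IsMulCommutative A → (∀ a ∈ A, a ^ 2 = 1) →
      Nat.card A ≤ 2 := by
    intro h
    refine h1 fun A hc he => ?_
    have hA : IsPGroup 2 A := fun a => ⟨1, Subtype.ext (by simpa using he a a.2)⟩
    obtain ⟨R, hR⟩ := hA.exists_le_sylow
    obtain ⟨g, hg⟩ := MulAction.exists_smul_eq G R S
    have hle : A.map (MulAut.conj g).toMonoidHom ≤ (S : Subgroup G) := by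
      rw [← hg]
      exact Subgroup.map_mono hR
    have h' := h _ hle ⟨⟨?_⟩⟩ ?_
    · rw [Subgroup.card_map_of_injective (MulAut.conj g).injective] at h'
      simpa using h'
    · rintro ⟨_, x, hx, rfl⟩ ⟨_, y, hy, rfl⟩
      refine Subtype.ext ?_
      have h := congrArg Subtype.val (hc.is_comm.comm ⟨x, hx⟩ ⟨y, hy⟩)
      show MulAut.conj g x * MulAut.conj g y = MulAut.conj g y * MulAut.conj g x
      rw [← map_mul, ← map_mul]
      exact congrArg _ h
    · rintro _ ⟨x, hx, rfl⟩
      rw [← map_pow, he x hx, map_one]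
  have hZ : (groupFusionSystem (S : Subgroup G)).center = ⊥ := by
    by_contra hne
    have hc := Cfsg.Agent.H89.isCentral_center (groupFusionSystem (S : Subgroup G))
    have hZS := hc.1
    obtain ⟨k, hk⟩ := (S.isPGroup'.to_le hZS).exists_card_eq
    obtain ⟨u, hu⟩ := exists_prime_orderOf_dvd_card'
      (G := (groupFusionSystem (S : Subgroup G)).center) 2 (by
      rw [hk]
      exact dvd_pow_self 2 fun h0 => hne (Subgroup.eq_bot_of_card_eq _ (by rw [hk, h0, pow_zero])))
    rw [← Subgroup.orderOf_coe] at hu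
    have huS : (u : G) ∈ (S : Subgroup G) := hZS u.2
    have hfix : ∀ b : G, b * u * b⁻¹ ∈ (S : Subgroup G) → b * u * b⁻¹ = u := by
      intro b hb
      have hm : Cfsg.Agent.FusionSys.IsMap (groupFusionSystem (S : Subgroup G))
          (Subgroup.zpowers (u : G)) (fun x => b * x * b⁻¹) := by
        refine Cfsg.Agent.FusionSys.isMap_group_iff.2
          ⟨Subgroup.zpowers_le.2 huS, b, fun x hx => ⟨?_, rfl⟩⟩
        obtain ⟨i, rfl⟩ := Subgroup.mem_zpowers_iff.1 hx
        rw [← conj_zpow]
        exact zpow_mem hb i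
      exact Cfsg.Agent.FusionSys.fix_of_isCentral hc hm (Subgroup.mem_zpowers _) u.2
    refine hiso u ⟨hu, fun g hg => ?_⟩
    -- both involutions lie in one conjugate of `S`
    let B : Subgroup G := Subgroup.closure {(u : G), g * u * g⁻¹}
    have hB : IsPGroup 2 B := by
      intro x
      refine ⟨1, Subtype.ext ?_⟩
      rw [pow_one, Subgroup.coe_pow, Subgroup.coe_one]
      have hu2 : (u : G) * u = 1 := by
        rw [← pow_two]
        exact orderOf_dvd_iff_pow_eq_one.1 (dvd_of_eq hu)
      have hcomm : ∀ v ∈ B, ∀ w ∈ B, v * w = w * v := by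
        intro v hv w hw
        induction hv, hw using Subgroup.closure_induction₂ with
        | mem v w hv hw =>
          simp only [Set.mem_insert_iff, Set.mem_singleton_iff] at hv hw
          rcases hv with rfl | rfl <;> rcases hw with rfl | rfl <;>
            first | rfl | exact hg.eq | exact hg.eq.symm
        | one_left v _ => simp
        | one_right v _ => simp
        | mul_left u v w _ _ _ h1 h2 => exact (Commute.mul_left h1 h2 : _)
        | mul_right u v w _ _ _ h1 h2 => exact (Commute.mul_right h1 h2 : _)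
        | inv_left u v _ _ h => exact (Commute.inv_left h : _)
        | inv_right u v _ _ h => exact (Commute.inv_right h : _)
      have key : ∀ v ∈ B, v ^ 2 = 1 := by
        intro v hv
        induction hv using Subgroup.closure_induction with
        | mem v hv =>
          simp only [Set.mem_insert_iff, Set.mem_singleton_iff] at hv
          rcases hv with rfl | rfl
          · rw [pow_two, hu2]
          · rw [pow_two, show g * (u : G) * g⁻¹ * (g * u * g⁻¹) = g * (u * u) * g⁻¹ by group, hu2,
              mul_one, mul_inv_cancel]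
        | one => simp
        | mul v w hv hw h1 h2 => rw [(show Commute v w from hcomm v hv w hw).mul_pow, h1, h2, one_mul]
        | inv v _ h => rw [inv_pow, h, inv_one]
      exact key x x.2
    obtain ⟨R, hR⟩ := hB.exists_le_sylow
    obtain ⟨a, ha⟩ := MulAction.exists_smul_eq G R S
    have hmem : ∀ {y : G}, y ∈ R → a * y * a⁻¹ ∈ (S : Subgroup G) := fun {y} hy => by
      rw [← ha]
      exact ⟨y, hy, rfl⟩
    have e1 := hfix a (hmem (hR (Subgroup.subset_closure (by simp))))
    have e2 := hfix (a * g) (by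
      rw [show a * g * u * (a * g)⁻¹ = a * (g * u * g⁻¹) * a⁻¹ by group]
      exact hmem (hR (Subgroup.subset_closure (by simp))))
    rw [show a * g * u * (a * g)⁻¹ = a * (g * u * g⁻¹) * a⁻¹ by group] at e2
    exact mul_left_cancel (mul_right_cancel (e2.trans e1.symm))
  rcases H29.RankTwoFusion.main S.isPGroup' _ (Cfsg.Agent.FusionSys.isSaturated_group S) hrk hr1 hZ hF P
    with h | h | h | ⟨n, hn, ⟨e⟩⟩ | h
  · exact Or.inl h
  · exact Or.inr (Or.inl h)
  · exact Or.inr (Or.inr (Or.inl h))
  · rcases eq_or_lt_of_le hn with rfl | hn2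
    · haveI : IsKleinFour (Multiplicative (ZMod (2 ^ 1) × ZMod (2 ^ 1))) :=
        (inferInstance : IsKleinFour (Multiplicative (ZMod 2 × ZMod 2)))
      obtain ⟨e'⟩ := IsKleinFour.nonempty_mulEquiv
        (G₁ := Multiplicative (ZMod (2 ^ 1) × ZMod (2 ^ 1))) (G₂ := DihedralGroup 2)
      exact Or.inl ⟨2, le_rfl, ⟨e.trans e'⟩⟩
    · exact Or.inr (Or.inr (Or.inr (Or.inl ⟨n, hn2, ⟨e⟩⟩)))
  · exact Or.inr (Or.inr (Or.inr (Or.inr h)))

end Cfsg.Agent.S1238
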