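import Cfsg.Statements.S0516
import Cfsg.Agent.S0949
import Cfsg.Agent.S0205
import Cfsg.Agent.S1238
import Cfsg.Agent.S0215
import Cfsg.Agent.Cores.ZStarMain

set_option autoImplicit false
open Cfsg

namespace Cfsg.Agent.S0516

theorem not_weakly_closed {G : Type*} [Group G] [Finite G] [IsSimpleGroup G]
    (hG : ¬ IsMulCommutative G) (P : Sylow 2 G) (u : G) (hu : orderOf u = 2) (huP : u ∈ P)
    (hwc : ∀ g : G, g * u * g⁻¹ ∈ P → g * u * g⁻¹ = u) : False := by
  obtain ⟨N, hN, hodd, hcomm⟩ := Cfsg.Agent.S0215.result P u hu huP hwc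
  have hu1 : u ≠ 1 := fun h => by rw [h, orderOf_one] at hu; omega
  rcases hN.eq_bot_or_eq_top with rfl | rfl
  · have hc : u ∈ Subgroup.center G := by
      rw [Subgroup.mem_center_iff]
      intro g
      have h : u * g * u⁻¹ * g⁻¹ = 1 := Subgroup.mem_bot.1 (hcomm g)
      rw [mul_inv_eq_one, mul_inv_eq_iff_eq_mul] at h
      exact h.symm
    rcases (inferInstance : (Subgroup.center G).Normal).eq_bot_or_eq_top with hz | hz
    · exact hu1 (Subgroup.mem_bot.1 (hz ▸ hc))
    · exact hG ⟨⟨fun a b => Subgroup.mem_center_iff.1 (hz ▸ Subgroup.mem_top b) a⟩⟩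
  · rw [Subgroup.card_top] at hodd
    exact (Nat.not_even_iff_odd.2 hodd) (even_iff_two_dvd.2 (hu ▸ orderOf_dvd_natCard u))

/-- In a non-abelian finite simple group of 2-rank at most 2, a Sylow 2-subgroup is dihedral (of order at least 4),
quasi-dihedral, wreathed, or isomorphic to a Sylow 2-subgroup of the projective special unitary group of dimension 3
over the field with 16 elements. -/
theorem result {G : Type*} [Group G] [Finite G] [IsSimpleGroup G]
    (hG : ¬ IsMulCommutative G) (h2 : Cfsg.PRankLE 2 2 G) (S : Sylow 2 G) {F : Type*} [Field F] [Fintype F]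
    (hF : Fintype.card F = 16) (P : Sylow 2 (Cfsg.PSU 3 F 4)) :
    (∃ n : ℕ, 2 ≤ n ∧ Nonempty ((S : Subgroup G) ≃* DihedralGroup n)) ∨ Cfsg.IsQuasiDihedral (S : Subgroup G) ∨
      Cfsg.IsWreathed (S : Subgroup G) ∨ Nonempty ((S : Subgroup G) ≃* (P : Subgroup (Cfsg.PSU 3 F 4))) := by
  classical
  haveI : Fact (Nat.Prime 2) := ⟨Nat.prime_two⟩
  have hidx : ∀ H : Subgroup G, H.index ≠ 2 := by
    intro H hH
    rcases (Subgroup.normal_of_index_eq_two hH).eq_bot_or_eq_top with rfl | rfl
    · rw [Subgroup.index_bot] at hH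
      haveI := isCyclic_of_prime_card hH
      exact hG inferInstance
    · rw [Subgroup.index_top] at hH; omega
  have hiso : ∀ z : G, ¬ Cfsg.IsIsolatedInvolution z := by
    intro z hz
    have hzp : IsPGroup 2 (Subgroup.zpowers z) :=
      IsPGroup.of_card (n := 1) (by rw [Nat.card_zpowers, hz.1]; rfl)
    obtain ⟨R, hR⟩ := hzp.exists_le_sylow
    have hzR : z ∈ (R : Subgroup G) := hR (Subgroup.mem_zpowers z)
    refine not_weakly_closed hG R z hz.1 hzR fun g hg => ?_
    have hodd := H39.isolated_odd hz g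
    obtain ⟨k, hk⟩ := IsPGroup.iff_orderOf.1 R.isPGroup' ⟨g * z * g⁻¹ * z, mul_mem hg hzR⟩
    rw [Subgroup.orderOf_mk] at hk
    have hk0 : k = 0 := by
      by_contra hne
      rw [hk] at hodd
      exact (Nat.not_even_iff_odd.2 hodd) (even_iff_two_dvd.2 (dvd_pow_self 2 hne))
    rw [hk0, pow_zero, orderOf_eq_one_iff] at hk
    have hzz : z * z = 1 := by rw [← pow_two, ← hz.1, pow_orderOf_eq_one]
    exact (eq_inv_of_mul_eq_one_left hk).trans (inv_eq_of_mul_eq_one_left hzz)
  have h1 : ¬ Cfsg.PRankLE 2 1 G := by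
    intro hle
    haveI : Nontrivial G := IsSimpleGroup.toNontrivial
    by_cases h2G : 2 ∣ Nat.card G
    swap
    · have hodd : Odd (Nat.card G) := Nat.not_even_iff_odd.1 fun h => h2G (even_iff_two_dvd.1 h)
      haveI := Cfsg.Agent.S0205.result hodd
      exact hG ⟨⟨IsSimpleGroup.comm_iff_isSolvable.2 this⟩⟩
    obtain ⟨c, hc, hc2⟩ : ∃ c : (S : Subgroup G), c ∈ Subgroup.center (S : Subgroup G) ∧ orderOf c = 2 := by
      haveI : Nontrivial (S : Subgroup G) := by
        rw [Subgroup.nontrivial_iff_ne_bot]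
        exact S.ne_bot_of_dvd_card h2G
      haveI := S.isPGroup'.center_nontrivial
      obtain ⟨x, hx⟩ := exists_ne (1 : Subgroup.center (S : Subgroup G))
      obtain ⟨k, hk⟩ := IsPGroup.iff_orderOf.1 (S.isPGroup'.to_subgroup (Subgroup.center _)) x
      have hd : 2 ∣ Nat.card (Subgroup.center (S : Subgroup G)) := by
        refine dvd_trans ?_ (orderOf_dvd_natCard x)
        rw [hk]
        exact dvd_pow_self 2 fun h => hx (orderOf_eq_one_iff.1 (by rw [hk, h, pow_zero]))
      obtain ⟨v, hv⟩ := exists_prime_orderOf_dvd_card' 2 hd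
      exact ⟨(v : (S : Subgroup G)), v.2, by rw [Subgroup.orderOf_coe, hv]⟩
    have hu : orderOf (c : G) = 2 := by rw [Subgroup.orderOf_coe, hc2]
    refine not_weakly_closed hG S c hu c.2 fun g hg => ?_
    by_contra hne
    set b := g * (c : G) * g⁻¹ with hb
    have hcc : (c : G) * c = 1 := by
      have h := pow_orderOf_eq_one (c : G)
      rwa [hu, pow_two] at h
    have hbb : b * b = 1 := by
      calc b * b = g * ((c : G) * c) * g⁻¹ := by rw [hb]; group
        _ = 1 := by rw [hcc, mul_one, mul_inv_cancel]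
    have hcb : b * c = c * b := congrArg Subtype.val (Subgroup.mem_center_iff.1 hc ⟨b, hg⟩)
    have hb1 : b ≠ 1 := fun h => by
      rw [hb, conj_eq_one_iff] at h
      rw [h, orderOf_one] at hu
      omega
    have hc1 : (c : G) ≠ 1 := fun h => by rw [h, orderOf_one] at hu; omega
    set A : Subgroup G := Subgroup.closure {b, (c : G)} with hA
    have hcm : ∀ v ∈ ({b, (c : G)} : Set G), ∀ w ∈ ({b, (c : G)} : Set G), v * w = w * v := by
      intro v hv w hw
      simp only [Set.mem_insert_iff, Set.mem_singleton_iff] at hv hw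
      rcases hv with rfl | rfl <;> rcases hw with rfl | rfl <;> first | rfl | exact hcb | exact hcb.symm
    haveI hAc : IsMulCommutative A := Subgroup.isMulCommutative_closure hcm
    have hA2 : ∀ a ∈ A, a ^ 2 = 1 := by
      intro v hv
      induction hv using Subgroup.closure_induction with
      | mem v hv =>
        simp only [Set.mem_insert_iff, Set.mem_singleton_iff] at hv
        rcases hv with rfl | rfl <;> rw [pow_two] <;> assumption
      | one => simp
      | mul v w hv hw h1 h2 =>
        rw [(show Commute v w from congrArg Subtype.val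
          (hAc.is_comm.comm (⟨v, hv⟩ : A) ⟨w, hw⟩)).mul_pow, h1, h2, one_mul]
      | inv v _ h => rw [inv_pow, h, inv_one]
    have hsub : ({1, b, (c : G)} : Finset G) ⊆ (A : Set G).toFinite.toFinset := by
      intro v hv
      simp only [Finset.mem_insert, Finset.mem_singleton] at hv
      rw [Set.Finite.mem_toFinset]
      rcases hv with rfl | rfl | rfl
      · exact one_mem A
      · exact Subgroup.subset_closure (by simp)
      · exact Subgroup.subset_closure (by simp)
    have h3 := Finset.card_le_card hsub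
    rw [← Set.ncard_eq_toFinset_card, ← Nat.card_coe_set_eq,
      Finset.card_eq_three.2 ⟨1, b, (c : G), hb1.symm, hc1.symm, hne, rfl⟩] at h3
    have h4 : Nat.card A ≤ 2 ^ 1 := hle A hAc hA2
    change 3 ≤ Nat.card A at h3
    omega
  rcases Cfsg.Agent.S1238.result h2 h1 hidx hiso S hF P with h | h | h | ⟨n, hn, ⟨e⟩⟩ | h
  · exact Or.inl h
  · exact Or.inr (Or.inl h)
  · exact Or.inr (Or.inr (Or.inl h))
  · have hS0 : (S : Subgroup G) ≠ ⊥ := fun h0 => by
      have hc := Nat.card_congr e.toEquiv
      rw [h0, Subgroup.card_bot, Nat.card_congr Multiplicative.toAdd, Nat.card_prod, Nat.card_zmod] at hc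
      have : 1 < 2 ^ n := Nat.one_lt_pow (by omega) (by norm_num)
      nlinarith
    obtain ⟨hn', -, -⟩ := Cfsg.Agent.S0949.result S n hn e fun N hN hodd => by
      rcases hN.eq_bot_or_eq_top with h' | h'
      · exact h'
      · exfalso
        subst h'
        rw [Subgroup.card_top] at hodd
        have h2 := (S.isPGroup'.exists_card_eq)
        obtain ⟨k, hk⟩ := h2
        have hk0 : k ≠ 0 := fun h0 => hS0 (Subgroup.eq_bot_of_card_eq _ (by rw [hk, h0, pow_zero]))
        exact (Nat.not_even_iff_odd.2 hodd) (even_iff_two_dvd.2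
          ((dvd_pow_self 2 hk0).trans (hk ▸ Subgroup.card_subgroup_dvd_card _)))
    exfalso
    rcases hn'.eq_bot_or_eq_top with h' | h'
    · exact hS0 h'
    · have hpG : IsPGroup 2 G := fun g => by
        obtain ⟨k, hk⟩ := S.isPGroup' ⟨g, h' ▸ Subgroup.mem_top g⟩
        exact ⟨k, by simpa using congrArg Subtype.val hk⟩
      haveI := hpG.isNilpotent
      exact hG ⟨⟨IsSimpleGroup.comm_iff_isSolvable.2 inferInstance⟩⟩
  · exact Or.inr (Or.inr (Or.inr h))

end Cfsg.Agent.S0516
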