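import Cfsg.Statements.S3780
import Cfsg.Agent.PGroups.Basic
import Mathlib.Algebra.CharP.Lemmas

set_option autoImplicit false
open Cfsg

namespace Cfsg.Agent.S3780

private theorem exists_gen_of_index {V : Type*} [CommGroup V] [Finite V] {p : ℕ} [hp : Fact p.Prime]
    (hV : IsPGroup p V) {K : Subgroup V} {m : ℕ} (hm : K.index = p ^ m) :
    ∃ S : Finset V, S.card ≤ m ∧ Subgroup.closure (S : Set V) ⊔ K = ⊤ := by
  classical
  induction m using Nat.strong_induction_on generalizing K with
  | _ m ih =>
    rcases eq_or_ne K ⊤ with rfl | hK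
    · exact ⟨∅, by simp, by simp⟩
    obtain ⟨x, hx⟩ : ∃ x : V, x ∉ K := by
      by_contra h
      push Not at h
      exact hK (eq_top_iff.2 fun x _ => h x)
    set K' := K ⊔ Subgroup.zpowers x with hK'
    obtain ⟨m', hm'⟩ := hV.index K'
    have hlt : K < K' :=
      lt_of_le_of_ne le_sup_left fun h => hx (h ▸ Subgroup.mem_sup_right (Subgroup.mem_zpowers x))
    have hlt2 : m' < m := by
      have h := Subgroup.index_strictAnti hlt
      rw [hm, hm'] at h
      exact (Nat.pow_lt_pow_iff_right hp.out.one_lt).1 h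
    obtain ⟨S, hS, hgen⟩ := ih m' hlt2 hm'
    refine ⟨insert x S, le_trans (Finset.card_insert_le _ _) (by omega), ?_⟩
    rw [eq_top_iff, ← hgen, hK']
    refine sup_le (le_sup_of_le_left (Subgroup.closure_mono (by simp))) (sup_le le_sup_right ?_)
    exact le_sup_of_le_left (Subgroup.zpowers_le.2 (Subgroup.subset_closure (by simp)))

/-- If `δ ^ p = 0` on a finite group then its order is at most `(# ker δ) ^ p`. -/
private theorem card_le_of_pow_eq_zero {W : Type*} [AddCommGroup W] [Finite W] (δ : AddMonoid.End W) (p : ℕ)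
    (h : δ ^ p = 0) : Nat.card W ≤ Nat.card (AddMonoidHom.ker δ) ^ p := by
  have hk : ∀ k : ℕ, Nat.card (AddMonoidHom.ker (δ ^ k : AddMonoid.End W)) ≤
      Nat.card (AddMonoidHom.ker δ) ^ k := by
    intro k
    induction k with
    | zero =>
      have : AddMonoidHom.ker (1 : AddMonoid.End W) = ⊥ := by
        rw [eq_bot_iff]; intro w hw; exact hw
      simp [this]
    | succ k ih =>
      let res : AddMonoidHom.ker (δ ^ (k + 1) : AddMonoid.End W) →+ W :=
        δ.comp (AddMonoidHom.ker (δ ^ (k + 1) : AddMonoid.End W)).subtype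
      have h1 := AddSubgroup.card_mul_index res.ker
      rw [AddSubgroup.index_ker] at h1
      have h2 : Nat.card res.ker ≤ Nat.card (AddMonoidHom.ker δ) :=
        Nat.card_le_card_of_injective (fun x => (⟨(x : AddMonoidHom.ker (δ ^ (k + 1) : AddMonoid.End W)), x.2⟩ :
          AddMonoidHom.ker δ)) fun a b hab => Subtype.ext (Subtype.ext (congrArg Subtype.val hab :))
      have h3 : Nat.card res.range ≤ Nat.card (AddMonoidHom.ker (δ ^ k : AddMonoid.End W)) := by
        refine AddSubgroup.card_le_of_le ?_
        rintro _ ⟨⟨w, hw⟩, rfl⟩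
        show (δ ^ k : AddMonoid.End W) (δ w) = 0
        have hw' : (δ ^ (k + 1) : AddMonoid.End W) w = 0 := hw
        rw [pow_succ] at hw'
        exact hw' 
      calc _ = Nat.card res.ker * Nat.card res.range := h1.symm
        _ ≤ Nat.card (AddMonoidHom.ker δ) * Nat.card (AddMonoidHom.ker δ) ^ k :=
          Nat.mul_le_mul h2 (h3.trans ih)
        _ = _ := (pow_succ' _ _).symm
  have := hk p
  rw [h] at this
  refine le_trans ?_ this
  exact le_of_eq (Nat.card_congr
    ⟨fun w => ⟨w, rfl⟩, Subtype.val, fun _ => rfl, fun _ => rfl⟩)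


/-- Let V be a finite abelian p-group and α an automorphism of V of order p whose fixed-point subgroup has order p^n. Then V can be generated by pn elements: some subset of V with at most pn elements generates V. -/
theorem result {V : Type*} [CommGroup V] [Finite V] {p : ℕ} [Fact p.Prime] (hV : IsPGroup p V) (α : MulAut V) (hα : orderOf α = p) (n : ℕ) (hfix : Nat.card {v : V // α v = v} = p ^ n) : ∃ S : Finset V, S.card ≤ p * n ∧ Subgroup.closure (S : Set V) = ⊤ := by
  classical
  have hp := (Fact.out : p.Prime)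
  set Ω : Subgroup V := (powMonoidHom p : V →* V).ker with hΩ
  have hmem : ∀ v : V, v ∈ Ω ↔ v ^ p = 1 := fun v => Iff.rfl
  let φ : V →* V := α.toMonoidHom
  let a : AddMonoid.End (Additive Ω) := MonoidHom.toAdditive
    ((φ.comp Ω.subtype).codRestrict Ω fun v => (hmem _).2 (by
      show (α (v : V)) ^ p = 1
      rw [← map_pow, (hmem _).1 v.2, map_one]))
  have ha : ∀ (k : ℕ) (v : Additive Ω), ((Additive.toMul ((a ^ k) v) : Ω) : V) = (α ^ k) (Additive.toMul v : Ω) := by
    intro k
    induction k with
    | zero => intro v; rfl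
    | succ k ih =>
      intro v
      rw [pow_succ, pow_succ]
      exact ih (a v)
  have hpz : ∀ f : AddMonoid.End (Additive Ω), (p : AddMonoid.End (Additive Ω)) * f = 0 := by
    intro f
    refine AddMonoidHom.ext fun v => ?_
    show (p : AddMonoid.End (Additive Ω)) (f v) = 0
    rw [AddMonoid.End.natCast_apply]
    apply Additive.toMul.injective
    rw [toMul_nsmul, toMul_zero]
    exact Subtype.ext (by simpa using (hmem _).1 (Additive.toMul (f v)).2)
  have hap : a ^ p = 1 := by
    refine AddMonoidHom.ext fun v => Additive.toMul.injective (Subtype.ext ?_)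
    refine (ha p v).trans ?_
    rw [← hα, pow_orderOf_eq_one]
    rfl
  have hδ : (a - 1) ^ p = 0 := by
    obtain ⟨r, hr⟩ := Commute.exists_add_pow_prime_eq hp (Commute.one_right (a - 1))
    rw [sub_add_cancel, hap, one_pow, mul_assoc, mul_assoc, hpz, add_zero] at hr
    exact (add_eq_right.1 hr.symm)
  have hle : Nat.card Ω ≤ p ^ (p * n) := by
    have h1 := card_le_of_pow_eq_zero (a - 1) p hδ
    have h2 : Nat.card (AddMonoidHom.ker (a - 1 : AddMonoid.End (Additive Ω))) ≤ p ^ n := by
      rw [← hfix]
      refine Nat.card_le_card_of_injective (fun x => (⟨((Additive.toMul (x : Additive Ω) : Ω) : V), ?_⟩ :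
        {v : V // α v = v})) fun x y h => ?_
      · have h : a (x : Additive Ω) - (x : Additive Ω) = 0 := x.2
        rw [sub_eq_zero] at h
        exact congrArg (fun z => ((Additive.toMul z : Ω) : V)) h
      · exact Subtype.ext (Additive.toMul.injective (Subtype.ext (congrArg Subtype.val h :)))
    calc Nat.card Ω = Nat.card (Additive Ω) := Nat.card_congr Additive.ofMul
      _ ≤ _ := h1
      _ ≤ (p ^ n) ^ p := Nat.pow_le_pow_left h2 p
      _ = _ := by rw [← pow_mul, mul_comm]
  set N : Subgroup V := (powMonoidHom p : V →* V).range with hN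
  obtain ⟨m, hm⟩ := hV.index N
  have hmle : m ≤ p * n := by
    have h1 := N.index_mul_card
    have h2 := Ω.index_mul_card
    rw [hΩ, Subgroup.index_ker, ← hN, ← hΩ] at h2
    have h3 : N.index = Nat.card Ω := by
      have : 0 < Nat.card N := Nat.card_pos
      refine Nat.eq_of_mul_eq_mul_right this ?_
      rw [h1, ← h2, mul_comm]
    rw [hm] at h3
    exact (Nat.pow_le_pow_iff_right hp.one_lt).1 (h3.le.trans hle)
  obtain ⟨S, hS, hgen⟩ := exists_gen_of_index hV hm
  refine ⟨S, hS.trans hmle, ?_⟩
  apply frattini_nongenerating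
  rw [eq_top_iff, ← hgen]
  refine sup_le_sup le_rfl ?_
  rintro _ ⟨v, rfl⟩
  exact PGroups.pow_mem_frattini hV v

end Cfsg.Agent.S3780
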