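import Cfsg.Statements.S3781
-- import your own Cfsg.Agent.* helpers here

set_option autoImplicit false
open Cfsg

namespace Cfsg.Agent.S3781

variable {G : Type*} [Group G]

open scoped commutatorElement

private theorem three {K H₁ H₂ H₃ : Subgroup G} [K.Normal] (h1 : ⁅⁅H₂, H₃⁆, H₁⁆ ≤ K)
    (h2 : ⁅⁅H₃, H₁⁆, H₂⁆ ≤ K) : ⁅⁅H₁, H₂⁆, H₃⁆ ≤ K := by
  have e : ∀ X : Subgroup G, X ≤ K ↔ X.map (QuotientGroup.mk' K) = ⊥ := fun X => by
    rw [Subgroup.map_eq_bot_iff, QuotientGroup.ker_mk']
  rw [e, Subgroup.map_commutator, Subgroup.map_commutator] at h1 h2 ⊢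
  exact Subgroup.commutator_commutator_eq_bot_of_rotate h1 h2

private theorem eq_of_le_sup_commutator {T A : Subgroup G} [T.Normal] (hG : Group.IsNilpotent G)
    (hTA : T ≤ A) (h : A ≤ T ⊔ ⁅A, (⊤ : Subgroup G)⁆) : A = T := by
  have step : ∀ j, A ≤ T ⊔ (⊤ : Subgroup G).lowerCentralSeries j := by
    intro j
    induction j with
    | zero => simp [Subgroup.lowerCentralSeries_zero]
    | succ j ih =>
      refine h.trans (sup_le le_sup_left ?_)
      haveI : ((⊤ : Subgroup G).lowerCentralSeries (j + 1)).Normal := inferInstance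
      rw [Subgroup.commutator_le]
      intro a ha g _
      obtain ⟨t, ht, c, hc, rfl⟩ := Subgroup.mem_sup_of_normal_left.1 (ih ha)
      have h1 : ⁅c, g⁆ ∈ (⊤ : Subgroup G).lowerCentralSeries (j + 1) :=
        Subgroup.commutator_mem_commutator hc (Subgroup.mem_top g)
      have h2 : ⁅t, g⁆ ∈ T := by
        rw [commutatorElement_def, mul_assoc, mul_assoc]
        exact mul_mem ht (by rw [← mul_assoc]; exact ‹T.Normal›.conj_mem _ (inv_mem ht) g)
      have h3 : ⁅t * c, g⁆ = t * ⁅c, g⁆ * t⁻¹ * ⁅t, g⁆ := by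
        simp only [commutatorElement_def]; group
      rw [h3]
      exact mul_mem (Subgroup.mem_sup_right
        ((inferInstance : ((⊤ : Subgroup G).lowerCentralSeries (j + 1)).Normal).conj_mem _ h1 t))
        (Subgroup.mem_sup_left h2)
  obtain ⟨j, hj⟩ := Subgroup.nilpotent_iff_lowerCentralSeries.1 hG
  have := step j
  rw [hj, sup_bot_eq] at this
  exact le_antisymm this hTA

private theorem le_relIndex_of_lt [Finite G] {p : ℕ} [hp : Fact p.Prime] (hG : IsPGroup p G)
    {B A : Subgroup G} (h : B < A) : p ≤ B.relIndex A := by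
  obtain ⟨k, hk⟩ := (hG.to_subgroup A).index (B.subgroupOf A)
  have hne : B.relIndex A ≠ 1 := fun h1 => h.not_ge (Subgroup.relIndex_eq_one.1 h1)
  unfold Subgroup.relIndex at hne ⊢
  rw [hk] at hne ⊢
  exact Nat.le_self_pow (fun h0 => hne (by simp [h0])) p

private theorem key [Finite G] {p : ℕ} [hp : Fact p.Prime] (hG : IsPGroup p G) :
    ∀ (k : ℕ) (T A : Subgroup G), T.Normal → A.Normal → T ≤ A → T.relIndex A < p ^ (k + 1) →
      ⁅A, (⊤ : Subgroup G).lowerCentralSeries k⁆ ≤ ⁅T, (⊤ : Subgroup G)⁆ := by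
  have hnil : Group.IsNilpotent G := hG.isNilpotent
  intro k
  induction k with
  | zero =>
    intro T A _ _ hTA hlt
    rcases hTA.eq_or_lt with rfl | hlt'
    · rfl
    · have := le_relIndex_of_lt hG hlt'
      simp at hlt; omega
  | succ k ih =>
    intro T A hT hA hTA hlt
    rcases hTA.eq_or_lt with rfl | hlt'
    · exact Subgroup.commutator_mono le_rfl le_top
    -- the first step `B` below `A`
    have hB : T ⊔ ⁅A, (⊤ : Subgroup G)⁆ < A := by
      refine lt_of_le_of_ne (sup_le hTA (Subgroup.commutator_le_left A ⊤)) fun he => ?_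
      exact hlt'.ne (eq_of_le_sup_commutator hnil hTA he.ge).symm
    set B := T ⊔ ⁅A, (⊤ : Subgroup G)⁆ with hBdef
    have hTB : T ≤ B := le_sup_left
    have hBn : B.Normal := inferInstance
    have h1 : ⁅⁅(⊤ : Subgroup G), A⁆, (⊤ : Subgroup G).lowerCentralSeries k⁆ ≤ ⁅T, (⊤ : Subgroup G)⁆ := by
      refine le_trans (Subgroup.commutator_mono ?_ le_rfl) (ih T B hT hBn hTB ?_)
      · rw [Subgroup.commutator_comm]; exact le_sup_right
      · have e := Subgroup.relIndex_mul_relIndex T B A hTB hB.le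
        have := le_relIndex_of_lt hG hB
        rw [pow_succ] at hlt
        by_contra hc
        push Not at hc
        have := Nat.mul_le_mul hc this
        omega
    -- a step above `T`
    obtain ⟨X, ⟨hXn, hTX, hXA⟩, hmin⟩ :=
      (Set.toFinite {X : Subgroup G | X.Normal ∧ T < X ∧ X ≤ A}).exists_minimal ⟨A, hA, hlt', le_rfl⟩
    have hXT : ⁅X, (⊤ : Subgroup G)⁆ ≤ T := by
      by_contra hc
      have hlt2 : T < T ⊔ ⁅X, (⊤ : Subgroup G)⁆ :=
        lt_of_le_of_ne le_sup_left fun he => hc (by rw [he]; exact le_sup_right)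
      have hle : T ⊔ ⁅X, (⊤ : Subgroup G)⁆ ≤ X := sup_le hTX.le (Subgroup.commutator_le_left X ⊤)
      have := hmin (show T ⊔ ⁅X, (⊤ : Subgroup G)⁆ ∈ {X : Subgroup G | X.Normal ∧ T < X ∧ X ≤ A} from
        ⟨inferInstance, hlt2, hle.trans hXA⟩) hle
      exact hTX.ne (eq_of_le_sup_commutator hnil hTX.le this).symm
    have h2 : ⁅⁅A, (⊤ : Subgroup G).lowerCentralSeries k⁆, (⊤ : Subgroup G)⁆ ≤ ⁅T, (⊤ : Subgroup G)⁆ := by
      refine Subgroup.commutator_mono ((ih X A hXn hA hXA ?_).trans hXT) le_rfl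
      have e := Subgroup.relIndex_mul_relIndex T X A hTX.le hXA
      have := le_relIndex_of_lt hG hTX
      rw [pow_succ] at hlt
      by_contra hc
      push Not at hc
      have := Nat.mul_le_mul this hc
      rw [mul_comm p] at this
      omega
    have h3 := three
      (H₁ := (⊤ : Subgroup G).lowerCentralSeries k) (H₂ := (⊤ : Subgroup G)) (H₃ := A)
      (K := ⁅T, (⊤ : Subgroup G)⁆) h1 h2
    rw [Subgroup.commutator_comm, Subgroup.lowerCentralSeries_succ]
    exact h3

/-- Let G be a finite p-group and n ≥ 1, and write γ_1(G) = G, γ_{k+1}(G) = [γ_k(G), G], and likewise γ_k(N) for a subgroup N. Let N be a normal subgroup of G contained in γ_n(G). If i > 1 and γ_{i+1}(N) ≠ 1, then |γ_i(N) : γ_{i+1}(N)| ≥ p^n. -/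
theorem result {G : Type*} [Group G] [Finite G] {p : ℕ} [Fact p.Prime] (hG : IsPGroup p G) (n : ℕ) (hn : 1 ≤ n) (N : Subgroup G) [N.Normal] (hN : N ≤ (⊤ : Subgroup G).lowerCentralSeries (n - 1)) (i : ℕ) (hi : 1 < i) (hne : N.lowerCentralSeries i ≠ ⊥) : p ^ n ≤ (N.lowerCentralSeries i).relIndex (N.lowerCentralSeries (i - 1)) := by
  have hnil : Group.IsNilpotent G := hG.isNilpotent
  obtain ⟨i, rfl⟩ : ∃ j, i = j + 1 := ⟨i - 1, by omega⟩
  simp only [Nat.add_sub_cancel]
  set M := N.lowerCentralSeries i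
  set T := N.lowerCentralSeries (i + 1) with hTdef
  have hMn : M.Normal := inferInstance
  have hTn : T.Normal := inferInstance
  have hTM : T ≤ M := Subgroup.lowerCentralSeries_antitone _ (by omega)
  by_contra hc
  push Not at hc
  have hk := key hG (n - 1) T M hTn hMn hTM (by rwa [Nat.sub_add_cancel hn])
  have : T ≤ ⁅T, (⊤ : Subgroup G)⁆ := le_trans (Subgroup.commutator_mono le_rfl hN) hk
  exact hne (eq_of_le_sup_commutator (T := (⊥ : Subgroup G)) hnil bot_le (by simpa using this))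

end Cfsg.Agent.S3781
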