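import Cfsg.Statements.S0029
import Mathlib.GroupTheory.Sylow

set_option autoImplicit false
open Cfsg

namespace Cfsg.Agent.S0029

theorem conj_mem {G : Type*} [Group G] (K : Subgroup G) {a : G}
    (ha : a ∈ Subgroup.normalizer (K : Set G)) {x : G} (hx : x ∈ (frattini K).map K.subtype) :
    a * x * a⁻¹ ∈ (frattini K).map K.subtype := by
  obtain ⟨f, hf, rfl⟩ := hx
  let e : K ≃* K := K.normalizerMonoidHom ⟨a, ha⟩
  refine ⟨e f, ?_, rfl⟩
  have hch : (frattini K).map (e : K →* K) = frattini K :=
    Subgroup.characteristic_iff_map_eq.1 inferInstance e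
  rw [SetLike.mem_coe, ← hch]
  exact Subgroup.mem_map_of_mem _ hf

theorem qgroup_centralizes {G : Type*} [Group G] [Finite G] (Q K : Subgroup G) (q : ℕ) [Fact q.Prime]
    (hQ : IsPGroup q Q) (hq : ¬ q ∣ Nat.card (frattini K))
    (hQK : Q ≤ Subgroup.normalizer (K : Set G))
    (htriv : ∀ a ∈ Q, ∀ k ∈ K, a * k * a⁻¹ * k⁻¹ ∈ (frattini K).map K.subtype) :
    Q ≤ Subgroup.centralizer (K : Set G) := by
  let Φ : Subgroup G := (frattini K).map K.subtype
  let C : Subgroup K := (Subgroup.centralizer (Q : Set G)).subgroupOf K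
  have key : C = ⊤ := by
    refine frattini_nongenerating (eq_top_iff.2 fun k _ => ?_)
    let S : Type _ := {x : G // x * (k : G)⁻¹ ∈ Φ}
    let _ : MulAction Q S :=
      { smul := fun a x => ⟨(a : G) * x.1 * (a : G)⁻¹, by
          have hk1 : (a : G) * (k : G) * (a : G)⁻¹ * (k : G)⁻¹ ∈ Φ := htriv a a.2 k k.2
          have hx1 : (a : G) * (x.1 * (k : G)⁻¹) * (a : G)⁻¹ ∈ Φ := conj_mem K (hQK a.2) x.2
          have := mul_mem hx1 hk1
          simpa [mul_assoc] using this⟩
        one_smul := fun x => Subtype.ext (show ((1 : Q) : G) * x.1 * ((1 : Q) : G)⁻¹ = x.1 by simp)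
        mul_smul := fun a b x => Subtype.ext (show ((a * b : Q) : G) * x.1 * ((a * b : Q) : G)⁻¹ = (a : G) * ((b : G) * x.1 * (b : G)⁻¹) * (a : G)⁻¹ by simp [mul_assoc]) }
    have hS : Nat.card S = Nat.card (frattini K) := by
      have : Nat.card Φ = Nat.card (frattini K) := Subgroup.card_map_of_injective K.subtype_injective
      rw [← this]
      exact Nat.card_congr
        { toFun := fun x => ⟨x.1 * (k : G)⁻¹, x.2⟩
          invFun := fun f => ⟨f.1 * k, by simp⟩
          left_inv := fun x => Subtype.ext (by simp)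
          right_inv := fun f => Subtype.ext (by simp) }
    obtain ⟨⟨x, hx⟩, hfix⟩ := hQ.nonempty_fixed_point_of_prime_not_dvd_card S (hS ▸ hq)
    obtain ⟨f, hf, hfe⟩ := hx
    have hxK : x ∈ K := by
      have := mul_mem (f.2) k.2
      rw [show (f : G) = x * (k : G)⁻¹ from hfe] at this
      simpa using this
    have hxC : (⟨x, hxK⟩ : K) ∈ C := by
      rw [Subgroup.mem_subgroupOf, Subgroup.mem_centralizer_iff]
      intro a ha
      exact mul_inv_eq_iff_eq_mul.1 (congrArg Subtype.val (hfix ⟨a, ha⟩))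
    have e : k = f⁻¹ * ⟨x, hxK⟩ := by
      apply Subtype.ext
      simp [show (f : G) = x * (k : G)⁻¹ from hfe, mul_assoc]
    rw [e]
    exact mul_mem (Subgroup.mem_sup_right (inv_mem hf)) (Subgroup.mem_sup_left hxC)
  intro a ha
  rw [Subgroup.mem_centralizer_iff]
  intro k hk
  have : (⟨k, hk⟩ : K) ∈ C := key ▸ Subgroup.mem_top _
  exact (Subgroup.mem_centralizer_iff.1 this a ha).symm

/-- An action that is trivial on the Frattini quotient and coprime on the Frattini subgroup is trivial: if A normalises K, the orders of A and of the Frattini subgroup of K are coprime, and every commutator of an element of A with an element of K lies in the Frattini subgroup of K, then A centralises K. -/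
theorem result {G : Type*} [Group G] [Finite G] (A K : Subgroup G)
    (hAK : A ≤ Subgroup.normalizer (K : Set G))
    (hcop : (Nat.card A).Coprime (Nat.card (frattini K)))
    (htriv : ∀ a ∈ A, ∀ k ∈ K, a * k * a⁻¹ * k⁻¹ ∈ (frattini K).map K.subtype) :
    A ≤ Subgroup.centralizer (K : Set G) := by
  let B : Subgroup A := (Subgroup.centralizer (K : Set G)).subgroupOf A
  suffices B = ⊤ from Subgroup.subgroupOf_eq_top.1 this
  by_contra hne
  obtain ⟨q, hq, hdvd⟩ := Nat.exists_prime_and_dvd (mt Subgroup.index_eq_one.1 hne)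
  have := Fact.mk hq
  have hqA : q ∣ Nat.card A := hdvd.trans B.index_dvd_card
  obtain ⟨Q⟩ : Nonempty (Sylow q A) := inferInstance
  have hQB : (Q : Subgroup A) ≤ B := by
    intro a ha
    exact qgroup_centralizes ((Q : Subgroup A).map A.subtype) K q (Q.2.map _)
      (fun h => hq.not_dvd_one (hcop ▸ Nat.dvd_gcd hqA h))
      (le_trans (Subgroup.map_subtype_le _) hAK)
      (fun a ha => htriv a (Subgroup.map_subtype_le _ ha))
      (Subgroup.mem_map_of_mem _ ha)
  exact Q.not_dvd_index (hdvd.trans (Subgroup.index_dvd_of_le hQB))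

end Cfsg.Agent.S0029
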