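import Cfsg.Statements.S0514
import Cfsg.Agent.Fusion.Frobenius

set_option autoImplicit false
open Cfsg

namespace Cfsg.Agent.S0514

open Subgroup

universe u

/-- An automorphism of odd order of a `2`-group inside a dihedral group fixing a central
involution is trivial. -/
theorem aut_trivial {Q : Type u} [Group Q] [Finite Q] {c : ℕ} (hQ : Nat.card Q = 2 ^ c)
    (A : Subgroup Q) [IsCyclic A] (hA2 : ∀ x, x ∉ A → x * x = 1)
    (hAi : ∀ x y, x ∉ A → y ∉ A → x⁻¹ * y ∈ A)
    (σ : MulAut Q) {m : ℕ} (hm : Odd m) (hσ : σ ^ m = 1) (t : Q) (ht1 : t ≠ 1) (ht : σ t = t) :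
    σ = 1 := by
  classical
  have := Fintype.ofFinite Q
  by_cases hsmall : Nat.card Q ≤ 4
  · -- at most two moved points
    have h2 : σ ^ 2 = 1 := by
      refine MulEquiv.ext fun x => ?_
      show σ (σ x) = x
      by_contra hne
      have hx1 : x ≠ 1 := fun h => hne (by simp [h])
      have hxt : x ≠ t := fun h => hne (by rw [h, ht, ht])
      have hs1 : σ x ≠ 1 := fun h => hx1 (by simpa using h)
      have hst : σ x ≠ t := fun h => hxt (σ.injective (h.trans ht.symm))
      have hss1 : σ (σ x) ≠ 1 := fun h => hs1 (by simpa using h)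
      have hsst : σ (σ x) ≠ t := fun h => hst (σ.injective (h.trans ht.symm))
      have hsx : σ x ≠ x := fun h => hne (by rw [h, h])
      have hssx : σ (σ x) ≠ σ x := fun h => hsx (σ.injective h)
      have h5 : ({1, t, x, σ x, σ (σ x)} : Finset Q).card = 5 := by
        rw [Finset.card_insert_of_notMem, Finset.card_insert_of_notMem, Finset.card_insert_of_notMem,
          Finset.card_pair hssx.symm]
          <;> simp [ht1.symm, hx1.symm, hs1.symm, hss1.symm, hxt.symm, hst.symm, hsst.symm, hsx.symm,
            Ne.symm hne]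
      have := Finset.card_le_univ ({1, t, x, σ x, σ (σ x)} : Finset Q)
      rw [h5, ← Nat.card_eq_fintype_card] at this
      omega
    have h3 := pow_gcd_eq_one.2 ⟨h2, hσ⟩
    rwa [Nat.coprime_two_left.2 hm |>.gcd_eq_one, pow_one] at h3
  obtain ⟨g, hg⟩ := Subgroup.isCyclic_iff_exists_zpowers_eq_top A |>.1 inferInstance
  have hgA : g ∈ A := hg ▸ mem_zpowers g
  have hbig : 3 ≤ orderOf g := by
    by_contra h
    have hA : Nat.card A ≤ 2 := by rw [← hg, Nat.card_zpowers]; omega
    have hi : A.index ≤ 2 := by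
      rw [Subgroup.index_eq_card]
      by_contra h3
      have := Fintype.ofFinite (Q ⧸ A)
      rw [Nat.card_eq_fintype_card, not_le] at h3
      obtain ⟨a, b, c, hab, hac, hbc⟩ := Fintype.two_lt_card_iff.1 h3
      induction a using Quotient.inductionOn' with | h a =>
      induction b using Quotient.inductionOn' with | h b =>
      induction c using Quotient.inductionOn' with | h c =>
      by_cases ha : a ∈ A
      · have hb : b ∉ A := fun hb => hab (QuotientGroup.eq.2 (mul_mem (inv_mem ha) hb))
        have hc : c ∉ A := fun hc => hac (QuotientGroup.eq.2 (mul_mem (inv_mem ha) hc))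
        exact hbc (QuotientGroup.eq.2 (hAi b c hb hc))
      · by_cases hb : b ∈ A
        · have hc : c ∉ A := fun hc => hbc (QuotientGroup.eq.2 (mul_mem (inv_mem hb) hc))
          exact hac (QuotientGroup.eq.2 (hAi a c ha hc))
        · exact hab (QuotientGroup.eq.2 (hAi a b ha hb))
    have := card_mul_index A
    nlinarith
  have hσg : σ g ∈ A := by
    by_contra h
    have h1 := hA2 _ h
    rw [← map_mul, EmbeddingLike.map_eq_one_iff, ← pow_two] at h1
    have := Nat.le_of_dvd two_pos (orderOf_dvd_of_pow_eq_one h1)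
    omega
  -- `σ` fixes the generator
  have hfix : σ g = g := by
    rw [← hg, mem_zpowers_iff_mem_range_orderOf, Finset.mem_image] at hσg
    obtain ⟨k, -, hk⟩ := hσg
    have hiter : ∀ i : ℕ, (σ ^ i) g = g ^ k ^ i := by
      intro i
      induction i with
      | zero => simp
      | succ i ih =>
        rw [pow_succ', MulAut.mul_apply, ih, map_pow, ← hk, ← pow_mul, pow_succ']
    obtain ⟨j, -, hj⟩ := (Nat.dvd_prime_pow Nat.prime_two).1 (hQ ▸ orderOf_dvd_natCard g)
    have hco : Nat.Coprime k (2 ^ j) := by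
      have ho : orderOf (g ^ k) = orderOf g := by
        rw [hk]; exact orderOf_injective σ.toMonoidHom σ.injective g
      rw [orderOf_pow] at ho
      have hg1 : Nat.gcd (orderOf g) k = 1 := by
        rcases Nat.eq_or_lt_of_le (Nat.one_le_iff_ne_zero.2 (show Nat.gcd (orderOf g) k ≠ 0 by
          exact (Nat.gcd_pos_of_pos_left _ (orderOf_pos g)).ne')) with h | h
        · exact h.symm
        · exact absurd ho (Nat.div_lt_self (orderOf_pos g) h).ne
      rw [← hj]
      exact Nat.coprime_comm.1 hg1
    have h1 : (σ ^ Nat.totient (2 ^ j)) g = g := by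
      rw [hiter]
      conv_rhs => rw [← pow_one g]
      rw [pow_eq_pow_iff_modEq, hj]
      exact Nat.ModEq.pow_totient hco
    have h2 : (σ ^ m) g = g := by simp [hσ]
    have h3 : ((σ ^ Nat.gcd (Nat.totient (2 ^ j)) m) : MulAut Q) g = g := by
      have hs1 : σ ^ Nat.totient (2 ^ j) ∈ MulAction.stabilizer (MulAut Q) g := h1
      have hs2 : σ ^ m ∈ MulAction.stabilizer (MulAut Q) g := h2
      have := mul_mem (zpow_mem hs1 (Nat.gcdA (Nat.totient (2 ^ j)) m))
        (zpow_mem hs2 (Nat.gcdB (Nat.totient (2 ^ j)) m))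
      rw [← zpow_natCast, ← zpow_natCast σ m, ← zpow_mul, ← zpow_mul, ← zpow_add, ← Nat.gcd_eq_gcd_ab,
        zpow_natCast] at this
      exact this
    have hco2 : Nat.Coprime (Nat.totient (2 ^ j)) m := by
      rcases j with _ | j
      · simp
      · rw [Nat.totient_prime_pow_succ Nat.prime_two]
        simpa using (Nat.coprime_two_left.2 hm).pow_left j
    rwa [hco2.gcd_eq_one, pow_one] at h3
  have hAfix : ∀ a ∈ A, σ a = a := by
    intro a ha
    rw [← hg] at ha
    obtain ⟨k, rfl⟩ := mem_zpowers_iff.1 ha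
    rw [map_zpow, hfix]
  refine MulEquiv.ext fun x => ?_
  show σ x = x
  by_cases hx : x ∈ A
  · exact hAfix x hx
  have hsx : σ x ∉ A := fun h => hx (by
    have h1 := σ.injective (hAfix _ h)
    rw [h1] at h
    exact h)
  set d := x⁻¹ * σ x with hd
  have hdA : d ∈ A := hAi x _ hx hsx
  have hiter : ∀ i : ℕ, (σ ^ i) x = x * d ^ i := by
    intro i
    induction i with
    | zero => simp
    | succ i ih =>
      have hxd : σ x = x * d := by rw [hd]; group
      rw [pow_succ', MulAut.mul_apply, ih, map_mul, hAfix _ (pow_mem hdA i), hxd, mul_assoc, ← pow_succ']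
  have hdm : d ^ m = 1 := by
    have := hiter m
    rw [hσ] at this
    simpa using this.symm
  have h1 : orderOf d = 1 := Nat.eq_one_of_dvd_coprimes ((Nat.coprime_two_right.2 hm).pow_right c)
    (orderOf_dvd_of_pow_eq_one hdm) (hQ ▸ orderOf_dvd_natCard d)
  rw [orderOf_eq_one_iff, hd, inv_mul_eq_one] at h1
  exact h1.symm

theorem normal_complement {X : Type u} [Group X] [Finite X] (S : Sylow 2 X) (n : ℕ) (hn : 2 ≤ n)
    (hS : Nonempty ((S : Subgroup X) ≃* DihedralGroup n)) (t : X) (ht : orderOf t = 2) :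
    ∃ N : Subgroup (centralizer ({t} : Set X)), N.Normal ∧ Odd (Nat.card N) ∧
      ∃ k : ℕ, N.index = 2 ^ k := by
  have := Fact.mk Nat.prime_two
  have : NeZero n := ⟨by omega⟩
  set C := centralizer ({t} : Set X)
  let P : Sylow 2 C := default
  suffices h : Cfsg.HasNormalPComplement 2 C by
    obtain ⟨N, hN, hc⟩ := (Fusion.hasNormalPComplement_iff_exists P).1 h
    obtain ⟨k, hk⟩ := P.isPGroup'.exists_card_eq
    refine ⟨N, hN, ?_, k, hc.symm.index_eq_card.trans hk⟩
    have := P.not_dvd_index
    rw [hc.index_eq_card] at this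
    exact Nat.odd_iff.2 (Nat.two_dvd_ne_zero.1 this)
  rw [Fusion.frobenius_criterion P]
  intro Q hQP g hg hgodd
  have htC : t ∈ C := mem_centralizer_singleton_iff.2 rfl
  set t' : C := ⟨t, htC⟩
  have htc : ∀ x : C, x * t' = t' * x := fun x =>
    Subtype.ext (mem_centralizer_singleton_iff.1 x.2)
  have hT : IsPGroup 2 ↥(zpowers t') := IsPGroup.of_card (n := 1) (by
    rw [Nat.card_zpowers, pow_one, ← Subgroup.orderOf_coe]; exact ht)
  have hle : Q ≤ normalizer ((zpowers t' : Subgroup C) : Set C) := by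
    refine le_trans ?_ (centralizer_le_normalizer _)
    intro x _
    refine mem_centralizer_iff.2 fun y hy => ?_
    obtain ⟨k, rfl⟩ := mem_zpowers_iff.1 hy
    exact (Commute.zpow_right (htc x) k).eq.symm
  set Q' := Q ⊔ zpowers t' with hQ'
  have hQ'2 : IsPGroup 2 Q' := (P.isPGroup'.to_le hQP).to_sup_of_normal_right' hT hle
  obtain ⟨c, hc⟩ := hQ'2.exists_card_eq
  have hgQ' : g ∈ normalizer (Q' : Set C) := by
    refine mem_normalizer_iff_map_conj_eq.2 ?_
    rw [hQ', Subgroup.map_sup, mem_normalizer_iff_map_conj_eq.1 hg, MonoidHom.map_zpowers]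
    simp [htc g]
  let σ : MulAut Q' := Subgroup.normalizerMonoidHom Q' ⟨g, hgQ'⟩
  have hσ : σ ^ orderOf g = 1 := by
    rw [← map_pow]
    convert map_one (Subgroup.normalizerMonoidHom Q')
    exact Subtype.ext (by simp [pow_orderOf_eq_one])
  obtain ⟨T, hT'⟩ := IsPGroup.exists_le_sylow (hQ'2.map C.subtype)
  obtain ⟨e⟩ := hS
  obtain ⟨f, hf⟩ : ∃ f : Q' →* DihedralGroup n, Function.Injective f := by
    refine ⟨((T.equiv S).trans e).toMonoidHom.comp ((C.subtype.comp Q'.subtype).codRestrict _
      fun x => hT' ⟨x, x.2, rfl⟩), ((T.equiv S).trans e).injective.comp fun a b h => ?_⟩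
    exact Subtype.ext (Subtype.ext (congrArg (fun w : (T : Subgroup X) => (w : X)) h))
  let A : Subgroup Q' := (zpowers (DihedralGroup.r (1 : ZMod n))).comap f
  have hmemA : ∀ x, x ∉ A → ∃ i, f x = DihedralGroup.sr i := by
    intro x hx
    cases hfx : f x with
    | r i =>
      exfalso; apply hx
      rw [show A = (zpowers (DihedralGroup.r (1 : ZMod n))).comap f from rfl, mem_comap]
      rw [hfx, ← ZMod.natCast_zmod_val i, ← DihedralGroup.r_one_pow]
      exact Subgroup.pow_mem _ (mem_zpowers _) _
    | sr i => exact ⟨i, rfl⟩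
  have : IsCyclic A := by
    refine isCyclic_of_injective ((f.comp A.subtype).codRestrict (zpowers (DihedralGroup.r (1 : ZMod n)))
      fun x => x.2) fun a b h => Subtype.ext (hf (congrArg Subtype.val h))
  have hσ1 : σ = 1 := by
    refine aut_trivial hc A (fun x hx => ?_) (fun x y hx hy => ?_) σ ?_ hσ
      ⟨t', mem_sup_right (mem_zpowers t')⟩ ?_ ?_
    · obtain ⟨i, hi⟩ := hmemA x hx
      apply hf
      rw [map_mul, hi, map_one, DihedralGroup.sr_mul_sr, sub_self]
      rfl
    · obtain ⟨i, hi⟩ := hmemA x hx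
      obtain ⟨j, hj⟩ := hmemA y hy
      rw [show A = (zpowers (DihedralGroup.r (1 : ZMod n))).comap f from rfl, mem_comap, map_mul, map_inv, hi, hj, DihedralGroup.inv_sr, DihedralGroup.sr_mul_sr,
        ← ZMod.natCast_zmod_val (j - i), ← DihedralGroup.r_one_pow]
      exact Subgroup.pow_mem _ (mem_zpowers _) _
    · exact Nat.coprime_two_right.1 hgodd
    · intro h
      have : t = 1 := congrArg (fun w : Q' => ((w : C) : X)) h
      rw [this, orderOf_one] at ht; omega
    · ext
      simp [σ, htc g]
  refine mem_centralizer_iff.2 fun x hx => ?_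
  have h1 := congrArg (fun s : MulAut Q' => ((s ⟨x, mem_sup_left hx⟩ : Q') : C)) hσ1
  simp [σ] at h1
  rw [mul_inv_eq_iff_eq_mul] at h1
  exact h1.symm

/-- In a finite group whose Sylow 2-subgroups are dihedral of order at least 4, the centralizer of any involution has a
normal subgroup of odd order whose index in the centralizer is a power of 2. -/
theorem result {X : Type*} [Group X] [Finite X]
    (S : Sylow 2 X) (n : ℕ) (hn : 2 ≤ n) (hS : Nonempty ((S : Subgroup X) ≃* DihedralGroup n)) (t : X)
    (ht : orderOf t = 2) :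
    ∃ N : Subgroup (Subgroup.centralizer ({t} : Set X)), N.Normal ∧ Odd (Nat.card N) ∧ ∃ k : ℕ, N.index = 2 ^ k := by
  exact normal_complement S n hn hS t ht

end Cfsg.Agent.S0514
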