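import Cfsg.Statements.S5463
import Cfsg.Agent.H93.Hexad

set_option autoImplicit false
open Cfsg

namespace Cfsg.Agent.S5463

open Cfsg.Agent.H93

theorem perm3 {α : Type*} {l p : List α} (hl : l.Nodup) (hp : p.Nodup) (hlen : l.length = p.length)
    (h : ∀ x ∈ l, x ∈ p) : l.Perm p :=
  (hl.subperm h).perm_of_length_le hlen.ge

theorem prod_of_perm {G : Type*} [Group G] {l p : List G} (h : l.Perm p)
    (hc : ∀ a ∈ l, ∀ b ∈ l, Commute a b) : l.prod = p.prod := by
  refine h.prod_eq' ?_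
  refine List.Pairwise.imp_of_mem (R := fun _ _ => True) ?_ (List.pairwise_of_forall fun _ _ => trivial)
  intro a b ha hb _
  exact hc a ha b hb


/-- Let G be a finite group with trivial centre generated by a conjugation-invariant set D of 3-transpositions on which it acts primitively, such that for some d in D the subgroup generated by the members of D other than d commuting with d has central largest normal 2- and 3-subgroups, and suppose G with D is of type M(22). A product j of two distinct commuting members of D determines the pair: any two 2-element sets of commuting members of D with product j coincide. A product j of three distinct pairwise commuting members of D arises from exactly two such 3-element sets. -/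
theorem result {G : Type*} [Group G] [Finite G] {D : Set G} (hD : Cfsg.IsThreeTranspositionGroup D) (hprim : Cfsg.IsPrimitiveUnderConj D) (d₀ : G) (hd₀ : d₀ ∈ D) (h3 : Cfsg.pCore 3 ↥(Subgroup.closure {y : G | y ∈ D ∧ y ≠ d₀ ∧ Commute d₀ y}) ≤ Subgroup.center ↥(Subgroup.closure {y : G | y ∈ D ∧ y ≠ d₀ ∧ Commute d₀ y})) (h2 : Cfsg.pCore 2 ↥(Subgroup.closure {y : G | y ∈ D ∧ y ≠ d₀ ∧ Commute d₀ y}) ≤ Subgroup.center ↥(Subgroup.closure {y : G | y ∈ D ∧ y ≠ d₀ ∧ Commute d₀ y})) (h22 : Cfsg.IsOfTypeM22 G D) : (∀ (j : G) (l l' : List G), (l.Nodup ∧ l.length = 2 ∧ (∀ a ∈ l, a ∈ D) ∧ (∀ a ∈ l, ∀ b ∈ l, Commute a b) ∧ l.prod = j) → (l'.Nodup ∧ l'.length = 2 ∧ (∀ a ∈ l', a ∈ D) ∧ (∀ a ∈ l', ∀ b ∈ l', Commute a b) ∧ l'.prod = j) → (∀ x : G, x ∈ l ↔ x ∈ l')) ∧ ∀ (j : G) (l₀ : List G), (l₀.Nodup ∧ l₀.length = 3 ∧ (∀ a ∈ l₀, a ∈ D) ∧ (∀ a ∈ l₀, ∀ b ∈ l₀, Commute a b) ∧ l₀.prod = j) → ∃ l₁ l₂ : List G, (l₁.Nodup ∧ l₁.length = 3 ∧ (∀ a ∈ l₁, a ∈ D) ∧ (∀ a ∈ l₁, ∀ b ∈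 l₁, Commute a b) ∧ l₁.prod = j) ∧ (l₂.Nodup ∧ l₂.length = 3 ∧ (∀ a ∈ l₂, a ∈ D) ∧ (∀ a ∈ l₂, ∀ b ∈ l₂, Commute a b) ∧ l₂.prod = j) ∧ ¬ (∀ x : G, x ∈ l₁ ↔ x ∈ l₂) ∧ ∀ l : List G, (l.Nodup ∧ l.length = 3 ∧ (∀ a ∈ l, a ∈ D) ∧ (∀ a ∈ l, ∀ b ∈ l, Commute a b) ∧ l.prod = j) → ((∀ x : G, x ∈ l ↔ x ∈ l₁) ∨ (∀ x : G, x ∈ l ↔ x ∈ l₂)) := by
  classical
  have htt := TT.of_group hD
  have hne : ∀ a ∈ D, a ≠ 1 := fun a ha e => by simpa [e] using hD.1.1 a ha
  obtain ⟨hcore, hind, -, F, iF, iFF, hF, hsp⟩ := good22 htt hD.2.2 hne h22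
  have hsep : ∀ a ∈ D, Sep (nb D a) := fun a ha => (hsp a ha).some.sep hF
  have two : ∀ (j : G) (l l' : List G),
      (l.Nodup ∧ l.length = 2 ∧ (∀ a ∈ l, a ∈ D) ∧ (∀ a ∈ l, ∀ b ∈ l, Commute a b) ∧ l.prod = j) →
      (l'.Nodup ∧ l'.length = 2 ∧ (∀ a ∈ l', a ∈ D) ∧ (∀ a ∈ l', ∀ b ∈ l', Commute a b) ∧ l'.prod = j) →
      (∀ x : G, x ∈ l ↔ x ∈ l') :=
    fun j l l' hl hl' => unique_factor' htt hind 2 (by norm_num) (by norm_num) j l l' hl hl'
  refine ⟨two, fun j l₀ hl₀ => ?_⟩
  obtain ⟨hnd, hlen, hmem, hcom, hprod⟩ := hl₀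
  obtain ⟨a, b, c, rfl⟩ := List.length_eq_three.mp hlen
  have haD : a ∈ D := hmem a (by simp)
  have hbD : b ∈ D := hmem b (by simp)
  have hcD : c ∈ D := hmem c (by simp)
  have hcab : Commute a b := hcom a (by simp) b (by simp)
  have hcac : Commute a c := hcom a (by simp) c (by simp)
  have hcbc : Commute b c := hcom b (by simp) c (by simp)
  have hnd' := hnd
  simp only [List.nodup_cons, List.mem_cons, List.not_mem_nil, or_false, not_or,
    List.nodup_nil, and_true, not_false_eq_true] at hnd'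
  obtain ⟨⟨hab, hac⟩, hbc⟩ := hnd'
  have hb_a : b ∈ nb D a := ⟨hbD, Ne.symm hab, hcab⟩
  have hc_a : c ∈ nb D a := ⟨hcD, Ne.symm hac, hcac⟩
  have ha_b : a ∈ nb D b := ⟨haD, hab, hcab.symm⟩
  have hc_b : c ∈ nb D b := ⟨hcD, Ne.symm hbc, hcbc⟩
  obtain ⟨p, q, r, hp, hq, hr, hnd5, hcom5, hdown, hup, hPi⟩ :=
    (hsp a haD).some.exists_line hF (fun y hy => htt.sq y hy.1) hb_a hc_a hbc hcbc
  obtain ⟨p', q', r', hp', hq', hr', hnd5', hcom5', hdown', hup', hPi'⟩ :=
    (hsp b hbD).some.exists_line hF (fun y hy => htt.sq y hy.1) ha_b hc_b hac hcac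
  have hout : ∀ x, x ∈ [p, q, r] → x ≠ b ∧ x ≠ c ∧ x ∈ nb D a ∧ Commute x b ∧ Commute x c ∧ x ∈ [b, c, p, q, r] := by
    intro x hx
    have hx5 : x ∈ [b, c, p, q, r] := List.mem_cons_of_mem _ (List.mem_cons_of_mem _ hx)
    refine ⟨?_, ?_, ?_, hcom5 x hx5 b (by simp), hcom5 x hx5 c (by simp), hx5⟩
    · rintro rfl; exact (List.nodup_cons.mp hnd5).1 (List.mem_cons_of_mem _ hx)
    · rintro rfl; exact (List.nodup_cons.mp (List.nodup_cons.mp hnd5).2).1 hx
    · simp only [List.mem_cons, List.not_mem_nil, or_false] at hx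
      rcases hx with rfl | rfl | rfl <;> assumption
  have hnd3 : [p, q, r].Nodup := (List.nodup_cons.mp (List.nodup_cons.mp hnd5).2).2
  have hcom3 : ∀ x ∈ [p, q, r], ∀ y ∈ [p, q, r], Commute x y := fun x hx y hy =>
    hcom5 x (hout x hx).2.2.2.2.2 y (hout y hy).2.2.2.2.2
  -- the line seen from `b` carries the same three members
  have hsub : ∀ x ∈ [p, q, r], x ∈ [p', q', r'] := by
    intro x hx
    obtain ⟨hxb, hxc, hxa, cxb, cxc, -⟩ := hout x hx
    have h5 : x ∈ [a, c, p', q', r'] := by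
      refine hup' x ⟨hxa.1, hxb, cxb.symm⟩ fun z hz hza hzc => ?_
      by_cases hz' : z = a
      · exact hz' ▸ hxa.2.2
      · obtain ⟨z1, z2, z3⟩ := hdown z ⟨hz.1, hz', hza.symm⟩ hz.2.2.symm hzc
        simp only [List.mem_cons, List.not_mem_nil, or_false] at hx
        rcases hx with rfl | rfl | rfl <;> assumption
    rcases List.mem_cons.mp h5 with e | h5
    · exact absurd e hxa.2.1
    rcases List.mem_cons.mp h5 with e | h5
    · exact absurd e hxc
    exact h5
  have hnd3' : [p', q', r'].Nodup := (List.nodup_cons.mp (List.nodup_cons.mp hnd5').2).2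
  have hperm := perm3 hnd3 hnd3' rfl hsub
  have hK : [p, q, r].prod = [p', q', r'].prod := prod_of_perm hperm hcom3
  simp only [List.prod_cons, List.prod_nil, mul_one] at hK
  -- the six members multiply to one
  set z := a * (b * c * p * q * r) with hz
  have hz' : z = b * (a * c * p' * q' * r') := by
    rw [hz]
    calc a * (b * c * p * q * r) = (a * b) * c * (p * (q * r)) := by group
      _ = (b * a) * c * (p' * (q' * r')) := by rw [hcab.eq, hK]
      _ = _ := by group
  have hza : Commute z a := by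
    refine ((Commute.refl a).mul_left ?_)
    exact (((hcab.symm.mul_left hcac.symm).mul_left hp.2.2.symm).mul_left hq.2.2.symm).mul_left hr.2.2.symm
  have hna : ∀ v ∈ nb D a, Commute z v := fun v hv => hv.2.2.mul_left (hPi v hv).symm
  have hnb : ∀ v ∈ nb D b, Commute z v := fun v hv => by
    rw [hz']; exact hv.2.2.mul_left (hPi' v hv).symm
  have hz1 : z = 1 := by
    have := central_of_two hcore hprim hD.2.2 hsep haD hb_a hza hna hnb
    rwa [h22.1, Subgroup.mem_bot] at this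
  have hsq : [p, q, r].prod * [p, q, r].prod = 1 :=
    prod_sq_one htt _ (fun x hx => (hout x hx).2.2.1.1) hcom3
  have hpqr : [p, q, r].prod = j := by
    rw [← hprod]
    have e1 : [a, b, c].prod * [p, q, r].prod = 1 := by
      rw [← hz1, hz]; simp only [List.prod_cons, List.prod_nil, mul_one]; group
    calc [p, q, r].prod = ([a, b, c].prod * [p, q, r].prod) * [p, q, r].prod := by rw [e1, one_mul]
      _ = [a, b, c].prod := by rw [mul_assoc, hsq, mul_one]
  refine ⟨[a, b, c], [p, q, r], ⟨hnd, rfl, hmem, hcom, hprod⟩,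
    ⟨hnd3, rfl, fun x hx => (hout x hx).2.2.1.1, hcom3, hpqr⟩, ?_, ?_⟩
  · intro e
    exact (hout b ((e b).mp (by simp))).1 rfl
  intro l hl
  obtain ⟨lnd, llen, lmem, lcom, lprod⟩ := hl
  by_cases hshare : ∃ x ∈ l, x ∈ [a, b, c]
  · left
    obtain ⟨x, hx, hx'⟩ := hshare
    have hsub' : ∀ {ls : List G}, ∀ y ∈ ls.erase x, y ∈ ls := fun y hy => List.mem_of_mem_erase hy
    have e := prod_eq_cons_erase lcom hx
    have e' := prod_eq_cons_erase hcom hx'
    have := two (x * j) (l.erase x) ([a, b, c].erase x)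
      ⟨lnd.erase x, by rw [List.length_erase_of_mem hx, llen], fun y hy => lmem y (hsub' y hy),
        fun y hy w hw => lcom y (hsub' y hy) w (hsub' w hw), by
          rw [← lprod, e, ← mul_assoc, htt.sq x (lmem x hx), one_mul]⟩
      ⟨hnd.erase x, by rw [List.length_erase_of_mem hx']; rfl, fun y hy => hmem y (hsub' y hy),
        fun y hy w hw => hcom y (hsub' y hy) w (hsub' w hw), by
          rw [← hprod, e', ← mul_assoc, htt.sq x (hmem x hx'), one_mul]⟩
    intro y
    by_cases hy : y = x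
    · subst hy; exact iff_of_true hx hx'
    · rw [← List.mem_erase_of_ne hy (l := l), ← List.mem_erase_of_ne hy (l := [a, b, c])]
      exact this y
  · right
    simp only [not_exists, not_and] at hshare
    have hcross : ∀ v ∈ l, ∀ x ∈ [a, b, c], Commute v x := fun v hv x hx =>
      htt.commute_of_commute_prod (lmem v hv) [a, b, c] hnd le_rfl hmem hcom
        (by rw [hprod, ← lprod]; exact Commute.list_prod_right _ _ fun w hw => lcom v hv w hw) x hx
    have hin : ∀ y ∈ l, y ∈ [p, q, r] := by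
      intro y hy
      have hya : y ≠ a := fun e => hshare y hy (by simp [e])
      have hy_a : y ∈ nb D a := ⟨lmem y hy, hya, (hcross y hy a (by simp)).symm⟩
      have h5 : y ∈ [b, c, p, q, r] := by
        refine hup y hy_a fun w hw hwb hwc => ?_
        refine htt.commute_of_commute_prod hw.1 l lnd (by omega) lmem lcom ?_ y hy
        rw [lprod, ← hprod]
        simp only [List.prod_cons, List.prod_nil, mul_one]
        exact hw.2.2.symm.mul_right (hwb.mul_right hwc)
      rcases List.mem_cons.mp h5 with e | h5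
      · exact absurd (e ▸ (by simp : b ∈ [a, b, c])) (hshare y hy)
      rcases List.mem_cons.mp h5 with e | h5
      · exact absurd (e ▸ (by simp : c ∈ [a, b, c])) (hshare y hy)
      exact h5
    intro x
    exact (perm3 lnd hnd3 (by rw [llen]; rfl) hin).mem_iff

end Cfsg.Agent.S5463
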