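import Cfsg.Statements.S0253
import Cfsg.Agent.H27.ProjLine
-- import your own Cfsg.Agent.* helpers here

set_option autoImplicit false
open Cfsg

namespace Cfsg.Agent.S0253

/-- PSL_2(5) is isomorphic to A_5. -/
theorem result {F : Type*} [Field F] [Fintype F] (hF : Fintype.card F = 5) : Nonempty (Matrix.ProjectiveSpecialLinearGroup (Fin 2) F ≃* alternatingGroup (Fin 5)) := by
  have h := Cfsg.Agent.Linear.card_PSL_two_mul (F := F)
  rw [hF] at h
  norm_num at h
  have : IsSimpleGroup (Matrix.ProjectiveSpecialLinearGroup (Fin 2) F) :=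
    Matrix.ProjectiveSpecialLinearGroup.rank_two_simple (by rw [Nat.card_eq_fintype_card, hF]; norm_num)
  refine Cfsg.Agent.H27.ProjLine.equiv_alternating_five
    (MulAction.toPermHom (Matrix.ProjectiveSpecialLinearGroup (Fin 2) F) (Projectivization F (Fin 2 → F)))
    MulAction.toPerm_injective ?_ (by omega)
  rw [Cfsg.Agent.H27.ProjLine.card_projLine, hF]

end Cfsg.Agent.S0253
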