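import Cfsg.Statements.S0223
import Cfsg.Agent.H26.StronglyEmbedded

set_option autoImplicit false
open Cfsg

namespace Cfsg.Agent.S0223

/-- Let H be a proper subgroup of even order of the finite group G. Then H is strongly embedded if and only if (i) C_G(t) ≤ H for every involution t of H and (ii) H controls fusion of its involutions: involutions of H conjugate in G are conjugate in H. -/
theorem result {G : Type*} [Group G] [Finite G] (H : Subgroup G) (hH : H ≠ ⊤) (heven : Even (Nat.card H)) : Cfsg.IsStronglyEmbedded H ↔ ((∀ t ∈ H, orderOf t = 2 → Subgroup.centralizer ({t} : Set G) ≤ H) ∧ (∀ t ∈ H, ∀ s ∈ H, orderOf t = 2 → orderOf s = 2 → IsConj t s → ∃ h ∈ H, h * t * h⁻¹ = s)) := by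
  rw [H26.isStronglyEmbedded_iff_involution H hH heven]
  constructor
  · intro h
    refine ⟨fun t ht ht2 g hg => h t ht ht2 g ?_, fun t ht s hs ht2 _ hts => ?_⟩
    · rw [Subgroup.mem_centralizer_singleton_iff] at hg
      rw [hg, mul_inv_cancel_right]; exact ht
    · obtain ⟨c, rfl⟩ := isConj_iff.1 hts
      exact ⟨c, h t ht ht2 c hs, rfl⟩
  · rintro ⟨h1, h2⟩ t ht ht2 g hg
    obtain ⟨k, hk, hkt⟩ := h2 t ht _ hg ht2 (by rw [H26.orderOf_conj_eq, ht2]) (isConj_iff.2 ⟨g, rfl⟩)
    have : k⁻¹ * g ∈ H := h1 t ht ht2 (by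
      rw [Subgroup.mem_centralizer_singleton_iff]
      calc k⁻¹ * g * t = k⁻¹ * (g * t * g⁻¹) * g := by group
        _ = k⁻¹ * (k * t * k⁻¹) * g := by rw [hkt]
        _ = t * (k⁻¹ * g) := by group)
    simpa using mul_mem hk this

end Cfsg.Agent.S0223
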