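import Cfsg.Statements.S0809
import Cfsg.Agent.Linear.TwoTorus

set_option autoImplicit false
open Cfsg

namespace Cfsg.Agent.S0809

variable {F : Type*} [Field F]

local notation "M2" => Matrix (Fin 2) (Fin 2) F
local notation "S2" => Matrix.SpecialLinearGroup (Fin 2) F

theorem trace_of_sq_neg_one (h2 : (2 : F) ≠ 0) {g : S2} (hg : g * g = -1) :
    (g : M2).trace = 0 ∧ (g : M2).trace ^ 2 ≠ 4 := by
  have h : (g : M2) * (g : M2) = -1 := by simpa using congrArg (fun x : S2 => (x : M2)) hg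
  rw [Linear.SL_sq_eq, sub_eq_neg_self] at h
  have h0 : (g : M2).trace = 0 := by
    rcases smul_eq_zero.mp h with h | h
    · exact h
    · rw [h, Matrix.trace_zero]
  refine ⟨h0, ?_⟩
  rw [h0]
  intro e
  apply h2
  have : (2 : F) * 2 = 0 := by linear_combination -e
  exact mul_self_eq_zero.mp this

theorem isConj_of_sq_neg_one [Fintype F] (h2 : (2 : F) ≠ 0) {g h : S2} (hg : g * g = -1) (hh : h * h = -1) :
    IsConj g h := by
  obtain ⟨tg, tg'⟩ := trace_of_sq_neg_one h2 hg
  obtain ⟨th, th'⟩ := trace_of_sq_neg_one h2 hh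
  exact Linear.isConj_of_trace_eq (Linear.not_isScalarTwo_of_trace tg')
    (Linear.not_isScalarTwo_of_trace th') (tg.trans th.symm) (Or.inr tg')

theorem neg_one_ne_one (h2 : (2 : F) ≠ 0) : (-1 : S2) ≠ 1 := by
  intro h
  have h' := congrArg (fun x : S2 => (x : M2) 0 0) h
  simp at h'
  apply h2; linear_combination -h'

theorem exists_gen [Fintype F] (h2 : (2 : F) ≠ 0) (A : Subgroup S2) (hA : Nat.card A = 4) :
    ∃ g : S2, g * g = -1 ∧ A = Subgroup.zpowers g := by
  obtain ⟨g, hgA, hg⟩ : ∃ g ∈ A, g * g ≠ 1 := by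
    by_contra hcon
    push Not at hcon
    have hsub : (A : Set S2) ⊆ {1, -1} := fun x hx => by
      simpa using Linear.eq_one_or_neg_one_of_sq h2 (hcon x hx)
    have h4 : (A : Set S2).ncard ≤ 2 := (Set.ncard_le_ncard hsub (Set.toFinite _)).trans
      ((Set.ncard_insert_le _ _).trans (by rw [Set.ncard_singleton]))
    rw [← Nat.card_coe_set_eq] at h4
    rw [show Nat.card (A : Set S2) = Nat.card A from rfl, hA] at h4
    omega
  have hg4 : g ^ 4 = 1 := by
    have := congrArg Subtype.val (pow_card_eq_one' (x := (⟨g, hgA⟩ : A)))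
    rw [hA] at this
    simpa using this
  have hgg : g * g = -1 := by
    have := Linear.eq_one_or_neg_one_of_sq h2 (g := g * g) (by rw [← sq, ← sq, ← pow_mul]; exact hg4)
    exact this.resolve_left hg
  have hord : orderOf g = 4 := by
    have := orderOf_eq_prime_pow (p := 2) (n := 1) (x := g) (by simpa [sq] using hg) (by simpa using hg4)
    simpa using this
  refine ⟨g, hgg, (Subgroup.eq_of_le_of_card_ge (Subgroup.zpowers_le.mpr hgA) ?_).symm⟩
  rw [Nat.card_zpowers, hord, hA]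

theorem normalizer_eq [Fintype F] (h2 : (2 : F) ≠ 0) {g : S2} (hg : g * g = -1) :
    Subgroup.normalizer ((Subgroup.zpowers g : Subgroup S2) : Set S2) =
      Subgroup.normalizer ((Subgroup.centralizer ({g} : Set S2)) : Set S2) := by
  obtain ⟨t0, t4⟩ := trace_of_sq_neg_one h2 hg
  ext h
  rw [Linear.mem_normalizer_centralizer_iff t4]
  have hinv : g⁻¹ = -g := inv_eq_of_mul_eq_one_right (by rw [mul_neg, hg, neg_neg])
  constructor
  · intro hh
    obtain ⟨n, hn⟩ := Subgroup.mem_zpowers_iff.mp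
      ((Subgroup.mem_normalizer_iff.mp hh g).mp (Subgroup.mem_zpowers g))
    refine Linear.eq_or_eq_inv_of_trace t4 ?_ (Linear.trace_conj g h)
    rw [Subgroup.mem_centralizer_singleton_iff, ← hn]
    exact (Commute.zpow_self g n).eq
  · intro hh
    rw [Subgroup.mem_normalizer_iff]
    have key : ∀ k : S2, (k * g * k⁻¹ = g ∨ k * g * k⁻¹ = g⁻¹) → ∀ x ∈ Subgroup.zpowers g,
        k * x * k⁻¹ ∈ Subgroup.zpowers g := by
      intro k hk x hx
      obtain ⟨n, rfl⟩ := Subgroup.mem_zpowers_iff.mp hx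
      rw [← conj_zpow]
      rcases hk with e | e <;> rw [e]
      · exact Subgroup.zpow_mem _ (Subgroup.mem_zpowers g) n
      · exact Subgroup.zpow_mem _ (Subgroup.inv_mem _ (Subgroup.mem_zpowers g)) n
    intro x
    refine ⟨key h hh x, fun hx => ?_⟩
    have hh' : h⁻¹ * g * (h⁻¹)⁻¹ = g ∨ h⁻¹ * g * (h⁻¹)⁻¹ = g⁻¹ := by
      rcases hh with e | e
      · left
        calc h⁻¹ * g * h⁻¹⁻¹ = h⁻¹ * (h * g * h⁻¹) * h := by rw [e, inv_inv]
          _ = g := by group
      · right
        calc h⁻¹ * g * h⁻¹⁻¹ = (h⁻¹ * g⁻¹ * h)⁻¹ := by group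
          _ = (h⁻¹ * (h * g * h⁻¹) * h)⁻¹ := by rw [e]
          _ = g⁻¹ := by group
    have := key h⁻¹ hh' _ hx
    simpa [mul_assoc] using this

theorem isSquare_neg_one_iff_root [Fintype F] :
    (∃ c : F, c ^ 2 - c * 0 + 1 = 0) ↔ Fintype.card F % 4 ≠ 3 := by
  rw [← FiniteField.isSquare_neg_one_iff]
  exact ⟨fun ⟨c, hc⟩ => ⟨c, by linear_combination -hc⟩, fun ⟨c, hc⟩ => ⟨c, by linear_combination -hc⟩⟩

theorem main [Fintype F] (hodd : Odd (Fintype.card F)) (A : Subgroup S2) (hA : Nat.card A = 4) :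
    (∀ B : Subgroup S2, Nat.card B = 4 → ∃ g : S2, B = A.map (MulAut.conj g).toMonoidHom) ∧
    (Fintype.card F % 4 = 1 → Nat.card ↥(Subgroup.normalizer (A : Set S2)) = 2 * (Fintype.card F - 1)) ∧
    (Fintype.card F % 4 = 3 → Nat.card ↥(Subgroup.normalizer (A : Set S2)) = 2 * (Fintype.card F + 1)) ∧
    (∀ x y : Matrix.ProjectiveSpecialLinearGroup (Fin 2) F, orderOf x = 2 → orderOf y = 2 → IsConj x y) := by
  have h2 := Linear.two_ne_zero_of_odd_card hodd
  obtain ⟨g, hg, rfl⟩ := exists_gen h2 A hA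
  obtain ⟨t0, t4⟩ := trace_of_sq_neg_one h2 hg
  refine ⟨fun B hB => ?_, fun hq => ?_, fun hq => ?_, fun x y hx hy => ?_⟩
  · obtain ⟨b, hb, rfl⟩ := exists_gen h2 B hB
    obtain ⟨c, hc⟩ := isConj_iff.mp (isConj_of_sq_neg_one h2 hg hb)
    refine ⟨c, ?_⟩
    rw [MonoidHom.map_zpowers]
    show Subgroup.zpowers b = Subgroup.zpowers (c * g * c⁻¹)
    rw [hc]
  · rw [normalizer_eq h2 hg, Linear.card_normalizer_centralizer t4,
      Linear.card_centralizer_split_SL t4 (by rw [t0, isSquare_neg_one_iff_root]; omega)]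
  · rw [normalizer_eq h2 hg, Linear.card_normalizer_centralizer t4,
      Linear.card_centralizer_nonsplit_SL t4 (fun c hc => by
        have := isSquare_neg_one_iff_root (F := F).mp ⟨c, by rwa [t0] at hc⟩
        omega)]
  · have lift : ∀ z : Matrix.ProjectiveSpecialLinearGroup (Fin 2) F, orderOf z = 2 →
        ∃ a : S2, (a : Matrix.ProjectiveSpecialLinearGroup (Fin 2) F) = z ∧ a * a = -1 := by
      intro z hz
      obtain ⟨a, rfl⟩ := QuotientGroup.mk_surjective z
      refine ⟨a, rfl, ?_⟩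
      have hsq : a * a ∈ Subgroup.center S2 := by
        rw [← QuotientGroup.eq_one_iff, QuotientGroup.mk_mul, ← sq]
        exact orderOf_dvd_iff_pow_eq_one.mp hz.dvd
      refine (Linear.mem_center_SL_two.mp hsq).resolve_left fun h1 => ?_
      have hc : a ∈ Subgroup.center S2 :=
        Linear.mem_center_SL_two.mpr (Linear.eq_one_or_neg_one_of_sq h2 h1)
      rw [(QuotientGroup.eq_one_iff a).mpr hc, orderOf_one] at hz
      omega
    obtain ⟨a, rfl, ha⟩ := lift x hx
    obtain ⟨b, rfl, hb⟩ := lift y hy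
    exact MonoidHom.map_isConj (QuotientGroup.mk' _) (isConj_of_sq_neg_one h2 ha hb)


/-- In SL_2(q), q odd: any two subgroups of order 4 are conjugate, and the normaliser of a subgroup of order 4 has order 2(q − 1) if q ≡ 1 (mod 4) and 2(q + 1) if q ≡ 3 (mod 4); consequently all involutions of PSL_2(q) are conjugate. -/
theorem result {F : Type*} [Field F] [Fintype F] {q : ℕ} (hF : Fintype.card F = q) (hodd : Odd q) (A : Subgroup (Matrix.SpecialLinearGroup (Fin 2) F)) (hA : Nat.card A = 4) : (∀ B : Subgroup (Matrix.SpecialLinearGroup (Fin 2) F), Nat.card B = 4 → ∃ g : Matrix.SpecialLinearGroup (Fin 2) F, B = A.map (MulAut.conj g).toMonoidHom) ∧ (q % 4 = 1 → Nat.card ↥(Subgroup.normalizer (A : Set (Matrix.SpecialLinearGroup (Fin 2) F))) = 2 * (q - 1)) ∧ (q % 4 = 3 → Nat.card ↥(Subgroup.normalizer (A : Set (Matrix.SpecialLinearGroup (Fin 2) F))) = 2 * (q + 1)) ∧ (∀ x y : Matrix.ProjectiveSpecialLinearGroup (Fin 2) F, orderOf x = 2 → orderOf y = 2 → IsConj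 x y) := by
  subst hF
  exact main hodd A hA

end Cfsg.Agent.S0809
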