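import Cfsg.Statements.S1247
import Cfsg.Agent.Components.LargeSubnormal
-- import your own Cfsg.Agent.* helpers here

set_option autoImplicit false
open Cfsg

namespace Cfsg.Agent.S1247

open Cfsg.Agent.Components
open scoped commutatorElement
set_option linter.style.haveILetI false

/-- Let G be a non-abelian finite simple group, A a maximal subgroup, F = F*(A) its generalized Fitting subgroup (viewed in G), and S ≤ F a subgroup subnormal in F with C_F(S) ≤ S. Let B be any subgroup of G containing S. Then (a) for every prime q not dividing |F(A)|, O_q(B) ∩ A = 1; and (b) for every prime p dividing |F(A)|, O_p(B) commutes elementwise with the subgroup of F generated by its elements of order prime to p. -/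
theorem result {G : Type*} [Group G] [Finite G] [IsSimpleGroup G] (hna : ¬ IsMulCommutative G) (A : Subgroup G) (hA : IsCoatom A) (S : Subgroup G) (hSF : S ≤ (Cfsg.generalizedFittingSubgroup ↥A).map A.subtype) (hSsn : (S.subgroupOf ((Cfsg.generalizedFittingSubgroup ↥A).map A.subtype)).IsSubnormal) (hSC : (Cfsg.generalizedFittingSubgroup ↥A).map A.subtype ⊓ Subgroup.centralizer (S : Set G) ≤ S) (B : Subgroup G) (hSB : S ≤ B) : (∀ q : ℕ, q.Prime → ¬ q ∣ Nat.card (Cfsg.fittingSubgroup ↥A) → (Cfsg.pCore q ↥B).map B.subtype ⊓ A = ⊥) ∧ (∀ p : ℕ, p.Prime → p ∣ Nat.card (Cfsg.fittingSubgroup ↥A) → ∀ x ∈ (Cfsg.pCore p ↥B).map B.subtype, ∀ y ∈ (Cfsg.pResidual p ↥(Cfsg.generalizedFittingSubgroup ↥A)).map ((Cfsg.generalizedFittingSubgroup ↥A).subtype) , x * (A.subtype y) = (A.subtype y) * x) := by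
  set F := Cfsg.generalizedFittingSubgroup ↥A
  set S' := S.subgroupOf A
  have hprim := coatom_normalizer hA
  have hSA : S ≤ A := hSF.trans (Subgroup.map_subtype_le _)
  have hS' : S' ≤ F := fun x hx => by
    obtain ⟨y, hy, hyx⟩ := hSF hx
    rwa [← A.subtype_injective hyx]
  have hsn' : (S'.subgroupOf F).IsSubnormal := by
    have := hSsn.comap (F.equivMapOfInjective A.subtype A.subtype_injective).toMonoidHom
    convert this using 1
    ext x
    simp [S', Subgroup.mem_subgroupOf, Subgroup.coe_equivMapOfInjective_apply]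
  have hC' : F ⊓ Subgroup.centralizer (S' : Set ↥A) ≤ S' := fun x hx =>
    hSC ⟨Subgroup.mem_map_of_mem _ hx.1, fun s hs =>
      congrArg Subtype.val (hx.2 ⟨s, hSA hs⟩ hs)⟩
  have hnR : ∀ (q : ℕ), S' ≤
      Subgroup.normalizer (((pCoreIn q B ⊓ A).subgroupOf A : Subgroup ↥A) : Set ↥A) := fun q => by
    refine le_trans (Subgroup.comap_mono ?_) (Subgroup.le_normalizer_comap _)
    exact (le_inf (hSB.trans (le_normalizer_map_subtype _))
      (hSA.trans Subgroup.le_normalizer)).trans Subgroup.inf_normalizer_le_normalizer_inf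
  refine ⟨fun q hq hqd => ?_, fun p hp hpd x hx y hy => ?_⟩
  · haveI := Fact.mk hq
    set R := pCoreIn q B ⊓ A with hR
    have hRq : IsPGroup q R := (isPGroup_pCoreIn B).to_le inf_le_left
    have h := layer_sup_le_centralizer_of_large hsn' hS' hC' (R := R.subgroupOf A)
      hRq.comap_subtype (hnR q)
    have hOq : Cfsg.pCore q ↥A = ⊥ := not_not.mp fun hb => hqd (pCore_ne_bot_iff.mp hb)
    have hF : F ≤ Subgroup.centralizer ((R.subgroupOf A : Subgroup ↥A) : Set ↥A) := by
      refine le_trans (sup_le le_sup_left ?_) h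
      rw [fitting_eq_iSup_pCore]
      refine iSup_le fun r => ?_
      by_cases hr : (r : ℕ) = q
      · rw [hr, hOq]; exact bot_le
      · exact le_sup_of_le_right (le_iSup (fun r : {r : (Nat.card ↥A).primeFactors // (r : ℕ) ≠ q} =>
          Cfsg.pCore (r : ℕ) ↥A) ⟨r, hr⟩)
    have hRF : R.subgroupOf A ≤ Cfsg.fittingSubgroup ↥A := by
      refine (Subgroup.le_centralizer_iff.mp hF).trans
        (normal_nilpotent_le_fitting inferInstance ?_)
      haveI : IsMulCommutative (Subgroup.centralizer (F : Set ↥A)) :=
        ⟨⟨fun a b => Subtype.ext (b.2 _ (centralizer_genFitting_le a.2))⟩⟩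
      open scoped IsMulCommutative in infer_instance
    have hcop : (Nat.card ↥((Cfsg.fittingSubgroup ↥A).map A.subtype)).Coprime q := by
      rw [Subgroup.card_map_of_injective A.subtype_injective]
      exact (hq.coprime_iff_not_dvd.mpr hqd).symm
    rw [← le_bot_iff, ← Cores.disjoint_of_isPGroup_of_coprime hRq hcop]
    exact le_inf le_rfl ((map_subgroupOf (inf_le_right : R ≤ A)).symm.le.trans
      (Subgroup.map_mono hRF))
  · haveI := Fact.mk hp
    set T := pCoreIn p B
    set O := ⨆ r : {r : (Nat.card ↥A).primeFactors // (r : ℕ) ≠ p}, Cfsg.pCore (r : ℕ) ↥A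
    have h0 : (Cfsg.layer ↥A ⊔ O).map A.subtype ≤ Subgroup.centralizer ((T ⊓ A : Subgroup G) : Set G) := by
      have h := layer_sup_le_centralizer_of_large hsn' hS' hC' (R := (T ⊓ A).subgroupOf A)
        ((isPGroup_pCoreIn B).to_le inf_le_left).comap_subtype (hnR p)
      rintro _ ⟨a, ha, rfl⟩ t ht
      exact congrArg A.subtype (h ha ⟨t, ht.2⟩ ht)
    set CF := Subgroup.centralizer (F : Set ↥A)
    have hCS : CF ≤ S' := (le_inf centralizer_genFitting_le (Subgroup.centralizer_le hS')).trans hC'
    have hCB : ∀ K : Subgroup ↥A, K ≤ CF → K.map A.subtype ≤ B := fun K hK =>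
      (Subgroup.map_mono (hK.trans hCS)).trans ((map_subgroupOf hSA).le.trans hSB)
    set P := (Cfsg.pCore p ↥A ⊓ CF).map A.subtype
    haveI : (Cfsg.pCore p ↥A ⊓ CF).Normal := Subgroup.normal_inf_normal _ _
    have hPne : P ≠ ⊥ := fun hb => pCore_inf_centralizer_ne_bot (pCore_ne_bot_iff.mpr hpd)
      ((Subgroup.map_eq_bot_iff_of_injective _ A.subtype_injective).mp hb)
    have hNP := hprim P hPne (Subgroup.map_subtype_le _) (le_normalizer_map_subtype _)
    have hPB : P ≤ B := hCB _ inf_le_right
    have hPp : IsPGroup p P := ((isPGroup_pCore p).to_le inf_le_left).map _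
    set E := layerIn A
    have hEB : E ≤ B := (Subgroup.map_mono (layer_le_of_large hsn' hS' hC')).trans
      ((map_subgroupOf hSA).le.trans hSB)
    have hTP : IsPGroup p ↥(T ⊔ P) :=
      (isPGroup_pCoreIn B).to_sup_of_normal_left' hPp (hPB.trans (le_normalizer_map_subtype _))
    haveI := hTP.isNilpotent
    have hPE : ⁅P, E⁆ = ⊥ := by
      rw [Subgroup.commutator_comm, ← le_bot_iff, ← layerIn_commutator_fitIn A]
      exact Subgroup.commutator_mono le_rfl
        (Subgroup.map_mono (inf_le_left.trans (pCore_le_fitting p)))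
    have hE : ⁅T, E⁆ = ⊥ := by
      have hW : ⁅T ⊔ P, E⁆ = ⊥ := by
        refine centralizes_nilpotent_of_perfect ?_ le_sup_right ?_ hPE ?_
        · rw [← Subgroup.map_commutator, layer_perfect]
        · exact (le_inf (hEB.trans (le_normalizer_map_subtype _))
            ((Subgroup.map_subtype_le _).trans (le_normalizer_map_subtype _))).trans
            (inf_normalizer_le_normalizer_sup T P)
        · rw [Subgroup.commutator_eq_bot_iff_le_centralizer]
          intro w hw
          have hw1 : w ∈ ((T ⊔ P : Subgroup G) : Set G) := hw.1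
          rw [Subgroup.coe_mul_of_right_le_normalizer_left _ _
            (hPB.trans (le_normalizer_map_subtype _))] at hw1
          obtain ⟨t, ht, z, hz, rfl⟩ := Set.mem_mul.mp hw1
          have hwA : t * z ∈ A := hNP.le hw.2
          have htA : t ∈ A := by
            have := A.mul_mem hwA (A.inv_mem (Subgroup.map_subtype_le _ hz))
            rwa [mul_inv_cancel_right] at this
          refine Subgroup.mul_mem _ ?_ (Subgroup.commutator_eq_bot_iff_le_centralizer.mp hPE hz)
          exact Subgroup.le_centralizer_iff.mp ((Subgroup.map_mono le_sup_left).trans h0) ⟨ht, htA⟩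
      exact le_bot_iff.mp ((Subgroup.commutator_mono le_sup_left le_rfl).trans hW.le)
    have hgoal : (Cfsg.layer ↥A ⊔ O).map A.subtype ≤ Subgroup.centralizer (T : Set G) := by
      by_cases hO : O = ⊥
      · rw [hO, sup_bot_eq, Subgroup.le_centralizer_iff]
        exact Subgroup.commutator_eq_bot_iff_le_centralizer.mp hE
      obtain ⟨r, hr⟩ : ∃ r : {r : (Nat.card ↥A).primeFactors // (r : ℕ) ≠ p},
          Cfsg.pCore (r : ℕ) ↥A ≠ ⊥ := by
        by_contra hcon
        push Not at hcon
        exact hO (iSup_eq_bot.mpr hcon)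
      haveI := Fact.mk (Nat.prime_of_mem_primeFactors r.1.2)
      haveI : (Cfsg.pPrimeCore p ↥A ⊓ CF).Normal := Subgroup.normal_inf_normal _ _
      set Z := (Cfsg.pPrimeCore p ↥A ⊓ CF).map A.subtype
      have hNZ := hprim Z (fun hb => pPrimeCore_inf_centralizer_ne_bot r.2 hr
        ((Subgroup.map_eq_bot_iff_of_injective _ A.subtype_injective).mp hb))
        (Subgroup.map_subtype_le _) (le_normalizer_map_subtype _)
      have hZB : Z ≤ B := hCB _ inf_le_right
      have hZcop : (Nat.card Z).Coprime p := by
        rw [Subgroup.card_map_of_injective A.subtype_injective]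
        exact Cores.coprime_card_pPrimeCore.coprime_dvd_left (Subgroup.card_dvd_of_le inf_le_left)
      have hPZ : P ≤ Subgroup.centralizer (Z : Set G) := by
        rintro _ ⟨a, ha, rfl⟩ _ ⟨b, hb, rfl⟩
        exact congrArg A.subtype (Cores.commute_pCore_pPrimeCore ha.1 hb.1).eq.symm
      have hT : Z ≤ Subgroup.centralizer (T : Set G) := by
        refine Coprime.thompson_AxB hPp hZcop hPZ T (isPGroup_pCoreIn B)
          (hPB.trans (le_normalizer_map_subtype _)) (hZB.trans (le_normalizer_map_subtype _)) ?_
        have h1 : T ⊓ Subgroup.centralizer (P : Set G) ≤ T ⊓ A := le_inf inf_le_left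
          (inf_le_right.trans ((Subgroup.centralizer_le_normalizer _).trans hNP.le))
        refine h1.trans (Subgroup.commutator_eq_bot_iff_le_centralizer.mp ?_)
        rw [← le_bot_iff, ← Cores.disjoint_of_isPGroup_of_coprime
          ((isPGroup_pCoreIn B).to_le (inf_le_left : T ⊓ A ≤ T)) hZcop]
        refine le_inf (Subgroup.le_normalizer_iff_commutator_le_left.mp ?_)
          (Subgroup.le_normalizer_iff_commutator_le_right.mp
            (inf_le_right.trans (le_normalizer_map_subtype _)))
        exact (le_inf (hZB.trans (le_normalizer_map_subtype _))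
          ((Subgroup.map_subtype_le _).trans Subgroup.le_normalizer)).trans
          Subgroup.inf_normalizer_le_normalizer_inf
      have hTA : T ≤ A := (Subgroup.le_centralizer_iff.mp hT).trans
        ((Subgroup.centralizer_le_normalizer _).trans hNZ.le)
      rw [inf_eq_left.mpr hTA] at h0
      exact h0
    exact hgoal (Subgroup.mem_map_of_mem _ (pResidual_genFitting_le p hy)) x hx

end Cfsg.Agent.S1247
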