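import Cfsg.Statements.S2116
import Cfsg.Agent.H50.MultiplierBound
import Cfsg.Agent.H50.ListSubgroup
import Cfsg.Agent.H50.SmallAltCover

set_option autoImplicit false
set_option maxHeartbeats 1000000
open Cfsg

namespace Cfsg.Agent.S2116

open Equiv Cfsg.Agent.H50
open scoped IsMulCommutative

theorem two_6 : ∃ Q : Subgroup (alternatingGroup (Fin 6)),
    (2 : ℕ).Coprime Q.index ∧ CyclicPartAt.{0, 0} 2 ↥Q := by
  let a : alternatingGroup (Fin 6) := ⟨swap 0 1 * swap 1 2 * swap 2 3 * swap 4 5, Perm.mem_alternatingGroup.2 (by decide +kernel)⟩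
  let b : alternatingGroup (Fin 6) := ⟨swap 0 2 * swap 4 5, Perm.mem_alternatingGroup.2 (by decide +kernel)⟩
  obtain ⟨f1, fr, fs, fm⟩ := prodList_facts (r := a) (s := b) (m := 4) (k := 2) (t := 3)
    (by norm_num) (by norm_num) (by decide +kernel) (by decide +kernel) (by decide +kernel)
  obtain ⟨a', b', ha, hb, hgen⟩ := exists_gens f1 fm fr fs
  refine ⟨_, ?_, cyclicPartAt_dihedral a' b' ?_ ?_ hgen⟩
  · have h := Subgroup.card_mul_index (listSubgroup (prodList a b 4 2) f1 fm)
    rw [card_listSubgroup (by decide +kernel), nat_card_alternatingGroup, Nat.card_fin,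
      show (prodList a b 4 2).length = 8 by decide +kernel] at h
    refine (Nat.Prime.coprime_iff_not_dvd Nat.prime_two).2 ?_
    norm_num [Nat.factorial] at h
    omega
  · rw [← Subgroup.orderOf_coe, ha]
    exact orderOf_eq_prime_pow (p := 2) (n := 1) (by decide +kernel) (by decide +kernel)
  · refine Subtype.ext ?_
    push_cast
    rw [ha, hb]
    decide +kernel

theorem three_6 : ∃ Q : Subgroup (alternatingGroup (Fin 6)),
    (3 : ℕ).Coprime Q.index ∧ CyclicPartAt.{0, 0} 3 ↥Q := by
  let r : alternatingGroup (Fin 6) := ⟨swap 0 1 * swap 1 2, Perm.mem_alternatingGroup.2 (by decide +kernel)⟩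
  let s : alternatingGroup (Fin 6) := ⟨swap 3 4 * swap 4 5, Perm.mem_alternatingGroup.2 (by decide +kernel)⟩
  obtain ⟨f1, fr, fs, fm⟩ := prodList_facts (r := r) (s := s) (m := 3) (k := 3) (t := 1)
    (by norm_num) (by norm_num) (by decide +kernel) (by decide +kernel) (by decide +kernel)
  obtain ⟨r', s', hr, hs, hgen⟩ := exists_gens f1 fm fr fs
  refine ⟨_, ?_, cyclicPartAt_abelian r' s' 3 ?_ ?_ hgen⟩
  · have h := Subgroup.card_mul_index (listSubgroup (prodList r s 3 3) f1 fm)
    rw [card_listSubgroup (by decide +kernel), nat_card_alternatingGroup, Nat.card_fin,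
      show (prodList r s 3 3).length = 9 by decide +kernel] at h
    refine (Nat.Prime.coprime_iff_not_dvd Nat.prime_three).2 ?_
    norm_num [Nat.factorial] at h
    omega
  · refine Subtype.ext ?_
    push_cast
    rw [hr, hs]
    decide +kernel
  · refine Subtype.ext ?_
    push_cast
    rw [hs]
    decide +kernel

theorem two_7 : ∃ Q : Subgroup (alternatingGroup (Fin 7)),
    (2 : ℕ).Coprime Q.index ∧ CyclicPartAt.{0, 0} 2 ↥Q := by
  let a : alternatingGroup (Fin 7) := ⟨swap 0 1 * swap 1 2 * swap 2 3 * swap 4 5, Perm.mem_alternatingGroup.2 (by decide +kernel)⟩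
  let b : alternatingGroup (Fin 7) := ⟨swap 0 2 * swap 4 5, Perm.mem_alternatingGroup.2 (by decide +kernel)⟩
  obtain ⟨f1, fr, fs, fm⟩ := prodList_facts (r := a) (s := b) (m := 4) (k := 2) (t := 3)
    (by norm_num) (by norm_num) (by decide +kernel) (by decide +kernel) (by decide +kernel)
  obtain ⟨a', b', ha, hb, hgen⟩ := exists_gens f1 fm fr fs
  refine ⟨_, ?_, cyclicPartAt_dihedral a' b' ?_ ?_ hgen⟩
  · have h := Subgroup.card_mul_index (listSubgroup (prodList a b 4 2) f1 fm)
    rw [card_listSubgroup (by decide +kernel), nat_card_alternatingGroup, Nat.card_fin,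
      show (prodList a b 4 2).length = 8 by decide +kernel] at h
    refine (Nat.Prime.coprime_iff_not_dvd Nat.prime_two).2 ?_
    norm_num [Nat.factorial] at h
    omega
  · rw [← Subgroup.orderOf_coe, ha]
    exact orderOf_eq_prime_pow (p := 2) (n := 1) (by decide +kernel) (by decide +kernel)
  · refine Subtype.ext ?_
    push_cast
    rw [ha, hb]
    decide +kernel

theorem three_7 : ∃ Q : Subgroup (alternatingGroup (Fin 7)),
    (3 : ℕ).Coprime Q.index ∧ CyclicPartAt.{0, 0} 3 ↥Q := by
  let r : alternatingGroup (Fin 7) := ⟨swap 0 1 * swap 1 2, Perm.mem_alternatingGroup.2 (by decide +kernel)⟩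
  let s : alternatingGroup (Fin 7) := ⟨swap 3 4 * swap 4 5, Perm.mem_alternatingGroup.2 (by decide +kernel)⟩
  obtain ⟨f1, fr, fs, fm⟩ := prodList_facts (r := r) (s := s) (m := 3) (k := 3) (t := 1)
    (by norm_num) (by norm_num) (by decide +kernel) (by decide +kernel) (by decide +kernel)
  obtain ⟨r', s', hr, hs, hgen⟩ := exists_gens f1 fm fr fs
  refine ⟨_, ?_, cyclicPartAt_abelian r' s' 3 ?_ ?_ hgen⟩
  · have h := Subgroup.card_mul_index (listSubgroup (prodList r s 3 3) f1 fm)
    rw [card_listSubgroup (by decide +kernel), nat_card_alternatingGroup, Nat.card_fin,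
      show (prodList r s 3 3).length = 9 by decide +kernel] at h
    refine (Nat.Prime.coprime_iff_not_dvd Nat.prime_three).2 ?_
    norm_num [Nat.factorial] at h
    omega
  · refine Subtype.ext ?_
    push_cast
    rw [hr, hs]
    decide +kernel
  · refine Subtype.ext ?_
    push_cast
    rw [hs]
    decide +kernel

/-- the two Sylow certificates for `n` points -/
theorem sylow_data : ∀ n, n = 6 ∨ n = 7 →
    (∃ Q : Subgroup (alternatingGroup (Fin n)), (2 : ℕ).Coprime Q.index ∧ CyclicPartAt.{0, 0} 2 ↥Q) ∧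
    ∃ Q : Subgroup (alternatingGroup (Fin n)), (3 : ℕ).Coprime Q.index ∧ CyclicPartAt.{0, 0} 3 ↥Q := by
  rintro n (rfl | rfl)
  exacts [⟨two_6, three_6⟩, ⟨two_7, three_7⟩]

/-- Exceptional Schur multipliers of the alternating groups: for n = 6 and n = 7 the Schur multiplier of the alternating group of degree n is cyclic of order 6 (here the Schur multiplier is described through stem extensions, as in the definitions). -/
theorem result (n : ℕ) (hn : n = 6 ∨ n = 7) : Cfsg.HasCyclicSchurMultiplier (alternatingGroup (Fin n)) 6 := by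
  obtain ⟨P, _, _, σ, hσ, hc, hk⟩ := SmallAlt.exists_six hn
  refine ⟨⟨P, inferInstance, inferInstance, σ, hσ, ⟨mulEquivOfCyclicCardEq ?_⟩⟩, fun Γ _ _ τ hτ => ?_⟩
  · rw [hk]; exact ((Nat.card_congr Multiplicative.toAdd).trans (Nat.card_zmod 6)).symm
  obtain ⟨⟨Q2, i2, p2⟩, ⟨Q3, i3, p3⟩⟩ := sylow_data n hn
  refine exists_surjective_of_parts hτ (n₂ := 2) (n₃ := 3) (by decide)
    (exists_part hτ Q2 i2 p2) (exists_part hτ Q3 i3 p3) fun p hp hp2 hp3 z hz hzp => ?_
  refine eq_one_of_sq_not_dvd hτ hp ?_ z hz hzp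
  have : Nontrivial (Fin n) := by rcases hn with rfl | rfl <;> infer_instance
  rw [nat_card_alternatingGroup, Nat.card_fin]
  intro hd
  have h5 : 5 ≤ p := by
    have := hp.two_le
    by_contra h
    have : p = 4 := by omega
    subst this
    norm_num at hp
  have hcases : p ^ 2 ∣ 360 ∨ p ^ 2 ∣ 2520 := by
    rcases hn with rfl | rfl <;> norm_num [Nat.factorial] at hd <;> [left; right] <;> exact hd
  have hd' : p ^ 2 ∣ 2520 := hcases.elim (fun h => h.trans (by norm_num)) id
  have hp7 : p ≤ 50 := by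
    have := Nat.le_of_dvd (by norm_num) hd'
    nlinarith
  interval_cases p <;> first | (norm_num at hp; done) | norm_num at hd'

end Cfsg.Agent.S2116
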