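import Cfsg.Statements.S2117
import Cfsg.Agent.H50.SchurRigid
import Cfsg.Agent.H50.InvBilinear
import Cfsg.Agent.Linear.Order
import Mathlib

set_option autoImplicit false
open Cfsg Matrix Matrix.SpecialLinearGroup
open scoped MatrixGroups commutatorElement

namespace Cfsg.Agent.S2117

set_option linter.unusedSimpArgs false
set_option linter.unusedSectionVars false

open Cfsg.Agent.H50

universe u
variable {F : Type u} [Field F]

/-- the transvection `[[1,x],[0,1]]` -/
def up (x : F) : SL(2, F) := ⟨!![1, x; 0, 1], by simp [det_fin_two_of]⟩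

theorem coe_up (x : F) : (up x : Matrix (Fin 2) (Fin 2) F) = !![1, x; 0, 1] := rfl

theorem up_mul (x y : F) : up x * up y = up (x + y) := by
  refine Subtype.ext ?_
  rw [Matrix.SpecialLinearGroup.coe_mul, coe_up, coe_up, coe_up]
  ext i j; fin_cases i <;> fin_cases j <;> simp [Matrix.mul_apply, add_comm]

/-- the upper unitriangular subgroup as a homomorphism -/
def upHom : Multiplicative F →* SL(2, F) :=
  MonoidHom.mk' (fun x => up x.toAdd) fun x y => (up_mul x.toAdd y.toAdd).symm

theorem upHom_injective : Function.Injective (upHom (F := F)) := by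
  intro x y h
  have := congrArg (fun g : SL(2, F) => (g : Matrix (Fin 2) (Fin 2) F) 0 1) h
  exact Multiplicative.toAdd.injective (by simpa [upHom, coe_up] using this)

/-- the diagonal torus -/
def tor : Fˣ →* SL(2, F) :=
  MonoidHom.mk' (fun t => ⟨!![(t : F), 0; 0, (↑t⁻¹ : F)], by simp [det_fin_two_of]⟩) fun t s => by
    refine Subtype.ext ?_
    change !![((t * s : Fˣ) : F), 0; 0, (↑(t * s)⁻¹ : F)] = !![(t : F), 0; 0, (↑t⁻¹ : F)] * !![(s : F), 0; 0, (↑s⁻¹ : F)]
    ext i j; fin_cases i <;> fin_cases j <;> simp [Matrix.mul_apply, mul_comm]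

theorem coe_tor (t : Fˣ) : (tor t : Matrix (Fin 2) (Fin 2) F) = !![(t : F), 0; 0, (↑t⁻¹ : F)] := rfl

theorem tor_injective : Function.Injective (tor (F := F)) := by
  intro x y h
  have := congrArg (fun g : SL(2, F) => (g : Matrix (Fin 2) (Fin 2) F) 0 0) h
  exact Units.ext (by simpa [coe_tor] using this)

theorem tor_conj (t : Fˣ) (x : F) : tor t * up x * (tor t)⁻¹ = up ((t : F) ^ 2 * x) := by
  rw [mul_inv_eq_iff_eq_mul]
  refine Subtype.ext ?_
  rw [Matrix.SpecialLinearGroup.coe_mul, Matrix.SpecialLinearGroup.coe_mul, coe_up, coe_up, coe_tor]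
  ext i j; fin_cases i <;> fin_cases j <;> simp [Matrix.mul_apply, pow_two, mul_comm, mul_assoc, mul_left_comm]

variable [Fintype F]

theorem card_eq : Nat.card SL(2, F) =
    Fintype.card F * ((Fintype.card F - 1) * (Fintype.card F + 1)) := by
  rw [Cfsg.Agent.Linear.card_SL_two, show Fintype.card F ^ 2 = Fintype.card F ^ 2 from rfl]
  congr 1
  rw [mul_comm, ← Nat.sq_sub_sq, one_pow]

/-- an element of order `q + 1` -/
theorem exists_order_succ : ∃ a : SL(2, F), orderOf a = Fintype.card F + 1 := by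
  let p := ringChar F
  have : Fact p.Prime := ⟨CharP.char_is_prime F p⟩
  let K := FiniteField.Extension F p 2
  have hK : Nat.card K = Fintype.card F ^ 2 := by
    rw [FiniteField.natCard_extension, Nat.card_eq_fintype_card]
  let b : Module.Basis (Fin 2) F K :=
    Module.finBasisOfFinrankEq F K (FiniteField.finrank_extension F p 2)
  obtain ⟨g, hg⟩ := IsCyclic.exists_ofOrder_eq_natCard (α := Kˣ)
  rw [Nat.card_units, hK] at hg
  set q := Fintype.card F with hqdef
  have hq : 2 ≤ q := Fintype.one_lt_card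
  have hqq : q ^ 2 - 1 = (q - 1) * (q + 1) := by rw [mul_comm, ← Nat.sq_sub_sq, one_pow]
  let u : Kˣ := g ^ (q - 1)
  have hu : orderOf u = q + 1 := by
    rw [orderOf_pow' g (by omega : q - 1 ≠ 0), hg, hqq,
      Nat.gcd_eq_right (dvd_mul_right _ _), Nat.mul_div_cancel_left _ (by omega)]
  have hN : Algebra.norm F (u : K) = 1 := by
    have h1 : Algebra.norm F (g : K) ≠ 0 := Algebra.norm_ne_zero_iff.2 g.ne_zero
    rw [Units.val_pow_eq_pow_val, map_pow]
    exact FiniteField.pow_card_sub_one_eq_one _ h1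
  let a : SL(2, F) := ⟨Algebra.leftMulMatrix b (u : K), by rw [← Algebra.norm_eq_matrix_det, hN]⟩
  refine ⟨a, ?_⟩
  rw [← hu, ← orderOf_units]
  have e1 := orderOf_injective (Algebra.leftMulMatrix b).toRingHom.toMonoidHom
    (Algebra.leftMulMatrix_injective b) (u : K)
  rw [← e1]
  exact (orderOf_injective ({ toFun := fun x : SL(2, F) => (x : Matrix (Fin 2) (Fin 2) F),
                              map_one' := rfl, map_mul' := fun _ _ => rfl } :
    SL(2, F) →* Matrix (Fin 2) (Fin 2) F) Subtype.val_injective a).symm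

section odd

variable (h2 : (2 : F) ≠ 0)

include h2 in
omit [Fintype F] in
theorem eq_of_sq (x : SL(2, F)) (hx : x ^ 2 = 1) : x = 1 ∨ x = -1 := by
  have hinv : x⁻¹ = x := inv_eq_of_mul_eq_one_right (by rw [← sq]; exact hx)
  have h := congrArg (fun g : SL(2, F) => (g : Matrix (Fin 2) (Fin 2) F)) hinv
  simp only [Matrix.SpecialLinearGroup.coe_inv, adjugate_fin_two] at h
  have h00 := congrFun (congrFun h 0) 0
  have h01 := congrFun (congrFun h 0) 1
  have h10 := congrFun (congrFun h 1) 0
  simp at h00 h01 h10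
  have k01 : x.1 0 1 = 0 := by
    have : (2 : F) * x.1 0 1 = 0 := by linear_combination -h01
    rcases mul_eq_zero.1 this with e | e
    · exact absurd e h2
    · exact e
  have k10 : x.1 1 0 = 0 := by
    have : (2 : F) * x.1 1 0 = 0 := by linear_combination -h10
    rcases mul_eq_zero.1 this with e | e
    · exact absurd e h2
    · exact e
  have hd := x.2
  rw [det_fin_two, k01, k10, h00] at hd
  have : x.1 0 0 * x.1 0 0 = 1 := by linear_combination hd
  rcases mul_self_eq_one_iff.1 this with e | e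
  · left; refine Subtype.ext ?_
    ext i j; fin_cases i <;> fin_cases j <;> simp [e, k01, k10, h00]
  · right; refine Subtype.ext ?_
    ext i j; fin_cases i <;> fin_cases j <;> simp [e, k01, k10, h00]

include h2 in
omit [Fintype F] in
theorem neg_one_ne_one : (-1 : SL(2, F)) ≠ 1 := by
  intro h
  have := congrArg (fun g : SL(2, F) => (g : Matrix (Fin 2) (Fin 2) F) 0 0) h
  simp at this
  exact h2 (by linear_combination -this)

include h2 in
omit [Fintype F] in
theorem pow_half {a : SL(2, F)} {m : ℕ} (hm : m ≠ 0) (ha : orderOf a = 2 * m) : a ^ m = -1 := by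
  rcases eq_of_sq h2 (a ^ m) (by rw [← pow_mul, mul_comm, ← ha, pow_orderOf_eq_one]) with e | e
  · have := orderOf_dvd_of_pow_eq_one e
    rw [ha] at this
    have := Nat.le_of_dvd (Nat.pos_of_ne_zero hm) this
    omega
  · exact e

include h2 in
omit [Fintype F] in
/-- `closure {a, b}` is rigid and has order divisible by `2 * orderOf a` -/
theorem dicyclic {a b : SL(2, F)} [Finite F] {m : ℕ} (hm : m ≠ 0) (ha : orderOf a = 2 * m)
    (hm2 : 2 ≤ m ∨ b ∉ Subgroup.zpowers a)
    (hb : b * b = -1) (hba : b * a * b⁻¹ = a⁻¹) (p : ℕ) :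
    RigidAt p ↥(Subgroup.closure ({a, b} : Set SL(2, F))) ∧
      4 * m ∣ Nat.card ↥(Subgroup.closure ({a, b} : Set SL(2, F))) := by
  set Q := Subgroup.closure ({a, b} : Set SL(2, F)) with hQ
  have haQ : a ∈ Q := Subgroup.subset_closure (by simp)
  have hbQ : b ∈ Q := Subgroup.subset_closure (by simp)
  let a' : Q := ⟨a, haQ⟩
  let b' : Q := ⟨b, hbQ⟩
  have hgen : Subgroup.closure {a', b'} = ⊤ := by
    rw [← Subgroup.map_subtype_inj, MonoidHom.map_closure, Set.image_insert_eq, Set.image_singleton,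
      ← MonoidHom.range_eq_map, Subgroup.range_subtype]
    rfl
  have hoa : orderOf a' = 2 * m := by rw [← ha, ← Subgroup.orderOf_coe]
  have hb2 : b' ^ 2 = a' ^ m := Subtype.ext (by
    push_cast
    rw [sq, hb, pow_half h2 hm ha])
  have hba' : b' * a' * b'⁻¹ = a'⁻¹ := Subtype.ext (by push_cast; exact hba)
  refine ⟨rigidAt_quaternion p a' b' m hoa hb2 hba' hgen, ?_⟩
  have hbn : b ∉ Subgroup.zpowers a := by
    rcases hm2 with h | h
    · intro hb'
      obtain ⟨i, rfl⟩ := hb'
      have hc : a ^ i * a * (a ^ i)⁻¹ = a := by group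
      simp only at hba
      rw [hc] at hba
      have : a ^ 2 = 1 := by rw [sq]; exact mul_eq_one_iff_eq_inv.2 hba
      have := Nat.le_of_dvd (by omega) (orderOf_dvd_of_pow_eq_one this)
      omega
    · exact h
  set N := Subgroup.zpowers a' with hN
  have hNn : N.Normal := by
    rw [← Subgroup.normalizer_eq_top_iff, eq_top_iff, ← hgen, Subgroup.closure_le]
    rintro x (rfl | rfl)
    · exact Subgroup.le_normalizer (Subgroup.mem_zpowers a')
    · rw [SetLike.mem_coe, Subgroup.mem_normalizer_iff]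
      intro h
      constructor
      · rintro ⟨i, rfl⟩
        simp only [← conj_zpow, hba', _root_.inv_zpow]
        exact N.inv_mem (Subgroup.zpow_mem _ (Subgroup.mem_zpowers a') i)
      · rintro ⟨i, hi⟩
        simp only at hi
        refine ⟨-i, ?_⟩
        have e : b' * a' ^ (-i) * b'⁻¹ = b' * h * b'⁻¹ := by
          rw [← hi, ← conj_zpow, hba', _root_.inv_zpow', neg_neg]
        exact mul_left_cancel (mul_right_cancel e)
  have hq : orderOf (QuotientGroup.mk' N b') = 2 := by
    refine orderOf_eq_prime ?_ ?_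
    · rw [← map_pow, hb2, QuotientGroup.mk'_apply, QuotientGroup.eq_one_iff]
      exact Subgroup.pow_mem _ (Subgroup.mem_zpowers a') m
    · rw [QuotientGroup.mk'_apply, Ne, QuotientGroup.eq_one_iff]
      rintro ⟨i, hi⟩
      exact hbn ⟨i, by simpa using congrArg Subtype.val hi⟩
  rw [Subgroup.card_eq_card_quotient_mul_card_subgroup N, hN, Nat.card_zpowers, hoa,
    show 4 * m = 2 * (2 * m) by ring]
  refine Nat.mul_dvd_mul_right ?_ _
  exact (dvd_of_eq hq.symm).trans (orderOf_dvd_natCard _)

omit [Fintype F] in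
/-- an element `b` of square `-1` inverting a given non-diagonalisable element -/
theorem exists_inverting [Finite F] (h2 : (2 : F) ≠ 0) (a : SL(2, F)) (hc : a.1 1 0 ≠ 0)
    (hD : (a.1 0 0 + a.1 1 1) ^ 2 ≠ 4) :
    ∃ b : SL(2, F), b * b = -1 ∧ b * a * b⁻¹ = a⁻¹ := by
  have := Fintype.ofFinite F
  set c := a.1 1 0 with hcdef
  set e := a.1 0 1
  set d := a.1 0 0 - a.1 1 1 with hddef
  have hdet : a.1 0 0 * a.1 1 1 - e * c = 1 := by
    have := a.2; rw [det_fin_two] at this; exact this
  set D := (d ^ 2 + 4 * e * c) / (4 * c ^ 2) with hDdef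
  have h4 : (4 : F) ≠ 0 := by
    intro h; apply h2
    have : (2 : F) * 2 = 0 := by linear_combination h
    rcases mul_eq_zero.1 this with r | r <;> exact r
  have hD0 : D ≠ 0 := by
    rw [hDdef]
    refine div_ne_zero ?_ (mul_ne_zero h4 (pow_ne_zero _ hc))
    intro h; apply hD
    linear_combination h + 4 * hdet
  have hodd : Fintype.card F % 2 = 1 :=
    FiniteField.odd_card_of_char_ne_two (fun h => h2 (by
      have := ringChar.charP F
      rw [h] at this
      exact_mod_cast CharP.cast_eq_zero F 2))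
  obtain ⟨x, w, hxw⟩ := FiniteField.exists_root_sum_quadratic
    (f := -(Polynomial.X ^ 2) + Polynomial.C (-1 : F)) (g := Polynomial.C D * Polynomial.X ^ 2)
    (by rw [Polynomial.degree_add_eq_left_of_degree_lt] <;> simp [Polynomial.degree_C (show (-1:F) ≠ 0 by simp)])
    (Polynomial.degree_C_mul_X_pow 2 hD0) hodd
  simp at hxw
  have hx : -(x ^ 2) + D * w ^ 2 = 1 := by linear_combination hxw
  set u := x + d * w / (2 * c) with hu
  set v := -(u * d + w * e) / c with hv
  have hv' : v * c = -(u * d + w * e) := by rw [hv, div_mul_cancel₀ _ hc]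
  have hdetb : u * (-u) - v * w = 1 := by
    rw [← hx, hu, hv, hu, hDdef]
    field_simp
    ring
  clear_value u v
  let b : SL(2, F) := ⟨!![u, v; w, -u], by rw [det_fin_two_of]; exact hdetb⟩
  have hbb : b * b = -1 := by
    refine Subtype.ext ?_
    rw [Matrix.SpecialLinearGroup.coe_mul, Matrix.SpecialLinearGroup.coe_neg, Matrix.SpecialLinearGroup.coe_one]
    try rw [Matrix.SpecialLinearGroup.coe_mul]
    rw [show (b : Matrix (Fin 2) (Fin 2) F) = !![u, v; w, -u] from rfl]
    ext i j; fin_cases i <;> fin_cases j <;>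
      simp [Matrix.mul_apply] <;> first | linear_combination hdetb | linear_combination -hdetb | ring
  refine ⟨b, hbb, ?_⟩
  have key : b * a * (b * a) = -1 := by
    refine Subtype.ext ?_
    rw [Matrix.SpecialLinearGroup.coe_mul, Matrix.SpecialLinearGroup.coe_neg, Matrix.SpecialLinearGroup.coe_one]
    try rw [Matrix.SpecialLinearGroup.coe_mul]
    rw [show (b : Matrix (Fin 2) (Fin 2) F) = !![u, v; w, -u] from rfl]
    have htr : u * d + v * c + w * e = 0 := by linear_combination hv'
    rw [hddef] at htr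
    have hda := hdet
    have hdb := hdetb
    rw [show (a : Matrix (Fin 2) (Fin 2) F) = !![a.1 0 0, e; c, a.1 1 1] from Matrix.eta_fin_two _]
    ext i j; fin_cases i <;> fin_cases j <;> simp [Matrix.mul_apply]
    · linear_combination (u * a.1 0 0 + v * c) * htr - hda - (a.1 0 0 * a.1 1 1 - e * c) * hdb
    · linear_combination (u * e + v * a.1 1 1) * htr
    · linear_combination (w * a.1 0 0 - u * c) * htr
    · linear_combination (w * e - u * a.1 1 1) * htr - hda - (a.1 0 0 * a.1 1 1 - e * c) * hdb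
  have h1 : b * a * b = (-1) * a⁻¹ := eq_mul_inv_iff_mul_eq.2 (by rw [mul_assoc]; exact key)
  have hbinv : b⁻¹ = -1 * b := by
    refine inv_eq_of_mul_eq_one_right ?_
    rw [neg_one_mul, mul_neg, hbb, neg_neg]
  rw [hbinv, neg_one_mul, mul_neg, h1, neg_one_mul, neg_neg]

end odd

theorem natCard_range_upHom : Nat.card (upHom (F := F)).range = Fintype.card F := by
  rw [← Nat.card_congr (MonoidHom.ofInjective upHom_injective).toEquiv]
  simp [Nat.card_eq_fintype_card]

/-- the characteristic part of the kernel -/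
theorem char_part (p f : ℕ) [Fact p.Prime] [CharP F p] (hq : Fintype.card F = p ^ f)
    (h4 : Fintype.card F ≠ 4) (h9 : Fintype.card F ≠ 9)
    {Γ : Type u} [Group Γ] [Finite Γ] {σ : Γ →* SL(2, F)} (hσ : IsStemExtension σ)
    (z : Γ) (hz : z ∈ σ.ker) (hzp : z ^ p = 1) : z = 1 := by
  classical
  have hq2 : 2 ≤ Fintype.card F := Fintype.one_lt_card
  set Q := (upHom (F := F)).range with hQdef
  have hQ : p.Coprime Q.index := by
    have h := Q.card_mul_index
    rw [natCard_range_upHom, card_eq] at h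
    rw [Nat.eq_of_mul_eq_mul_left (by omega) h]
    refine (Nat.Prime.coprime_iff_not_dvd Fact.out).2 fun hd => ?_
    rcases (Fact.out : p.Prime).dvd_mul.1 hd with h' | h'
    all_goals
      have hf : f ≠ 0 := by rintro rfl; simp at hq; omega
      have hpq : p ∣ Fintype.card F := hq ▸ dvd_pow_self p hf
    · have := Nat.dvd_sub hpq h'
      rw [Nat.sub_sub_self (by omega)] at this
      exact (Fact.out : p.Prime).one_lt.ne' (Nat.dvd_one.1 this)
    · have := Nat.dvd_sub h' hpq
      rw [Nat.add_sub_cancel_left] at this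
      exact (Fact.out : p.Prime).one_lt.ne' (Nat.dvd_one.1 this)
  obtain ⟨hzQ, hzc⟩ := mem_commutator_comap hσ Q hQ z hz hzp
  let _ : CommGroup σ.ker :=
    { (inferInstance : Group σ.ker) with
      mul_comm := fun a b => Subtype.ext (Subgroup.mem_center_iff.1 (hσ.2.1 b.2) a) }
  obtain ⟨s, hs⟩ : ∃ s : F → Γ, ∀ x, σ (s x) = up x :=
    ⟨fun x => (hσ.1 (up x)).choose, fun x => (hσ.1 (up x)).choose_spec⟩
  have cen : ∀ {w : Γ}, σ w = 1 → ∀ g : Γ, g * w = w * g := fun hw g =>
    Subgroup.mem_center_iff.1 (hσ.2.1 (MonoidHom.mem_ker.2 hw)) g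
  have hupc : ∀ x y : F, up x * up y = up y * up x := fun x y => by rw [up_mul, up_mul, add_comm]
  have hk : ∀ x y, ⁅s x, s y⁆ ∈ σ.ker := fun x y => by
    rw [MonoidHom.mem_ker, map_commutatorElement, hs, hs, commutatorElement_eq_one_iff_mul_comm, hupc]
  have indep : ∀ {g h g' h' : Γ}, σ g = σ g' → σ h = σ h' → ⁅g, h⁆ = ⁅g', h'⁆ := by
    intro g h g' h' e1 e2
    obtain ⟨w1, hw1, rfl⟩ : ∃ w, σ w = 1 ∧ g' * w = g := ⟨g'⁻¹ * g, by simp [e1], by group⟩
    obtain ⟨w2, hw2, rfl⟩ : ∃ w, σ w = 1 ∧ h' * w = h := ⟨h'⁻¹ * h, by simp [e2], by group⟩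
    have c1 := cen hw1
    have c2 := cen hw2
    simp only [commutatorElement_def, _root_.mul_inv_rev]
    calc g' * w1 * (h' * w2) * (w1⁻¹ * g'⁻¹) * (w2⁻¹ * h'⁻¹)
        = g' * (w1 * h') * w2 * (w1⁻¹ * g'⁻¹) * (w2⁻¹ * h'⁻¹) := by group
      _ = g' * (h' * w1) * w2 * (w1⁻¹ * g'⁻¹) * (w2⁻¹ * h'⁻¹) := by rw [← c1 h']
      _ = g' * h' * (w1 * w2) * (w1⁻¹ * g'⁻¹) * (w2⁻¹ * h'⁻¹) := by group
      _ = g' * h' * (w2 * w1) * (w1⁻¹ * g'⁻¹) * (w2⁻¹ * h'⁻¹) := by rw [← c1 w2]
      _ = g' * h' * (w2 * g'⁻¹) * (w2⁻¹ * h'⁻¹) := by group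
      _ = g' * h' * (g'⁻¹ * w2) * (w2⁻¹ * h'⁻¹) := by rw [← c2 g'⁻¹]
      _ = g' * h' * g'⁻¹ * h'⁻¹ := by group
  have addl : ∀ x x' y, (⁅s (x + x'), s y⁆ : Γ) = ⁅s x, s y⁆ * ⁅s x', s y⁆ := by
    intro x x' y
    rw [indep (g' := s x * s x') (h' := s y) (by rw [map_mul, hs, hs, hs, up_mul]) rfl]
    have c := cen (MonoidHom.mem_ker.1 (hk x' y))
    calc ⁅s x * s x', s y⁆ = s x * ⁅s x', s y⁆ * (s x)⁻¹ * ⁅s x, s y⁆ := by
          simp only [commutatorElement_def]; group
      _ = ⁅s x', s y⁆ * ⁅s x, s y⁆ := by rw [c (s x), mul_inv_cancel_right]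
      _ = ⁅s x, s y⁆ * ⁅s x', s y⁆ := (c _).symm
  have addr : ∀ x y y', (⁅s x, s (y + y')⁆ : Γ) = ⁅s x, s y⁆ * ⁅s x, s y'⁆ := by
    intro x y y'
    rw [← commutatorElement_inv (s (y + y')), addl, _root_.mul_inv_rev, commutatorElement_inv,
      commutatorElement_inv]
    exact (cen (MonoidHom.mem_ker.1 (hk x y)) _)
  let c : F →+ F →+ Additive σ.ker :=
    AddMonoidHom.mk' (fun x => AddMonoidHom.mk' (fun y => Additive.ofMul ⟨⁅s x, s y⁆, hk x y⟩)
        (fun y y' => congrArg Additive.ofMul (Subtype.ext (addr x y y'))))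
      (fun x x' => AddMonoidHom.ext fun y => congrArg Additive.ofMul (Subtype.ext (addl x x' y)))
  by_cases hc : c = 0
  · have hcomm : ∀ x y, ⁅s x, s y⁆ = 1 := fun x y => by
      have := DFunLike.congr_fun (DFunLike.congr_fun hc x) y
      exact congrArg Subtype.val (Additive.ofMul.injective (this.trans (by rfl : (0 : Additive σ.ker) = Additive.ofMul 1)))
    have : commutator ↥(Q.comap σ) = ⊥ := by
      rw [_root_.commutator_def, eq_bot_iff, Subgroup.commutator_le]
      intro g _ h _
      rw [Subgroup.mem_bot]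
      obtain ⟨x, hx⟩ := (Subgroup.mem_comap.1 g.2 : σ g ∈ Q)
      obtain ⟨y, hy⟩ := (Subgroup.mem_comap.1 h.2 : σ h ∈ Q)
      refine Subtype.ext ?_
      show ⁅(g : Γ), (h : Γ)⁆ = 1
      rw [indep (g' := s x.toAdd) (h' := s y.toAdd) (by rw [hs, ← hx]; rfl) (by rw [hs, ← hy]; rfl)]
      exact hcomm _ _
    rw [this, Subgroup.mem_bot] at hzc
    exact congrArg Subtype.val hzc
  exfalso
  have hf2 : 2 ≤ f := by
    by_contra hf
    apply hc
    have hf1 : f = 1 := by
      rcases Nat.lt_or_ge f 1 with h | h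
      · interval_cases f; simp at hq; omega
      · omega
    rw [hf1, pow_one] at hq
    have hgen : ∀ x : F, ∃ n : ℕ, (n : F) = x := by
      let e := ZMod.ringEquiv F hq
      intro x
      refine ⟨(e.symm x).val, ?_⟩
      have : NeZero p := ⟨(Fact.out : p.Prime).ne_zero⟩
      conv_rhs => rw [← e.apply_symm_apply x, ← ZMod.natCast_zmod_val (e.symm x), map_natCast]
    ext x y
    obtain ⟨m, rfl⟩ := hgen x
    obtain ⟨n, rfl⟩ := hgen y
    have h11 : c 1 1 = 0 := congrArg Additive.ofMul (Subtype.ext (commutatorElement_self (s 1)))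
    rw [← nsmul_one, ← nsmul_one n]
    simp only [map_nsmul, AddMonoidHom.smul_apply, nsmul_eq_smul, h11, smul_zero, AddMonoidHom.zero_apply]
  let S : Submonoid F := Submonoid.map ((powMonoidHom 2).comp (Units.coeHom F)) ⊤
  have hS0 : (0 : F) ∉ S := by
    rintro ⟨t, -, ht⟩
    simp at ht
  have hSc : Fintype.card F < (Nat.card S + 1) ^ 2 := by
    have h1 : Fintype.card F - 1 ≤ 2 * Nat.card S := by
      let φ : Fˣ →* Fˣ := powMonoidHom 2
      have hr : Nat.card φ.range = Nat.card S := by
        refine Nat.card_congr (Equiv.ofBijective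
          (fun x => ⟨((x : Fˣ) : F), by obtain ⟨t, ht⟩ := x.2; exact ⟨t, trivial, by simp [← ht, φ]⟩⟩) ⟨?_, ?_⟩)
        · intro x y h; exact Subtype.ext (Units.ext (congrArg Subtype.val h))
        · rintro ⟨_, t, -, rfl⟩
          exact ⟨⟨t ^ 2, t, rfl⟩, by simp⟩
      have hk2 : Nat.card φ.ker ≤ 2 := by
        rw [IsCyclic.card_powMonoidHom_ker]
        exact Nat.le_of_dvd two_pos (Nat.gcd_dvd_right _ _)
      have := φ.ker.card_mul_index
      rw [Subgroup.index_ker, hr, Nat.card_units, Nat.card_eq_fintype_card (α := F)] at this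
      have := Nat.mul_le_mul_right (Nat.card S) hk2
      omega
    rcases Nat.eq_zero_or_pos (Nat.card S) with hS | hS
    · omega
    · have : Fintype.card F ≤ 2 * Nat.card S + 1 := by omega
      nlinarith
  have hStop := closure_submonoid_eq_top S hS0 hSc
  obtain ⟨φ, hφ⟩ := exists_ringHom_of_invariant c S hS0 hStop id (by simpa using hStop)
    (fun t ht h => hS0 (by rw [id] at h; exact h ▸ ht)) (by
      rintro _ ⟨t, -, rfl⟩ x y
      obtain ⟨T, hT⟩ := hσ.1 (tor t)
      refine congrArg Additive.ofMul (Subtype.ext ?_)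
      show ⁅s _, s _⁆ = ⁅s x, s y⁆
      rw [indep (g' := T * s x * T⁻¹) (h' := T * s y * T⁻¹)
        (by rw [hs, map_mul, map_mul, map_inv, hT, hs, tor_conj]; simp)
        (by rw [hs, map_mul, map_mul, map_inv, hT, hs, tor_conj]; simp)]
      rw [show ⁅T * s x * T⁻¹, T * s y * T⁻¹⁆ = T * ⁅s x, s y⁆ * T⁻¹ by
        simp only [commutatorElement_def]; group]
      rw [cen (MonoidHom.mem_ker.1 (hk x y)) T, mul_inv_cancel_right]) hc
  obtain ⟨i, hif, hi⟩ := exists_pow_of_ringHom p f hq φ
  obtain ⟨g, hg⟩ := IsCyclic.exists_ofOrder_eq_natCard (α := Fˣ)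
  rw [Nat.card_units, Nat.card_eq_fintype_card, hq] at hg
  have hpow := hφ ((g : F) ^ 2) ⟨g, trivial, by simp⟩
  rw [hi, id, ← pow_mul, ← pow_add] at hpow
  have hdvd : p ^ f - 1 ∣ 2 * p ^ i + 2 :=
    hg ▸ orderOf_dvd_of_pow_eq_one (Units.ext (by simpa using hpow))
  have hle := Nat.le_of_dvd (by positivity) hdvd
  have hp2 := (Fact.out : p.Prime).two_le
  have hile : p ^ i ≤ p ^ (f - 1) := Nat.pow_le_pow_right (by omega) (by omega)
  obtain ⟨k, rfl⟩ : ∃ k, f = k + 2 := ⟨f - 2, by omega⟩
  simp only [show k + 2 - 1 = k + 1 by omega] at hile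
  have hpk : 1 ≤ p ^ k := Nat.one_le_pow _ _ (by omega)
  rw [pow_add] at hle hdvd hq
  rw [pow_succ] at hile
  have key : p ^ k * p ^ 2 ≤ 2 * (p ^ k * p) + 3 := by omega
  rcases Nat.lt_or_ge p 4 with hp4 | hp4
  · interval_cases p
    · -- p = 2
      have hcop : Nat.Coprime (2 ^ k * 2 ^ 2 - 1) 2 := by
        rw [Nat.coprime_two_right, Nat.odd_iff]; omega
      have := Nat.le_of_dvd (by positivity) (hcop.dvd_of_dvd_mul_left
        (show 2 ^ k * 2 ^ 2 - 1 ∣ 2 * (2 ^ i + 1) by rwa [mul_add, mul_one]))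
      omega
    · omega
  · nlinarith

/-- Schur multiplier of `SL₂`. -/
theorem result {F : Type*} [Field F] [Fintype F] (h4 : Fintype.card F ≠ 4) (h9 : Fintype.card F ≠ 9) : Cfsg.HasCyclicSchurMultiplier (Matrix.SpecialLinearGroup (Fin 2) F) 1 := by
  refine hasTrivialMultiplier_of_forall_prime fun Γ _ _ σ hσ l hl z hz hzl => ?_
  have := Fact.mk hl
  obtain ⟨p, hp⟩ := CharP.exists F
  have := Fact.mk (CharP.char_is_prime F p)
  obtain ⟨f, hpr, hf⟩ := FiniteField.card F p
  have hq2 : 2 ≤ Fintype.card F := Fintype.one_lt_card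
  by_cases hlp : l = p
  · subst hlp
    exact char_part l f hf h4 h9 hσ z hz hzl
  set q := Fintype.card F with hq
  have hlq : ¬ l ∣ q := by
    rw [hf]; intro h; exact hlp ((Nat.prime_dvd_prime_iff_eq hl hpr).1 (hl.dvd_of_dvd_pow h))
  have cyc : ∀ a : SL(2, F), ¬ l ∣ (Subgroup.zpowers a).index → z = 1 := fun a h =>
    eq_one_of_rigidAt hσ (Subgroup.zpowers a) ((Nat.Prime.coprime_iff_not_dvd hl).2 h)
      (rigidAt_of_isCyclic l _) z hz hzl
  obtain ⟨g, hg⟩ := IsCyclic.exists_ofOrder_eq_natCard (α := Fˣ)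
  rw [Nat.card_units, Nat.card_eq_fintype_card] at hg
  have hat : orderOf (tor g) = q - 1 := by rw [orderOf_injective tor tor_injective, hg]
  obtain ⟨a, ha⟩ := exists_order_succ (F := F)
  have hidx : ∀ (x : SL(2, F)) (n r : ℕ), 0 < n → orderOf x = n → q * ((q - 1) * (q + 1)) = n * r →
      (Subgroup.zpowers x).index = r := by
    intro x n r hn hx h
    have e := (Subgroup.zpowers x).card_mul_index
    rw [Nat.card_zpowers, hx, card_eq, ← hq, h] at e
    exact Nat.eq_of_mul_eq_mul_left hn e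
  by_cases hl2 : l = 2
  · subst hl2
    have hp2 : p ≠ 2 := fun h => hlp h.symm
    have h2 : (2 : F) ≠ 0 := by
      intro h
      have := (CharP.cast_eq_zero_iff F p 2).1 (by exact_mod_cast h)
      exact hp2 ((Nat.prime_dvd_prime_iff_eq hpr Nat.prime_two).1 this)
    rw [Nat.two_dvd_ne_zero] at hlq
    have fin2 : ∀ (A B : SL(2, F)) (m r : ℕ), m ≠ 0 → orderOf A = 2 * m → (2 ≤ m ∨ B ∉ Subgroup.zpowers A) →
        B * B = -1 → B * A * B⁻¹ = A⁻¹ → q * ((q - 1) * (q + 1)) = 4 * m * r → r % 2 = 1 → z = 1 := by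
      intro A B m r hm hA hm2 hB hBA he hr
      obtain ⟨hR, hd⟩ := dicyclic h2 hm hA hm2 hB hBA 2
      refine eq_one_of_rigidAt hσ _ ((Nat.Prime.coprime_iff_not_dvd Nat.prime_two).2 fun h => ?_) hR z hz hzl
      have e := (Subgroup.closure ({A, B} : Set SL(2, F))).card_mul_index
      rw [card_eq, ← hq, he] at e
      obtain ⟨k, hk⟩ := hd
      rw [hk, mul_assoc] at e
      have := Nat.eq_of_mul_eq_mul_left (by omega : 0 < 4 * m) e
      obtain ⟨j, hj⟩ := h
      rw [hj, mul_left_comm] at this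
      omega
    rcases (show q % 4 = 1 ∨ q % 4 = 3 by omega) with h1 | h3
    · obtain ⟨j, hj⟩ : ∃ j, q = 4 * j + 1 := ⟨q / 4, by omega⟩
      let w : SL(2, F) := ⟨!![0, 1; -1, 0], by simp [det_fin_two_of]⟩
      refine fin2 (tor g) w (2 * j) ((4 * j + 1) * (2 * j + 1)) (by omega) (by rw [hat]; omega)
        (Or.inl (by omega)) ?_ ?_ (by rw [hj, Nat.add_sub_cancel]; ring)
        (Nat.odd_iff.1 (Odd.mul ⟨2 * j, by ring⟩ ⟨j, rfl⟩))
      · refine Subtype.ext ?_
        rw [Matrix.SpecialLinearGroup.coe_mul, Matrix.SpecialLinearGroup.coe_neg, Matrix.SpecialLinearGroup.coe_one,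
          show (w : Matrix (Fin 2) (Fin 2) F) = !![0, 1; -1, 0] from rfl]
        ext i j; fin_cases i <;> fin_cases j <;> simp [Matrix.mul_apply]
      · rw [mul_inv_eq_iff_eq_mul, ← map_inv]
        refine Subtype.ext ?_
        rw [Matrix.SpecialLinearGroup.coe_mul, Matrix.SpecialLinearGroup.coe_mul, coe_tor, coe_tor,
          show (w : Matrix (Fin 2) (Fin 2) F) = !![0, 1; -1, 0] from rfl]
        ext i j; fin_cases i <;> fin_cases j <;> simp [Matrix.mul_apply]
    · obtain ⟨j, hj⟩ : ∃ j, q = 4 * j + 3 := ⟨q / 4, by omega⟩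
      have hne : a.1 1 0 ≠ 0 ∧ (a.1 0 0 + a.1 1 1) ^ 2 ≠ 4 := by
        -- an element of order `q + 1` has no eigenvalue in `F`
        suffices key : ∀ t : F, t * t - (a.1 0 0 + a.1 1 1) * t + 1 ≠ 0 by
          constructor
          · intro h
            refine key (a.1 0 0) ?_
            have := a.2; rw [det_fin_two, h] at this
            linear_combination -this
          · intro h
            refine key ((a.1 0 0 + a.1 1 1) / 2) ?_
            field_simp
            linear_combination -h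
        intro t ht
        have hdet := a.2
        rw [det_fin_two] at hdet
        have ht0 : t ≠ 0 := by rintro rfl; simp at ht
        let A : Matrix (Fin 2) (Fin 2) F := a.1
        let N := A - t • (1 : Matrix (Fin 2) (Fin 2) F)
        set δ := t⁻¹ - t with hδ
        have hN2 : N * N = δ • N := by
          have h' : a.1 0 0 + a.1 1 1 = t + t⁻¹ := by field_simp; linear_combination -ht
          ext i j; fin_cases i <;> fin_cases j <;>
            simp [N, A, Matrix.mul_apply, hδ]
          · linear_combination (a.1 0 0) * h' - hdet + (mul_inv_cancel₀ ht0)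
          · linear_combination (a.1 0 1) * h'
          · linear_combination (a.1 1 0) * h'
          · linear_combination (a.1 1 1) * h' - hdet + (mul_inv_cancel₀ ht0)
        have hpowA : ∀ n : ℕ, ∃ r : F, A ^ n = t ^ n • (1 : Matrix (Fin 2) (Fin 2) F) + r • N ∧
            r * δ = t⁻¹ ^ n - t ^ n ∧ (δ = 0 → r = n * t ^ (n - 1)) := by
          intro n
          induction n with
          | zero => exact ⟨0, by simp, by simp, by simp⟩
          | succ n ih =>
            obtain ⟨r, h1, h2', h3'⟩ := ih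
            refine ⟨t ^ n + r * t⁻¹, ?_, ?_, ?_⟩
            · have hA : A = t • (1 : Matrix (Fin 2) (Fin 2) F) + N := by simp [N]
              rw [pow_succ, h1]
              conv_lhs => arg 2; rw [hA]
              simp only [add_mul, mul_add, Matrix.smul_mul, Matrix.mul_smul, mul_one, one_mul, hN2,
                smul_smul, pow_succ]
              have hti : r * t⁻¹ = r * δ + t * r := by rw [hδ]; ring
              rw [hti]
              module
            · rw [pow_succ, pow_succ, add_mul, mul_assoc r, mul_comm t⁻¹ δ, ← mul_assoc, h2', hδ]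
              ring
            · intro hd0
              rw [h3' hd0]
              have : t⁻¹ = t := by rw [hδ, sub_eq_zero] at hd0; exact hd0
              rw [this]
              rcases n with - | n
              · simp
              · simp [pow_succ]; ring
        have hqm : (t : F) ^ (q - 1) = 1 := FiniteField.pow_card_sub_one_eq_one t ht0
        obtain ⟨r, h1, h2', h3'⟩ := hpowA ((q - 1) * p)
        rw [pow_mul t, hqm, one_pow] at h1
        have hr0 : δ ≠ 0 → r = 0 := by
          intro hd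
          rw [pow_mul, pow_mul, inv_pow, hqm, inv_one, one_pow, sub_self] at h2'
          exact (mul_eq_zero.1 h2').resolve_right hd
        have hr : r = 0 := by
          by_cases hd : δ = 0
          · rw [h3' hd]; push_cast; rw [CharP.cast_eq_zero F p]; simp
          · exact hr0 hd
        rw [hr, zero_smul, add_zero, one_smul] at h1
        have : a ^ ((q - 1) * p) = 1 := Subtype.ext (by rw [Matrix.SpecialLinearGroup.coe_pow]; exact h1)
        have hd := orderOf_dvd_of_pow_eq_one this
        rw [ha] at hd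
        have hcp : Nat.Coprime (q + 1) p := by
          rw [Nat.coprime_comm, hpr.coprime_iff_not_dvd]
          intro h
          have hpq : p ∣ q := hf ▸ dvd_pow_self p f.pos.ne'
          have := Nat.dvd_sub h hpq
          rw [Nat.add_sub_cancel_left] at this
          exact hpr.one_lt.ne' (Nat.dvd_one.1 this)
        have hd2 := hcp.dvd_of_dvd_mul_right hd
        have := Nat.le_of_dvd (by omega) hd2
        omega
      obtain ⟨B, hB, hBA⟩ := exists_inverting h2 a hne.1 hne.2
      refine fin2 a B (2 * j + 2) ((4 * j + 3) * (2 * j + 1)) (by omega) (by rw [ha]; omega)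
        (Or.inl (by omega)) hB hBA (by rw [hj, show 4 * j + 3 - 1 = 4 * j + 2 by omega]; ring)
        (Nat.odd_iff.1 (Odd.mul ⟨2 * j + 1, by ring⟩ ⟨j, rfl⟩))
  · have hl3 : 3 ≤ l := lt_of_le_of_ne hl.two_le (Ne.symm hl2)
    by_cases hd : l ∣ q - 1
    · refine cyc (tor g) fun h => ?_
      rw [hidx (tor g) (q - 1) (q * (q + 1)) (by omega) hat (by ring)] at h
      rcases hl.dvd_mul.1 h with h' | h'
      · exact hlq h'
      · have := Nat.le_of_dvd (by omega) (Nat.dvd_sub h' hd)
        omega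
    · refine cyc a fun h => ?_
      rw [hidx a (q + 1) (q * (q - 1)) (by omega) ha (by ring)] at h
      rcases hl.dvd_mul.1 h with h' | h'
      · exact hlq h'
      · exact hd h'

end Cfsg.Agent.S2117
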