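import Cfsg.Statements.S2118
import Cfsg.Agent.H50.MultiplierBound
import Cfsg.Agent.H50.SmallAltCover
import Cfsg.Agent.H27.SixPoints
import Cfsg.Agent.S2117

set_option autoImplicit false
open Cfsg

namespace Cfsg.Agent.S2118

open Matrix Matrix.SpecialLinearGroup Cfsg.Agent.H50
open scoped MatrixGroups

universe u

/-- a stem extension with kernel of order three -/
theorem exists_cover {F : Type u} [Field F] [Fintype F] (hF : Fintype.card F = 9) (h2 : (2 : F) ≠ 0) :
    ∃ (P : Type u) (_ : Group P) (_ : Finite P) (σ : P →* SL(2, F)),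
      IsStemExtension σ ∧ Nat.card σ.ker = 3 := by
  obtain ⟨e⟩ := Cfsg.Agent.H27.SixPoints.psl_two_nine' hF
  obtain ⟨r₁, s₁, hrs, hr, hs⟩ := SmallAlt.three_facts 6 (Or.inl rfl)
  obtain ⟨x, y, hx, hy, hc, hgen⟩ := TripleA7.exists_lifts
  let f : SL(2, F) →* alternatingGroup (Fin 6) :=
    e.toMonoidHom.comp (QuotientGroup.mk' (Subgroup.center SL(2, F)))
  have hf : Function.Surjective f := e.surjective.comp (QuotientGroup.mk'_surjective _)
  have hker : ∀ g, f g = 1 → g = 1 ∨ g = -1 := by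
    intro g hg
    simp only [f, MonoidHom.comp_apply, MulEquiv.coe_toMonoidHom, EmbeddingLike.map_eq_one_iff,
      QuotientGroup.mk'_apply, QuotientGroup.eq_one_iff] at hg
    refine S2117.eq_of_sq h2 g ?_
    obtain ⟨c, hc1, hc2⟩ := Matrix.SpecialLinearGroup.mem_center_iff.1 hg
    rw [Fintype.card_fin] at hc1
    refine Subtype.ext ?_
    rw [Matrix.SpecialLinearGroup.coe_pow, Matrix.SpecialLinearGroup.coe_one, ← hc2,
      Matrix.scalar_apply, Matrix.diagonal_pow]
    show Matrix.diagonal (fun _ : Fin 2 => c ^ 2) = (1 : Matrix (Fin 2) (Fin 2) F)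
    rw [hc1, Matrix.diagonal_one]
  have hinj : Function.Injective (SmallAlt.embAlt (show 6 ≤ 7 by omega)) := by
    intro p q h
    exact Subtype.ext (Equiv.Perm.extendDomainHom_injective _ (congrArg Subtype.val h))
  have h3 : ∀ w : alternatingGroup (Fin 6), w ^ 3 = 1 → ∃ g, f g = w ∧ g ^ 3 = 1 := by
    intro w hw
    obtain ⟨g0, hg0⟩ := hf w
    refine ⟨g0 ^ 4, ?_, ?_⟩
    · rw [map_pow, hg0, pow_succ, hw, one_mul]
    · have h0 : f (g0 ^ 3) = 1 := by rw [map_pow, hg0, hw]
      rw [← pow_mul, show 4 * 3 = 3 * 4 by norm_num, pow_mul]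
      rcases hker _ h0 with h | h <;> rw [h]
      · exact one_pow _
      · rw [show 4 = 2 * 2 by norm_num, pow_mul, neg_one_sq, one_pow]
  have hord : ∀ w : alternatingGroup (Fin 6), ∀ i j : Fin 7, ∀ k : Fin 7,
      (SmallAlt.embAlt (show 6 ≤ 7 by omega) w : Equiv.Perm (Fin 7)) = Equiv.swap i j * Equiv.swap j k →
      (Equiv.swap i j * Equiv.swap j k) ^ 3 = 1 → w ^ 3 = 1 := by
    intro w i j k hw h
    refine hinj (Subtype.ext ?_)
    rw [map_pow, map_one, SubgroupClass.coe_pow, hw, h]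
    rfl
  obtain ⟨r, hfr, hr3⟩ := h3 r₁ (hord r₁ 0 1 2 hr (by decide +kernel))
  obtain ⟨s, hfs, hs3⟩ := h3 s₁ (hord s₁ 3 4 5 hs (by decide +kernel))
  have hcomm : r * s = s * r := by
    have h0 : f (s * r * s⁻¹ * r⁻¹) = 1 := by
      rw [map_mul, map_mul, map_mul, map_inv, map_inv, hfr, hfs, ← hrs]
      group
    rcases hker _ h0 with h | h
    · rw [mul_inv_eq_one, mul_inv_eq_iff_eq_mul] at h
      exact h.symm
    · exfalso
      rw [mul_inv_eq_iff_eq_mul, neg_one_mul] at h
      have h' : (s * r * s⁻¹) ^ 3 = 1 := by rw [conj_pow, hr3, mul_one, mul_inv_cancel]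
      rw [h, Odd.neg_pow (by decide), hr3] at h'
      exact S2117.neg_one_ne_one h2 h'
  refine ⟨_, inferInstance, inferInstance,
    pullSnd TripleA7.proj ((SmallAlt.embAlt (show 6 ≤ 7 by omega)).comp f),
    isStemExtension_pullSnd TripleA7.proj_surjective hc (x := x) (y := y) (r := r) (s := s)
      (Subtype.ext (by rw [hx, MonoidHom.comp_apply, hfr, hr]))
      (Subtype.ext (by rw [hy, MonoidHom.comp_apply, hfs, hs])) hcomm hgen, ?_⟩
  rw [Nat.card_congr (pullKer _ _).toEquiv, TripleA7.card_ker]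

/-- Exceptional Schur multiplier of `SL₂(9)`. -/
theorem result {F : Type*} [Field F] [Fintype F] (hF : Fintype.card F = 9) : Cfsg.HasCyclicSchurMultiplier (Matrix.SpecialLinearGroup (Fin 2) F) 3 := by
  classical
  have hchar : CharP F 3 := by
    obtain ⟨n, hp, hn⟩ := FiniteField.card F (ringChar F)
    have h9 : ringChar F ^ (n : ℕ) = 3 ^ 2 := by rw [← hn, hF]; norm_num
    have h3 : ringChar F = 3 := by
      have hd : ringChar F ∣ 3 ^ 2 := h9 ▸ dvd_pow_self _ n.2.ne'
      exact (Nat.prime_dvd_prime_iff_eq hp Nat.prime_three).1 (hp.dvd_of_dvd_pow hd)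
    exact h3 ▸ ringChar.charP F
  have h2 : (2 : F) ≠ 0 := by
    intro h
    have h' : ((2 : ℕ) : F) = 0 := by exact_mod_cast h
    have := (CharP.cast_eq_zero_iff F 3 2).1 h'
    norm_num at this
  obtain ⟨P, _, _, σ, hσ, hk⟩ := exists_cover hF h2
  have := Fact.mk Nat.prime_three
  have := isCyclic_of_prime_card hk
  let _ : CommGroup σ.ker := IsCyclic.commGroup
  refine ⟨⟨P, inferInstance, inferInstance, σ, hσ, ⟨mulEquivOfCyclicCardEq
    (hk.trans ((Nat.card_congr Multiplicative.toAdd).trans (Nat.card_zmod 3)).symm)⟩⟩, fun Γ _ _ τ hτ => ?_⟩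
  have hcard : Nat.card SL(2, F) = 720 := by rw [S2117.card_eq, hF]
  -- the 2-part: quaternion
  obtain ⟨t, ht⟩ := IsCyclic.exists_ofOrder_eq_natCard (α := Fˣ)
  rw [Nat.card_units, Nat.card_eq_fintype_card, hF] at ht
  let w : SL(2, F) := ⟨!![0, 1; -1, 0], by simp [det_fin_two_of]⟩
  have hwa : w * S2117.tor t * w⁻¹ = (S2117.tor t)⁻¹ := by
    rw [← map_inv, mul_inv_eq_iff_eq_mul]
    refine Subtype.ext ?_
    rw [Matrix.SpecialLinearGroup.coe_mul, Matrix.SpecialLinearGroup.coe_mul, S2117.coe_tor, S2117.coe_tor]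
    change !![(0 : F), 1; -1, 0] * _ = _ * !![(0 : F), 1; -1, 0]
    ext i j; fin_cases i <;> fin_cases j <;> simp [Matrix.mul_apply]
  have hww : w * w = -1 := by
    refine Subtype.ext ?_
    rw [Matrix.SpecialLinearGroup.coe_mul, Matrix.SpecialLinearGroup.coe_neg, Matrix.SpecialLinearGroup.coe_one]
    change !![(0 : F), 1; -1, 0] * !![(0 : F), 1; -1, 0] = -1
    ext i j; fin_cases i <;> fin_cases j <;> simp [Matrix.mul_apply]
  obtain ⟨hR, hd16⟩ := S2117.dicyclic h2 (show (4 : ℕ) ≠ 0 by norm_num)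
    (a := S2117.tor t) (b := w) (by rw [orderOf_injective _ S2117.tor_injective, ht])
    (Or.inl (by norm_num)) hww hwa 2
  set Q2 := Subgroup.closure ({S2117.tor t, w} : Set SL(2, F))
  have i2 : (2 : ℕ).Coprime Q2.index := by
    have h := Q2.card_mul_index
    rw [hcard] at h
    obtain ⟨c, hc⟩ := hd16
    rw [hc, mul_assoc] at h
    have h45 : c * Q2.index = 45 := by omega
    refine (Nat.Prime.coprime_iff_not_dvd Nat.prime_two).2 fun hd => ?_
    have : 2 ∣ 45 := h45 ▸ hd.mul_left c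
    norm_num at this
  have part2 : ∃ e ∈ τ.ker, e ^ 1 = 1 ∧
      ∀ z ∈ τ.ker, ∀ k : ℕ, z ^ 2 ^ k = 1 → z ∈ Subgroup.zpowers e :=
    ⟨1, one_mem _, one_pow _, fun z hz k hzk => by
      rw [eq_one_of_rigid_pow hτ Q2 i2 hR z hz k hzk]; exact one_mem _⟩
  -- the 3-part
  obtain ⟨y, hy⟩ : ∃ y : F, y ∉ Set.range (fun n : ℕ => (n : F)) := by
    by_contra hall
    push Not at hall
    have hsurj : Function.Surjective (fun n : Fin 3 => ((n : ℕ) : F)) := by
      intro x
      obtain ⟨n, hn⟩ := hall x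
      refine ⟨⟨n % 3, Nat.mod_lt _ (by norm_num)⟩, ?_⟩
      show ((n % 3 : ℕ) : F) = x
      rw [← hn]
      show ((n % 3 : ℕ) : F) = (n : F)
      rw [CharP.natCast_eq_natCast F 3]
      exact Nat.mod_modEq n 3
    have := Fintype.card_le_of_surjective _ hsurj
    rw [hF, Fintype.card_fin] at this
    omega
  set Q3 := Subgroup.closure ({S2117.up 1, S2117.up y} : Set SL(2, F))
  have hup3 : ∀ x : F, (S2117.up x) ^ 3 = 1 := by
    intro x
    rw [pow_succ, sq, S2117.up_mul, S2117.up_mul,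
      show x + x + x = ((3 : ℕ) : F) * x by push_cast; ring, CharP.cast_eq_zero, zero_mul]
    exact Subtype.ext (by rw [S2117.coe_up, Matrix.SpecialLinearGroup.coe_one]; ext i j; fin_cases i <;> fin_cases j <;> rfl)
  have i3 : (3 : ℕ).Coprime Q3.index := by
    have hle : Q3 ≤ (S2117.upHom (F := F)).range := by
      rw [Subgroup.closure_le]
      rintro x (rfl | rfl)
      exacts [⟨Multiplicative.ofAdd 1, rfl⟩, ⟨Multiplicative.ofAdd y, rfl⟩]
    have hd9 : Nat.card Q3 ∣ 3 ^ 2 := by
      have := Subgroup.card_dvd_of_le hle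
      rwa [S2117.natCard_range_upHom, hF] at this
    have hne : S2117.up (F := F) 1 ≠ 1 := fun e => by
      have := congrArg (fun g : SL(2, F) => (g : Matrix (Fin 2) (Fin 2) F) 0 1) e
      simp [S2117.coe_up] at this
    have hcy : Nat.card Q3 = 9 := by
      obtain ⟨i, hi, hQ⟩ := (Nat.dvd_prime_pow Nat.prime_three).1 hd9
      rw [hQ]
      have hz : Subgroup.zpowers (S2117.up (F := F) 1) ≤ Q3 :=
        Subgroup.zpowers_le.2 (Subgroup.subset_closure (by simp))
      have hlt : Subgroup.zpowers (S2117.up (F := F) 1) ≠ Q3 := by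
        intro e
        have hm : S2117.up y ∈ Subgroup.zpowers (S2117.up (F := F) 1) :=
          e ▸ Subgroup.subset_closure (by simp)
        rw [← mem_powers_iff_mem_zpowers] at hm
        obtain ⟨n, hn⟩ := hm
        refine hy ⟨n, ?_⟩
        have hp : ∀ n : ℕ, S2117.up (F := F) 1 ^ n = S2117.up (n : F) := by
          intro n
          induction n with
          | zero =>
            rw [pow_zero, Nat.cast_zero]
            exact Subtype.ext (by rw [S2117.coe_up, Matrix.SpecialLinearGroup.coe_one]; ext i j; fin_cases i <;> fin_cases j <;> rfl)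
          | succ n ih => rw [pow_succ, ih, S2117.up_mul, Nat.cast_succ]
        simp only [hp] at hn
        have := congrArg (fun g : SL(2, F) => (g : Matrix (Fin 2) (Fin 2) F) 0 1) hn
        simpa [S2117.coe_up] using this
      have h3' : Nat.card (Subgroup.zpowers (S2117.up (F := F) 1)) = 3 := by
        rw [Nat.card_zpowers]; exact orderOf_eq_prime (hup3 1) hne
      have hcl : ¬ Nat.card Q3 ≤ 3 := fun h => hlt (Subgroup.eq_of_le_of_card_ge hz (h3' ▸ h))
      rw [hQ] at hcl
      interval_cases i <;> simp at hcl ⊢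
    have h := Q3.card_mul_index
    rw [hcy, hcard] at h
    refine (Nat.Prime.coprime_iff_not_dvd Nat.prime_three).2 ?_
    omega
  let r' : Q3 := ⟨S2117.up 1, Subgroup.subset_closure (by simp)⟩
  let s' : Q3 := ⟨S2117.up y, Subgroup.subset_closure (by simp)⟩
  have hgen : Subgroup.closure {r', s'} = ⊤ := by
    rw [← Subgroup.map_subtype_inj, MonoidHom.map_closure, Set.image_insert_eq, Set.image_singleton,
      ← MonoidHom.range_eq_map, Subgroup.range_subtype]
    rfl
  have part3 := exists_part hτ Q3 i3 (cyclicPartAt_abelian r' s' 3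
    (Subtype.ext (by show S2117.up 1 * S2117.up y = S2117.up y * S2117.up 1
                     rw [S2117.up_mul, S2117.up_mul, add_comm]))
    (Subtype.ext (hup3 y)) hgen)
  refine exists_surjective_of_parts hτ (n₂ := 1) (n₃ := 3) (by decide) part2 part3
    fun p hp hp2 hp3 z hz hzp => ?_
  refine eq_one_of_sq_not_dvd hτ hp ?_ z hz hzp
  rw [hcard]
  intro hd
  have hp7 : p ≤ 27 := by
    have := Nat.le_of_dvd (by norm_num) hd
    nlinarith
  have := hp.two_le
  interval_cases p <;> first | contradiction | norm_num at hd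

end Cfsg.Agent.S2118
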