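import Cfsg.Statements.S1949
import Cfsg.Agent.PGroups.Critical
import Cfsg.Agent.PGroups.Basic
import Cfsg.Agent.S0093


set_option autoImplicit false
open Cfsg

namespace Cfsg.Agent.S1949

open Subgroup
open scoped commutatorElement

theorem mul_pow_central {H : Type*} [Group H] {a b : H}
    (ha : Commute a ⁅b, a⁆) (hb : Commute b ⁅b, a⁆) :
    ∀ n : ℕ, (a * b) ^ n = a ^ n * b ^ n * ⁅b, a⁆ ^ n.choose 2 := by
  set d := ⁅b, a⁆ with hd
  have hba : ∀ n : ℕ, b ^ n * a = a * b ^ n * d ^ n := by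
    intro n
    induction n with
    | zero => simp
    | succ n hn =>
      have h1 : b * a = d * (a * b) := by rw [hd, commutatorElement_def]; group
      calc b ^ (n + 1) * a = b * (b ^ n * a) := by rw [pow_succ', mul_assoc]
        _ = (b * a) * (b ^ n * d ^ n) := by rw [hn]; simp only [mul_assoc]
        _ = (a * b) * d * (b ^ n * d ^ n) := by rw [h1, ((ha.mul_left hb).eq).symm]
        _ = a * b * (d * b ^ n) * d ^ n := by simp only [mul_assoc]
        _ = a * b * (b ^ n * d) * d ^ n := by rw [(hb.pow_left n).eq]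
        _ = a * b ^ (n + 1) * d ^ (n + 1) := by
          rw [pow_succ' b, pow_succ' d]; simp only [mul_assoc]
  intro n
  induction n with
  | zero => simp
  | succ n hn =>
    calc (a * b) ^ (n + 1) = a ^ n * b ^ n * (d ^ n.choose 2 * (a * b)) := by
          rw [pow_succ, hn, mul_assoc]
      _ = a ^ n * (b ^ n * a) * b * d ^ n.choose 2 := by
          rw [← ((ha.mul_left hb).pow_right _).eq]; simp only [mul_assoc]
      _ = a ^ n * a * b ^ n * (d ^ n * b) * d ^ n.choose 2 := by rw [hba]; simp only [mul_assoc]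
      _ = a ^ n * a * b ^ n * b * (d ^ n * d ^ n.choose 2) := by
          rw [← (hb.pow_right n).eq]; simp only [mul_assoc]
      _ = a ^ (n + 1) * b ^ (n + 1) * d ^ (n + 1).choose 2 := by
          rw [← pow_add, pow_succ a, pow_succ b, Nat.choose_succ_succ' n 1, Nat.choose_one_right]
          simp only [mul_assoc]

/-- An automorphism of order prime to `p` fixing `x⁻¹ β(x)` fixes `x`. -/
theorem eq_of_fixed {P : Type*} [Group P] {p : ℕ} (hP : IsPGroup p P) (β : MulAut P)
    (hβ : (orderOf β).Coprime p) {x : P} (hc : β (x⁻¹ * β x) = x⁻¹ * β x) : β x = x := by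
  set c := x⁻¹ * β x with hcd
  have h : ∀ n : ℕ, (β ^ n) x = x * c ^ n := by
    intro n
    induction n with
    | zero => simp
    | succ n hn =>
      rw [pow_succ' β, MulAut.mul_apply, hn, map_mul, map_pow, hc, pow_succ' c, ← mul_assoc,
        show x * c = β x from mul_inv_cancel_left _ _]
  have h1 := h (orderOf β)
  rw [pow_orderOf_eq_one, MulAut.one_apply, left_eq_mul] at h1
  obtain ⟨i, hi⟩ := hP c
  have h2 : c = 1 := orderOf_eq_one_iff.mp (Nat.eq_one_of_dvd_coprimes (hβ.pow_right i)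
    (orderOf_dvd_of_pow_eq_one h1) (orderOf_dvd_of_pow_eq_one hi))
  rw [hcd, inv_mul_eq_one] at h2
  exact h2.symm

/-- Let P be a finite p-group and G a group of automorphisms of P containing the inner automorphisms. Then there is a G-invariant subgroup D of P, contained in the subgroup generated by the elements x⁻¹α(x) with x in P and α in O^p(G), of exponent dividing p when p is odd and dividing 4 when p = 2, with [D, P] ≤ Z(D), such that every automorphism in G of order prime to p that fixes D elementwise is the identity; moreover every maximal abelian subgroup A of D is normal in P and every automorphism in G fixing A elementwise has p-power order. -/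
theorem result {P : Type*} [Group P] [Finite P] {p : ℕ} [Fact p.Prime] (hP : IsPGroup p P)
    (G : Subgroup (MulAut P)) (hG : Cfsg.Inn P ≤ G) :
    ∃ D : Subgroup P,
      (∀ α ∈ G, D.map α.toMonoidHom = D) ∧
      D ≤ Subgroup.closure {y : P | ∃ α ∈ Cfsg.pResidual p ↥G, ∃ x : P, y = x⁻¹ * (α : MulAut P) x} ∧
      (∀ d ∈ D, d ^ p = 1 ∨ (p = 2 ∧ d ^ 4 = 1)) ∧
      ⁅D, (⊤ : Subgroup P)⁆ ≤ D ⊓ Subgroup.centralizer (D : Set P) ∧
      (∀ α ∈ G, (orderOf α).Coprime p → (∀ d ∈ D, α d = d) → α = 1) ∧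
      ∀ A : Subgroup P, A ≤ D → IsMulCommutative ↥A →
        (∀ B : Subgroup P, A ≤ B → B ≤ D → IsMulCommutative ↥B → B = A) →
        A.Normal ∧ ∀ α ∈ G, (∀ a ∈ A, α a = a) → ∃ k : ℕ, orderOf α = p ^ k := by
  classical
  have hp : p.Prime := Fact.out
  obtain ⟨C, hCch, hCfr, hCcomm, hCc⟩ := Cfsg.Agent.S0093.result hP
  haveI := hCch
  have hCC : ∀ x ∈ C, ∀ y ∈ C, ∀ z ∈ C, z * ⁅x, y⁆ = ⁅x, y⁆ * z := fun x hx y hy z hz =>
    mem_centralizer_iff.mp (hCcomm (commutator_mem_commutator hx (mem_top y))).2 z hz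
  have hpow : ∀ x ∈ C, ∀ z ∈ C, z * x ^ p = x ^ p * z := fun x hx z hz =>
    mem_centralizer_iff.mp (hCfr (x := x ^ p)
      ⟨(⟨x, hx⟩ : C) ^ p, PGroups.pow_mem_frattini (hP.to_subgroup C) _, rfl⟩) z hz
  have hdp : ∀ x ∈ C, ∀ y ∈ C, ⁅y, x⁆ ^ p = 1 := by
    intro x hx y hy
    have h1 : ∀ n : ℕ, ⁅y, x⁆ ^ n = ⁅y ^ n, x⁆ := by
      intro n
      induction n with
      | zero => simp
      | succ n hn =>
        rw [pow_succ' y, commutatorElement_mul_left_eq_conj_mul, ← hn,
          (Commute.pow_right (show Commute y ⁅y, x⁆ from hCC y hy x hx y hy) n).eq,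
          mul_inv_cancel_right, pow_succ]
    rw [h1, commutatorElement_eq_one_iff_commute]
    exact (hpow y hy x hx).symm
  set e : ℕ := if p = 2 then 4 else p with he
  have hpe : p ∣ e.choose 2 := by
    rw [he]; split_ifs with h
    · subst h; decide
    · exact hp.dvd_choose_self (by norm_num) (lt_of_le_of_ne hp.two_le (Ne.symm h))
  have hmul : ∀ x ∈ C, ∀ y ∈ C, (x * y) ^ e = x ^ e * y ^ e := by
    intro x hx y hy
    obtain ⟨m, hm⟩ := hpe
    rw [mul_pow_central (hCC y hy x hx x hx) (hCC y hy x hx y hy) e, hm, pow_mul, hdp x hx y hy,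
      one_pow, mul_one]
  -- `[P, O^p(G)]`
  set K := closure {y : P | ∃ α ∈ Cfsg.pResidual p ↥G, ∃ x : P, y = x⁻¹ * (α : MulAut P) x} with hK
  have hres : ∀ (g α : G), α ∈ Cfsg.pResidual p ↥G → g * α * g⁻¹ ∈ Cfsg.pResidual p ↥G := by
    intro g α hα
    induction hα using Subgroup.closure_induction with
    | mem a ha => exact Subgroup.subset_closure (by
        rw [Set.mem_setOf_eq, show g * a * g⁻¹ = MulAut.conj g a from rfl, MulEquiv.orderOf_eq]
        exact ha)
    | one => simp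
    | mul a b _ _ h1 h2 =>
      have := mul_mem h1 h2
      simpa [mul_assoc] using this
    | inv a _ h1 => simpa [mul_assoc] using inv_mem h1
  have hKinv : ∀ α ∈ G, ∀ y ∈ K, α y ∈ K := by
    intro α hα
    suffices h : K ≤ K.comap (α : MulAut P).toMonoidHom from fun y hy => h hy
    rw [hK, closure_le]
    rintro _ ⟨γ, hγ, x, rfl⟩
    refine Subgroup.subset_closure ⟨⟨α, hα⟩ * γ * ⟨α, hα⟩⁻¹, hres _ _ hγ, α x, ?_⟩
    show α (x⁻¹ * (γ : MulAut P) x) = (α x)⁻¹ * α ((γ : MulAut P) (α⁻¹ (α x)))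
    rw [map_mul, map_inv, MulAut.inv_apply_self]
  let D : Subgroup P :=
    { carrier := {x | (x ∈ C ∧ x ∈ K) ∧ x ^ e = 1}
      one_mem' := ⟨⟨C.one_mem, K.one_mem⟩, one_pow _⟩
      mul_mem' := fun {a b} ha hb => ⟨⟨C.mul_mem ha.1.1 hb.1.1, K.mul_mem ha.1.2 hb.1.2⟩, by
        rw [hmul a ha.1.1 b hb.1.1, ha.2, hb.2, one_mul]⟩
      inv_mem' := fun {a} ha => ⟨⟨C.inv_mem ha.1.1, K.inv_mem ha.1.2⟩, by
        rw [inv_pow, ha.2, inv_one]⟩ }
  have hmemD : ∀ x, x ∈ D ↔ (x ∈ C ∧ x ∈ K) ∧ x ^ e = 1 := fun _ => Iff.rfl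
  have hDinv : ∀ α ∈ G, ∀ x ∈ D, α x ∈ D := fun α hα x hx => (hmemD _).mpr
    ⟨⟨(Characteristic.fixed hCch α).ge hx.1.1, hKinv α hα x hx.1.2⟩, by
      rw [← map_pow, hx.2, map_one]⟩
  have hconj : ∀ g : P, MulAut.conj g ∈ G := fun g => hG ⟨g, rfl⟩
  haveI hDn : D.Normal := ⟨fun x hx g => hDinv _ (hconj g) x hx⟩
  have hDcomm : ⁅D, (⊤ : Subgroup P)⁆ ≤ D ⊓ centralizer (D : Set P) := by
    have hDC : D ≤ C := fun x hx => hx.1.1
    exact le_inf (commutator_le_left D ⊤) ((commutator_mono hDC le_rfl).trans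
      (hCcomm.trans (inf_le_right.trans (centralizer_le hDC))))
  -- an automorphism of order prime to `p` fixing `D` is trivial
  have hfaith : ∀ α ∈ G, (orderOf α).Coprime p → (∀ d ∈ D, α d = d) → α = 1 := by
    intro α hα hco hfix
    have hαC : ∀ x ∈ C, α x ∈ C := fun x hx => (Characteristic.fixed hCch α).ge hx
    have hc : ∀ x ∈ C, x⁻¹ * α x ∈ C ∧ x⁻¹ * α x ∈ K := fun x hx =>
      ⟨C.mul_mem (C.inv_mem hx) (hαC x hx), Subgroup.subset_closure ⟨⟨α, hα⟩, Subgroup.subset_closure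
        (by rw [Set.mem_setOf_eq, Subgroup.orderOf_mk]; exact hco), x, rfl⟩⟩
    have hCK : ∀ n : ℕ, ∀ x ∈ C, x ∈ K → orderOf x = n → α x = x := by
      intro n
      induction n using Nat.strong_induction_on with
      | h n IH =>
        intro x hx hxK hn
        by_cases hx1 : x = 1
        · rw [hx1, map_one]
        have hdvd : p ∣ orderOf x := by
          obtain ⟨i, hi⟩ := IsPGroup.iff_orderOf.mp hP x
          rcases Nat.eq_zero_or_pos i with h0 | h0
          · exact absurd (orderOf_eq_one_iff.mp (by rw [hi, h0, pow_zero])) hx1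
          · exact hi ▸ dvd_pow_self p h0.ne'
        have hxp : α (x ^ p) = x ^ p := by
          refine IH (orderOf (x ^ p)) ?_ _ (C.pow_mem hx p) (K.pow_mem hxK p) rfl
          rw [← hn, orderOf_pow' x hp.ne_zero, Nat.gcd_eq_right hdvd]
          exact Nat.div_lt_self (orderOf_pos x) hp.one_lt
        set c := x⁻¹ * α x with hcd
        obtain ⟨hcC, hcK⟩ := hc x hx
        have h1 := mul_pow_central (hCC c hcC x hx x hx) (hCC c hcC x hx c hcC) p
        rw [show x * c = α x from mul_inv_cancel_left _ _, ← map_pow, hxp, mul_assoc, left_eq_mul] at h1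
        have hce : c ^ e = 1 := by
          have h2 : c ^ p = (⁅c, x⁆ ^ p.choose 2)⁻¹ := eq_inv_of_mul_eq_one_left h1
          rw [he]; split_ifs with h
          · subst h
            rw [show (4 : ℕ) = 2 * 2 from rfl, pow_mul, h2, inv_pow, ← pow_mul, pow_mul',
              hdp x hx c hcC, one_pow, inv_one]
          · obtain ⟨m, hm⟩ := hp.dvd_choose_self (by norm_num : (2 : ℕ) ≠ 0)
              (lt_of_le_of_ne hp.two_le (Ne.symm h))
            rw [h2, hm, pow_mul, hdp x hx c hcC, one_pow, inv_one]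
        exact eq_of_fixed hP α hco (hfix c ⟨⟨hcC, hcK⟩, hce⟩)
    exact PGroups.mulAut_eq_one_of_fixed hP C hCc α hco fun x hx =>
      eq_of_fixed hP α hco (hCK _ _ (hc x hx).1 (hc x hx).2 rfl)
  refine ⟨D, fun α hα => le_antisymm (map_le_iff_le_comap.mpr (hDinv α hα)) ?_, fun x hx => hx.1.2,
    ?_, hDcomm, hfaith, ?_⟩
  · intro x hx
    exact ⟨α⁻¹ x, hDinv _ (inv_mem hα) x hx, MulAut.apply_inv_self _ α x⟩
  · intro d hd
    have := hd.2
    rw [he] at this
    split_ifs at this with h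
    · exact Or.inr ⟨h, this⟩
    · exact Or.inl this
  intro A hAD hA hmax
  have hAc : ∀ x ∈ A, ∀ y ∈ A, x * y = y * x := fun x hx y hy =>
    congrArg Subtype.val (hA.is_comm.comm ⟨x, hx⟩ ⟨y, hy⟩)
  have hcent : ∀ d ∈ D, (∀ a ∈ A, a * d = d * a) → d ∈ A := by
    intro d hd hda
    have hsub : A ⊔ zpowers d ≤ D := sup_le hAD (zpowers_le.mpr hd)
    have hcm : IsMulCommutative ↥(A ⊔ zpowers d) :=
      PGroups.isMulCommutative_sup_zpowers hA (mem_centralizer_iff.mpr hda)
    exact (hmax _ le_sup_left hsub hcm).le (mem_sup_right (mem_zpowers d))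
  have hcom : ∀ a ∈ A, ∀ g : P, g * a * g⁻¹ ∈ A := by
    intro a ha g
    have h1 : ⁅a, g⁆ ∈ D ⊓ centralizer (D : Set P) :=
      hDcomm (commutator_mem_commutator (hAD ha) (mem_top g))
    have h2 : ⁅a, g⁆ ∈ A := hcent _ h1.1 fun b hb => mem_centralizer_iff.mp h1.2 b (hAD hb)
    have h3 := A.mul_mem (A.inv_mem h2) ha
    simpa [commutatorElement_def, mul_assoc] using h3
  refine ⟨⟨fun a ha g => hcom a ha g⟩, fun α hα hfix => ?_⟩
  obtain ⟨k, m, hm, hkm⟩ := Nat.exists_eq_pow_mul_and_not_dvd (orderOf_pos α).ne' p hp.ne_one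
  refine ⟨k, ?_⟩
  set β := α ^ p ^ k with hβ
  have hβA : ∀ a ∈ A, β a = a := by
    intro a ha
    rw [hβ]
    generalize p ^ k = j
    induction j with
    | zero => simp
    | succ j hj => rw [pow_succ, MulAut.mul_apply, hfix a ha, hj]
  have hβo : orderOf β = m := by
    rw [hβ, orderOf_pow' _ (pow_ne_zero _ hp.ne_zero), hkm, Nat.gcd_eq_right (Dvd.intro m rfl),
      Nat.mul_div_cancel_left _ (pow_pos hp.pos k)]
  have hβco : (orderOf β).Coprime p := by
    rw [hβo]; exact (hp.coprime_iff_not_dvd.mpr hm).symm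
  have hβ1 : β = 1 := hfaith β (G.pow_mem hα _) hβco fun d hd => by
    refine eq_of_fixed hP β hβco (hβA _ (hcent _
      (D.mul_mem (D.inv_mem hd) (hDinv β (G.pow_mem hα _) d hd)) fun a ha => ?_))
    have h1 := hβA _ (hcom a ha d)
    rw [map_mul, map_mul, map_inv, hβA a ha] at h1
    calc a * (d⁻¹ * β d) = d⁻¹ * (d * a * d⁻¹) * β d := by group
      _ = d⁻¹ * β d * a := by rw [← h1]; group
  rw [hβ1, orderOf_one] at hβo
  rw [hkm, ← hβo, mul_one]

end Cfsg.Agent.S1949
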