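import Cfsg.Statements.S0542
import Cfsg.Agent.H30.Subnormal

set_option autoImplicit false
open Cfsg

namespace Cfsg.Agent.S0542

open Subgroup

universe u

theorem inf_sylow {G : Type u} [Group G] [Finite G] (p : ℕ) [Fact p.Prime] (H : Subgroup G)
    (hH : H.IsSubnormal) (S : Sylow p G) :
    ∃ Q : Sylow p H, (Q : Subgroup H) = (S : Subgroup G).subgroupOf H := by
  suffices h : ¬ p ∣ ((S : Subgroup G).subgroupOf H).index by
    exact ⟨(S.isPGroup'.comap_of_injective H.subtype H.subtype_injective).toSylow h, rfl⟩
  induction hH with
  | top =>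
    have h1 : ((S : Subgroup G).subgroupOf (⊤ : Subgroup G)).index = (S : Subgroup G).index :=
      relIndex_top_right _
    rw [h1]
    exact S.not_dvd_index
  | step A B hle hB hn ih =>
    intro hd
    apply ih
    have := hn
    have hd' : p ∣ (((S : Subgroup G).subgroupOf B).subgroupOf (A.subgroupOf B)).index := by
      change p ∣ ((S : Subgroup G).subgroupOf B).relIndex (A.subgroupOf B)
      rw [relIndex_subgroupOf hle]
      exact hd
    have e1 := relIndex_mul_index (inf_le_left (a := (S : Subgroup G).subgroupOf B) (b := A.subgroupOf B))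
    have e2 := relIndex_mul_index (inf_le_right (a := (S : Subgroup G).subgroupOf B) (b := A.subgroupOf B))
    rw [inf_relIndex_left] at e1
    rw [inf_relIndex_right] at e2
    have e3 : (A.subgroupOf B).relIndex ((S : Subgroup G).subgroupOf B) ∣ (A.subgroupOf B).index :=
      relIndex_dvd_index_of_normal _ _
    obtain ⟨k, hk⟩ := e3
    rw [← e1, hk] at e2
    have e4 : ((S : Subgroup G).subgroupOf B).index =
        ((S : Subgroup G).subgroupOf B).relIndex (A.subgroupOf B) * k := by
      have hpos : 0 < (A.subgroupOf B).relIndex ((S : Subgroup G).subgroupOf B) :=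
        Nat.pos_of_ne_zero fun h0 => by
          rw [h0, zero_mul] at hk; exact index_ne_zero_of_finite hk
      apply Nat.eq_of_mul_eq_mul_left hpos
      rw [← e2]; ring
    change p ∣ ((S : Subgroup G).subgroupOf B).index
    rw [e4]
    exact dvd_mul_of_dvd_left hd' _

/-- A Sylow p-subgroup of a finite group meets every subnormal subgroup H in a Sylow p-subgroup of H. -/
theorem result {G : Type*} [Group G] [Finite G] (p : ℕ) [Fact p.Prime] (H : Subgroup G) (hH : H.IsSubnormal) (S : Sylow p G) : ∃ Q : Sylow p H, (Q : Subgroup H) = (S : Subgroup G).subgroupOf H := by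
  exact inf_sylow p H hH S

end Cfsg.Agent.S0542
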