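import Cfsg.Statements.S2987
import Cfsg.Agent.H43.Blocks.Over

set_option autoImplicit false
open Cfsg

namespace Cfsg.Agent.S2987

/-- Let G be a finite group of characteristic p (C_G(O_p(G)) ≤ O_p(G)) and E a subnormal subgroup of G which is a B(T)-block for some Sylow p-subgroup T of G. Then E is a normal subgroup of the Baumann subgroup B(G) (generated by the B(T) over all Sylow p-subgroups T), E is a B(T')-block for every Sylow p-subgroup T' of G, and every subgroup F that is a B(T')-block for some Sylow p-subgroup T' satisfies F ≤ E or [F, E] = 1. -/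
theorem result {G : Type*} [Group G] [Finite G] {p : ℕ} [Fact p.Prime] (hG : Subgroup.centralizer (Cfsg.pCore p G : Set G) ≤ Cfsg.pCore p G) (E : Subgroup G) (hE : ∃ T : Sylow p G, Cfsg.IsBaumannBlock p (T : Subgroup G) E) (hEs : E.IsSubnormal) : E ≤ Cfsg.baumannSubgroup p G ∧ Cfsg.baumannSubgroup p G ≤ Subgroup.normalizer (E : Set G) ∧ (∀ T' : Sylow p G, Cfsg.IsBaumannBlock p (T' : Subgroup G) E) ∧ ∀ F : Subgroup G, (∃ T' : Sylow p G, Cfsg.IsBaumannBlock p (T' : Subgroup G) F) → F ≤ E ∨ ⁅F, E⁆ = ⊥ := by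
  classical
  obtain ⟨T₀, hT₀⟩ := hE
  have hall := H43.Blocks.isBlock_all hG hT₀ hEs
  have h : H43.Blocks.Data p E := H43.Blocks.Data.of_block hG hT₀ hEs
  have hg := (H43.Blocks.good_and_res hG hT₀ hEs).1
  have hBN := H43.Blocks.baumannSubgroup_le_normalizer hG h hg
  have hle : ∀ {X : Subgroup G} {T : Sylow p G}, Cfsg.IsBaumannBlock p (T : Subgroup G) X →
      X ≤ Cfsg.baumannSubgroup p G := fun {X T} hX => by
    haveI := H43.Blocks.baumannSubgroup_normal (G := G) (p := p)
    rw [← hX.2.1]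
    exact (Subgroup.commutator_mono le_rfl (H43.Blocks.baumannSubgroupOf_le T)).trans
      (Subgroup.commutator_le_right X _)
  refine ⟨hle hT₀, hBN, hall, fun F hF => ?_⟩
  obtain ⟨T, hT⟩ := hF
  have hET := hall T
  have k := H43.Blocks.Core.of_block hG hT
  have hFN : F ≤ Subgroup.normalizer (E : Set G) := (hle hT).trans hBN
  by_cases hk : F ≤ H43.Blocks.kerW p E
  · exact Or.inr (H43.Blocks.commute_of_le_kerW h k hk)
  · exact Or.inl (H43.Blocks.le_of_not_le_kerW hG h (H43.Blocks.Mod.of_block hG hET)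
      (H43.Blocks.good_and_res hG hET hEs).2 k (H43.Blocks.Mod.of_block hG hT)
      (H43.Blocks.baumann_le_normalizer hET) hFN hT.2.1 hk)

end Cfsg.Agent.S2987
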