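import Cfsg.Statements.S5637
import Cfsg.Agent.Linear.Generation
import Cfsg.Agent.H98.TensorGL.Coords

set_option autoImplicit false
open Cfsg

namespace Cfsg.Agent.S5637

open Matrix Module Cfsg.Agent.H96 Cfsg.Agent.H98 Cfsg.Agent.H98.ExtField Cfsg.Agent.H98.TensorGL

/-- Some element of determinant one does not respect the decomposition. -/
theorem exists_notMem {F : Type*} [Field F] [Fintype F] {n a b : ℕ} (ha : 2 ≤ a) (hb : 2 ≤ b)
    (e : Fin n ≃ Fin a × Fin b) (P : GL (Fin n) F)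
    (hsl : ∀ g : GL (Fin n) F, LinearMap.det (toUnits e P g : Module.End F (T F a b)) = 1 →
      g ∈ Cfsg.Geo.specialLinear (Fin n) F) :
    ∃ g ∈ Cfsg.Geo.specialLinear (Fin n) F, g ∉ Cfsg.Geo.tensorProductSubgroup a b e P := by
  have hunit : ∀ (X : Matrix (Fin n) (Fin n) F), X * X = 0 →
      ∃ A : GL (Fin n) F, (A : Matrix (Fin n) (Fin n) F) = 1 + X := fun X hX =>
    ⟨⟨1 + X, 1 - X, by rw [add_mul, one_mul, mul_sub, mul_one, hX]; abel,
      by rw [sub_mul, one_mul, mul_add, mul_one, hX]; abel⟩, rfl⟩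
  obtain ⟨X, hX⟩ := hunit (P.val * Matrix.single (e.symm (⟨0, by omega⟩, ⟨0, by omega⟩))
      (e.symm (⟨1, by omega⟩, ⟨1, by omega⟩)) (1 : F) * (P⁻¹).val) (by
    have hne : e.symm ((⟨1, by omega⟩ : Fin a), (⟨1, by omega⟩ : Fin b)) ≠
        e.symm (⟨0, by omega⟩, ⟨0, by omega⟩) := e.symm.injective.ne (by simp)
    simp only [Matrix.mul_assoc]
    rw [← Matrix.mul_assoc (P⁻¹).val P.val, Units.inv_mul, Matrix.one_mul,
      ← Matrix.mul_assoc (Matrix.single _ _ _), Matrix.single_mul_single_of_ne _ _ _ _ hne, Matrix.zero_mul,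
      Matrix.mul_zero])
  have hval : (toUnits e P X : Module.End F (T F a b)) =
      1 + elm (⟨0, by omega⟩, ⟨0, by omega⟩) (⟨1, by omega⟩, ⟨1, by omega⟩) (1 : F) := by
    refine LinearMap.ext fun m => ?_
    rw [toUnits_apply, LinearEquiv.symm_apply_eq, LinearMap.add_apply, Module.End.one_apply, map_add, hX,
      Matrix.add_mulVec, Matrix.one_mulVec]
    congr 1
    rw [tensorIso_apply, tensorIso_apply, ← Matrix.mulVec_mulVec, ← Matrix.mulVec_mulVec,
      Matrix.mulVec_mulVec _ (P⁻¹).val, Units.inv_mul, Matrix.one_mulVec]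
    congr 1
    refine funext fun k => ?_
    obtain ⟨⟨k₁, k₂⟩, rfl⟩ := e.symm.surjective k
    simp only [Matrix.single_mulVec_eq, Function.comp_apply, Equiv.apply_symm_apply, elm, te_apply,
      TensorGL.pure_apply, Pi.smul_apply, smul_eq_mul, Pi.single_apply, TensorGL.ev_apply,
      LinearMap.proj_apply, e.symm.injective.eq_iff, Prod.mk.injEq]
    split_ifs <;> simp_all
  refine ⟨X, hsl X ?_, fun hXN => ?_⟩
  · rw [hval, det_one_add]
    exact elm_mul_ne (by simp) _ _
  obtain ⟨A, B, hAB⟩ := exists_tensor_action hXN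
  have h00 : ∀ m, (toUnits e P X : Module.End F (T F a b)) m =
      fun i => ∑ k, (A : Matrix (Fin a) (Fin a) F) i k • ((B : Matrix (Fin b) (Fin b) F) *ᵥ m k) := fun m => by
    rw [toUnits_apply, LinearEquiv.symm_apply_eq]
    exact hAB m
  have hv : ∀ i j, (toUnits e P X : Module.End F (T F a b))
      (TensorGL.pure (Pi.single ⟨1, by omega⟩ 1) (Pi.single ⟨1, by omega⟩ 1)) i j =
      (A : Matrix (Fin a) (Fin a) F) i ⟨1, by omega⟩ * (B : Matrix (Fin b) (Fin b) F) j ⟨1, by omega⟩ :=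
    fun i j => by
      rw [h00]
      dsimp only
      rw [Finset.sum_apply, Fintype.sum_eq_single (⟨1, by omega⟩ : Fin a) (fun k hk => by simp [hk])]
      simp
  have e00 := hv ⟨0, by omega⟩ ⟨0, by omega⟩
  have e01 := hv ⟨0, by omega⟩ ⟨1, by omega⟩
  have e11 := hv ⟨1, by omega⟩ ⟨1, by omega⟩
  simp only [hval, elm, LinearMap.add_apply, Module.End.one_apply, te_apply, TensorGL.pure_apply, Pi.add_apply,
    Pi.smul_apply, smul_eq_mul, Matrix.single_mulVec_eq, TensorGL.ev_apply, LinearMap.proj_apply] at e00 e01 e11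
  simp at e00 e01 e11
  rcases e01 with h | h <;> simp [h] at e00 e11

/-- For a finite field F with q elements and n = n₁ n₂ ≥ 13 with 2 ≤ n₁ < n₂, excluding n₁ = q = 2, the stabiliser in SL_n(F) of a tensor decomposition F^n ≅ F^(n₁) ⊗ F^(n₂) (the conjugate by any P of the Kronecker-product subgroup transported along any bijection Fin n ≃ Fin n₁ × Fin n₂, intersected with SL_n(F)) is a maximal subgroup of SL_n(F). -/
theorem result {F : Type*} [Field F] [Fintype F] (n : ℕ) (hn : 13 ≤ n) (n₁ n₂ : ℕ) (h1 : 2 ≤ n₁) (h12 : n₁ < n₂) (hex : ¬ (n₁ = 2 ∧ Fintype.card F = 2)) (e : Fin n ≃ Fin n₁ × Fin n₂) (P : Matrix.GeneralLinearGroup (Fin n) F) : Cfsg.Geo.IsMaximalIn (Cfsg.Geo.specialLinear (Fin n) F) (Cfsg.Geo.tensorProductSubgroup n₁ n₂ e P ⊓ Cfsg.Geo.specialLinear (Fin n) F) := by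
  classical
  set N := Cfsg.Geo.tensorProductSubgroup n₁ n₂ e P with hN
  set SL := Cfsg.Geo.specialLinear (Fin n) F with hSL
  have hcard : n = n₁ * n₂ := by simpa using Fintype.card_congr e
  have hsmall : n₂ = n₁ + 1 → 3 ≤ n₁ := fun hb => by
    by_contra ha
    obtain rfl : n₁ = 2 := by omega
    omega
  have hq : 3 ≤ n₁ ∨ ∃ t : F, t ≠ 0 ∧ t ≠ 1 := by
    rcases Nat.lt_or_ge n₁ 3 with ha | ha
    · right
      by_contra hc
      push Not at hc
      refine hex ⟨by omega, le_antisymm ?_ Fintype.one_lt_card⟩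
      have : (Finset.univ : Finset F) ⊆ {0, 1} := fun t _ => by
        rcases eq_or_ne t 0 with rfl | ht <;> simp_all
      exact (Finset.card_le_card this).trans Finset.card_le_two
    · exact Or.inl ha
  let φ := toUnits e P
  have hsl : ∀ g : GL (Fin n) F, LinearMap.det (φ g : Module.End F (T F n₁ n₂)) = 1 → g ∈ SL := fun g hg => by
    refine MonoidHom.mem_ker.2 (Units.ext ?_)
    rw [GeneralLinearGroup.val_det_apply, ← det_toUnits e P, hg]
    rfl
  have hunit : ∀ {k : Type} [Fintype k] [DecidableEq k] (X : Matrix k k F), X * X = 0 →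
      ∃ A : GL k F, (A : Matrix k k F) = 1 + X := fun X hX =>
    ⟨⟨1 + X, 1 - X, by rw [add_mul, one_mul, mul_sub, mul_one, hX]; abel,
      by rw [sub_mul, one_mul, mul_add, mul_one, hX]; abel⟩, rfl⟩
  have hone : ∀ (M : Subgroup (GL (Fin n) F)), N ⊓ SL ≤ M → ∀ (Z : Module.End F (T F n₁ n₂)) (A : GL (Fin n₁) F)
      (B : GL (Fin n₂) F), Z * Z = 0 → (∀ m, (1 + Z) m =
        fun i => ∑ k, (A : Matrix (Fin n₁) (Fin n₁) F) i k • ((B : Matrix (Fin n₂) (Fin n₂) F) *ᵥ m k)) →
      MN (M.map φ.toMonoidHom) Z := by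
    intro M hM Z A B hZ hact
    let u : (Module.End F (T F n₁ n₂))ˣ := ⟨1 + Z, 1 - Z,
      by rw [add_mul, one_mul, mul_sub, mul_one, hZ]; abel,
      by rw [sub_mul, one_mul, mul_add, mul_one, hZ]; abel⟩
    obtain ⟨g, hg⟩ := φ.surjective u
    have hval : (φ g : Module.End F (T F n₁ n₂)) = 1 + Z := by rw [hg]
    exact ⟨hZ, φ g, ⟨g, hM ⟨tensor_mem A B fun m => by rw [hval]; exact hact m,
      hsl g (by rw [hval]; exact det_one_add hZ)⟩, rfl⟩, hval⟩
  have hov : ∀ M : Subgroup (GL (Fin n) F), N ⊓ SL ≤ M → Ov (M.map φ.toMonoidHom) := by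
    refine fun M hM => ⟨fun v χ hv => ?_, fun c ψ hψ => ?_⟩
    · let X : Matrix (Fin n₂) (Fin n₂) F := LinearMap.toMatrix' (χ.smulRight v)
      have hX : ∀ w, X *ᵥ w = χ w • v := fun w => LinearMap.toMatrix'_mulVec _ w
      obtain ⟨B, hB⟩ := hunit X (Matrix.ext_iff_mulVec.2 fun w => by
        rw [← Matrix.mulVec_mulVec, hX, hX, map_smul, hv, smul_zero, zero_smul, Matrix.zero_mulVec])
      refine hone M hM _ 1 B (by rw [te_mul_te, hv, zero_smul]) fun m => funext fun i => ?_
      simp [hB, Matrix.add_mulVec, hX, te_apply, Matrix.one_apply, Finset.sum_add_distrib]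
    · have h0 : vecMulVec c ψ * vecMulVec c ψ = 0 := by
        rw [vecMulVec_mul_vecMulVec, hψ, zero_smul, vecMulVec_zero]
      obtain ⟨A, hA⟩ := hunit _ h0
      refine hone M hM _ A 1 (by rw [← lt_mul, h0]; exact LinearMap.ext fun m => funext fun i => by simp [lt])
        fun m => ?_
      rw [hA, ← lt_one, ← lt_add]
      simp [lt]
  have helm : ∀ M : Subgroup (GL (Fin n) F), N ⊓ SL ≤ M → ¬ M ≤ N → ∀ p q : Fin n₁ × Fin n₂, p ≠ q → ∀ c : F,
      MN (M.map φ.toMonoidHom) (elm p q c) := by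
    intro M hM hMN p q hpq c
    obtain ⟨g, hg, hgN⟩ := SetLike.not_le_iff_exists.1 hMN
    obtain ⟨v, hv, hnp⟩ : ∃ v : Fin n₂ → F, v ≠ 0 ∧
        NotPure ((φ g : Module.End F (T F n₁ n₂)) ∘ₗ TensorGL.pure v) := by
      by_contra hc
      push Not at hc
      obtain ⟨A, B, hAB⟩ := exists_of_pure (by omega) (by omega) hc
      exact hgN (tensor_mem A B hAB)
    exact (hov M hM).mn_elm_of_notPure h1 h12 hsmall hq ⟨g, hg, rfl⟩ hv hnp p q hpq c
  have key : ∀ M : Subgroup (GL (Fin n) F), N ⊓ SL ≤ M → ¬ M ≤ N → SL ≤ M := by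
    intro M hM hMN A hA
    have hconj : ∀ B : SpecialLinearGroup (Fin n) F, P * SpecialLinearGroup.toGL B * P⁻¹ ∈ M := by
      refine fun B => Cfsg.Agent.Linear.transvection_induction
        (P := fun B => P * SpecialLinearGroup.toGL B * P⁻¹ ∈ M) (by simp) (fun i j hij c => ?_)
        (fun B C hB hC => ?_) B
      · obtain ⟨-, u, ⟨t, ht, rfl⟩, hu⟩ := helm M hM hMN (e i) (e j) (e.injective.ne hij) c
        suffices P * SpecialLinearGroup.toGL (SpecialLinearGroup.transvection hij c) * P⁻¹ = t by rwa [this]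
        refine Units.ext (Matrix.ext_iff_mulVec.2 fun w => ?_)
        obtain ⟨m, rfl⟩ := (tensorIso e P).surjective w
        have hm := LinearMap.congr_fun hu m
        rw [LinearMap.add_apply, Module.End.one_apply] at hm
        rw [MulEquiv.coe_toMonoidHom, toUnits_apply, LinearEquiv.symm_apply_eq, map_add] at hm
        rw [hm, Units.val_mul, Units.val_mul, ← Matrix.mulVec_mulVec, ← Matrix.mulVec_mulVec, tensorIso_apply,
          tensorIso_apply, Matrix.mulVec_mulVec _ ((P⁻¹ : GL (Fin n) F) : Matrix (Fin n) (Fin n) F), Units.inv_mul,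
          Matrix.one_mulVec, ← Matrix.mulVec_add]
        congr 1
        refine funext fun k => ?_
        rw [SpecialLinearGroup.coe_GL_coe_matrix, SpecialLinearGroup.transvection_coe, Matrix.add_mulVec,
          Matrix.one_mulVec, Matrix.single_mulVec_eq]
        rcases eq_or_ne k i with rfl | hk
        · simp [elm, te_apply, Matrix.single_mulVec_eq]
        · have : e k ≠ e i := e.injective.ne hk
          simp only [ne_eq, Prod.ext_iff, not_and_or] at this
          rcases this with h | h <;> simp [elm, te_apply, Matrix.single_mulVec_eq, hk, h]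
      · have := M.mul_mem hB hC
        rw [map_mul]
        convert this using 1
        group
    have hdetA : (A : Matrix (Fin n) (Fin n) F).det = 1 := by simpa using congrArg Units.val (MonoidHom.mem_ker.1 hA)
    have hdet : ((P⁻¹ * A * P : GL (Fin n) F) : Matrix (Fin n) (Fin n) F).det = 1 := by
      rw [Units.val_mul, Units.val_mul, Matrix.det_mul, Matrix.det_mul, hdetA, mul_one, ← Matrix.det_mul,
        Units.inv_mul, Matrix.det_one]
    have h := hconj ⟨_, hdet⟩
    convert h using 1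
    rw [show SpecialLinearGroup.toGL ⟨_, hdet⟩ = P⁻¹ * A * P from Units.ext rfl]
    group
  refine ⟨lt_of_le_of_ne inf_le_right fun heq => ?_, fun M hM hMS => ?_⟩
  · obtain ⟨g, hg, hgN⟩ := exists_notMem h1 (by omega) e P hsl
    exact hgN (heq.ge hg).1
  · by_cases h : M ≤ N
    · exact Or.inl (le_antisymm (le_inf h hMS) hM)
    · exact Or.inr (le_antisymm hMS (key M hM h))

end Cfsg.Agent.S5637
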