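import Cfsg.Statements.S5639
import Cfsg.Agent.H95.SubfieldMax

set_option autoImplicit false
open Cfsg

namespace Cfsg.Agent.S5639

open scoped MatrixGroups Matrix
open Matrix Cfsg.Agent.H95

variable {ι : Type} [Fintype ι] [DecidableEq ι] {F : Type*} [Field F] [Fintype F]

lemma subfield_dichotomy (F₀ : Subfield F) {r : ℕ} (hr : r.Prime)
    (hcard : Fintype.card F = Nat.card F₀ ^ r) {R : Set F} (hbase : ∀ c ∈ F₀, c ∈ R)
    (hadd : ∀ c ∈ R, ∀ d ∈ R, c + d ∈ R) (hmul : ∀ c ∈ R, ∀ d ∈ R, c * d ∈ R)
    (hneg : ∀ c ∈ R, -c ∈ R) : R = (F₀ : Set F) ∨ R = Set.univ := by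
  have hinv : ∀ c ∈ R, c⁻¹ ∈ R := by
    intro c hc
    rcases eq_or_ne c 0 with rfl | h0
    · rwa [_root_.inv_zero]
    have h1 : c⁻¹ = c ^ (Fintype.card F - 2) := by
      refine inv_eq_of_mul_eq_one_right ?_
      have := Fintype.one_lt_card (α := F)
      rw [← pow_succ', show Fintype.card F - 2 + 1 = Fintype.card F - 1 by omega,
        FiniteField.pow_card_sub_one_eq_one c h0]
    rw [h1]
    have : ∀ k : ℕ, c ^ k ∈ R := fun k => by
      induction k with
      | zero => rw [pow_zero]; exact hbase 1 F₀.one_mem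
      | succ k ih => rw [pow_succ]; exact hmul _ ih _ hc
    exact this _
  let K : Subfield F :=
    { carrier := R
      mul_mem' := fun {a b} ha hb => hmul a ha b hb
      one_mem' := hbase 1 F₀.one_mem
      add_mem' := fun {a b} ha hb => hadd a ha b hb
      zero_mem' := hbase 0 F₀.zero_mem
      neg_mem' := fun {a} ha => hneg a ha
      inv_mem' := fun a ha => hinv a ha }
  let K' : IntermediateField F₀ F := K.toIntermediateField fun c => hbase c.1 c.2
  have hdim : Module.finrank F₀ F = r := by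
    have h : Nat.card F = Nat.card F₀ ^ Module.finrank F₀ F := Module.natCard_eq_pow_finrank
    rw [Nat.card_eq_fintype_card, hcard] at h
    haveI : Nontrivial F₀ := inferInstance
    exact (Nat.pow_right_injective (Finite.one_lt_card (α := F₀)) h).symm
  haveI := IntermediateField.isSimpleOrder_of_finrank_prime F₀ F (hdim ▸ hr)
  rcases IsSimpleOrder.eq_bot_or_eq_top K' with h | h
  · left
    ext c
    refine ⟨fun hc => ?_, hbase c⟩
    have hc' : c ∈ K' := hc
    rw [h, IntermediateField.mem_bot] at hc'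
    obtain ⟨d, rfl⟩ := hc'
    exact d.2
  · right
    refine Set.eq_univ_of_forall fun c => ?_
    show c ∈ K'
    rw [h]; exact IntermediateField.mem_top

lemma specialLinear_le_of_rootSet {M : Subgroup (GL ι F)} (h : rootSet M = Set.univ) :
    Geo.specialLinear ι F ≤ M := by
  classical
  refine specialLinear_le_of_fan ?_
  rw [eq_top_iff, ← (Pi.basisFun F ι).span_eq, Submodule.span_le]
  rintro _ ⟨i, rfl⟩ φ hφ
  rw [Pi.basisFun_apply] at hφ ⊢
  rw [dotProduct_single, mul_one] at hφ
  rw [pi_eq_sum_univ' φ]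
  induction (Finset.univ : Finset ι) using Finset.induction_on with
  | empty => simpa using inTv_zero_right M _
  | insert j S hj ih =>
    rw [Finset.sum_insert hj]
    refine InTv.add_right ?_ ih
    rcases eq_or_ne j i with rfl | hji
    · rw [hφ, zero_smul]; exact inTv_zero_right M _
    · exact (h.symm ▸ Set.mem_univ (φ j) : φ j ∈ rootSet M) i j hji.symm

/-- The statement for the standard basis. -/
lemma standard (F₀ : Subfield F) {r : ℕ} (hr : r.Prime)
    (hcard : Fintype.card F = Nat.card F₀ ^ r) (hn : 4 ≤ Fintype.card ι) :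
    Geo.IsMaximalIn (Geo.specialLinear ι F) (baseGrp F₀ ι ⊓ Geo.specialLinear ι F) := by
  refine ⟨lt_of_le_of_ne inf_le_right ?_, fun M hSM hMSL => ?_⟩
  · intro hEq
    obtain ⟨c, hc⟩ : ∃ c : F, c ∉ F₀ := by
      by_contra hcon
      push Not at hcon
      have htop : F₀ = ⊤ := SetLike.ext fun c => ⟨fun _ => Subfield.mem_top c, fun _ => hcon c⟩
      have : Nat.card F₀ = Fintype.card F := by
        rw [← Nat.card_eq_fintype_card]
        exact Nat.card_congr (Equiv.subtypeUnivEquiv hcon)
      rw [this] at hcard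
      have h1 := Fintype.one_lt_card (α := F)
      exact hr.ne_one (Nat.pow_right_injective h1 (hcard.symm.trans (pow_one _).symm))
    obtain ⟨a, b, hab⟩ := Fintype.exists_pair_of_one_lt_card (α := ι) (by omega)
    have h0 : (c • Pi.single b 1 : ι → F) ⬝ᵥ Pi.single a 1 = 0 := by simp [hab]
    have hmem : tv (Pi.single a 1) (c • Pi.single b 1) h0 ∈ baseGrp F₀ ι :=
      (hEq.symm ▸ tv_mem_specialLinear _ _ h0 :
        tv (Pi.single a 1) (c • Pi.single b 1) h0 ∈ baseGrp F₀ ι ⊓ Geo.specialLinear ι F).1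
    obtain ⟨μ, hμ, ρ, hρ, he⟩ := exists_of_mem_baseGrp hmem
    have e1 : μ * ρ a b = c := by
      have := congrFun (congrFun he a) b
      simp [tvMat, vecMulVec_apply, hab] at this
      exact this.symm
    have e2 : μ * ρ a a = 1 := by
      have := congrFun (congrFun he a) a
      simp [tvMat, vecMulVec_apply, hab] at this
      exact this.symm
    apply hc
    have : c = ρ a b / ρ a a := by
      rw [eq_div_iff (fun h => by rw [h, mul_zero] at e2; exact zero_ne_one e2), ← e1]
      linear_combination (ρ a b) * e2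
    rw [this]
    exact F₀.div_mem (hρ a b) (hρ a a)
  obtain ⟨h1, h2, h3, h4⟩ := rootSet_closed (M := M) hSM (by omega)
  rcases subfield_dichotomy F₀ hr hcard h1 h2 h3 h4 with h | h
  · left
    refine le_antisymm (fun g hg => ⟨?_, hMSL hg⟩) hSM
    exact mem_baseGrp_of_rootSet hSM (fun c hc => by rw [h] at hc; exact hc) (by omega) hn hg
  · exact Or.inr (le_antisymm hMSL (specialLinear_le_of_rootSet h))

/-- For a finite field F, a subfield F₀ with |F| = |F₀| ^ r for a prime r, and n ≥ 13, the subfield group (the conjugate by any P of the product of GL_n(F₀) with the non-zero scalars of F, intersected with SL_n(F)) is a maximal subgroup of SL_n(F). -/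
theorem result {F : Type*} [Field F] [Fintype F] (n : ℕ) (hn : 13 ≤ n) (F₀ : Subfield F) (r : ℕ) (hr : r.Prime) (hcard : Fintype.card F = Nat.card F₀ ^ r) (P : Matrix.GeneralLinearGroup (Fin n) F) : Cfsg.Geo.IsMaximalIn (Cfsg.Geo.specialLinear (Fin n) F) (Cfsg.Geo.subfieldSubgroup F₀ P ⊓ Cfsg.Geo.specialLinear (Fin n) F) := by
  obtain ⟨hlt, hmax⟩ := standard (ι := Fin n) F₀ hr hcard (by rw [Fintype.card_fin]; omega)
  set SL := Geo.specialLinear (Fin n) F with hSL
  haveI : SL.Normal := by rw [hSL, Geo.specialLinear]; infer_instance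
  set c : GL (Fin n) F ≃* GL (Fin n) F := MulAut.conj P with hc
  have hSLc : SL.map c.toMonoidHom = SL := by
    refine le_antisymm ?_ ?_
    · rintro _ ⟨x, hx, rfl⟩
      exact Subgroup.Normal.conj_mem inferInstance x hx P
    · intro x hx
      refine ⟨c.symm x, ?_, c.apply_symm_apply x⟩
      show P⁻¹ * x * P ∈ SL
      simpa using Subgroup.Normal.conj_mem inferInstance x hx P⁻¹
  have hS : (baseGrp F₀ (Fin n) ⊓ SL).map c.toMonoidHom = Geo.subfieldSubgroup F₀ P ⊓ SL := by
    rw [Subgroup.map_inf _ _ _ c.injective, hSLc]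
    rfl
  rw [← hS]
  conv => congr; rw [← hSLc]
  refine ⟨(Subgroup.map_lt_map_iff_of_injective c.injective).2 hlt, fun M h1 h2 => ?_⟩
  have h1' : baseGrp F₀ (Fin n) ⊓ SL ≤ M.comap c.toMonoidHom := Subgroup.map_le_iff_le_comap.1 h1
  have h2' : M.comap c.toMonoidHom ≤ SL := by
    intro x hx
    obtain ⟨y, hy, hxy⟩ := h2 hx
    rwa [c.injective hxy] at hy
  have hM : (M.comap c.toMonoidHom).map c.toMonoidHom = M :=
    Subgroup.map_comap_eq_self_of_surjective c.surjective M
  rcases hmax _ h1' h2' with h | h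
  · left; rw [← hM, h]
  · right; rw [← hM, h]

end Cfsg.Agent.S5639
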