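import Cfsg.Statements.S5642
import Cfsg.Agent.H95.Symp

set_option autoImplicit false
open Cfsg

namespace Cfsg.Agent.S5642

open scoped MatrixGroups Matrix
open Matrix Cfsg.Agent.H95

variable {ι : Type} [Fintype ι] [DecidableEq ι] {F : Type*} [Field F]
  {f : (ι → F) → (ι → F) → F}

lemma move_pair (hf : Geo.IsSymplecticForm f) {M : Subgroup (GL ι F)} (hM : ∀ u l, rt hf u l ∈ M)
    {u v a c : ι → F} (hu : u ≠ 0) (ha : a ≠ 0) (huv : f u v = 0)
    (hv : ∀ t : F, v ≠ t • u) (hac : f a c = 0) (hc : ∀ t : F, c ≠ t • a) :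
    ∃ s ∈ M, s ∈ isoGrp f ∧ (s : Matrix ι ι F) *ᵥ u = a ∧ (s : Matrix ι ι F) *ᵥ v = c := by
  obtain ⟨g, hg, hgu⟩ := exists_move hf (ndOn_top hf) (w := u) (w' := a) trivial trivial hu ha
  have hgM : g ∈ M := (Subgroup.closure_le M).2 (by rintro _ ⟨x, -, l, rfl⟩; exact hM x l) hg
  have hgi : g ∈ isoGrp f := closure_roots_le_iso hf _ hg
  set v' := (g : Matrix ι ι F) *ᵥ v with hv'
  have hav : f a v' = 0 := by rw [← hgu, hv', mem_isoGrp.1 hgi, huv]
  have hv'0 : ∀ t : F, v' ≠ t • a := by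
    intro t h
    apply hv t
    apply gl_mulVec_injective g
    simpa [mulVec_smul, hgu] using h
  suffices ∃ s ∈ M, s ∈ isoGrp f ∧ (s : Matrix ι ι F) *ᵥ a = a ∧ (s : Matrix ι ι F) *ᵥ v' = c by
    obtain ⟨s, h1, h2, h3, h4⟩ := this
    exact ⟨s * g, M.mul_mem h1 hgM, Subgroup.mul_mem _ h2 hgi, by rw [mul_mulVec, hgu, h3],
      by rw [mul_mulVec, ← hv', h4]⟩
  by_cases h : f v' c = 0
  · obtain ⟨z, hz1, hz2⟩ := exists_perp_nonorth hf hv'0
    obtain ⟨y, hy1, hy2⟩ := exists_perp_nonorth hf hc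
    -- a common vector orthogonal to `a` and to neither of `v'`, `c`
    obtain ⟨w, hw1, hw2, hw3⟩ : ∃ w, f a w = 0 ∧ f v' w ≠ 0 ∧ f c w ≠ 0 := by
      by_cases h1 : f c z = 0
      · by_cases h2 : f v' y = 0
        · exact ⟨z + y, by rw [f_add_right hf, hz1, hy1, add_zero],
            by rw [f_add_right hf, hz2, h2]; simp, by rw [f_add_right hf, hy2, h1]; simp⟩
        · exact ⟨y, hy1, h2, by rw [hy2]; exact one_ne_zero⟩
      · exact ⟨z, hz1, by rw [hz2]; exact one_ne_zero, h1⟩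
    have hw4 : f w c ≠ 0 := f_symm_ne hf hw3
    refine ⟨rt hf (c - w) (f w c)⁻¹ * rt hf (w - v') (f v' w)⁻¹, M.mul_mem (hM _ _) (hM _ _),
      Subgroup.mul_mem _ (rt_mem_iso hf _ _) (rt_mem_iso hf _ _), ?_, ?_⟩
    · have a1 : f a (w - v') = 0 := by rw [f_sub_right hf, hw1, hav, sub_zero]
      have a2 : f a (c - w) = 0 := by rw [f_sub_right hf, hac, hw1, sub_zero]
      rw [mul_mulVec, rt_fix hf a1, rt_fix hf a2]
    · rw [mul_mulVec, rt_move hf hw2, rt_move hf hw4]
  · exact ⟨rt hf (c - v') (f v' c)⁻¹, hM _ _, rt_mem_iso hf _ _,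
      rt_fix hf (by rw [f_sub_right hf, hac, hav, sub_zero]) _, rt_move hf h⟩

/-- For a finite field F and n ≥ 13, let f be a non-degenerate symplectic form on F^n (so n is even). Then the elements of SL_n(F) that are similarities of f (f(gu, gv) = c f(u, v) for a non-zero scalar c depending on g) form a maximal subgroup of SL_n(F). -/
theorem result {F : Type*} [Field F] [Fintype F] (n : ℕ) (hn : 13 ≤ n) (f : (Fin n → F) → (Fin n → F) → F) (hf : Cfsg.Geo.IsSymplecticForm f) : Cfsg.Geo.IsMaximalIn (Cfsg.Geo.specialLinear (Fin n) F) (Cfsg.Geo.similarityGroup f ⊓ Cfsg.Geo.specialLinear (Fin n) F) := by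
  set SL := Geo.specialLinear (Fin n) F with hSL
  set S := Geo.similarityGroup f ⊓ SL with hS
  have hroot : ∀ u l, rt hf u l ∈ S := fun u l =>
    ⟨⟨1, fun x y => by simpa using mem_isoGrp.1 (rt_mem_iso hf u l) x y⟩, rt_mem_sl hf u l⟩
  refine ⟨lt_of_le_of_ne inf_le_right ?_, ?_⟩
  · intro hEq
    obtain ⟨a, ha⟩ : ∃ a : Fin n → F, a ≠ 0 := ⟨Pi.single ⟨0, by omega⟩ 1, by simp⟩
    obtain ⟨c, hac, hc⟩ : ∃ c, f a c = 0 ∧ ∀ t : F, c ≠ t • a := by
      by_contra hcon
      push Not at hcon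
      obtain ⟨x, hx⟩ := exists_f_eq_one hf ha
      have htop : (⊤ : Submodule F (Fin n → F)) ≤ Submodule.span F {a, x} := by
        intro w _
        obtain ⟨t, ht⟩ := hcon (w - f a w • x)
          (by rw [f_sub_right hf, f_smul_right hf, hx, mul_one, sub_self])
        rw [Submodule.mem_span_pair]
        exact ⟨t, f a w, by rw [← ht]; abel⟩
      have h1 := Submodule.finrank_mono htop
      rw [finrank_top, Module.finrank_fin_fun] at h1
      classical
      have h2 : Module.finrank F (Submodule.span F ({a, x} : Set (Fin n → F))) ≤ 2 := by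
        have := finrank_span_finset_le_card (R := F) ({a, x} : Finset (Fin n → F))
        rw [Finset.coe_insert, Finset.coe_singleton] at this
        exact this.trans Finset.card_le_two
      omega
    have h0 : dv f c ⬝ᵥ a = 0 := by rw [dv_dot hf, hac]
    obtain ⟨⟨μ, hμ⟩, -⟩ : tv a (dv f c) h0 ∈ S := hEq.symm ▸ tv_mem_specialLinear a (dv f c) h0
    obtain ⟨z, hz⟩ := exists_f_eq_one hf ha
    have e1 := hμ a z
    rw [tv_mulVec, tv_mulVec, dv_dot hf, dv_dot hf, hac, zero_smul, add_zero, f_add_right hf,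
      f_smul_right hf, f_self hf, hz, mul_zero, add_zero, mul_one] at e1
    obtain ⟨x, hx1, hx2⟩ := exists_perp_nonorth hf hc
    have e2 := hμ x z
    rw [tv_mulVec, tv_mulVec, dv_dot hf, dv_dot hf, ← e1, one_mul, f_add_left hf, f_add_right hf,
      f_add_right hf, f_smul_left hf, f_smul_left hf, f_smul_right hf, f_smul_right hf, f_self hf,
      hz, f_skew hf x a, hx1, f_skew hf x c, hx2] at e2
    exact one_ne_zero (α := F) (by linear_combination -e2)
  intro M hSM hMSL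
  by_cases hMS : M ≤ S
  · exact Or.inl (le_antisymm hMS hSM)
  right
  obtain ⟨g, hgM, hgS⟩ := SetLike.not_le_iff_exists.1 hMS
  have hM : ∀ u l, rt hf u l ∈ M := fun u l => hSM (hroot u l)
  -- some conjugate of a symplectic transvection is not symplectic
  obtain ⟨u, c, hu, huc, hc, huM⟩ : ∃ u c, u ≠ 0 ∧ f u c = 0 ∧ (∀ t : F, c ≠ t • u) ∧
      ∀ l : F, InTv M u (l • dv f c) := by
    by_contra hcon
    push Not at hcon
    apply hgS
    refine ⟨?_, hMSL hgM⟩
    have key : ∀ a : Fin n → F, a ≠ 0 → ∃ t : F, ∀ y,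
        f y a = t * f ((g : Matrix (Fin n) (Fin n) F) *ᵥ y) ((g : Matrix (Fin n) (Fin n) F) *ᵥ a) := by
      intro a ha
      obtain ⟨d, hd⟩ := exists_dv hf (dv f a ᵥ* ((g⁻¹ : GL (Fin n) F) : Matrix (Fin n) (Fin n) F))
      have hall : ∀ l : F, InTv M ((g : Matrix (Fin n) (Fin n) F) *ᵥ a) (l • dv f d) := by
        intro l
        have h0 : InTv M a (l • dv f a) :=
          ⟨by rw [smul_dotProduct, dv_dot hf, f_self hf, smul_zero], hM a l⟩
        have h1 := h0.conj hgM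
        rwa [smul_vecMul, ← hd] at h1
      have hga : (g : Matrix (Fin n) (Fin n) F) *ᵥ a ≠ 0 := by
        intro h
        apply ha
        rw [← inv_mulVec_mulVec g a, h, mulVec_zero]
      have hperp : f ((g : Matrix (Fin n) (Fin n) F) *ᵥ a) d = 0 := by
        rw [← dv_dot hf, hd, ← dotProduct_mulVec, inv_mulVec_mulVec, dv_dot hf, f_self hf]
      by_cases ht : ∃ t : F, d = t • (g : Matrix (Fin n) (Fin n) F) *ᵥ a
      · obtain ⟨t, rfl⟩ := ht
        refine ⟨t, fun y => ?_⟩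
        rw [← f_smul_right hf]
        conv_rhs => rw [← dv_dot hf, hd, ← dotProduct_mulVec, inv_mulVec_mulVec, dv_dot hf]
      · push Not at ht
        obtain ⟨l, hl⟩ := hcon _ d hga hperp ht
        exact absurd (hall l) hl
    obtain ⟨a₀, ha₀⟩ : ∃ a : Fin n → F, a ≠ 0 := ⟨Pi.single ⟨0, by omega⟩ 1, by simp⟩
    obtain ⟨t, ht⟩ := key a₀ ha₀
    have ht0 : t ≠ 0 := by
      rintro rfl
      obtain ⟨x, hx⟩ := exists_f_eq_one hf ha₀
      have := ht x
      rw [zero_mul] at this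
      exact one_ne_zero (α := F) (hx ▸ (f_symm_zero hf this))
    refine ⟨Units.mk0 t⁻¹ (inv_ne_zero ht0), fun y b => ?_⟩
    rcases eq_or_ne b 0 with rfl | hb
    · rw [mulVec_zero, f_zero_right hf, f_zero_right hf, mul_zero]
    obtain ⟨tb, htb⟩ := key b hb
    suffices tb = t by rw [htb y, this, Units.val_mk0, ← mul_assoc, inv_mul_cancel₀ ht0, one_mul]
    obtain ⟨x, hx1, hx2⟩ := exists_common_nonorth hf ha₀ hb
    have hx0 : x ≠ 0 := by rintro rfl; exact hx1 (f_zero_right hf a₀)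
    obtain ⟨tx, htx⟩ := key x hx0
    have hh : ∀ (p : Fin n → F) (tp : F), f p x ≠ 0 →
        (∀ y, f y p = tp * f ((g : Matrix (Fin n) (Fin n) F) *ᵥ y)
          ((g : Matrix (Fin n) (Fin n) F) *ᵥ p)) → tp = tx := by
      intro p tp hp hh
      have e1 := htx p
      have e2 := hh x
      rw [f_skew hf x p, f_skew hf ((g : Matrix (Fin n) (Fin n) F) *ᵥ x)] at e2
      have h3 : f ((g : Matrix (Fin n) (Fin n) F) *ᵥ p) ((g : Matrix (Fin n) (Fin n) F) *ᵥ x) ≠ 0 := by
        intro h; rw [h, mul_zero] at e1; exact hp e1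
      exact mul_right_cancel₀ h3 (by linear_combination e2 + e1)
    rw [hh b tb hx2 htb, hh a₀ t hx1 ht]
  refine le_antisymm hMSL (specialLinear_le fun a φ h0 => ?_)
  obtain ⟨d, rfl⟩ := exists_dv hf φ
  rcases eq_or_ne a 0 with rfl | ha
  · exact inTv_zero_left M _
  have had : f a d = 0 := by rw [← dv_dot hf, h0]
  by_cases hd : ∃ t : F, d = t • a
  · obtain ⟨t, rfl⟩ := hd
    rw [dv_smul hf]
    exact ⟨by rw [smul_dotProduct, dv_dot hf, f_self hf, smul_zero], hM a t⟩
  · push Not at hd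
    obtain ⟨s, hsM, hsi, hsu, hsc⟩ := move_pair hf hM hu ha huc hc had hd
    have := (huM 1).conj hsM
    rwa [one_smul, hsu, vecMul_inv_dv hf hsi, hsc] at this

end Cfsg.Agent.S5642
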