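import Cfsg.Statements.S5644
import Cfsg.Agent.H95.QuadMax

set_option autoImplicit false
open Cfsg

namespace Cfsg.Agent.S5644

open scoped MatrixGroups Matrix
open Matrix QuadraticMap Cfsg.Agent.H95

variable {ι : Type} [Fintype ι] [DecidableEq ι] {F : Type*} [Field F]

lemma twist {Q : (ι → F) → F} (hQ : Geo.IsNondegenerateQuadraticForm Q) (g : GL ι F) :
    Geo.IsNondegenerateQuadraticForm fun x => Q (((g⁻¹ : GL ι F) : Matrix ι ι F) *ᵥ x) := by
  have hp : ∀ x y, polar (fun x => Q (((g⁻¹ : GL ι F) : Matrix ι ι F) *ᵥ x)) x y =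
      polar Q (((g⁻¹ : GL ι F) : Matrix ι ι F) *ᵥ x) (((g⁻¹ : GL ι F) : Matrix ι ι F) *ᵥ y) := by
    intro x y; simp only [polar, mulVec_add]
  refine ⟨fun c v => by simp only [mulVec_smul]; exact hQ.smul c _, ⟨?_, ?_, ?_, ?_⟩, fun v hv => ?_⟩
  · intro x y v; simp only [hp, mulVec_add]; exact p_add_left hQ _ _ _
  · intro c x v; simp only [hp, mulVec_smul]; exact p_smul_left hQ _ _ _
  · intro v x y; simp only [hp, mulVec_add]; exact p_add_right hQ _ _ _
  · intro c v x; simp only [hp, mulVec_smul]; exact p_smul_right hQ _ _ _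
  · obtain ⟨⟨x, hx⟩, y, hy⟩ := hQ.nondegenerate (((g⁻¹ : GL ι F) : Matrix ι ι F) *ᵥ v)
      (fun e => hv (by rw [← mulVec_inv_mulVec g v, e, mulVec_zero]))
    exact ⟨⟨(g : Matrix ι ι F) *ᵥ x, by rw [hp, inv_mulVec_mulVec]; exact hx⟩,
      ⟨(g : Matrix ι ι F) *ᵥ y, by rw [hp, inv_mulVec_mulVec]; exact hy⟩⟩

lemma refl_pair_mem {Q : (ι → F) → F} (hQ : Geo.IsNondegenerateQuadraticForm Q) (h2 : (2 : F) ≠ 0)
    (a b : ι → F) (ha : Q a ≠ 0) (hb : Q b ≠ 0) :
    rfl' hQ h2 a ha * rfl' hQ h2 b hb ∈ Geo.quadSimilarityGroup Q ⊓ Geo.specialLinear ι F := by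
  refine ⟨⟨1, fun v => ?_⟩, mem_specialLinear_iff.2 ?_⟩
  · rw [Units.val_one, one_mul, mul_mulVec, rfl'_iso hQ, rfl'_iso hQ]
  · rw [Units.val_mul, det_mul]
    simp [rfl', dl_det]

/-- For a finite field F of odd order and n ≥ 13, let Q be a non-degenerate quadratic form on F^n (its polar form is non-degenerate). Then the elements of SL_n(F) that are similarities of Q (Q(gv) = c Q(v) for a non-zero scalar c depending on g) form a maximal subgroup of SL_n(F). -/
theorem result {F : Type*} [Field F] [Fintype F] (n : ℕ) (hn : 13 ≤ n) (hodd : Odd (Fintype.card F)) (Q : (Fin n → F) → F) (hQ : Cfsg.Geo.IsNondegenerateQuadraticForm Q) : Cfsg.Geo.IsMaximalIn (Cfsg.Geo.specialLinear (Fin n) F) (Cfsg.Geo.quadSimilarityGroup Q ⊓ Cfsg.Geo.specialLinear (Fin n) F) := by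
  have hn' : 13 ≤ Fintype.card (Fin n) := by rw [Fintype.card_fin]; omega
  have h2 : (2 : F) ≠ 0 := by
    refine Ring.two_ne_zero fun h => ?_
    have := FiniteField.even_card_of_char_two (F := F) h
    rw [Nat.odd_iff] at hodd
    omega
  set SL := Geo.specialLinear (Fin n) F with hSL
  refine ⟨lt_of_le_of_ne inf_le_right ?_, fun M hSM hMSL => ?_⟩
  · intro hEq
    obtain ⟨a, -, ha⟩ := exists_aniso_ker hQ h2 (![] : Fin 0 → Fin n → F) (by omega)
    obtain ⟨b, hb', hb⟩ := exists_aniso_ker hQ h2 ![dv (polar Q) a] (by omega)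
    have hab : polar Q b a = 0 := by rw [← qv_dot hQ]; exact hb' 0
    have h0 : dv (polar Q) b ⬝ᵥ a = 0 := by rw [qv_dot hQ, p_comm hQ, hab]
    obtain ⟨⟨μ, hμ⟩, -⟩ : tv a (dv (polar Q) b) h0 ∈ Geo.quadSimilarityGroup Q ⊓ SL :=
      hEq.symm ▸ tv_mem_specialLinear _ _ h0
    have e1 := hμ a
    rw [tv_mulVec, h0, zero_smul, add_zero] at e1
    have hμ1 : (μ : F) = 1 := (mul_eq_right₀ ha).1 e1.symm
    have e2 := hμ b
    rw [tv_mulVec, qv_dot hQ, q_add hQ, q_smul hQ, p_smul_right hQ, hab, p_self hQ, hμ1, one_mul,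
      mul_zero, add_zero, add_eq_left, mul_eq_zero, sq_eq_zero_iff, mul_eq_zero] at e2
    rcases e2 with (h | h) | h
    · exact h2 h
    · exact hb h
    · exact ha h
  by_cases hMS : M ≤ Geo.quadSimilarityGroup Q ⊓ SL
  · exact Or.inl (le_antisymm hMS hSM)
  right
  refine le_antisymm hMSL ?_
  obtain ⟨g, hgM, hgS⟩ := SetLike.not_le_iff_exists.1 hMS
  have hQ' := twist hQ g
  refine specialLinear_le_of_two_forms hQ hQ' h2 hn'
    (fun a b ha hb => hSM (refl_pair_mem hQ h2 a b ha hb)) (fun a b ha hb => ?_) ?_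
    (fun e c he hec => hSM ⟨⟨1, fun v => by rw [Units.val_one, one_mul, sg_iso hQ]⟩,
      sg_mem_specialLinear hQ e c he hec⟩)
  · set g' := ((g⁻¹ : GL (Fin n) F) : Matrix (Fin n) (Fin n) F) with hg'
    have ha' : Q (g' *ᵥ a) ≠ 0 := ha
    have hb' : Q (g' *ᵥ b) ≠ 0 := hb
    convert M.mul_mem (M.mul_mem hgM (hSM (refl_pair_mem hQ h2 _ _ ha' hb'))) (M.inv_mem hgM)
      using 1
    refine gl_ext fun x => ?_
    have key : ∀ (v : Fin n → F) (hv : Q (g' *ᵥ v) ≠ 0) (x : Fin n → F),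
        (rfl' hQ' h2 v hv : Matrix (Fin n) (Fin n) F) *ᵥ x =
        (g : Matrix (Fin n) (Fin n) F) *ᵥ
          ((rfl' hQ h2 (g' *ᵥ v) hv : Matrix (Fin n) (Fin n) F) *ᵥ (g' *ᵥ x)) := by
      intro v hv x
      rw [rfl'_mulVec, rfl'_mulVec, mulVec_sub, mulVec_smul, hg', mulVec_inv_mulVec,
        mulVec_inv_mulVec]
      congr 3
      simp only [polar, mulVec_add]
    simp only [mul_mulVec]
    rw [key a ha', key b hb']
    simp only [hg', inv_mulVec_mulVec]
  · intro l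
    by_contra hcon
    push Not at hcon
    apply hgS
    refine ⟨?_, hMSL hgM⟩
    have hl : l ≠ 0 := by
      rintro rfl
      obtain ⟨a, -, ha⟩ := exists_aniso_ker hQ' h2 (![] : Fin 0 → Fin n → F) (by omega)
      exact ha (by rw [hcon a, zero_mul])
    refine ⟨Units.mk0 l⁻¹ (inv_ne_zero hl), fun v => ?_⟩
    have := hcon ((g : Matrix (Fin n) (Fin n) F) *ᵥ v)
    simp only [inv_mulVec_mulVec] at this
    rw [Units.val_mk0, this, inv_mul_cancel_left₀ hl]

end Cfsg.Agent.S5644
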