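import Cfsg.Statements.S5886
import Cfsg.Agent.Linear.Generation
import Cfsg.Agent.H98.FieldSubalg
import Cfsg.Agent.H98.ExtField.Overgroup
import Cfsg.Agent.H98.ExtField.Det

set_option autoImplicit false
open Cfsg

namespace Cfsg.Agent.S5886

open Matrix Module Cfsg.Agent.H98 Cfsg.Agent.H98.ExtField

theorem result {F : Type*} [Field F]
    [Fintype F] (n r : ℕ) (hr : r.Prime) (hrn : r ∣ n) (hlt : r < n) (K : Subalgebra F (Matrix (Fin n) (Fin n) F))
    (hK : Cfsg.Geo.IsFieldSubalgebra r K) :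
    IsCoatom (Cfsg.Geo.subalgebraNormalizer K) ∧
      Cfsg.Geo.IsMaximalIn (Cfsg.Geo.specialLinear (Fin n) F)
        (Cfsg.Geo.subalgebraNormalizer K ⊓ Cfsg.Geo.specialLinear (Fin n) F) := by
  classical
  have hne : Nonempty (Fin n) := ⟨⟨0, by omega⟩⟩
  have hfield : IsField K :=
    { exists_pair_ne := ⟨0, 1, fun h => zero_ne_one (congrArg Subtype.val h : (0 : Matrix (Fin n) (Fin n) F) = 1)⟩
      mul_comm := fun a b => Subtype.ext (hK.comm _ a.2 _ b.2)
      mul_inv_cancel := fun {a} ha => by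
        obtain ⟨y, hy, h⟩ := hK.inv a.1 a.2 (fun h => ha (Subtype.ext h))
        exact ⟨⟨y, hy⟩, Subtype.ext h⟩ }
  letI : Field K := hfield.toField
  let eA : Matrix (Fin n) (Fin n) F ≃ₐ[F] Module.End F (Fin n → F) := Matrix.toLinAlgEquiv'
  let ρ : K →ₐ[F] Module.End F (Fin n → F) := eA.toAlgHom.comp K.val
  letI hmod : Module K (Fin n → F) := Module.compHom (Fin n → F) ρ.toRingHom
  have hsmul : ∀ (k : K) (x : Fin n → F), k • x = (k : Matrix (Fin n) (Fin n) F) *ᵥ x := fun k x => rfl
  haveI : @IsScalarTower F K (Fin n → F) Algebra.toSMul hmod.toDistribMulAction.toDistribSMul.toSMulZeroClass.toSMul _ := ⟨fun c k x => by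
    show ((c • k : K) : Matrix (Fin n) (Fin n) F) *ᵥ x = c • ((k : Matrix (Fin n) (Fin n) F) *ᵥ x)
    exact Matrix.smul_mulVec c _ x⟩
  haveI : FiniteDimensional F K := Module.finite_of_finrank_pos (by rw [hK.finrank_eq]; exact hr.pos)
  have hr' : (finrank F K).Prime := hK.finrank_eq ▸ hr
  set N := Cfsg.Geo.subalgebraNormalizer K with hN
  set SL := Cfsg.Geo.specialLinear (Fin n) F with hSL
  let e : GL (Fin n) F ≃* (Module.End F (Fin n → F))ˣ := Units.mapEquiv eA.toMulEquiv
  have he : ∀ (g : GL (Fin n) F) (x : Fin n → F),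
      (e g : Module.End F (Fin n → F)) x = (g : Matrix (Fin n) (Fin n) F) *ᵥ x := fun g x => rfl
  have hdet : ∀ g : GL (Fin n) F,
      LinearMap.det (e g : Module.End F (Fin n → F)) = (g : Matrix (Fin n) (Fin n) F).det := fun g =>
    LinearMap.det_toLin' _
  have hlin : ∀ u : (Module.End F (Fin n → F))ˣ,
      (∀ (k : K) x, (u : Module.End F (Fin n → F)) (k • x) = k • (u : Module.End F (Fin n → F)) x) →
      e.symm u ∈ N := by
    intro u hu k
    obtain ⟨g, rfl⟩ := e.surjective u
    rw [MulEquiv.symm_apply_apply]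
    have hcomm : ∀ x ∈ K, (g : Matrix (Fin n) (Fin n) F) * x = x * g := fun x hx =>
      Matrix.ext_iff_mulVec.2 fun v => by
        rw [← Matrix.mulVec_mulVec, ← Matrix.mulVec_mulVec]
        simpa only [he, hsmul] using hu ⟨x, hx⟩ v
    constructor
    · intro hk
      rw [hcomm k hk, mul_assoc, Units.mul_inv, mul_one]
      exact hk
    · intro hk
      have h := hcomm _ hk
      rw [show ∀ G I : Matrix (Fin n) (Fin n) F, G * k * I * G = G * k * (I * G) from fun G I => mul_assoc _ _ _,
        Units.inv_mul, mul_one, Units.mul_right_inj] at h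
      exact h ▸ hk
  have key : ∀ M : Subgroup (GL (Fin n) F), N ⊓ SL ≤ M → ¬ M ≤ N → SL ≤ M := by
    intro M hNM hMN
    have hM : ContainsSL K (M.map e.toMonoidHom) := fun u hu hd => by
      refine ⟨e.symm u, hNM ⟨hlin u hu, ?_⟩, e.apply_symm_apply u⟩
      show GeneralLinearGroup.det (e.symm u) = 1
      refine Units.ext ?_
      rw [GeneralLinearGroup.val_det_apply, ← hdet, e.apply_symm_apply, hd]
      rfl
    obtain ⟨g, hg, k, hk, hgk⟩ : ∃ g ∈ M, ∃ k ∈ K, (g : Matrix (Fin n) (Fin n) F) * k *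
        ((g⁻¹ : GL (Fin n) F) : Matrix (Fin n) (Fin n) F) ∉ K := by
      obtain ⟨g, hg, hgN⟩ := SetLike.not_le_iff_exists.1 hMN
      by_contra hc
      push Not at hc
      refine hgN fun k => ⟨hc g hg k, fun h => ?_⟩
      have := hc g⁻¹ (M.inv_mem hg) _ h
      simpa [mul_assoc] using this
    have hne' : ∀ k' : K, ∃ x, (e g : Module.End F (Fin n → F))
        ((⟨k, hk⟩ : K) • (((e g)⁻¹ : (Module.End F (Fin n → F))ˣ) : Module.End F (Fin n → F)) x) ≠ k' • x := by
      intro k'
      by_contra hc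
      push Not at hc
      refine hgk ?_
      convert k'.2 using 1
      refine Matrix.ext_iff_mulVec.2 fun v => ?_
      have := hc v
      rw [← map_inv, he, he, hsmul, hsmul] at this
      simpa only [Matrix.mulVec_mulVec, mul_assoc] using this
    have hall := mn_transvection (F := F) (K := K) (V := Fin n → F) hM hr'
      (by rw [hK.finrank_eq, Module.finrank_fin_fun]; exact hlt) (Subgroup.mem_map_of_mem _ hg) hne'
    intro A hA
    let A' : SpecialLinearGroup (Fin n) F :=
      ⟨A, by simpa using congrArg Units.val (MonoidHom.mem_ker.1 hA)⟩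
    have htr : SpecialLinearGroup.toGL A' ∈ M := by
      refine Cfsg.Agent.Linear.transvection_induction (P := fun B => SpecialLinearGroup.toGL B ∈ M)
        (by simp) (fun i j hij c => ?_) (fun B C hB hC => by rw [map_mul]; exact M.mul_mem hB hC) A'
      obtain ⟨-, u, ⟨t, ht, rfl⟩, hu⟩ := hall (Pi.single i 1) (c • LinearMap.proj j) (by simp [hij.symm])
      suffices SpecialLinearGroup.toGL (SpecialLinearGroup.transvection hij c) = t by rw [this]; exact ht
      refine Units.ext (Matrix.ext_iff_mulVec.2 fun v => ?_)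
      have hv := (LinearMap.congr_fun hu v).symm
      rw [LinearMap.add_apply, Module.End.one_apply] at hv
      simp only [MulEquiv.coe_toMonoidHom, he] at hv
      rw [← hv, SpecialLinearGroup.coe_GL_coe_matrix, SpecialLinearGroup.transvection_coe, Matrix.add_mulVec,
        Matrix.one_mulVec, Matrix.single_mulVec_eq]
      simp
    convert htr using 1
    exact Units.ext rfl
  obtain ⟨k, hk, hk1⟩ : ∃ k ∈ K, k ∉ (⊥ : Subalgebra F (Matrix (Fin n) (Fin n) F)) := by
    by_contra hc
    push Not at hc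
    have h1 : K = ⊥ := le_antisymm hc bot_le
    have := hK.finrank_eq
    rw [h1, Subalgebra.finrank_bot] at this
    exact hr.one_lt.ne this
  obtain ⟨t, htSL, -, htN⟩ := exists_not_normalizing (⊥ : Subalgebra F (Matrix (Fin n) (Fin n) F)) K bot_le
    (fun x hx hx0 => by
      obtain ⟨c, rfl⟩ := Algebra.mem_bot.1 hx
      exact ⟨algebraMap F _ c⁻¹, Algebra.mem_bot.2 ⟨_, rfl⟩, by
        rw [← map_mul, mul_inv_cancel₀ (fun h => hx0 (by rw [h, map_zero])), map_one]⟩) hK hlt hk hk1
  constructor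
  · refine ⟨fun h => htN (by show t ∈ N; rw [h]; exact Subgroup.mem_top t), fun M hM => ?_⟩
    have hSLM : SL ≤ M := key M (le_trans inf_le_left hM.le) hM.not_ge
    rw [eq_top_iff]
    intro g _
    obtain ⟨w, hw⟩ : ∃ w : Fin n → F, w ≠ 0 := exists_ne 0
    obtain ⟨f, hfw, -⟩ := exists_dual (K := K) ∅ (x := w) (by simpa using hw)
    obtain ⟨u, hu, hud⟩ := exists_linear_det_eq (F := F) (K := K) hfw (GeneralLinearGroup.det g)
    have h1 : (e.symm u)⁻¹ * g ∈ SL := by
      show GeneralLinearGroup.det _ = 1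
      rw [map_mul, map_inv, inv_mul_eq_one]
      refine Units.ext ?_
      rw [GeneralLinearGroup.val_det_apply (e.symm u), ← hdet, e.apply_symm_apply, hud]
    have := M.mul_mem (hM.le (hlin u hu)) (hSLM h1)
    rwa [mul_inv_cancel_left] at this
  · refine ⟨lt_of_le_of_ne inf_le_right fun h => htN ((h.symm ▸ htSL : t ∈ N ⊓ SL).1), fun M h1 h2 => ?_⟩
    by_cases hMN : M ≤ N
    · exact Or.inl (le_antisymm (le_inf hMN h2) h1)
    · exact Or.inr (le_antisymm h2 (key M h1 hMN))

end Cfsg.Agent.S5886
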