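import Cfsg.Statements.S5650
import Cfsg.Agent.Symplectic.RationalClosure
import Mathlib

set_option autoImplicit false
open Cfsg

namespace Cfsg.Agent.S5650

open scoped MatrixGroups Matrix
open Matrix Cfsg.Agent.H95 Cfsg.Agent.Symplectic

section coords

variable {ι : Type} [Fintype ι] [DecidableEq ι] {F : Type*} [Field F] (F₀ : Subfield F)
  (P : GL ι F)

/-- the rational points of the structure -/
def V0 : AddSubgroup (ι → F) where
  carrier := {v | ∀ i, (((P⁻¹ : GL ι F) : Matrix ι ι F) *ᵥ v) i ∈ F₀}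
  add_mem' {a b} ha hb i := by rw [mulVec_add]; exact F₀.add_mem (ha i) (hb i)
  zero_mem' i := by rw [mulVec_zero]; exact F₀.zero_mem
  neg_mem' {a} ha i := by rw [mulVec_neg]; exact F₀.neg_mem (ha i)

theorem mem_V0 {v : ι → F} :
    v ∈ V0 F₀ P ↔ ∀ i, (((P⁻¹ : GL ι F) : Matrix ι ι F) *ᵥ v) i ∈ F₀ := Iff.rfl

theorem col_mem (j : ι) : (P : Matrix ι ι F) *ᵥ Pi.single j 1 ∈ V0 F₀ P := fun i => by
  rw [inv_mulVec_mulVec]
  rcases eq_or_ne i j with rfl | h
  · simpa using F₀.one_mem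
  · simpa [Pi.single_eq_of_ne h] using F₀.zero_mem

theorem coe_mulVec_rat {N : Matrix ι ι F} (hN : ∀ i j, N i j ∈ F₀) {u : ι → F}
    (hu : ∀ i, u i ∈ F₀) (i : ι) : (N *ᵥ u) i ∈ F₀ :=
  F₀.sum_mem fun j _ => F₀.mul_mem (hN i j) (hu j)

theorem mem_subfieldSubgroup_of {g : GL ι F} {c : F} (hc : c ≠ 0)
    (h : ∀ v ∈ V0 F₀ P, c⁻¹ • ((g : Matrix ι ι F) *ᵥ v) ∈ V0 F₀ P) :
    g ∈ Geo.subfieldSubgroup F₀ P := by
  set x : GL ι F := P⁻¹ * g * P with hx
  have hN : ∀ i j, c⁻¹ * (x : Matrix ι ι F) i j ∈ F₀ := by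
    intro i j
    have := h _ (col_mem F₀ P j) i
    rw [mulVec_smul, ← mul_mulVec, ← mul_mulVec, ← hx] at this
    simpa [mulVec_single_one] using this
  set N : Matrix ι ι F₀ := Matrix.of fun i j => ⟨_, hN i j⟩ with hNdef
  have hmap : N.map F₀.subtype = c⁻¹ • (x : Matrix ι ι F) := by ext i j; simp [hNdef]
  have hdet : N.det ≠ 0 := by
    intro h0
    have := congrArg F₀.subtype h0
    rw [RingHom.map_det, RingHom.mapMatrix_apply, hmap, det_smul, map_zero] at this
    exact mul_ne_zero (pow_ne_zero _ (inv_ne_zero hc))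
      ((Matrix.isUnit_iff_isUnit_det _).1 x.isUnit).ne_zero this
  refine Subgroup.mem_map.2 ⟨x, ?_, by rw [hx]; simp [mul_assoc]⟩
  have : x = GeneralLinearGroup.map (F₀.subtype : F₀ →+* F)
      (GeneralLinearGroup.mkOfDetNeZero N hdet) *
      Units.map (Matrix.scalar ι : F →+* Matrix ι ι F).toMonoidHom (Units.mk0 c hc) := by
    refine Units.ext ?_
    rw [Units.val_mul]
    change (x : Matrix ι ι F) = N.map F₀.subtype * Matrix.scalar ι c
    rw [hmap, ← smul_one_eq_diagonal c |>.trans (Matrix.scalar_apply (n := ι) c).symm,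
      mul_smul_comm, mul_one, smul_smul, mul_inv_cancel₀ hc, one_smul]
  rw [this]
  exact Subgroup.mul_mem_sup ⟨_, rfl⟩ ⟨_, rfl⟩

theorem scalar_of_mem {g : GL ι F} (hg : g ∈ Geo.subfieldSubgroup F₀ P) :
    ∃ c : F, c ≠ 0 ∧ ∀ v ∈ V0 F₀ P, c⁻¹ • ((g : Matrix ι ι F) *ᵥ v) ∈ V0 F₀ P := by
  obtain ⟨x, hx, rfl⟩ := Subgroup.mem_map.1 hg
  haveI : (Geo.scalars ι F).Normal := ⟨fun n hn y => by
    obtain ⟨c, hc⟩ := (Geo.mem_scalars_iff n).1 hn
    have : y * n * y⁻¹ = n := by
      rw [mul_inv_eq_iff_eq_mul]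
      exact Units.ext (by rw [Units.val_mul, Units.val_mul, hc]; simp)
    rwa [this]⟩
  obtain ⟨y, ⟨N, rfl⟩, z, hz, rfl⟩ := Subgroup.mem_sup_of_normal_right.1 hx
  obtain ⟨c, hc⟩ := (Geo.mem_scalars_iff z).1 hz
  refine ⟨c, c.ne_zero, fun v hv i => ?_⟩
  simp only [MulEquiv.coe_toMonoidHom, MulAut.conj_apply, mul_mulVec, hc, Matrix.smul_mulVec,
    one_mulVec, mulVec_smul, smul_smul, inv_mul_cancel₀ c.ne_zero, one_smul, inv_mulVec_mulVec]
  exact coe_mulVec_rat F₀ (fun i j => (N.val i j).2) hv i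

theorem mem_V0_smul {c : F} (hc : c ∈ F₀) {v : ι → F} (hv : v ∈ V0 F₀ P) :
    c • v ∈ V0 F₀ P := fun i => by
  rw [mulVec_smul]; exact F₀.mul_mem hc (hv i)

theorem ratForm_V0 {f : (ι → F) → (ι → F) → F} (hf : Geo.IsSymplecticForm f)
    (hP : ∀ u v : ι → F, (∀ i, u i ∈ F₀) → (∀ i, v i ∈ F₀) →
      f ((P : Matrix ι ι F) *ᵥ u) ((P : Matrix ι ι F) *ᵥ v) ∈ F₀) :
    RatForm f F₀ (V0 F₀ P) := by
  have hspan : Submodule.span F (V0 F₀ P : Set (ι → F)) = ⊤ := by
    rw [eq_top_iff]
    intro v _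
    have : v = ∑ j, (((P⁻¹ : GL ι F) : Matrix ι ι F) *ᵥ v) j • ((P : Matrix ι ι F) *ᵥ Pi.single j 1) := by
      simp only [← mulVec_smul]
      rw [← mulVec_sum, ← pi_eq_sum_univ', mulVec_inv_mulVec]
    rw [this]
    exact Submodule.sum_mem _ fun j _ => Submodule.smul_mem _ _ (Submodule.subset_span (col_mem F₀ P j))
  have rat : ∀ u ∈ V0 F₀ P, ∀ v ∈ V0 F₀ P, f u v ∈ F₀ := fun u hu v hv => by
    have := hP _ _ hu hv
    rwa [mulVec_inv_mulVec, mulVec_inv_mulVec] at this
  refine ⟨hf, fun c hc v hv => mem_V0_smul F₀ P hc hv, rat, fun x hx => ?_, hspan⟩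
  -- duality
  set e : ι → ι → F := fun j => (P : Matrix ι ι F) *ᵥ Pi.single j 1 with he
  let L : (ι → F₀) →ₗ[F₀] (ι → F₀) :=
    { toFun := fun u j => ⟨f ((P : Matrix ι ι F) *ᵥ fun i => (u i : F)) (e j),
        rat _ (fun i => by rw [inv_mulVec_mulVec]; exact (u i).2) _ (col_mem F₀ P j)⟩
      map_add' := fun a b => funext fun j => Subtype.ext (by
        change f ((P : Matrix ι ι F) *ᵥ fun i => ((a + b) i : F)) (e j) = _
        rw [show (fun i => ((a + b) i : F)) = (fun i => (a i : F)) + fun i => (b i : F) from rfl,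
          mulVec_add, f_add_left hf]
        rfl)
      map_smul' := fun r a => funext fun j => Subtype.ext (by
        change f ((P : Matrix ι ι F) *ᵥ fun i => ((r • a) i : F)) (e j) = _
        rw [show (fun i => ((r • a) i : F)) = (r : F) • fun i => (a i : F) from rfl,
          mulVec_smul, f_smul_left hf]
        rfl) }
  have key : ∀ y, (∀ j, f y (e j) = 0) → y = 0 := by
    intro y hy
    by_contra h0
    obtain ⟨z, hz⟩ := exists_f_eq_one hf h0
    have : ∀ z ∈ Submodule.span F (Set.range e), f y z = 0 := by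
      intro z hz
      induction hz using Submodule.span_induction with
      | mem z hz => obtain ⟨j, rfl⟩ := hz; exact hy j
      | zero => exact f_zero_right hf y
      | add a b _ _ ha hb => rw [f_add_right hf, ha, hb, add_zero]
      | smul c a _ ha => rw [f_smul_right hf, ha, mul_zero]
    refine one_ne_zero (hz.symm.trans (this z ?_))
    have hz' : z = ∑ j, (((P⁻¹ : GL ι F) : Matrix ι ι F) *ᵥ z) j • e j := by
      simp only [he, ← mulVec_smul]
      rw [← mulVec_sum, ← pi_eq_sum_univ', mulVec_inv_mulVec]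
    rw [hz']
    exact Submodule.sum_mem _ fun j _ => Submodule.smul_mem _ _ (Submodule.subset_span ⟨j, rfl⟩)
  have hinj : Function.Injective L := by
    rw [← LinearMap.ker_eq_bot, LinearMap.ker_eq_bot']
    intro u hu
    have := key _ fun j => congrArg (fun (t : F₀) => (t : F)) (congrFun hu j)
    have h0 : (fun i => (u i : F)) = 0 := by
      rw [← inv_mulVec_mulVec P fun i => (u i : F), this, mulVec_zero]
    exact funext fun i => Subtype.ext (congrFun h0 i)
  obtain ⟨u, hu⟩ := LinearMap.surjective_of_injective hinj fun j => ⟨_, hx _ (col_mem F₀ P j)⟩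
  have hxu : x = (P : Matrix ι ι F) *ᵥ fun i => (u i : F) := by
    rw [← sub_eq_zero]
    refine key _ fun j => ?_
    have := congrArg Subtype.val (congrFun hu j)
    rw [f_sub_left hf, sub_eq_zero]
    exact this.symm
  intro i
  rw [hxu, inv_mulVec_mulVec]
  exact (u i).2

end coords

theorem smul_symp {ι : Type} [Fintype ι] [DecidableEq ι] {F : Type*} [Field F]
    {f : (ι → F) → (ι → F) → F} (hf : Geo.IsSymplecticForm f) {ζ : F} (hζ : ζ ≠ 0) :
    Geo.IsSymplecticForm fun u v => ζ * f u v := by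
  refine ⟨⟨fun x y v => ?_, fun c x v => ?_, fun v x y => ?_, fun c v x => ?_⟩,
    fun u v => ?_, fun v => ?_, fun v hv => ?_⟩
  · simp only [f_add_left hf, mul_add]
  · simp only [f_smul_left hf]; ring
  · simp only [f_add_right hf, mul_add]
  · simp only [f_smul_right hf]; ring
  · simp only [f_skew hf u v, mul_neg]
  · simp only [f_self hf, mul_zero]
  · obtain ⟨⟨x, hx⟩, y, hy⟩ := hf.nondegenerate v hv
    exact ⟨⟨x, mul_ne_zero hζ hx⟩, y, mul_ne_zero hζ hy⟩

theorem main {ι : Type} [Fintype ι] [DecidableEq ι] {F : Type*} [Field F] [Fintype F]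
    (hn : 6 ≤ Fintype.card ι) (F₀ : Subfield F) (r : ℕ) (hr : r.Prime)
    (hcard : Fintype.card F = Nat.card F₀ ^ r) (P : GL ι F) {f : (ι → F) → (ι → F) → F}
    (hf : Geo.IsSymplecticForm f)
    (hP : ∀ u v : ι → F, (∀ i, u i ∈ F₀) → (∀ i, v i ∈ F₀) →
      f ((P : Matrix ι ι F) *ᵥ u) ((P : Matrix ι ι F) *ᵥ v) ∈ F₀) :
    Geo.IsMaximalIn (isoGrp f) (Geo.subfieldSubgroup F₀ P ⊓ isoGrp f) := by
  set V₀ := V0 F₀ P
  have R : RatForm f F₀ V₀ := ratForm_V0 F₀ P hf hP
  haveI : Nonempty ι := Fintype.card_pos_iff.1 (by omega)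
  have hlt : Geo.subfieldSubgroup F₀ P ⊓ isoGrp f < isoGrp f := by
    refine lt_of_le_of_ne inf_le_right fun hEq => ?_
    have hall : ∀ a : F, a ∈ F₀ := by
      intro a
      obtain ⟨i⟩ := ‹Nonempty ι›
      set e : ι → F := (P : Matrix ι ι F) *ᵥ Pi.single i 1 with he
      have he0 : e ≠ 0 := by
        intro h0
        have := inv_mulVec_mulVec P (Pi.single i (1 : F))
        rw [← he, h0, mulVec_zero] at this
        simpa using congrFun this i
      have hev : e ∈ V₀ := col_mem F₀ P i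
      obtain ⟨e', he', hee⟩ := R.exists_partner hev he0
      have : rt hf e a ∈ Geo.subfieldSubgroup F₀ P :=
        ((hEq.symm ▸ rt_mem_iso hf e a : rt hf e a ∈ Geo.subfieldSubgroup F₀ P ⊓ isoGrp f)).1
      obtain ⟨c, hc, hcv⟩ := scalar_of_mem F₀ P this
      have h1 := hcv e hev
      rw [rt_fix hf (f_self hf e)] at h1
      have hcF : c⁻¹ ∈ F₀ := by
        have := h1 i
        rwa [mulVec_smul, he, inv_mulVec_mulVec, Pi.smul_apply, Pi.single_eq_same, smul_eq_mul,
          mul_one] at this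
      have h2 := mem_V0_smul F₀ P (F₀.inv_mem hcF) (hcv e' he')
      rw [inv_inv, smul_inv_smul₀ hc, rt_mulVec hf] at h2
      have h3 := V₀.sub_mem h2 he'
      rw [add_sub_cancel_left, f_skew hf, hee] at h3
      have := h3 i
      rw [mulVec_smul, he, inv_mulVec_mulVec, Pi.smul_apply, Pi.single_eq_same, smul_eq_mul,
        mul_one, mul_neg, mul_one] at this
      simpa using F₀.neg_mem this
    have h1 : Nat.card F₀ = Fintype.card F := by
      rw [← Nat.card_eq_fintype_card]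
      exact Nat.card_congr (Equiv.subtypeUnivEquiv hall)
    rw [h1] at hcard
    have h2 := Nat.pow_lt_pow_right (Fintype.one_lt_card (α := F)) hr.one_lt
    rw [pow_one, ← hcard] at h2
    exact lt_irrefl _ h2
  refine ⟨hlt, fun M hSM hMK => ?_⟩
  by_contra hne
  push Not at hne
  have hS : ∀ c ∈ F₀, InA R.symp V₀ M c := fun c hc v hv =>
    hSM ⟨mem_subfieldSubgroup_of F₀ P one_ne_zero fun x hx => by
      rw [inv_one, one_smul, rt_mulVec hf]
      exact V₀.add_mem hx (mem_V0_smul F₀ P (F₀.mul_mem hc (R.rat x hx v hv)) hv),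
      rt_mem_iso hf v c⟩
  by_cases hA : ∀ a, InA R.symp V₀ M a → a ∈ F₀
  · refine hne.1 (le_antisymm (fun g hg => ⟨?_, hMK hg⟩) hSM)
    have hgi := hMK hg
    have each : ∀ v ∈ V₀, v ≠ 0 →
        ∃ c : F, c ≠ 0 ∧ c ^ 2 ∈ F₀ ∧ c⁻¹ • ((g : Matrix ι ι F) *ᵥ v) ∈ V₀ := by
      intro v hv hv0
      have hw : rt R.symp ((g : Matrix ι ι F) *ᵥ v) 1 ∈ M := by
        rw [← conj_rt R.symp hgi]; exact conj_mem hg (hS 1 F₀.one_mem v hv)
      by_cases h2 : (2 : F) = 0
      · haveI : CharP F 2 := CharTwo.of_one_ne_zero_of_two_eq_zero one_ne_zero h2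
        exact ⟨1, one_ne_zero, by rw [one_pow]; exact F₀.one_mem, by
          rw [inv_one, one_smul]; exact R.two_rational hS hn hA hw⟩
      · refine R.odd_rational hS h2 hn hA (fun h0 => hv0 ?_) hw
        rw [← inv_mulVec_mulVec g v, h0, mulVec_zero]
    obtain ⟨j⟩ := ‹Nonempty ι›
    set v0 : ι → F := (P : Matrix ι ι F) *ᵥ Pi.single j 1 with hv0
    have hv0n : v0 ≠ 0 := by
      intro h0
      have := inv_mulVec_mulVec P (Pi.single j (1 : F))
      rw [← hv0, h0, mulVec_zero] at this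
      simpa using congrFun this j
    have hv0m : v0 ∈ V₀ := col_mem F₀ P j
    obtain ⟨c0, hc0, hc0s, hc0v⟩ := each v0 hv0m hv0n
    refine mem_subfieldSubgroup_of F₀ P hc0 ?_
    have near : ∀ v ∈ V₀, f v0 v ≠ 0 → c0⁻¹ • ((g : Matrix ι ι F) *ᵥ v) ∈ V₀ := by
      intro v hv hh
      obtain ⟨c, hc, hcs, hcv⟩ := each v hv (by rintro rfl; exact hh (f_zero_right hf v0))
      have h1 := R.rat _ hc0v _ hcv
      rw [f_smul_left hf, f_smul_right hf, mem_isoGrp.1 hgi] at h1
      have h2 : c / c0 ∈ F₀ := by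
        have := F₀.div_mem (F₀.div_mem (R.rat v0 hv0m v hv) h1) hc0s
        convert this using 1
        field_simp
      have := mem_V0_smul F₀ P h2 hcv
      rwa [smul_smul, show c / c0 * c⁻¹ = c0⁻¹ by field_simp] at this
    intro v hv
    by_cases hh : f v0 v = 0
    · obtain ⟨v1, hv1, h01⟩ := R.exists_partner hv0m hv0n
      have h1 := near _ (V₀.add_mem hv hv1)
        (by rw [f_add_right hf, hh, h01, zero_add]; exact one_ne_zero)
      have h2 := V₀.sub_mem h1 (near v1 hv1 (by rw [h01]; exact one_ne_zero))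
      rwa [← smul_sub, ← mulVec_sub, add_sub_cancel_right] at h2
    · exact near v hv hh
  · push Not at hA
    obtain ⟨a, ha, haF⟩ := hA
    refine hne.2 (le_antisymm hMK (R.iso_le_of_all fun b => ?_))
    let K : IntermediateField F₀ F := (R.paramField hS hn).toIntermediateField fun x => hS x x.2 
    have hfr : (Module.finrank F₀ F).Prime := by
      have h := Module.natCard_eq_pow_finrank (K := F₀) (V := F)
      rw [Nat.card_eq_fintype_card (α := F), hcard] at h
      rwa [← Nat.pow_right_injective Finite.one_lt_card h]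
    haveI := IntermediateField.isSimpleOrder_of_finrank_prime F₀ F hfr
    rcases IsSimpleOrder.eq_bot_or_eq_top K with h | h
    · have : a ∈ K := ha
      rw [h, IntermediateField.mem_bot] at this
      obtain ⟨x, rfl⟩ := this
      exact absurd x.2 haF
    · have : b ∈ K := h ▸ IntermediateField.mem_top
      exact this

/-- For a finite field F, a subfield F₀ with |F| = |F₀| ^ r for a prime r, and m ≥ 7, let P be an invertible matrix and ζ a non-zero scalar such that ζ times the standard alternating form takes values in F₀ on the F₀-span of the columns of P. Then the elements of Sp_2m(F) lying in the subfield group of P (the conjugate by P of the product of GL_2m(F₀) with the scalars) form a maximal subgroup of Sp_2m(F). -/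
theorem result {F : Type*} [Field F] [Fintype F] (m : ℕ) (hm : 7 ≤ m) (F₀ : Subfield F) (r : ℕ) (hr : r.Prime) (hcard : Fintype.card F = Nat.card F₀ ^ r) (P : Matrix.GeneralLinearGroup (Fin m ⊕ Fin m) F) (ζ : F) (hζ : ζ ≠ 0) (hP : Cfsg.Geo.IsFormRationalStructure (Cfsg.sympForm m F) F₀ ζ P) : Cfsg.Geo.IsMaximalIn (Cfsg.spGL m F) (Cfsg.Geo.subfieldSubgroup F₀ P ⊓ Cfsg.spGL m F) := by
  have hiso : Cfsg.spGL m F = isoGrp fun u v => ζ * Cfsg.sympForm m F u v := by
    ext g
    rw [spGL_eq_isoGrp, mem_isoGrp, mem_isoGrp]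
    exact forall₂_congr fun u v => (mul_right_inj' hζ).symm
  rw [hiso]
  exact main (by simp; omega) F₀ r hr hcard P (smul_symp (isSymplecticForm_sympForm m) hζ) hP

end Cfsg.Agent.S5650
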