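import Cfsg.Statements.S5658
import Cfsg.Agent.Symplectic.HermSubBlock
import Cfsg.Agent.Symplectic.HermSubGen
import Cfsg.Agent.S5650
import Mathlib

set_option autoImplicit false
open Cfsg

namespace Cfsg.Agent.S5658

open scoped MatrixGroups Matrix
open Matrix Cfsg.Agent.H95 Cfsg.Agent.Symplectic Cfsg.Agent.S5650

theorem main {ι : Type} [Fintype ι] [DecidableEq ι] {F : Type*} [Field F] [Finite F]
    (hn : 13 ≤ Fintype.card ι) {σ : F ≃+* F} {f : (ι → F) → (ι → F) → F} {F₀ : Subfield F}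
    {P : GL ι F} (H : HSub σ f F₀ (V0 F₀ P)) (G : Subgroup (GL ι F))
    (hG : G = isoGrp f ⊓ Geo.specialLinear ι F)
    (hgen : ∀ M : Subgroup (GL ι F), (∀ v, f v v = 0 → UtIn H.herm M v) → G ≤ M)
    (hbig : ∃ b : F, σ b = -b ∧ b ∉ F₀) :
    Geo.IsMaximalIn G (Geo.subfieldSubgroup F₀ P ⊓ G) := by
  have hf := H.herm
  refine ⟨lt_of_le_of_ne inf_le_right fun hEq => ?_, fun M hSM hMG => ?_⟩
  · obtain ⟨b, hb, hbF⟩ := hbig
    obtain ⟨v, hv, -⟩ := H.isProj_id.exists_iso H (by omega)
    obtain ⟨d, hd, -, dv', vd⟩ := H.partner hv.1 hv.2.1 hv.2.2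
    have hmem : ut hf v b ∈ Geo.subfieldSubgroup F₀ P ⊓ G :=
      hEq.symm ▸ (hG ▸ ⟨ut_mem_iso hf hv.2.2 hb, ut_mem_sl hf v b⟩ : ut hf v b ∈ G)
    obtain ⟨c, hc, hcv⟩ := scalar_of_mem F₀ P hmem.1
    have h1 := hcv v hv.1
    rw [ut_mulVec hf hv.2.2, hv.2.2, mul_zero, zero_smul, add_zero] at h1
    have hcF : c⁻¹ ∈ F₀ := by
      have := H.rat _ h1 d hd
      rwa [u_smul_left hf, vd, mul_one] at this
    have h2 := H.smul _ (F₀.inv_mem hcF) _ (hcv d hd)
    rw [inv_inv, smul_inv_smul₀ hc, ut_mulVec hf hv.2.2, dv', mul_one] at h2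
    have h3 := H.rat _ ((V0 F₀ P).sub_mem h2 hd) d hd
    rw [add_sub_cancel_left, u_smul_left hf, vd, mul_one] at h3
    exact hbF h3
  by_cases hM : M ≤ Geo.subfieldSubgroup F₀ P ⊓ G
  · exact Or.inl (le_antisymm hM hSM)
  obtain ⟨g, hgM, hgS⟩ := SetLike.not_le_iff_exists.1 hM
  have hO : H.Over M := ⟨hG ▸ hMG, fun k hk hkV => hSM
    ⟨mem_subfieldSubgroup_of F₀ P one_ne_zero fun v hv => by
      rw [_root_.inv_one, one_smul]; exact hkV v hv, hG ▸ hk⟩⟩
  obtain ⟨a, ha, haF⟩ := H.exists_new hO hn hgM fun ⟨c, hc, hcV⟩ =>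
    hgS ⟨mem_subfieldSubgroup_of F₀ P (inv_ne_zero hc) (by simpa using hcV), hMG hgM⟩
  exact Or.inr (le_antisymm hMG (hgen M
    (H.utIn_of_par hO (fun b hb => H.par_all hO (by omega) ha haF hb) (by omega))))

theorem fieldFacts {F : Type*} [Field F] [Fintype F] {q : ℕ} (hF : Fintype.card F = q ^ 2)
    (F₀ : Subfield F) {r : ℕ} (hr : r.Prime) (hro : Odd r)
    (hcard : Fintype.card F = Nat.card F₀ ^ r) {σ : F ≃+* F} (hσ : ∀ x, σ x = x ^ q) :
    (∀ x ∈ F₀, σ x ∈ F₀) ∧ (∃ e ∈ F₀, e + σ e = 1) ∧ (∃ s ∈ F₀, s ≠ 0 ∧ σ s = -s) ∧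
    (∀ x ∈ F₀, σ x = x → ∃ c ∈ F₀, c * σ c = x) ∧
    (∀ z : F, z + σ z ∈ F₀ → z * σ z ∈ F₀ → z ∈ F₀) ∧ (∀ c : F, c ^ 2 ∈ F₀ → c ∈ F₀) ∧
    (∀ K : Subfield F, F₀ ≤ K → K = F₀ ∨ K = ⊤) ∧ (∃ b : F, σ b = -b ∧ b ∉ F₀) := by
  classical
  letI := Fintype.ofFinite F₀
  set Q := Nat.card F₀ with hQdef
  have hQ : Q = Fintype.card F₀ := Nat.card_eq_fintype_card
  obtain ⟨p, e, hp, -, hchar, hqp⟩ := Unitary.exists_char_pow hF
  haveI : Fact p.Prime := ⟨hp⟩
  have hQ1 : 1 < Q := hQ ▸ Fintype.one_lt_card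
  obtain ⟨k, hk⟩ : ∃ k, Q = p ^ (2 * k) := by
    have hd : Q ∣ p ^ (e * 2) := by
      rw [pow_mul, ← hqp, ← hF, hcard]; exact dvd_pow_self Q hr.ne_zero
    obtain ⟨k, -, hk⟩ := (Nat.dvd_prime_pow hp).1 hd
    have heq : k * r = e * 2 := Nat.pow_right_injective hp.two_le (by
      show p ^ (k * r) = p ^ (e * 2)
      rw [pow_mul, pow_mul, ← hk, ← hqp, ← hcard, hF])
    obtain ⟨k', hk'⟩ : 2 ∣ k :=
      (Nat.Coprime.dvd_of_dvd_mul_right hro.coprime_two_left ⟨e, by rw [heq, mul_comm]⟩)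
    exact ⟨k', by rw [hk, hk']⟩
  set q0 := p ^ k with hq0
  have hQq : Q = q0 ^ 2 := by rw [hk, hq0, ← pow_mul, mul_comm]
  have hF0 : Fintype.card F₀ = q0 ^ 2 := hQ ▸ hQq
  have hq : q = q0 ^ r := by
    refine Nat.pow_left_injective two_ne_zero ?_
    show q ^ 2 = (q0 ^ r) ^ 2
    rw [← hF, hcard, hQq]; ring
  have τr : ∀ x : F, x ^ Q ^ r = x := fun x => by rw [← hcard]; exact FiniteField.pow_card x
  have hfix : ∀ x ∈ F₀, x ^ Q = x := fun x hx => by
    have := FiniteField.pow_card (⟨x, hx⟩ : F₀)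
    rw [← hQ] at this
    exact congrArg Subtype.val this
  have hmem : ∀ z : F, z ^ Q = z → z ∈ F₀ := by
    intro z hz
    by_contra hzn
    let p0 : Polynomial F := Polynomial.X ^ Q - Polynomial.X
    have hp0 : p0.natDegree = Q := FiniteField.X_pow_card_sub_X_natDegree_eq F hQ1
    have hne : p0 ≠ 0 := FiniteField.X_pow_card_sub_X_ne_zero F hQ1
    let s : Finset F := insert z ((Finset.univ : Finset F₀).image ((↑) : F₀ → F))
    have hs : s.card = Q + 1 := by
      rw [Finset.card_insert_of_notMem (by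
        simp only [Finset.mem_image, Finset.mem_univ, true_and, not_exists]
        rintro ⟨y, hy⟩ rfl
        exact hzn hy),
        Finset.card_image_of_injective _ Subtype.coe_injective, Finset.card_univ, hQ]
    have hsub : s.val ⊆ p0.roots := by
      intro x hx
      rw [Polynomial.mem_roots hne, Polynomial.IsRoot.def]
      simp only [p0, Polynomial.eval_sub, Polynomial.eval_pow, Polynomial.eval_X, sub_eq_zero]
      rcases Finset.mem_insert.1 hx with rfl | hx
      · exact hz
      · obtain ⟨y, -, rfl⟩ := Finset.mem_image.1 hx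
        exact hfix _ y.2
    have := Polynomial.card_le_degree_of_subset_roots hsub
    omega
  have hσ0 : ∀ x : F₀, σ (x : F) = ((x ^ q0 : F₀) : F) := by
    intro x
    rw [hσ, hq]
    obtain ⟨m, hm⟩ := hro
    rw [hm, pow_succ, pow_mul (x : F), pow_mul q0 2 m, ← hQq]
    have : ∀ i : ℕ, (x : F) ^ Q ^ i = x := fun i => by
      induction i with
      | zero => simp
      | succ i ih => rw [pow_succ, pow_mul, ih, hfix _ x.2]
    rw [this]
    push_cast
    rfl
  have stable : ∀ x ∈ F₀, σ x ∈ F₀ := fun x hx => by rw [hσ0 ⟨x, hx⟩]; exact SetLike.coe_mem _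
  obtain ⟨e0, he0⟩ := Unitary.exists_trace_eq hF0 (one_pow q0 : (1 : F₀) ^ q0 = 1)
  obtain ⟨s0, hs0, hs1⟩ := Unitary.exists_skew hF0
  have inv : ∀ x, σ (σ x) = x := fun x => by rw [hσ, hσ, Unitary.pow_q_q hF]
  have hss : σ (s0 : F) = -s0 := by rw [hσ0, hs1]; push_cast; rfl
  have he : (e0 : F) + σ (e0 : F) = 1 := by rw [hσ0]; exact congrArg Subtype.val he0
  have add_pow : ∀ x y : F, (x + y) ^ Q = x ^ Q + y ^ Q := fun x y => by
    rw [hk]; exact add_pow_char_pow x y p (2 * k)
  refine ⟨stable, ⟨_, e0.2, he⟩, ⟨_, s0.2, fun h => hs0 (Subtype.ext h), hss⟩, ?_, ?_, ?_, ?_, ?_⟩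
  · intro x hx hxf
    obtain ⟨c, hc⟩ := Unitary.exists_norm_eq hF0 (a := (⟨x, hx⟩ : F₀))
      (Subtype.ext (by rw [← hσ0]; exact hxf))
    exact ⟨c, c.2, by rw [hσ0]; exact congrArg Subtype.val hc⟩
  · intro z hT hN
    have key : (z ^ Q - z) * (z ^ Q - σ z) = 0 := by
      have h1 := add_pow z (σ z)
      rw [hfix _ hT] at h1
      have h2 := mul_pow z (σ z) Q
      rw [hfix _ hN] at h2
      linear_combination -(z ^ Q) * h1 + h2
    rcases mul_eq_zero.1 key with h | h
    · exact hmem z (sub_eq_zero.1 h)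
    · rw [sub_eq_zero] at h
      have it : ∀ i : ℕ, z ^ Q ^ i = (⇑σ)^[i] z := fun i => by
        induction i with
        | zero => simp
        | succ i ih =>
          rw [pow_succ', pow_mul, h, ← map_pow, ih, Function.iterate_succ_apply']
      obtain ⟨m, hm⟩ := hro
      have h2 := it r
      rw [τr, hm, show 2 * m + 1 = (2 * m).succ from rfl, Function.iterate_succ_apply',
        Function.iterate_mul, show (⇑σ)^[2] = id from funext inv, Function.iterate_id, id] at h2
      exact hmem z (h.trans h2.symm)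
  · intro c hc
    have h1 : (c ^ Q - c) * (c ^ Q + c) = 0 := by
      have := hfix _ hc
      rw [← pow_mul, mul_comm, pow_mul] at this
      linear_combination this
    rcases mul_eq_zero.1 h1 with h | h
    · exact hmem c (sub_eq_zero.1 h)
    · rw [add_eq_zero_iff_eq_neg] at h
      refine hmem c ?_
      by_cases h2 : ringChar F₀ = 2
      · haveI := ringChar.of_eq h2
        have h2' : ((2 : ℕ) : F₀) = 0 := CharP.cast_eq_zero F₀ 2
        have h2F : (2 : F) = 0 := by
          have := congrArg F₀.subtype h2'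
          rwa [map_natCast, map_zero, Nat.cast_ofNat] at this
        rw [h]; linear_combination -c * h2F
      · have hQ2 : Odd Q := by
          rw [hQ]; exact Nat.odd_iff.2 (FiniteField.odd_card_of_char_ne_two h2)
        have it : ∀ i : ℕ, c ^ Q ^ i = (-1) ^ i * c := fun i => by
          induction i with
          | zero => simp
          | succ i ih =>
            rw [pow_succ, pow_mul, ih, mul_pow, h, ← pow_mul, mul_comm i, pow_mul,
              hQ2.neg_one_pow, pow_succ]
            ring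
        have h3 := it r
        rw [τr, hro.neg_one_pow, neg_one_mul] at h3
        exact h.trans h3.symm
  · intro K hK
    have hfr : (Module.finrank F₀ F).Prime := by
      have h := Module.natCard_eq_pow_finrank (K := F₀) (V := F)
      rw [Nat.card_eq_fintype_card (α := F), hcard] at h
      rwa [← Nat.pow_right_injective hQ1 h]
    haveI := IntermediateField.isSimpleOrder_of_finrank_prime F₀ F hfr
    let K' : IntermediateField F₀ F := K.toIntermediateField fun x => hK x.2
    rcases IsSimpleOrder.eq_bot_or_eq_top K' with h | h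
    · left
      refine le_antisymm (fun x hx => ?_) hK
      have : x ∈ K' := hx
      rw [h, IntermediateField.mem_bot] at this
      obtain ⟨y, rfl⟩ := this
      exact y.2
    · right
      rw [eq_top_iff]
      intro x _
      have : x ∈ K' := h ▸ IntermediateField.mem_top
      exact this
  · by_contra hcon
    push Not at hcon
    have hall : ∀ x : F, x ∈ F₀ := by
      intro x
      have hs : (s0 : F) ≠ 0 := fun h => hs0 (Subtype.ext h)
      have htr : ∀ y : F, y + σ y ∈ F₀ := fun y => by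
        have := hcon ((s0 : F) * (y + σ y)) (by rw [map_mul, map_add, inv, hss]; ring)
        simpa [hs] using F₀.div_mem this s0.2
      have hd : x - σ x ∈ F₀ := hcon _ (by rw [map_sub, inv]; ring)
      have : x = σ (e0 : F) * (x - σ x) + (σ (e0 : F) * σ x + e0 * x) := by
        linear_combination -x * he
      rw [this]
      refine F₀.add_mem (F₀.mul_mem (stable _ e0.2) hd) ?_
      have := htr ((e0 : F) * x)
      rwa [map_mul, add_comm] at this
    have h1 : Q = Fintype.card F := by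
      rw [hQdef, ← Nat.card_eq_fintype_card]
      exact Nat.card_congr (Equiv.subtypeUnivEquiv hall)
    rw [← h1] at hcard
    have h2 := Nat.pow_lt_pow_right hQ1 hr.one_lt
    rw [pow_one, ← hcard] at h2
    exact lt_irrefl _ h2

/-- Let F be the field with q² elements, n ≥ 13, and F₀ a subfield with |F| = |F₀| ^ r for an odd prime r. Let P be an invertible matrix such that the standard unitary form takes values in F₀ on the F₀-span of the columns of P. Then the elements of SU_n(q) lying in the subfield group of P (the conjugate by P of the product of GL_n(F₀) with the scalars) form a maximal subgroup of SU_n(q). -/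
theorem result {F : Type*} [Field F] [Fintype F] (n q : ℕ) (hF : Fintype.card F = q ^ 2) (hn : 13 ≤ n) (F₀ : Subfield F) (r : ℕ) (hr : r.Prime) (hro : Odd r) (hcard : Fintype.card F = Nat.card F₀ ^ r) (P : Matrix.GeneralLinearGroup (Fin n) F) (hP : Cfsg.Geo.IsFormRationalStructure (Cfsg.hermForm n F q) F₀ 1 P) : Cfsg.Geo.IsMaximalIn (Cfsg.GU n F q ⊓ Cfsg.Geo.specialLinear (Fin n) F) (Cfsg.Geo.subfieldSubgroup F₀ P ⊓ (Cfsg.GU n F q ⊓ Cfsg.Geo.specialLinear (Fin n) F)) := by
  obtain ⟨σ, hσ, hf⟩ := isUnitaryForm_hermForm (n := n) hF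
  obtain ⟨h1, h2, h3, h4, h5, h6, h7, h8⟩ := fieldFacts hF F₀ hr hro hcard hσ
  have hspan : Submodule.span F (V0 F₀ P : Set (Fin n → F)) = ⊤ := by
    rw [eq_top_iff]
    intro v _
    have : v = ∑ j, (((P⁻¹ : GL (Fin n) F) : Matrix (Fin n) (Fin n) F) *ᵥ v) j •
        ((P : Matrix (Fin n) (Fin n) F) *ᵥ Pi.single j 1) := by
      simp only [← mulVec_smul]
      rw [← mulVec_sum, ← pi_eq_sum_univ', mulVec_inv_mulVec]
    rw [this]
    exact Submodule.sum_mem _ fun j _ =>
      Submodule.smul_mem _ _ (Submodule.subset_span (col_mem F₀ P j))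
  have H : HSub σ (Cfsg.hermForm n F q) F₀ (V0 F₀ P) :=
    { herm := hf
      smul := fun c hc v hv => mem_V0_smul F₀ P hc hv
      rat := fun u hu v hv => by
        have := hP _ _ hu hv
        rwa [mulVec_inv_mulVec, mulVec_inv_mulVec, one_mul] at this
      span := hspan
      stable := h1, tr := h2, skew := h3, norm := h4, quad := h5, sq := h6, simple := h7 }
  exact main (by simpa using hn) H _ rfl (fun M h => su_le_of_ut hF (by omega) hσ hf h) h8

end Cfsg.Agent.S5658
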