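import Cfsg.Statements.S1314
import Cfsg.Agent.Components.Basic
import Cfsg.Agent.Coprime.Basic
import Mathlib.Tactic.Group

set_option autoImplicit false
open Cfsg
open scoped commutatorElement

namespace Cfsg.Agent.S1314

/-- Let x be an involution of a group G and L a perfect subgroup with ⁅L, x L x⁻¹⁆ = 1. Then l ↦ l (x l x⁻¹) is a group homomorphism π from L to G whose kernel is central in L and whose image lies in C_G(x); and the commutator subgroup of C_{L ⊔ xLx⁻¹}(x) equals the image of π. -/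
theorem result {G : Type*} [Group G] [Finite G] (x : G) (hx : orderOf x = 2) (L : Subgroup G) (hperf : ⁅L, L⁆ = L) (hcomm : ⁅L, L.map (MulAut.conj x).toMonoidHom⁆ = ⊥) : ∃ π : ↥L →* G, (∀ l : ↥L, π l = (l : G) * (x * (l : G) * x⁻¹)) ∧ π.ker ≤ Subgroup.center ↥L ∧ π.range ≤ Subgroup.centralizer ({x} : Set G) ∧ ⁅(L ⊔ L.map (MulAut.conj x).toMonoidHom) ⊓ Subgroup.centralizer ({x} : Set G), (L ⊔ L.map (MulAut.conj x).toMonoidHom) ⊓ Subgroup.centralizer ({x} : Set G)⁆ = π.range := by
  set M := L.map (MulAut.conj x).toMonoidHom with hMdef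
  have hc : ∀ l ∈ L, ∀ m ∈ M, l * m = m * l := fun l hl m hm =>
    Components.commute_of_commutator_eq_bot hcomm hl hm
  have hxm : ∀ l ∈ L, x * l * x⁻¹ ∈ M := fun l hl => ⟨l, hl, rfl⟩
  have hx2 : x * x = 1 := by
    have := pow_orderOf_eq_one x; rwa [hx, pow_two] at this
  have hxinv : x⁻¹ = x := inv_eq_of_mul_eq_one_right hx2
  have hconj2 : ∀ l : G, x * (x * l * x⁻¹) * x⁻¹ = l := by
    intro l; rw [hxinv]; simp [← mul_assoc, hx2]; simp [mul_assoc, hx2]
  let π : ↥L →* G :=
    { toFun := fun l => (l : G) * (x * (l : G) * x⁻¹)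
      map_one' := by simp
      map_mul' := fun a b => by
        have h := hc b b.2 _ (hxm a a.2)
        calc ((a * b : ↥L) : G) * (x * ((a * b : ↥L) : G) * x⁻¹)
            = a * (b * (x * a * x⁻¹)) * (x * b * x⁻¹) := by
              rw [Subgroup.coe_mul]; group
          _ = _ := by rw [h]; group }
  have hπ : ∀ l : ↥L, π l = (l : G) * (x * (l : G) * x⁻¹) := fun _ => rfl
  refine ⟨π, hπ, ?_, ?_, ?_⟩
  · intro l hl
    rw [MonoidHom.mem_ker, hπ] at hl
    rw [Subgroup.mem_center_iff]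
    intro y
    apply Subtype.ext
    have h : (l : G) ∈ M := by
      rw [mul_eq_one_iff_eq_inv.mp hl]
      exact M.inv_mem (hxm l l.2)
    exact hc y y.2 l h
  · rintro _ ⟨l, rfl⟩
    rw [Subgroup.mem_centralizer_singleton_iff, hπ]
    have h : x * ((l : G) * (x * l * x⁻¹)) * x⁻¹ = l * (x * l * x⁻¹) := by
      calc x * ((l : G) * (x * l * x⁻¹)) * x⁻¹
          = (x * l * x⁻¹) * (x * (x * l * x⁻¹) * x⁻¹) := by group
        _ = _ := by rw [hconj2, hc l l.2 _ (hxm l l.2)]
    calc (l : G) * (x * l * x⁻¹) * x = x * ((l : G) * (x * l * x⁻¹)) * x⁻¹ * x := by rw [h]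
      _ = _ := by group
  · set W := (L ⊔ M) ⊓ Subgroup.centralizer ({x} : Set G) with hW
    have hrangeW : π.range ≤ W := by
      rintro _ ⟨l, rfl⟩
      refine ⟨mul_mem (Subgroup.mem_sup_left l.2) (Subgroup.mem_sup_right (hxm l l.2)), ?_⟩
      refine Subgroup.mem_centralizer_singleton_iff.mpr ?_
      rw [hπ]
      have h : x * ((l : G) * (x * l * x⁻¹)) * x⁻¹ = l * (x * l * x⁻¹) := by
        calc x * ((l : G) * (x * l * x⁻¹)) * x⁻¹
            = (x * l * x⁻¹) * (x * (x * l * x⁻¹) * x⁻¹) := by group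
          _ = _ := by rw [hconj2, hc l l.2 _ (hxm l l.2)]
      calc (l : G) * (x * l * x⁻¹) * x = x * ((l : G) * (x * l * x⁻¹)) * x⁻¹ * x := by rw [h]
        _ = _ := by group
    have hnorm : M ≤ Subgroup.normalizer (L : Set G) :=
      Components.le_normalizer_of_commutator_eq_bot (by rwa [Subgroup.commutator_comm])
    have hdec : ∀ g ∈ W, ∃ z ∈ L ⊓ M, ∃ c : ↥L, g = z * π c := by
      rintro g ⟨hg, hgx⟩
      obtain ⟨l, hl, m, hm, rfl⟩ := (Coprime.mem_sup_iff hnorm).mp hg
      obtain ⟨c, hcL, rfl⟩ := hm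
      change l * (x * c * x⁻¹) ∈ Subgroup.centralizer ({x} : Set G) at hgx
      show ∃ z ∈ L ⊓ M, ∃ c' : ↥L, l * (x * c * x⁻¹) = z * π c'
      replace hgx := Subgroup.mem_centralizer_singleton_iff.mp hgx
      have e : x * (l * (x * c * x⁻¹)) * x⁻¹ = l * (x * c * x⁻¹) := by
        rw [← hgx]; group
      have e2 : (x * l * x⁻¹) * c = l * (x * c * x⁻¹) := by
        rw [← e]
        calc (x * l * x⁻¹) * c = (x * l * x⁻¹) * (x * (x * c * x⁻¹) * x⁻¹) := by rw [hconj2]
          _ = _ := by group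
      have hz : c⁻¹ * l = (x * l * x⁻¹) * (x * c * x⁻¹)⁻¹ := by
        rw [eq_mul_inv_iff_mul_eq, mul_assoc, inv_mul_eq_iff_eq_mul, ← e2,
          hc c hcL _ (hxm l hl)]
      refine ⟨c⁻¹ * l, ⟨L.mul_mem (L.inv_mem hcL) hl,
        hz ▸ M.mul_mem (hxm l hl) (M.inv_mem (hxm c hcL))⟩, ⟨c, hcL⟩, ?_⟩
      have hzc : c⁻¹ * l * c = c * (c⁻¹ * l) := by
        have := hc c hcL _ (hz ▸ M.mul_mem (hxm l hl) (M.inv_mem (hxm c hcL)) : c⁻¹ * l ∈ M)
        exact this.symm
      rw [hπ]
      calc l * (x * c * x⁻¹) = c * (c⁻¹ * l) * (x * c * x⁻¹) := by group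
        _ = c⁻¹ * l * c * (x * c * x⁻¹) := by rw [hzc]
        _ = _ := by group
    have hz : ∀ z ∈ L ⊓ M, ∀ g ∈ L ⊔ M, Commute z g := by
      intro z hz g hg
      have h1 : L ⊔ M ≤ Subgroup.centralizer ({z} : Set G) := by
        refine sup_le (fun l hl => ?_) (fun m hm => ?_)
        · exact Subgroup.mem_centralizer_singleton_iff.mpr (hc l hl z hz.2)
        · exact Subgroup.mem_centralizer_singleton_iff.mpr (hc z hz.1 m hm).symm
      exact (Subgroup.mem_centralizer_singleton_iff.mp (h1 hg)).symm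
    refine le_antisymm (Subgroup.commutator_le.mpr fun g hg h hh => ?_) ?_
    · obtain ⟨z, hzm, c, rfl⟩ := hdec g hg
      obtain ⟨w, hwm, d, rfl⟩ := hdec h hh
      have e : ⁅z * π c, w * π d⁆ = ⁅π c, π d⁆ := by
        have a1 := hz z hzm _ (hrangeW ⟨c, rfl⟩).1
        have a2 := hz z hzm _ (hrangeW ⟨d, rfl⟩).1
        have a3 := hz w hwm _ (hrangeW ⟨c, rfl⟩).1
        have a4 := hz w hwm _ (hrangeW ⟨d, rfl⟩).1
        have a5 := hz z hzm w (Subgroup.mem_sup_left hwm.1)
        have b1 : ⁅z * π c, w * π d⁆ = ⁅π c, w * π d⁆ := by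
          rw [commutatorElement_mul_left_eq_conj_mul,
            commutatorElement_eq_one_iff_commute.mpr (a5.mul_right a2), mul_one]
          have h2 : Commute z ⁅π c, w * π d⁆ :=
            (((a1.mul_right (a5.mul_right a2)).mul_right a1.inv_right).mul_right
              (a5.mul_right a2).inv_right)
          rw [h2.eq, mul_inv_cancel_right]
        have b2 : ⁅π c, w * π d⁆ = ⁅π c, π d⁆ := by
          rw [commutatorElement_mul_right_eq_mul_conj,
            commutatorElement_eq_one_iff_commute.mpr a3.symm, one_mul]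
          have h2 : Commute w ⁅π c, π d⁆ :=
            (((a3.mul_right a4).mul_right a3.inv_right).mul_right a4.inv_right)
          rw [h2.eq, mul_inv_cancel_right]
        rw [b1, b2]
      rw [e, ← map_commutatorElement]
      exact ⟨_, rfl⟩
    · have htop : ⁅(⊤ : Subgroup ↥L), (⊤ : Subgroup ↥L)⁆ = (⊤ : Subgroup ↥L) := by
        apply Subgroup.map_injective L.subtype_injective
        rw [Subgroup.map_commutator, ← MonoidHom.range_eq_map, Subgroup.range_subtype]
        exact hperf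
      calc π.range = (⊤ : Subgroup ↥L).map π := MonoidHom.range_eq_map π
        _ = ⁅(⊤ : Subgroup ↥L).map π, (⊤ : Subgroup ↥L).map π⁆ := by
            rw [← Subgroup.map_commutator, htop]
        _ ≤ _ := Subgroup.commutator_mono
            ((MonoidHom.range_eq_map π).ge.trans hrangeW) ((MonoidHom.range_eq_map π).ge.trans hrangeW)

end Cfsg.Agent.S1314
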