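import Cfsg.Statements.S1349
import Cfsg.Agent.H41.InvolAction
-- import your own Cfsg.Agent.* helpers here

set_option autoImplicit false
open Cfsg

namespace Cfsg.Agent.S1349

/-- Let G be finite, L ≤ G solvable of odd order, and A an elementary abelian 2-subgroup of order 2^d (d ≥ 1) normalizing L with C_A(L) = 1. Then there are subgroups A_1, …, A_d of A of order 2 generating A and subgroups L_1, …, L_d of L such that each A_i ⊔ L_i is dihedral of order 2 n_i with n_i odd and at least 3, and A_i ⊔ L_i commutes elementwise with A_j ⊔ L_j for i ≠ j. -/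
theorem result {G : Type*} [Group G] [Finite G] (L A : Subgroup G) (hLs : Group.IsSolvable ↥L) (hLodd : Odd (Nat.card ↥L)) (hA : Cfsg.IsElementaryAbelian 2 A) (d : ℕ) (hd : 1 ≤ d) (hAd : Nat.card ↥A = 2 ^ d) (hAL : A ≤ Subgroup.normalizer (L : Set G)) (hfaith : A ⊓ Subgroup.centralizer (L : Set G) = ⊥) : ∃ (Ai : Fin d → Subgroup G) (Li : Fin d → Subgroup G) (n : Fin d → ℕ), (∀ i, Ai i ≤ A ∧ Nat.card ↥(Ai i) = 2 ∧ Li i ≤ L ∧ Odd (n i) ∧ 3 ≤ n i ∧ Nonempty (↥(Ai i ⊔ Li i) ≃* DihedralGroup (n i))) ∧ (⨆ i, Ai i) = A ∧ ∀ i j, i ≠ j → ∀ x ∈ Ai i ⊔ Li i, ∀ y ∈ Ai j ⊔ Li j, x * y = y * x := by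
  classical
  have hA2 : ∀ a ∈ A, a * a = 1 := fun a ha => by rw [← pow_two]; exact hA.2 a ha
  have hAc : ∀ a ∈ A, ∀ b ∈ A, a * b = b * a := fun a ha b hb =>
    congrArg Subtype.val (hA.1.is_comm.comm ⟨a, ha⟩ ⟨b, hb⟩)
  set F : Subgroup G := (Cfsg.fittingSubgroup L).map L.subtype with hF
  have hFL : F ≤ L := Subgroup.map_subtype_le _
  have hFnil : Group.IsNilpotent F := by
    haveI := Cores.fittingSubgroup_isNilpotent (G := L)
    exact Group.nilpotent_of_surjective (L.subtype.subgroupMap _) (L.subtype.subgroupMap_surjective _)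
  have hNF : Subgroup.normalizer (L : Set G) ≤ Subgroup.normalizer (F : Set G) := by
    intro g hg
    rw [H41.map_conj_eq_iff]
    have h1 := H41.map_conj_eq_iff.1 hg
    let e : L ≃* L := ((Subgroup.equivMapOfInjective L (MulAut.conj g).toMonoidHom
      (MulAut.conj g).injective).trans (MulEquiv.subgroupCongr h1))
    have h2 := Cores.fittingSubgroup_map_mulEquiv e
    rw [hF]
    conv_rhs => rw [← h2]
    rw [Subgroup.map_map, Subgroup.map_map]
    rfl
  have hCF : L ⊓ Subgroup.centralizer (F : Set G) ≤ F := by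
    rintro c ⟨hc, hc'⟩
    haveI := hLs
    refine ⟨⟨c, hc⟩, Cores.centralizer_fittingSubgroup_le ?_, rfl⟩
    rw [Subgroup.mem_centralizer_iff]
    intro y hy
    exact Subtype.ext (Subgroup.mem_centralizer_iff.1 hc' (y : G) ⟨y, hy, rfl⟩)
  have hfF : A ⊓ Subgroup.centralizer (F : Set G) = ⊥ := by
    rw [eq_bot_iff, ← hfaith]
    rintro a ⟨ha, ha'⟩
    exact ⟨ha, H41.involution_centralizes hLodd (Subgroup.le_normalizer.trans hNF) hCF (hA2 a ha)
      (hAL ha) ha'⟩
  obtain ⟨V, hVF, hVc, hFV, hAV, hCV⟩ :=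
    H41.exists_abelian_selfCentralizing hFnil (hAL.trans hNF) hA2
  have hodd : ∀ H : Subgroup G, H ≤ L → Odd (Nat.card H) := fun H h =>
    Odd.of_dvd_nat hLodd (Subgroup.card_dvd_of_le h)
  have hfV : A ⊓ Subgroup.centralizer (V : Set G) = ⊥ := by
    rw [eq_bot_iff, ← hfF]
    rintro a ⟨ha, ha'⟩
    exact ⟨ha, H41.involution_centralizes (hodd F hFL) hFV hCV.le (hA2 a ha) (hNF (hAL ha)) ha'⟩
  obtain ⟨n, a, x, hcn, hsup, hax, hoff⟩ := H41.exists_dual_basis hA2 hAc (H41.eigenSet A V)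
    (fun x hx => hx.2)
    (fun a ha ha1 => H41.eigenSet_faithful (hodd V (hVF.trans hFL)) hVc hA2 hAc hAV hfV ha ha1)
    (Nat.card A) A le_rfl le_rfl
  obtain rfl : n = d := Nat.pow_right_injective le_rfl (hcn.symm.trans hAd)
  have hxL : ∀ i, x i ∈ L := fun i => hFL (hVF (hax i).2.1.1)
  have hxodd : ∀ i, Odd (orderOf (x i)) := fun i => Odd.of_dvd_nat hLodd (by
    rw [← Subgroup.orderOf_mk (x i) (hxL i)]; exact orderOf_dvd_natCard _)
  have hx1 : ∀ i, x i ≠ 1 := fun i h => (hax i).2.2.2 (by rw [h]; group)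
  refine ⟨fun i => Subgroup.zpowers (a i), fun i => Subgroup.zpowers (x i),
    fun i => orderOf (x i), fun i => ⟨Subgroup.zpowers_le.2 (hax i).1, ?_,
      Subgroup.zpowers_le.2 (hxL i), hxodd i, ?_, ?_⟩, hsup, ?_⟩
  · have ha1 : a i ≠ 1 := fun h => (hax i).2.2.2 (by rw [h]; group)
    haveI := Fact.mk Nat.prime_two
    show Nat.card (Subgroup.zpowers (a i)) = 2
    rw [Nat.card_zpowers]
    exact orderOf_eq_prime (hA.2 _ (hax i).1) ha1
  · show 3 ≤ orderOf (x i)
    have h1 : orderOf (x i) ≠ 1 := fun h => hx1 i (orderOf_eq_one_iff.1 h)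
    obtain ⟨k, hk⟩ := hxodd i
    omega
  · exact H41.nonempty_dihedral_equiv (hA2 _ (hax i).1) (hax i).2.2.1 (hxodd i) (hx1 i)
  · intro i j hij p hp q hq
    have key : ∀ i j, i ≠ j → a i * x j = x j * a i := fun i j h => by
      have h' := hoff i j h
      exact mul_inv_eq_iff_eq_mul.1 h'
    have hle : Subgroup.zpowers (a i) ⊔ Subgroup.zpowers (x i) ≤
        Subgroup.centralizer ((Subgroup.closure {a j, x j} : Subgroup G) : Set G) := by
      rw [Subgroup.centralizer_closure]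
      refine sup_le (Subgroup.zpowers_le.2 ?_) (Subgroup.zpowers_le.2 ?_) <;>
        rw [Subgroup.mem_centralizer_iff] <;> rintro y (rfl | rfl)
      · exact hAc _ (hax j).1 _ (hax i).1
      · exact (key i j hij).symm
      · exact key j i (Ne.symm hij)
      · exact hVc _ (hax j).2.1.1 _ (hax i).2.1.1
    have hq' : q ∈ Subgroup.closure {a j, x j} :=
      (sup_le (Subgroup.zpowers_le.2 (Subgroup.subset_closure (Or.inl rfl)))
        (Subgroup.zpowers_le.2 (Subgroup.subset_closure (Or.inr rfl))) :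
        Subgroup.zpowers (a j) ⊔ Subgroup.zpowers (x j) ≤ _) hq
    exact (Subgroup.mem_centralizer_iff.1 (hle hp) q hq').symm

end Cfsg.Agent.S1349
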