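import Cfsg.Statements.S0296
import Cfsg.Agent.Orthogonal.POmega
import Cfsg.Agent.Orthogonal.StdForms
-- import your own Cfsg.Agent.* helpers here

set_option autoImplicit false
open Cfsg

namespace Cfsg.Agent.S0296

/-- PΩ^+_{2m}(q) is simple for m at least 4. -/
theorem result {F : Type*} [Field F] [Fintype F] (m : ℕ) (hm : 4 ≤ m) : IsSimpleGroup (Cfsg.POmega F (Cfsg.quadFormPlus m F)) := by
  exact Orthogonal.isSimpleGroup_POmega (Q := Orthogonal.formPlus F m)
    (Orthogonal.formPlus_nondeg F m) (by rw [Orthogonal.finrank_formPlus]; omega)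

end Cfsg.Agent.S0296
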