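import Cfsg.Statements.S1078
import Cfsg.Agent.H38.St.CentreData

set_option autoImplicit false
set_option maxRecDepth 100000
open Cfsg

namespace Cfsg.Agent.S1078

/-- For G₂, F₄, E₈ the presented group has trivial centre (the universal and adjoint groups coincide). -/
theorem result {K : Type*} [Field K] (D : Cfsg.Lie.ChevalleyDatum) (hD : D ∈ [Cfsg.Lie.chevG2, Cfsg.Lie.chevF4, Cfsg.Lie.chevE8]) :
    Subgroup.center (D.SteinbergGroup K) = ⊥ := by
  simp only [List.mem_cons, List.not_mem_nil, or_false] at hD
  rcases hD with rfl | rfl | rfl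
  · exact H38.St.center_trivial (H37.Chev.dataG2 K)
      (H38.St.relOK_of_check _ H37.Chev.typeG2.M (w := Chevalley.G2.tab.w) rfl (by decide +kernel))
      (H38.St.adj_of_check (by decide +kernel)) H38.St.latG2 H38.St.latG2_ok rfl
  · exact H38.St.center_trivial (H37.Chev.dataF4 K)
      (H38.St.relOK_of_check _ H37.Chev.typeF4.M (w := Chevalley.F4.tab.w) rfl (by decide +kernel))
      (H38.St.adj_of_check (by decide +kernel)) H38.St.latF4 H38.St.latF4_ok rfl
  · exact H38.St.center_trivial (H37.Chev.dataE8 K)
      (H38.St.relOK_of_check _ H37.Chev.typeE8.M (w := Chevalley.E8.tab.w) rfl (by decide +kernel))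
      (H38.St.adj_of_check (by decide +kernel)) H38.St.latE8 H38.St.latE8_ok rfl

end Cfsg.Agent.S1078
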