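import Cfsg.Statements.S0213
import Cfsg.Agent.H26.Invol

set_option autoImplicit false
open Cfsg

namespace Cfsg.Agent.S0213

/-- Thompson Order Formula, two-class case: if every involution of the finite group G is conjugate to exactly one of the non-conjugate involutions x₁, x₂, and nᵢ is the number of pairs (u, v) with u conjugate to x₁, v conjugate to x₂ and xᵢ in the cyclic group generated by uv, then |G| = |C(x₂)| n₁ + |C(x₁)| n₂. -/
theorem result {G : Type*} [Group G] [Finite G] (x₁ x₂ : G) (h₁ : orderOf x₁ = 2) (h₂ : orderOf x₂ = 2) (hnc : ¬ IsConj x₁ x₂) (hall : ∀ t : G, orderOf t = 2 → IsConj x₁ t ∨ IsConj x₂ t) : Nat.card G = Nat.card (Subgroup.centralizer ({x₂} : Set G)) * Nat.card {p : G × G // IsConj x₁ p.1 ∧ IsConj x₂ p.2 ∧ x₁ ∈ Subgroup.zpowers (p.1 * p.2)} + Nat.card (Subgroup.centralizer ({x₁} : Set G)) * Nat.card {p : G × G // IsConj x₁ p.1 ∧ IsConj x₂ p.2 ∧ x₂ ∈ Subgroup.zpowers (p.1 * p.2)} := by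
  classical
  have : Fintype G := Fintype.ofFinite G
  let N : G → ℕ := fun z =>
    Nat.card {p : G × G // IsConj x₁ p.1 ∧ IsConj x₂ p.2 ∧ z ∈ Subgroup.zpowers (p.1 * p.2)}
  show Nat.card G = _ * N x₁ + _ * N x₂
  have hinv : ∀ x z : G, IsConj x z → N z = N x := by
    intro x z hz
    obtain ⟨c, rfl⟩ := isConj_iff.1 hz
    refine (Nat.card_congr ?_).symm
    refine Equiv.subtypeEquiv (Equiv.prodCongr (MulAut.conj c).toEquiv (MulAut.conj c).toEquiv) ?_
    rintro ⟨u, v⟩
    show IsConj x₁ u ∧ IsConj x₂ v ∧ x ∈ Subgroup.zpowers (u * v) ↔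
      IsConj x₁ (c * u * c⁻¹) ∧ IsConj x₂ (c * v * c⁻¹) ∧
        c * x * c⁻¹ ∈ Subgroup.zpowers (c * u * c⁻¹ * (c * v * c⁻¹))
    have e : ∀ w : G, IsConj w (c * w * c⁻¹) := fun w => isConj_iff.2 ⟨c, rfl⟩
    have e3 : c * u * c⁻¹ * (c * v * c⁻¹) = c * (u * v) * c⁻¹ := by group
    refine and_congr ⟨fun h => h.trans (e u), fun h => h.trans (e u).symm⟩
      (and_congr ⟨fun h => h.trans (e v), fun h => h.trans (e v).symm⟩ ?_)
    rw [e3, Subgroup.mem_zpowers_iff, Subgroup.mem_zpowers_iff]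
    refine exists_congr fun k => ?_
    rw [conj_zpow]
    simp
  have hone : ∀ p : G × G, IsConj x₁ p.1 → IsConj x₂ p.2 →
      ∃! z, (IsConj x₁ z ∨ IsConj x₂ z) ∧ z ∈ Subgroup.zpowers (p.1 * p.2) := by
    intro p hp1 hp2
    have hu := H26.mul_self_of_orderOf_two ((H26.isConj_orderOf hp1).symm.trans h₁)
    have hv := H26.mul_self_of_orderOf_two ((H26.isConj_orderOf hp2).symm.trans h₂)
    have heven := H26.even_orderOf_of_not_isConj hu hv
      (fun h => hnc (hp1.trans (h.trans hp2.symm)))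
    obtain ⟨hz, -, -⟩ := H26.central_involution hu hv heven
    refine ⟨_, ⟨hall _ hz, pow_mem (Subgroup.mem_zpowers _) _⟩, ?_⟩
    rintro z ⟨hz', k, hk⟩
    simp only at hk
    have hz2 : orderOf z = 2 := hz'.elim (fun h => (H26.isConj_orderOf h).symm.trans h₁)
      (fun h => (H26.isConj_orderOf h).symm.trans h₂)
    obtain ⟨s, hs⟩ := heven
    have hpos : 0 < orderOf (p.1 * p.2) := orderOf_pos _
    have h1 : (p.1 * p.2) ^ (k + k) = (p.1 * p.2) ^ (0 : ℤ) := by
      rw [zpow_add, hk, H26.mul_self_of_orderOf_two hz2, zpow_zero]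
    rw [zpow_eq_zpow_iff_modEq, hs] at h1
    obtain ⟨j, hj⟩ := Int.modEq_iff_dvd.1 h1.symm
    rw [← hk, ← zpow_natCast, zpow_eq_zpow_iff_modEq]
    have hs2 : orderOf (p.1 * p.2) / 2 = s := by omega
    rw [hs2, hs]
    have hkj : k = (s : ℤ) * j := by push_cast at hj; linarith
    rcases Int.even_or_odd j with ⟨r, hr⟩ | ⟨r, hr⟩
    · exfalso
      apply H26.ne_one_of_orderOf_two hz2
      rw [← hk, ← orderOf_dvd_iff_zpow_eq_one, hs, hkj, hr]
      exact ⟨r, by push_cast; ring⟩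
    · exact Int.modEq_iff_dvd.2 ⟨-r, by rw [hkj, hr]; push_cast; ring⟩
  have hsplit : Nat.card {p : G × G // IsConj x₁ p.1 ∧ IsConj x₂ p.2} =
      ∑ z ∈ Finset.univ.filter (fun z => IsConj x₁ z ∨ IsConj x₂ z), N z := by
    simp only [N, Nat.card_eq_fintype_card, Fintype.card_subtype]
    simp only [Finset.card_filter]
    rw [Finset.sum_comm]
    refine Finset.sum_congr rfl fun p _ => ?_
    split_ifs with hp
    · obtain ⟨z, hz, huniq⟩ := hone p hp.1 hp.2
      rw [Finset.sum_eq_single z]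
      · rw [if_pos ⟨hp.1, hp.2, hz.2⟩]
      · intro w hw hne
        rw [if_neg fun h => hne (huniq w ⟨(Finset.mem_filter.1 hw).2, h.2.2⟩)]
      · intro h
        exact absurd (by simpa using hz.1) h
    · exact (Finset.sum_eq_zero fun z _ => if_neg fun h => hp ⟨h.1, h.2.1⟩).symm
  have hclass : ∀ x : G, ∑ z ∈ Finset.univ.filter (fun z => IsConj x z), N z =
      Nat.card {g : G // IsConj x g} * N x := by
    intro x
    rw [Finset.sum_congr rfl (fun z hz => hinv x z (Finset.mem_filter.1 hz).2), Finset.sum_const,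
      smul_eq_mul, Nat.card_eq_fintype_card, Fintype.card_subtype]
  rw [Finset.filter_or, Finset.sum_union (Finset.disjoint_filter.2 fun z _ ha hb =>
    hnc (ha.trans hb.symm)), hclass, hclass] at hsplit
  have hpairs : Nat.card {p : G × G // IsConj x₁ p.1 ∧ IsConj x₂ p.2} =
      Nat.card {g : G // IsConj x₁ g} * Nat.card {g : G // IsConj x₂ g} := by
    rw [← Nat.card_prod]
    exact Nat.card_congr (Equiv.subtypeProdEquivProd (p := IsConj x₁) (q := IsConj x₂))
  rw [hpairs] at hsplit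
  have e1 := H26.card_conj_mul_card_centralizer x₁
  have e2 := H26.card_conj_mul_card_centralizer x₂
  refine Nat.eq_of_mul_eq_mul_left (Nat.card_pos (α := G)) ?_
  set a₁ := Nat.card {g : G // IsConj x₁ g}
  set a₂ := Nat.card {g : G // IsConj x₂ g}
  set c₁ := Nat.card (Subgroup.centralizer ({x₁} : Set G))
  set c₂ := Nat.card (Subgroup.centralizer ({x₂} : Set G))
  calc Nat.card G * Nat.card G = (a₁ * c₁) * (a₂ * c₂) := by rw [e1, e2]
    _ = (a₁ * a₂) * (c₁ * c₂) := by ring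
    _ = (a₁ * N x₁ + a₂ * N x₂) * (c₁ * c₂) := by rw [hsplit]
    _ = (a₁ * c₁) * (c₂ * N x₁) + (a₂ * c₂) * (c₁ * N x₂) := by ring
    _ = Nat.card G * (c₂ * N x₁ + c₁ * N x₂) := by rw [e1, e2]; ring

end Cfsg.Agent.S0213
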