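import Cfsg.Statements.S2401
import Cfsg.Agent.H54.SteinbergPresentation
import Cfsg.Agent.Linear.Generation
-- import your own Cfsg.Agent.* helpers here

set_option autoImplicit false
open Cfsg
open scoped commutatorElement

namespace Cfsg.Agent.S2401

/-- The Steinberg presentation of `SL_n` over a finite field for `n ≥ 3`: the group generated by symbols `x_ij(t)` (`i ≠ j`, `t` in the field) subject to `x_ij(t) x_ij(u) = x_ij(t + u)` and, for `i ≠ l`, `x_ij(t) x_kl(u) x_ij(t)⁻¹ x_kl(u)⁻¹ = x_il(tu)` if `j = k` and `= 1` if `j ≠ k`, is isomorphic to `SL_n` by an isomorphism sending `x_ij(t)` to the elementary matrix `1 + t E_ij`. -/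
theorem result {K : Type*} [Field K] [Finite K] (n : ℕ) (hn : 3 ≤ n) :
    ∃ e : PresentedGroup
        ({g : FreeGroup ({ij : Fin n × Fin n // ij.1 ≠ ij.2} × K) | ∃ (a : {ij : Fin n × Fin n // ij.1 ≠ ij.2}) (t u : K),
            g = FreeGroup.of (a, t) * FreeGroup.of (a, u) * (FreeGroup.of (a, t + u))⁻¹} ∪
          {g | ∃ (a b : {ij : Fin n × Fin n // ij.1 ≠ ij.2}) (t u : K), a.1.1 ≠ b.1.2 ∧ a.1.2 ≠ b.1.1 ∧
            g = FreeGroup.of (a, t) * FreeGroup.of (b, u) * (FreeGroup.of (a, t))⁻¹ * (FreeGroup.of (b, u))⁻¹} ∪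
          {g | ∃ (a b : {ij : Fin n × Fin n // ij.1 ≠ ij.2}) (h : a.1.1 ≠ b.1.2) (t u : K), a.1.2 = b.1.1 ∧
            g = FreeGroup.of (a, t) * FreeGroup.of (b, u) * (FreeGroup.of (a, t))⁻¹ * (FreeGroup.of (b, u))⁻¹ *
              (FreeGroup.of (⟨(a.1.1, b.1.2), h⟩, t * u))⁻¹}) ≃* Matrix.SpecialLinearGroup (Fin n) K,
      ∀ (a : {ij : Fin n × Fin n // ij.1 ≠ ij.2}) (t : K), ((e (PresentedGroup.of (a, t)) : Matrix (Fin n) (Fin n) K)) = Matrix.transvection a.1.1 a.1.2 t := by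
  classical
  let f : {ij : Fin n × Fin n // ij.1 ≠ ij.2} × K → Matrix.SpecialLinearGroup (Fin n) K := fun p =>
    Matrix.SpecialLinearGroup.transvection p.1.2 p.2
  set rels : Set (FreeGroup ({ij : Fin n × Fin n // ij.1 ≠ ij.2} × K)) :=
    {g : FreeGroup ({ij : Fin n × Fin n // ij.1 ≠ ij.2} × K) | ∃ (a : {ij : Fin n × Fin n // ij.1 ≠ ij.2}) (t u : K),
            g = FreeGroup.of (a, t) * FreeGroup.of (a, u) * (FreeGroup.of (a, t + u))⁻¹} ∪
          {g | ∃ (a b : {ij : Fin n × Fin n // ij.1 ≠ ij.2}) (t u : K), a.1.1 ≠ b.1.2 ∧ a.1.2 ≠ b.1.1 ∧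
            g = FreeGroup.of (a, t) * FreeGroup.of (b, u) * (FreeGroup.of (a, t))⁻¹ * (FreeGroup.of (b, u))⁻¹} ∪
          {g | ∃ (a b : {ij : Fin n × Fin n // ij.1 ≠ ij.2}) (h : a.1.1 ≠ b.1.2) (t u : K), a.1.2 = b.1.1 ∧
            g = FreeGroup.of (a, t) * FreeGroup.of (b, u) * (FreeGroup.of (a, t))⁻¹ * (FreeGroup.of (b, u))⁻¹ *
              (FreeGroup.of (⟨(a.1.1, b.1.2), h⟩, t * u))⁻¹} with hrels
  have hfc : ∀ p, (f p : Matrix (Fin n) (Fin n) K) = Matrix.transvection p.1.1.1 p.1.1.2 p.2 := fun p => rfl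
  have hf : ∀ r ∈ rels, FreeGroup.lift f r = 1 := by
    rintro r ((⟨a, t, u, rfl⟩ | ⟨a, b, t, u, h1, h2, rfl⟩) | ⟨a, b, h, t, u, hab, rfl⟩) <;>
      simp only [map_mul, map_inv, FreeGroup.lift_apply_of]
    · rw [mul_inv_eq_one]
      exact Subtype.ext (Matrix.transvection_mul_transvection_same _ _ a.2 t u)
    · rw [mul_inv_eq_one, mul_inv_eq_iff_eq_mul]
      apply Subtype.ext
      rw [Matrix.SpecialLinearGroup.coe_mul, Matrix.SpecialLinearGroup.coe_mul, hfc, hfc]
      simp only [Matrix.transvection, add_mul, mul_add, one_mul, mul_one]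
      rw [Matrix.single_mul_single_of_ne _ _ _ _ h2, Matrix.single_mul_single_of_ne _ _ _ _ h1.symm]
      abel
    · obtain ⟨⟨i, j⟩, hij⟩ := a
      obtain ⟨⟨j', l⟩, hjl⟩ := b
      obtain rfl : j = j' := hab
      rw [mul_inv_eq_one, ← commutatorElement_def]
      exact Cfsg.Agent.Linear.commutator_transvections hij hjl h t u
  let φ := PresentedGroup.toGroup hf
  let x : Fin n → Fin n → K → PresentedGroup rels := fun i j t =>
    if h : i ≠ j then PresentedGroup.of (⟨(i, j), h⟩, t) else 1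
  have hx : ∀ i j (h : i ≠ j) t, x i j t = PresentedGroup.of (⟨(i, j), h⟩, t) := fun i j h t => dif_pos h
  have R : Cfsg.Agent.H54.Presentation.StRels x :=
    { diag := fun i t => dif_neg (by simp)
      add := fun i j t u => by
        rcases eq_or_ne i j with rfl | h
        · simp [x]
        rw [hx i j h, hx i j h, hx i j h]
        have := PresentedGroup.one_of_mem (rels := rels) (Or.inl (Or.inl ⟨⟨(i, j), h⟩, t, u, rfl⟩))
        simp only [map_mul, map_inv] at this
        exact mul_inv_eq_one.1 this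
      comm := fun i j k l t u h1 h2 => by
        rcases eq_or_ne i j with rfl | h
        · simp [x]
        rcases eq_or_ne k l with rfl | h'
        · simp [x]
        rw [hx i j h, hx k l h']
        have := PresentedGroup.one_of_mem (rels := rels)
          (Or.inl (Or.inr ⟨⟨(i, j), h⟩, ⟨(k, l), h'⟩, t, u, h1, h2, rfl⟩))
        simp only [map_mul, map_inv] at this
        exact mul_inv_eq_iff_eq_mul.1 (mul_inv_eq_one.1 this)
      mul := fun i j l t u hij hjl hil => by
        rw [hx i j hij, hx j l hjl, hx i l hil]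
        have := PresentedGroup.one_of_mem (rels := rels)
          (Or.inr ⟨⟨(i, j), hij⟩, ⟨(j, l), hjl⟩, hil, t, u, rfl, rfl⟩)
        simp only [map_mul, map_inv] at this
        exact mul_inv_eq_iff_eq_mul.1 (mul_inv_eq_iff_eq_mul.1 (mul_inv_eq_one.1 this)) }
  have hgen : Subgroup.closure {g | ∃ i j t, g = x i j t} = ⊤ := by
    rw [eq_top_iff, ← PresentedGroup.closure_range_of rels]
    refine Subgroup.closure_mono ?_
    rintro _ ⟨⟨⟨⟨i, j⟩, h⟩, t⟩, rfl⟩
    exact ⟨i, j, t, (hx i j h t).symm⟩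
  have hφ : ∀ i j, i ≠ j → ∀ t, (φ (x i j t) : Matrix (Fin n) (Fin n) K) = Matrix.transvection i j t := by
    intro i j h t
    rw [hx i j h, show φ (PresentedGroup.of (⟨(i, j), h⟩, t)) = f (⟨(i, j), h⟩, t) from PresentedGroup.toGroup.of hf]
    rfl
  have hinj := Cfsg.Agent.H54.Presentation.StRels.injective n hn R hgen φ hφ
  have hsurj : Function.Surjective φ := by
    rw [← MonoidHom.range_eq_top]
    exact Cfsg.Agent.Linear.eq_top_of_transvection_mem fun i j hij c =>
      ⟨PresentedGroup.of (⟨(i, j), hij⟩, c), PresentedGroup.toGroup.of hf⟩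
  exact ⟨MulEquiv.ofBijective φ ⟨hinj, hsurj⟩, fun a t =>
    (congrArg (fun g : Matrix.SpecialLinearGroup (Fin n) K => (g : Matrix (Fin n) (Fin n) K))
      (show φ (PresentedGroup.of (a, t)) = f (a, t) from PresentedGroup.toGroup.of hf)).trans (hfc (a, t))⟩

end Cfsg.Agent.S2401
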