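import Cfsg.Statements.S0958
import Cfsg.Agent.H35.BlockInduction
-- import your own Cfsg.Agent.* helpers here

set_option autoImplicit false
open Cfsg Cfsg.Agent.H35 Cfsg.Agent.BlockBasic

namespace Cfsg.Agent.S0958

/-- Let P be a p-subgroup of the finite group G and H a subgroup with P ⊔ C_G(P) ≤ H ≤ N_G(P); fix a maximal ideal M of the algebraic integers containing p. Then a block B of G is induced by some block of H if and only if some conjugate of P is contained in a defect group of B. -/
theorem result {G : Type*} [Group G] [Finite G] (p : ℕ) [Fact p.Prime] (M : Ideal Cfsg.AlgInt) (hM : Cfsg.IsPModular p M) (P H : Subgroup G) (hP : IsPGroup p P) (hPH : P ⊔ Subgroup.centralizer (P : Set G) ≤ H) (hHN : H ≤ Subgroup.normalizer (P : Set G)) (B : Set (Cfsg.IrrCharacter G)) (hB : Cfsg.IsPBlock M B) : (∃ b : Set (Cfsg.IrrCharacter H), Cfsg.IsInducedBlock M H b B) ↔ ∃ D : Subgroup G, Cfsg.IsDefectGroup p M B D ∧ ∃ x : G, P.map (MulAut.conj x).toMonoidHom ≤ D := by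
  classical
  cases nonempty_fintype G
  haveI := Fintype.ofFinite H
  have hP' : P ≤ H := le_sup_left.trans hPH
  have hCH : Subgroup.centralizer (P : Set G) ≤ H := le_sup_right.trans hPH
  constructor
  · rintro ⟨b, hb⟩
    haveI : (P.subgroupOf H).Normal :=
      (Subgroup.normal_subgroupOf_iff_le_normalizer hP').2 hHN
    obtain ⟨a, ha⟩ := exists_isDefectClass hM hb.1
    have hD0 : IsDefectGroup p M b (sylImage (default : Sylow p (Subgroup.centralizer ({a} : Set H)))) :=
      ⟨a, ha, default, rfl⟩
    have hle := le_defectGroup_of_normal hM hb.1 hD0 (P.subgroupOf H)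
      (hP.comap_of_injective _ H.subtype_injective)
    obtain ⟨E, hE, hEle⟩ := defectGroup_le_induced hM H hb hD0
    refine ⟨E, hE, 1, ?_⟩
    rintro _ ⟨q, hq, rfl⟩
    apply hEle
    exact ⟨⟨q, hP' hq⟩, hle (Subgroup.mem_subgroupOf.2 hq), by simp⟩
  · rintro ⟨D, hD, x, hx⟩
    obtain ⟨g, hg, S, rfl⟩ := hD
    -- a conjugate of the defect class centralizes `P`
    set c := x⁻¹ * g * x
    have hgc : IsConj g c := isConj_iff.2 ⟨x⁻¹, by simp [c]⟩
    have hcC : c ∈ Subgroup.centralizer (P : Set G) := by
      rw [Subgroup.mem_centralizer_iff]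
      intro q hq
      have h1 := Subgroup.mem_centralizer_singleton_iff.1
        (Subgroup.map_subtype_le _ (hx ⟨q, hq, rfl⟩))
      simp only [MonoidHom.coe_coe, MulEquiv.coe_toMonoidHom, MulAut.conj_apply] at h1
      calc q * c = x⁻¹ * (x * q * x⁻¹ * g) * x := by simp only [c]; group
        _ = x⁻¹ * (g * (x * q * x⁻¹)) * x := by rw [h1]
        _ = c * q := by simp only [c]; group
    set e := trunc P H (blockElem B) with he
    have hec : IsCentralElt e := isCentralElt_trunc hHN (isCentralElt_blockElem B)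
    have hei : IsIntElt M e := isIntElt_trunc hM P H (isIntElt_blockElem hM hB)
    have heid : ∀ h : H, MemLocalIdeal M ((e * e).coeff h - e.coeff h) := fun h => by
      have := trunc_mul (H := H) hM hP hCH (isCentralElt_blockElem B) (isIntElt_blockElem hM hB)
        (isCentralElt_blockElem B) (isIntElt_blockElem hM hB) h
      rw [blockElem_idem] at this
      simpa [he] using memLocalIdeal_neg this
    obtain ⟨ξ, hξ⟩ : ∃ ξ : IrrCharacter H, ¬ MemLocalIdeal M (omega (ξ : H → ℂ) e) := by
      by_contra h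
      push Not at h
      apply hg.2.1
      have := coeff_mem_of_omega_mem hM hec hei heid h ⟨c, hCH hcC⟩
      rwa [he, coeff_trunc_of_mem P H _ hcC, coeff_blockElem, blockCoeff_eq_of_isConj B hgc] at this
    obtain ⟨χ, hχ⟩ := exists_irr_trunc hM hP hCH hHN ξ
    have hχB : χ ∈ B := by
      by_contra hn
      apply hξ
      have h1 := hχ _ (isCentralElt_blockElem B) (isIntElt_blockElem hM hB)
      rwa [omega_blockElem, if_neg hn, sub_zero] at h1
    refine ⟨blockOf M (ξ : H → ℂ), (isInducedBlock_iff_brauer hM hP hP' hHN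
      (isPBlock_blockOf M ξ) hB).2 fun ξ' hξ' χ' hχ' z => ?_⟩
    rw [← omega_trunc_classSum, ← omega_classSum (Cfsg.Agent.CharBasic.IsIrr.isClassFunction χ'.2)]
    have h1 := omega_congr hM (Cfsg.Agent.CharBasic.IsIrr.isClassFunction ξ.2)
      (Cfsg.Agent.CharBasic.IsIrr.isClassFunction ξ'.2) hξ'
      (isCentralElt_trunc (z := classSum z) hHN (isCentralElt_classSum z))
      (isIntElt_trunc hM P H (isIntElt_classSum hM z))
    have h2 := hχ _ (isCentralElt_classSum z) (isIntElt_classSum hM z)
    have h3 := omega_congr hM (Cfsg.Agent.CharBasic.IsIrr.isClassFunction χ.2)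
      (Cfsg.Agent.CharBasic.IsIrr.isClassFunction χ'.2) (isPBlock_sameBlock hM hB hχB hχ')
      (isCentralElt_classSum z) (isIntElt_classSum hM z)
    convert memLocalIdeal_add hM (memLocalIdeal_add hM (memLocalIdeal_neg h1) h2) h3 using 1
    ring

end Cfsg.Agent.S0958
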