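import Cfsg.Statements.S5421
import Cfsg.Agent.H92.Basic
import Cfsg.Agent.H92.Odd

set_option autoImplicit false
open Cfsg

namespace Cfsg.Agent.S5421

/-- Let Q be an extraspecial 2-subgroup of the finite group G whose centralizer in G is its centre Z and which is normal in the centralizer of Z. If some involution b of Q outside Z has Z inside the largest normal 2-subgroup of the centralizer of b, then Q is a large extraspecial 2-subgroup of G. -/
theorem result {G : Type*} [Group G] [Finite G] (Q : Subgroup G) (hL1 : Cfsg.IsExtraspecial 2 ↥Q) (hL2 : Subgroup.centralizer (Q : Set G) = ((Subgroup.center ↥Q).map Q.subtype)) (hL3 : Subgroup.centralizer (((Subgroup.center ↥Q).map Q.subtype) : Set G) ≤ Subgroup.normalizer (Q : Set G)) (b : G) (hbQ : b ∈ Q) (hbZ : b ∉ ((Subgroup.center ↥Q).map Q.subtype)) (hb : orderOf b = 2) (hZ : ((Subgroup.center ↥Q).map Q.subtype) ≤ (Cfsg.pCore 2 ↥(Subgroup.centralizer ({b} : Set G))).map (Subgroup.centralizer ({b} : Set G)).subtype)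 : Cfsg.IsLargeExtraspecial Q := by
  haveI : Fact (Nat.Prime 2) := ⟨Nat.prime_two⟩
  refine ⟨hL1, hL2, hL3, fun K hK hQK => ?_⟩
  refine Cfsg.Agent.H92.eq_bot_of_centralizes_center hL1.1.1 hL2 hL3 hK hQK ?_
  set Z := (Subgroup.center ↥Q).map Q.subtype with hZdef
  have hZcard : Nat.card Z = 2 := by
    rw [hZdef, ← Nat.card_congr ((Subgroup.center ↥Q).equivMapOfInjective _
      Q.subtype_injective).toEquiv]
    exact hL1.2
  have hbz : b ∈ Q := hbQ
  intro k hk
  rw [Subgroup.mem_centralizer_iff]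
  intro z hzZ
  by_cases hz1 : z = 1
  · simp [hz1]
  have hzQ : z ∈ Q := Cfsg.Agent.H92.center_map_le hzZ
  have hzz : z * z = 1 := by
    have h : (⟨z, hzZ⟩ : Z) ^ Nat.card Z = 1 := pow_card_eq_one'
    rw [hZcard, pow_two] at h
    exact congrArg Subtype.val h
  have hzcent : ∀ q ∈ Q, q * z = z * q := by
    intro q hq
    obtain ⟨c, hc, rfl⟩ := hzZ
    exact congrArg Subtype.val (Subgroup.mem_center_iff.mp hc ⟨q, hq⟩)
  have hbb : b * b = 1 := by rw [← pow_two, ← hb, pow_orderOf_eq_one]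
  have norm : ∀ q ∈ Q, ∀ y ∈ K, q * y * q⁻¹ ∈ K := fun q hq y hy =>
    (Subgroup.mem_normalizer_iff.mp (hQK hq) y).mp hy
  have hb' : b⁻¹ = b := inv_eq_of_mul_eq_one_left hbb
  have hz' : z⁻¹ = z := inv_eq_of_mul_eq_one_left hzz
  have hbcomm : z * b = b * z := (hzcent b hbQ).symm
  -- `z` centralizes the fixed points of `b`
  have h1 : ∀ y ∈ K, b * y * b = y → z * y * z = y := by
    intro y hy hby
    have hyC : y ∈ Subgroup.centralizer ({b} : Set G) := by
      rw [Subgroup.mem_centralizer_singleton_iff]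
      conv_rhs => rw [← hby]
      rw [← mul_assoc, ← mul_assoc, hbb, one_mul]
    set C := Subgroup.centralizer ({b} : Set G) with hC
    obtain ⟨w₀, hz'N, hz'e⟩ := hZ hzZ
    have hN : IsPGroup 2 ((Cfsg.pCore 2 ↥C)) := Cfsg.Agent.H92.isPGroup_pCore 2
    haveI : (Cfsg.pCore 2 ↥C).Normal := Cfsg.pCore_normal 2 _
    have hodd : Odd (Nat.card (K.subgroupOf C)) := by
      refine hK.of_dvd_nat ?_
      refine Subgroup.card_dvd_of_injective
        ((C.subtype.comp (K.subgroupOf C).subtype).codRestrict K (fun x => x.2)) ?_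
      intro x y h
      exact Subtype.ext (Subtype.ext (congrArg (fun w : K => (w : G)) h :))
    have hnorm : w₀ ∈ Subgroup.normalizer ((K.subgroupOf C : Subgroup C) : Set C) := by
      rw [Subgroup.mem_normalizer_iff]
      intro w
      simp only [Subgroup.mem_subgroupOf, Subgroup.coe_mul, InvMemClass.coe_inv]
      rw [show (w₀ : G) = z from hz'e]
      exact Subgroup.mem_normalizer_iff.mp (hQK hzQ) _
    have h := congrArg Subtype.val (Cfsg.Agent.H92.commute_of_mem_two_normal hN hodd hz'N hnorm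
      (k := ⟨y, hyC⟩) (Subgroup.mem_subgroupOf.mpr hy))
    simp only [Subgroup.coe_mul, show (w₀ : G) = z from hz'e] at h
    rw [h, mul_assoc, hzz, mul_one]
  obtain ⟨x, hxQ, hx⟩ : ∃ x ∈ Q, x * b ≠ b * x := by
    by_contra h
    push Not at h
    exact hbZ ⟨⟨b, hbQ⟩, Subgroup.mem_center_iff.mpr (fun q => Subtype.ext (h q q.2)), rfl⟩
  have hxbx : x * b * x⁻¹ = b * z := by
    have hd : (⟨x, hxQ⟩ : Q) * ⟨b, hbQ⟩ * ⟨x, hxQ⟩⁻¹ * ⟨b, hbQ⟩⁻¹ ∈ Subgroup.center Q := by
      rw [← hL1.1.2.2]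
      exact Subgroup.commutator_mem_commutator (Subgroup.mem_top _) (Subgroup.mem_top _)
    have hmem : x * b * x⁻¹ * b⁻¹ ∈ Z := ⟨_, hd, rfl⟩
    have hne : x * b * x⁻¹ * b⁻¹ ≠ 1 := by
      intro h
      apply hx
      calc x * b = (x * b * x⁻¹ * b⁻¹) * (b * x) := by group
        _ = b * x := by rw [h, one_mul]
    have hall : ∀ w ∈ Z, w ≠ 1 → w = z := by
      obtain ⟨a, -, hu⟩ := (Nat.card_eq_two_iff' (⟨1, Z.one_mem⟩ : Z)).mp hZcard
      intro w hw hw1
      have e1 := hu ⟨w, hw⟩ (by simpa [Subtype.ext_iff] using hw1)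
      have e2 := hu ⟨z, hzZ⟩ (by simpa [Subtype.ext_iff] using hz1)
      exact congrArg Subtype.val (e1.trans e2.symm)
    have := hall _ hmem hne
    rw [mul_inv_eq_iff_eq_mul] at this
    rw [this, hzcent b hbQ]
  have h2 : ∀ y ∈ K, (b * z) * y * (b * z) = y → z * y * z = y := by
    intro y hy hby
    have hmem : x⁻¹ * y * x ∈ K := by simpa using norm x⁻¹ (Q.inv_mem hxQ) y hy
    have hfix : b * (x⁻¹ * y * x) * b = x⁻¹ * y * x := by
      rw [← hxbx] at hby
      calc b * (x⁻¹ * y * x) * b = x⁻¹ * ((x * b * x⁻¹) * y * (x * b * x⁻¹)) * x := by group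
        _ = _ := by rw [hby]
    have h := h1 _ hmem hfix
    have e1 : z * x⁻¹ = x⁻¹ * z := (hzcent _ (Q.inv_mem hxQ)).symm
    have e2 : x * z = z * x := hzcent _ hxQ
    calc z * y * z = x * (x⁻¹ * z) * y * (z * x) * x⁻¹ := by group
      _ = x * (z * x⁻¹) * y * (x * z) * x⁻¹ := by rw [e1, e2]
      _ = x * (z * (x⁻¹ * y * x) * z) * x⁻¹ := by group
      _ = y := by rw [h]; group
  have h := Cfsg.Agent.H92.commute_of_fours hK hbb hzz hbcomm.symm
    (fun y hy => by simpa [hb'] using norm b hbQ y hy)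
    (fun y hy => by simpa [hz'] using norm z hzQ y hy) h1 h2 k hk
  calc z * k = (z * k * z) * z := by rw [mul_assoc _ z z, hzz, mul_one]
    _ = k * z := by rw [h]

end Cfsg.Agent.S5421
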