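import Cfsg.Statements.S5422
import Cfsg.Agent.H92.Pair
import Cfsg.Agent.S5421

set_option autoImplicit false
open Cfsg

namespace Cfsg.Agent.S5422

/-- Let Q be an extraspecial 2-subgroup of the finite group G whose centralizer in G is its centre Z and which is normal in the centralizer of Z; suppose Q has width at least 2 (order 2^(2w+1) with w ≥ 2) and g is an element of G not normalizing Z with g Z g⁻¹ inside Q. Then Z lies inside g Q g⁻¹; writing V for the subgroup generated by Z and g Z g⁻¹ (a four-group), the normalizer of V induces on V its full automorphism group, that is, the centralizer of V has index 6 in the normalizer of V; and Q is a large extraspecial 2-subgroup of G. -/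
theorem result {G : Type*} [Group G] [Finite G] (Q : Subgroup G) (hL1 : Cfsg.IsExtraspecial 2 ↥Q) (hL2 : Subgroup.centralizer (Q : Set G) = ((Subgroup.center ↥Q).map Q.subtype)) (hL3 : Subgroup.centralizer (((Subgroup.center ↥Q).map Q.subtype) : Set G) ≤ Subgroup.normalizer (Q : Set G)) (w : ℕ) (hw : 2 ≤ w) (hcard : Nat.card ↥Q = 2 ^ (2 * w + 1)) (g : G) (hg : g ∉ Subgroup.normalizer (((Subgroup.center ↥Q).map Q.subtype) : Set G)) (hZg : (((Subgroup.center ↥Q).map Q.subtype)).map (MulAut.conj g).toMonoidHom ≤ Q) : ((Subgroup.center ↥Q).map Q.subtype) ≤ (Q).map (MulAut.conj g).toMonoidHom ∧ (Subgroup.centralizer ((((Subgroup.center ↥Q).map Q.subtype) ⊔ (((Subgroup.center ↥Q).map Q.subtype)).map (MulAut.conj g).toMonoidHom : Subgroup G) : Set G)).relIndex (Subgroup.normalizer ((((Subgroup.center ↥Q).map Q.subtype) ⊔ (((Subgroup.center ↥Q).map Q.subtype)).map (MulAut.conj g).toMonoidHom : Subgroup G) : Set G)) = 6 ∧ Cfsg.IsLargeExtraspecial Q := by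
  set Z := (Subgroup.center ↥Q).map Q.subtype with hZdef
  have hZ2 : Nat.card Z = 2 := Cfsg.Agent.H92.card_center_map hL1
  obtain ⟨⟨z, hzZ⟩, hz1, hu⟩ := (Nat.card_eq_two_iff' (⟨1, Z.one_mem⟩ : Z)).mp hZ2
  have hz1' : z ≠ 1 := fun e => hz1 (Subtype.ext e)
  have hZel : ∀ a ∈ Z, a = 1 ∨ a = z := by
    intro a ha
    by_cases ha1 : a = 1
    · exact Or.inl ha1
    · exact Or.inr (congrArg Subtype.val (hu ⟨a, ha⟩ (fun e => ha1 (congrArg Subtype.val e))))
  have hs : g * z * g⁻¹ ∈ Q := hZg ⟨z, hzZ, by simp⟩
  have hne : g * z * g⁻¹ ≠ z := by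
    intro e
    apply hg
    rw [Subgroup.mem_normalizer_iff]
    intro a
    constructor
    · intro ha
      rcases hZel a ha with e1 | e1 <;> rw [e1]
      · simpa using Z.one_mem
      · rw [e]; exact hzZ
    · intro ha
      rcases hZel _ ha with e' | e'
      · rw [conj_eq_one_iff] at e'; rw [e']; exact Z.one_mem
      · have : a = z := mul_left_cancel (mul_right_cancel (e'.trans e.symm))
        exact this ▸ hzZ
  have h32 : 32 ≤ Nat.card ↥Q := by
    rw [hcard, show (32 : ℕ) = 2 ^ 5 by norm_num]
    exact Nat.pow_le_pow_right (by norm_num) (by omega)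
  have h : Cfsg.Agent.H92.PairSetting Q z g := ⟨hL1, hL2, hL3, hzZ, hz1', hs, hne, h32⟩
  have hzR := h.z_mem_R
  refine ⟨?_, ?_, ?_⟩
  · intro a ha
    rcases hZel a ha with rfl | rfl
    · exact Subgroup.one_mem _
    · exact hzR
  · have hV : (Z ⊔ Z.map (MulAut.conj g).toMonoidHom : Subgroup G)
        = Subgroup.closure ({z, g * z * g⁻¹} : Set G) := by
      refine le_antisymm (sup_le ?_ ?_) ((Subgroup.closure_le _).mpr ?_)
      · intro a ha
        rcases hZel a ha with rfl | rfl
        · exact Subgroup.one_mem _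
        · exact Subgroup.subset_closure (by simp)
      · rintro a ⟨c, hc, rfl⟩
        rcases hZel c hc with rfl | rfl
        · simp
        · exact Subgroup.subset_closure (by simp)
      · rintro a (rfl | rfl)
        · exact Subgroup.mem_sup_left hzZ
        · exact Subgroup.mem_sup_right ⟨z, hzZ, by simp⟩
    rw [hV]
    exact h.relIndex_centralizer
  · have hsZ : g * z * g⁻¹ ∉ Z := by
      intro hm
      rcases hZel _ hm with e | e
      · exact h.s_ne_one e
      · exact hne e
    have hord : orderOf (g * z * g⁻¹) = 2 :=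
      orderOf_eq_prime (by rw [pow_two]; exact h.s_sq) h.s_ne_one
    refine Cfsg.Agent.S5421.result Q hL1 hL2 hL3 _ hs hsZ hord ?_
    set R := Q.map (MulAut.conj g).toMonoidHom with hR
    set C := Subgroup.centralizer ({g * z * g⁻¹} : Set G) with hC
    have hn : (R.subgroupOf C).Normal := by
      refine ⟨fun r hr c => ?_⟩
      exact h.R_norm (Subgroup.mem_centralizer_singleton_iff.mp c.2) hr
    have hle : R.subgroupOf C ≤ Cfsg.pCore 2 ↥C :=
      le_sSup ⟨hn, (hL1.1.1.map _).comap_subtype⟩
    intro a ha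
    rcases hZel a ha with rfl | rfl
    · exact Subgroup.one_mem _
    · exact ⟨⟨a, Subgroup.mem_centralizer_singleton_iff.mpr (h.z_comm hs).symm⟩, hle hzR, rfl⟩

end Cfsg.Agent.S5422
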