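import Cfsg.Statements.S5395
-- import your own Cfsg.Agent.* helpers here

set_option autoImplicit false
open Cfsg

namespace Cfsg.Agent.S5395

theorem sq_mem_frattini {P : Type*} [Group P] [Finite P] (hP : IsPGroup 2 P) (a : P) :
    a ^ 2 ∈ frattini P := by
  have : Fact (Nat.Prime 2) := ⟨Nat.prime_two⟩
  rw [frattini, Order.radical, Subgroup.mem_iInf]
  intro M
  rw [Subgroup.mem_iInf]
  intro hM
  have hnil : Group.IsNilpotent P := hP.isNilpotent
  have hn : M.Normal := Subgroup.NormalizerCondition.normal_of_coatom M
    Group.normalizerCondition_of_isNilpotent hM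
  have hidx : M.index = 2 := by
    obtain ⟨k, hk⟩ := (hP.to_quotient M).exists_card_eq
    rw [← Subgroup.index_eq_card] at hk
    rcases k with _ | _ | k
    · exact absurd (Subgroup.index_eq_one.mp (by simpa using hk)) hM.1
    · simpa using hk
    · exfalso
      obtain ⟨K, hK, -⟩ := Sylow.exists_subgroup_card_pow_succ (G := P ⧸ M) (p := 2)
        (n := 0) (by rw [← Subgroup.index_eq_card, hk]; exact pow_dvd_pow 2 (by omega))
        (H := ⊥) (by simp)
      have hlt : M < K.comap (QuotientGroup.mk' M) := by
        refine lt_of_le_of_ne (fun x hx => ?_) (fun h => ?_)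
        · rw [Subgroup.mem_comap, show QuotientGroup.mk' M x = 1 from
            (QuotientGroup.eq_one_iff x).mpr hx]
          exact K.one_mem
        · have : K = ⊥ := by
            have h2 := congrArg (Subgroup.map (QuotientGroup.mk' M)) h
            rw [Subgroup.map_comap_eq_self_of_surjective (QuotientGroup.mk'_surjective M),
              (Subgroup.map_eq_bot_iff _).mpr (by rw [QuotientGroup.ker_mk'])] at h2
            exact h2.symm
          rw [this, Subgroup.card_bot] at hK; norm_num at hK
      have h2 := congrArg (Subgroup.map (QuotientGroup.mk' M)) (hM.2 _ hlt)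
      rw [Subgroup.map_comap_eq_self_of_surjective (QuotientGroup.mk'_surjective M),
        Subgroup.map_top_of_surjective _ (QuotientGroup.mk'_surjective M)] at h2
      rw [h2, Subgroup.card_top, ← Subgroup.index_eq_card, hk] at hK
      have := Nat.pow_right_injective (le_refl 2) hK
      omega
  have := M.sq_mem_of_index_two hidx a
  exact this

/-- An elementary abelian 2-group has at most as many homomorphisms to a group of order 2
as elements. -/
theorem card_hom_le {V W : Type*} [CommGroup V] [Finite V] [Group W] (hV : ∀ v : V, v ^ 2 = 1)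
    (hW : Nat.card W = 2) : Nat.card (V →* W) ≤ Nat.card V := by
  classical
  have : Fact (Nat.Prime 2) := ⟨Nat.prime_two⟩
  let A := Additive V
  let m : Module (ZMod 2) A := AddCommGroup.zmodModule (fun v => hV v)
  let b := Module.finBasis (ZMod 2) A
  have : Finite W := Nat.finite_of_card_ne_zero (by omega)
  have : Fact (Nat.Prime 2) := ⟨Nat.prime_two⟩
  have hinj : Function.Injective (fun (f : V →* W) i => f (Additive.toMul (b i))) := by
    intro f f' h
    ext v
    have hv : Additive.ofMul v ∈ Submodule.span (ZMod 2) (Set.range b) := by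
      rw [b.span_eq]; exact Submodule.mem_top
    have key : ∀ a : A, a ∈ Submodule.span (ZMod 2) (Set.range b) →
        f (Additive.toMul a) = f' (Additive.toMul a) := by
      intro a ha
      induction ha using Submodule.span_induction with
      | mem x hx => obtain ⟨i, rfl⟩ := hx; exact congr_fun h i
      | zero => exact (map_one f).trans (map_one f').symm
      | add x y _ _ hx hy => rw [toMul_add]; exact (map_mul f _ _).trans ((congrArg₂ (· * ·) hx hy).trans (map_mul f' _ _).symm)
      | smul c x _ hx =>
        obtain ⟨n, rfl⟩ := ZMod.natCast_zmod_surjective c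
        rw [Nat.cast_smul_eq_nsmul, toMul_nsmul, map_pow, map_pow, hx]
    exact key _ hv
  refine (Nat.card_le_card_of_injective _ hinj).trans ?_
  rw [Nat.card_fun, hW, Nat.card_fin]
  have : Nat.card A = 2 ^ Module.finrank (ZMod 2) A := by
    rw [Module.natCard_eq_pow_finrank (K := ZMod 2), Nat.card_zmod]
  exact this.ge

/-- For a finite extraspecial 2-group E, an automorphism of E that induces the identity on E modulo its centre is inner (so these automorphisms form exactly the inner automorphism group, an elementary abelian 2-group of order |E|/2). -/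
theorem result {E : Type*} [Group E] [Finite E] (hE : Cfsg.IsExtraspecial 2 E) (φ : E ≃* E) (hφ : ∀ x : E, φ x * x⁻¹ ∈ Subgroup.center E) : ∃ g : E, ∀ x : E, φ x = g * x * g⁻¹ := by
  classical
  have hc : ∀ x : E, φ x * x⁻¹ ∈ Subgroup.center E := hφ
  obtain ⟨⟨hp, hfr, hcomm⟩, hcard⟩ := hE
  have cen : ∀ z ∈ Subgroup.center E, ∀ x : E, x * z = z * x :=
    fun z hz x => Subgroup.mem_center_iff.mp hz x
  have hcm : ∀ x y : E, x * y * x⁻¹ * y⁻¹ ∈ Subgroup.center E := fun x y =>
    hcomm ▸ Subgroup.commutator_mem_commutator (Subgroup.mem_top x) (Subgroup.mem_top y)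
  letI : CommGroup (Subgroup.center E) :=
    { (inferInstance : Group (Subgroup.center E)) with
      mul_comm := fun a b => Subtype.ext (cen b b.2 a) }
  let δ : E →* Subgroup.center E :=
    { toFun := fun x => ⟨φ x * x⁻¹, hc x⟩
      map_one' := by ext; simp
      map_mul' := by
        intro x y
        refine Subtype.ext ?_
        show φ (x * y) * (x * y)⁻¹ = φ x * x⁻¹ * (φ y * y⁻¹)
        rw [map_mul, mul_inv_rev, mul_assoc (φ x), ← mul_assoc (φ y), ← cen _ (hc y) x⁻¹,
          ← mul_assoc] }
  let ι : E →* (E →* Subgroup.center E) :=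
    { toFun := fun g =>
        { toFun := fun x => ⟨g * x * g⁻¹ * x⁻¹, hcm g x⟩
          map_one' := by ext; simp
          map_mul' := by
            intro x y
            refine Subtype.ext ?_
            show g * (x * y) * g⁻¹ * (x * y)⁻¹ = g * x * g⁻¹ * x⁻¹ * (g * y * g⁻¹ * y⁻¹)
            calc g * (x * y) * g⁻¹ * (x * y)⁻¹ = g * x * g⁻¹ * ((g * y * g⁻¹ * y⁻¹) * x⁻¹) := by group
              _ = _ := by rw [← cen _ (hcm g y) x⁻¹, ← mul_assoc] }
      map_one' := by ext; simp
      map_mul' := by
        intro g h
        ext x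
        show g * h * x * (g * h)⁻¹ * x⁻¹ = g * x * g⁻¹ * x⁻¹ * (h * x * h⁻¹ * x⁻¹)
        calc g * h * x * (g * h)⁻¹ * x⁻¹ = g * (h * x * h⁻¹ * x⁻¹) * (x * g⁻¹ * x⁻¹) := by group
          _ = (h * x * h⁻¹ * x⁻¹) * g * (x * g⁻¹ * x⁻¹) := by rw [cen _ (hcm h x) g]
          _ = (h * x * h⁻¹ * x⁻¹) * (g * x * g⁻¹ * x⁻¹) := by group
          _ = _ := (cen _ (hcm h x) _).symm }
  obtain ⟨z, hz1, hu⟩ := (Nat.card_eq_two_iff' (1 : Subgroup.center E)).mp hcard
  have hall : ∀ w : Subgroup.center E, w = 1 ∨ w = z := fun w => by
    by_cases h : w = 1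
    · exact Or.inl h
    · exact Or.inr (hu w h)
  have hfcent : ∀ f : E →* Subgroup.center E, Subgroup.center E ≤ f.ker := by
    intro f
    intro x hx
    exact Abelianization.commutator_subset_ker f (hcomm.symm ▸ hx)
  have hker : ι.ker = Subgroup.center E := by
    ext g
    constructor
    · intro hg
      rw [Subgroup.mem_center_iff]
      intro x
      have := congrArg Subtype.val (DFunLike.congr_fun hg x)
      change g * x * g⁻¹ * x⁻¹ = 1 at this
      calc x * g = (g * x * g⁻¹ * x⁻¹) * (x * g) := by rw [this, one_mul]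
        _ = g * x := by group
    · intro hg
      ext x
      show g * x * g⁻¹ * x⁻¹ = 1
      rw [← cen g hg x]; group
  let Hm := E →* Subgroup.center E
  have : Finite Hm := Finite.of_injective (fun f : Hm => (f : E → Subgroup.center E))
    DFunLike.coe_injective
  let V := E ⧸ Subgroup.center E
  let R : Hm → (V →* Subgroup.center E) := fun f => QuotientGroup.lift _ f (hfcent f)
  have hR : Function.Injective R := by
    intro f f' h
    ext x
    exact congrArg Subtype.val (DFunLike.congr_fun h (x : V))
  have habel : ∀ a b : V, a * b = b * a := by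
    rintro ⟨a⟩ ⟨b⟩
    show ((a * b : E) : V) = ((b * a : E) : V)
    rw [QuotientGroup.eq]
    simpa [mul_assoc] using hcm b⁻¹ a⁻¹
  let V' : CommGroup V := { (inferInstance : Group V) with mul_comm := habel }
  have hsq : ∀ v : V, v ^ 2 = 1 := by
    rintro ⟨a⟩
    show ((a ^ 2 : E) : V) = 1
    rw [QuotientGroup.eq_one_iff, ← hfr]
    exact Cfsg.Agent.S5395.sq_mem_frattini hp a
  have : Finite (V →* Subgroup.center E) :=
    Finite.of_injective (fun f => (f : V → Subgroup.center E)) DFunLike.coe_injective
  have hle := Cfsg.Agent.S5395.card_hom_le (W := Subgroup.center E) hsq hcard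
  have hcardH : Nat.card Hm ≤ Nat.card V :=
    (Nat.card_le_card_of_injective R hR).trans hle
  have hrange : Nat.card ι.range = Nat.card V := by
    rw [← Subgroup.index_ker ι, hker]
    exact Subgroup.index_eq_card _
  have htop : ι.range = ⊤ := Subgroup.eq_top_of_le_card _ (by rw [hrange]; exact hcardH)
  obtain ⟨g, hg⟩ := MonoidHom.mem_range.mp (htop ▸ Subgroup.mem_top δ)
  refine ⟨g, fun x => ?_⟩
  have := congrArg Subtype.val (DFunLike.congr_fun hg x)
  change g * x * g⁻¹ * x⁻¹ = φ x * x⁻¹ at this
  exact (mul_right_cancel this).symm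

end Cfsg.Agent.S5395
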