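import Cfsg.Statements.S1235
import Mathlib
import Cfsg.Agent.H64.RankFour

set_option autoImplicit false
open Cfsg

namespace Cfsg.Agent.S1235

open Subgroup

/-- A bound on sections of a Sylow 2-subgroup gives the bound on sections of the group. -/
theorem sectional_of_squareBound {G : Type*} [Group G] [Finite G] (S : Sylow 2 G)
    (hS : H64.RankFour.SquareBound ↥(S : Subgroup G)) : Cfsg.SectionalPRankLE 2 4 G := by
  have : Fact (Nat.Prime 2) := ⟨Nat.prime_two⟩
  intro H N hN A hAc hA2
  let K : Subgroup H := A.comap (QuotientGroup.mk' N)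
  let f : K →* A := (QuotientGroup.mk' N).subgroupComap A
  have hf : Function.Surjective f := by
    rintro ⟨a, ha⟩
    obtain ⟨h, rfl⟩ := QuotientGroup.mk'_surjective N a
    exact ⟨⟨h, ha⟩, rfl⟩
  have hAp : IsPGroup 2 A := fun a => ⟨1, Subtype.ext (by simpa using hA2 a a.2)⟩
  obtain ⟨Q₀⟩ : Nonempty (Sylow 2 K) := inferInstance
  have htop : (Q₀ : Subgroup K).map f = ⊤ :=
    ((Q₀.mapSurjective hf).is_maximal' (hAp.to_subgroup ⊤) le_top).symm
  let g : ↥(Q₀ : Subgroup K) →* A := f.comp (Q₀ : Subgroup K).subtype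
  have hg : g.range = ⊤ := by rw [MonoidHom.range_comp, Subgroup.range_subtype, htop]
  let ι : ↥(Q₀ : Subgroup K) →* G := H.subtype.comp (K.subtype.comp (Q₀ : Subgroup K).subtype)
  have hι : Function.Injective ι :=
    H.subtype_injective.comp (K.subtype_injective.comp (Q₀ : Subgroup K).subtype_injective)
  obtain ⟨S', hS'⟩ := (show IsPGroup 2 ι.range from Q₀.isPGroup'.of_equiv
    (MonoidHom.ofInjective hι)).exists_le_sylow
  obtain ⟨x, rfl⟩ := MulAction.exists_smul_eq G S' S
  let φ : ↥(Q₀ : Subgroup K) →* ↥((x • S' : Sylow 2 G) : Subgroup G) :=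
    ((MulAut.conj x).toMonoidHom.comp ι).codRestrict _
      (fun q => Subgroup.smul_mem_pointwise_smul _ (MulAut.conj x) _ (hS' ⟨q, rfl⟩))
  have hφ : Function.Injective φ := fun a b h => hι ((MulAut.conj x).injective (congrArg Subtype.val h))
  have hb := hS φ.range (g.ker.map φ) (Subgroup.map_le_range _ _)
    (by
      rintro _ ⟨a, rfl⟩ _ ⟨k, hk, rfl⟩
      exact ⟨a * k * a⁻¹, g.normal_ker.conj_mem k hk a, by simp⟩)
    (by
      rintro _ ⟨a, rfl⟩
      refine ⟨a * a, ?_, map_mul φ a a⟩
      show g (a * a) = 1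
      rw [map_mul, ← pow_two]
      exact Subtype.ext (by simpa using hA2 _ (g a).2))
  have h1 := H64.RankFour.card_mul_relIndex (Subgroup.map_le_range φ g.ker)
  rw [card_map_of_injective hφ, ← Nat.card_congr (MonoidHom.ofInjective hφ).toEquiv] at h1
  have h2 := g.ker.card_mul_index
  rw [← h1] at h2
  have h3 := Nat.eq_of_mul_eq_mul_left Nat.card_pos h2
  rw [Subgroup.index_ker, hg, Subgroup.card_top] at h3
  rw [h3]
  exact hb

theorem dihedral_two : ∀ d : DihedralGroup 2, d * d = 1 := by decide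

/-- Let G be a finite group, x an involution and T ≤ G a Sylow 2-subgroup of C_G(x) (T ≤ C_G(x) with |C_G(x) : T| odd) which is the internal direct product of a subgroup D that is dihedral (of order ≥ 4) or quasi-dihedral and a Klein four-subgroup B. Suppose that for every involution b ∈ B, T ≤ C_G(b) with |C_G(b) : T| odd. Then every section of G has 2-rank at most 4. -/
theorem result {G : Type*} [Group G] [Finite G] (x : G) (hx : orderOf x = 2) (T D B : Subgroup G) (hT : IsPGroup 2 T) (hTx : T ≤ Subgroup.centralizer ({x} : Set G)) (hTxi : Odd (T.relIndex (Subgroup.centralizer ({x} : Set G)))) (hprod : Cfsg.IsInternalDirectProduct D B T) (hD : (∃ m : ℕ, 2 ≤ m ∧ Nonempty (D ≃* DihedralGroup m)) ∨ Cfsg.IsQuasiDihedral D) (hB : IsKleinFour B) (hTb : ∀ b ∈ B, orderOf b = 2 → T ≤ Subgroup.centralizer ({b} : Set G) ∧ Odd (T.relIndex (Subgroup.centralizer ({b} : Set G)))) : Cfsg.SectionalPRankLE 2 4 G := by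
  have : Fact (Nat.Prime 2) := ⟨Nat.prime_two⟩
  obtain ⟨hDT, hBT, hDB, hinf, hsup⟩ := hprod
  have hB2 : ∀ b ∈ B, b * b = 1 := fun b hb =>
    congrArg Subtype.val (IsKleinFour.mul_self (⟨b, hb⟩ : B))
  have hord : ∀ b ∈ B, b ≠ 1 → orderOf b = 2 := fun b hb hb1 =>
    orderOf_eq_prime (by rw [pow_two]; exact hB2 b hb) hb1
  have hTB : ∀ t ∈ T, ∀ b ∈ B, t * b = b * t := by
    intro t ht b hb
    by_cases hb1 : b = 1
    · rw [hb1, mul_one, one_mul]
    · exact Subgroup.mem_centralizer_singleton_iff.1 ((hTb b hb (hord b hb hb1)).1 ht)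
  obtain ⟨S, hTS⟩ := hT.exists_le_sylow
  refine sectional_of_squareBound S ?_
  set P := (S : Subgroup G)
  refine H64.RankFour.squareBound_product S.isPGroup' (T.subgroupOf P) (D.subgroupOf P) (B.subgroupOf P)
    (fun d hd => hDT hd) (fun b hb => hBT hb) (fun t ht b hb => Subtype.ext (hTB t ht b hb)) ?_ ?_ ?_
    (fun b hb => Subtype.ext (hB2 b hb)) ?_ ?_
  · rw [eq_bot_iff]
    rintro u ⟨h1, h2⟩
    have h : (u : G) ∈ D ⊓ B := ⟨h1, h2⟩
    rw [hinf, Subgroup.mem_bot] at h
    exact Subgroup.mem_bot.2 (Subtype.ext h)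
  · intro t ht
    have hle : D ≤ Subgroup.normalizer (B : Set G) := fun d hd => by
      rw [Subgroup.mem_normalizer_iff]
      intro b
      constructor
      · intro hb
        rw [hDB d hd b hb, mul_inv_cancel_right]
        exact hb
      · intro hb
        have e := hDB d hd _ hb
        have e' : d * b * d⁻¹ = b := mul_left_cancel (a := d) (by rw [e]; group)
        rwa [e'] at hb
    have ht' : (t : G) ∈ ((D ⊔ B : Subgroup G) : Set G) := by rw [hsup]; exact ht
    rw [Subgroup.coe_mul_of_left_le_normalizer_right D B hle] at ht'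
    obtain ⟨d, hd, b, hb, e⟩ := ht'
    exact ⟨⟨d, hTS (hDT hd)⟩, hd, ⟨b, hTS (hBT hb)⟩, hb, Subtype.ext e.symm⟩
  · rw [Nat.card_congr (Subgroup.subgroupOfEquivOfLe (hBT.trans hTS)).toEquiv]
    exact IsKleinFour.card_four
  · rintro b hb hb1 y hy
    obtain ⟨hle, hodd⟩ := hTb b hb (hord b hb fun e => hb1 (Subtype.ext e))
    set K := P ⊓ Subgroup.centralizer ({(b : G)} : Set G)
    have hTK : T ≤ K := le_inf hTS hle
    have h1 := Subgroup.relIndex_mul_relIndex T K _ hTK inf_le_right
    rw [← h1, Nat.odd_mul] at hodd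
    obtain ⟨i, hi⟩ := (S.isPGroup'.to_le (inf_le_left : K ≤ P)).index (T.subgroupOf K)
    have hi0 : i = 0 := by
      by_contra h
      have : Even (T.relIndex K) := by
        rw [Subgroup.relIndex, hi]
        exact Nat.even_pow.2 ⟨even_two, h⟩
      exact Nat.not_even_iff_odd.2 hodd.1 this
    rw [hi0, pow_zero] at hi
    exact Subgroup.relIndex_eq_one.1 hi ⟨y.2, Subgroup.mem_centralizer_singleton_iff.2 (congrArg Subtype.val hy)⟩
  · let e := Subgroup.subgroupOfEquivOfLe (hDT.trans hTS)
    have hcard := Nat.card_congr e.toEquiv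
    have hidx : ∀ c : D, (orderOf c) * 2 = Nat.card D →
        (Subgroup.zpowers ((e.symm c : D.subgroupOf P) : P)).relIndex (D.subgroupOf P) = 2 := by
      intro c hc
      have h := H64.RankFour.card_mul_relIndex (Subgroup.zpowers_le.2 (e.symm c).2)
      rw [Nat.card_zpowers, Subgroup.orderOf_coe, MulEquiv.orderOf_eq, hcard, ← hc] at h
      exact Nat.eq_of_mul_eq_mul_left (orderOf_pos c) h
    have hcomm : (∀ a ∈ D.subgroupOf P, ∀ b ∈ D.subgroupOf P, a * b = b * a) → ∀ a b : D, a * b = b * a := by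
      intro h a b
      apply e.symm.injective
      rw [map_mul, map_mul]
      exact Subtype.ext (h _ (e.symm a).2 _ (e.symm b).2)
    rcases hD with ⟨m, hm, ⟨f⟩⟩ | ⟨n, hn, hc, u, v, hu, hv, huv⟩
    · rcases eq_or_lt_of_le hm with rfl | hm3
      · refine Or.inl ⟨?_, fun d hd => ?_⟩
        · rw [hcard, Nat.card_congr f.toEquiv, DihedralGroup.nat_card]
        · have h : (f (e ⟨d, hd⟩)) * f (e ⟨d, hd⟩) = 1 := dihedral_two _
          rw [← map_mul, ← map_mul, map_eq_one_iff _ f.injective, map_eq_one_iff _ e.injective] at h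
          exact congrArg Subtype.val h
      · refine Or.inr ⟨_, (e.symm (f.symm (DihedralGroup.r 1))).2, hidx _ ?_, fun h => ?_⟩
        · rw [MulEquiv.orderOf_eq, DihedralGroup.orderOf_r_one, Nat.card_congr f.toEquiv, DihedralGroup.nat_card,
            mul_comm]
        · have h' := congrArg f (hcomm h (f.symm (DihedralGroup.r 1)) (f.symm (DihedralGroup.sr 0)))
          simp only [map_mul, MulEquiv.apply_symm_apply, DihedralGroup.r_mul_sr, DihedralGroup.sr_mul_r,
            zero_sub, zero_add, DihedralGroup.sr.injEq] at h'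
          have h2 : ((2 : ℕ) : ZMod m) = 0 := by
            push_cast
            linear_combination -h'
          rw [ZMod.natCast_eq_zero_iff] at h2
          exact absurd (Nat.le_of_dvd two_pos h2) (by omega)
    · refine Or.inr ⟨_, (e.symm u).2, hidx u ?_, fun h => ?_⟩
      · rw [hu, hc, pow_succ]
      · rw [hcomm h v u, mul_inv_cancel_right] at huv
        nth_rewrite 1 [← pow_one u] at huv
        have h4 : 4 ≤ 2 ^ (n - 1) := by
          calc 4 = 2 ^ 2 := rfl
            _ ≤ _ := Nat.pow_le_pow_right two_pos (by omega)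
        have hlt : 2 ^ (n - 1) < 2 ^ n := Nat.pow_lt_pow_right one_lt_two (by omega)
        have := pow_injOn_Iio_orderOf (x := u) (Set.mem_Iio.2 (by rw [hu]; omega))
          (Set.mem_Iio.2 (by rw [hu]; omega)) huv
        omega

end Cfsg.Agent.S1235
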