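import Cfsg.Statements.S0228
import Mathlib.GroupTheory.SpecificGroups.Alternating
import Mathlib.GroupTheory.Sylow
import Mathlib.Tactic

set_option autoImplicit false
open Cfsg

namespace Cfsg.Agent.S0228

/-- A group of order 12 in which no involution is central is isomorphic to the alternating group on four letters. -/
theorem result {G : Type*} [Group G] [Finite G] (hG : Nat.card G = 12) (hz : ∀ z : G, orderOf z = 2 → z ∉ Subgroup.center G) : Nonempty (G ≃* alternatingGroup (Fin 4)) := by
  have hz0 := hz
  classical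
  have : Fact (Nat.Prime 3) := ⟨Nat.prime_three⟩
  have : Fact (Nat.Prime 2) := ⟨Nat.prime_two⟩
  obtain ⟨P⟩ := Sylow.nonempty (p := 3) (G := G)
  have hP : Nat.card P = 3 := by
    rw [P.card_eq_multiplicity, hG, show (12 : ℕ) = 3 ^ 1 * 4 by norm_num,
      Nat.factorization_mul (by norm_num) (by norm_num), Finsupp.add_apply,
      Nat.prime_three.factorization_pow, Finsupp.single_eq_same,
      Nat.factorization_eq_zero_of_not_dvd (show ¬ 3 ∣ 4 by norm_num)]
    rfl
  have hidx : (P : Subgroup G).index = 4 := by
    have := (P : Subgroup G).card_mul_index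
    rw [hP, hG] at this; omega
  have hdvd : Nat.card (Sylow 3 G) ∣ 4 := hidx ▸ P.card_dvd_index
  have hmod := card_sylow_modEq_one 3 G
  have hne1 : Nat.card (Sylow 3 G) ≠ 1 := by
    intro h1
    have hnorm : (P : Subgroup G).Normal := by
      exact Subgroup.normalizer_eq_top_iff.1 (Subgroup.index_eq_one.1 (P.card_eq_index_normalizer.symm.trans h1))
    obtain ⟨a, ha⟩ := exists_prime_orderOf_dvd_card' (G := (P : Subgroup G)) 3 (by rw [hP])
    -- the centralizer of P has index at most two, so contains an involution
    let C := Subgroup.centralizer ((P : Subgroup G) : Set G)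
    have hker : C = (P : Subgroup G).normalizerMonoidHom.ker.map (Subgroup.normalizer ((P : Subgroup G) : Set G)).subtype := by
      rw [Subgroup.normalizerMonoidHom_ker, Subgroup.subgroupOf_map_subtype, inf_eq_left.2]
      rw [Subgroup.normalizer_eq_top_iff.2 hnorm]; exact le_top
    have hsmall : C.index ≤ 2 := by
      have hcyc : IsCyclic (P : Subgroup G) := isCyclic_of_prime_card hP
      have h := Subgroup.card_dvd_of_injective _ (QuotientGroup.kerLift_injective (P : Subgroup G).normalizerMonoidHom)
      rw [hcyc.card_mulAut, hP, show Nat.totient 3 = 2 from Nat.totient_prime Nat.prime_three] at h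
      have hi : C.index = Nat.card (↥(Subgroup.normalizer ((P : Subgroup G) : Set G)) ⧸ (P : Subgroup G).normalizerMonoidHom.ker) := by
        have hN1 : (Subgroup.normalizer ((P : Subgroup G) : Set G)).index = 1 :=
          Subgroup.index_eq_one.2 (Subgroup.normalizer_eq_top_iff.2 hnorm)
        rw [hker, Subgroup.index_map_subtype, hN1, mul_one]
        rfl
      rw [hi]; exact Nat.le_of_dvd two_pos h
    have hcard := C.card_mul_index
    have h2 : 2 ∣ Nat.card C := by
      rw [hG] at hcard
      have : C.index = 1 ∨ C.index = 2 := by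
        have := Nat.pos_of_ne_zero C.index_ne_zero_of_finite; omega
      rcases this with h' | h' <;> rw [h'] at hcard <;> omega
    obtain ⟨z, hz⟩ := exists_prime_orderOf_dvd_card' 2 h2
    have hzG : orderOf (z : G) = 2 := by rw [Subgroup.orderOf_coe, hz]
    have hp2 : IsPGroup 2 (Subgroup.zpowers (z : G)) :=
      IsPGroup.of_card (n := 1) (by rw [Nat.card_zpowers, hzG, pow_one])
    obtain ⟨T, hT⟩ := hp2.exists_le_sylow
    have hTcard : Nat.card T = 4 := by
      rw [T.card_eq_multiplicity, hG, show (12 : ℕ) = 2 ^ 2 * 3 by norm_num,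
        Nat.factorization_mul (by norm_num) (by norm_num), Finsupp.add_apply,
        Nat.prime_two.factorization_pow, Finsupp.single_eq_same,
        Nat.factorization_eq_zero_of_not_dvd (show ¬ 2 ∣ 3 by norm_num)]
      rfl
    have hTab := IsPGroup.commutative_of_card_eq_prime_sq (p := 2) (G := (T : Subgroup G))
      (by rw [hTcard]; norm_num)
    have hPC : (P : Subgroup G) ≤ Subgroup.centralizer ({(z : G)} : Set G) := fun a ha =>
      Subgroup.mem_centralizer_singleton_iff.2 (Subgroup.mem_centralizer_iff.1 z.2 a ha)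
    have hTC : (T : Subgroup G) ≤ Subgroup.centralizer ({(z : G)} : Set G) := fun a ha =>
      Subgroup.mem_centralizer_singleton_iff.2 (congrArg Subtype.val
        (hTab (⟨a, ha⟩ : (T : Subgroup G)) ⟨(z : G), hT (Subgroup.mem_zpowers _)⟩))
    have h3 := Subgroup.card_dvd_of_le hPC
    have h4 := Subgroup.card_dvd_of_le hTC
    rw [hP] at h3
    rw [hTcard] at h4
    have htop : Subgroup.centralizer ({(z : G)} : Set G) = ⊤ := by
      refine Subgroup.eq_top_of_card_eq _ ?_
      have h5 := Subgroup.card_subgroup_dvd_card (Subgroup.centralizer ({(z : G)} : Set G))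
      rw [hG] at h5 ⊢
      have := Nat.le_of_dvd (by norm_num) h5
      have : 0 < Nat.card (Subgroup.centralizer ({(z : G)} : Set G)) := Nat.card_pos
      omega
    exact hz0 (z : G) hzG (Subgroup.mem_center_iff.2 fun g =>
      Subgroup.mem_centralizer_singleton_iff.1 (by rw [htop]; exact Subgroup.mem_top g))
  have hn : Nat.card (Sylow 3 G) = 4 := by
    have : Nat.card (Sylow 3 G) ∈ Nat.divisors 4 := Nat.mem_divisors.2 ⟨hdvd, by norm_num⟩
    rw [show Nat.divisors 4 = {1, 2, 4} by decide] at this
    simp only [Finset.mem_insert, Finset.mem_singleton] at this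
    unfold Nat.ModEq at hmod
    omega
  -- the action on the four Sylow 3-subgroups is faithful
  have hNP : Subgroup.normalizer ((P : Subgroup G) : Set G) = (P : Subgroup G) := by
    refine (Subgroup.eq_of_le_of_card_ge (P : Subgroup G).le_normalizer ?_).symm
    have h := (Subgroup.normalizer ((P : Subgroup G) : Set G)).card_mul_index
    rw [show (Subgroup.normalizer ((P : Subgroup G) : Set G)).index = 4 from P.card_eq_index_normalizer.symm.trans hn, hG] at h
    rw [hP]; omega
  have hPcyc : ∀ Q : Sylow 3 G, Q ≠ P → (Q : Subgroup G) ⊓ P = ⊥ := by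
    intro Q hQ
    have h := Subgroup.card_dvd_of_le (inf_le_right : (Q : Subgroup G) ⊓ P ≤ P)
    rw [hP] at h
    rcases Nat.prime_three.eq_one_or_self_of_dvd _ h with h1 | h1
    · exact Subgroup.card_eq_one.1 h1
    · exfalso
      apply hQ
      have heq : (Q : Subgroup G) ⊓ P = P := Subgroup.eq_of_le_of_card_ge inf_le_right (by rw [h1, hP])
      exact Sylow.ext (P.3 Q.2 (inf_eq_right.1 heq))
  set f := MulAction.toPermHom G (Sylow 3 G) with hf
  have hinj : Function.Injective f := by
    rw [← MonoidHom.ker_eq_bot_iff, eq_bot_iff]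
    intro g hg
    rw [MonoidHom.mem_ker] at hg
    have hall : ∀ Q : Sylow 3 G, g • Q = Q := fun Q => by
      have := congrArg (fun σ : Equiv.Perm (Sylow 3 G) => σ Q) hg
      simpa [hf] using this
    obtain ⟨Q, hQ⟩ : ∃ Q : Sylow 3 G, Q ≠ P := by
      by_contra hcon
      push Not at hcon
      have : Subsingleton (Sylow 3 G) := ⟨fun a b => (hcon a).trans (hcon b).symm⟩
      have := Nat.card_of_subsingleton P
      omega
    have hgP : g ∈ (P : Subgroup G) := hNP ▸ (Sylow.smul_eq_iff_mem_normalizer.1 (hall P))
    obtain ⟨c, hc⟩ := MulAction.exists_smul_eq G P Q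
    have hgQ : g ∈ (Q : Subgroup G) := by
      have h1 : (c⁻¹ * g * c) • P = P := by
        rw [mul_smul, mul_smul, hc, hall, ← hc, inv_smul_smul]
      have h2 : c⁻¹ * g * c ∈ (P : Subgroup G) := hNP ▸ (Sylow.smul_eq_iff_mem_normalizer.1 h1)
      rw [← hc, Sylow.coe_subgroup_smul]
      exact ⟨_, h2, by simp [mul_assoc]⟩
    rw [← hPcyc Q hQ]
    exact ⟨hgQ, hgP⟩
  have : Fintype (Sylow 3 G) := Fintype.ofFinite _
  have e : Sylow 3 G ≃ Fin 4 := Fintype.equivFinOfCardEq (by rw [← Nat.card_eq_fintype_card, hn])
  set f' : G →* Equiv.Perm (Fin 4) := e.permCongrHom.toMonoidHom.comp f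
  have hinj' : Function.Injective f' := e.permCongrHom.injective.comp hinj
  have hr : f'.range = alternatingGroup (Fin 4) := by
    refine Equiv.Perm.eq_alternatingGroup_of_index_eq_two ?_
    have h := f'.range.card_mul_index
    rw [← Nat.card_congr (MonoidHom.ofInjective hinj').toEquiv, hG, Nat.card_perm, Nat.card_fin] at h
    norm_num [Nat.factorial] at h
    omega
  exact ⟨(MonoidHom.ofInjective hinj').trans (MulEquiv.subgroupCongr hr)⟩

end Cfsg.Agent.S0228
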