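import Cfsg.Statements.S0448
import Cfsg.Agent.Coprime.J1.Order

set_option autoImplicit false
open Cfsg

namespace Cfsg.Agent.S0448

/-- Janko's first group: a finite simple group with a 2-central involution whose centraliser is isomorphic to (cyclic of order 2) × (alternating group of degree 5) has order 175560. -/
theorem result {G : Type*} [Group G] [Finite G] [IsSimpleGroup G] (t : G) (ht : Cfsg.IsTwoCentralInvolution t) (e : Subgroup.centralizer ({t} : Set G) ≃* Multiplicative (ZMod 2) × alternatingGroup (Fin 5)) : Cfsg.IsJ1 G := by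
  refine ⟨inferInstance, ?_⟩
  have := Fintype.ofFinite G
  have : Fact (Nat.Prime 2) := ⟨Nat.prime_two⟩
  obtain ⟨ho, P, -, hP⟩ := ht
  have hle : (P : Subgroup G) ≤ Subgroup.centralizer ({t} : Set G) := fun x hx =>
    Subgroup.mem_centralizer_singleton_iff.2 (hP x hx)
  have h120 : Nat.card (Subgroup.centralizer ({t} : Set G)) = 120 := by
    rw [Nat.card_congr e.toEquiv, Cfsg.Agent.Coprime.J1.card_C₀]
  have hG : 120 ∣ Nat.card G := h120 ▸ Subgroup.card_subgroup_dvd_card _
  obtain ⟨k, hk⟩ := IsPGroup.iff_card.1 P.isPGroup'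
  have hd : 2 ^ k ∣ 120 := by
    rw [← hk, ← h120]
    exact Subgroup.card_dvd_of_le hle
  have h8 : 8 ∣ Nat.card (P : Subgroup G) := by
    have := Sylow.pow_dvd_card_of_pow_dvd_card (p := 2) (n := 3) P ((by norm_num : 2 ^ 3 ∣ 120).trans hG)
    simpa using this
  have hP8 : Nat.card (P : Subgroup G) = 8 := by
    have h3 : k ≤ 3 := by
      by_contra hc
      have : 2 ^ 4 ∣ 120 := (pow_dvd_pow 2 (by omega)).trans hd
      norm_num at this
    have := Nat.le_of_dvd (Nat.card_pos) h8
    have h2 : 2 ^ k ≤ 2 ^ 3 := Nat.pow_le_pow_right (by norm_num) h3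
    omega
  exact Cfsg.Agent.Coprime.J1.Setup.card_eq
    { t := t, ht := ho, e := e,
      sylow_card := fun Q => (Nat.card_congr (Sylow.equiv Q P).toEquiv).trans hP8 }

end Cfsg.Agent.S0448
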