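import Mathlib
import Cfsg.Statements.S4068
import Cfsg.Agent.S0144
import Cfsg.Agent.H66.OrderSixty
import Cfsg.Agent.H75.PrimeOrbitCount
import Cfsg.Agent.H75.PrimeOrbitArith

set_option autoImplicit false
open Cfsg

namespace Cfsg.Agent.S4068

open Subgroup
open Cfsg.Agent.H75.PrimeOrbit

variable {G : Type*} [Group G] [Finite G]

theorem solvable_of_two_primes {H : Type*} [Group H] [Finite H]
    (h : (Nat.card H).primeFactors.card ≤ 2) : Group.IsSolvable H := by
  obtain ⟨p, q, hp, hq, hsub⟩ : ∃ p q : ℕ, p.Prime ∧ q.Prime ∧ (Nat.card H).primeFactors ⊆ {p, q} := by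
    rcases Nat.lt_or_ge (Nat.card H).primeFactors.card 1 with h0 | h1
    · refine ⟨2, 3, Nat.prime_two, Nat.prime_three, ?_⟩
      rw [Finset.card_eq_zero.1 (show (Nat.card H).primeFactors.card = 0 by omega)]
      exact Finset.empty_subset _
    rcases Nat.lt_or_ge (Nat.card H).primeFactors.card 2 with h2 | h2
    · obtain ⟨p, hp⟩ := Finset.card_eq_one.1 (show (Nat.card H).primeFactors.card = 1 by omega)
      have hpp : p.Prime := Nat.prime_of_mem_primeFactors (hp ▸ Finset.mem_singleton_self p)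
      exact ⟨p, p, hpp, hpp, by rw [hp]; simp⟩
    · obtain ⟨p, q, -, hpq⟩ := Finset.card_eq_two.1 (show (Nat.card H).primeFactors.card = 2 by omega)
      exact ⟨p, q, Nat.prime_of_mem_primeFactors (n := Nat.card H) (by rw [hpq]; simp),
        Nat.prime_of_mem_primeFactors (n := Nat.card H) (by rw [hpq]; simp), hpq.le⟩
  have hn : Nat.card H ≠ 0 := Nat.card_pos.ne'
  have hprod := Nat.prod_factorization_pow_eq_self hn
  rw [Finsupp.prod, Nat.support_factorization,
    Finset.prod_subset hsub fun x _ hx => by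
      rw [Finsupp.notMem_support_iff.1 (by rwa [Nat.support_factorization]), pow_zero]] at hprod
  by_cases hpq : p = q
  · subst hpq
    simp at hprod
    exact Cfsg.Agent.S0144.result p p ((Nat.card H).factorization p) 0 hp hp (by simp [hprod])
  · rw [Finset.prod_pair hpq] at hprod
    exact Cfsg.Agent.S0144.result p q _ _ hp hq hprod.symm

theorem exists_orderOf {p : ℕ} (hp : p ∈ (Nat.card G).primeFactors) : ∃ x : G, orderOf x = p := by
  haveI : Fact p.Prime := ⟨Nat.prime_of_mem_primeFactors hp⟩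
  exact exists_prime_orderOf_dvd_card' p (Nat.dvd_of_mem_primeFactors hp)

/-- The hypothesis: three primes, all orders prime, one orbit for each order. -/
theorem hyp_of_four_orbits (hns : ¬ Group.IsSolvable G)
    (h4 : Nat.card (MulAction.orbitRel.Quotient (MulAut G) G) = 4) :
    Hyp G ∧ (Nat.card G).primeFactors.card = 3 := by
  classical
  set O := MulAction.orbitRel.Quotient (MulAut G) G
  have : Fintype O := Fintype.ofFinite _
  let f : O → ℕ := fun c => Quotient.liftOn' c orderOf fun a b hab => by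
    obtain ⟨φ, hφ⟩ := MulAction.mem_orbit_iff.1 (MulAction.orbitRel_apply.1 hab)
    rw [← hφ]
    exact φ.orderOf_eq b
  have hsub : insert 1 (Nat.card G).primeFactors ⊆ Finset.univ.image f := by
    intro n hn
    rw [Finset.mem_image]
    rcases Finset.mem_insert.1 hn with rfl | hn
    · exact ⟨Quotient.mk'' 1, Finset.mem_univ _, orderOf_one⟩
    · obtain ⟨x, hx⟩ := exists_orderOf hn
      exact ⟨Quotient.mk'' x, Finset.mem_univ _, hx⟩
  have hcard : Fintype.card O = 4 := by rw [← Nat.card_eq_fintype_card]; exact h4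
  have h1 : (1 : ℕ) ∉ (Nat.card G).primeFactors := fun h => Nat.not_prime_one (Nat.prime_of_mem_primeFactors h)
  have h3 : 3 ≤ (Nat.card G).primeFactors.card := by
    by_contra h
    exact hns (solvable_of_two_primes (by omega))
  have hle := Finset.card_le_card hsub
  rw [Finset.card_insert_of_notMem h1] at hle
  have hle2 : (Finset.univ.image f).card ≤ 4 := hcard ▸ Finset.card_image_le
  have heq : insert 1 (Nat.card G).primeFactors = Finset.univ.image f :=
    Finset.eq_of_subset_of_card_le hsub (by rw [Finset.card_insert_of_notMem h1]; omega)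
  have hinj : Function.Injective f := by
    intro a b hab
    exact (Finset.card_image_iff.1 (show (Finset.univ.image f).card = Finset.univ.card by
      rw [Finset.card_univ, hcard]; omega)) (Finset.mem_coe.2 (Finset.mem_univ a)) (Finset.mem_coe.2 (Finset.mem_univ b)) hab
  refine ⟨⟨fun x hx => ?_, fun x y hxy => ?_⟩, by omega⟩
  · have : orderOf x ∈ Finset.univ.image f := Finset.mem_image.2 ⟨Quotient.mk'' x, Finset.mem_univ _, rfl⟩
    rw [← heq, Finset.mem_insert] at this
    exact Nat.prime_of_mem_primeFactors (this.resolve_left fun h => hx (orderOf_eq_one_iff.1 h))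
  · have h := Quotient.exact' (hinj (show f (Quotient.mk'' y) = f (Quotient.mk'' x) from hxy.symm))
    obtain ⟨φ, hφ⟩ := MulAction.mem_orbit_iff.1 (MulAction.orbitRel_apply.1 h)
    exact ⟨φ, hφ⟩

/-- Such a group is simple. -/
theorem isSimple (hns : ¬ Group.IsSolvable G) (hG : Hyp G) (h3 : (Nat.card G).primeFactors.card = 3) :
    IsSimpleGroup G ∧ ∃ a b : G, a * b ≠ b * a := by
  classical
  have hnc : ∃ a b : G, a * b ≠ b * a := by
    by_contra h
    push Not at h
    exact hns (Group.isSolvable_of_comm h)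
  have hchar : ∀ N : Subgroup G, N.Normal → (∀ φ : MulAut G, ∀ x ∈ N, φ x ∈ N) → N ≠ ⊥ → N = ⊤ := by
    intro N hN hinv hne
    have hall : ∀ p ∈ (Nat.card N).primeFactors, ∀ y : G, orderOf y = p → y ∈ N := by
      intro p hp y hy
      haveI : Fact p.Prime := ⟨Nat.prime_of_mem_primeFactors hp⟩
      obtain ⟨x, hx⟩ := exists_prime_orderOf_dvd_card' (G := N) p (Nat.dvd_of_mem_primeFactors hp)
      obtain ⟨φ, hφ⟩ := hG.orbit (x : G) y (by rw [Subgroup.orderOf_coe, hx, hy])
      exact hφ ▸ hinv φ x x.2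
    have hdisj : Disjoint (Nat.card N).primeFactors (Nat.card (G ⧸ N)).primeFactors := by
      rw [Finset.disjoint_left]
      intro p hp hp'
      haveI : Fact p.Prime := ⟨Nat.prime_of_mem_primeFactors hp⟩
      obtain ⟨P⟩ := (inferInstance : Nonempty (Sylow p G))
      have hPN : (P : Subgroup G) ≤ N := by
        intro y hy
        by_cases h1 : y = 1
        · rw [h1]; exact N.one_mem
        · exact hall p hp y (orderOf_eq hG P.isPGroup' hy h1)
      refine P.not_dvd_index ((Nat.dvd_of_mem_primeFactors hp').trans ?_)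
      rw [← index_eq_card]
      exact Subgroup.index_dvd_of_le hPN
    by_contra htop
    have hu : (Nat.card N).primeFactors ∪ (Nat.card (G ⧸ N)).primeFactors = (Nat.card G).primeFactors := by
      rw [← Nat.primeFactors_mul Nat.card_pos.ne' Nat.card_pos.ne', mul_comm, ← Subgroup.card_eq_card_quotient_mul_card_subgroup]
    have hsum := Finset.card_union_of_disjoint hdisj
    rw [hu, h3] at hsum
    haveI := hN
    have hN1 : (Nat.card N).primeFactors.card ≠ 0 := by
      rw [Finset.card_ne_zero, Nat.nonempty_primeFactors]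
      exact (one_lt_card_iff_ne_bot N).2 hne
    have hQ1 : (Nat.card (G ⧸ N)).primeFactors.card ≠ 0 := by
      rw [Finset.card_ne_zero, Nat.nonempty_primeFactors, ← index_eq_card]
      exact one_lt_index_of_ne_top htop
    haveI := solvable_of_two_primes (H := N) (by omega)
    haveI := solvable_of_two_primes (H := G ⧸ N) (by omega)
    exact hns (Group.isSolvable_of_ker_le_range N.subtype (QuotientGroup.mk' N)
      (by rw [QuotientGroup.ker_mk', N.range_subtype]))
  refine ⟨?_, hnc⟩
  haveI : Nontrivial G := by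
    obtain ⟨a, b, hab⟩ := hnc
    exact ⟨⟨a, 1, fun h => hab (by simp [h])⟩⟩
  -- a minimal normal subgroup
  obtain ⟨M, ⟨hMn, hMne⟩, hmin⟩ := Set.Finite.exists_minimal
    (Set.toFinite {H : Subgroup G | H.Normal ∧ H ≠ ⊥}) ⟨⊤, inferInstance, top_ne_bot⟩
  suffices htop : M = ⊤ by
    refine ⟨fun H hH => ?_⟩
    by_cases hb : H = ⊥
    · exact Or.inl hb
    · exact Or.inr (top_le_iff.1 (htop ▸ hmin (show H ∈ {H : Subgroup G | H.Normal ∧ H ≠ ⊥} from ⟨hH, hb⟩) (htop ▸ le_top)))
  by_contra htop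
  haveI := hMn
  by_cases hinv : ∀ φ : MulAut G, M.map φ.toMonoidHom ≤ M
  · exact htop (hchar M hMn (fun φ x hx => hinv φ (mem_map_of_mem _ hx)) hMne)
  push Not at hinv
  obtain ⟨φ, hφ⟩ := hinv
  set M' := M.map φ.toMonoidHom with hM'
  haveI hM'n : M'.Normal := hMn.map _ φ.surjective
  have hdis : M ⊓ M' = ⊥ := by
    by_contra hne
    have h := hmin (show M ⊓ M' ∈ {H : Subgroup G | H.Normal ∧ H ≠ ⊥} from ⟨inferInstance, hne⟩) inf_le_left
    exact hφ (Subgroup.eq_of_le_of_card_ge (h.trans inf_le_right)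
      (card_map_of_injective φ.injective).le ▸ le_rfl)
  have hcomm : ∀ a ∈ M, ∀ b ∈ M', Commute a b := fun a ha b hb =>
    Subgroup.commute_of_normal_of_disjoint M M' hMn hM'n (disjoint_iff.2 hdis) a b ha hb
  -- M has a single prime
  have hcardM : (Nat.card M).primeFactors.card ≤ 1 := by
    rw [Finset.card_le_one]
    intro p hp q hq
    by_contra hpq
    haveI : Fact p.Prime := ⟨Nat.prime_of_mem_primeFactors hp⟩
    haveI : Fact q.Prime := ⟨Nat.prime_of_mem_primeFactors hq⟩
    obtain ⟨a, ha⟩ := exists_prime_orderOf_dvd_card' (G := M) p (Nat.dvd_of_mem_primeFactors hp)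
    obtain ⟨b, hb⟩ := exists_prime_orderOf_dvd_card' (G := M) q (Nat.dvd_of_mem_primeFactors hq)
    rw [← Subgroup.orderOf_coe] at ha hb
    have hbo : orderOf (φ (b : G)) = q := (φ.orderOf_eq (b : G)).trans hb
    have hmul : orderOf ((a : G) * φ b) = p * q := by
      rw [(hcomm a a.2 (φ b) (mem_map_of_mem φ.toMonoidHom b.2)).orderOf_mul_eq_mul_orderOf_of_coprime,
        ha, hbo]
      rw [ha, hbo]
      exact (Nat.coprime_primes Fact.out Fact.out).2 hpq
    have h1 : (a : G) * φ b ≠ 1 := fun h => by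
      rw [h, orderOf_one] at hmul
      exact (Fact.out : p.Prime).one_lt.ne' (Nat.eq_one_of_mul_eq_one_right hmul.symm)
    have := hG.prime _ h1
    rw [hmul] at this
    exact Nat.not_prime_mul (Fact.out : p.Prime).ne_one (Fact.out : q.Prime).ne_one this
  haveI hMs : Group.IsSolvable M := solvable_of_two_primes (by omega)
  -- the solvable normal subgroups generate a characteristic subgroup
  set J : Subgroup G := ⨆ ψ : MulAut G, M.map ψ.toMonoidHom with hJ
  haveI hJn : J.Normal := by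
    haveI := fun ψ : MulAut G => hMn.map ψ.toMonoidHom ψ.surjective
    exact Subgroup.iSup_normal _
  have hJinv : ∀ ψ : MulAut G, ∀ x ∈ J, ψ x ∈ J := by
    intro ψ x hx
    have hle : J.map ψ.toMonoidHom ≤ J := by
      rw [hJ, Subgroup.map_iSup]
      refine iSup_le fun χ => le_iSup_of_le (ψ * χ) (le_of_eq ?_)
      rw [Subgroup.map_map]
      rfl
    exact hle (mem_map_of_mem _ hx)
  have hJM : M ≤ J := le_iSup_of_le 1 (le_of_eq (Subgroup.map_id M).symm)
  have hJtop := hchar J hJn hJinv fun h => hMne (le_bot_iff.1 (h ▸ hJM))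
  -- M is abelian, so is every image, and they commute: all primes equal
  have hone : (Nat.card G).primeFactors ⊆ (Nat.card M).primeFactors := by
    intro p hp
    haveI : Fact p.Prime := ⟨Nat.prime_of_mem_primeFactors hp⟩
    obtain ⟨r, hr⟩ : ∃ r, r ∈ (Nat.card M).primeFactors := by
      have : (Nat.card M).primeFactors.Nonempty := Nat.nonempty_primeFactors.2 ((one_lt_card_iff_ne_bot M).2 hMne)
      exact this
    haveI : Fact r.Prime := ⟨Nat.prime_of_mem_primeFactors hr⟩
    have hMr : IsPGroup r M := by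
      refine IsPGroup.iff_card.2 ⟨(Nat.card M).factorization r, ?_⟩
      exact Nat.eq_prime_pow_of_unique_prime_dvd Nat.card_pos.ne' (fun {d} hd hdd =>
        Finset.card_le_one.1 hcardM d (Nat.mem_primeFactors.2 ⟨hd, hdd, Nat.card_pos.ne'⟩) r hr) |>.trans
          (by
            congr 1
            have h := Nat.eq_prime_pow_of_unique_prime_dvd Nat.card_pos.ne' (fun {d} hd hdd =>
              Finset.card_le_one.1 hcardM d (Nat.mem_primeFactors.2 ⟨hd, hdd, Nat.card_pos.ne'⟩) r hr)
            conv_rhs => rw [h, (Fact.out : r.Prime).factorization_pow, Finsupp.single_eq_same])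
    have hJp : IsPGroup r J := by
      rw [hJ, ← sSup_range]
      exact Sylow.sSup_of_normal _ (by rintro _ ⟨ψ, rfl⟩; exact hMr.map _)
        (by rintro _ ⟨ψ, rfl⟩; exact hMn.map _ ψ.surjective)
    obtain ⟨x, hx⟩ := exists_orderOf hp
    have hx1 : x ≠ 1 := fun h => by
      rw [h, orderOf_one] at hx
      exact (Fact.out : p.Prime).one_lt.ne hx
    rw [← hx, orderOf_eq hG hJp (hJtop ▸ mem_top x) hx1]
    exact hr
  have := Finset.card_le_card hone
  omega

/-- The possible contributions of an odd prime to the count. -/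
theorem opt [IsSimpleGroup G] (hG : Hyp G) {q : ℕ} [hq : Fact q.Prime] (hq2 : q ≠ 2)
    (hnot : ¬ IsPGroup q G) (Q : Sylow q G) (hdvd : q ∣ Nat.card G) {A R : ℕ}
    (hidx : (Q : Subgroup G).index = A * R) :
    CountOpt A R (Nat.card (Q : Subgroup G)) (elems G q).card := by
  rcases elems_cases hG Q hdvd hnot with ⟨e, he2, -, -, hcount, -, hs⟩ | ⟨-, h⟩
  · rw [hidx] at hcount
    rcases (show e = 2 ∨ e = 3 ∨ 4 ≤ e by omega) with rfl | rfl | h4
    · exact Or.inl hcount
    · exact Or.inr (Or.inl ⟨hcount, (hs 3 Nat.prime_three dvd_rfl).2⟩)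
    · refine Or.inr (Or.inr ?_)
      calc 4 * (elems G q).card ≤ e * (elems G q).card := Nat.mul_le_mul_right _ h4
        _ = A * R * (Nat.card (Q : Subgroup G) - 1) := hcount
        _ ≤ _ := Nat.mul_le_mul_left _ (Nat.sub_le _ _)
  · refine Or.inr (Or.inr ?_)
    rw [← (Q : Subgroup G).index_mul_card, hidx] at h
    have := hq.out.two_le
    have h4 : 4 ≤ q ^ 2 := by nlinarith
    exact (Nat.mul_le_mul_right _ h4).trans h

/-- When the count is the generic one, the normaliser has twice the order of the Sylow subgroup. -/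
theorem normalizer_two [IsSimpleGroup G] (hG : Hyp G) {q : ℕ} [hq : Fact q.Prime] (hq3 : 3 ≤ q)
    (hnot : ¬ IsPGroup q G) (hdvd : q ∣ Nat.card G) (Q0 : Sylow q G) {A R : ℕ}
    (hidx : (Q0 : Subgroup G).index = A * R)
    (h : 2 * (elems G q).card = A * R * (Nat.card (Q0 : Subgroup G) - 1)) (Q : Sylow q G) :
    IsMulCommutative (Q : Subgroup G) ∧
      ∃ a, Nat.card (normalizer ((Q : Subgroup G) : Set G)) = q ^ a * 2 := by
  obtain ⟨a, ha⟩ := IsPGroup.iff_card.1 Q.isPGroup'
  have hQQ : Nat.card (Q : Subgroup G) = Nat.card (Q0 : Subgroup G) := by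
    rw [Q.card_eq_multiplicity, Q0.card_eq_multiplicity]
  have hiQ : (Q : Subgroup G).index = A * R := by
    refine Nat.eq_of_mul_eq_mul_left (Nat.card_pos (α := (Q : Subgroup G))) ?_
    rw [(Q : Subgroup G).card_mul_index, hQQ, ← hidx, (Q0 : Subgroup G).card_mul_index]
  have h3Q : 3 ≤ Nat.card (Q0 : Subgroup G) := by
    obtain ⟨b, hb⟩ := IsPGroup.iff_card.1 Q0.isPGroup'
    have hb0 : b ≠ 0 := fun e => Q0.ne_bot_of_dvd_card hdvd (by
      rw [← Subgroup.card_eq_one, hb, e, pow_zero])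
    have := Nat.le_self_pow hb0 q
    omega
  have hAR : 0 < A * R := by
    rw [← hidx]; exact Nat.pos_of_ne_zero index_ne_zero_of_finite
  have hpos : 0 < A * R * (Nat.card (Q0 : Subgroup G) - 1) := Nat.mul_pos hAR (by omega)
  rcases elems_cases hG Q hdvd hnot with ⟨e, -, hab, hN, hcount, -, -⟩ | ⟨-, h9⟩
  · rw [hQQ, hiQ, ← h] at hcount
    have he : e = 2 := by
      refine Nat.eq_of_mul_eq_mul_right ?_ hcount
      omega
    exact ⟨hab, a, by rw [hN, ha, he]⟩
  · exfalso
    rw [← (Q : Subgroup G).index_mul_card, hiQ, hQQ] at h9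
    obtain ⟨c, hc⟩ : ∃ c, Nat.card (Q0 : Subgroup G) = c + 1 := ⟨_, (Nat.succ_pred_eq_of_pos Nat.card_pos).symm⟩
    rw [hc] at h9 h hpos h3Q
    simp only [Nat.add_sub_cancel] at h hpos
    have h9' : 9 * (elems G q).card ≤ A * R * (c + 1) :=
      (Nat.mul_le_mul_right _ (show 9 ≤ q ^ 2 by nlinarith)).trans h9
    nlinarith [Nat.mul_le_mul_left (A * R) (show 2 ≤ c by omega)]

/-- An odd order is impossible. -/
theorem two_mem [IsSimpleGroup G] (hG : Hyp G) (h3 : (Nat.card G).primeFactors.card = 3)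
    (hnot : ∀ p : ℕ, p.Prime → ¬ IsPGroup p G) (hord : ∀ x : G, x ≠ 1 → orderOf x ∈ (Nat.card G).primeFactors) :
    2 ∈ (Nat.card G).primeFactors := by
  by_contra h2
  have h2G : ¬ 2 ∣ Nat.card G := fun h =>
    h2 (Nat.mem_primeFactors.2 ⟨Nat.prime_two, h, Nat.card_pos.ne'⟩)
  obtain ⟨p, q, r, hpq, hpr, hqr, hset⟩ := Finset.card_eq_three.1 h3
  have hb : ∀ s ∈ (Nat.card G).primeFactors, 3 * (elems G s).card + 2 ≤ Nat.card G := by
    intro s hs
    have hsp := Nat.prime_of_mem_primeFactors hs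
    haveI : Fact s.Prime := ⟨hsp⟩
    obtain ⟨P⟩ := (inferInstance : Nonempty (Sylow s G))
    have hdvd := Nat.dvd_of_mem_primeFactors hs
    have hs2 : s ≠ 2 := fun h => h2 (h ▸ hs)
    have hG1 : 1 < Nat.card G := lt_of_lt_of_le hsp.one_lt (Nat.le_of_dvd Nat.card_pos hdvd)
    rcases elems_cases hG P hdvd (hnot s hsp) with ⟨e, he, -, -, hcount, hedvd, -⟩ | ⟨-, h9⟩
    · have he3 : 3 ≤ e := by
        by_contra h
        exact h2G ((show e = 2 by omega) ▸ hedvd)
      have hI : 2 ≤ (P : Subgroup G).index := by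
        rw [Nat.succ_le_iff]
        refine one_lt_index_of_ne_top fun h => hnot s hsp ?_
        exact (h ▸ P.isPGroup').of_equiv Subgroup.topEquiv
      have hc := (P : Subgroup G).index_mul_card
      obtain ⟨c, hP⟩ : ∃ c, Nat.card (P : Subgroup G) = c + 1 := ⟨_, (Nat.succ_pred_eq_of_pos Nat.card_pos).symm⟩
      rw [hP] at hc hcount
      simp only [Nat.add_sub_cancel] at hcount
      nlinarith [Nat.mul_le_mul_right (elems G s).card he3]
    · have hs3 : 3 ≤ s := by have := hsp.two_le; omega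
      have h9' : 9 * (elems G s).card ≤ Nat.card G :=
        (Nat.mul_le_mul_right _ (show 9 ≤ s ^ 2 by nlinarith)).trans h9
      have := Nat.le_of_dvd Nat.card_pos hdvd
      omega
  have heq := card_eq hG hpq hpr hqr (fun x hx => by
    have h := hord x hx
    rw [hset] at h
    simpa using h)
    (Nat.prime_of_mem_primeFactors (n := Nat.card G) (by rw [hset]; simp)).ne_one
    (Nat.prime_of_mem_primeFactors (n := Nat.card G) (by rw [hset]; simp)).ne_one
    (Nat.prime_of_mem_primeFactors (n := Nat.card G) (by rw [hset]; simp)).ne_one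
  have := hb p (by rw [hset]; simp)
  have := hb q (by rw [hset]; simp)
  have := hb r (by rw [hset]; simp)
  omega

theorem result {G : Type*} [Group G] [Finite G] (hns : ¬ Group.IsSolvable G)
    (h4 : Nat.card (MulAction.orbitRel.Quotient (MulAut G) G) = 4) : Nonempty (G ≃* alternatingGroup (Fin 5)) := by
  classical
  obtain ⟨hG, h3⟩ := hyp_of_four_orbits hns h4
  obtain ⟨hsimp, hnc⟩ := isSimple hns hG h3
  have hord : ∀ x : G, x ≠ 1 → orderOf x ∈ (Nat.card G).primeFactors := fun x hx =>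
    Nat.mem_primeFactors.2 ⟨hG.prime x hx, orderOf_dvd_natCard x, Nat.card_pos.ne'⟩
  have hnot : ∀ p : ℕ, p.Prime → ¬ IsPGroup p G := by
    intro p hp h
    haveI : Fact p.Prime := ⟨hp⟩
    haveI := h.isNilpotent
    exact hns inferInstance
  have h2 := two_mem hG h3 hnot hord
  have h2G : 2 ∣ Nat.card G := Nat.dvd_of_mem_primeFactors h2
  obtain ⟨q, r, hqr, hset⟩ : ∃ q r, q ≠ r ∧ ((Nat.card G).primeFactors).erase 2 = {q, r} := by
    have : (((Nat.card G).primeFactors).erase 2).card = 2 := by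
      rw [Finset.card_erase_of_mem h2, h3]
    obtain ⟨q, r, h, h'⟩ := Finset.card_eq_two.1 this
    exact ⟨q, r, h, h'⟩
  have hmem : ∀ s, s = q ∨ s = r → s ∈ (Nat.card G).primeFactors ∧ s ≠ 2 := by
    intro s hs
    have : s ∈ ((Nat.card G).primeFactors).erase 2 := by rw [hset]; simpa using hs
    exact ⟨(Finset.mem_erase.1 this).2, (Finset.mem_erase.1 this).1⟩
  have hq := hmem q (Or.inl rfl)
  have hr := hmem r (Or.inr rfl)
  haveI : Fact q.Prime := ⟨Nat.prime_of_mem_primeFactors hq.1⟩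
  haveI : Fact r.Prime := ⟨Nat.prime_of_mem_primeFactors hr.1⟩
  have hq3 : 3 ≤ q := by have := (Fact.out : q.Prime).two_le; have := hq.2; omega
  have hr3 : 3 ≤ r := by have := (Fact.out : r.Prime).two_le; have := hr.2; omega
  have hqG := Nat.dvd_of_mem_primeFactors hq.1
  have hrG := Nat.dvd_of_mem_primeFactors hr.1
  obtain ⟨S⟩ := (inferInstance : Nonempty (Sylow 2 G))
  obtain ⟨SQ⟩ := (inferInstance : Nonempty (Sylow q G))
  obtain ⟨SR⟩ := (inferInstance : Nonempty (Sylow r G))
  set A := Nat.card (S : Subgroup G) with hAdef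
  set Q := Nat.card (SQ : Subgroup G) with hQdef
  set R := Nat.card (SR : Subgroup G) with hRdef
  have hGcard : Nat.card G = A * Q * R := by
    conv_lhs => rw [← Nat.prod_factorization_pow_eq_self (Nat.card_pos (α := G)).ne', Finsupp.prod,
      Nat.support_factorization, ← Finset.insert_erase h2, hset]
    rw [Finset.prod_insert (by simp [hq.2.symm, hr.2.symm]), Finset.prod_pair hqr, hAdef, hQdef, hRdef,
      S.card_eq_multiplicity, SQ.card_eq_multiplicity, SR.card_eq_multiplicity, mul_assoc]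
  have hiS : (S : Subgroup G).index = Q * R := by
    refine Nat.eq_of_mul_eq_mul_left (Nat.card_pos (α := (S : Subgroup G))) ?_
    rw [(S : Subgroup G).card_mul_index, hGcard, mul_assoc]
  have hiQ : (SQ : Subgroup G).index = A * R := by
    refine Nat.eq_of_mul_eq_mul_left (Nat.card_pos (α := (SQ : Subgroup G))) ?_
    rw [(SQ : Subgroup G).card_mul_index, hGcard]; ring
  have hiR : (SR : Subgroup G).index = A * Q := by
    refine Nat.eq_of_mul_eq_mul_left (Nat.card_pos (α := (SR : Subgroup G))) ?_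
    rw [(SR : Subgroup G).card_mul_index, hGcard]; ring
  -- the prime two
  have hN2 := card_normalizer_two hG hnc S h2G
  rw [← hAdef] at hN2
  obtain ⟨e, he2, -, hNe, hcount2, hedvd, -⟩ :=
    (elems_cases hG S h2G (hnot 2 Nat.prime_two)).resolve_right fun h => h.1 rfl
  have he : e = A - 1 := Nat.eq_of_mul_eq_mul_left (Nat.card_pos (α := (S : Subgroup G))) (hNe.symm.trans hN2)
  have hE2 : (elems G 2).card = Q * R := by
    rw [← hAdef, hiS, mul_comm (Q * R), ← he] at hcount2
    exact Nat.eq_of_mul_eq_mul_left (by omega) hcount2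
  obtain ⟨n, hn⟩ := IsPGroup.iff_card.1 S.isPGroup'
  rw [← hAdef] at hn
  have hA : A = 4 ∨ 8 ≤ A := by
    have h3A : 3 ≤ A := by omega
    rw [hn] at h3A ⊢
    rcases Nat.lt_or_ge n 3 with h | h
    · interval_cases n <;> omega
    · exact Or.inr (by simpa using Nat.pow_le_pow_right (show 0 < 2 by norm_num) h)
  obtain ⟨a, ha⟩ := IsPGroup.iff_card.1 SQ.isPGroup'
  obtain ⟨b, hb⟩ := IsPGroup.iff_card.1 SR.isPGroup'
  rw [← hQdef] at ha
  rw [← hRdef] at hb
  have ha0 : a ≠ 0 := fun e => SQ.ne_bot_of_dvd_card hqG (by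
    rw [← Subgroup.card_eq_one, ← hQdef, ha, e, pow_zero])
  have hb0 : b ≠ 0 := fun e => SR.ne_bot_of_dvd_card hrG (by
    rw [← Subgroup.card_eq_one, ← hRdef, hb, e, pow_zero])
  have hQ3 : 3 ≤ Q := ha ▸ hq3.trans (Nat.le_self_pow ha0 q)
  have hR3 : 3 ≤ R := hb ▸ hr3.trans (Nat.le_self_pow hb0 r)
  have hA1 : A - 1 ∣ Q * R := by
    have h : A - 1 ∣ A * (Q * R) := by rw [← mul_assoc, ← hGcard, ← he]; exact hedvd
    refine Nat.Coprime.dvd_of_dvd_mul_left ?_ h
    have hcop : Nat.Coprime (A - 1) (A - 1 + 1) := by simp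
    rwa [Nat.sub_add_cancel (by omega : 1 ≤ A)] at hcop
  have h3A : A = 4 → (∃ c, Q = 3 ^ c) ∨ ∃ c, R = 3 ^ c := by
    intro h
    rw [h] at hA1
    rcases (Nat.Prime.dvd_mul Nat.prime_three).1 hA1 with h' | h'
    · rw [ha] at h'
      exact Or.inl ⟨a, by
        rw [ha, (Nat.prime_dvd_prime_iff_eq Nat.prime_three Fact.out).1 (Nat.prime_three.dvd_of_dvd_pow h')]⟩
    · rw [hb] at h'
      exact Or.inr ⟨b, by
        rw [hb, (Nat.prime_dvd_prime_iff_eq Nat.prime_three Fact.out).1 (Nat.prime_three.dvd_of_dvd_pow h')]⟩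
  have hcases : ∀ x : G, x ≠ 1 → orderOf x = 2 ∨ orderOf x = q ∨ orderOf x = r := by
    intro x hx
    have h := hord x hx
    rw [← Finset.insert_erase h2, hset] at h
    simpa using h
  have heq := card_eq hG hq.2.symm hr.2.symm hqr hcases (by norm_num)
    (Fact.out : q.Prime).ne_one (Fact.out : r.Prime).ne_one
  rw [hE2, hGcard] at heq
  obtain ⟨hkey, hX, hY⟩ := both_two hA hQ3 hR3 h3A heq
    (opt hG hq.2 (hnot q Fact.out) SQ hqG hiQ) (opt hG hr.2 (hnot r Fact.out) SR hrG hiR)
  have hNq := normalizer_two hG hq3 (hnot q Fact.out) hqG SQ hiQ hX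
  have hNr := normalizer_two hG hr3 (hnot r Fact.out) hrG SR hiR hY
  -- `A - 1` is a power of a single prime
  have hdvd : A - 1 ∣ Q ∨ A - 1 ∣ R := by
    obtain ⟨d₁, d₂, hd₁, hd₂, hd⟩ := Nat.dvd_mul.1 hA1
    rw [ha] at hd₁
    rw [hb] at hd₂
    obtain ⟨i, hia, rfl⟩ := (Nat.dvd_prime_pow Fact.out).1 hd₁
    obtain ⟨j, hjb, rfl⟩ := (Nat.dvd_prime_pow Fact.out).1 hd₂
    by_cases hi : i = 0
    · exact Or.inr (by rw [← hd, hi, pow_zero, one_mul, hb]; exact pow_dvd_pow r hjb)
    by_cases hj : j = 0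
    · exact Or.inl (by rw [← hd, hj, pow_zero, mul_one, ha]; exact pow_dvd_pow q hia)
    exact (not_two_primes hG S hq.2 hr.2 hqr hi hj (by rw [hN2, hd]) (by omega) hNq hNr).elim
  have hodd : ∀ (s c : ℕ), 3 ≤ s → s.Prime → Odd (s ^ c) := fun s c h hp =>
    (hp.odd_of_ne_two (by omega)).pow
  have hA4 : 4 ≤ A := by rcases hA with h | h <;> omega
  have hord' : (A = 4 ∧ Q * R = 15) ∨ (A = 8 ∧ Q * R = 63 ∧ ((q = 7 ∧ r = 3) ∨ (q = 3 ∧ r = 7))) := by
    have hpow : ∀ (s c m : ℕ), s.Prime → m.Prime → ∀ k, k ≠ 0 → s ^ c = m ^ k → s = m := by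
      intro s c m hs hm k hk h
      exact ((Nat.prime_dvd_prime_iff_eq hm hs).1 (hm.dvd_of_dvd_pow (h ▸ dvd_pow_self m hk))).symm
    rcases hdvd with h | h
    · rcases orders hn hA4 Fact.out Fact.out ha hb hQ3 hR3 (ha ▸ hodd q a hq3 Fact.out) h hkey
        with ⟨h1, h2, h3⟩ | ⟨h1, h2, h3⟩
      · exact Or.inl ⟨h1, by rw [h2, h3]⟩
      · exact Or.inr ⟨h1, by rw [h2, h3], Or.inl
          ⟨hpow q a 7 Fact.out (by norm_num) 1 one_ne_zero (by rw [← ha, h2]; rfl),
           hpow r b 3 Fact.out Nat.prime_three 2 two_ne_zero (by rw [← hb, h3]; rfl)⟩⟩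
    · have hkey' : 2 * R * Q + 2 = A * R + A * Q := by
        rw [show 2 * R * Q = 2 * Q * R by ring, hkey]; ring
      rcases orders hn hA4 Fact.out Fact.out hb ha hR3 hQ3 (hb ▸ hodd r b hr3 Fact.out) h hkey'
        with ⟨h1, h2, h3⟩ | ⟨h1, h2, h3⟩
      · exact Or.inl ⟨h1, by rw [h2, h3]⟩
      · exact Or.inr ⟨h1, by rw [h2, h3], Or.inr
          ⟨hpow q a 3 Fact.out Nat.prime_three 2 two_ne_zero (by rw [← ha, h3]; rfl),
           hpow r b 7 Fact.out (by norm_num) 1 one_ne_zero (by rw [← hb, h2]; rfl)⟩⟩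
  rcases hord' with ⟨hA', hQR⟩ | ⟨hA', hQR, hqr'⟩
  · have h60 : Nat.card G = 60 := by rw [hGcard, mul_assoc, hA', hQR]; norm_num
    refine Cfsg.Agent.H66.iso_altFive h60 fun h1 => ?_
    haveI : Fact (Nat.Prime 5) := ⟨by norm_num⟩
    obtain ⟨P⟩ := (inferInstance : Nonempty (Sylow 5 G))
    haveI : Subsingleton (Sylow 5 G) := (Nat.card_eq_one_iff_unique.1 h1).1
    have hc : Nat.card (P : Subgroup G) = 5 ∨ 25 ∣ Nat.card G := by
      obtain ⟨c, hc⟩ := IsPGroup.iff_card.1 P.isPGroup'
      have h5 : c ≠ 0 := fun e => P.ne_bot_of_dvd_card (by rw [h60]; norm_num) (by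
        rw [← Subgroup.card_eq_one, hc, e, pow_zero])
      rcases Nat.lt_or_ge c 2 with h | h
      · exact Or.inl (by rw [hc, show c = 1 by omega, pow_one])
      · exact Or.inr (((show 25 = 5 ^ 2 by norm_num) ▸ pow_dvd_pow 5 h).trans (hc ▸ card_subgroup_dvd_card _))
    have hc5 : Nat.card (P : Subgroup G) = 5 := hc.resolve_right (by rw [h60]; norm_num)
    rcases (Sylow.normal_of_subsingleton P).eq_bot_or_eq_top with h | h
    · rw [h, card_bot] at hc5; omega
    · rw [h, card_top, h60] at hc5; omega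
  · exfalso
    have h56 : Nat.card (normalizer ((S : Subgroup G) : Set G)) = 56 := by rw [hN2, hA']
    have h504 : Nat.card G = 504 := by rw [hGcard, mul_assoc, hA', hQR]; norm_num
    refine card_ne_504 hG (fun x hx => ?_) S (by rw [← hAdef, hA']) (fun hn' => ?_) ?_
    · rcases hcases x hx with h | h | h <;> rcases hqr' with ⟨rfl, rfl⟩ | ⟨rfl, rfl⟩ <;> simp [h]
    · rcases hn'.eq_bot_or_eq_top with h | h
      · rw [h, card_bot] at hAdef; omega
      · rw [h, card_top, h504] at hAdef; omega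
    · have := (normalizer ((S : Subgroup G) : Set G)).index_mul_card
      rw [h56, h504] at this
      omega

end Cfsg.Agent.S4068
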