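import Cfsg.Statements.S0814
import Cfsg.Agent.Symplectic.AutGraph

set_option autoImplicit false
open Cfsg

namespace Cfsg.Agent.S0814

/-- |Aut(PSp_2m(q))| = gcd(2, q−1) · f · |PSp_2m(q)| for q = p^f, m ≥ 2, (m, q) ≠ (2, 2), with an extra factor 2 exactly when m = 2 and p = 2. -/
theorem result {F : Type*} [Field F] [Fintype F] (p f : ℕ) [Fact p.Prime] (hf : 1 ≤ f) (hF : Fintype.card F = p ^ f) (m : ℕ) (hm : 2 ≤ m) (h22 : m = 2 → 3 ≤ p ^ f) : Nat.card (MulAut (Cfsg.PSp m F)) = (if m = 2 ∧ p = 2 then 2 else 1) * Nat.gcd 2 (p ^ f - 1) * f * Nat.card (Cfsg.PSp m F) := by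
  haveI : CharP F p := charP_of_card_eq_prime_pow hF
  rw [← hF]
  by_cases h : m = 2 ∧ p = 2
  · obtain ⟨rfl, rfl⟩ := h
    rw [if_pos ⟨rfl, rfl⟩, Cfsg.Agent.Symplectic.Graph.card_mulAut,
      Cfsg.Agent.Symplectic.card_semiRange (p := 2) (by omega),
      Cfsg.Agent.Symplectic.card_ringAut hf hF, Cfsg.Agent.Symplectic.card_sp_eq_gcd_mul (by omega)]
    ring
  · have h4 : m = 2 → p ≠ 2 := fun e1 e2 => h ⟨e1, e2⟩
    have hall : Cfsg.Agent.Symplectic.semiRange m F = Set.univ := Set.eq_univ_of_forall fun φ => by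
      obtain ⟨g, σ, he⟩ := Cfsg.Agent.Symplectic.exists_semiPSp (p := p) hm
        (Cfsg.Agent.Symplectic.isTr_map (p := p) hm h4 φ)
      exact ⟨(g, σ), he.symm⟩
    rw [if_neg h, ← Nat.card_univ (α := MulAut (Cfsg.PSp m F)), ← hall,
      Cfsg.Agent.Symplectic.card_semiRange (p := p) (by omega),
      Cfsg.Agent.Symplectic.card_ringAut hf hF, Cfsg.Agent.Symplectic.card_sp_eq_gcd_mul (by omega)]
    ring

end Cfsg.Agent.S0814
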