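import Cfsg.Statements.S3230
import Cfsg.Agent.H49.UChar.Split
import Cfsg.Agent.H49.UChar.CoreMain
import Cfsg.Agent.H49.UChar.Transport
import Cfsg.Agent.H41.LFi.Pair

set_option autoImplicit false
open Cfsg

namespace Cfsg.Agent.S3230

/-- Let G be a finite group with an involution z, H = C_G(z), such that J = O₂(H) is extraspecial of order 2⁹ with C_H(J) ≤ J and H/J ≅ PSp₄(3). Then G ≅ U₆(2) or G = H·O(G). -/
theorem result {G : Type*} [Group G] [Finite G] (z : G) (hz : orderOf z = 2)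
    {F : Type*} [Field F] [Fintype F] (hF : Fintype.card F = 3) {K : Type*} [Field K] [Fintype K] (hK : Fintype.card K = 4)
    (hJ : Cfsg.IsExtraspecial 2 ↥(Cfsg.pCore 2 ↥(Subgroup.centralizer ({z} : Set G)))) (hJc : Nat.card ↥(Cfsg.pCore 2 ↥(Subgroup.centralizer ({z} : Set G))) = 2 ^ 9)
    (hCJ : Subgroup.centralizer ((Cfsg.pCore 2 ↥(Subgroup.centralizer ({z} : Set G))) : Set ↥(Subgroup.centralizer ({z} : Set G))) ≤ Cfsg.pCore 2 ↥(Subgroup.centralizer ({z} : Set G))) [hJn : (Cfsg.pCore 2 ↥(Subgroup.centralizer ({z} : Set G))).Normal]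
    (e : (↥(Subgroup.centralizer ({z} : Set G)) ⧸ Cfsg.pCore 2 ↥(Subgroup.centralizer ({z} : Set G))) ≃* Cfsg.PSp 2 F) :
    Nonempty (G ≃* Cfsg.PSU 6 K 2) ∨ Subgroup.centralizer ({z} : Set G) ⊔ Cfsg.oddCore G = ⊤ := by
  obtain ⟨P⟩ := Cfsg.Agent.H49.UChar.exists_pre hz hF hJ hJc hCJ e
  rcases P.R.shape with ⟨h0, h4, h1⟩ | ⟨h0, h3, h1⟩
  · obtain ⟨S⟩ := P.core h0 h4 h1
    have hE : Cfsg.IsExtraspecial 2 ↥((Cfsg.pCore 2 ↥(Subgroup.centralizer ({z} : Set G))).map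
        (Subgroup.centralizer ({z} : Set G)).subtype) :=
      Cfsg.Agent.H41.LFi.isExtraspecial_of_equiv (Subgroup.equivMapOfInjective _ _
        (Subgroup.centralizer ({z} : Set G)).subtype_injective) hJ
    rcases Cfsg.Agent.H49.UChar.core_main S hE with h | h
    · obtain ⟨E, _, _, hcard, ⟨f⟩⟩ := h
      obtain ⟨f'⟩ := Cfsg.Agent.H49.UChar.psu_card_equiv (n := 6) (E := E) (E' := K) (hcard.trans hK.symm) 2
      exact Or.inl ⟨f.trans f'⟩
    · exact Or.inr h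
  · exact Or.inr (Cfsg.Agent.H49.UChar.sup_oddCore_top P.z_sq P.z_ne
      fun g hg => P.split_isolated h0 h3 h1 hg)

end Cfsg.Agent.S3230
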