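import Cfsg.Statements.S0169
import Cfsg.Agent.CharBasic.Integral
import Cfsg.Agent.CharInduce.Induce
-- import your own Cfsg.Agent.* helpers here

set_option autoImplicit false
open Cfsg

namespace Cfsg.Agent.S0169

/-- Itô's Theorem on character degrees: the degree of an irreducible complex representation of a finite group divides the index of any abelian normal subgroup. -/
theorem result {G : Type*} [Group G] [Finite G] {V : Type*} [AddCommGroup V] [Module ℂ V] [FiniteDimensional ℂ V] (ρ : Representation ℂ G V) [ρ.IsIrreducible] (H : Subgroup G) [H.Normal] (hH : ∀ a ∈ H, ∀ b ∈ H, a * b = b * a) : Module.finrank ℂ V ∣ H.index := by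
  classical
  cases nonempty_fintype G
  haveI := Fintype.ofFinite H
  have hθ := CharBasic.isIrrCharacter_character ρ
  have hres := CharInduce.IsChar.res (CharBasic.IsIrr.isCharacter hθ) H
  have hne : (fun h : H => ρ.character h) ≠ 0 := fun e =>
    CharBasic.IsIrr.one_ne_zero hθ (congrFun e 1)
  obtain ⟨χ, hχ⟩ := CharInduce.exists_constituent hres hne
  set T := CharInduce.inertia H (χ : H → ℂ) with hT
  obtain ⟨φ, ⟨m, σ, hσ, rfl⟩, hind, f, hf, hres'⟩ :=
    CharInduce.exists_clifford_correspondent H hθ χ.2 hχ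
  obtain ⟨k, ψ, hψ, hψe⟩ := χ.2
  -- `χ` has degree one
  haveI : IsMulCommutative H := ⟨⟨fun a b => Subtype.ext (hH a a.2 b b.2)⟩⟩
  have hk1 : Module.finrank ℂ (Fin k → ℂ) = 1 :=
    Representation.IsIrreducible.finrank_eq_one_of_isMulCommutative ψ
  have hnorm : ∀ h : H, ‖(χ : H → ℂ) h‖ = 1 := by
    intro h
    have := (CharBasic.norm_character_eq_iff ψ h).2 (CharBasic.schur_scalar ψ (ψ h)
      fun a => by rw [← map_mul, ← map_mul, mul_comm'])
    rw [hψe, hk1, Nat.cast_one] at this
    exact this
  have hle : H ≤ T := CharInduce.le_inertia H (CharBasic.IsIrr.isClassFunction χ.2)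
  have hone : (χ : H → ℂ) 1 = 1 := by rw [← hψe]; simp [hk1]
  have hm : (m : ℂ) = f := by
    have h := hres' 1
    rw [hone, mul_one] at h
    rw [← h]
    exact (by simp : (m : ℂ) = σ.character 1)
  have hscal : ∀ a : T, (a : G) ∈ H → ∃ c : ℂ, σ a = c • LinearMap.id := by
    intro a ha
    refine (CharBasic.norm_character_eq_iff σ a).1 ?_
    rw [show σ.character a = (f : ℂ) * (χ : H → ℂ) ⟨a, ha⟩ from hres' ⟨a, ha⟩, norm_mul,
      Complex.norm_natCast, hnorm, mul_one]
    have : (m : ℕ) = f := by exact_mod_cast hm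
    simp [this]
  have hdvd : m ∣ (H.subgroupOf T).index := by
    let L : Subgroup T := MonoidHom.ker σ
    let σ' : Representation ℂ (T ⧸ L) (Fin m → ℂ) := QuotientGroup.lift L σ le_rfl
    haveI : Representation.IsIrreducible
        (MonoidHom.comp σ' (QuotientGroup.mk' L) : Representation ℂ T (Fin m → ℂ)) := hσ
    haveI : σ'.IsIrreducible := (CharInduce.subrepCompOrderIso σ' (QuotientGroup.mk' L)
      (QuotientGroup.mk'_surjective L)).symm.isSimpleOrder
    have hinj : ∀ q : T ⧸ L, σ' q = LinearMap.id → q = 1 := fun q =>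
      QuotientGroup.induction_on q fun g hg => (QuotientGroup.eq_one_iff g).2 hg
    let Z := (H.subgroupOf T).map (QuotientGroup.mk' L)
    have hZ : Z ≤ Subgroup.center (T ⧸ L) := by
      rintro _ ⟨a, ha, rfl⟩
      refine Subgroup.mem_center_iff.2 fun q => QuotientGroup.induction_on q fun g => ?_
      obtain ⟨c, hc⟩ := hscal a (Subgroup.mem_subgroupOf.1 ha)
      refine (QuotientGroup.eq (s := L)).2 ?_
      show σ ((g * a)⁻¹ * (a * g)) = 1
      have e : σ (g * a) = σ (a * g) := by
        rw [map_mul, map_mul, hc]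
        ext v
        simp
      rw [map_mul, ← e, ← map_mul, inv_mul_cancel, map_one]
    refine dvd_trans ?_ (Subgroup.index_map_dvd _ (QuotientGroup.mk'_surjective L))
    simpa using CharBasic.finrank_dvd_index_of_central σ' Z hZ fun z _ => hinj z
  have hdeg : Module.finrank ℂ V = T.index * m := by
    have h := congrFun hind 1
    rw [CharInduce.indFun_one] at h
    simp only [Representation.char_one, Module.finrank_pi, Fintype.card_fin] at h
    exact_mod_cast h.symm
  rw [hdeg, ← Subgroup.relIndex_mul_index hle, mul_comm (H.relIndex T)]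
  exact mul_dvd_mul_left _ hdvd

end Cfsg.Agent.S0169
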