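import Cfsg.Statements.S0855
import Mathlib
import Cfsg.Agent.H84.UniquePSingular
import Cfsg.Agent.S0169
import Cfsg.Agent.Fusion.PComplement
import Cfsg.Agent.CharInduce.Induce
import Cfsg.Agent.CharBasic.Kernel

set_option autoImplicit false
open Cfsg

namespace Cfsg.Agent.S0855

open scoped ComplexConjugate
open Cfsg.Agent

universe u

theorem exists_normal_index_prime {G : Type u} [Group G] [Finite G] {p : ℕ} [Fact p.Prime]
    (h : p ∣ (commutator G).index) : ∃ M : Subgroup G, M.Normal ∧ M.index = p := by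
  haveI : NeZero (Monoid.exponent (Abelianization G) : ℂ) :=
    ⟨Nat.cast_ne_zero.mpr Monoid.exponent_ne_zero_of_finite⟩
  have hcard : Nat.card (G →* ℂˣ) = (commutator G).index := by
    rw [Nat.card_congr Abelianization.lift, CommGroup.card_monoidHom_of_hasEnoughRootsOfUnity,
      Subgroup.index_eq_card]
    rfl
  haveI : Finite (G →* ℂˣ) :=
    Nat.finite_of_card_ne_zero (by rw [hcard]; exact Subgroup.index_ne_zero_of_finite)
  obtain ⟨l, hl⟩ := exists_prime_orderOf_dvd_card' (G := G →* ℂˣ) p (hcard ▸ h)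
  refine ⟨l.ker, inferInstance, ?_⟩
  rw [Subgroup.index_ker]
  haveI : Finite l.range := Finite.of_surjective l.rangeRestrict l.rangeRestrict_surjective
  haveI : IsCyclic l.range :=
    isCyclic_of_injective_ringHom ((Units.coeHom ℂ).comp l.range.subtype)
      (Units.val_injective.comp Subtype.val_injective)
  have hexp : Monoid.exponent l.range ∣ p := Monoid.exponent_dvd_of_forall_pow_eq_one fun x => by
    obtain ⟨g, hg⟩ := x.2
    refine Subtype.ext ?_
    rw [Subgroup.coe_pow, ← hg, Subgroup.coe_one]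
    have := DFunLike.congr_fun (pow_orderOf_eq_one l) g
    rw [hl] at this
    simpa using this
  rw [IsCyclic.exponent_eq_card] at hexp
  refine ((Nat.dvd_prime Fact.out).1 hexp).resolve_left fun h1 => ?_
  have : l = 1 := MonoidHom.ext fun g => by
    haveI := (Nat.card_eq_one_iff_unique.1 h1).1
    exact congrArg Subtype.val (Subsingleton.elim (⟨l g, g, rfl⟩ : l.range) 1)
  rw [this, orderOf_one] at hl
  exact (Fact.out : p.Prime).one_lt.ne hl

theorem forward {p : ℕ} [Fact p.Prime] (n : ℕ) : ∀ (G : Type u) [Group G] [Finite G], Nat.card G = n →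
    (∀ χ : Cfsg.IrrCharacter G, ∃ k : ℕ, (χ : G → ℂ) 1 = (p : ℂ) ^ k) →
    ∃ A : Subgroup G, A.Normal ∧ (∀ a ∈ A, ∀ b ∈ A, a * b = b * a) ∧
      Nat.Coprime (Nat.card A) p ∧ ∃ k : ℕ, A.index = p ^ k := by
  induction n using Nat.strong_induction_on with
  | _ n ih =>
    intro G _ _ hn hdeg
    classical
    cases nonempty_fintype G
    have hp : p.Prime := Fact.out
    by_cases hpG : p ∣ Nat.card G
    · -- a normal subgroup of index `p`
      have hab : p ∣ (commutator G).index := by
        have h := H84.card_eq_index_add_sum (G := G)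
        have hsum : p ∣ ∑ χ ∈ Finset.univ.filter (fun χ : Cfsg.IrrCharacter G =>
            ¬ Cfsg.charDegree (χ : G → ℂ) = 1), Cfsg.charDegree (χ : G → ℂ) ^ 2 := by
          refine Finset.dvd_sum fun χ hχ => ?_
          obtain ⟨k, hk⟩ := hdeg χ
          rw [BlockBasic.apply_one_eq_charDegree] at hk
          have hk' : Cfsg.charDegree (χ : G → ℂ) = p ^ k := by exact_mod_cast hk
          have hk0 : k ≠ 0 := fun h0 => (Finset.mem_filter.1 hχ).2 (by rw [hk', h0, pow_zero])
          rw [hk']
          exact Dvd.dvd.pow (dvd_pow_self p hk0) two_ne_zero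
        rw [h] at hpG
        exact (Nat.dvd_add_left hsum).1 hpG
      obtain ⟨M, hMn, hMi⟩ := exists_normal_index_prime hab
      haveI := hMn
      haveI := Fintype.ofFinite M
      have hlt : Nat.card M < n := by
        rw [← hn, ← M.card_mul_index, hMi]
        exact lt_mul_of_one_lt_right Nat.card_pos hp.one_lt
      have hdegM : ∀ ψ : Cfsg.IrrCharacter M, ∃ k : ℕ, (ψ : M → ℂ) 1 = (p : ℂ) ^ k := by
        intro ψ
        have hind := CharInduce.IsChar.ind M (CharBasic.IsIrr.isCharacter ψ.2)
        have hne : Cfsg.indFun M (ψ : M → ℂ) ≠ 0 := fun h0 => by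
          have := congrFun h0 1
          rw [CharInduce.indFun_one, Pi.zero_apply, mul_eq_zero] at this
          rcases this with h1 | h1
          · rw [hMi, Nat.cast_eq_zero] at h1; exact hp.ne_zero h1
          · exact CharBasic.IsIrr.one_ne_zero ψ.2 h1
        obtain ⟨χ, hχ⟩ := CharInduce.exists_constituent hind hne
        rw [CharInduce.classInner_indFun_left _ _ _ (CharBasic.IsIrr.isClassFunction χ.2)] at hχ
        have hχ' : Cfsg.classInner (fun m : M => (χ : G → ℂ) m) (ψ : M → ℂ) ≠ 0 := fun h0 => hχ (by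
          rw [← CharInduce.conj_classInner, h0, map_zero])
        have hcl := CharInduce.clifford_degree M χ.2 ψ.2 hχ'
        obtain ⟨e, he⟩ := CharBasic.classInner_isChar_nat
          (CharInduce.IsChar.res (CharBasic.IsIrr.isCharacter χ.2) M)
          (CharBasic.IsIrr.isCharacter ψ.2)
        obtain ⟨k, hk⟩ := hdeg χ
        obtain ⟨d, -, hd⟩ := CharBasic.IsIrr.exists_degree ψ.2
        rw [hk, he, hd] at hcl
        have h2 : d ∣ p ^ k := ⟨e * (CharInduce.inertia M (ψ : M → ℂ)).index, by
          have h3 : p ^ k = e * (CharInduce.inertia M (ψ : M → ℂ)).index * d := by exact_mod_cast hcl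
          rw [h3, mul_comm]⟩
        obtain ⟨j, -, hj⟩ := (Nat.dvd_prime_pow hp).1 h2
        exact ⟨j, by rw [hd, hj, Nat.cast_pow]⟩
      obtain ⟨A, hAn, hAab, hAcop, k, hk⟩ := ih _ hlt M rfl hdegM
      haveI := hAn
      have hmem : ∀ a : M, a ∈ A ↔ Nat.Coprime (orderOf a) p := fun a =>
        Fusion.mem_iff_coprime_orderOf (fun h => by
          have := Nat.Prime.coprime_iff_not_dvd hp |>.1 hAcop.symm
          exact this h) (IsPGroup.of_card (n := k) (by rw [← Subgroup.index_eq_card, hk]))
      refine ⟨A.map M.subtype, ⟨fun y hy g => ?_⟩, ?_, ?_, k + 1, ?_⟩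
      · obtain ⟨a, ha, rfl⟩ := Subgroup.mem_map.1 hy
        refine ⟨⟨g * a * g⁻¹, hMn.conj_mem _ a.2 g⟩, ?_, rfl⟩
        have e1 : orderOf (g * (a : G) * g⁻¹) = orderOf (a : G) :=
          MulEquiv.orderOf_eq (MulAut.conj g) (a : G)
        rw [SetLike.mem_coe, hmem, Subgroup.orderOf_mk, e1, Subgroup.orderOf_coe, ← hmem]
        exact ha
      · intro a ha b hb
        obtain ⟨a', ha', rfl⟩ := Subgroup.mem_map.1 ha
        obtain ⟨b', hb', rfl⟩ := Subgroup.mem_map.1 hb
        rw [← map_mul, ← map_mul, hAab _ ha' _ hb']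
      · rwa [Nat.card_congr (A.equivMapOfInjective M.subtype Subtype.val_injective).symm.toEquiv]
      · rw [Subgroup.index_map_subtype, hk, hMi, pow_succ]
    · refine ⟨⊤, inferInstance, ?_, ?_, 0, by rw [Subgroup.index_top, pow_zero]⟩
      · have hlin : ∀ χ : Cfsg.IrrCharacter G, (χ : G → ℂ) 1 = 1 := by
          intro χ
          obtain ⟨k, hk⟩ := hdeg χ
          obtain ⟨m, -, hm, hdvd, -⟩ := CharBasic.IsIrr.degree_dvd χ.2
          rcases Nat.eq_zero_or_pos k with rfl | hk0
          · simpa using hk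
          · rw [hm] at hk
            have : m = p ^ k := by exact_mod_cast hk
            exact absurd ((dvd_pow_self p hk0.ne').trans (this ▸ hdvd)) hpG
        exact fun a _ b _ => CharBasic.commutative_iff_forall_linear.2 hlin a b
      · rw [Subgroup.card_top]
        exact (hp.coprime_iff_not_dvd.2 hpG).symm


/-- For a finite group G and a prime p: every irreducible character of G has degree a power of p if and only if G has an abelian normal subgroup whose order is prime to p and whose index is a power of p. -/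
theorem result {G : Type*} [Group G] [Finite G] (p : ℕ) (hp : p.Prime) : (∀ χ : Cfsg.IrrCharacter G, ∃ k : ℕ, (χ : G → ℂ) 1 = (p : ℂ) ^ k) ↔ ∃ A : Subgroup G, A.Normal ∧ (∀ a ∈ A, ∀ b ∈ A, a * b = b * a) ∧ Nat.Coprime (Nat.card A) p ∧ ∃ k : ℕ, A.index = p ^ k := by
  classical
  haveI : Fact p.Prime := ⟨hp⟩
  constructor
  · exact forward _ G rfl
  · rintro ⟨A, hA, hab, -, k, hk⟩ χ
    haveI := hA
    obtain ⟨n, ρ, hρ, hχ⟩ := χ.2
    haveI := hρ
    have hd := S0169.result ρ A hab
    rw [hk] at hd
    obtain ⟨j, -, hj⟩ := (Nat.dvd_prime_pow hp).1 hd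
    exact ⟨j, by rw [← hχ, Representation.char_one, hj, Nat.cast_pow]⟩

end Cfsg.Agent.S0855
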