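import Cfsg.Statements.S4466
import Cfsg.Agent.S4441
import Cfsg.Agent.H36.DegreeEq
import Cfsg.Agent.H84.PrimeDegreeCenter
import Cfsg.Agent.BlockBasic.Local
import Cfsg.Agent.CharInduce.Induce

set_option autoImplicit false
open Cfsg

namespace Cfsg.Agent.S4466

open Cfsg.Agent Cfsg.Agent.CharBasic

universe u

theorem simple_step {S : Type u} [Group S] [Finite S] [IsSimpleGroup S] (hS : ¬ IsMulCommutative S)
    (h : ∀ χ : IrrCharacter S, charDegree (χ : S → ℂ) ≠ 1 → (charDegree (χ : S → ℂ)).Prime) :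
    False := by
  classical
  haveI := Fintype.ofFinite S
  haveI : Finite (IrrCharacter S) := finite_irrCharacter
  haveI := Fintype.ofFinite (IrrCharacter S)
  have hnt : ∀ χ : IrrCharacter S, χ ≠ H36.SelfCentral.triv S → charDegree (χ : S → ℂ) ≠ 1 := by
    intro χ hχ h1
    obtain ⟨d, hd, he, -⟩ := H36.SelfCentral.exists_degree_two_le hS hχ
    rw [(H83.charDegree_eq χ.2).1, h1, Nat.cast_one, eq_comm, Nat.cast_eq_one] at he
    omega
  have hZ : Subgroup.center S = ⊥ := (Subgroup.Normal.eq_bot_or_eq_top inferInstance).resolve_right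
    fun ht => hS ⟨⟨fun a b => Subgroup.mem_center_iff.1 (ht ▸ Subgroup.mem_top b) a⟩⟩
  have hsq : ∀ χ : IrrCharacter S, charDegree (χ : S → ℂ) ≠ 1 →
      charDegree (χ : S → ℂ) ∣ Nat.card S ∧ ¬ charDegree (χ : S → ℂ) ^ 2 ∣ Nat.card S := by
    intro χ hd
    refine ⟨H83.charDegree_dvd_card χ.2, fun hdiv => H84.center_ne_bot_of_prime_degree _ (h χ hd) χ
      (H83.charDegree_eq χ.2).1 (fun g hg => H36.SelfCentral.ker_trivial (fun e => hd ?_) hg)
      hdiv hZ⟩
    rw [e, Cfsg.charDegree]
    simp [H36.SelfCentral.triv]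
  have hsylow : ∀ d : ℕ, d.Prime → d ∣ Nat.card S → ¬ d ^ 2 ∣ Nat.card S → ∀ P : Sylow d S,
      Nat.card (P : Subgroup S) = d := by
    intro d hd h1 h2 P
    haveI := Fact.mk hd
    have h3 := P.dvd_card_of_dvd_card h1
    obtain ⟨j, hj⟩ := IsPGroup.iff_card.1 P.isPGroup'
    rw [hj] at h3 ⊢
    have h4 : j ≠ 0 := fun e => by rw [e, pow_zero] at h3; exact hd.one_lt.ne' (Nat.dvd_one.1 h3)
    have h5 : ¬ 2 ≤ j := fun e => h2 ((pow_dvd_pow d e).trans
      (hj ▸ Subgroup.card_subgroup_dvd_card (P : Subgroup S)))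
    rw [show j = 1 by omega, pow_one]
  have hne2 : ∀ χ : IrrCharacter S, charDegree (χ : S → ℂ) ≠ 2 := by
    intro χ h2
    obtain ⟨h3, h4⟩ := hsq χ (by omega)
    rw [h2] at h3 h4
    haveI := Fact.mk Nat.prime_two
    obtain ⟨P⟩ : Nonempty (Sylow 2 S) := inferInstance
    have hP := hsylow 2 Nat.prime_two h3 h4 P
    have hlt := H36.one_lt_relIndex_centralizer hS P h3
    refine hlt.ne' (Subgroup.relIndex_eq_one.2 fun g hg => ?_)
    rw [Subgroup.mem_centralizer_iff]
    intro x hx
    rcases eq_or_ne x 1 with rfl | hx1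
    · rw [one_mul, mul_one]
    have hy := (Subgroup.mem_normalizer_iff.1 hg x).1 hx
    obtain ⟨y, -, huniq⟩ := (Nat.card_eq_two_iff' (1 : (P : Subgroup S))).1 hP
    have e1 := huniq ⟨x, hx⟩ (fun e => hx1 (congrArg Subtype.val e))
    have e2 := huniq ⟨g * x * g⁻¹, hy⟩ (fun e => hx1 (conj_eq_one_iff.1 (congrArg Subtype.val e)))
    have e3 : g * x * g⁻¹ = x := congrArg Subtype.val (e2.trans e1.symm)
    rw [mul_inv_eq_iff_eq_mul] at e3
    exact e3.symm
  haveI : Nontrivial S := IsSimpleGroup.toNontrivial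
  obtain ⟨g, hg⟩ := exists_ne (1 : S)
  obtain ⟨χ₀, hχ₀⟩ := exists_irr_ne_of_ne_one hg
  have hχ₀t : χ₀ ≠ H36.SelfCentral.triv S := fun e => hχ₀ (by rw [e]; rfl)
  obtain ⟨μ, -, hmax⟩ := Finset.exists_max_image (Finset.univ : Finset (IrrCharacter S))
    (fun χ => charDegree (χ : S → ℂ)) ⟨χ₀, Finset.mem_univ _⟩
  set p := charDegree (μ : S → ℂ) with hpdef
  have hp1 : p ≠ 1 := by
    intro e
    have h1 := hmax χ₀ (Finset.mem_univ _)
    have h2 := (H83.charDegree_eq χ₀.2).2
    have h3 := hnt χ₀ hχ₀t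
    omega
  have hp : p.Prime := h μ hp1
  haveI := Fact.mk hp
  have hp2 : p ≠ 2 := hne2 μ
  obtain ⟨hpG, hp2G⟩ := hsq μ hp1
  obtain ⟨P⟩ : Nonempty (Sylow p S) := inferInstance
  have hP := hsylow p hp hpG hp2G P
  obtain ⟨M, hM⟩ := BlockBasic.exists_isPModular hp
  obtain ⟨X, Y, -, -, hX, -, εX, ε, hXv, -⟩ := Cfsg.Agent.S4441.result p M hM hp2 P hP _ rfl
  have hXt : X ⊆ {H36.SelfCentral.triv S} := by
    intro χ hχ
    by_contra hne
    obtain ⟨hε, hmod, -⟩ := hXv χ hχ
    have hd := hnt χ hne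
    have hdp := h χ hd
    have hdle := hmax χ (Finset.mem_univ _)
    have hd2 := hne2 χ
    have htwo := hdp.two_le
    set d := charDegree (χ : S → ℂ)
    have hdvd := hmod.dvd
    rcases hε with e | e <;> rw [e] at hdvd
    · rcases eq_or_lt_of_le hdle with e1 | e1
      · rw [e1] at hdvd
        have h3 : (p : ℤ) ∣ 1 := by simpa using dvd_add hdvd (dvd_refl (p : ℤ))
        exact hp.one_lt.ne' (Nat.dvd_one.1 (Int.natCast_dvd_natCast.1 (by simpa using h3)))
      · have h3 : (p : ℤ) ∣ ((d - 1 : ℕ) : ℤ) := by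
          rw [Nat.cast_sub (by omega)]
          simpa using hdvd.neg_right
        have := Nat.le_of_dvd (by omega) (Int.natCast_dvd_natCast.1 h3)
        omega
    · have h3 : (p : ℤ) ∣ ((d + 1 : ℕ) : ℤ) := by
        push_cast
        simpa [sub_eq_add_neg, add_comm] using hdvd.neg_right
      obtain ⟨k, hk⟩ := Int.natCast_dvd_natCast.1 h3
      rcases hdp.eq_two_or_odd with e1 | e1
      · exact hd2 e1
      rcases hp.eq_two_or_odd with e2 | e2
      · exact hp2 e2
      have hk1 : k = 1 := by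
        rcases k with _ | _ | k
        · simp at hk
        · rfl
        · nlinarith [hk, hdle, htwo]
      subst hk1
      omega
  have hlt := H36.one_lt_relIndex_centralizer hS P hpG
  rw [← hX, Nat.card_coe_set_eq] at hlt
  have := Set.ncard_le_ncard hXt
  rw [Set.ncard_singleton] at this
  omega

theorem main : ∀ (n : ℕ) (G : Type u) [Group G] [Finite G], Nat.card G = n →
    (∀ χ : IrrCharacter G, charDegree (χ : G → ℂ) ≠ 1 → (charDegree (χ : G → ℂ)).Prime) →
    Group.IsSolvable G := by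
  intro n
  induction n using Nat.strong_induction_on with
  | _ n ih =>
    intro G _ _ hn h
    haveI := Fintype.ofFinite G
    by_contra hns
    haveI : Nontrivial G := not_subsingleton_iff_nontrivial.1 fun hs => hns inferInstance
    by_cases hN : ∀ N : Subgroup G, N.Normal → N = ⊥ ∨ N = ⊤
    · haveI : IsSimpleGroup G := ⟨hN⟩
      exact simple_step (fun hc => hns (by open scoped IsMulCommutative in exact inferInstance)) h
    push Not at hN
    obtain ⟨N, hNn, hNb, hNt⟩ := hN
    haveI := hNn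
    haveI := Fintype.ofFinite N
    haveI := Fintype.ofFinite (G ⧸ N)
    haveI h1 : Group.IsSolvable N := by
      refine ih _ ?_ N rfl fun θ hθ => ?_
      · rw [← hn]
        exact lt_of_le_of_ne (Nat.le_of_dvd Nat.card_pos N.card_subgroup_dvd_card)
          fun e => hNt (Subgroup.eq_top_of_card_eq N e)
      · have h0 : indFun N (θ : N → ℂ) ≠ 0 := fun e => by
          have h2 := congrFun e 1
          rw [CharInduce.indFun_one, Pi.zero_apply, mul_eq_zero] at h2
          rcases h2 with h2 | h2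
          · exact Subgroup.index_ne_zero_of_finite (Nat.cast_eq_zero.1 h2)
          · exact IsIrr.one_ne_zero θ.2 h2
        obtain ⟨ψ, hψ⟩ := CharInduce.exists_constituent
          (CharInduce.IsChar.ind N (IsIrr.isCharacter θ.2)) h0
        have hne : classInner (fun x : N => (ψ : G → ℂ) x) (θ : N → ℂ) ≠ 0 := by
          rw [CharInduce.classInner_indFun_left N _ _ (IsIrr.isClassFunction ψ.2)] at hψ
          intro e
          exact hψ (by rw [← classInner_conj_symm, e, map_zero])
        obtain ⟨c, hc⟩ := classInner_isChar_nat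
          (CharInduce.IsChar.res (IsIrr.isCharacter ψ.2) N) (IsIrr.isCharacter θ.2)
        have h2 := CharInduce.clifford_degree N ψ.2 θ.2 hne
        rw [hc, (H83.charDegree_eq ψ.2).1, (H83.charDegree_eq θ.2).1] at h2
        have h3 : charDegree (θ : N → ℂ) ∣ charDegree (ψ : G → ℂ) :=
          ⟨c * (CharInduce.inertia N (θ : N → ℂ)).index,
            Nat.cast_injective (R := ℂ) (by push_cast; rw [h2]; ring)⟩
        have h4 : charDegree (ψ : G → ℂ) ≠ 1 := fun e => hθ (Nat.dvd_one.1 (e ▸ h3))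
        rcases (Nat.dvd_prime (h ψ h4)).1 h3 with e | e
        · exact absurd e hθ
        · exact e ▸ h ψ h4
    haveI h2 : Group.IsSolvable (G ⧸ N) := by
      refine ih _ ?_ (G ⧸ N) rfl fun θ hθ => ?_
      · rw [← hn, Subgroup.card_eq_card_quotient_mul_card_subgroup N]
        exact lt_mul_of_one_lt_right Nat.card_pos ((Subgroup.one_lt_card_iff_ne_bot N).2 hNb)
      · have := h ⟨_, CharInduce.IsIrr.comp θ.2 (QuotientGroup.mk' N)
          (QuotientGroup.mk'_surjective N)⟩
        simp only [Cfsg.charDegree, map_one] at this hθ ⊢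
        exact this hθ
    exact hns (Group.isSolvable_of_ker_le_range N.subtype (QuotientGroup.mk' N) (by simp))

/-- If every irreducible character of the finite group G of degree greater than one has prime degree, then G is solvable. -/
theorem result {G : Type*} [Group G] [Finite G] (h : ∀ χ : Cfsg.IrrCharacter G, Cfsg.charDegree (χ : G → ℂ) ≠ 1 → (Cfsg.charDegree (χ : G → ℂ)).Prime) : Group.IsSolvable G := by
  exact main _ G rfl h

end Cfsg.Agent.S4466
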