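import Cfsg.Statements.S4813
import Cfsg.Agent.S4466
import Cfsg.Agent.S0855
import Cfsg.Agent.H80.FullyRamified
import Cfsg.Agent.CharInduce.CoprimeExt

set_option autoImplicit false
open Cfsg

namespace Cfsg.Agent.S4813

open Cfsg.Agent Cfsg.Agent.CharBasic
open scoped ComplexConjugate

universe u

variable {G : Type u} [Group G] [Finite G]

theorem deg_one_iff {χ : IrrCharacter G} : charDegree (χ : G → ℂ) = 1 ↔ (χ : G → ℂ) 1 = 1 := by
  rw [(H83.charDegree_eq χ.2).1, Nat.cast_eq_one]

/-- A constituent of the restriction to a normal subgroup of prime index. -/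
theorem constituent_spec [Fintype G] (N : Subgroup G) [N.Normal] [Fintype N] {p : ℕ} (hp : p.Prime)
    (hN : N.index = p) (χ : IrrCharacter G) (θ : IrrCharacter N)
    (hne : classInner (fun x : N => (χ : G → ℂ) x) (θ : N → ℂ) ≠ 0) :
    ((∀ x : G, CharInduce.conjFun N (θ : N → ℂ) x = θ) ∧
        charDegree (χ : G → ℂ) = charDegree (θ : N → ℂ)) ∨
      (p ∣ charDegree (χ : G → ℂ) ∧ p * charDegree (θ : N → ℂ) ≤ charDegree (χ : G → ℂ)) := by
  haveI := Fact.mk hp
  have hcyc : IsCyclic (G ⧸ N) :=
    isCyclic_of_prime_card (p := p) (by rw [← Subgroup.index_eq_card, hN])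
  have hd := Subgroup.index_dvd_of_le (CharInduce.le_inertia N (IsIrr.isClassFunction θ.2))
  rw [hN, Nat.dvd_prime hp] at hd
  rcases hd with hI | hI
  · rw [Subgroup.index_eq_one] at hI
    have hinv : ∀ x : G, CharInduce.conjFun N (θ : N → ℂ) x = θ := fun x =>
      (CharInduce.mem_inertia N).1 (hI ▸ Subgroup.mem_top x)
    refine Or.inl ⟨hinv, ?_⟩
    have habove : χ ∈ CharInduce.above N (θ : N → ℂ) := by
      rw [CharInduce.mem_above,
        CharInduce.classInner_indFun_left N _ _ (IsIrr.isClassFunction χ.2)]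
      intro e
      exact hne (by rw [← classInner_conj_symm, e, map_zero])
    have h := (H80.FullyRamified.above_invariant_cyclic θ.2 hinv hcyc).2 χ habove 1
    rw [OneMemClass.coe_one, (H83.charDegree_eq χ.2).1, (H83.charDegree_eq θ.2).1] at h
    exact_mod_cast h
  · obtain ⟨c, hc⟩ := classInner_isChar_nat
      (CharInduce.IsChar.res (IsIrr.isCharacter χ.2) N) (IsIrr.isCharacter θ.2)
    have h2 := CharInduce.clifford_degree N χ.2 θ.2 hne
    rw [hc, hI, (H83.charDegree_eq χ.2).1, (H83.charDegree_eq θ.2).1] at h2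
    have h3 : charDegree (χ : G → ℂ) = c * p * charDegree (θ : N → ℂ) := by exact_mod_cast h2
    have hc0 : 1 ≤ c := Nat.one_le_iff_ne_zero.2 fun e => hne (by rw [hc, e, Nat.cast_zero])
    refine Or.inr ⟨⟨c * charDegree (θ : N → ℂ), by rw [h3]; ring⟩, ?_⟩
    rw [h3]
    exact Nat.mul_le_mul_right _ (Nat.le_mul_of_pos_left p hc0)

theorem exists_over [Fintype G] (N : Subgroup G) [Fintype N] (θ : IrrCharacter N) :
    ∃ χ : IrrCharacter G, classInner (fun x : N => (χ : G → ℂ) x) (θ : N → ℂ) ≠ 0 := by
  have h0 : indFun N (θ : N → ℂ) ≠ 0 := fun e => by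
    have h2 := congrFun e 1
    rw [CharInduce.indFun_one, Pi.zero_apply, mul_eq_zero] at h2
    rcases h2 with h2 | h2
    · exact Subgroup.index_ne_zero_of_finite (Nat.cast_eq_zero.1 h2)
    · exact IsIrr.one_ne_zero θ.2 h2
  obtain ⟨ψ, hψ⟩ := CharInduce.exists_constituent
    (CharInduce.IsChar.ind N (IsIrr.isCharacter θ.2)) h0
  refine ⟨ψ, fun e => hψ ?_⟩
  rw [CharInduce.classInner_indFun_left N _ _ (IsIrr.isClassFunction ψ.2), ← classInner_conj_symm, e,
    map_zero]

/-- A nonlinear character vanishing off the kernel of a character of prime order `r` has degree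
divisible by `r`. -/
theorem dvd_of_vanish [Fintype G] (ν : G →* ℂˣ) {r : ℕ} (hr : r.Prime) (hν : orderOf ν = r)
    (θ : IrrCharacter G) (hvan : ∀ x, ν x ≠ 1 → (θ : G → ℂ) x = 0) :
    r ∣ charDegree (θ : G → ℂ) := by
  classical
  haveI := Fact.mk hr
  haveI : IsCyclic ν.range :=
    isCyclic_of_injective_ringHom ((Units.coeHom ℂ).comp ν.range.subtype)
      (Units.val_injective.comp Subtype.val_injective)
  have hexp : Monoid.exponent ν.range ∣ r := Monoid.exponent_dvd_of_forall_pow_eq_one fun x => by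
    obtain ⟨g, hg⟩ := x.2
    refine Subtype.ext ?_
    rw [Subgroup.coe_pow, ← hg, Subgroup.coe_one]
    have := DFunLike.congr_fun (pow_orderOf_eq_one ν) g
    rw [hν] at this
    simpa using this
  rw [IsCyclic.exponent_eq_card, ← Subgroup.index_ker] at hexp
  have hidx : ν.ker.index = r := ((Nat.dvd_prime hr).1 hexp).resolve_left fun h1 => by
    rw [Subgroup.index_eq_one, MonoidHom.ker_eq_top_iff] at h1
    rw [h1, orderOf_one] at hν
    exact hr.one_lt.ne hν
  haveI := Fintype.ofFinite ν.ker
  obtain ⟨φ, hφ⟩ := CharInduce.exists_constituent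
    (CharInduce.IsChar.res (IsIrr.isCharacter θ.2) ν.ker) (fun e => IsIrr.one_ne_zero θ.2 (by
      simpa using congrFun e 1))
  rcases constituent_spec ν.ker hr hidx θ φ hφ with ⟨hinv, -⟩ | h
  · exfalso
    have hcyc : IsCyclic (G ⧸ ν.ker) :=
      isCyclic_of_prime_card (p := r) (by rw [← Subgroup.index_eq_card, hidx])
    have habove : θ ∈ CharInduce.above ν.ker (φ : ν.ker → ℂ) := by
      rw [CharInduce.mem_above,
        CharInduce.classInner_indFun_left ν.ker _ _ (IsIrr.isClassFunction θ.2)]
      intro e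
      exact hφ (by rw [← classInner_conj_symm, e, map_zero])
    have hres := (H80.FullyRamified.above_invariant_cyclic φ.2 hinv hcyc).2 θ habove
    have htot := classInner_irr_self θ.2
    have hin := classInner_irr_self φ.2
    rw [classInner_def, ← Finset.sum_subset (Finset.subset_univ
      (Finset.univ.filter (· ∈ ν.ker))) (fun x _ hx => by
        rw [hvan x (by simpa using hx), zero_mul]),
      Finset.sum_subtype (Finset.univ.filter (· ∈ ν.ker)) (p := (· ∈ ν.ker)) (F := inferInstance)
        (fun x => by simp)] at htot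
    simp only [hres] at htot
    rw [classInner_def, inv_mul_eq_one₀ (CharInduce.card_ne_zero_complex _)] at hin
    rw [← hin, inv_mul_eq_one₀ (CharInduce.card_ne_zero_complex _), ← ν.ker.index_mul_card,
      Nat.cast_mul, hidx] at htot
    have h1 : (r : ℂ) = 1 := mul_right_cancel₀ (CharInduce.card_ne_zero_complex ν.ker)
      (by rw [one_mul]; exact htot)
    exact hr.one_lt.ne' (by exact_mod_cast h1)
  · exact h.1

theorem main : ∀ (n : ℕ) (G : Type u) [Group G] [Finite G], Nat.card G = n →
    (∀ χ : IrrCharacter G, charDegree (χ : G → ℂ) ≠ 1 → (charDegree (χ : G → ℂ)).Prime) →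
    ∃ a b : ℕ, ∀ χ : IrrCharacter G, charDegree (χ : G → ℂ) = 1 ∨
      charDegree (χ : G → ℂ) = a ∨ charDegree (χ : G → ℂ) = b := by
  intro n
  induction n using Nat.strong_induction_on with
  | _ n ih =>
    intro G _ _ hn h
    classical
    haveI := Fintype.ofFinite G
    by_cases hG : commutator G = ⊤
    · haveI := Cfsg.Agent.S4466.main _ G rfl h
      haveI : Subsingleton G := by
        by_contra hs
        rw [not_subsingleton_iff_nontrivial] at hs
        exact (Group.IsSolvable.commutator_lt_top_of_nontrivial G).ne hG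
      refine ⟨1, 1, fun χ => Or.inl (deg_one_iff.2 ?_)⟩
      exact CharInduce.IsIrr.degree_one_of_comm (fun a b => Subsingleton.elim _ _) χ.2
    obtain ⟨p, hp, hpd⟩ := Nat.exists_prime_and_dvd (fun e => hG (Subgroup.index_eq_one.1 e))
    haveI := Fact.mk hp
    obtain ⟨N, hNn, hNi⟩ := S0855.exists_normal_index_prime hpd
    haveI := hNn
    haveI := Fintype.ofFinite N
    have hlin : ∀ θ : IrrCharacter N, charDegree (θ : N → ℂ) ≠ 1 →
        (∀ x : G, CharInduce.conjFun N (θ : N → ℂ) x = θ) ∧ (charDegree (θ : N → ℂ)).Prime := by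
      intro θ hθ
      obtain ⟨χ, hχ⟩ := exists_over N θ
      rcases constituent_spec N hp hNi χ θ hχ with ⟨hinv, he⟩ | ⟨hd, hle⟩
      · exact ⟨hinv, he ▸ h χ (he ▸ hθ)⟩
      · exfalso
        have h1 : charDegree (χ : G → ℂ) ≠ 1 := fun e => hp.one_lt.ne' (Nat.dvd_one.1 (e ▸ hd))
        have h2 := ((Nat.prime_dvd_prime_iff_eq hp (h χ h1)).1 hd)
        have h3 := (H83.charDegree_eq θ.2).2
        rw [← h2] at hle
        have h4 : charDegree (θ : N → ℂ) ≤ 1 := Nat.le_of_mul_le_mul_left (by linarith) hp.pos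
        omega
    by_cases hA : ∀ l : N →* ℂˣ, ∀ x : G,
        CharInduce.conjFun N (fun y : N => (l y : ℂ)) x = fun y => (l y : ℂ)
    · obtain ⟨a, b, hab⟩ := ih _ (by
        rw [← hn, ← N.index_mul_card, hNi]
        exact lt_mul_left Nat.card_pos hp.one_lt) N rfl fun θ hθ => (hlin θ hθ).2
      refine ⟨a, b, fun χ => ?_⟩
      obtain ⟨θ, hθ⟩ := CharInduce.exists_constituent
        (CharInduce.IsChar.res (IsIrr.isCharacter χ.2) N) (fun e => IsIrr.one_ne_zero χ.2 (by
          simpa using congrFun e 1))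
      rcases constituent_spec N hp hNi χ θ hθ with ⟨-, he⟩ | ⟨hd, -⟩
      · exact he ▸ hab θ
      · have hcyc : IsCyclic (G ⧸ N) :=
          isCyclic_of_prime_card (p := p) (by rw [← Subgroup.index_eq_card, hNi])
        have hinv : ∀ x : G, CharInduce.conjFun N (θ : N → ℂ) x = θ := by
          by_cases h1 : charDegree (θ : N → ℂ) = 1
          · obtain ⟨l, hl⟩ := CharInduce.IsChar.exists_hom_of_degree_one (IsIrr.isCharacter θ.2)
              (deg_one_iff.1 h1)
            rw [show (θ : N → ℂ) = fun y => (l y : ℂ) from funext hl]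
            exact hA l
          · exact (hlin θ h1).1
        have habove : χ ∈ CharInduce.above N (θ : N → ℂ) := by
          rw [CharInduce.mem_above,
            CharInduce.classInner_indFun_left N _ _ (IsIrr.isClassFunction χ.2)]
          intro e
          exact hθ (by rw [← classInner_conj_symm, e, map_zero])
        have he := (H80.FullyRamified.above_invariant_cyclic θ.2 hinv hcyc).2 χ habove 1
        rw [OneMemClass.coe_one, (H83.charDegree_eq χ.2).1, (H83.charDegree_eq θ.2).1,
          Nat.cast_inj] at he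
        exact he ▸ hab θ
    push Not at hA
    obtain ⟨l, g, hl⟩ := hA
    set lg : N →* ℂˣ := l.comp (MulAut.conjNormal g).toMonoidHom with hlg
    set ψ : N →* ℂˣ := lg * l⁻¹ with hψ
    have hψ1 : ψ ≠ 1 := fun e => hl (funext fun y => by
      have h1 := DFunLike.congr_fun e y
      rw [hψ, MonoidHom.mul_apply, MonoidHom.inv_apply, MonoidHom.one_apply, mul_inv_eq_one] at h1
      exact congrArg Units.val h1)
    have hfin : IsOfFinOrder ψ := orderOf_pos_iff.1 (CharInduce.orderOf_hom_pos ψ)
    obtain ⟨r, hr, hrd⟩ := Nat.exists_prime_and_dvd (fun e => hψ1 ((orderOf_eq_one_iff (x := ψ)).1 e))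
    set ν := ψ ^ (orderOf ψ / r) with hνdef
    have hν : orderOf ν = r := orderOf_pow_orderOf_div (CharInduce.orderOf_hom_pos ψ).ne' hrd
    refine ⟨p, r, fun χ => ?_⟩
    obtain ⟨θ, hθ⟩ := CharInduce.exists_constituent
      (CharInduce.IsChar.res (IsIrr.isCharacter χ.2) N) (fun e => IsIrr.one_ne_zero χ.2 (by
        simpa using congrFun e 1))
    rcases constituent_spec N hp hNi χ θ hθ with ⟨hinv, he⟩ | ⟨hd, -⟩
    · by_cases h1 : charDegree (θ : N → ℂ) = 1
      · exact Or.inl (he.trans h1)
      refine Or.inr (Or.inr ?_)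
      obtain ⟨-, hprime⟩ := hlin θ h1
      rw [he]
      refine ((Nat.prime_dvd_prime_iff_eq hr hprime).1 (dvd_of_vanish ν hr hν θ fun y hy => ?_)).symm
      set φ : IrrCharacter N := ⟨_, CharInduce.isIrr_hom_mul θ.2 l⟩ with hφ
      have h2 : charDegree (φ : N → ℂ) = charDegree (θ : N → ℂ) := by
        simp [Cfsg.charDegree, hφ]
      have h3 := congrFun ((hlin φ (h2 ▸ h1)).1 g) y
      have h4 := congrFun (hinv g) y
      simp only [CharInduce.conjFun] at h3 h4
      by_contra hne
      refine hy ?_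
      have h5 : (lg y : ℂ) = (l y : ℂ) := by
        simp only [hφ] at h3
        rw [h4] at h3
        exact mul_right_cancel₀ hne h3
      rw [hνdef, MonoidHom.pow_apply, hψ, MonoidHom.mul_apply, MonoidHom.inv_apply,
        Units.ext h5, mul_inv_cancel, one_pow]
    · by_cases h1 : charDegree (χ : G → ℂ) = 1
      · exact Or.inl h1
      · exact Or.inr (Or.inl ((Nat.prime_dvd_prime_iff_eq hp (h χ h1)).1 hd).symm)

/-- If every irreducible complex character of the finite group G of degree greater than one has prime degree, then G has at most three distinct irreducible character degrees. -/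
theorem result {G : Type*} [Group G] [Finite G] (hprime : ∀ d ∈ Cfsg.charDegrees G, d = 1 ∨ d.Prime) : Nat.card ↥(Cfsg.charDegrees G) ≤ 3 := by
  obtain ⟨a, b, hab⟩ := main _ G rfl fun χ hχ => (hprime _ ⟨χ, rfl⟩).resolve_left hχ
  have hsub : Cfsg.charDegrees G ⊆ ({1, a, b} : Finset ℕ) := by
    rintro d ⟨χ, rfl⟩
    rcases hab χ with e | e | e <;> simp [e]
  rw [Nat.card_coe_set_eq]
  refine (Set.ncard_le_ncard hsub (Finset.finite_toSet _)).trans ?_
  rw [Set.ncard_coe_finset]
  exact Finset.card_le_three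

end Cfsg.Agent.S4813
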