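import Cfsg.Statements.S2010
import Cfsg.Agent.Cores.Constrained
import Cfsg.Agent.Cores.Residual
import Mathlib.GroupTheory.Index
import Mathlib.GroupTheory.GroupAction.Quotient

set_option autoImplicit false
set_option linter.style.haveILetI false
open Cfsg

namespace Cfsg.Agent.S2010

open Subgroup Cfsg.Agent.Cores
open scoped commutatorElement

variable {G : Type*} [Group G]

/-- Iterating a shift by a fixed element. -/
theorem shift_pow {g x u : G} (h : g * x * g⁻¹ = x * u) (hu : Commute g u) (n : ℕ) :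
    g ^ n * x * (g ^ n)⁻¹ = x * u ^ n := by
  induction n with
  | zero => simp
  | succ n ih =>
    have h2 : g * u ^ n * g⁻¹ = u ^ n := by
      rw [(hu.pow_right n).eq, mul_inv_cancel_right]
    calc g ^ (n + 1) * x * (g ^ (n + 1))⁻¹ = g * (g ^ n * x * (g ^ n)⁻¹) * g⁻¹ := by
          rw [pow_succ']; group
      _ = g * x * g⁻¹ * (g * u ^ n * g⁻¹) := by rw [ih]; group
      _ = x * u ^ (n + 1) := by rw [h, h2, pow_succ', mul_assoc]

/-- An odd-order element moving `x` by a fixed 2-element fixes `x`. -/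
theorem odd_fix {g x u : G} (hg : Odd (orderOf g)) (h : g * x * g⁻¹ = x * u) (hu : Commute g u)
    {k : ℕ} (hk : u ^ 2 ^ k = 1) : Commute g x := by
  have h1 := shift_pow h hu (orderOf g)
  rw [pow_orderOf_eq_one, inv_one, one_mul, mul_one] at h1
  have h2 : u ^ orderOf g = 1 := by simpa using h1.symm
  have h3 : orderOf u = 1 := Nat.eq_one_of_dvd_coprimes
    ((Nat.coprime_two_left.mpr hg).pow_left k) (orderOf_dvd_of_pow_eq_one hk)
    (orderOf_dvd_of_pow_eq_one h2)
  rw [orderOf_eq_one_iff.mp h3, mul_one, mul_inv_eq_iff_eq_mul] at h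
  exact h

theorem eq_one_of_odd {K : Subgroup G} (hK : IsPGroup 2 K) {g : G} (hg : g ∈ K)
    (ho : Odd (orderOf g)) : g = 1 := by
  obtain ⟨k, hk⟩ := isPGroup_iff_orderOf_dvd_pow.mp hK ⟨g, hg⟩
  rw [Subgroup.orderOf_mk] at hk
  exact orderOf_eq_one_iff.mp (Nat.eq_one_of_dvd_coprimes
    ((Nat.coprime_two_left.mpr ho).pow_left k) hk dvd_rfl)

theorem exists_odd_pow [Finite G] (g : G) :
    ∃ k : ℕ, Odd (orderOf (g ^ 2 ^ k)) ∧ orderOf (g ^ 2 ^ k) * 2 ^ k = orderOf g := by
  have hn : orderOf g ≠ 0 := (orderOf_pos g).ne'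
  refine ⟨(orderOf g).factorization 2, ?_, ?_⟩
  · rw [orderOf_pow_of_dvd (by positivity) (Nat.ordProj_dvd _ 2)]
    exact Nat.coprime_two_left.mp (Nat.coprime_ordCompl Nat.prime_two hn)
  · rw [orderOf_pow_of_dvd (by positivity) (Nat.ordProj_dvd _ 2)]
    exact Nat.div_mul_cancel (Nat.ordProj_dvd _ 2)

theorem commute_of_sq {W : Subgroup G} (hW : Odd (Nat.card W)) {a w : G} (hw : w ∈ W)
    (h : Commute a (w * w)) : Commute a w := by
  have hdvd : orderOf w ∣ Nat.card W := by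
    rw [← Subgroup.orderOf_mk w hw]; exact orderOf_dvd_natCard _
  obtain ⟨m, hm⟩ := hW
  have h1 : w = (w * w) ^ (m + 1) := by
    rw [← sq, ← pow_mul, show 2 * (m + 1) = Nat.card W + 1 by omega, pow_succ,
      orderOf_dvd_iff_pow_eq_one.mp hdvd, one_mul]
  rw [h1]
  exact h.pow_right _

/-- Four-group lemma: if `a`, `b`, `ab` have the same fixed points in `W` (inside `C(B)`), then
`a` fixes everything. -/
theorem fours [Finite G] (W U : Subgroup G) [W.Normal] (hnil : Group.IsNilpotent W)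
    (hW : Odd (Nat.card W)) (hUW : U ≤ W) (A : Subgroup G)
    (hA : ∀ x ∈ A, x * x = 1) (hAc : ∀ x ∈ A, ∀ y ∈ A, Commute x y)
    (hAU : ∀ x ∈ A, ∀ u ∈ U, x * u * x⁻¹ ∈ U)
    {a b : G} (ha : a ∈ A) (hb : b ∈ A)
    (hfix : ∀ c ∈ [a, b, a * b], ∀ u ∈ U, Commute c u → u ∈ centralizer (A : Set G)) :
    U ≤ centralizer (A : Set G) := by
  obtain ⟨N, hN⟩ := hnil.nilpotent
  set Zs : ℕ → Subgroup G := fun n => (Subgroup.upperCentralSeries W n).map W.subtype with hZs
  suffices ∀ n, ∀ u ∈ U, u ∈ Zs n → u ∈ centralizer (A : Set G) from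
    fun u hu => this N u hu ⟨⟨u, hUW hu⟩, by rw [hN]; exact Subgroup.mem_top _, rfl⟩
  intro n
  induction n with
  | zero =>
    intro u _ hu
    simp only [hZs, Subgroup.upperCentralSeries_zero, Subgroup.map_bot, Subgroup.mem_bot] at hu
    rw [hu]; exact one_mem _
  | succ n ih =>
    intro u hu hun
    have hcomm : ∀ v ∈ U, ⁅u, v⁆ ∈ Zs n := by
      intro v hv
      obtain ⟨⟨u', hu'⟩, hmem, rfl⟩ := hun
      exact ⟨_, Subgroup.mem_upperCentralSeries_succ_iff.mp hmem ⟨v, hUW hv⟩, rfl⟩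
    have hZn : ∀ v w : G, v ∈ U → v ∈ Zs n → w ∈ A → Commute w v := fun v w hv hv' hw =>
      (ih v hv hv') w hw
    -- `u * cuc⁻¹` is fixed by `A` for `c = a, b, ab`
    have key : ∀ c ∈ [a, b, a * b], u * (c * u * c⁻¹) ∈ centralizer (A : Set G) := by
      intro c hc
      have hcA : c ∈ A := by
        simp only [List.mem_cons, List.not_mem_nil, or_false] at hc
        rcases hc with rfl | rfl | rfl
        exacts [ha, hb, mul_mem ha hb]
      have hcu : c * u * c⁻¹ ∈ U := hAU c hcA u hu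
      have ht : u * (c * u * c⁻¹) ∈ U := mul_mem hu hcu
      refine hfix c hc _ ht ?_
      set z := ⁅u, c * u * c⁻¹⁆ with hz
      have hzU : z ∈ U := mul_mem (mul_mem (mul_mem hu hcu) (inv_mem hu)) (inv_mem hcu)
      have hzc : Commute c z := hZn z c hzU (hcomm _ hcu) hcA
      have hcc : c⁻¹ = c := inv_eq_of_mul_eq_one_right (hA c hcA)
      have h1 : c * z * c⁻¹ = z⁻¹ := by
        rw [hz, commutatorElement_def, hcc]
        have : c * c = 1 := hA c hcA
        simp only [mul_inv_rev, inv_inv, hcc]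
        simp only [mul_assoc]
        simp only [← mul_assoc c c, this, one_mul, mul_one]
      rw [hzc.eq, mul_inv_cancel_right] at h1
      have hzW : z ∈ W := hUW hzU
      have hz1 : z = 1 := by
        have h2 : orderOf z ∣ 2 := orderOf_dvd_of_pow_eq_one (by
          rw [sq]; exact mul_eq_one_iff_eq_inv.mpr h1)
        have h3 : orderOf z ∣ Nat.card W := by
          rw [← Subgroup.orderOf_mk z hzW]; exact orderOf_dvd_natCard _
        exact orderOf_eq_one_iff.mp
          (Nat.eq_one_of_dvd_coprimes (Nat.coprime_two_left.mpr hW) h2 h3)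
      rw [hz, commutatorElement_eq_one_iff_commute] at hz1
      change c * (u * (c * u * c⁻¹)) = u * (c * u * c⁻¹) * c
      have hcc1 : c * c = 1 := hA c hcA
      have hcu' := hz1.eq
      rw [hcc] at hcu' ⊢
      rw [hcu']
      simp only [mul_assoc] at hcu' ⊢
      simp only [hcc1, ← mul_assoc c c, one_mul]
      rw [hcu', ← mul_assoc c c, hcc1, one_mul]
    have ha' : a⁻¹ = a := inv_eq_of_mul_eq_one_right (hA a ha)
    set c₁ := u * (a * u * a⁻¹) with hc₁
    set c₂ := u * (b * u * b⁻¹) with hc₂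
    set c₃ := u * (a * b * u * (a * b)⁻¹) with hc₃
    have h1 := key a (by simp)
    have h2 := key b (by simp)
    have h3 := key (a * b) (by simp)
    -- `a b u = c₁⁻¹ u c₂`
    have h4 : a * b * u * (a * b)⁻¹ = c₁⁻¹ * u * c₂ := by
      have hac : a * c₂ * a⁻¹ = c₂ := by
        rw [h2 a ha, mul_inv_cancel_right]
      calc a * b * u * (a * b)⁻¹ = a * (u⁻¹ * c₂) * a⁻¹ := by rw [hc₂]; group
        _ = (a * u⁻¹ * a⁻¹) * (a * c₂ * a⁻¹) := by group
        _ = c₁⁻¹ * u * c₂ := by rw [hac, hc₁]; group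
    have h5 : c₃ = u * (c₁⁻¹ * u * c₂) := by rw [hc₃, h4]
    have hc₁U : c₁ ∈ U := mul_mem hu (hAU a ha u hu)
    have hz1U : c₁ * u * c₁⁻¹ * u⁻¹ ∈ U :=
      mul_mem (mul_mem (mul_mem hc₁U hu) (inv_mem hc₁U)) (inv_mem hu)
    set z := ⁅u, c₁⁻¹⁆ with hz
    have hzU : z ∈ U := mul_mem (mul_mem (mul_mem hu (inv_mem hc₁U)) (inv_mem hu))
      (inv_mem (inv_mem hc₁U))
    have hzC : z ∈ centralizer (A : Set G) := ih z hzU (hcomm _ (inv_mem hc₁U))
    -- `c₃ = z c₁⁻¹ u u c₂`
    have h6 : u * u = (z * c₁⁻¹)⁻¹ * c₃ * c₂⁻¹ := by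
      rw [h5, hz, commutatorElement_def]; group
    have h7 : u * u ∈ centralizer (A : Set G) := by
      rw [h6]
      exact mul_mem (mul_mem (inv_mem (mul_mem hzC (inv_mem h1))) h3) (inv_mem h2)
    exact fun x hx => commute_of_sq hW (hUW hu) (h7 x hx)

/-- An elementary abelian 2-group acting nontrivially on a nilpotent group of odd order has a
hyperplane whose fixed points are not centralized by the whole group. -/
theorem exists_hyperplane [Finite G] (W : Subgroup G) [W.Normal] (hnil : Group.IsNilpotent W)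
    (hW : Odd (Nat.card W)) (A : Subgroup G) (hA : ∀ x ∈ A, x * x = 1)
    (hne : ∃ w ∈ W, w ∉ centralizer (A : Set G)) :
    ∃ B ≤ A, ∃ a ∈ A, ∃ w ∈ W, (∀ x ∈ A, x ∈ B ∨ x * a ∈ B) ∧ a ∉ B ∧
      (∀ b ∈ B, Commute b w) ∧ ¬ Commute a w := by
  have hAc : ∀ x ∈ A, ∀ y ∈ A, Commute x y := by
    intro x hx y hy
    have h := hA _ (mul_mem hx hy)
    have hx' : x⁻¹ = x := inv_eq_of_mul_eq_one_right (hA x hx)
    have hy' : y⁻¹ = y := inv_eq_of_mul_eq_one_right (hA y hy)
    have h' : (x * y)⁻¹ = x * y := inv_eq_of_mul_eq_one_right h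
    rw [mul_inv_rev, hx', hy'] at h'
    exact h'.symm
  set S := {B : Subgroup G | B ≤ A ∧ ∃ w ∈ W, (∀ b ∈ B, Commute b w) ∧
    w ∉ centralizer (A : Set G)} with hS
  obtain ⟨B, hB⟩ := (Set.toFinite S).exists_maximal ⟨⊥, bot_le, by
    obtain ⟨w, hw, hw'⟩ := hne
    exact ⟨w, hw, fun b hb => by rw [Subgroup.mem_bot.mp hb]; exact Commute.one_left w, hw'⟩⟩
  obtain ⟨hBA, w, hw, hwB, hwA⟩ := hB.1
  obtain ⟨a, ha, haw⟩ : ∃ a ∈ A, ¬ Commute a w := by
    by_contra! hc
    exact hwA fun x hx => hc x hx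
  have haB : a ∉ B := fun h => haw (hwB a h)
  by_cases hhyp : ∀ x ∈ A, x ∈ B ∨ x * a ∈ B
  · exact ⟨B, hBA, a, ha, w, hw, hhyp, haB, hwB, haw⟩
  exfalso
  push Not at hhyp
  obtain ⟨b, hb, hbB, hbaB⟩ := hhyp
  set U := W ⊓ centralizer (B : Set G) with hU
  have hwU : w ∈ U := ⟨hw, fun x hx => hwB x hx⟩
  refine haw (fours W U hnil hW inf_le_left A hA hAc ?_ ha hb ?_ hwU a ha)
  · intro x hx u hu
    refine ⟨(inferInstance : W.Normal).conj_mem u hu.1 x, fun y hy => ?_⟩
    have hxy : Commute y x := hAc y (hBA hy) x hx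
    have hyu : Commute y u := hu.2 y hy
    exact ((hxy.mul_right hyu).mul_right hxy.inv_right).eq
  · intro c hc u hu hcu
    have hcA : c ∈ A := by
      simp only [List.mem_cons, List.not_mem_nil, or_false] at hc
      rcases hc with rfl | rfl | rfl
      exacts [ha, hb, mul_mem ha hb]
    have hcB : c ∉ B := by
      simp only [List.mem_cons, List.not_mem_nil, or_false] at hc
      rcases hc with rfl | rfl | rfl
      · exact haB
      · exact hbB
      · rw [(hAc a ha b hb).eq]; exact hbaB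
    by_contra hcon
    have hle : B ⊔ zpowers c ≤ B := by
      refine hB.2 ⟨sup_le hBA (zpowers_le.mpr hcA), u, hu.1, ?_, hcon⟩ le_sup_left
      intro y hy
      have : B ⊔ zpowers c ≤ centralizer ({u} : Set G) :=
        sup_le (fun z hz => mem_centralizer_singleton_iff.mpr ((hu.2 z hz : z * u = u * z)))
          (zpowers_le.mpr (mem_centralizer_singleton_iff.mpr hcu.eq))
      exact mem_centralizer_singleton_iff.mp (this hy)
    exact hcB (hle (mem_sup_right (mem_zpowers c)))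

/-- A four group with a fixed-point-free element of order 3 and an involution inverting it gives
a section isomorphic to `Perm (Fin 4)`. -/
theorem involves_s4 [Finite G] (I : Subgroup G) (hI : Nat.card I = 4)
    (hI2 : ∀ x ∈ I, x * x = 1) (h a : G)
    (hh : orderOf h = 3) (ha : a * a = 1) (hinv : a * h * a⁻¹ = h⁻¹)
    (hnh : ∀ x ∈ I, h * x * h⁻¹ ∈ I) (hna : ∀ x ∈ I, a * x * a⁻¹ ∈ I)
    (hfpf : ∀ x ∈ I, Commute h x → x = 1) :
    Cfsg.Involves (Equiv.Perm (Fin 4)) G := by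
  have ha' : a⁻¹ = a := inv_eq_of_mul_eq_one_right ha
  have hh3 : h ^ 3 = 1 := by rw [← hh]; exact pow_orderOf_eq_one h
  have hh1 : h ≠ 1 := by intro hc; rw [hc, orderOf_one] at hh; omega
  set D := zpowers h ⊔ zpowers a with hD
  set K := I ⊔ D with hK
  have hDI : D ≤ normalizer (I : Set G) := by
    refine sup_le (zpowers_le.mpr ?_) (zpowers_le.mpr ?_)
    · exact (mem_normalizer_fintype hnh)
    · exact (mem_normalizer_fintype hna)
  have haD : ∀ x ∈ zpowers h, a * x * a⁻¹ ∈ zpowers h := by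
    rintro _ ⟨i, rfl⟩
    exact ⟨-i, by simp only [← conj_zpow, hinv, inv_zpow']⟩
  have haN : zpowers a ≤ normalizer (zpowers h : Set G) :=
    zpowers_le.mpr (mem_normalizer_fintype haD)
  -- elements of `D`
  have hDmem : ∀ d ∈ D, d ∈ zpowers h ∨ ∃ x ∈ zpowers h, d = x * a := by
    intro d hd
    rw [hD, ← SetLike.mem_coe, coe_mul_of_right_le_normalizer_left _ _ haN] at hd
    obtain ⟨x, hx, y, hy, rfl⟩ := hd
    obtain ⟨i, rfl⟩ := hy
    rcases Int.even_or_odd i with ⟨j, rfl⟩ | ⟨j, rfl⟩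
    · left
      rw [show (fun k => a ^ k) (j + j) = (1 : G) by
        simp only; rw [← two_mul, zpow_mul, zpow_two, ha, one_zpow]]
      simpa using hx
    · right
      refine ⟨x, hx, ?_⟩
      simp only
      rw [zpow_add_one, zpow_mul, zpow_two, ha, one_zpow, one_mul]
  have hhI : ∀ x ∈ zpowers h, (∀ i ∈ I, Commute x i) → x = 1 := by
    intro x hx hxI
    by_contra hne
    obtain ⟨i, hi, hine⟩ : ∃ i ∈ I, i ≠ 1 := by
      by_contra! hc
      have : I = ⊥ := (Subgroup.eq_bot_iff_forall I).mpr hc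
      rw [this, Subgroup.card_bot] at hI; omega
    have hmem : h ∈ zpowers x := by
      have hox : orderOf x = 3 := by
        have hdvd : orderOf x ∣ 3 := by
          obtain ⟨j, rfl⟩ := hx
          exact orderOf_dvd_of_pow_eq_one (by
            show (h ^ j) ^ 3 = 1
            rw [← zpow_natCast, ← zpow_mul, mul_comm, zpow_mul, zpow_natCast, hh3, one_zpow])
        rcases (Nat.dvd_prime Nat.prime_three).mp hdvd with h1 | h1
        · exact absurd (orderOf_eq_one_iff.mp h1) hne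
        · exact h1
      have hle : zpowers x = zpowers h := Subgroup.eq_of_le_of_card_ge (zpowers_le.mpr hx)
        (by rw [Nat.card_zpowers, Nat.card_zpowers, hox, hh])
      rw [hle]; exact mem_zpowers h
    obtain ⟨j, rfl⟩ := hmem
    exact hine (hfpf i hi ((hxI i hi).zpow_left j))
  have hDI1 : ∀ d ∈ D, (∀ i ∈ I, Commute d i) → d = 1 := by
    intro d hd hdI
    rcases hDmem d hd with hd' | ⟨x, hx, rfl⟩
    · exact hhI d hd' hdI
    exfalso
    -- `a` acts as `x⁻¹`, so `h` acts as its inverse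
    apply hh1
    have hsq : ∀ i ∈ I, Commute (h * h) i := by
      intro i hi
      have e1 : x * a * h * (x * a)⁻¹ = h⁻¹ := by
        obtain ⟨j, rfl⟩ := hx
        calc h ^ j * a * h * (h ^ j * a)⁻¹ = h ^ j * (a * h * a⁻¹) * (h ^ j)⁻¹ := by group
          _ = h⁻¹ := by rw [hinv]; group
      have hi' : h * i * h⁻¹ ∈ I := hnh i hi
      have c1 : x * a * i * (x * a)⁻¹ = i := by rw [(hdI i hi).eq, mul_inv_cancel_right]
      have c2 : x * a * (h * i * h⁻¹) * (x * a)⁻¹ = h * i * h⁻¹ := by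
        rw [(hdI _ hi').eq, mul_inv_cancel_right]
      have c3 : h⁻¹ * i * h = h * i * h⁻¹ := by
        calc h⁻¹ * i * h = (x * a * h * (x * a)⁻¹) * (x * a * i * (x * a)⁻¹) *
              (x * a * h * (x * a)⁻¹)⁻¹ := by rw [e1, c1, inv_inv]
          _ = h * i * h⁻¹ := by rw [← c2]; group
      calc h * h * i = h * (h * i * h⁻¹) * h := by group
        _ = i * (h * h) := by rw [← c3]; group
    have h2 : h * h = 1 := hhI _ (mul_mem (mem_zpowers h) (mem_zpowers h)) hsq
    rw [← hh3, pow_succ, sq, h2, one_mul]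
  have hID : I ⊓ D = ⊥ := by
    rw [Subgroup.eq_bot_iff_forall]
    rintro x ⟨hxI, hxD⟩
    refine hDI1 x hxD fun i hi => ?_
    -- `I` is abelian
    have hx' : x⁻¹ = x := inv_eq_of_mul_eq_one_right (hI2 x hxI)
    have hi' : i⁻¹ = i := inv_eq_of_mul_eq_one_right (hI2 i hi)
    have h' : (x * i)⁻¹ = x * i := inv_eq_of_mul_eq_one_right (hI2 _ (mul_mem hxI hi))
    rw [mul_inv_rev, hx', hi'] at h'
    exact h'.symm
  -- cards
  have hcardD : Nat.card D = 6 := by
    have hh' : zpowers a ≤ normalizer (zpowers h : Set G) := haN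
    haveI : ((zpowers h).subgroupOf D).Normal :=
      normal_subgroupOf_of_le_normalizer (sup_le le_normalizer haN)
    have hidx : ((zpowers h).subgroupOf D).index = 2 := by
      rw [index_eq_two_iff]
      refine ⟨⟨a, mem_sup_right (mem_zpowers a)⟩, fun d => ?_⟩
      have hanot : a ∉ zpowers h := fun hc => by
        obtain ⟨i, hi⟩ := hc
        have h1 : a * h * a⁻¹ = h := by
          rw [← hi]; group
        rw [h1] at hinv
        apply hh1
        rw [← hh3, pow_succ, sq]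
        nth_rewrite 3 [hinv]
        group
      rcases hDmem d d.2 with hd | ⟨x, hx, hd⟩
      · refine Or.inr ⟨hd, fun hc => hanot ?_⟩
        have h2 : (d : G) * a ∈ zpowers h := hc
        simpa using mul_mem (inv_mem hd) h2
      · refine Or.inl ⟨?_, fun hc => hanot ?_⟩
        · show (d : G) * a ∈ zpowers h
          rw [hd, mul_assoc, ha, mul_one]; exact hx
        · have h2 : (d : G) ∈ zpowers h := hc
          rw [hd] at h2
          simpa using mul_mem (inv_mem hx) h2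
    have h1 := card_mul_index ((zpowers h).subgroupOf D)
    rw [hidx, Nat.card_congr (subgroupOfEquivOfLe (show zpowers h ≤ D from le_sup_left)).toEquiv,
      Nat.card_zpowers, hh] at h1
    omega
  have hKI : K ≤ normalizer (I : Set G) := sup_le le_normalizer hDI
  haveI hIn : (I.subgroupOf K).Normal := normal_subgroupOf_of_le_normalizer hKI
  have hcardK : Nat.card K = 24 := by
    have hc : (I.subgroupOf K).IsComplement' (D.subgroupOf K) := by
      refine isComplement'_of_disjoint_and_mul_eq_univ ?_ ?_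
      · rw [disjoint_iff]
        refine (Subgroup.eq_bot_iff_forall _).mpr fun x hx => ?_
        have : (x : G) ∈ I ⊓ D := ⟨hx.1, hx.2⟩
        rw [hID] at this
        exact Subtype.ext (Subgroup.mem_bot.mp this)
      · rw [← normal_mul, ← subgroupOf_sup le_sup_left le_sup_right, subgroupOf_self, coe_top]
    rw [← hc.card_mul, Nat.card_congr (subgroupOfEquivOfLe (show I ≤ K from le_sup_left)).toEquiv,
      Nat.card_congr (subgroupOfEquivOfLe (show D ≤ K from le_sup_right)).toEquiv, hI, hcardD]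
  -- the action on the cosets of `D`
  set DK := D.subgroupOf K with hDK
  have hcardQ : Nat.card (K ⧸ DK) = 4 := by
    have h1 := card_mul_index DK
    rw [Subgroup.index_eq_card, hcardK,
      Nat.card_congr (subgroupOfEquivOfLe (show D ≤ K from le_sup_right)).toEquiv, hcardD] at h1
    omega
  let f := MulAction.toPermHom K (K ⧸ DK)
  have hker : f.ker = ⊥ := by
    rw [← Subgroup.normalCore_eq_ker]
    refine (Subgroup.eq_bot_iff_forall _).mpr fun x hx => ?_
    have hxD : (x : G) ∈ D := mem_subgroupOf.mp (normalCore_le DK hx)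
    refine Subtype.ext (hDI1 x hxD fun i hi => ?_)
    let i' : K := ⟨i, mem_sup_left hi⟩
    have hc1 : x * i' * x⁻¹ * i'⁻¹ ∈ DK.normalCore := by
      simpa [mul_assoc] using mul_mem hx
        ((normalCore_normal DK).conj_mem _ (inv_mem hx) i')
    have hc2 : (x : G) * i * (x : G)⁻¹ * i⁻¹ ∈ D := mem_subgroupOf.mp (normalCore_le DK hc1)
    have hc3 : (x : G) * i * (x : G)⁻¹ * i⁻¹ ∈ I :=
      mul_mem ((mem_normalizer_iff.mp (hKI x.2) i).mp hi) (inv_mem hi)
    have hc4 : (x : G) * i * (x : G)⁻¹ * i⁻¹ ∈ I ⊓ D := ⟨hc3, hc2⟩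
    rw [hID, Subgroup.mem_bot, mul_inv_eq_one, mul_inv_eq_iff_eq_mul] at hc4
    exact hc4
  have hinj : Function.Injective f := (f.ker_eq_bot_iff).mp hker
  have hbij : Function.Bijective f := by
    rw [Nat.bijective_iff_injective_and_card]
    exact ⟨hinj, by rw [Nat.card_perm, hcardQ, hcardK]; rfl⟩
  let e := ((MulEquiv.ofBijective f hbij).trans
    (Finite.equivFinOfCardEq hcardQ).permCongrHom)
  haveI : ((⊥ : Subgroup G).subgroupOf K).Normal := by
    rw [Subgroup.bot_subgroupOf]; infer_instance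
  exact ⟨K, ⊥, inferInstance,
    ⟨((QuotientGroup.quotientMulEquivOfEq (Subgroup.bot_subgroupOf K)).trans
      QuotientGroup.quotientBot).trans e⟩⟩

/-- `g` centralizing the involutions of the centre of a normal 2-subgroup `F` and acting trivially
on `F / Z(F)` centralizes `F`, if `g` has odd order. -/
theorem centralizes_of_odd [Finite G] {F : Subgroup G} [F.Normal] (hFp : IsPGroup 2 F) {g : G}
    (ho : Odd (orderOf g))
    (hV : ∀ z ∈ F ⊓ centralizer (F : Set G), z * z = 1 → Commute g z)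
    (hM : ∀ x ∈ F, x⁻¹ * (g * x * g⁻¹) ∈ F ⊓ centralizer (F : Set G)) :
    g ∈ centralizer (F : Set G) := by
  set Z := F ⊓ centralizer (F : Set G) with hZ
  haveI hZn : Z.Normal := inferInstance
  have hgZ : ∀ k : ℕ, ∀ z ∈ Z, z ^ 2 ^ k = 1 → Commute g z := by
    intro k
    induction k with
    | zero => intro z _ hz; simp only [pow_zero, pow_one] at hz; rw [hz]; exact Commute.one_right g
    | succ k ih =>
      intro z hz hk
      have hzg : g * z * g⁻¹ ∈ Z := hZn.conj_mem z hz g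
      have hw : Commute g (z * z) := ih _ (mul_mem hz hz)
        (by rw [← sq, ← pow_mul, ← pow_succ']; exact hk)
      have hc0 : Commute (g * z * g⁻¹) z := hz.2 _ hzg.1
      have hu2 : z⁻¹ * (g * z * g⁻¹) * (z⁻¹ * (g * z * g⁻¹)) = 1 := by
        calc z⁻¹ * (g * z * g⁻¹) * (z⁻¹ * (g * z * g⁻¹))
            = z⁻¹ * ((g * z * g⁻¹) * z⁻¹) * (g * z * g⁻¹) := by group
          _ = z⁻¹ * (z⁻¹ * (g * z * g⁻¹)) * (g * z * g⁻¹) := by rw [hc0.inv_right.eq]
          _ = (z * z)⁻¹ * (g * (z * z) * g⁻¹) := by group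
          _ = 1 := by rw [hw.eq]; group
      exact odd_fix ho (x := z) (u := z⁻¹ * (g * z * g⁻¹)) (by group)
        (hV _ (mul_mem (inv_mem hz) hzg) hu2) (k := 1) (by rw [pow_one, sq]; exact hu2)
  intro x hx
  have hu := hM x hx
  obtain ⟨k, hk⟩ := hFp ⟨_, hu.1⟩
  have hk' : (x⁻¹ * (g * x * g⁻¹)) ^ 2 ^ k = 1 := by simpa using congrArg Subtype.val hk
  exact (odd_fix ho (x := x) (u := x⁻¹ * (g * x * g⁻¹)) (by group) (hgZ k _ hu hk') hk').symm.eq

/-- An element of odd order centralizing a subgroup of index at most 4 of the normal elementary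
abelian `V` but not `V`, inverted by an involution, yields an `S₄`-section. -/
theorem s4_of_index_four [Finite G] (V E : Subgroup G) [V.Normal] (hV2 : ∀ x ∈ V, x * x = 1)
    (hEV : E ≤ V) (hcard : Nat.card V ≤ 4 * Nat.card E) {h a : G} (ho : Odd (orderOf h))
    (ha2 : a * a = 1) (hinv : a * h * a⁻¹ = h⁻¹) (hhE : ∀ v ∈ E, Commute h v)
    (hnotV : ¬ ∀ v ∈ V, Commute h v) (h3 : (∀ v ∈ V, Commute (h ^ 3) v) → h ^ 3 = 1) :
    Cfsg.Involves (Equiv.Perm (Fin 4)) G := by
  have hVc : ∀ x ∈ V, ∀ y ∈ V, Commute x y := by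
    intro x hx y hy
    have hx' : x⁻¹ = x := inv_eq_of_mul_eq_one_right (hV2 x hx)
    have hy' : y⁻¹ = y := inv_eq_of_mul_eq_one_right (hV2 y hy)
    have h' : (x * y)⁻¹ = x * y := inv_eq_of_mul_eq_one_right (hV2 _ (mul_mem hx hy))
    rw [mul_inv_rev, hx', hy'] at h'
    exact h'.symm
  have hVn : V.Normal := inferInstance
  let φ : V →* G :=
    { toFun := fun v => (v : G)⁻¹ * (h * v * h⁻¹)
      map_one' := by simp
      map_mul' := fun u v => by
        have h1 : Commute (v : G)⁻¹ ((u : G)⁻¹ * (h * u * h⁻¹)) :=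
          (hVc v v.2 _ (mul_mem (inv_mem u.2) (hVn.conj_mem _ u.2 h))).inv_left
        calc ((u * v : V) : G)⁻¹ * (h * (u * v : V) * h⁻¹)
            = (v : G)⁻¹ * ((u : G)⁻¹ * (h * u * h⁻¹)) * (h * v * h⁻¹) := by
              simp only [Subgroup.coe_mul]; group
          _ = (u : G)⁻¹ * (h * u * h⁻¹) * ((v : G)⁻¹ * (h * v * h⁻¹)) := by rw [h1.eq]; group }
  set I := φ.range with hI
  have hIV : I ≤ V := by
    rintro _ ⟨v, rfl⟩; exact mul_mem (inv_mem v.2) (hVn.conj_mem _ v.2 h)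
  have hker : E.subgroupOf V ≤ φ.ker := fun v hv => by
    show (v : G)⁻¹ * (h * v * h⁻¹) = 1
    rw [(hhE v hv).eq, mul_inv_cancel_right, inv_mul_cancel]
  have hIle : Nat.card I ≤ 4 := by
    have hd1 : φ.ker.index ∣ (E.subgroupOf V).index := index_dvd_of_le hker
    rw [index_ker] at hd1
    have hd2 := card_mul_index (E.subgroupOf V)
    rw [Nat.card_congr (subgroupOfEquivOfLe hEV).toEquiv] at hd2
    have hd3 : (E.subgroupOf V).index ≤ 4 :=
      Nat.le_of_mul_le_mul_left (by rw [hd2]; linarith) Nat.card_pos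
    exact (Nat.le_of_dvd (Nat.pos_of_ne_zero index_ne_zero_of_finite) hd1).trans hd3
  have hnh : ∀ x ∈ I, h * x * h⁻¹ ∈ I := by
    rintro _ ⟨v, rfl⟩
    exact ⟨⟨h * v * h⁻¹, hVn.conj_mem _ v.2 h⟩, by
      show (h * v * h⁻¹)⁻¹ * (h * (h * v * h⁻¹) * h⁻¹) = h * ((v : G)⁻¹ * (h * v * h⁻¹)) * h⁻¹
      group⟩
  have hna : ∀ x ∈ I, a * x * a⁻¹ ∈ I := by
    rintro _ ⟨v, rfl⟩
    set w₁ := a * (v : G) * a⁻¹ with hw₁
    have hw₁V : w₁ ∈ V := hVn.conj_mem _ v.2 a
    have h1 : a * φ v * a⁻¹ = w₁⁻¹ * (h⁻¹ * w₁ * h) := by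
      show a * ((v : G)⁻¹ * (h * v * h⁻¹)) * a⁻¹ = _
      calc a * ((v : G)⁻¹ * (h * v * h⁻¹)) * a⁻¹
          = w₁⁻¹ * ((a * h * a⁻¹) * w₁ * (a * h * a⁻¹)⁻¹) := by rw [hw₁]; group
        _ = _ := by rw [hinv, inv_inv]
    have hw₂V : h⁻¹ * w₁ * h ∈ V := by simpa using hVn.conj_mem _ hw₁V h⁻¹
    have h2 : (φ ⟨h⁻¹ * w₁ * h, hw₂V⟩)⁻¹ = w₁⁻¹ * (h⁻¹ * w₁ * h) := by
      show ((h⁻¹ * w₁ * h)⁻¹ * (h * (h⁻¹ * w₁ * h) * h⁻¹))⁻¹ = _
      group
    rw [h1, ← h2]
    exact inv_mem ⟨_, rfl⟩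
  have hfpf : ∀ x ∈ I, Commute h x → x = 1 := by
    rintro _ ⟨v, rfl⟩ hc
    have h1 : Commute h (v : G) := odd_fix ho (x := (v : G)) (u := φ v)
      (show h * v * h⁻¹ = v * ((v : G)⁻¹ * (h * v * h⁻¹)) by group) hc (k := 1)
      (by rw [pow_one, sq]; exact hV2 _ (hIV ⟨v, rfl⟩))
    show (v : G)⁻¹ * (h * v * h⁻¹) = 1
    rw [h1.eq, mul_inv_cancel_right, inv_mul_cancel]
  obtain ⟨v, hvV, hvh⟩ : ∃ v ∈ V, ¬ Commute h v := by
    by_contra! hc; exact hnotV hc
  set d := φ ⟨v, hvV⟩ with hd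
  have hd1 : d ≠ 1 := fun hc => hvh (by
    change v⁻¹ * (h * v * h⁻¹) = 1 at hc
    rw [inv_mul_eq_one, eq_mul_inv_iff_mul_eq] at hc
    exact hc.symm)
  have hdI : d ∈ I := ⟨_, rfl⟩
  set e := h * d * h⁻¹ with he
  have heI : e ∈ I := hnh d hdI
  have he1 : e ≠ 1 := fun hc => hd1 (by rwa [he, conj_eq_one_iff] at hc)
  have hed : e ≠ d := fun hc => hd1 (hfpf d hdI (mul_inv_eq_iff_eq_mul.mp hc))
  have hdd : d * d = 1 := hV2 d (hIV hdI)
  have hee : e * e = 1 := hV2 e (hIV heI)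
  have hcm : Commute e d := hVc e (hIV heI) d (hIV hdI)
  have hde1 : d * e ≠ 1 := fun hc => hed (by
    rw [← inv_eq_of_mul_eq_one_right hc, inv_eq_of_mul_eq_one_right hdd])
  have hded : d * e ≠ d := fun hc => he1 (mul_eq_left.mp hc)
  have hdee : d * e ≠ e := fun hc => hd1 (mul_eq_right.mp hc)
  have hsub : ({1, d, e, d * e} : Set G) ⊆ (I : Set G) := by
    intro x hx
    simp only [Set.mem_insert_iff, Set.mem_singleton_iff] at hx
    rcases hx with rfl | rfl | rfl | rfl
    exacts [one_mem _, hdI, heI, mul_mem hdI heI]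
  have hnc : ({1, d, e, d * e} : Set G).ncard = 4 := by
    rw [Set.ncard_insert_of_notMem (by simp [Ne.symm hd1, Ne.symm he1, Ne.symm hde1]),
      Set.ncard_insert_of_notMem (by simp [Ne.symm hed, Ne.symm hded]),
      Set.ncard_insert_of_notMem (by simp [Ne.symm hdee]), Set.ncard_singleton]
  have hI4 : Nat.card I = 4 := by
    refine le_antisymm hIle ?_
    rw [← hnc, ← SetLike.coe_sort_coe, Nat.card_coe_set_eq]
    exact Set.ncard_le_ncard hsub
  have hI3 : ∀ x ∈ I, x = 1 ∨ x = d ∨ x = e ∨ x = d * e := by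
    intro x hx
    have heq : ({1, d, e, d * e} : Set G) = (I : Set G) := Set.eq_of_subset_of_ncard_le hsub
      (by rw [hnc, ← Nat.card_coe_set_eq, SetLike.coe_sort_coe, hI4])
    have : x ∈ ({1, d, e, d * e} : Set G) := by rw [heq]; exact hx
    simpa using this
  have hhe : h * e * h⁻¹ = d * e := by
    rcases hI3 _ (hnh e heI) with h1 | h1 | h1 | h1
    · exact absurd ((conj_eq_one_iff).mp h1) he1
    · exfalso
      apply hd1
      refine hfpf d hdI ?_
      have h2 : Commute (h * h) d := mul_inv_eq_iff_eq_mul.mp (by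
        calc h * h * d * (h * h)⁻¹ = h * e * h⁻¹ := by rw [he]; group
          _ = d := h1)
      obtain ⟨m, hm⟩ := ho
      have hpow : h = (h * h) ^ (m + 1) := by
        rw [← sq, ← pow_mul, show 2 * (m + 1) = orderOf h + 1 by omega, pow_succ,
          pow_orderOf_eq_one, one_mul]
      rw [hpow]; exact h2.pow_left _
    · exact absurd (hfpf e heI (mul_inv_eq_iff_eq_mul.mp h1)) he1
    · exact h1
  have hhde : h * (d * e) * h⁻¹ = d := by
    rw [show h * (d * e) * h⁻¹ = h * d * h⁻¹ * (h * e * h⁻¹) by group, ← he, hhe,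
      ← mul_assoc, hcm.eq, mul_assoc, hee, mul_one]
  have hsum : ∀ x ∈ I, x * (h * x * h⁻¹) * (h * (h * x * h⁻¹) * h⁻¹) = 1 := by
    intro x hx
    rcases hI3 x hx with rfl | rfl | rfl | rfl
    · simp
    · rw [← he, hhe, mul_assoc d e (d * e), ← mul_assoc e d e, hcm.eq, mul_assoc d e e, hee,
        mul_one, hdd]
    · rw [hhe, hhde, ← mul_assoc e d e, hcm.eq, mul_assoc d e e, hee, mul_one, hdd]
    · rw [hhde, ← he, mul_assoc (d * e) d e]; exact hV2 _ (hIV (mul_mem hdI heI))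
  have hh1 : h ≠ 1 := fun hc => hnotV fun w _ => by rw [hc]; exact Commute.one_left w
  have hh3 : h ^ 3 = 1 := by
    refine h3 fun u hu => ?_
    have h1 := hsum (φ ⟨u, hu⟩) ⟨_, rfl⟩
    change u⁻¹ * (h * u * h⁻¹) * (h * (u⁻¹ * (h * u * h⁻¹)) * h⁻¹) *
      (h * (h * (u⁻¹ * (h * u * h⁻¹)) * h⁻¹) * h⁻¹) = 1 at h1
    have h4 : u⁻¹ * (h ^ 3 * u * (h ^ 3)⁻¹) = 1 := by
      rw [← h1]; simp only [pow_succ, pow_zero, one_mul]; group
    rw [inv_mul_eq_one, eq_mul_inv_iff_mul_eq] at h4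
    exact h4.symm
  exact involves_s4 I hI4 (fun x hx => hV2 x (hIV hx)) h a (orderOf_eq_prime hh3 hh1) ha2 hinv
    hnh hna hfpf

/-- In a solvable core-free `S₄`-free group with class-two Sylow 2-subgroup, elementary abelian
subgroups of largest order lie in the 2-core. -/
theorem elementary_le_pCore [Finite G] [hsolv : Group.IsSolvable G] (hO : pPrimeCore 2 G = ⊥)
    (hS4 : ¬ Cfsg.Involves (Equiv.Perm (Fin 4)) G) (S : Sylow 2 G)
    (hcl : ∀ x ∈ (S : Subgroup G), ∀ y ∈ (S : Subgroup G), ∀ z ∈ (S : Subgroup G),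
      Commute (x * y * x⁻¹ * y⁻¹) z)
    (A : Subgroup G) (hAS : A ≤ S) (hA2 : ∀ x ∈ A, x * x = 1)
    (hAc : ∀ x ∈ A, ∀ y ∈ A, Commute x y)
    (hmax : ∀ B : Subgroup G, B ≤ S → (∀ x ∈ B, x * x = 1) → Nat.card B ≤ Nat.card A) :
    A ≤ pCore 2 G := by
  haveI : Fact (Nat.Prime 2) := ⟨Nat.prime_two⟩
  set F := pCore 2 G with hF
  have hCF : centralizer (F : Set G) ≤ F := centralizer_pCore_le isPSolvable_of_isSolvable hO
  have hFS : F ≤ S := pCore_le_sylow S
  have hFp : IsPGroup 2 F := pCore_isPGroup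
  set Z := F ⊓ centralizer (F : Set G) with hZ
  haveI hZn : Z.Normal := inferInstance
  let V : Subgroup G :=
    { carrier := {z | z ∈ Z ∧ z * z = 1}
      one_mem' := ⟨one_mem _, one_mul 1⟩
      mul_mem' := fun {x y} hx hy => ⟨mul_mem hx.1 hy.1, by
        have h : Commute x y := (hy.1.2 x hx.1.1)
        rw [mul_assoc, ← mul_assoc y x y, ← h.eq, mul_assoc x y y, hy.2, mul_one, hx.2]⟩
      inv_mem' := fun {x} hx => ⟨inv_mem hx.1, by rw [← mul_inv_rev, hx.2, inv_one]⟩ }
  have hVF : V ≤ F := fun x hx => hx.1.1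
  have hV2 : ∀ x ∈ V, x * x = 1 := fun x hx => hx.2
  haveI hVn : V.Normal := ⟨fun x hx g => ⟨hZn.conj_mem x hx.1 g, by
    calc g * x * g⁻¹ * (g * x * g⁻¹) = g * (x * x) * g⁻¹ := by group
      _ = 1 := by rw [hx.2, mul_one, mul_inv_cancel]⟩⟩
  have hVc : ∀ x ∈ V, ∀ y ∈ F, Commute y x := fun x hx y hy => hx.1.2 y hy
  set M := (centralizer ((F.map (QuotientGroup.mk' Z) : Subgroup (G ⧸ Z)) : Set (G ⧸ Z))).comap
    (QuotientGroup.mk' Z) with hM
  haveI hMn : M.Normal := by
    haveI : (F.map (QuotientGroup.mk' Z)).Normal :=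
      (inferInstance : F.Normal).map _ (QuotientGroup.mk'_surjective Z)
    infer_instance
  have hMmem : ∀ g : G, g ∈ M ↔ ∀ x ∈ F, x⁻¹ * (g * x * g⁻¹) ∈ Z := by
    intro g
    rw [hM, Subgroup.mem_comap, mem_centralizer_iff]
    constructor
    · intro h x hx
      rw [← QuotientGroup.eq_one_iff]
      have h1 := h _ ⟨x, hx, rfl⟩
      change QuotientGroup.mk' Z (x⁻¹ * (g * x * g⁻¹)) = 1
      simp only [map_mul, map_inv]
      rw [← h1]; group
    · rintro h _ ⟨x, hx, rfl⟩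
      have h1 : QuotientGroup.mk' Z (x⁻¹ * (g * x * g⁻¹)) = 1 :=
        (QuotientGroup.eq_one_iff _).mpr (h x hx)
      simp only [map_mul, map_inv] at h1
      rw [inv_mul_eq_one] at h1
      nth_rewrite 1 [h1]
      rw [inv_mul_cancel_right]
  have hSM : (S : Subgroup G) ≤ M := by
    intro g hg
    rw [hMmem]
    intro x hx
    have hxS := hFS hx
    have hmem : x⁻¹ * (g * x * g⁻¹) ∈ F :=
      mul_mem (inv_mem hx) ((inferInstance : F.Normal).conj_mem x hx g)
    refine ⟨hmem, fun y hy => ?_⟩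
    have h1 := hcl x⁻¹ (inv_mem hxS) g hg y (hFS hy)
    have h2 : x⁻¹ * g * x⁻¹⁻¹ * g⁻¹ = x⁻¹ * (g * x * g⁻¹) := by group
    rw [h2] at h1
    exact h1.symm.eq
  have hKodd : ∀ g ∈ M, (∀ v ∈ V, Commute g v) → Odd (orderOf g) → g = 1 := fun g hg hgV ho =>
    eq_one_of_odd hFp (hCF (centralizes_of_odd hFp ho (fun z hz hz2 => hgV z ⟨hz, hz2⟩)
      ((hMmem g).mp hg))) ho
  have hquad : ∀ v ∈ V, ∀ b ∈ (S : Subgroup G), ∀ y ∈ (S : Subgroup G),
      Commute y (v⁻¹ * (b * v * b⁻¹)) := by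
    intro v hv b hb y hy
    have h1 := hcl v⁻¹ (inv_mem (hFS (hVF hv))) b hb y hy
    have h2 : v⁻¹ * b * v⁻¹⁻¹ * b⁻¹ = v⁻¹ * (b * v * b⁻¹) := by group
    rw [h2] at h1
    exact h1.symm
  -- the offender
  by_contra hAF
  set C₀ := A ⊓ F with hC₀
  let CV : Subgroup G → Subgroup G := fun X => V ⊓ centralizer (X : Set G)
  have hstart : Nat.card V * Nat.card C₀ ≤ Nat.card A * Nat.card (CV A) := by
    have hsq : ∀ x ∈ C₀ ⊔ V, x * x = 1 := by
      intro x hx
      rw [← SetLike.mem_coe, mul_normal] at hx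
      obtain ⟨c, hc, v, hv, rfl⟩ := hx
      show c * v * (c * v) = 1
      have h : Commute c v := hVc v hv c hc.2
      rw [mul_assoc, ← mul_assoc v c v, ← h.eq, mul_assoc c v v, hV2 v hv, mul_one, hA2 c hc.1]
    have h1 := hmax (C₀ ⊔ V) (sup_le (inf_le_left.trans hAS) (hVF.trans hFS)) hsq
    have h2 : Nat.card ↥(C₀ ⊓ V) ≤ Nat.card (CV A) :=
      Nat.le_of_dvd Nat.card_pos (card_dvd_of_le fun x hx =>
        ⟨hx.2, fun y hy => hAc y hy x hx.1.1⟩)
    have h3 := card_sup_mul_card_inf C₀ V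
    calc Nat.card V * Nat.card C₀ = Nat.card ↥(C₀ ⊔ V) * Nat.card ↥(C₀ ⊓ V) := by
          rw [h3, mul_comm]
      _ ≤ _ := Nat.mul_le_mul h1 h2
  set 𝒜 := {X : Subgroup G | C₀ ≤ X ∧ X ≤ A ∧ ¬ X ≤ F ∧
    Nat.card V * Nat.card C₀ ≤ Nat.card X * Nat.card (CV X)} with h𝒜
  obtain ⟨A₁, hA₁⟩ := (Set.toFinite 𝒜).exists_minimal ⟨A, inf_le_left, le_rfl, hAF, hstart⟩
  obtain ⟨hC₀A₁, hA₁A, hA₁F, hoff⟩ := hA₁.1
  have hA₁S : A₁ ≤ S := hA₁A.trans hAS
  -- pass to the quotient by `F`
  set π := QuotientGroup.mk' F with hπ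
  have hπker : ∀ g : G, π g = 1 ↔ g ∈ F := fun g => QuotientGroup.eq_one_iff g
  set Mb := M.map π with hMb
  haveI : Mb.Normal := hMn.map _ (QuotientGroup.mk'_surjective F)
  haveI : Group.IsSolvable (G ⧸ F) :=
    Group.isSolvable_of_surjective (QuotientGroup.mk'_surjective F)
  set W := (fittingSubgroup Mb).map Mb.subtype with hW
  haveI hWn : W.Normal := inferInstance
  have hWnil : Group.IsNilpotent W := (Group.isNilpotent_congr
    ((fittingSubgroup Mb).equivMapOfInjective Mb.subtype Mb.subtype_injective)).mp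
      fittingSubgroup_isNilpotent
  have hWodd : Odd (Nat.card W) := by
    rw [← Nat.not_even_iff_odd, even_iff_two_dvd]
    intro hd
    haveI := hWnil
    obtain ⟨P⟩ := (inferInstance : Nonempty (Sylow 2 W))
    have hP : (P : Subgroup W) ≤ pCore 2 W := le_pCore P.isPGroup'
    have hbot : pCore 2 W = ⊥ := by
      have h := map_pCore_le_of_normal (p := 2) W
      rw [pCore_quotient_pCore, le_bot_iff,
        Subgroup.map_eq_bot_iff_of_injective _ W.subtype_injective] at h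
      exact h
    exact P.ne_bot_of_dvd_card hd (le_bot_iff.mp (hbot ▸ hP))
  set Ab := A₁.map π with hAb
  have hAb2 : ∀ x ∈ Ab, x * x = 1 := by
    rintro _ ⟨x, hx, rfl⟩
    rw [← map_mul, hA2 x (hA₁A hx), map_one]
  have hne : ∃ w ∈ W, w ∉ centralizer (Ab : Set (G ⧸ F)) := by
    by_contra! hc
    apply hA₁F
    intro x hx
    rw [← hπker]
    have hxM : π x ∈ Mb := ⟨x, hSM (hA₁S hx), rfl⟩
    have hmem : (⟨π x, hxM⟩ : Mb) ∈ fittingSubgroup Mb := centralizer_fittingSubgroup_le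
      (fun y hy => Subtype.ext ((hc (y : G ⧸ F) ⟨y, hy, rfl⟩ (π x) ⟨x, hx, rfl⟩).symm))
    have hxW : π x ∈ W := ⟨_, hmem, rfl⟩
    have h1 : orderOf (π x) ∣ 2 := orderOf_dvd_of_pow_eq_one (by
      rw [sq]; exact hAb2 _ ⟨x, hx, rfl⟩)
    have h2 : orderOf (π x) ∣ Nat.card W := by
      rw [← Subgroup.orderOf_mk (π x) hxW]; exact orderOf_dvd_natCard _
    exact orderOf_eq_one_iff.mp
      (Nat.eq_one_of_dvd_coprimes (Nat.coprime_two_left.mpr hWodd) h1 h2)
  obtain ⟨Bb, hBbA, ab, habA, w, hwW, hhyp, habB, hBw, haw⟩ :=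
    exists_hyperplane W hWnil hWodd Ab hAb2 hne
  obtain ⟨a, ha, rfl⟩ := habA
  obtain ⟨g, hgM, rfl⟩ : w ∈ Mb := Subgroup.map_subtype_le _ hwW
  have ha2 : a * a = 1 := hA2 a (hA₁A ha)
  have ha' : a⁻¹ = a := inv_eq_of_mul_eq_one_right ha2
  set a' := g * a * g⁻¹ with hadef'
  have ha'2 : a' * a' = 1 := by
    calc a' * a' = g * (a * a) * g⁻¹ := by rw [hadef']; group
      _ = 1 := by rw [ha2, mul_one, mul_inv_cancel]
  set h₀ := a * a' with hh₀
  have hinv₀ : a * h₀ * a⁻¹ = h₀⁻¹ := by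
    rw [hh₀, ha', ← mul_assoc, ha2, one_mul, mul_inv_rev, ha', inv_eq_of_mul_eq_one_right ha'2]
  have hh₀M : h₀ ∈ M := mul_mem (hSM (hA₁S ha)) (hMn.conj_mem a (hSM (hA₁S ha)) g)
  have hπa' : (π a)⁻¹ = π a := by rw [← map_inv, ha']
  have hh₀W : π h₀ ∈ W := by
    have h1 : π h₀ = π a * π g * (π a)⁻¹ * (π g)⁻¹ := by
      simp only [hh₀, hadef', map_mul, map_inv, hπa']
      group
    rw [h1]
    exact mul_mem (hWn.conj_mem _ hwW _) (inv_mem hwW)
  have hh₀1 : π h₀ ≠ 1 := by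
    intro h1
    apply haw
    simp only [hh₀, hadef', map_mul, map_inv] at h1
    rw [mul_eq_one_iff_eq_inv, mul_inv_rev, mul_inv_rev, inv_inv, hπa', ← mul_assoc] at h1
    show π a * π g = π g * π a
    conv_lhs => rw [h1]
    simp [mul_assoc]
  obtain ⟨k, hko, hkord⟩ := exists_odd_pow h₀
  set h := h₀ ^ 2 ^ k with hh
  have hhM : h ∈ M := pow_mem hh₀M _
  have hhF : h ∉ F := by
    intro hc
    apply hh₀1
    have h1 : π h₀ ^ 2 ^ k = 1 := by rw [← map_pow]; exact (hπker _).mpr hc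
    have h2 : orderOf (π h₀) ∣ Nat.card W := by
      rw [← Subgroup.orderOf_mk (π h₀) hh₀W]; exact orderOf_dvd_natCard _
    exact orderOf_eq_one_iff.mp (Nat.eq_one_of_dvd_coprimes
      ((Nat.coprime_two_left.mpr hWodd).pow_left k) (orderOf_dvd_of_pow_eq_one h1) h2)
  have hinv : a * h * a⁻¹ = h⁻¹ := by rw [hh, ← conj_pow, hinv₀, inv_pow]
  set B₁ := A₁ ⊓ Bb.comap π with hB₁
  have hC₀B₁ : C₀ ≤ B₁ := fun x hx => ⟨hC₀A₁ hx, by
    show π x ∈ Bb
    rw [(hπker x).mpr hx.2]; exact one_mem _⟩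
  have hidx : B₁.relIndex A₁ = 2 := by
    rw [relIndex_eq_two_iff]
    refine ⟨a, ha, fun b hb => ?_⟩
    rcases hhyp (π b) ⟨b, hb, rfl⟩ with h1 | h1
    · exact Or.inr ⟨⟨hb, h1⟩, fun hc => habB (by
        have h2 : π (b * a) ∈ Bb := hc.2
        rw [map_mul] at h2
        simpa using mul_mem (inv_mem h1) h2)⟩
    · exact Or.inl ⟨⟨mul_mem hb ha, by
        show π (b * a) ∈ Bb
        rwa [map_mul]⟩, fun hc => habB (by
        simpa using mul_mem (inv_mem (show π b ∈ Bb from hc.2)) h1)⟩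
  have hcardB : Nat.card A₁ = Nat.card B₁ * 2 := by
    have h1 := relIndex_mul_relIndex ⊥ B₁ A₁ bot_le inf_le_left
    rw [relIndex_bot_left, relIndex_bot_left, hidx] at h1
    exact h1.symm
  -- anything commuting with `B₁` modulo `F` stabilizes `C_V(B₁)`
  have hstab : ∀ t : G, (∀ b ∈ B₁, Commute (π t) (π b)) →
      ∀ v ∈ CV B₁, t * v * t⁻¹ ∈ CV B₁ := by
    intro t ht v hv
    refine ⟨hVn.conj_mem v hv.1 t, fun b hb => ?_⟩
    have hf : b⁻¹ * (t⁻¹ * b * t) ∈ F := by
      rw [← hπker]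
      simp only [map_mul, map_inv]
      rw [show (π t)⁻¹ * π b * π t = π b by
        rw [mul_assoc, ← (ht b hb).eq, inv_mul_cancel_left], inv_mul_cancel]
    set f := b⁻¹ * (t⁻¹ * b * t) with hfdef
    have hfv : Commute f v := hVc v hv.1 f hf
    have hbv : Commute b v := hv.2 b hb
    show b * (t * v * t⁻¹) = t * v * t⁻¹ * b
    calc b * (t * v * t⁻¹) = t * ((b * f) * v) * t⁻¹ := by rw [hfdef]; group
      _ = t * (v * (b * f)) * t⁻¹ := by rw [(hbv.mul_left hfv).eq]
      _ = t * v * t⁻¹ * b := by rw [hfdef]; group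
  have hab : ∀ b ∈ B₁, Commute (π a) (π b) := fun b hb =>
    (hAc a (hA₁A ha) b (hA₁A hb.1)).map π
  have hgb : ∀ b ∈ B₁, Commute (π g) (π b) := fun b hb => (hBw (π b) hb.2).symm
  have ha'b : ∀ b ∈ B₁, Commute (π a') (π b) := fun b hb => by
    simp only [hadef', map_mul, map_inv]
    exact ((hgb b hb).mul_left (hab b hb)).mul_left (hgb b hb).inv_left
  have hhb : ∀ b ∈ B₁, Commute (π h) (π b) := fun b hb => by
    rw [hh, map_pow, hh₀, map_mul]
    exact ((hab b hb).mul_left (ha'b b hb)).pow_left _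
  have hnotV : ¬ ∀ v ∈ V, Commute h v := fun hc =>
    hhF (by rw [hKodd h hhM hc hko]; exact one_mem _)
  by_cases hB₁F : B₁ ≤ F
  · -- transvection case
    have hB₁eq : B₁ = C₀ := le_antisymm (fun x hx => ⟨hA₁A hx.1, hB₁F hx⟩) hC₀B₁
    rw [hB₁eq] at hcardB
    set E₁ := V ⊓ centralizer ({a} : Set G) with hE₁
    have hE₁le : CV A₁ ≤ E₁ := fun x hx =>
      ⟨hx.1, mem_centralizer_singleton_iff.mpr (hx.2 a ha).symm⟩
    have hVE₁ : Nat.card V ≤ 2 * Nat.card E₁ := by
      rw [hcardB, mul_assoc, mul_comm (Nat.card V)] at hoff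
      exact (Nat.le_of_mul_le_mul_left hoff Nat.card_pos).trans
        (Nat.mul_le_mul_left 2 (Nat.le_of_dvd Nat.card_pos (card_dvd_of_le hE₁le)))
    set E₂ := E₁.map (MulAut.conj g).toMonoidHom with hE₂
    have hE₂c : ∀ v ∈ E₂, Commute a' v := by
      rintro _ ⟨v, hv, rfl⟩
      have h1 : v * a = a * v := mem_centralizer_singleton_iff.mp hv.2
      show g * a * g⁻¹ * (g * v * g⁻¹) = g * v * g⁻¹ * (g * a * g⁻¹)
      calc g * a * g⁻¹ * (g * v * g⁻¹) = g * (a * v) * g⁻¹ := by group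
        _ = g * (v * a) * g⁻¹ := by rw [h1]
        _ = _ := by group
    have hE₂V : E₂ ≤ V := by rintro _ ⟨v, hv, rfl⟩; exact hVn.conj_mem v hv.1 g
    set E := E₁ ⊓ E₂ with hE
    have hhE : ∀ v ∈ E, Commute h v := fun v hv => by
      have h1 : Commute a v := (mem_centralizer_singleton_iff.mp hv.1.2).symm
      exact (h1.mul_left (hE₂c v hv.2)).pow_left _
    have hVE : Nat.card V ≤ 4 * Nat.card E := by
      have h1 : Nat.card E₁ * Nat.card E₂ ≤ Nat.card V * Nat.card E := by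
        haveI : (E₂.subgroupOf V).Normal := ⟨fun n hn x => by
          have h2 : x * n * x⁻¹ = n := Subtype.ext (by
            show (x : G) * n * (x : G)⁻¹ = n
            rw [(hVc n n.2 x (hVF x.2)).eq, mul_inv_cancel_right])
          rw [h2]; exact hn⟩
        have h3 := card_sup_mul_card_inf (E₁.subgroupOf V) (E₂.subgroupOf V)
        rw [Nat.card_congr (subgroupOfEquivOfLe (show E₁ ≤ V from inf_le_left)).toEquiv,
          Nat.card_congr (subgroupOfEquivOfLe hE₂V).toEquiv] at h3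
        rw [← h3]
        refine Nat.mul_le_mul (Nat.le_of_dvd Nat.card_pos (card_subgroup_dvd_card _)) (le_of_eq ?_)
        rw [show E₁.subgroupOf V ⊓ E₂.subgroupOf V = E.subgroupOf V from rfl,
          Nat.card_congr (subgroupOfEquivOfLe ((inf_le_left : E ≤ E₁).trans inf_le_left)).toEquiv]
      rw [card_map_eq E₁ (MulAut.conj g).injective] at h1
      nlinarith [hVE₁, h1, Nat.card_pos (α := V)]
    exact hS4 (s4_of_index_four V E hV2 ((inf_le_left : E ≤ E₁).trans inf_le_left) hVE hko ha2 hinv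
      hhE hnotV fun hc => hKodd _ (pow_mem hhM 3) hc (Odd.of_dvd_nat hko (orderOf_pow_dvd _)))
  · -- `P × Q`-argument
    have hlt : B₁ < A₁ := lt_of_le_of_ne inf_le_left fun he => by
      rw [he, relIndex_self] at hidx; omega
    have hnot : ¬ Nat.card V * Nat.card C₀ ≤ Nat.card B₁ * Nat.card (CV B₁) := fun hc =>
      hlt.not_ge (hA₁.2 ⟨hC₀B₁, inf_le_left.trans hA₁A, hB₁F, hc⟩ hlt.le)
    have hle : CV A₁ ≤ CV B₁ := fun x hx => ⟨hx.1, fun y hy => hx.2 y hy.1⟩
    have heq : CV A₁ = CV B₁ := by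
      refine Subgroup.eq_of_le_of_card_ge hle ?_
      have h1 : Nat.card B₁ * Nat.card (CV B₁) < Nat.card B₁ * (2 * Nat.card (CV A₁)) := by
        rw [← mul_assoc, ← hcardB]
        omega
      have h2 := Nat.lt_of_mul_lt_mul_left h1
      obtain ⟨d, hd⟩ := card_dvd_of_le hle
      rw [hd, mul_comm 2] at h2
      have h3 : d < 2 := Nat.lt_of_mul_lt_mul_left h2
      rw [hd]
      exact (Nat.mul_le_mul_left _ (by omega : d ≤ 1)).trans (mul_one _).le
    have hfixa : ∀ v ∈ CV B₁, Commute a v := fun v hv => by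
      rw [← heq] at hv; exact hv.2 a ha
    have hfixa' : ∀ v ∈ CV B₁, Commute a' v := by
      intro v hv
      have h1 := hfixa _ (hstab g⁻¹ (fun b hb => by rw [map_inv]; exact (hgb b hb).inv_left) v hv)
      rw [inv_inv] at h1
      calc a' * v = g * (a * (g⁻¹ * v * g)) * g⁻¹ := by rw [hadef']; group
        _ = g * (g⁻¹ * v * g * a) * g⁻¹ := by rw [h1.eq]
        _ = v * a' := by rw [hadef']; group
    have hfixh : ∀ v ∈ CV B₁, Commute h v := fun v hv =>
      (((hfixa v hv).mul_left (hfixa' v hv)).pow_left _)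
    refine hnotV fun v hv => ?_
    set d := v⁻¹ * (h * v * h⁻¹) with hd
    have hdV : d ∈ V := mul_mem (inv_mem hv) (hVn.conj_mem v hv h)
    have hdB : d ∈ CV B₁ := by
      refine ⟨hdV, fun b hb => ?_⟩
      have hbS : b ∈ (S : Subgroup G) := hA₁S hb.1
      set c := v⁻¹ * (b * v * b⁻¹) with hcdef
      have hc : c ∈ CV B₁ := ⟨V.mul_mem (V.inv_mem hv) (hVn.conj_mem v hv b),
        fun y hy => hquad v hv b hbS y (hA₁S hy.1)⟩
      have hhc : h * c * h⁻¹ = c := by rw [(hfixh c hc).eq, mul_inv_cancel_right]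
      have hf : b⁻¹ * (h⁻¹ * b * h) ∈ F := by
        rw [← hπker]
        simp only [map_mul, map_inv]
        rw [show (π h)⁻¹ * π b * π h = π b by
          rw [mul_assoc, ← (hhb b hb).eq, inv_mul_cancel_left], inv_mul_cancel]
      set f := b⁻¹ * (h⁻¹ * b * h) with hfdef
      have hfv : f * v * f⁻¹ = v := by rw [(hVc v hv f hf).eq, mul_inv_cancel_right]
      have h1 : b * (h * v * h⁻¹) * b⁻¹ = h * v * h⁻¹ * c := by
        calc b * (h * v * h⁻¹) * b⁻¹ = h * (b * (f * v * f⁻¹) * b⁻¹) * h⁻¹ := by rw [hfdef]; group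
          _ = h * v * h⁻¹ * (h * c * h⁻¹) := by rw [hfv, hcdef]; group
          _ = h * v * h⁻¹ * c := by rw [hhc]
      have hcv : Commute (h * v * h⁻¹) c := hVc c hc.1 _ (hVF (hVn.conj_mem v hv h))
      have hcv' : Commute v⁻¹ c := (hVc c hc.1 v (hVF hv)).inv_left
      show b * d = d * b
      calc b * d = (v * c)⁻¹ * (b * (h * v * h⁻¹) * b⁻¹) * b := by rw [hd, hcdef]; group
        _ = c⁻¹ * (v⁻¹ * c) * (h * v * h⁻¹) * b := by rw [h1, hcv.eq]; group
        _ = d * b := by rw [hcv'.eq, hd]; group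
    exact odd_fix hko (x := v) (u := d) (by rw [hd]; group) (hfixh d hdB) (k := 1)
      (by rw [pow_one, sq]; exact hV2 d hdV)

theorem involves_of_quotient [Finite G] (N : Subgroup G) [N.Normal]
    (h : Cfsg.Involves (Equiv.Perm (Fin 4)) (G ⧸ N)) :
    Cfsg.Involves (Equiv.Perm (Fin 4)) G := by
  obtain ⟨K, R, hR, ⟨e⟩⟩ := h
  let f := (QuotientGroup.mk' N).subgroupComap K
  let g := (QuotientGroup.mk' (R.subgroupOf K)).comp f
  have hg : Function.Surjective g :=
    (QuotientGroup.mk'_surjective _).comp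
      (MonoidHom.subgroupComap_surjective_of_surjective _ K (QuotientGroup.mk'_surjective N))
  have hker : g.ker =
      (R.comap (QuotientGroup.mk' N)).subgroupOf (K.comap (QuotientGroup.mk' N)) := by
    ext x
    rw [MonoidHom.mem_ker]
    exact QuotientGroup.eq_one_iff (f x)
  haveI : ((R.comap (QuotientGroup.mk' N)).subgroupOf (K.comap (QuotientGroup.mk' N))).Normal :=
    hker ▸ g.normal_ker
  exact ⟨_, _, inferInstance, ⟨((QuotientGroup.quotientMulEquivOfEq hker.symm).trans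
    (QuotientGroup.quotientKerEquivOfSurjective g hg)).trans e⟩⟩

/-- Let G be a finite solvable group with no section isomorphic to the symmetric group of degree 4, whose Sylow 2-subgroup S has nilpotency class at most 2. Then G = N_G(J_e(S)) · O_{2'}(G), where J_e(S) is the subgroup generated by the elementary abelian subgroups of S of largest order. -/
theorem result {G : Type*} [Group G] [Finite G]
    [Group.IsSolvable G] (hS4 : ¬ Cfsg.Involves (Equiv.Perm (Fin 4)) G) (S : Sylow 2 G)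
    (hcl : Subgroup.lowerCentralSeries (S : Subgroup G) 2 = ⊥) :
    Subgroup.normalizer ((Cfsg.thompsonSubgroupOf 2 (S : Subgroup G)) : Set G) ⊔ Cfsg.pPrimeCore 2 G = ⊤ := by
  haveI : Fact (Nat.Prime 2) := ⟨Nat.prime_two⟩
  set N := pPrimeCore 2 G with hN
  set π := QuotientGroup.mk' N with hπ
  set Sb : Sylow 2 (G ⧸ N) := S.mapSurjective (QuotientGroup.mk'_surjective N) with hSb
  have hSbcoe : (Sb : Subgroup (G ⧸ N)) = (S : Subgroup G).map π := rfl
  haveI : Group.IsSolvable (G ⧸ N) :=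
    Group.isSolvable_of_surjective (QuotientGroup.mk'_surjective N)
  have hO : pPrimeCore 2 (G ⧸ N) = ⊥ := pPrimeCore_quotient_pPrimeCore
  have hclass : ∀ x ∈ (S : Subgroup G), ∀ y ∈ (S : Subgroup G), ∀ z ∈ (S : Subgroup G),
      Commute (x * y * x⁻¹ * y⁻¹) z := by
    intro x hx y hy z hz
    have h3 : ⁅⁅x, y⁆, z⁆ ∈ ((S : Subgroup G).lowerCentralSeries 2) :=
      commutator_mem_commutator (commutator_mem_commutator hx hy) hz
    rw [hcl, Subgroup.mem_bot, commutatorElement_eq_one_iff_commute] at h3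
    exact h3
  have hinj : ∀ x ∈ (S : Subgroup G), π x = 1 → x = 1 := fun x hx h1 => by
    have : x ∈ (S : Subgroup G) ⊓ N := ⟨hx, (QuotientGroup.eq_one_iff x).mp h1⟩
    rw [disjoint_of_isPGroup_of_coprime S.isPGroup' coprime_card_pPrimeCore] at this
    exact this
  let ψ : (S : Subgroup G) →* G ⧸ N := π.comp (S : Subgroup G).subtype
  have hψ : Function.Injective ψ := (injective_iff_map_eq_one ψ).mpr fun x hx =>
    Subtype.ext (hinj x x.2 hx)
  have hrange : ψ.range = (Sb : Subgroup (G ⧸ N)) := by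
    rw [hSbcoe, MonoidHom.range_eq_map, ← Subgroup.map_map, ← MonoidHom.range_eq_map, range_subtype]
  set F := pCore 2 (G ⧸ N) with hF
  set R := F.comap π with hR
  haveI : R.Normal := (inferInstance : F.Normal).comap _
  set T := R ⊓ (S : Subgroup G) with hT
  have hTS : T ≤ (S : Subgroup G) := inf_le_right
  have hcomm : ∀ (K : Type _) [Group K] (B : Subgroup K), (∀ x ∈ B, x * x = 1) →
      ∀ x ∈ B, ∀ y ∈ B, Commute x y := by
    intro K _ B hB x hx y hy
    have hx' : x⁻¹ = x := inv_eq_of_mul_eq_one_right (hB x hx)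
    have hy' : y⁻¹ = y := inv_eq_of_mul_eq_one_right (hB y hy)
    have h' : (x * y)⁻¹ = x * y := inv_eq_of_mul_eq_one_right (hB _ (mul_mem hx hy))
    rw [mul_inv_rev, hx', hy'] at h'
    exact h'.symm
  have hJT : ∀ A ∈ maxElementaryAbelianSubgroups 2 (S : Subgroup G),
      A.map (S : Subgroup G).subtype ≤ T := by
    intro A hA
    refine le_inf ?_ (Subgroup.map_subtype_le _)
    rw [← Subgroup.map_le_iff_le_comap, Subgroup.map_map]
    have hA2 : ∀ x ∈ A.map ψ, x * x = 1 := by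
      rintro _ ⟨x, hx, rfl⟩
      rw [← map_mul, ← sq, hA.1.2 x hx, map_one]
    refine elementary_le_pCore hO (fun hc => hS4 (involves_of_quotient N hc)) Sb ?_ _
      (hrange ▸ Subgroup.map_le_range _ _) hA2 (hcomm _ _ hA2) ?_
    · rw [hSbcoe]
      rintro _ ⟨x, hx, rfl⟩ _ ⟨y, hy, rfl⟩ _ ⟨z, hz, rfl⟩
      simpa only [map_mul, map_inv] using (hclass x hx y hy z hz).map π
    · intro B hB hB2
      have hB' : (B.comap ψ).map ψ = B := by
        rw [Subgroup.map_comap_eq, hrange, inf_eq_right.mpr hB]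
      have hBel : IsElementaryAbelian 2 (B.comap ψ) := by
        have h2 : ∀ x ∈ B.comap ψ, x * x = 1 := fun x hx => hψ (by
          rw [map_mul, map_one]; exact hB2 _ hx)
        exact ⟨⟨⟨fun x y => Subtype.ext (hcomm _ _ h2 x.1 x.2 y.1 y.2)⟩⟩,
          fun x hx => by rw [sq]; exact h2 x hx⟩
      calc Nat.card B = Nat.card ((B.comap ψ).map ψ) := by rw [hB']
        _ = Nat.card (B.comap ψ) := card_map_eq _ hψ
        _ ≤ Nat.card A := hA.2 _ hBel
        _ = _ := (card_map_eq A hψ).symm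
  have hJdef : thompsonSubgroupOf 2 (S : Subgroup G) =
      ⨆ A ∈ maxElementaryAbelianSubgroups 2 (S : Subgroup G), A.map (S : Subgroup G).subtype := by
    rw [thompsonSubgroupOf, thompsonSubgroup, sSup_eq_iSup, Subgroup.map_iSup]
    simp only [Subgroup.map_iSup]
  -- `N(T)` normalizes `J`
  have hNT : normalizer (T : Set G) ≤
      normalizer (thompsonSubgroupOf 2 (S : Subgroup G) : Set G) := by
    intro g hg
    refine mem_normalizer_fintype fun x hx => ?_
    have hmap : (thompsonSubgroupOf 2 (S : Subgroup G)).map (MulAut.conj g).toMonoidHom ≤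
        thompsonSubgroupOf 2 (S : Subgroup G) := by
      rw [hJdef, Subgroup.map_iSup]
      simp only [Subgroup.map_iSup]
      refine iSup₂_le fun A hA => ?_
      set A' := (A.map (S : Subgroup G).subtype).map (MulAut.conj g).toMonoidHom with hA'
      have hA'T : A' ≤ T := by
        rintro _ ⟨x, hx, rfl⟩
        exact (mem_normalizer_iff.mp hg x).mp (hJT A hA hx)
      have hA'2 : ∀ x ∈ A', x * x = 1 := by
        rintro _ ⟨_, ⟨x, hx, rfl⟩, rfl⟩
        rw [← map_mul, ← map_mul, ← sq, hA.1.2 x hx, map_one, map_one]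
      have hcard : Nat.card (A'.subgroupOf (S : Subgroup G)) = Nat.card A := by
        rw [Nat.card_congr (subgroupOfEquivOfLe (hA'T.trans hTS)).toEquiv, hA',
          card_map_eq _ (MulAut.conj g).injective, card_map_eq _ (subtype_injective _)]
      have hmem : A'.subgroupOf (S : Subgroup G) ∈
          maxElementaryAbelianSubgroups 2 (S : Subgroup G) := by
        refine ⟨⟨⟨⟨fun x y => ?_⟩⟩, fun x hx => ?_⟩, fun B hB => hcard ▸ hA.2 B hB⟩
        · exact Subtype.ext (Subtype.ext (hcomm _ _ hA'2 _ x.2 _ y.2))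
        · exact Subtype.ext (by rw [sq]; exact hA'2 _ hx)
      refine le_trans (le_of_eq ?_) (le_iSup₂ (A'.subgroupOf (S : Subgroup G)) hmem)
      rw [subgroupOf_map_subtype, inf_eq_left.mpr (hA'T.trans hTS)]
    exact hmap ⟨x, hx, rfl⟩
  -- `T` is a Sylow subgroup of `R`
  have hFSb : F ≤ Sb := pCore_le_sylow Sb
  have hRTN : R ≤ T ⊔ N := by
    intro x hx
    obtain ⟨y, hy, hyx⟩ : π x ∈ (S : Subgroup G).map π := hFSb hx
    have hyT : y ∈ T := ⟨by show π y ∈ F; rw [hyx]; exact hx, hy⟩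
    have hn : y⁻¹ * x ∈ N := by
      rw [← QuotientGroup.eq_one_iff]
      show π (y⁻¹ * x) = 1
      rw [map_mul, map_inv, hyx, inv_mul_cancel]
    simpa using mul_mem (mem_sup_left (T := N) hyT) (mem_sup_right (S := T) hn)
  have hNR : N ≤ R := fun x hx => by
    show π x ∈ F
    rw [show π x = 1 from (QuotientGroup.eq_one_iff x).mpr hx]; exact one_mem _
  have hTp : IsPGroup 2 T := S.isPGroup'.to_le hTS
  have hidx : ¬ 2 ∣ (T.subgroupOf R).index := by
    intro h2
    have h1 : Nat.card T * T.relIndex R = Nat.card R := by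
      rw [← relIndex_bot_left T, relIndex_mul_relIndex ⊥ T R bot_le inf_le_left, relIndex_bot_left]
    have h3 : T.relIndex R ∣ Nat.card N := by
      have h4 := (card_dvd_of_le hRTN).trans (card_sup_dvd T N)
      rw [← h1] at h4
      exact (Nat.mul_dvd_mul_iff_left Nat.card_pos).mp h4
    exact not_dvd_card_pPrimeCore (p := 2) (h2.trans h3)
  let P : Sylow 2 R := (hTp.comap_subtype (K := R)).toSylow hidx
  have hfr := Sylow.normalizer_sup_eq_top P
  rw [show (P : Subgroup R).map R.subtype = T from by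
    show (T.subgroupOf R).map R.subtype = T
    rw [subgroupOf_map_subtype, inf_eq_left.mpr inf_le_left]] at hfr
  rw [← top_le_iff, ← hfr]
  refine sup_le (hNT.trans le_sup_left) (hRTN.trans (sup_le ?_ le_sup_right))
  exact (le_normalizer.trans hNT).trans le_sup_left

end Cfsg.Agent.S2010
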