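import Cfsg.Statements.S2111
import Cfsg.Agent.Suzuki.Lie
import Cfsg.Agent.H50.SzMult
import Cfsg.Agent.H50.GL4Cyclic

set_option autoImplicit false
open Cfsg

namespace Cfsg.Agent.S2111

open Cfsg.Agent.H50 Cfsg.Agent.Suzuki

/-- Schur multiplier of `Sz(q)`, `q ≥ 32`. -/
theorem result {F : Type*} [Field F] [Fintype F] {m : ℕ} (hm : 2 ≤ m) (hF : Fintype.card F = 2 ^ (2 * m + 1)) : Cfsg.HasCyclicSchurMultiplier ↥(Cfsg.Lie.Sz F (2 ^ (m + 1))) 1 := by
  have hS : SzField F m := ⟨hF, by omega⟩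
  have := charTwo (F := F) m
  set e := lieEquiv (F := F) m
  refine hasTrivialMultiplier_of_forall_prime fun Γ _ _ σ hσ l hl z hz hzl => ?_
  have := Fact.mk hl
  set q := Nat.card F with hq
  have hq2 : q = 2 ^ (2 * m + 1) := card_nat m
  have hq32 : 32 ≤ q := hq2 ▸ Nat.pow_le_pow_right two_pos (show 5 ≤ 2 * m + 1 by omega)
  -- transported extension
  let τ : Γ →* Cfsg.Sz F m := e.symm.toMonoidHom.comp σ
  have hτk : τ.ker = σ.ker := by ext x; simp [τ]
  have hτ : IsStemExtension τ := ⟨e.symm.surjective.comp hσ.1, hτk ▸ hσ.2.1, hτk ▸ hσ.2.2⟩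
  have hzτ : z ∈ τ.ker := hτk ▸ hz
  by_cases hl2 : l = 2
  · subst hl2
    let thE : F ≃* F := (RingEquiv.ofBijective (thHom (F := F) m) (th_bijective m)).toMulEquiv
    let r : Fˣ ≃* Fˣ := Units.mapEquiv thE
    refine suzuki_two_part m hm hF (u m) (fun a a' => th m a * a')
      (fun a b a' b' => u_mul m a b a' b') (fun a => by simp) (fun a => by simp) (Suzuki.U m)
      (fun g => (mem_U m).trans ⟨fun ⟨a, b, h⟩ => ⟨a, b, h.symm⟩, fun ⟨a, b, h⟩ => ⟨a, b, h.symm⟩⟩)
      ?_ (fun x => t m (r.symm x)) ?_ (fun x y => by simp only [map_mul]) hτ z hzτ hzl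
    · have h := (Suzuki.U (F := F) m).card_mul_index
      rw [card_U, card_Sz, ← hq, mul_assoc] at h
      rw [Nat.eq_of_mul_eq_mul_left (by positivity) h]
      refine Odd.mul ?_ ?_
      · rw [hq, ← Nat.card_units]; exact odd_card_units (F := F) m
      · rw [Nat.odd_iff, hq2, Nat.add_mod, ← pow_mul, Nat.pow_mod]
        simp
    · intro x a b
      obtain ⟨s, rfl⟩ := r.surjective x
      have hrs : ((r s : Fˣ) : F) = th m (s : F) := rfl
      have h2 : th m (s : F) ^ (2 ^ (m + 1) + 1) = (s : F) ^ 2 * th m (s : F) := by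
        rw [pow_succ]; congr 1; exact th_th m _
      rw [MulEquiv.symm_apply_apply, t_u, hrs, h2]
  · by_cases hd : l ∣ q ^ 2 + 1
    · obtain ⟨Q, hQ, hidx⟩ := exists_cyclic_index_coprime (Cfsg.Lie.Sz F (2 ^ (m + 1))) l hl hl2
        (by rwa [← Nat.card_eq_fintype_card])
      exact eq_one_of_rigidAt hσ Q hidx (rigidAt_of_isCyclic l _) z hz hzl
    · obtain ⟨g, hg⟩ := IsCyclic.exists_ofOrder_eq_natCard (α := Fˣ)
      have hgt : orderOf (t m g) = q - 1 := by
        rw [orderOf_injective (t m) (t_injective (F := F) m), hg, Nat.card_units]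
      refine eq_one_of_rigidAt hτ (Subgroup.zpowers (t m g)) ((Nat.Prime.coprime_iff_not_dvd hl).2 fun h => ?_)
        (rigidAt_of_isCyclic l _) z hzτ hzl
      have hc := (Subgroup.zpowers (t m g)).card_mul_index
      rw [Nat.card_zpowers, hgt, card_Sz, ← hq, mul_comm (q ^ 2), mul_assoc (q - 1)] at hc
      rw [Nat.eq_of_mul_eq_mul_left (by omega) hc] at h
      rcases hl.dvd_mul.1 h with h' | h'
      · rw [hq2, ← pow_mul] at h'
        exact hl2 ((Nat.prime_dvd_prime_iff_eq hl Nat.prime_two).1 (hl.dvd_of_dvd_pow h'))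
      · exact hd h'

end Cfsg.Agent.S2111
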