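import Cfsg.Statements.S1250
import Cfsg.Agent.H39.Basic

namespace Cfsg.Agent.S1250

/-- Let S be a Sylow p-subgroup of the finite group G, A ≤ S strongly closed in S, and N a normal subgroup. Then the image of A in G ⧸ N is strongly closed in the image of S (which is a Sylow p-subgroup of G ⧸ N). -/
theorem result {G : Type*} [Group G] [Finite G] {p : ℕ} [Fact p.Prime] (S : Sylow p G) (A : Subgroup G) (hA : Cfsg.IsStronglyClosed A (S : Subgroup G)) (N : Subgroup G) [N.Normal] : Cfsg.IsStronglyClosed (A.map (QuotientGroup.mk' N)) ((S : Subgroup G).map (QuotientGroup.mk' N)) := by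
  refine ⟨Subgroup.map_mono hA.1, ?_⟩
  rintro _ ⟨a, ha, rfl⟩ q hq
  obtain ⟨g, rfl⟩ := QuotientGroup.mk'_surjective N q
  rw [← map_inv, ← map_mul, ← map_mul] at hq ⊢
  have hz : g * a * g⁻¹ ∈ (S : Subgroup G) ⊔ N := by
    have : g * a * g⁻¹ ∈ ((S : Subgroup G).map (QuotientGroup.mk' N)).comap (QuotientGroup.mk' N) := hq
    rwa [Subgroup.comap_map_eq, QuotientGroup.ker_mk'] at this
  have hR : IsPGroup p (Subgroup.zpowers (g * a * g⁻¹)) :=
    (S.2.map (MulAut.conj g).toMonoidHom).to_le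
      (Subgroup.zpowers_le.mpr (H39.conj_mem_map_conj (hA.1 ha)))
  obtain ⟨x, hx, hxS⟩ := H39.exists_conj_mem_le_sylow hR (Subgroup.zpowers_le.mpr hz) S le_sup_left
  rw [← SetLike.mem_coe, Subgroup.mul_normal] at hx
  obtain ⟨s, hs, n, hn, rfl⟩ := hx
  have h1 := hxS _ (Subgroup.mem_zpowers _)
  have h2 : n * g * a * (n * g)⁻¹ ∈ (S : Subgroup G) := by
    have h3 := mul_mem (mul_mem (inv_mem hs) h1) hs
    simpa [mul_assoc] using h3
  refine ⟨_, hA.2 a ha (n * g) h2, ?_⟩
  have hn1 : QuotientGroup.mk' N n = 1 := (QuotientGroup.eq_one_iff n).mpr hn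
  simp only [map_mul, map_inv, hn1, one_mul]

end Cfsg.Agent.S1250
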