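import Cfsg.Statements.S0985
import Cfsg.Agent.H36.Basic

set_option autoImplicit false
open Cfsg

namespace Cfsg.Agent.S0985

/-- If the number of Sylow p-subgroups of a finite group is not congruent to 1 modulo p^k, then there are two distinct Sylow p-subgroups P and R such that the index of P ∩ R in P is at most p^(k-1). -/
theorem result {G : Type*} [Group G] [Finite G] (p k : ℕ) [Fact p.Prime] (h : ¬ Nat.card (Sylow p G) ≡ 1 [MOD p ^ k]) : ∃ P R : Sylow p G, P ≠ R ∧ ((R : Subgroup G).subgroupOf (P : Subgroup G)).index ≤ p ^ (k - 1) := by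
  classical
  obtain ⟨P⟩ := Sylow.nonempty (p := p) (G := G)
  refine ⟨P, ?_⟩
  by_contra hne
  push_neg at hne
  apply h
  haveI := Fintype.ofFinite (Sylow p G)
  haveI : IsPGroup p (P : Subgroup G) := P.2
  have key : ∀ R : Sylow p G, R ≠ P →
      p ^ k ∣ Nat.card (MulAction.orbit (P : Subgroup G) R) := by
    intro R hR
    have hlt := hne R hR.symm
    have hstab : MulAction.stabilizer (P : Subgroup G) R =
        (R : Subgroup G).subgroupOf (P : Subgroup G) := by
      ext x
      rw [MulAction.mem_stabilizer_iff, Subgroup.mem_subgroupOf]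
      show (x : G) • R = R ↔ _
      rw [Sylow.smul_eq_iff_mem_normalizer]
      refine ⟨fun hx => ?_, fun hx => Subgroup.le_normalizer hx⟩
      have h2 : (x : G) ∈ (P : Subgroup G) ⊓ Subgroup.normalizer ((R : Subgroup G) : Set G) :=
        ⟨x.2, hx⟩
      exact ((P.2.inf_normalizer_sylow R).le h2).2
    rw [Nat.card_congr (MulAction.orbitEquivQuotientStabilizer _ _), hstab, ← Subgroup.index_eq_card]
    obtain ⟨j, hj⟩ := P.2.index ((R : Subgroup G).subgroupOf (P : Subgroup G))
    rw [hj] at hlt ⊢
    refine pow_dvd_pow p ?_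
    have := (Nat.pow_lt_pow_iff_right (Fact.out : p.Prime).one_lt).1 hlt
    omega
  have e := MulAction.selfEquivSigmaOrbits (P : Subgroup G) (Sylow p G)
  rw [Nat.card_congr e]
  haveI := Fintype.ofFinite (MulAction.orbitRel.Quotient (P : Subgroup G) (Sylow p G))
  rw [Nat.card_sigma, ← Finset.add_sum_erase _ _ (Finset.mem_univ (Quotient.mk'' P))]
  have h1 : Nat.card (MulAction.orbit (P : Subgroup G)
      (Quotient.mk'' P : MulAction.orbitRel.Quotient (P : Subgroup G) (Sylow p G)).out) = 1 := by
    have hP : ∀ R ∈ MulAction.orbit (P : Subgroup G) P, R = P := by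
      rintro R ⟨x, rfl⟩
      exact Sylow.smul_eq_iff_mem_normalizer.2 (Subgroup.le_normalizer x.2)
    have hout : (Quotient.mk'' P : MulAction.orbitRel.Quotient (P : Subgroup G) (Sylow p G)).out = P :=
      hP _ ((Quotient.eq'' (s₁ := MulAction.orbitRel (P : Subgroup G) (Sylow p G))).1
        (Quotient.out_eq' (Quotient.mk'' P)))
    rw [hout, Nat.card_eq_one_iff_unique]
    exact ⟨⟨fun a b => Subtype.ext ((hP _ a.2).trans (hP _ b.2).symm)⟩,
      ⟨⟨P, MulAction.mem_orbit_self P⟩⟩⟩
  rw [h1]
  refine ((Nat.modEq_zero_iff_dvd.2 (Finset.dvd_sum fun q hq => key q.out ?_)).add_left 1)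
  intro hq'
  exact (Finset.mem_erase.1 hq).1 ((Quotient.out_eq' q).symm.trans (congrArg _ hq'))

end Cfsg.Agent.S0985
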