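import Cfsg.Statements.S0977
import Cfsg.Agent.H36.Order4320
-- import your own Cfsg.Agent.* helpers here

set_option autoImplicit false
set_option maxRecDepth 4000
set_option linter.style.haveILetI false
open Cfsg

namespace Cfsg.Agent.S0977

/-- No finite simple group has order 4320 = 2^5 * 3^3 * 5. -/
theorem result {G : Type*} [Group G] [Finite G] [IsSimpleGroup G] : Nat.card G ≠ 4320 := by
  intro hn
  have hG : ¬ IsMulCommutative G :=
    Agent.H36.not_isMulCommutative_of_dvd Nat.prime_two Nat.prime_three (by norm_num)
      (by rw [hn]; norm_num) (by rw [hn]; norm_num)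
  haveI : Fact (Nat.Prime 5) := ⟨by norm_num⟩
  obtain ⟨P⟩ := Sylow.nonempty (p := 5) (G := G)
  have hP : Nat.card (P : Subgroup G) = 5 := by
    have := Agent.H36.card_sylow_eq (a := 1) (m := 864) hn P (by norm_num) (by norm_num)
    simpa using this
  have hk := Agent.H36.card_sylow_mem_list (p := 5) hn 1 2 [32, 27] (by norm_num) (by norm_num)
    (by norm_num) Nat.prime_two (by norm_num) {6, 16, 36, 96, 216} (by decide +kernel)
  simp only [Finset.mem_insert, Finset.mem_singleton] at hk
  rcases hk with hk | hk | hk | hk | hk
  · have := Agent.H36.card_dvd_factorial_of_card hn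
      (Agent.H36.card_normalizer_of_card_sylow P hn hk (N := 720) (by norm_num)) (by norm_num)
    revert this
    decide +kernel
  · obtain ⟨r, c, hr1, hr4, hrc, hC⟩ := Agent.H36.exists_relIndex_centralizer hG P hP (N := 54)
      (Agent.H36.card_normalizer_of_card_sylow P hn hk (by norm_num))
    obtain rfl : c = 27 := by
      have := Nat.le_of_dvd (by norm_num) hr4
      interval_cases r <;> omega
    haveI : Fact (Nat.Prime 3) := ⟨by norm_num⟩
    obtain ⟨D, hD⟩ := Sylow.exists_subgroup_card_pow_prime
      (G := Subgroup.centralizer ((P : Subgroup G) : Set G)) 3 (n := 3) (by rw [hC]; norm_num)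
    have hD' : Nat.card (D.map (Subgroup.subtype _)) = 27 := by
      rw [Subgroup.card_map_of_injective (Subgroup.subtype_injective _), hD]; norm_num
    have := Agent.H36.card_dvd_factorial_orbits P hP 3 (by rw [hk]) (by norm_num)
      (D.map (Subgroup.subtype _)) (Subgroup.map_subtype_le _) (by rw [hD']; norm_num)
    rw [hD'] at this
    revert this
    decide +kernel
  · obtain ⟨r, c, hr1, hr4, hrc, hC⟩ := Agent.H36.exists_relIndex_centralizer hG P hP (N := 24)
      (Agent.H36.card_normalizer_of_card_sylow P hn hk (by norm_num))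
    refine Agent.H36.false_4320_thirty_six hn hG P hP hk ?_ hC
    have := Nat.le_of_dvd (by norm_num) hr4
    interval_cases r <;> omega
  · obtain ⟨r, c, hr1, hr4, hrc, -⟩ := Agent.H36.exists_relIndex_centralizer hG P hP (N := 9)
      (Agent.H36.card_normalizer_of_card_sylow P hn hk (by norm_num))
    have := Nat.le_of_dvd (by norm_num) hr4
    interval_cases r <;> omega
  · obtain ⟨r, c, hr1, hr4, hrc, hC⟩ := Agent.H36.exists_relIndex_centralizer hG P hP (N := 4)
      (Agent.H36.card_normalizer_of_card_sylow P hn hk (by norm_num))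
    obtain rfl | rfl : c = 1 ∨ c = 2 := by
      have := Nat.le_of_dvd (by norm_num) hr4
      interval_cases r <;> omega
    · exact Agent.H36.false_4320_c1 hn hG P hP hk hC
    · exact Agent.H36.false_4320_c2 hn hG P hP hk hC

end Cfsg.Agent.S0977
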