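import Cfsg.Statements.S0978
import Cfsg.Agent.H36.Order5040
import Cfsg.Agent.H36.Orbits
-- import your own Cfsg.Agent.* helpers here

set_option autoImplicit false
set_option maxRecDepth 4000
set_option linter.style.haveILetI false
open Cfsg

namespace Cfsg.Agent.S0978

/-- No finite simple group has order 5040 = 2^4 * 3^2 * 5 * 7. -/
theorem result {G : Type*} [Group G] [Finite G] [IsSimpleGroup G] : Nat.card G ≠ 5040 := by
  intro hn
  have hG : ¬ IsMulCommutative G :=
    Agent.H36.not_isMulCommutative_of_dvd Nat.prime_two Nat.prime_three (by norm_num)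
      (by rw [hn]; norm_num) (by rw [hn]; norm_num)
  haveI : Fact (Nat.Prime 7) := ⟨by norm_num⟩
  obtain ⟨P⟩ := Sylow.nonempty (p := 7) (G := G)
  have hP : Nat.card (P : Subgroup G) = 7 := by
    have := Agent.H36.card_sylow_eq (a := 1) (m := 720) hn P (by norm_num) (by norm_num)
    simpa using this
  have hk := Agent.H36.card_sylow_mem_list (p := 7) hn 1 2 [16, 9, 5] (by norm_num) (by norm_num)
    (by norm_num) Nat.prime_two (by norm_num) {8, 15, 36, 120} (by decide +kernel)
  simp only [Finset.mem_insert, Finset.mem_singleton] at hk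
  rcases hk with hk | hk | hk | hk
  · have hN : Nat.card (Subgroup.normalizer ((P : Subgroup G) : Set G)) = 630 :=
      Agent.H36.card_normalizer_of_card_sylow P hn hk (by norm_num)
    have hidx : (Subgroup.normalizer ((P : Subgroup G) : Set G)).index = 8 :=
      Agent.H36.index_eq_of_card (m := 630) hn hN |>.trans (by norm_num)
    have h := Agent.H36.two_mul_card_normalizer_dvd hG (p := 7) (by norm_num)
      (H := Subgroup.normalizer ((P : Subgroup G) : Set G))
      (fun h => by rw [h, Subgroup.index_top] at hidx; omega) (by omega) P hP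
    rw [hN, hidx] at h
    norm_num [Nat.factorial] at h
  · obtain ⟨r, c, hr1, hr6, hrc, hC⟩ := Agent.H36.exists_relIndex_centralizer hG P hP (N := 48)
      (Agent.H36.card_normalizer_of_card_sylow P hn hk (by norm_num))
    have hc : 8 ∣ c := by
      have := Nat.le_of_dvd (by norm_num) hr6
      interval_cases r <;> omega
    haveI : Fact (Nat.Prime 2) := ⟨by norm_num⟩
    obtain ⟨D, hD⟩ := Sylow.exists_subgroup_card_pow_prime
      (G := Subgroup.centralizer ((P : Subgroup G) : Set G)) 2 (n := 3)
      (by rw [hC]; exact dvd_mul_of_dvd_right hc _)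
    have hD' : Nat.card (D.map (Subgroup.subtype _)) = 8 := by
      rw [Subgroup.card_map_of_injective (Subgroup.subtype_injective _), hD]; norm_num
    have := Agent.H36.card_dvd_factorial_orbits P hP 2 (by rw [hk]) (by norm_num)
      (D.map (Subgroup.subtype _)) (Subgroup.map_subtype_le _) (by rw [hD']; norm_num)
    rw [hD'] at this
    revert this
    decide +kernel
  · obtain ⟨r, c, hr1, hr6, hrc, hC⟩ := Agent.H36.exists_relIndex_centralizer hG P hP (N := 20)
      (Agent.H36.card_normalizer_of_card_sylow P hn hk (by norm_num))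
    obtain rfl : c = 10 := by
      have := Nat.le_of_dvd (by norm_num) hr6
      interval_cases r <;> omega
    exact Agent.H36.false_5040_thirty_six hn hG P hP hk hC
  · obtain ⟨r, c, hr1, hr6, hrc, hC⟩ := Agent.H36.exists_relIndex_centralizer hG P hP (N := 6)
      (Agent.H36.card_normalizer_of_card_sylow P hn hk (by norm_num))
    obtain rfl | rfl | rfl : c = 1 ∨ c = 2 ∨ c = 3 := by
      have := Nat.le_of_dvd (by norm_num) hr6
      interval_cases r <;> omega
    · exact Agent.H36.false_5040_c1 hn hG P hP hk hC
    · exact Agent.H36.false_5040_c2 hn hG P hP hk hC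
    · exact Agent.H36.false_5040_c3 hn hG P hP hk hC

end Cfsg.Agent.S0978
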