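import Cfsg.Statements.S0980
import Cfsg.Agent.H36.Order5760
import Cfsg.Agent.H36.TwoLocal
-- import your own Cfsg.Agent.* helpers here

set_option autoImplicit false
set_option maxRecDepth 4000
set_option linter.style.haveILetI false
open Cfsg

namespace Cfsg.Agent.S0980

/-- No finite simple group has order 5760 = 2^7 * 3^2 * 5. -/
theorem result {G : Type*} [Group G] [Finite G] [IsSimpleGroup G] : Nat.card G ≠ 5760 := by
  intro hn
  have hG : ¬ IsMulCommutative G :=
    Agent.H36.not_isMulCommutative_of_dvd Nat.prime_two Nat.prime_three (by norm_num)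
      (by rw [hn]; norm_num) (by rw [hn]; norm_num)
  haveI : Fact (Nat.Prime 5) := ⟨by norm_num⟩
  obtain ⟨P⟩ := Sylow.nonempty (p := 5) (G := G)
  have hP : Nat.card (P : Subgroup G) = 5 := by
    have := Agent.H36.card_sylow_eq (a := 1) (m := 1152) hn P (by norm_num) (by norm_num)
    simpa using this
  have hk := Agent.H36.card_sylow_mem_list (p := 5) hn 1 2 [128, 9] (by norm_num) (by norm_num)
    (by norm_num) Nat.prime_two (by norm_num) {6, 16, 36, 96, 576} (by decide +kernel)
  simp only [Finset.mem_insert, Finset.mem_singleton] at hk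
  rcases hk with hk | hk | hk | hk | hk
  · have := Agent.H36.card_dvd_factorial_of_card hn
      (Agent.H36.card_normalizer_of_card_sylow P hn hk (N := 960) (by norm_num)) (by norm_num)
    revert this
    decide +kernel
  · obtain ⟨r, c, hr1, hr4, hrc, hC⟩ := Agent.H36.exists_relIndex_centralizer hG P hP (N := 72)
      (Agent.H36.card_normalizer_of_card_sylow P hn hk (by norm_num))
    have hc : 9 ∣ c := by
      have := Nat.le_of_dvd (by norm_num) hr4
      interval_cases r <;> omega
    haveI : Fact (Nat.Prime 3) := ⟨by norm_num⟩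
    obtain ⟨D, hD⟩ := Sylow.exists_subgroup_card_pow_prime
      (G := Subgroup.centralizer ((P : Subgroup G) : Set G)) 3 (n := 2)
      (by rw [hC]; exact dvd_mul_of_dvd_right hc _)
    have hD' : Nat.card (D.map (Subgroup.subtype _)) = 9 := by
      rw [Subgroup.card_map_of_injective (Subgroup.subtype_injective _), hD]; norm_num
    have := Agent.H36.card_dvd_factorial_orbits P hP 3 (by rw [hk]) (by norm_num)
      (D.map (Subgroup.subtype _)) (Subgroup.map_subtype_le _) (by rw [hD']; norm_num)
    rw [hD'] at this
    revert this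
    decide +kernel
  · have hN : Nat.card (Subgroup.normalizer ((P : Subgroup G) : Set G)) = 5 * 2 ^ 5 :=
      Agent.H36.card_normalizer_of_card_sylow P hn hk (by norm_num)
    obtain ⟨r, c, hr1, hr4, hrc, hC⟩ := Agent.H36.exists_relIndex_centralizer hG P hP hN
    obtain ⟨j, rfl, hj⟩ : ∃ j, c = 2 ^ j ∧ 5 < 2 * j := by
      have := Nat.le_of_dvd (by norm_num) hr4
      interval_cases r
      · exact ⟨4, by omega, by norm_num⟩
      · omega
      · exact ⟨3, by omega, by norm_num⟩
    exact Agent.H36.false_of_normalizer_two_group hG (by norm_num) (by norm_num) P hP hN hC hj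
      (by rw [hn]; norm_num) (Agent.H36.eq_normalizer_of_le P hk (by rw [hn]; decide +kernel))
  · obtain ⟨r, c, hr1, hr4, hrc, hC⟩ := Agent.H36.exists_relIndex_centralizer hG P hP (N := 12)
      (Agent.H36.card_normalizer_of_card_sylow P hn hk (by norm_num))
    obtain rfl | rfl : c = 3 ∨ c = 6 := by
      have := Nat.le_of_dvd (by norm_num) hr4
      interval_cases r <;> omega
    · exact Agent.H36.false_5760_c3 hn P hP hk hC
    · exact Agent.H36.false_5760_c6 hn hG P hP hk hC
  · exact Agent.H36.false_of_degree_two' hG (by norm_num) P hP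
      (Agent.H36.card_normalizer_of_card_sylow P hn hk (by norm_num)) 7 (by norm_num) [5, 128, 9]
      (by decide) (by rw [hn]; rfl) (by norm_num) (by decide +kernel)

end Cfsg.Agent.S0980
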