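import Cfsg.Statements.S0983
import Cfsg.Agent.H36.OrderTable
import Cfsg.Agent.H36.OrderExceptions
import Cfsg.Agent.S0976
import Cfsg.Agent.S0977
import Cfsg.Agent.S0978
import Cfsg.Agent.S0980

set_option autoImplicit false
open Cfsg

namespace Cfsg.Agent.S0983

open H36.OrderScreen H36.OrderTable

/-- A non-abelian finite simple group of order greater than 3640 and at most 6232 has order 4080, 5616, 6048 or 6072. -/
theorem result {G : Type*} [Group G] [Finite G] [IsSimpleGroup G] (hG : ¬ IsMulCommutative G) (h1 : 3640 < Nat.card G) (h2 : Nat.card G ≤ 6232) : Nat.card G = 4080 ∨ Nat.card G = 5616 ∨ Nat.card G = 6048 ∨ Nat.card G = 6072 := by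
  have hlt : Nat.card G < 6400 := by omega
  have hc : covered (Nat.card G) = true := by
    rcases Nat.lt_or_ge (Nat.card G) 4937 with h | h
    · exact List.all_eq_true.1 covered_low _ (List.mem_range'_1.2 (by omega))
    · exact List.all_eq_true.1 covered_high _ (List.mem_range'_1.2 (by omega))
  simp only [covered, Bool.or_eq_true, List.contains_iff_mem] at hc
  rcases hc with (((h | h) | h) | h) | h
  · exact (false_of_divFails hG hlt h).elim
  · exact (false_of_twoPrimes hG hlt h).elim
  · simp only [remainingOrders, List.mem_cons, List.not_mem_nil, or_false] at h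
    rcases h with h | h | h | h | h | h | h | h | h | h | h | h | h | h
    · exact absurd h S0976.result
    · exact Or.inl h
    · exact absurd h S0977.result
    · exact (H36.OrderExceptions.false_of_card_4500 hG h).elim
    · exact (H36.OrderExceptions.false_of_card_4620 hG h).elim
    · exact absurd h S0978.result
    · exact (H36.OrderExceptions.false_of_card_5292 hG h).elim
    · exact (H36.false_of_card_5400 hG h).elim
    · exact (H36.OrderExceptions.false_of_card_5460 hG h).elim
    · exact Or.inr (Or.inl h)
    · exact absurd h S0980.result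
    · exact (H36.OrderExceptions.false_of_card_6000 hG h).elim
    · exact Or.inr (Or.inr (Or.inl h))
    · exact Or.inr (Or.inr (Or.inr h))
  · obtain ⟨⟨n, p⟩, hx, rfl⟩ := List.mem_map.1 h
    exact (false_of_sylowFails hG (List.all_eq_true.1 sylowTable_spec _ hx)).elim
  · obtain ⟨⟨n, p⟩, hx, rfl⟩ := List.mem_map.1 h
    exact (false_of_blockFails hG hlt (List.all_eq_true.1 blockTable_spec _ hx)).elim

end Cfsg.Agent.S0983
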