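import Cfsg.Statements.S4682
import Cfsg.Agent.H82.PairPush

set_option autoImplicit false
open Cfsg

namespace Cfsg.Agent.S4682

/-- Fix a prime p and a maximal ideal M of the algebraic integers containing p, a p-block B of the finite group G with maximal Brauer pair (P, e), P abelian, and a Brauer pair (Q, f) ≤ (P, e). Let T_Q be the stabilizer of f in N_G(Q) and T_P the stabilizer of e in N_G(P). Then every element of T_Q is a product of an element of T_P and an element of C_G(Q); and the index of C_G(Q) in T_Q equals the index of T_P ∩ C_G(Q) in T_P ∩ N_G(Q). -/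
theorem result {G : Type*} [Group G] [Fintype G] (p : ℕ) [Fact p.Prime] (M : Ideal Cfsg.AlgInt) (hM : Cfsg.IsPModular p M) (B : Set (Cfsg.IrrCharacter G)) (P : Subgroup G) (e : Set (Cfsg.IrrCharacter (Subgroup.centralizer (P : Set G)))) (hmax : Cfsg.IsMaximalBrauerPair p M B P e) (hab : ∀ x ∈ P, ∀ y ∈ P, x * y = y * x) (Q : Subgroup G) (f : Set (Cfsg.IrrCharacter (Subgroup.centralizer (Q : Set G)))) (hQP : Q ≤ P) (hf : Cfsg.IsPBlock M f) (hle : Cfsg.SubpairLE p M Q f P e) (TQ : Subgroup G) (hTQ : ∀ y : G, y ∈ TQ ↔ y ∈ Subgroup.normalizer (Q : Set G) ∧ Cfsg.StabilizesBlock (Subgroup.centralizer (Q : Set G)) f y) (TP : Subgroup G) (hTP : ∀ y : G, y ∈ TP ↔ y ∈ Subgroup.normalizer (P : Set G) ∧ Cfsg.StabilizesBlock (Subgroup.centralizer (P : Set G)) e y) : (∀ x ∈ TQ, ∃ y ∈ TP, ∃ c ∈ Subgroup.centralizer (Q : Set G), x = y * c) ∧ ((Subgroup.centralizer (Q : Set G)).subgroupOf TQ).index = ((TP ⊓ Subgroup.centralizer (Q : Set G)).subgroupOf (TP ⊓ Subgroup.normalizer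 (Q : Set G))).index := by
  classical
  have hPe := hmax.1.1
  have hQf := H82.isBrauerPairOf_of_le hM hmax.1 hle
  cases nonempty_fintype (Subgroup.centralizer (Q : Set G))
  have hPC : P ≤ (Subgroup.centralizer (Q : Set G)) := fun x hx => Subgroup.mem_centralizer_iff.mpr fun q hq => hab q (hQP hq) x hx
  have hQn : P ≤ Subgroup.normalizer (Q : Set G) :=
    hPC.trans (Subgroup.centralizer_le_normalizer _)
  have h := H82.isLocalBlock_centralizer hM hQf.1
  have hbd : p ^ Cfsg.blockDefect p f ≤ Nat.card P := by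
    obtain ⟨x, -, hx⟩ := h.exists_conj_card hM hmax hQf
    exact hx.trans (Subgroup.card_le_of_le inf_le_left)
  have hn : Cfsg.IsNormalSubpair p M Q f P e := H82.isNormalSubpair_of_le hM hPe hQn hle
  have hstP := H82.mem_stab_iff hM hPe.2 hTP
  have hstQ := H82.mem_stab_iff hM hf hTQ
  have hmain : ∀ x ∈ TQ, ∃ c ∈ (Subgroup.centralizer (Q : Set G)), c * x ∈ TP := by
    intro x hx
    have h2 : Cfsg.NormalSubpairRel p M ⟨Q, f⟩ (H82.conjPair x ⟨P, e⟩) := by
      rw [← (hstQ x).mp hx]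
      exact H82.normalSubpairRel_conjPair hM (a := ⟨Q, f⟩) (b := ⟨P, e⟩) hn
    have hxP : (H82.conjPair x ⟨P, e⟩).1 ≤ (Subgroup.centralizer (Q : Set G)) := by
      rintro _ ⟨y, hy, rfl⟩
      refine (H83.mem_centralizer_conj_normalizer ((hTQ x).mp hx).1 y).mp (hPC hy)
    obtain ⟨a₂, hr₂, hp₂⟩ := h.exists_pairRel hM hxP h2
    obtain ⟨a₁, hr₁, hp₁⟩ := h.exists_pairRel hM (a := ⟨P, e⟩) hPC hn
    have hmx : ∀ (a : Cfsg.BrauerPairIdx (Subgroup.centralizer (Q : Set G))) (b : Cfsg.BrauerPairIdx G), H82.PairRel (Subgroup.centralizer (Q : Set G)) a b →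
        Cfsg.IsBrauerPairOf p M f a.1 a.2 → Nat.card b.1 = Nat.card P →
        Cfsg.IsMaximalBrauerPair p M f a.1 a.2 := fun a b hr hp hc =>
      H82.isMaximal_of_card hM hp (by
        rw [← Subgroup.card_map_of_injective (K := a.1) (Subgroup.centralizer (Q : Set G)).subtype_injective, ← hr.1, hc]
        exact hbd)
    obtain ⟨c, hc⟩ := H82.exists_conj_maximal hM (hmx a₁ ⟨P, e⟩ hr₁ hp₁ rfl)
      (hmx a₂ _ hr₂ hp₂ (Subgroup.card_map_of_injective (MulAut.conj x).injective))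
    refine ⟨c, c.2, (hstP _).mpr ?_⟩
    rw [H82.conjPair_mul]
    exact (hr₂.conj c).unique (hc ▸ hr₁)
  have hnormC : ∀ y ∈ Subgroup.normalizer (Q : Set G), ∀ c ∈ (Subgroup.centralizer (Q : Set G)), y * c * y⁻¹ ∈ (Subgroup.centralizer (Q : Set G)) := fun y hy c hc =>
    (H83.mem_centralizer_conj_normalizer hy c).mp hc
  have hfirst : ∀ x ∈ TQ, ∃ y ∈ TP, ∃ c ∈ (Subgroup.centralizer (Q : Set G)), x = y * c := by
    intro x hx
    obtain ⟨c, hc, hy⟩ := hmain x⁻¹ (TQ.inv_mem hx)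
    exact ⟨(c * x⁻¹)⁻¹, TP.inv_mem hy, c, hc, by group⟩
  refine ⟨hfirst, ?_⟩
  set A := TP ⊓ Subgroup.normalizer (Q : Set G)
  have hATQ : A ≤ TQ := by
    intro y hy
    refine (hstQ y).mpr ?_
    have h3 := H82.subpairLE_conjPair hM y
      (show Relation.ReflTransGen (Cfsg.NormalSubpairRel p M) ⟨Q, f⟩ ⟨P, e⟩ from hle)
    rw [(hstP y).mp hy.1, H82.conjPair_of_normalizes f hy.2] at h3
    rw [H82.conjPair_of_normalizes f hy.2, H82.subpair_unique hM hPe h3 hle]
  have hCTQ : (Subgroup.centralizer (Q : Set G)) ≤ TQ := H82.centralizer_le_stab hM hf hTQ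
  have hsup : (Subgroup.centralizer (Q : Set G)) ⊔ A = TQ := by
    refine le_antisymm (sup_le hCTQ hATQ) fun x hx => ?_
    obtain ⟨y, hy, c, hc, rfl⟩ := hfirst x hx
    have hyN : y ∈ Subgroup.normalizer (Q : Set G) := by
      have := Subgroup.mul_mem _ ((hTQ _).mp hx).1
        (Subgroup.inv_mem _ (Subgroup.centralizer_le_normalizer _ hc))
      rwa [mul_inv_cancel_right] at this
    exact Subgroup.mul_mem _ (Subgroup.mem_sup_right ⟨hy, hyN⟩) (Subgroup.mem_sup_left hc)
  haveI : ((Subgroup.centralizer (Q : Set G)).subgroupOf TQ).Normal := Subgroup.normal_subgroupOf_of_le_normalizer fun y hy =>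
    H82.normalizer_le_normalizer_centralizer Q ((hTQ y).mp hy).1
  show (Subgroup.centralizer (Q : Set G)).relIndex TQ = (TP ⊓ (Subgroup.centralizer (Q : Set G))).relIndex A
  rw [show TP ⊓ (Subgroup.centralizer (Q : Set G)) = (Subgroup.centralizer (Q : Set G)) ⊓ A from le_antisymm (le_inf inf_le_right
    (le_inf inf_le_left (inf_le_right.trans (Subgroup.centralizer_le_normalizer _))))
    (le_inf (inf_le_right.trans inf_le_left) inf_le_left), Subgroup.inf_relIndex_right]
  have h4 := Subgroup.relIndex_sup_left (K := (Subgroup.centralizer (Q : Set G)).subgroupOf TQ) (H := A.subgroupOf TQ)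
  rw [← Subgroup.subgroupOf_sup hCTQ hATQ, hsup, Subgroup.subgroupOf_self,
    Subgroup.relIndex_top_right, Subgroup.relIndex_subgroupOf hATQ] at h4
  exact h4

end Cfsg.Agent.S4682
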