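import Cfsg.Statements.S4718
import Cfsg.Agent.H83.RegInner
import Mathlib.GroupTheory.ClassEquation
import Mathlib.Algebra.Order.Floor.Semiring
import Mathlib.Data.Rat.Floor
import Mathlib.Algebra.Order.BigOperators.Group.Multiset

set_option autoImplicit false
universe u
open Cfsg

namespace Cfsg.Agent.S4718

/-- Landau: boundedly many unit fractions with a given sum have bounded denominators. -/
theorem landau : ∀ (k : ℕ) (r : ℚ), ∃ N : ℕ, ∀ s : Multiset ℕ, Multiset.card s ≤ k → (∀ x ∈ s, 0 < x) →
    (s.map fun x : ℕ => (x : ℚ)⁻¹).sum = r → ∀ x ∈ s, x ≤ N := by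
  intro k
  induction k with
  | zero =>
    intro r
    refine ⟨0, fun s hs _ _ x hx => ?_⟩
    rw [Multiset.card_eq_zero.1 (Nat.le_zero.1 hs)] at hx
    exact absurd hx (Multiset.notMem_zero x)
  | succ k ih =>
    intro r
    choose f hf using ih
    set L := ⌊((k + 1 : ℕ) : ℚ) / r⌋₊ with hL
    refine ⟨L + ∑ m ∈ Finset.range (L + 1), f (r - (m : ℚ)⁻¹), fun s hs hpos hsum x hx => ?_⟩
    obtain ⟨m, hm, hmle⟩ : ∃ m ∈ s, ∀ y ∈ s, m ≤ y := by
      have hne : s.toFinset.Nonempty := ⟨x, Multiset.mem_toFinset.2 hx⟩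
      exact ⟨s.toFinset.min' hne, Multiset.mem_toFinset.1 (Finset.min'_mem _ hne),
        fun y hy => Finset.min'_le _ y (Multiset.mem_toFinset.2 hy)⟩
    have hm0 : (0 : ℚ) < m := Nat.cast_pos.2 (hpos m hm)
    have hr : 0 < r := by
      rw [← hsum, ← Multiset.cons_erase hm, Multiset.map_cons, Multiset.sum_cons]
      have : 0 ≤ ((s.erase m).map fun y : ℕ => (y : ℚ)⁻¹).sum :=
        Multiset.sum_nonneg fun q hq => by
          obtain ⟨y, -, rfl⟩ := Multiset.mem_map.1 hq
          positivity
      have : (0 : ℚ) < (m : ℚ)⁻¹ := inv_pos.2 hm0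
      linarith
    have hmL : m ≤ L := by
      rw [hL, Nat.le_floor_iff (by positivity), le_div_iff₀ hr]
      have h1 : r ≤ ((k + 1 : ℕ) : ℚ) * (m : ℚ)⁻¹ := by
        rw [← hsum]
        refine (Multiset.sum_le_card_nsmul _ (m : ℚ)⁻¹ fun q hq => ?_).trans ?_
        · obtain ⟨y, hy, rfl⟩ := Multiset.mem_map.1 hq
          exact inv_anti₀ hm0 (by exact_mod_cast hmle y hy)
        · rw [Multiset.card_map, nsmul_eq_mul]
          exact mul_le_mul_of_nonneg_right (by exact_mod_cast hs) (inv_nonneg.2 hm0.le)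
      calc (m : ℚ) * r ≤ (m : ℚ) * (((k + 1 : ℕ) : ℚ) * (m : ℚ)⁻¹) :=
            mul_le_mul_of_nonneg_left h1 hm0.le
        _ = _ := by field_simp
    by_cases hxm : x = m
    · omega
    · have h1 := hf (r - (m : ℚ)⁻¹) (s.erase m)
        (by rw [Multiset.card_erase_of_mem hm]; exact Nat.pred_le_iff.2 hs)
        (fun y hy => hpos y (Multiset.mem_of_mem_erase hy))
        (by rw [← hsum, ← Multiset.cons_erase hm, Multiset.map_cons, Multiset.sum_cons,
          Multiset.erase_cons_head]; ring)
        x ((Multiset.mem_erase_of_ne hxm).2 hx)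
      have h2 : f (r - (m : ℚ)⁻¹) ≤ ∑ i ∈ Finset.range (L + 1), f (r - (i : ℚ)⁻¹) :=
        Finset.single_le_sum (f := fun i : ℕ => f (r - (i : ℚ)⁻¹)) (fun i _ => Nat.zero_le _)
          (Finset.mem_range.2 (Nat.lt_succ_of_le hmL))
      omega


/-- Let p be a prime and a a natural number. There is a bound N such that every finite group whose Sylow p-subgroups have order p^a and whose only p-block (relative to a maximal ideal of the algebraic integers containing p) is the principal block has order at most N. -/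
theorem result (p : ℕ) [Fact p.Prime] (a : ℕ) : ∃ N : ℕ, ∀ (G : Type u) [Group G] [Finite G] (M : Ideal Cfsg.AlgInt), Cfsg.IsPModular p M → (Nat.card G).factorization p = a → (∀ B : Set (Cfsg.IrrCharacter G), Cfsg.IsPBlock M B → B = Cfsg.principalBlock M G) → Nat.card G ≤ N := by
  classical
  obtain ⟨N, hN⟩ := landau (p ^ (2 * a) + 1) 1
  refine ⟨N, fun G _ _ M hM ha honly => ?_⟩
  cases nonempty_fintype G
  haveI : Finite (ConjClasses G) := Finite.of_surjective _ ConjClasses.mk_surjective
  haveI : Fintype (ConjClasses G) := Fintype.ofFinite _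
  set B := Cfsg.principalBlock M G
  have hB : Cfsg.IsPBlock M B := BlockBasic.isPBlock_principalBlock M
  have hall : ∀ χ : Cfsg.IrrCharacter G, χ ∈ B := fun χ => by
    have h := honly _ (BlockBasic.isPBlock_blockOf M χ)
    rw [← h]
    exact BlockBasic.self_mem_blockOf hM χ
  have hk : Fintype.card (ConjClasses G) ≤ p ^ (2 * a) + 1 := by
    rw [← Nat.card_eq_fintype_card, ← CharBasic.card_irrCharacter, Nat.card_eq_fintype_card]
    obtain ⟨θ, hθ, h0⟩ := H83.exists_height_zero hM hB
    set s := (Finset.univ : Finset (Cfsg.IrrCharacter G)).erase θ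
    have h1 := H83.four_mul_sum_erase_le hM hB hθ s (Finset.notMem_erase θ _)
    have h2 : (s.card : ℤ) ≤ ∑ φ ∈ s, H83.entry p B θ φ ^ 2 := by
      rw [Finset.cast_card]
      refine Finset.sum_le_sum fun φ _ => ?_
      have h := H83.entry_ne_zero_of_height_zero hM hB hθ h0 (hall φ)
      have hp1 : (1 : ℤ) ≤ (p : ℤ) ^ Cfsg.blockHeight p B (φ : G → ℂ) :=
        one_le_pow₀ (by exact_mod_cast (Fact.out : p.Prime).one_le)
      rw [← sq_abs (H83.entry p B θ φ)]
      nlinarith
    have h3 : (((p : ℤ) ^ Cfsg.blockDefect p B) ^ 2) ≤ ((p ^ (2 * a) : ℕ) : ℤ) := by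
      rw [← pow_mul, Nat.cast_pow]
      refine pow_le_pow_right₀ (by exact_mod_cast (Fact.out : p.Prime).one_le) ?_
      rw [H83.blockDefect_eq, ha]
      omega
    have h4 : s.card + 1 = Fintype.card (Cfsg.IrrCharacter G) := by
      rw [Finset.card_erase_of_mem (Finset.mem_univ θ), Finset.card_univ]
      exact Nat.sub_add_cancel (Fintype.card_pos_iff.2 ⟨θ⟩)
    have h5 : (0 : ℤ) ≤ (s.card : ℤ) := Int.natCast_nonneg _
    omega
  -- centralizer orders
  let c : ConjClasses G → ℕ := fun C => Nat.card (Subgroup.centralizer ({C.out} : Set G))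
  have hcpos : ∀ C, 0 < c C := fun C => Nat.card_pos
  have hsum : (∑ C : ConjClasses G, ((c C : ℚ))⁻¹) = 1 := by
    have h1 := sum_conjClasses_card_eq_card G
    have h2 : ∀ C : ConjClasses G, C.carrier.toFinset.card * c C = Nat.card G := by
      intro C
      have hset : C.carrier.toFinset = Finset.univ.filter (fun g => IsConj C.out g) := by
        ext g
        simp only [Set.mem_toFinset, Finset.mem_filter_univ, ConjClasses.mem_carrier_iff_mk_eq]
        conv_lhs => rw [← Quotient.out_eq C]
        exact ConjClasses.mk_eq_mk_iff_isConj.trans isConj_comm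
      have h3 := H83.classSize_eq_index C.out
      have h4 : C.carrier.toFinset.card = (Subgroup.centralizer ({C.out} : Set G)).index := by
        rw [← h3, hset]
        congr!
      rw [h4]
      exact Subgroup.index_mul_card _
    have hG : (Nat.card G : ℚ) ≠ 0 := Nat.cast_ne_zero.2 Nat.card_pos.ne'
    apply mul_left_cancel₀ hG
    rw [Finset.mul_sum, mul_one]
    calc ∑ C : ConjClasses G, (Nat.card G : ℚ) * (c C : ℚ)⁻¹
        = ∑ C : ConjClasses G, (C.carrier.toFinset.card : ℚ) := by
          refine Finset.sum_congr rfl fun C _ => ?_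
          rw [← h2 C, Nat.cast_mul, mul_assoc,
            mul_inv_cancel₀ (Nat.cast_ne_zero.2 (hcpos C).ne'), mul_one]
      _ = (Nat.card G : ℚ) := by
          rw [Nat.card_eq_fintype_card, ← h1]; push_cast; rfl
  have h := hN (Finset.univ.val.map c) (by simpa using hk)
    (fun x hx => by obtain ⟨C, -, rfl⟩ := Multiset.mem_map.1 hx; exact hcpos C)
    (by rw [Multiset.map_map]; exact hsum)
    (c (ConjClasses.mk 1)) (Multiset.mem_map.2 ⟨_, Finset.mem_univ _, rfl⟩)
  have hone : (ConjClasses.mk (1 : G)).out = 1 :=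
    isConj_one_left.1 (ConjClasses.mk_eq_mk_iff_isConj.1 (Quotient.out_eq (ConjClasses.mk (1 : G))))
  have hc1 : c (ConjClasses.mk 1) = Nat.card G := by
    show Nat.card (Subgroup.centralizer ({(ConjClasses.mk (1 : G)).out} : Set G)) = _
    rw [hone, show Subgroup.centralizer ({1} : Set G) = ⊤ by ext; simp [Subgroup.mem_centralizer_iff],
      Subgroup.card_top]
  omega

end Cfsg.Agent.S4718
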