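import Cfsg.Statements.S0218
import Mathlib.GroupTheory.SpecificGroups.Quaternion
import Mathlib.Tactic

set_option autoImplicit false
open Cfsg

namespace Cfsg.Agent.S0218

/-- The generalized quaternion group of order 2^(n+3) contains exactly one element of order 2. -/
theorem result (n : ℕ) : Nat.card {x : QuaternionGroup (2 ^ (n + 1)) // orderOf x = 2} = 1 := by
  rw [Nat.card_eq_one_iff_unique]
  have : NeZero (2 ^ (n + 1)) := ⟨by positivity⟩
  have key : ∀ x : QuaternionGroup (2 ^ (n + 1)), orderOf x = 2 →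
      x = QuaternionGroup.a ((2 ^ (n + 1) : ℕ) : ZMod (2 * 2 ^ (n + 1))) := by
    rintro (i | i) h
    · have hi : i ≠ 0 := by rintro rfl; simp [QuaternionGroup.a_zero] at h
      have h2 : i + i = 0 := by
        have := pow_orderOf_eq_one (QuaternionGroup.a i)
        rw [h, pow_two, QuaternionGroup.a_mul_a, ← QuaternionGroup.a_zero] at this
        exact QuaternionGroup.a.inj this
      congr
      rw [← ZMod.natCast_zmod_val i] at h2 ⊢
      rw [← Nat.cast_add, ZMod.natCast_eq_zero_iff] at h2
      obtain ⟨c, hc⟩ := h2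
      have hlt := ZMod.val_lt i
      have hne : i.val ≠ 0 := fun h0 => hi ((ZMod.val_eq_zero i).1 h0)
      have hc1 : c = 1 := by
        rcases c with _ | _ | c
        · omega
        · rfl
        · exfalso; nlinarith
      congr 1
      subst hc1; omega
    · rw [QuaternionGroup.orderOf_xa] at h; omega
  refine ⟨⟨fun a b => Subtype.ext ((key _ a.2).trans (key _ b.2).symm)⟩, ⟨⟨QuaternionGroup.a ((2 ^ (n + 1) : ℕ) : ZMod (2 * 2 ^ (n + 1))), ?_⟩⟩⟩
  · rw [← QuaternionGroup.a_one_pow, orderOf_pow' _ (by positivity), QuaternionGroup.orderOf_a_one,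
      Nat.gcd_eq_right (Dvd.intro_left 2 rfl), Nat.mul_div_cancel _ (by positivity)]

end Cfsg.Agent.S0218
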