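import Cfsg.Statements.S4659
import Cfsg.Agent.H82.MaxPair

set_option autoImplicit false
open Cfsg

namespace Cfsg.Agent.S4659

open Cfsg.Agent Cfsg.Agent.BlockBasic


/-- Fix a prime p and a maximal ideal M of the algebraic integers containing p. If (P, e) is a maximal Brauer pair of the p-block B of the finite group G, then P is a defect group of B. -/
theorem result {G : Type*} [Group G] [Fintype G] (p : ℕ) [Fact p.Prime] (M : Ideal Cfsg.AlgInt) (hM : Cfsg.IsPModular p M) (B : Set (Cfsg.IrrCharacter G)) (P : Subgroup G) (e : Set (Cfsg.IrrCharacter (Subgroup.centralizer (P : Set G)))) (hmax : Cfsg.IsMaximalBrauerPair p M B P e) : Cfsg.IsDefectGroup p M B P := by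
  classical
  obtain ⟨hBe, -⟩ := id hmax
  obtain ⟨⟨hP, he⟩, hB, -⟩ := id hBe
  obtain ⟨χ, hχ⟩ := isPBlock_nonempty hM hB
  obtain ⟨ξ, hξ⟩ := isPBlock_nonempty hM he
  cases nonempty_fintype (Subgroup.centralizer (P : Set G))
  obtain ⟨g₀, hg₀⟩ := exists_isDefectClass hM hB
  let D : Sylow p (Subgroup.centralizer ({g₀} : Set G)) := default
  -- a point of the support of the idempotent in the centralizer
  obtain ⟨c₀, hc₀, hc₀u⟩ : ∃ c ∈ Subgroup.centralizer (P : Set G),
      ¬ Cfsg.MemLocalIdeal M (Cfsg.blockCoeff B c) := by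
    by_contra h
    simp only [not_exists, not_and, not_not] at h
    apply not_memLocalIdeal_one hM
    have hbr : H82.IsIdealElt M (H82.br P (blockElem B)) := fun c => by
      rw [H82.coeff_br, coeff_blockElem]; exact h c c.2
    have h1 := H82.isIdealElt_omega hM ξ.2 (H82.isCentralElt_br
      (H82.isInvElt_of_isCentralElt (isCentralElt_blockElem B) _)) hbr
    rw [← H82.brOmega_eq] at h1
    have h2 := memLocalIdeal_sub hM h1 (H82.brOmega_blockElem_of_isBrauerPairOf hBe hξ)
    rwa [sub_sub_cancel] at h2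
  obtain ⟨x, hgx, hx⟩ := H35.exists_conj_mem_centralizer hM hB hχ (hg₀.2.2 χ hχ) hc₀u P hP
    (H82.le_centralizer_singleton_iff.mpr hc₀)
  obtain ⟨d, hd⟩ := H35.exists_le_conj hgx P hP hx D
  -- the class with defect group `P`
  obtain ⟨c, hc, hcard, hcu⟩ := H82.exists_class_of_maximal hM hmax hχ
  obtain ⟨S, hS⟩ := H82.exists_sylow_eq (p := p) (H82.le_centralizer_singleton_iff.mpr hc) hcard
  obtain ⟨b, hb⟩ := H35.exists_sylImage_le hM hB hχ hcu hg₀.2.1 D S
  have hle : Nat.card (H35.sylImage D) ≤ Nat.card P := by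
    refine (Subgroup.card_le_of_le hb).trans ?_
    rw [Subgroup.card_map_of_injective (MulAut.conj b).injective, H35.card_sylImage, ← hcard]
  have heq : P = (H35.sylImage D).map (MulAut.conj d).toMonoidHom :=
    Subgroup.eq_of_le_of_card_ge hd
      (by rw [Subgroup.card_map_of_injective (MulAut.conj d).injective]; exact hle)
  refine ⟨d * g₀ * d⁻¹, H82.isDefectClass_conj hg₀ d, ?_⟩
  have hPle : P ≤ Subgroup.centralizer ({d * g₀ * d⁻¹} : Set G) := by
    rw [heq]
    rintro _ ⟨q, hq, rfl⟩
    exact H35.conj_mem_centralizer_singleton d (H35.sylImage_le D hq)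
  obtain ⟨S', hS'⟩ := H82.exists_sylow_eq (p := p) hPle (by
    rw [H82.card_centralizer_conj, heq, Subgroup.card_map_of_injective (MulAut.conj d).injective,
      H35.card_sylImage])
  exact ⟨S', by rw [hS', Subgroup.map_subgroupOf_eq_of_le hPle]⟩

end Cfsg.Agent.S4659
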