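import Cfsg.Statements.S1896
import Cfsg.Agent.H77.AutPGroup
import Cfsg.Agent.H25.QuaternionSylow
import Cfsg.Agent.PGroups.TwoGroups
import Cfsg.Agent.PGroups.Commutator
import Cfsg.Agent.Cores.Basic


set_option autoImplicit false
open Cfsg

namespace Cfsg.Agent.S1896

open Subgroup
open scoped commutatorElement

variable {X : Type*} [Group X] [Finite X]

/-- An automorphism of order three fixes every cyclic 2-subgroup that it normalizes. -/
theorem fix_of_cyclic (φ : MulAut X) (h3 : ∀ x, φ (φ (φ x)) = x) :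
    ∀ (m : ℕ) (d : X), d ^ 2 ^ m = 1 → φ d ∈ zpowers d → φ d = d := by
  intro m
  induction m with
  | zero => intro d hd _; rw [pow_zero, pow_one] at hd; rw [hd, map_one]
  | succ m ih =>
    intro d hd hφ
    obtain ⟨u, hu⟩ := hφ
    have hu' : d ^ u = φ d := hu
    have h2 : φ (d ^ 2) = d ^ 2 := by
      refine ih (d ^ 2) (by rw [← pow_mul, ← pow_succ', hd]) ⟨u, ?_⟩
      show (d ^ 2) ^ u = φ (d ^ 2)
      rw [map_pow, ← hu', ← zpow_natCast, ← zpow_mul, ← zpow_natCast, ← zpow_mul, mul_comm]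
    set w := φ d * d⁻¹ with hw
    have hwd : w ∈ zpowers d := mul_mem ⟨u, hu⟩ (inv_mem (mem_zpowers d))
    have hcomm : Commute (φ d) d⁻¹ := by
      rw [← hu']; exact (Commute.self_zpow d u).symm.inv_right
    have hw2 : w * w = 1 := by
      rw [← sq, hw, hcomm.mul_pow, ← map_pow, h2, inv_pow, mul_inv_cancel]
    have hφw : φ w = w := by
      by_cases hw1 : w = 1
      · rw [hw1, map_one]
      have hφw1 : φ w ≠ 1 := fun h => hw1 (φ.injective (h.trans (map_one φ).symm))
      have hmem : φ w ∈ zpowers d := by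
        obtain ⟨t, ht⟩ := hwd
        rw [show φ w = (φ d) ^ t by rw [← map_zpow]; exact congrArg φ ht.symm, ← hu']
        exact zpow_mem (zpow_mem (mem_zpowers d) u) t
      have ho : ∀ y : X, y ≠ 1 → y * y = 1 → orderOf y = 2 := fun y hy hy2 =>
        orderOf_eq_prime (by rw [sq]; exact hy2) hy
      have h' : zpowers (⟨φ w, hmem⟩ : zpowers d) = zpowers (⟨w, hwd⟩ : zpowers d) := by
        apply H25.eq_of_card_eq_of_isCyclic
        rw [Nat.card_zpowers, Nat.card_zpowers, Subgroup.orderOf_mk, Subgroup.orderOf_mk,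
          ho _ hw1 hw2, ho _ hφw1 (by rw [← map_mul, hw2, map_one])]
      obtain ⟨t, ht⟩ := h'.le (mem_zpowers _)
      have ht' : w ^ t = φ w := congrArg Subtype.val ht
      obtain ⟨s, rfl | rfl⟩ := Int.even_or_odd' t
      · rw [zpow_mul, zpow_ofNat, sq, hw2, one_zpow] at ht'
        exact absurd ht'.symm hφw1
      · rw [zpow_add, zpow_mul, zpow_ofNat, sq, hw2, one_zpow, one_mul, zpow_one] at ht'
        exact ht'.symm
    have e : φ d = w * d := by rw [hw]; group
    have e3 := h3 d
    rw [e, map_mul, hφw, e, ← mul_assoc, hw2, one_mul, e] at e3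
    rwa [mul_eq_right.mp e3, one_mul] at e

/-- A finite metacyclic 2-group whose automorphism group is not a 2-group is isomorphic to the quaternion group of order 8 or to a homocyclic abelian group Z_{2^n} × Z_{2^n}. -/
theorem result {X : Type*} [Group X] [Finite X] (hX : IsPGroup 2 X)
    (hm : Cfsg.IsMetacyclic X) (hA : ¬ IsPGroup 2 (MulAut X)) :
    Nonempty (X ≃* QuaternionGroup 2) ∨
      ∃ n : ℕ, Nonempty (X ≃* Multiplicative (ZMod (2 ^ n)) × Multiplicative (ZMod (2 ^ n))) := by
  classical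
  haveI : Fact (Nat.Prime 2) := ⟨Nat.prime_two⟩
  obtain ⟨N, hNn, hNc, hXN⟩ := hm
  haveI := hNn
  -- the Frattini quotient
  obtain ⟨r, hr⟩ : ∃ r, (frattini X).index = 2 ^ r := by
    obtain ⟨n, hn⟩ := IsPGroup.iff_card.mp hX
    obtain ⟨r, -, hr⟩ := (Nat.dvd_prime_pow Nat.prime_two).mp (hn ▸ (frattini X).index_dvd_card)
    exact ⟨r, hr⟩
  obtain ⟨⟨a, haN⟩, hagen⟩ := hNc.exists_generator
  obtain ⟨b', hbgen⟩ := hXN.exists_generator
  obtain ⟨b, rfl⟩ := QuotientGroup.mk'_surjective N b'
  have hNa : N = zpowers a := by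
    refine le_antisymm (fun y hy => ?_) (zpowers_le.mpr haN)
    obtain ⟨t, ht⟩ := hagen ⟨y, hy⟩
    exact ⟨t, congrArg Subtype.val ht⟩
  have hgen : ∀ x : X, ∃ u v : ℤ, x = a ^ u * b ^ v := by
    intro x
    obtain ⟨v, hv⟩ := hbgen (QuotientGroup.mk' N x)
    have h : x * (b ^ v)⁻¹ ∈ N := by
      rw [← QuotientGroup.eq_one_iff]
      show QuotientGroup.mk' N (x * (b ^ v)⁻¹) = 1
      rw [map_mul, map_inv, map_zpow, ← hv, mul_inv_cancel]
    rw [hNa] at h
    obtain ⟨u, hu⟩ := h
    exact ⟨u, v, by rw [show a ^ u = x * (b ^ v)⁻¹ from hu]; group⟩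
  have hr2 : r ≤ 2 := by
    have h := H77.card_spanFrattini_le hX 2 ![a, b]
    rw [show H77.spanFrattini ![a, b] = ⊤ from by
      refine eq_top_iff.mpr fun x _ => ?_
      obtain ⟨u, v, rfl⟩ := hgen x
      exact mem_sup_left (mul_mem (zpow_mem (subset_closure (Set.mem_range_self (f := ![a, b]) 0)) u)
        (zpow_mem (subset_closure (Set.mem_range_self (f := ![a, b]) 1)) v)), card_top, ← (frattini X).index_mul_card, hr] at h
    exact (Nat.pow_le_pow_iff_right one_lt_two).mp (Nat.le_of_mul_le_mul_right h Nat.card_pos)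
  have hΦc : ∃ f, Nat.card (frattini X) = 2 ^ f := IsPGroup.iff_card.mp (hX.to_subgroup _)
  obtain ⟨f, hf⟩ := hΦc
  have hdvd := H77.card_mulAut_dvd hX hr
  rw [hf] at hdvd
  obtain ⟨q, hq, hqd, hq2⟩ : ∃ q, q.Prime ∧ q ∣ Nat.card (MulAut X) ∧ q ≠ 2 := by
    by_contra! h
    exact hA (IsPGroup.of_card (Nat.eq_prime_pow_of_unique_prime_dvd Nat.card_pos.ne'
      fun {d} hd hdd => h d hd hdd))
  have hq3 : q = 3 ∧ r = 2 := by
    have h := (hqd.trans hdvd)
    rcases hq.dvd_mul.mp h with h | h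
    · exact absurd ((Nat.prime_dvd_prime_iff_eq hq Nat.prime_two).mp
        (hq.dvd_of_dvd_pow (hq.dvd_of_dvd_pow h))) hq2
    interval_cases r
    · simp at h; exact absurd h hq.ne_one
    · simp [Finset.prod_range_succ] at h; exact absurd h hq.ne_one
    · simp [Finset.prod_range_succ] at h
      refine ⟨?_, rfl⟩
      have h' : q ∣ 2 * 3 := by simpa using h
      rcases hq.dvd_mul.mp h' with h | h
      · exact absurd ((Nat.prime_dvd_prime_iff_eq hq Nat.prime_two).mp h) hq2
      · exact (Nat.prime_dvd_prime_iff_eq hq Nat.prime_three).mp h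
  obtain ⟨rfl, rfl⟩ := hq3
  haveI : Fact (Nat.Prime 3) := ⟨hq⟩
  obtain ⟨φ, hφ⟩ := exists_prime_orderOf_dvd_card' 3 hqd
  have h3 : ∀ x, φ (φ (φ x)) = x := by
    intro x
    have h := pow_orderOf_eq_one φ
    rw [hφ, pow_succ, pow_two] at h
    exact DFunLike.congr_fun h x
  let π := QuotientGroup.mk' (frattini X)
  have hπ0 : ∀ x, π x = 1 ↔ x ∈ frattini X := fun x => QuotientGroup.eq_one_iff x
  have hsq : ∀ y : X ⧸ frattini X, y * y = 1 := by
    intro y
    obtain ⟨x, rfl⟩ := QuotientGroup.mk'_surjective _ y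
    rw [← map_mul, ← sq]
    exact (hπ0 _).mpr (PGroups.pow_mem_frattini hX x)
  have hπinv : ∀ x, π x⁻¹ = π x := fun x => by rw [map_inv]; exact inv_eq_of_mul_eq_one_left (hsq _)
  have hcard4 : Nat.card (X ⧸ frattini X) = 4 := by rw [← Subgroup.index_eq_card, hr]; norm_num
  have hφΦ : ∀ x, x ∈ frattini X → φ x ∈ frattini X := fun x hx =>
    (Subgroup.characteristic_iff_comap_eq.mp (inferInstance : (frattini X).Characteristic) φ).ge hx
  let ψ : X ⧸ frattini X →* X ⧸ frattini X := QuotientGroup.map _ _ φ.toMonoidHom hφΦ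
  have hψ : ∀ x, ψ (π x) = π (φ x) := fun x => rfl
  have hψ3 : ∀ y, ψ (ψ (ψ y)) = y := by
    intro y
    obtain ⟨x, rfl⟩ := QuotientGroup.mk'_surjective _ y
    rw [hψ, hψ, hψ, h3]
  have hψne : ¬ ∀ y, ψ y = y := by
    intro hall
    have hd := H77.card_trivial_on_frattini_dvd hX hr (zpowers φ) fun α hα x => by
      obtain ⟨n, -, rfl⟩ := Finset.mem_image.mp (mem_zpowers_iff_mem_range_orderOf.mp hα)
      rw [← hπ0, map_mul, hπinv]
      have : ∀ n : ℕ, π ((φ ^ n) x) = π x := by
        intro n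
        induction n with
        | zero => rfl
        | succ n ihn => rw [pow_succ', MulAut.mul_apply, ← hψ, hall, ihn]
      rw [this]
      exact hsq _
    rw [Nat.card_zpowers, hφ, hf, ← pow_mul] at hd
    exact absurd ((Nat.prime_dvd_prime_iff_eq Nat.prime_three Nat.prime_two).mp
      (Nat.prime_three.dvd_of_dvd_pow hd)) (by decide)
  -- the quotient as a set
  letI : Fintype (X ⧸ frattini X) := Fintype.ofFinite _
  have hfour : ∀ s t : X ⧸ frattini X, s ≠ 1 → t ≠ 1 → s ≠ t →
      ∀ y, y = 1 ∨ y = s ∨ y = t ∨ y = s * t := by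
    intro s t hs ht hst y
    have hst1 : s * t ≠ 1 := fun h => hst (by
      calc s = s * (t * t) := by rw [hsq, mul_one]
        _ = t := by rw [← mul_assoc, h, one_mul])
    have hc : ({1, s, t, s * t} : Finset (X ⧸ frattini X)).card = 4 := by
      rw [Finset.card_insert_of_notMem, Finset.card_insert_of_notMem, Finset.card_pair]
      · simpa using hs
      · simp only [Finset.mem_insert, Finset.mem_singleton, not_or]
        exact ⟨hst, fun h => ht (mul_left_cancel ((mul_one s).trans h)).symm⟩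
      · simp only [Finset.mem_insert, Finset.mem_singleton, not_or]
        exact ⟨hs.symm, ht.symm, hst1.symm⟩
    have := (Finset.card_eq_iff_eq_univ _).mp (hc.trans
      (hcard4.symm.trans Nat.card_eq_fintype_card))
    have h := Finset.mem_univ y
    rw [← this] at h
    simpa using h
  have hψfix : ∀ s, ψ s = s → s = 1 := by
    intro s hs
    by_contra hs1
    obtain ⟨t, ht⟩ : ∃ t, ψ t ≠ t := not_forall.mp hψne
    have ht1 : t ≠ 1 := fun h => ht (h ▸ map_one ψ)
    have hst : s ≠ t := fun h => ht (h ▸ hs)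
    rcases hfour s t hs1 ht1 hst (ψ t) with h | h | h | h
    · have h' := hψ3 t
      rw [h, map_one, map_one] at h'
      exact ht1 h'.symm
    · have h' := hψ3 t
      rw [h, hs, hs] at h'
      exact hst h'
    · exact ht h
    · have h' := hψ3 t
      rw [h, map_mul, hs, h, ← mul_assoc, hsq, one_mul] at h'
      exact ht h'
  set s := π a with hsdef
  set c := φ a with hcdef
  set t := π c with htdef
  have hψs : ψ s = t := hψ a
  have hs1 : s ≠ 1 := by
    intro h
    have htop : zpowers b = ⊤ := frattini_nongenerating (eq_top_iff.mpr fun x _ => by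
      obtain ⟨u, v, rfl⟩ := hgen x
      exact mul_mem (mem_sup_right (zpow_mem ((hπ0 a).mp h) u)) (mem_sup_left ⟨v, rfl⟩))
    refine hψne fun y => ?_
    obtain ⟨x, rfl⟩ := QuotientGroup.mk'_surjective (frattini X) y
    have hpow : ∀ x : X, π x = 1 ∨ π x = π b := by
      intro x
      obtain ⟨v, rfl⟩ := htop.ge (mem_top x)
      obtain ⟨w, rfl | rfl⟩ := Int.even_or_odd' v
      · left
        show π (b ^ (2 * w)) = 1
        rw [map_zpow, zpow_mul, zpow_ofNat, sq, hsq, one_zpow]
      · right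
        show π (b ^ (2 * w + 1)) = π b
        rw [map_zpow, zpow_add, zpow_mul, zpow_ofNat, sq, hsq, one_zpow, one_mul, zpow_one]
    have hall : Nat.card (X ⧸ frattini X) ≤ 2 := by
      rw [Nat.card_eq_fintype_card]
      refine le_trans (Finset.card_le_card (t := {1, π b}) fun y _ => ?_) Finset.card_le_two
      obtain ⟨x, rfl⟩ := QuotientGroup.mk'_surjective (frattini X) y
      rcases hpow x with h | h
      · exact Finset.mem_insert.mpr (Or.inl h)
      · exact Finset.mem_insert_of_mem (Finset.mem_singleton.mpr h)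
    omega
  have ht1 : t ≠ 1 := fun h => hs1 (by
    have h' := hψ3 s
    rw [hψs, h, map_one, map_one] at h'
    exact h'.symm)
  have hst : s ≠ t := fun h => hs1 (hψfix s (hψs.trans h.symm))
  have hψt : ψ t = s * t := by
    rcases hfour s t hs1 ht1 hst (ψ t) with h | h | h | h
    · exfalso
      have h' := hψ3 s
      rw [hψs, h, map_one] at h'
      exact hs1 h'.symm
    · exfalso
      have h' := hψ3 s
      rw [hψs, h, hψs] at h'
      exact hst h'.symm
    · exact absurd (hψfix t h) ht1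
    · exact h
  set N' := N.map φ.toMonoidHom with hN'def
  haveI hN'n : N'.Normal := hNn.map φ.toMonoidHom φ.surjective
  haveI hN'c : IsCyclic N' := by
    haveI := hNc
    exact (N.equivMapOfInjective φ.toMonoidHom φ.injective).isCyclic.mp hNc
  have hN'a : N' = zpowers c := by rw [hN'def, hNa, MonoidHom.map_zpowers]; rfl
  have hcN' : c ∈ N' := hN'a ▸ mem_zpowers c
  have htop : N ⊔ N' = ⊤ := frattini_nongenerating (eq_top_iff.mpr fun x _ => by
    have hmem : ∀ y, π y ∈ (N ⊔ N').map π := by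
      intro y
      rcases hfour s t hs1 ht1 hst (π y) with h | h | h | h
      · rw [h]; exact one_mem _
      · rw [h]; exact mem_map_of_mem π (mem_sup_left haN)
      · rw [h]; exact mem_map_of_mem π (mem_sup_right hcN')
      · rw [h, hsdef, htdef, ← map_mul]
        exact mem_map_of_mem π (mul_mem (mem_sup_left haN) (mem_sup_right hcN'))
    have h : x ∈ ((N ⊔ N').map π).comap π := hmem x
    rwa [comap_map_eq, QuotientGroup.ker_mk'] at h)
  obtain ⟨i, j, he⟩ : ∃ i j : ℕ, φ c = a ^ i * c ^ j := by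
    obtain ⟨y, hy, w, hw, hyw⟩ := Subgroup.mem_sup_of_normal_left.mp (htop.ge (mem_top (φ c)))
    rw [hNa] at hy
    rw [hN'a] at hw
    obtain ⟨i, -, rfl⟩ := Finset.mem_image.mp (mem_zpowers_iff_mem_range_orderOf.mp hy)
    obtain ⟨j, -, rfl⟩ := Finset.mem_image.mp (mem_zpowers_iff_mem_range_orderOf.mp hw)
    exact ⟨i, j, hyw.symm⟩
  have hpar : ∀ (y : X ⧸ frattini X) (n : ℕ), (Even n → y ^ n = 1) ∧ (Odd n → y ^ n = y) := by
    refine fun y n => ⟨fun ⟨w, hw⟩ => ?_, fun ⟨w, hw⟩ => ?_⟩
    · rw [hw, ← two_mul, pow_mul, sq, hsq, one_pow]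
    · rw [hw, pow_succ, pow_mul, sq, hsq, one_pow, one_mul]
  have hijodd : Odd i ∧ Odd j := by
    have h : s * t = s ^ i * t ^ j := by
      rw [← hψt, htdef, hψ, he, map_mul, map_pow, map_pow]
    rcases Nat.even_or_odd i with hi | hi <;> rcases Nat.even_or_odd j with hj | hj
    · rw [(hpar s i).1 hi, (hpar t j).1 hj, mul_one] at h
      exact absurd (by calc s = s * (t * t) := by rw [hsq, mul_one]
                        _ = t := by rw [← mul_assoc, h, one_mul]) hst
    · rw [(hpar s i).1 hi, (hpar t j).2 hj, one_mul, mul_eq_right] at h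
      exact absurd h hs1
    · rw [(hpar s i).2 hi, (hpar t j).1 hj, mul_one, mul_eq_left] at h
      exact absurd h ht1
    · exact ⟨hi, hj⟩
  -- the intersection
  have hcomm_mem : ∀ x ∈ N, ∀ y ∈ N', ⁅y, x⁆ ∈ N ⊓ N' := fun x hx y hy => mem_inf.mpr
    ⟨N.mul_mem (hNn.conj_mem x hx y) (N.inv_mem hx), by
      rw [commutatorElement_def, mul_assoc, mul_assoc]
      refine N'.mul_mem hy ?_
      rw [← mul_assoc]
      exact hN'n.conj_mem _ (N'.inv_mem hy) x⟩
  have hDcent : N ⊓ N' ≤ center X := by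
    intro y hy
    rw [mem_center_iff]
    intro g
    have hc1 : a ∈ centralizer ({y} : Set X) := by
      obtain ⟨u, hu⟩ : y ∈ zpowers a := hNa ▸ hy.1
      exact mem_centralizer_singleton_iff.mpr (by rw [← show a ^ u = y from hu]; exact (Commute.self_zpow a u).eq)
    have hc2 : c ∈ centralizer ({y} : Set X) := by
      obtain ⟨u, hu⟩ : y ∈ zpowers c := hN'a ▸ hy.2
      exact mem_centralizer_singleton_iff.mpr (by rw [← show c ^ u = y from hu]; exact (Commute.self_zpow c u).eq)
    have hle : N ⊔ N' ≤ centralizer ({y} : Set X) := by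
      rw [hNa, hN'a]; exact sup_le (zpowers_le.mpr hc1) (zpowers_le.mpr hc2)
    exact mem_centralizer_singleton_iff.mp (hle (htop.ge (mem_top g)))
  obtain ⟨n, hn⟩ := IsPGroup.iff_orderOf.mp hX a
  obtain ⟨δ, hδ⟩ := IsPGroup.iff_card.mp (hX.to_subgroup (N ⊓ N'))
  have hδn : δ ≤ n := by
    have h := Subgroup.card_le_of_le (inf_le_left : N ⊓ N' ≤ N)
    rw [hδ, hNa, Nat.card_zpowers, hn] at h
    exact (Nat.pow_le_pow_iff_right one_lt_two).mp h
  obtain ⟨k, hk⟩ := Nat.exists_eq_add_of_le hδn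
  set d := a ^ 2 ^ k with hddef
  have hdo : orderOf d = 2 ^ δ := by
    rw [hddef, orderOf_pow_of_dvd (by positivity) (hn ▸ pow_dvd_pow 2 (by omega)), hn, hk,
      pow_add, Nat.mul_div_cancel _ (by positivity)]
  have hD : N ⊓ N' = zpowers d := by
    haveI := hNc
    have h := H25.eq_of_card_eq_of_isCyclic ((N ⊓ N').subgroupOf N) ((zpowers d).subgroupOf N) (by
      rw [Nat.card_congr (Subgroup.subgroupOfEquivOfLe inf_le_left).toEquiv,
        Nat.card_congr (Subgroup.subgroupOfEquivOfLe (zpowers_le.mpr (N.pow_mem haN _))).toEquiv,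
        hδ, Nat.card_zpowers, hdo])
    have h' := congrArg (Subgroup.map N.subtype) h
    rwa [subgroupOf_map_subtype, subgroupOf_map_subtype, inf_eq_left.mpr inf_le_left,
      inf_eq_left.mpr (zpowers_le.mpr (N.pow_mem haN _))] at h'
  have hk1 : 1 ≤ k := by
    by_contra h0
    have ha' : a ∈ N' := by
      have h : d ∈ N ⊓ N' := hD ▸ mem_zpowers d
      rw [hddef, show k = 0 by omega, pow_zero, pow_one] at h
      exact h.2
    rw [hN'a] at ha'
    obtain ⟨u, -, hu⟩ := Finset.mem_image.mp (mem_zpowers_iff_mem_range_orderOf.mp ha')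
    have h' : s = t ^ u := by rw [hsdef, ← hu, map_pow]
    rcases Nat.even_or_odd u with h | h
    · exact hs1 (h'.trans ((hpar t u).1 h))
    · exact hst (h'.trans ((hpar t u).2 h))
  have hφd : φ d = d := by
    refine fix_of_cyclic φ h3 δ d (by rw [← hdo, pow_orderOf_eq_one]) ?_
    set N'' := N'.map φ.toMonoidHom with hN''
    have hDmap : (N ⊓ N').map φ.toMonoidHom = N' ⊓ N'' := map_inf N N' φ.toMonoidHom φ.injective
    have hN''n : N''.Normal := hN'n.map φ.toMonoidHom φ.surjective
    -- `φ (N ∩ N') = N ∩ N'`: both are cyclic subgroups of `N'` of the same order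
    have h := H25.eq_of_card_eq_of_isCyclic ((N ⊓ N').subgroupOf N') ((N' ⊓ N'').subgroupOf N') (by
      rw [Nat.card_congr (Subgroup.subgroupOfEquivOfLe inf_le_right).toEquiv,
        Nat.card_congr (Subgroup.subgroupOfEquivOfLe inf_le_left).toEquiv, ← hDmap,
        card_map_of_injective φ.injective])
    have h' := congrArg (Subgroup.map N'.subtype) h
    rw [subgroupOf_map_subtype, subgroupOf_map_subtype, inf_eq_left.mpr inf_le_right,
      inf_eq_left.mpr inf_le_left, ← hDmap] at h'
    rw [← hD, h']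
    exact mem_map_of_mem φ.toMonoidHom (hD ▸ mem_zpowers d)
  have hcm : c ^ 2 ^ k = d := by rw [hcdef, ← map_pow, ← hddef, hφd]
  have hem : (φ c) ^ 2 ^ k = d := by rw [← map_pow, hcm, hφd]
  have hdc : d ∈ center X := hDcent (hD ▸ mem_zpowers d)
  set w := ⁅c ^ j, a ^ i⁆ with hwdef
  have hwD : w ∈ N ⊓ N' := hcomm_mem _ (N.pow_mem haN i) _ (N'.pow_mem hcN' j)
  have hwc : w ∈ center X := hDcent hwD
  have hwm : w ^ 2 ^ k = 1 := by
    rw [hwdef, ← PGroups.commutatorElement_pow_right_of_mem_center hwc, ← pow_mul, mul_comm, pow_mul]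
    show ⁅c ^ j, d ^ i⁆ = 1
    rw [commutatorElement_eq_one_iff_mul_comm]
    exact mem_center_iff.mp (pow_mem hdc i) (c ^ j)
  rw [he, PGroups.mul_pow_of_commutator_mem_center hwc, ← pow_mul a, ← pow_mul c,
    mul_comm i, mul_comm j, pow_mul a, pow_mul c, ← hddef, hcm, ← pow_add] at hem
  set C := (2 ^ k).choose 2 with hC
  have hwC2 : (w ^ C) ^ 2 = 1 := by
    rw [← pow_mul, hC, Nat.choose_two_right, Nat.div_mul_cancel (Nat.even_mul_pred_self _).two_dvd,
      pow_mul, hwm, one_pow]
  obtain ⟨u, hu⟩ : ∃ u, i + j = 2 * u + 2 := by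
    obtain ⟨x, hx⟩ := hijodd.1
    obtain ⟨y, hy⟩ := hijodd.2
    exact ⟨x + y, by omega⟩
  have hdu : d ^ (2 * u + 1) * w ^ C = 1 := by
    have h : d * (d ^ (2 * u + 1) * w ^ C) = d * 1 := by
      rw [← mul_assoc, ← pow_succ', mul_one]
      conv_rhs => rw [← hem, hu]
    exact mul_left_cancel h
  have hd2 : d ^ 2 = 1 := by
    have h1 : (d ^ (2 * u + 1)) ^ 2 = 1 := by
      rw [eq_inv_of_mul_eq_one_left hdu, inv_pow, hwC2, inv_one]
    rw [← pow_mul] at h1
    have h2 := orderOf_dvd_of_pow_eq_one h1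
    rw [hdo] at h2
    have h3 : Nat.Coprime (2 ^ δ) (2 * u + 1) :=
      Nat.Coprime.pow_left δ (Nat.coprime_two_left.mpr ⟨u, rfl⟩)
    exact orderOf_dvd_iff_pow_eq_one.mp (hdo ▸ (h3.dvd_of_dvd_mul_left h2))
  by_cases hd1 : d = 1
  · right
    have hDbot : N ⊓ N' = ⊥ := by rw [hD, hd1, zpowers_one_eq_bot]
    refine ⟨n, ?_⟩
    have hcomm : ∀ (x : N) (y : N'), Commute (N.subtype x) (N'.subtype y) := by
      intro x y
      have h := hcomm_mem x x.2 y y.2
      rw [hDbot, mem_bot, commutatorElement_eq_one_iff_mul_comm] at h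
      exact h.symm
    let F : N × N' →* X := MonoidHom.noncommCoprod N.subtype N'.subtype hcomm
    have hF : Function.Bijective F := by
      refine ⟨(injective_iff_map_eq_one F).mpr fun ⟨x, y⟩ h => ?_, fun z => ?_⟩
      · have h' : (x : X) * y = 1 := h
        have hx : (x : X) ∈ N ⊓ N' := mem_inf.mpr ⟨x.2, (eq_inv_of_mul_eq_one_left h') ▸ N'.inv_mem y.2⟩
        rw [hDbot, mem_bot] at hx
        rw [hx, one_mul] at h'
        exact Prod.ext (Subtype.ext hx) (Subtype.ext h')
      · obtain ⟨x, hx, y, hy, rfl⟩ := Subgroup.mem_sup_of_normal_left.mp (htop.ge (mem_top z))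
        exact ⟨(⟨x, hx⟩, ⟨y, hy⟩), rfl⟩
    haveI := hNc
    have hcN : Nat.card N = 2 ^ n := by rw [hNa, Nat.card_zpowers, hn]
    have hcN'' : Nat.card N' = 2 ^ n := by
      rw [hN'def, card_map_of_injective φ.injective, hcN]
    refine ⟨(MulEquiv.ofBijective F hF).symm.trans (MulEquiv.prodCongr ?_ ?_)⟩
    · exact (zmodCyclicMulEquiv hNc).symm.trans (by rw [hcN]; exact MulEquiv.refl _)
    · exact (zmodCyclicMulEquiv hN'c).symm.trans (by rw [hcN'']; exact MulEquiv.refl _)
  · left
    have hdo2 : orderOf d = 2 := orderOf_eq_prime hd2 hd1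
    have hδ1 : δ = 1 := (Nat.pow_right_injective le_rfl) (by
      show 2 ^ δ = 2 ^ 1
      rw [← hdo, hdo2, pow_one])
    have hwC : w ^ C = d := by
      have h : d ^ (2 * u + 1) = d := by rw [pow_succ, pow_mul, hd2, one_pow, one_mul]
      rw [h] at hdu
      rw [eq_inv_of_mul_eq_one_right hdu]
      exact inv_eq_of_mul_eq_one_left (by rw [← sq]; exact hd2)
    have hw1 : w ≠ 1 := fun h => hd1 (by rw [← hwC, h, one_pow])
    have hDel : ∀ y ∈ N ⊓ N', y = 1 ∨ y = d := by
      intro y hy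
      rw [hD] at hy
      obtain ⟨v, -, rfl⟩ := Finset.mem_image.mp (mem_zpowers_iff_mem_range_orderOf.mp hy)
      rcases Nat.even_or_odd' v with ⟨v, rfl | rfl⟩
      · exact .inl (by rw [pow_mul, hd2, one_pow])
      · exact .inr (by rw [pow_succ, pow_mul, hd2, one_pow, one_mul])
    have hwd : w = d := (hDel w hwD).resolve_left hw1
    have hk' : k = 1 := by
      by_contra hne
      obtain ⟨l, rfl⟩ : ∃ l, k = l + 2 := ⟨k - 2, by omega⟩
      have heven : Even C := by
        rw [hC, Nat.choose_two_right, show 2 ^ (l + 2) * (2 ^ (l + 2) - 1) / 2 =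
          2 ^ (l + 1) * (2 ^ (l + 2) - 1) by
            rw [pow_succ 2 (l + 1), mul_comm (2 ^ (l + 1)) 2, mul_assoc, Nat.mul_div_cancel_left _ two_pos]]
        exact (Nat.even_pow.mpr ⟨even_two, by omega⟩).mul_right _
      obtain ⟨v, hv⟩ := heven
      apply hd1
      rw [← hwC, hwd, hv, ← two_mul, pow_mul, hd2, one_pow]
    subst hk'
    subst hδ1
    have hn2 : n = 2 := hk
    subst hn2
    have hza : ⁅c, a⁆ = d := by
      refine (hDel _ (hcomm_mem a haN c hcN')).resolve_left fun h => hw1 ?_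
      rw [commutatorElement_eq_one_iff_mul_comm] at h
      rw [hwdef, commutatorElement_eq_one_iff_mul_comm]
      exact ((show Commute c a from h).pow_pow j i).eq
    have hnot : c ∉ zpowers a := by
      intro h
      obtain ⟨v, -, hv⟩ := Finset.mem_image.mp (mem_zpowers_iff_mem_range_orderOf.mp h)
      have h' : t = s ^ v := by rw [htdef, ← hv, map_pow]
      rcases Nat.even_or_odd v with h | h
      · exact ht1 (h'.trans ((hpar s v).1 h))
      · exact hst (h'.trans ((hpar s v).2 h)).symm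
    refine PGroups.nonempty_mulEquiv_quaternion (n := 2) (c := a) (y := c) (by rw [hn]; norm_num) hnot
      (by simpa [hddef] using hcm) ?_ ?_
    · rw [commutatorElement_def, mul_inv_eq_iff_eq_mul] at hza
      rw [hza, hddef, pow_one, ← pow_succ]
      refine eq_inv_of_mul_eq_one_left ?_
      rw [← pow_succ, show 2 + 1 + 1 = 2 ^ 2 by norm_num, ← hn, pow_orderOf_eq_one]
    · have h := Cores.card_sup_mul_card_inf N N'
      rw [htop, card_top, hδ, hN'def, card_map_of_injective φ.injective, hNa, Nat.card_zpowers, hn] at h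
      norm_num at h ⊢
      omega

end Cfsg.Agent.S1896
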