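import Cfsg.Statements.S0219
import Mathlib.GroupTheory.Transfer
import Mathlib.GroupTheory.Sylow
import Mathlib.GroupTheory.SpecificGroups.Cyclic

set_option autoImplicit false
open Cfsg

namespace Cfsg.Agent.S0219

/-- If a finite group has even order and a cyclic Sylow 2-subgroup, then it has a subgroup of index 2 (consider the parity of permutations in the regular representation). -/
theorem result {G : Type*} [Group G] [Finite G] (heven : Even (Nat.card G)) (T : Sylow 2 G) (hT : IsCyclic (T : Subgroup G)) : ∃ H : Subgroup G, H.index = 2 := by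
  have : Fact (Nat.Prime 2) := ⟨Nat.prime_two⟩
  have hmin : (Nat.card G).minFac = 2 := by
    rw [Nat.minFac_eq_two_iff]; exact even_iff_two_dvd.1 heven
  have hle := IsCyclic.normalizer_le_centralizer hmin hT
  set f := MonoidHom.transferSylow T hle with hf
  have hcompl := MonoidHom.ker_transferSylow_isComplement' T hle
  have hsurj : Function.Surjective f := by
    rw [← MonoidHom.range_eq_top]
    refine Subgroup.eq_top_of_card_eq _ ?_
    rw [← Subgroup.index_ker, hcompl.symm.index_eq_card]
  obtain ⟨g, hg⟩ := IsCyclic.exists_generator (α := (T : Subgroup G))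
  have hg' : orderOf g = Nat.card (T : Subgroup G) := orderOf_eq_card_of_forall_mem_zpowers hg
  have h2 : 2 ∣ Nat.card (T : Subgroup G) :=
    T.dvd_card_of_dvd_card (even_iff_two_dvd.1 heven)
  have hidx : (Subgroup.zpowers (g ^ 2)).index = 2 := by
    have h3 := (Subgroup.zpowers (g ^ 2)).card_mul_index
    rw [Nat.card_zpowers, orderOf_pow' _ two_ne_zero, hg', Nat.gcd_eq_right h2] at h3
    have h4 : 0 < Nat.card (T : Subgroup G) := Nat.card_pos
    obtain ⟨c, hc⟩ := h2
    rw [hc, Nat.mul_div_cancel_left _ two_pos] at h3
    exact Nat.eq_of_mul_eq_mul_left (by omega) (h3.trans (mul_comm 2 c))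
  exact ⟨(Subgroup.zpowers (g ^ 2)).comap f,
    (Subgroup.index_comap_of_surjective _ hsurj).trans hidx⟩

end Cfsg.Agent.S0219
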