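import Cfsg.Statements.S4464
import Cfsg.Agent.H64.DegreeLtPrime.Count
import Cfsg.Agent.H75.Cover
-- import your own Cfsg.Agent.* helpers here

set_option autoImplicit false
set_option linter.style.haveILetI false
open Cfsg

namespace Cfsg.Agent.S4464

open Cfsg.Agent.H64.DegreeLtPrime Cfsg.Agent.CharBasic

universe u

/-- A normal subgroup whose Sylow subgroup `P` is normal in it makes `P` normal. -/
theorem normal_of_le_normal {G : Type u} [Group G] [Finite G] {p : ℕ} [Fact p.Prime]
    (P : Sylow p G) (L : Subgroup G) [L.Normal] (hPL : (P : Subgroup G) ≤ L)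
    (h : ((P.subtype hPL : Sylow p L) : Subgroup L).Normal) : (P : Subgroup G).Normal := by
  haveI := h
  haveI := Sylow.characteristic_of_normal (P.subtype hPL) inferInstance
  have hn : (((P.subtype hPL : Sylow p L) : Subgroup L).map L.subtype).Normal :=
    ConjAct.normal_of_characteristic_of_normal
  rwa [Sylow.coe_subtype, Subgroup.map_subgroupOf_eq_of_le hPL] at hn

/-- A Sylow subgroup with small degrees centralizes normal `p'`-subgroups supplemented by it. -/
theorem le_centralizer {G : Type u} [Group G] [Finite G] {p : ℕ} [hp : Fact p.Prime]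
    (hS : Small p G) (P : Sylow p G) (N : Subgroup G) [N.Normal] (hN : ¬ p ∣ Nat.card N)
    (hsup : (P : Subgroup G) ⊔ N = ⊤) : N ≤ Subgroup.centralizer ((P : Subgroup G) : Set G) := by
  classical
  cases nonempty_fintype G
  haveI := Fintype.ofFinite N
  -- every irreducible character of `N` is invariant
  have hinv : ∀ u ∈ (P : Subgroup G), ∀ θ : IrrCharacter N,
      CharInduce.conjFun N (θ : N → ℂ) u = θ := by
    intro u hu θ
    have hθc := IsIrr.isCharacter θ.2
    have hne : indFun N (θ : N → ℂ) ≠ 0 := by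
      intro h0
      have h1 := congrFun h0 1
      simp only [indFun, Pi.zero_apply, mul_one, inv_mul_cancel, Finset.sum_const, Finset.card_univ,
        nsmul_eq_mul] at h1
      rw [extendByZero, show (1 : G) = ((1 : N) : G) from rfl,
        Subtype.val_injective.extend_apply] at h1
      simp [IsIrr.one_ne_zero θ.2, Fintype.card_ne_zero] at h1
    obtain ⟨χ, hχ⟩ := CharInduce.exists_constituent (CharInduce.IsChar.ind N hθc) hne
    rw [CharInduce.classInner_indFun_left N _ _ (IsIrr.isClassFunction χ.2)] at hχ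
    have hχ' : classInner (fun n : N => (χ : G → ℂ) n) (θ : N → ℂ) ≠ 0 := by
      rw [← classInner_conj_symm]
      exact fun h0 => hχ ((map_eq_zero (starRingEnd ℂ)).1 h0)
    obtain ⟨m, hm⟩ := classInner_isChar_nat (CharInduce.IsChar.res (IsIrr.isCharacter χ.2) N) hθc
    obtain ⟨d, hd0, hd⟩ := IsIrr.exists_degree θ.2
    obtain ⟨k, -, hk⟩ := IsIrr.exists_degree χ.2
    have hdeg := CharInduce.clifford_degree N χ.2 θ.2 hχ'
    rw [hm, hd, hk] at hdeg
    have hk' : k = m * (CharInduce.inertia N (θ : N → ℂ)).index * d := by exact_mod_cast hdeg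
    have hm0 : 0 < m := Nat.pos_of_ne_zero fun h => hχ' (by rw [hm, h, Nat.cast_zero])
    set T := CharInduce.inertia N (θ : N → ℂ)
    have hlt : T.index < p := by
      refine lt_of_le_of_lt ?_ (hS _ χ.2 k hk)
      rw [hk']
      calc T.index = 1 * T.index * 1 := by ring
        _ ≤ m * T.index * d := Nat.mul_le_mul (Nat.mul_le_mul_right _ hm0) hd0
    have hrel : T.relIndex (P : Subgroup G) = 1 := by
      obtain ⟨i, hi⟩ := P.2.exists_card_eq
      obtain ⟨j, -, hj⟩ := (Nat.dvd_prime_pow hp.out).1 (hi ▸ Subgroup.relIndex_dvd_card T (P : Subgroup G))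
      rcases j.eq_zero_or_pos with rfl | hj0
      · simpa using hj
      · have h1 : T.relIndex (P : Subgroup G) ≤ T.index := by
          rw [← Subgroup.relIndex_top_right]
          exact Subgroup.relIndex_le_of_le_right le_top Subgroup.index_ne_zero_of_finite
        have h2 : p ≤ p ^ j := Nat.le_self_pow hj0.ne' p
        omega
    exact (CharInduce.mem_inertia N).1 (Subgroup.relIndex_eq_one.1 hrel hu)
  -- hence every class of `N` is fixed
  have hcls : ∀ u ∈ (P : Subgroup G), ∀ n : N, ∃ c : N,
      (c : G) * (n : G) * (c : G)⁻¹ = u * n * u⁻¹ := by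
    intro u hu n
    have hconj : IsConj n ⟨u * n * u⁻¹, ‹N.Normal›.conj_mem n n.2 u⟩ := by
      rw [isConj_iff_forall_irr]
      intro θ
      exact (congrFun (hinv u hu θ) n).symm
    obtain ⟨c, hc⟩ := isConj_iff.1 hconj
    exact ⟨c, congrArg Subtype.val hc⟩
  -- so every element of `N` is centralized by a conjugate of `P`
  have hall : ∀ n : N, ∃ c : N, ∀ u ∈ (P : Subgroup G), (c : G) * n * (c : G)⁻¹ * u = u * ((c : G) * n * (c : G)⁻¹) := by
    intro n
    set C := Subgroup.centralizer ({(n : G)} : Set G)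
    have hsupC : ∀ g : G, ∃ c ∈ N, g * c ∈ C := by
      intro g
      have hg : g⁻¹ ∈ (P : Subgroup G) ⊔ N := hsup ▸ Subgroup.mem_top _
      obtain ⟨u, hu, w, hw, hg'⟩ := Subgroup.mem_sup_of_normal_right.1 hg
      obtain ⟨c, hc⟩ := hcls u hu ⟨w * n * w⁻¹, mul_mem (mul_mem hw n.2) (inv_mem hw)⟩
      refine ⟨(c : G) * w, mul_mem c.2 hw, Subgroup.mem_centralizer_singleton_iff.2 ?_⟩
      have e : g⁻¹ * n * g = (c : G) * (w * n * w⁻¹) * (c : G)⁻¹ := by
        rw [hc, ← hg', show g = w⁻¹ * u⁻¹ by rw [← inv_inv g, ← hg']; group]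
        group
      calc g * ((c : G) * w) * n = g * ((c : G) * (w * n * w⁻¹) * (c : G)⁻¹) * ((c : G) * w) := by group
        _ = n * (g * ((c : G) * w)) := by rw [← e]; group
    have hCN : C ⊔ N = ⊤ := by
      rw [eq_top_iff]
      intro g _
      obtain ⟨c, hc, h⟩ := hsupC g
      rw [show g = g * c * c⁻¹ by group]
      exact Subgroup.mul_mem_sup h (inv_mem hc)
    have hNidx : N.index ∣ Nat.card C := by
      rw [← Subgroup.relIndex_top_right, ← hCN, Subgroup.relIndex_sup_right]
      exact Subgroup.relIndex_dvd_card _ _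
    have hdvdC : p ^ (Nat.card G).factorization p ∣ Nat.card C := by
      refine dvd_trans ?_ hNidx
      have h1 : p ^ (Nat.card G).factorization p ∣ Nat.card N * N.index := by
        rw [Subgroup.card_mul_index]; exact Nat.ordProj_dvd _ _
      exact (((hp.out.coprime_iff_not_dvd).2 hN).pow_left _).dvd_of_dvd_mul_left h1
    obtain ⟨Q₀, hQ₀⟩ := Sylow.exists_subgroup_card_pow_prime (G := C) p hdvdC
    have hQc : Nat.card (Q₀.map C.subtype) = p ^ (Nat.card G).factorization p := by
      rw [Subgroup.card_map_of_injective C.subtype_injective, hQ₀]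
    obtain ⟨g, hg⟩ := MulAction.exists_smul_eq G (Sylow.ofCard (Q₀.map C.subtype) hQc) P
    obtain ⟨u, hu, w, hw, hg'⟩ := Subgroup.mem_sup_of_normal_right.1
      (hsup ▸ Subgroup.mem_top g : g ∈ (P : Subgroup G) ⊔ N)
    refine ⟨⟨w, hw⟩, fun v hv => ?_⟩
    have hv' : g⁻¹ * (u * v * u⁻¹) * g ∈ Q₀.map C.subtype := by
      have h1 : u * v * u⁻¹ ∈ (P : Subgroup G) := mul_mem (mul_mem hu hv) (inv_mem hu)
      rw [← hg] at h1
      exact (Cfsg.Agent.H36.mem_smul_sylow_iff g _ _).1 h1
    have h2 := Subgroup.mem_centralizer_singleton_iff.1 (Subgroup.map_subtype_le _ hv')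
    show w * (n : G) * w⁻¹ * v = v * (w * (n : G) * w⁻¹)
    rw [← hg'] at h2
    calc w * (n : G) * w⁻¹ * v = w * ((n : G) * ((u * w)⁻¹ * (u * v * u⁻¹) * (u * w))) * w⁻¹ := by group
      _ = v * (w * (n : G) * w⁻¹) := by rw [← h2]; group
  have htop : (Subgroup.centralizer ((P : Subgroup G) : Set G)).subgroupOf N = ⊤ := by
    refine Cfsg.Agent.H75.eq_top_of_conj_cover _ fun n => ?_
    obtain ⟨c, hc⟩ := hall n
    refine ⟨c, ?_⟩
    rw [Subgroup.mem_subgroupOf, Subgroup.mem_centralizer_iff]
    exact fun v hv => (hc v hv).symm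
  exact Subgroup.subgroupOf_eq_top.1 htop

theorem normal_sylow : ∀ (n : ℕ) (G : Type u) [Group G] [Finite G], Nat.card G = n →
    ∀ (p : ℕ) [Fact p.Prime], Small p G → ∀ P : Sylow p G, (P : Subgroup G).Normal := by
  intro n
  induction n using Nat.strong_induction_on with
  | _ n IH =>
    intro G _ _ hn p hp hS P
    subst hn
    have hquot : ∀ N : Subgroup G, ∀ [N.Normal], N ≠ ⊥ →
        ((P : Subgroup G) ⊔ N).Normal := by
      intro N _ hN
      have hlt : Nat.card (G ⧸ N) < Nat.card G := by
        rw [← Subgroup.index_eq_card, ← N.card_mul_index]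
        exact lt_mul_of_one_lt_left (Nat.pos_of_ne_zero Subgroup.index_ne_zero_of_finite)
          ((Subgroup.one_lt_card_iff_ne_bot N).2 hN)
      have h := IH _ hlt (G ⧸ N) rfl p (hS.quotient N) (P.mapSurjective (QuotientGroup.mk'_surjective N))
      have h' := h.comap (QuotientGroup.mk' N)
      rwa [Sylow.coe_mapSurjective, Subgroup.comap_map_eq, QuotientGroup.ker_mk'] at h'
    by_cases hsimple : ∃ N : Subgroup G, N.Normal ∧ N ≠ ⊥ ∧ N ≠ ⊤
    · obtain ⟨N, hNn, hN1, hN2⟩ := hsimple
      haveI := hquot N hN1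
      rcases eq_or_ne ((P : Subgroup G) ⊔ N) ⊤ with htop | hne
      · -- the Sylow subgroup of `N` is normal
        obtain ⟨R⟩ := Sylow.nonempty (p := p) (G := N)
        have hNlt : Nat.card N < Nat.card G := lt_of_le_of_ne (Subgroup.card_le_card_group N)
          fun h => hN2 (Subgroup.card_eq_iff_eq_top _ |>.1 h)
        haveI := IH _ hNlt N rfl p (hS.subgroup N) R
        haveI := Sylow.characteristic_of_normal R inferInstance
        haveI hRn : ((R : Subgroup N).map N.subtype).Normal :=
          ConjAct.normal_of_characteristic_of_normal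
        rcases eq_or_ne ((R : Subgroup N).map N.subtype) ⊥ with hR | hR
        · have hpN : ¬ p ∣ Nat.card N := fun h => by
            have h1 := R.dvd_card_of_dvd_card h
            rw [(Subgroup.map_eq_bot_iff_of_injective _ N.subtype_injective).1 hR,
              Subgroup.card_bot, Nat.dvd_one] at h1
            exact hp.out.ne_one h1
          rw [← Subgroup.normalizer_eq_top_iff, eq_top_iff, ← htop]
          exact sup_le Subgroup.le_normalizer
            ((le_centralizer hS P N hpN htop).trans (Subgroup.centralizer_le_normalizer _))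
        · have hle : (R : Subgroup N).map N.subtype ≤ P := by
            obtain ⟨Q, hQ⟩ := (R.2.map N.subtype).exists_le_sylow
            obtain ⟨g, hg⟩ := MulAction.exists_smul_eq G P Q
            intro x hx
            have h1 := hQ (hRn.conj_mem x hx g)
            rw [← hg, Cfsg.Agent.H36.mem_smul_sylow_iff] at h1
            simpa [mul_assoc] using h1
          have h := hquot _ hR
          rwa [sup_eq_left.2 hle] at h
      · refine normal_of_le_normal P ((P : Subgroup G) ⊔ N) le_sup_left
          (IH _ ?_ ((P : Subgroup G) ⊔ N : Subgroup G) rfl p (hS.subgroup _) _)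
        exact lt_of_le_of_ne (Subgroup.card_le_card_group _)
          fun h => hne (Subgroup.card_eq_iff_eq_top _ |>.1 h)
    · by_cases hd : p ∣ Nat.card G
      · haveI : Nontrivial G := Finite.one_lt_card_iff_nontrivial.1
          (lt_of_lt_of_le hp.out.one_lt (Nat.le_of_dvd Nat.card_pos hd))
        haveI : IsSimpleGroup G := ⟨fun H hH => or_iff_not_imp_left.2 fun h1 =>
          by_contra fun h2 => hsimple ⟨H, hH, h1, h2⟩⟩
        by_cases hG : IsMulCommutative G
        · letI : CommGroup G := { (inferInstance : Group G) with mul_comm := hG.is_comm.comm }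
          infer_instance
        · exact (false_of_simple hG hS hd).elim
      · have : (P : Subgroup G) = ⊥ := by
          obtain ⟨i, hi⟩ := P.2.exists_card_eq
          refine Subgroup.eq_bot_of_card_eq _ ?_
          rcases i.eq_zero_or_pos with rfl | h
          · simpa using hi
          · exact absurd ((dvd_pow_self p h.ne').trans (hi ▸ (P : Subgroup G).card_subgroup_dvd_card)) hd
        rw [this]
        infer_instance

/-- Let p be a prime and G a finite group all of whose irreducible character degrees are less than p. Then G has a normal abelian Sylow p-subgroup. -/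
theorem result {G : Type*} [Group G] [Finite G] (p : ℕ) (hp : p.Prime) (hb : ∀ χ : Cfsg.IrrCharacter G, Cfsg.charDegree (χ : G → ℂ) < p) : ∃ P : Subgroup G, P.Normal ∧ (∀ x ∈ P, ∀ y ∈ P, x * y = y * x) ∧ IsPGroup p P ∧ ¬ p ∣ P.index := by
  haveI := Fact.mk hp
  have hS := small_of_charDegree hb
  obtain ⟨P⟩ := Sylow.nonempty (p := p) (G := G)
  haveI hn := normal_sylow _ G rfl p hS P
  refine ⟨P, hn, fun x hx y hy => ?_, P.2, P.not_dvd_index⟩
  exact congrArg Subtype.val (Small.comm_of_isPGroup (hS.subgroup (P : Subgroup G)) P.2 ⟨x, hx⟩ ⟨y, hy⟩)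

end Cfsg.Agent.S4464
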