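import Cfsg.Statements.S0081
import Cfsg.Agent.Fusion.Tate

set_option autoImplicit false
open Cfsg

namespace Cfsg.Agent.S0081

/-- If a normal subgroup meets a Sylow p-subgroup P inside the Frattini subgroup of P, then it has a normal p-complement. -/
theorem result {G : Type*} [Group G] [Finite G] {p : ℕ} [Fact p.Prime] (P : Sylow p G) (N : Subgroup G) [N.Normal] (h : N ⊓ (P : Subgroup G) ≤ (frattini P).map (P : Subgroup G).subtype) : Cfsg.HasNormalPComplement p N := by
  set K : Subgroup G := N ⊔ (P : Subgroup G) with hK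
  have hPK : (P : Subgroup G) ≤ K := le_sup_right
  have hNK : N ≤ K := le_sup_left
  let P' : Sylow p K := P.subtype hPK
  have hsup : (P' : Subgroup K) ⊔ N.subgroupOf K = ⊤ := by
    rw [Sylow.coe_subtype, sup_comm, ← Subgroup.subgroupOf_sup hNK hPK, Subgroup.subgroupOf_self]
  have hq : Cfsg.pResidual p K ≤ N.subgroupOf K := by
    obtain ⟨n, hn⟩ := IsPGroup.iff_card.mp P'.isPGroup'
    have h1 : (N.subgroupOf K).index ∣ p ^ n := by
      rw [← Subgroup.relIndex_top_right, ← hsup, Subgroup.relIndex_sup_right, ← hn]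
      exact Subgroup.relIndex_dvd_card ..
    obtain ⟨k, -, hk⟩ := (Nat.dvd_prime_pow Fact.out).mp h1
    exact Agent.Fusion.pResidual_le_of_index hk
  have key : (Cfsg.pResidual p K).subgroupOf (P' : Subgroup K) = Cfsg.pResidual p P' := by
    refine Agent.Fusion.tate P'.not_dvd_index fun L hLn hLi => ?_
    intro x hx
    let e : (P' : Subgroup K) →* (P : Subgroup G) :=
      { toFun := fun z => ⟨((z : K) : G), z.2⟩, map_one' := rfl, map_mul' := fun _ _ => rfl }
    have h1 : ((x : K) : G) ∈ N ⊓ (P : Subgroup G) := ⟨hq hx, x.2⟩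
    obtain ⟨f, hf, hfx⟩ := h h1
    have h2 : e x ∈ frattini (P : Subgroup G) := by
      have : f = e x := Subtype.ext hfx
      rwa [← this]
    let e' : (P : Subgroup G) →* (P' : Subgroup K) :=
      { toFun := fun z => ⟨⟨z, hPK z.2⟩, z.2⟩, map_one' := rfl, map_mul' := fun _ _ => rfl }
    have hco : IsCoatom L := by
      have hp : p.Prime := Fact.out
      refine ⟨fun hL => ?_, fun X hX => ?_⟩
      · rw [hL, Subgroup.index_top] at hLi; exact hp.one_lt.ne hLi
      · rcases (Nat.dvd_prime hp).mp (hLi ▸ Subgroup.index_dvd_of_le hX.le) with h3 | h3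
        · exact Subgroup.index_eq_one.mp h3
        · exact absurd (h3.trans hLi.symm) (Subgroup.index_strictAnti hX).ne
    have h4 := frattini_le_comap_frattini_of_surjective (φ := e')
      (fun z => ⟨e z, rfl⟩) h2
    exact frattini_le_coatom hco h4
  have hbot : Cfsg.pResidual p P' = ⊥ := eq_bot_iff.mpr
    (le_trans (Agent.Fusion.pResidual_le_ker P'.isPGroup' (MonoidHom.id _)) (by simp))
  have hcomp : Cfsg.HasNormalPComplement p K := by
    rw [Agent.Fusion.hasNormalPComplement_iff_inf_eq_bot P', eq_bot_iff]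
    intro x hx
    have h5 : (⟨x, hx.1⟩ : (P' : Subgroup K)) ∈ (Cfsg.pResidual p K).subgroupOf (P' : Subgroup K) := hx.2
    rw [key, hbot] at h5
    exact Subgroup.mem_bot.mpr (congrArg Subtype.val (Subgroup.mem_bot.mp h5))
  exact Agent.Fusion.hasNormalPComplement_of_le hcomp hNK

end Cfsg.Agent.S0081
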