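import Cfsg.Statements.S1691
-- import your own Cfsg.Agent.* helpers here

set_option autoImplicit false
open Cfsg

namespace Cfsg.Agent.S1691

open Cfsg.Spor

private def phiFun : Fi24.Gen → Multiplicative (ZMod 2) := fun _ => Multiplicative.ofAdd 1

private theorem lift_cox (r : FreeGroup Fi24.Gen)
    (hr : r ∈ coxRelators Fi24.edges ∪ {r | r ∈ Fi24.extra}) : FreeGroup.lift phiFun r = 1 := by
  rcases hr with ⟨x, hx, y, hy, rfl⟩ | hr
  · simp only [map_pow, map_mul, FreeGroup.lift_apply_of, phiFun]
    have : (Multiplicative.ofAdd (1 : ZMod 2)) * Multiplicative.ofAdd 1 = 1 := by decide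
    rw [this, one_pow]
  · simp only [Fi24.extra, Set.mem_setOf_eq, List.mem_cons, List.not_mem_nil, or_false] at hr
    rcases hr with rfl | rfl <;>
      (simp only [map_mul, map_inv, map_pow, FreeGroup.lift_apply_of, phiFun]; decide)

private def phi : Fi24 →* Multiplicative (ZMod 2) := PresentedGroup.toGroup lift_cox

private def gv (x : Fi24.Gen) : Abelianization Fi24 := Abelianization.of (PresentedGroup.of x)

private theorem gv_rel (x y : Fi24.Gen) (hx : x ∈ coxNodes Fi24.edges)
    (hy : y ∈ coxNodes Fi24.edges) : (gv x * gv y) ^ coxLabel Fi24.edges x y = 1 := by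
  have h : PresentedGroup.mk (coxRelators Fi24.edges ∪ {r | r ∈ Fi24.extra})
      ((FreeGroup.of x * FreeGroup.of y) ^ coxLabel Fi24.edges x y) = 1 :=
    PresentedGroup.one_of_mem (Or.inl ⟨x, hx, y, hy, rfl⟩)
  simpa [gv, PresentedGroup.of] using congrArg Abelianization.of h

private theorem gv_sq (x : Fi24.Gen) : gv x * gv x = 1 := by
  have h := gv_rel x x (by cases x <;> decide) (by cases x <;> decide)
  simpa [coxLabel] using h

private theorem gv_edge (x y : Fi24.Gen) (h3 : coxLabel Fi24.edges x y = 3) : gv x = gv y := by
  have h := gv_rel x y (by cases x <;> decide) (by cases y <;> decide)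
  rw [h3, mul_pow] at h
  have e : ∀ z, gv z ^ 3 = gv z := fun z => by rw [pow_succ, pow_two, gv_sq, one_mul]
  rw [e, e] at h
  calc gv x = gv x * (gv y * gv y) := by rw [gv_sq, mul_one]
    _ = gv y := by rw [← mul_assoc, h, one_mul]

private theorem gv_eq (x : Fi24.Gen) : gv x = gv .d := by
  have kl := gv_edge .l .k (by decide)
  have ka := gv_edge .k .a (by decide)
  have ab := gv_edge .a .b (by decide)
  have bc := gv_edge .b .c (by decide)
  have cd := gv_edge .c .d (by decide)
  have ed := gv_edge .e .d (by decide)
  have fe := gv_edge .f .e (by decide)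
  have gf := gv_edge .g .f (by decide)
  have jg := gv_edge .j .g (by decide)
  have hd := gv_edge .h .d (by decide)
  have ih := gv_edge .i .h (by decide)
  cases x <;> simp [kl, ka, ab, bc, cd, ed, fe, gf, jg, hd, ih]


/-- The commutator subgroup of the presented group Fi₂₄ has index 2 (the presented group is Fi₂₄′:2 with Fi₂₄′ its derived subgroup). -/
theorem result : (commutator Cfsg.Spor.Fi24).index = 2 := by
  have h1 : commutator Cfsg.Spor.Fi24 = phi.ker := by
    apply le_antisymm (Abelianization.commutator_subset_ker phi)
    intro g hg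
    let psiH : Multiplicative (ZMod 2) →* Abelianization Fi24 :=
      { toFun := fun m => gv .d ^ (Multiplicative.toAdd m).val
        map_one' := by simp
        map_mul' := by
          intro m n
          rw [← pow_add, toAdd_mul, ZMod.val_add]
          refine (pow_eq_pow_mod _ ?_).symm
          rw [pow_two, gv_sq] }
    have key : psiH.comp phi = (Abelianization.of : Fi24 →* Abelianization Fi24) := by
      apply PresentedGroup.ext
      intro x
      have hx : phi (PresentedGroup.of x) = Multiplicative.ofAdd (1 : ZMod 2) :=
        PresentedGroup.toGroup.of lift_cox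
      change psiH (phi (PresentedGroup.of x)) = gv x
      rw [hx, gv_eq x]
      change gv .d ^ (1 : ZMod 2).val = gv .d
      rw [ZMod.val_one, pow_one]
    have hone : (Abelianization.of : Fi24 →* Abelianization Fi24) g = 1 := by
      rw [← key, MonoidHom.comp_apply, MonoidHom.mem_ker.mp hg, map_one]
    exact (QuotientGroup.eq_one_iff g).mp hone
  have hs : Function.Surjective phi := by
    intro m
    refine ⟨(PresentedGroup.of Fi24.Gen.a) ^ (Multiplicative.toAdd m).val, ?_⟩
    rw [map_pow]
    have ha : phi (PresentedGroup.of Fi24.Gen.a) = Multiplicative.ofAdd (1 : ZMod 2) :=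
      PresentedGroup.toGroup.of lift_cox
    rw [ha]
    revert m; decide
  rw [h1, Subgroup.index_ker, MonoidHom.range_eq_top.mpr hs]
  simp

end Cfsg.Agent.S1691
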