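import Cfsg.Statements.S4667
import Cfsg.Agent.H83.RegInner

set_option autoImplicit false
open Cfsg

namespace Cfsg.Agent.S4667

/-- Fix a prime p and a maximal ideal M of the algebraic integers containing p, and a p-block B of the finite group G. The p-regular rank of B (the number of irreducible Brauer characters in B) times the order of G equals the sum over the p-regular elements x of G of Σ_{χ ∈ B} χ(x) χ(x⁻¹) (written with the restriction of χ to p-regular elements, which vanishes at p-singular x). -/
theorem result {G : Type*} [Group G] [Fintype G] (p : ℕ) [Fact p.Prime] (M : Ideal Cfsg.AlgInt) (hM : Cfsg.IsPModular p M) (B : Set (Cfsg.IrrCharacter G)) (hB : Cfsg.IsPBlock M B) : (Nat.card G : ℂ) * (Cfsg.blockRank p B : ℂ) = ∑ x : G, ∑ᶠ χ ∈ B, Cfsg.pRegularPart p (χ : G → ℂ) x * (χ : G → ℂ) x⁻¹ := by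
  classical
  set V := Submodule.span ℂ ((fun χ : Cfsg.IrrCharacter G => Cfsg.pRegularPart p (χ : G → ℂ)) '' B)
    with hV
  let c : Cfsg.IrrCharacter G → (G → ℂ) →ₗ[ℂ] ℂ := fun χ =>
    { toFun := fun f => (Nat.card G : ℂ)⁻¹ * ∑ x : G, f x * (χ : G → ℂ) x⁻¹
      map_add' := fun f g => by simp [add_mul, Finset.sum_add_distrib, mul_add]
      map_smul' := fun r f => by simp [Finset.mul_sum, mul_assoc, mul_left_comm] }
  let E : (G → ℂ) →ₗ[ℂ] (G → ℂ) :=
    ∑ χ ∈ Finset.univ.filter (· ∈ B), (c χ).smulRight (Cfsg.pRegularPart p (χ : G → ℂ))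
  have hEapp : ∀ f, E f = ∑ χ ∈ Finset.univ.filter (· ∈ B),
      c χ f • Cfsg.pRegularPart p (χ : G → ℂ) := fun f => by simp [E, LinearMap.sum_apply]
  have hproj : LinearMap.IsProj V E := by
    refine ⟨fun f => ?_, fun f hf => ?_⟩
    · rw [hEapp]
      exact V.sum_mem fun χ hχ => V.smul_mem _
        (Submodule.subset_span ⟨χ, (Finset.mem_filter.1 hχ).2, rfl⟩)
    · rw [hV] at hf
      induction hf using Submodule.span_induction with
      | zero => simp
      | add a b _ _ ha hb => rw [map_add, ha, hb]
      | smul r a _ ha => rw [map_smul, ha]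
      | mem a ha =>
        obtain ⟨ψ, hψ, rfl⟩ := ha
        rw [hEapp]
        funext g
        have hc : ∀ χ, c χ (Cfsg.pRegularPart p (ψ : G → ℂ)) = H83.regInner p ψ χ := by
          intro χ
          show (Nat.card G : ℂ)⁻¹ * _ = _
          rw [H83.regInner, CharBasic.classInner_def]
          simp only [H83.irr_conj_apply χ.2]
        simp only [hc, Finset.sum_apply, Pi.smul_apply, smul_eq_mul]
        by_cases hg : p ∣ orderOf g
        · simp [H83.pRegularPart_eq_zero _ hg]
        · simp only [H83.pRegularPart_eq_self _ hg]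
          conv_rhs => rw [← H83.pRegularPart_eq_self (p := p) (ψ : G → ℂ) hg,
            H83.pRegularPart_expansion, Finset.sum_apply]
          rw [Finset.sum_filter]
          refine Finset.sum_congr rfl fun χ _ => ?_
          split_ifs with hχ
          · rfl
          · simp [H83.regInner_eq_zero hM hB hψ hχ]
  have htr := hproj.trace
  rw [show Module.finrank ℂ V = Cfsg.blockRank p B from rfl] at htr
  rw [← htr, LinearMap.trace_eq_matrix_trace ℂ (Pi.basisFun ℂ G), Matrix.trace, Finset.mul_sum]
  refine Finset.sum_congr rfl fun x _ => ?_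
  rw [BlockBasic.finsum_mem_eq_sum_ite, ← Finset.sum_filter, Matrix.diag_apply,
    LinearMap.toMatrix_apply, Pi.basisFun_apply, Pi.basisFun_repr, hEapp, Finset.sum_apply,
    Finset.mul_sum]
  refine Finset.sum_congr rfl fun χ _ => ?_
  have hG : (Nat.card G : ℂ) ≠ 0 := by simp
  show (Nat.card G : ℂ) * (((Nat.card G : ℂ)⁻¹ * ∑ y : G, _ * _) * _) = _
  rw [Finset.sum_eq_single x (fun b _ hb => by simp [hb]) (by simp)]
  simp only [Pi.single_eq_same, one_mul]
  field_simp

end Cfsg.Agent.S4667
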