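import Cfsg.Statements.S4683
import Cfsg.Agent.Cores.SecondMain
import Cfsg.Agent.S4667

set_option autoImplicit false
open Cfsg
open scoped ComplexConjugate

namespace Cfsg.Agent.S4683

open Cfsg.Agent.BlockBasic (blockKernel blockElem)

section

variable {K : Type*} [Group K] [Fintype K] {p : ℕ} {M : Ideal AlgInt}

/-- The block part at a regular element only depends on the values at regular elements. -/
theorem blockPart_regular [Fact p.Prime] (hM : IsPModular p M) {e : Set (IrrCharacter K)}
    (he : IsPBlock M e) (f : K → ℂ) {s : K} (hs : ¬ p ∣ orderOf s) :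
    blockPart e f s = (Nat.card K : ℂ)⁻¹ *
      ∑ c : K, (if p ∣ orderOf c then 0 else blockKernel e s c) * f c := by
  classical
  rw [blockPart, Subsingleton.elim (Fintype.ofFinite K) ‹Fintype K›,
    BlockBasic.finsum_mem_eq_sum_ite]
  have hk : ∀ c, (if p ∣ orderOf c then 0 else blockKernel e s c) = blockKernel e s c := fun c => by
    split_ifs with hc
    · exact (BlockBasic.blockKernel_eq_zero_of_regular_of_singular hM he hs hc).symm
    · rfl
  simp only [hk]
  simp only [blockKernel, BlockBasic.finsum_mem_eq_sum_ite, Finset.sum_mul, CharBasic.classInner_def]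
  rw [Finset.sum_comm, Finset.mul_sum]
  refine Finset.sum_congr rfl fun ψ _ => ?_
  split_ifs
  · rw [mul_assoc, Finset.sum_mul]
    congr 1
    exact Finset.sum_congr rfl fun c _ => by ring
  · simp

theorem blockPart_irr (e : Set (IrrCharacter K)) [DecidablePred (· ∈ e)] (ψ : IrrCharacter K)
    (s : K) : blockPart e (ψ : K → ℂ) s = if ψ ∈ e then (ψ : K → ℂ) s else 0 := by
  classical
  rw [blockPart, Subsingleton.elim (Fintype.ofFinite K) ‹Fintype K›,
    BlockBasic.finsum_mem_eq_sum_ite, Finset.sum_eq_single ψ]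
  · simp [CharBasic.classInner_irrCharacter]
  · intro φ _ hφ
    simp [CharBasic.classInner_irrCharacter, Ne.symm hφ]
  · simp

theorem sum_lin_mul {ν : Type*} [Fintype ν] (A B : K → ℂ) (a b : ν → K → ℂ) :
    ∑ i, ((Nat.card K : ℂ)⁻¹ * ∑ c, A c * a i c) * ((Nat.card K : ℂ)⁻¹ * ∑ c, B c * b i c) =
      (Nat.card K : ℂ)⁻¹ * (Nat.card K : ℂ)⁻¹ * ∑ c, ∑ d, A c * B d * ∑ i, a i c * b i d := by
  rw [Finset.mul_sum]
  calc _ = ∑ i, ∑ c, ∑ d, (Nat.card K : ℂ)⁻¹ * (Nat.card K : ℂ)⁻¹ *
        (A c * B d * (a i c * b i d)) := by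
        refine Finset.sum_congr rfl fun i _ => ?_
        simp only [Finset.mul_sum, Finset.sum_mul]
        exact Finset.sum_comm.trans (Finset.sum_congr rfl fun c _ =>
          Finset.sum_congr rfl fun d _ => by ring)
    _ = _ := by
        rw [Finset.sum_comm]
        refine Finset.sum_congr rfl fun c _ => ?_
        rw [Finset.sum_comm, Finset.mul_sum]
        refine Finset.sum_congr rfl fun d _ => ?_
        simp only [Finset.mul_sum]

/-- Moving a bilinear expression in the regular values between two families of functions. -/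
theorem sum_blockPart_mul {ι κ : Type*} [Fintype ι] [Fintype κ] [Fact p.Prime]
    (hM : IsPModular p M) {e : Set (IrrCharacter K)}
    (he : IsPBlock M e) (f g : ι → K → ℂ) (f' g' : κ → K → ℂ)
    (h : ∀ c d : K, ¬ p ∣ orderOf c → ¬ p ∣ orderOf d →
      ∑ i, f i c * g i d = ∑ j, f' j c * g' j d) {s t : K} (hs : ¬ p ∣ orderOf s)
    (ht : ¬ p ∣ orderOf t) :
    ∑ i, blockPart e (f i) s * blockPart e (g i) t =
      ∑ j, blockPart e (f' j) s * blockPart e (g' j) t := by
  classical
  simp only [blockPart_regular hM he _ hs, blockPart_regular hM he _ ht]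
  set A := fun c : K => if p ∣ orderOf c then 0 else blockKernel e s c with hA
  set B := fun c : K => if p ∣ orderOf c then 0 else blockKernel e t c with hB
  refine (sum_lin_mul A B f g).trans (Eq.trans ?_ (sum_lin_mul A B f' g').symm)
  congr 1
  refine Finset.sum_congr rfl fun c _ => Finset.sum_congr rfl fun d _ => ?_
  by_cases hc : p ∣ orderOf c
  · simp [hA, hc]
  by_cases hd : p ∣ orderOf d
  · simp [hB, hd]
  rw [h c d hc hd]

end

/-- The statement for an abstract copy of the centralizer. -/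
theorem aux {G : Type*} [Group G] [Fintype G] {p : ℕ} [Fact p.Prime] {M : Ideal Cfsg.AlgInt}
    (hM : Cfsg.IsPModular p M) {B : Set (IrrCharacter G)} (hB : IsPBlock M B) {u : G} {k : ℕ}
    (hk : orderOf u = p ^ k) (H : Subgroup G) [Fintype H]
    (hHu : H = Subgroup.centralizer ({u} : Set G))
    {e : Set (IrrCharacter H)} (he : IsPBlock M e)
    (hpair : ∀ ξ ∈ e, MemLocalIdeal M
      (BlockBasic.omega (ξ : H → ℂ) (Cores.resElt H (blockElem B)) - 1)) :
    ∑ᶠ χ ∈ B, ∑ᶠ s : H, pRegularPart p (blockPart e (fun c : H => (χ : G → ℂ) (u * c))) s *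
        blockPart e (fun c : H => (χ : G → ℂ) (u⁻¹ * c)) s⁻¹ =
      (Nat.card H : ℂ) * (blockRank p e : ℂ) := by
  classical
  have hcomm : ∀ c : H, u * (c : G) = (c : G) * u := fun c =>
    (Subgroup.mem_centralizer_singleton_iff.1 (hHu ▸ c.2)).symm
  let xH : H := ⟨u, hHu ▸ Subgroup.mem_centralizer_singleton_iff.2 rfl⟩
  -- class functions
  have hcf : ∀ (χ : IrrCharacter G) (v : H), (∀ c : H, (v : G) * (c : G) = (c : G) * (v : G)) →
      IsClassFunction H (fun c : H => (χ : G → ℂ) ((v : G) * c)) := by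
    intro χ v hv g h
    show (χ : G → ℂ) ((v : G) * ((h * g * h⁻¹ : H) : G)) = _
    rw [show (v : G) * ((h * g * h⁻¹ : H) : G) = (h : G) * ((v : G) * g) * (h : G)⁻¹ by
      push_cast; rw [← mul_assoc (h : G) v, ← hv h]; group]
    exact CharBasic.IsIrr.isClassFunction χ.2 _ _
  -- characters outside `B` give nothing
  have hzero : ∀ χ : IrrCharacter G, χ ∉ B → ∀ s : H,
      pRegularPart p (blockPart e (fun c : H => (χ : G → ℂ) (u * c))) s = 0 := by
    intro χ hχ s
    unfold pRegularPart
    split_ifs with hs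
    swap
    · rfl
    rw [Cores.blockPart_eq_chiLin e (hcf χ xH hcomm)]
    have hker : ∀ ξ ∈ e, MemLocalIdeal M (BlockBasic.omega (ξ : H → ℂ)
        (Cores.resElt H (blockElem (blockOf M (χ : G → ℂ))))) := by
      intro ξ hξ
      set B' := blockOf M (χ : G → ℂ)
      have hB' : IsPBlock M B' := BlockBasic.isPBlock_blockOf M χ
      have h1 := hpair ξ hξ
      set X := Cores.resElt H (blockElem B)
      set Y := Cores.resElt H (blockElem B')
      have hXc : BlockBasic.IsCentralElt X := Cores.isCentralElt_resElt (BlockBasic.isCentralElt_blockElem B)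
      have hYc : BlockBasic.IsCentralElt Y := Cores.isCentralElt_resElt (BlockBasic.isCentralElt_blockElem B')
      have hXi : BlockBasic.IsIntElt M X := Cores.isIntElt_resElt (BlockBasic.isIntElt_blockElem hM hB)
      have hYi : BlockBasic.IsIntElt M Y := Cores.isIntElt_resElt (BlockBasic.isIntElt_blockElem hM hB')
      have hBB' : blockElem B * blockElem B' = 0 := by
        rw [BlockBasic.blockElem_mul]
        have : B ∩ B' = ∅ := Set.eq_empty_iff_forall_notMem.2 fun ψ hψ =>
          hχ (BlockBasic.isPBlock_eq_of_mem hM hB hB' hψ.1 hψ.2 ▸ BlockBasic.self_mem_blockOf hM χ)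
        rw [this]
        apply MonoidAlgebra.coeff_injective
        ext g
        simp [BlockBasic.coeff_blockElem, blockCoeff]
      have h2 := Cores.omega_sub_congr hM ξ.2
        (Cores.isCentralElt_resElt (H := H) ((BlockBasic.isCentralElt_blockElem B).mul (BlockBasic.isCentralElt_blockElem B')))
        (hXc.mul hYc) (fun c => Cores.congrAt_resElt_mul hM hk xH rfl hHu.ge
          (BlockBasic.isCentralElt_blockElem B) (BlockBasic.isIntElt_blockElem hM hB)
          (BlockBasic.isCentralElt_blockElem B') (BlockBasic.isIntElt_blockElem hM hB') c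
          (Subtype.ext (hcomm c)))
      rw [hBB', BlockBasic.omega_mul ξ.2 hXc] at h2
      have h0 : BlockBasic.omega (ξ : H → ℂ) (Cores.resElt H (0 : MonoidAlgebra ℂ G)) = 0 := by
        simp [BlockBasic.omega, BlockBasic.chiLin]
      rw [h0] at h2
      have h3 := BlockBasic.memLocalIdeal_sub hM (BlockBasic.memLocalIdeal_neg h2)
        (BlockBasic.memLocalIdeal_mul hM (BlockBasic.memLocalRing_omega hM ξ.2 hYc hYi) h1)
      convert h3 using 1
      ring
    have h := Cores.chiLin_block_section_eq_zero hM hk xH rfl hHu.ge he χ hker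
      (s := s) (Subtype.ext (hcomm s)) hs
    have heq : blockElem e * MonoidAlgebra.single (xH * s) (1 : ℂ) =
        MonoidAlgebra.single xH 1 * (blockElem e * MonoidAlgebra.single s 1) := by
      rw [← mul_assoc, ← BlockBasic.isCentralElt_comm (BlockBasic.isCentralElt_blockElem e),
        mul_assoc, MonoidAlgebra.single_mul_single, one_mul]
    rw [heq] at h
    rw [← h, BlockBasic.chiLin, BlockBasic.chiLin]
    refine Fintype.sum_equiv (Equiv.mulLeft xH) _ _ fun c => ?_
    simp [MonoidAlgebra.coeff_single_mul_apply, xH]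
  -- the kernel identity
  have hkey : ∀ c d : H, ¬ p ∣ orderOf c → ¬ p ∣ orderOf d →
      ∑ χ : IrrCharacter G, (χ : G → ℂ) (u * c) * (χ : G → ℂ) (u⁻¹ * d) =
        ∑ ψ : IrrCharacter H, (ψ : H → ℂ) c * (ψ : H → ℂ) d := by
    intro c d hc hd
    have e1 : ∀ χ : IrrCharacter G, (χ : G → ℂ) (u⁻¹ * d) = conj ((χ : G → ℂ) (u * ((d⁻¹ : H) : G))) := by
      intro χ
      rw [BlockBasic.conj_apply_eq_inv, mul_inv_rev, Subgroup.coe_inv, inv_inv]
      exact congrArg _ (Commute.inv_left (hcomm d)).eq
    have e2 : ∀ ψ : IrrCharacter H, (ψ : H → ℂ) d = conj ((ψ : H → ℂ) d⁻¹) := fun ψ => by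
      rw [BlockBasic.conj_apply_eq_inv, inv_inv]
    simp only [e1]
    conv_rhs => arg 2; ext ψ; rw [e2 ψ]
    rw [CharBasic.second_orthogonality_count, CharBasic.second_orthogonality_count]
    congr 1
    set d' := d⁻¹ with hd'
    have hd'r : ¬ p ∣ orderOf d' := by rwa [hd', orderOf_inv]
    have hpp : ∀ z : H, ¬ p ∣ orderOf z → BlockBasic.pPart (p := p) (u * (z : G)) = u :=
      fun z hz => BlockBasic.pPart_mul_of (hcomm z) ⟨k, hk⟩ (by rwa [Subgroup.orderOf_coe])
    refine Nat.card_congr
      { toFun := fun x => ⟨⟨x.1, ?_⟩, ?_⟩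
        invFun := fun x => ⟨(x.1 : G), ?_⟩
        left_inv := fun x => rfl
        right_inv := fun x => rfl }
    · have h := BlockBasic.pPart_conj (p := p) (u * (d' : G)) x.1
      rw [x.2, hpp c hc, hpp d' hd'r] at h
      exact hHu.ge (Subgroup.mem_centralizer_singleton_iff.2 (mul_inv_eq_iff_eq_mul.1 h.symm))
    · have hx : (x.1 : G) * u = u * x.1 := by
        have h := BlockBasic.pPart_conj (p := p) (u * (d' : G)) x.1
        rw [x.2, hpp c hc, hpp d' hd'r] at h
        exact (mul_inv_eq_iff_eq_mul.1 h.symm)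
      refine Subtype.ext ?_
      show x.1 * (d' : G) * x.1⁻¹ = (c : G)
      have h2 := x.2
      rw [← mul_assoc x.1 u, hx, mul_assoc u, mul_assoc u] at h2
      exact mul_left_cancel h2
    · have h1 : (x.1 : G) * (d' : G) * (x.1 : G)⁻¹ = (c : G) := congrArg Subtype.val x.2
      rw [← mul_assoc (x.1 : G) u, ← hcomm x.1, mul_assoc u, mul_assoc u, h1]
  rw [BlockBasic.finsum_mem_eq_sum_ite]
  have hall : ∀ χ : IrrCharacter G, (if χ ∈ B then
      ∑ᶠ s : H, pRegularPart p (blockPart e (fun c : H => (χ : G → ℂ) (u * c))) s *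
        blockPart e (fun c : H => (χ : G → ℂ) (u⁻¹ * c)) s⁻¹ else 0) =
      ∑ s : H, pRegularPart p (blockPart e (fun c : H => (χ : G → ℂ) (u * c))) s *
        blockPart e (fun c : H => (χ : G → ℂ) (u⁻¹ * c)) s⁻¹ := by
    intro χ
    split_ifs with hχ
    · exact finsum_eq_sum_of_fintype _
    · exact (Finset.sum_eq_zero fun s _ => by rw [hzero χ hχ s, zero_mul]).symm
  rw [Finset.sum_congr rfl fun χ _ => hall χ, Finset.sum_comm,
    S4667.result p M hM e he]
  refine Finset.sum_congr rfl fun s _ => ?_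
  rw [BlockBasic.finsum_mem_eq_sum_ite]
  by_cases hs : p ∣ orderOf s
  · simp [H83.pRegularPart_eq_zero _ hs]
  simp only [H83.pRegularPart_eq_self _ hs]
  rw [sum_blockPart_mul hM he (fun (χ : IrrCharacter G) (c : H) => (χ : G → ℂ) (u * c))
      (fun (χ : IrrCharacter G) (c : H) => (χ : G → ℂ) (u⁻¹ * c))
      (fun ψ : IrrCharacter H => (ψ : H → ℂ)) (fun ψ : IrrCharacter H => (ψ : H → ℂ)) hkey hs
      (by rwa [orderOf_inv])]
  refine Finset.sum_congr rfl fun ψ _ => ?_
  rw [blockPart_irr, blockPart_irr]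
  split_ifs <;> simp


/-- Fix a prime p and a maximal ideal M of the algebraic integers containing p, a p-block B of the finite group G, a p-element u and a p-block e of C = C_G(u) such that (⟨u⟩, e) is a Brauer pair of B (a Brauer element of B). For χ ∈ B let χ_u be the e-part of the class function c ↦ χ(u c) on C and χ_u' the e-part of c ↦ χ(u⁻¹ c). Then the sum over χ ∈ B and over the p-regular elements s of C of χ_u(s)·χ_u'(s⁻¹) equals the order of C times the p-regular rank of e (the number of irreducible Brauer characters of e). -/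
theorem result {G : Type*} [Group G] [Fintype G] (p : ℕ) [Fact p.Prime] (M : Ideal Cfsg.AlgInt) (hM : Cfsg.IsPModular p M) (B : Set (Cfsg.IrrCharacter G)) (u : G) (hu : ∃ k : ℕ, orderOf u = p ^ k) (e : Set (Cfsg.IrrCharacter (Subgroup.centralizer (Subgroup.zpowers u : Set G)))) (hBe : Cfsg.IsBrauerPairOf p M B (Subgroup.zpowers u) e) : ∑ᶠ χ ∈ B, ∑ᶠ s : Subgroup.centralizer (Subgroup.zpowers u : Set G), Cfsg.pRegularPart p (Cfsg.blockPart e (fun c : Subgroup.centralizer (Subgroup.zpowers u : Set G) => (χ : G → ℂ) (u * c))) s * Cfsg.blockPart e (fun c : Subgroup.centralizer (Subgroup.zpowers u : Set G) => (χ : G → ℂ) (u⁻¹ * c)) s⁻¹ = (Nat.card (Subgroup.centralizer (Subgroup.zpowers u : Set G)) : ℂ) * (Cfsg.blockRank p e : ℂ) := by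
  classical
  obtain ⟨k, hk⟩ := hu
  haveI : Fintype (Subgroup.centralizer (Subgroup.zpowers u : Set G)) := Fintype.ofFinite _
  refine aux hM hBe.2.1 hk _ (by rw [Subgroup.zpowers_eq_closure, Subgroup.centralizer_closure])
    hBe.1.2 fun ξ hξ => ?_
  have h := hBe.2.2 ξ hξ
  rw [H82.brauerOmega_eq_omega] at h
  convert h using 3
  apply MonoidAlgebra.coeff_injective
  ext c
  simp [BlockBasic.coeff_ofFun, BlockBasic.coeff_blockElem]

end Cfsg.Agent.S4683
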