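import Cfsg.Statements.S4710
import Cfsg.Agent.H83.RegInner

set_option autoImplicit false
open Cfsg

namespace Cfsg.Agent.S4710

/-- Let p be a prime, M a maximal ideal of the algebraic integers containing p, and B a p-block of defect d of the finite group G containing k irreducible characters. If B contains a character of positive height then 2k ≤ p^(2d − 2); and every character in B has height 0 when d ≤ 1 and height at most d − 2 when d ≥ 2. -/
theorem result {G : Type*} [Group G] [Finite G] (p : ℕ) [Fact p.Prime] (M : Ideal Cfsg.AlgInt) (hM : Cfsg.IsPModular p M) (B : Set (Cfsg.IrrCharacter G)) (hB : Cfsg.IsPBlock M B) (d : ℕ) (hd : Cfsg.blockDefect p B = d) : ((∃ χ ∈ B, 0 < Cfsg.blockHeight p B (χ : G → ℂ)) → 2 * Nat.card B ≤ p ^ (2 * d - 2)) ∧ ∀ χ ∈ B, (d ≤ 1 → Cfsg.blockHeight p B (χ : G → ℂ) = 0) ∧ (2 ≤ d → Cfsg.blockHeight p B (χ : G → ℂ) ≤ d - 2) := by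
  classical
  cases nonempty_fintype G
  subst hd
  have hp : p.Prime := Fact.out
  set d := Cfsg.blockDefect p B
  have hp1 : (1 : ℤ) ≤ p := by exact_mod_cast hp.one_le
  obtain ⟨θ, hθ, h0⟩ := H83.exists_height_zero hM hB
  have hht : ∀ ψ ∈ B, 0 < Cfsg.blockHeight p B (ψ : G → ℂ) →
      Cfsg.blockHeight p B (ψ : G → ℂ) + 2 ≤ d := by
    intro ψ hψ hh
    have hm := H83.entry_self_pos hM hB hψ
    have hsq := H83.sum_entry_sq hM hB hψ
    have hne : H83.entry p B ψ θ ≠ 0 := by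
      rw [H83.entry_symm hM hB hψ hθ]
      exact fun h => H83.not_dvd_entry_of_height_zero hM hB hθ h0 hψ (h ▸ dvd_zero _)
    have hpair : ψ ≠ θ := fun h => by rw [h, h0] at hh; exact lt_irrefl 0 hh
    have hle : H83.entry p B ψ ψ ^ 2 + H83.entry p B ψ θ ^ 2 ≤
        (p : ℤ) ^ d * H83.entry p B ψ ψ := by
      rw [← hsq, ← Finset.sum_pair (f := fun φ => H83.entry p B ψ φ ^ 2) hpair]
      exact Finset.sum_le_sum_of_subset_of_nonneg (Finset.subset_univ _)
        fun _ _ _ => sq_nonneg _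
    have hlt : H83.entry p B ψ ψ < (p : ℤ) ^ d := by
      have : 0 < H83.entry p B ψ θ ^ 2 := by positivity
      nlinarith
    have hdv := Int.le_of_dvd hm (H83.dvd_entry_succ hM hB hψ hh hψ)
    have h2 : p ^ (Cfsg.blockHeight p B (ψ : G → ℂ) + 1) < p ^ d := by
      exact_mod_cast hdv.trans_lt hlt
    have h3 := (Nat.pow_lt_pow_iff_right hp.one_lt).1 h2
    show _ + 2 ≤ d
    omega
  refine ⟨?_, fun χ hχ => ⟨fun hd1 => ?_, fun hd2 => ?_⟩⟩
  · rintro ⟨ψ, hψ, hh⟩
    have hd2 : 2 ≤ d := le_trans (Nat.le_add_left 2 _) (hht ψ hψ hh)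
    set T : Finset (Cfsg.IrrCharacter G) := Finset.univ.filter (· ∈ B) with hT
    set T0 := T.filter fun φ : Cfsg.IrrCharacter G => Cfsg.blockHeight p B (φ : G → ℂ) = 0 with hT0
    set T1 := T.filter fun φ : Cfsg.IrrCharacter G => ¬ Cfsg.blockHeight p B (φ : G → ℂ) = 0 with hT1
    have hψ0 : ψ ∉ T0 := by simp [hT0, hh.ne']
    have hθ1 : θ ∉ T1 := by simp [hT1, h0]
    have hk : Nat.card B = T0.card + T1.card := by
      rw [hT0, hT1, Finset.card_filter_add_card_filter_not, Nat.card_eq_fintype_card,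
        ← Set.toFinset_card]
      congr 1
      ext; simp [hT]
    have hb0 : ∀ φ ∈ T0, (p : ℤ) ^ 2 ≤ H83.entry p B ψ φ ^ 2 := by
      intro φ hφ
      obtain ⟨hφB, hφ0⟩ := Finset.mem_filter.1 hφ
      rw [hT, Finset.mem_filter] at hφB
      rw [H83.entry_symm hM hB hψ hφB.2, ← sq_abs (H83.entry p B φ ψ)]
      refine pow_le_pow_left₀ (by positivity) (le_trans ?_
        (H83.entry_ne_zero_of_height_zero hM hB hφB.2 hφ0 hψ)) 2
      exact le_self_pow₀ hp1 hh.ne'
    have hb1 : ∀ φ ∈ T1, (p : ℤ) ^ 2 ≤ H83.entry p B θ φ ^ 2 := by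
      intro φ hφ
      obtain ⟨hφB, hφ0⟩ := Finset.mem_filter.1 hφ
      rw [hT, Finset.mem_filter] at hφB
      rw [← sq_abs (H83.entry p B θ φ)]
      refine pow_le_pow_left₀ (by positivity) (le_trans ?_
        (H83.entry_ne_zero_of_height_zero hM hB hθ h0 hφB.2)) 2
      exact le_self_pow₀ hp1 hφ0
    have e0 : (T0.card : ℤ) * (p : ℤ) ^ 2 * 4 ≤ ((p : ℤ) ^ d) ^ 2 := by
      have h := Finset.sum_le_sum hb0
      rw [Finset.sum_const, nsmul_eq_mul] at h
      have := H83.four_mul_sum_erase_le hM hB hψ T0 hψ0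
      linarith
    have e1 : (T1.card : ℤ) * (p : ℤ) ^ 2 * 4 ≤ ((p : ℤ) ^ d) ^ 2 := by
      have h := Finset.sum_le_sum hb1
      rw [Finset.sum_const, nsmul_eq_mul] at h
      have := H83.four_mul_sum_erase_le hM hB hθ T1 hθ1
      linarith
    have e2 : ((p : ℤ) ^ d) ^ 2 = (p : ℤ) ^ (2 * d - 2) * (p : ℤ) ^ 2 := by
      rw [← pow_mul, ← pow_add]; congr 1; omega
    have hpos : (0 : ℤ) < (p : ℤ) ^ 2 := by positivity
    have e3 : ((2 * Nat.card B : ℕ) : ℤ) ≤ ((p ^ (2 * d - 2) : ℕ) : ℤ) := by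
      push_cast [hk]
      nlinarith
    exact_mod_cast e3
  · by_contra h
    have := hht χ hχ (Nat.pos_of_ne_zero h)
    omega
  · rcases Nat.eq_zero_or_pos (Cfsg.blockHeight p B (χ : G → ℂ)) with h | h
    · omega
    · have := hht χ hχ h
      omega

end Cfsg.Agent.S4710
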