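import Cfsg.Statements.S4698
import Cfsg.Agent.H83.MajorSubsection
import Cfsg.Agent.S4710
import Cfsg.Agent.S4716

set_option autoImplicit false
set_option linter.style.haveILetI false
open Cfsg

namespace Cfsg.Agent.S4698

open Polynomial
open scoped ComplexConjugate

universe u

variable {G : Type u} [Group G] [Fintype G] {p : ℕ} [hp : Fact p.Prime] {M : Ideal Cfsg.AlgInt}

omit [Fintype G] in
/-- Sum of a power over the primitive roots of prime order. -/
theorem sum_primitiveRoots_pow {ζ : ℂ} (hζ : IsPrimitiveRoot ζ p) (j : ℕ) :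
    ∑ η ∈ primitiveRoots p ℂ, η ^ j = (if p ∣ j then (p : ℂ) else 0) - 1 := by
  classical
  have hp1 := hp.out.one_lt
  have hS : primitiveRoots p ℂ = ((Finset.range p).erase 0).image (ζ ^ ·) := by
    ext η
    rw [mem_primitiveRoots hp.out.pos, Finset.mem_image, hζ.isPrimitiveRoot_iff]
    constructor
    · rintro ⟨i, hi, hco, rfl⟩
      refine ⟨i, Finset.mem_erase.2 ⟨?_, Finset.mem_range.2 hi⟩, rfl⟩
      rintro rfl
      simp only [Nat.coprime_zero_left] at hco
      omega
    · rintro ⟨i, hi, rfl⟩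
      obtain ⟨hi0, hi⟩ := Finset.mem_erase.1 hi
      exact ⟨i, Finset.mem_range.1 hi, (hp.out.coprime_iff_not_dvd.2 fun h => absurd
        (Nat.le_of_dvd (Nat.pos_of_ne_zero hi0) h) (not_le.2 (Finset.mem_range.1 hi))).symm, rfl⟩
  have hinj : Set.InjOn (ζ ^ ·) ↑((Finset.range p).erase 0) := fun a ha b hb h =>
    hζ.pow_inj (Finset.mem_range.1 (Finset.mem_of_mem_erase ha))
      (Finset.mem_range.1 (Finset.mem_of_mem_erase hb)) h
  rw [hS, Finset.sum_image hinj, Finset.sum_erase_eq_sub (Finset.mem_range.2 hp.out.pos), pow_zero,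
    one_pow]
  congr 1
  rw [Finset.sum_congr rfl fun i _ => show (ζ ^ i) ^ j = (ζ ^ j) ^ i by
    rw [← pow_mul, mul_comm, pow_mul]]
  split_ifs with h
  · rw [(hζ.pow_eq_one_iff_dvd j).2 h]
    simp
  · rw [geom_sum_eq (fun h' => h ((hζ.pow_eq_one_iff_dvd j).1 h')), ← pow_mul, mul_comm, pow_mul,
      hζ.pow_eq_one, one_pow]
    simp

open scoped Classical in
/-- The sum of the conjugates of a diagonal contribution is at least `(p - 1)` times the rank. -/
theorem diag_ge (hM : Cfsg.IsPModular p M) {C : Subgroup G} [Fintype C] {zC : C}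
    (hz : zC ∈ Subgroup.center C) (hzo : orderOf zC = p)
    {b : Set (Cfsg.IrrCharacter C)} (hb : Cfsg.IsPBlock M b)
    (hd : Cfsg.blockDefect p b = 1 ∨ Cfsg.blockDefect p b = 2)
    (hh : ∀ ψ ∈ b, Cfsg.blockHeight p b (ψ : C → ℂ) = 0)
    {ζ : ℂ} (hζ : IsPrimitiveRoot ζ p) (e : Cfsg.IrrCharacter C → ℕ) (χ : Cfsg.IrrCharacter G)
    (hne : aeval ζ (H83.contribPoly p p b e χ χ) ≠ 0) :
    ((p : ℝ) - 1) * (Cfsg.blockRank p b : ℝ) ≤
      ∑ η ∈ primitiveRoots p ℂ, (aeval η (H83.contribPoly p p b e χ χ)).re := by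
  set bf := Finset.univ.filter (fun ψ : Cfsg.IrrCharacter C => ψ ∈ b) with hbf
  set l := Cfsg.blockRank p b
  set N : Cfsg.IrrCharacter C → Cfsg.IrrCharacter C → ℤ := H83.entry p b
  set m : Cfsg.IrrCharacter C → ℤ := fun ψ => (H83.mult χ ψ : ℤ)
  set x : ℕ → Cfsg.IrrCharacter C → ℤ := fun a ψ => if e ψ % p = a then m ψ else 0
  set v : ℕ → Cfsg.IrrCharacter C → ℤ := fun a ψ => ∑ ψ' ∈ bf, x a ψ' * N ψ ψ'
  set q : ℕ → ℕ → ℤ := fun a a' =>
    ∑ ψ ∈ bf, ∑ ψ' ∈ bf, (x a ψ - x a' ψ) * (x a ψ' - x a' ψ') * N ψ ψ'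
  have hp1 := hp.out.one_lt
  -- the sum over the conjugates
  set I : ℤ := ∑ ψ ∈ bf, ∑ ψ' ∈ bf,
    H83.contribCoeff p b χ χ ψ ψ' * ((if e ψ % p = e ψ' % p then (p : ℤ) else 0) - 1) with hI
  have hdvd : ∀ a c : ℕ, p ∣ a + (p - 1) * c ↔ a % p = c % p := by
    intro a c
    constructor
    · intro h
      have h1 : (a + (p - 1) * c + c) % p = c % p := by
        rw [Nat.add_mod, Nat.mod_eq_zero_of_dvd h |> id]
        simp
      have h2 : a + (p - 1) * c + c = a + p * c := by
        have : (p - 1) * c + c = p * c := by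
          rw [← Nat.succ_mul]
          congr 1
          omega
        omega
      rwa [h2, Nat.add_mul_mod_self_left] at h1
    · intro h
      have h2 : a + (p - 1) * c + c = a + p * c := by
        have : (p - 1) * c + c = p * c := by
          rw [← Nat.succ_mul]
          congr 1
          omega
        omega
      have h3 : (a + (p - 1) * c + c) % p = (0 + c) % p := by
        rw [h2, Nat.add_mul_mod_self_left, h, zero_add]
      exact Nat.modEq_zero_iff_dvd.1 (Nat.ModEq.add_right_cancel' c h3)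
  have hsum : ∑ η ∈ primitiveRoots p ℂ, aeval η (H83.contribPoly p p b e χ χ) = (I : ℂ) := by
    simp only [H83.contribPoly, map_sum, map_mul, aeval_C, map_pow, aeval_X]
    rw [Finset.sum_comm, hI]
    push_cast
    refine Finset.sum_congr rfl fun ψ _ => ?_
    rw [Finset.sum_comm]
    refine Finset.sum_congr rfl fun ψ' _ => ?_
    rw [← Finset.mul_sum, sum_primitiveRoots_pow hζ, eq_intCast]
    congr 1
    simp only [hdvd]
  have hre : ∑ η ∈ primitiveRoots p ℂ, (aeval η (H83.contribPoly p p b e χ χ)).re = (I : ℝ) := by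
    rw [← Complex.re_sum, hsum, Complex.intCast_re]
  -- as a sum of squares of differences
  have h2I : ∑ a ∈ Finset.range p, ∑ a' ∈ Finset.range p, q a a' = 2 * I := by
    have hmod : ∀ ψ, e ψ % p ∈ Finset.range p := fun ψ =>
      Finset.mem_range.2 (Nat.mod_lt _ hp.out.pos)
    have hloc : ∀ ψ ψ', ∑ a ∈ Finset.range p, ∑ a' ∈ Finset.range p,
        (x a ψ - x a' ψ) * (x a ψ' - x a' ψ') =
        2 * (m ψ * m ψ' * ((if e ψ % p = e ψ' % p then (p : ℤ) else 0) - 1)) := by
      intro ψ ψ'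
      have h1 : ∀ φ, ∑ a ∈ Finset.range p, x a φ = m φ := fun φ => by
        simp only [x, Finset.sum_ite_eq, hmod φ, if_true]
      have h2 : ∑ a ∈ Finset.range p, x a ψ * x a ψ' =
          if e ψ % p = e ψ' % p then m ψ * m ψ' else 0 := by
        rw [Finset.sum_eq_single (e ψ % p)]
        · simp only [x, if_true]
          by_cases h : e ψ % p = e ψ' % p
          · rw [if_pos h, if_pos h.symm]
          · rw [if_neg h, if_neg (Ne.symm h), mul_zero]
        · intro a _ ha
          simp [x, Ne.symm ha]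
        · exact fun h => absurd (hmod ψ) h
      simp only [sub_mul, mul_sub, Finset.sum_sub_distrib, Finset.sum_const, Finset.card_range,
        ← Finset.mul_sum, ← Finset.sum_mul, h1, h2, nsmul_eq_mul]
      split_ifs <;> ring
    simp only [q]
    rw [Finset.sum_congr rfl fun a _ => Finset.sum_comm, Finset.sum_comm, hI, Finset.mul_sum]
    refine Finset.sum_congr rfl fun ψ _ => ?_
    rw [Finset.sum_congr rfl fun a _ => Finset.sum_comm, Finset.sum_comm, Finset.mul_sum]
    refine Finset.sum_congr rfl fun ψ' _ => ?_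
    simp only [← Finset.sum_mul, hloc]
    simp only [H83.contribCoeff, m, N]
    ring
  -- every difference is zero or large
  have hcase : ∀ a a', (∀ ψ ∈ b, v a ψ = v a' ψ) ∧ q a a' = 0 ∨ (l : ℤ) ≤ q a a' := by
    intro a a'
    rcases H83.quad_form_ge hM hb hz hzo hd hh (fun ψ => x a ψ - x a' ψ) with h | h
    · refine Or.inl ⟨fun ψ hψ => ?_, ?_⟩
      · have h1 := h ψ hψ
        simp only [sub_mul, Finset.sum_sub_distrib, sub_eq_zero] at h1
        exact h1
      · refine Finset.sum_eq_zero fun ψ hψ => ?_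
        have h1 := h ψ (Finset.mem_filter.1 hψ).2
        calc ∑ ψ' ∈ bf, (x a ψ - x a' ψ) * (x a ψ' - x a' ψ') * N ψ ψ'
            = (x a ψ - x a' ψ) * ∑ ψ' ∈ bf, (x a ψ' - x a' ψ') * N ψ ψ' := by
              simp only [Finset.mul_sum, mul_assoc]
          _ = 0 := by rw [h1, mul_zero]
    · exact Or.inr h
  have hl0 : (0 : ℤ) ≤ l := Nat.cast_nonneg l
  have hqnn : ∀ a a', 0 ≤ q a a' := fun a a' => by
    rcases hcase a a' with ⟨-, h⟩ | h <;> omega
  -- some difference is not zero
  obtain ⟨a₁, ha₁, hdiff⟩ : ∃ a₁ ∈ Finset.range p, ∃ ψ ∈ b, v a₁ ψ ≠ v 0 ψ := by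
    by_contra hcon
    push Not at hcon
    apply hne
    simp only [H83.contribPoly, map_sum, map_mul, aeval_C, map_pow, aeval_X]
    refine Finset.sum_eq_zero fun ψ hψ => ?_
    have hψb : ψ ∈ b := (Finset.mem_filter.1 hψ).2
    set η := ζ ^ (p - 1) with hη
    have hη1 : η ≠ 1 := fun h => by
      have := Nat.le_of_dvd (by omega) ((hζ.pow_eq_one_iff_dvd (p - 1)).1 h)
      omega
    have hηp : η ^ p = 1 := by rw [hη, ← pow_mul, mul_comm, pow_mul, hζ.pow_eq_one, one_pow]
    calc ∑ ψ' ∈ bf, algebraMap ℤ ℂ (H83.contribCoeff p b χ χ ψ ψ') * ζ ^ (e ψ + (p - 1) * e ψ')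
        = (m ψ : ℂ) * ζ ^ e ψ * ∑ a ∈ Finset.range p, η ^ a * (v a ψ : ℂ) := by
          simp only [v, Int.cast_sum, Int.cast_mul, Finset.mul_sum]
          rw [Finset.sum_comm]
          refine Finset.sum_congr rfl fun ψ' _ => ?_
          rw [Finset.sum_eq_single (e ψ' % p)]
          · simp only [x, if_true]
            rw [← pow_eq_pow_mod _ hηp, eq_intCast, H83.contribCoeff, pow_add, pow_mul, ← hη]
            simp only [m, N]
            push_cast
            ring
          · intro a _ ha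
            simp [x, Ne.symm ha]
          · intro h
            exact absurd (Finset.mem_range.2 (Nat.mod_lt _ hp.out.pos)) h
      _ = 0 := by
          rw [Finset.sum_congr rfl fun a ha => by rw [hcon a ha ψ hψb], ← Finset.sum_mul,
            geom_sum_eq hη1, hηp]
          simp
  obtain ⟨ψ₁, hψ₁, hψne⟩ := hdiff
  have h0r : 0 ∈ Finset.range p := Finset.mem_range.2 hp.out.pos
  have ha10 : a₁ ≠ 0 := fun h => hψne (by rw [h])
  have hpair : ∀ c, (l : ℤ) ≤ q 0 c + q a₁ c := by
    intro c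
    rcases hcase 0 c with ⟨h, -⟩ | h
    · rcases hcase a₁ c with ⟨h', -⟩ | h'
      · exact absurd ((h' ψ₁ hψ₁).trans (h ψ₁ hψ₁).symm) hψne
      · have := hqnn 0 c; omega
    · have := hqnn a₁ c; omega
  have hsymq : ∀ a a', q a a' = q a' a := fun a a' =>
    Finset.sum_congr rfl fun ψ _ => Finset.sum_congr rfl fun ψ' _ => by ring
  have h01 : (l : ℤ) ≤ q 0 a₁ := by
    rcases hcase 0 a₁ with ⟨h, -⟩ | h
    · exact absurd (h ψ₁ hψ₁).symm hψne
    · exact h
  set U := ((Finset.range p).erase 0).erase a₁ with hU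
  have ha₁' : a₁ ∈ (Finset.range p).erase 0 := Finset.mem_erase.2 ⟨ha10, ha₁⟩
  have hsplit : ∀ f : ℕ → ℤ, ∑ a ∈ Finset.range p, f a = f 0 + (f a₁ + ∑ a ∈ U, f a) := fun f => by
    rw [← Finset.add_sum_erase _ _ h0r, ← Finset.add_sum_erase _ _ ha₁']
  have hUcard : (U.card : ℤ) = (p : ℤ) - 2 := by
    rw [hU, Finset.card_erase_of_mem ha₁', Finset.card_erase_of_mem h0r, Finset.card_range]
    omega
  have hUsum : (U.card : ℤ) * l ≤ ∑ c ∈ U, (q 0 c + q a₁ c) := by
    have h := Finset.sum_le_sum (s := U) fun c _ => hpair c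
    simpa [nsmul_eq_mul] using h
  have htot : 2 * (((p : ℤ) - 1) * l) ≤ ∑ a ∈ Finset.range p, ∑ a' ∈ Finset.range p, q a a' := by
    simp only [hsplit, Finset.sum_add_distrib]
    have e1 : ∑ a ∈ U, q a 0 = ∑ a ∈ U, q 0 a := Finset.sum_congr rfl fun a _ => hsymq a 0
    have e2 : ∑ a ∈ U, q a a₁ = ∑ a ∈ U, q a₁ a := Finset.sum_congr rfl fun a _ => hsymq a a₁
    have e3 : 0 ≤ ∑ a ∈ U, ∑ a' ∈ U, q a a' :=
      Finset.sum_nonneg fun a _ => Finset.sum_nonneg fun a' _ => hqnn a a'
    have e4 := hsymq a₁ 0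
    have e5 := hqnn 0 0
    have e6 := hqnn a₁ a₁
    rw [Finset.sum_add_distrib] at hUsum
    rw [hUcard] at hUsum
    rw [e1, e2]
    linarith
  rw [h2I] at htot
  rw [hre]
  have : ((p : ℤ) - 1) * l ≤ I := by linarith
  exact_mod_cast this

open scoped Classical in
/-- Blocks of defect one and two. -/
theorem card_le_pow_of_le_two (hM : Cfsg.IsPModular p M) {B : Set (Cfsg.IrrCharacter G)}
    (hB : Cfsg.IsPBlock M B) (hd : Cfsg.blockDefect p B = 1 ∨ Cfsg.blockDefect p B = 2) :
    Nat.card B ≤ p ^ Cfsg.blockDefect p B := by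
  obtain ⟨z, hzo, b, hind, hbd⟩ := H83.exists_major_subsection hM hB (by omega)
  haveI : Fintype ↥(Subgroup.centralizer ({z} : Set G)) := Fintype.ofFinite _
  have hzx : orderOf z = p ^ 1 := by rw [hzo, pow_one]
  obtain ⟨ζ, e, hζ, hsymm, hproj, htrace, hcongr, hT⟩ := H83.exists_contrib hM hzx _ rfl hind
  simp only [pow_one] at hζ hsymm hproj htrace hcongr
  haveI : NeZero p := ⟨hp.out.ne_zero⟩
  set zC : ↥(Subgroup.centralizer ({z} : Set G)) := ⟨z, Subgroup.mem_centralizer_singleton_iff.2 rfl⟩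
  have hzC : zC ∈ Subgroup.center ↥(Subgroup.centralizer ({z} : Set G)) :=
    Subgroup.mem_center_iff.2 fun c => Subtype.ext (H83.mem_centralizer_comm c).symm
  have hzCo : orderOf zC = p := by rw [← Subgroup.orderOf_coe]; exact hzo
  have hht : ∀ {K : Type u} [Group K] [Finite K] (c : Set (Cfsg.IrrCharacter K)), Cfsg.IsPBlock M c →
      Cfsg.blockDefect p c = Cfsg.blockDefect p B →
      ∀ ψ ∈ c, Cfsg.blockHeight p c (ψ : K → ℂ) = 0 := by
    intro K _ _ c hc he ψ hψ
    have h := (S4710.result p M hM c hc _ he).2 ψ hψ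
    rcases hd with hd | hd
    · exact h.1 hd.le
    · have := h.2 hd.ge
      omega
  set Bf := Finset.univ.filter (fun χ : Cfsg.IrrCharacter G => χ ∈ B) with hBf
  set l := Cfsg.blockRank p b
  set S := primitiveRoots p ℂ with hS
  have hScard : (S.card : ℝ) = (p : ℝ) - 1 := by
    rw [hS, hζ.card_primitiveRoots, Nat.totient_prime hp.out, Nat.cast_sub hp.out.one_le, Nat.cast_one]
  have hlow : ∀ χ ∈ Bf, ((p : ℝ) - 1) * (l : ℝ) ≤
      ∑ η ∈ S, (aeval η (H83.contribPoly p p b e χ χ)).re := by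
    intro χ hχ
    have hχB := (Finset.mem_filter.1 hχ).2
    refine diag_ge hM hzC hzCo hind.1 (hbd ▸ hd) (hht b hind.1 hbd) hζ e χ fun h0 => ?_
    have h := hcongr χ χ
    rw [h0, zero_sub] at h
    have h' := BlockBasic.memLocalIdeal_neg h
    rw [neg_neg] at h'
    exact hT χ hχB (hht B hB rfl χ hχB) χ hχB (hht B hB rfl χ hχB)
      ((BlockBasic.memLocalIdeal_intCast_iff hM _).1 h')
  have hup : ∑ χ ∈ Bf, ∑ η ∈ S, (aeval η (H83.contribPoly p p b e χ χ)).re =
      ((p : ℝ) - 1) * ((p : ℝ) ^ Cfsg.blockDefect p b * (l : ℝ)) := by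
    rw [Finset.sum_comm, Finset.sum_congr rfl fun η hη =>
      (H83.contrib_conjugates hζ ((mem_primitiveRoots hp.out.pos).1 hη) Bf hsymm hproj htrace).2.1,
      Finset.sum_const, nsmul_eq_mul, hScard]
  have h := Finset.sum_le_sum hlow
  rw [hup, Finset.sum_const, nsmul_eq_mul, hbd] at h
  have hcard : Nat.card B = Bf.card := by
    rw [Nat.card_eq_fintype_card, Fintype.card_subtype, hBf]
  have hp1 : (0 : ℝ) < (p : ℝ) - 1 := by
    rw [sub_pos]
    exact_mod_cast hp.out.one_lt
  have hl : (0 : ℝ) < (l : ℝ) := by exact_mod_cast H83.blockRank_pos hM hind.1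
  have h2 : (Bf.card : ℝ) ≤ ((p ^ Cfsg.blockDefect p B : ℕ) : ℝ) := by
    push_cast
    exact le_of_mul_le_mul_right (by linarith) (mul_pos hp1 hl)
  rw [hcard]
  exact_mod_cast h2

open scoped Classical in
theorem main (hM : Cfsg.IsPModular p M) : ∀ (d : ℕ) (G : Type u) [Group G] [Fintype G]
    (B : Set (Cfsg.IrrCharacter G)), Cfsg.IsPBlock M B → Cfsg.blockDefect p B = d →
      (d ≤ 2 → Nat.card B ≤ p ^ d) ∧ (3 ≤ d → Nat.card B ≤ p ^ (2 * d - 2)) := by
  intro d
  induction d using Nat.strong_induction_on with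
  | _ d ih =>
    intro G _ _ B hB hd
    refine ⟨fun h2 => ?_, fun h3 => ?_⟩
    · rcases Nat.eq_zero_or_pos d with h0 | hpos
      · subst h0
        obtain ⟨θ, hθ, hθ0⟩ := H83.exists_height_zero hM hB
        set T := (Finset.univ.filter fun χ : Cfsg.IrrCharacter G => χ ∈ B).erase θ with hT
        have hone : ∀ χ ∈ T, (1 : ℤ) ≤ H83.entry p B θ χ ^ 2 := fun χ hχ => by
          have hχB : χ ∈ B := (Finset.mem_filter.1 (Finset.mem_of_mem_erase hχ)).2
          have hne : H83.entry p B θ χ ≠ 0 := fun h =>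
            H83.not_dvd_entry_of_height_zero hM hB hθ hθ0 hχB (h ▸ dvd_zero _)
          nlinarith [Int.one_le_abs hne, sq_abs (H83.entry p B θ χ)]
        have h1 := Finset.sum_le_sum hone
        rw [Finset.sum_const, nsmul_eq_mul, mul_one] at h1
        have h4 := H83.four_mul_sum_erase_le hM hB hθ T (Finset.notMem_erase _ _)
        rw [hd, pow_zero, one_pow] at h4
        have hT0 : T.card = 0 := by omega
        rw [pow_zero, Nat.card_eq_fintype_card, ← Set.toFinset_card]
        refine le_trans (Finset.card_le_card (t := insert θ T) fun χ hχ => ?_)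
          (le_trans (Finset.card_insert_le _ _) (by omega))
        rw [Set.mem_toFinset] at hχ
        by_cases h : χ = θ
        · exact Finset.mem_insert.2 (Or.inl h)
        · exact Finset.mem_insert_of_mem
            (Finset.mem_erase.2 ⟨h, Finset.mem_filter.2 ⟨Finset.mem_univ _, hχ⟩⟩)
      · subst hd
        exact card_le_pow_of_le_two hM hB (by omega)
    · subst hd
      by_cases hpos : ∃ χ ∈ B, 0 < Cfsg.blockHeight p B (χ : G → ℂ)
      · have h := (S4710.result p M hM B hB _ rfl).1 hpos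
        omega
      push Not at hpos
      obtain ⟨z, hzo, b, hind, hbd⟩ := H83.exists_major_subsection hM hB (by omega)
      haveI : Fintype ↥(Subgroup.centralizer ({z} : Set G)) := Fintype.ofFinite _
      have hk := S4716.result p M hM B hB _ rfl (fun χ hχ => Nat.le_zero.1 (hpos χ hχ)) z
        ⟨1, by rw [hzo, pow_one]⟩ b hind hbd
      set zC : ↥(Subgroup.centralizer ({z} : Set G)) := ⟨z, Subgroup.mem_centralizer_singleton_iff.2 rfl⟩
      have hzC : zC ∈ Subgroup.center ↥(Subgroup.centralizer ({z} : Set G)) :=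
        Subgroup.mem_center_iff.2 fun c => Subtype.ext (H83.mem_centralizer_comm c).symm
      have hzCo : orderOf zC = p := by rw [← Subgroup.orderOf_coe]; exact hzo
      have hl := H83.blockRank_le_card_triv hM hind.1 hzC hzCo
      have hlpos := H83.blockRank_pos hM hind.1
      have hne : ∃ φ ∈ b, H83.TrivAt zC φ := by
        obtain ⟨φ, hφ⟩ := Finset.card_pos.1 (lt_of_lt_of_le hlpos hl)
        exact ⟨φ, (Finset.mem_filter.1 hφ).2⟩
      haveI : (Subgroup.zpowers zC).Normal :=
        ⟨fun n hn g => by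
          rw [Subgroup.mem_center_iff.1 (Subgroup.zpowers_le.2 hzC hn) g, mul_inv_cancel_right]
          exact hn⟩
      haveI : Fintype (↥(Subgroup.centralizer ({z} : Set G)) ⧸ Subgroup.zpowers zC) := Fintype.ofFinite _
      obtain ⟨bq, hbq, hbqd, hbqc⟩ :=
        H83.exists_quotient_block hM hind.1 hzCo (Subgroup.zpowers zC) rfl hzC hne
      set d := Cfsg.blockDefect p B
      set e := Cfsg.blockDefect p bq with he
      have hed : e < d := by omega
      obtain ⟨hle2, hge3⟩ := ih e hed (↥(Subgroup.centralizer ({z} : Set G)) ⧸ Subgroup.zpowers zC) bq hbq he.symm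
      have hp1 : 1 ≤ p := hp.out.one_le
      have hbound : Cfsg.blockRank p b ≤ p ^ (2 * d - 4) := by
        refine le_trans hl (le_trans hbqc ?_)
        rcases le_or_gt e 2 with h | h
        · exact (hle2 h).trans (Nat.pow_le_pow_right hp1 (by omega))
        · exact (hge3 h).trans (Nat.pow_le_pow_right hp1 (by omega))
      have hfin : Nat.card B ^ 2 ≤ (p ^ (2 * d - 2)) ^ 2 := by
        refine le_trans hk (le_trans (Nat.mul_le_mul_left _ hbound) ?_)
        rw [← pow_mul, ← pow_add]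
        exact Nat.pow_le_pow_right hp1 (by omega)
      exact (Nat.pow_le_pow_iff_left two_ne_zero).1 hfin

/-- Let p be a prime, M a maximal ideal of the algebraic integers containing p, and B a p-block of defect d of the finite group G, containing k irreducible characters. Then k ≤ p^d when d ≤ 2, and k ≤ p^(2d − 2) when d ≥ 3. -/
theorem result {G : Type*} [Group G] [Finite G] (p : ℕ) [Fact p.Prime] (M : Ideal Cfsg.AlgInt) (hM : Cfsg.IsPModular p M) (B : Set (Cfsg.IrrCharacter G)) (hB : Cfsg.IsPBlock M B) (d : ℕ) (hd : Cfsg.blockDefect p B = d) : (d ≤ 2 → Nat.card B ≤ p ^ d) ∧ (3 ≤ d → Nat.card B ≤ p ^ (2 * d - 2)) := by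
  cases nonempty_fintype G
  exact main hM d G B hB hd

end Cfsg.Agent.S4698
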