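import Cfsg.Statements.S4642
import Cfsg.Agent.H82.OverThetaLocal

set_option autoImplicit false
set_option maxHeartbeats 800000
open Cfsg

namespace Cfsg.Agent.S4642

open CharBasic BlockBasic CharInduce H82 MonoidAlgebra

theorem omega_sum {G : Type*} [Group G] [Fintype G] (χ : G → ℂ) {ι : Type*} (s : Finset ι)
    (f : ι → MonoidAlgebra ℂ G) : omega χ (∑ i ∈ s, f i) = ∑ i ∈ s, omega χ (f i) := by
  classical
  induction s using Finset.induction with
  | empty =>
    have h := omega_smul χ 0 (1 : MonoidAlgebra ℂ G)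
    rw [zero_smul, zero_mul] at h
    rw [Finset.sum_empty, Finset.sum_empty, h]
  | insert i s hi ih => rw [Finset.sum_insert hi, Finset.sum_insert hi, omega_add, ih]

/-- The induced block in terms of the Brauer map. -/
theorem isInducedBlock_centralizer_iff {G : Type*} [Group G] [Fintype G] {p : ℕ} [Fact p.Prime]
    {M : Ideal Cfsg.AlgInt} (hM : Cfsg.IsPModular p M) {R : Subgroup G} (hR : IsPGroup p R)
    {B : Set (Cfsg.IrrCharacter G)} (hB : Cfsg.IsPBlock M B) {χ : Cfsg.IrrCharacter G} (hχ : χ ∈ B)
    {f : Set (Cfsg.IrrCharacter (Subgroup.centralizer (R : Set G)))} :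
    Cfsg.IsInducedBlock M (Subgroup.centralizer (R : Set G)) f B ↔ Cfsg.IsPBlock M f ∧
      ∀ ξ ∈ f, MemLocalIdeal M (brOmega R (ξ : _ → ℂ) (blockElem B) - 1) := by
  classical
  have hcls : ∀ (ξ : Cfsg.IrrCharacter (Subgroup.centralizer (R : Set G))) (g : G),
      inducedCentralChar (Subgroup.centralizer (R : Set G)) (ξ : _ → ℂ) g =
        brOmega R (ξ : _ → ℂ) (classSum g) := by
    intro ξ g
    cases nonempty_fintype (Subgroup.centralizer (R : Set G))
    rw [brOmega_eq, ← omega_resMap_classSum]
    congr 1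
  constructor
  · rintro ⟨hf, -, hind⟩
    refine ⟨hf, fun ξ hξ => ?_⟩
    haveI : Finite (ConjClasses G) := Finite.of_surjective _ ConjClasses.mk_surjective
    haveI : Fintype (ConjClasses G) := Fintype.ofFinite _
    set E := blockElem B
    have hE : E = ∑ J : ConjClasses G, E.coeff J.out • classSum J.out :=
      eq_sum_classSum (isCentralElt_blockElem B)
    have h1 : omega (χ : G → ℂ) E = 1 := by rw [omega_blockElem, if_pos hχ]
    rw [← h1, hE, brOmega_sum, omega_sum, ← Finset.sum_sub_distrib]
    refine memLocalIdeal_sum hM _ _ fun J _ => ?_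
    rw [brOmega_smul, omega_smul, ← mul_sub, ← hcls, omega_classSum (IsIrr.isClassFunction χ.2)]
    exact memLocalIdeal_mul hM (isIntElt_blockElem hM hB _) (hind ξ hξ χ hχ _)
  · rintro ⟨hf, h⟩
    refine ⟨hf, hB, fun ξ hξ ψ hψ g => ?_⟩
    rw [hcls, ← omega_classSum (IsIrr.isClassFunction ψ.2)]
    exact brOmega_congr_centralChar hM (isBrauerPairOf_of_mem hM hB ⟨hR, hf⟩ hξ (h ξ hξ)) hξ hψ
      (isCentralElt_classSum g) (isIntElt_classSum hM g)

/-- Let G be a finite group, p a prime, M a maximal ideal of the algebraic integers containing p, K the largest normal subgroup of G of order prime to p, and L the preimage in G of the largest normal p-subgroup of G/K. Let Q be a Sylow p-subgroup of L and suppose C_G(Q) ≤ L. Let θ be an irreducible character of K invariant under conjugation by every element of G, and let B be the set of irreducible characters of G whose restriction to K contains θ. Then B is a block of G, every Sylow p-subgroup of G is a defect group of B, and B is of principal type: for every p-subgroup R of G exactly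 one block of C_G(R) induces B. -/
theorem result {G : Type*} [Group G] [Fintype G] (p : ℕ) [Fact p.Prime] (M : Ideal Cfsg.AlgInt) (hM : Cfsg.IsPModular p M) (K : Subgroup G) (hK : K = Cfsg.pPrimeCore p G) [Fintype K] (L : Subgroup G) (hL : L = Cfsg.pPrimePCore p G) (Q : Subgroup G) (hQL : Q ≤ L) (hQp : IsPGroup p Q) (hQS : ¬ p ∣ Q.relIndex L) (hCQ : Subgroup.centralizer (Q : Set G) ≤ L) (θ : Cfsg.IrrCharacter K) (hθ : ∀ g : G, Cfsg.IsConjCharOf K g (θ : K → ℂ) (θ : K → ℂ)) (B : Set (Cfsg.IrrCharacter G)) (hBdef : ∀ χ : Cfsg.IrrCharacter G, χ ∈ B ↔ Cfsg.classInner (fun k : K => (χ : G → ℂ) k) (θ : K → ℂ) ≠ 0) : Cfsg.IsPBlock M B ∧ (∀ S : Sylow p G, Cfsg.IsDefectGroup p M B S) ∧ ∀ R : Subgroup G, IsPGroup p R → ∃! f : Set (Cfsg.IrrCharacter (Subgroup.centralizer (R : Set G))), Cfsg.IsInducedBlock M (Subgroup.centralizer (R : Set G)) f B := by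
  classical
  have hp := (Fact.out : p.Prime)
  haveI : K.Normal := by subst hK; infer_instance
  haveI : L.Normal := by subst hL; infer_instance
  have hKL : K ≤ L := by subst hK hL; exact Cores.pPrimeCore_le_pPrimePCore
  have hKp : ¬ p ∣ Nat.card K := by subst hK; exact Cores.not_dvd_card_pPrimeCore
  have hidx : ∃ k : ℕ, K.relIndex L = p ^ k := by subst hK hL; exact exists_relIndex_pPrimePCore
  have hcen : ∀ x : G, (∀ l ∈ L, x * l * x⁻¹ * l⁻¹ ∈ K) → x ∈ L := by
    subst hK hL
    exact fun x hx => mem_pPrimePCore_of_commutators hQL hQp hCQ hx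
  have hlocal : ∀ R : Subgroup G, IsPGroup p R → IsPGroup p (Subgroup.centralizer
      (pCore p (↥(Subgroup.centralizer (R : Set G)) ⧸
        K.subgroupOf (Subgroup.centralizer (R : Set G))) :
        Set (↥(Subgroup.centralizer (R : Set G)) ⧸
          K.subgroupOf (Subgroup.centralizer (R : Set G))))) := by
    subst hK hL
    exact fun R hR => isPGroup_centralizer_pCore hQL hQp hCQ hR
  have hθ' : ∀ x : G, conjFun K (θ : K → ℂ) x = θ := fun x =>
    funext fun n => hθ x n ⟨x * n * x⁻¹, _⟩ rfl
  have hθdeg : ¬ p ∣ charDegree (θ : K → ℂ) := fun h =>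
    hKp (h.trans (H83.charDegree_dvd_card θ.2))
  have hθ1 : (θ : K → ℂ) 1 = (charDegree (θ : K → ℂ) : ℂ) := (H83.charDegree_eq θ.2).1
  -- characters of degree prime to `p` over `θ`
  have habove : ∀ S : Sylow p G, ∃ χ ∈ B, ¬ p ∣ charDegree (χ : G → ℂ) := by
    intro S
    set H := K ⊔ (S : Subgroup G) with hH
    haveI : Fintype H := Fintype.ofFinite _
    set N := K.subgroupOf H
    haveI : Fintype N := Fintype.ofFinite _
    have hKH : K ≤ H := le_sup_left
    set e := Subgroup.subgroupOfEquivOfLe hKH
    have hN : ¬ p ∣ Nat.card N := by rwa [Nat.card_congr e.toEquiv]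
    have hindex : ¬ p ∣ H.index := fun h =>
      S.not_dvd_index (h.trans (Subgroup.index_dvd_of_le le_sup_right))
    obtain ⟨n, hn⟩ := IsPGroup.iff_card.mp S.isPGroup'
    have hNidx : ∃ k : ℕ, N.index = p ^ k := by
      have h1 := Cores.card_sup_mul_card_inf (S : Subgroup G) K
      rw [Subgroup.inf_eq_bot_of_coprime (by
          rw [hn]; exact Nat.Coprime.pow_left _ (hp.coprime_iff_not_dvd.mpr hKp)),
        Subgroup.card_bot, mul_one, sup_comm, ← hH] at h1
      have h2 := N.card_mul_index
      rw [h1, Nat.card_congr e.toEquiv, mul_comm (Nat.card (S : Subgroup G)), hn] at h2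
      exact ⟨n, Nat.eq_of_mul_eq_mul_left Nat.card_pos h2⟩
    obtain ⟨η, hη, hηres, -⟩ := exists_canon hN hNidx (H83.irrComp e θ).2 (fun l k => by
      conv_rhs => rw [H83.irrComp_apply, ← hθ' (l : G)]
      rw [H83.irrComp_apply]
      exact congrArg (θ : K → ℂ) (Subtype.ext rfl))
    have hη1 : η 1 = (θ : K → ℂ) 1 := by
      rw [show (1 : H) = ((1 : N) : H) from rfl, hηres, H83.irrComp_apply, map_one]
    have hηdeg : ¬ p ∣ charDegree η := by
      have h := (H83.charDegree_eq hη).1
      rw [hη1, hθ1, Nat.cast_inj] at h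
      rwa [← h]
    obtain ⟨χ, hχ, hne⟩ := exists_prime_degree_above H hindex hη hηdeg
    refine ⟨χ, (hBdef χ).mpr ?_, hχ⟩
    obtain ⟨r, hr, hadd⟩ := CharInduce.IsChar.exists_eq_add
      (CharInduce.IsChar.res (CharBasic.IsIrr.isCharacter χ.2) H) hη hne
    obtain ⟨b, hb⟩ := classInner_isChar_nat
      (CharInduce.IsChar.comp hr (Subgroup.inclusion hKH))
      (CharBasic.IsIrr.isCharacter θ.2)
    have h1 : (fun k : K => (χ : G → ℂ) k) =
        (θ : K → ℂ) + fun k : K => r (Subgroup.inclusion hKH k) := funext fun k => by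
      have h2 := congrFun hadd (Subgroup.inclusion hKH k)
      rw [Pi.add_apply] at h2
      rw [Pi.add_apply]
      refine h2.trans (congrArg (· + _) ?_)
      exact (hηres (e.symm k)).trans (congrArg (θ : K → ℂ) (e.apply_symm_apply k))
    rw [h1, classInner_add_left, classInner_irr_self θ.2, hb, ← Nat.cast_one, ← Nat.cast_add,
      Nat.cast_ne_zero]
    omega
  obtain ⟨χ₀, hχ₀, hχ₀deg⟩ := habove default
  -- the block
  have hBeq : B = blockOf M (χ₀ : G → ℂ) := by
    ext ψ
    rw [mem_blockOf, hBdef]
    exact ⟨fun h => sameBlock_over hM hKL hKp hidx hcen hθ' ((hBdef χ₀).mp hχ₀) h,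
      fun h => constituent_of_sameBlock hM hKp h ((hBdef χ₀).mp hχ₀)⟩
  have hB : IsPBlock M B := hBeq ▸ isPBlock_blockOf M χ₀
  refine ⟨hB, fun S => ?_, fun R hR => ?_⟩
  · have ha : blockDefect p B = (Nat.card G).factorization p := by
      have h0 : sInf ((fun χ : IrrCharacter G => (charDegree (χ : G → ℂ)).factorization p) '' B) = 0 :=
        Nat.le_zero.mp (Nat.sInf_le ⟨χ₀, hχ₀, Nat.factorization_eq_zero_of_not_dvd hχ₀deg⟩)
      rw [blockDefect, h0, Nat.sub_zero]
    obtain ⟨g, hg⟩ := exists_isDefectClass hM hB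
    have hfac := H35.blockDefect_eq hM hB hg
    rw [ha] at hfac
    obtain ⟨P⟩ : Nonempty (Sylow p (Subgroup.centralizer ({g} : Set G))) := inferInstance
    have hD : Nat.card (H35.sylImage P) = p ^ (Nat.card G).factorization p := by
      rw [H35.card_sylImage, hfac]
    obtain ⟨x, hx⟩ := MulAction.exists_smul_eq G
      (Sylow.ofCard (H35.sylImage P) hD) S
    have hS : (S : Subgroup G) = (H35.sylImage P).map (MulAut.conj x).toMonoidHom := by
      rw [← hx, Sylow.coe_subgroup_smul, Sylow.coe_ofCard]
      rfl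
    have hle : (S : Subgroup G) ≤ Subgroup.centralizer ({x * g * x⁻¹} : Set G) := by
      rw [hS]
      rintro _ ⟨q, hq, rfl⟩
      exact H35.conj_mem_centralizer_singleton x (H35.sylImage_le P hq)
    obtain ⟨T, hT⟩ := exists_sylow_eq (p := p) hle (by
      rw [H82.card_centralizer_conj, ← hfac, S.card_eq_multiplicity])
    refine ⟨x * g * x⁻¹, isDefectClass_conj hg x, T, ?_⟩
    rw [hT, Subgroup.subgroupOf_map_subtype, inf_eq_left.mpr hle]
  · set E := thetaElem K θ
    have hE : blockElem B = E := eq_of_omega_eq (isCentralElt_blockElem B)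
      (isCentralElt_thetaElem hθ') fun χ => by
        rw [omega_blockElem, omega_thetaElem hθ']
        exact if_congr (hBdef χ) rfl rfl
    have hEc : IsCentralElt E := isCentralElt_thetaElem hθ'
    have hEint : IsIntElt M E := hE ▸ isIntElt_blockElem hM hB
    have hEE : E * E = E := by rw [← hE, blockElem_idem]
    cases nonempty_fintype (Subgroup.centralizer (R : Set G))
    set C := Subgroup.centralizer (R : Set G) with hCdef
    have hyc : IsCentralElt (br R E) := isCentralElt_br (isInvElt_of_isCentralElt hEc _)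
    have hyi : IsIntElt M (br R E) := isIntElt_br hEint
    -- some block of the centralizer
    obtain ⟨ξ, hξ⟩ : ∃ ξ : IrrCharacter C,
        MemLocalIdeal M (brOmega R (ξ : C → ℂ) E - 1) := by
      by_contra hcon
      simp only [not_exists] at hcon
      have h0 : ∀ ξ : IrrCharacter C, MemLocalIdeal M (omega (ξ : C → ℂ) (br R E)) := by
        intro ξ
        rw [← brOmega_eq]
        have h := brOmega_mul (ξ := (ξ : C → ℂ)) hM hR ξ.2 hEint hEint (isInvElt_of_isCentralElt hEc _)
          (isInvElt_of_isCentralElt hEc _) (isInvElt_of_isCentralElt hEc _)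
          (isInvElt_of_isCentralElt hEc _)
        rw [hEE] at h
        set v := brOmega R (ξ : C → ℂ) E
        have hv : MemLocalRing M v :=
          memLocalRing_brOmega hM ξ.2 (isInvElt_of_isCentralElt hEc _) hEint
        have h2 : MemLocalIdeal M (v * (v - 1)) := by
          convert memLocalIdeal_neg h using 1
          ring
        exact ((memLocalIdeal_mul_iff hM hv ((locRing hM).sub_mem hv (locRing hM).one_mem)).mp
          h2).resolve_right (hcon ξ)
      obtain ⟨N, hN⟩ := exists_pow_isIdealElt hM hyc h0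
      have hD : IsIdealElt M (br R E - br R E * br R E) := by
        have := isIdealElt_br_mul (Q := R) hM hR hEint hEint (isInvElt_of_isCentralElt hEc _)
          (isInvElt_of_isCentralElt hEc _)
        rwa [hEE] at this
      have hy : ∀ n : ℕ, IsIdealElt M (br R E - br R E ^ (n + 1)) := by
        intro n
        induction n with
        | zero => intro c; simp [memLocalIdeal_zero hM]
        | succ n ih =>
          have h1 := isIdealElt_mul_left hM hyi ih
          intro c
          have := memLocalIdeal_add hM (hD c) (h1 c)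
          rwa [← Finsupp.add_apply, ← coeff_add, mul_sub, sub_add_sub_cancel, ← pow_succ'] at this
      have hyI : IsIdealElt M (br R E) := by
        intro c
        have h1 := hy N c
        have h2 : IsIdealElt M (br R E ^ (N + 1)) := by
          rw [pow_succ']
          exact isIdealElt_mul_left hM hyi hN
        have := memLocalIdeal_add hM h1 (h2 c)
        rwa [← Finsupp.add_apply, ← coeff_add, sub_add_cancel] at this
      have hinv : ∀ q ∈ R, ∀ g : G, E.coeff (q * g * q⁻¹) * extendByZero K (θ : K → ℂ) (q * g * q⁻¹) =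
          E.coeff g * extendByZero K (θ : K → ℂ) g := by
        intro q _ g
        rw [show E.coeff (q * g * q⁻¹) = E.coeff g from hEc g q]
        by_cases hg : g ∈ K
        · rw [extendByZero_conjFun K (θ : K → ℂ) q ⟨g, hg⟩, hθ', extendByZero_of_mem _ hg]
        · rw [coeff_thetaElem_of_notMem hg, zero_mul, zero_mul]
      have hloc : ∀ g, MemLocalRing M (E.coeff g * extendByZero K (θ : K → ℂ) g) := by
        intro g
        refine memLocalRing_mul hM (hEint g) ?_
        by_cases hg : g ∈ K
        · rw [extendByZero_of_mem _ hg]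
          exact memLocalRing_of_isIntegral hM (isIntegral_apply θ _)
        · rw [extendByZero_of_not_mem _ hg]
          exact (locRing hM).zero_mem
      have h3 := memLocalIdeal_sum_sub_sum_centralizer hM hR hloc hinv
      have h4 : ∑ g : G, E.coeff g * extendByZero K (θ : K → ℂ) g = (θ : K → ℂ) 1 := by
        rw [← Finset.sum_subset (Finset.subset_univ (Finset.univ.filter (· ∈ K))) (fun g _ hg => by
          rw [coeff_thetaElem_of_notMem (by simpa using hg), zero_mul]),
          Finset.sum_subtype _ (p := (· ∈ K)) (by simp)]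
        have h5 := omega_blockElem ({θ} : Set (IrrCharacter K)) θ
        rw [if_pos (Set.mem_singleton θ), omega, div_eq_one_iff_eq (irr_one_ne_zero θ.2), chiLin] at h5
        rw [← h5]
        refine Finset.sum_congr rfl fun k _ => ?_
        rw [extendByZero_coe, coeff_blockElem]
        show (thetaElem K θ).coeff (k : G) * _ = _
        rw [thetaElem, coeff_blockUp_of_mem]
      rw [h4] at h3
      have h6 : MemLocalIdeal M (∑ c : C, E.coeff (c : G) * extendByZero K (θ : K → ℂ) (c : G)) := by
        refine memLocalIdeal_sum hM _ _ fun c _ => ?_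
        rw [mul_comm]
        refine memLocalIdeal_mul hM ?_ (by simpa [coeff_br] using hyI c)
        by_cases hg : (c : G) ∈ K
        · rw [extendByZero_of_mem _ hg]
          exact memLocalRing_of_isIntegral hM (isIntegral_apply θ _)
        · rw [extendByZero_of_not_mem _ hg]
          exact (locRing hM).zero_mem
      have h7 := memLocalIdeal_add hM h3 h6
      rw [sub_add_cancel, hθ1, memLocalIdeal_natCast_iff hM] at h7
      exact hθdeg h7
    refine ⟨blockOf M (ξ : C → ℂ), ?_, ?_⟩
    · refine (isInducedBlock_centralizer_iff hM hR hB hχ₀).mpr ⟨isPBlock_blockOf M ξ, fun ξ' hξ' => ?_⟩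
      rw [hE]
      have := memLocalIdeal_add hM (brOmega_congr_mem hM (isPBlock_blockOf M ξ) hξ'
        (self_mem_blockOf hM ξ) (isInvElt_of_isCentralElt hEc _) hEint) hξ
      rwa [sub_add_sub_cancel] at this
    · intro f hf
      obtain ⟨hfb, hf1⟩ := (isInducedBlock_centralizer_iff hM hR hB hχ₀).mp hf
      obtain ⟨η, hηf⟩ := isPBlock_nonempty hM hfb
      have hη1 : MemLocalIdeal M (brOmega R (η : C → ℂ) E - 1) := hE ▸ hf1 η hηf
      rw [isPBlock_eq_blockOf hM hfb hηf]
      refine blockOf_eq_of_sameBlock hM ?_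
      set K' := K.subgroupOf C
      cases nonempty_fintype K'
      have hsupp : ∀ x, x ∉ K' → (br R E).coeff x = 0 := fun x hx => by
        rw [coeff_br]; exact coeff_thetaElem_of_notMem hx
      have hK' : ¬ p ∣ Nat.card K' := fun h => hKp (h.trans (by
        rw [← Subgroup.card_map_of_injective (f := C.subtype) C.subtype_injective]
        exact Subgroup.card_dvd_of_le (by rw [Subgroup.subgroupOf_map_subtype]; exact inf_le_left)))
      have hΦ : ∀ (ζ : IrrCharacter C) (ν : IrrCharacter K'),
          MemLocalIdeal M (brOmega R (ζ : C → ℂ) E - 1) →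
          classInner (fun k : K' => (ζ : C → ℂ) k) (ν : K' → ℂ) ≠ 0 →
          MemLocalIdeal M (omega (ν : K' → ℂ) (resMap K' (br R E)) - 1) := by
        intro ζ ν hζ hν
        rwa [← omega_eq_omega_resMap ζ ν hν hyc hsupp, ← brOmega_eq]
      obtain ⟨μ, hμ⟩ := exists_constituent η K'
      obtain ⟨μ', hμ'⟩ := exists_constituent ξ K'
      have hμ1 := hΦ η μ hη1 hμ
      have huniq : ∀ ν : IrrCharacter K',
          MemLocalIdeal M (omega (ν : K' → ℂ) (resMap K' (br R E)) - 1) → ν = μ := fun ν hν =>
        eq_of_sameBlock_of_not_dvd hM hK' (sameBlock_of_brauer_thetaElem hM hKp hθ' hR hμ1 hν)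
      have hμeq : μ' = μ := huniq μ' (hΦ ξ μ' hξ hμ')
      subst hμeq
      have hinv : ∀ x : C, conjFun K' (μ' : K' → ℂ) x = μ' := by
        intro x
        have h1 : H80.conjTwist K' μ' x = μ' := huniq _ (hΦ ξ _ hξ (by
          rw [H80.classInner_res_conjTwist K' (IsIrr.isClassFunction ξ.2)]; exact hμ'))
        funext k
        conv_rhs => rw [← h1]
        exact (H80.conjTwist_apply K' μ' x k).symm
      set P' := pCore p (↥C ⧸ K')
      set L' := P'.comap (QuotientGroup.mk' K') with hL'
      have hK'L' : K' ≤ L' := fun k hk => by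
        rw [hL', Subgroup.mem_comap, QuotientGroup.mk'_apply, (QuotientGroup.eq_one_iff k).mpr hk]
        exact one_mem _
      have hidx' : ∃ k : ℕ, K'.relIndex L' = p ^ k := by
        obtain ⟨k, hk⟩ := IsPGroup.iff_card.mp (Cores.pCore_isPGroup (p := p) (G := ↥C ⧸ K'))
        refine ⟨k, Nat.eq_of_mul_eq_mul_right (Nat.pos_of_ne_zero
          (Subgroup.index_ne_zero_of_finite (H := L'))) ?_⟩
        rw [Subgroup.relIndex_mul_index hK'L',
          show L'.index = P'.index from
            Subgroup.index_comap_of_surjective _ (QuotientGroup.mk'_surjective _),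
          ← hk, Subgroup.card_mul_index]
        rfl
      have hcen' : ∀ x : C, (∀ l ∈ L', x * l * x⁻¹ * l⁻¹ ∈ K') → x ∈ L' := by
        intro x hx
        have hle : Subgroup.centralizer (P' : Set (↥C ⧸ K')) ≤ P' :=
          Cores.le_pCore (hlocal R hR)
        refine hle (Subgroup.mem_centralizer_iff.mpr fun y hy => ?_)
        obtain ⟨l, rfl⟩ := QuotientGroup.mk'_surjective K' y
        have h1 : QuotientGroup.mk' K' (x * l * x⁻¹ * l⁻¹) = 1 :=
          (QuotientGroup.eq_one_iff _).mpr (hx l hy)
        rw [map_mul, map_mul, map_mul, map_inv, map_inv, mul_inv_eq_one, mul_inv_eq_iff_eq_mul] at h1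
        exact h1.symm
      exact sameBlock_over hM hK'L' hK' hidx' hcen' hinv hμ hμ'

end Cfsg.Agent.S4642
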