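import Cfsg.Statements.S3949


set_option autoImplicit false
open Cfsg

namespace Cfsg.Agent.S3949

/-- Let G be a finite group and α an automorphism of G of order 2 such that the elements g·α(g)⁻¹ generate G. Let j be a positive integer such that 2^j divides the order of no element inverted by α. Then the set of values of the j-th iterate of the map c ↦ c·α(c)⁻¹ is exactly the set of elements of odd order inverted by α. -/
theorem result {G : Type*} [Group G] [Finite G] (α : MulAut G) (hα : orderOf α = 2) (hG : Subgroup.closure (Set.range (fun c : G => c * (α c)⁻¹)) = ⊤)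
    (j : ℕ) (hj : ∀ g : G, α g = g⁻¹ → ¬ 2 ^ j ∣ orderOf g) :
    Set.range ((fun c : G => c * (α c)⁻¹)^[j]) = {g : G | Odd (orderOf g) ∧ α g = g⁻¹} := by
  have hinv : ∀ c : G, α (c * (α c)⁻¹) = (c * (α c)⁻¹)⁻¹ := by
    intro c
    have h2 : α (α c) = c := by
      have h := congrArg (fun β : MulAut G => β c) (pow_orderOf_eq_one α)
      simp only [hα, sq, MulAut.mul_apply, MulAut.one_apply] at h
      exact h
    rw [map_mul, map_inv, h2, mul_inv_rev, inv_inv]
  have hiter : ∀ (y : G), α y = y⁻¹ → ∀ i : ℕ,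
      (fun c : G => c * (α c)⁻¹)^[i] y = y ^ 2 ^ i := by
    intro y hy i
    induction i with
    | zero => simp
    | succ i ih =>
      rw [Function.iterate_succ_apply', ih]
      show y ^ 2 ^ i * (α (y ^ 2 ^ i))⁻¹ = y ^ 2 ^ (i + 1)
      rw [map_pow, hy, inv_pow, inv_inv, ← pow_add, ← two_mul, ← pow_succ']
  have hj0 : j ≠ 0 := by
    rintro rfl
    exact hj 1 (by simp) (by simp)
  obtain ⟨i, rfl⟩ := Nat.exists_eq_succ_of_ne_zero hj0
  ext g
  constructor
  · rintro ⟨c, rfl⟩
    rw [Function.iterate_succ_apply]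
    set y := c * (α c)⁻¹
    rw [hiter y (hinv c) i]
    refine ⟨?_, by rw [map_pow, hinv c, inv_pow]⟩
    by_contra hodd
    rw [Nat.not_odd_iff_even, even_iff_two_dvd, orderOf_pow' _ (pow_ne_zero i two_ne_zero)] at hodd
    apply hj y (hinv c)
    obtain ⟨k, hk⟩ := hodd
    obtain ⟨v, u, hu, hvu⟩ := Nat.exists_eq_pow_mul_and_not_dvd (orderOf_pos y).ne' 2 (by norm_num)
    by_contra hcon
    have hvi : v ≤ i := by
      by_contra hlt
      exact hcon (hvu ▸ dvd_mul_of_dvd_left (pow_dvd_pow 2 (by omega)) u)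
    apply hu
    have hcop : Nat.Coprime u (2 ^ i) :=
      (((Nat.prime_two.coprime_iff_not_dvd).mpr hu).pow_left i).symm
    have hgcd : Nat.gcd (orderOf y) (2 ^ i) = 2 ^ v := by
      rw [hvu, Nat.Coprime.gcd_mul_right_cancel _ hcop, Nat.gcd_eq_left (pow_dvd_pow 2 hvi)]
    rw [hgcd, hvu, Nat.mul_div_cancel_left u (pow_pos two_pos v)] at hk
    exact ⟨k, hk⟩
  · rintro ⟨hodd, hg⟩
    obtain ⟨m, hm⟩ := exists_pow_eq_self_of_coprime (x := g) (n := 2 ^ (i + 1))
      (Nat.Coprime.pow_left _ (Nat.coprime_two_left.mpr hodd))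
    refine ⟨g ^ m, ?_⟩
    rw [hiter _ (by rw [map_pow, hg, inv_pow]), ← pow_mul, mul_comm, pow_mul]
    exact hm

end Cfsg.Agent.S3949
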