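import Cfsg.Statements.S0089
import Cfsg.Agent.H25.Transfer

set_option autoImplicit false
open Cfsg

namespace Cfsg.Agent.S0089


/-- When all Sylow subgroups are abelian, the derived subgroup meets the centre trivially. -/
theorem result {G : Type*} [Group G] [Finite G] (h : ∀ p : ℕ, p.Prime → ∀ P : Sylow p G, IsMulCommutative P) : commutator G ⊓ Subgroup.center G = ⊥ := by
  by_contra hne
  obtain ⟨⟨z, hz⟩, hz1⟩ := Subgroup.ne_bot_iff_exists_ne_one.1 hne
  rw [Ne, Subgroup.mk_eq_one] at hz1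
  obtain ⟨hzd, hzc⟩ := hz
  obtain ⟨p, hp, hpd⟩ := Nat.exists_prime_and_dvd (fun h1 => hz1 (orderOf_eq_one_iff.mp h1))
  have := Fact.mk hp
  have hord : orderOf (z ^ (orderOf z / p)) = p := orderOf_pow_orderOf_div (orderOf_pos z).ne' hpd
  have hpg : IsPGroup p (Subgroup.zpowers (z ^ (orderOf z / p))) :=
    IsPGroup.of_card (n := 1) (by rw [Nat.card_zpowers, hord, pow_one])
  obtain ⟨P, hP⟩ := hpg.exists_le_sylow
  have h1 := H25.eq_one_of_mem_commutator_of_mem_center (P : Subgroup G) (h p hp P)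
    P.card_coprime_index (hP (Subgroup.mem_zpowers _)) (pow_mem hzc _) (pow_mem hzd _)
  rw [h1, orderOf_one] at hord
  exact hp.ne_one hord.symm

end Cfsg.Agent.S0089
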