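import Cfsg.Statements.S4652
import Cfsg.Agent.BlockBasic.Basic
import Cfsg.Agent.H82.PrincipalBlock

set_option autoImplicit false
open Cfsg

namespace Cfsg.Agent.S4652

/-- Fix a prime p and a maximal ideal M of the algebraic integers containing p. The defect groups of the principal p-block of a finite group G are exactly the Sylow p-subgroups of G: a subgroup D is a defect group of the principal block if and only if D is a Sylow p-subgroup. -/
theorem result {G : Type*} [Group G] [Fintype G] (p : ℕ) [Fact p.Prime] (M : Ideal Cfsg.AlgInt) (hM : Cfsg.IsPModular p M) (D : Subgroup G) : Cfsg.IsDefectGroup p M (Cfsg.principalBlock M G) D ↔ ∃ S : Sylow p G, (S : Subgroup G) = D := by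
  classical
  have hB := BlockBasic.isPBlock_principalBlock (G := G) M
  have hp := (Fact.out : p.Prime)
  constructor
  · rintro ⟨g, hg, P, rfl⟩
    have hidx : ¬ p ∣ (Subgroup.centralizer ({g} : Set G)).index := fun h => by
      apply hg.2.2 (BlockBasic.trivialIrr (G := G)) (BlockBasic.sameBlock_refl hM _)
      rw [show ((BlockBasic.trivialIrr (G := G)) : G → ℂ) = fun _ => 1 from rfl, H82.centralChar_const_one]
      exact (BlockBasic.memLocalIdeal_natCast_iff hM _).mpr h
    refine ⟨Sylow.ofCard _ ?_, Sylow.coe_ofCard _ _⟩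
    rw [Subgroup.card_map_of_injective (Subgroup.subtype_injective _), Sylow.card_eq_multiplicity]
    congr 1
    rw [← (Subgroup.centralizer ({g} : Set G)).card_mul_index, Nat.factorization_mul Nat.card_pos.ne'
      Subgroup.index_ne_zero_of_finite, Finsupp.add_apply,
      Nat.factorization_eq_zero_of_not_dvd hidx, add_zero]
  · rintro ⟨S, rfl⟩
    obtain ⟨g0, hg0⟩ := BlockBasic.exists_isDefectClass hM hB
    have hidx : ¬ p ∣ (Subgroup.centralizer ({g0} : Set G)).index := fun h => by
      apply hg0.2.2 (BlockBasic.trivialIrr (G := G)) (BlockBasic.sameBlock_refl hM _)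
      rw [show ((BlockBasic.trivialIrr (G := G)) : G → ℂ) = fun _ => 1 from rfl, H82.centralChar_const_one]
      exact (BlockBasic.memLocalIdeal_natCast_iff hM _).mpr h
    obtain ⟨S0, hS0⟩ := H82.exists_sylow_le_centralizer (p := p) hidx
    obtain ⟨x, hx⟩ := MulAction.exists_smul_eq G S0 S
    set g := x * g0 * x⁻¹ with hgdef
    have hcl : Cfsg.blockCoeff (Cfsg.principalBlock M G) g = Cfsg.blockCoeff (Cfsg.principalBlock M G) g0 :=
      BlockBasic.isClassFunction_blockCoeff _ g0 x
    have hcc : ∀ χ : Cfsg.IrrCharacter G, Cfsg.centralChar (χ : G → ℂ) g = Cfsg.centralChar (χ : G → ℂ) g0 := by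
      intro χ
      have h1 : (χ : G → ℂ) g = (χ : G → ℂ) g0 := CharBasic.IsIrr.isClassFunction χ.2 g0 x
      have h2 : (Subgroup.centralizer ({g} : Set G)).index =
          (Subgroup.centralizer ({g0} : Set G)).index := by
        rw [← CharBasic.card_conjugates_eq_index, ← CharBasic.card_conjugates_eq_index]
        have hc : IsConj g0 g := isConj_iff.mpr ⟨x, rfl⟩
        exact Nat.card_congr (Equiv.subtypeEquivRight fun y => ⟨hc.trans, hc.symm.trans⟩)
      rw [Cfsg.centralChar, Cfsg.centralChar, h1, h2]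
    have hSle : (S : Subgroup G) ≤ Subgroup.centralizer ({g} : Set G) := by
      rw [← hx]
      rintro _ ⟨y, hy, rfl⟩
      have := Subgroup.mem_centralizer_singleton_iff.mp (hS0 hy)
      rw [Subgroup.mem_centralizer_singleton_iff, hgdef]
      change x * y * x⁻¹ * (x * g0 * x⁻¹) = x * g0 * x⁻¹ * (x * y * x⁻¹)
      calc x * y * x⁻¹ * (x * g0 * x⁻¹) = x * (y * g0) * x⁻¹ := by group
        _ = x * (g0 * y) * x⁻¹ := by rw [this]
        _ = _ := by group
    refine ⟨g, ⟨hcl ▸ hg0.1, hcl ▸ hg0.2.1, fun χ hχ => hcc χ ▸ hg0.2.2 χ hχ⟩, S.subtype hSle, ?_⟩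
    rw [Sylow.coe_subtype, Subgroup.map_subgroupOf_eq_of_le hSle]

end Cfsg.Agent.S4652
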