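import Cfsg.Statements.S4733
import Cfsg.Agent.H83.RegInner
import Mathlib.LinearAlgebra.Dimension.OrzechProperty
import Mathlib.LinearAlgebra.Dimension.Constructions
import Mathlib.RingTheory.OrzechProperty

set_option autoImplicit false
open Cfsg

namespace Cfsg.Agent.S4733

/-- Let p be a prime, M a maximal ideal of the algebraic integers containing p, and B a p-block of the finite group G with k irreducible characters and p-regular rank l (the number of irreducible Brauer characters). Then l ≤ k, and the following are equivalent: B has defect 0; k = l = 1; k = l. -/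
theorem result {G : Type*} [Group G] [Finite G] (p : ℕ) [Fact p.Prime] (M : Ideal Cfsg.AlgInt) (hM : Cfsg.IsPModular p M) (B : Set (Cfsg.IrrCharacter G)) (hB : Cfsg.IsPBlock M B) : Cfsg.blockRank p B ≤ Nat.card B ∧ (Cfsg.blockDefect p B = 0 ↔ (Nat.card B = 1 ∧ Cfsg.blockRank p B = 1)) ∧ (Cfsg.blockDefect p B = 0 ↔ Nat.card B = Cfsg.blockRank p B) := by
  classical
  cases nonempty_fintype G
  have hp : p.Prime := Fact.out
  set f : Cfsg.IrrCharacter G → G → ℂ := fun χ => Cfsg.pRegularPart p (χ : G → ℂ) with hf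
  haveI : Fintype B := Fintype.ofFinite _
  let v : B → G → ℂ := fun χ => f χ.1
  have hrange : Set.range v = f '' B := by
    ext z
    constructor
    · rintro ⟨χ, rfl⟩; exact ⟨χ.1, χ.2, rfl⟩
    · rintro ⟨χ, hχ, rfl⟩; exact ⟨⟨χ, hχ⟩, rfl⟩
  have hrank : Cfsg.blockRank p B = (Set.range v).finrank ℂ := by
    rw [hrange]; rfl
  have hle : Cfsg.blockRank p B ≤ Nat.card B := by
    rw [hrank, Nat.card_eq_fintype_card]
    exact finrank_range_le_card v
  obtain ⟨θ, hθ, h0⟩ := H83.exists_height_zero hM hB
  -- independence forces defect zero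
  have hind : Nat.card B = Cfsg.blockRank p B → Cfsg.blockDefect p B = 0 := by
    intro h
    have hli : LinearIndependent ℂ v := by
      rw [linearIndependent_iff_card_eq_finrank_span, ← hrank, ← h, Nat.card_eq_fintype_card]
    have hzero : ∑ ψ : B, (H83.regInner p θ ψ.1 - if ψ.1 = θ then 1 else 0) • v ψ = 0 := by
      funext x
      simp only [Finset.sum_apply, Pi.smul_apply, smul_eq_mul, Pi.zero_apply, sub_mul,
        Finset.sum_sub_distrib, sub_eq_zero, ite_mul, one_mul, zero_mul]
      conv_rhs => rw [Finset.sum_eq_single (⟨θ, hθ⟩ : B) (fun b _ hb => by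
        rw [if_neg fun e => hb (Subtype.ext e)]) (by simp), if_pos rfl]
      by_cases hx : p ∣ orderOf x
      · simp [v, f, H83.pRegularPart_eq_zero _ hx]
      · simp only [v, f, H83.pRegularPart_eq_self _ hx]
        conv_rhs => rw [← H83.pRegularPart_eq_self (p := p) (θ : G → ℂ) hx,
          H83.pRegularPart_expansion, Finset.sum_apply]
        rw [← Finset.sum_subtype (Finset.univ.filter (· ∈ B)) (fun ψ => by simp)
          (fun ψ : Cfsg.IrrCharacter G => H83.regInner p θ ψ * (ψ : G → ℂ) x), Finset.sum_filter]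
        refine Finset.sum_congr rfl fun ψ _ => ?_
        split_ifs with hψ
        · rfl
        · simp [H83.regInner_eq_zero hM hB hθ hψ]
    have h1 := Fintype.linearIndependent_iff.1 hli _ hzero ⟨θ, hθ⟩
    rw [if_pos rfl, sub_eq_zero] at h1
    have h2 : H83.entry p B θ θ = (p : ℤ) ^ Cfsg.blockDefect p B := by
      have := H83.entry_spec hM hB hθ θ
      rw [h1, mul_one] at this
      exact_mod_cast this
    by_contra hd
    apply H83.not_dvd_entry_of_height_zero hM hB hθ h0 hθ
    rw [h0, h2, zero_add, pow_one]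
    exact dvd_pow_self _ hd
  have hzero : Cfsg.blockDefect p B = 0 → Nat.card B = 1 ∧ Cfsg.blockRank p B = 1 := by
    intro hd
    have hht : ∀ ψ ∈ B, Cfsg.blockHeight p B (ψ : G → ℂ) = 0 := by
      intro ψ hψ
      have h1 := H83.factorization_eq hM hψ
      have h2 := H83.factorization_le_card (p := p) ψ
      have h3 := H83.defect_add_minExp hM hB
      omega
    have hsq := H83.sum_entry_sq hM hB hθ
    rw [hd, pow_zero, one_mul] at hsq
    have honly : ∀ ψ ∈ B, ψ = θ := by
      intro ψ hψ
      by_contra hne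
      have h1 := H83.entry_ne_zero_of_height_zero hM hB hθ h0 hψ
      rw [hht ψ hψ, pow_zero] at h1
      have h2 : H83.entry p B θ θ ^ 2 + H83.entry p B θ ψ ^ 2 ≤ H83.entry p B θ θ := by
        conv_rhs => rw [← hsq]
        rw [← Finset.sum_pair (f := fun φ => H83.entry p B θ φ ^ 2) (Ne.symm hne)]
        exact Finset.sum_le_sum_of_subset_of_nonneg (Finset.subset_univ _)
          fun _ _ _ => sq_nonneg _
      have h3 := sq_abs (H83.entry p B θ ψ)
      nlinarith [H83.entry_self_pos hM hB hθ]
    have hBs : B = {θ} := Set.ext fun ψ => ⟨honly ψ, fun h => by rw [h]; exact hθ⟩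
    have hcard : Nat.card B = 1 := by rw [hBs]; simp
    refine ⟨hcard, le_antisymm (hle.trans hcard.le) ?_⟩
    rw [Nat.one_le_iff_ne_zero, Cfsg.blockRank]
    intro hr
    rw [Submodule.finrank_eq_zero, Submodule.span_eq_bot] at hr
    have : Cfsg.pRegularPart p (θ : G → ℂ) 1 = 0 := congrFun (hr _ ⟨θ, hθ, rfl⟩) 1
    rw [H83.pRegularPart_eq_self _ (by rw [orderOf_one, Nat.dvd_one]; exact hp.ne_one)] at this
    exact CharBasic.IsIrr.one_ne_zero θ.2 this
  exact ⟨hle, ⟨hzero, fun h => hind (h.1.trans h.2.symm)⟩,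
    ⟨fun h => (hzero h).1.trans (hzero h).2.symm, hind⟩⟩

end Cfsg.Agent.S4733
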