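import Cfsg.Statements.S4588
import Cfsg.Agent.S4698
import Cfsg.Agent.S4733
import Cfsg.Agent.S4652
import Cfsg.Agent.H24.BlockRankOne
import Cfsg.Agent.Cores.ThirdMain
import Cfsg.Agent.BlockBasic.Brauer

set_option autoImplicit false
set_option linter.style.haveILetI false
open Cfsg

namespace Cfsg.Agent.S4588

open Polynomial

universe u

variable {G : Type u} [Group G] [Fintype G] {p : ℕ} [hp : Fact p.Prime] {M : Ideal Cfsg.AlgInt}

omit [Fintype G] hp in
theorem minExp_principal [Finite G] (hM : Cfsg.IsPModular p M) :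
    H83.minExp p (Cfsg.principalBlock M G) = 0 := by
  have h := H83.minExp_le (p := p) (B := Cfsg.principalBlock M G)
    (χ := BlockBasic.trivialIrr) (BlockBasic.sameBlock_refl hM _)
  have h1 : Cfsg.charDegree ((BlockBasic.trivialIrr (G := G)) : G → ℂ) = 1 := by
    have := BlockBasic.apply_one_eq_charDegree (BlockBasic.trivialIrr (G := G))
    rw [show ((BlockBasic.trivialIrr (G := G)) : G → ℂ) 1 = 1 from rfl] at this
    exact_mod_cast this.symm
  rw [h1, Nat.factorization_one] at h
  simpa using h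

theorem defect_principal (hM : Cfsg.IsPModular p M) :
    Cfsg.blockDefect p (Cfsg.principalBlock M G) = (Nat.card G).factorization p := by
  have h := H83.defect_add_minExp hM (BlockBasic.isPBlock_principalBlock (G := G) M)
  rwa [minExp_principal hM, add_zero] at h

omit hp in
open scoped Classical in
theorem inducedBlockDefined_centralizer [Fact p.Prime] (hM : Cfsg.IsPModular p M) {x : G} {k : ℕ}
    (hx : orderOf x = p ^ k) {b : Set (Cfsg.IrrCharacter ↥(Subgroup.centralizer ({x} : Set G)))}
    (hb : Cfsg.IsPBlock M b) : Cfsg.InducedBlockDefined M (Subgroup.centralizer ({x} : Set G)) b := by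
  refine BlockBasic.inducedBlockDefined hM (P := Subgroup.zpowers x)
    (IsPGroup.of_card (Nat.card_zpowers x ▸ hx)) ?_ ?_ ?_ hb
  · exact Subgroup.zpowers_le.2 (Subgroup.mem_centralizer_singleton_iff.2 rfl)
  · intro g hg
    exact Subgroup.mem_centralizer_singleton_iff.2
      ((Subgroup.mem_centralizer_iff.1 hg x (Subgroup.mem_zpowers x)).symm)
  · intro g hg
    refine Subgroup.mem_normalizer_iff.2 fun h => ?_
    have hc : Commute g x := Subgroup.mem_centralizer_singleton_iff.1 hg
    constructor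
    · rintro ⟨j, rfl⟩
      exact ⟨j, by simp only [(hc.zpow_right j).eq, mul_inv_cancel_right]⟩
    · rintro ⟨j, hj⟩
      refine ⟨j, ?_⟩
      calc x ^ j = g⁻¹ * (g * h * g⁻¹) * g := by rw [← hj]; rw [mul_assoc, ← (hc.zpow_right j).eq, inv_mul_cancel_left]
        _ = h := by group

open scoped Classical in
theorem main (hM : Cfsg.IsPModular p M) {x : G} {k : ℕ} (hx : orderOf x = p ^ k)
    (hv : (Nat.card (Subgroup.centralizer ({x} : Set G))).factorization p ≤ 2) :
    (Finset.univ.filter fun χ : Cfsg.IrrCharacter G => χ ∈ Cfsg.principalBlock M G ∧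
      Cfsg.blockHeight p (Cfsg.principalBlock M G) (χ : G → ℂ) = 0).card ≤ p ^ 2 := by
  set K₀ := (Finset.univ.filter fun χ : Cfsg.IrrCharacter G => χ ∈ Cfsg.principalBlock M G ∧
      Cfsg.blockHeight p (Cfsg.principalBlock M G) (χ : G → ℂ) = 0) with hK₀
  have hB := BlockBasic.isPBlock_principalBlock (G := G) M
  have hp1 : 1 ≤ p := hp.out.one_le
  rcases Nat.eq_zero_or_pos k with hk | hk
  · -- the trivial element
    have hG : (Nat.card G).factorization p ≤ 2 := by
      have htop : Subgroup.centralizer ({x} : Set G) = ⊤ := by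
        rw [hk, pow_zero, orderOf_eq_one_iff] at hx
        exact top_le_iff.1 fun g _ => Subgroup.mem_centralizer_singleton_iff.2 (by simp [hx])
      rwa [htop, Subgroup.card_top] at hv
    rw [← defect_principal hM] at hG
    refine le_trans ?_ (le_trans ((S4698.main hM _ G _ hB rfl).1 hG)
      (Nat.pow_le_pow_right hp1 hG))
    rw [Nat.card_eq_fintype_card, Fintype.card_subtype]
    exact Finset.card_le_card fun χ hχ => Finset.mem_filter.2
      ⟨Finset.mem_univ _, (Finset.mem_filter.1 hχ).2.1⟩
  set b := Cfsg.principalBlock M ↥(Subgroup.centralizer ({x} : Set G)) with hbdef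
  have hb : Cfsg.IsPBlock M b := BlockBasic.isPBlock_principalBlock M
  obtain ⟨B', hB'⟩ := inducedBlockDefined_centralizer hM hx hb
  have hind : Cfsg.IsInducedBlock M (Subgroup.centralizer ({x} : Set G)) b (Cfsg.principalBlock M G) :=
    (Cores.third_main hM hB').2 rfl ▸ hB'
  haveI : Fintype ↥(Subgroup.centralizer ({x} : Set G)) := Fintype.ofFinite _
  have hbd : Cfsg.blockDefect p b = (Nat.card (Subgroup.centralizer ({x} : Set G))).factorization p :=
    defect_principal hM
  set xC : ↥(Subgroup.centralizer ({x} : Set G)) := ⟨x, Subgroup.mem_centralizer_singleton_iff.2 rfl⟩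
  have hxC : xC ∈ Subgroup.center ↥(Subgroup.centralizer ({x} : Set G)) :=
    Subgroup.mem_center_iff.2 fun c => Subtype.ext (H83.mem_centralizer_comm c).symm
  have hxCo : orderOf xC = p ^ k := by rw [← Subgroup.orderOf_coe]; exact hx
  have hkle : k ≤ Cfsg.blockDefect p b := by
    rw [hbd]
    refine (hp.out.pow_dvd_iff_le_factorization Nat.card_pos.ne').1 ?_
    rw [← hxCo]
    exact orderOf_dvd_natCard _
  rcases eq_or_lt_of_le hkle with hkd | hkd
  · -- the Sylow subgroup is generated by `x`
    have hl : Cfsg.blockRank p b = 1 := by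
      let S : Sylow p ↥(Subgroup.centralizer ({x} : Set G)) := Sylow.ofCard (Subgroup.zpowers xC)
        (by rw [Nat.card_zpowers, hxCo, hkd, hbd])
      exact H24.BlockRankOne.rank_eq_one_of_central hM hb
        ((S4652.result p M hM _).2 ⟨S, rfl⟩) (Subgroup.zpowers_le.2 hxC)
    have h := H83.sq_card_height_zero_le hM hx _ rfl hind
    rw [hl, mul_one, mul_comm 2 _, pow_mul] at h
    exact ((Nat.pow_le_pow_iff_left two_ne_zero).1 h).trans (Nat.pow_le_pow_right hp1 (hbd ▸ hv))
  -- an element of order `p` and defect two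
  obtain rfl : k = 1 := by omega
  have hd2 : Cfsg.blockDefect p b = 2 := by omega
  rw [pow_one] at hxCo
  obtain ⟨ζ, e, hζ, hsymm, hproj, htrace, hcongr, hT⟩ := H83.exists_contrib hM hx _ rfl hind
  simp only [pow_one] at hζ hsymm hproj htrace hcongr
  haveI : NeZero p := ⟨hp.out.ne_zero⟩
  have hhb : ∀ ψ ∈ b, Cfsg.blockHeight p b
      (ψ : ↥(Subgroup.centralizer ({x} : Set G)) → ℂ) = 0 := fun ψ hψ => by
    have := (S4710.result p M hM b hb _ rfl).2 ψ hψ
    have := this.2 hd2.ge
    omega
  set Bf := Finset.univ.filter (fun χ : Cfsg.IrrCharacter G => χ ∈ Cfsg.principalBlock M G) with hBf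
  set l := Cfsg.blockRank p b
  set S := primitiveRoots p ℂ with hS
  have hScard : (S.card : ℝ) = (p : ℝ) - 1 := by
    rw [hS, hζ.card_primitiveRoots, Nat.totient_prime hp.out, Nat.cast_sub hp.out.one_le, Nat.cast_one]
  have hlow : ∀ χ ∈ K₀, ((p : ℝ) - 1) * (l : ℝ) ≤
      ∑ η ∈ S, (aeval η (H83.contribPoly p p b e χ χ)).re := by
    intro χ hχ
    obtain ⟨-, hχB, hχ0⟩ := Finset.mem_filter.1 hχ
    refine S4698.diag_ge hM hxC hxCo hb (Or.inr hd2) hhb hζ e χ fun h0 => ?_
    have h := hcongr χ χ
    rw [h0, zero_sub] at h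
    have h' := BlockBasic.memLocalIdeal_neg h
    rw [neg_neg] at h'
    exact hT χ hχB hχ0 χ hχB hχ0 ((BlockBasic.memLocalIdeal_intCast_iff hM _).1 h')
  have hK : K₀ ⊆ Bf := fun χ hχ =>
    Finset.mem_filter.2 ⟨Finset.mem_univ _, (Finset.mem_filter.1 hχ).2.1⟩
  have hup : ∑ χ ∈ K₀, ∑ η ∈ S, (aeval η (H83.contribPoly p p b e χ χ)).re ≤
      ((p : ℝ) - 1) * ((p : ℝ) ^ Cfsg.blockDefect p b * (l : ℝ)) := by
    have hc := fun η hη => H83.contrib_conjugates hζ ((mem_primitiveRoots hp.out.pos).1
      (show η ∈ S from hη)) Bf hsymm hproj htrace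
    refine le_trans (Finset.sum_le_sum_of_subset_of_nonneg hK fun χ _ _ =>
      Finset.sum_nonneg fun η hη => (hc η hη).2.2 χ) (le_of_eq ?_)
    rw [Finset.sum_comm, Finset.sum_congr rfl fun η hη => (hc η hη).2.1,
      Finset.sum_const, nsmul_eq_mul, hScard]
  have h := le_trans (Finset.sum_le_sum hlow) hup
  rw [Finset.sum_const, nsmul_eq_mul, hd2] at h
  have hp1' : (0 : ℝ) < (p : ℝ) - 1 := by
    rw [sub_pos]
    exact_mod_cast hp.out.one_lt
  have hl : (0 : ℝ) < (l : ℝ) := by exact_mod_cast H83.blockRank_pos hM hb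
  have h2 : (K₀.card : ℝ) ≤ ((p ^ 2 : ℕ) : ℝ) := by
    push_cast
    exact le_of_mul_le_mul_right (by linarith) (mul_pos hp1' hl)
  exact_mod_cast h2

/-- Let G be a finite group, p a prime and M a maximal ideal of the algebraic integers containing p. If some p-element x of G (possibly x = 1) has centralizer whose order has p-part at most p², then the principal p-block of G contains at most p² irreducible characters of degree prime to p. -/
theorem result {G : Type*} [Group G] [Finite G] (p : ℕ) [Fact p.Prime] (M : Ideal Cfsg.AlgInt) (hM : Cfsg.IsPModular p M)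
    (hx : ∃ x : G, (∃ k : ℕ, orderOf x = p ^ k) ∧ (Nat.card (Subgroup.centralizer ({x} : Set G))).factorization p ≤ 2) :
    Nat.card {χ : Cfsg.IrrCharacter G // χ ∈ Cfsg.principalBlock M G ∧ ¬ p ∣ Cfsg.charDegree (χ : G → ℂ)} ≤ p ^ 2 := by
  classical
  cases nonempty_fintype G
  obtain ⟨x, ⟨k, hk⟩, hv⟩ := hx
  refine le_trans (le_of_eq ?_) (main hM hk hv)
  rw [Nat.card_eq_fintype_card, Fintype.card_subtype]
  congr 1
  refine Finset.filter_congr fun χ _ => and_congr_right fun hχ => ?_
  have h := H83.factorization_eq hM hχ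
  rw [minExp_principal hM, zero_add] at h
  rw [← h, Nat.factorization_eq_zero_iff]
  have := BlockBasic.charDegree_pos χ
  constructor
  · exact fun hnd => Or.inr (Or.inl hnd)
  · rintro (h | h | h)
    · exact absurd Fact.out h
    · exact h
    · omega

end Cfsg.Agent.S4588
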