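import Cfsg.Statements.S4700
import Cfsg.Agent.H86.FewSylowReduce
import Cfsg.Agent.H86.FewSylowZassenhaus
import Cfsg.Agent.H86.FewSylowExceptional

set_option autoImplicit false
set_option linter.style.haveILetI false
open Cfsg

namespace Cfsg.Agent.S4700

/-- Over a field of even order `PSL₂` is `SL₂`. -/
theorem nonempty_sl {G : Type*} [Group G] {F : Type} [Field F] [Fintype F] {m : ℕ} (hm : m ≠ 0)
    (hF : Fintype.card F = 2 ^ m)
    (h : Nonempty (G ≃* Matrix.ProjectiveSpecialLinearGroup (Fin 2) F)) :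
    Nonempty (G ≃* Matrix.SpecialLinearGroup (Fin 2) F) := by
  classical
  obtain ⟨e⟩ := h
  have hc : Nat.card (Subgroup.center (Matrix.SpecialLinearGroup (Fin 2) F)) = 1 := by
    rw [Linear.card_center_SL, Fintype.card_fin, hF]
    refine Nat.prime_two.coprime_iff_not_dvd.2 ?_
    have h1 : 2 ∣ 2 ^ m := dvd_pow_self 2 hm
    have h2 : 1 ≤ 2 ^ m := Nat.one_le_pow _ _ two_pos
    omega
  have hbij : Function.Bijective
      (QuotientGroup.mk' (Subgroup.center (Matrix.SpecialLinearGroup (Fin 2) F))) := by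
    refine ⟨(MonoidHom.ker_eq_bot_iff _).1 ?_, QuotientGroup.mk'_surjective _⟩
    rw [QuotientGroup.ker_mk']
    exact Subgroup.card_eq_one.1 hc
  exact ⟨e.trans (MulEquiv.ofBijective _ hbij).symm⟩

/-- Let G be a finite perfect group and p a prime such that a Sylow p-subgroup of G has order p, and write the number of Sylow p-subgroups as 1 + np. Let H = O_p'(G). Then either p > 3 and G/H is isomorphic to PSL(2, p); or p = 2^m + 1 > 3 and G/H is isomorphic to SL(2, 2^m); or n = (hup + u^2 + u + h)/(u + 1) for some positive integers h and u. -/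
theorem result {G : Type*} [Group G] [Finite G] (hperf : commutator G = ⊤) (p : ℕ) [Fact p.Prime] (P : Sylow p G) (hP : Nat.card P = p) (n : ℕ) (hn : Nat.card (Sylow p G) = 1 + n * p) : (∃ (F : Type) (_ : Field F) (_ : Fintype F), Fintype.card F = p ∧ 3 < p ∧ Nonempty (G ⧸ Cfsg.pPrimeCore p G ≃* Matrix.ProjectiveSpecialLinearGroup (Fin 2) F)) ∨ (∃ (m : ℕ) (F : Type) (_ : Field F) (_ : Fintype F), Fintype.card F = 2 ^ m ∧ p = 2 ^ m + 1 ∧ 3 < p ∧ Nonempty (G ⧸ Cfsg.pPrimeCore p G ≃* Matrix.SpecialLinearGroup (Fin 2) F)) ∨ (∃ h u : ℕ, 0 < h ∧ 0 < u ∧ n * (u + 1) = h * u * p + u ^ 2 + u + h) := by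
  classical
  by_cases hrep : H86.FewSylowArith.Rep p n
  · exact Or.inr (Or.inr hrep)
  cases nonempty_fintype G
  haveI : Fintype (G ⧸ pPrimeCore p G) := Fintype.ofFinite _
  obtain ⟨hperf', Q, hQ, hnQ⟩ := H86.FewSylowReduce.quotient_data hperf P hP (pPrimeCore p G)
    Cores.coprime_card_pPrimeCore hn hrep
  have hC := H86.FewSylowReduce.centralizer_eq hperf' Q hQ Cores.pPrimeCore_quotient_pPrimeCore hnQ
    hrep
  obtain ⟨S, -⟩ := H86.FewSylow.exists_sc Q hQ hC
  have hnn : H86.FewSylow.nn S = n := by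
    have h := H86.FewSylow.card_sylow_eq S
    rw [hnQ] at h
    exact Nat.eq_of_mul_eq_mul_right (Fact.out : p.Prime).pos (by omega)
  obtain ⟨D⟩ := H86.FewSylow.exists_data S hperf' (hnn.symm ▸ hrep)
  rcases D.cases with h | ⟨h, -, ht⟩
  · exact Or.inl (D.exists_psl_odd h)
  · obtain ⟨m, F, i1, i2, hF, hpm, h3, hiso⟩ := D.exists_psl_even h ht
    exact Or.inr (Or.inl ⟨m, F, i1, i2, hF, hpm, h3, nonempty_sl
      (by rintro rfl; rw [pow_zero] at hpm; omega) hF hiso⟩)

end Cfsg.Agent.S4700
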