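import Cfsg.Statements.S0286
import Cfsg.Agent.Orthogonal.StdForms
-- import your own Cfsg.Agent.* helpers here

set_option autoImplicit false
open Cfsg

namespace Cfsg.Agent.S0286

/-- |GO_{2m+1}(q)| = 2 q^(m^2) prod_{i=1}^{m} (q^(2i) - 1) for q odd. -/
theorem result {F : Type*} [Field F] [Fintype F] {q : ℕ} (hF : Fintype.card F = q) (hodd : Odd q) (m : ℕ) : Nat.card (Cfsg.isometryGroup F (Cfsg.quadFormOdd m F)) = 2 * q ^ (m ^ 2) * ∏ i ∈ Finset.range m, (q ^ (2 * (i + 1)) - 1) := by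
  have h2 : (2 : F) ≠ 0 := fun h2 => by
    have : CharP F 2 := CharTwo.of_one_ne_zero_of_two_eq_zero one_ne_zero h2
    have := (FiniteField.even_card_iff_char_two (F := F)).1 (ringChar.eq F 2)
    obtain ⟨r, hr⟩ := hodd
    omega
  rw [← hF, ← Nat.card_eq_fintype_card, ← Orthogonal.formOdd_coe, Orthogonal.card_isometryGroup]
  exact Orthogonal.card_O_odd m _ (Orthogonal.formOdd_nondeg F m h2) (Orthogonal.formOdd_frame F m)
    (Orthogonal.formOdd_aniso F m) (Orthogonal.finrank_formOdd F m)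

end Cfsg.Agent.S0286
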