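import Cfsg.Statements.S5896
-- import your own Cfsg.Agent.* helpers here

set_option autoImplicit false
open Cfsg

namespace Cfsg.Agent.S5896


open scoped commutatorElement

theorem derivedSeries_commutator_sub {W : Type*} [Group W] (k : ℕ) :
    (derivedSeries (commutator W) k).map (commutator W).subtype = derivedSeries W (k + 1) := by
  induction k with
  | zero => rw [derivedSeries_zero, ← MonoidHom.range_eq_map, Subgroup.range_subtype, derivedSeries_one]
  | succ k ih => rw [derivedSeries_succ, Subgroup.map_commutator, ih, ← derivedSeries_succ]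

theorem derived_ne_bot_of_surjective {A B : Type*} [Group A] [Group B] (f : A →* B)
    (hf : Function.Surjective f) (k : ℕ) (h : derivedSeries B k ≠ ⊥) : derivedSeries A k ≠ ⊥ := by
  intro hA
  apply h
  rw [← map_derivedSeries_eq hf k, hA, Subgroup.map_bot]

theorem derived_ne_bot_of_injective {A B : Type*} [Group A] [Group B] (f : A →* B)
    (hf : Function.Injective f) (k : ℕ) (h : derivedSeries A k ≠ ⊥) : derivedSeries B k ≠ ⊥ := by
  intro hB
  apply h
  have := map_derivedSeries_le_derivedSeries f k
  rw [hB, le_bot_iff] at this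
  exact (Subgroup.map_eq_bot_iff_of_injective _ hf).1 this

theorem exists_solvable (d : ℕ) :
    ∃ (S : Type) (_ : Group S) (_ : Finite S), Group.IsSolvable S ∧ derivedSeries S d ≠ ⊥ := by
  induction d with
  | zero =>
    refine ⟨Multiplicative (ZMod 2), inferInstance, inferInstance, inferInstance, ?_⟩
    rw [derivedSeries_zero]
    exact top_ne_bot
  | succ d ih =>
    obtain ⟨S, _, _, hS, hd⟩ := ih
    refine ⟨S ≀ᵣ Multiplicative (ZMod 2), inferInstance, inferInstance, ?_, ?_⟩
    · let r : S ≀ᵣ Multiplicative (ZMod 2) →* Multiplicative (ZMod 2) := RegularWreathProduct.rightHom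
      let f : (S × S) →* S ≀ᵣ Multiplicative (ZMod 2) :=
        { toFun := fun p => ⟨fun q => if q = 1 then p.1 else p.2, 1⟩
          map_one' := by ext <;> simp
          map_mul' := fun p q => by
            apply RegularWreathProduct.ext
            · funext z
              by_cases hz : z = 1 <;> simp [hz]
            · exact (mul_one 1).symm }
      have hker : r.ker ≤ f.range := by
        intro x hx
        have hx' : x.right = 1 := hx
        refine ⟨(x.left 1, x.left (Multiplicative.ofAdd 1)), ?_⟩
        ext q
        · show (if q = 1 then x.left 1 else _) = x.left q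
          obtain ⟨z, rfl⟩ : ∃ z, Multiplicative.ofAdd z = q := ⟨Multiplicative.toAdd q, rfl⟩
          fin_cases z
          · exact if_pos rfl
          · exact if_neg (by decide)
        · exact hx'.symm
      exact Group.isSolvable_of_ker_le_range f r hker
    · intro h
      let t : Multiplicative (ZMod 2) := Multiplicative.ofAdd 1
      let E : Subgroup (commutator (S ≀ᵣ Multiplicative (ZMod 2))) :=
        (RegularWreathProduct.rightHom.comp (commutator _).subtype).ker
      let φ : E →* S :=
        { toFun := fun x => x.1.1.left 1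
          map_one' := rfl
          map_mul' := fun x y => by
            have hx : x.1.1.right = 1 := x.2
            simp [hx] }
      have hφ : Function.Surjective φ := by
        intro s
        let u : S ≀ᵣ Multiplicative (ZMod 2) := ⟨Pi.mulSingle 1 s, 1⟩
        let T : S ≀ᵣ Multiplicative (ZMod 2) := RegularWreathProduct.inl t
        have hm : ⁅u, T⁆ ∈ commutator (S ≀ᵣ Multiplicative (ZMod 2)) :=
          Subgroup.commutator_mem_commutator (Subgroup.mem_top _) (Subgroup.mem_top _)
        refine ⟨⟨⟨⁅u, T⁆, hm⟩, ?_⟩, ?_⟩
        · show (⁅u, T⁆).right = 1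
          simp [commutatorElement_def, u, T]
        · show (⁅u, T⁆).left 1 = s
          have ht : t ≠ 1 := by decide
          simp [commutatorElement_def, u, T, Pi.mulSingle_apply, ht]
      have h1 := derived_ne_bot_of_injective E.subtype E.subtype_injective d
        (derived_ne_bot_of_surjective φ hφ d hd)
      apply h1
      rw [← Subgroup.map_eq_bot_iff_of_injective _ (Subgroup.subtype_injective (commutator _)),
        derivedSeries_commutator_sub, h]

theorem isSolvable_perm_four : Group.IsSolvable (Equiv.Perm (Fin 4)) := by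
  let V : Subgroup (Equiv.Perm (Fin 4)) :=
    { carrier := {g | Equiv.Perm.sign g = 1 ∧ g * g = 1}
      one_mem' := by simp
      mul_mem' := by
        intro a b ha hb
        revert a b
        simp only [Set.mem_setOf_eq]
        decide +kernel
      inv_mem' := by
        intro a ha
        revert a
        simp only [Set.mem_setOf_eq]
        decide +kernel }
  refine ⟨⟨3, ?_⟩⟩
  have h1 : derivedSeries (Equiv.Perm (Fin 4)) 1 ≤ alternatingGroup (Fin 4) := by
    rw [derivedSeries_one, commutator_def, Subgroup.commutator_le]
    intro a _ b _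
    rw [Equiv.Perm.mem_alternatingGroup]
    simp [commutatorElement_def, mul_comm, mul_left_comm]
  have h2 : derivedSeries (Equiv.Perm (Fin 4)) 2 ≤ V := by
    rw [derivedSeries_succ]
    refine (Subgroup.commutator_mono h1 h1).trans ?_
    rw [Subgroup.commutator_le]
    show ∀ a ∈ alternatingGroup (Fin 4), ∀ b ∈ alternatingGroup (Fin 4),
      Equiv.Perm.sign ⁅a, b⁆ = 1 ∧ ⁅a, b⁆ * ⁅a, b⁆ = 1
    simp only [Equiv.Perm.mem_alternatingGroup, commutatorElement_def]
    decide +kernel
  rw [derivedSeries_succ, eq_bot_iff]
  refine (Subgroup.commutator_mono h2 h2).trans ?_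
  rw [Subgroup.commutator_le]
  intro a ha b hb
  rw [Subgroup.mem_bot, commutatorElement_def]
  change Equiv.Perm.sign a = 1 ∧ a * a = 1 at ha
  change Equiv.Perm.sign b = 1 ∧ b * b = 1 at hb
  revert a b
  decide +kernel

theorem exists_delta_perm : ∀ i j k : Fin 5, i ≠ j → i ≠ k → j ≠ k →
    ∃ σ : Equiv.Perm (Fin 5), Equiv.Perm.sign σ = 1 ∧ σ i = i ∧ σ j = k := by
  decide +kernel

theorem exists_third : ∀ j k : Fin 5, j ≠ k → ∃ i, i ≠ j ∧ i ≠ k := by decide

/-- Finite perfect groups have solvable maximal subgroups of unbounded derived length: for every d there is a finite perfect group G (equal to its commutator subgroup) with a solvable maximal subgroup H whose derived length exceeds d, i.e. the d-th term of the derived series of H is non-trivial. (Take the derived subgroup of a wreath product S ≀ A₅ with S solvable of large derived length, and H the preimage of a maximal subgroup of A₅.) -/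
theorem result (d : ℕ) :
    ∃ (G : Type) (_ : Group G) (_ : Finite G) (H : Subgroup G), commutator G = ⊤ ∧ IsCoatom H ∧ Group.IsSolvable H ∧
      derivedSeries H d ≠ ⊥ := by
  classical
  obtain ⟨S, _, _, hS, hSd⟩ := exists_solvable d
  let A := alternatingGroup (Fin 5)
  let act : A →* MulAut (Fin 5 → S) :=
    { toFun := fun σ =>
        { toFun := fun f x => f ((σ : Equiv.Perm (Fin 5)).symm x)
          invFun := fun f x => f ((σ : Equiv.Perm (Fin 5)) x)
          left_inv := fun f => funext fun x => by simp
          right_inv := fun f => funext fun x => by simp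
          map_mul' := fun f g => rfl }
      map_one' := MulEquiv.ext fun f => rfl
      map_mul' := fun a b => MulEquiv.ext fun f => rfl }
  let W := (Fin 5 → S) ⋊[act] A
  have : Finite W := Finite.of_equiv _ SemidirectProduct.equivProd.symm
  let δ : Fin 5 → Fin 5 → S → (Fin 5 → S) := fun i j s => Pi.mulSingle i s * Pi.mulSingle j s⁻¹
  let gens : Set W := Set.range (SemidirectProduct.inr (φ := act)) ∪
    {w | ∃ i j s, i ≠ j ∧ w = SemidirectProduct.inl (δ i j s)}
  let G : Subgroup W := Subgroup.closure gens
  have hr : ∀ σ : A, SemidirectProduct.inr (φ := act) σ ∈ G := fun σ =>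
    Subgroup.subset_closure (Or.inl ⟨σ, rfl⟩)
  have hl : ∀ i j, i ≠ j → ∀ s, SemidirectProduct.inl (φ := act) (δ i j s) ∈ G := fun i j h s =>
    Subgroup.subset_closure (Or.inr ⟨i, j, s, h, rfl⟩)
  let π : G →* A := (SemidirectProduct.rightHom : W →* A).comp G.subtype
  have hπ : Function.Surjective π := fun σ => ⟨⟨_, hr σ⟩, SemidirectProduct.rightHom_inr (φ := act) σ⟩
  have hperf : commutator G = ⊤ := by
    set C := (commutator G).map G.subtype with hC
    suffices h : gens ⊆ C by
      apply Subgroup.map_injective G.subtype_injective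
      rw [← MonoidHom.range_eq_map, Subgroup.range_subtype]
      exact le_antisymm (Subgroup.map_subtype_le _) ((Subgroup.closure_le _).2 h)
    have hcm : ∀ a ∈ G, ∀ b ∈ G, ⁅a, b⁆ ∈ C := fun a ha b hb =>
      ⟨⁅(⟨a, ha⟩ : G), ⟨b, hb⟩⁆, Subgroup.commutator_mem_commutator (Subgroup.mem_top _) (Subgroup.mem_top _), rfl⟩
    rintro w (⟨σ, rfl⟩ | ⟨j, k, s, hjk, rfl⟩)
    · have : σ ∈ commutator A := by
        have hA : commutator A = ⊤ := (IsSimpleGroup.eq_bot_or_eq_top_of_normal (commutator A) inferInstance).resolve_left fun h => by
          let a : A := ⟨Equiv.swap 0 1 * Equiv.swap 1 2, Equiv.Perm.mem_alternatingGroup.2 (by decide)⟩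
          let b : A := ⟨Equiv.swap 2 3 * Equiv.swap 3 4, Equiv.Perm.mem_alternatingGroup.2 (by decide)⟩
          have hab : ⁅a, b⁆ ∈ commutator A := Subgroup.commutator_mem_commutator (Subgroup.mem_top _) (Subgroup.mem_top _)
          rw [h, Subgroup.mem_bot, commutatorElement_eq_one_iff_mul_comm] at hab
          exact absurd (congrArg Subtype.val hab) (by decide)
        rw [hA]; exact Subgroup.mem_top _
      have h1 : commutator A ≤ Subgroup.comap (SemidirectProduct.inr (φ := act)) C := by
        rw [commutator_def, Subgroup.commutator_le]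
        intro a _ b _
        rw [Subgroup.mem_comap, map_commutatorElement]
        exact hcm _ (hr a) _ (hr b)
      exact h1 this
    · obtain ⟨i, hij, hik⟩ := exists_third j k hjk
      obtain ⟨σ, hσ, hσi, hσj⟩ := exists_delta_perm i j k hij hik hjk
      have hm := hcm _ (hr ⟨σ, Equiv.Perm.mem_alternatingGroup.2 hσ⟩) _ (hl i j hij s)
      suffices e : SemidirectProduct.inl (δ j k s) = ⁅SemidirectProduct.inr (φ := act) ⟨σ, Equiv.Perm.mem_alternatingGroup.2 hσ⟩,
          SemidirectProduct.inl (δ i j s)⁆ by rw [e]; exact hm
      rw [commutatorElement_def, ← map_inv (SemidirectProduct.inr (φ := act)), ← SemidirectProduct.inl_aut,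
        ← map_inv (SemidirectProduct.inl (φ := act)), ← map_mul]
      congr 1
      funext x
      show δ j k s x = δ i j s (σ.symm x) * (δ i j s x)⁻¹
      have e1 : σ.symm i = i := by rw [Equiv.symm_apply_eq]; exact hσi.symm
      have e2 : ∀ y, σ.symm y = i ↔ y = i := fun y => by rw [Equiv.symm_apply_eq, hσi]
      have e3 : ∀ y, σ.symm y = j ↔ y = k := fun y => by rw [Equiv.symm_apply_eq, hσj]
      simp only [δ, Pi.mul_apply, Pi.mulSingle_apply, e2, e3]
      rcases eq_or_ne x i with rfl | h1
      · simp [hij, hik]
      rcases eq_or_ne x j with rfl | h2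
      · simp [Ne.symm hij, hjk]
      rcases eq_or_ne x k with rfl | h3
      · simp [Ne.symm hik, Ne.symm hjk]
      · simp [h1, h2, h3]
  -- the subgroup
  let M : Subgroup A := MulAction.stabilizer A (0 : Fin 5)
  have hMco : IsCoatom M := by
    have : MulAction.IsPreprimitive A (Fin 5) := alternatingGroup.isPreprimitive_of_three_le_card (Fin 5) (by simp)
    exact (MulAction.isCoatom_stabilizer_iff_preprimitive A (0 : Fin 5)).2 this
  refine ⟨G, inferInstance, inferInstance, M.comap π, hperf, ?_, ?_, ?_⟩
  · refine ⟨fun h => hMco.1 ?_, fun X hX => ?_⟩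
    · rw [← Subgroup.map_comap_eq_self_of_surjective hπ M, h, Subgroup.map_top_of_surjective _ hπ]
    · have hker : π.ker ≤ X := (Subgroup.ker_le_comap π M).trans hX.le
      have hlt : M < X.map π := by
        refine lt_of_le_of_ne ?_ fun he => ?_
        · rw [← Subgroup.map_comap_eq_self_of_surjective hπ M]
          exact Subgroup.map_mono hX.le
        · rw [he, Subgroup.comap_map_eq_self hker] at hX
          exact lt_irrefl _ hX
      rw [← Subgroup.comap_map_eq_self hker, hMco.2 _ hlt, Subgroup.comap_top]
  · have hM4 : Group.IsSolvable M := by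
      let f : M →* Equiv.Perm {x : Fin 5 // x ≠ 0} :=
        { toFun := fun m => (m.1.1 : Equiv.Perm (Fin 5)).subtypePerm (fun x => by
            have h0 : (m.1.1 : Equiv.Perm (Fin 5)) 0 = 0 := m.2
            refine not_congr ⟨fun h => m.1.1.injective (h.trans h0.symm), fun h => h ▸ h0⟩)
          map_one' := Equiv.ext fun x => rfl
          map_mul' := fun a b => Equiv.ext fun x => rfl }
      let e : {x : Fin 5 // x ≠ 0} ≃ Fin 4 := Fintype.equivFinOfCardEq (by decide)
      have := isSolvable_perm_four
      refine Group.isSolvable_of_isSolvable_injective (f := e.permCongrHom.toMonoidHom.comp f)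
        (e.permCongrHom.injective.comp fun a b hab => Subtype.ext (Subtype.ext (Equiv.ext fun x => ?_)))
      rcases eq_or_ne x 0 with rfl | hx
      · exact a.2.trans b.2.symm
      · exact congrArg Subtype.val (Equiv.ext_iff.1 hab ⟨x, hx⟩)
    let g : M.comap π →* M := (π.comp (M.comap π).subtype).codRestrict M fun x => x.2
    let f : g.ker →* (Fin 5 → S) :=
      { toFun := fun x => x.1.1.1.left
        map_one' := rfl
        map_mul' := fun x y => by
          have hx : x.1.1.1.right = 1 := congrArg Subtype.val (x.2 : g x.1 = 1)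
          show (x.1.1.1 * y.1.1.1).left = _
          rw [SemidirectProduct.mul_left, hx, map_one]
          rfl }
    have hf : Function.Injective f := fun a b hab => by
      have ha : a.1.1.1.right = 1 := congrArg Subtype.val (a.2 : g a.1 = 1)
      have hb : b.1.1.1.right = 1 := congrArg Subtype.val (b.2 : g b.1 = 1)
      exact Subtype.ext (Subtype.ext (Subtype.ext (SemidirectProduct.ext hab (ha.trans hb.symm))))
    have := hS
    have hpi : Group.IsSolvable (Fin 5 → S) := by
      obtain ⟨⟨k, hk⟩⟩ := hS
      refine ⟨⟨k, eq_bot_iff.2 fun x hx => Subgroup.mem_bot.2 (funext fun i => ?_)⟩⟩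
      have h1 := map_derivedSeries_le_derivedSeries (Pi.evalMonoidHom (fun _ : Fin 5 => S) i) k ⟨x, hx, rfl⟩
      rw [hk] at h1
      exact h1
    have hk : Group.IsSolvable g.ker := Group.isSolvable_of_isSolvable_injective hf
    exact Group.isSolvable_of_ker_le_range g.ker.subtype g (by rw [Subgroup.range_subtype])
  · let K : Subgroup (M.comap π) := (π.comp (M.comap π).subtype).ker
    let φ : K →* S :=
      { toFun := fun x => x.1.1.1.left 0
        map_one' := rfl
        map_mul' := fun x y => by
          have hx : x.1.1.1.right = 1 := x.2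
          show (x.1.1.1 * y.1.1.1).left 0 = _
          rw [SemidirectProduct.mul_left, hx, map_one]
          rfl }
    have hφ : Function.Surjective φ := by
      intro s
      have hmem : (⟨_, hl 0 1 (by decide) s⟩ : G) ∈ M.comap π := by
        rw [Subgroup.mem_comap]
        show SemidirectProduct.rightHom (SemidirectProduct.inl (φ := act) (δ 0 1 s)) ∈ M
        rw [SemidirectProduct.rightHom_inl]; exact M.one_mem
      refine ⟨⟨⟨⟨_, hl 0 1 (by decide) s⟩, hmem⟩, SemidirectProduct.rightHom_inl (φ := act) (δ 0 1 s)⟩, ?_⟩
      show δ 0 1 s 0 = s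
      simp [δ]
    exact derived_ne_bot_of_injective K.subtype K.subtype_injective d
      (derived_ne_bot_of_surjective φ hφ d hSd)

end Cfsg.Agent.S5896
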