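import Cfsg.Statements.S0713
import Mathlib
import Cfsg.Agent.H33.Trans

set_option autoImplicit false
open Cfsg

namespace Cfsg.Agent.S0713

open MulAction Equiv
open scoped Pointwise

/-- A permutation centralising a `p`-cycle has `p`-th power trivial on the support. -/
theorem pow_fix_of_commute {α : Type*} [Fintype α] [DecidableEq α] {g x : Perm α} {p : ℕ}
    (hgc : g.IsCycle) (hgp : g.support.card = p) (hx : Commute x g) :
    ∀ y ∈ g.support, (x ^ p) y = y := by
  intro y hy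
  have hgy : g y ≠ y := Perm.mem_support.mp hy
  have hxy : g (x y) ≠ x y := by
    rw [← Perm.mul_apply, ← hx.eq, Perm.mul_apply]
    exact fun e => hgy (x.injective e)
  obtain ⟨i, hi⟩ := hgc.sameCycle hgy hxy
  have hxe : ∀ z ∈ g.support, x z = (g ^ i) z := by
    intro z hz
    obtain ⟨j, hj⟩ := hgc.sameCycle hgy (Perm.mem_support.mp hz)
    rw [← hj, ← Perm.mul_apply, (hx.zpow_right j).eq, Perm.mul_apply, ← hi,
      ← Perm.mul_apply, ← Perm.mul_apply, ← zpow_add, ← zpow_add, add_comm]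
  have hpow : ∀ n : ℕ, (x ^ n) y = ((g ^ i) ^ n) y ∧ ((g ^ i) ^ n) y ∈ g.support := by
    intro n
    induction n with
    | zero => exact ⟨rfl, by simpa using hy⟩
    | succ n ih =>
      have hz : ((g ^ i) ^ n) y ∈ g.support := ih.2
      refine ⟨by rw [pow_succ', Perm.mul_apply, ih.1, hxe _ hz, pow_succ', Perm.mul_apply], ?_⟩
      rw [pow_succ', Perm.mul_apply, Perm.zpow_apply_mem_support]
      exact hz
  rw [(hpow p).1, ← hgp, ← hgc.orderOf, ← zpow_natCast, ← zpow_mul, mul_comm, zpow_mul,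
    zpow_natCast, pow_orderOf_eq_one, one_zpow, Perm.one_apply]

/-- Elements normalising a cyclic subgroup have commutator centralising it. -/
theorem commute_commutator_of_normalizes {H : Type*} [Group H] {g h₁ h₂ : H}
    (h1 : ∀ z, z ∈ Subgroup.zpowers g ↔ h₁ * z * h₁⁻¹ ∈ Subgroup.zpowers g)
    (h2 : ∀ z, z ∈ Subgroup.zpowers g ↔ h₂ * z * h₂⁻¹ ∈ Subgroup.zpowers g) :
    h₁ * h₂ * h₁⁻¹ * h₂⁻¹ * g = g * (h₁ * h₂ * h₁⁻¹ * h₂⁻¹) := by
  obtain ⟨a, ha⟩ := (h1 g).mp (Subgroup.mem_zpowers g)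
  obtain ⟨b, hb⟩ := (h2 g).mp (Subgroup.mem_zpowers g)
  simp only at ha hb
  have e12 : ∀ n : ℤ, h₁ * g ^ n * h₁⁻¹ = g ^ (a * n) ∧ h₂ * g ^ n * h₂⁻¹ = g ^ (b * n) := by
    intro n
    constructor
    · rw [← conj_zpow, ← ha, ← zpow_mul]
    · rw [← conj_zpow, ← hb, ← zpow_mul]
  have key : h₁ * h₂ * g * (h₁ * h₂)⁻¹ = h₂ * h₁ * g * (h₂ * h₁)⁻¹ := by
    calc h₁ * h₂ * g * (h₁ * h₂)⁻¹ = h₁ * (h₂ * g * h₂⁻¹) * h₁⁻¹ := by group
      _ = g ^ (a * b) := by rw [← hb, (e12 b).1]
      _ = g ^ (b * a) := by rw [mul_comm]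
      _ = h₂ * (h₁ * g * h₁⁻¹) * h₂⁻¹ := by rw [← ha, (e12 a).2]
      _ = h₂ * h₁ * g * (h₂ * h₁)⁻¹ := by group
  -- conjugation by the commutator
  obtain ⟨c, hc⟩ : ∃ c, (h₂ * h₁) * c * (h₂ * h₁)⁻¹ = g :=
    ⟨(h₂ * h₁)⁻¹ * g * (h₂ * h₁), by group⟩
  have hcg : c ∈ Subgroup.zpowers g := by
    rw [h1, h2]
    convert Subgroup.mem_zpowers g using 1
    calc _ = h₂ * h₁ * c * (h₂ * h₁)⁻¹ := by group
      _ = g := hc
  obtain ⟨n, rfl⟩ := hcg
  simp only at hc
  have key' := conj_zpow (a := h₁ * h₂) (b := g) (i := n)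
  rw [key, conj_zpow, hc] at key'
  have e : h₁ * h₂ * h₁⁻¹ * h₂⁻¹ * g * (h₁ * h₂ * h₁⁻¹ * h₂⁻¹)⁻¹ = g := by
    calc h₁ * h₂ * h₁⁻¹ * h₂⁻¹ * g * (h₁ * h₂ * h₁⁻¹ * h₂⁻¹)⁻¹
        = h₁ * h₂ * ((h₂ * h₁)⁻¹ * g * (h₂ * h₁)) * (h₁ * h₂)⁻¹ := by group
      _ = h₁ * h₂ * g ^ n * (h₁ * h₂)⁻¹ := by
        have : (h₂ * h₁)⁻¹ * g * (h₂ * h₁) = g ^ n := by
          nth_rewrite 1 [← hc]; group
        rw [this]
      _ = g := key'.symm
  exact (mul_inv_eq_iff_eq_mul.mp e)

/-- Jordan's Theorem: a primitive permutation group of degree `n ≥ 5` containing a `p`-cycle for a prime `p ≤ n - 3` contains the alternating group. -/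
theorem result {α : Type*} [Fintype α] [DecidableEq α] (G : Subgroup (Equiv.Perm α)) (hG : MulAction.IsPreprimitive G α) {p : ℕ} (hp : p.Prime) (hn : 5 ≤ Fintype.card α) (hpn : p + 3 ≤ Fintype.card α) {g : Equiv.Perm α} (hgc : g.IsCycle) (hgp : g.support.card = p) (hg : g ∈ G) : alternatingGroup α ≤ G := by
  classical
  set n := Fintype.card α with hn'
  set Δ : Finset α := g.supportᶜ with hΔ
  have hΔc : Δ.card = n - p := by rw [hΔ, Finset.card_compl, hgp]
  have : Fact p.Prime := ⟨hp⟩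
  -- transitivity degree
  have hkt : MulAction.IsMultiplyPretransitive G α (n - p) := by
    have hset : ((g.support : Set α)ᶜ).ncard = (n - p - 1) + 1 := by
      rw [← Finset.coe_compl, Set.ncard_coe_finset, ← hΔ, hΔc]; omega
    have hprim : MulAction.IsPreprimitive (fixingSubgroup G (g.support : Set α)ᶜ)
        (SubMulAction.ofFixingSubgroup G (g.support : Set α)ᶜ) := by
      have := Equiv.Perm.isPretransitive_of_isCycle_mem hgc hg
      apply MulAction.IsPreprimitive.of_prime_card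
      convert hp
      rw [← hgp, Nat.card_eq_fintype_card, Fintype.card_subtype]
      apply congr_arg
      ext z
      simp [SubMulAction.mem_ofFixingSubgroup_iff]
    have h := hG.isMultiplyPreprimitive hset
      (by rw [Nat.card_eq_fintype_card, ← hn']; have := hp.two_le; omega) hprim
    have h' : MulAction.IsMultiplyPretransitive G α (n - p - 1 + 2) := h.isMultiplyPretransitive
    exact MulAction.isMultiplyPretransitive_of_le (n := n - p - 1 + 2) (by omega)
      (by rw [Nat.card_eq_fintype_card, ← hn']; have := hp.two_le; omega)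
  -- the pointwise stabiliser of `Δ` and its Sylow subgroup
  set D : Subgroup G := fixingSubgroup G (Δ : Set α) with hD
  have hgD : (⟨g, hg⟩ : G) ∈ D := by
    rw [hD, mem_fixingSubgroup_iff]
    intro y hy
    exact Equiv.Perm.notMem_support.mp (Finset.mem_compl.mp hy)
  set g' : D := ⟨⟨g, hg⟩, hgD⟩ with hg'
  have hord : orderOf g' = p := by
    rw [← Subgroup.orderOf_coe, ← Subgroup.orderOf_coe, hgc.orderOf]; exact hgp
  have hDdvd : Nat.card D ∣ p.factorial := by
    let f : D →* Equiv.Perm {y : α // y ∈ g.support} :=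
      { toFun := fun d => (((d : G) : Equiv.Perm α)).subtypePerm (fun y => by
          have hfix : ∀ z ∉ g.support, ((d : G) : Equiv.Perm α) z = z := fun z hz =>
            (mem_fixingSubgroup_iff G).mp d.2 z (Finset.mem_compl.mpr hz)
          constructor
          · intro h
            by_contra hy
            rw [hfix y hy] at h
            exact hy h
          · intro hy
            by_contra h
            exact h (by rw [(Equiv.injective _) (hfix _ h)]; exact hy))
        map_one' := Equiv.ext fun y => rfl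
        map_mul' := fun a b => Equiv.ext fun y => rfl }
    have hf : Function.Injective f := by
      intro a b h
      refine Subtype.ext (Subtype.ext (Equiv.ext fun y => ?_))
      by_cases hy : y ∈ g.support
      · exact congrArg Subtype.val (Equiv.congr_fun h ⟨y, hy⟩)
      · rw [show ((a : G) : Equiv.Perm α) y = y from
          (mem_fixingSubgroup_iff G).mp a.2 y (Finset.mem_compl.mpr hy),
          show ((b : G) : Equiv.Perm α) y = y from
          (mem_fixingSubgroup_iff G).mp b.2 y (Finset.mem_compl.mpr hy)]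
    have := Subgroup.card_dvd_of_injective f hf
    rwa [Nat.card_perm, Nat.card_eq_finsetCard, hgp] at this
  have hfac : (Nat.card D).factorization p ≤ 1 := by
    have h1 := (Nat.factorization_le_iff_dvd Nat.card_pos.ne' (Nat.factorial_ne_zero p)).mpr hDdvd p
    have h2 : (p.factorial).factorization p = 1 := by
      rw [← Nat.mul_factorial_pred hp.ne_zero,
        Nat.factorization_mul hp.ne_zero (Nat.factorial_ne_zero _)]
      simp only [Finsupp.coe_add, Pi.add_apply, hp.factorization_self]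
      rw [Nat.factorization_eq_zero_of_not_dvd, add_zero]
      rw [hp.dvd_factorial]
      have := hp.one_lt
      omega
    omega
  have hsyl : ∀ z : D, orderOf z = p → ∃ S : Sylow p D, (S : Subgroup D) = Subgroup.zpowers z := by
    intro z hz
    refine ⟨Sylow.ofCard (Subgroup.zpowers z) ?_, rfl⟩
    rw [Nat.card_zpowers, hz]
    have : 1 ≤ (Nat.card D).factorization p :=
      (hp.dvd_iff_one_le_factorization Nat.card_pos.ne').mp (hz ▸ orderOf_dvd_natCard z)
    rw [show (Nat.card D).factorization p = 1 by omega, pow_one]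
  -- every permutation of `Δ` is induced by an element normalising `⟨g⟩`
  have hlift : ∀ σ : Equiv.Perm α, (∀ y ∈ Δ, σ y ∈ Δ) → ∃ h : G, (∀ y ∈ Δ, h • y = σ y) ∧
      ∀ z, z ∈ Subgroup.zpowers (⟨g, hg⟩ : G) ↔
        h * z * h⁻¹ ∈ Subgroup.zpowers (⟨g, hg⟩ : G) := by
    intro σ hσ
    obtain ⟨h, hh⟩ := Cfsg.Agent.H33.exists_smul_eqOn hkt
      (by rw [Nat.card_eq_fintype_card, ← hn']; omega) Δ hΔc.le σ σ.injective.injOn
    have himg : ∀ y ∈ Δ, h⁻¹ • y ∈ Δ ∧ σ (h⁻¹ • y) = y := by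
      intro y hy
      have hsur : Δ.image σ = Δ := Finset.eq_of_subset_of_card_le
        (Finset.image_subset_iff.mpr hσ) (by rw [Finset.card_image_of_injective _ σ.injective])
      rw [← hsur] at hy
      obtain ⟨w, hw, rfl⟩ := Finset.mem_image.mp hy
      rw [← hh w hw, inv_smul_smul]
      exact ⟨hw, (hh w hw).symm⟩
    have hconjD : h * ⟨g, hg⟩ * h⁻¹ ∈ D := by
      rw [hD, mem_fixingSubgroup_iff]
      intro y hy
      obtain ⟨h1, h2⟩ := himg y hy
      rw [mul_smul, mul_smul, show (⟨g, hg⟩ : G) • (h⁻¹ • y) = h⁻¹ • y from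
        Equiv.Perm.notMem_support.mp (Finset.mem_compl.mp h1), smul_inv_smul]
    obtain ⟨S₁, hS₁⟩ := hsyl g' hord
    obtain ⟨S₂, hS₂⟩ := hsyl ⟨_, hconjD⟩ (by
      rw [← Subgroup.orderOf_coe]
      show orderOf (h * (⟨g, hg⟩ : G) * h⁻¹) = p
      rw [← hord, ← Subgroup.orderOf_coe g']
      exact (MulAut.conj h).orderOf_eq _)
    obtain ⟨d, hd⟩ := MulAction.exists_smul_eq D S₂ S₁
    have hd' : MulAut.conj d • (S₂ : Subgroup D) = S₁ := by rw [← hd]; rfl
    refine ⟨(d : G) * h, fun y hy => ?_, fun z => ?_⟩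
    · rw [mul_smul, hh y hy]
      exact (mem_fixingSubgroup_iff G).mp d.2 _ (hσ y hy)
    · have key : (Subgroup.zpowers (⟨g, hg⟩ : G)).map (MulAut.conj ((d : G) * h)).toMonoidHom
          = Subgroup.zpowers (⟨g, hg⟩ : G) := by
        rw [MonoidHom.map_zpowers]
        have hd'' : (S₂ : Subgroup D).map (MulAut.conj d).toMonoidHom = S₁ := hd'
        have hmap := congrArg (Subgroup.map D.subtype) hd''
        rw [hS₂, hS₁, MonoidHom.map_zpowers, MonoidHom.map_zpowers,
          MonoidHom.map_zpowers] at hmap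
        convert hmap using 2
        all_goals first | rfl | simp [mul_assoc]
      constructor
      · intro hz
        rw [← key]
        exact ⟨z, hz, rfl⟩
      · intro hz
        rw [← key] at hz
        obtain ⟨w, hw, hwz⟩ := hz
        have : w = z := (MulAut.conj ((d : G) * h)).injective hwz
        exact this ▸ hw
  -- a 3-cycle on `Δ`
  by_cases hp3 : p = 3
  · exact Equiv.Perm.alternatingGroup_le_of_isPreprimitive_of_isThreeCycle_mem hG
      (card_support_eq_three_iff.mp (hgp.trans hp3)) hg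
  obtain ⟨a, b, c, ha, hb, hc, hab, hac, hbc⟩ :=
    Finset.two_lt_card_iff.mp (show 2 < Δ.card by omega)
  have hswap : ∀ u v : α, u ∈ Δ → v ∈ Δ → ∀ y ∈ Δ, Equiv.swap u v y ∈ Δ := by
    intro u v hu hv y hy
    rw [Equiv.swap_apply_def]
    split_ifs <;> assumption
  obtain ⟨h₁, h1ind, h1n⟩ := hlift (Equiv.swap a b) (hswap a b ha hb)
  obtain ⟨h₂, h2ind, h2n⟩ := hlift (Equiv.swap a c) (hswap a c ha hc)
  have hinv : ∀ (u v : α) (k : G), (∀ w ∈ Δ, Equiv.swap u v w ∈ Δ) →
      (∀ w ∈ Δ, k • w = Equiv.swap u v w) → ∀ y ∈ Δ, k⁻¹ • y = Equiv.swap u v y := by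
    intro u v k hs hk y hy
    rw [inv_smul_eq_iff, hk _ (hs y hy), Equiv.swap_apply_self]
  set X : G := h₁ * h₂ * h₁⁻¹ * h₂⁻¹ with hX
  have hXg : Commute (X : Equiv.Perm α) g :=
    congrArg Subtype.val (commute_commutator_of_normalizes h1n h2n)
  set τ : Equiv.Perm α := Equiv.swap a b * Equiv.swap a c with hτ
  have hτ3 : τ.IsThreeCycle := Equiv.Perm.isThreeCycle_swap_mul_swap_same hab hac hbc
  have hXΔ : ∀ y ∈ Δ, X • y = (τ ^ 2) y := by
    intro y hy
    rw [hX, mul_smul, mul_smul, mul_smul, hinv a c h₂ (hswap a c ha hc) h2ind y hy,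
      hinv a b h₁ (hswap a b ha hb) h1ind _ (hswap a c ha hc y hy),
      h2ind _ (hswap a b ha hb _ (hswap a c ha hc y hy)),
      h1ind _ (hswap a c ha hc _ (hswap a b ha hb _ (hswap a c ha hc y hy))), pow_two]
    rfl
  have hτΔ : ∀ y ∈ Δ, (τ ^ 2) y ∈ Δ := by
    intro y hy
    rw [pow_two]
    exact hswap a b ha hb _ (hswap a c ha hc _ (hswap a b ha hb _ (hswap a c ha hc y hy)))
  have hXp : ∀ j : ℕ, ∀ y ∈ Δ, ((X : Equiv.Perm α) ^ j) y = ((τ ^ 2) ^ j) y ∧ ((τ ^ 2) ^ j) y ∈ Δ := by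
    intro j
    induction j with
    | zero => exact fun y hy => ⟨rfl, by simpa using hy⟩
    | succ j ih =>
      intro y hy
      rw [pow_succ', pow_succ', Equiv.Perm.mul_apply, Equiv.Perm.mul_apply, (ih y hy).1]
      exact ⟨hXΔ _ (ih y hy).2, hτΔ _ (ih y hy).2⟩
  have hXp' : (X : Equiv.Perm α) ^ p = (τ ^ 2) ^ p := by
    refine Equiv.ext fun y => ?_
    by_cases hy : y ∈ g.support
    · rw [pow_fix_of_commute hgc hgp hXg y hy]
      have hfix : ∀ j : ℕ, ((τ ^ 2) ^ j) y = y := fun j => by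
        rw [← pow_mul]
        apply Equiv.Perm.pow_apply_eq_self_of_apply_eq_self
        have hnot : ∀ u ∈ Δ, y ≠ u := fun u hu e => Finset.mem_compl.mp (e ▸ hu) hy
        simp [hτ, Equiv.swap_apply_of_ne_of_ne (hnot a ha) (hnot b hb),
          Equiv.swap_apply_of_ne_of_ne (hnot a ha) (hnot c hc)]
      rw [hfix]
    · exact (hXp p y (Finset.mem_compl.mpr hy)).1
  have h3 : ((X : Equiv.Perm α) ^ p).IsThreeCycle := by
    rw [hXp', ← pow_mul, ← pow_mod_orderOf, hτ3.orderOf]
    have hp3' : ¬ 3 ∣ p := fun h => hp3 ((Nat.prime_dvd_prime_iff_eq Nat.prime_three hp).mp h).symm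
    rcases (show 2 * p % 3 = 1 ∨ 2 * p % 3 = 2 by omega) with h | h <;> rw [h]
    · rwa [pow_one]
    · rw [pow_two]; exact hτ3.isThreeCycle_sq
  exact Equiv.Perm.alternatingGroup_le_of_isPreprimitive_of_isThreeCycle_mem hG h3
    (G.pow_mem X.2 p)

end Cfsg.Agent.S0713
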