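import Cfsg.Statements.S0676
import Cfsg.Agent.H32.Triple
import Cfsg.Agent.H32.PrimeNormalizer

set_option autoImplicit false
open Cfsg

namespace Cfsg.Agent.S0676

open MulAction Cfsg.Agent.H32
open scoped Pointwise

/-- A non-solvable transitive permutation group of prime degree `p` whose Sylow `p`-normaliser has even order is triply transitive. -/
theorem result {α : Type*} [Fintype α] [DecidableEq α] {p : ℕ} [Fact p.Prime] (hα : Fintype.card α = p) (G : Subgroup (Equiv.Perm α)) [MulAction.IsPretransitive G α] (hG : ¬ Group.IsSolvable G) (P : Sylow p G) (heven : Even (Nat.card (Subgroup.normalizer ((P : Subgroup G) : Set G)))) : MulAction.IsMultiplyPretransitive G α 3 := by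
  classical
  have hp : p.Prime := Fact.out
  obtain ⟨C, t, b, hto, -, htj⟩ := exists_reflection hα G P heven
  have hp3 : 3 < p := by
    by_contra h
    exact hG (C.isSolvable (C.allAffine_of_le_three (by omega)))
  have htwo : (2 : ZMod p) ≠ 0 := fun h2 => by
    rw [show (2 : ZMod p) = ((2 : ℕ) : ZMod p) by norm_num, ZMod.natCast_eq_zero_iff] at h2
    have := Nat.le_of_dvd (by norm_num) h2
    omega
  have h2 : IsMultiplyPretransitive G α 2 :=
    (C.allAffine_or_two_transitive hα).resolve_left fun h => hG (C.isSolvable h)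
  have hfixed : t • C.coord (b / 2) = C.coord (b / 2) := by
    rw [htj]; congr 1; field_simp; ring
  have heven' : ∀ a : α, Even (Nat.card (stabilizer G a)) := by
    intro a
    have h0 : 2 ∣ Nat.card (stabilizer G (C.coord (b / 2))) := by
      rw [← hto, ← Subgroup.orderOf_mk (H := stabilizer G (C.coord (b / 2))) t hfixed]
      exact orderOf_dvd_natCard _
    have h1 := (stabilizer G a).card_mul_index
    have h1' := (stabilizer G (C.coord (b / 2))).card_mul_index
    rw [index_stabilizer_of_transitive, Nat.card_eq_fintype_card (α := α), hα] at h1 h1'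
    rw [Nat.eq_of_mul_eq_mul_right hp.pos (h1.trans h1'.symm)]
    exact even_iff_two_dvd.mpr h0
  refine three_transitive_of_no_map (K := ZMod p) h2 (by rw [hα]) heven' fun f hf => ?_
  -- the linear function
  let v₀ : α → ZMod p := fun x => C.coord.symm x
  have hv₀ : v₀ ∈ (Cfsg.permSumZero (ZMod p) G α).toSubmodule := by
    rw [mem_permSumZero, ← Fintype.sum_equiv C.coord (fun j => j) v₀ fun j => by simp [v₀]]
    have := FiniteField.sum_pow_lt_card_sub_one (K := ZMod p) 1 (by rw [ZMod.card]; omega)
    simpa using this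
  have hone : (fun _ : α => (1 : ZMod p)) ∈ (Cfsg.permSumZero (ZMod p) G α).toSubmodule := by
    rw [mem_permSumZero]
    exact sum_one_eq_zero (f := 1) le_rfl (by rw [hα, pow_one])
  let v : (Cfsg.permSumZero (ZMod p) G α).toSubmodule := ⟨v₀, hv₀⟩
  let u : (Cfsg.permSumZero (ZMod p) G α).toSubmodule := ⟨_, hone⟩
  have hu : f u = 0 := hf u one_mem_permConstants
  have hgen : (Cfsg.permSumZero (ZMod p) G α).toRepresentation C.gen v = v - u := by
    apply Subtype.ext
    funext x
    obtain ⟨j, rfl⟩ := C.coord.surjective x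
    show v₀ (C.gen⁻¹ • C.coord j) = v₀ (C.coord j) - 1
    have : C.gen⁻¹ • C.coord j = C.coord (j - 1) := by
      rw [inv_smul_eq_iff, C.gen_smul, sub_add_cancel]
    simp [v₀, this]
  have htv : (Cfsg.permSumZero (ZMod p) G α).toRepresentation t v = -v + b • u := by
    apply Subtype.ext
    funext x
    obtain ⟨j, rfl⟩ := C.coord.surjective x
    show v₀ (t⁻¹ • C.coord j) = -v₀ (C.coord j) + b * 1
    have : t⁻¹ • C.coord j = C.coord (-j + b) := by
      rw [inv_smul_eq_iff, htj]; congr 1; ring
    simp [v₀, this]
  have hfv : f v = 0 := by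
    have e1 : ∀ s, f v (C.gen⁻¹ • s) = f v s := by
      intro s
      have h := congrFun (Representation.IntertwiningMap.isIntertwining _ _ f C.gen v) s
      rw [hgen, map_sub, hu, sub_zero] at h
      exact h.symm
    have e1' : ∀ (n : ℕ) s, f v ((C.gen ^ n) • s) = f v s := by
      intro n
      induction n with
      | zero => simp
      | succ n ih =>
        intro s
        rw [← e1, pow_succ', mul_smul, inv_smul_smul, ih]
    funext s
    obtain ⟨x, y, hxy, hs⟩ := Finset.card_eq_two.mp (Set.powersetCard.card_eq s)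
    obtain ⟨i, rfl⟩ := C.coord.surjective x
    obtain ⟨j, rfl⟩ := C.coord.surjective y
    have h := congrFun (Representation.IntertwiningMap.isIntertwining _ _ f t v) s
    rw [htv, map_add, map_neg, map_smul, hu, smul_zero, add_zero] at h
    have hts : t⁻¹ • s = C.gen ^ (b - i - j).val • s := by
      apply Subtype.ext
      show t⁻¹ • (s : Finset α) = C.gen ^ (b - i - j).val • (s : Finset α)
      rw [hs]
      have hinv : ∀ k, t⁻¹ • C.coord k = C.coord (-k + b) := fun k => by
        rw [inv_smul_eq_iff, htj]; congr 1; ring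
      simp only [Finset.smul_finset_insert, Finset.smul_finset_singleton, hinv, C.pow_smul,
        ZMod.natCast_zmod_val]
      rw [Finset.pair_comm]
      congr 2
      · ring_nf
      · ring_nf
    change (-(f v)) s = f v (t⁻¹ • s) at h
    rw [hts, e1', Pi.neg_apply, neg_eq_iff_add_eq_zero, ← two_mul] at h
    exact (mul_eq_zero.mp h).resolve_left htwo
  -- the kernel is everything
  let W : Submodule (ZMod p) (α → ZMod p) :=
    (LinearMap.ker f.toLinearMap).map (Cfsg.permSumZero (ZMod p) G α).toSubmodule.subtype
  have hWinv : ∀ g : G, ∀ w ∈ W, Cfsg.permRep (ZMod p) G α g w ∈ W := by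
    rintro g _ ⟨w, hw, rfl⟩
    refine ⟨(Cfsg.permSumZero (ZMod p) G α).toRepresentation g w, ?_, rfl⟩
    simp only [SetLike.mem_coe, LinearMap.mem_ker, Representation.IntertwiningMap.coe_toLinearMap] at hw ⊢
    rw [Representation.IntertwiningMap.isIntertwining _ _ f g w, hw, map_zero]
  rcases C.heart (fun h => hG (C.isSolvable h)) W hWinv
    ((Submodule.span_singleton_le_iff_mem _ _).mpr ⟨u, hu, rfl⟩) (Submodule.map_subtype_le _ _)
    with h | h
  · exfalso
    have hvW : v₀ ∈ W := ⟨v, hfv, rfl⟩
    rw [h, mem_permConstants] at hvW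
    obtain ⟨c, hc⟩ := hvW
    have h0 := hc (C.coord 0)
    have h1 := hc (C.coord 1)
    simp only [v₀, Equiv.symm_apply_apply] at h0 h1
    exact zero_ne_one (h0.trans h1.symm)
  · refine Representation.IntertwiningMap.ext (LinearMap.ext fun w => ?_)
    have hw : (w : α → ZMod p) ∈ W := by rw [h]; exact w.2
    obtain ⟨w', hw', he⟩ := hw
    have : w' = w := Subtype.ext he
    exact this ▸ hw'

end Cfsg.Agent.S0676
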