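import Cfsg.Statements.S0679
import Cfsg.Agent.H79.DegreeEleven.Sharp
import Cfsg.Agent.S0675
import Cfsg.Agent.S0676
import Cfsg.Agent.S0498

set_option autoImplicit false
set_option linter.style.haveILetI false
open Cfsg

namespace Cfsg.Agent.S0679

open MulAction Cfsg.Agent.H79.DegreeEleven

/-- A three-transitive group of degree 11 has order divisible by 990. -/
private theorem dvd_card_of_three {α : Type*} [Fintype α] (hα : Fintype.card α = 11)
    (G : Subgroup (Equiv.Perm α)) [IsMultiplyPretransitive G α 3] : 990 ∣ Nat.card G := by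
  classical
  obtain ⟨x⟩ : Nonempty (Fin 3 ↪ α) :=
    Function.Embedding.nonempty_of_card_le (by rw [Fintype.card_fin, hα]; norm_num)
  haveI : IsPretransitive G (Fin 3 ↪ α) := (inferInstance : IsMultiplyPretransitive G α 3)
  have h1 := (stabilizer G x).index_dvd_card
  rw [index_stabilizer, @MulAction.orbit_eq_univ _ _ _ _ this x, Set.ncard_univ,
    Nat.card_eq_fintype_card (α := Fin 3 ↪ α),
    Fintype.card_embedding_eq, Fintype.card_fin, hα] at h1
  exact h1

/-- A non-solvable transitive permutation group on 11 points that does not contain the alternating group is either sharply 4-transitive (of order 7920) or isomorphic to the projective special linear group of degree 2 over the field with 11 elements. -/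
theorem result {α : Type*} [Fintype α] [DecidableEq α] (hα : Fintype.card α = 11) (G : Subgroup (Equiv.Perm α)) [MulAction.IsPretransitive G α] (hG : ¬ Group.IsSolvable G) (hA : ¬ alternatingGroup α ≤ G) : (MulAction.IsMultiplyPretransitive G α 4 ∧ ∀ x : Fin 4 ↪ α, MulAction.stabilizer G x = ⊥) ∨ Nonempty (G ≃* Matrix.ProjectiveSpecialLinearGroup (Fin 2) (ZMod 11)) := by
  classical
  have hcard11 : Nat.card α = 11 := by rw [Nat.card_eq_fintype_card, hα]
  have hGs : H79.DegreeEleven.Small G := ⟨hα, inferInstance, hA⟩
  set E : Subgroup (Equiv.Perm α) := G ⊓ alternatingGroup α with hE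
  have hEG : E ≤ G := inf_le_left
  have hEn : G ≤ Subgroup.normalizer (E : Set (Equiv.Perm α)) := fun g hg =>
    Subgroup.mem_normalizer_iff.mpr fun x => by
      have hA : g * x * g⁻¹ ∈ alternatingGroup α ↔ x ∈ alternatingGroup α := by
        simp only [Equiv.Perm.mem_alternatingGroup, map_mul, map_inv]
        rw [mul_comm (Equiv.Perm.sign g), mul_inv_cancel_right]
      exact ⟨fun hx => ⟨G.mul_mem (G.mul_mem hg hx.1) (G.inv_mem hg), hA.mpr hx.2⟩, fun hx =>
        ⟨by simpa [mul_assoc] using G.mul_mem (G.mul_mem (G.inv_mem hg) hx.1) hg, hA.mp hx.2⟩⟩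
  let σ : G →* ℤˣ := Equiv.Perm.sign.comp G.subtype
  have hσ : σ.ker = E.subgroupOf G := by
    ext g
    simp [σ, hE, Subgroup.mem_subgroupOf, Equiv.Perm.mem_alternatingGroup]
  have hEsol : ¬ Group.IsSolvable E := by
    intro h
    refine hG (Group.isSolvable_of_ker_le_range (Subgroup.inclusion hEG) σ (le_of_eq ?_))
    rw [hσ, Subgroup.inclusion_range]
  have hE1 : E ≠ ⊥ := fun h => hEsol (by rw [h]; infer_instance)
  obtain ⟨hEs, hEcard⟩ := card_even_part hGs hG E hEG hEn inf_le_right hE1
  haveI := hEs.trans
  haveI := (Cfsg.Agent.S0675.result (α := α) (by rw [hα]; norm_num) E).resolve_left hEsol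
  -- every element is even
  have heven : ∀ g ∈ G, Equiv.Perm.sign g = 1 := by
    intro g hg
    by_contra hne
    have hodd : Equiv.Perm.sign g = -1 := (Int.units_eq_one_or _).resolve_left hne
    rcases hEcard with h660 | h7920
    · haveI : Fact (Nat.Prime 11) := ⟨by norm_num⟩
      obtain ⟨P⟩ : Nonempty (Sylow 11 G) := inferInstance
      have hsgn : ∀ y : G, Odd (orderOf y) → y ∈ σ.ker := fun y hy => by
        have h1 : σ y ^ orderOf y = 1 := by rw [← map_pow, pow_orderOf_eq_one, map_one]
        rcases Int.units_eq_one_or (σ y) with h | h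
        · exact h
        · rw [h, hy.neg_one_pow] at h1
          exact absurd h1 (by decide)
      have hP : (P : Subgroup G) ≤ σ.ker := fun y hy => by
        refine hsgn y ?_
        obtain ⟨k, hk⟩ := (P.2 ⟨y, hy⟩)
        have hdvd : orderOf y ∣ 11 ^ k := orderOf_dvd_of_pow_eq_one (congrArg Subtype.val hk)
        exact (Nat.Coprime.coprime_dvd_left hdvd ((show Nat.Coprime 11 2 by norm_num).pow_left k)).odd_of_right
      have hN : Even (Nat.card (Subgroup.normalizer ((P : Subgroup G) : Set G))) := by
        by_contra hNodd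
        rw [Nat.not_even_iff_odd] at hNodd
        have hle : Subgroup.normalizer ((P : Subgroup G) : Set G) ≤ σ.ker := fun y hy =>
          hsgn y (Odd.of_dvd_nat hNodd (Subgroup.orderOf_mk y hy ▸ orderOf_dvd_natCard
            (⟨y, hy⟩ : Subgroup.normalizer ((P : Subgroup G) : Set G))))
        have htop := Sylow.normalizer_sup_eq_top' P hP
        have htop' : σ.ker = ⊤ := top_le_iff.mp (htop.ge.trans (sup_le hle le_rfl))
        have : σ ⟨g, hg⟩ = 1 := MonoidHom.mem_ker.mp (htop'.ge (Subgroup.mem_top _))
        exact hne this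
      haveI := Cfsg.Agent.S0676.result hα G hG P hN
      have h990 := dvd_card_of_three hα G
      have hG2 : Nat.card G = 660 * Nat.card σ.range := by
        rw [← σ.ker.card_mul_index, Subgroup.index_ker, hσ,
          Nat.card_congr (Subgroup.subgroupOfEquivOfLe hEG).toEquiv, h660]
      have hrange : Nat.card σ.range ≤ 2 := by
        have h1 := Nat.le_of_dvd (by norm_num) (show Nat.card σ.range ∣ 2 by
          have h1 := σ.range.card_subgroup_dvd_card
          rwa [Nat.card_eq_fintype_card (α := ℤˣ), Fintype.card_units_int] at h1)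
        exact h1
      have hpos : 0 < Nat.card σ.range := Nat.card_pos
      rw [hG2] at h990
      obtain ⟨c, hc⟩ := h990
      interval_cases Nat.card σ.range <;> omega
    · exact no_odd hEs inf_le_right h7920 hGs hE hg hodd
  have hGA : G ≤ alternatingGroup α := fun g hg => Equiv.Perm.mem_alternatingGroup.mpr (heven g hg)
  have hEG' : E = G := inf_eq_left.mpr hGA
  rcases hEcard with h660 | h7920
  · refine Or.inr ?_
    rw [hEG'] at h660
    haveI : Nontrivial G := Finite.one_lt_card_iff_nontrivial.mp (by omega)
    haveI : IsSimpleGroup G := by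
      refine ⟨fun M hM => ?_⟩
      by_cases hM1 : M = ⊥
      · exact Or.inl hM1
      refine Or.inr (Subgroup.eq_top_of_card_eq _ ?_)
      obtain ⟨m, hm, hm12, hmc⟩ := card_normalised hGs hG (M.map G.subtype)
        (Subgroup.map_subtype_le _) (fun g hg => Subgroup.mem_normalizer_iff.mpr fun x => by
          constructor
          · rintro ⟨z, hz, rfl⟩
            exact ⟨_, hM.conj_mem z hz ⟨g, hg⟩, rfl⟩
          · rintro ⟨z, hz, hze⟩
            refine ⟨_, hM.conj_mem z hz ⟨g, hg⟩⁻¹, ?_⟩
            simp only [map_mul, map_inv, Subgroup.coe_subtype] at hze ⊢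
            rw [hze]; group)
        ((Subgroup.map_subtype_le _).trans hGA)
        ((Subgroup.map_eq_bot_iff_of_injective _ G.subtype_injective).not.mpr hM1)
      rw [Subgroup.card_map_of_injective G.subtype_injective] at hmc
      have h1 := Nat.le_of_dvd (by omega) M.card_subgroup_dvd_card
      rw [h660] at h1 ⊢
      omega
    haveI : Fact (Nat.Prime 11) := ⟨by norm_num⟩
    exact Cfsg.Agent.S0498.result 11 (Or.inl rfl) (by rw [h660]; norm_num) (ZMod.card 11)
  · refine Or.inl ?_
    have h4 := four_transitive hEs inf_le_right h7920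
    have hsharp := sharp hEs inf_le_right h7920
    rw [hEG'] at h4
    refine ⟨h4, fun x => ?_⟩
    have hx := hsharp x
    rw [Subgroup.eq_bot_iff_forall] at hx ⊢
    intro g hg
    have hgE := hx ⟨g, hEG'.ge g.2⟩ hg
    exact Subtype.ext (congrArg Subtype.val hgE : _)

end Cfsg.Agent.S0679
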