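import Cfsg.Statements.S0425
import Cfsg.Agent.H29.SteinerSmall
import Cfsg.Agent.S0419

set_option autoImplicit false
open Cfsg

namespace Cfsg.Agent.S0425

/-- Aut of an S(5, 6, 12) is simple of order 95040 and sharply 5-transitive on points. -/
theorem result {α : Type*} [Fintype α] [DecidableEq α] (hα : Fintype.card α = 12) {B : Set (Finset α)} (hB : Cfsg.IsSteinerSystem 5 6 B) : Cfsg.IsM12 (Cfsg.setSystemAut B) ∧ MulAction.IsMultiplyPretransitive (Cfsg.setSystemAut B) α 5 ∧ ∀ x : Fin 5 ↪ α, MulAction.stabilizer (Cfsg.setSystemAut B) x = ⊥ := by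
  classical
  have hmem : ∀ e f : Fin 12 ≃ α, H29.IsIso12 B e → H29.IsIso12 B f → e.symm.trans f ∈ Cfsg.setSystemAut B := by
    intro e f he hf
    rw [H29.mem_setSystemAut]
    intro b
    have h1 := hf (b.map e.symm.toEmbedding)
    have h2 := he (b.map e.symm.toEmbedding)
    rw [Finset.map_map] at h1 h2
    have h3 : e.symm.toEmbedding.trans e.toEmbedding = Function.Embedding.refl α := by ext; simp
    rw [h3, Finset.map_refl] at h2
    exact h1.trans h2.symm
  have hex : ∀ x : Fin 5 ↪ α, ∃ e : Fin 12 ≃ α, H29.IsIso12 B e ∧ (∀ i : Fin 4, e (i.castLE (by omega)) = x i.castSucc) ∧ e (Fin.last 11) = x (Fin.last 4) := by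
    intro x
    obtain ⟨e, h1, h2, h3⟩ := H29.exists_iso12 hα hB x
    exact ⟨e, h3, h1, h2⟩
  have htrans : MulAction.IsMultiplyPretransitive (Cfsg.setSystemAut B) α 5 := by
    rw [MulAction.isMultiplyPretransitive_iff]
    intro x y
    obtain ⟨e, hiso, he⟩ := hex x
    obtain ⟨f, fiso, hf⟩ := hex y
    refine ⟨⟨e.symm.trans f, hmem e f hiso fiso⟩, ?_⟩
    ext i
    show f (e.symm (x i)) = y i
    refine Fin.lastCases ?_ (fun j => ?_) i
    · rw [← he.2, Equiv.symm_apply_apply, hf.2]
    · rw [← he.1 j, Equiv.symm_apply_apply, hf.1 j]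
  have hsharp : ∀ x : Fin 5 ↪ α, MulAction.stabilizer (Cfsg.setSystemAut B) x = ⊥ := by
    intro x
    rw [eq_bot_iff]
    intro σ hσ
    rw [Subgroup.mem_bot]
    obtain ⟨e, hiso, he⟩ := hex x
    have hσx : ∀ i, (σ : Equiv.Perm α) (x i) = x i := fun i => DFunLike.congr_fun hσ i
    have hiso' : H29.IsIso12 B (e.trans (σ : Equiv.Perm α)) := by
      intro s
      have h := H29.mem_setSystemAut.1 σ.2 (s.map e.toEmbedding)
      rw [Finset.map_map] at h
      exact h.trans (hiso s)
    have he' : ∀ i : Fin 4, e (i.castLE (by omega)) = (e.trans (σ : Equiv.Perm α)) (i.castLE (by omega)) := by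
      intro i
      show _ = (σ : Equiv.Perm α) (e _)
      rw [he.1 i]
      exact (hσx i.castSucc).symm
    have hl : e (Fin.last 11) = (e.trans (σ : Equiv.Perm α)) (Fin.last 11) := by
      show _ = (σ : Equiv.Perm α) (e _)
      rw [he.2]
      exact (hσx _).symm
    have key := H29.iso12_unique hB hiso hiso' hl he'
    apply Subtype.ext
    apply Equiv.ext
    intro a
    obtain ⟨j, rfl⟩ := e.surjective a
    exact (Equiv.congr_fun key j).symm
  haveI := htrans
  exact ⟨S0419.result hα _ hsharp, htrans, hsharp⟩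

end Cfsg.Agent.S0425
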