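import Cfsg.Statements.S4689
import Cfsg.Agent.H82.StarNilpotent
import Cfsg.Agent.H35.Consequences

set_option autoImplicit false
open Cfsg

namespace Cfsg.Agent.S4689

/-- Fix a prime p and a maximal ideal M of the algebraic integers containing p, and a nilpotent p-block B of the finite group G. Then B has p-regular rank one (a single irreducible Brauer character), and some χ₀ ∈ B restricts to that Brauer character: every χ ∈ B agrees on the p-regular elements with a natural-number multiple of χ₀. -/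
theorem result {G : Type*} [Group G] [Fintype G] (p : ℕ) [Fact p.Prime] (M : Ideal Cfsg.AlgInt) (hM : Cfsg.IsPModular p M) (B : Set (Cfsg.IrrCharacter G)) (hnil : Cfsg.IsNilpotentBlock p M B) : Cfsg.blockRank p B = 1 ∧ ∃ χ₀ ∈ B, ∀ χ ∈ B, ∃ d : ℕ, ∀ x : G, Cfsg.pRegularPart p (χ : G → ℂ) x = (d : ℂ) * Cfsg.pRegularPart p (χ₀ : G → ℂ) x := by
  classical
  obtain ⟨P, e, hmax⟩ := Agent.H82.exists_maximal hM hnil.1
  obtain ⟨χ₀, hχ₀, h0⟩ := Agent.H83.exists_height_zero hM hnil.1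
  obtain ⟨Ψ, -, hrange, hreg⟩ := Agent.H82.Star.exists_parametrization hM hmax hnil hχ₀ h0
  have hmul : ∀ χ ∈ B, ∃ d : ℕ, pRegularPart p (χ : G → ℂ) = (d : ℂ) • pRegularPart p (χ₀ : G → ℂ) := by
    intro χ hχ
    rw [← hrange] at hχ
    obtain ⟨ρ, rfl⟩ := hχ
    exact ⟨_, hreg ρ⟩
  refine ⟨?_, χ₀, hχ₀, fun χ hχ => (hmul χ hχ).imp fun d hd x => by rw [hd]; rfl⟩
  have hspan : Submodule.span ℂ ((fun χ : IrrCharacter G => pRegularPart p (χ : G → ℂ)) '' B) =
      Submodule.span ℂ {pRegularPart p (χ₀ : G → ℂ)} := by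
    refine le_antisymm (Submodule.span_le.mpr ?_)
      (Submodule.span_mono (Set.singleton_subset_iff.mpr ⟨χ₀, hχ₀, rfl⟩))
    rintro _ ⟨χ, hχ, rfl⟩
    obtain ⟨d, hd⟩ := hmul χ hχ
    exact Submodule.mem_span_singleton.mpr ⟨d, hd.symm⟩
  rw [blockRank, hspan]
  refine finrank_span_singleton fun h => Agent.CharBasic.IsIrr.one_ne_zero χ₀.2 ?_
  have := congrFun h 1
  rwa [Agent.H83.pRegularPart_eq_self _ (by
    rw [orderOf_one, Nat.dvd_one]; exact (Fact.out : p.Prime).ne_one)] at this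

end Cfsg.Agent.S4689
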