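import Cfsg.Statements.S0157
import Cfsg.Agent.H54.PermChar
import Mathlib.GroupTheory.GroupAction.MultipleTransitivity

set_option autoImplicit false
open Cfsg

namespace Cfsg.Agent.S0157

theorem exists_pair_ne' {X : Type*} [Finite X] (h : 2 ≤ Nat.card X) : ∃ a b : X, a ≠ b := by
  have : Nontrivial X := Finite.one_lt_card_iff_nontrivial.mp (by omega)
  exact exists_pair_ne X

/-- Burnside's orbit counting lemma, for `Nat.card`. -/
theorem orbit_count {G : Type*} [Group G] [Fintype G] (Y : Type*) [MulAction G Y] [Finite Y] :
    ∑ g : G, Nat.card (MulAction.fixedBy Y g) =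
      Nat.card (Quotient (MulAction.orbitRel G Y)) * Nat.card G := by
  classical
  have := Fintype.ofFinite Y
  have := Fintype.ofFinite (Quotient (MulAction.orbitRel G Y))
  have h := MulAction.sum_card_fixedBy_eq_card_orbits_mul_card_group G Y
  simp only [Nat.card_eq_fintype_card]
  convert h using 1

theorem isCharacter_perm {G : Type*} [Group G] [Finite G] (X : Type*) [MulAction G X] [Finite X] :
    Cfsg.IsCharacter G (fun g => (Nat.card (MulAction.fixedBy X g) : ℂ)) := by
  classical
  have := Fintype.ofFinite X
  have : (Representation.ofMulAction ℂ G X).character =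
      fun g => (Nat.card (MulAction.fixedBy X g) : ℂ) := by
    funext g
    rw [Representation.character, LinearMap.trace_eq_matrix_trace ℂ (MonoidAlgebra.basis X ℂ),
      Nat.card_eq_fintype_card]
    simp only [Matrix.trace, Matrix.diag, LinearMap.toMatrix_apply]
    rw [Fintype.card_subtype, Finset.natCast_card_filter]
    refine Finset.sum_congr rfl (fun x _ => ?_)
    by_cases h : g • x = x <;>
      simp [MonoidAlgebra.basis, MonoidAlgebra.coeff_single, Finsupp.single_apply,
        MulAction.fixedBy, h]
  exact this ▸ CharBasic.isCharacter_character _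


/-- For a transitive action of a finite group on a finite set with at least two points: the action is 2-transitive if and only if the function sending g to (number of fixed points of g) − 1 is an irreducible character. -/
theorem result {G : Type*} [Group G] [Finite G] (X : Type*) [MulAction G X] [Finite X] [MulAction.IsPretransitive G X] (hX : 2 ≤ Nat.card X) : Cfsg.IsIrrCharacter G (fun g => (Nat.card (MulAction.fixedBy X g) : ℂ) - 1) ↔ MulAction.IsMultiplyPretransitive G X 2 := by
  classical
  have := Fintype.ofFinite G
  have := Fintype.ofFinite X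
  obtain ⟨x₀, x₁, hne⟩ := exists_pair_ne' hX
  let π : G → ℂ := fun g => (Nat.card (MulAction.fixedBy X g) : ℂ)
  let one : G → ℂ := fun _ => 1
  have hπ : Cfsg.IsCharacter G π := isCharacter_perm X
  have hone : Cfsg.IsCharacter G one := CharBasic.IsIrr.isCharacter CharBasic.isIrrCharacter_one
  have hcG : (Nat.card G : ℂ) ≠ 0 := by exact_mod_cast Nat.card_pos.ne'
  have hX1 : Nat.card (Quotient (MulAction.orbitRel G X)) = 1 := by
    rw [Nat.card_eq_one_iff_unique]
    refine ⟨⟨fun a b => ?_⟩, ⟨Quotient.mk _ x₀⟩⟩
    induction a using Quotient.inductionOn with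
    | h a =>
      induction b using Quotient.inductionOn with
      | h b =>
        obtain ⟨g, rfl⟩ := MulAction.exists_smul_eq G b a
        exact Quotient.sound ⟨g, rfl⟩
  have h11 : Cfsg.classInner π one = 1 := by
    rw [CharBasic.classInner_def]
    simp only [one, map_one, mul_one, π]
    rw [← Nat.cast_sum, orbit_count X, hX1, one_mul, inv_mul_cancel₀ hcG]
  have hpp : Cfsg.classInner π π = (Nat.card (Quotient (MulAction.orbitRel G (X × X))) : ℂ) := by
    rw [CharBasic.classInner_def]
    have : ∀ g : G, π g * (starRingEnd ℂ) (π g) =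
        ((Nat.card (MulAction.fixedBy (X × X) g) : ℕ) : ℂ) := fun g => by
      have e : Nat.card (MulAction.fixedBy (X × X) g) =
          Nat.card (MulAction.fixedBy X g) * Nat.card (MulAction.fixedBy X g) := by
        rw [← Nat.card_prod]
        exact Nat.card_congr
          { toFun := fun z => (⟨z.1.1, congrArg Prod.fst z.2⟩, ⟨z.1.2, congrArg Prod.snd z.2⟩)
            invFun := fun z => ⟨(z.1.1, z.2.1), Prod.ext z.1.2 z.2.2⟩
            left_inv := fun _ => rfl
            right_inv := fun _ => rfl }
      rw [e, Nat.cast_mul]
      simp only [π, Complex.conj_natCast]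
    rw [Finset.sum_congr rfl fun g _ => this g, ← Nat.cast_sum, orbit_count (X × X), Nat.cast_mul,
      mul_comm (Nat.card (Quotient _) : ℂ), inv_mul_cancel_left₀ hcG]
  have hoo : Cfsg.classInner one one = 1 := CharBasic.classInner_irr_self CharBasic.isIrrCharacter_one
  have h1p : Cfsg.classInner one π = 1 := by
    rw [← CharBasic.classInner_conj_symm, h11, map_one]
  have hnorm : Cfsg.classInner (π - one) (π - one) =
      (Nat.card (Quotient (MulAction.orbitRel G (X × X))) : ℂ) - 1 := by
    rw [CharBasic.classInner_sub_left, CharBasic.classInner_sub_right,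
      CharBasic.classInner_sub_right, hpp, h11, h1p, hoo]
    ring
  have hdiag : ∀ a b c : X, a ≠ b →
      Quotient.mk (MulAction.orbitRel G (X × X)) (a, b) ≠ Quotient.mk _ (c, c) := by
    intro a b c hab he
    obtain ⟨g, hg⟩ := Quotient.exact he
    exact hab ((congrArg Prod.fst hg).symm.trans (congrArg Prod.snd hg))
  change Cfsg.IsIrrCharacter G (π - one) ↔ _
  constructor
  · intro hirr
    have h2 : Nat.card (Quotient (MulAction.orbitRel G (X × X))) = 2 := by
      have h := CharBasic.classInner_irr_self hirr
      rw [hnorm, sub_eq_iff_eq_add] at h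
      refine Nat.cast_injective (R := ℂ) ?_
      rw [h]
      norm_num
    rw [MulAction.is_two_pretransitive_iff]
    intro a b c d hab hcd
    have := Fintype.ofFinite (Quotient (MulAction.orbitRel G (X × X)))
    rw [Nat.card_eq_fintype_card] at h2
    have heq : Quotient.mk (MulAction.orbitRel G (X × X)) (c, d) = Quotient.mk _ (a, b) := by
      by_contra hne'
      have h3 : ({Quotient.mk _ (c, d), Quotient.mk _ (a, b), Quotient.mk _ (a, a)} :
          Finset (Quotient (MulAction.orbitRel G (X × X)))).card = 3 := by
        rw [Finset.card_insert_of_notMem, Finset.card_pair (hdiag a b a hab)]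
        simp [hne', hdiag c d a hcd]
      have := Finset.card_le_univ ({Quotient.mk _ (c, d), Quotient.mk _ (a, b), Quotient.mk _ (a, a)} :
          Finset (Quotient (MulAction.orbitRel G (X × X))))
      omega
    obtain ⟨g, hg⟩ := Quotient.exact heq
    exact ⟨g, congrArg Prod.fst hg, congrArg Prod.snd hg⟩
  · intro h2
    rw [MulAction.is_two_pretransitive_iff] at h2
    have hcard : Nat.card (Quotient (MulAction.orbitRel G (X × X))) = 2 := by
      rw [Nat.card_eq_two_iff]
      refine ⟨Quotient.mk _ (x₀, x₀), Quotient.mk _ (x₀, x₁), (hdiag x₀ x₁ x₀ hne).symm, ?_⟩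
      rw [Set.eq_univ_iff_forall]
      intro q
      induction q using Quotient.inductionOn with
      | h z =>
        obtain ⟨a, b⟩ := z
        by_cases hab : a = b
        · subst hab
          obtain ⟨g, rfl⟩ := MulAction.exists_smul_eq G x₀ a
          exact Or.inl (Quotient.sound ⟨g, rfl⟩)
        · obtain ⟨g, hg1, hg2⟩ := h2 hne hab
          exact Or.inr (Quotient.sound ⟨g, Prod.ext hg1 hg2⟩)
    refine H54.isIrr_of_norm_one (Finset.univ : Finset (Fin 2)) ![1, -1] ![π, one] ?_ ?_ ?_
      (d := Nat.card X - 1) ?_ (by omega)
    · intro i _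
      fin_cases i
      · exact hπ
      · exact hone
    · funext g
      simp [Fin.sum_univ_two, sub_eq_add_neg]
    · rw [hnorm, hcard]; norm_num
    · rw [Nat.cast_sub (by omega)]
      simp [π, one, MulAction.fixedBy_one_eq_univ, Nat.card_eq_fintype_card]

end Cfsg.Agent.S0157
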