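import Cfsg.Statements.S0339
import Cfsg.Agent.H28.SemiFrobenius
import Cfsg.Agent.H33.Zassenhaus
import Cfsg.Agent.Perm.Basic
import Cfsg.Agent.Perm.RegularNormal
import Cfsg.Agent.Frobenius.Action
import Cfsg.Agent.Frobenius.KernelTheorem

set_option autoImplicit false
open Cfsg

namespace Cfsg.Agent.S0339

open MulAction in
/-- Some non-identity element of `N` fixes two points. -/
theorem exists_two_fixed {G Ω : Type*} [Group G] [MulAction G Ω] [Finite Ω]
    (hZ : Cfsg.IsZassenhausGroup G Ω) (N : Subgroup G) [hNn : N.Normal] (hN : N ≠ ⊥) :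
    ∃ n ∈ N, n ≠ 1 ∧ ∃ a b : Ω, a ≠ b ∧ n • a = a ∧ n • b = b := by
  obtain ⟨hf, h2, h3, hfix, hreg⟩ := id hZ
  haveI := hf
  haveI : Finite G := Finite.of_injective (toPerm (α := G) (β := Ω)) toPerm_injective
  have hNt := Perm.transitive_of_normal_of_two h2 hN
  by_contra hcon
  push Not at hcon
  have hfixN : ∀ g : N, g ≠ 1 → ∀ a b : Ω, g • a = a → g • b = b → a = b := by
    intro g hg a b ha hb
    by_contra hab
    exact hcon g g.2 (fun h => hg (Subtype.ext h)) a b hab ha hb
  obtain ⟨a, ha⟩ := hreg N hNn hNt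
  obtain ⟨g, -, a', b', hab', -, -⟩ := hfix
  have hne : stabilizer N a ≠ ⊤ := by
    intro htop
    have h : ∀ w, w = a := fun w => by
      obtain ⟨n, hn⟩ := hNt.exists_smul_eq a w
      rw [← hn]
      exact (htop ▸ Subgroup.mem_top n : n ∈ stabilizer N a)
    exact hab' ((h a').trans (h b').symm)
  have hH := Frobenius.stabilizer_isFrobeniusComplement hfixN a ha hne
  have hK := (Frobenius.coe_kernel hH).trans (Frobenius.kernel_stabilizer_eq hNt.exists_smul_eq a)
  set K := Frobenius.kernel hH with hKdef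
  have hmem : ∀ g : N, g ∈ K ↔ g = 1 ∨ ∀ w : Ω, g • w ≠ w := fun g => by
    rw [← SetLike.mem_coe, hK]; rfl
  set K' := K.map N.subtype with hK'
  have hK'n : K'.Normal := by
    constructor
    rintro _ ⟨k, hk, rfl⟩ g
    refine ⟨⟨g * k * g⁻¹, hNn.conj_mem k k.2 g⟩, ?_, rfl⟩
    rcases (hmem k).1 hk with rfl | hk
    · exact (hmem _).2 (Or.inl (Subtype.ext (by simp)))
    · refine (hmem _).2 (Or.inr fun w hw => hk (g⁻¹ • w) ?_)
      have h4 : (g * k * g⁻¹) • w = w := hw
      rw [mul_smul, mul_smul] at h4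
      exact eq_inv_smul_iff.2 h4
  have hfree : ∀ w : Ω, stabilizer K' w = ⊥ := by
    rw [Perm.free_iff]
    rintro _ ⟨k, hk, rfl⟩ w hw
    rcases (hmem k).1 hk with rfl | hk
    · rfl
    · exact absurd hw (hk w)
  have hcard : Nat.card K' = Nat.card Ω := by
    rw [hK', Subgroup.card_map_of_injective N.subtype_injective, ← SetLike.coe_sort_coe,
      Frobenius.coe_kernel hH, Frobenius.card_kernel hH, index_stabilizer_of_transitive]
  have hinj : Function.Injective fun k : K' => (k : G) • a := by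
    intro k l hkl
    exact Subtype.ext (Perm.eq_of_smul_eq_of_free hfree k.2 l.2 a hkl)
  haveI := Fintype.ofFinite Ω
  haveI := Fintype.ofFinite K'
  have hbij : Function.Bijective fun k : K' => (k : G) • a :=
    (Fintype.bijective_iff_injective_and_card _).2
      ⟨hinj, by rw [← Nat.card_eq_fintype_card, ← Nat.card_eq_fintype_card, hcard]⟩
  have hK't : IsPretransitive K' Ω := by
    refine ⟨fun x y => ?_⟩
    obtain ⟨k, hk⟩ := hbij.2 x
    obtain ⟨l, hl⟩ := hbij.2 y
    refine ⟨l * k⁻¹, ?_⟩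
    show ((l : G) * (k : G)⁻¹) • x = y
    rw [← hk, mul_smul, inv_smul_smul]
    exact hl
  obtain ⟨w, hw⟩ := hreg K' hK'n hK't
  exact hw (hfree w)

open MulAction in
theorem two_transitive {G Ω : Type*} [Group G] [MulAction G Ω] [Finite Ω]
    (hZ : Cfsg.IsZassenhausGroup G Ω) (N : Subgroup G) [hNn : N.Normal] (hN : N ≠ ⊥) :
    IsMultiplyPretransitive N Ω 2 := by
  obtain ⟨hf, h2, h3, hfix, hreg⟩ := id hZ
  haveI := hf
  haveI : Finite G := Finite.of_injective (toPerm (α := G) (β := Ω)) toPerm_injective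
  have hNt := Perm.transitive_of_normal_of_two h2 hN
  obtain ⟨n, hn, hn1, a, b, hab, hna, hnb⟩ := exists_two_fixed hZ N hN
  -- every pair of points is fixed by a nontrivial element of `N`
  have hall : ∀ c d : Ω, c ≠ d → ∃ m : N, m ≠ 1 ∧ m • c = c ∧ m • d = d := by
    intro c d hcd
    obtain ⟨g, hgc, hgd⟩ := H33.zas_map_pair hZ hab hcd
    refine ⟨⟨g * n * g⁻¹, hNn.conj_mem n hn g⟩, ?_, ?_, ?_⟩
    · intro h
      exact hn1 (conj_eq_one_iff.1 (congrArg Subtype.val h))
    · show (g * n * g⁻¹) • c = c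
      rw [mul_smul, mul_smul, inv_smul_eq_iff.2 hgc.symm, hna, hgc]
    · show (g * n * g⁻¹) • d = d
      rw [mul_smul, mul_smul, inv_smul_eq_iff.2 hgd.symm, hnb, hgd]
  have key : ∀ c d e : Ω, d ≠ c → e ≠ c → ∃ m : N, m • c = c ∧ m • d = e := by
    intro c d e hd he
    have hne : ∀ {u w : Ω}, u ≠ c → w ∈ orbit (stabilizer N c) u → w ≠ c := by
      rintro u _ hu ⟨m, rfl⟩ h
      have hm : (m : N) • c = c := m.2
      exact hu (MulAction.injective (m : N) (h.trans hm.symm))
    have hmem : ∀ w ∈ orbit (stabilizer N c) d ∪ orbit (stabilizer N c) e, w ≠ c := by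
      rintro w (hw | hw)
      · exact hne hd hw
      · exact hne he hw
    obtain ⟨m, hm⟩ := H28.mem_orbit_of_semiFrobenius d e (M := stabilizer N c)
      (fun w hw hbot => by
        obtain ⟨m, hm1, hmc, hmw⟩ := hall c w (hmem w hw).symm
        have h5 : (⟨m, hmc⟩ : stabilizer N c) ∈ stabilizer (stabilizer N c) w := hmw
        rw [hbot, Subgroup.mem_bot] at h5
        exact hm1 (congrArg Subtype.val h5))
      (fun g hg w hw w' hw' hgw hgw' => by
        by_contra hww
        refine hg (Subtype.ext (Subtype.ext ?_))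
        exact h3 ((g : N) : G) c w w' (hmem w hw).symm hww (hmem w' hw').symm g.2 hgw hgw')
    exact ⟨m, m.2, hm⟩
  rw [is_two_pretransitive_iff]
  intro p q r s hpq hrs
  obtain ⟨m, hm⟩ := hNt.exists_smul_eq p r
  obtain ⟨k, hk1, hk2⟩ := key r (m • q) s
    (fun h => hpq (MulAction.injective m (h.trans hm.symm)).symm) hrs.symm
  exact ⟨k * m, by rw [mul_smul, hm, hk1], by rw [mul_smul, hk2]⟩


/-- A non-trivial normal subgroup of a Zassenhaus group is itself a Zassenhaus group on the same set. -/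
theorem result {G Ω : Type*} [Group G] [MulAction G Ω] [Finite Ω]
    (hZ : Cfsg.IsZassenhausGroup G Ω) (N : Subgroup G) [N.Normal] (hN : N ≠ ⊥) :
    Cfsg.IsZassenhausGroup N Ω := by
  obtain ⟨hf, h2, h3, hfix, hreg⟩ := id hZ
  haveI := hf
  haveI : Finite G := Finite.of_injective (MulAction.toPerm (α := G) (β := Ω))
    MulAction.toPerm_injective
  obtain ⟨n, hn, hn1, a, b, hab, hna, hnb⟩ := exists_two_fixed hZ N hN
  have hN2 := two_transitive hZ N hN
  have hNf : FaithfulSMul N Ω :=
    ⟨fun {m m'} h => Subtype.ext (FaithfulSMul.eq_of_smul_eq_smul (M := G) (α := Ω) h)⟩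
  refine ⟨hNf, hN2, ?_, ⟨⟨n, hn⟩, fun h => hn1 (congrArg Subtype.val h), a, b, hab, hna, hnb⟩, ?_⟩
  · intro g x y z hxy hyz hxz hx hy hz
    exact Subtype.ext (h3 g x y z hxy hyz hxz hx hy hz)
  · intro K hKn hKt
    by_contra hcon
    push Not at hcon
    haveI := hKn
    haveI : Nonempty Ω := ⟨a⟩
    obtain ⟨hKab, -⟩ := Perm.regular_normal_elementary hN2 K hcon
    -- `K` is the unique minimal normal subgroup of `N`
    have huniq : ∀ L : Subgroup N, L.Normal → L ≠ ⊥ → K ≤ L := by
      intro L hL hLne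
      haveI := hL
      by_cases hd : K ⊓ L = ⊥
      · exfalso
        apply hLne
        have hLC : L ≤ Subgroup.centralizer (K : Set N) := by
          intro l hl
          rw [Subgroup.mem_centralizer_iff]
          intro k hk
          exact Subgroup.commute_of_normal_of_disjoint K L hKn hL (disjoint_iff.2 hd) k l hk hl
        rw [Perm.centralizer_eq_self hKab hKt] at hLC
        rw [← hd, inf_eq_right.2 hLC]
      · intro k hk
        obtain ⟨m, hm, hm1⟩ : ∃ m ∈ K ⊓ L, m ≠ 1 := by
          by_contra h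
          push Not at h
          exact hd (eq_bot_iff.2 fun x hx => h x hx)
        rcases eq_or_ne k 1 with rfl | hk1
        · exact one_mem L
        · obtain ⟨g, -, hg⟩ := Perm.exists_conj_eq_of_two hN2 hcon a
            (Subgroup.mem_inf.1 hm).1 hk hm1 hk1
          rw [← hg]
          exact hL.conj_mem m (Subgroup.mem_inf.1 hm).2 g
    have hKne : K ≠ ⊥ := by
      rintro rfl
      obtain ⟨k, hk⟩ := hKt.exists_smul_eq a b
      have : (k : N) = 1 := Subgroup.mem_bot.1 k.2
      apply hab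
      rw [← hk]
      show a = (k : N) • a
      rw [this, one_smul]
    set K' := K.map N.subtype with hK'
    have hK'n : K'.Normal := by
      constructor
      rintro _ ⟨k, hk, rfl⟩ g
      let c := (MulAut.conjNormal (H := N) g⁻¹).toMonoidHom
      have hLn : (K.map c).Normal := hKn.map c (MulAut.conjNormal (H := N) g⁻¹).surjective
      have hLne : K.map c ≠ ⊥ := fun h =>
        hKne ((Subgroup.map_eq_bot_iff_of_injective K (MulAut.conjNormal (H := N) g⁻¹).injective).1 h)
      obtain ⟨l, hl, hle⟩ := huniq _ hLn hLne hk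
      refine ⟨l, hl, ?_⟩
      have h5 : (g⁻¹ * l * g⁻¹⁻¹ : G) = k := congrArg Subtype.val hle
      show (l : G) = g * k * g⁻¹
      rw [← h5]; group
    obtain ⟨w, hw⟩ := hreg K' hK'n ⟨fun x y => by
      obtain ⟨k, hk⟩ := hKt.exists_smul_eq x y
      exact ⟨⟨((k : N) : G), ⟨k, k.2, rfl⟩⟩, hk⟩⟩
    refine hw (eq_bot_iff.2 ?_)
    rintro ⟨_, k, hk, rfl⟩ hkw
    have h6 : (⟨k, hk⟩ : K) ∈ MulAction.stabilizer K w := hkw
    rw [hcon w, Subgroup.mem_bot] at h6
    rw [Subgroup.mem_bot]
    exact Subtype.ext (congrArg (fun x : K => ((x : N) : G)) h6)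

end Cfsg.Agent.S0339
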