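import Cfsg.Statements.S0741
import Mathlib
import Cfsg.Agent.H33.Zassenhaus

set_option autoImplicit false
open Cfsg

namespace Cfsg.Agent.S0741

open MulAction Cfsg.Agent.H33

theorem swap_count {G Ω : Type*} [Group G] [Fintype G] [MulAction G Ω] [DecidableEq Ω]
    (hZ : Cfsg.IsZassenhausGroup G Ω) {a b c e : Ω} (hab : a ≠ b) (hce : c ≠ e) :
    (Finset.univ.filter fun g : G => g • c = e ∧ g • e = c).card
      ≤ Nat.card ↥(stabilizer G a ⊓ stabilizer G b) := by
  classical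
  set S := Finset.univ.filter fun g : G => g • c = e ∧ g • e = c with hS
  rcases S.eq_empty_or_nonempty with h | ⟨g₀, hg₀⟩
  · simp [h]
  obtain ⟨k, hka, hkb⟩ := zas_map_pair hZ hab hce
  rw [hS, Finset.mem_filter] at hg₀
  have hmem : ∀ g ∈ S, k⁻¹ * (g₀⁻¹ * g) * k ∈ stabilizer G a ⊓ stabilizer G b := by
    intro g hg
    rw [hS, Finset.mem_filter] at hg
    refine Subgroup.mem_inf.mpr ⟨?_, ?_⟩
    · rw [mem_stabilizer_iff, mul_smul, mul_smul, hka, mul_smul, hg.2.1, ← hg₀.2.1,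
        inv_smul_smul, ← hka, inv_smul_smul]
    · rw [mem_stabilizer_iff, mul_smul, mul_smul, hkb, mul_smul, hg.2.2, ← hg₀.2.2,
        inv_smul_smul, ← hkb, inv_smul_smul]
  rw [Nat.card_eq_fintype_card, ← Finset.card_univ]
  refine Finset.card_le_card_of_injOn
    (fun g => if h : g ∈ S then ⟨_, hmem g h⟩ else 1) (fun g _ => Finset.mem_coe.mpr (Finset.mem_univ _)) ?_
  intro g hg g' hg' h
  simp only [Finset.mem_coe] at hg hg'
  simp only [hg, hg', dif_pos, Subtype.mk.injEq] at h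
  simpa using h

/-- If the two-point stabilisers of a finite Zassenhaus group of degree `n + 1` have even order `d`, then `2d ≥ n - 1`. -/
theorem result {G Ω : Type*} [Group G] [Finite G] [MulAction G Ω] [Fintype Ω] (hZ : Cfsg.IsZassenhausGroup G Ω) {a b : Ω} (hab : a ≠ b) (heven : Even (Nat.card ↥(MulAction.stabilizer G a ⊓ MulAction.stabilizer G b))) : Fintype.card Ω - 2 ≤ 2 * Nat.card ↥(MulAction.stabilizer G a ⊓ MulAction.stabilizer G b) := by
  classical
  haveI := hZ.1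
  haveI := Fintype.ofFinite G
  haveI : Fact (Nat.Prime 2) := ⟨Nat.prime_two⟩
  obtain ⟨z, hz⟩ := exists_prime_orderOf_dvd_card' (G := ↥(stabilizer G a ⊓ stabilizer G b)) 2
    (even_iff_two_dvd.mp heven)
  rw [← Subgroup.orderOf_coe] at hz
  have hz1 : (z : G) ≠ 1 := fun e => by simp [e] at hz
  have hfix := zas_fixed_of_pair hZ hz1 hab z.2.1 z.2.2
  let pairs := (Finset.univ : Finset Ω).offDiag
  have hmap : ∀ q : Ω × Ω, ∃ k : G, q.1 ≠ q.2 → k • a = q.1 ∧ k • b = q.2 := fun q => by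
    rcases eq_or_ne q.1 q.2 with h | h
    · exact ⟨1, fun h' => absurd h h'⟩
    · obtain ⟨k, hk⟩ := zas_map_pair hZ hab h
      exact ⟨k, fun _ => hk⟩
  choose k hk using hmap
  let zc : Ω × Ω → G := fun q => k q * z * (k q)⁻¹
  have hzc1 : ∀ q, zc q ≠ 1 := fun q e => hz1 (conj_eq_one_iff.mp e)
  have hzfix : ∀ q : Ω × Ω, q.1 ≠ q.2 → fixedBy Ω (zc q) = {q.1, q.2} := by
    intro q hq
    obtain ⟨h1, h2⟩ := hk q hq
    refine zas_fixed_of_pair hZ (hzc1 q) hq ?_ ?_
    · rw [← h1]; simp only [zc]; rw [mul_smul, inv_smul_smul, mul_smul, z.2.1]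
    · rw [← h2]; simp only [zc]; rw [mul_smul, inv_smul_smul, mul_smul, z.2.2]
  let src := pairs.sigma fun q => (Finset.univ : Finset Ω) \ {q.1, q.2}
  let tgt := pairs.sigma fun w => Finset.univ.filter fun g : G => g • w.1 = w.2 ∧ g • w.2 = w.1
  let f : (Σ _ : Ω × Ω, Ω) → (Σ _ : Ω × Ω, G) := fun t => ⟨(t.2, zc t.1 • t.2), zc t.1⟩
  have hmapsTo : ∀ t ∈ src, f t ∈ tgt := by
    rintro ⟨q, w⟩ ht
    simp only [src, pairs, Finset.mem_sigma, Finset.mem_offDiag, Finset.mem_univ, true_and,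
      Finset.mem_sdiff, Finset.mem_insert, Finset.mem_singleton] at ht
    have hzz : zc q * zc q = 1 := by
      have : (z : G) * z = 1 := by rw [← pow_two, ← hz, pow_orderOf_eq_one]
      calc zc q * zc q = k q * ((z : G) * z) * (k q)⁻¹ := by simp only [zc]; group
        _ = 1 := by rw [this]; group
    simp only [f, tgt, pairs, Finset.mem_sigma, Finset.mem_offDiag, Finset.mem_univ, true_and,
      Finset.mem_filter]
    refine ⟨fun h => ?_, by rw [smul_smul, hzz, one_smul]⟩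
    have : w ∈ fixedBy Ω (zc q) := h.symm
    rw [hzfix q ht.1] at this
    exact ht.2 this
  have hcount : src.card ≤ 2 * tgt.card := by
    refine (Finset.card_le_mul_card_image (f := f) src 2 fun y hy => ?_).trans
      (Nat.mul_le_mul_left 2 (Finset.card_le_card (Finset.image_subset_iff.mpr hmapsTo)))
    obtain ⟨t₀, ht₀, rfl⟩ := Finset.mem_image.mp hy
    have hsub : (src.filter fun t => f t = f t₀) ⊆
        ({⟨t₀.1, t₀.2⟩, ⟨(t₀.1.2, t₀.1.1), t₀.2⟩} : Finset (Σ _ : Ω × Ω, Ω)) := by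
      rintro ⟨q, w⟩ ht
      simp only [Finset.mem_filter, f, Sigma.mk.injEq, Prod.mk.injEq, heq_eq_eq] at ht
      obtain ⟨htsrc, ⟨hw, -⟩, hg⟩ := ht
      simp only [src, pairs, Finset.mem_sigma, Finset.mem_offDiag, Finset.mem_univ, true_and] at htsrc ht₀
      have hset : ({q.1, q.2} : Set Ω) = {t₀.1.1, t₀.1.2} := by
        rw [← hzfix q htsrc.1, ← hzfix _ ht₀.1, hg]
      rcases Set.pair_eq_pair_iff.mp hset with ⟨h1, h2⟩ | ⟨h1, h2⟩
      · simp [hw, Prod.ext h1 h2]
      · simp [hw, show q = (t₀.1.2, t₀.1.1) from Prod.ext h1 h2]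
    exact (Finset.card_le_card hsub).trans Finset.card_le_two
  have hsrc : src.card = pairs.card * (Fintype.card Ω - 2) := by
    rw [Finset.card_sigma, Finset.sum_const_nat]
    intro q hq
    rw [Finset.card_sdiff_of_subset (Finset.subset_univ _), Finset.card_pair
      (Finset.mem_offDiag.mp hq).2.2, Finset.card_univ]
  have htgt : tgt.card ≤ pairs.card * Nat.card ↥(stabilizer G a ⊓ stabilizer G b) := by
    rw [Finset.card_sigma, ← smul_eq_mul]
    refine Finset.sum_le_card_nsmul _ _ _ fun w hw => ?_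
    exact swap_count hZ hab (Finset.mem_offDiag.mp hw).2.2
  have hpos : 0 < pairs.card :=
    Finset.card_pos.mpr ⟨(a, b), by simp [pairs, Finset.mem_offDiag, hab]⟩
  refine Nat.le_of_mul_le_mul_left ?_ hpos
  calc pairs.card * (Fintype.card Ω - 2) = src.card := hsrc.symm
    _ ≤ 2 * tgt.card := hcount
    _ ≤ 2 * (pairs.card * Nat.card ↥(stabilizer G a ⊓ stabilizer G b)) := Nat.mul_le_mul_left 2 htgt
    _ = _ := by ring

end Cfsg.Agent.S0741
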