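import Cfsg.Statements.S0341
import Cfsg.Agent.H28.FieldAut
import Cfsg.Agent.Perm.Basic
import Cfsg.Agent.Perm.RegularNormal
import Cfsg.Agent.Frobenius.Action
import Cfsg.Agent.Frobenius.KernelTheorem
import Cfsg.Agent.Frobenius.Sylow
import Cfsg.Agent.Frobenius.Construct
import Cfsg.Agent.H76.ZGroupAction

set_option autoImplicit false
open Cfsg

namespace Cfsg.Agent.S0341

/-- An odd-order group acting without fixed points on a group has cyclic Sylow subgroups. -/
theorem isZGroup_of_fpf {C N : Type*} [Group C] [Finite C] [Nontrivial C] [Group N] [Finite N]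
    [Nontrivial N] (φ : C →* MulAut N)
    (hfpf : ∀ c : C, c ≠ 1 → ∀ n : N, φ c n = n → n = 1) (hodd : Odd (Nat.card C)) :
    IsZGroup C := by
  obtain ⟨L, _, _, H, hH, ⟨e⟩⟩ := Frobenius.exists_of_action φ hfpf
  haveI : IsZGroup H := ⟨fun p hp P => by
    haveI := Fact.mk hp
    rcases Frobenius.sylow_cyclic_or_quaternion hH p P with h | ⟨rfl, n, ⟨f⟩⟩
    · exact h
    · exfalso
      have h1 : Nat.card P ∣ Nat.card C := by
        rw [Nat.card_congr e.toEquiv]; exact Subgroup.card_subgroup_dvd_card _
      rw [Nat.card_congr f.toEquiv, Nat.card_eq_fintype_card, QuaternionGroup.card] at h1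
      exact (Nat.not_even_iff_odd.2 hodd) (even_iff_two_dvd.2 ((by omega : 2 ∣ 4 * 2 ^ n).trans h1))⟩
  exact IsZGroup.of_injective (f := e.toMonoidHom) e.injective


/-- If a finite group acts faithfully and doubly transitively, no non-identity element fixes three points, some
non-identity element fixes two points, and some normal subgroup acts regularly, then the number of points
is `2^p` with `p` prime. -/
theorem result {G Ω : Type*} [Group G]
    [MulAction G Ω] [Fintype Ω] [FaithfulSMul G Ω] (h2 : MulAction.IsMultiplyPretransitive G Ω 2)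
    (h3 : ∀ g : G, ∀ a b c : Ω, a ≠ b → b ≠ c → a ≠ c → g • a = a → g • b = b → g • c = c → g = 1)
    (hfix : ∃ g : G, g ≠ 1 ∧ ∃ a b : Ω, a ≠ b ∧ g • a = a ∧ g • b = b)
    (N : Subgroup G) [N.Normal] (hNt : MulAction.IsPretransitive N Ω)
    (hNr : ∀ a : Ω, MulAction.stabilizer N a = ⊥) :
    ∃ p : ℕ, p.Prime ∧ Fintype.card Ω = 2 ^ p := by
  classical
  haveI : Finite G := Finite.of_injective (MulAction.toPerm (α := G) (β := Ω))
    MulAction.toPerm_injective
  obtain ⟨g0, hg0, o, a, hoa, hg0o, hg0a⟩ := hfix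
  haveI : Nonempty Ω := ⟨o⟩
  obtain ⟨hNab, -⟩ := Perm.regular_normal_elementary h2 N hNr
  set e := Perm.regularEquiv hNt hNr o with he
  have hconj : ∀ (g : MulAction.stabilizer G o) (n : N),
      e (MulAut.conjNormal (g : G) n) = (g : G) • e n := by
    intro g n
    exact Perm.regularEquiv_conj hNt hNr g.2 n
  have he1 : e.symm o = 1 := by
    rw [Equiv.symm_apply_eq]
    show o = ((1 : N) : G) • o
    simp
  have he1' : e 1 = o := by rw [← he1, Equiv.apply_symm_apply]
  -- `G_o` acts on the other points as a Frobenius group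
  set L := MulAction.stabilizer G o with hL
  set X := SubMulAction.ofStabilizer G o with hX
  have hXmem : ∀ w : Ω, w ≠ o → w ∈ X := fun w hw => hw
  let aX : X := ⟨a, hXmem a hoa.symm⟩
  have hfixX : ∀ g : L, g ≠ 1 → ∀ u v : X, g • u = u → g • v = v → u = v := by
    intro g hg u v hu hv
    by_contra huv
    exact hg (Subtype.ext (h3 g o u v (fun h => u.2 h.symm) (fun h => huv (Subtype.ext h))
      (fun h => v.2 h.symm) g.2 (congrArg Subtype.val hu) (congrArg Subtype.val hv)))
  have htrX : ∀ u v : X, ∃ g : L, g • u = v := by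
    intro u v
    have h2' : ∀ {p q r s : Ω}, p ≠ q → r ≠ s → ∃ g : G, g • p = r ∧ g • q = s :=
      fun h h' => MulAction.is_two_pretransitive_iff.1 h2 h h'
    obtain ⟨g, hgo, hgu⟩ := h2' (p := o) (q := (u : Ω)) (r := o) (s := (v : Ω))
      (fun h => u.2 h.symm) (fun h => v.2 h.symm)
    exact ⟨⟨g, hgo⟩, Subtype.ext hgu⟩
  let g1 : L := ⟨g0, hg0o⟩
  have hg1 : g1 ≠ 1 := fun h => hg0 (congrArg Subtype.val h)
  have hg1a : g1 ∈ MulAction.stabilizer L aX := Subtype.ext hg0a
  have hHne : MulAction.stabilizer L aX ≠ ⊥ := fun h => by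
    rw [h, Subgroup.mem_bot] at hg1a; exact hg1 hg1a
  have hHtop : MulAction.stabilizer L aX ≠ ⊤ := by
    intro h
    have hall : ∀ u : X, u = aX := fun u => by
      obtain ⟨g, rfl⟩ := htrX aX u
      exact (h ▸ Subgroup.mem_top g : g ∈ MulAction.stabilizer L aX)
    have h2pts : ∀ w : Ω, w = o ∨ w = a := fun w => by
      by_cases hw : w = o
      · exact Or.inl hw
      · exact Or.inr (congrArg Subtype.val (hall ⟨w, hw⟩))
    exact hg0 (eq_of_smul_eq_smul fun w : Ω => by
      rcases h2pts w with rfl | rfl <;> simp [hg0o, hg0a])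
  have hH := Frobenius.stabilizer_isFrobeniusComplement hfixX aX hHne hHtop
  have hc := Frobenius.kernel_isComplement hH
  haveI := Frobenius.kernel_normal hH
  set K := Frobenius.kernel hH with hK
  have hKfree : ∀ k ∈ K, ∀ u : X, k • u = u → k = 1 := by
    intro k hk u hu
    have h1 : k ∈ (K : Set L) := hk
    rw [hK, Frobenius.coe_kernel, Frobenius.kernel_stabilizer_eq htrX] at h1
    exact h1.resolve_right fun h => h u hu
  have hKcard : Nat.card K = Nat.card X := by
    haveI : MulAction.IsPretransitive L X := ⟨htrX⟩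
    rw [← SetLike.coe_sort_coe, hK, Frobenius.coe_kernel hH, Frobenius.card_kernel hH,
      MulAction.index_stabilizer_of_transitive]
  have hKbij : Function.Bijective fun k : K => (k : L) • aX := by
    haveI := Fintype.ofFinite K
    haveI := Fintype.ofFinite X
    refine (Fintype.bijective_iff_injective_and_card _).2 ⟨fun k l hkl => ?_, by
      rw [← Nat.card_eq_fintype_card, ← Nat.card_eq_fintype_card, hKcard]⟩
    have h1 := hKfree ((l : L)⁻¹ * k) (mul_mem (inv_mem l.2) k.2) aX
      (by rw [mul_smul, show (k : L) • aX = (l : L) • aX from hkl, inv_smul_smul])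
    exact Subtype.ext (inv_mul_eq_one.1 h1).symm
  -- an element of prime order fixing `o` and `a`
  obtain ⟨r, hr, hrdvd⟩ := Nat.exists_prime_and_dvd
    (n := Nat.card (MulAction.stabilizer L aX)) (fun h => hHne (Subgroup.card_eq_one.1 h))
  haveI := Fact.mk hr
  obtain ⟨⟨h, hha⟩, hh⟩ := exists_prime_orderOf_dvd_card' r hrdvd
  rw [Subgroup.orderOf_mk] at hh
  have hh1 : h ≠ 1 := fun h' => by rw [h', orderOf_one] at hh; exact hr.ne_one hh.symm
  -- conjugation by `h` fixes only `1` in `K`, so `K` is commutative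
  have hKfpf : ∀ k : K, h * k * h⁻¹ = k → k = 1 := fun k hk =>
    Subtype.ext (Frobenius.fixedPointFree hH hc hha hh1 k.2 (mul_inv_eq_iff_eq_mul.1 hk))
  have hfixh : ∀ n : N, MulAut.conjNormal ((h : L) : G) n = n ↔ n = 1 ∨ n = e.symm a := by
    intro n
    rw [← e.injective.eq_iff, hconj, ← e.injective.eq_iff (b := (1 : N)),
      ← e.injective.eq_iff (b := e.symm a), he1', Equiv.apply_symm_apply]
    constructor
    · intro hfx
      by_contra hne
      push Not at hne
      exact hh1 (Subtype.ext (h3 (h : L) o a (e n) hoa hne.2.symm hne.1.symm h.2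
        (congrArg Subtype.val hha) hfx))
    · rintro (h' | h') <;> rw [h']
      · exact h.2
      · exact congrArg Subtype.val hha
  -- `N` has exponent two
  have hNcomm : ∀ x y : N, x * y = y * x := fun x y =>
    Subtype.ext (Perm.isMulCommutative_iff_comm.1 hNab x x.2 y y.2)
  set n1 : N := e.symm a with hn1
  have hn1ne : n1 ≠ 1 := fun h' => hoa (by rw [← he1', ← h', hn1, Equiv.apply_symm_apply])
  have hn1sq : n1 * n1 = 1 := by
    have h1 : MulAut.conjNormal ((h : L) : G) (n1 * n1) = n1 * n1 := by
      rw [map_mul, (hfixh n1).2 (Or.inr rfl)]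
    rcases (hfixh _).1 h1 with h' | h'
    · exact h'
    · exact absurd (mul_eq_left.1 h') hn1ne
  have htransN : ∀ n : N, n ≠ 1 → ∃ k : K, MulAut.conjNormal (((k : L) : G)) n1 = n := by
    intro n hn
    obtain ⟨k, hk⟩ := hKbij.2 ⟨e n, hXmem _ (fun h' => hn (e.injective (h'.trans he1'.symm)))⟩
    refine ⟨k, e.injective ?_⟩
    rw [hconj, hn1, Equiv.apply_symm_apply]
    exact congrArg Subtype.val hk
  have hsq : ∀ n : N, n * n = 1 := by
    intro n
    by_cases hn : n = 1
    · simp [hn]
    · obtain ⟨k, rfl⟩ := htransN n hn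
      rw [← map_mul, hn1sq, map_one]
  -- `K` is commutative
  haveI : Nontrivial N := ⟨n1, 1, hn1ne⟩
  haveI hKnt : Nontrivial K := by
    haveI : Nontrivial X := by
      by_contra hn
      haveI := not_nontrivial_iff_subsingleton.1 hn
      exact hHtop (eq_top_iff.2 fun g _ => Subsingleton.elim _ _)
    exact hKbij.2.nontrivial
  have hNodd : Odd (Nat.card K) := by
    have h2card : Nat.card Ω = Nat.card N := (Nat.card_congr e).symm
    have hXc : Nat.card X = Nat.card Ω - 1 := by
      have hc' := Set.ncard_compl ({o} : Set Ω)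
      rw [Set.ncard_singleton, ← Nat.card_coe_set_eq] at hc'
      exact hc'
    have heven : 2 ∣ Nat.card N := by
      have ho : orderOf n1 = 2 := orderOf_eq_prime (by rw [pow_two]; exact hn1sq) hn1ne
      exact ho ▸ orderOf_dvd_natCard n1
    have hpos : 0 < Nat.card N := Nat.card_pos
    rw [hKcard, hXc, h2card, Nat.odd_iff]
    omega
  haveI : IsZGroup K := by
    refine isZGroup_of_fpf ((MulAut.conjNormal (H := N)).comp (L.subtype.comp K.subtype)) ?_ hNodd
    intro k hk n hn
    by_contra hn'
    refine hk (Subtype.ext (hKfree k k.2 ⟨e n, hXmem _ fun h' => hn' (e.injective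
      (h'.trans he1'.symm))⟩ (Subtype.ext ?_)))
    show ((k : L) : G) • e n = e n
    rw [← hconj]
    exact congrArg e hn
  have hKcomm : ∀ x y : K, x * y = y * x := by
    let A := Subgroup.zpowers h
    letI : MulDistribMulAction A K :=
      MulDistribMulAction.compHom K ((MulAut.conjNormal (H := K)).comp A.subtype)
    have hcop : (Nat.card A).Coprime (Nat.card K) := by
      rw [Nat.card_zpowers, hh]
      have h1 := Frobenius.coprime_card_index hH
      rw [← SetLike.coe_sort_coe K, hK, Frobenius.coe_kernel hH, Frobenius.card_kernel hH]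
      exact Nat.Coprime.coprime_dvd_left hrdvd h1
    obtain ⟨hcyc, -, hcov, -⟩ := H76.zgroup_coprime_action (G := K) (A := A) hcop
    have htop : H76.actionCommutator K A = ⊤ := by
      refine eq_top_iff.2 fun k _ => ?_
      obtain ⟨w, hw, hfx⟩ := hcov k
      have h1 : k * w = 1 :=
        hKfpf _ (congrArg Subtype.val (hfx ⟨h, Subgroup.mem_zpowers h⟩))
      rw [eq_inv_of_mul_eq_one_left h1]
      exact inv_mem hw
    intro x y
    rw [htop] at hcyc
    haveI : IsCyclic K := (Subgroup.topEquiv (G := K)).isCyclic.1 hcyc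
    letI := IsCyclic.commGroup (α := K)
    exact mul_comm x y
  -- the field structure on `N`
  letI : CommGroup N := { (inferInstance : Group N) with mul_comm := hNcomm }
  let κ : N → K := fun n => if hn : n = 1 then 1 else (htransN n hn).choose
  have hκ : ∀ n, n ≠ 1 → MulAut.conjNormal (((κ n : L) : G)) n1 = n := by
    intro n hn
    simp only [κ, dif_neg hn]
    exact (htransN n hn).choose_spec
  have hκinj : ∀ k k' : K, MulAut.conjNormal (((k : L) : G)) n1 =
      MulAut.conjNormal (((k' : L) : G)) n1 → k = k' := by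
    intro k k' hkk
    apply hKbij.1
    apply Subtype.ext
    show ((k : L) : G) • a = ((k' : L) : G) • a
    have := congrArg e hkk
    rwa [hconj, hconj, hn1, Equiv.apply_symm_apply] at this
  let mu : Additive N → Additive N →+ Additive N := fun x =>
    if x = 0 then 0
    else MonoidHom.toAdditive (MulAut.conjNormal (((κ (Additive.toMul x) : L) : G))).toMonoidHom
  have hmu : ∀ x y : N, x ≠ 1 → mu (Additive.ofMul x) (Additive.ofMul y) =
      Additive.ofMul (MulAut.conjNormal (((κ x : L) : G)) y) := by
    intro x y hx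
    have : (Additive.ofMul x : Additive N) ≠ 0 := hx
    simp only [mu, if_neg this]
    rfl
  have hmu0 : ∀ y, mu 0 y = 0 := fun y => by simp [mu]
  have hne : ∀ (k : K) (x : N), x ≠ 1 → MulAut.conjNormal (((k : L) : G)) x ≠ 1 := by
    intro k x hx
    exact fun h' => hx ((map_eq_one_iff _ (MulAut.conjNormal (((k : L) : G))).injective).1 h')
  have hκmul : ∀ x y : N, x ≠ 1 → y ≠ 1 →
      κ (MulAut.conjNormal (((κ x : L) : G)) y) = κ x * κ y := by
    intro x y hx hy
    apply hκinj
    rw [hκ _ (hne _ _ hy), Subgroup.coe_mul, Subgroup.coe_mul, map_mul, MulAut.mul_apply,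
      hκ y hy]
  have hcommN : ∀ x y : N, x ≠ 1 → y ≠ 1 → MulAut.conjNormal (((κ x : L) : G)) y =
      MulAut.conjNormal (((κ y : L) : G)) x := by
    intro x y hx hy
    conv_lhs => rw [← hκ y hy]
    conv_rhs => rw [← hκ x hx]
    rw [← MulAut.mul_apply, ← MulAut.mul_apply, ← map_mul, ← map_mul, ← Subgroup.coe_mul,
      ← Subgroup.coe_mul, ← Subgroup.coe_mul, ← Subgroup.coe_mul, hKcomm]
  have hcard : Nat.card (Additive N) = 2 ^ r := by
    refine H28.card_eq_two_pow_of_field_aut mu (Additive.ofMul n1) hn1ne ?_ ?_ ?_ ?_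
      (MulEquiv.toAdditive (MulAut.conjNormal ((h : L) : G) : N ≃* N)) ?_ ?_ hr ?_ ?_
    · intro x y
      by_cases hx : x = 0
      · subst hx; rw [hmu0, map_zero]
      by_cases hy : y = 0
      · subst hy; rw [hmu0, map_zero]
      obtain ⟨x, rfl⟩ := Additive.ofMul.surjective x
      obtain ⟨y, rfl⟩ := Additive.ofMul.surjective y
      rw [hmu x y hx, hmu y x hy, hcommN x y hx hy]
    · intro x y z
      by_cases hx : x = 0
      · subst hx; simp [hmu0]
      by_cases hy : y = 0
      · subst hy; simp [hmu0]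
      obtain ⟨x, rfl⟩ := Additive.ofMul.surjective x
      obtain ⟨y, rfl⟩ := Additive.ofMul.surjective y
      obtain ⟨z, rfl⟩ := Additive.ofMul.surjective z
      rw [hmu x y hx, hmu _ z (hne (κ x) y hy : MulAut.conjNormal (((κ x : L) : G)) y ≠ 1),
        hmu y z hy, hmu x _ hx, hκmul x y hx hy,
        Subgroup.coe_mul, Subgroup.coe_mul, map_mul, MulAut.mul_apply]
    · intro x
      obtain ⟨x, rfl⟩ := Additive.ofMul.surjective x
      rw [hmu n1 x hn1ne]
      have : κ n1 = 1 := hκinj _ _ (by rw [hκ n1 hn1ne]; simp)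
      rw [this]; simp
    · intro x hx
      obtain ⟨x, rfl⟩ := Additive.ofMul.surjective x
      refine ⟨Additive.ofMul (MulAut.conjNormal ((((κ x)⁻¹ : K) : L) : G) n1), ?_⟩
      rw [hmu x _ hx, ← MulAut.mul_apply, ← map_mul, ← Subgroup.coe_mul, ← Subgroup.coe_mul,
        mul_inv_cancel]
      simp
    · intro x y
      by_cases hx : x = 0
      · subst hx; simp [hmu0]
      obtain ⟨x, rfl⟩ := Additive.ofMul.surjective x
      obtain ⟨y, rfl⟩ := Additive.ofMul.surjective y
      have hx' : MulAut.conjNormal ((h : L) : G) x ≠ 1 :=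
        fun h' => hx ((map_eq_one_iff _ (MulAut.conjNormal ((h : L) : G)).injective).1 h')
      show _ = mu (Additive.ofMul (MulAut.conjNormal ((h : L) : G) x))
        (Additive.ofMul (MulAut.conjNormal ((h : L) : G) y))
      rw [hmu x y hx, hmu _ _ hx']
      show Additive.ofMul (MulAut.conjNormal ((h : L) : G)
        (MulAut.conjNormal (((κ x : L) : G)) y)) = _
      congr 1
      have hk : κ (MulAut.conjNormal ((h : L) : G) x) = MulAut.conjNormal h (κ x) := by
        apply hκinj
        rw [hκ _ hx', MulAut.conjNormal_apply, Subgroup.coe_mul, Subgroup.coe_mul,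
          Subgroup.coe_inv, map_mul, map_mul, MulAut.mul_apply, MulAut.mul_apply]
        have : MulAut.conjNormal (((h : L) : G))⁻¹ n1 = n1 := by
          rw [map_inv, MulAut.inv_apply, MulEquiv.symm_apply_eq]
          exact ((hfixh n1).2 (Or.inr rfl)).symm
        rw [this, hκ x hx]
      rw [hk, MulAut.conjNormal_apply, Subgroup.coe_mul, Subgroup.coe_mul, Subgroup.coe_inv,
        map_mul, map_mul, MulAut.mul_apply, MulAut.mul_apply, map_inv, MulAut.inv_apply,
        MulEquiv.symm_apply_apply]
    · by_contra hall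
      push Not at hall
      obtain ⟨k, hk1⟩ := exists_ne (1 : K)
      have hkn : MulAut.conjNormal (((k : L) : G)) n1 ≠ n1 := fun h' =>
        hk1 (hκinj k 1 (by rw [h']; simp))
      rcases (hfixh _).1 (hall (Additive.ofMul (MulAut.conjNormal (((k : L) : G)) n1))) with
        h' | h'
      · exact hne k n1 hn1ne h'
      · exact hkn h'
    · intro x
      obtain ⟨x, rfl⟩ := Additive.ofMul.surjective x
      have hiter : ∀ (m : ℕ) (y : N),
          (⇑(MulEquiv.toAdditive (MulAut.conjNormal ((h : L) : G) : N ≃* N)))^[m]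
            (Additive.ofMul y) = Additive.ofMul ((MulAut.conjNormal (((h ^ m : L) : G))) y) := by
        intro m
        induction m with
        | zero => intro y; simp
        | succ m ih =>
          intro y
          rw [Function.iterate_succ_apply', ih, pow_succ', Subgroup.coe_mul, map_mul]
          rfl
      rw [hiter, ← hh, pow_orderOf_eq_one]
      simp
    · intro x
      obtain ⟨x, rfl⟩ := Additive.ofMul.surjective x
      exact hfixh x
  refine ⟨r, hr, ?_⟩
  rw [← Nat.card_eq_fintype_card, ← Nat.card_congr e]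
  exact hcard

end Cfsg.Agent.S0341
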