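import Cfsg.Statements.S4681
import Cfsg.Agent.H83.PrincipalPair

set_option autoImplicit false
open Cfsg

namespace Cfsg.Agent.S4681

/-- Fix a prime p and a maximal ideal M of the algebraic integers containing p. Let B₀ be the principal p-block of the finite group G, P a Sylow p-subgroup and e₀ the principal p-block of C_G(P). Then (P, e₀) is a maximal Brauer pair of B₀, and the fusion system of B₀ on (P, e₀) is the fusion system of G on P: its maps from each subgroup of P are exactly the conjugation maps into P by elements of G. -/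
theorem result {G : Type*} [Group G] [Fintype G] (p : ℕ) [Fact p.Prime] (M : Ideal Cfsg.AlgInt) (hM : Cfsg.IsPModular p M) (S : Sylow p G) : Cfsg.IsMaximalBrauerPair p M (Cfsg.principalBlock M G) (S : Subgroup G) (Cfsg.principalBlock M (Subgroup.centralizer ((S : Subgroup G) : Set G))) ∧ ∀ F : Cfsg.FusionSystem (S : Subgroup G), Cfsg.IsBlockFusionSystemOn p M (Cfsg.principalBlock M G) (S : Subgroup G) (Cfsg.principalBlock M (Subgroup.centralizer ((S : Subgroup G) : Set G))) F → ∀ Q : Subgroup G, F.Hom Q = (Cfsg.groupFusionSystem (S : Subgroup G)).Hom Q := by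
  haveI : Finite G := inferInstance
  have hS : IsPGroup p (S : Subgroup G) := S.isPGroup'
  refine ⟨⟨H82.isBrauerPairOf_principalBlock hM hS, fun R g hRg hle => ?_⟩, fun F hF Q => ?_⟩
  · exact S.is_maximal' hRg.1.1 (H83.le_of_subpairLE hle)
  · ext φ
    rw [hF.2 Q φ]
    constructor
    · rintro ⟨hQ, g, hφ, hg, -⟩
      refine ⟨hQ, fun x => ?_, g, hφ⟩
      rw [hφ x]
      exact hg ⟨x, x.2, rfl⟩
    · rintro ⟨hQ, hφS, g, hφ⟩
      have hg : Q.map (MulAut.conj g).toMonoidHom ≤ (S : Subgroup G) := by
        rintro _ ⟨x, hx, rfl⟩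
        have h := hφS ⟨x, hx⟩
        rwa [hφ] at h
      refine ⟨hQ, g, hφ, hg, _, H83.subpairLE_principalBlock hM hS hQ, ?_⟩
      rw [H83.conjBlock_principalBlock Q g]
      exact H83.subpairLE_principalBlock hM hS hg

end Cfsg.Agent.S4681
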