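import Cfsg.Statements.S4626
import Cfsg.Agent.H82.PrincipalBlock

set_option autoImplicit false
open Cfsg

namespace Cfsg.Agent.S4626

/-- Let G be a finite group, p a prime, M a maximal ideal of the algebraic integers containing p, P a Sylow p-subgroup of G and N a normal subgroup of index prime to p containing the centralizer C_G(P). Then every irreducible character of G whose kernel contains N lies in the principal p-block of G. -/
theorem result {G : Type*} [Group G] [Finite G] (p : ℕ) [Fact p.Prime] (M : Ideal Cfsg.AlgInt) (hM : Cfsg.IsPModular p M) (P : Sylow p G) (N : Subgroup G) [N.Normal] (hidx : ¬ p ∣ N.index)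
    (hC : Subgroup.centralizer ((P : Subgroup G) : Set G) ≤ N) (χ : Cfsg.IrrCharacter G) (hker : ∀ n ∈ N, (χ : G → ℂ) n = (χ : G → ℂ) 1) :
    χ ∈ Cfsg.principalBlock M G := by
  cases nonempty_fintype G
  rw [H82.mem_principalBlock_iff]
  intro g
  set C := Subgroup.centralizer ({g} : Set G) with hCdef
  by_cases hd : p ∣ C.index
  · obtain ⟨hdeg, -⟩ := H83.charDegree_eq χ.2
    have hp' : ¬ p ∣ Cfsg.charDegree (χ : G → ℂ) := fun h =>
      hidx (h.trans (H82.charDegree_dvd_index N χ.2 hker))
    rw [Cfsg.centralChar]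
    refine BlockBasic.memLocalIdeal_sub hM ((BlockBasic.memLocalIdeal_natCast_iff hM _).mpr hd) ?_
    rw [hdeg, show ((C.index : ℂ) * (χ : G → ℂ) g / (Cfsg.charDegree (χ : G → ℂ) : ℂ)) =
      ((χ : G → ℂ) g * (Cfsg.charDegree (χ : G → ℂ) : ℂ)⁻¹) * (C.index : ℂ) by ring]
    exact BlockBasic.memLocalIdeal_mul hM
      (BlockBasic.memLocalRing_mul hM
        (BlockBasic.memLocalRing_of_isIntegral hM (H83.irr_isIntegral χ.2 g))
        (BlockBasic.memLocalRing_natCast_inv hM hp'))
      ((BlockBasic.memLocalIdeal_natCast_iff hM _).mpr hd)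
  · obtain ⟨S, hS⟩ := H82.exists_sylow_le_centralizer (p := p) hd
    obtain ⟨h, rfl⟩ := MulAction.exists_smul_eq G P S
    have hmem : h⁻¹ * g * h ∈ Subgroup.centralizer ((P : Subgroup G) : Set G) := by
      rw [Subgroup.mem_centralizer_iff]
      intro x hx
      have h1 : h * x * h⁻¹ ∈ Subgroup.centralizer ({g} : Set G) :=
        hS ⟨x, hx, rfl⟩
      rw [Subgroup.mem_centralizer_singleton_iff] at h1
      calc x * (h⁻¹ * g * h) = h⁻¹ * ((h * x * h⁻¹) * g) * h := by group
        _ = h⁻¹ * (g * (h * x * h⁻¹)) * h := by rw [h1]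
        _ = h⁻¹ * g * h * x := by group
    have hg : g ∈ N := by
      have := ‹N.Normal›.conj_mem _ (hC hmem) h
      simpa [mul_assoc] using this
    rw [Cfsg.centralChar, hker g hg, mul_div_assoc, div_self (CharBasic.IsIrr.one_ne_zero χ.2),
      mul_one, sub_self]
    exact BlockBasic.memLocalIdeal_zero hM

end Cfsg.Agent.S4626
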