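import Cfsg.Statements.S0708
import Mathlib

set_option autoImplicit false
open Cfsg

namespace Cfsg.Agent.S0708

open MulAction

/-- An embedding of four pointwise distinct points. -/
private def quad {α : Type*} (a b c d : α) (h1 : a ≠ b) (h2 : a ≠ c) (h3 : a ≠ d) (h4 : b ≠ c)
    (h5 : b ≠ d) (h6 : c ≠ d) : Fin 4 ↪ α :=
  ⟨![a, b, c, d], by
    intro i j h
    fin_cases i <;> fin_cases j <;> simp_all [eq_comm]⟩

/-- Tits' argument: a sharply 4-transitive group (no finiteness assumed) has finite degree at most 11, and at most 6 when the degree is even. -/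
theorem result {G : Type*} [Group G] {Ω : Type*} [MulAction G Ω] (h4 : MulAction.IsMultiplyPretransitive G Ω 4) (hsharp : ∀ x : Fin 4 ↪ Ω, MulAction.stabilizer G x = ⊥) (hne : Nonempty (Fin 4 ↪ Ω)) : Finite Ω ∧ Nat.card Ω ≤ 11 ∧ (Even (Nat.card Ω) → Nat.card Ω ≤ 6) := by
  classical
  obtain ⟨x⟩ := hne
  have hne' : ∀ i j : Fin 4, i ≠ j → x i ≠ x j := fun i j h e => h (x.injective e)
  -- elements agreeing on four points are equal
  have rigid : ∀ (g h : G) (a b c d : Ω), a ≠ b → a ≠ c → a ≠ d → b ≠ c → b ≠ d → c ≠ d →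
      g • a = h • a → g • b = h • b → g • c = h • c → g • d = h • d → g = h := by
    intro g h a b c d h1 h2 h3 h4' h5 h6 ea eb ec ed
    have hs : h⁻¹ * g ∈ stabilizer G (quad a b c d h1 h2 h3 h4' h5 h6) := by
      rw [mem_stabilizer_iff]
      ext i
      simp only [Function.Embedding.smul_apply, mul_smul, inv_smul_eq_iff]
      fin_cases i
      exacts [ea, eb, ec, ed]
    rw [hsharp, Subgroup.mem_bot, inv_mul_eq_one] at hs
    exact hs.symm
  have move : ∀ (a b c d a' b' c' d' : Ω), a ≠ b → a ≠ c → a ≠ d → b ≠ c → b ≠ d → c ≠ d →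
      a' ≠ b' → a' ≠ c' → a' ≠ d' → b' ≠ c' → b' ≠ d' → c' ≠ d' →
      ∃ g : G, g • a = a' ∧ g • b = b' ∧ g • c = c' ∧ g • d = d' := by
    intro a b c d a' b' c' d' h1 h2 h3 h4' h5 h6 k1 k2 k3 k4 k5 k6
    obtain ⟨g, hg⟩ := (isMultiplyPretransitive_iff.mp h4) (quad a b c d h1 h2 h3 h4' h5 h6)
      (quad a' b' c' d' k1 k2 k3 k4 k5 k6)
    exact ⟨g, DFunLike.congr_fun hg 0, DFunLike.congr_fun hg 1, DFunLike.congr_fun hg 2,
      DFunLike.congr_fun hg 3⟩
  have h01 := hne' 0 1 (by decide)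
  have h02 := hne' 0 2 (by decide)
  have h03 := hne' 0 3 (by decide)
  have h12 := hne' 1 2 (by decide)
  have h13 := hne' 1 3 (by decide)
  have h23 := hne' 2 3 (by decide)
  obtain ⟨t, t0, t1, t2, t3⟩ := move (x 0) (x 1) (x 2) (x 3) (x 0) (x 1) (x 3) (x 2)
    h01 h02 h03 h12 h13 h23 h01 h03 h02 h13 h12 h23.symm
  have tt : t * t = 1 := rigid _ _ (x 0) (x 1) (x 2) (x 3) h01 h02 h03 h12 h13 h23
    (by rw [mul_smul, t0, t0, one_smul]) (by rw [mul_smul, t1, t1, one_smul])
    (by rw [mul_smul, t2, t3, one_smul]) (by rw [mul_smul, t3, t2, one_smul])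
  have tts : ∀ z : Ω, t • t • z = z := fun z => by rw [smul_smul, tt, one_smul]
  set F : Set Ω := {z | t • z = z} with hF
  have hsub : ∀ s : Finset Ω, (s : Set Ω) ⊆ F → s.card ≤ 3 := by
    intro s hs
    by_contra hc
    obtain ⟨u, hu, huc⟩ := Finset.exists_subset_card_eq (s := s) (n := 4) (by omega)
    let e := (u.equivFinOfCardEq huc).symm
    have hh : ∀ i, t • (e i : Ω) = (e i : Ω) := fun i => hs (hu (e i).2)
    have hd : ∀ i j : Fin 4, i ≠ j → (e i : Ω) ≠ e j := fun i j h he => h (e.injective (Subtype.ext he))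
    have ht1 : t = 1 := rigid t 1 (e 0) (e 1) (e 2) (e 3) (hd 0 1 (by decide)) (hd 0 2 (by decide))
      (hd 0 3 (by decide)) (hd 1 2 (by decide)) (hd 1 3 (by decide)) (hd 2 3 (by decide))
      (by rw [hh, one_smul]) (by rw [hh, one_smul]) (by rw [hh, one_smul]) (by rw [hh, one_smul])
    rw [ht1, one_smul] at t2
    exact h23 t2
  have hFfin : F.Finite := by
    by_contra hinf
    obtain ⟨s, hs, hsc⟩ := Set.Infinite.exists_subset_card_eq hinf 4
    have := hsub s hs
    omega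
  haveI := hFfin.to_subtype
  cases nonempty_fintype F
  have hFle : Nat.card F ≤ 3 := by
    have h := hsub hFfin.toFinset (by simp)
    rwa [← Set.ncard_eq_toFinset_card _ hFfin, ← Nat.card_coe_set_eq] at h
  -- the other moved points inject into the permutations of the fixed points
  set A : Set Ω := {z | t • z ≠ z ∧ z ≠ x 2 ∧ z ≠ x 3} with hA
  have hinj : ∃ φ : A → Equiv.Perm F, Function.Injective φ := by
    rcases isEmpty_or_nonempty A with hE | ⟨⟨b₀, hb₀⟩⟩
    · exact ⟨fun _ => 1, fun u => isEmptyElim u⟩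
    have ok : ∀ b ∈ A, x 2 ≠ t • b ∧ x 3 ≠ t • b := fun b hb =>
      ⟨fun h => hb.2.2 (by rw [← tts b, ← h, t2]), fun h => hb.2.1 (by rw [← tts b, ← h, t3])⟩
    have hg : ∀ b : A, ∃ g : G, g • x 2 = x 2 ∧ g • x 3 = x 3 ∧ g • b₀ = b ∧ g • t • b₀ = t • (b : Ω) :=
      fun b => move _ _ _ _ _ _ _ _ h23 hb₀.2.1.symm (ok b₀ hb₀).1 hb₀.2.2.symm (ok b₀ hb₀).2
        hb₀.1.symm h23 b.2.2.1.symm (ok b b.2).1 b.2.2.2.symm (ok b b.2).2 b.2.1.symm
    choose g g2 g3 gb gtb using hg
    have hcomm : ∀ b, t * g b = g b * t := by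
      intro b
      refine rigid _ _ (x 2) (x 3) b₀ (t • b₀) h23 hb₀.2.1.symm (ok b₀ hb₀).1 hb₀.2.2.symm
        (ok b₀ hb₀).2 hb₀.1.symm ?_ ?_ ?_ ?_
      · rw [mul_smul, mul_smul, g2, t2, g3]
      · rw [mul_smul, mul_smul, g3, t3, g2]
      · rw [mul_smul, mul_smul, gb, gtb]
      · rw [mul_smul, mul_smul, gtb, tts, tts, gb]
    have hmem : ∀ b z, z ∈ F ↔ g b • z ∈ F := by
      intro b z
      show t • z = z ↔ t • g b • z = g b • z
      rw [smul_smul, hcomm, mul_smul, smul_left_cancel_iff]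
    refine ⟨fun b => (MulAction.toPerm (g b)).subtypePerm (fun z => (hmem b z).symm), fun b c hbc => ?_⟩
    have hF0 : x 0 ∈ F := t0
    have hF1 : x 1 ∈ F := t1
    simp only at hbc
    have e0 : g b • x 0 = g c • x 0 := by
      exact congrArg Subtype.val (DFunLike.congr_fun hbc ⟨x 0, hF0⟩)
    have e1 : g b • x 1 = g c • x 1 := by
      exact congrArg Subtype.val (DFunLike.congr_fun hbc ⟨x 1, hF1⟩)
    have hgg : g b = g c := rigid _ _ (x 0) (x 1) (x 2) (x 3) h01 h02 h03 h12 h13 h23 e0 e1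
      (by rw [g2, g2]) (by rw [g3, g3])
    exact Subtype.ext (by rw [← gb b, hgg, gb c])
  obtain ⟨φ, hφ⟩ := hinj
  have hAfin : A.Finite := Set.finite_coe_iff.mp (Finite.of_injective φ hφ)
  have huniv : (Set.univ : Set Ω) = F ∪ ({x 2, x 3} ∪ A) := by
    refine (Set.eq_univ_of_forall fun z => ?_).symm
    by_cases h : t • z = z
    · exact Or.inl h
    by_cases h2' : z = x 2
    · exact Or.inr (Or.inl (Or.inl h2'))
    by_cases h3' : z = x 3
    · exact Or.inr (Or.inl (Or.inr h3'))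
    exact Or.inr (Or.inr ⟨h, h2', h3'⟩)
  have hfinΩ : Finite Ω := Set.finite_univ_iff.mp
    (huniv ▸ hFfin.union ((Set.toFinite _).union hAfin))
  refine ⟨hfinΩ, ?_⟩
  haveI := hfinΩ
  have hAle : Nat.card A ≤ (Nat.card F).factorial := by
    rw [← Nat.card_perm]
    exact Nat.card_le_card_of_injective φ hφ
  have hF2 : 2 ≤ Nat.card F := by
    refine le_trans ?_ (Nat.card_le_card_of_injective
      (fun i : Fin 2 => (![⟨x 0, t0⟩, ⟨x 1, t1⟩] : Fin 2 → F) i) (fun i j h => ?_))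
    · simp
    fin_cases i <;> fin_cases j
    · rfl
    · exact absurd (congrArg Subtype.val h) h01
    · exact absurd (congrArg Subtype.val h) h01.symm
    · rfl
  have hn : Nat.card Ω ≤ Nat.card F + (2 + Nat.card A) := by
    rw [← Set.ncard_univ, huniv, Nat.card_coe_set_eq, Nat.card_coe_set_eq]
    refine (Set.ncard_union_le _ _).trans (Nat.add_le_add_left ((Set.ncard_union_le _ _).trans ?_) _)
    exact Nat.add_le_add_right (Set.ncard_pair h23).le _
  -- parity
  have hpar : Nat.card Ω ≡ Nat.card F [MOD 2] := by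
    haveI : Fact (Nat.Prime 2) := ⟨Nat.prime_two⟩
    have h2g : IsPGroup 2 (Subgroup.zpowers t) := by
      intro u
      obtain ⟨m, hm⟩ := Subgroup.mem_zpowers_iff.mp u.2
      refine ⟨1, Subtype.ext ?_⟩
      rw [pow_one, SubmonoidClass.coe_pow, ← hm, ← zpow_natCast, ← zpow_mul, mul_comm, zpow_mul,
        zpow_natCast, pow_two, tt, one_zpow]
      rfl
    have h := h2g.card_modEq_card_fixedPoints Ω
    suffices he : Nat.card (fixedPoints (Subgroup.zpowers t) Ω) = Nat.card F by rwa [he] at h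
    refine Nat.card_congr (Equiv.subtypeEquivRight fun z => ?_)
    constructor
    · intro h; exact h ⟨t, Subgroup.mem_zpowers t⟩
    · rintro h ⟨c, hc⟩
      obtain ⟨k, rfl⟩ := Subgroup.mem_zpowers_iff.mp hc
      exact MulAction.mem_stabilizer_iff.mp (zpow_mem (show t ∈ stabilizer G z from h) k)
  refine ⟨?_, fun hev => ?_⟩
  · have := Nat.factorial_le hFle
    have h6 : Nat.factorial 3 = 6 := rfl
    omega
  · have h2' : Nat.card F = 2 := by
      rw [Nat.even_iff] at hev
      unfold Nat.ModEq at hpar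
      omega
    have h2f : Nat.factorial 2 = 2 := rfl
    rw [h2', h2f] at hAle
    omega

end Cfsg.Agent.S0708
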