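import Cfsg.Statements.S0494
import Cfsg.Agent.H66.OrderSixty

set_option autoImplicit false
open Cfsg

namespace Cfsg.Agent.S0494

/-- A simple group of order 60 is isomorphic to the alternating group of degree 5. -/
theorem result {G : Type*} [Group G] [Finite G] [IsSimpleGroup G]
    (h : Nat.card G = 60) : Nonempty (G ≃* alternatingGroup (Fin 5)) := by
  refine H66.iso_altFive h fun h1 => ?_
  have : Fact (Nat.Prime 5) := ⟨by norm_num⟩
  let P : Sylow 5 G := default
  have hN : Subgroup.normalizer ((P : Subgroup G) : Set G) = ⊤ := by
    have h2 := Sylow.card_eq_index_normalizer P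
    rw [h1] at h2
    exact Subgroup.index_eq_one.1 h2.symm
  have hP : Nat.card P = 5 := by
    rw [P.card_eq_multiplicity, h, show (60 : ℕ) = 5 * 12 from rfl,
      Nat.factorization_mul (by norm_num) (by norm_num), Finsupp.add_apply,
      Nat.Prime.factorization_self (by norm_num), Nat.factorization_eq_zero_of_not_dvd (by norm_num)]
    simp
  rcases (Subgroup.normalizer_eq_top_iff.1 hN).eq_bot_or_eq_top with h2 | h2
  · change Nat.card (P : Subgroup G) = 5 at hP
    rw [h2, Subgroup.card_bot] at hP
    omega
  · change Nat.card (P : Subgroup G) = 5 at hP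
    rw [h2, Subgroup.card_top, h] at hP
    omega

end Cfsg.Agent.S0494
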