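import Cfsg.Agent.S3276
import Cfsg.Statements.S3279
-- import your own Cfsg.Agent.* helpers here

set_option autoImplicit false
open Cfsg

namespace Cfsg.Agent.S3279

open Cfsg.Agent.H65

variable {G : Type*} [Group G] [Finite G]

theorem set_of_three {x y : G} (hx : orderOf x = 2) (hy : orderOf y = 2) (hxy : Commute x y)
    (hne : x ≠ y) (h3 : Nat.card {u : ↥(Subgroup.centralizer ({x} : Set G)) // orderOf u = 2} ≤ 3) :
    ∀ u : G, orderOf u = 2 → Commute u x → u = x ∨ u = y ∨ u = x * y := by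
  have hsub : {u : G | orderOf u = 2 ∧ Commute u x}.ncard ≤ 3 := by
    refine le_trans ?_ h3
    rw [← Nat.card_coe_set_eq]
    refine Nat.card_le_card_of_injective
      (fun u => ⟨⟨u.1, Subgroup.mem_centralizer_singleton_iff.2 u.2.2⟩,
        (Subgroup.orderOf_mk _ _).trans u.2.1⟩) ?_
    intro a b h
    exact Subtype.ext (congrArg (fun z => (z.1 : G)) h)
  intro u hu hux
  by_contra hc
  push Not at hc
  obtain ⟨h1, h2, h4⟩ := hc
  have hxy2 := orderOf_mul_two hx hy hxy hne
  have hle : ({u, x, y, x * y} : Set G) ⊆ {u : G | orderOf u = 2 ∧ Commute u x} := by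
    rintro v (rfl | rfl | rfl | rfl)
    · exact ⟨hu, hux⟩
    · exact ⟨hx, Commute.refl _⟩
    · exact ⟨hy, hxy.symm⟩
    · exact ⟨hxy2, (Commute.refl x).mul_left hxy.symm⟩
  have hy1 : x ≠ x * y := fun h => ne_one_of_orderOf hy (mul_eq_left.1 h.symm)
  have hx1 : y ≠ x * y := fun h => ne_one_of_orderOf hx (mul_eq_right.1 h.symm)
  have h5 : ({u, x, y, x * y} : Set G).ncard = 4 := by
    rw [Set.ncard_insert_of_notMem (by simp [h1, h2, h4]),
      Set.ncard_insert_of_notMem (by simp [hne, hy1]), Set.ncard_pair hx1]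
  have := Set.ncard_le_ncard hle
  omega

theorem two_central_of_three {x : G} (hx : orderOf x = 2)
    (hfix : ∀ u : G, orderOf u = 2 → Commute u x → IsConj x u → u = x) (S : Sylow 2 G)
    (hxS : x ∈ (S : Subgroup G)) : (S : Subgroup G) ≤ Subgroup.centralizer ({x} : Set G) := by
  haveI : Fact (Nat.Prime 2) := ⟨Nat.prime_two⟩
  haveI : Group.IsNilpotent ↥(S : Subgroup G) := S.isPGroup'.isNilpotent
  set C : Subgroup ↥(S : Subgroup G) := Subgroup.centralizer {⟨x, hxS⟩}
  by_contra hS
  have hC : C < ⊤ := lt_top_iff_ne_top.2 fun h => hS fun s hs => by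
    have : (⟨s, hs⟩ : ↥(S : Subgroup G)) ∈ C := by rw [h]; trivial
    exact Subgroup.mem_centralizer_singleton_iff.2
      (congrArg Subtype.val (Subgroup.mem_centralizer_singleton_iff.1 this))
  have hlt := normalizerCondition_of_isNilpotent C hC
  obtain ⟨n, hn, hnC⟩ := SetLike.exists_of_lt hlt
  have hxC : (⟨x, hxS⟩ : ↥(S : Subgroup G)) ∈ C := Subgroup.mem_centralizer_singleton_iff.2 rfl
  have h1 := (Subgroup.mem_normalizer_iff.1 hn ⟨x, hxS⟩).1 hxC
  have h2 : Commute ((n : G) * x * (n : G)⁻¹) x := by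
    have := congrArg Subtype.val (Subgroup.mem_centralizer_singleton_iff.1 h1)
    exact this
  have h3 := hfix _ ((orderOf_conj' _ x).trans hx) h2 (isConj_iff.2 ⟨n, rfl⟩)
  refine hnC (Subgroup.mem_centralizer_singleton_iff.2 (Subtype.ext ?_))
  exact mul_inv_eq_iff_eq_mul.1 h3

theorem exists_sylow_mem {a b : G} (ha : orderOf a = 2) (hb : orderOf b = 2) (hab : Commute a b) :
    ∃ S : Sylow 2 G, a ∈ (S : Subgroup G) ∧ b ∈ (S : Subgroup G) := by
  haveI : Fact (Nat.Prime 2) := ⟨Nat.prime_two⟩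
  have hcomm : ∀ p ∈ ({a, b} : Set G), ∀ q ∈ ({a, b} : Set G), p * q = q * p := by
    rintro p (rfl | rfl) q (rfl | rfl)
    · rfl
    · exact hab.eq
    · exact hab.eq.symm
    · rfl
  have hc := Subgroup.isMulCommutative_closure hcomm
  have hsq : ∀ c ∈ Subgroup.closure ({a, b} : Set G), c ^ 2 = 1 := by
    intro c hc'
    induction hc' using Subgroup.closure_induction with
    | mem c hc' =>
      rcases hc' with rfl | rfl
      · rw [← ha, pow_orderOf_eq_one]
      · rw [← hb, pow_orderOf_eq_one]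
    | one => exact one_pow 2
    | mul p q hp hq ihp ihq =>
      have hpq : Commute p q := congrArg Subtype.val (hc.is_comm.comm ⟨p, hp⟩ ⟨q, hq⟩)
      rw [hpq.mul_pow, ihp, ihq, one_mul]
    | inv c _ ih => rw [inv_pow, ih, inv_one]
  have hp : IsPGroup 2 ↥(Subgroup.closure ({a, b} : Set G)) := fun c =>
    ⟨1, Subtype.ext (by simpa using hsq c c.2)⟩
  obtain ⟨S, hS⟩ := hp.exists_le_sylow
  exact ⟨S, hS (Subgroup.subset_closure (Or.inl rfl)), hS (Subgroup.subset_closure (Or.inr rfl))⟩

theorem commute_conj_iff (g a b : G) :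
    Commute (g * a * g⁻¹) (g * b * g⁻¹) ↔ Commute a b :=
  ⟨fun h => by
      have := h.map (MulAut.conj g⁻¹).toMonoidHom
      simp only [MulEquiv.coe_toMonoidHom, MulAut.conj_apply] at this
      rwa [show g⁻¹ * (g * a * g⁻¹) * g⁻¹⁻¹ = a by group,
        show g⁻¹ * (g * b * g⁻¹) * g⁻¹⁻¹ = b by group] at this,
    fun h => h.map (MulAut.conj g).toMonoidHom⟩

/-- If `x` is fixed by fusion inside its centralizer, every commuting pair of involutions is
conjugate to a pair of involutions of the centralizer of `x`. -/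
theorem pair_conj {x : G} (hx : orderOf x = 2)
    (hfix : ∀ u : G, orderOf u = 2 → Commute u x → IsConj x u → u = x)
    {a b : G} (ha : orderOf a = 2) (hb : orderOf b = 2) (hab : Commute a b) :
    ∃ g : G, Commute (g * a * g⁻¹) x ∧ Commute (g * b * g⁻¹) x := by
  haveI : Fact (Nat.Prime 2) := ⟨Nat.prime_two⟩
  obtain ⟨S, hS⟩ : ∃ S : Sylow 2 G, x ∈ (S : Subgroup G) :=
    (exists_sylow_mem hx hx (Commute.refl x)).imp fun _ h => h.1
  have hle := two_central_of_three hx hfix S hS
  obtain ⟨R, haR, hbR⟩ := exists_sylow_mem ha hb hab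
  obtain ⟨g, hg⟩ := MulAction.exists_smul_eq G R S
  refine ⟨g, ?_, ?_⟩
  · refine Subgroup.mem_centralizer_singleton_iff.1 (hle ?_)
    rw [← hg]
    exact Subgroup.smul_mem_pointwise_smul a (MulAut.conj g) _ haR
  · refine Subgroup.mem_centralizer_singleton_iff.1 (hle ?_)
    rw [← hg]
    exact Subgroup.smul_mem_pointwise_smul b (MulAut.conj g) _ hbR

theorem not_all_commute [IsSimpleGroup G] {y w : G} (hy : orderOf y = 2) (hw : orderOf w = 2)
    (hne : ¬ IsConj y w) (h : ∀ v : G, IsConj y v → Commute v w) : False := by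
  have hwc : w ∈ Subgroup.center G := by
    have hN : Subgroup.normalClosure ({y} : Set G) ≤ Subgroup.centralizer ({w} : Set G) := by
      rw [Subgroup.normalClosure, Subgroup.closure_le]
      intro v hv
      rw [Group.mem_conjugatesOfSet_iff] at hv
      obtain ⟨_, rfl, hv⟩ := hv
      exact Subgroup.mem_centralizer_singleton_iff.2 (h v hv)
    rcases (Subgroup.normalClosure_normal (s := ({y} : Set G))).eq_bot_or_eq_top with hb | ht
    · exact absurd (Subgroup.mem_bot.1 (hb ▸ Subgroup.subset_normalClosure rfl : y ∈ (⊥ : Subgroup G)))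
        (ne_one_of_orderOf hy)
    · rw [Subgroup.mem_center_iff]
      intro g
      exact Subgroup.mem_centralizer_singleton_iff.1 (hN (ht ▸ Subgroup.mem_top g))
  haveI : (Subgroup.zpowers w).Normal :=
    ⟨fun n hn g => by
      have : n ∈ Subgroup.center G := (Subgroup.zpowers_le.2 hwc) hn
      rwa [Subgroup.mem_center_iff.1 this g, mul_inv_cancel_right]⟩
  rcases Subgroup.Normal.eq_bot_or_eq_top (H := Subgroup.zpowers w) inferInstance with hb | ht
  · exact ne_one_of_orderOf hw (Subgroup.zpowers_eq_bot.1 hb)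
  · classical
    have hyw : y ∈ Subgroup.zpowers w := ht ▸ Subgroup.mem_top y
    rw [mem_zpowers_iff_mem_range_orderOf, hw] at hyw
    simp [Finset.range_add_one] at hyw
    rcases hyw with h | h
    · exact hne (h ▸ IsConj.refl _)
    · exact ne_one_of_orderOf hy (by first | exact h | exact h.symm)

/-- Bipartite case: `x` is not fused to `y`, while `y` and `x * y` are conjugate. -/
theorem bipartite_false [IsSimpleGroup G] {x y : G} (hx : orderOf x = 2) (hy : orderOf y = 2)
    (hxy : Commute x y) (hne : x ≠ y) (hnc : ¬ IsConj x y) (hyw : IsConj y (x * y))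
    (hI : ∀ u : G, orderOf u = 2 → Commute u x → u = x ∨ u = y ∨ u = x * y) : False := by
  classical
  have hw : orderOf (x * y) = 2 := orderOf_mul_two hx hy hxy hne
  have hxw : Commute x (x * y) := (Commute.refl x).mul_right hxy
  have hywc : Commute y (x * y) := hxy.symm.mul_right (Commute.refl y)
  have hyne : y ≠ x * y := fun h => ne_one_of_orderOf hx (mul_eq_right.1 h.symm)
  have hfix : ∀ u : G, orderOf u = 2 → Commute u x → IsConj x u → u = x := by
    intro u hu hux hc
    rcases hI u hu hux with rfl | rfl | rfl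
    · rfl
    · exact absurd hc hnc
    · exact absurd (hc.trans hyw.symm) hnc
  have hord : ∀ v, IsConj y v → orderOf v = 2 := fun v hv => (orderOf_of_isConj hv).symm.trans hy
  -- images of a commuting pair of conjugates of y
  have hedge : ∀ a b, IsConj y a → IsConj y b → a ≠ b → Commute a b →
      ∃ g : G, (g * a * g⁻¹ = y ∧ g * b * g⁻¹ = x * y) ∨
        (g * a * g⁻¹ = x * y ∧ g * b * g⁻¹ = y) := by
    intro a b ha hb hab hc
    obtain ⟨g, hga, hgb⟩ := pair_conj hx hfix (hord a ha) (hord b hb) hc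
    have hga' : IsConj y (g * a * g⁻¹) := ha.trans (isConj_iff.2 ⟨g, rfl⟩)
    have hgb' : IsConj y (g * b * g⁻¹) := hb.trans (isConj_iff.2 ⟨g, rfl⟩)
    have hdiff : g * a * g⁻¹ ≠ g * b * g⁻¹ := fun h =>
      hab (mul_left_cancel (mul_right_cancel h))
    refine ⟨g, ?_⟩
    rcases hI _ (hord _ hga') hga with h1 | h1 | h1
    · exact absurd (h1 ▸ hga').symm hnc
    · rcases hI _ (hord _ hgb') hgb with h2 | h2 | h2
      · exact absurd (h2 ▸ hgb').symm hnc
      · exact absurd (h1.trans h2.symm) hdiff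
      · exact Or.inl ⟨h1, h2⟩
    · rcases hI _ (hord _ hgb') hgb with h2 | h2 | h2
      · exact absurd (h2 ▸ hgb').symm hnc
      · exact Or.inr ⟨h1, h2⟩
      · exact absurd (h1.trans h2.symm) hdiff
  have hbase : ∀ v, IsConj y v → ((v ≠ y ∧ Commute v y) ↔ ¬ (v ≠ x * y ∧ Commute v (x * y))) := by
    intro v hv
    constructor
    · rintro ⟨h1, h2⟩ ⟨h3, h4⟩
      have hvx : Commute v x := by
        have := h4.mul_right h2
        rwa [mul_assoc, mul_self_eq_one hy, mul_one] at this
      rcases hI v (hord v hv) hvx with rfl | rfl | rfl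
      · exact hnc hv.symm
      · exact h1 rfl
      · exact h3 rfl
    · intro h
      by_cases h1 : v = y
      · subst h1; exact absurd ⟨hyne, hywc⟩ h
      · refine ⟨h1, ?_⟩
        by_cases h2 : v = x * y
        · subst h2; exact hywc.symm
        obtain ⟨u, hu, hux, huv⟩ := exists_invol_commute_of_not_isConj hx (hord v hv)
          (fun hc => hnc (hc.trans hv.symm))
        rcases hI u hu hux with rfl | rfl | rfl
        · rcases hI v (hord v hv) huv.symm with rfl | rfl | rfl
          · exact absurd hv.symm hnc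
          · exact absurd rfl h1
          · exact absurd rfl h2
        · exact huv.symm
        · exact absurd ⟨h2, huv.symm⟩ h
  -- adjacency
  let R : G → G → Prop := fun a v => v ≠ a ∧ Commute v a
  have hR : ∀ g a v, R (g * a * g⁻¹) (g * v * g⁻¹) ↔ R a v := by
    intro g a v
    simp only [R, commute_conj_iff, ne_eq, mul_left_inj, mul_right_inj]
  have hdich : ∀ a b, IsConj y a → IsConj y b → R a b → ∀ v, IsConj y v → (R a v ↔ ¬ R b v) := by
    intro a b ha hb hab v hv
    obtain ⟨g, h⟩ := hedge a b ha hb hab.1.symm hab.2.symm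
    rw [← hR g a v, ← hR g b v]
    have hv' : IsConj y (g * v * g⁻¹) := hv.trans (isConj_iff.2 ⟨g, rfl⟩)
    rcases h with ⟨h1, h2⟩ | ⟨h1, h2⟩
    · rw [h1, h2]; exact hbase _ hv'
    · rw [h1, h2]
      have := hbase _ hv'
      simp only [R]
      tauto
  -- the two sides
  have hside : ∀ a, IsConj y a →
      (∀ v, IsConj y v → (R a v ↔ R y v)) ∨ (∀ v, IsConj y v → (R a v ↔ ¬ R y v)) := by
    intro a ha
    by_cases h : R y a
    · exact Or.inr fun v hv => by
        have := hdich y a (IsConj.refl y) ha h v hv; tauto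
    · have h' : R (x * y) a := by
        have := hbase a ha; simp only [R] at h ⊢; tauto
      refine Or.inl fun v hv => ?_
      have := hdich (x * y) a hyw ha h' v hv
      have h2 := hbase v hv
      simp only [R] at this ⊢
      tauto
  have hcl : ∀ {g v}, IsConj y v → IsConj y (g * v * g⁻¹) := fun {g v} hv =>
    hv.trans (isConj_iff.2 ⟨g, rfl⟩)
  let K : Subgroup G :=
    { carrier := {g | ∀ v, IsConj y v → (R y (g * v * g⁻¹) ↔ R y v)}
      one_mem' := by intro v _; simp
      mul_mem' := by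
        intro g h hg hh v hv
        rw [show g * h * v * (g * h)⁻¹ = g * (h * v * h⁻¹) * g⁻¹ by group, hg _ (hcl hv), hh v hv]
      inv_mem' := by
        intro g hg v hv
        have := hg (g⁻¹ * v * g⁻¹⁻¹) (hcl hv)
        rw [show g * (g⁻¹ * v * g⁻¹⁻¹) * g⁻¹ = v by group] at this
        exact this.symm }
  have hdi : ∀ g, g ∈ K ∨ ∀ v, IsConj y v → (R y (g * v * g⁻¹) ↔ ¬ R y v) := by
    intro g
    have hmove : ∀ v, R y (g * v * g⁻¹) ↔ R (g⁻¹ * y * g⁻¹⁻¹) v := by
      intro v
      rw [← hR g (g⁻¹ * y * g⁻¹⁻¹) v, show g * (g⁻¹ * y * g⁻¹⁻¹) * g⁻¹ = y by group]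
    rcases hside (g⁻¹ * y * g⁻¹⁻¹) (hcl (IsConj.refl y)) with h | h
    · exact Or.inl fun v hv => (hmove v).trans (h v hv)
    · exact Or.inr fun v hv => (hmove v).trans (h v hv)
  obtain ⟨g0, hg0⟩ := isConj_iff.1 hyw
  have hg0K : g0 ∉ K := by
    intro h
    have h1 := h y (IsConj.refl y)
    rw [hg0] at h1
    exact (h1.1 ⟨hyne.symm, hywc.symm⟩).1 rfl
  haveI hKn : K.Normal := by
    refine ⟨fun k hk g => ?_⟩
    rcases hdi g with hg | hg
    · exact mul_mem (mul_mem hg hk) (inv_mem hg)
    · intro v hv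
      rw [show g * k * g⁻¹ * v * (g * k * g⁻¹)⁻¹ = g * (k * (g⁻¹ * v * g⁻¹⁻¹) * k⁻¹) * g⁻¹ by group,
        hg _ (hcl (hcl hv)), hk _ (hcl hv), ← hg _ (hcl hv),
        show g * (g⁻¹ * v * g⁻¹⁻¹) * g⁻¹ = v by group]
  rcases hKn.eq_bot_or_eq_top with hb | ht
  · have hbig : ∀ a : G, a ≠ 1 → a = g0 := by
      intro a ha
      have haK : a ∉ K := by rw [hb, Subgroup.mem_bot]; exact ha
      have h1 := (hdi a).resolve_left haK
      have h2 := (hdi g0).resolve_left hg0K
      have : g0⁻¹ * a ∈ K := by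
        intro v hv
        have hv' : IsConj y (g0⁻¹ * a * v * (g0⁻¹ * a)⁻¹) := hcl hv
        have e := h2 _ hv'
        rw [show g0 * (g0⁻¹ * a * v * (g0⁻¹ * a)⁻¹) * g0⁻¹ = a * v * a⁻¹ by group] at e
        have := h1 v hv
        tauto
      rw [hb, Subgroup.mem_bot] at this
      exact (inv_mul_eq_one.1 this).symm
    exact hne ((hbig x (ne_one_of_orderOf hx)).trans (hbig y (ne_one_of_orderOf hy)).symm)
  · exact hg0K (ht ▸ Subgroup.mem_top g0)

theorem hstar_of {x y : G} (hx : orderOf x = 2) (hy : orderOf y = 2) (hxy : Commute x y)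
    (hnc : ¬ IsConj x y)
    (hI : ∀ u : G, orderOf u = 2 → Commute u x → u = x ∨ u = y ∨ u = x * y)
    (hw : IsConj x (x * y)) :
    ∀ u : G, orderOf u = 2 → Commute u x → ∀ g : G, Commute (g * y * g⁻¹) u →
      Commute (g * y * g⁻¹) y := by
  intro u hu hux g hc
  have hv : orderOf (g * y * g⁻¹) = 2 := (orderOf_conj' g y).trans hy
  have hywc : Commute y (x * y) := hxy.symm.mul_right (Commute.refl y)
  rcases hI u hu hux with rfl | rfl | rfl
  · rcases hI _ hv hc with h | h | h <;> rw [h]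
    · exact hxy
    · exact Commute.symm hywc
  · exact hc
  · obtain ⟨k, hk⟩ := isConj_iff.1 hw
    -- transport the centraliser of x * y to that of x
    have key : ∀ c : G, orderOf c = 2 → Commute c (x * y) → Commute (k⁻¹ * c * k⁻¹⁻¹) x := by
      intro c _ hc'
      have h1 := (commute_conj_iff k⁻¹ c (x * y)).2 hc'
      rwa [← hk, show k⁻¹ * (k * x * k⁻¹) * k⁻¹⁻¹ = x by group] at h1
    have hyk := key y hy hywc
    have hvk := key _ hv hc
    have h2 : Commute (k⁻¹ * (g * y * g⁻¹) * k⁻¹⁻¹) (k⁻¹ * y * k⁻¹⁻¹) := by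
      rcases hI _ ((orderOf_conj' _ _).trans hv) hvk with h | h | h <;>
        rcases hI _ ((orderOf_conj' _ _).trans hy) hyk with h' | h' | h' <;>
        rw [h, h'] <;>
        first
          | exact Commute.refl _
          | exact hxy
          | exact hxy.symm
          | exact hywc
          | exact hywc.symm
          | exact (Commute.refl x).mul_right hxy
          | exact ((Commute.refl x).mul_right hxy).symm
    exact (commute_conj_iff k⁻¹ _ _).1 h2

theorem all_conj [IsSimpleGroup G] {x : G} (hx : orderOf x = 2)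
    (h3 : Nat.card {u : ↥(Subgroup.centralizer ({x} : Set G)) // orderOf u = 2} ≤ 3) :
    ∀ u : G, orderOf u = 2 → Commute u x → IsConj x u := by
  by_contra hc
  push Not at hc
  obtain ⟨y, hy, hyx, hnc⟩ := hc
  have hne : x ≠ y := fun h => hnc (h ▸ IsConj.refl x)
  have hxy := hyx.symm
  have hI := set_of_three hx hy hxy hne h3
  have hw : orderOf (x * y) = 2 := orderOf_mul_two hx hy hxy hne
  have hxw : Commute x (x * y) := (Commute.refl x).mul_right hxy
  have hywc : Commute y (x * y) := hxy.symm.mul_right (Commute.refl y)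
  have hfinish : ∀ z : G, orderOf z = 2 → Commute x z → ¬ IsConj x z →
      (∀ u : G, orderOf u = 2 → Commute u x → ∀ g : G, Commute (g * z * g⁻¹) u →
        Commute (g * z * g⁻¹) z) → False := by
    intro z hz hxz hnz hstar
    obtain ⟨h1, -, -⟩ := Cfsg.Agent.S3276.result x z hx hz hxz hnz hstar
    rcases (Subgroup.normalClosure_normal (s := ({z} : Set G))).eq_bot_or_eq_top with hb | ht
    · exact ne_one_of_orderOf hz (Subgroup.mem_bot.1 (hb ▸ Subgroup.subset_normalClosure rfl))
    · exact h1 ht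
  by_cases h1 : IsConj x (x * y)
  · exact hfinish y hy hxy hnc (hstar_of hx hy hxy hnc hI h1)
  by_cases h2 : IsConj y (x * y)
  · exact bipartite_false hx hy hxy hne hnc h2 hI
  -- three pairwise non-conjugate involutions
  have hfix : ∀ u : G, orderOf u = 2 → Commute u x → IsConj x u → u = x := by
    intro u hu hux hc'
    rcases hI u hu hux with rfl | rfl | rfl
    · rfl
    · exact absurd hc' hnc
    · exact absurd hc' h1
  refine not_all_commute hy hw h2 fun v hv => ?_
  have hv2 : orderOf v = 2 := (orderOf_of_isConj hv).symm.trans hy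
  have hvy : ∀ t, IsConj y t → orderOf t = 2 → Commute t x → t = y := by
    intro t ht ht2 htx
    rcases hI t ht2 htx with rfl | rfl | rfl
    · exact absurd ht.symm hnc
    · rfl
    · exact absurd ht h2
  obtain ⟨u, hu, hux, huv⟩ := exists_invol_commute_of_not_isConj hx hv2
    (fun hc' => hnc (hc'.trans hv.symm))
  rcases hI u hu hux with rfl | rfl | rfl
  · rw [hvy v hv hv2 huv.symm]; exact hywc
  · obtain ⟨g, hgv, hgy⟩ := pair_conj hx hfix hv2 hy huv.symm
    have e1 := hvy _ (hv.trans (isConj_iff.2 ⟨g, rfl⟩)) ((orderOf_conj' g v).trans hv2) hgv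
    have e2 := hvy _ (isConj_iff.2 ⟨g, rfl⟩) ((orderOf_conj' g u).trans hy) hgy
    rw [mul_left_cancel (mul_right_cancel (e1.trans e2.symm))]
    exact hywc
  · exact huv.symm


/-- Let G be a finite simple group and x an involution of G whose centralizer contains at most three involutions. Then C_G(x) contains a Sylow 2-subgroup of G, and all involutions of G are conjugate. -/
theorem result {G : Type*} [Group G] [Finite G] [IsSimpleGroup G] (x : G) (hx : orderOf x = 2)
    (h3 : Nat.card {u : ↥(Subgroup.centralizer ({x} : Set G)) // orderOf u = 2} ≤ 3) :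
    (∃ S : Sylow 2 G, (S : Subgroup G) ≤ Subgroup.centralizer ({x} : Set G)) ∧
      ∀ u v : G, orderOf u = 2 → orderOf v = 2 → IsConj u v := by
  haveI : Fact (Nat.Prime 2) := ⟨Nat.prime_two⟩
  have hA := all_conj hx h3
  have key : ∀ v : G, orderOf v = 2 → ∀ S : Sylow 2 G, v ∈ (S : Subgroup G) →
      x ∈ (S : Subgroup G) → ∀ z : G, orderOf z = 2 → z ∈ (S : Subgroup G) →
      (∀ s ∈ (S : Subgroup G), s * z = z * s) → IsConj x v := by
    intro v hv S hvS hxS z hz hzS hzc
    obtain ⟨g, hg⟩ := isConj_iff.1 (hA z hz (hzc x hxS).symm)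
    have h1 : Commute (g⁻¹ * v * g⁻¹⁻¹) x := by
      have := (Cfsg.Agent.S3279.commute_conj_iff g⁻¹ v z).2 (hzc v hvS)
      rwa [← hg, show g⁻¹ * (g * x * g⁻¹) * g⁻¹⁻¹ = x by group] at this
    exact (hA _ ((Cfsg.Agent.H65.orderOf_conj' _ _).trans hv) h1).trans
      (isConj_iff.2 ⟨g, by group⟩)
  obtain ⟨S, hxS, -⟩ := exists_sylow_mem hx hx (Commute.refl x)
  obtain ⟨z, hz, hzc⟩ : ∃ z : ↥(S : Subgroup G), orderOf z = 2 ∧ z ∈ Subgroup.center ↥(S : Subgroup G) := by
    haveI : Nontrivial ↥(S : Subgroup G) :=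
      ⟨⟨x, hxS⟩, 1, fun h => Cfsg.Agent.H65.ne_one_of_orderOf hx (congrArg Subtype.val h)⟩
    haveI := S.isPGroup'.center_nontrivial
    have hp : IsPGroup 2 ↥(Subgroup.center ↥(S : Subgroup G)) := S.isPGroup'.to_subgroup _
    obtain ⟨n, hn⟩ := IsPGroup.iff_card.1 hp
    have hn0 : n ≠ 0 := by
      rintro rfl
      have := Finite.one_lt_card (α := ↥(Subgroup.center ↥(S : Subgroup G)))
      omega
    obtain ⟨w, hw⟩ := exists_prime_orderOf_dvd_card' 2 (G := ↥(Subgroup.center ↥(S : Subgroup G)))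
      (hn ▸ dvd_pow_self 2 hn0)
    exact ⟨w, (Subgroup.orderOf_coe w).trans hw, w.2⟩
  have hzS : ∀ s ∈ (S : Subgroup G), s * (z : G) = (z : G) * s := fun s hs =>
    congrArg Subtype.val (Subgroup.mem_center_iff.1 hzc ⟨s, hs⟩)
  have hz2 : orderOf (z : G) = 2 := by rw [Subgroup.orderOf_coe]; exact hz
  constructor
  · obtain ⟨g, hg⟩ := isConj_iff.1 (hA _ hz2 (hzS x hxS).symm)
    refine ⟨g⁻¹ • S, ?_⟩
    intro s hs
    rw [Sylow.coe_subgroup_smul, Subgroup.mem_pointwise_smul_iff_inv_smul_mem] at hs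
    simp only [← MulAut.conj.map_inv, inv_inv] at hs
    refine Subgroup.mem_centralizer_singleton_iff.2 ?_
    refine (commute_conj_iff g s x).1 ?_
    rw [hg]
    exact hzS _ hs
  · suffices h : ∀ u : G, orderOf u = 2 → IsConj x u by
      exact fun u v hu hv => (h u hu).symm.trans (h v hv)
    intro u hu
    obtain ⟨R, huR, -⟩ := exists_sylow_mem hu hu (Commute.refl u)
    obtain ⟨g, hg⟩ := MulAction.exists_smul_eq G R S
    have : g * u * g⁻¹ ∈ (S : Subgroup G) := by
      rw [← hg]
      exact Subgroup.smul_mem_pointwise_smul u (MulAut.conj g) _ huR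
    exact (key _ ((Cfsg.Agent.H65.orderOf_conj' g u).trans hu) S this hxS z hz2 z.2 hzS).trans
      (isConj_iff.2 ⟨g⁻¹, by group⟩)

end Cfsg.Agent.S3279
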