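import Cfsg.Agent.H65.CentralFour
import Cfsg.Agent.S3279
import Cfsg.Agent.Fusion.PComplement
import Cfsg.Statements.S3278
-- import your own Cfsg.Agent.* helpers here

set_option autoImplicit false
open Cfsg

namespace Cfsg.Agent.S3278

open Cfsg.Agent Cfsg.Agent.H65

/-- Let G be a finite simple group with an involution x such that a Sylow 2-subgroup of C_G(x) is a Klein four-group which is normal in C_G(x). Then G is isomorphic to the alternating group of degree 5 (that is, to PSL(2, 5)). -/
theorem result {G : Type*} [Group G] [Finite G] [IsSimpleGroup G] (x : G) (hx : orderOf x = 2)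
    (S₀ : Subgroup G) (hle : S₀ ≤ Subgroup.centralizer ({x} : Set G)) (hK : IsKleinFour ↥S₀)
    (hodd : ¬ 2 ∣ S₀.relIndex (Subgroup.centralizer ({x} : Set G))) (hn : (S₀.subgroupOf (Subgroup.centralizer ({x} : Set G))).Normal) :
    Nonempty (G ≃* ↥(alternatingGroup (Fin 5))) := by
  classical
  haveI : Fact (Nat.Prime 2) := ⟨Nat.prime_two⟩
  letI : Fintype G := Fintype.ofFinite G
  set C := Subgroup.centralizer ({x} : Set G) with hCdef
  have hmemC : ∀ {v : G}, v ∈ C ↔ Commute v x := fun {v} =>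
    Subgroup.mem_centralizer_singleton_iff
  haveI := hn
  have hxC : x ∈ C := hmemC.2 (Commute.refl x)
  have hm : Odd (S₀.subgroupOf C).index := Nat.odd_iff.2 (Nat.two_dvd_ne_zero.1 hodd)
  have hS4 : Nat.card ↥S₀ = 4 := hK.card_four
  have hS2 : ∀ a ∈ S₀, a ^ 2 = 1 := fun a ha => by
    have := Monoid.pow_exponent_eq_one (⟨a, ha⟩ : ↥S₀)
    rw [hK.exponent_two] at this
    exact congrArg Subtype.val this
  have hScomm : ∀ a ∈ S₀, ∀ b ∈ S₀, a * b = b * a := by
    intro a ha b hb
    have h1 := hS2 _ (S₀.mul_mem ha hb)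
    rw [sq] at h1
    have h2 : a * a = 1 := by rw [← sq]; exact hS2 a ha
    have h3 : b * b = 1 := by rw [← sq]; exact hS2 b hb
    calc a * b = (a * b)⁻¹ := (inv_eq_of_mul_eq_one_left h1).symm
      _ = b * a := by rw [mul_inv_rev, inv_eq_of_mul_eq_one_left h2, inv_eq_of_mul_eq_one_left h3]
  -- every 2-element of the centraliser lies in `S₀`
  have hpow : ∀ c : G, c ∈ C → c ^ (S₀.subgroupOf C).index ∈ S₀ := fun c hc =>
    Subgroup.pow_index_mem (S₀.subgroupOf C) ⟨c, hc⟩
  have h4mem : ∀ c : G, c ∈ C → c ^ 4 = 1 → c ∈ S₀ := by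
    intro c hc h4
    have hcop : (orderOf c).Coprime (S₀.subgroupOf C).index :=
      Nat.Coprime.coprime_dvd_left (orderOf_dvd_of_pow_eq_one h4)
        (show Nat.Coprime (2 ^ 2) _ from (Nat.Coprime.pow_left 2 (Nat.coprime_two_left.2 hm)))
    obtain ⟨j, hj⟩ := exists_pow_eq_self_of_coprime hcop.symm
    rw [← hj]
    exact S₀.pow_mem (hpow c hc) j
  have hinvS : ∀ v : G, orderOf v = 2 → Commute v x → v ∈ S₀ := fun v hv hvx =>
    h4mem v (hmemC.2 hvx) (by
      rw [show (4 : ℕ) = 2 * 2 by norm_num, pow_mul, sq v, mul_self_eq_one hv, one_pow])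
  have hxS : x ∈ S₀ := hinvS x hx (Commute.refl x)
  have hordS : ∀ v ∈ S₀, v ≠ 1 → orderOf v = 2 := fun v hv h1 => orderOf_eq_prime (hS2 v hv) h1
  -- the three involutions of the centraliser
  have hScard : (Finset.univ.filter fun v : G => v ∈ S₀).card = 4 := by
    rw [← hS4, Nat.card_eq_fintype_card (α := ↥S₀)]
    exact (Fintype.card_of_subtype _ (by simp)).symm
  have h3set : (Finset.univ.filter fun v : G => orderOf v = 2 ∧ Commute v x) =
      (Finset.univ.filter fun v : G => v ∈ S₀).erase 1 := by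
    ext v
    simp only [Finset.mem_filter, Finset.mem_univ, true_and, Finset.mem_erase]
    exact ⟨fun h => ⟨ne_one_of_orderOf h.1, hinvS v h.1 h.2⟩,
      fun h => ⟨hordS v h.2 h.1, hmemC.1 (hle h.2)⟩⟩
  have h3 : (Finset.univ.filter fun v : G => orderOf v = 2 ∧ Commute v x).card = 3 := by
    rw [h3set, Finset.card_erase_of_mem (by simp), hScard]
  have h3' : Nat.card {u : ↥C // orderOf u = 2} ≤ 3 := by
    rw [← h3, Nat.card_eq_fintype_card]
    refine le_of_eq ((Fintype.card_of_subtype
      (Finset.univ.filter fun u : ↥C => orderOf u = 2) (by simp)).trans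
        (Finset.card_bij (fun u _ => (u : G)) ?_ ?_ ?_))
    · intro u hu
      simp only [Finset.mem_filter, Finset.mem_univ, true_and] at hu ⊢
      exact ⟨(Subgroup.orderOf_coe u).trans hu, hmemC.1 u.2⟩
    · exact fun a _ b _ h => Subtype.ext h
    · intro v hv
      simp only [Finset.mem_filter, Finset.mem_univ, true_and] at hv ⊢
      exact ⟨⟨v, hmemC.2 hv.2⟩, by simpa using hv.1, rfl⟩
  obtain ⟨⟨S, hSC⟩, hone⟩ := Cfsg.Agent.S3279.result x hx h3'
  have hSp : IsPGroup 2 ↥S₀ := IsPGroup.of_card (n := 2) (by rw [hS4]; norm_num)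
  -- `S₀` is a Sylow subgroup of `G`
  have hSS : (S : Subgroup G) = S₀ := by
    have hsub : (S : Subgroup G) ≤ S₀ := by
      intro a ha
      obtain ⟨k, hk⟩ := IsPGroup.iff_orderOf.1 S.isPGroup' ⟨a, ha⟩
      rw [Subgroup.orderOf_mk] at hk
      have hcop : (orderOf a).Coprime (S₀.subgroupOf C).index := by
        rw [hk]; exact Nat.Coprime.pow_left k (Nat.coprime_two_left.2 hm)
      obtain ⟨j, hj⟩ := exists_pow_eq_self_of_coprime hcop.symm
      rw [← hj]
      exact S₀.pow_mem (hpow a (hSC ha)) j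
    exact (S.is_maximal' hSp hsub).symm
  have hRcard : ∀ R : Sylow 2 G, Nat.card ↥(R : Subgroup G) = 4 := fun R => by
    rw [← hS4, ← hSS, R.card_eq_multiplicity, S.card_eq_multiplicity]
  -- the centraliser centralises `S₀`
  have hcent : ∀ c ∈ C, ∀ y ∈ S₀, c * y = y * c := by
    intro c hc y hy
    by_cases hy1 : y = 1
    · subst hy1; simp
    by_cases hyx : y = x
    · subst hyx; exact hmemC.1 hc
    have hconj : c * y * c⁻¹ ∈ S₀ := hn.conj_mem ⟨y, hle hy⟩ hy ⟨c, hc⟩
    have hc2 : ∀ d ∈ C, d * y * d⁻¹ = y ∨ d * y * d⁻¹ = x * y := by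
      intro d hd
      have hmem : d * y * d⁻¹ ∈ S₀ := hn.conj_mem ⟨y, hle hy⟩ hy ⟨d, hd⟩
      have hy2 := hordS y hy hy1
      rcases Cfsg.Agent.S3279.set_of_three hx hy2 (hmemC.1 (hle hy)).symm (Ne.symm hyx) h3'
        _ ((orderOf_conj' d y).trans hy2) (hmemC.1 (hle hmem)) with h | h | h
      · exfalso
        apply hyx
        have : y = d⁻¹ * x * d := by rw [← h]; group
        rw [this, mul_assoc, ← (hmemC.1 hd).eq, inv_mul_cancel_left]
      · exact Or.inl h
      · exact Or.inr h
    rcases hc2 c hc with h | h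
    · exact mul_inv_eq_iff_eq_mul.1 h
    · -- the square of `c` fixes `y`
      have hsq : Commute (c ^ 2) y := by
        refine (mul_inv_eq_iff_eq_mul.1 ?_ : c ^ 2 * y = y * c ^ 2)
        calc c ^ 2 * y * (c ^ 2)⁻¹ = c * (c * y * c⁻¹) * c⁻¹ := by rw [sq]; group
          _ = c * (x * y) * c⁻¹ := by rw [h]
          _ = (c * x * c⁻¹) * (c * y * c⁻¹) := by group
          _ = x * (x * y) := by rw [h, (hmemC.1 hc).eq, mul_inv_cancel_right]
          _ = y := by rw [← mul_assoc, mul_self_eq_one hx, one_mul]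
      obtain ⟨k, hk⟩ := hm
      have h1 : Commute (c ^ (S₀.subgroupOf C).index) y := hScomm _ (hpow c hc) _ hy
      rw [hk, pow_succ', pow_mul] at h1
      have h2 : Commute (c * (c ^ 2) ^ k * ((c ^ 2) ^ k)⁻¹) y :=
        h1.mul_left (hsq.pow_left k).inv_left
      rw [mul_inv_cancel_right] at h2
      exact h2.eq
  -- the normal 2-complement of the centraliser
  let P : Sylow 2 ↥C := S.subtype hSC
  obtain ⟨P', D₀, hD₀n, hD₀c⟩ := Cfsg.Agent.Fusion.hasNormalPComplement_of_normalizer_le_centralizer P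
    (by
      intro a _ b hb
      have hb' : (b : G) ∈ S₀ := hSS ▸ hb
      exact Subtype.ext (hcent _ a.2 _ hb').symm)
  have hP'card : Nat.card ↥(P' : Subgroup ↥C) = 4 := by
    rw [P'.card_eq_multiplicity, ← P.card_eq_multiplicity]
    exact (Nat.card_congr (Subgroup.subgroupOfEquivOfLe hSC).toEquiv).trans (hRcard S)
  have hCcard : Nat.card ↥C = 4 * Nat.card ↥D₀ := by
    rw [← hD₀c.card_mul, hP'card, mul_comm]
  have hD₀odd : Odd (Nat.card ↥D₀) := by
    have h1 : Nat.card ↥(S₀.subgroupOf C) = 4 :=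
      (Nat.card_congr (Subgroup.subgroupOfEquivOfLe hle).toEquiv).trans hS4
    have h2 := Subgroup.card_mul_index (S₀.subgroupOf C)
    rw [h1, hCcard] at h2
    rw [show Nat.card ↥D₀ = (S₀.subgroupOf C).index by omega]
    exact hm
  set D : Subgroup G := D₀.map C.subtype with hDdef
  have hDle : D ≤ C := Subgroup.map_subtype_le D₀
  have hDcard : Nat.card ↥D = Nat.card ↥D₀ :=
    (Nat.card_congr (D₀.equivMapOfInjective C.subtype C.subtype_injective).toEquiv).symm
  letI : Fintype ↥D := Fintype.ofFinite _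
  have hdec : ∀ g : G, Commute g x →
      ∃ v e : G, v ^ 2 = 1 ∧ e ∈ D ∧ g = v * e ∧ ∀ f ∈ D, Commute v f := by
    intro g hg
    obtain ⟨⟨e, v⟩, hev⟩ := hD₀c.2 (⟨g, hmemC.2 hg⟩ : ↥C)
    have hvS : ((v : ↥C) : G) ∈ S₀ := by
      refine h4mem _ (v : ↥C).2 ?_
      have := hP'card ▸ pow_card_eq_one' (x := v)
      exact congrArg (fun z : ↥(P' : Subgroup ↥C) => ((z : ↥C) : G)) this
    have hvf : ∀ f ∈ D, Commute ((v : ↥C) : G) f := fun f hf => (hcent f (hDle hf) _ hvS).symm
    refine ⟨_, ((e : ↥C) : G), hS2 _ hvS, ⟨e, e.2, rfl⟩, ?_, hvf⟩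
    rw [(hvf ((e : ↥C) : G) ⟨e, e.2, rfl⟩).eq]
    exact (congrArg Subtype.val hev).symm
  have hnotab : ¬ ∀ a b : G, a * b = b * a := by
    intro hab
    have hxn : (Subgroup.zpowers x).Normal := ⟨fun a ha g => by
      rwa [hab g a, mul_inv_cancel_right]⟩
    rcases hxn.eq_bot_or_eq_top with h | h
    · exact ne_one_of_orderOf hx (Subgroup.zpowers_eq_bot.1 h)
    · have h1 : Nat.card ↥S₀ ≤ Nat.card G := Subgroup.card_le_card_group S₀
      have h2 : Nat.card G = 2 := by rw [← Subgroup.card_top, ← h, Nat.card_zpowers, hx]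
      omega
  have hlin : ∀ χ : IrrCharacter G, (χ : G → ℂ) ≠ (fun _ => 1) → (χ : G → ℂ) 1 ≠ 1 := by
    intro χ hne h1
    obtain ⟨l, hl⟩ := CharInduce.IsChar.exists_hom_of_degree_one (CharBasic.IsIrr.isCharacter χ.2) h1
    rcases l.normal_ker.eq_bot_or_eq_top with h | h
    · apply hnotab
      intro a b
      refine (l.ker_eq_bot_iff.1 h) ?_
      rw [map_mul, map_mul, mul_comm]
    · refine hne (funext fun g => ?_)
      have : g ∈ l.ker := by rw [h]; trivial
      rw [hl, MonoidHom.mem_ker.1 this, Units.val_one]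
  set I := Finset.univ.filter fun v : G => orderOf v = 2 with hI
  have hbound : I.card ≤ 15 := by
    have := CentralFour.card_invol_le x D hx (fun e he => (hmemC.1 (hDle he)).symm)
      (hDcard ▸ hD₀odd) hdec (by rw [← hCdef, hCcard, hDcard]) (fun s hs => hone x s hx hs)
      (by convert h3) hlin
    convert this
  -- involutions and Sylow subgroups
  letI : Fintype (Sylow 2 G) := Fintype.ofFinite _
  have hfib : ∀ t : G, orderOf t = 2 → ∃! R : Sylow 2 G, t ∈ (R : Subgroup G) := by
    intro t ht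
    obtain ⟨k, hk⟩ := isConj_iff.1 (hone x t hx ht)
    have huniq : ∀ R : Sylow 2 G, x ∈ (R : Subgroup G) → (R : Subgroup G) = S₀ := by
      intro R hR
      haveI : IsMulCommutative ↥(R : Subgroup G) :=
        IsPGroup.isMulCommutative_of_card_eq_prime_sq (p := 2) (by rw [hRcard R]; norm_num)
      refine Subgroup.eq_of_le_of_card_ge (fun a ha => h4mem a ?_ ?_) (by rw [hRcard R, hS4])
      · exact hmemC.2 (congrArg Subtype.val
          (mul_comm' (⟨a, ha⟩ : ↥(R : Subgroup G)) ⟨x, hR⟩))
      · exact orderOf_dvd_iff_pow_eq_one.1 (hRcard R ▸ Subgroup.orderOf_dvd_natCard _ ha)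
    obtain ⟨R, hR⟩ := (IsPGroup.of_card (p := 2) (n := 1) (G := ↥(Subgroup.zpowers t))
      (by rw [Nat.card_zpowers, ht, pow_one])).exists_le_sylow
    have hmap : ∀ R' : Sylow 2 G, t ∈ (R' : Subgroup G) → k⁻¹ • R' = S := by
      intro R' hR'
      refine Sylow.ext ((huniq _ ?_).trans hSS.symm)
      have h := Subgroup.smul_mem_pointwise_smul t (MulAut.conj k⁻¹) _ hR'
      rw [← Sylow.coe_subgroup_smul] at h
      rw [show MulAut.conj k⁻¹ • t = x by
        rw [MulAut.smul_def, MulAut.conj_apply, ← hk]; group] at h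
      exact h
    exact ⟨R, hR (Subgroup.mem_zpowers t), fun R' hR' =>
      smul_left_cancel k⁻¹ ((hmap R' hR').trans (hmap R (hR (Subgroup.mem_zpowers t))).symm)⟩
  have hIcount : I.card = Fintype.card (Sylow 2 G) * 3 := by
    have h1 : I = Finset.univ.biUnion
        (fun R : Sylow 2 G => (Finset.univ.filter fun v => v ∈ (R : Subgroup G)).erase 1) := by
      ext t
      simp only [hI, Finset.mem_biUnion, Finset.mem_univ, true_and, Finset.mem_erase,
        Finset.mem_filter]
      constructor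
      · intro ht
        obtain ⟨R, hR, -⟩ := hfib t ht
        exact ⟨R, ne_one_of_orderOf ht, hR⟩
      · rintro ⟨R, ht1, htR⟩
        obtain ⟨g, hg⟩ := MulAction.exists_smul_eq G R S
        have h := Subgroup.smul_mem_pointwise_smul t (MulAut.conj g) _ htR
        rw [← Sylow.coe_subgroup_smul] at h
        change MulAut.conj g • t ∈ ((g • R : Sylow 2 G) : Subgroup G) at h
        rw [hg, hSS, MulAut.smul_def, MulAut.conj_apply] at h
        rw [← orderOf_conj' g t]
        exact hordS _ h (by simpa using ht1)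
    rw [h1, Finset.card_biUnion, Finset.sum_const_nat (m := 3), Finset.card_univ]
    · intro R _
      rw [Finset.card_erase_of_mem (by simp), show (Finset.univ.filter fun v => v ∈ (R : Subgroup G)).card = 4 by
        rw [← hRcard R, Nat.card_eq_fintype_card]
        exact (Fintype.card_of_subtype _ (by simp)).symm]
    · intro R _ R' _ hRR'
      rw [Function.onFun, Finset.disjoint_left]
      intro t ht ht'
      have : t ∈ I := by rw [h1]; exact Finset.mem_biUnion.2 ⟨R, Finset.mem_univ _, ht⟩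
      simp only [Finset.mem_erase, Finset.mem_filter, Finset.mem_univ, true_and] at ht ht'
      exact hRR' ((hfib t (Finset.mem_filter.1 this).2).unique ht.2 ht'.2)
  have hGcard : Nat.card G = I.card * (4 * Nat.card ↥D₀) := by
    have hset : {v : G | orderOf v = 2} = MulAction.orbit (ConjAct G) x := by
      ext v
      simp only [Set.mem_setOf_eq, MulAction.mem_orbit_iff]
      constructor
      · intro hv
        obtain ⟨k, hk⟩ := isConj_iff.1 (hone x v hx hv)
        exact ⟨ConjAct.toConjAct k, by rw [ConjAct.smul_def, ConjAct.ofConjAct_toConjAct]; exact hk⟩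
      · rintro ⟨k, rfl⟩
        rw [ConjAct.smul_def]; exact (orderOf_conj' _ x).trans hx
    have h1 := (MulAction.stabilizer (ConjAct G) x).card_mul_index
    rw [MulAction.index_stabilizer, ← hset] at h1
    rw [show Nat.card G = Nat.card (ConjAct G) from Nat.card_congr ConjAct.toConjAct.toEquiv, ← h1]
    rw [show {v : G | orderOf v = 2}.ncard = I.card by
      rw [hI, ← Set.ncard_coe_finset]; congr 1; ext; simp,
      show Nat.card ↥(MulAction.stabilizer (ConjAct G) x) = Nat.card ↥C by
        rw [ConjAct.stabilizer_eq_centralizer]; exact rfl, hCcard, mul_comm]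
  -- five Sylow subgroups
  have hnpos : 0 < Fintype.card (Sylow 2 G) := Fintype.card_pos
  have hnodd : Fintype.card (Sylow 2 G) % 2 = 1 := by
    have := card_sylow_modEq_one 2 G
    rwa [Nat.ModEq, Nat.card_eq_fintype_card] at this
  have hn1 : Fintype.card (Sylow 2 G) ≠ 1 := by
    intro h1
    have hN : (Subgroup.normalizer ((S : Subgroup G) : Set G)) = ⊤ := by
      rw [← Subgroup.index_eq_one]
      have h2 := S.card_eq_index_normalizer
      rw [Nat.card_eq_fintype_card, h1] at h2
      exact h2.symm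
    have hSn : (S : Subgroup G).Normal := Subgroup.normalizer_eq_top_iff.1 hN
    rcases hSn.eq_bot_or_eq_top with h | h
    · have := hRcard S
      rw [h, Subgroup.card_bot] at this
      omega
    · exact hnotab fun a b => hScomm a (by rw [← hSS, h]; trivial) b (by rw [← hSS, h]; trivial)
  let φ : G →* Equiv.Perm (Sylow 2 G) := MulAction.toPermHom G (Sylow 2 G)
  have hinj : Function.Injective φ := by
    rw [← MonoidHom.ker_eq_bot_iff]
    refine φ.normal_ker.eq_bot_or_eq_top.resolve_right fun h => hn1 ?_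
    refine Fintype.card_eq_one_iff.2 ⟨S, fun R => ?_⟩
    obtain ⟨g, rfl⟩ := MulAction.exists_smul_eq G S R
    have : g ∈ φ.ker := by rw [h]; trivial
    exact congrArg (fun f : Equiv.Perm (Sylow 2 G) => f S) this
  have hdvd := Subgroup.card_dvd_of_injective φ hinj
  rw [hGcard, hIcount, Nat.card_eq_fintype_card (α := Equiv.Perm (Sylow 2 G)),
    Fintype.card_perm] at hdvd
  have hn5 : Fintype.card (Sylow 2 G) = 3 ∨ Fintype.card (Sylow 2 G) = 5 := by omega
  have hdpos : 0 < Nat.card ↥D₀ := Nat.card_pos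
  rcases hn5 with h5 | h5
  · exfalso
    rw [h5] at hdvd
    have := Nat.le_of_dvd (Nat.factorial_pos 3) hdvd
    rw [show (3 : ℕ).factorial = 6 from rfl] at this
    omega
  · rw [h5] at hdvd hIcount
    have hle2 := Nat.le_of_dvd (Nat.factorial_pos 5) hdvd
    rw [show (5 : ℕ).factorial = 120 from rfl] at hle2
    have hd1 : Nat.card ↥D₀ = 1 := by
      obtain ⟨j, hj⟩ := hD₀odd
      omega
    let e := (Fintype.equivFinOfCardEq h5)
    let ψ : G →* Equiv.Perm (Fin 5) := (e.permCongrHom.toMonoidHom).comp φ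
    have hψ : Function.Injective ψ := e.permCongrHom.injective.comp hinj
    have hidx : ψ.range.index = 2 := by
      have h1 := Subgroup.card_mul_index ψ.range
      rw [← Nat.card_congr (MonoidHom.ofInjective hψ).toEquiv, hGcard, hd1, hIcount,
        Nat.card_eq_fintype_card (α := Equiv.Perm (Fin 5)), Fintype.card_perm] at h1
      simp [Nat.factorial] at h1
      omega
    exact ⟨(MonoidHom.ofInjective hψ).trans
      (MulEquiv.subgroupCongr (Equiv.Perm.eq_alternatingGroup_of_index_eq_two hidx))⟩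

end Cfsg.Agent.S3278
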