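import Cfsg.Statements.S1496
import Mathlib


set_option autoImplicit false
open Cfsg

namespace Cfsg.Agent.S1496

/-- Let H be a subgroup of the finite group G and g an element normalising H whose order is coprime to the order of H. Then for every h ∈ H there are x ∈ H and c ∈ H commuting with g such that x * (h * g) * x⁻¹ = c * g. -/
theorem result {G : Type*} [Group G] [Finite G] (H : Subgroup G) (g : G) (hg : g ∈ Subgroup.normalizer (H : Set G)) (hcop : Nat.Coprime (orderOf g) (Nat.card H)) (h : G) (hh : h ∈ H) : ∃ x ∈ H, ∃ c ∈ H, c * g = g * c ∧ x * (h * g) * x⁻¹ = c * g := by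
  classical
  obtain ⟨n, hn⟩ : ∃ n, n = orderOf g := ⟨_, rfl⟩
  obtain ⟨k, hk1, hk0⟩ := Nat.chineseRemainder hcop 1 0
  have hgk : g ^ k = g := by
    have : g ^ k = g ^ 1 := pow_eq_pow_iff_modEq.mpr hk1
    simpa using this
  have hHk : ∀ c ∈ H, c ^ k = 1 := fun c hc => orderOf_dvd_iff_pow_eq_one.mp
    ((Subgroup.orderOf_dvd_natCard _ hc).trans (Nat.modEq_zero_iff_dvd.mp hk0))
  let C : Subgroup H := (Subgroup.centralizer ({g} : Set G)).comap H.subtype
  have hC : ∀ c : H, c ∈ C ↔ (c : G) * g = g * c := fun c => by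
    simp [C, Subgroup.mem_subgroupOf, Subgroup.mem_centralizer_singleton_iff]
  have hpow : ∀ c : H, c ∈ C → ((c : G) * g) ^ k = g := fun c hc => by
    rw [(show Commute (c : G) g from (hC c).mp hc).mul_pow, hgk, hHk c c.2, one_mul]
  have hconjg : ∀ z ∈ H, g * z * g⁻¹ ∈ H := fun z hz => (hg z).mp hz
  let f : (H ⧸ C) × C → H := fun p =>
    ⟨(p.1.out : G) * ((p.2 : H) : G) * (g * (p.1.out : G)⁻¹ * g⁻¹),
      mul_mem (mul_mem (p.1.out).2 (p.2 : H).2) (hconjg _ (inv_mem (p.1.out).2))⟩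
  have hinj : Function.Injective f := by
    rintro ⟨q, c⟩ ⟨q', c'⟩ h
    have h0 : (q.out : G) * ((c : H) : G) * (g * (q.out : G)⁻¹ * g⁻¹) =
        (q'.out : G) * ((c' : H) : G) * (g * (q'.out : G)⁻¹ * g⁻¹) := congrArg Subtype.val h
    have h' : (q.out : G) * (((c : H) : G) * g) * (q.out : G)⁻¹ =
        (q'.out : G) * (((c' : H) : G) * g) * (q'.out : G)⁻¹ := by
      calc _ = ((q.out : G) * ((c : H) : G) * (g * (q.out : G)⁻¹ * g⁻¹)) * g := by group
        _ = ((q'.out : G) * ((c' : H) : G) * (g * (q'.out : G)⁻¹ * g⁻¹)) * g := by rw [h0]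
        _ = _ := by group
    have h2 := congrArg (fun z : G => z ^ k) h'
    simp only [conj_pow, hpow c c.2, hpow c' c'.2] at h2
    have hq : q = q' := by
      rw [← Quotient.out_eq q, ← Quotient.out_eq q']
      refine QuotientGroup.eq.mpr ((hC _).mpr ?_)
      push_cast
      calc (q.out : G)⁻¹ * q'.out * g = (q.out : G)⁻¹ * ((q'.out : G) * g * (q'.out : G)⁻¹) * q'.out := by
            group
        _ = (q.out : G)⁻¹ * ((q.out : G) * g * (q.out : G)⁻¹) * q'.out := by rw [h2]
        _ = g * ((q.out : G)⁻¹ * q'.out) := by group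
    subst hq
    simp only [mul_left_inj, mul_right_inj] at h0
    exact Prod.ext rfl (Subtype.ext (Subtype.ext h0))
  have hbij : Function.Bijective f := by
    haveI := Fintype.ofFinite ((H ⧸ C) × C)
    haveI := Fintype.ofFinite H
    refine (Fintype.bijective_iff_injective_and_card f).mpr ⟨hinj, ?_⟩
    rw [← Nat.card_eq_fintype_card, ← Nat.card_eq_fintype_card, Nat.card_prod,
      ← Subgroup.card_eq_card_quotient_mul_card_subgroup]
  obtain ⟨⟨q, c⟩, hqc⟩ := hbij.2 ⟨h, hh⟩
  refine ⟨(q.out : G)⁻¹, inv_mem q.out.2, ((c : H) : G), (c : H).2, (hC _).mp c.2, ?_⟩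
  have h0 : (q.out : G) * ((c : H) : G) * (g * (q.out : G)⁻¹ * g⁻¹) = h := congrArg Subtype.val hqc
  rw [← h0]; group

end Cfsg.Agent.S1496
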