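import Cfsg.Statements.S0790
import Cfsg.Agent.H34.OmegaSign

set_option autoImplicit false
open Cfsg

namespace Cfsg.Agent.S0790

open Matrix in
theorem quadFormPlus_eq {F : Type*} [Field F] (m : ℕ) (v : Fin m ⊕ Fin m → F) :
    Cfsg.quadFormPlus m F v = (v ∘ Sum.inl) ⬝ᵥ (v ∘ Sum.inr) := rfl

open Matrix in
theorem count {F : Type*} [Field F] [Fintype F] {q : ℕ} (hF : Fintype.card F = q) (m : ℕ) :
    Nat.card {v : Fin m ⊕ Fin m → F // Cfsg.quadFormPlus m F v = 1} = (q ^ m - 1) * q ^ (m - 1) := by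
  let e : {v : Fin m ⊕ Fin m → F // Cfsg.quadFormPlus m F v = 1} ≃
      {p : ((Fin m → F) × (Fin m → F)) × Unit // p.1.1 ⬝ᵥ p.1.2 + (fun _ : Unit => (0 : F)) p.2 = 1} :=
    { toFun := fun v => ⟨((v.1 ∘ Sum.inl, v.1 ∘ Sum.inr), ()), by
        have h := v.2; rw [quadFormPlus_eq] at h; simpa using h⟩
      invFun := fun p => ⟨Sum.elim p.1.1.1 p.1.1.2, by
        rw [quadFormPlus_eq]; simpa [Function.comp_def] using p.2⟩
      left_inv := fun v => Subtype.ext (funext fun i => by cases i <;> rfl)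
      right_inv := fun p => rfl }
  rw [Nat.card_congr e, H34.card_hyperbolic_add hF (fun _ : Unit => (0 : F)) 1 m]
  have : Nat.card {z : Unit // (fun _ : Unit => (0 : F)) z = 1} = 0 := by
    haveI : IsEmpty {z : Unit // (fun _ : Unit => (0 : F)) z = 1} :=
      ⟨fun z => zero_ne_one z.2⟩
    exact Nat.card_of_isEmpty
  rw [this, Nat.card_unique]; ring

open Matrix in
theorem main {F : Type*} [Field F] [Fintype F] {q : ℕ} (hF : Fintype.card F = q) (hodd : Odd q)
    (m : ℕ) (hm : 1 ≤ m) :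
    (∃ g : ↥(Cfsg.isometryGroup F (Cfsg.quadFormPlus m F)), g ∈ Cfsg.Omega F (Cfsg.quadFormPlus m F) ∧
      ((g : Matrix.GeneralLinearGroup (Fin m ⊕ Fin m) F) : Matrix (Fin m ⊕ Fin m) (Fin m ⊕ Fin m) F) = -1) ↔
      q ^ m % 4 = 1 := by
  have h2 : (2 : F) ≠ 0 := by
    apply Ring.two_ne_zero
    intro h
    have := FiniteField.even_card_of_char_two (F := F) h
    rw [hF] at this
    obtain ⟨r, rfl⟩ := hodd
    omega
  constructor
  · rintro ⟨g, hg, hneg⟩
    have h := H34.four_dvd_of_neg_one_mem_omega h2 g hg hneg 1 (by simp [quadFormPlus_eq, Function.comp_def])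
    rw [count hF] at h
    have hcop : Nat.Coprime 4 (q ^ (m - 1)) := by
      apply Nat.Coprime.pow_right
      exact Nat.Coprime.pow_left 2 (Nat.coprime_two_left.mpr hodd)
    have h4 := hcop.dvd_of_dvd_mul_right h
    have : 1 ≤ q ^ m := Nat.one_le_pow _ _ hodd.pos
    omega
  · intro hq
    rcases Nat.even_or_odd m with hme | hmo
    · obtain ⟨A, B, hA, hB, hAB, hAd, hBd⟩ := H34.exists_anticomm (F := F) hme
      have pres : ∀ C : Matrix (Fin m) (Fin m) F, (∀ x y, (C *ᵥ x) ⬝ᵥ (C *ᵥ y) = x ⬝ᵥ y) →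
          ∀ v, Cfsg.quadFormPlus m F (fromBlocks C 0 0 C *ᵥ v) = Cfsg.quadFormPlus m F v := by
        intro C hC v
        rw [quadFormPlus_eq, quadFormPlus_eq, fromBlocks_mulVec]
        simp [hC]
      refine H34.exists_neg_one_mem_omega (fromBlocks A 0 0 A) (fromBlocks A 0 0 A) (fromBlocks B 0 0 B)
        ?_ ?_ ?_ (pres A hAd) (pres B hBd) ?_ <;>
        simp only [fromBlocks_multiply, mul_zero, zero_mul, add_zero, zero_add, hA, hB, fromBlocks_one]
      rw [hAB, neg_mul, neg_mul, mul_assoc B A A, hA, mul_one, hB, ← fromBlocks_one, fromBlocks_neg]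
      simp
    · have hq1 : q % 4 = 1 := by
        obtain ⟨r, rfl⟩ := hmo
        obtain ⟨s, hs⟩ := hodd
        have : q % 4 = 1 ∨ q % 4 = 3 := by omega
        rcases this with h | h
        · exact h
        · exfalso
          rw [pow_succ, pow_mul, Nat.mul_mod, Nat.pow_mod, Nat.pow_mod q 2, h] at hq
          norm_num at hq
      obtain ⟨i, hi⟩ : IsSquare (-1 : F) := by
        rw [FiniteField.isSquare_neg_one_iff, hF]; omega
      have hii : i * (-i) = 1 := by linear_combination hi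
      refine H34.exists_neg_one_mem_omega (fromBlocks (i • 1) 0 0 ((-i) • 1))
        (fromBlocks ((-i) • 1) 0 0 (i • 1)) (fromBlocks 0 1 1 0) ?_ ?_ ?_ ?_ ?_ ?_
      · simp [fromBlocks_multiply, smul_smul, ← hi, mul_comm]
      · simp [fromBlocks_multiply, smul_smul, ← hi, mul_comm]
      · simp [fromBlocks_multiply]
      · intro v
        rw [quadFormPlus_eq, quadFormPlus_eq, fromBlocks_mulVec]
        simp [smul_mulVec, neg_mulVec, smul_dotProduct, dotProduct_smul]
        linear_combination ((v ∘ Sum.inl) ⬝ᵥ (v ∘ Sum.inr)) * hi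
      · intro v
        rw [quadFormPlus_eq, quadFormPlus_eq, fromBlocks_mulVec]
        simp [dotProduct_comm]
      · simp only [fromBlocks_multiply, mul_zero, zero_mul, add_zero, zero_add, mul_one, one_mul,
          Matrix.smul_mul, Matrix.mul_smul, smul_smul]
        rw [← fromBlocks_one, fromBlocks_neg]
        simp [← hi]


/-- −1 ∈ Ω⁺_2m(q) iff q^m ≡ 1 (mod 4), for q odd and m ≥ 1 (so that in the other case SO⁺_2m(q) = 2 × Ω⁺_2m(q)). -/
theorem result {F : Type*} [Field F] [Fintype F] {q : ℕ} (hF : Fintype.card F = q) (hodd : Odd q) (m : ℕ) (hm : 1 ≤ m) : (∃ g : ↥(Cfsg.isometryGroup F (Cfsg.quadFormPlus m F)), g ∈ Cfsg.Omega F (Cfsg.quadFormPlus m F) ∧ ((g : Matrix.GeneralLinearGroup (Fin m ⊕ Fin m) F) : Matrix (Fin m ⊕ Fin m) (Fin m ⊕ Fin m) F) = -1) ↔ q ^ m % 4 = 1 := by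
  exact main hF hodd m hm

end Cfsg.Agent.S0790
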