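import Cfsg.Statements.S0293
import Cfsg.Agent.Orthogonal.POmega
import Cfsg.Agent.Orthogonal.StdForms
import Cfsg.Agent.S0790
-- import your own Cfsg.Agent.* helpers here

set_option autoImplicit false
open Cfsg

namespace Cfsg.Agent.S0293

/-- gcd(4, q^m - 1) |PΩ^+_{2m}(q)| = q^(m(m-1)) (q^m - 1) prod_{i=1}^{m-1} (q^(2i) - 1), m at least 4 (type D_m). -/
theorem result {F : Type*} [Field F] [Fintype F] {q : ℕ} (hF : Fintype.card F = q) (m : ℕ) (hm : 4 ≤ m) : Nat.gcd 4 (q ^ m - 1) * Nat.card (Cfsg.POmega F (Cfsg.quadFormPlus m F)) = q ^ (m * (m - 1)) * (q ^ m - 1) * ∏ i ∈ Finset.range (m - 1), (q ^ (2 * (i + 1)) - 1) := by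
  obtain ⟨k, rfl⟩ : ∃ k, m = k + 1 := ⟨m - 1, by omega⟩
  simp only [Nat.add_sub_cancel]
  obtain ⟨Q, hQdef⟩ : ∃ Q, Q = Orthogonal.formPlus F (k + 1) := ⟨_, rfl⟩
  have hQ : Orthogonal.Nondeg Q := hQdef ▸ Orthogonal.formPlus_nondeg F (k + 1)
  have hn : Module.finrank F (Fin (k + 1) ⊕ Fin (k + 1) → F) = 2 * (k + 1) :=
    Orthogonal.finrank_formPlus F (k + 1)
  have hcard : Nat.card (Orthogonal.O Q) =
      2 * (q ^ ((k + 1) * k) * (q ^ (k + 1) - 1) *
        ∏ i ∈ Finset.range k, (q ^ (2 * (i + 1)) - 1)) := by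
    subst hQdef
    rw [Orthogonal.card_O_plus k _ hQ (Orthogonal.formPlus_frame F (k + 1))
      (Orthogonal.formPlus_aniso F (k + 1)) hn, Nat.card_eq_fintype_card, hF, Orthogonal.oprod_eq]
    ring
  have hcoe : (⇑Q : _ → F) = Cfsg.quadFormPlus (k + 1) F := by subst hQdef; rfl
  rw [← hcoe]
  have h2 : (2 : F) = 0 ∨ (2 : F) ≠ 0 := em _
  have hgen : Orthogonal.reflGroup Q = ⊤ := Orthogonal.reflGroup_eq_top hQ (Or.inr (by omega))
  rcases h2 with h2 | h2
  · have hch : ringChar F = 2 := CharP.ringChar_of_prime_eq_zero Nat.prime_two (by exact_mod_cast h2)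
    have hq : q % 2 = 0 := hF ▸ FiniteField.even_card_of_char_two hch
    have hidx : (Cfsg.Omega F ⇑Q).index = 2 := by
      rw [Orthogonal.omega_index]
      exact Orthogonal.index_commutator_eq_two hQ hgen h2 (by omega)
    have hc := Orthogonal.card_center_omega_eq_one hQ (by omega) (fun g _ _ => by
      ext i j
      rw [Matrix.neg_apply]
      linear_combination (-(1 : Matrix _ _ F) i j) * h2)
    have key := Orthogonal.card_POmega_mul 2 hidx 1 hc
    rw [hcard] at key
    have hg : Nat.gcd 4 (q ^ (k + 1) - 1) = 1 := by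
      refine Nat.Coprime.pow_left 2 (Nat.coprime_two_left.2 ?_)
      have he : q ^ (k + 1) % 2 = 0 := by rw [Nat.pow_mod, hq]; simp
      have hpos : 0 < q ^ (k + 1) := Nat.pow_pos (hF ▸ Fintype.card_pos)
      rw [Nat.odd_iff]
      omega
    rw [hg]
    rw [mul_assoc, mul_assoc] at key; linarith
  · have hq : Odd q := hF ▸ Nat.odd_iff.2 (FiniteField.odd_card_of_char_ne_two fun h => h2 (by
      haveI := ringChar.of_eq h; exact CharTwo.two_eq_zero))
    have hidx : (Cfsg.Omega F ⇑Q).index = 4 := by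
      rw [Orthogonal.omega_index]
      exact Orthogonal.index_commutator_eq_four hQ h2 (by omega)
    have hne : (-1 : Matrix (Fin (k + 1) ⊕ Fin (k + 1)) (Fin (k + 1) ⊕ Fin (k + 1)) F) ≠ 1 := fun h => by
      have := congr_fun (congr_fun h (Sum.inl 0)) (Sum.inl 0)
      rw [Matrix.neg_apply, Matrix.one_apply_eq] at this
      exact h2 (by linear_combination -this)
    by_cases hm4 : q ^ (k + 1) % 4 = 1
    · obtain ⟨g, hg, hgm⟩ := (hcoe ▸ S0790.result hF hq (k + 1) (by omega)).2 hm4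
      have key := Orthogonal.card_POmega_mul 4 hidx 2
        (Orthogonal.card_center_omega_eq_two hQ (by omega) hne g hg hgm)
      rw [hcard] at key
      have hg4 : Nat.gcd 4 (q ^ (k + 1) - 1) = 4 :=
        Nat.gcd_eq_left (by omega)
      rw [hg4]
      rw [mul_assoc, mul_assoc] at key; linarith
    · have hc := Orthogonal.card_center_omega_eq_one hQ (by omega) (fun g hg hgm =>
        absurd ((hcoe ▸ S0790.result hF hq (k + 1) (by omega)).1 ⟨g, hg, hgm⟩) hm4)
      have key := Orthogonal.card_POmega_mul 4 hidx 1 hc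
      rw [hcard] at key
      have hodd2 : q ^ (k + 1) % 2 = 1 := Nat.odd_iff.1 hq.pow
      have hg2 : Nat.gcd 4 (q ^ (k + 1) - 1) = 2 := by
        rw [Nat.gcd_rec, show (q ^ (k + 1) - 1) % 4 = 2 by omega]
        decide
      rw [hg2]
      rw [mul_assoc, mul_assoc] at key; linarith

end Cfsg.Agent.S0293
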