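import Cfsg.Statements.S5255
import Cfsg.Agent.H90.Normal

set_option autoImplicit false
open Cfsg

namespace Cfsg.Agent.S5255

/-- Let F be a saturated fusion system over a finite p-group S and T a subgroup of S strongly closed in F. Then T·C_S(T) is strongly closed in F. -/
theorem result {Ω : Type*} [Group Ω] {S : Subgroup Ω} [Finite S] (p : ℕ) [Fact p.Prime] (hS : IsPGroup p S) (F : Cfsg.FusionSystem S) (hF : F.IsSaturated p) (T : Subgroup Ω) (hT : F.StronglyClosed T) : F.StronglyClosed (T ⊔ Cfsg.FusionSystem.centralizerIn S T) := by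
  classical
  have hTn := Cfsg.Agent.H90.normal_in_top_of_stronglyClosed F hT
  set C := Cfsg.FusionSystem.centralizerIn S T with hC
  have hCS : C ≤ S := inf_le_left
  have hWS : T ⊔ C ≤ S := sup_le hT.1 hCS
  have := Cfsg.Agent.H90.finite_le hT.1
  have hCn : C ≤ Subgroup.normalizer (T : Set Ω) := fun c hc =>
    Cfsg.Agent.H90.normal_of_conj fun x hx => hTn c (hCS hc) x hx
  let Φ : (P : Subgroup Ω) → (↥P →* Ω) → Prop :=
    fun P φ => ∀ x : ↥P, (x : Ω) ∈ T ⊔ C ↔ φ x ∈ T ⊔ C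
  have hΦ : Cfsg.Agent.H90.IsStable F Φ :=
    { res := fun φ _ h hR x => h ⟨x, hR x.2⟩
      comp := fun φ ψ _ _ hv h1 h2 x => (h1 x).trans (h2 ⟨φ x, hv x⟩)
      inv := by
        intro P R φ ψ _ _ hr hi h y
        obtain ⟨x, hx⟩ : (y : Ω) ∈ φ.range := hr ▸ y.2
        have hxR : φ x ∈ R := hr ▸ ⟨x, rfl⟩
        rw [show ψ y = ψ ⟨φ x, hxR⟩ from congrArg ψ (Subtype.ext hx.symm), hi, h x, hx] }
  have main := Cfsg.Agent.H90.induction hS hF Φ hΦ ?_
  · exact ⟨hWS, fun R hR φ hφ x => (main R φ hφ x).1 (hR x.2)⟩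
  intro R hRS hA hR IH
  suffices H : ∀ α ∈ F.autGroup R, ∀ x : ↥R, (x : Ω) ∈ T ⊔ C → ((α x : ↥R) : Ω) ∈ T ⊔ C by
    intro α hα x
    refine ⟨H α hα x, fun h => ?_⟩
    have h' := H _ ((F.autGroup R).inv_mem hα) (α x) h
    rwa [show α⁻¹ (α x) = x from α.symm_apply_apply x] at h'
  intro α hα x hx
  by_cases hTR : T ≤ R
  · have hx' : (x : Ω) ∈ ((T ⊔ C : Subgroup Ω) : Set Ω) := hx
    rw [sup_comm, Subgroup.coe_mul_of_left_le_normalizer_right C T hCn] at hx'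
    obtain ⟨c, hc, t, ht, hct⟩ := hx'
    have hcR : c ∈ R := by
      have hc' : c = (x : Ω) * t⁻¹ := eq_mul_inv_of_mul_eq hct
      exact hc' ▸ R.mul_mem x.2 (R.inv_mem (hTR ht))
    rw [show x = ⟨c, hcR⟩ * ⟨t, hTR ht⟩ from Subtype.ext hct.symm, map_mul]
    refine mul_mem (Subgroup.mem_sup_right ⟨hRS (α _).2, ?_⟩) (Subgroup.mem_sup_left
      (Cfsg.Agent.H90.aut_mem_of_stronglyClosed F hT hRS hα _ ht))
    refine Subgroup.mem_centralizer_iff.2 fun u hu => ?_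
    have hw : ((α⁻¹ ⟨u, hTR hu⟩ : ↥R) : Ω) ∈ T :=
      Cfsg.Agent.H90.aut_mem_of_stronglyClosed F hT hRS ((F.autGroup R).inv_mem hα) _ hu
    rw [show u = ((α (α⁻¹ ⟨u, hTR hu⟩) : ↥R) : Ω) from
      congrArg Subtype.val (α.apply_symm_apply ⟨u, hTR hu⟩).symm]
    refine congrArg Subtype.val (?_ : α (α⁻¹ ⟨u, hTR hu⟩) * α ⟨c, hcR⟩ = α ⟨c, hcR⟩ * α _)
    rw [← map_mul, ← map_mul]
    exact congrArg α (Subtype.ext (Subgroup.mem_centralizer_iff.1 hc.2 _ hw))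
  · let d : ℕ → Subgroup Ω := fun k => if k = 0 then T ⊓ R else R
    have hdm : Monotone d := monotone_nat_of_le_succ fun k => by
      simp only [d, Nat.succ_ne_zero, if_false]
      split_ifs
      · exact inf_le_right
      · exact le_rfl
    have hdinv : ∀ β ∈ F.autGroup R, ∀ (k : ℕ) (x : ↥R), (x : Ω) ∈ d k →
        ((β x : ↥R) : Ω) ∈ d k := by
      intro β hβ k x
      simp only [d]
      split_ifs
      · exact fun hx => ⟨Cfsg.Agent.H90.aut_mem_of_stronglyClosed F hT hRS hβ x hx.1, (β x).2⟩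
      · exact fun _ => (β x).2
    obtain ⟨g, hgT, hgR, hgN⟩ := Cfsg.Agent.H90.exists_mem_normalizer hS hRS hT.1
      (fun r hr => Cfsg.Agent.H90.normal_of_conj fun x hx => hTn r (hRS hr) x hx) hTR
    obtain ⟨m, β, hm, he, X, hRX, hX, ψ, hψ, hext⟩ := Cfsg.Agent.H90.aut_decomp hA hR _
      (Cfsg.Agent.H90.chainStab_normal F R d hdm hdinv) ⟨α, hα⟩
    have hgM : (⟨_, Cfsg.Agent.H90.normAut_mem_aut F hRS (hT.1 hgT) hgN⟩ : ↥(F.autGroup R)) ∈
        Cfsg.Agent.H90.chainStab F R d hdm hdinv := by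
      intro k y _
      show (y : Ω)⁻¹ * (g * y * g⁻¹) ∈ d k
      simp only [d]
      have hyR := R.mul_mem (R.inv_mem y.2) ((Subgroup.mem_normalizer_iff.1 hgN y).1 y.2)
      split_ifs
      · refine ⟨?_, hyR⟩
        have := T.mul_mem (hTn _ (S.inv_mem (hRS y.2)) g hgT) (T.inv_mem hgT)
        simpa [mul_assoc] using this
      · exact hyR
    have hlt : Nat.card R < Nat.card X := Cfsg.Agent.H90.card_lt_of_lt
      (Cfsg.Agent.H90.src_le F hψ) (hRX.lt_of_ne fun h => hgR (h ▸ hX g (hT.1 hgT) hgN _ hgM))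
    have hb : (((β : MulAut ↥R) x : ↥R) : Ω) ∈ T ⊔ C :=
      (hext x) ▸ (IH X ψ hψ hlt ⟨x, hRX x.2⟩).1 hx
    have hmy := hm 0 ((β : MulAut ↥R) x) (by simp [d])
    have h := (T ⊔ C).mul_mem hb (Subgroup.mem_sup_left hmy.1)
    rw [mul_inv_cancel_left] at h
    rw [show α = (m : MulAut ↥R) * (β : MulAut ↥R) from congrArg Subtype.val he]
    exact h

end Cfsg.Agent.S5255
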