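import Cfsg.Statements.S5110
import Cfsg.Agent.FusionSys.SaturationCriterion

set_option autoImplicit false
open Cfsg

namespace Cfsg.Agent.S5110

/-- Saturation criterion: let F be a fusion system over a finite p-group S and H a family of subgroups of S closed under conjugacy in F, such that every conjugacy class inside H contains a fully automized receptive member, F is the smallest fusion system over S containing all its maps with source in H, and every centric subgroup outside H is conjugate in F to some P for which Aut_S(P) ∩ O_p(Aut_F(P)) is not contained in Inn(P). Then F is saturated. -/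
theorem result {Ω : Type*} [Group Ω] {S : Subgroup Ω} [Finite S] (p : ℕ) [Fact p.Prime] (hS : IsPGroup p S) (F : Cfsg.FusionSystem S) (ℋ : Set (Subgroup Ω)) (hℋS : ∀ P ∈ ℋ, P ≤ S) (hℋconj : ∀ P ∈ ℋ, ∀ Q, F.IsConj P Q → Q ∈ ℋ) (hsat : ∀ P ∈ ℋ, ∃ Q, F.IsConj P Q ∧ F.IsFullyAutomized p Q ∧ F.IsReceptive Q) (hgen : ∀ E : Cfsg.FusionSystem S, (∀ P ∈ ℋ, F.Hom P ⊆ E.Hom P) → F ≤ E) (hstar : ∀ P : Subgroup Ω, F.IsCentric P → P ∉ ℋ → ∃ Q, F.IsConj P Q ∧ ¬ (Cfsg.autInducedBy S Q ⊓ (Cfsg.pCore p ↥(F.autGroup Q)).map (F.autGroup Q).subtype ≤ Cfsg.Inn Q)) : F.IsSaturated p := by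
  classical
  have hSℋ : S ∈ ℋ := by
    by_contra h
    have hc : F.IsCentric S := ⟨le_rfl, fun Q hQ => by
      haveI := Agent.FusionSys.finite_of_le (Agent.FusionSys.le_of_isConj_right hQ)
      have : Q = S := Subgroup.eq_of_le_of_card_ge (Agent.FusionSys.le_of_isConj_right hQ)
        (Agent.FusionSys.card_eq_of_isConj hQ).le
      subst this
      exact Agent.FusionSys.centralizerIn_le⟩
    obtain ⟨Q, hQ, hne⟩ := hstar S hc h
    refine hne (inf_le_left.trans ?_)
    rw [Agent.FusionSys.inn_eq_autInducedBy_self]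
    have : Q = S := Subgroup.eq_of_le_of_card_ge (Agent.FusionSys.le_of_isConj_right hQ)
      (Agent.FusionSys.card_eq_of_isConj hQ).le
    subst this
    exact le_rfl
  suffices H : ∀ (k : ℕ) (P : Subgroup Ω), P ≤ S → Nat.card S ≤ k + Nat.card P →
      ∃ Q, F.IsConj P Q ∧ F.IsFullyAutomized p Q ∧ F.IsReceptive Q from
    fun P hP => H (Nat.card S) P hP (Nat.le_add_right _ _)
  intro k
  induction k with
  | zero =>
    intro P hP hk
    rw [zero_add] at hk
    obtain rfl : P = S := Subgroup.eq_of_le_of_card_ge hP hk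
    exact hsat _ hSℋ
  | succ k ih =>
    intro P hP hk
    by_cases hPH : P ∈ ℋ
    · exact hsat P hPH
    have hout : ∀ Q, F.IsConj Q P → Q ∉ ℋ := fun Q hQ hQH => hPH (hℋconj Q hQH P hQ)
    refine Agent.FusionSys.exists_automized_receptive hS hP (fun R hR hlt => ih R hR (by omega))
      (fun E hE => hgen E fun R hR φ hφ => Agent.FusionSys.mem_hom_iff_isMap.2
        (hE R _ (Agent.FusionSys.isMap_of_mem hφ) fun hc => hout R hc hR)) ?_ ?_
    · exact fun Q hQ => lt_of_le_of_ne (Agent.FusionSys.le_of_isConj_left hQ)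
        fun h => hout Q hQ (h ▸ hSℋ)
    intro P' hPP' hP' hgood
    refine lt_of_le_of_ne (Agent.FusionSys.le_kSub hS hP'.1) fun he => ?_
    by_cases hc : F.IsCentric P
    · obtain ⟨Q, hQ, hne⟩ := hstar P hc hPH
      apply hne
      rintro a ⟨ha, hao⟩
      obtain ⟨x, hxS, hxn, rfl⟩ := Agent.FusionSys.mem_autInducedBy.1 ha
      obtain ⟨ψ, hψ⟩ := hgood Q (Agent.FusionSys.isConj_trans (Agent.FusionSys.isConj_symm hQ) hPP')
      have hx : x ∈ FusionSystem.normalizerIn S Q := ⟨hxS, hxn⟩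
      have hQN : Q ≤ FusionSystem.normalizerIn S Q :=
        Agent.FusionSys.le_normalizerIn_self hψ.2.source_le
      have hψx := hψ.mem hx
      have h1 : ψ x ∈ P' := he ▸ Agent.FusionSys.mem_kSub.2 ⟨hψx, by
        rw [← hψ.2.autEquiv_conjAut hψ.1 hQN (fun _ _ => rfl) hx hxn hψx.2]
        exact hψ.2.autEquiv_mem_opAut hao⟩
      obtain ⟨y, hy, hyx⟩ := hψ.2.exists_preimage h1
      obtain rfl : y = x := hψ.1.injOn (hQN hy) hx hyx
      rw [Agent.FusionSys.inn_eq_autInducedBy_self]
      exact Agent.FusionSys.mem_autInducedBy.2 ⟨y, hy, hxn, rfl⟩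
    · refine hc ⟨hP, fun Q hQ x hx => ?_⟩
      obtain ⟨ψ, hψ⟩ := hgood Q (Agent.FusionSys.isConj_trans (Agent.FusionSys.isConj_symm hQ) hPP')
      have hQN : Q ≤ FusionSystem.normalizerIn S Q :=
        Agent.FusionSys.le_normalizerIn_self hψ.2.source_le
      have hxN := Agent.FusionSys.centralizerIn_le_normalizerIn hx
      have h1 : ψ x ∈ P' := he ▸ Agent.FusionSys.centralizerIn_le_kSub
        (hψ.2.mem_centralizerIn_of_extends hψ.1 hQN (fun _ _ => rfl) hxN hx)
      obtain ⟨y, hy, hyx⟩ := hψ.2.exists_preimage h1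
      obtain rfl : y = x := hψ.1.injOn (hQN hy) hxN hyx
      exact hy

end Cfsg.Agent.S5110
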