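import Cfsg.Statements.S5114
import Cfsg.Agent.H89.Extend
import Cfsg.Agent.FusionSys.Alperin

set_option autoImplicit false
open Cfsg

namespace Cfsg.Agent.S5114

open Cfsg.FusionSystem Cfsg.Agent.FusionSys

universe u

variable {Ω : Type u} [Group Ω] {S : Subgroup Ω} [Finite S] {p : ℕ} [Fact p.Prime]
  {F : FusionSystem S}

/-- The automorphisms generated by those of `p`-power order. -/
def opAut (p : ℕ) (F : FusionSystem S) (P : Subgroup Ω) : Subgroup (F.autGroup P) :=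
  Subgroup.closure {α : ↥(F.autGroup P) | ∃ k : ℕ, orderOf α = p ^ k}

/-- Systems containing the `p`-power automorphisms of centric subgroups. -/
def Hyp0 (p : ℕ) (F E' : FusionSystem S) : Prop :=
  ∀ P : Subgroup Ω, F.IsCentric P → (opAut p F P).map (F.autGroup P).subtype ≤ E'.autGroup P

/-- Maps lying in every such system. -/
def InE0 (p : ℕ) (F : FusionSystem S) (P : Subgroup Ω) (f : Ω → Ω) : Prop :=
  ∀ E' : FusionSystem S, Hyp0 p F E' → IsMap E' P f

theorem hyp0_self : Hyp0 p F F := fun P _ => Subgroup.map_subtype_le _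

theorem InE0.isMap {P : Subgroup Ω} {f : Ω → Ω} (h : InE0 p F P f) : IsMap F P f :=
  h F hyp0_self

theorem InE0.mono {P R : Subgroup Ω} {f : Ω → Ω} (h : InE0 p F R f) (hPR : P ≤ R) : InE0 p F P f :=
  fun E' hE' => (h E' hE').mono hPR

theorem InE0.congr {P : Subgroup Ω} {f g : Ω → Ω} (h : InE0 p F P f) (he : ∀ x ∈ P, g x = f x) :
    InE0 p F P g :=
  fun E' hE' => (h E' hE').congr he

theorem InE0.comp {P Q : Subgroup Ω} {f g : Ω → Ω} (hf : InE0 p F P f) (hg : InE0 p F Q g)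
    (h : ∀ x ∈ P, f x ∈ Q) : InE0 p F P (g ∘ f) :=
  fun E' hE' => (hf E' hE').comp (hg E' hE') h

theorem InE0.exists_inv {P : Subgroup Ω} {f : Ω → Ω} (h : InE0 p F P f) :
    ∃ g, InE0 p F (imgSub f P) g ∧ ∀ x ∈ P, g (f x) = x := by
  obtain ⟨g, hg, hgf⟩ := h.isMap.exists_inv
  refine ⟨g, fun E' hE' => ?_, hgf⟩
  obtain ⟨g', hg', hgf'⟩ := (h E' hE').exists_inv
  refine hg'.congr fun y hy => ?_
  obtain ⟨x, hx, rfl⟩ := h.isMap.mem_imgSub.1 hy
  rw [hgf x hx, hgf' x hx]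

theorem inE0_of_mem_opAut {P : Subgroup Ω} (hc : F.IsCentric P) {α : F.autGroup P}
    (hα : α ∈ opAut p F P) : InE0 p F P (autMap (α : MulAut P)) :=
  fun _ hE' => autGroup_set_subgroup hc.1 (hE' P hc ⟨α, hα, rfl⟩)

theorem inv_autMap_apply {P : Subgroup Ω} (β : MulAut P) {x : Ω} (hx : x ∈ P) :
    autMap β⁻¹ (autMap β x) = x := by
  have h := autMap_inv_apply β⁻¹ hx
  rwa [inv_inv] at h

/-- `InE0` is invariant under the automorphisms of `S`. -/
theorem InE0.conj {β : MulAut S} (hβ : β ∈ F.autGroup S) {P : Subgroup Ω} {f : Ω → Ω}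
    (h : InE0 p F P f) :
    InE0 p F (imgSub (autMap β) P) (autMap β ∘ f ∘ autMap β⁻¹) := by
  intro E' hE'
  have hb : IsMap F S (autMap β) := autGroup_set_subgroup le_rfl hβ
  have hinv : ∀ {x : Ω}, x ∈ S → autMap β⁻¹ (autMap β x) = x := fun hx => inv_autMap_apply β hx
  let E'' : FusionSystem S := subSys F
    (fun P f => P ≤ S → (∀ x ∈ P, f x ∈ S) →
      IsMap E' (imgSub (autMap β) P) (autMap β ∘ f ∘ autMap β⁻¹))
    (by
      intro P f g hf he hP hm
      have hf' := hf hP fun x hx => he x hx ▸ hm x hx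
      refine hf'.congr fun y hy => ?_
      obtain ⟨x, hx, rfl⟩ := (hb.mono hP).mem_imgSub.1 hy
      simp only [Function.comp_apply, hinv (hP hx), he x hx])
    (by
      intro P a _ ha hP _
      refine (isMap_conj E' (hb.mono hP).imgSub_le (hb.mem_S ha)).congr fun y hy => ?_
      obtain ⟨x, hx, rfl⟩ := (hb.mono hP).mem_imgSub.1 hy
      simp only [Function.comp_apply, hinv (hP hx), conjMap_apply]
      exact hb.map_conj ha (hP hx))
    (by
      intro P Q f g hfF hgF hPQ hf hg hP _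
      have hf' := hf hP fun x hx => hfF.mem_S hx
      have hg' := hg hgF.le fun x hx => hgF.mem_S hx
      refine (hf'.comp hg' fun y hy => ?_).congr fun y hy => ?_
      · obtain ⟨x, hx, rfl⟩ := (hb.mono hP).mem_imgSub.1 hy
        simp only [Function.comp_apply, hinv (hP hx)]
        exact (hb.mono hgF.le).mem_imgSub.2 ⟨_, hPQ x hx, rfl⟩
      · obtain ⟨x, hx, rfl⟩ := (hb.mono hP).mem_imgSub.1 hy
        simp only [Function.comp_apply, hinv (hP hx), hinv (hfF.mem_S hx)])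
    (by
      intro P Q f g hf hg hgf hΦ hQ _
      have hf' := hΦ hf.source_le fun x hx => hf.isMap.mem_S hx
      obtain ⟨g', hg', hgf'⟩ := hf'.exists_inv
      have hle : imgSub (autMap β) Q ≤
          imgSub (autMap β ∘ f ∘ autMap β⁻¹) (imgSub (autMap β) P) := by
        intro y hy
        obtain ⟨z, hz, rfl⟩ := (hb.mono hQ).mem_imgSub.1 hy
        obtain ⟨x, hx, rfl⟩ := hf.exists_preimage hz
        refine hf'.mem_imgSub.2 ⟨autMap β x,
          (hb.mono hf.source_le).mem_imgSub.2 ⟨x, hx, rfl⟩, ?_⟩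
        simp only [Function.comp_apply, hinv (hf.source_le hx)]
      refine (hg'.mono hle).congr fun y hy => ?_
      obtain ⟨z, hz, rfl⟩ := (hb.mono hQ).mem_imgSub.1 hy
      obtain ⟨x, hx, rfl⟩ := hf.exists_preimage hz
      have h1 := hgf' (autMap β x) ((hb.mono hf.source_le).mem_imgSub.2 ⟨x, hx, rfl⟩)
      simp only [Function.comp_apply, hinv (hf.source_le hx)] at h1
      simp only [Function.comp_apply, hinv (hQ (hf.mem hx)), hgf x hx, h1])
  have hE'' : Hyp0 p F E'' := by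
    intro P hc
    rw [opAut, MonoidHom.map_closure, Subgroup.closure_le]
    rintro _ ⟨γ, ⟨k, hk⟩, rfl⟩
    have hγF : IsMap F P (autMap (γ : MulAut P)) := autGroup_set_subgroup hc.1 γ.2
    have hiso := (hb.mono hc.1).isIso
    have hδ := hiso.autEquiv_mem_autGroup γ.2
    have hδk : (⟨_, hδ⟩ : F.autGroup (imgSub (autMap β) P)) ∈ opAut p F _ := by
      refine Subgroup.subset_closure ⟨k, ?_⟩
      rw [← Subgroup.orderOf_coe, MulEquiv.orderOf_eq, Subgroup.orderOf_coe]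
      exact hk
    have hc' := isCentric_of_isConj hc hiso.isConj
    have hm := autGroup_set_subgroup hc'.1 (hE' _ hc' ⟨_, hδk, rfl⟩)
    refine mem_autGroup_of_isMap ⟨P.subtype.comp (γ : MulAut P).toMonoidHom, ⟨?_, ?_⟩,
      fun x => (autMap_coe _ x).symm⟩
    · exact mem_hom_of_isMap hγF fun x => (autMap_coe _ x).symm
    · intro hP _
      refine hm.congr fun y hy => ?_
      obtain ⟨x, hx, rfl⟩ := (hb.mono hc.1).mem_imgSub.1 hy
      rw [Subgroup.subtype_apply, hiso.autMap_autEquiv _ hx]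
      simp only [Function.comp_apply, hinv (hP hx)]
      rfl
  obtain ⟨φ, hφ, hφe⟩ := h E'' hE''
  have hm := hφ.2 (F.le_of_mem hφ.1).1 fun x hx => by
    rw [homFun_mem φ hx]; exact (F.le_of_mem hφ.1).2 ⟨x, hx⟩
  refine hm.congr fun y hy => ?_
  obtain ⟨x, hx, rfl⟩ := (hb.mono h.isMap.le).mem_imgSub.1 hy
  simp only [Function.comp_apply, hinv (h.isMap.le hx), homFun_mem φ hx]
  rw [hφe ⟨x, hx⟩]

/-- An automorphism of `S` after a map lying in every system. -/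
def Fac (p : ℕ) (F : FusionSystem S) (P : Subgroup Ω) (f : Ω → Ω) : Prop :=
  ∃ β ∈ F.autGroup S, ∃ f₀, InE0 p F P f₀ ∧ ∀ x ∈ P, f x = autMap β (f₀ x)

theorem Fac.comp {P Q : Subgroup Ω} {f g : Ω → Ω} (hf : Fac p F P f) (hg : Fac p F Q g)
    (h : ∀ x ∈ P, f x ∈ Q) : Fac p F P (g ∘ f) := by
  obtain ⟨β, hβ, f₀, hf₀, hfe⟩ := hf
  obtain ⟨γ, hγ, g₀, hg₀, hge⟩ := hg
  have hc := hg₀.conj (inv_mem hβ)
  have hb' : IsMap F S (autMap β⁻¹) := autGroup_set_subgroup le_rfl (inv_mem hβ)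
  refine ⟨γ * β, mul_mem hγ hβ, _, hf₀.comp hc fun x hx => ?_, fun x hx => ?_⟩
  · refine (hb'.mono hg₀.isMap.le).mem_imgSub.2 ⟨f x, h x hx, ?_⟩
    rw [hfe x hx, inv_autMap_apply β (hf₀.isMap.mem_S hx)]
  · simp only [Function.comp_apply, inv_inv]
    have h1 : autMap β (f₀ x) ∈ Q := hfe x hx ▸ h x hx
    rw [autMap_mul γ β (autMap_mem _ (hg₀.isMap.mem_S h1)), hge _ (h x hx), hfe x hx]
    rw [autMap_inv_apply β (hg₀.isMap.mem_S h1)]

theorem sylow_mem_opAut {P : Subgroup Ω} (T : Sylow p (F.autGroup P)) :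
    (T : Subgroup (F.autGroup P)) ≤ opAut p F P := by
  intro x hx
  refine Subgroup.subset_closure ?_
  obtain ⟨k, hk⟩ := IsPGroup.iff_orderOf.mp T.isPGroup' ⟨x, hx⟩
  exact ⟨k, by rwa [← Subgroup.orderOf_coe] at hk⟩

instance opAut_normal (P : Subgroup Ω) : (opAut p F P).Normal := by
  refine ⟨fun a ha y => ?_⟩
  unfold opAut at ha ⊢
  induction ha using Subgroup.closure_induction with
  | mem x hx =>
    obtain ⟨k, hk⟩ := hx
    refine Subgroup.subset_closure ⟨k, ?_⟩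
    rw [← hk]
    exact (MulAut.conj y).orderOf_eq x
  | one => simp
  | mul a b _ _ ha hb => simpa [mul_assoc] using mul_mem ha hb
  | inv a _ ha => simpa [mul_assoc] using inv_mem ha

theorem fac_of_map (hS : IsPGroup p S) (hF : F.IsSaturated p) {P : Subgroup Ω} {f : Ω → Ω}
    (hf : IsMap F P f) : Fac p F P f := by
  refine H89.map_induction hS hF (Φ := Fac p F) ?_ ?_
    (fun P Q f g _ _ h hf hg => hf.comp hg h) ?_ hf
  · rintro P f g - he ⟨β, hβ, f₀, hf₀, hfe⟩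
    exact ⟨β, hβ, f₀, hf₀, fun x hx => (he x hx).trans (hfe x hx)⟩
  · rintro R P f - hPR ⟨β, hβ, f₀, hf₀, hfe⟩
    exact ⟨β, hβ, f₀, hf₀.mono hPR, fun x hx => hfe x (hPR hx)⟩
  intro Q hQ IH g hg
  obtain ⟨α, hα, hαg⟩ := hg.exists_aut
  suffices H : Fac p F Q (autMap α) by
    obtain ⟨β, hβ, f₀, hf₀, hfe⟩ := H
    exact ⟨β, hβ, f₀, hf₀, fun x hx => (hαg x hx).symm.trans (hfe x hx)⟩
  rcases hQ.1.eq_or_lt with rfl | hlt
  · exact ⟨α, hα, id, fun E' _ => isMap_id E' le_rfl, fun x _ => rfl⟩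
  haveI := finite_of_le hQ.1
  have ext : ∀ γ ∈ F.autGroup Q, ∀ x, InExt S Q (autMap γ) x → x ∉ Q →
      Fac p F Q (autMap γ) := by
    intro γ hγ x hx hxQ
    have hN : ∀ y ∈ Subgroup.zpowers x, InExt S Q (autMap γ) y := by
      intro y hy
      rw [← mem_extender_iff (φ := Q.subtype.comp γ.toMonoidHom) fun z =>
        (autMap_coe γ z).symm] at hx ⊢
      exact Subgroup.zpowers_le.2 hx hy
    obtain ⟨r, hr, hre⟩ := receptive_extend (receptive_of_isFullyNormalized hS hF hQ)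
      (isIso_autMap hQ.1 hγ) hN
    have hlt' : Q < Subgroup.zpowers x ⊔ Q := lt_of_le_not_ge le_sup_right fun h =>
      hxQ (h (le_sup_left (b := Q) (Subgroup.mem_zpowers x)))
    haveI := finite_of_le hr.le
    obtain ⟨β, hβ, f₀, hf₀, hfe⟩ := IH _ r hr (H89.card_lt_card_of_lt hlt')
    exact ⟨β, hβ, f₀, hf₀.mono hlt'.le, fun y hy => (hre y hy).symm.trans (hfe y (hlt'.le hy))⟩
  by_cases hC : centralizerIn S Q ≤ Q
  swap
  · obtain ⟨x, hx, hxQ⟩ := SetLike.not_le_iff_exists.1 hC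
    exact ext α hα x ((isIso_autMap hQ.1 hα).isMap.inExt_of_centralizes hx) hxQ
  have hcen := isCentric_of_receptive (receptive_of_isFullyNormalized hS hF hQ) hC
  haveI := finite_autGroup F hQ.1
  obtain ⟨-, T, hT⟩ := isFullyAutomized_of_isFullyNormalized hS hF hQ
  have hmem : (⟨α, hα⟩ : F.autGroup Q) ∈
      Subgroup.normalizer (T : Set (F.autGroup Q)) ⊔ opAut p F Q := by
    rw [Sylow.normalizer_sup_eq_top' T (sylow_mem_opAut T)]
    exact Subgroup.mem_top _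
  obtain ⟨m, hm, k, hk, hmk⟩ := Subgroup.mem_sup_of_normal_right.mp hmem
  have hα' : α = (m : MulAut Q) * (k : MulAut Q) := (congrArg Subtype.val hmk).symm
  have hkF : Fac p F Q (autMap (k : MulAut Q)) := ⟨1, one_mem _, _, inE0_of_mem_opAut hcen hk,
    fun x hx => by rw [autMap_apply (1 : MulAut S) (hQ.1 (autMap_mem _ hx))]; rfl⟩
  have hmF : Fac p F Q (autMap (m : MulAut Q)) := by
    obtain ⟨x, hx, hxQ⟩ := SetLike.exists_of_lt (FusionSys.lt_normalizerIn hS hlt)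
    refine ext _ m.2 x (inExt_autMap hx.1 hx.2 ?_) hxQ
    have hc : (⟨conjAut hx.2, conjAut_mem_autGroup F hQ.1 hx⟩ : F.autGroup Q) ∈
        (T : Subgroup (F.autGroup Q)) := by
      exact hT ▸ (Subgroup.mem_subgroupOf.2 (mem_autInducedBy.2 ⟨x, hx.1, hx.2, rfl⟩))
    have h2 := (Subgroup.mem_normalizer_iff.1 hm _).1 hc
    exact Subgroup.mem_subgroupOf.1 (hT ▸ h2 : _ ∈ (autInducedBy S Q).subgroupOf (F.autGroup Q))
  obtain ⟨β, hβ, f₀, hf₀, hfe⟩ := hkF.comp hmF fun x hx => autMap_mem _ hx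
  refine ⟨β, hβ, f₀, hf₀, fun x hx => ?_⟩
  rw [← hfe x hx, hα', autMap_mul _ _ hx]
  rfl

theorem inE0_pElement (hS : IsPGroup p S) (hF : F.IsSaturated p) {P : Subgroup Ω} (hP : P ≤ S)
    (γ : F.autGroup P) (hγ : ∃ k : ℕ, orderOf γ = p ^ k) :
    InE0 p F P (autMap (γ : MulAut P)) := by
  obtain ⟨k, hk⟩ := hγ
  obtain ⟨Q, hPQ, hQ⟩ := exists_isFullyNormalized F hP
  obtain ⟨u, hu⟩ := isConj_iff.1 hPQ
  haveI := finite_autGroup F hQ.1
  have hγ' := hu.autEquiv_mem_autGroup γ.2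
  set γ' : F.autGroup Q := ⟨_, hγ'⟩ with hγ'def
  have hpow : γ' ^ p ^ k = 1 := by
    refine Subtype.ext ?_
    rw [Subgroup.coe_pow, hγ'def, ← map_pow, ← Subgroup.coe_pow, ← hk, pow_orderOf_eq_one]
    simp
  have hpg : IsPGroup p (Subgroup.zpowers γ') := by
    have hd : orderOf γ' ∣ p ^ k := orderOf_dvd_of_pow_eq_one hpow
    obtain ⟨j, -, hj⟩ := (Nat.dvd_prime_pow (Fact.out : p.Prime)).mp hd
    exact IsPGroup.of_card (n := j) (by rw [Nat.card_zpowers, hj])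
  obtain ⟨-, T, hT⟩ := isFullyAutomized_of_isFullyNormalized hS hF hQ
  obtain ⟨T', hT'⟩ := hpg.exists_le_sylow
  obtain ⟨a, ha⟩ := MulAction.exists_smul_eq (F.autGroup Q) T' T
  have hamem : a * γ' * a⁻¹ ∈ (T : Subgroup (F.autGroup Q)) := by
    rw [← ha, Sylow.coe_subgroup_smul]
    exact ⟨γ', hT' (Subgroup.mem_zpowers γ'), rfl⟩
  rw [hT] at hamem
  obtain ⟨x, hxS, hxn, hxe⟩ := mem_autInducedBy.1 (Subgroup.mem_subgroupOf.1 hamem)
  obtain ⟨u', hu', hu'1, hu'2⟩ := hu.exists_symm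
  have hφ : IsIso F Q P (u' ∘ autMap (a⁻¹ : MulAut Q)) :=
    (isIso_autMap hQ.1 (inv_mem a.2)).comp hu'
  obtain ⟨β, hβ, φ₀, hφ₀, hφe⟩ := fac_of_map hS hF hφ.isMap
  obtain ⟨φ', hφ', hφφ'⟩ := hφ₀.exists_inv
  have hc : InE0 p F Q (conjMap x) := fun E' _ => isMap_conj E' hQ.1 hxS
  have hmid : InE0 p F (imgSub φ₀ Q) (φ₀ ∘ (conjMap x ∘ φ')) := by
    refine (hφ'.comp hc fun y hy => ?_).comp hφ₀ fun y hy => ?_
    · obtain ⟨z, hz, rfl⟩ := hφ₀.isMap.mem_imgSub.1 hy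
      rw [hφφ' z hz]; exact hz
    · obtain ⟨z, hz, rfl⟩ := hφ₀.isMap.mem_imgSub.1 hy
      simp only [Function.comp_apply, hφφ' z hz, conjMap_apply]
      exact (Subgroup.mem_normalizer_iff.1 hxn z).1 hz
  have hconj := hmid.conj hβ
  have hb : IsMap F S (autMap β) := autGroup_set_subgroup le_rfl hβ
  have hPle : P ≤ imgSub (autMap β) (imgSub φ₀ Q) := by
    intro y hy
    obtain ⟨z, hz, rfl⟩ := hφ.exists_preimage hy
    exact (hb.mono hφ₀.isMap.imgSub_le).mem_imgSub.2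
      ⟨φ₀ z, hφ₀.isMap.mem_imgSub.2 ⟨z, hz, rfl⟩, (hφe z hz).symm⟩
  refine (hconj.mono hPle).congr fun y hy => ?_
  obtain ⟨z, hz, rfl⟩ := hφ.exists_preimage hy
  have hzS := hφ₀.isMap.mem_S hz
  have hxz : conjMap x z ∈ Q := (Subgroup.mem_normalizer_iff.1 hxn z).1 hz
  have hR : (autMap β ∘ (φ₀ ∘ (conjMap x ∘ φ')) ∘ autMap β⁻¹) ((u' ∘ autMap (a⁻¹ : MulAut Q)) z)
      = (u' ∘ autMap (a⁻¹ : MulAut Q)) (conjMap x z) := by
    rw [hφe z hz, hφe _ hxz]
    simp only [Function.comp_apply, inv_autMap_apply β hzS, hφφ' z hz]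
  rw [hR]
  simp only [Function.comp_apply]
  have hw : autMap (a⁻¹ : MulAut Q) z ∈ Q := autMap_mem _ hz
  have hxmap : conjMap x z
      = autMap ((a : MulAut Q) * (γ' : MulAut Q) * (a : MulAut Q)⁻¹) z := by
    rw [show (a : MulAut Q) * (γ' : MulAut Q) * (a : MulAut Q)⁻¹ = conjAut hxn from hxe,
      autMap_conjAut hxn hz]
  rw [hxmap, autMap_mul _ _ hz, autMap_mul _ _ hw,
    inv_autMap_apply (a : MulAut Q) (autMap_mem _ hw)]
  have h1 := hu.autMap_autEquiv (γ : MulAut P) (hu'.mem hw)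
  rw [hu'2 _ hw] at h1
  rw [hγ'def, h1, hu'1 _ (autMap_mem _ (hu'.mem hw))]

theorem main (hS : IsPGroup p S) (hF : F.IsSaturated p) (E : FusionSystem S)
    (hEF : E.IsSubsystemOf F) (h : Hyp0 p F E) :
    E.HasPrimeToPIndexIn F p ∧ (∀ (P : Subgroup Ω) (φ : P →* Ω), φ ∈ F.Hom P → ∃ α ∈ F.autGroup S,
      ∃ φ₀ ∈ E.Hom P, ∀ (x : P) (hx : φ₀ x ∈ S), φ x = ((α ⟨φ₀ x, hx⟩ : S) : Ω)) ∧
      ∀ P : Subgroup Ω, E.IsCentric P ↔ F.IsCentric P := by
  have hle := (isSubsystemOf_iff_isMap.1 hEF)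
  refine ⟨⟨hEF, fun P hP => ?_⟩, fun P φ hφ => ?_, fun P => ?_⟩
  · rw [MonoidHom.map_closure, Subgroup.closure_le]
    rintro _ ⟨γ, hγ, rfl⟩
    exact mem_autGroup_of_isMap (inE0_pElement hS hF hP γ hγ E h)
  · obtain ⟨β, hβ, f₀, hf₀, hfe⟩ := fac_of_map hS hF (isMap_of_mem hφ)
    obtain ⟨φ₀, hφ₀, he⟩ := hf₀ E h
    refine ⟨β, hβ, φ₀, hφ₀, fun x hx => ?_⟩
    have h1 := hfe x x.2
    rw [homFun_coe] at h1
    rw [h1, ← he x, autMap_apply β hx]
  · refine ⟨fun hc => ⟨hc.1, fun Q hQ => ?_⟩, fun hc => ⟨hc.1, fun Q hQ => ?_⟩⟩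
    · obtain ⟨f, hf⟩ := isConj_iff.1 hQ
      obtain ⟨β, hβ, f₀, hf₀, hfe⟩ := fac_of_map hS hF hf.isMap
      have hR := hc.2 _ (hf₀ E h).isIso.isConj
      have hb' : IsMap F S (autMap β⁻¹) := autGroup_set_subgroup le_rfl (inv_mem hβ)
      intro x hx
      rw [mem_centralizerIn] at hx
      have hy : autMap β⁻¹ x ∈ imgSub f₀ P := hR (mem_centralizerIn.2 ⟨hb'.mem_S hx.1, fun r hr => by
        obtain ⟨z, hz, rfl⟩ := hf₀.isMap.mem_imgSub.1 hr
        have h1 := hx.2 (f z) (hf.mem hz)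
        have h2 := congrArg (autMap β⁻¹) h1
        rw [hb'.map_mul (hf.target_le (hf.mem hz)) hx.1,
          hb'.map_mul hx.1 (hf.target_le (hf.mem hz)), hfe z hz,
          inv_autMap_apply β (hf₀.isMap.mem_S hz)] at h2
        exact h2⟩)
      obtain ⟨z, hz, hze⟩ := hf₀.isMap.mem_imgSub.1 hy
      have h3 := autMap_inv_apply β hx.1
      rw [← hze, ← hfe z hz] at h3
      exact h3 ▸ hf.mem hz
    · obtain ⟨f, hf⟩ := isConj_iff.1 hQ
      exact hc.2 Q (IsIso.mk (hle P f hf.isMap) hf.image_eq).isConj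


/-- Let F be a saturated fusion system over a finite p-group S and E a fusion system over S contained in F. If Aut_E(P) contains the subgroup of Aut_F(P) generated by its elements of p-power order for every subgroup P that is centric in F, then the same holds for every subgroup of S (E has index prime to p in F), every map of F with source a subgroup P of S is an element of Aut_F(S) composed with a map of E, and a subgroup is centric in E exactly when it is centric in F. -/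
theorem result {Ω : Type*} [Group Ω] {S : Subgroup Ω} [Finite S] (p : ℕ) [Fact p.Prime] (hS : IsPGroup p S) (F : Cfsg.FusionSystem S) (hF : F.IsSaturated p) (E : Cfsg.FusionSystem S) (hEF : E.IsSubsystemOf F) (h : ∀ P : Subgroup Ω, F.IsCentric P → (Subgroup.closure {α : ↥(F.autGroup P) | ∃ k : ℕ, orderOf α = p ^ k}).map (F.autGroup P).subtype ≤ E.autGroup P) : E.HasPrimeToPIndexIn F p ∧ (∀ (P : Subgroup Ω) (φ : P →* Ω), φ ∈ F.Hom P → ∃ α ∈ F.autGroup S, ∃ φ₀ ∈ E.Hom P, ∀ (x : P) (hx : φ₀ x ∈ S), φ x = ((α ⟨φ₀ x, hx⟩ : S) : Ω)) ∧ ∀ P : Subgroup Ω, E.IsCentric P ↔ F.IsCentric P := by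
  exact main hS hF E hEF h

end Cfsg.Agent.S5114
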