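import Cfsg.Statements.S5140
import Cfsg.Agent.S5110
import Cfsg.Agent.S5114
import Cfsg.Agent.FusionSys.Centric
import Cfsg.Agent.H91.Theta.Main

set_option autoImplicit false
open Cfsg

namespace Cfsg.Agent.S5140

open Cfsg.FusionSystem Cfsg.Agent.FusionSys
open Cfsg.Agent.S5114 (InE0 Hyp0 Fac)

universe u

variable {Ω : Type u} [Group Ω] {S : Subgroup Ω} {F : FusionSystem S} {p : ℕ}

/-- The automorphisms of `S` agreeing with an `InE0` map on some centric subgroup. -/
def H0set (p : ℕ) (F : FusionSystem S) : Set (MulAut S) :=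
  {β | β ∈ F.autGroup S ∧ ∃ P f, F.IsCentric P ∧ InE0 p F P f ∧ ∀ x ∈ P, autMap β x = f x}

variable [Finite S] [Fact p.Prime]

/-- The group they generate. -/
def H0 (p : ℕ) [Fact p.Prime] (F : FusionSystem S) : Subgroup (MulAut S) := Subgroup.closure (H0set p F)

theorem H0_le : H0 p F ≤ F.autGroup S := (Subgroup.closure_le _).2 fun _ h => h.1

/-- An element of `H0` after a map lying in every system with the `p`-power automorphisms. -/
def Fac0 (p : ℕ) [Fact p.Prime] (F : FusionSystem S) (P : Subgroup Ω) (f : Ω → Ω) : Prop :=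
  ∃ β ∈ H0 p F, ∃ f₀, InE0 p F P f₀ ∧ ∀ x ∈ P, f x = autMap β (f₀ x)

theorem Fac0.congr {P : Subgroup Ω} {f g : Ω → Ω} (h : Fac0 p F P f) (he : ∀ x ∈ P, g x = f x) :
    Fac0 p F P g := by
  obtain ⟨β, hβ, f₀, hf₀, hfe⟩ := h
  exact ⟨β, hβ, f₀, hf₀, fun x hx => (he x hx).trans (hfe x hx)⟩

theorem Fac0.comp {P Q : Subgroup Ω} {f g : Ω → Ω} (hf : Fac0 p F P f) (hg : Fac0 p F Q g)
    (h : ∀ x ∈ P, f x ∈ Q) : Fac0 p F P (g ∘ f) := by
  obtain ⟨β, hβ, f₀, hf₀, hfe⟩ := hf
  obtain ⟨γ, hγ, g₀, hg₀, hge⟩ := hg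
  have hβ' := H0_le hβ
  have hc := hg₀.conj (inv_mem hβ')
  have hb' : IsMap F S (autMap β⁻¹) := autGroup_set_subgroup le_rfl (inv_mem hβ')
  refine ⟨γ * β, mul_mem hγ hβ, _, hf₀.comp hc fun x hx => ?_, fun x hx => ?_⟩
  · refine (hb'.mono hg₀.isMap.le).mem_imgSub.2 ⟨f x, h x hx, ?_⟩
    rw [hfe x hx, S5114.inv_autMap_apply β (hf₀.isMap.mem_S hx)]
  · simp only [Function.comp_apply, inv_inv]
    have h1 : autMap β (f₀ x) ∈ Q := hfe x hx ▸ h x hx
    rw [autMap_mul γ β (autMap_mem _ (hg₀.isMap.mem_S h1)), hge _ (h x hx), hfe x hx]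
    rw [autMap_inv_apply β (hg₀.isMap.mem_S h1)]

theorem Fac0.inv {P Q : Subgroup Ω} {f g : Ω → Ω} (hf : IsIso F P Q f)
    (hgf : ∀ x ∈ P, g (f x) = x) (h : Fac0 p F P f) : Fac0 p F Q g := by
  obtain ⟨β, hβ, f₀, hf₀, hfe⟩ := h
  have hβ' := H0_le hβ
  obtain ⟨g₀, hg₀, hg₀f⟩ := hf₀.exists_inv
  have hb : IsMap F S (autMap β) := autGroup_set_subgroup le_rfl hβ'
  refine ⟨β⁻¹, inv_mem hβ, _, (hg₀.conj hβ').mono fun y hy => ?_, fun y hy => ?_⟩
  · obtain ⟨x, hx, rfl⟩ := hf.exists_preimage hy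
    exact (hb.mono hf₀.isMap.imgSub_le).mem_imgSub.2
      ⟨f₀ x, hf₀.isMap.mem_imgSub.2 ⟨x, hx, rfl⟩, (hfe x hx).symm⟩
  · obtain ⟨x, hx, rfl⟩ := hf.exists_preimage hy
    simp only [Function.comp_apply]
    rw [hgf x hx, hfe x hx, S5114.inv_autMap_apply β (hf₀.isMap.mem_S hx), hg₀f x hx,
      S5114.inv_autMap_apply β (hf.isMap.le hx)]

/-- The residual system. -/
def residual (p : ℕ) [Fact p.Prime] (F : FusionSystem S) : FusionSystem S :=
  subSys F (Fac0 p F) (fun _ _ _ h he => h.congr he)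
    (fun P a hP ha => ⟨1, one_mem _, conjMap a, fun E' _ => isMap_conj E' hP ha, fun x hx =>
      (FusionSys.autMap_one (conjMap_apply a x ▸ S.mul_mem (S.mul_mem ha (hP hx)) (S.inv_mem ha))).symm⟩)
    (fun _ _ _ _ _ _ hm h1 h2 => h1.comp h2 hm) (fun _ _ _ _ hf _ hinv h => h.inv hf hinv)

theorem isMap_residual {P : Subgroup Ω} {f : Ω → Ω} :
    IsMap (residual p F) P f ↔ IsMap F P f ∧ Fac0 p F P f := by
  constructor
  · rintro ⟨φ, ⟨hF, h⟩, hφ⟩
    exact ⟨⟨φ, hF, hφ⟩, h.congr fun x hx => by rw [homFun_mem φ hx]; exact (hφ ⟨x, hx⟩).symm⟩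
  · rintro ⟨⟨φ, hφ, hφe⟩, h⟩
    exact ⟨φ, ⟨hφ, h.congr fun x hx => (homFun_mem φ hx).trans (hφe ⟨x, hx⟩)⟩, hφe⟩

theorem residual_sub : (residual p F).IsSubsystemOf F := fun _ _ h => h.1

theorem isMap_residual_inE0 {P : Subgroup Ω} {f : Ω → Ω} (h : InE0 p F P f) :
    IsMap (residual p F) P f :=
  isMap_residual.2 ⟨h.isMap, 1, one_mem _, f, h, fun _ hx =>
    (FusionSys.autMap_one (h.isMap.mem_S hx)).symm⟩

theorem hyp0_residual : Hyp0 p F (residual p F) := by
  intro P hc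
  rintro _ ⟨α, hα, rfl⟩
  exact mem_autGroup_of_isMap (isMap_residual_inE0 (S5114.inE0_of_mem_opAut hc hα))

theorem isSaturated_residual (hS : IsPGroup p S) (hF : F.IsSaturated p) :
    (residual p F).IsSaturated p := by
  have hm := S5114.main hS hF (residual p F) residual_sub hyp0_residual
  refine S5110.result p hS (residual p F) {P | F.IsCentric P} (fun P hP => hP.1) ?_ ?_ ?_
    (fun P hP hn => (hn ((hm.2.2 P).1 hP)).elim)
  · intro P hP Q hQ
    obtain ⟨u, hu⟩ := isConj_iff.1 hQ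
    exact isCentric_of_isConj hP (H91.CentFocal.isIso_of_sub residual_sub hu).isConj
  · intro P hP
    obtain ⟨Q', hQ', hQn'⟩ := exists_isFullyNormalized F hP.1
    obtain ⟨u, hu⟩ := isConj_iff.1 hQ'
    obtain ⟨β, hβ, f₀, hf₀, hfe⟩ := S5114.fac_of_map hS hF hu.isMap
    have hb' : IsMap F S (autMap β⁻¹) := autGroup_set_subgroup le_rfl (inv_mem hβ)
    have hQn : F.IsFullyNormalized (imgSub f₀ P) := by
      have he : imgSub (autMap β⁻¹) Q' = imgSub f₀ P := by
        refine le_antisymm ?_ ?_ <;> intro y hy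
        · obtain ⟨z, hz, rfl⟩ := (hb'.mono hQn'.1).mem_imgSub.1 hy
          obtain ⟨x, hx, rfl⟩ := hu.exists_preimage hz
          rw [hfe x hx, S5114.inv_autMap_apply β (hf₀.isMap.mem_S hx)]
          exact hf₀.isMap.mem_imgSub.2 ⟨x, hx, rfl⟩
        · obtain ⟨x, hx, rfl⟩ := hf₀.isMap.mem_imgSub.1 hy
          exact (hb'.mono hQn'.1).mem_imgSub.2 ⟨u x, hu.mem hx,
            by rw [hfe x hx, S5114.inv_autMap_apply β (hf₀.isMap.mem_S hx)]⟩
      exact he ▸ H91.Theta.isFullyNormalized_aut hQn' (inv_mem hβ)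
    set Q := imgSub f₀ P with hQdef
    refine ⟨Q, (isMap_residual_inE0 hf₀).isIso.isConj, ?_, ?_⟩
    · have hQS := hQn.1
      have hA := (isFullyAutomized_iff hS).1 (isFullyAutomized_of_isFullyNormalized hS hF hQn)
      refine (isFullyAutomized_iff hS).2 ⟨hQS, fun hd => hA.2 (dvd_trans hd ?_)⟩
      have h1 : autInducedBy S Q ≤ (residual p F).autGroup Q := autInducedBy_le_autGroup _ hQS
      have h2 : (residual p F).autGroup Q ≤ F.autGroup Q := fun α hα =>
        mem_autGroup_of_isMap (isMap_residual.1 ((mem_autGroup_iff hQS).1 hα)).1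
      rw [← Subgroup.relIndex_mul_relIndex _ _ _ h1 h2]
      exact dvd_mul_right _ _
    · refine receptive_of_extend hQn.1 fun A f N hf hAN hN => ?_
      have hfR := isMap_residual.1 hf.isMap
      have hfF : IsIso F A Q f := ⟨hfR.1, hf.image_eq⟩
      have hAc : F.IsCentric A := isCentric_of_isConj
        (isCentric_of_isConj hP hf₀.isMap.isIso.isConj) (isConj_symm hfF.isConj)
      obtain ⟨g, hg, hge⟩ := receptive_extend (receptive_of_isFullyNormalized hS hF hQn) hfF
        (N := N) fun x hx => (hN x).1 hx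
      replace hg : IsMap F N g := hg.mono le_sup_left
      obtain ⟨a, ha, e₀, he₀, hae⟩ := S5114.fac_of_map hS hF hg
      obtain ⟨h, hh, e₁, he₁, hhe⟩ := hfR.2
      refine ⟨g, isMap_residual.2 ⟨hg, a, ?_, e₀, he₀, hae⟩, hge⟩
      obtain ⟨e₀', he₀', he₀e⟩ := (he₀.mono hAN).exists_inv
      have hc : InE0 p F (imgSub e₀ A) (e₁ ∘ e₀') := he₀'.comp he₁ fun y hy => by
        obtain ⟨x, hx, rfl⟩ := (he₀.mono hAN).isMap.mem_imgSub.1 hy
        rw [he₀e x hx]; exact hx
      have hmem : h⁻¹ * a ∈ H0set p F := by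
        refine ⟨mul_mem (inv_mem (H0_le hh)) ha, imgSub e₀ A, _,
          isCentric_of_isConj hAc (he₀.mono hAN).isMap.isIso.isConj, hc, fun y hy => ?_⟩
        obtain ⟨x, hx, rfl⟩ := (he₀.mono hAN).isMap.mem_imgSub.1 hy
        rw [autMap_mul _ _ (he₀.isMap.mem_S (hAN hx)), ← hae x (hAN hx), hge x hx, hhe x hx,
          S5114.inv_autMap_apply h (he₁.isMap.mem_S hx), Function.comp_apply, he₀e x hx]
      have := mul_mem hh (Subgroup.subset_closure hmem : h⁻¹ * a ∈ H0 p F)
      rwa [mul_inv_cancel_left] at this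
  · intro E hE
    have hm' : ∀ {P : Subgroup Ω} {f : Ω → Ω}, F.IsCentric P → IsMap (residual p F) P f →
        IsMap E P f := fun hP ⟨φ, hφ, he⟩ => ⟨φ, hE _ hP hφ, he⟩
    have hSc : F.IsCentric S := ⟨le_rfl, fun Q hQ => by
      rw [eq_S_of_isConj hQ]; exact inf_le_left⟩
    have hEH : Hyp0 p F E := by
      intro P hc α hα
      exact mem_autGroup_of_isMap
        (hm' hc (autGroup_set_subgroup hc.1 (hyp0_residual P hc hα)))
    rw [le_iff_isMap]
    intro P f hf
    obtain ⟨hfF, β, hβ, f₀, hf₀, hfe⟩ := isMap_residual.1 hf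
    have hb : IsMap E S (autMap β) := hm' hSc <| isMap_residual.2
      ⟨autGroup_set_subgroup le_rfl (H0_le hβ), β, hβ, id, fun E' _ => isMap_id E' le_rfl,
        fun _ _ => rfl⟩
    exact ((hf₀ E hEH).comp hb fun x hx => hf₀.isMap.mem_S hx).congr hfe

/-- An element of `H0set` lies in every saturated system of index prime to `p`. -/
theorem mem_autGroup_of_H0set (hS : IsPGroup p S) (hF : F.IsSaturated p) (D : FusionSystem S)
    (hD : D.IsSaturated p) (hDi : D.HasPrimeToPIndexIn F p) (hDH : Hyp0 p F D) {β : MulAut S}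
    (hβ : β ∈ H0set p F) : β ∈ D.autGroup S := by
  obtain ⟨hβF, P, f, hP, hf, he⟩ := hβ
  have hm := (S5114.main hS hF D hDi.1 hDH).2.2
  have hb : IsMap F S (autMap β) := autGroup_set_subgroup le_rfl hβF
  have hPD : IsMap D P (autMap β) := (hf D hDH).congr he
  clear he hf
  induction hn : Nat.card S - Nat.card P using Nat.strong_induction_on generalizing P with
  | _ n ih =>
  rcases hP.1.eq_or_lt with rfl | hlt
  · exact mem_autGroup_of_isMap hPD
  haveI := finite_of_le hP.1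
  have hi := hPD.isIso
  obtain ⟨ψ, hψ, hψe⟩ := receptive_extend (receptive_of_isFullyCentralized hS hD
    (isFullyCentralized_of_centric_le (E := D) (le_refl' D)
      (isCentric_of_isConj ((hm P).2 hP) hi.isConj))) hi
    (N := normalizerIn S P) fun x hx => ⟨hx.1, hx.2, autMap β x, autMap_mem _ hx.1, fun y hy => by
      rw [hb.map_conj hx.1 (hP.1 hy)]⟩
  replace hψ := hψ.mono (le_sup_left : normalizerIn S P ≤ _)
  have hN : P ≤ normalizerIn S P := le_normalizerIn_self hP.1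
  obtain ⟨z, hz, -, hze⟩ := exists_center_twist hS hF hN hP
    (H91.CentFocal.isMap_of_sub hDi.1 hψ) (hb.mono hψ.le) hψe
  have hzN := hN hz
  refine ih (Nat.card S - Nat.card (normalizerIn S P)) ?_ (normalizerIn S P)
    (isCentric_of_le hP hN hψ.le) ?_ rfl
  · have := card_lt_card_normalizerIn hS hlt
    have := Subgroup.card_le_of_le (normalizerIn_le (S := S) (P := P))
    omega
  · exact ((isMap_conj D hψ.le (hψ.le hzN)).comp hψ fun x hx =>
      Subgroup.mul_mem _ (Subgroup.mul_mem _ hzN hx) (Subgroup.inv_mem _ hzN)).congr hze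

theorem residual_le (hS : IsPGroup p S) (hF : F.IsSaturated p) (D : FusionSystem S)
    (hD : D.IsSaturated p) (hDi : D.HasPrimeToPIndexIn F p) : (residual p F).IsSubsystemOf D := by
  have hDH : Hyp0 p F D := fun P hc => hDi.2 P hc.1
  rw [isSubsystemOf_iff_isMap]
  intro P f hf
  obtain ⟨hfF, β, hβ, f₀, hf₀, hfe⟩ := isMap_residual.1 hf
  have hβD : β ∈ D.autGroup S := by
    have : H0 p F ≤ D.autGroup S :=
      (Subgroup.closure_le _).2 fun _ h => mem_autGroup_of_H0set hS hF D hD hDi hDH h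
    exact this hβ
  exact ((hf₀ D hDH).comp (autGroup_set_subgroup le_rfl hβD) fun x hx =>
    hf₀.isMap.mem_S hx).congr hfe

/-- Let F be a saturated fusion system over a finite p-group S. Then F has a p'-residual subsystem: a saturated subsystem over S of index prime to p contained in every saturated subsystem over S of index prime to p. -/
theorem result {Ω : Type*} [Group Ω] {S : Subgroup Ω} [Finite S] (p : ℕ) [Fact p.Prime] (hS : IsPGroup p S) (F : Cfsg.FusionSystem S) (hF : F.IsSaturated p) : ∃ E : Cfsg.FusionSystem S, F.IsPPrimeResidual p E := by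
  exact ⟨residual p F, isSaturated_residual hS hF,
    (S5114.main hS hF (residual p F) residual_sub hyp0_residual).1, residual_le hS hF⟩

end Cfsg.Agent.S5140
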