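import Cfsg.Statements.S5141
import Cfsg.Agent.H89.ResidualNormal

set_option autoImplicit false
open Cfsg

namespace Cfsg.Agent.S5141

/-- Let F be a saturated fusion system over a finite p-group S and E a weakly normal subsystem of F over T. Then the p'-residual subsystem of E (the least saturated subsystem of E over T of index prime to p) is normal in F. -/
theorem result {Ω : Type*} [Group Ω] {S : Subgroup Ω} [Finite S] (p : ℕ) [Fact p.Prime] (hS : IsPGroup p S) (F : Cfsg.FusionSystem S) (hF : F.IsSaturated p) {T : Subgroup Ω} (E : Cfsg.FusionSystem T) (hE : E.IsWeaklyNormalIn F p) (D : Cfsg.FusionSystem T) (hD : E.IsPPrimeResidual p D) : D.IsNormalIn F p := by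
  have hTS : T ≤ S := hE.2.2.2.1.1
  haveI : Finite T := Cfsg.Agent.FusionSys.finite_of_le hTS
  have hTp : IsPGroup p T := hS.to_le hTS
  exact Cfsg.Agent.H89.ResidualNormal.isNormalIn hS hE hD.1
    (hD.2.2 _ (Cfsg.Agent.S5140.isSaturated_residual hTp hE.1)
      (Cfsg.Agent.S5114.main hTp hE.1 _ Cfsg.Agent.S5140.residual_sub Cfsg.Agent.S5140.hyp0_residual).1)
    (Cfsg.Agent.S5140.residual_le hTp hE.1 D hD.1 hD.2.1)

end Cfsg.Agent.S5141
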