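import Cfsg.Statements.S5198
import Cfsg.Agent.Fusion.PResidual
import Cfsg.Agent.H89.Extend
-- import your own Cfsg.Agent.* helpers here

set_option autoImplicit false
open Cfsg

namespace Cfsg.Agent.S5198

open Cfsg.FusionSystem Cfsg.Agent.FusionSys Cfsg.Agent.H89

universe u

variable {Ω : Type u} [Group Ω] {S : Subgroup Ω} [Finite S] {p : ℕ} [Fact p.Prime]
  {F : FusionSystem S}

theorem main (hS : IsPGroup p S) (hF : F.IsSaturated p) {T : Subgroup Ω} (hT : F.StronglyClosed T) :
    ∀ x ∈ F.hyperfocalSubgroup p, ∃ α ∈ ((Cfsg.pResidual p ↥(F.autGroup T)).map (F.autGroup T).subtype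
      ⊔ Cfsg.Inn ↥T : Subgroup (MulAut ↥T)), ∀ t : ↥T, ((α t : ↥T) : Ω) = x * (t : Ω) * x⁻¹ := by
  haveI : Finite T := finite_of_le hT.1
  haveI := finite_autGroup F hT.1
  set A := F.autGroup T
  haveI hInn : ((Cfsg.Inn T).subgroupOf A).Normal :=
    ⟨fun n hn g => (Cfsg.innNormal T).conj_mem _ hn _⟩
  haveI : (Cfsg.pResidual p A).Normal := Cfsg.Agent.Fusion.pResidual_normal
  set Kt := Cfsg.pResidual p A ⊔ (Cfsg.Inn T).subgroupOf A with hKt
  set π := QuotientGroup.mk' Kt with hπdef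
  have hquot : IsPGroup p (A ⧸ Kt) := by
    refine ((Cfsg.Agent.Fusion.isPGroup_quotient_pResidual (G := A) (p := p))).of_surjective
      (QuotientGroup.map (Cfsg.pResidual p A) Kt (MonoidHom.id A) le_sup_left) ?_
    intro q
    obtain ⟨a, rfl⟩ := QuotientGroup.mk'_surjective Kt q
    exact ⟨QuotientGroup.mk a, rfl⟩
  have hnorm : S ≤ Cfsg.FusionSystem.normalizerIn S T := fun x hx =>
    ⟨hx, mem_normalizer_of_maps fun y hy => conj_mem_of_stronglyClosed hT hx hy⟩
  set c : S →* A := ((conjAutIn S T).comp (Subgroup.inclusion hnorm)).codRestrict A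
    (fun x => conjAut_mem_autGroup F hT.1 (hnorm x.2)) with hc
  set χ := homFun (π.comp c) with hχdef
  have hχ : ∀ x (hx : x ∈ S), χ x = π (c ⟨x, hx⟩) := fun x hx => homFun_mem _ hx
  have hχmul : ∀ x ∈ S, ∀ y ∈ S, χ (x * y) = χ x * χ y := fun x hx y hy => by
    rw [hχ _ (S.mul_mem hx hy), hχ x hx, hχ y hy, ← map_mul π, ← map_mul c]; rfl
  have hχT : ∀ t ∈ T, χ t = 1 := fun t ht => by
    rw [hχ t (hT.1 ht)]
    refine (QuotientGroup.eq_one_iff _).2 (Subgroup.mem_sup_right ?_)
    show (c ⟨t, hT.1 ht⟩ : MulAut T) ∈ Cfsg.Inn T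
    exact ⟨⟨t, ht⟩, MulEquiv.ext fun y => Subtype.ext rfl⟩
  let Φ : Subgroup Ω → (Ω → Ω) → Prop := fun P f => ∃ a : A ⧸ Kt, ∀ x ∈ P, χ (f x) = a * χ x * a⁻¹
  have hΦ : ∀ P f, IsMap F P f → Φ P f := by
    intro P f hf
    have hcomp : ∀ P Q f g, IsMap F P f → IsMap F Q g → (∀ x ∈ P, f x ∈ Q) → Φ P f → Φ Q g →
        Φ P (g ∘ f) := by
      rintro P Q f g - - hPQ ⟨a, ha⟩ ⟨b, hb⟩
      refine ⟨b * a, fun x hx => ?_⟩
      rw [Function.comp_apply, hb _ (hPQ x hx), ha x hx]
      group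
    refine map_induction hS hF (Φ := Φ) ?_ ?_ hcomp ?_ hf
    · rintro P f g - he ⟨a, ha⟩
      exact ⟨a, fun x hx => by rw [he x hx]; exact ha x hx⟩
    · rintro R P f - hPR ⟨a, ha⟩
      exact ⟨a, fun x hx => ha x (hPR hx)⟩
    intro Q hQ hIH f hf
    by_cases hTQ : T ≤ Q
    · have hfT := hf.isMap.mono hTQ
      have hiso : IsIso F T T f := ⟨hfT, hfT.image_eq_of_mapsTo fun x hx =>
        mem_of_stronglyClosed hT hfT hx hx⟩
      obtain ⟨a, ha, haf⟩ := hiso.exists_aut
      refine ⟨π ⟨a, ha⟩, fun x hx => ?_⟩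
      have hxS := hQ.1 hx
      have hfxS := hf.isMap.mem_S hx
      rw [hχ x hxS, hχ (f x) hfxS, eq_mul_inv_iff_mul_eq, ← map_mul, ← map_mul]
      refine congrArg π (Subtype.ext (aut_ext fun t ht => ?_))
      show autMap (conjAut (hnorm hfxS).2 * a) t = autMap (a * conjAut (hnorm hxS).2) t
      rw [autMap_mul _ _ ht, autMap_mul _ _ ht, autMap_conjAut _ ht,
        autMap_conjAut _ (autMap_mem a ht), haf t ht, conjMap_apply, conjMap_apply,
        haf _ (conj_mem_of_stronglyClosed hT hxS ht), hf.isMap.map_conj hx (hTQ ht)]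
    · have hTop := stronglyClosed_top F
      let K : Subgroup (MulAut Q) := stab F Q hQ.1 (B := T) hTop
      have hX : T ⊓ Subgroup.normalizer (Q : Set Ω) ≤ Cfsg.FusionSystem.normalizerIn S Q :=
        fun x hx => ⟨hT.1 hx.1, hx.2⟩
      have hXK : ∀ x (hx : x ∈ T ⊓ Subgroup.normalizer (Q : Set Ω)), conjAut (hX hx).2 ∈ K := fun x hx =>
        ⟨conjAut_mem_autGroup F hQ.1 (hX hx), fun y hy hyS => by
          rw [autMap_conjAut _ hy, conjMap_apply,
            show y⁻¹ * (x * y * x⁻¹) = (y⁻¹ * x * y⁻¹⁻¹) * x⁻¹ by group]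
          exact T.mul_mem (conj_mem_of_stronglyClosed hT (S.inv_mem hyS) hx.1) (T.inv_mem hx.1)⟩
      obtain ⟨α, hα, hαf⟩ := hf.exists_aut
      obtain ⟨β, hβ, k, hk, hαβ, g, hg, hge⟩ := exists_frattini hS hF hQ (K := K) (fun _ h => h.1)
        (fun a ha k hk => stab_conj hQ.1 hTop hT ha hk) hX hXK hα
      haveI : Finite ↥((T ⊓ Subgroup.normalizer (Q : Set Ω)) ⊔ Q) := finite_of_le hg.le
      obtain ⟨b, hb⟩ := hIH _ g hg (card_lt_card_of_lt (lt_inf_normalizer_sup hS hT hQ.1 hTQ))
      refine ⟨b, fun x hx => ?_⟩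
      have hkx : autMap k x ∈ Q := autMap_mem k hx
      rw [← hαf x hx, hαβ, autMap_mul _ _ hx, ← hge _ hkx, hb _ (Subgroup.mem_sup_right hkx)]
      have hd := hk.2 x hx (hQ.1 hx)
      rw [show autMap k x = x * (x⁻¹ * autMap k x) by group, hχmul x (hQ.1 hx) _ (hT.1 hd),
        hχT _ hd, mul_one]
  have hker : ∀ y ∈ F.hyperfocalSubgroup p, y ∈ S ∧ χ y = 1 := by
    intro y hy
    induction hy using Subgroup.closure_induction with
    | mem y hy =>
      obtain ⟨P, α, x, hP, hα, rfl⟩ := hy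
      have hsub : ∀ α ∈ Cfsg.pResidual p (F.autGroup P), ∀ x ∈ P,
          χ (autMap (α : MulAut P) x) = χ x := by
        intro α hα
        induction hα using Subgroup.closure_induction with
        | mem α hα =>
          intro x hx
          obtain ⟨a, ha⟩ := hΦ P _ (isIso_autMap hP α.2).isMap
          have hn : ∀ n : ℕ, ∀ x ∈ P, χ (autMap ((α : MulAut P) ^ n) x) = a ^ n * χ x * (a ^ n)⁻¹ := by
            intro n
            induction n with
            | zero => intro x hx; simp [autMap_apply _ hx]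
            | succ n ih =>
              intro x hx
              rw [pow_succ', autMap_mul _ _ hx, ha _ (autMap_mem _ hx), ih x hx, pow_succ']
              group
          obtain ⟨j, hj⟩ := IsPGroup.iff_orderOf.1 hquot a
          have hco : (orderOf α).Coprime (orderOf a) := by
            rw [hj]
            exact Nat.Coprime.pow_right j hα
          obtain ⟨m, hm⟩ := exists_pow_eq_self_of_coprime hco
          have h1 : Commute (a ^ orderOf α) (χ x) := by
            have h := hn (orderOf α) x hx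
            rw [← Subgroup.coe_pow, pow_orderOf_eq_one, Subgroup.coe_one, autMap_apply _ hx] at h
            exact eq_mul_inv_iff_mul_eq.1 h |>.symm
          have h2 := h1.pow_left m
          rw [hm] at h2
          rw [ha x hx, h2.eq]
          group
        | one => intro x hx; rw [autMap_apply _ hx]; rfl
        | mul a b _ _ ha hb =>
          intro x hx
          rw [Subgroup.coe_mul, autMap_mul _ _ hx, ha _ (autMap_mem _ hx), hb x hx]
        | inv a _ ha =>
          intro x hx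
          have h := ha _ (autMap_mem (a : MulAut P)⁻¹ hx)
          rw [autMap_inv_apply _ hx] at h
          rw [Subgroup.coe_inv, ← h]
      have h1 := hsub α hα x x.2
      rw [autMap_apply _ x.2] at h1
      have hxS := hP x.2
      have hαS : ((α : MulAut P) x : Ω) ∈ S := hP ((α : MulAut P) x).2
      refine ⟨S.mul_mem (S.inv_mem hxS) hαS, ?_⟩
      rw [hχmul _ (S.inv_mem hxS) _ hαS, h1, ← hχmul _ (S.inv_mem hxS) _ hxS, inv_mul_cancel]
      exact hχT 1 T.one_mem
    | one => exact ⟨S.one_mem, hχT 1 T.one_mem⟩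
    | mul a b _ _ ha hb => exact ⟨S.mul_mem ha.1 hb.1, by rw [hχmul a ha.1 b hb.1, ha.2, hb.2, mul_one]⟩
    | inv a _ ha =>
      refine ⟨S.inv_mem ha.1, ?_⟩
      have h := hχmul a ha.1 _ (S.inv_mem ha.1)
      rwa [mul_inv_cancel, hχT 1 T.one_mem, ha.2, one_mul, eq_comm] at h
  intro x hx
  obtain ⟨hxS, hx1⟩ := hker x hx
  rw [hχ x hxS] at hx1
  refine ⟨(c ⟨x, hxS⟩ : MulAut T), ?_, fun t => rfl⟩
  have hmem : A.subtype (c ⟨x, hxS⟩) ∈ Kt.map A.subtype := ⟨_, (QuotientGroup.eq_one_iff _).1 hx1, rfl⟩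
  rw [hKt, Subgroup.map_sup] at hmem
  exact (sup_le_sup_left (Subgroup.map_comap_le A.subtype (Cfsg.Inn T)) _) hmem

/-- Let F be a saturated fusion system over a finite p-group S and T a subgroup of S strongly closed in F (so T is normal in S). Then every element x of the hyperfocal subgroup of F acts on T by conjugation as an element of O^p(Aut_F(T))·Inn(T): there is an automorphism of T in the subgroup generated by the elements of Aut_F(T) of order prime to p together with the inner automorphisms of T that agrees with conjugation by x. -/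
theorem result {Ω : Type*} [Group Ω] {S : Subgroup Ω} [Finite S] (p : ℕ) [Fact p.Prime] (hS : IsPGroup p S) (F : Cfsg.FusionSystem S) (hF : F.IsSaturated p) (T : Subgroup Ω) (hT : F.StronglyClosed T) : ∀ x ∈ F.hyperfocalSubgroup p, ∃ α ∈ ((Cfsg.pResidual p ↥(F.autGroup T)).map (F.autGroup T).subtype ⊔ Cfsg.Inn ↥T : Subgroup (MulAut ↥T)), ∀ t : ↥T, ((α t : ↥T) : Ω) = x * (t : Ω) * x⁻¹ := main hS hF hT

end Cfsg.Agent.S5198
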