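import Cfsg.Statements.S3021
import Cfsg.Agent.Fusion.PComplement
import Cfsg.Agent.Fusion.Alperin

set_option autoImplicit false
open Cfsg

namespace Cfsg.Agent.S3021

theorem mem_normalizer_of_conj_le {G : Type*} [Group G] [Finite G] {H : Subgroup G} (hcl : Cfsg.IsExtremelyClosed H) {n : G}
    (hn : H.map (MulAut.conj n).toMonoidHom ≤ Subgroup.normalizer (H : Set G)) :
    n ∈ Subgroup.normalizer (H : Set G) := by
  have hle : H.map (MulAut.conj n).toMonoidHom ≤ H :=
    (le_inf le_sup_right hn).trans (hcl n).le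
  have heq := Subgroup.eq_of_le_of_card_ge hle (Subgroup.card_map_of_injective (MulAut.conj n).injective).ge
  rw [Subgroup.mem_normalizer_iff]
  intro y
  conv_rhs => rw [← heq]
  simp [Subgroup.mem_map]

/-- Let G be a finite group, p a prime and H a p-subgroup of G that is extremely closed (for every g, the subgroup generated by H and g H g⁻¹ meets N_G(H) exactly in H). Then every p-subgroup Q of G containing H has N_G(Q) ≤ N_G(H); in particular every Sylow p-subgroup P of G containing H normalizes H, and H is strongly closed in P with respect to G. -/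
theorem result {G : Type*} [Group G] [Finite G] {p : ℕ} [Fact p.Prime] (H : Subgroup G) (hHp : IsPGroup p H) (hcl : Cfsg.IsExtremelyClosed H) : (∀ Q : Subgroup G, IsPGroup p Q → H ≤ Q → Subgroup.normalizer (Q : Set G) ≤ Subgroup.normalizer (H : Set G)) ∧ ∀ P : Sylow p G, H ≤ (P : Subgroup G) → (P : Subgroup G) ≤ Subgroup.normalizer (H : Set G) ∧ Cfsg.IsStronglyClosed H (P : Subgroup G) := by
  have h1 : ∀ Q : Subgroup G, IsPGroup p Q → H ≤ Q → Q ≤ Subgroup.normalizer (H : Set G) := by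
    intro Q hQ hHQ
    set N := Q ⊓ Subgroup.normalizer (H : Set G) with hN
    by_contra hcon
    have hlt : N < Q := lt_of_le_of_ne inf_le_left fun e => hcon (e ▸ inf_le_right)
    obtain ⟨x, ⟨hxQ, hxN⟩, hx⟩ := SetLike.exists_of_lt (Fusion.ofSubgroupInfLt Q hQ hlt)
    refine hx ⟨hxQ, mem_normalizer_of_conj_le hcl ?_⟩
    rintro _ ⟨e, he, rfl⟩
    exact ((Subgroup.mem_normalizer_iff.mp hxN e).mp (⟨hHQ he, Subgroup.le_normalizer he⟩ : e ∈ N)).2
  refine ⟨fun Q hQ hHQ n hn => mem_normalizer_of_conj_le hcl ?_, fun P hHP => ⟨h1 _ P.isPGroup' hHP, hHP, ?_⟩⟩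
  · rintro _ ⟨e, he, rfl⟩
    exact h1 Q hQ hHQ ((Subgroup.mem_normalizer_iff.mp hn e).mp (hHQ he))
  · intro x hx g hg
    have h2 : g * x * g⁻¹ ∈ (H ⊔ H.map (MulAut.conj g).toMonoidHom) ⊓ Subgroup.normalizer (H : Set G) :=
      ⟨Subgroup.mem_sup_right ⟨x, hx, rfl⟩, h1 _ P.isPGroup' hHP hg⟩
    rwa [hcl g] at h2

end Cfsg.Agent.S3021
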