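import Cfsg.Statements.S1307
import Cfsg.Agent.S0201
import Cfsg.Agent.S0016
import Cfsg.Agent.Cores.ZStarMain
import Cfsg.Agent.Cores.PCore
import Cfsg.Agent.Components.Basic

set_option autoImplicit false
open Cfsg

namespace Cfsg.Agent.S1307

section Helpers

open Subgroup

variable {L : Type*} [Group L] [Finite L]

theorem exists_invol_unique (hrk : Cfsg.PRankLE 2 1 L) (S : Sylow 2 L)
    (hS : ∃ u ∈ S, orderOf u = 2) :
    ∃ z : L, (z ∈ S ∧ orderOf z = 2) ∧ ∀ v : L, v ∈ S → orderOf v = 2 → v = z := by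
  haveI : Fact (Nat.Prime 2) := ⟨Nat.prime_two⟩
  haveI : Nontrivial (S : Subgroup L) := by
    obtain ⟨u, hu, hu2⟩ := hS
    exact ⟨⟨u, hu⟩, 1, fun h => by
      simp [show u = 1 from congrArg Subtype.val h] at hu2⟩
  have hc : Nontrivial (center (S : Subgroup L)) := S.isPGroup'.center_nontrivial
  obtain ⟨n, hn⟩ := IsPGroup.iff_card.mp (S.isPGroup'.to_subgroup (center (S : Subgroup L)))
  obtain ⟨c, hc2⟩ := exists_prime_orderOf_dvd_card' (G := center (S : Subgroup L)) 2 (by
    rw [hn]
    refine dvd_pow_self 2 fun h => ?_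
    subst h
    exact absurd hn (Finite.one_lt_card_iff_nontrivial.mpr hc).ne')
  have hco : orderOf ((c : (S : Subgroup L)) : L) = 2 := by
    rw [Subgroup.orderOf_coe, Subgroup.orderOf_coe, hc2]
  refine ⟨((c : (S : Subgroup L)) : L), ⟨(c : (S : Subgroup L)).2, hco⟩, fun v hv hv2 => ?_⟩
  by_contra hne
  have hcomm : Commute v ((c : (S : Subgroup L)) : L) :=
    congrArg Subtype.val (Subgroup.mem_center_iff.mp c.2 ⟨v, hv⟩)
  have hAc : IsMulCommutative ↥(closure ({v, ((c : (S : Subgroup L)) : L)} : Set L)) :=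
    Subgroup.isMulCommutative_closure (by
      rintro a (rfl | rfl) b (rfl | rfl)
      exacts [rfl, hcomm.eq, hcomm.symm.eq, rfl])
  have hexp : ∀ a ∈ closure ({v, ((c : (S : Subgroup L)) : L)} : Set L), a ^ 2 = 1 := by
    intro a ha
    induction ha using closure_induction with
    | mem a ha =>
      rcases ha with rfl | rfl
      · rw [← hv2, pow_orderOf_eq_one]
      · have h' := pow_orderOf_eq_one ((c : (S : Subgroup L)) : L)
        rwa [hco] at h'
    | one => simp
    | mul a b ha hb iha ihb =>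
      have : Commute a b := congrArg Subtype.val (hAc.is_comm.comm ⟨a, ha⟩ ⟨b, hb⟩)
      rw [this.mul_pow, iha, ihb, one_mul]
    | inv a _ ih => rw [inv_pow, ih, inv_one]
  have hle := hrk _ hAc hexp
  have h3 : 2 < Nat.card ↥(closure ({v, ((c : (S : Subgroup L)) : L)} : Set L)) := by
    refine Nat.card_le_card_of_injective (α := Option Bool) (fun o => o.elim
      (⟨1, one_mem _⟩ : ↥(closure ({v, ((c : (S : Subgroup L)) : L)} : Set L)))
      fun b => if b then ⟨v, subset_closure (by simp)⟩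
        else ⟨((c : (S : Subgroup L)) : L), subset_closure (by simp)⟩) ?_ |> fun h => by simp at h; omega
    have hv1 : v ≠ 1 := fun h => by simp [h] at hv2
    have hc1 : ((c : (S : Subgroup L)) : L) ≠ 1 := fun h => by rw [h] at hco; simp at hco
    have hc1' : (c : (S : Subgroup L)) ≠ 1 := fun h => hc1 (by rw [h]; rfl)
    have hc1'' : c ≠ 1 := fun h => hc1' (by rw [h]; rfl)
    rintro (_ | (_ | _)) (_ | (_ | _)) h <;>
      first
        | rfl
        | (exfalso
           have h' := congrArg Subtype.val h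
           simp at h'
           first
             | exact hv1 h' | exact hv1 h'.symm | exact hc1 h' | exact hc1 h'.symm
             | exact hc1' h' | exact hc1' h'.symm | exact hc1'' h' | exact hc1'' h'.symm
             | exact hne h' | exact hne h'.symm)
  simp at hle
  omega

theorem eq_of_card_two {S : Subgroup L} {z : L} (hzu : ∀ v : L, v ∈ S → orderOf v = 2 → v = z)
    {H K : Subgroup S} (hH : Nat.card H = 2) (hK : Nat.card K = 2) : H = K := by
  haveI : Fact (Nat.Prime 2) := ⟨Nat.prime_two⟩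
  obtain ⟨x, hx⟩ := exists_prime_orderOf_dvd_card' (G := H) 2 (by rw [hH])
  obtain ⟨y, hy⟩ := exists_prime_orderOf_dvd_card' (G := K) 2 (by rw [hK])
  have hx' := hzu _ (x : S).2 (by rw [Subgroup.orderOf_coe, Subgroup.orderOf_coe, hx])
  have hy' := hzu _ (y : S).2 (by rw [Subgroup.orderOf_coe, Subgroup.orderOf_coe, hy])
  have hxy : (x : S) = (y : S) := Subtype.ext (hx'.trans hy'.symm)
  rw [← eq_of_le_of_card_ge (zpowers_le.mpr x.2) (by rw [hH, Nat.card_zpowers, Subgroup.orderOf_coe, hx]),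
    ← eq_of_le_of_card_ge (zpowers_le.mpr y.2) (by rw [hK, Nat.card_zpowers, Subgroup.orderOf_coe, hy]),
    hxy]

theorem mem_center_of_comm_mem_center (hp : Group.IsPerfect L) {z : L}
    (h : ∀ g : L, z * g * z⁻¹ * g⁻¹ ∈ center L) : z ∈ center L := by
  let f : L →* center L := MonoidHom.mk' (fun g => ⟨z * g * z⁻¹ * g⁻¹, h g⟩) fun a b => Subtype.ext (by
    show z * (a * b) * z⁻¹ * (a * b)⁻¹ = z * a * z⁻¹ * a⁻¹ * (z * b * z⁻¹ * b⁻¹)
    rw [Subgroup.mem_center_iff.mp (h b) (z * a * z⁻¹ * a⁻¹)]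
    have e := Subgroup.mem_center_iff.mp (h b) (z * a * z⁻¹)
    calc z * (a * b) * z⁻¹ * (a * b)⁻¹
        = z * a * z⁻¹ * (z * b * z⁻¹ * b⁻¹) * a⁻¹ := by simp [mul_assoc]
      _ = _ := by rw [e]; simp [mul_assoc])
  have hker : f.ker = ⊤ := by
    refine top_le_iff.mp ?_
    rw [← hp.commutator_eq_top]
    rw [commutator_def, commutator_le]
    intro a _ b _
    rw [MonoidHom.mem_ker, map_commutatorElement, commutatorElement_eq_one_iff_mul_comm]
    exact Subtype.ext (Subgroup.mem_center_iff.mp (f b).2 (f a : L))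
  rw [Subgroup.mem_center_iff]
  intro g
  have h1 : f g = 1 := MonoidHom.mem_ker.mp (hker ▸ mem_top g)
  have h2 : z * g * z⁻¹ * g⁻¹ = 1 := congrArg Subtype.val h1
  exact (mul_inv_eq_iff_eq_mul.mp (mul_inv_eq_one.mp h2)).symm

theorem not_isCyclic_of_perfect (hp : Group.IsPerfect L) (S : Sylow 2 L) (he : Even (Nat.card L)) :
    ¬ IsCyclic (S : Subgroup L) := by
  intro hc
  haveI : Fact (Nat.Prime 2) := ⟨Nat.prime_two⟩
  haveI := hc
  have hmin : (Nat.card L).minFac = 2 := (Nat.minFac_eq_two_iff _).2 (even_iff_two_dvd.mp he)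
  have hcp := MonoidHom.ker_transferSylow_isComplement' S (hc.normalizer_le_centralizer hmin)
  set f := MonoidHom.transferSylow S (hc.normalizer_le_centralizer hmin)
  letI : CommGroup (S : Subgroup L) := IsCyclic.commGroup
  have hker : f.ker = ⊤ := by
    refine top_le_iff.mp ?_
    rw [← hp.commutator_eq_top, commutator_def, commutator_le]
    intro a _ b _
    rw [MonoidHom.mem_ker, map_commutatorElement, commutatorElement_eq_one_iff_mul_comm]
    exact mul_comm _ _
  rw [hker, isComplement'_top_left] at hcp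
  obtain ⟨u, hu⟩ := exists_prime_orderOf_dvd_card' (G := L) 2 (even_iff_two_dvd.mp he)
  exact S.not_dvd_index (by
    rw [hcp, Subgroup.index_bot]
    exact even_iff_two_dvd.mp he)

end Helpers

/-- Let G be finite, x an involution and L ≤ C_G(x) a component of C_G(x) of even order and 2-rank 1, such that L is a component of C_G(y) for every involution y ∈ C_G(L). Then some involution of L is a classical involution of G. -/
theorem result {G : Type*} [Group G] [Finite G] (x : G) (hx : orderOf x = 2) (L : Subgroup G) (hLx : L ≤ Subgroup.centralizer ({x} : Set G)) (hL : Cfsg.IsComponent (L.subgroupOf (Subgroup.centralizer ({x} : Set G)))) (heven : Even (Nat.card ↥L)) (hrk : Cfsg.PRankLE 2 1 ↥L) (hne : ∀ y : G, orderOf y = 2 → y ∈ Subgroup.centralizer (L : Set G) → L ≤ Subgroup.centralizer ({y} : Set G) ∧ Cfsg.IsComponent (L.subgroupOf (Subgroup.centralizer ({y} : Set G)))) : ∃ t ∈ L, Cfsg.IsClassicalInvolution t := by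
  haveI : Fact (Nat.Prime 2) := ⟨Nat.prime_two⟩
  have hqs : Cfsg.IsQuasisimple ↥L :=
    Components.qs_congr (Subgroup.subgroupOfEquivOfLe hLx) hL.2
  obtain ⟨u₀, hu₀⟩ := exists_prime_orderOf_dvd_card' (G := ↥L) 2 (even_iff_two_dvd.mp heven)
  obtain ⟨S, hS⟩ := (IsPGroup.of_card (p := 2) (n := 1)
    (by rw [Nat.card_zpowers, hu₀, pow_one]) : IsPGroup 2 (Subgroup.zpowers u₀)).exists_le_sylow
  obtain ⟨z, hzc, hzu⟩ := exists_invol_unique hrk S ⟨u₀, hS (Subgroup.mem_zpowers u₀), hu₀⟩
  -- the involution is isolated, hence central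
  have hQ : Cores.QuaternionCase := fun G _ _ S n e hO => S0201.result S n e hO
  have hz := Cores.zStar hQ S hzc.2 hzc.1 (fun g hg => hzu _ hg (by
    rw [← MulAut.conj_apply, MulEquiv.orderOf_eq, hzc.2]))
  have hne0 : Cfsg.oddCore ↥L ≠ ⊤ := fun h => Nat.not_even_iff_odd.mpr
    (by have := Cores.odd_card_oddCore (G := ↥L); rwa [h, Subgroup.card_top] at this) heven
  haveI : (Cfsg.oddCore ↥L).Characteristic := Cores.pPrimeCore_characteristic
  have hOZ : Cfsg.oddCore ↥L ≤ Subgroup.center ↥L := Components.qs_normal_le_center hqs _ hne0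
  have hzZ : z ∈ Subgroup.center ↥L := mem_center_of_comm_mem_center hqs.1 fun g => hOZ (hz g)
  have hzG : orderOf (z : G) = 2 := by rw [Subgroup.orderOf_coe, hzc.2]
  have hzC : (z : G) ∈ Subgroup.centralizer (L : Set G) := by
    rw [Subgroup.mem_centralizer_iff]
    intro l hl
    exact congrArg Subtype.val (Subgroup.mem_center_iff.mp hzZ ⟨l, hl⟩)
  obtain ⟨hLz, hcomp⟩ := hne _ hzG hzC
  refine ⟨z, z.2, hzG, L, hLz, z.2, hcomp.1, S, ?_⟩
  rcases S0016.result 2 S.isPGroup' (fun H K hH hK =>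
      eq_of_card_two hzu hH hK) with hcyc | ⟨-, n, ⟨e⟩⟩
  · exact absurd hcyc (not_isCyclic_of_perfect hqs.1 S heven)
  · rcases n with _ | n
    · refine absurd ?_ (not_isCyclic_of_perfect hqs.1 S heven)
      haveI : IsCyclic (QuaternionGroup (2 ^ 0)) := by
        rw [pow_zero]; exact QuaternionGroup.quaternionGroup_one_isCyclic
      exact isCyclic_of_surjective e.symm.toMonoidHom e.symm.surjective
    · exact ⟨n, ⟨e⟩⟩

end Cfsg.Agent.S1307
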