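import Cfsg.Statements.S3742
import Mathlib.GroupTheory.SpecificGroups.Quaternion

set_option autoImplicit false
open Cfsg

namespace Cfsg.Agent.S3742

open QuaternionGroup

private abbrev Q := QuaternionGroup 2

private def Valid (A B : Q) : Prop := A ^ 2 = a 2 ∧ B ^ 2 = a 2 ∧ A ≠ B ∧ A ≠ B⁻¹

private instance (A B : Q) : Decidable (Valid A B) := by unfold Valid; infer_instance

/-- The endomorphism determined by the images of the two standard generators. -/
private def ext (A B : Q) : Q → Q
  | .a n => A ^ n.val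
  | .xa n => B * A ^ n.val

/-- Two of the four faces `{x, y, x y}` of the octahedron up to sign. -/
private def vx (c : Fin 4) : Q := if c = 0 ∨ c = 1 then a 1 else a 3
private def vy (c : Fin 4) : Q := if c = 0 ∨ c = 2 then xa 0 else xa 2

private def inFace (c : Fin 4) (u : Q) : Prop := u = vx c ∨ u = vy c ∨ u = vx c * vy c

private instance (c : Fin 4) (u : Q) : Decidable (inFace c u) := by unfold inFace; infer_instance

private def matches_ (c : Fin 4) (u v w : Q) : Prop :=
  (inFace c u ∧ inFace c v ∧ inFace c w) ∨ (inFace c u⁻¹ ∧ inFace c v⁻¹ ∧ inFace c w⁻¹)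

private instance (c : Fin 4) (u v w : Q) : Decidable (matches_ c u v w) := by unfold matches_; infer_instance

private def idx (u v w : Q) : Fin 4 :=
  if matches_ 0 u v w then 0 else if matches_ 1 u v w then 1 else if matches_ 2 u v w then 2 else 3

private def face (A B : Q) (c : Fin 4) : Fin 4 :=
  idx (ext A B (vx c)) (ext A B (vy c)) (ext A B (vx c * vy c))

private theorem ext_mul : ∀ A B : Q, Valid A B → ∀ z w, ext A B (z * w) = ext A B z * ext A B w := by
  decide +kernel

private theorem ext_inj : ∀ A B : Q, Valid A B → ∀ z w, ext A B z = ext A B w → z = w := by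
  decide +kernel

private theorem face_comp : ∀ A B : Q, Valid A B → ∀ C D : Q, Valid C D → ∀ c,
    face (ext A B C) (ext A B D) c = face A B (face C D c) := by
  decide +kernel

private theorem face_one : ∀ A B : Q, Valid A B → (∀ c, face A B c = c) → A = a 1 ∧ B = xa 0 := by
  decide +kernel

private theorem face_id : ∀ c, face (a 1) (xa 0) c = c := by decide +kernel

private theorem face_surj : ∀ π : Equiv.Perm (Fin 4), ∃ A : Q, ∃ B : Q, Valid A B ∧ ∀ c, face A B c = π c := by
  decide +kernel

private theorem eq_ext (f : MulAut Q) (z : Q) : f z = ext (f (a 1)) (f (xa 0)) z := by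
  have h1 : ∀ n : ZMod (2 * 2), (a 1 : Q) ^ n.val = a n := fun n => by
    rw [a_one_pow]; simp
  cases z with
  | a n => show _ = (f (a 1)) ^ n.val; rw [← map_pow, h1]
  | xa n => show _ = f (xa 0) * (f (a 1)) ^ n.val; rw [← map_pow, h1, ← map_mul]; simp

private theorem valid_aut (f : MulAut Q) : Valid (f (a 1)) (f (xa 0)) := by
  have h : (a 1 : Q) ^ 2 = a 2 ∧ (xa 0 : Q) ^ 2 = a 2 ∧ (a 2 : Q) ≠ 1 := by decide +kernel
  have h2 : ∀ z : Q, z ^ 2 = 1 → z ≠ 1 → z = a 2 := by decide +kernel
  have hz : f (a 2) = a 2 := by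
    refine h2 _ ?_ fun he => h.2.2 (f.injective (he.trans (map_one f).symm))
    rw [← map_pow, show (a 2 : Q) ^ 2 = 1 by decide +kernel, map_one]
  refine ⟨by rw [← map_pow, h.1, hz], by rw [← map_pow, h.2.1, hz], fun he => ?_, fun he => ?_⟩
  · exact absurd (f.injective he) (by decide +kernel)
  · rw [← map_inv] at he
    exact absurd (f.injective he) (by decide +kernel)

private noncomputable def toPerm (f : MulAut Q) : Equiv.Perm (Fin 4) :=
  Equiv.ofBijective (face (f (a 1)) (f (xa 0))) (by
    refine (Finite.injective_iff_bijective).1 fun c d hcd => ?_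
    have h := fun e => face_comp _ _ (valid_aut f⁻¹) _ _ (valid_aut f) e
    have h1 : ext (f⁻¹ (a 1)) (f⁻¹ (xa 0)) (f (a 1)) = a 1 := by rw [← eq_ext]; simp
    have h2 : ext (f⁻¹ (a 1)) (f⁻¹ (xa 0)) (f (xa 0)) = xa 0 := by rw [← eq_ext]; simp
    simp only [h1, h2, face_id] at h
    rw [h c, h d, hcd])

private noncomputable def actHom : MulAut Q →* Equiv.Perm (Fin 4) :=
  MonoidHom.mk' toPerm fun f g => by
    ext1 c
    show face ((f * g) (a 1)) ((f * g) (xa 0)) c = face _ _ (face _ _ c)
    rw [← face_comp _ _ (valid_aut f) _ _ (valid_aut g), ← eq_ext, ← eq_ext]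
    rfl


/-- The automorphism group of the quaternion group of order 8 is isomorphic to the symmetric group of degree 4. -/
theorem result : Nonempty (MulAut (QuaternionGroup 2) ≃* Equiv.Perm (Fin 4)) := by
  refine ⟨MulEquiv.ofBijective actHom ⟨?_, ?_⟩⟩
  · rw [injective_iff_map_eq_one]
    intro f hf
    obtain ⟨h1, h2⟩ := face_one _ _ (valid_aut f) fun c => Equiv.ext_iff.1 hf c
    ext z
    rw [eq_ext f z, h1, h2, eq_ext (1 : MulAut Q) z]
    rfl
  · intro π
    obtain ⟨A, B, hv, hπ⟩ := face_surj π
    let f : MulAut Q := MulEquiv.ofBijective (MonoidHom.mk' (ext A B) (ext_mul A B hv))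
      ((Finite.injective_iff_bijective).1 (ext_inj A B hv))
    refine ⟨f, Equiv.ext fun c => ?_⟩
    have hA : f (a 1) = A := pow_one A
    have hB : f (xa 0) = B := mul_one B
    show face (f (a 1)) (f (xa 0)) c = π c
    rw [hA, hB, hπ c]

end Cfsg.Agent.S3742
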