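import Cfsg.Statements.S3304
import Cfsg.Agent.S3742
import Cfsg.Agent.S1307
import Cfsg.Agent.S0016
import Cfsg.Agent.H25.SL23
import Cfsg.Agent.H33.QuaternionAut
import Cfsg.Agent.Cores.Constrained
-- import your own Cfsg.Agent.* helpers here

set_option autoImplicit false
open Cfsg

namespace Cfsg.Agent.S3304

section Helpers

open Subgroup

/-- The point stabiliser in the symmetric group of degree four. -/
noncomputable def ι : Equiv.Perm (Fin 3) →* Equiv.Perm (Fin 4) :=
  MonoidHom.mk' (fun σ => Equiv.Perm.decomposeFin.symm (0, σ)) (by decide +kernel)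

/-- A fixed identification of the automorphism group of `Q₈`. -/
noncomputable def θ : MulAut (QuaternionGroup 2) ≃* Equiv.Perm (Fin 4) :=
  Classical.choice S3742.result

/-- The action defining the model. -/
noncomputable def act : Equiv.Perm (Fin 3) →* MulAut (QuaternionGroup 2) := θ.symm.toMonoidHom.comp ι

/-- The model extension. -/
abbrev Model48 : Type := QuaternionGroup 2 ⋊[act] Equiv.Perm (Fin 3)

/-- Double transpositions. -/
def Dbl (x : Equiv.Perm (Fin 4)) : Prop := x * x = 1 ∧ ∀ i, x i ≠ i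

instance (x : Equiv.Perm (Fin 4)) : Decidable (Dbl x) := by unfold Dbl; infer_instance

theorem ι_apply (σ : Equiv.Perm (Fin 3)) : ι σ = Equiv.Perm.decomposeFin.symm (0, σ) := rfl

theorem dbl_of_comm : ∀ x : Equiv.Perm (Fin 4), x ≠ 1 →
    (∀ g, x * (g * x * g⁻¹) = (g * x * g⁻¹) * x) → Dbl x := by decide +kernel

theorem card_dbl : (Finset.univ.filter Dbl).card = 3 := by decide +kernel

theorem conj_transposition : ∀ x : Equiv.Perm (Fin 4), x * x = 1 → x ≠ 1 → ¬ Dbl x →
    ∃ ρ, ρ * x * ρ⁻¹ = Equiv.Perm.decomposeFin.symm (0, Equiv.swap (0 : Fin 3) 1) := by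
  decide +kernel

theorem ι_fix : ∀ σ : Equiv.Perm (Fin 3),
    Dbl (Equiv.Perm.decomposeFin.symm (0, σ)) = False ∧
      (Equiv.Perm.decomposeFin.symm ((0 : Fin 4), σ) = 1 → σ = 1) := by
  simp only [eq_iff_iff, iff_false]
  decide +kernel

/-- Exponent of the transposition. -/
def jj (σ : Equiv.Perm (Fin 3)) : ℕ := if Equiv.Perm.sign σ = 1 then 0 else 1

/-- Exponent of the three-cycle. -/
def ii (σ : Equiv.Perm (Fin 3)) : ℕ := (σ ((Equiv.swap (0 : Fin 3) 1 ^ jj σ) 0) : Fin 3).val

theorem decomp : ∀ σ : Equiv.Perm (Fin 3),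
    σ = finRotate 3 ^ ii σ * Equiv.swap (0 : Fin 3) 1 ^ jj σ := by decide +kernel

theorem exps : ∀ σ τ : Equiv.Perm (Fin 3),
    ii (σ * τ) % 3 = (ii σ + 2 ^ jj σ * ii τ) % 3 ∧ jj (σ * τ) % 2 = (jj σ + jj τ) % 2 := by
  decide +kernel

variable {Q : Type*} [Group Q] {F : Subgroup Q} [F.Normal]

/-- The action on the quaternion subgroup as permutations of four points. -/
noncomputable def psi (e : F ≃* QuaternionGroup 2) : Q →* Equiv.Perm (Fin 4) :=
  θ.toMonoidHom.comp ((MulAut.congr e).toMonoidHom.comp MulAut.conjNormal)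

theorem psi_eq (e : F ≃* QuaternionGroup 2) (x : Q) :
    psi e x = θ (MulAut.congr e (MulAut.conjNormal x)) := rfl

theorem psi_eq_one (e : F ≃* QuaternionGroup 2) (x : Q) :
    psi e x = 1 ↔ x ∈ centralizer (F : Set Q) := by
  rw [psi_eq, MulEquiv.map_eq_one_iff, MulEquiv.map_eq_one_iff]
  constructor
  · intro h
    refine mem_centralizer_iff.mpr fun f hf => ?_
    have h1 := congrArg Subtype.val (DFunLike.congr_fun h (⟨f, hf⟩ : F))
    rw [MulAut.conjNormal_apply] at h1
    exact (mul_inv_eq_iff_eq_mul.mp h1).symm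
  · intro h
    refine MulEquiv.ext fun f => Subtype.ext ?_
    rw [MulAut.conjNormal_apply]
    exact mul_inv_eq_iff_eq_mul.mpr (mem_centralizer_iff.mp h f f.2).symm

theorem psi_trans (e : F ≃* QuaternionGroup 2) (ρ : Equiv.Perm (Fin 4)) (x : Q) :
    psi (e.trans (θ.symm ρ)) x = ρ * psi e x * ρ⁻¹ := by
  have h : MulAut.congr (e.trans (θ.symm ρ)) (MulAut.conjNormal x) =
      θ.symm ρ * MulAut.congr e (MulAut.conjNormal x) * (θ.symm ρ)⁻¹ := by
    refine MulEquiv.ext fun f => ?_
    rfl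
  rw [psi_eq, psi_eq, h, map_mul, map_mul, map_inv, MulEquiv.apply_symm_apply]

variable [Finite Q]

theorem card_centralizer (hC : centralizer (F : Set Q) ≤ F) (e : F ≃* QuaternionGroup 2) :
    Nat.card (centralizer (F : Set Q)) = 2 := by
  have h : centralizer (F : Set Q) = (center F).map F.subtype := by
    ext x
    constructor
    · intro hx
      exact ⟨⟨x, hC hx⟩, mem_center_iff.mpr fun f => Subtype.ext (mem_centralizer_iff.mp hx f f.2), rfl⟩
    · rintro ⟨z, hz, rfl⟩
      exact mem_centralizer_iff.mpr fun f hf => congrArg Subtype.val (mem_center_iff.mp hz ⟨f, hf⟩)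
  have h2 : Nat.card (center (QuaternionGroup 2)) =
      Nat.card {x : QuaternionGroup 2 // ∀ y, y * x = x * y} :=
    Nat.card_congr (Equiv.subtypeEquivRight fun x => mem_center_iff)
  rw [h, Subgroup.card_subtype, Nat.card_congr (Subgroup.centerCongr e).toEquiv, h2,
    Nat.card_eq_fintype_card]
  decide +kernel

theorem centralizer_le_center (hC : centralizer (F : Set Q) ≤ F) (e : F ≃* QuaternionGroup 2) :
    centralizer (F : Set Q) ≤ center Q := by
  intro z hz
  refine mem_center_iff.mpr fun g => ?_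
  by_cases h1 : z = 1
  · simp [h1]
  obtain ⟨u, -, hu⟩ := (Nat.card_eq_two_iff' (1 : centralizer (F : Set Q))).mp (card_centralizer hC e)
  have hg : g * z * g⁻¹ ∈ centralizer (F : Set Q) := Subgroup.Normal.conj_mem inferInstance z hz g
  have hne : g * z * g⁻¹ ≠ 1 := fun h => h1 (by
    rw [mul_inv_eq_one] at h
    exact mul_left_cancel (h.trans (mul_one g).symm))
  have := (hu ⟨_, hg⟩ (fun h => hne (congrArg Subtype.val h))).trans
    (hu ⟨z, hz⟩ (fun h => h1 (congrArg Subtype.val h))).symm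
  exact mul_inv_eq_iff_eq_mul.mp (congrArg Subtype.val this)

theorem psi_surjective (hQ : Nat.card Q = 48) (hC : centralizer (F : Set Q) ≤ F)
    (e : F ≃* QuaternionGroup 2) : Function.Surjective (psi e) := by
  have hk : (psi e).ker = centralizer (F : Set Q) := by
    ext x; exact psi_eq_one e x
  have h := Subgroup.index_ker (psi e)
  have h2 := Subgroup.card_mul_index (psi e).ker
  rw [hk, card_centralizer hC e, hQ] at h2
  rw [hk] at h
  rw [← MonoidHom.range_eq_top]
  refine Subgroup.eq_top_of_card_eq _ ?_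
  rw [← h, Nat.card_perm, Nat.card_fin]
  simp [Nat.factorial]
  omega

theorem dbl_iff (hQ : Nat.card Q = 48) (hC : centralizer (F : Set Q) ≤ F)
    (e : F ≃* QuaternionGroup 2) (x : Equiv.Perm (Fin 4)) :
    x ∈ F.map (psi e) ↔ x = 1 ∨ Dbl x := by
  classical
  have hs := psi_surjective hQ hC e
  set N := F.map (psi e) with hN
  have : N.Normal := Subgroup.Normal.map ‹_› _ hs
  have hF : Nat.card F = 8 := by
    rw [Nat.card_congr e.toEquiv, Nat.card_eq_fintype_card, QuaternionGroup.card]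
  have hidx : N.index = 6 := by
    rw [hN, Subgroup.index_map_eq F hs (fun y hy => hC ((psi_eq_one e y).mp hy))]
    have := Subgroup.card_mul_index F
    rw [hF, hQ] at this; omega
  have hNc : Nat.card N = 2 ^ 2 := by
    have := Subgroup.card_mul_index N
    rw [hidx, Nat.card_perm, Nat.card_fin] at this
    simp [Nat.factorial] at this ⊢
    omega
  have : Fact (Nat.Prime 2) := ⟨Nat.prime_two⟩
  have hcomm := IsPGroup.commutative_of_card_eq_prime_sq (p := 2) hNc
  have hle : ∀ y ∈ N, y = 1 ∨ Dbl y := by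
    intro y hy
    by_cases h1 : y = 1
    · exact Or.inl h1
    · exact Or.inr (dbl_of_comm y h1 fun g => congrArg Subtype.val
        (hcomm (⟨y, hy⟩ : N) ⟨g * y * g⁻¹, Subgroup.Normal.conj_mem ‹_› y hy g⟩))
  have hsub : (N : Set (Equiv.Perm (Fin 4))).toFinset ⊆ insert 1 (Finset.univ.filter Dbl) := by
    intro y hy
    simpa using hle y (by simpa using hy)
  have heq := Finset.eq_of_subset_of_card_le hsub (by
    refine (Finset.card_insert_le _ _).trans ?_
    rw [card_dbl, Set.toFinset_card, ← Nat.card_eq_fintype_card]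
    exact le_of_eq hNc.symm)
  refine ⟨hle x, fun h => ?_⟩
  have : x ∈ (N : Set (Equiv.Perm (Fin 4))).toFinset := by rw [heq]; simpa using h
  simpa using this

/-- A group of order 48 over `Q₈` with an outside involution is determined. -/
theorem iso_model (hQ : Nat.card Q = 48) (hC : centralizer (F : Set Q) ≤ F)
    (e₀ : F ≃* QuaternionGroup 2) {t : Q} (ht : t * t = 1) (htF : t ∉ F) :
    Nonempty (Q ≃* Model48) := by
  have h1 : psi e₀ t * psi e₀ t = 1 := by rw [← map_mul, ht, map_one]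
  have hnot : psi e₀ t ∉ F.map (psi e₀) := by
    rintro ⟨f, hf, hft⟩
    have : f⁻¹ * t ∈ F := hC ((psi_eq_one e₀ _).mp (by rw [map_mul, map_inv, hft, inv_mul_cancel]))
    have := F.mul_mem hf this
    rw [mul_inv_cancel_left] at this
    exact htF this
  rw [dbl_iff hQ hC e₀, not_or] at hnot
  obtain ⟨ρ, hρ⟩ := conj_transposition _ h1 hnot.1 hnot.2
  set e := e₀.trans (θ.symm ρ) with he
  have hpt : psi e t = ι (Equiv.swap (0 : Fin 3) 1) := (psi_trans e₀ ρ t).trans hρ
  obtain ⟨w₀, hw₀⟩ := psi_surjective hQ hC e (ι (finRotate 3))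
  have hr3 : (finRotate 3 : Equiv.Perm (Fin 3)) ^ 3 = 1 := by decide +kernel
  set w := w₀ ^ 4 with hw
  have hpw : psi e w = ι (finRotate 3) := by
    rw [hw, map_pow, hw₀, ← map_pow, pow_succ, hr3, one_mul]
  have hw3 : w ^ 3 = 1 := by
    have hmem : w₀ ^ 3 ∈ centralizer (F : Set Q) :=
      (psi_eq_one e _).mp (by rw [map_pow, hw₀, ← map_pow, hr3, map_one])
    have h2 := pow_card_eq_one' (G := centralizer (F : Set Q)) (x := ⟨_, hmem⟩)
    rw [card_centralizer hC e] at h2
    have h2' : (w₀ ^ 3) ^ 2 = 1 := congrArg Subtype.val h2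
    rw [hw, ← pow_mul, show 4 * 3 = 3 * 2 * 2 from rfl, pow_mul, pow_mul, h2', one_pow]
  have htinv : t⁻¹ = t := inv_eq_of_mul_eq_one_right ht
  have hz : t * w * t⁻¹ * w ∈ centralizer (F : Set Q) := by
    refine (psi_eq_one e _).mp ?_
    rw [map_mul, map_mul, map_mul, map_inv, hpt, hpw, ← map_inv, ← map_mul, ← map_mul, ← map_mul]
    exact (congrArg ι (show Equiv.swap (0 : Fin 3) 1 * finRotate 3 * (Equiv.swap (0 : Fin 3) 1)⁻¹ *
      finRotate 3 = 1 by decide +kernel)).trans (map_one ι)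
  have htw : t * w * t⁻¹ = w⁻¹ := by
    set z := t * w * t⁻¹ * w with hzdef
    have hzc : Commute z w⁻¹ :=
      (mem_center_iff.mp (centralizer_le_center hC e hz) w⁻¹).symm
    have e1 : t * w * t⁻¹ = z * w⁻¹ := by rw [hzdef, mul_inv_cancel_right]
    have h3 : (t * w * t⁻¹) ^ 3 = 1 := by rw [conj_pow, hw3, mul_one, mul_inv_cancel]
    rw [e1, hzc.mul_pow, inv_pow, hw3, inv_one, mul_one] at h3
    have h2 := pow_card_eq_one' (G := centralizer (F : Set Q)) (x := ⟨_, hz⟩)
    rw [card_centralizer hC e] at h2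
    have h2' : z ^ 2 = 1 := congrArg Subtype.val h2
    rw [pow_succ, h2', one_mul] at h3
    rw [e1, h3, one_mul]
  have htwj : ∀ j a : ℕ, t ^ j * w ^ a = w ^ (2 ^ j * a) * t ^ j := by
    intro j
    induction j with
    | zero => intro a; simp
    | succ j ih =>
      intro a
      have h1 : t * w ^ a = w ^ (2 * a) * t := by
        have : t * w ^ a * t⁻¹ = w ^ (2 * a) := by
          rw [← conj_pow, htw, show w⁻¹ = w ^ 2 from inv_eq_of_mul_eq_one_right
            (by rw [← pow_succ', hw3]), pow_mul]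
        exact mul_inv_eq_iff_eq_mul.mp this
      rw [pow_succ t j, mul_assoc, h1, ← mul_assoc, ih, mul_assoc, ← pow_succ,
        show 2 ^ (j + 1) * a = 2 ^ j * (2 * a) by ring]
  let s : Equiv.Perm (Fin 3) →* Q := MonoidHom.mk' (fun σ => w ^ ii σ * t ^ jj σ) (by
    intro σ τ
    have ht2 : t ^ 2 = 1 := by rw [sq, ht]
    rw [show w ^ ii σ * t ^ jj σ * (w ^ ii τ * t ^ jj τ) =
      w ^ ii σ * (t ^ jj σ * w ^ ii τ) * t ^ jj τ by simp only [mul_assoc], htwj, ← mul_assoc,
      ← pow_add, mul_assoc, ← pow_add, pow_eq_pow_mod _ hw3, pow_eq_pow_mod _ ht2,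
      (exps σ τ).1, (exps σ τ).2, ← pow_eq_pow_mod _ hw3, ← pow_eq_pow_mod _ ht2])
  have hs : ∀ σ, psi e (s σ) = ι σ := by
    intro σ
    show psi e (w ^ ii σ * t ^ jj σ) = _
    rw [map_mul, map_pow (psi e) w, map_pow (psi e) t, hpw, hpt, ← map_pow, ← map_pow, ← map_mul, ← decomp σ]
  let q : QuaternionGroup 2 →* Q := F.subtype.comp e.symm.toMonoidHom
  have hq : ∀ x, q x = (e.symm x : Q) := fun _ => rfl
  have hcompat : ∀ σ, q.comp (act σ).toMonoidHom = (MulAut.conj (s σ)).toMonoidHom.comp q := by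
    intro σ
    refine MonoidHom.ext fun x => ?_
    show q (act σ x) = s σ * q x * (s σ)⁻¹
    have h2 : act σ = MulAut.congr e (MulAut.conjNormal (s σ)) := by
      apply θ.injective
      rw [← psi_eq, hs]
      exact θ.apply_symm_apply _
    rw [h2, hq, hq, show MulAut.congr e (MulAut.conjNormal (s σ)) x =
      e (MulAut.conjNormal (s σ) (e.symm x)) from rfl, MulEquiv.symm_apply_apply,
      MulAut.conjNormal_apply]
  let f : Model48 →* Q := SemidirectProduct.lift q s hcompat
  have hinj : Function.Injective f := by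
    refine (injective_iff_map_eq_one f).mpr ?_
    rintro ⟨x, σ⟩ hx
    have hx' : q x * s σ = 1 := hx
    have hm : ι σ ∈ F.map (psi e) := ⟨(q x)⁻¹, inv_mem (e.symm x).2, by
      rw [← inv_eq_of_mul_eq_one_right hx' |>.symm] ; exact hs σ⟩
    rw [dbl_iff hQ hC e, ι_apply, (ι_fix σ).1, or_false] at hm
    obtain rfl := (ι_fix σ).2 hm
    rw [map_one, mul_one] at hx'
    obtain rfl : x = 1 := e.symm.injective (Subtype.ext (by rw [map_one]; exact hx'))
    rfl
  exact ⟨(MulEquiv.ofBijective f ((Nat.bijective_iff_injective_and_card f).mpr ⟨hinj, by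
    rw [SemidirectProduct.card, hQ, Nat.card_perm, Nat.card_fin, Nat.card_eq_fintype_card,
      QuaternionGroup.card]
    rfl⟩)).symm⟩

/-- The quaternion subgroup of `SL(2,3)`. -/
def f0 : QuaternionGroup 2 →* Matrix.SpecialLinearGroup (Fin 2) (ZMod 3) :=
  H25.quaternionHom H25.slC (H25.slG * H25.slC * H25.slG⁻¹) H25.slRel.c4 H25.slRel.ysq H25.slRel.inv

theorem f0_inj : Function.Injective f0 := by decide +kernel

theorem f0_normal : ∀ a b c d : ZMod 3, a * d - b * c ≠ 0 → ∀ x, ∃ y,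
    !![a, b; c, d] * (f0 x).1 = (f0 y).1 * !![a, b; c, d] := by decide +kernel

theorem f0_centralizer : ∀ a b c d : ZMod 3, a * d - b * c ≠ 0 →
    (∀ x, !![a, b; c, d] * (f0 x).1 = (f0 x).1 * !![a, b; c, d]) →
      ∃ y, !![a, b; c, d] = (f0 y).1 := by decide +kernel

theorem gl_det : (!![(1 : ZMod 3), 0; 0, 2]).det ≠ 0 := by decide +kernel

theorem gl_sq : !![(1 : ZMod 3), 0; 0, 2] * !![1, 0; 0, 2] = 1 := by decide +kernel

theorem gl_notMem : ∀ x, (f0 x).1 ≠ !![(1 : ZMod 3), 0; 0, 2] := by decide +kernel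

theorem gl_model : Nonempty (GL (Fin 2) (ZMod 3) ≃* Model48) := by
  have : Fact (Nat.Prime 3) := ⟨Nat.prime_three⟩
  let f : QuaternionGroup 2 →* GL (Fin 2) (ZMod 3) := Matrix.SpecialLinearGroup.toGL.comp f0
  have hval : ∀ x, ((f x : GL (Fin 2) (ZMod 3)) : Matrix (Fin 2) (Fin 2) (ZMod 3)) = (f0 x).1 :=
    fun _ => rfl
  have hf : Function.Injective f := fun x y h =>
    f0_inj (Subtype.ext (by rw [← hval, ← hval, h]))
  have hdet : ∀ g : GL (Fin 2) (ZMod 3), (g : Matrix (Fin 2) (Fin 2) (ZMod 3)) 0 0 * g 1 1 -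
      (g : Matrix (Fin 2) (Fin 2) (ZMod 3)) 0 1 * g 1 0 ≠ 0 := fun g => by
    have := ((Matrix.isUnit_iff_isUnit_det _).mp g.isUnit).ne_zero
    rwa [Matrix.det_fin_two] at this
  have : f.range.Normal := ⟨by
    rintro _ ⟨x, rfl⟩ g
    obtain ⟨y, hy⟩ := f0_normal _ _ _ _ (hdet g) x
    rw [← Matrix.eta_fin_two (g : Matrix (Fin 2) (Fin 2) (ZMod 3))] at hy
    refine ⟨y, eq_mul_inv_iff_mul_eq.mpr (Units.ext ?_)⟩
    rw [Units.val_mul, Units.val_mul, hval, hval]
    exact hy.symm⟩
  have hC : centralizer (f.range : Set (GL (Fin 2) (ZMod 3))) ≤ f.range := by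
    intro g hg
    have h : ∀ x, (g : Matrix (Fin 2) (Fin 2) (ZMod 3)) * (f0 x).1 = (f0 x).1 * g := fun x => by
      have := congrArg Units.val (mem_centralizer_iff.mp hg (f x) ⟨x, rfl⟩)
      rw [Units.val_mul, Units.val_mul, hval] at this
      exact this.symm
    obtain ⟨y, hy⟩ := f0_centralizer _ _ _ _ (hdet g) (fun x => by
      rw [← Matrix.eta_fin_two (g : Matrix (Fin 2) (Fin 2) (ZMod 3))]; exact h x)
    rw [← Matrix.eta_fin_two (g : Matrix (Fin 2) (Fin 2) (ZMod 3))] at hy
    exact ⟨y, Units.ext (by rw [hval, hy])⟩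
  let t : GL (Fin 2) (ZMod 3) :=
    Matrix.GeneralLinearGroup.mkOfDetNeZero !![1, 0; 0, 2] gl_det
  refine iso_model (F := f.range) ?_ hC (MonoidHom.ofInjective hf).symm (t := t) ?_ ?_
  · rw [Matrix.card_GL_field]; simp [Fin.prod_univ_two]
  · refine Units.ext ?_
    exact gl_sq
  · rintro ⟨x, hx⟩
    exact gl_notMem x ((hval x).symm.trans (congrArg Units.val hx))

theorem isPGroup_of_range {A : Type*} [Group A] [Finite A] {B : Type*} [Group B] {p : ℕ}
    (φ : A →* B) {K : Subgroup A} (hK : IsPGroup p K) (hker : φ.ker ≤ K)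
    (h : ∀ a, ∃ k, φ a ^ p ^ k = 1) : IsPGroup p A := by
  intro a
  obtain ⟨k, hk⟩ := h a
  rw [← map_pow] at hk
  obtain ⟨l, hl⟩ := hK ⟨_, hker hk⟩
  refine ⟨k + l, ?_⟩
  rw [pow_add, pow_mul]
  exact congrArg Subtype.val hl

theorem exists_pow_eq_one_of_odd_eq_one {B : Type*} [Group B] [Finite B]
    (h : ∀ b : B, Odd (orderOf b) → b = 1) (b : B) : ∃ k, b ^ 2 ^ k = 1 := by
  obtain ⟨k, m, hm, he⟩ := Nat.exists_eq_pow_mul_and_not_dvd (orderOf_pos b).ne' 2 (by norm_num)
  refine ⟨k, h _ ?_⟩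
  rw [orderOf_pow' _ (pow_ne_zero _ two_ne_zero), he, Nat.gcd_mul_right_left, Nat.mul_div_cancel_left]
  · exact Nat.odd_iff.mpr (by omega)
  · positivity

end Helpers


/-- Let G be a finite solvable group in which the intersection of any two distinct Sylow 2-subgroups has 2-rank at most 1 (contains no Klein four-group). Write Q = G/O(G), O(G) the largest normal subgroup of odd order. Then Q has a normal Sylow 2-subgroup; or Q is isomorphic to GL(2,3); or Q has order 48, centre of order 2 with central quotient isomorphic to the symmetric group of degree 4, and generalized quaternion Sylow 2-subgroups of order 16 (the binary octahedral group). The last two are the two representation groups of the symmetric group of degree 4. -/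
theorem result {G : Type*} [Group G] [Finite G] (hs : Group.IsSolvable G)
    (hI : ∀ S T : Sylow 2 G, S ≠ T → Cfsg.PRankLE 2 1 ↥((S : Subgroup G) ⊓ (T : Subgroup G))) :
    (∃ P : Sylow 2 (G ⧸ Cfsg.oddCore G), (P : Subgroup (G ⧸ Cfsg.oddCore G)).Normal) ∨
    Nonempty ((G ⧸ Cfsg.oddCore G) ≃* GL (Fin 2) (ZMod 3)) ∨
    (Nat.card (G ⧸ Cfsg.oddCore G) = 48 ∧ Nat.card ↥(Subgroup.center (G ⧸ Cfsg.oddCore G)) = 2 ∧
      Nonempty ((G ⧸ Cfsg.oddCore G) ⧸ Subgroup.center (G ⧸ Cfsg.oddCore G) ≃* Equiv.Perm (Fin 4)) ∧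
      ∀ P : Sylow 2 (G ⧸ Cfsg.oddCore G), Nonempty (↥(P : Subgroup (G ⧸ Cfsg.oddCore G)) ≃* QuaternionGroup 4)) := by
  have : Fact (Nat.Prime 2) := ⟨Nat.prime_two⟩
  set O := oddCore G with hO
  set f := QuotientGroup.mk' O with hf
  have hfs : Function.Surjective f := QuotientGroup.mk'_surjective O
  have : Group.IsSolvable G := hs
  have hQs : Group.IsSolvable (G ⧸ O) := solvable_of_surjective hfs
  have hcore : pPrimeCore 2 (G ⧸ O) = ⊥ := Cores.pPrimeCore_quotient_pPrimeCore
  have hCF := Cores.centralizer_pCore_le (Cores.isPSolvable_of_isSolvable (p := 2) (G := G ⧸ O)) hcore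
  set F := pCore 2 (G ⧸ O) with hF
  have hFp : IsPGroup 2 F := Cores.pCore_isPGroup
  by_cases hN : ∃ P : Sylow 2 (G ⧸ O), (P : Subgroup (G ⧸ O)).Normal
  · exact Or.inl hN
  right
  have hnp : ¬ IsPGroup 2 (G ⧸ O) := fun h => hN (by
    obtain ⟨P⟩ := (inferInstance : Nonempty (Sylow 2 (G ⧸ O)))
    refine ⟨P, ?_⟩
    have : (⊤ : Subgroup (G ⧸ O)) = P := P.is_maximal'
      (h.of_equiv Subgroup.topEquiv.symm) le_top
    rw [← this]; infer_instance)
  -- `F` has 2-rank one
  have hrk : PRankLE 2 1 F := by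
    obtain ⟨P₀⟩ := (inferInstance : Nonempty (Sylow 2 (G ⧸ O)))
    obtain ⟨P₁, hP⟩ : ∃ P₁ : Sylow 2 (G ⧸ O), P₁ ≠ P₀ := by
      by_contra! h
      have hsub : Subsingleton (Sylow 2 (G ⧸ O)) := ⟨fun a b => (h a).trans (h b).symm⟩
      exact hN ⟨P₀, Sylow.normal_of_subsingleton P₀⟩
    obtain ⟨S, hS⟩ := Sylow.mapSurjective_surjective hfs 2 P₀
    set R : Subgroup G := (S : Subgroup G) ⊓ F.comap f with hR
    have hRp : IsPGroup 2 R := S.2.to_le inf_le_left
    set L : Subgroup G := (P₁ : Subgroup (G ⧸ O)).comap f with hL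
    have hRL : R ≤ L := fun x hx => Cores.pCore_le_sylow P₁ hx.2
    obtain ⟨U, hU⟩ := (hRp.of_equiv (Subgroup.subgroupOfEquivOfLe hRL).symm).exists_le_sylow
    let fL : L →* (P₁ : Subgroup (G ⧸ O)) := f.subgroupComap P₁
    have hfL : Function.Surjective fL := fun y => by
      obtain ⟨x, hx⟩ := hfs (y : G ⧸ O)
      exact ⟨⟨x, show f x ∈ (P₁ : Subgroup (G ⧸ O)) from hx ▸ y.2⟩, Subtype.ext hx⟩
    have hUtop : ((U.mapSurjective hfL : Sylow 2 _) : Subgroup (P₁ : Subgroup (G ⧸ O))) = ⊤ :=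
      ((U.mapSurjective hfL).is_maximal' (P₁.2.of_equiv Subgroup.topEquiv.symm) le_top).symm
    obtain ⟨T, hT⟩ := (U.2.map L.subtype).exists_le_sylow
    have hPT : (P₁ : Subgroup (G ⧸ O)) ≤ (T : Subgroup G).map f := by
      intro y hy
      obtain ⟨u, hu, huy⟩ : (⟨y, hy⟩ : (P₁ : Subgroup (G ⧸ O))) ∈
          ((U.mapSurjective hfL : Sylow 2 _) : Subgroup (P₁ : Subgroup (G ⧸ O))) := by
        rw [hUtop]; trivial
      exact ⟨u, hT ⟨u, hu, rfl⟩, congrArg Subtype.val huy⟩
    have hTP := P₁.is_maximal' (T.2.map f) hPT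
    have hne : S ≠ T := fun h => hP (Sylow.ext (by
      rw [← hTP, ← h, ← hS]; rfl))
    have hRT : R ≤ (S : Subgroup G) ⊓ (T : Subgroup G) :=
      le_inf inf_le_left fun x hx => hT ⟨⟨x, hRL hx⟩, hU hx, rfl⟩
    let g : R →* F := (f.comp R.subtype).codRestrict F fun x => x.2.2
    have hgs : Function.Surjective g := by
      intro y
      have : (y : G ⧸ O) ∈ (S : Subgroup G).map f := by
        have := Cores.pCore_le_sylow P₀ y.2
        rw [← hS] at this; exact this
      obtain ⟨x, hx, hxy⟩ := this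
      exact ⟨⟨x, hx, show f x ∈ F from hxy ▸ y.2⟩, Subtype.ext hxy⟩
    have hgi : Function.Injective g := by
      refine (injective_iff_map_eq_one g).mpr fun x hx => Subtype.ext ?_
      have h1 : (x : G) ∈ O := (QuotientGroup.eq_one_iff _).mp (congrArg Subtype.val hx)
      exact Subgroup.disjoint_def.mp (disjoint_iff.mpr
        (Cores.disjoint_of_isPGroup_of_coprime hRp Cores.coprime_card_pPrimeCore)) x.2 h1
    let j : F →* ↥((S : Subgroup G) ⊓ (T : Subgroup G)) :=
      (Subgroup.inclusion hRT).comp (MulEquiv.ofBijective g ⟨hgi, hgs⟩).symm.toMonoidHom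
    have hj : Function.Injective j :=
      (Subgroup.inclusion_injective hRT).comp (MulEquiv.injective _)
    intro A hA hA2
    rw [← Subgroup.card_map_of_injective hj]
    refine hI S T hne (A.map j) inferInstance ?_
    rintro _ ⟨a, ha, rfl⟩
    rw [← map_pow, hA2 a ha, map_one]
  have huniq : ∀ u v : F, orderOf u = 2 → orderOf v = 2 → u = v := by
    intro u v hu hv
    obtain ⟨S, hS⟩ := (hFp.of_equiv Subgroup.topEquiv.symm).exists_le_sylow
    obtain ⟨z, -, hz⟩ := S1307.exists_invol_unique hrk S ⟨u, hS trivial, hu⟩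
    exact (hz u (hS trivial) hu).trans (hz v (hS trivial) hv).symm
  let φ : G ⧸ O →* MulAut F := MulAut.conjNormal
  have hker : φ.ker ≤ F := by
    intro x hx
    refine hCF (Subgroup.mem_centralizer_iff.mpr fun y hy => ?_)
    have h1 := congrArg Subtype.val (DFunLike.congr_fun (MonoidHom.mem_ker.mp hx) (⟨y, hy⟩ : F))
    rw [MulAut.conjNormal_apply] at h1
    exact (mul_inv_eq_iff_eq_mul.mp h1).symm
  have hsub : ∀ A B : Subgroup F, Nat.card A = 2 → Nat.card B = 2 → A = B := by
    intro A B hA hB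
    have key : ∀ A : Subgroup F, Nat.card A = 2 → ∃ u : F, orderOf u = 2 ∧ A = Subgroup.zpowers u := by
      intro A hA
      obtain ⟨a, ha⟩ := exists_prime_orderOf_dvd_card' (G := A) 2 (dvd_of_eq hA.symm)
      have ha' : orderOf (a : F) = 2 := by rw [Subgroup.orderOf_coe, ha]
      exact ⟨a, ha', (Subgroup.eq_of_le_of_card_ge (Subgroup.zpowers_le.mpr a.2)
        (by rw [Nat.card_zpowers, ha', hA])).symm⟩
    obtain ⟨u, hu, rfl⟩ := key A hA
    obtain ⟨v, hv, rfl⟩ := key B hB
    rw [huniq u v hu hv]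
  obtain hcyc | ⟨-, n, ⟨e'⟩⟩ := S0016.result 2 hFp hsub
  · refine absurd (isPGroup_of_range φ hFp hker fun a => ?_) hnp
    obtain ⟨k, hk⟩ := IsPGroup.iff_card.mp hFp
    have : Nat.card (MulAut F) ∣ 2 ^ k := by
      rw [IsCyclic.card_mulAut, hk]
      rcases k with _ | k
      · simp
      · rw [Nat.totient_prime_pow_succ Nat.prime_two]
        simpa using pow_dvd_pow 2 (Nat.le_succ k)
    exact ⟨k, orderOf_dvd_iff_pow_eq_one.mp ((orderOf_dvd_natCard _).trans this)⟩
  by_cases hn : n ≠ 1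
  · refine absurd (isPGroup_of_range φ hFp hker fun a => ?_) hnp
    refine exists_pow_eq_one_of_odd_eq_one (fun b hb => ?_) (φ a)
    by_contra hb1
    refine hn (H33.QuatAut.quaternion_aut (MulAut.congr e' b) ?_ ?_).1
    · rwa [MulEquiv.orderOf_eq]
    · rwa [ne_eq, MulEquiv.map_eq_one_iff]
  obtain rfl : n = 1 := not_not.mp hn
  have e : F ≃* QuaternionGroup 2 := e'
  have hF8 : Nat.card F = 8 := by
    rw [Nat.card_congr e.toEquiv, Nat.card_eq_fintype_card, QuaternionGroup.card]
  -- the quotient by the centre is all of `S₄`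
  have hk : (psi e).ker = Subgroup.centralizer (F : Set (G ⧸ O)) := by
    ext x; exact psi_eq_one e x
  have h3 : ¬ IsPGroup 2 (psi e).range := fun h => hnp (isPGroup_of_range (psi e) hFp
    (hk ▸ hCF) fun a => by
      obtain ⟨k, hk⟩ := h ⟨_, a, rfl⟩
      exact ⟨k, congrArg Subtype.val hk⟩)
  have hQc : Nat.card (G ⧸ O) = 2 * Nat.card (psi e).range := by
    have e1 := Subgroup.card_mul_index (psi e).ker
    rw [Subgroup.index_ker, hk, card_centralizer hCF e] at e1
    exact e1.symm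
  have h4 : Nat.card (F.map (psi e)) = 4 := by
    have := Subgroup.card_mul_index ((psi e).ker.subgroupOf F)
    rw [← Subgroup.relIndex, Subgroup.relIndex_ker, Nat.card_congr
      (Subgroup.subgroupOfEquivOfLe (hk ▸ hCF)).toEquiv, hk, card_centralizer hCF e, hF8] at this
    omega
  have hdvd : 4 ∣ Nat.card (psi e).range :=
    (dvd_of_eq h4.symm).trans (Subgroup.card_dvd_of_le (Subgroup.map_le_range (psi e) F))
  have hdvd' : Nat.card (psi e).range ∣ 24 := by
    have := Subgroup.card_subgroup_dvd_card (psi e).range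
    rwa [Nat.card_perm, Nat.card_fin] at this
  have hcases : Nat.card (psi e).range = 4 ∨ Nat.card (psi e).range = 8 ∨
      Nat.card (psi e).range = 12 ∨ Nat.card (psi e).range = 24 := by
    have hle := Nat.le_of_dvd (by norm_num) hdvd'
    obtain ⟨c, hc⟩ := hdvd
    rw [hc] at hdvd' hle ⊢
    have : c ≤ 6 := by omega
    interval_cases c <;> simp_all
  have hQ : Nat.card (G ⧸ O) = 48 := by
    rcases hcases with h | h | h | h
    · exact absurd (IsPGroup.of_card (n := 2) (by rw [h]; norm_num)) h3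
    · exact absurd (IsPGroup.of_card (n := 3) (by rw [h]; norm_num)) h3
    · exfalso
      obtain ⟨P, hP⟩ := hFp.exists_le_sylow
      have hc : Nat.card (P : Subgroup (G ⧸ O)) = 8 := by
        rw [Sylow.card_eq_multiplicity, hQc, h, show 2 * 12 = 2 ^ 3 * 3 ^ 1 by norm_num,
          Nat.factorization_mul (by norm_num) (by norm_num),
          Nat.Prime.factorization_pow Nat.prime_two, Nat.Prime.factorization_pow Nat.prime_three]
        simp
      exact hN ⟨P, (Subgroup.eq_of_le_of_card_ge hP (by rw [hc, hF8])) ▸ inferInstance⟩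
    · rw [hQc, h]
  have hZ : Subgroup.center (G ⧸ O) = Subgroup.centralizer (F : Set (G ⧸ O)) :=
    le_antisymm (Subgroup.center_le_centralizer _) (centralizer_le_center hCF e)
  by_cases hinv : ∃ t : G ⧸ O, t * t = 1 ∧ t ∉ F
  · obtain ⟨t, ht, htF⟩ := hinv
    obtain ⟨i₁⟩ := iso_model hQ hCF e ht htF
    obtain ⟨i₂⟩ := gl_model
    exact Or.inl ⟨i₁.trans i₂.symm⟩
  right
  push_neg at hinv
  refine ⟨hQ, by rw [hZ, card_centralizer hCF e], ?_, fun P => ?_⟩
  · exact ⟨(QuotientGroup.quotientMulEquivOfEq (hZ.trans hk.symm)).trans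
      (QuotientGroup.quotientKerEquivOfSurjective (psi e) (psi_surjective hQ hCF e))⟩
  · have hc : Nat.card (P : Subgroup (G ⧸ O)) = 16 := by
      rw [Sylow.card_eq_multiplicity, hQ, show (48 : ℕ) = 2 ^ 4 * 3 ^ 1 by norm_num,
        Nat.factorization_mul (by norm_num) (by norm_num),
        Nat.Prime.factorization_pow Nat.prime_two, Nat.Prime.factorization_pow Nat.prime_three]
      simp
    have key : ∀ A : Subgroup (P : Subgroup (G ⧸ O)), Nat.card A = 2 →
        ∃ u : F, orderOf u = 2 ∧ A.map (P : Subgroup (G ⧸ O)).subtype = Subgroup.zpowers (u : G ⧸ O) := by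
      intro A hA
      obtain ⟨a, ha⟩ := exists_prime_orderOf_dvd_card' (G := A) 2 (dvd_of_eq hA.symm)
      have ha' : orderOf ((a : (P : Subgroup (G ⧸ O))) : G ⧸ O) = 2 := by
        rw [Subgroup.orderOf_coe, Subgroup.orderOf_coe, ha]
      have hsq := pow_orderOf_eq_one ((a : (P : Subgroup (G ⧸ O))) : G ⧸ O)
      rw [ha', sq] at hsq
      have haF : ((a : (P : Subgroup (G ⧸ O))) : G ⧸ O) ∈ F := hinv _ hsq
      have hamem : ((a : (P : Subgroup (G ⧸ O))) : G ⧸ O) ∈ A.map (P : Subgroup (G ⧸ O)).subtype :=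
        Subgroup.mem_map_of_mem _ a.2
      refine ⟨⟨_, haF⟩, by rw [Subgroup.orderOf_mk, ha'], (Subgroup.eq_of_le_of_card_ge
        (Subgroup.zpowers_le.mpr hamem) ?_).symm⟩
      rw [Nat.card_zpowers, ha', Subgroup.card_subtype, hA]
    obtain hcy | ⟨-, m, ⟨eP⟩⟩ := S0016.result 2 P.2 (fun A B hA hB => by
      obtain ⟨u, hu, hA'⟩ := key A hA
      obtain ⟨v, hv, hB'⟩ := key B hB
      exact Subgroup.map_injective (P : Subgroup (G ⧸ O)).subtype_injective
        (by rw [hA', hB', huniq u v hu hv]))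
    · exfalso
      have hle : F ≤ (P : Subgroup (G ⧸ O)) := Cores.pCore_le_sylow P
      let j : QuaternionGroup 2 →* (P : Subgroup (G ⧸ O)) :=
        (Subgroup.inclusion hle).comp e.symm.toMonoidHom
      have hj : Function.Injective j := (Subgroup.inclusion_injective hle).comp e.symm.injective
      have : IsCyclic (QuaternionGroup 2) := isCyclic_of_injective j hj
      exact absurd (IsCyclic.commutative.is_comm.comm (QuaternionGroup.a 1 : QuaternionGroup 2)
        (QuaternionGroup.xa 0)) (by decide)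
    · have h2 : 4 * 2 ^ m = 16 := by
        have : NeZero (2 ^ m) := ⟨by positivity⟩
        rw [← hc, Nat.card_congr eP.toEquiv, Nat.card_eq_fintype_card, QuaternionGroup.card]
      have : 2 ^ m = 4 := by omega
      rw [this] at eP
      exact ⟨eP⟩

end Cfsg.Agent.S3304
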