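import Cfsg.Statements.S2086
import Cfsg.Agent.Linear.Mult.SLMultiplier
import Cfsg.Agent.Linear.Order
import Cfsg.Agent.Linear.Simple
import Cfsg.Agent.S2117
-- import your own Cfsg.Agent.* helpers here

set_option autoImplicit false
open Cfsg Cfsg.Agent Cfsg.Agent.Linear

namespace Cfsg.Agent.S2086

/-- Schur multipliers of the linear groups: for n ≥ 2 and a field F with q elements (q ≥ 4 when n = 2), apart from the five exceptional pairs (n, q) = (2, 4), (2, 9), (3, 2), (3, 4), (4, 2), the Schur multiplier of PSL_n(F) is cyclic of order gcd(n, q − 1); here the Schur multiplier is described through stem extensions, as in the definitions. -/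
theorem result {F : Type*} [Field F] [Fintype F] {q : ℕ} (hF : Fintype.card F = q) (n : ℕ) (hn : 2 ≤ n) (h2 : n = 2 → 4 ≤ q) (hexc : (n, q) ∉ ({(2, 4), (2, 9), (3, 2), (3, 4), (4, 2)} : Set (ℕ × ℕ))) : Cfsg.HasCyclicSchurMultiplier (Matrix.ProjectiveSpecialLinearGroup (Fin n) F) (Nat.gcd n (q - 1)) := by
  classical
  subst hF
  simp only [Set.mem_insert_iff, Set.mem_singleton_iff, Prod.mk.injEq, not_or] at hexc
  obtain ⟨e24, e29, e32, e34, e42⟩ := hexc
  have : Nonempty (Fin n) := ⟨⟨0, by omega⟩⟩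
  have hperf : Group.IsPerfect (Matrix.SpecialLinearGroup (Fin n) F) := by
    refine ⟨Cfsg.Agent.Linear.commutator_SL_eq_top ?_⟩
    rcases hn.eq_or_lt with rfl | hn3
    · right
      obtain ⟨s, hs0, hs⟩ := Cfsg.Agent.Linear.Mult.exists_sq_ne_one (F := F)
        (by have := h2 rfl; omega) (by have := h2 rfl; omega)
      exact ⟨s, hs0, hs⟩
    · left; simp only [Fintype.card_fin]; omega
  have h1 : Cfsg.HasCyclicSchurMultiplier (Matrix.SpecialLinearGroup (Fin n) F) 1 := by
    rcases hn.eq_or_lt with rfl | hn3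
    · exact Cfsg.Agent.S2117.result (fun h => e24 ⟨rfl, h⟩) (fun h => e29 ⟨rfl, h⟩)
    · exact Cfsg.Agent.Linear.Mult.sl_trivial_multiplier hn3
        (fun h => ⟨fun h' => e32 ⟨h, h'⟩, fun h' => e34 ⟨h, h'⟩⟩) (fun h h' => e42 ⟨h, h'⟩)
  let π := QuotientGroup.mk' (Subgroup.center (Matrix.SpecialLinearGroup (Fin n) F))
  have hker : π.ker = Subgroup.center (Matrix.SpecialLinearGroup (Fin n) F) := QuotientGroup.ker_mk' _
  refine Cfsg.Agent.Linear.Mult.hasCyclicSchurMultiplier_of_cover hperf h1 π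
    (QuotientGroup.mk'_surjective _) hker.le ?_ ?_
  · rw [hker]
    exact isCyclic_of_surjective
      (Matrix.SpecialLinearGroup.center_equiv_rootsOfUnity' (⟨0, by omega⟩ : Fin n)).symm
      (MulEquiv.surjective _)
  · rw [hker, Cfsg.Agent.Linear.card_center_SL, Fintype.card_fin]

end Cfsg.Agent.S2086
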