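import Cfsg.Statements.S0499
import Cfsg.Agent.Fusion.Frobenius

set_option autoImplicit false
open Cfsg

namespace Cfsg.Agent.S0499

open Subgroup

universe u

theorem small_aut {Q : Type u} [Group Q] [Finite Q] {b : ℕ} (hQ : Nat.card Q = 2 ^ b) (hb : b ≤ 3)
    {r : ℕ} (hr : r.Prime) (hr2 : r ≠ 2) (τ : MulAut Q) (hτ : orderOf τ = r) :
    2 ≤ b ∧ (r = 3 ∨ (r = 7 ∧ b = 3)) := by
  have := Fact.mk hr
  let C : Subgroup Q := (τ.toMonoidHom).eqLocus (MonoidHom.id Q)
  have hC : C ≠ ⊤ := by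
    intro h
    have : τ = 1 := MulEquiv.ext fun x => (h ▸ mem_top x : x ∈ C)
    rw [this, orderOf_one] at hτ
    exact hr.ne_one hτ.symm
  have hp : IsPGroup r ↥(zpowers τ) := IsPGroup.of_card (n := 1) (by rw [Nat.card_zpowers, hτ, pow_one])
  have hfix : MulAction.fixedPoints (zpowers τ) Q = (C : Set Q) := by
    ext x
    constructor
    · intro h
      exact h ⟨τ, mem_zpowers τ⟩
    · rintro h ⟨σ, hσ⟩
      obtain ⟨k, rfl⟩ := mem_zpowers_iff.1 hσ
      have hst : τ ∈ MulAction.stabilizer (MulAut Q) x := h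
      exact zpow_mem hst k
  have hmod := hp.card_modEq_card_fixedPoints Q
  rw [hfix] at hmod
  obtain ⟨c, hcb, hc⟩ := (Nat.dvd_prime_pow Nat.prime_two).1 (hQ ▸ card_subgroup_dvd_card C)
  rw [show Nat.card (C : Set Q) = 2 ^ c from hc, hQ] at hmod
  have hne : c ≠ b := fun h => hC (eq_top_of_card_eq C (by rw [hc, h, hQ]))
  have hd : r ∣ 2 ^ b - 2 ^ c :=
    (Nat.modEq_iff_dvd' (Nat.pow_le_pow_right (by norm_num) hcb)).1 hmod.symm
  have hle : r ≤ 7 := by
    have h1 : r ≤ 2 ^ b - 2 ^ c := by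
      refine Nat.le_of_dvd ?_ hd
      have := Nat.pow_lt_pow_right (a := 2) one_lt_two (lt_of_le_of_ne hcb hne)
      omega
    have h2 : 2 ^ b ≤ 2 ^ 3 := Nat.pow_le_pow_right (by norm_num) hb
    have h3 : 1 ≤ 2 ^ c := Nat.one_le_two_pow
    omega
  have hr' : r = 3 ∨ r = 5 ∨ r = 7 := by
    have h2 := hr.two_le
    interval_cases r <;> norm_num at * <;> omega
  interval_cases b <;> interval_cases c <;> rcases hr' with rfl | rfl | rfl <;> norm_num at *

theorem dvd_cases {G : Type u} [Group G] [Finite G] [IsSimpleGroup G]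
    (hG : ¬ IsMulCommutative G) (h2 : Even (Nat.card G)) :
    12 ∣ Nat.card G ∨ 16 ∣ Nat.card G ∨ 56 ∣ Nat.card G := by
  have := Fact.mk Nat.prime_two
  let P : Sylow 2 G := default
  obtain ⟨a, ha⟩ := P.isPGroup'.exists_card_eq
  have hPd : 2 ^ a ∣ Nat.card G := ha ▸ card_subgroup_dvd_card (P : Subgroup G)
  by_cases ha4 : 4 ≤ a
  · right; left
    exact (pow_dvd_pow 2 ha4).trans hPd
  have hno : ¬ Cfsg.HasNormalPComplement 2 G := by
    intro h
    obtain ⟨N, hN, hc⟩ := (Fusion.hasNormalPComplement_iff_exists P).1 h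
    rcases hN.eq_bot_or_eq_top with rfl | rfl
    · have hP : IsPGroup 2 G := by
        have : (P : Subgroup G) = ⊤ := isComplement'_bot_left.1 hc
        exact (this ▸ P.isPGroup').of_equiv Subgroup.topEquiv
      have := hP.center_nontrivial
      rcases (inferInstance : (center G).Normal).eq_bot_or_eq_top with h0 | h0
      · exact ((center G).nontrivial_iff_ne_bot.1 ‹_›) h0
      · exact hG ⟨⟨fun x y => (mem_center_iff.1 (h0 ▸ mem_top x : x ∈ center G) y).symm⟩⟩
    · have : (P : Subgroup G) = ⊥ := isComplement'_top_left.1 hc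
      exact P.ne_bot_of_dvd_card (even_iff_two_dvd.1 h2) this
  rw [Fusion.frobenius_criterion P] at hno
  push Not at hno
  obtain ⟨Q, hQP, g, hg, hgodd, hgc⟩ := hno
  obtain ⟨b, hba, hb⟩ := (Nat.dvd_prime_pow Nat.prime_two).1 (ha ▸ card_dvd_of_le hQP)
  let φ : normalizer (Q : Set G) →* MulAut Q :=
    Subgroup.normalizerMonoidHom Q
  have hne : orderOf (φ ⟨g, hg⟩) ≠ 1 := by
    rw [ne_eq, orderOf_eq_one_iff]
    intro h
    apply hgc
    refine mem_centralizer_iff.2 fun x hx => ?_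
    have h1 := congrArg (fun σ : MulAut Q => ((σ ⟨x, hx⟩ : Q) : G)) h
    simp [φ] at h1
    rw [mul_inv_eq_iff_eq_mul] at h1
    exact h1.symm
  obtain ⟨r, hr, hrd⟩ := Nat.exists_prime_and_dvd hne
  have hrg : r ∣ orderOf g := by
    have := hrd.trans (orderOf_map_dvd φ ⟨g, hg⟩)
    rwa [← Subgroup.orderOf_coe] at this
  have hr2 : r ≠ 2 := fun h =>
    hr.ne_one (Nat.eq_one_of_dvd_coprimes hgodd hrg (dvd_of_eq h))
  obtain ⟨h2b, hcase⟩ := small_aut hb (by omega) hr hr2 _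
    (orderOf_pow_orderOf_div (orderOf_pos (φ ⟨g, hg⟩)).ne' hrd)
  have hrG : r ∣ Nat.card G := hrg.trans (orderOf_dvd_natCard g)
  have hbG : 2 ^ b ∣ Nat.card G := (pow_dvd_pow 2 hba).trans hPd
  rcases hcase with rfl | ⟨rfl, rfl⟩
  · left
    exact Nat.Coprime.mul_dvd_of_dvd_of_dvd (show Nat.Coprime 4 3 by norm_num)
      ((pow_dvd_pow 2 h2b).trans hbG) hrG
  · right; right
    exact Nat.Coprime.mul_dvd_of_dvd_of_dvd (show Nat.Coprime 8 7 by norm_num) hbG hrG

/-- A non-abelian finite simple group of even order has order divisible by 12, 16 or 56. -/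
theorem result {G : Type*} [Group G] [Finite G] [IsSimpleGroup G]
    (hG : ¬ IsMulCommutative G) (h2 : Even (Nat.card G)) :
    12 ∣ Nat.card G ∨ 16 ∣ Nat.card G ∨ 56 ∣ Nat.card G := by
  exact dvd_cases hG h2

end Cfsg.Agent.S0499
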