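import Cfsg.Statements.S0588
import Cfsg.Agent.H31.Basic

set_option autoImplicit false
open Cfsg

namespace Cfsg.Agent.S0588

/-- If a subgroup H of a finite group G contains the centralizer of every non-identity element of H, then the order of H is coprime to its index. -/
theorem result {G : Type*} [Group G] [Finite G] (H : Subgroup G) (h : ∀ x ∈ H, x ≠ 1 → Subgroup.centralizer ({x} : Set G) ≤ H) : (Nat.card H).Coprime H.index := by
  rw [Nat.coprime_iff_gcd_eq_one]
  by_contra hne
  obtain ⟨p, hp, hpd⟩ := Nat.exists_prime_and_dvd hne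
  haveI := Fact.mk hp
  have hpH : p ∣ Nat.card H := hpd.trans (Nat.gcd_dvd_left _ _)
  have hpi : p ∣ H.index := hpd.trans (Nat.gcd_dvd_right _ _)
  obtain ⟨P⟩ : Nonempty (Sylow p H) := inferInstance
  have hP : IsPGroup p ((P : Subgroup H).map H.subtype) := P.isPGroup'.map _
  obtain ⟨R, hR⟩ := hP.exists_le_sylow
  obtain ⟨y, hy, hy1⟩ : ∃ y ∈ (P : Subgroup H).map H.subtype, y ≠ 1 := by
    have : (P : Subgroup H).map H.subtype ≠ ⊥ := by
      rw [Ne, Subgroup.map_eq_bot_iff_of_injective _ H.subtype_injective]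
      exact P.ne_bot_of_dvd_card hpH
    simpa [Subgroup.eq_bot_iff_forall] using this
  haveI : Nontrivial (R : Subgroup G) :=
    ⟨⟨⟨y, hR hy⟩, 1, fun e => hy1 (congrArg Subtype.val e)⟩⟩
  haveI := R.isPGroup'.center_nontrivial
  obtain ⟨z, hz⟩ := exists_ne (1 : Subgroup.center (R : Subgroup G))
  have hyH : y ∈ H := Subgroup.map_subtype_le _ hy
  have hzc : ∀ r : (R : Subgroup G), r * z.1 = z.1 * r := Subgroup.mem_center_iff.mp z.2
  have hzH : ((z : (R : Subgroup G)) : G) ∈ H := by
    apply h y hyH hy1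
    rw [Subgroup.mem_centralizer_singleton_iff]
    exact congrArg Subtype.val (hzc ⟨y, hR hy⟩).symm
  have hRH : (R : Subgroup G) ≤ H := by
    intro r hr
    apply h _ hzH (fun e => hz (Subtype.ext (Subtype.ext e)))
    rw [Subgroup.mem_centralizer_singleton_iff]
    exact congrArg Subtype.val (hzc ⟨r, hr⟩)
  have hd : Nat.card (R : Subgroup G) ∣ Nat.card H := Subgroup.card_dvd_of_le hRH
  rw [R.card_eq_multiplicity] at hd
  have hG : p ^ ((Nat.card G).factorization p + 1) ∣ Nat.card G := by
    rw [pow_succ, ← H.card_mul_index]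
    exact mul_dvd_mul (by rwa [H.card_mul_index]) hpi
  exact Nat.pow_succ_factorization_not_dvd Nat.card_pos.ne' hp hG

end Cfsg.Agent.S0588
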