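import Cfsg.Statements.S0566
import Cfsg.Agent.H31.Basic

set_option autoImplicit false
open Pointwise
open Cfsg

namespace Cfsg.Agent.S0566

open scoped Pointwise

variable {G : Type*} [Group G]

/-- `A` permutes with `B` when `AB` is the carrier of a subgroup; this subgroup is then `A ⊔ B`. -/
theorem eq_sup {A B S : Subgroup G} (h : (S : Set G) = (A : Set G) * (B : Set G)) : S = A ⊔ B := by
  refine le_antisymm (fun x hx => ?_) (sup_le (fun a ha => ?_) (fun b hb => ?_))
  · have hx' : x ∈ (A : Set G) * (B : Set G) := h ▸ hx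
    obtain ⟨a, ha, b, hb, rfl⟩ := hx'
    exact Subgroup.mul_mem_sup ha hb
  · show a ∈ (S : Set G)
    rw [h]; exact ⟨a, ha, 1, one_mem B, mul_one a⟩
  · show b ∈ (S : Set G)
    rw [h]; exact ⟨1, one_mem A, b, hb, one_mul b⟩

theorem swap_mem {A B S : Subgroup G} (h : (S : Set G) = (A : Set G) * (B : Set G)) {a b : G}
    (ha : a ∈ A) (hb : b ∈ B) : ∃ a' ∈ A, ∃ b' ∈ B, b * a = a' * b' := by
  have hs := eq_sup h
  have hm : b * a ∈ (S : Set G) :=
    mul_mem (hs ▸ Subgroup.mem_sup_right hb) (hs ▸ Subgroup.mem_sup_left ha)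
  rw [h] at hm
  obtain ⟨a', ha', b', hb', he⟩ := hm
  exact ⟨a', ha', b', hb', he.symm⟩

/-- If `A₁` and `A₂` permute with `B` then so does their join. -/
theorem perm_sup {A₁ A₂ B S₁ S₂ : Subgroup G} (h₁ : (S₁ : Set G) = (A₁ : Set G) * (B : Set G))
    (h₂ : (S₂ : Set G) = (A₂ : Set G) * (B : Set G)) :
    ∃ S : Subgroup G, (S : Set G) = ((A₁ ⊔ A₂ : Subgroup G) : Set G) * (B : Set G) := by
  have key : ∀ a ∈ A₁ ⊔ A₂, ∀ b ∈ B, ∃ a' ∈ A₁ ⊔ A₂, ∃ b' ∈ B, b * a = a' * b' := by
    intro a ha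
    rw [Subgroup.sup_eq_closure] at ha
    induction ha using Subgroup.closure_induction_left with
    | one => exact fun b hb => ⟨1, one_mem _, b, hb, by group⟩
    | mul_left x hx y _ ih =>
      intro b hb
      have hx' : ∃ a' ∈ A₁ ⊔ A₂, ∃ b' ∈ B, b * x = a' * b' := by
        rcases hx with h | h
        · obtain ⟨a', ha', r⟩ := swap_mem h₁ h hb
          exact ⟨a', Subgroup.mem_sup_left ha', r⟩
        · obtain ⟨a', ha', r⟩ := swap_mem h₂ h hb
          exact ⟨a', Subgroup.mem_sup_right ha', r⟩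
      obtain ⟨a', ha', b', hb', he⟩ := hx'
      obtain ⟨a'', ha'', b'', hb'', he'⟩ := ih b' hb'
      refine ⟨a' * a'', mul_mem ha' ha'', b'', hb'', ?_⟩
      rw [← mul_assoc, he, mul_assoc, he', mul_assoc]
    | inv_mul_cancel x hx y _ ih =>
      intro b hb
      have hx' : ∃ a' ∈ A₁ ⊔ A₂, ∃ b' ∈ B, b * x⁻¹ = a' * b' := by
        rcases hx with h | h
        · obtain ⟨a', ha', r⟩ := swap_mem h₁ (inv_mem h) hb
          exact ⟨a', Subgroup.mem_sup_left ha', r⟩
        · obtain ⟨a', ha', r⟩ := swap_mem h₂ (inv_mem h) hb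
          exact ⟨a', Subgroup.mem_sup_right ha', r⟩
      obtain ⟨a', ha', b', hb', he⟩ := hx'
      obtain ⟨a'', ha'', b'', hb'', he'⟩ := ih b' hb'
      refine ⟨a' * a'', mul_mem ha' ha'', b'', hb'', ?_⟩
      rw [← mul_assoc, he, mul_assoc, he', mul_assoc]
  refine ⟨(A₁ ⊔ A₂) ⊔ B, Set.Subset.antisymm ?_ ?_⟩
  · intro x hx
    rw [SetLike.mem_coe, Subgroup.sup_eq_closure] at hx
    induction hx using Subgroup.closure_induction with
    | mem z hz =>
      rcases hz with h | h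
      · exact ⟨z, h, 1, one_mem B, mul_one z⟩
      · exact ⟨1, one_mem (A₁ ⊔ A₂), z, h, one_mul z⟩
    | one => exact ⟨1, one_mem (A₁ ⊔ A₂), 1, one_mem B, one_mul 1⟩
    | mul x y _ _ hx hy =>
      obtain ⟨a, ha, b, hb, rfl⟩ := hx
      obtain ⟨a₂, ha₂, b₂, hb₂, rfl⟩ := hy
      obtain ⟨a₃, ha₃, b₃, hb₃, he⟩ := key a₂ ha₂ b hb
      refine ⟨a * a₃, mul_mem ha ha₃, b₃ * b₂, B.mul_mem hb₃ hb₂, ?_⟩
      show a * a₃ * (b₃ * b₂) = a * b * (a₂ * b₂)
      calc a * a₃ * (b₃ * b₂) = a * (a₃ * b₃) * b₂ := by group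
        _ = a * (b * a₂) * b₂ := by rw [he]
        _ = _ := by group
    | inv x _ hx =>
      obtain ⟨a, ha, b, hb, rfl⟩ := hx
      obtain ⟨a₃, ha₃, b₃, hb₃, he⟩ := key a⁻¹ (inv_mem ha) b⁻¹ (B.inv_mem hb)
      exact ⟨a₃, ha₃, b₃, hb₃, by show a₃ * b₃ = (a * b)⁻¹; rw [mul_inv_rev, he]⟩
  · rintro _ ⟨a, ha, b, hb, rfl⟩
    exact Subgroup.mul_mem_sup ha hb

/-- A proper product `S Bʸ` cannot be all of `G` when `S` contains a conjugate of `B`. -/
theorem eq_top_of_factor {S B : Subgroup G} {x y : G} (hB : MulAut.conj x • B ≤ S)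
    (h : ∀ g : G, ∃ s ∈ S, ∃ b ∈ MulAut.conj y • B, g = s * b) : S = ⊤ := by
  obtain ⟨s, hs, b, hb, he⟩ := h (x * y⁻¹)
  have e : MulAut.conj x • B = MulAut.conj s • MulAut.conj y • B := by
    have hx : x = s * b * y := by rw [← he]; group
    rw [hx, map_mul, map_mul, mul_smul, mul_smul, Subgroup.conj_smul_eq_self_of_mem hb]
  have hle : MulAut.conj y • B ≤ S := by
    have h2 := Subgroup.pointwise_smul_le_pointwise_smul_iff (a := MulAut.conj s⁻¹) |>.mpr (e ▸ hB)
    rwa [smul_smul, ← map_mul, inv_mul_cancel, map_one, one_smul,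
      Subgroup.conj_smul_eq_self_of_mem (inv_mem hs)] at h2
  rw [eq_top_iff]
  intro g _
  obtain ⟨s', hs', b', hb', rfl⟩ := h g
  exact mul_mem hs' (hle hb')

theorem aux [Finite G] (B : Subgroup G) (hB : B ≠ ⊥) : ∀ (d : ℕ) (A : Subgroup G), Nat.card G ≤ Nat.card A + d →
    A ≠ ⊥ → (∀ x : G, ∃ S : Subgroup G, S ≠ ⊤ ∧
      (S : Set G) = (A : Set G) * ((MulAut.conj x • B : Subgroup G) : Set G)) →
    ∃ N : Subgroup G, N.Normal ∧ N ≠ ⊤ ∧ (A ≤ N ∨ B ≤ N) := by
  intro d
  induction d with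
  | zero =>
    intro A hA _ h
    obtain ⟨S, hS, he⟩ := h 1
    exfalso
    apply hS
    rw [eq_sup he, (Subgroup.card_eq_iff_eq_top A).mp (le_antisymm A.card_le_card_group (by omega))]
    exact top_sup_eq _
  | succ d ih =>
    intro A hA hAne h
    obtain ⟨S, hS, he⟩ := h 1
    have hAtop : A ≠ ⊤ := fun e => hS (by rw [eq_sup he, e]; exact top_sup_eq _)
    by_cases hn : ∀ x : G, MulAut.conj x • B ≤ Subgroup.normalizer (A : Set G)
    · set M := Subgroup.normalClosure (B : Set G) with hM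
      by_cases hMtop : M = ⊤
      · have htop : Subgroup.normalizer (A : Set G) = ⊤ := by
          rw [eq_top_iff, ← hMtop, hM, Subgroup.normalClosure, Subgroup.closure_le]
          intro z hz
          obtain ⟨b, hb, hc⟩ := Group.mem_conjugatesOfSet_iff.mp hz
          obtain ⟨c, rfl⟩ := isConj_iff.mp hc
          exact hn c (Subgroup.smul_mem_pointwise_smul b (MulAut.conj c) B hb)
        exact ⟨A, Subgroup.normalizer_eq_top_iff.mp htop, hAtop, Or.inl le_rfl⟩
      · exact ⟨M, Subgroup.normalClosure_normal, hMtop, Or.inr Subgroup.le_normalClosure⟩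
    push Not at hn
    obtain ⟨x, hx⟩ := hn
    obtain ⟨b, hb, hbN⟩ := SetLike.not_le_iff_exists.mp hx
    obtain ⟨S₀, hS₀, he₀⟩ := h x
    set A' := A ⊔ MulAut.conj b • A with hA'
    have hAA' : A < A' := by
      refine lt_of_le_of_ne le_sup_left fun e => hbN ?_
      have hle : MulAut.conj b • A ≤ A := le_sup_right.trans_eq e.symm
      have heq : MulAut.conj b • A = A :=
        Subgroup.eq_of_le_of_card_ge hle (le_of_eq (Nat.card_congr (Subgroup.equivSMul _ A).toEquiv))
      rw [Subgroup.mem_normalizer_iff]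
      intro a
      rw [← MulAut.conj_apply]
      constructor
      · exact fun ha => hle (Subgroup.smul_mem_pointwise_smul a (MulAut.conj b) A ha)
      · intro ha
        exact Subgroup.smul_mem_pointwise_smul_iff.mp (heq.symm ▸ ha)
    have hA'S₀ : A' ≤ S₀ := by
      have hsup := eq_sup he₀
      rw [hA', hsup]
      refine sup_le le_sup_left ?_
      calc MulAut.conj b • A ≤ MulAut.conj b • S₀ :=
            Subgroup.pointwise_smul_le_pointwise_smul_iff.mpr (hsup ▸ le_sup_left)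
        _ = S₀ := Subgroup.conj_smul_eq_self_of_mem (hsup ▸ Subgroup.mem_sup_right hb)
        _ = _ := hsup
    obtain ⟨N, hN, hNt, hor⟩ := ih A' (by
        have : Nat.card A < Nat.card A' := by
          by_contra hlt
          exact hAA'.ne (Subgroup.eq_of_le_of_card_ge hAA'.le (not_lt.mp hlt))
        omega) (ne_bot_of_gt hAA') (fun y => by
      obtain ⟨S₁, hS₁, he₁⟩ := h y
      obtain ⟨S₂, hS₂, he₂⟩ := h (b⁻¹ * y)
      have he₂' : ((MulAut.conj b • S₂ : Subgroup G) : Set G)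
          = ((MulAut.conj b • A : Subgroup G) : Set G)
            * ((MulAut.conj y • B : Subgroup G) : Set G) := by
        have e : MulAut.conj y • B = MulAut.conj b • MulAut.conj (b⁻¹ * y) • B := by
          rw [smul_smul, ← map_mul, mul_inv_cancel_left]
        rw [e]
        simp only [Subgroup.coe_pointwise_smul] at he₂ ⊢
        rw [he₂, smul_mul']
      obtain ⟨T, hT⟩ := perm_sup he₁ he₂'
      refine ⟨T, fun htop => ?_, hT⟩
      apply hS₀
      refine eq_top_of_factor (B := B) (x := x) (y := y) (eq_sup he₀ ▸ le_sup_right) fun g => ?_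
      have : g ∈ (T : Set G) := by rw [htop]; trivial
      rw [hT] at this
      obtain ⟨a, ha, c, hc, rfl⟩ := this
      exact ⟨a, hA'S₀ ha, c, hc, rfl⟩)
    exact ⟨N, hN, hNt, hor.imp (fun hle => hAA'.le.trans hle) id⟩

/-- Let A and B be nontrivial subgroups of a finite group G such that for every x the product set of A and xBx⁻¹ is a proper subgroup of G. Then there is a proper normal subgroup of G containing A or containing B. -/
theorem result {G : Type*} [Group G] [Finite G] (A B : Subgroup G) (hA : A ≠ ⊥) (hB : B ≠ ⊥) (h : ∀ x : G, ∃ S : Subgroup G, S ≠ ⊤ ∧ (S : Set G) = (A : Set G) * ((MulAut.conj x • B : Subgroup G) : Set G)) : ∃ N : Subgroup G, N.Normal ∧ N ≠ ⊤ ∧ (A ≤ N ∨ B ≤ N) := by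
  exact aux B hB (Nat.card G) A (Nat.le_add_left _ _) hA h

end Cfsg.Agent.S0566
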