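import Cfsg.Statements.S0597
import Cfsg.Agent.Cores.PCore
import Cfsg.Agent.H30.Subnormal

set_option autoImplicit false
open Cfsg

namespace Cfsg.Agent.S0597

open scoped commutatorElement

/-- Elements stabilizing the series `1 ≤ W ≤ V`. -/
def stab {G : Type*} [Group G] (V W : Subgroup G) : Subgroup G where
  carrier := {x | x ∈ Subgroup.normalizer (V : Set G) ∧ (∀ w ∈ W, x * w = w * x) ∧
    ∀ v ∈ V, x * v * x⁻¹ * v⁻¹ ∈ W}
  one_mem' := ⟨one_mem _, fun w _ => by rw [one_mul, mul_one], fun v _ => by simp⟩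
  mul_mem' := fun {x y} hx hy => ⟨mul_mem hx.1 hy.1,
    fun w hw => by rw [mul_assoc, hy.2.1 w hw, ← mul_assoc, hx.2.1 w hw, mul_assoc],
    fun v hv => by
      have h1 := hy.2.2 v hv
      have e : x * y * v * (x * y)⁻¹ * v⁻¹ =
          x * (y * v * y⁻¹ * v⁻¹) * x⁻¹ * (x * v * x⁻¹ * v⁻¹) := by group
      rw [e, hx.2.1 _ h1, mul_inv_cancel_right]
      exact mul_mem h1 (hx.2.2 v hv)⟩
  inv_mem' := fun {x} hx => ⟨inv_mem hx.1,
    fun w hw => by
      calc x⁻¹ * w = x⁻¹ * (w * x) * x⁻¹ := by group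
        _ = x⁻¹ * (x * w) * x⁻¹ := by rw [hx.2.1 w hw]
        _ = w * x⁻¹ := by group,
    fun v hv => by
      have hu : x⁻¹ * v * x ∈ V := by
        simpa using (Subgroup.mem_normalizer_iff.mp (inv_mem hx.1) v).mp hv
      have h1 := inv_mem (hx.2.2 _ hu)
      have e : (x * (x⁻¹ * v * x) * x⁻¹ * (x⁻¹ * v * x)⁻¹)⁻¹ = x⁻¹ * v * x⁻¹⁻¹ * v⁻¹ := by group
      rwa [e] at h1⟩

theorem mem_stab {G : Type*} [Group G] {V W : Subgroup G} {x : G} :
    x ∈ stab V W ↔ x ∈ Subgroup.normalizer (V : Set G) ∧ (∀ w ∈ W, x * w = w * x) ∧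
    ∀ v ∈ V, x * v * x⁻¹ * v⁻¹ ∈ W := Iff.rfl

theorem stab_pow {G : Type*} [Group G] {V W : Subgroup G} {x : G} (hx : x ∈ stab V W) {v : G}
    (hv : v ∈ V) : ∀ n : ℕ, x ^ n * v * (x ^ n)⁻¹ = (x * v * x⁻¹ * v⁻¹) ^ n * v
  | 0 => by simp
  | n + 1 => by
    obtain ⟨-, h2, h3⟩ := mem_stab.mp hx
    set w := x * v * x⁻¹ * v⁻¹ with hw
    have hwn : x * w ^ n * x⁻¹ = w ^ n := by
      rw [h2 _ (pow_mem (h3 v hv) n), mul_inv_cancel_right]
    calc x ^ (n + 1) * v * (x ^ (n + 1))⁻¹ = x * (x ^ n * v * (x ^ n)⁻¹) * x⁻¹ := by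
          rw [pow_succ']; group
      _ = x * (w ^ n * v) * x⁻¹ := by rw [stab_pow hx hv n]
      _ = (x * w ^ n * x⁻¹) * w * v := by rw [hw]; group
      _ = w ^ (n + 1) * v := by rw [hwn, pow_succ]

/-- If two subnormal subgroups of a faithful group on an elementary abelian p-group satisfy [V, E₁, E₂] = 1, then their commutator lies in the largest normal p-subgroup. -/
theorem result {G : Type*} [Group G] [Finite G] {p : ℕ} [Fact p.Prime] (V H : Subgroup G) (hV : Cfsg.IsElementaryAbelian p V) (hHV : H ≤ Subgroup.normalizer (V : Set G)) (hf : H ⊓ Subgroup.centralizer (V : Set G) = ⊥) (E₁ E₂ : Subgroup G) (h₁ : E₁ ≤ H) (h₂ : E₂ ≤ H) (hs₁ : (E₁.subgroupOf H).IsSubnormal) (hs₂ : (E₂.subgroupOf H).IsSubnormal) (hc : ⁅⁅V, E₁⁆, E₂⁆ = ⊥) : ⁅E₁, E₂⁆ ≤ (Cfsg.pCore p H).map H.subtype := by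
  set W := ⁅V, E₁⁆ with hW
  have hE1V := h₁.trans hHV
  have hE2V := h₂.trans hHV
  have hWV : W ≤ V := Subgroup.le_normalizer_iff_commutator_le_left.mp hE1V
  have hfix : ∀ b ∈ E₂, ∀ w ∈ W, b * w = w * b := by
    intro b hb w hw
    exact ((Subgroup.mem_centralizer_iff.mp (Subgroup.commutator_eq_bot_iff_le_centralizer.mp hc hw)) b hb)
  have hWn : ∀ a ∈ E₁, ∀ w ∈ W, a * w * a⁻¹ ∈ W := by
    intro a ha w hw
    have h5 : E₁ ≤ Subgroup.normalizer (W : Set G) := by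
      rw [Subgroup.le_normalizer_iff_commutator_le_left]
      exact Subgroup.commutator_mono hWV le_rfl
    exact (Subgroup.mem_normalizer_iff.mp (h5 ha) w).mp hw
  have hgen : ∀ a ∈ E₁, ∀ v ∈ V, a * v * a⁻¹ * v⁻¹ ∈ W := by
    intro a ha v hv
    have := inv_mem (Subgroup.commutator_mem_commutator hv ha : ⁅v, a⁆ ∈ W)
    rwa [commutatorElement_inv, commutatorElement_def] at this
  have hD : ⁅E₁, E₂⁆ ≤ stab V W := by
    refine Subgroup.commutator_le.mpr fun a ha b hb => mem_stab.mpr ⟨?_, ?_, ?_⟩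
    · rw [commutatorElement_def]
      exact mul_mem (mul_mem (mul_mem (hE1V ha) (hE2V hb)) (inv_mem (hE1V ha))) (inv_mem (hE2V hb))
    · intro w hw
      have hu : a⁻¹ * w * a ∈ W := by simpa using hWn a⁻¹ (inv_mem ha) w hw
      rw [commutatorElement_def]
      calc a * b * a⁻¹ * b⁻¹ * w = a * b * a⁻¹ * (b⁻¹ * w) := by group
        _ = a * b * a⁻¹ * (w * b⁻¹) := by rw [hfix b⁻¹ (inv_mem hb) w hw]
        _ = a * (b * (a⁻¹ * w * a)) * a⁻¹ * b⁻¹ := by group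
        _ = a * ((a⁻¹ * w * a) * b) * a⁻¹ * b⁻¹ := by rw [hfix b hb _ hu]
        _ = w * (a * b * a⁻¹ * b⁻¹) := by group
    · intro v hv
      have hu : b⁻¹ * v * b ∈ V := by
        simpa using (Subgroup.mem_normalizer_iff.mp (inv_mem (hE2V hb)) v).mp hv
      have hw1 : a⁻¹ * (b⁻¹ * v * b) * a * (b⁻¹ * v * b)⁻¹ ∈ W := by
        simpa using hgen a⁻¹ (inv_mem ha) _ hu
      set w1 := a⁻¹ * (b⁻¹ * v * b) * a * (b⁻¹ * v * b)⁻¹ with hw1d
      rw [commutatorElement_def]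
      have e : a * b * a⁻¹ * b⁻¹ * v * (a * b * a⁻¹ * b⁻¹)⁻¹ * v⁻¹ =
          a * (b * w1 * b⁻¹) * a⁻¹ * (a * v * a⁻¹ * v⁻¹) := by rw [hw1d]; group
      rw [e, hfix b hb w1 hw1, mul_inv_cancel_right]
      exact mul_mem (hWn a ha w1 hw1) (hgen a ha v hv)
  have hDH : ⁅E₁, E₂⁆ ≤ H := (Subgroup.commutator_mono h₁ h₂).trans
    (Subgroup.commutator_le.mpr fun a ha b hb => mul_mem (mul_mem (mul_mem ha hb) (inv_mem ha)) (inv_mem hb))
  have hp : IsPGroup p ↥(⁅E₁, E₂⁆) := by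
    intro x
    refine ⟨1, Subtype.ext ?_⟩
    rw [pow_one]
    have hx := hD x.2
    have hmem : (x : G) ^ p ∈ H ⊓ Subgroup.centralizer (V : Set G) := by
      refine ⟨pow_mem (hDH x.2) p, Subgroup.mem_centralizer_iff.mpr fun v hv => ?_⟩
      have h1 := stab_pow hx hv p
      have h3 := (mem_stab.mp hx).2.2 v hv
      rw [hV.2 _ (hWV h3), one_mul] at h1
      calc v * (x : G) ^ p = ((x : G) ^ p * v * ((x : G) ^ p)⁻¹) * (x : G) ^ p := by rw [h1]
        _ = (x : G) ^ p * v := by group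
    rw [hf, Subgroup.mem_bot] at hmem
    simpa using hmem
  have hnorm : E₁ ⊔ E₂ ≤ Subgroup.normalizer ((⁅E₁, E₂⁆ : Subgroup G) : Set G) := by
    refine sup_le ?_ ?_
    · rw [Subgroup.le_normalizer_iff]
      intro x hx
      intro z hz
      refine (Subgroup.commutator_le (H₃ := (⁅E₁, E₂⁆).comap (MulAut.conj x).toMonoidHom)).mpr
        (fun a ha b hb => ?_) hz
      show x * ⁅a, b⁆ * x⁻¹ ∈ ⁅E₁, E₂⁆
      have e : x * ⁅a, b⁆ * x⁻¹ = ⁅x * a, b⁆ * ⁅x, b⁆⁻¹ := by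
        simp only [commutatorElement_def]; group
      rw [e]
      exact mul_mem (Subgroup.commutator_mem_commutator (mul_mem hx ha) hb)
        (inv_mem (Subgroup.commutator_mem_commutator hx hb))
    · rw [Subgroup.le_normalizer_iff]
      intro x hx
      intro z hz
      refine (Subgroup.commutator_le (H₃ := (⁅E₁, E₂⁆).comap (MulAut.conj x).toMonoidHom)).mpr
        (fun a ha b hb => ?_) hz
      show x * ⁅a, b⁆ * x⁻¹ ∈ ⁅E₁, E₂⁆
      have e : x * ⁅a, b⁆ * x⁻¹ = ⁅a, x⁆⁻¹ * ⁅a, x * b⁆ := by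
        simp only [commutatorElement_def]; group
      rw [e]
      exact mul_mem (inv_mem (Subgroup.commutator_mem_commutator ha hx))
        (Subgroup.commutator_mem_commutator ha (mul_mem hx hb))
  set D := (⁅E₁, E₂⁆).subgroupOf H with hDdef
  have hDp : IsPGroup p D := hp.of_equiv (Subgroup.subgroupOfEquivOfLe hDH).symm
  have hsub : (E₁.subgroupOf H ⊔ E₂.subgroupOf H).IsSubnormal :=
    Cfsg.Agent.H30.isSubnormal_sup hs₁ hs₂
  have hle : D ≤ E₁.subgroupOf H ⊔ E₂.subgroupOf H := by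
    rw [← Subgroup.subgroupOf_sup h₁ h₂]
    refine Subgroup.comap_mono (Subgroup.commutator_le.mpr fun a ha b hb => ?_)
    have ha' : a ∈ E₁ ⊔ E₂ := Subgroup.mem_sup_left ha
    have hb' : b ∈ E₁ ⊔ E₂ := Subgroup.mem_sup_right hb
    exact mul_mem (mul_mem (mul_mem ha' hb') (inv_mem ha')) (inv_mem hb')
  have hDn : (D.subgroupOf (E₁.subgroupOf H ⊔ E₂.subgroupOf H)).Normal := by
    rw [Subgroup.normal_subgroupOf_iff_le_normalizer hle, ← Subgroup.subgroupOf_sup h₁ h₂]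
    exact (Subgroup.comap_mono hnorm).trans (Subgroup.le_normalizer_comap _)
  have hDs : D.IsSubnormal := by
    have h := hDn.isSubnormal.trans' hsub
    rwa [Subgroup.subgroupOf_map_subtype, inf_of_le_left hle] at h
  calc ⁅E₁, E₂⁆ = D.map H.subtype := by rw [hDdef, Subgroup.map_subgroupOf_eq_of_le hDH]
    _ ≤ _ := Subgroup.map_mono (Cfsg.Agent.Cores.le_pCore_of_isSubnormal hDs hDp)

end Cfsg.Agent.S0597
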