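import Cfsg.Statements.S0562
import Cfsg.Agent.H31.Basic

set_option autoImplicit false
open Cfsg

namespace Cfsg.Agent.S0562

/-- Let the finite group G be the product HK of subgroups, A normal in H, B normal in K, and L the normalizer of the subgroup generated by A and B. Then every element of L is a product of an element of L ∩ H and an element of L ∩ K. -/
theorem result {G : Type*} [Group G] [Finite G] (H K A B : Subgroup G) (hHK : ∀ g : G, ∃ h ∈ H, ∃ k ∈ K, g = h * k) (hA : A ≤ H) (hAn : (A.subgroupOf H).Normal) (hB : B ≤ K) (hBn : (B.subgroupOf K).Normal) : ∀ g ∈ Subgroup.normalizer ((A ⊔ B : Subgroup G) : Set G), ∃ h ∈ Subgroup.normalizer ((A ⊔ B : Subgroup G) : Set G) ⊓ H, ∃ k ∈ Subgroup.normalizer ((A ⊔ B : Subgroup G) : Set G) ⊓ K, g = h * k := by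
  intro g hg
  set M := A ⊔ B with hM
  obtain ⟨h, hh, k, hk, rfl⟩ := hHK g
  rw [Subgroup.normal_subgroupOf_iff hA] at hAn
  rw [Subgroup.normal_subgroupOf_iff hB] at hBn
  have hAM : A ≤ M := le_sup_left
  have hBM : B ≤ M := le_sup_right
  have hle : M.map (MulAut.conj h).toMonoidHom ≤ M := by
    rw [hM, Subgroup.map_sup, sup_le_iff]
    constructor
    · rintro _ ⟨a, ha, rfl⟩
      exact hAM (hAn a h ha hh)
    · rintro _ ⟨b, hb, rfl⟩
      have hb' : k⁻¹ * b * k ∈ B := by
        simpa using hBn b k⁻¹ hb (inv_mem hk)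
      have := (Subgroup.mem_normalizer_iff.mp hg (k⁻¹ * b * k)).mp (hBM hb')
      have e : h * k * (k⁻¹ * b * k) * (h * k)⁻¹ = h * b * h⁻¹ := by group
      rw [e] at this
      simpa using this
  have heq : M.map (MulAut.conj h).toMonoidHom = M := by
    apply Subgroup.eq_of_le_of_card_ge hle
    rw [Subgroup.card_map_of_injective (MulAut.conj h).injective]
  have hhN : h ∈ Subgroup.normalizer (M : Set G) := by
    rw [Subgroup.mem_normalizer_iff]
    intro n
    constructor
    · intro hn
      exact hle ⟨n, hn, by simp⟩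
    · intro hn
      rw [← heq] at hn
      obtain ⟨m, hm, he⟩ := hn
      have : m = n := (MulAut.conj h).injective (by simpa using he)
      rwa [← this]
  have hkN : k ∈ Subgroup.normalizer (M : Set G) := by
    have := mul_mem (inv_mem hhN) hg
    rwa [inv_mul_cancel_left] at this
  exact ⟨h, ⟨hhN, hh⟩, k, ⟨hkN, hk⟩, rfl⟩

end Cfsg.Agent.S0562
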