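import Cfsg.Statements.S0075
import Cfsg.Agent.Fusion.Tate

set_option autoImplicit false
open Cfsg
open scoped commutatorElement

namespace Cfsg.Agent.S0075

/-- For an abelian Sylow p-subgroup T, its intersection with the subgroup generated by the elements of order prime to p is the commutator of T with its normalizer. -/
theorem result {G : Type*} [Group G] [Finite G] {p : ℕ} [Fact p.Prime] (T : Sylow p G) (hT : IsMulCommutative T) : (T : Subgroup G) ⊓ Cfsg.pResidual p G = ⁅(T : Subgroup G), Subgroup.normalizer (T : Set G)⁆ := by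
  classical
  set N := Subgroup.normalizer (T : Set G) with hN
  have hTN : (T : Subgroup G) ≤ N := Subgroup.le_normalizer
  have hc := Agent.Fusion.controlsElementFusion_normalizer_of_commutative T hT
  apply le_antisymm
  · intro x hx
    have h1 := Agent.Fusion.pResidual_inf_le_commutator T ⟨hx.2, hx.1⟩
    rw [Subgroup.commutator_inf_eq_focalSubgroup, Subgroup.focalSubgroup_def] at h1
    refine (Subgroup.closure_le _).mpr ?_ h1
    rintro g ⟨hg, a, ha, u, rfl⟩
    have h2 : u * a⁻¹ * u⁻¹ ∈ (T : Subgroup G) := by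
      have := mul_mem (inv_mem ha) hg
      simpa [commutatorElement_def, mul_assoc] using this
    obtain ⟨k, hk, hk'⟩ := hc a⁻¹ (inv_mem ha) u h2
    have h3 : ⁅a, u⁆ = ⁅a, k⁆ := by
      calc ⁅a, u⁆ = a * (u * a⁻¹ * u⁻¹) := by group
        _ = ⁅a, k⁆ := by rw [← hk']; group
    rw [SetLike.mem_coe, h3]
    exact Subgroup.commutator_mem_commutator ha hk
  · have hle : ⁅(T : Subgroup G), N⁆ ≤ T := Subgroup.le_normalizer_iff_commutator_le_left.mp le_rfl
    refine le_inf hle (Subgroup.commutator_le.mpr fun a ha n hn => ?_)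
    obtain ⟨M, hM⟩ : ∃ M : Subgroup G, M = Cfsg.pResidual p G := ⟨_, rfl⟩
    rw [← hM]
    haveI : M.Normal := hM ▸ inferInstance
    have h1 : n ∈ ((T : Subgroup G) ⊔ M : Subgroup G) := by
      rw [hM, Agent.Fusion.sylow_sup_pResidual]; trivial
    rw [← SetLike.mem_coe, Subgroup.mul_normal] at h1
    obtain ⟨t, ht, m, hm, rfl⟩ := Set.mem_mul.mp h1
    have hat : a * t = t * a := setLike_mul_comm ha ht
    have h2 : ⁅a, t * m⁆ = t * ⁅a, m⁆ * t⁻¹ := by
      have h3 : ⁅a, t⁆ = 1 := commutatorElement_eq_one_iff_mul_comm.mpr hat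
      rw [commutatorElement_mul_right_eq_mul_conj, h3]
      group
    rw [h2]
    refine Subgroup.Normal.conj_mem inferInstance _ ?_ t
    rw [commutatorElement_def]
    exact mul_mem (Subgroup.Normal.conj_mem inferInstance _ hm a) (inv_mem hm)

end Cfsg.Agent.S0075
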