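import Cfsg.Statements.S1703
import Cfsg.Agent.H56.J4.Order
import Cfsg.Agent.H46.J4Low.Card
import Cfsg.Agent.H16.J4Low.Main

set_option autoImplicit false
open Cfsg

namespace Cfsg.Agent.S1703

/-- the order of the presented fourth Janko group -/
theorem card : Nat.card Cfsg.Spor.J4 = 86775571046077562880 := by
  haveI : Finite Cfsg.Agent.H56.J4.J := Cfsg.Agent.H56.J4.E.finite_J
  exact (Cfsg.Agent.H46.J4Low.card_eq
    (Cfsg.Agent.H56.J4.E.HH_card_le.2.trans (by norm_num))).1

/-- simplicity of the presented fourth Janko group -/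
theorem simple : IsSimpleGroup Cfsg.Spor.J4 :=
  Cfsg.Agent.H16.J4Low.simple Cfsg.Agent.H56.J4.phi Cfsg.Agent.H56.J4.phi_range card

/-- The presented fourth Janko group is simple of the expected order (that is, it is a simple group of the order of the fourth Janko group). -/
theorem result : Cfsg.IsJ4 Cfsg.Spor.J4 := ⟨simple, card⟩

end Cfsg.Agent.S1703
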