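import Cfsg.Statements.S0806
import Cfsg.Agent.Linear.Dickson.Orders
-- import your own Cfsg.Agent.* helpers here

set_option autoImplicit false
open Cfsg Cfsg.Agent.Linear

namespace Cfsg.Agent.S0806

/-- Minimal index (Galois): if q ∉ {2, 3, 5, 7, 9, 11} then every proper subgroup of PSL_2(q) has index ≥ q + 1, and some subgroup has index exactly q + 1. -/
theorem result {F : Type*} [Field F] [Fintype F] {q : ℕ} (hF : Fintype.card F = q) (hq : q ∉ ({2, 3, 5, 7, 9, 11} : Finset ℕ)) : (∀ H : Subgroup (Matrix.ProjectiveSpecialLinearGroup (Fin 2) F), H ≠ ⊤ → q + 1 ≤ H.index) ∧ ∃ H : Subgroup (Matrix.ProjectiveSpecialLinearGroup (Fin 2) F), H.index = q + 1 := by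
  subst hF
  obtain ⟨p, hchar⟩ := CharP.exists F
  have : Fact p.Prime := ⟨CharP.char_is_prime F p⟩
  refine ⟨fun H hH => ?_, ⟨Dickson.borel F, Dickson.index_borel⟩⟩
  set d := Nat.gcd 2 (Fintype.card F - 1) with hd
  set q := Fintype.card F with hqdef
  have hcases : (4 ≤ q ∧ d ≤ 2) ∧ (q = 4 ∨ q = 8 ∨ 13 ≤ q) := by
    have hpp : IsPrimePow q := FiniteField.isPrimePow_card F
    have h2 := hpp.two_le
    simp only [Finset.mem_insert, Finset.mem_singleton, not_or] at hq
    have n6 : q ≠ 6 := fun e => by rw [e] at hpp; norm_num [isPrimePow_iff_unique_prime_dvd] at hpp; obtain ⟨r, ⟨hr, hrd⟩, hu⟩ := hpp; exact absurd ((hu 2 ⟨Nat.prime_two, by norm_num⟩).trans (hu 3 ⟨Nat.prime_three, by norm_num⟩).symm) (by norm_num)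
    have n10 : q ≠ 10 := fun e => by rw [e] at hpp; norm_num [isPrimePow_iff_unique_prime_dvd] at hpp; obtain ⟨r, ⟨hr, hrd⟩, hu⟩ := hpp; exact absurd ((hu 2 ⟨Nat.prime_two, by norm_num⟩).trans (hu 5 ⟨by norm_num, by norm_num⟩).symm) (by norm_num)
    have n12 : q ≠ 12 := fun e => by rw [e] at hpp; norm_num [isPrimePow_iff_unique_prime_dvd] at hpp; obtain ⟨r, ⟨hr, hrd⟩, hu⟩ := hpp; exact absurd ((hu 2 ⟨Nat.prime_two, by norm_num⟩).trans (hu 3 ⟨Nat.prime_three, by norm_num⟩).symm) (by norm_num)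
    exact ⟨⟨by omega, Nat.le_of_dvd two_pos (Nat.gcd_dvd_left 2 _)⟩, by omega⟩
  obtain ⟨⟨h4, hd2⟩, hq'⟩ := hcases
  have hd0 : 0 < d := Nat.gcd_pos_of_pos_left _ two_pos
  have hG := Cfsg.Agent.Linear.card_PSL_two_mul (F := F)
  have hlt : Nat.card H < Nat.card (Matrix.ProjectiveSpecialLinearGroup (Fin 2) F) :=
    lt_of_le_of_ne (Subgroup.card_le_card_group H) fun e => hH (Subgroup.eq_top_of_card_eq _ e)
  have hidx := H.card_mul_index
  -- it is enough to bound the order
  suffices hb : d * Nat.card H ≤ q * (q - 1) by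
    have e : d * Nat.card H * H.index = q * (q - 1) * (q + 1) := by
      rw [mul_assoc d, hidx, hG, ← hqdef, show q ^ 2 - 1 = (q + 1) * (q - 1) by simpa using Nat.sq_sub_sq q 1]
      ring
    by_contra hlt'
    push Not at hlt'
    have h1 : d * Nat.card H * H.index < q * (q - 1) * (q + 1) :=
      lt_of_le_of_lt (Nat.mul_le_mul_right _ hb) (Nat.mul_lt_mul_of_pos_left hlt' (Nat.mul_pos (by omega) (by omega)))
    omega
  rcases Dickson.shape p H with h | h | ⟨⟨f⟩⟩ | ⟨⟨f⟩⟩ | ⟨⟨f⟩⟩ | h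
  · rw [← Dickson.card_borel (F := F)]
    exact Nat.mul_le_mul_left _ (Nat.le_of_dvd Nat.card_pos h.card_dvd)
  · obtain ⟨a, ha, -, hdvd⟩ := h.card_dvd
    have hle := Nat.le_of_dvd (Nat.mul_pos two_pos Nat.card_pos) hdvd
    have hc : d * Nat.card (Dickson.cen a) ≤ q + 1 := by
      have := Dickson.card_cen_torus ha
      rw [Dickson.card_center_two_dvd, ← hqdef, ← hd] at this
      omega
    calc d * Nat.card H ≤ d * (2 * Nat.card (Dickson.cen a)) := Nat.mul_le_mul_left _ hle
      _ ≤ 2 * (q + 1) := by rw [mul_left_comm]; exact Nat.mul_le_mul_left _ hc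
      _ ≤ q * (q - 1) := by
        rcases hq' with e | e | e
        · rw [e]; norm_num
        · rw [e]; norm_num
        · exact le_trans (by omega) (Nat.mul_le_mul_left q (show 3 ≤ q - 1 by omega))
  all_goals
    have key : ∀ c : ℕ, Nat.card H = c → c ≤ 60 → (13 ≤ q → d * Nat.card H ≤ q * (q - 1)) := fun c hc h60 h13 => by
      calc d * Nat.card H ≤ 2 * 60 := Nat.mul_le_mul hd2 (hc ▸ h60)
        _ ≤ q * (q - 1) := le_trans (by norm_num) (Nat.mul_le_mul h13 (show 12 ≤ q - 1 by omega))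
  · have hc : Nat.card H = 12 := (Nat.card_congr f.toEquiv).trans Dickson.card_alt_four
    rcases hq' with e | e | e
    · rw [hc, hd, e]; norm_num
    · rw [hc, hd, e]; norm_num
    · exact key 12 hc (by norm_num) e
  · have hc : Nat.card H = 24 := (Nat.card_congr f.toEquiv).trans Dickson.card_sym_four
    rcases hq' with e | e | e
    · exfalso
      have hdvd := H.card_subgroup_dvd_card
      rw [← hqdef, e] at hG
      norm_num at hG
      rw [hc, hG] at hdvd
      norm_num at hdvd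
    · rw [hc, hd, e]; norm_num
    · exact key 24 hc (by norm_num) e
  · have hc : Nat.card H = 60 := (Nat.card_congr f.toEquiv).trans Dickson.card_alt_five
    rcases hq' with e | e | e
    · exfalso
      rw [← hqdef, e] at hG
      norm_num at hG
      omega
    · exfalso
      have hdvd := H.card_subgroup_dvd_card
      rw [← hqdef, e] at hG
      norm_num at hG
      rw [hc, hG] at hdvd
      norm_num at hdvd
    · exact key 60 hc (by norm_num) e
  · obtain ⟨v, m, hv, hm, hvm, hle⟩ := h.eq_top_of_card.resolve_left hH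
    have hv2 : v ^ 2 ≤ q := (Nat.pow_le_pow_right (by omega) hm).trans hvm.le
    rcases Nat.lt_or_ge v 3 with hlt3 | hge
    · obtain rfl : v = 2 := by omega
      norm_num at hle
      calc d * Nat.card H ≤ 2 * 6 := Nat.mul_le_mul hd2 hle
        _ ≤ q * (q - 1) := le_trans (by norm_num) (Nat.mul_le_mul h4 (show 3 ≤ q - 1 by omega))
    calc d * Nat.card H ≤ 2 * (v * (v ^ 2 - 1)) := Nat.mul_le_mul hd2 hle
      _ ≤ v ^ 2 * (v ^ 2 - 1) := by
        rw [← mul_assoc]
        exact Nat.mul_le_mul_right _ (by rw [sq]; exact Nat.mul_le_mul_right v (by omega))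
      _ ≤ q * (q - 1) := Nat.mul_le_mul hv2 (Nat.sub_le_sub_right hv2 1)

end Cfsg.Agent.S0806
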