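import Cfsg.Agent.H65.OrderThreeSixty
import Cfsg.Statements.S0497
-- import your own Cfsg.Agent.* helpers here

set_option autoImplicit false
open Cfsg

namespace Cfsg.Agent.S0497

/-- A simple group of order 360 is isomorphic to the alternating group of degree 6. -/
theorem result {G : Type*} [Group G] [Finite G] [IsSimpleGroup G]
    (h : Nat.card G = 360) : Nonempty (G ≃* alternatingGroup (Fin 6)) := by
  classical
  letI : Fintype G := Fintype.ofFinite G
  obtain ⟨t, ht, ⟨e⟩⟩ := H65.OrderThreeSixty.exists_dihedral h
  refine H65.DihedralAltSix.iso_alternating_six t e ht (H65.DihedralFusion.isConj_of_no_hom e ht ?_) h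
  intro f
  rcases f.normal_ker.eq_bot_or_eq_top with h' | h'
  · have := Nat.card_le_card_of_injective _ ((MonoidHom.ker_eq_bot_iff _).1 h')
    rw [h, Nat.card_eq_fintype_card] at this
    simp at this
  · exact MonoidHom.ext fun g => MonoidHom.mem_ker.1 (h' ▸ Subgroup.mem_top g : g ∈ f.ker)

end Cfsg.Agent.S0497
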