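import Cfsg.Statements.S3784
import Cfsg.Agent.Arith.LargePrimDiv
-- import your own Cfsg.Agent.* helpers here

set_option autoImplicit false
open Cfsg

namespace Cfsg.Agent.S3784

/-- Let p, q be primes and a, b positive integers with p^a = q^b + 1. Then either p = 2, b = 1, a is prime and q = 2^a − 1; or q = 2, a = 1, b is a power of 2 and p = 2^b + 1; or p^a = 9 and q^b = 8. -/
theorem result (p q a b : ℕ) (hp : p.Prime) (hq : q.Prime) (ha : 1 ≤ a) (hb : 1 ≤ b) (h : p ^ a = q ^ b + 1) : (p = 2 ∧ b = 1 ∧ a.Prime ∧ q + 1 = 2 ^ a) ∨ (q = 2 ∧ a = 1 ∧ (∃ m : ℕ, b = 2 ^ m) ∧ p = 2 ^ b + 1) ∨ (p ^ a = 9 ∧ q ^ b = 8) := by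
  rcases eq_or_ne q 2 with rfl | hq2
  · have hodd : ¬ 2 ∣ p := fun hd => by
      have h1 : (2 : ℕ) ∣ p ^ a := hd.trans (dvd_pow_self p (by omega))
      have h2 : (2 : ℕ) ∣ 2 ^ b := dvd_pow_self 2 (by omega)
      omega
    have hp3 : 3 ≤ p := by have := hp.two_le; rcases Nat.lt_or_ge p 3 with h' | h'
                           · exfalso; apply hodd; exact ⟨1, by omega⟩
                           · exact h'
    rcases eq_or_ne a 1 with rfl | ha1
    · rw [pow_one] at h
      refine Or.inr (Or.inl ⟨rfl, rfl, ?_, h⟩)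
      exact Nat.pow_of_pow_add_prime one_lt_two (by omega) (h ▸ hp)
    · have hb' : p ^ a - 1 = 2 ^ b := Nat.sub_eq_of_eq_add h
      by_cases hex : a = 2 ∧ ∃ m, p + 1 = 2 ^ m
      · obtain ⟨rfl, m, hm⟩ := hex
        refine Or.inr (Or.inr ?_)
        have hd : p - 1 ∣ 2 ^ b := by
          rw [← hb']; simpa using Nat.sub_dvd_pow_sub_pow p 1 2
        obtain ⟨k, -, hk⟩ := (Nat.dvd_prime_pow Nat.prime_two).1 hd
        have hm2 : 2 ≤ m := by
          by_contra hh; interval_cases m <;> omega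
        have hk1 : k ≤ 1 := by
          by_contra hh
          have h4 : (4 : ℕ) ∣ 2 ^ m := Nat.pow_dvd_pow 2 hm2
          have h4' : (4 : ℕ) ∣ 2 ^ k := Nat.pow_dvd_pow 2 (show 2 ≤ k by omega)
          omega
        obtain rfl : p = 3 := by interval_cases k <;> omega
        constructor
        · norm_num
        · omega
      · obtain ⟨r, hr, hrd, hrp⟩ := Arith.exists_isPPD (a := p) (n := a) (by omega) (by omega)
          (by omega) hex
        rw [hb'] at hrd
        obtain rfl : r = 2 := (Nat.prime_dvd_prime_iff_eq hr Nat.prime_two).1 (hr.dvd_of_dvd_pow hrd)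
        exact absurd (by rw [pow_one]; omega) (hrp 1 (by omega) (by omega))
  · have hqodd : ¬ 2 ∣ q := fun hd =>
      hq2 ((Nat.prime_dvd_prime_iff_eq Nat.prime_two hq).1 hd).symm
    obtain rfl : p = 2 := by
      have h1 : ¬ 2 ∣ q ^ b := fun hd => hqodd (Nat.prime_two.dvd_of_dvd_pow hd)
      exact ((Nat.prime_dvd_prime_iff_eq Nat.prime_two hp).1
        (Nat.prime_two.dvd_of_dvd_pow (n := a) (by omega))).symm
    have hq3 : 3 ≤ q := by have := hq.two_le; omega
    have ha2 : 2 ≤ a := by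
      by_contra hh
      obtain rfl : a = 1 := by omega
      have := Nat.le_self_pow (show b ≠ 0 by omega) q
      omega
    rcases eq_or_ne b 1 with rfl | hb1
    · rw [pow_one] at h
      refine Or.inl ⟨rfl, rfl, ?_, h.symm⟩
      exact (Nat.prime_of_pow_sub_one_prime (by omega) (show (2 ^ a - 1).Prime by
        rwa [show 2 ^ a - 1 = q by omega])).2
    · exfalso
      obtain ⟨r, hr, hrd, hrp⟩ := Arith.exists_isPPD (a := q) (n := 2 * b) (by omega) (by omega)
        (by omega) (by omega)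
      have hfac : q ^ (2 * b) - 1 = (q ^ b - 1) * (q ^ b + 1) := by
        rw [mul_comm 2 b, pow_mul]; simpa [mul_comm] using Nat.sq_sub_sq (q ^ b) 1
      rw [hfac] at hrd
      rcases hr.dvd_mul.1 hrd with h' | h'
      · exact hrp b (by omega) (by omega) h'
      · rw [← h] at h'
        obtain rfl : r = 2 := (Nat.prime_dvd_prime_iff_eq hr Nat.prime_two).1 (hr.dvd_of_dvd_pow h')
        exact absurd (by rw [pow_one]; omega) (hrp 1 (by omega) (by omega))

end Cfsg.Agent.S3784
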