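import Cfsg.Statements.S0842
import Mathlib
import Cfsg.Agent.H34.QuaternionDerived

set_option autoImplicit false
open Cfsg

namespace Cfsg.Agent.S0842

open Subgroup


/-- Suppose a Sylow 2-subgroup S of the finite group G is generalized quaternion of order at least 16, and let D be the commutator subgroup of S, C its centralizer and N its normalizer in G. Then there is a subgroup K of odd order, contained in C and normalized by N, with K ⊔ S = N and K ⊔ (S ⊓ C) = C, and C has index 2 in N. -/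
theorem result {G : Type*} [Group G] [Finite G] (S : Sylow 2 G) (n : ℕ) (e : (S : Subgroup G) ≃* QuaternionGroup (2 ^ (n + 2))) (D : Subgroup G) (hD : D = ⁅(S : Subgroup G), (S : Subgroup G)⁆) : ∃ K : Subgroup G, Odd (Nat.card K) ∧ K ≤ Subgroup.centralizer (D : Set G) ∧ Subgroup.normalizer (D : Set G) ≤ Subgroup.normalizer (K : Set G) ∧ K ⊔ (S : Subgroup G) = Subgroup.normalizer (D : Set G) ∧ K ⊔ ((S : Subgroup G) ⊓ Subgroup.centralizer (D : Set G)) = Subgroup.centralizer (D : Set G) ∧ ((Subgroup.centralizer (D : Set G)).subgroupOf (Subgroup.normalizer (D : Set G))).index = 2 := by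
  classical
  haveI : Fact (Nat.Prime 2) := ⟨Nat.prime_two⟩
  obtain ⟨c, d, x, hDd, hd, hc, hSC, hxS, hxC, hSN⟩ := H34.quat_derived S n e hD
  set C := centralizer (D : Set G) with hC
  set N := normalizer (D : Set G) with hN
  obtain ⟨-, hcomp, T, hT⟩ : _ ∧ Cfsg.HasNormalPComplement 2 C ∧ ∃ T : Sylow 2 C,
      (T : Subgroup C).map C.subtype = (S : Subgroup G) ⊓ C := H34.quat_centralizer S n e hD
  have hCN : C ≤ N := Subgroup.centralizer_le_normalizer _
  let K₀ := Cfsg.pResidual 2 C
  let K := K₀.map C.subtype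
  have hc' := Fusion.isComplement'_pResidual hcomp T
  have hodd : ¬ 2 ∣ Nat.card K₀ := Fusion.not_dvd_card_of_isComplement' T hc'
  have hKC : K ≤ C := map_subtype_le _
  have hKcard : Nat.card K = Nat.card K₀ :=
    Nat.card_congr (K₀.equivMapOfInjective C.subtype Subtype.val_injective).symm.toEquiv
  have hmemK : ∀ y : G, y ∈ K ↔ y ∈ C ∧ Nat.Coprime (orderOf y) 2 := by
    intro y
    constructor
    · intro hy
      obtain ⟨z, hz, rfl⟩ := mem_map.1 hy
      exact ⟨z.2, by rw [C.subtype_apply, Subgroup.orderOf_coe]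
                     exact (Fusion.mem_pResidual_iff_of_hasNormalPComplement hcomp).1 hz⟩
    · rintro ⟨hy, ho⟩
      exact ⟨⟨y, hy⟩, (Fusion.mem_pResidual_iff_of_hasNormalPComplement hcomp).2
        (by rwa [Subgroup.orderOf_mk]), rfl⟩
  have hKsup : K ⊔ ((S : Subgroup G) ⊓ C) = C := by
    rw [← hT, ← Subgroup.map_sup, hc'.sup_eq_top, ← MonoidHom.range_eq_map, range_subtype]
  have hNK : N ≤ normalizer (K : Set G) := by
    intro g hg
    have hconj : ∀ g' ∈ N, ∀ y ∈ K, g' * y * g'⁻¹ ∈ K := by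
      intro g' hg' y hy
      obtain ⟨h1, h2⟩ := (hmemK y).1 hy
      refine (hmemK _).2 ⟨H34.inv_conj_mem_centralizer hg' h1, ?_⟩
      have : orderOf (g' * y * g'⁻¹) = orderOf y := MulEquiv.orderOf_eq (MulAut.conj g') y
      rwa [this]
    refine mem_normalizer_iff.2 fun y => ⟨fun hy => hconj g hg y hy, fun hy => ?_⟩
    have := hconj g⁻¹ (inv_mem hg) _ hy
    simpa [mul_assoc] using this
  have hidx : ∃ k, (C.subgroupOf N).index = 2 ^ k := by
    haveI : IsCyclic D := by rw [hDd]; infer_instance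
    have hker : (D.normalizerMonoidHom).ker = C.subgroupOf N := Subgroup.normalizerMonoidHom_ker D
    have h1 : (C.subgroupOf N).index ∣ Nat.card (MulAut D) := by
      rw [← hker, Subgroup.index_ker]; exact card_subgroup_dvd_card _
    have h2 : Nat.card (MulAut D) = 2 ^ (n + 1) := by
      rw [IsCyclic.card_mulAut D, hDd, Nat.card_zpowers, hd,
        Nat.totient_prime_pow Nat.prime_two (by omega)]
      simp
    rw [h2] at h1
    obtain ⟨k, -, hk⟩ := (Nat.dvd_prime_pow Nat.prime_two).1 h1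
    exact ⟨k, hk⟩
  have hCS : C ⊔ (S : Subgroup G) = N := by
    refine le_antisymm (sup_le hCN hSN) ?_
    obtain ⟨k, hk⟩ := hidx
    have h1 : (C ⊔ (S : Subgroup G)).relIndex N ∣ 2 ^ k := hk ▸
      Subgroup.relIndex_dvd_of_le_left N (le_sup_left : C ≤ C ⊔ (S : Subgroup G))
    have h2 : (C ⊔ (S : Subgroup G)).relIndex N ∣ (S : Subgroup G).relIndex N :=
      Subgroup.relIndex_dvd_of_le_left N le_sup_right
    have h3 : ¬ 2 ∣ (S : Subgroup G).relIndex N := fun h =>
      S.not_dvd_index (h.trans (Subgroup.relIndex_dvd_index_of_le hSN))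
    have h4 : Nat.Coprime (2 ^ k) ((S : Subgroup G).relIndex N) :=
      (Nat.prime_two.coprime_iff_not_dvd.2 h3).pow_left k
    exact Subgroup.relIndex_eq_one.1 (Nat.eq_one_of_dvd_coprimes h4 h1 h2)
  have hsup : K ⊔ (S : Subgroup G) = N := by
    rw [← hCS]
    refine le_antisymm (sup_le_sup_right hKC _) (sup_le ?_ le_sup_right)
    calc C = K ⊔ ((S : Subgroup G) ⊓ C) := hKsup.symm
      _ ≤ K ⊔ (S : Subgroup G) := sup_le_sup_left inf_le_left _
  refine ⟨K, ?_, hKC, hNK, hsup, hKsup, ?_⟩
  · rw [hKcard, Nat.odd_iff]; omega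
  · obtain ⟨k, hk⟩ := hidx
    have h1 : (C.subgroupOf N).index = ((S : Subgroup G) ⊓ C).relIndex (S : Subgroup G) := by
      rw [Subgroup.inf_relIndex_left]
      haveI : (C.subgroupOf N).Normal := ⟨fun y hy g => H34.inv_conj_mem_centralizer g.2 hy⟩
      rw [← Subgroup.relIndex_subgroupOf (H := C) hSN,
        ← Subgroup.relIndex_sup_left ((S : Subgroup G).subgroupOf N) (C.subgroupOf N),
        ← Subgroup.subgroupOf_sup hCN hSN, hCS, Subgroup.subgroupOf_self, Subgroup.relIndex_top_right]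
    have h2 : Nat.card (S : Subgroup G) = 4 * 2 ^ (n + 2) := by
      rw [Nat.card_congr e.toEquiv, Nat.card_eq_fintype_card, QuaternionGroup.card]
    have h3 : Nat.card ((S : Subgroup G) ⊓ C : Subgroup G) = 2 * 2 ^ (n + 2) := by
      rw [hSC, Nat.card_zpowers, hc]
    have h5 := Subgroup.relIndex_mul_relIndex (⊥ : Subgroup G) ((S : Subgroup G) ⊓ C) (S : Subgroup G) bot_le inf_le_left
    rw [Subgroup.relIndex_bot_left, Subgroup.relIndex_bot_left, h2, h3, ← h1] at h5
    have : 0 < 2 ^ (n + 2) := by positivity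
    nlinarith [h5]

end Cfsg.Agent.S0842
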