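import Cfsg.Statements.S0843
import Mathlib
import Cfsg.Agent.H34.QuaternionDerived

set_option autoImplicit false
open Cfsg

namespace Cfsg.Agent.S0843

open Subgroup


/-- Suppose a Sylow 2-subgroup S of the finite group G is generalized quaternion of order at least 16; let D be the commutator subgroup of S and X the set of elements of the centralizer of D whose order is divisible by the order of D. Then D is contained in the cyclic subgroup generated by any element of X; an element of G conjugating some element of X into the centralizer of D normalizes D; and the normalizer of D maps X to itself under conjugation. -/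
theorem result {G : Type*} [Group G] [Finite G] (S : Sylow 2 G) (n : ℕ) (e : (S : Subgroup G) ≃* QuaternionGroup (2 ^ (n + 2))) (D : Subgroup G) (hD : D = ⁅(S : Subgroup G), (S : Subgroup G)⁆) : (∀ y : G, y ∈ Subgroup.centralizer (D : Set G) → Nat.card D ∣ orderOf y → D ≤ Subgroup.zpowers y) ∧ (∀ g y : G, y ∈ Subgroup.centralizer (D : Set G) → Nat.card D ∣ orderOf y → g * y * g⁻¹ ∈ Subgroup.centralizer (D : Set G) → g ∈ Subgroup.normalizer (D : Set G)) ∧ (∀ g y : G, g ∈ Subgroup.normalizer (D : Set G) → y ∈ Subgroup.centralizer (D : Set G) → Nat.card D ∣ orderOf y → g * y * g⁻¹ ∈ Subgroup.centralizer (D : Set G) ∧ Nat.card D ∣ orderOf (g * y * g⁻¹)) := by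
  classical
  haveI : Fact (Nat.Prime 2) := ⟨Nat.prime_two⟩
  obtain ⟨c, d, x, hDd, hd, -, -, -, -, -⟩ := H34.quat_derived S n e hD
  obtain ⟨hcyc, -, -⟩ := H34.quat_centralizer S n e hD
  have hcardD : Nat.card D = 2 ^ (n + 2) := by rw [hDd, Nat.card_zpowers, hd]
  have hDC : D ≤ centralizer (D : Set G) := by
    rw [hDd, zpowers_le, H34.mem_centralizer_zpowers_iff]
  have h1 : ∀ y : G, y ∈ centralizer (D : Set G) → Nat.card D ∣ orderOf y → D ≤ zpowers y := by
    intro y hy hdvd
    set z := y ^ (orderOf y / Nat.card D) with hz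
    have hzo : orderOf z = Nat.card D := by
      rw [hz, orderOf_pow_orderOf_div (orderOf_pos y).ne' hdvd]
    have hzC : zpowers z ≤ centralizer (D : Set G) := zpowers_le.2 (pow_mem hy _)
    have hP : IsPGroup 2 (D ⊔ zpowers z : Subgroup G) := by
      refine IsPGroup.to_sup_of_normal_left' (H := D) (K := zpowers z) ?_ ?_ ?_
      · exact IsPGroup.of_card (n := n + 2) hcardD
      · exact IsPGroup.of_card (n := n + 2) (by rw [Nat.card_zpowers, hzo, hcardD])
      · exact hzC.trans (Subgroup.centralizer_le_normalizer _)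
    have hle : D ⊔ zpowers z ≤ centralizer (D : Set G) := sup_le hDC hzC
    have := H41.eq_of_card_eq_of_le_cyclic (hcyc _ hle hP) (le_sup_left : D ≤ D ⊔ zpowers z)
      (le_sup_right : zpowers z ≤ D ⊔ zpowers z) (by rw [Nat.card_zpowers, hzo])
    rw [this, zpowers_le]
    exact pow_mem (mem_zpowers y) _
  have hord : ∀ g y : G, orderOf (g * y * g⁻¹) = orderOf y := fun g y =>
    MulEquiv.orderOf_eq (MulAut.conj g) y
  refine ⟨h1, fun g y hy hdvd hg => ?_, fun g y hg hy hdvd =>
    ⟨H34.inv_conj_mem_centralizer hg hy, by rw [hord]; exact hdvd⟩⟩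
  have hA : D ≤ zpowers (g * y * g⁻¹) := h1 _ hg (by rw [hord]; exact hdvd)
  have hB : D.map (MulAut.conj g).toMonoidHom ≤ zpowers (g * y * g⁻¹) := by
    refine (map_mono (h1 y hy hdvd)).trans ?_
    rw [MonoidHom.map_zpowers]
    exact le_rfl
  have heq := H41.eq_of_card_eq_of_le_cyclic inferInstance hB hA
    (Nat.card_congr (D.equivMapOfInjective _ (MulAut.conj g).injective).symm.toEquiv)
  refine mem_normalizer_iff.2 fun z => ⟨fun hz => ?_, fun hz => ?_⟩
  · rw [← heq]; exact ⟨z, hz, rfl⟩
  · rw [← heq, mem_map] at hz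
    obtain ⟨w, hw, he⟩ := hz
    rwa [(MulAut.conj g).injective he] at hw

end Cfsg.Agent.S0843
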