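import Cfsg.Statements.S0791
import Cfsg.Agent.H34.OmegaSign

set_option autoImplicit false
open Cfsg

namespace Cfsg.Agent.S0791

open Matrix

variable {F : Type*} [Field F]

theorem quadFormMinus_eq (k : ℕ) (a b : F) (v : (Fin k ⊕ Fin k) ⊕ Fin 2 → F) :
    Cfsg.quadFormMinus k F a b v = ((v ∘ Sum.inl) ∘ Sum.inl) ⬝ᵥ ((v ∘ Sum.inl) ∘ Sum.inr) +
      ((v ∘ Sum.inr) 0 ^ 2 + a * (v ∘ Sum.inr) 0 * (v ∘ Sum.inr) 1 + b * (v ∘ Sum.inr) 1 ^ 2) := rfl

theorem form_ne {a b : F} (hab : ∀ z₁ z₂ : F, z₁ ^ 2 + a * z₁ * z₂ + b * z₂ ^ 2 = 0 → z₁ = 0 ∧ z₂ = 0)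
    (t : F) : t ^ 2 + a * t + b ≠ 0 := by
  intro h
  have := (hab t 1 (by linear_combination h)).2
  exact one_ne_zero this

theorem isSquare_or_of_not_isSquare [Fintype F] (h2 : (2 : F) ≠ 0) {x : F} (hx : ¬ IsSquare x) (y : F) :
    IsSquare y ∨ IsSquare (x * y) := by
  classical
  by_cases hy : IsSquare y
  · exact Or.inl hy
  · right
    have h2' : ringChar F ≠ 2 := fun h => h2 (by
      have h' : ((ringChar F : ℕ) : F) = 0 := ringChar.Nat.cast_ringChar
      rw [h] at h'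
      exact_mod_cast h')
    have hx0 : x ≠ 0 := fun h => hx (h ▸ IsSquare.zero)
    have hy0 : y ≠ 0 := fun h => hy (h ▸ IsSquare.zero)
    rw [← quadraticChar_one_iff_isSquare (mul_ne_zero hx0 hy0), map_mul,
      quadraticChar_neg_one_iff_not_isSquare.mpr hx, quadraticChar_neg_one_iff_not_isSquare.mpr hy]
    rfl

theorem card_norm_one [Fintype F] (h2 : (2 : F) ≠ 0) {a b : F}
    (hab : ∀ z₁ z₂ : F, z₁ ^ 2 + a * z₁ * z₂ + b * z₂ ^ 2 = 0 → z₁ = 0 ∧ z₂ = 0) :
    Nat.card {z : Fin 2 → F // z 0 ^ 2 + a * z 0 * z 1 + b * z 1 ^ 2 = 1} = Fintype.card F + 1 := by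
  have hden := form_ne hab
  set s : F → F := fun t => -(2 * t + a) / (t ^ 2 + a * t + b) with hs
  have hstep : ∀ t, s t * (t ^ 2 + a * t + b) = -(2 * t + a) := fun t => div_mul_cancel₀ _ (hden t)
  let φ : Option F → {z : Fin 2 → F // z 0 ^ 2 + a * z 0 * z 1 + b * z 1 ^ 2 = 1} := fun o =>
    match o with
    | none => ⟨![-1, 0], by simp⟩
    | some t => ⟨![1 + s t * t, s t], by
        simp only [Matrix.cons_val_zero, Matrix.cons_val_one]
        linear_combination (s t) * hstep t⟩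
  have hbij : Function.Bijective φ := by
    constructor
    · rintro (_ | t) (_ | t') h
      · rfl
      · exfalso
        have h0 := congrFun (congrArg Subtype.val h) 0
        have h1 := congrFun (congrArg Subtype.val h) 1
        simp [φ] at h0 h1
        rw [← h1] at h0
        apply h2; linear_combination -h0
      · exfalso
        have h0 := congrFun (congrArg Subtype.val h) 0
        have h1 := congrFun (congrArg Subtype.val h) 1
        simp [φ] at h0 h1
        rw [h1] at h0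
        apply h2; linear_combination h0
      · have h0 := congrFun (congrArg Subtype.val h) 0
        have h1 := congrFun (congrArg Subtype.val h) 1
        simp [φ] at h0 h1
        rw [← h1] at h0
        by_cases hz : s t = 0
        · have e : 2 * t + a = 0 := by linear_combination hstep t - (t ^ 2 + a * t + b) * hz
          have e' : 2 * t' + a = 0 := by
            linear_combination hstep t' - (t' ^ 2 + a * t' + b) * (h1.symm.trans hz)
          congr 1
          apply mul_left_cancel₀ h2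
          linear_combination e - e'
        · congr 1
          exact mul_left_cancel₀ hz h0
    · rintro ⟨z, hz⟩
      by_cases h : z 1 = 0
      · have h0 : (z 0 - 1) * (z 0 + 1) = 0 := by
          rw [h] at hz; linear_combination hz
        rcases mul_eq_zero.mp h0 with h0 | h0
        · refine ⟨some (-a / 2), Subtype.ext (funext fun i => ?_)⟩
          have e : s (-a / 2) = 0 := by simp [hs, mul_div_cancel₀ _ h2]
          fin_cases i
          · simp [φ, e]; linear_combination -h0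
          · simp [φ, e, h]
        · refine ⟨none, Subtype.ext (funext fun i => ?_)⟩
          fin_cases i
          · simp [φ]; linear_combination -h0
          · simp [φ, h]
      · obtain ⟨t, ht⟩ : ∃ t, t * z 1 = z 0 - 1 := ⟨(z 0 - 1) / z 1, div_mul_cancel₀ _ h⟩
        have e : s t = z 1 := by
          apply mul_right_cancel₀ (hden t)
          rw [hstep]
          apply mul_left_cancel₀ h
          linear_combination -hz - (2 + z 0 - 1 + t * z 1 + a * z 1) * ht
        refine ⟨some t, Subtype.ext (funext fun i => ?_)⟩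
        fin_cases i
        · simp only [φ, e]
          show 1 + z 1 * t = z 0
          linear_combination ht
        · simp [φ, e]
  rw [← Nat.card_congr (Equiv.ofBijective φ hbij), Nat.card_eq_fintype_card, Fintype.card_option]

theorem count [Fintype F] (h2 : (2 : F) ≠ 0) {q : ℕ} (hF : Fintype.card F = q) (k : ℕ) {a b : F}
    (hab : ∀ z₁ z₂ : F, z₁ ^ 2 + a * z₁ * z₂ + b * z₂ ^ 2 = 0 → z₁ = 0 ∧ z₂ = 0) :
    Nat.card {v : (Fin k ⊕ Fin k) ⊕ Fin 2 → F // Cfsg.quadFormMinus k F a b v = 1} =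
      q ^ k * (q ^ (k + 1) + 1) := by
  let hz : (Fin 2 → F) → F := fun z => z 0 ^ 2 + a * z 0 * z 1 + b * z 1 ^ 2
  let e : {v : (Fin k ⊕ Fin k) ⊕ Fin 2 → F // Cfsg.quadFormMinus k F a b v = 1} ≃
      {p : ((Fin k → F) × (Fin k → F)) × (Fin 2 → F) // p.1.1 ⬝ᵥ p.1.2 + hz p.2 = 1} :=
    { toFun := fun v => ⟨(((v.1 ∘ Sum.inl) ∘ Sum.inl, (v.1 ∘ Sum.inl) ∘ Sum.inr), v.1 ∘ Sum.inr), v.2⟩
      invFun := fun p => ⟨Sum.elim (Sum.elim p.1.1.1 p.1.1.2) p.1.2, p.2⟩
      left_inv := fun v => Subtype.ext (funext fun i => by rcases i with (i | i) | i <;> rfl)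
      right_inv := fun p => rfl }
  rw [Nat.card_congr e, H34.card_hyperbolic_add hF hz 1 k, card_norm_one h2 hab, hF,
    Nat.card_fun, Nat.card_fin, Nat.card_eq_fintype_card, hF]
  rcases k with _ | j
  · simp <;> ring
  · have h1 : 1 ≤ q ^ (j + 1) := Nat.one_le_pow _ _ (hF ▸ Fintype.card_pos)
    obtain ⟨c, hc⟩ := Nat.exists_eq_add_of_le h1
    rw [Nat.add_sub_cancel, pow_succ q (j + 1), hc, Nat.add_sub_cancel_left]
    rw [pow_succ] at hc
    calc (1 + c) * (q + 1) + c * q ^ j * q ^ 2 = (1 + c) * (q + 1) + c * q * (q ^ j * q) := by ring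
      _ = (1 + c) * (q + 1) + c * q * (1 + c) := by rw [hc]
      _ = _ := by ring

theorem main [Fintype F] {q : ℕ} (hF : Fintype.card F = q) (hodd : Odd q) (k : ℕ) (a b : F)
    (hab : ∀ z₁ z₂ : F, z₁ ^ 2 + a * z₁ * z₂ + b * z₂ ^ 2 = 0 → z₁ = 0 ∧ z₂ = 0) :
    (∃ g : ↥(Cfsg.isometryGroup F (Cfsg.quadFormMinus k F a b)),
      g ∈ Cfsg.Omega F (Cfsg.quadFormMinus k F a b) ∧
      ((g : Matrix.GeneralLinearGroup ((Fin k ⊕ Fin k) ⊕ Fin 2) F) :
        Matrix ((Fin k ⊕ Fin k) ⊕ Fin 2) ((Fin k ⊕ Fin k) ⊕ Fin 2) F) = -1) ↔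
      q ^ (k + 1) % 4 = 3 := by
  have h2 : (2 : F) ≠ 0 := by
    apply Ring.two_ne_zero
    intro h
    have := FiniteField.even_card_of_char_two (F := F) h
    rw [hF] at this
    obtain ⟨r, rfl⟩ := hodd
    omega
  constructor
  · rintro ⟨g, hg, hneg⟩
    have h := H34.four_dvd_of_neg_one_mem_omega h2 g hg hneg 1
      (by simp [quadFormMinus_eq, Function.comp_def])
    rw [count h2 hF k hab] at h
    have hcop : Nat.Coprime 4 (q ^ k) := by
      apply Nat.Coprime.pow_right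
      exact Nat.Coprime.pow_left 2 (Nat.coprime_two_left.mpr hodd)
    have h4 := hcop.dvd_of_dvd_mul_left h
    omega
  · intro hq
    have hq3 : q % 4 = 3 := by
      obtain ⟨s, hs⟩ := hodd
      have : q % 4 = 1 ∨ q % 4 = 3 := by omega
      rcases this with h | h
      · exfalso; rw [Nat.pow_mod, h, one_pow] at hq; norm_num at hq
      · exact h
    have hk : Even k := by
      rcases Nat.even_or_odd k with h | h
      · exact h
      · exfalso
        obtain ⟨r, hr⟩ := h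
        rw [show k + 1 = 2 * (r + 1) by omega, pow_mul, Nat.pow_mod, Nat.pow_mod q 2, hq3] at hq
        norm_num at hq
    have hm1 : ¬ IsSquare (-1 : F) := by
      rw [FiniteField.isSquare_neg_one_iff, hF]; omega
    obtain ⟨e, he⟩ : IsSquare (b - a ^ 2 / 4) := by
      rcases isSquare_or_of_not_isSquare h2 hm1 (-(b - a ^ 2 / 4)) with h | h
      · exfalso
        obtain ⟨s, hs⟩ := h
        have h4 : (4 : F) ≠ 0 := by
          rw [show (4 : F) = 2 * 2 by norm_num]; exact mul_ne_zero h2 h2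
        refine form_ne hab (-a / 2 + s) ?_
        field_simp at hs ⊢
        linear_combination -hs
      · obtain ⟨s, hs⟩ := h
        exact ⟨s, by linear_combination hs⟩
    have h4 : (4 : F) ≠ 0 := by
      rw [show (4 : F) = 2 * 2 by norm_num]; exact mul_ne_zero h2 h2
    have hb : b = e * e + a ^ 2 / 4 := by linear_combination he
    have he0 : e ≠ 0 := by
      intro h0
      refine form_ne hab (-a / 2) ?_
      subst h0; rw [hb]; field_simp; ring
    obtain ⟨A, B, hA, hB, hAB, hAd, hBd⟩ := H34.exists_anticomm (F := F) hk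
    set R : Matrix (Fin 2) (Fin 2) F := !![-a / (2 * e), -e - a ^ 2 / (4 * e); 1 / e, a / (2 * e)] with hR
    set S : Matrix (Fin 2) (Fin 2) F := !![1, a; 0, -1] with hS
    have hRR : R * R = -1 := by
      ext i j; fin_cases i <;> fin_cases j <;> simp [hR, Matrix.mul_apply, Fin.sum_univ_two] <;>
        field_simp <;> ring
    have hSS : S * S = 1 := by
      ext i j; fin_cases i <;> fin_cases j <;> simp [hS, Matrix.mul_apply, Fin.sum_univ_two]
    have hRS : R * S * R * S = 1 := by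
      ext i j; fin_cases i <;> fin_cases j <;> simp [hR, hS, Matrix.mul_apply, Fin.sum_univ_two] <;>
        field_simp <;> ring
    have hRf : ∀ z : Fin 2 → F, (R *ᵥ z) 0 ^ 2 + a * (R *ᵥ z) 0 * (R *ᵥ z) 1 + b * (R *ᵥ z) 1 ^ 2 =
        z 0 ^ 2 + a * z 0 * z 1 + b * z 1 ^ 2 := by
      intro z
      simp [hR, Matrix.mulVec, dotProduct, Fin.sum_univ_two, hb]
      field_simp
      ring
    have hSf : ∀ z : Fin 2 → F, (S *ᵥ z) 0 ^ 2 + a * (S *ᵥ z) 0 * (S *ᵥ z) 1 + b * (S *ᵥ z) 1 ^ 2 =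
        z 0 ^ 2 + a * z 0 * z 1 + b * z 1 ^ 2 := by
      intro z
      simp [hS, Matrix.mulVec, dotProduct, Fin.sum_univ_two]
      ring
    have pres : ∀ (C : Matrix (Fin k) (Fin k) F) (T : Matrix (Fin 2) (Fin 2) F),
        (∀ x y, (C *ᵥ x) ⬝ᵥ (C *ᵥ y) = x ⬝ᵥ y) →
        (∀ z : Fin 2 → F, (T *ᵥ z) 0 ^ 2 + a * (T *ᵥ z) 0 * (T *ᵥ z) 1 + b * (T *ᵥ z) 1 ^ 2 =
          z 0 ^ 2 + a * z 0 * z 1 + b * z 1 ^ 2) →
        ∀ v, Cfsg.quadFormMinus k F a b (fromBlocks (fromBlocks C 0 0 C) 0 0 T *ᵥ v) =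
          Cfsg.quadFormMinus k F a b v := by
      intro C T hC hT v
      rw [quadFormMinus_eq, quadFormMinus_eq]
      simp only [fromBlocks_mulVec, zero_mulVec, add_zero, zero_add, Sum.elim_comp_inl,
        Sum.elim_comp_inr, hC, hT]
    refine H34.exists_neg_one_mem_omega (fromBlocks (fromBlocks A 0 0 A) 0 0 R)
      (fromBlocks (fromBlocks A 0 0 A) 0 0 (-R)) (fromBlocks (fromBlocks B 0 0 B) 0 0 S)
      ?_ ?_ ?_ (pres A R hAd hRf) (pres B S hBd hSf) ?_
    · simp [fromBlocks_multiply, hA, hRR, fromBlocks_one]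
    · simp [fromBlocks_multiply, hA, hRR, fromBlocks_one]
    · simp [fromBlocks_multiply, hB, hSS, fromBlocks_one]
    · simp only [fromBlocks_multiply, Matrix.mul_zero, Matrix.zero_mul, add_zero, zero_add]
      rw [hAB, neg_mul, neg_mul, mul_assoc B A A, hA, mul_one, hB, mul_neg, neg_mul, hRS,
        ← fromBlocks_one, ← fromBlocks_one (l := Fin k) (m := Fin k)]
      simp only [fromBlocks_neg, neg_zero]


/-- −1 ∈ Ω⁻_2m(q) iff q^m ≡ −1 (mod 4), for q odd and m ≥ 1; for the minus-type form quadFormMinus (m−1) with anisotropic binary part. -/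
theorem result {F : Type*} [Field F] [Fintype F] {q : ℕ} (hF : Fintype.card F = q) (hodd : Odd q) (m : ℕ) (hm : 1 ≤ m) (a b : F) (hab : ∀ z₁ z₂ : F, z₁ ^ 2 + a * z₁ * z₂ + b * z₂ ^ 2 = 0 → z₁ = 0 ∧ z₂ = 0) : (∃ g : ↥(Cfsg.isometryGroup F (Cfsg.quadFormMinus (m - 1) F a b)), g ∈ Cfsg.Omega F (Cfsg.quadFormMinus (m - 1) F a b) ∧ ((g : Matrix.GeneralLinearGroup ((Fin (m - 1) ⊕ Fin (m - 1)) ⊕ Fin 2) F) : Matrix ((Fin (m - 1) ⊕ Fin (m - 1)) ⊕ Fin 2) ((Fin (m - 1) ⊕ Fin (m - 1)) ⊕ Fin 2) F) = -1) ↔ q ^ m % 4 = 3 := by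
  obtain ⟨k, rfl⟩ : ∃ k, m = k + 1 := ⟨m - 1, by omega⟩
  exact main hF hodd k a b hab

end Cfsg.Agent.S0791
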