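import Cfsg.Statements.S0876
import Cfsg.Agent.H35.Consequences
import Cfsg.Agent.BlockBasic.Center

set_option autoImplicit false
open Cfsg

namespace Cfsg.Agent.S0876
open scoped ComplexConjugate

/-- Averaging over a subgroup centralised by `s` gives algebraic integers. -/
theorem isIntegral_avg {G : Type*} [Group G] [Fintype G] {n : ℕ}
    (ρ : Representation ℂ G (Fin n → ℂ)) (P : Subgroup G) [Fintype P] (s : G)
    (hs : ∀ u ∈ P, Commute s u) :
    IsIntegral ℤ ((Nat.card P : ℂ)⁻¹ * ∑ u : P, ρ.character (s * u)) := by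
  classical
  set π : Module.End ℂ (Fin n → ℂ) := (Nat.card P : ℂ)⁻¹ • ∑ u : P, ρ (u : G) with hπ
  have hcard : (Nat.card P : ℂ) ≠ 0 := Nat.cast_ne_zero.2 Nat.card_pos.ne'
  have hleft : ∀ v : P, ρ (v : G) * π = π := by
    intro v
    rw [hπ, mul_smul_comm, Finset.mul_sum]
    congr 1
    exact Fintype.sum_equiv (Equiv.mulLeft v) _ _ fun u => by simp [map_mul]
  have hidem : π * π = π := by
    conv_lhs => arg 1; rw [hπ]
    rw [smul_mul_assoc, Finset.sum_mul, Finset.sum_congr rfl fun v _ => hleft v, Finset.sum_const,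
      Finset.card_univ, ← Nat.card_eq_fintype_card, ← Nat.cast_smul_eq_nsmul ℂ, smul_smul,
      inv_mul_cancel₀ hcard, one_smul]
  have hcomm : Commute (ρ s) π := by
    refine Commute.smul_right (Commute.sum_right _ _ _ fun u _ => ?_) _
    rw [Commute, SemiconjBy, ← map_mul, ← map_mul, (hs u u.2).eq]
  set f : Module.End ℂ (Fin n → ℂ) := ρ s * π + (1 - π) with hf
  have hpow : ∀ k : ℕ, f ^ k = ρ s ^ k * π + (1 - π) := by
    intro k
    induction k with
    | zero => simp
    | succ k ih =>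
      rw [pow_succ, ih, hf]
      have h1 : π * (1 - π) = 0 := by rw [mul_sub, mul_one, hidem, sub_self]
      have h2 : (1 - π) * π = 0 := by rw [sub_mul, one_mul, hidem, sub_self]
      have h3 : (1 - π) * (1 - π) = 1 - π := by rw [mul_sub, mul_one, h2, sub_zero]
      have e1 : ρ s ^ k * π * (ρ s * π) = ρ s ^ (k + 1) * π := by
        rw [mul_assoc, ← mul_assoc π, ← hcomm.eq, mul_assoc (ρ s), hidem, ← mul_assoc, ← pow_succ]
      have e2 : ρ s ^ k * π * (1 - π) = 0 := by rw [mul_assoc, h1, mul_zero]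
      have e3 : (1 - π) * (ρ s * π) = 0 := by
        rw [← mul_assoc, ((Commute.one_right (ρ s)).sub_right hcomm).symm.eq, mul_assoc, h2,
          mul_zero]
      rw [add_mul, mul_add, mul_add, e1, e2, e3, h3, add_zero, zero_add]
  have hfm : f ^ orderOf s = 1 := by
    rw [hpow, ← map_pow, pow_orderOf_eq_one, map_one, one_mul, add_sub_cancel]
  obtain ⟨b, μ, hb, hμ⟩ := CharBasic.exists_eigenbasis (orderOf_pos s) hfm
  have hint : IsIntegral ℤ (LinearMap.trace ℂ _ f) := by
    rw [CharBasic.trace_eq_sum_of_eigenbasis b μ f hb]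
    exact IsIntegral.sum _ fun i _ =>
      IsIntegral.of_pow (orderOf_pos s) (by rw [hμ i]; exact isIntegral_one)
  have htr : IsIntegral ℤ (LinearMap.trace ℂ _ π) := by
    have hp : LinearMap.IsProj π.range π := ⟨fun x => LinearMap.mem_range_self π x, fun x hx => by
      obtain ⟨y, rfl⟩ := hx
      exact LinearMap.congr_fun hidem y⟩
    rw [hp.trace]
    exact isIntegral_algebraMap (R := ℤ) (x := ((Module.finrank ℂ π.range : ℕ) : ℤ))
  have hmain : (Nat.card P : ℂ)⁻¹ * ∑ u : P, ρ.character (s * u) =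
      LinearMap.trace ℂ _ f - LinearMap.trace ℂ _ (1 : Module.End ℂ (Fin n → ℂ)) +
        LinearMap.trace ℂ _ π := by
    rw [hf, map_add, map_sub]
    have : LinearMap.trace ℂ _ (ρ s * π) = (Nat.card P : ℂ)⁻¹ * ∑ u : P, ρ.character (s * u) := by
      rw [hπ, mul_smul_comm, Finset.mul_sum, map_smul, map_sum, smul_eq_mul]
      simp [Representation.character, ← map_mul]
    rw [this]; ring
  rw [hmain]
  refine (hint.sub ?_).add htr
  rw [LinearMap.trace_one]
  exact isIntegral_algebraMap (R := ℤ) (x := ((Module.finrank ℂ (Fin n → ℂ) : ℕ) : ℤ))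

theorem separates {G : Type*} [Group G] [Finite G] {p : ℕ} [hp : Fact p.Prime]
    {M : Ideal Cfsg.AlgInt} (hM : Cfsg.IsPModular p M) {s t : G} (hs : ¬ p ∣ orderOf s)
    (ht : ¬ p ∣ orderOf t)
    (h : ∀ χ : Cfsg.IrrCharacter G, Cfsg.MemLocalIdeal M ((χ : G → ℂ) s - (χ : G → ℂ) t)) :
    IsConj s t := by
  classical
  cases nonempty_fintype G
  by_contra hne
  set C := Subgroup.centralizer ({s} : Set G) with hC
  obtain ⟨Q⟩ : Nonempty (Sylow p C) := inferInstance
  set P : Subgroup G := (Q : Subgroup C).map C.subtype with hP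
  have hPc : ∀ u ∈ P, Commute s u := by
    intro u hu
    obtain ⟨c, -, rfl⟩ := Subgroup.mem_map.1 hu
    exact (Subgroup.mem_centralizer_iff.1 c.2 s rfl)
  have hPp : IsPGroup p P := Q.2.map _
  have hcardP : Nat.card P = Nat.card (Q : Subgroup C) :=
    Subgroup.card_subtype C Q
  set a : Cfsg.IrrCharacter G → ℂ := fun χ =>
    (Nat.card P : ℂ)⁻¹ * ∑ u : P, conj ((χ : G → ℂ) (s * u)) with ha
  have hint : ∀ χ, IsIntegral ℤ (a χ) := by
    intro χ
    obtain ⟨n, ρ, -, he⟩ := χ.2
    have h1 := isIntegral_avg ρ P s hPc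
    have : a χ = conj ((Nat.card P : ℂ)⁻¹ * ∑ u : P, ρ.character (s * u)) := by
      simp [ha, ← he, map_sum]
    rw [this]
    exact h1.map ((Complex.conjAe.toAlgHom).restrictScalars ℤ)
  have hreg : ∀ r : G, ¬ p ∣ orderOf r → ∀ u : P, IsConj (s * (u : G)) r → u = 1 := by
    intro r hr u hu
    obtain ⟨c, hc⟩ := isConj_iff.1 hu
    have hord : ¬ p ∣ orderOf (s * (u : G)) := by
      rwa [← hc, show c * (s * (u : G)) * c⁻¹ = MulAut.conj c (s * (u : G)) from rfl,
        MulEquiv.orderOf_eq] at hr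
    have h1 := BlockBasic.pPart_mul_of (p := p) (x := (u : G)) (y := s) (hPc u u.2).symm
      (by obtain ⟨k, hk⟩ := IsPGroup.iff_orderOf.1 hPp u
          exact ⟨k, by rw [Subgroup.orderOf_coe]; exact hk⟩) hs
    rw [← (hPc u u.2).eq, (BlockBasic.pPart_eq_one_iff _).2 hord] at h1
    exact Subtype.ext h1.symm
  have hsum : ∀ r : G, ¬ p ∣ orderOf r → ∑ χ, a χ * (χ : G → ℂ) r =
      (Nat.card P : ℂ)⁻¹ * (Nat.card {x : G // x * s * x⁻¹ = r} : ℂ) := by
    intro r hr
    rw [Finset.sum_congr rfl fun χ _ => show a χ * (χ : G → ℂ) r = (Nat.card P : ℂ)⁻¹ *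
        ∑ u : P, conj ((χ : G → ℂ) (s * u)) * (χ : G → ℂ) r by
      rw [ha, mul_assoc, Finset.sum_mul], ← Finset.mul_sum]
    congr 1
    rw [Finset.sum_comm, Finset.sum_eq_single (1 : P)]
    · rw [← CharBasic.second_orthogonality_count r s]
      simp [mul_comm]
    · intro u _ hu
      have h0 : IsEmpty {x : G // x * (s * (u : G)) * x⁻¹ = r} :=
        ⟨fun x => hu (hreg r hr u (isConj_iff.2 ⟨x.1, x.2⟩))⟩
      have h2 := CharBasic.second_orthogonality_count r (s * (u : G))
      rw [Nat.card_of_isEmpty, Nat.cast_zero] at h2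
      rw [← h2]
      exact Finset.sum_congr rfl fun χ _ => mul_comm _ _
    · exact fun h => absurd (Finset.mem_univ _) h
  haveI : IsEmpty {x : G // x * s * x⁻¹ = t} := ⟨fun x => hne (isConj_iff.2 ⟨x.1, x.2⟩)⟩
  have hdiff : ∑ χ, a χ * ((χ : G → ℂ) s - (χ : G → ℂ) t) =
      (((Q : Subgroup C).index : ℕ) : ℂ) := by
    simp only [mul_sub, Finset.sum_sub_distrib, hsum s hs, hsum t ht, Nat.card_of_isEmpty,
      Nat.cast_zero, mul_zero, sub_zero, CharBasic.card_conj_eq_centralizer, ← hC, hcardP]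
    rw [← Subgroup.card_mul_index (Q : Subgroup C), Nat.cast_mul, ← mul_assoc,
      inv_mul_cancel₀ (Nat.cast_ne_zero.2 Nat.card_pos.ne'), one_mul]
  have hmem := BlockBasic.memLocalIdeal_sum hM Finset.univ _ fun χ _ =>
    BlockBasic.memLocalIdeal_mul hM (BlockBasic.memLocalRing_of_isIntegral hM (hint χ)) (h χ)
  rw [hdiff, BlockBasic.memLocalIdeal_natCast_iff hM] at hmem
  exact Q.not_dvd_index hmem


/-- Let G be a finite group, p a prime and M a maximal ideal of the ring of algebraic integers containing p. Let x, y be elements with p-parts a and b (so a⁻¹ * x and b⁻¹ * y are their p-regular parts). Then a⁻¹ * x and b⁻¹ * y are conjugate in G if and only if, for every irreducible character χ, the difference χ x - χ y lies in the local ideal at M. -/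
theorem result {G : Type*} [Group G] [Finite G] (p : ℕ) (M : Ideal Cfsg.AlgInt) (hM : Cfsg.IsPModular p M) (x y a b : G) (ha : Cfsg.IsPPart p x a) (hb : Cfsg.IsPPart p y b) : IsConj (a⁻¹ * x) (b⁻¹ * y) ↔ ∀ χ : Cfsg.IrrCharacter G, Cfsg.MemLocalIdeal M ((χ : G → ℂ) x - (χ : G → ℂ) y) := by

  classical
  cases nonempty_fintype G
  haveI : Fact p.Prime := ⟨hM.1⟩
  obtain ⟨s, rfl, hs1, hs2, hs3⟩ := ha
  obtain ⟨t, rfl, ht1, ht2, ht3⟩ := hb
  rw [inv_mul_cancel_left, inv_mul_cancel_left]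
  have hx := fun χ : Cfsg.IrrCharacter G =>
    H35.char_mul_congr hM (CharBasic.IsIrr.isCharacter χ.2) hs1 hs2 hs3
  have hy := fun χ : Cfsg.IrrCharacter G =>
    H35.char_mul_congr hM (CharBasic.IsIrr.isCharacter χ.2) ht1 ht2 ht3
  constructor
  · intro hc χ
    obtain ⟨c, rfl⟩ := isConj_iff.1 hc
    have := BlockBasic.memLocalIdeal_sub hM (hx χ) (hy χ)
    rw [CharBasic.IsIrr.isClassFunction χ.2 s c] at this
    simpa using this
  · intro h
    refine separates hM hs3 ht3 fun χ => ?_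
    have := BlockBasic.memLocalIdeal_add hM (BlockBasic.memLocalIdeal_sub hM (h χ) (hx χ)) (hy χ)
    simpa using this

end Cfsg.Agent.S0876
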