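import Cfsg.Statements.S3559


set_option autoImplicit false
open Cfsg

namespace Cfsg.Agent.S3559
open MulAction

variable {C : Type*} [CommGroup C] [Finite C]

/-- A set of quotients is invariant if it is an orbital: `x⁻¹ * y ∈ T` is preserved by all `π`. -/
def Inv (Pm : Set (Equiv.Perm C)) (T : Set C) : Prop :=
  ∀ g ∈ Pm, ∀ x y : C, ((g x)⁻¹ * g y ∈ T ↔ x⁻¹ * y ∈ T)

theorem conv_pow [Fintype C] {Pm : Set (Equiv.Perm C)} {R : Type*} [CommRing R] (f : MonoidAlgebra R C)
    (hf : ∀ g ∈ Pm, ∀ x y : C, f.coeff ((g x)⁻¹ * g y) = f.coeff (x⁻¹ * y)) (k : ℕ) :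
    ∀ g ∈ Pm, ∀ x y : C, (f ^ k).coeff ((g x)⁻¹ * g y) = (f ^ k).coeff (x⁻¹ * y) := by
  classical
  induction k with
  | zero =>
    intro g _ x y
    simp only [pow_zero, MonoidAlgebra.one_def, MonoidAlgebra.coeff_single, Finsupp.single_apply]
    exact if_congr (by rw [eq_comm, inv_mul_eq_one, g.injective.eq_iff, eq_comm (a := (1 : C)), inv_mul_eq_one]) rfl rfl
  | succ k ih =>
    intro g hg x y
    have hconv : ∀ u v : C, (f ^ (k + 1)).coeff (u⁻¹ * v) =
        ∑ w : C, (f ^ k).coeff (u⁻¹ * w) * f.coeff (w⁻¹ * v) := by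
      intro u v
      rw [pow_succ, MonoidAlgebra.coeff_mul_antidiag _ _ _
        (Finset.univ.image fun w : C => (u⁻¹ * w, w⁻¹ * v))
        (by
          intro p
          simp only [Finset.mem_image, Finset.mem_univ, true_and]
          constructor
          · rintro ⟨w, rfl⟩; simp [mul_assoc]
          · intro h
            refine ⟨u * p.1, Prod.ext (by simp) ?_⟩
            simp only [mul_inv_rev, mul_assoc, ← h]
            simp)]
      rw [Finset.sum_image fun a _ b _ h => mul_left_cancel (Prod.ext_iff.1 h).1]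
    rw [hconv, hconv, ← Equiv.sum_comp g]
    refine Finset.sum_congr rfl fun w _ => ?_
    rw [ih g hg, hf g hg]

/-- The power map modulo `p`: fibres of invariant sets over a nonidentity element are empty or `0 mod p`. -/
theorem inv_powSet {Pm : Set (Equiv.Perm C)} (p : ℕ) [Fact p.Prime] {T : Set C} (hT : Inv Pm T) :
    Inv Pm {z | ¬ p ∣ {t ∈ T | t ^ p = z}.ncard} := by
  classical
  cases nonempty_fintype C
  let f : MonoidAlgebra (ZMod p) C := ∑ t ∈ T.toFinset, MonoidAlgebra.single t 1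
  have hfc : ∀ z, f.coeff z = if z ∈ T then 1 else 0 := by
    intro z
    simp [f, MonoidAlgebra.coeff_sum, Finsupp.single_apply]
  have hf : ∀ g ∈ Pm, ∀ x y : C, f.coeff ((g x)⁻¹ * g y) = f.coeff (x⁻¹ * y) := by
    intro g hg x y
    rw [hfc, hfc]
    exact if_congr (hT g hg x y) rfl rfl
  haveI : CharP (MonoidAlgebra (ZMod p) C) p := by
    refine charP_of_injective_ringHom (f := MonoidAlgebra.singleOneRingHom (R := ZMod p) (M := C)) ?_ p
    intro a b h
    simpa [Finsupp.single_apply] using congrArg (fun x => x.coeff 1) h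
  have hp : ∀ z, (f ^ p).coeff z = (({t ∈ T | t ^ p = z}.ncard : ℕ) : ZMod p) := by
    intro z
    have : f ^ p = ∑ t ∈ T.toFinset, MonoidAlgebra.single (t ^ p) 1 := by
      simp only [f]
      rw [sum_pow_char]
      simp [MonoidAlgebra.single_pow]
    rw [this, MonoidAlgebra.coeff_sum, Finsupp.finset_sum_apply]
    simp only [MonoidAlgebra.coeff_single, Finsupp.single_apply, Finset.sum_boole]
    congr 1
    rw [← Set.ncard_coe_finset]
    congr 1
    ext t
    simp
  intro g hg x y
  have := conv_pow f hf p g hg x y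
  rw [hp, hp] at this
  simp only [Set.mem_setOf_eq, ← ZMod.natCast_eq_zero_iff]
  rw [this]

theorem inv_closure {Pm : Set (Equiv.Perm C)} {S : Set C} (hPm : ∀ g ∈ Pm, g⁻¹ ∈ Pm) (hS : Inv Pm S) :
    Inv Pm (Subgroup.closure S : Set C) := by
  have h : ∀ g ∈ Pm, ∀ s ∈ Subgroup.closure S, ∀ x : C, (g x)⁻¹ * g (x * s) ∈ Subgroup.closure S := by
    intro g hg s hs
    induction hs using Subgroup.closure_induction with
    | mem s hs => exact fun x => Subgroup.subset_closure ((hS g hg x (x * s)).2 (by simpa using hs))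
    | one => intro x; simp
    | mul s t _ _ ihs iht =>
      intro x
      have := (Subgroup.closure S).mul_mem (ihs x) (iht (x * s))
      simpa [mul_assoc] using this
    | inv s _ ih =>
      intro x
      have := (Subgroup.closure S).inv_mem (ih (x * s⁻¹))
      simpa [mul_comm] using this
  intro g hg x y
  constructor
  · intro hm
    have := h g⁻¹ (hPm g hg) _ hm (g x)
    simpa using this
  · intro hm
    have := h g hg _ hm x
    simpa using this

theorem two_trans_core (Pm : Subgroup (Equiv.Perm C)) (hn : 2 ≤ Nat.card C)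
    (hnp : ¬ IsPrimePow (Nat.card C)) [IsCyclic C] (hL : ∀ c : C, Equiv.mulLeft c ∈ Pm)
    (hprim : ∀ K : Subgroup C, Inv (Pm : Set (Equiv.Perm C)) (K : Set C) → K = ⊥ ∨ K = ⊤)
    (x x' : C) (hx : x ≠ 1) (hx' : x' ≠ 1) : ∃ g ∈ Pm, g 1 = 1 ∧ g x = x' := by
  classical
  cases nonempty_fintype C
  -- the orbital of (1, a)
  let T : C → Set C := fun a => {z | ∃ g ∈ Pm, (g 1)⁻¹ * g a = z}
  have hTinv : ∀ a, Inv (Pm : Set (Equiv.Perm C)) (T a) := by
    have key : ∀ a, ∀ h ∈ Pm, ∀ u v : C, u⁻¹ * v ∈ T a → (h u)⁻¹ * h v ∈ T a := by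
      rintro a h hh u v ⟨g, hg, hgz⟩
      refine ⟨h * Equiv.mulLeft (u * (g 1)⁻¹) * g, Pm.mul_mem (Pm.mul_mem hh (hL _)) hg, ?_⟩
      have e : g a = g 1 * (u⁻¹ * v) := by rw [← hgz, mul_inv_cancel_left]
      simp only [Equiv.Perm.mul_apply, Equiv.coe_mulLeft, inv_mul_cancel_right]
      rw [e, mul_assoc, ← mul_assoc (g 1)⁻¹, inv_mul_cancel, one_mul, mul_inv_cancel_left]
    intro a h hh u v
    refine ⟨fun hm => ?_, key a h hh u v⟩
    have := key a h⁻¹ (Pm.inv_mem hh) _ _ hm
    simpa using this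
  -- fibres of the p-th power map
  have hfib : ∀ (p : ℕ), p.Prime → p ∣ Nat.card C → ∀ a : C, ∀ t ∈ T a, t ^ p ≠ 1 →
      ∀ u : C, u ^ p = t ^ p → u ∈ T a := by
    intro p hp hpd a t ht ht1 u hu
    haveI : Fact p.Prime := ⟨hp⟩
    have hU := inv_closure (fun g hg => Pm.inv_mem hg) (inv_powSet p (hTinv a))
    rcases hprim _ hU with hb | htop
    · have hd : p ∣ {w ∈ T a | w ^ p = t ^ p}.ncard := by
        by_contra hd
        have : t ^ p ∈ Subgroup.closure {z | ¬ p ∣ {w ∈ T a | w ^ p = z}.ncard} :=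
          Subgroup.subset_closure hd
        rw [hb, Subgroup.mem_bot] at this
        exact ht1 this
      have hsub : {w ∈ T a | w ^ p = t ^ p} ⊆ {w | w ^ p = t ^ p} := fun w hw => hw.2
      have hcard : {w : C | w ^ p = t ^ p}.ncard ≤ p := by
        have h1 : ({w : C | w ^ p = 1}).ncard ≤ p := by
          have := IsCyclic.card_pow_eq_one_le (α := C) hp.pos
          refine le_trans (le_of_eq ?_) this
          rw [← Set.ncard_coe_finset]
          congr 1
          ext w
          simp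
        refine le_trans ?_ h1
        refine Set.ncard_le_ncard_of_injOn (fun w => t⁻¹ * w) ?_ ?_
        · intro w hw
          simp only [Set.mem_setOf_eq] at hw ⊢
          rw [mul_pow, inv_pow, hw, inv_mul_cancel]
        · exact fun w _ w' _ h => mul_left_cancel h
      have hpos : 0 < {w ∈ T a | w ^ p = t ^ p}.ncard := (Set.ncard_pos (Set.toFinite _)).2 ⟨t, ht, rfl⟩
      have heq : {w ∈ T a | w ^ p = t ^ p} = {w | w ^ p = t ^ p} :=
        Set.eq_of_subset_of_ncard_le hsub (hcard.trans (Nat.le_of_dvd hpos hd))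
      have : u ∈ {w ∈ T a | w ^ p = t ^ p} := by rw [heq]; exact hu
      exact this.1
    · exfalso
      have hle : Subgroup.closure {z | ¬ p ∣ {w ∈ T a | w ^ p = z}.ncard} ≤
          (powMonoidHom p : C →* C).range := by
        rw [Subgroup.closure_le]
        intro z hz
        by_contra hz'
        refine hz ?_
        have : {w ∈ T a | w ^ p = z} = ∅ := by
          ext w
          simp only [Set.mem_setOf_eq, Set.mem_empty_iff_false, iff_false, not_and]
          exact fun _ h => hz' ⟨w, h⟩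
        simp [this]
      rw [htop, top_le_iff, MonoidHom.range_eq_top] at hle
      have hinj := Finite.injective_iff_surjective.2 hle
      obtain ⟨e, he⟩ := exists_prime_orderOf_dvd_card' (G := C) p hpd
      have he1 : e = 1 := hinj (by simp [powMonoidHom_apply, ← he, pow_orderOf_eq_one])
      rw [he1, orderOf_one] at he
      exact hp.one_lt.ne he
  -- every orbital contains an element of every prime order
  have hone : ∀ a : C, a ≠ 1 → (1 : C) ∉ T a := by
    rintro a ha ⟨g, -, hg⟩
    rw [inv_mul_eq_one] at hg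
    exact ha (g.injective hg).symm
  have hmem : ∀ a : C, a ∈ T a := fun a => ⟨1, Pm.one_mem, by simp⟩
  have hord : ∀ (p : ℕ), p.Prime → p ∣ Nat.card C → ∀ a : C, a ≠ 1 → ∃ t ∈ T a, orderOf t = p := by
    intro p hp hpd a ha
    by_contra hc
    simp only [not_exists, not_and] at hc
    haveI : Fact p.Prime := ⟨hp⟩
    have hc' : ∀ t ∈ T a, t ^ p ≠ 1 := fun t ht h =>
      hc t ht (orderOf_eq_prime h fun h1 => hone a ha (h1 ▸ ht))
    let A : Subgroup C :=
      { carrier := {h | ∀ t, t * h ∈ T a ↔ t ∈ T a}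
        one_mem' := fun t => by rw [mul_one]
        mul_mem' := fun {u v} hu hv t => by rw [← mul_assoc, hv, hu]
        inv_mem' := fun {u} hu t => by rw [← hu, inv_mul_cancel_right] }
    have hA : Inv (Pm : Set (Equiv.Perm C)) (A : Set C) := by
      have key : ∀ g ∈ Pm, ∀ u v : C, u⁻¹ * v ∈ A → (g u)⁻¹ * g v ∈ A := by
        intro g hg u v huv t
        obtain ⟨w, hw⟩ : ∃ w, g w = t⁻¹ * g u := g.surjective _
        have h1 : t * ((g u)⁻¹ * g v) = (g w)⁻¹ * g v := by rw [hw, mul_inv_rev, inv_inv, mul_comm _ t, mul_assoc]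
        have h2 : t = (g w)⁻¹ * g u := by rw [hw, mul_inv_rev, inv_inv, mul_right_comm, inv_mul_cancel, one_mul]
        rw [h1, h2, hTinv a g hg w v, hTinv a g hg w u, ← huv (w⁻¹ * u), mul_assoc, mul_inv_cancel_left]
      intro g hg u v
      refine ⟨fun hm => ?_, key g hg u v⟩
      have := key g⁻¹ (Pm.inv_mem hg) _ _ hm
      simpa using this
    obtain ⟨e, he⟩ := exists_prime_orderOf_dvd_card' (G := C) p hpd
    have hep : e ^ p = 1 := by rw [← he, pow_orderOf_eq_one]
    have heA : e ∈ A := by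
      intro t
      constructor
      · intro h
        exact hfib p hp hpd a _ h (hc' _ h) t (by rw [mul_pow, hep, mul_one])
      · intro h
        exact hfib p hp hpd a _ h (hc' _ h) _ (by rw [mul_pow, hep, mul_one])
    rcases hprim A hA with h | h
    · rw [h, Subgroup.mem_bot] at heA
      rw [heA, orderOf_one] at he
      exact hp.one_lt.ne he
    · apply hone a ha
      have ha' : a⁻¹ ∈ A := h ▸ Subgroup.mem_top _
      simpa using (ha' a).2 (hmem a)
  obtain ⟨p, hp, hpd⟩ := Nat.exists_prime_and_dvd (show Nat.card C ≠ 1 by omega)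
  obtain ⟨q, hq, hqd, hqp⟩ : ∃ q, q.Prime ∧ q ∣ Nat.card C ∧ q ≠ p := by
    by_contra hc
    simp only [not_exists, not_and, not_not] at hc
    have hpow := Nat.eq_prime_pow_of_unique_prime_dvd (p := p) (show Nat.card C ≠ 0 by omega)
      fun {d} hd hdd => hc d hd hdd
    exact hnp ((isPrimePow_nat_iff _).2 ⟨p, _, hp, Nat.pos_of_ne_zero fun h0 => by
      rw [h0, pow_zero] at hpow; omega, hpow.symm⟩)
  haveI : Fact p.Prime := ⟨hp⟩
  haveI : Fact q.Prime := ⟨hq⟩
  obtain ⟨h, hh⟩ := exists_prime_orderOf_dvd_card' (G := C) p hpd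
  have hall : ∀ a : C, a ≠ 1 → h ∈ T a := by
    intro a ha
    obtain ⟨u, hu, huq⟩ := hord q hq hqd a ha
    have hup : u ^ p ≠ 1 := by
      intro hc
      have hd := orderOf_dvd_iff_pow_eq_one.2 hc
      rw [huq] at hd
      exact hqp ((Nat.prime_dvd_prime_iff_eq hq hp).1 hd)
    have h1 : u * h ∈ T a := hfib p hp hpd a u hu hup _ (by
      rw [mul_pow, show h ^ p = 1 by rw [← hh, pow_orderOf_eq_one], mul_one])
    have huq' : u ^ q = 1 := by rw [← huq, pow_orderOf_eq_one]
    refine hfib q hq hqd a _ h1 ?_ h (by rw [mul_pow, huq', one_mul])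
    rw [mul_pow, huq', one_mul]
    intro hc
    have hd := orderOf_dvd_iff_pow_eq_one.2 hc
    rw [hh] at hd
    exact hqp ((Nat.prime_dvd_prime_iff_eq hp hq).1 hd).symm
  obtain ⟨g, hg, hgx⟩ := hall x hx
  obtain ⟨k, hk, hkx⟩ := hall x' hx'
  refine ⟨(Equiv.mulLeft (k 1)⁻¹ * k)⁻¹ * (Equiv.mulLeft (g 1)⁻¹ * g),
    Pm.mul_mem (Pm.inv_mem (Pm.mul_mem (hL _) hk)) (Pm.mul_mem (hL _) hg), ?_, ?_⟩
  · rw [Equiv.Perm.mul_apply, Equiv.Perm.inv_eq_iff_eq]
    simp
  · rw [Equiv.Perm.mul_apply, Equiv.Perm.inv_eq_iff_eq]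
    simp [hgx, hkx]


/-- Let G act faithfully and transitively on a finite set whose number of points n ≥ 2 is not a prime power, and suppose G has a cyclic subgroup acting regularly (transitively with trivial point stabilizers). Then G is imprimitive or doubly transitive. -/
theorem result {G Ω : Type*} [Group G] [Finite G] [MulAction G Ω] [FaithfulSMul G Ω] [Finite Ω]
    (htrans : MulAction.IsPretransitive G Ω) (hn : 2 ≤ Nat.card Ω) (hnp : ¬ IsPrimePow (Nat.card Ω))
    (C : Subgroup G) (hcyc : IsCyclic ↥C) (hC : MulAction.IsPretransitive ↥C Ω ∧ ∀ a : Ω, MulAction.stabilizer ↥C a = ⊥) :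
    ¬ MulAction.IsPreprimitive G Ω ∨ MulAction.IsMultiplyPretransitive G Ω 2 := by
  classical
  by_cases hprim : MulAction.IsPreprimitive G Ω
  swap
  · exact Or.inl hprim
  right
  haveI := hprim
  haveI := hC.1
  letI : CommGroup C := IsCyclic.commGroup
  haveI : IsCyclic C := hcyc
  have hne : Nonempty Ω := (Nat.card_pos_iff.1 (by omega : 0 < Nat.card Ω)).1
  obtain ⟨a⟩ := hne
  have hinj : Function.Injective fun c : C => c • a := fun c d h => by
    have h1 : d⁻¹ * c ∈ MulAction.stabilizer C a := by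
      rw [MulAction.mem_stabilizer_iff, mul_smul, show c • a = d • a from h, inv_smul_smul]
    rw [hC.2 a, Subgroup.mem_bot, inv_mul_eq_one] at h1
    exact h1.symm
  let e : C ≃ Ω := Equiv.ofBijective (fun c : C => c • a) ⟨hinj, fun b => MulAction.exists_smul_eq C a b⟩
  have he : ∀ c, e c = c • a := fun c => rfl
  let Pm : Subgroup (Equiv.Perm C) := ((e.symm.permCongrHom : Equiv.Perm Ω ≃* Equiv.Perm C).toMonoidHom.comp
    (MulAction.toPermHom G Ω)).range
  have happ : ∀ (g : G) (c : C), ((e.symm.permCongrHom : Equiv.Perm Ω ≃* Equiv.Perm C).toMonoidHom.comp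
      (MulAction.toPermHom G Ω)) g c = e.symm (g • e c) := fun g c => by
    simp [Equiv.permCongrHom]
  have hcardC : Nat.card C = Nat.card Ω := Nat.card_congr e
  have hL : ∀ c : C, Equiv.mulLeft c ∈ Pm := fun c => ⟨(c : G), by
    ext d
    rw [happ, Equiv.coe_mulLeft]
    apply congrArg Subtype.val
    rw [Equiv.symm_apply_eq, he, he, mul_smul]
    rfl⟩
  have hK : ∀ K : Subgroup C, Inv (Pm : Set (Equiv.Perm C)) (K : Set C) → K = ⊥ ∨ K = ⊤ := by
    intro K hK
    have hB : MulAction.IsBlock G (e '' (K : Set C)) := by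
      rw [MulAction.isBlock_iff_smul_eq_of_mem]
      rintro g _ ⟨k, hk, rfl⟩ ⟨k', hk', hk''⟩
      have hgk : ∀ v : C, e.symm (g • e v) ∈ K ↔ v ∈ K := by
        intro v
        have h0 := hK _ ⟨g, rfl⟩ k v
        rw [happ, happ, show e.symm (g • e k) = k' by rw [← hk'', Equiv.symm_apply_apply]] at h0
        constructor
        · intro h
          have := h0.1 (K.mul_mem (K.inv_mem hk') h)
          simpa using K.mul_mem hk this
        · intro h
          have := h0.2 (K.mul_mem (K.inv_mem hk) h)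
          simpa using K.mul_mem hk' this
      ext w
      rw [Set.mem_smul_set_iff_inv_smul_mem]
      constructor
      · rintro ⟨v, hv, hvw⟩
        refine ⟨e.symm w, ?_, by simp⟩
        have := (hgk v).2 hv
        rwa [hvw, smul_inv_smul] at this
      · rintro ⟨v, hv, rfl⟩
        refine ⟨e.symm (g⁻¹ • e v), ?_, by simp⟩
        exact (hgk _).1 (by simpa using hv)
    rcases hprim.isTrivialBlock_of_isBlock hB with h | h
    · left
      rw [Subgroup.eq_bot_iff_forall]
      intro k hk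
      exact e.injective (h ⟨k, hk, rfl⟩ ⟨1, K.one_mem, rfl⟩)
    · right
      rw [eq_top_iff]
      intro c _
      obtain ⟨v, hv, hvc⟩ : e c ∈ e '' (K : Set C) := h ▸ Set.mem_univ _
      exact e.injective hvc ▸ hv
  rw [MulAction.is_two_pretransitive_iff]
  intro u v u' v' huv huv'
  obtain ⟨c, hc⟩ := MulAction.exists_smul_eq C a u
  obtain ⟨c', hc'⟩ := MulAction.exists_smul_eq C a u'
  obtain ⟨_, ⟨g, rfl⟩, h1, h2⟩ := two_trans_core Pm (hcardC ▸ hn) (hcardC ▸ hnp) hL hK
    (e.symm ((c⁻¹ : C) • v)) (e.symm ((c'⁻¹ : C) • v'))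
    (fun h => huv (by
      rw [Equiv.symm_apply_eq, he, one_smul, inv_smul_eq_iff, hc] at h
      exact h.symm))
    (fun h => huv' (by
      rw [Equiv.symm_apply_eq, he, one_smul, inv_smul_eq_iff, hc'] at h
      exact h.symm))
  rw [happ, Equiv.symm_apply_eq, he, one_smul] at h1
  rw [happ, Equiv.apply_symm_apply, e.symm.injective.eq_iff] at h2
  refine ⟨(c' : G) * g * (c : G)⁻¹, ?_, ?_⟩
  · rw [mul_smul, mul_smul, ← hc, Subgroup.smul_def, inv_smul_smul, h1]
    exact hc'
  · rw [mul_smul, mul_smul]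
    have : (c : G)⁻¹ • v = ((c⁻¹ : C) • v) := rfl
    rw [this, h2, Subgroup.smul_def, Subgroup.coe_inv, smul_inv_smul]

end Cfsg.Agent.S3559
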