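import Cfsg.Statements.S3972
import Cfsg.Agent.S3559
-- import your own Cfsg.Agent.* helpers here

set_option autoImplicit false
set_option linter.style.haveILetI false
open Cfsg

namespace Cfsg.Agent.S3972

open S3559 (Inv inv_powSet inv_closure)

variable {C : Type*} [CommGroup C] [Finite C]

omit [Finite C] in
/-- A set closed under multiplication by an element of order `p` has size divisible by `p`. -/
theorem dvd_ncard_of_stable {p : ℕ} {e : C} (he : orderOf e = p) (S : Set C)
    (hS : ∀ h : C, h ∈ Subgroup.zpowers e → ∀ w ∈ S, w * h ∈ S) : p ∣ S.ncard := by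
  have hpre : S = QuotientGroup.mk ⁻¹' ((QuotientGroup.mk : C → C ⧸ Subgroup.zpowers e) '' S) := by
    ext w
    refine ⟨fun h => ⟨w, h, rfl⟩, ?_⟩
    rintro ⟨v, hv, hvw⟩
    have := hS _ (QuotientGroup.eq.1 hvw) v hv
    rwa [mul_inv_cancel_left] at this
  have h1 := Nat.card_congr (QuotientGroup.preimageMkEquivSubgroupProdSet (Subgroup.zpowers e)
    ((QuotientGroup.mk : C → C ⧸ Subgroup.zpowers e) '' S))
  rw [← hpre, Nat.card_prod, Nat.card_zpowers, he] at h1
  exact ⟨_, by rw [← Nat.card_coe_set_eq S, h1]⟩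

theorem mem_zpowers_of_pow_eq_one {p : ℕ} (hp : p.Prime) [IsCyclic C] {z d : C} (hz : orderOf z = p)
    (hd : d ^ p = 1) : d ∈ Subgroup.zpowers z := by
  classical
  cases nonempty_fintype C
  have hsub : (Subgroup.zpowers z : Set C) ⊆ {w | w ^ p = 1} := by
    rintro w ⟨i, rfl⟩
    rw [Set.mem_ofPred_eq, ← hz, ← zpow_natCast, ← zpow_mul, mul_comm, zpow_mul, zpow_natCast,
      pow_orderOf_eq_one, one_zpow]
  have hle : ({w : C | w ^ p = 1}).ncard ≤ Nat.card (Subgroup.zpowers z) := by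
    rw [Nat.card_zpowers, hz]
    refine le_trans (le_of_eq ?_) (IsCyclic.card_pow_eq_one_le (α := C) hp.pos)
    rw [← Set.ncard_coe_finset]
    congr 1
    ext w
    simp
  have heq := Set.eq_of_subset_of_ncard_le hsub
    (by rwa [← Nat.card_coe_set_eq (Subgroup.zpowers z : Set C)])
  exact (Set.ext_iff.1 heq d).2 hd

theorem two_trans_core (p m : ℕ) (hp : p.Prime) (hm : 2 ≤ m) (hn : Nat.card C = p ^ m) [IsCyclic C]
    (Pm : Subgroup (Equiv.Perm C)) (hL : ∀ c : C, Equiv.mulLeft c ∈ Pm)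
    (hprim : ∀ K : Subgroup C, Inv (Pm : Set (Equiv.Perm C)) (K : Set C) → K = ⊥ ∨ K = ⊤)
    (x x' : C) (hx : x ≠ 1) (hx' : x' ≠ 1) : ∃ g ∈ Pm, g 1 = 1 ∧ g x = x' := by
  classical
  haveI : Fact p.Prime := ⟨hp⟩
  cases nonempty_fintype C
  let T : C → Set C := fun a => {z | ∃ g ∈ Pm, (g 1)⁻¹ * g a = z}
  have hTinv : ∀ a, Inv (Pm : Set (Equiv.Perm C)) (T a) := by
    have key : ∀ a, ∀ h ∈ Pm, ∀ u v : C, u⁻¹ * v ∈ T a → (h u)⁻¹ * h v ∈ T a := by
      rintro a h hh u v ⟨g, hg, hgz⟩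
      refine ⟨h * Equiv.mulLeft (u * (g 1)⁻¹) * g, Pm.mul_mem (Pm.mul_mem hh (hL _)) hg, ?_⟩
      have e : g a = g 1 * (u⁻¹ * v) := by rw [← hgz, mul_inv_cancel_left]
      simp only [Equiv.Perm.mul_apply, Equiv.coe_mulLeft, inv_mul_cancel_right]
      rw [e, mul_assoc, ← mul_assoc (g 1)⁻¹, inv_mul_cancel, one_mul, mul_inv_cancel_left]
    intro a h hh u v
    refine ⟨fun hm => ?_, key a h hh u v⟩
    have := key a h⁻¹ (Pm.inv_mem hh) _ _ hm
    simpa using this
  have hmem : ∀ a : C, a ∈ T a := fun a => ⟨1, Pm.one_mem, by simp⟩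
  have hone : ∀ a : C, a ≠ 1 → (1 : C) ∉ T a := by
    rintro a ha ⟨g, -, hg⟩
    rw [inv_mul_eq_one] at hg
    exact ha (g.injective hg).symm
  obtain ⟨e, he⟩ := exists_prime_orderOf_dvd_card' (G := C) p
    (hn ▸ dvd_pow_self p (by omega : m ≠ 0))
  have hep : e ^ p = 1 := by rw [← he, pow_orderOf_eq_one]
  have he1 : e ≠ 1 := fun h => hp.one_lt.ne (by rw [← he, h, orderOf_one])
  have hker : ({w : C | w ^ p = 1}).ncard ≤ p := by
    refine le_trans (le_of_eq ?_) (IsCyclic.card_pow_eq_one_le (α := C) hp.pos)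
    rw [← Set.ncard_coe_finset]
    congr 1
    ext w
    simp
  have hE : ∀ h : C, h ^ p = 1 ↔ h ∈ Subgroup.zpowers e := by
    have hsub : (Subgroup.zpowers e : Set C) ⊆ {w | w ^ p = 1} := by
      rintro w ⟨i, rfl⟩
      simp only [Set.mem_ofPred_eq]
      rw [← zpow_natCast, ← zpow_mul, mul_comm, zpow_mul, zpow_natCast, hep, one_zpow]
    have heq := Set.eq_of_subset_of_ncard_le hsub (by
      rw [← Nat.card_coe_set_eq (Subgroup.zpowers e : Set C)]
      exact hker.trans (le_of_eq (by rw [← he]; exact (Nat.card_zpowers e).symm)))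
    intro h
    exact ⟨fun hh => (Set.ext_iff.1 heq h).2 hh, fun hh => hsub hh⟩
  -- fibres of the p-th power map
  have hfib : ∀ a : C, ∀ t ∈ T a, t ^ p ≠ 1 → ∀ u : C, u ^ p = t ^ p → u ∈ T a := by
    intro a t ht ht1 u hu
    have hU := inv_closure (fun g hg => Pm.inv_mem hg) (inv_powSet p (hTinv a))
    rcases hprim _ hU with hb | htop
    · have hd : p ∣ {w ∈ T a | w ^ p = t ^ p}.ncard := by
        by_contra hd
        have : t ^ p ∈ Subgroup.closure {z | ¬ p ∣ {w ∈ T a | w ^ p = z}.ncard} :=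
          Subgroup.subset_closure hd
        rw [hb, Subgroup.mem_bot] at this
        exact ht1 this
      have hsub : {w ∈ T a | w ^ p = t ^ p} ⊆ {w | w ^ p = t ^ p} := fun w hw => hw.2
      have hcard : {w : C | w ^ p = t ^ p}.ncard ≤ p := by
        refine le_trans ?_ hker
        refine Set.ncard_le_ncard_of_injOn (fun w => t⁻¹ * w) ?_ ?_
        · intro w hw
          simp only [Set.mem_ofPred_eq] at hw ⊢
          rw [mul_pow, inv_pow, hw, inv_mul_cancel]
        · exact fun w _ w' _ h => mul_left_cancel h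
      have hpos : 0 < {w ∈ T a | w ^ p = t ^ p}.ncard :=
        (Set.ncard_pos (Set.toFinite _)).2 ⟨t, ht, rfl⟩
      have heq : {w ∈ T a | w ^ p = t ^ p} = {w | w ^ p = t ^ p} :=
        Set.eq_of_subset_of_ncard_le hsub (hcard.trans (Nat.le_of_dvd hpos hd))
      have : u ∈ {w ∈ T a | w ^ p = t ^ p} := by rw [heq]; exact hu
      exact this.1
    · exfalso
      have hle : Subgroup.closure {z | ¬ p ∣ {w ∈ T a | w ^ p = z}.ncard} ≤
          (powMonoidHom p : C →* C).range := by
        rw [Subgroup.closure_le]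
        intro z hz
        by_contra hz'
        refine hz ?_
        have : {w ∈ T a | w ^ p = z} = ∅ := by
          ext w
          simp only [Set.mem_ofPred_eq, Set.mem_empty_iff_false, iff_false, not_and]
          exact fun _ h => hz' ⟨w, h⟩
        simp [this]
      rw [htop, top_le_iff, MonoidHom.range_eq_top] at hle
      exact he1 (Finite.injective_iff_surjective.2 hle (by simp [powMonoidHom_apply, hep]))
  -- the part outside the subgroup of order `p` is stable
  have hY : ∀ a w h : C, h ^ p = 1 → w ∈ T a → w ^ p ≠ 1 → w * h ∈ T a := fun a w h hh hw hw1 =>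
    hfib a w hw hw1 _ (by rw [mul_pow, hh, mul_one])
  -- every orbital meets the subgroup of order `p`
  have hord : ∀ a : C, a ≠ 1 → ∃ t ∈ T a, t ^ p = 1 := by
    intro a ha
    by_contra hc
    simp only [not_exists, not_and] at hc
    let A : Subgroup C :=
      { carrier := {h | ∀ t, t * h ∈ T a ↔ t ∈ T a}
        one_mem' := fun t => by rw [mul_one]
        mul_mem' := fun {u v} hu hv t => by rw [← mul_assoc, hv, hu]
        inv_mem' := fun {u} hu t => by rw [← hu, inv_mul_cancel_right] }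
    have hA : Inv (Pm : Set (Equiv.Perm C)) (A : Set C) := by
      have key : ∀ g ∈ Pm, ∀ u v : C, u⁻¹ * v ∈ A → (g u)⁻¹ * g v ∈ A := by
        intro g hg u v huv t
        obtain ⟨w, hw⟩ : ∃ w, g w = t⁻¹ * g u := g.surjective _
        have h1 : t * ((g u)⁻¹ * g v) = (g w)⁻¹ * g v := by
          rw [hw, mul_inv_rev, inv_inv, mul_comm _ t, mul_assoc]
        have h2 : t = (g w)⁻¹ * g u := by
          rw [hw, mul_inv_rev, inv_inv, mul_right_comm, inv_mul_cancel, one_mul]
        rw [h1, h2, hTinv a g hg w v, hTinv a g hg w u, ← huv (w⁻¹ * u), mul_assoc, mul_inv_cancel_left]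
      intro g hg u v
      refine ⟨fun hm => ?_, key g hg u v⟩
      have := key g⁻¹ (Pm.inv_mem hg) _ _ hm
      simpa using this
    have heA : e ∈ A := by
      intro t
      constructor
      · intro h
        exact hfib a _ h (hc _ h) t (by rw [mul_pow, hep, mul_one])
      · exact fun h => hY a t e hep h (hc _ h)
    rcases hprim A hA with h | h
    · rw [h, Subgroup.mem_bot] at heA
      exact he1 heA
    · apply hone a ha
      have ha' : a⁻¹ ∈ A := h ▸ Subgroup.mem_top _
      simpa using (ha' a).2 (hmem a)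
  -- orbitals form a partition
  have heqT : ∀ a z : C, z ∈ T a → T z = T a := by
    rintro a z ⟨g, hg, rfl⟩
    refine Set.Subset.antisymm ?_ ?_
    · rintro _ ⟨h, hh, rfl⟩
      exact (hTinv a h hh 1 _).2 (by rw [inv_one, one_mul]; exact ⟨g, hg, rfl⟩)
    · rintro _ ⟨h, hh, rfl⟩
      refine (hTinv _ h hh 1 a).2 ?_
      rw [← hTinv _ g hg 1 a]
      exact hmem _
  -- there is only one orbital
  have hall : ∀ a, a ≠ 1 → a ^ p = 1 → T a = T e := by
    intro a₀ ha₀ ha₀p
    by_contra hne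
    have hdisj : ∀ z, z ∈ T a₀ → z ∈ T e → False := fun z h1 h2 =>
      hne ((heqT _ z h1).symm.trans (heqT _ z h2))
    obtain ⟨a, ha, hap, hhalf⟩ : ∃ a, a ≠ 1 ∧ a ^ p = 1 ∧
        2 * {w ∈ T a | w ^ p = 1}.ncard < p := by
      have hsum : {w ∈ T a₀ | w ^ p = 1}.ncard + {w ∈ T e | w ^ p = 1}.ncard < p := by
        rw [← Set.ncard_union_eq (Set.disjoint_left.2 fun z h1 h2 => hdisj z h1.1 h2.1)]
        refine lt_of_lt_of_le (Set.ncard_lt_ncard ?_ (Set.toFinite _)) hker
        refine Set.ssubset_iff_subset_ne.2 ⟨fun z hz => hz.elim (·.2) (·.2), fun h => ?_⟩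
        have h1 : (1 : C) ∈ {w ∈ T a₀ | w ^ p = 1} ∪ {w ∈ T e | w ^ p = 1} := by
          rw [h]; exact one_pow p
        exact h1.elim (fun h => hone a₀ ha₀ h.1) (fun h => hone e he1 h.1)
      by_cases hc : 2 * {w ∈ T a₀ | w ^ p = 1}.ncard < p
      · exact ⟨a₀, ha₀, ha₀p, hc⟩
      · exact ⟨e, he1, hep, by omega⟩
    let X : Set C := {w ∈ T a | w ^ p = 1}
    let cnt : C → ℕ := fun z => {w ∈ T a | w⁻¹ * z ∈ T a}.ncard
    have hcnt : ∀ g ∈ Pm, ∀ u v : C, cnt ((g u)⁻¹ * g v) = cnt (u⁻¹ * v) := by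
      intro g hg u v
      refine (Set.ncard_congr (fun w _ => (g u)⁻¹ * g (u * w)) ?_ ?_ ?_).symm
      · rintro w ⟨h1, h2⟩
        refine ⟨(hTinv a g hg u (u * w)).2 (by simpa using h1), ?_⟩
        rw [show ((g u)⁻¹ * g (u * w))⁻¹ * ((g u)⁻¹ * g v) = (g (u * w))⁻¹ * g v by group,
          hTinv a g hg (u * w) v]
        rwa [mul_inv_rev, mul_assoc]
      · intro w w' _ _ h
        exact mul_left_cancel (g.injective (mul_left_cancel h))
      · rintro z ⟨h1, h2⟩
        obtain ⟨y, hy⟩ := g.surjective (g u * z)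
        have hz : (g u)⁻¹ * g (u * (u⁻¹ * y)) = z := by
          rw [mul_inv_cancel_left, hy, inv_mul_cancel_left]
        refine ⟨u⁻¹ * y, ⟨?_, ?_⟩, hz⟩
        · rw [← hTinv a g hg u y, hy, inv_mul_cancel_left]
          exact h1
        · rw [show (u⁻¹ * y)⁻¹ * (u⁻¹ * v) = y⁻¹ * v by group, ← hTinv a g hg y v, hy,
            show (g u * z)⁻¹ * g v = z⁻¹ * ((g u)⁻¹ * g v) by group]
          exact h2
    have hconst : ∀ z ∈ T a, cnt z = cnt a := by
      rintro z ⟨g, hg, rfl⟩
      rw [hcnt g hg 1 a, inv_one, one_mul]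
    obtain ⟨y, hy, hy1⟩ : ∃ y ∈ T a, y ^ p ≠ 1 := by
      by_contra hc
      push Not at hc
      rcases hprim _ (inv_closure (fun g hg => Pm.inv_mem hg) (hTinv a)) with h | h
      · exact ha (Subgroup.mem_bot.1 (h ▸ Subgroup.subset_closure (hmem a)))
      · have hle : (⊤ : Subgroup C) ≤ Subgroup.zpowers e := by
          rw [← h, Subgroup.closure_le]
          exact fun z hz => (hE z).1 (hc z hz)
        have := Subgroup.card_le_of_le hle
        rw [Subgroup.card_top, hn, Nat.card_zpowers, he] at this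
        exact absurd this (not_le.2 (by
          calc p = p ^ 1 := (pow_one p).symm
            _ < p ^ m := Nat.pow_lt_pow_right hp.one_lt (by omega)))
    -- count at `a`
    have hca : ∃ N M, N ≤ X.ncard ∧ cnt a = N + p * M := by
      have hsplit : {w ∈ T a | w⁻¹ * a ∈ T a} =
          {w ∈ X | w⁻¹ * a ∈ T a} ∪ {w ∈ T a | w⁻¹ * a ∈ T a ∧ w ^ p ≠ 1} := by
        ext w
        simp only [X, Set.mem_ofPred_eq, Set.mem_union]
        tauto
      obtain ⟨M, hM⟩ := dvd_ncard_of_stable he {w ∈ T a | w⁻¹ * a ∈ T a ∧ w ^ p ≠ 1} (by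
        rintro h hh w ⟨h1, h2, h3⟩
        have hhp := (hE h).2 hh
        have h4 : (w⁻¹ * a) ^ p ≠ 1 := by rwa [mul_pow, hap, mul_one, inv_pow, ne_eq, inv_eq_one]
        refine ⟨hY a w h hhp h1 h3, ?_, by rwa [mul_pow, hhp, mul_one]⟩
        rw [show (w * h)⁻¹ * a = w⁻¹ * a * h⁻¹ by rw [mul_inv_rev, mul_assoc, mul_comm h⁻¹]]
        exact hY a _ _ (by rw [inv_pow, hhp, inv_one]) h2 h4)
      refine ⟨{w ∈ X | w⁻¹ * a ∈ T a}.ncard, M, Set.ncard_le_ncard (Set.sep_subset X _) (Set.toFinite _), ?_⟩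
      show Set.ncard _ = _
      rw [hsplit, Set.ncard_union_eq (Set.disjoint_left.2 fun z h1 h2 => h2.2.2 h1.1.2), hM]
    -- count at `y`
    have hcy : ∃ M, cnt y = 2 * X.ncard + p * M := by
      have hsplit : {w ∈ T a | w⁻¹ * y ∈ T a} =
          X ∪ ((fun w => y * w⁻¹) '' X) ∪
            {w ∈ T a | w⁻¹ * y ∈ T a ∧ w ^ p ≠ 1 ∧ (w⁻¹ * y) ^ p ≠ 1} := by
        ext w
        simp only [X, Set.mem_ofPred_eq, Set.mem_union, Set.mem_image]
        constructor
        · rintro ⟨h1, h2⟩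
          by_cases h3 : w ^ p = 1
          · exact Or.inl (Or.inl ⟨h1, h3⟩)
          by_cases h4 : (w⁻¹ * y) ^ p = 1
          · exact Or.inl (Or.inr ⟨w⁻¹ * y, ⟨h2, h4⟩, by rw [mul_inv_rev, inv_inv, mul_inv_cancel_left]⟩)
          · exact Or.inr ⟨h1, h2, h3, h4⟩
        · rintro ((⟨h1, h3⟩ | ⟨x, ⟨h1, h3⟩, rfl⟩) | ⟨h1, h2, -, -⟩)
          · refine ⟨h1, ?_⟩
            rw [mul_comm]
            exact hY a y _ (by rw [inv_pow, h3, inv_one]) hy hy1
          · refine ⟨hY a y _ (by rw [inv_pow, h3, inv_one]) hy hy1, ?_⟩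
            rw [mul_inv_rev, inv_inv, mul_assoc, inv_mul_cancel, mul_one]
            exact h1
          · exact ⟨h1, h2⟩
      obtain ⟨M, hM⟩ := dvd_ncard_of_stable he
          {w ∈ T a | w⁻¹ * y ∈ T a ∧ w ^ p ≠ 1 ∧ (w⁻¹ * y) ^ p ≠ 1} (by
        rintro h hh w ⟨h1, h2, h3, h4⟩
        have hhp := (hE h).2 hh
        have heq : (w * h)⁻¹ * y = w⁻¹ * y * h⁻¹ := by rw [mul_inv_rev, mul_assoc, mul_comm h⁻¹]
        refine ⟨hY a w h hhp h1 h3, heq ▸ hY a _ _ (by rw [inv_pow, hhp, inv_one]) h2 h4,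
          by rwa [mul_pow, hhp, mul_one], ?_⟩
        rw [heq, mul_pow _ h⁻¹, inv_pow h, hhp, inv_one, mul_one]
        exact h4)
      refine ⟨M, ?_⟩
      show Set.ncard _ = _
      rw [hsplit, Set.ncard_union_eq, Set.ncard_union_eq, Set.ncard_image_of_injective _
        (fun u v h => inv_injective (mul_left_cancel h)), hM]
      · omega
      · rw [Set.disjoint_left]
        rintro z hz ⟨x, hx, rfl⟩
        have h5 : (y * x⁻¹) ^ p = 1 := hz.2
        rw [mul_pow, inv_pow, hx.2, inv_one, mul_one] at h5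
        exact hy1 h5
      · rw [Set.disjoint_left]
        rintro z (hz | ⟨x, hx, rfl⟩) h2
        · exact h2.2.2.1 hz.2
        · refine h2.2.2.2 ?_
          rw [mul_inv_rev, inv_inv, mul_assoc, inv_mul_cancel, mul_one]
          exact hx.2
    replace hhalf : 2 * X.ncard < p := hhalf
    obtain ⟨N, M, hN, h1⟩ := hca
    obtain ⟨M', h2⟩ := hcy
    rw [hconst y hy] at h2
    have hXp : 0 < X.ncard := (Set.ncard_pos (Set.toFinite _)).2 ⟨a, hmem a, hap⟩
    have h3 : (N + p * M) % p = (2 * X.ncard + p * M') % p := by rw [← h1, ← h2]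
    rw [Nat.add_mul_mod_self_left, Nat.add_mul_mod_self_left, Nat.mod_eq_of_lt (lt_of_le_of_lt hN (by
      omega)), Nat.mod_eq_of_lt hhalf] at h3
    omega
  have hsingle : ∀ a, a ≠ 1 → T a = T e := by
    intro a ha
    obtain ⟨t, ht, htp⟩ := hord a ha
    rw [← heqT a t ht]
    exact hall t (fun h => hone a ha (h ▸ ht)) htp
  have hxx : x' ∈ T x := by rw [hsingle x hx, ← hsingle x' hx']; exact hmem x'
  obtain ⟨g, hg, hgx⟩ := hxx
  refine ⟨Equiv.mulLeft (g 1)⁻¹ * g, Pm.mul_mem (hL _) hg, ?_, ?_⟩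
  · simp
  · simpa using hgx

/-- Let `p` be a prime, `m ≥ 2`, and `G` a transitive but not doubly transitive permutation group on `p ^ m` points containing a permutation of order `p ^ m` (necessarily a full cycle). Then `G` is imprimitive, and the normal closure in `G` of the `p ^ (m - 1)`-th power of that permutation is an intransitive normal subgroup. -/
theorem result {Ω : Type*} [Fintype Ω] [DecidableEq Ω] (p m : ℕ) (hp : p.Prime) (hm : 2 ≤ m) (hΩ : Fintype.card Ω = p ^ m) (G : Subgroup (Equiv.Perm Ω)) (htr : MulAction.IsPretransitive G Ω) (h2 : ¬ MulAction.IsMultiplyPretransitive G Ω 2) (g : G) (hg : orderOf g = p ^ m) : ¬ MulAction.IsPreprimitive G Ω ∧ ¬ MulAction.IsPretransitive (Subgroup.normalClosure ({g ^ (p ^ (m - 1))} : Set G)) Ω := by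
  haveI := htr
  haveI : Fact p.Prime := ⟨hp⟩
  set C : Subgroup G := Subgroup.zpowers g with hC
  letI : CommGroup C := IsCyclic.commGroup
  obtain ⟨a, ha⟩ : ∃ a : Ω, g ^ p ^ (m - 1) • a ≠ a := by
    by_contra hc
    push Not at hc
    have h1 : g ^ p ^ (m - 1) = 1 := Subtype.ext (Equiv.ext hc)
    have h2 := orderOf_dvd_of_pow_eq_one h1
    rw [hg, Nat.pow_dvd_pow_iff_le_right hp.one_lt] at h2
    omega
  have hper : MulAction.period g a = p ^ m := by
    obtain ⟨j, hj, hjeq⟩ := (Nat.dvd_prime_pow hp).1 (hg ▸ MulAction.period_dvd_orderOf g a)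
    rw [hjeq]
    congr 1
    by_contra hjm
    apply ha
    obtain ⟨c, hc⟩ : MulAction.period g a ∣ p ^ (m - 1) := hjeq ▸ pow_dvd_pow p (by omega)
    exact MulAction.pow_smul_eq_iff_period_dvd.2 ⟨c, hc⟩
  have hinj : Function.Injective fun c : C => (c : G) • a := by
    rintro ⟨_, i, rfl⟩ ⟨_, j, rfl⟩ h
    refine Subtype.ext ?_
    have h' : g ^ i • a = g ^ j • a := h
    have h1 : g ^ (i - j) • a = a := by
      rw [sub_eq_add_neg, add_comm, zpow_add, mul_smul, h', zpow_neg, inv_smul_smul]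
    rw [MulAction.zpow_smul_eq_iff_period_dvd, hper, ← hg, orderOf_dvd_iff_zpow_eq_one, zpow_sub,
      mul_inv_eq_one] at h1
    exact h1
  have hcardC : Nat.card C = p ^ m := by rw [Nat.card_zpowers, hg]
  let e : C ≃ Ω := Equiv.ofBijective _ (hinj.bijective_of_nat_card_le (by
    rw [hcardC, Nat.card_eq_fintype_card, hΩ]))
  have he : ∀ c, e c = (c : G) • a := fun c => rfl
  let Pm : Subgroup (Equiv.Perm C) := ((e.symm.permCongrHom : Equiv.Perm Ω ≃* Equiv.Perm C).toMonoidHom.comp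
    (MulAction.toPermHom G Ω)).range
  have happ : ∀ (x : G) (c : C), ((e.symm.permCongrHom : Equiv.Perm Ω ≃* Equiv.Perm C).toMonoidHom.comp
      (MulAction.toPermHom G Ω)) x c = e.symm (x • e c) := fun x c => by
    simp [Equiv.permCongrHom]
  have hL : ∀ c : C, Equiv.mulLeft c ∈ Pm := fun c => ⟨(c : G), by
    refine Equiv.ext fun d => ?_
    rw [happ, Equiv.coe_mulLeft]
    rw [Equiv.symm_apply_eq, he, he, ← mul_smul]
    rfl⟩
  obtain ⟨K, hKinv, hKb, hKt⟩ : ∃ K : Subgroup C,
      S3559.Inv (Pm : Set (Equiv.Perm C)) (K : Set C) ∧ K ≠ ⊥ ∧ K ≠ ⊤ := by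
    by_contra hc
    simp only [not_exists, not_and, not_not] at hc
    apply h2
    rw [MulAction.is_two_pretransitive_iff]
    intro u v u' v' huv huv'
    obtain ⟨c, hcu⟩ := e.surjective u
    obtain ⟨c', hcu'⟩ := e.surjective u'
    rw [he] at hcu hcu'
    obtain ⟨_, ⟨x, rfl⟩, h1, hx2⟩ := two_trans_core p m hp hm hcardC Pm hL
      (fun K hK => or_iff_not_imp_left.2 (hc K hK))
      (e.symm ((c : G)⁻¹ • v)) (e.symm ((c' : G)⁻¹ • v'))
      (fun h => huv (by
        rw [Equiv.symm_apply_eq, he, OneMemClass.coe_one, one_smul, inv_smul_eq_iff, hcu] at h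
        exact h.symm))
      (fun h => huv' (by
        rw [Equiv.symm_apply_eq, he, OneMemClass.coe_one, one_smul, inv_smul_eq_iff, hcu'] at h
        exact h.symm))
    rw [happ, Equiv.symm_apply_eq, he, OneMemClass.coe_one, one_smul] at h1
    rw [happ, Equiv.apply_symm_apply, e.symm.injective.eq_iff] at hx2
    refine ⟨(c' : G) * x * (c : G)⁻¹, ?_, ?_⟩
    · rw [mul_smul, mul_smul, ← hcu, inv_smul_smul, h1]
      exact hcu'
    · rw [mul_smul, mul_smul, hx2, smul_inv_smul]
  -- the action on the cosets of `K`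
  have hKact : ∀ (x : G) (u v : C), u⁻¹ * v ∈ K →
      (e.symm (x • e u))⁻¹ * e.symm (x • e v) ∈ K := by
    intro x u v huv
    have h0 := hKinv _ ⟨x, rfl⟩ u v
    rw [happ, happ] at h0
    exact h0.2 huv
  let N₀ : Subgroup G :=
    { carrier := {x | ∀ u : C, u⁻¹ * e.symm (x • e u) ∈ K}
      one_mem' := fun u => by simp
      mul_mem' := fun {x y} hx hy u => by
        have := K.mul_mem (hy u) (hx (e.symm (y • e u)))
        simpa [mul_smul, mul_assoc] using this
      inv_mem' := fun {x} hx u => by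
        have := K.inv_mem (hx (e.symm (x⁻¹ • e u)))
        simpa using this }
  have hN₀ : N₀.Normal := by
    refine ⟨fun x hx y u => ?_⟩
    have := hKact y _ _ (hx (e.symm (y⁻¹ • e u)))
    simpa [mul_smul] using this
  have hgp : g ^ p ^ (m - 1) ∈ N₀ := by
    intro u
    set d : C := ⟨g, Subgroup.mem_zpowers g⟩ ^ p ^ (m - 1) with hd
    have hdv : (d : G) = g ^ p ^ (m - 1) := by rw [hd, Subgroup.coe_pow]
    have h1 : e.symm (g ^ p ^ (m - 1) • e u) = d * u := by
      rw [Equiv.symm_apply_eq, he, he, ← hdv, Subgroup.coe_mul, mul_smul]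
    rw [h1, mul_comm d u, inv_mul_cancel_left]
    -- every nontrivial subgroup contains the elements of order `p`
    obtain ⟨k, hk⟩ := IsPGroup.iff_card.1 ((IsPGroup.of_card hcardC).to_subgroup K)
    have hk0 : k ≠ 0 := by
      rintro rfl
      rw [pow_zero] at hk
      exact hKb (Subgroup.card_eq_one.1 hk)
    obtain ⟨z, hz⟩ := @exists_prime_orderOf_dvd_card' K _ _ p ⟨hp⟩ (hk ▸ dvd_pow_self p hk0)
    have hdp : d ^ p = 1 := by
      refine Subtype.ext ?_
      rw [Subgroup.coe_pow, hdv, ← pow_mul, ← pow_succ, show m - 1 + 1 = m by omega, ← hg,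
        pow_orderOf_eq_one, Subgroup.coe_one]
    have hzC : orderOf (z : C) = p := by rw [Subgroup.orderOf_coe, hz]
    obtain ⟨i, hi⟩ := mem_zpowers_of_pow_eq_one hp hzC hdp
    rw [← hi]
    exact K.zpow_mem z.2 i
  refine ⟨fun hprim => ?_, fun htrN => ?_⟩
  · haveI := hprim
    have hB : MulAction.IsBlock G (e '' (K : Set C)) := by
      rw [MulAction.isBlock_iff_smul_eq_of_mem]
      rintro x _ ⟨k, hk, rfl⟩ ⟨k', hk', hk''⟩
      have hgk : ∀ v : C, e.symm (x • e v) ∈ K ↔ v ∈ K := by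
        intro v
        have h0 := hKinv _ ⟨x, rfl⟩ k v
        rw [happ, happ, show e.symm (x • e k) = k' by rw [← hk'', Equiv.symm_apply_apply]] at h0
        constructor
        · intro h
          have := h0.1 (K.mul_mem (K.inv_mem hk') h)
          simpa using K.mul_mem hk this
        · intro h
          have := h0.2 (K.mul_mem (K.inv_mem hk) h)
          simpa using K.mul_mem hk' this
      ext w
      rw [Set.mem_smul_set_iff_inv_smul_mem]
      constructor
      · rintro ⟨v, hv, hvw⟩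
        refine ⟨e.symm w, ?_, by simp⟩
        have := (hgk v).2 hv
        rwa [hvw, smul_inv_smul] at this
      · rintro ⟨v, hv, rfl⟩
        refine ⟨e.symm (x⁻¹ • e v), ?_, by simp⟩
        exact (hgk _).1 (by simpa using hv)
    rcases hprim.isTrivialBlock_of_isBlock hB with h | h
    · apply hKb
      rw [Subgroup.eq_bot_iff_forall]
      intro k hk
      exact e.injective (h ⟨k, hk, rfl⟩ ⟨1, K.one_mem, rfl⟩)
    · apply hKt
      rw [eq_top_iff]
      intro c _
      obtain ⟨v, hv, hvc⟩ : e c ∈ e '' (K : Set C) := h ▸ Set.mem_univ _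
      exact e.injective hvc ▸ hv
  · apply hKt
    rw [eq_top_iff]
    intro c _
    obtain ⟨⟨x, hx⟩, hxc⟩ := htrN.exists_smul_eq (e 1) (e c)
    have := Subgroup.normalClosure_le_normal (N := N₀) (Set.singleton_subset_iff.2 hgp) hx 1
    rw [inv_one, one_mul] at this
    have hxc' : x • e 1 = e c := hxc
    rwa [hxc', Equiv.symm_apply_apply] at this

end Cfsg.Agent.S3972
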