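import Cfsg.Statements.S0736
import Mathlib

set_option autoImplicit false
open Cfsg

namespace Cfsg.Agent.S0736

open scoped Pointwise

theorem choose_not_dvd {p : ℕ} [Fact p.Prime] (e c : ℕ) :
    ¬ p ∣ Nat.choose (p ^ e * c + (p ^ e - 1)) (p ^ e - 1) := by
  have hp : p.Prime := Fact.out
  induction e with
  | zero => simpa using hp.not_dvd_one
  | succ e ih =>
    have h0 : 0 < p ^ e := pow_pos hp.pos e
    have e1 : p ^ (e + 1) - 1 = p * (p ^ e - 1) + (p - 1) := by
      have := hp.one_le
      have h1 : p * (p ^ e - 1) + p = p ^ (e+1) := by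
        rw [← Nat.mul_succ, Nat.succ_eq_add_one, Nat.sub_add_cancel h0, pow_succ']
      omega
    have e2 : p ^ (e + 1) * c + (p ^ (e + 1) - 1)
        = p * (p ^ e * c + (p ^ e - 1)) + (p - 1) := by
      rw [e1]; ring
    have hlt : p - 1 < p := Nat.sub_lt hp.pos Nat.one_pos
    intro hd
    have hm := Choose.choose_modEq_choose_mod_mul_choose_div_nat
      (n := p ^ (e + 1) * c + (p ^ (e + 1) - 1)) (k := p ^ (e + 1) - 1) (p := p)
    rw [e2, e1] at hm hd
    rw [Nat.mul_add_mod, Nat.mul_add_mod, Nat.mul_add_div hp.pos, Nat.mul_add_div hp.pos,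
      Nat.mod_eq_of_lt hlt, Nat.div_eq_of_lt hlt, Nat.choose_self, one_mul, add_zero, add_zero] at hm
    exact ih (Nat.modEq_zero_iff_dvd.mp (hm.symm.trans (Nat.modEq_zero_iff_dvd.mpr hd)))

open Finset in
/-- If every `k`-set has `a` erasures in `O`, then `a = k`, when the prime power parts fit. -/
theorem all_mem {α : Type*} [Fintype α] [DecidableEq α] {k : ℕ} (O : Finset α → Prop)
    [DecidablePred O] {a : ℕ} (hk : 2 ≤ k)
    (ha : ∀ A : Finset α, A.card = k → (A.filter fun x => O (A.erase x)).card = a)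
    (hq : ∀ q : ℕ, IsPrimePow q → q ∣ k → k + q - 1 ≤ Fintype.card α) : k ∣ a := by
  rw [Nat.dvd_iff_prime_pow_dvd_dvd]
  intro p m hp hdvd
  rcases Nat.eq_zero_or_pos m with rfl | hm
  · simp
  haveI : Fact p.Prime := ⟨hp⟩
  have hle := hq (p ^ m) (hp.isPrimePow.pow hm.ne') hdvd
  obtain ⟨c, hc⟩ := hdvd
  set N := k + p ^ m - 1 with hN
  obtain ⟨U, -, hU⟩ := Finset.exists_subset_card_eq (s := (univ : Finset α)) (n := N)
    (by simpa using hle)
  -- pairs counted in two ways
  let S := (U.powersetCard k).sigma fun A => A.filter fun x => O (A.erase x)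
  let T := ((U.powersetCard (k - 1)).filter O).sigma fun B => U \ B
  have h1 : S.card = T.card := by
    refine Finset.card_bij' (fun z _ => ⟨z.1.erase z.2, z.2⟩) (fun z _ => ⟨insert z.2 z.1, z.2⟩)
      ?_ ?_ ?_ ?_
    · rintro ⟨A, x⟩ hz
      simp only [S, T, mem_sigma, mem_powersetCard, mem_filter, mem_sdiff, notMem_erase,
        not_false_eq_true, and_true] at hz ⊢
      obtain ⟨⟨hA, hAc⟩, hx, hO⟩ := hz
      exact ⟨⟨⟨(erase_subset _ _).trans hA, by rw [card_erase_of_mem hx, hAc]⟩, hO⟩, hA hx⟩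
    · rintro ⟨B, x⟩ hz
      simp only [S, T, mem_sigma, mem_powersetCard, mem_filter, mem_sdiff] at hz ⊢
      obtain ⟨⟨⟨hB, hBc⟩, hO⟩, hx, hxB⟩ := hz
      refine ⟨⟨insert_subset hx hB, ?_⟩, mem_insert_self _ _, by rwa [erase_insert hxB]⟩
      rw [card_insert_of_notMem hxB, hBc]; omega
    · rintro ⟨A, x⟩ hz
      simp only [S, mem_sigma, mem_filter] at hz
      simp [insert_erase hz.2.1]
    · rintro ⟨B, x⟩ hz
      simp only [T, mem_sigma, mem_filter, mem_sdiff] at hz
      simp [erase_insert hz.2.2]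
  have h2 : S.card = N.choose k * a := by
    rw [card_sigma, sum_const_nat (m := a) (fun A hA => ha A (mem_powersetCard.mp hA).2),
      card_powersetCard, hU]
  have h3 : T.card = ((U.powersetCard (k - 1)).filter O).card * p ^ m := by
    rw [card_sigma, sum_const_nat (m := p ^ m)]
    intro B hB
    obtain ⟨hBU, hBc⟩ := mem_powersetCard.mp (mem_filter.mp hB).1
    rw [card_sdiff_of_subset hBU, hBc, hU]
    have := pow_pos hp.pos m
    omega
  have h4 : p ^ m ∣ N.choose k * a := ⟨_, by rw [← h2, h1, h3, mul_comm]⟩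
  have hcop : Nat.Coprime (p ^ m) (N.choose k) := by
    apply Nat.Coprime.pow_left
    rw [hp.coprime_iff_not_dvd]
    have hpos := pow_pos hp.pos m
    have : N.choose k = Nat.choose (p ^ m * c + (p ^ m - 1)) (p ^ m - 1) := by
      rw [← hc, show N = k + (p ^ m - 1) by omega, Nat.choose_symm_add]
    rw [this]
    exact choose_not_dvd m c
  exact hcop.dvd_of_dvd_mul_left h4

/-- A `k`-homogeneous permutation group of degree `n`, `k ≥ 2`, with `k + q - 1 ≤ n` for every prime power `q` dividing `k`, is `(k-1)`-homogeneous. -/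
theorem result {α : Type*} [Fintype α] [DecidableEq α] (G : Subgroup (Equiv.Perm α)) {k : ℕ} (hk : 2 ≤ k) (hG : MulAction.IsPretransitive G (Set.powersetCard α k)) (hq : ∀ q : ℕ, IsPrimePow q → q ∣ k → k + q - 1 ≤ Fintype.card α) : MulAction.IsPretransitive G (Set.powersetCard α (k - 1)) := by
  classical
  obtain ⟨p, hp, hpk⟩ := Nat.exists_prime_and_dvd (show k ≠ 1 by omega)
  have hkn : k ≤ Fintype.card α := by have := hq p hp.isPrimePow hpk; have := hp.two_le; omega
  rw [MulAction.isPretransitive_iff]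
  intro T T'
  let O : Finset α → Prop := fun B => ∃ g : G, (g • (T : Finset α)) = B
  obtain ⟨x₀, -, hx₀⟩ := Finset.exists_mem_notMem_of_card_lt_card
    (s := (T : Finset α)) (t := Finset.univ) (by
      rw [Set.powersetCard.card_eq, Finset.card_univ]; omega)
  let A₀ : Finset α := insert x₀ (T : Finset α)
  have hA₀ : A₀.card = k := by
    rw [Finset.card_insert_of_notMem hx₀, Set.powersetCard.card_eq]; omega
  let cnt : Finset α → ℕ := fun A => (A.filter fun x => O (A.erase x)).card
  have hinv : ∀ A : Finset α, A.card = k → cnt A = cnt A₀ := by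
    intro A hA
    obtain ⟨g, hg⟩ := MulAction.exists_smul_eq G (Set.powersetCard.ofCard hA₀)
      (Set.powersetCard.ofCard hA)
    have hg' : g • A₀ = A := congrArg Subtype.val hg
    subst hg'
    refine (Finset.card_bij' (fun x _ => g • x) (fun x _ => g⁻¹ • x) ?_ ?_
      (fun x _ => inv_smul_smul g x) (fun x _ => smul_inv_smul g x)).symm
    · intro x hx
      rw [Finset.mem_filter] at hx ⊢
      obtain ⟨hxA, h, hh⟩ := hx
      refine ⟨Finset.smul_mem_smul_finset hxA, g * h, ?_⟩
      rw [mul_smul, hh]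
      exact Finset.image_erase (MulAction.injective g) A₀ x
    · intro x hx
      rw [Finset.mem_filter] at hx ⊢
      obtain ⟨hxA, h, hh⟩ := hx
      refine ⟨Finset.inv_smul_mem_iff.mpr hxA, g⁻¹ * h, ?_⟩
      rw [mul_smul, hh]
      refine (Finset.image_erase (MulAction.injective g⁻¹) _ x).trans ?_
      exact congrArg (fun B => Finset.erase B (g⁻¹ • x)) (inv_smul_smul g A₀)
  have hk_dvd : k ∣ cnt A₀ := all_mem O hk hinv hq
  have hpos : 0 < cnt A₀ := Finset.card_pos.mpr ⟨x₀, Finset.mem_filter.mpr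
    ⟨Finset.mem_insert_self _ _, 1, by rw [one_smul, Finset.erase_insert hx₀]⟩⟩
  obtain ⟨x', -, hx'⟩ := Finset.exists_mem_notMem_of_card_lt_card
    (s := (T' : Finset α)) (t := Finset.univ) (by
      rw [Set.powersetCard.card_eq, Finset.card_univ]; omega)
  let A' : Finset α := insert x' (T' : Finset α)
  have hA' : A'.card = k := by
    rw [Finset.card_insert_of_notMem hx', Set.powersetCard.card_eq]; omega
  have hfull : (A'.filter fun x => O (A'.erase x)) = A' := by
    apply Finset.eq_of_subset_of_card_le (Finset.filter_subset _ _)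
    rw [hA']
    exact (Nat.le_of_dvd hpos hk_dvd).trans_eq (hinv A' hA').symm
  have := (Finset.mem_filter.mp (hfull.ge (Finset.mem_insert_self x' (T' : Finset α)))).2
  rw [Finset.erase_insert hx'] at this
  obtain ⟨g, hg⟩ := this
  exact ⟨g, Subtype.ext hg⟩

end Cfsg.Agent.S0736
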