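import Cfsg.Statements.S5944
-- import your own Cfsg.Agent.* helpers here

set_option autoImplicit false
open Cfsg

namespace Cfsg.Agent.S5944

/-- For n ≠ 4, every proper subgroup of the symmetric group S_n other than the alternating group A_n has index at least n. -/
theorem result (n : ℕ) (hn : n ≠ 4) (H : Subgroup (Equiv.Perm (Fin n))) (hH : H ≠ ⊤) (hA : H ≠ alternatingGroup (Fin n)) : n ≤ H.index := by
  have h0 : H.index ≠ 0 := Subgroup.index_ne_zero_of_finite
  have h1 : H.index ≠ 1 := fun h => hH (Subgroup.index_eq_one.1 h)
  have h2 : H.index ≠ 2 := fun h => hA (Equiv.Perm.eq_alternatingGroup_of_index_eq_two h)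
  by_cases h5 : n < 5
  · omega
  push Not at h5
  by_contra hlt
  push Not at hlt
  have hle : alternatingGroup (Fin n) ≤ H := by
    rcases Subgroup.bot_or_nontrivial H.normalCore with hb | hb
    · exfalso
      rw [Subgroup.normalCore_eq_ker, MonoidHom.ker_eq_bot_iff] at hb
      have hc := Nat.card_le_card_of_injective _ hb
      have hi : Nat.card (Equiv.Perm (Fin n) ⧸ H) = H.index := rfl
      rw [Nat.card_perm, Nat.card_perm, Nat.card_fin, hi] at hc
      exact absurd ((Nat.factorial_lt (by omega)).2 hlt) (not_lt.2 hc)
    · exact (Equiv.Perm.alternatingGroup_le_of_normal (by simpa using h5) hb).trans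
        (Subgroup.normalCore_le H)
  have hd := Subgroup.index_dvd_of_le hle
  haveI : Nontrivial (Fin n) := Fin.nontrivial_iff_two_le.2 (by omega)
  rw [alternatingGroup.index_eq_two] at hd
  have := Nat.le_of_dvd (by norm_num) hd
  omega

end Cfsg.Agent.S5944
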