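import Cfsg.Statements.S2796
import Cfsg.Agent.Thompson.SfourClosed
-- import your own Cfsg.Agent.* helpers here

set_option autoImplicit false
universe u
open Cfsg

namespace Cfsg.Agent.S2796

/-- Let G be a finite group in which the symmetric group of degree 4 is not involved, such that for every section K/R of G with C(O₂(K/R)) ≤ O₂(K/R) every non-abelian composition factor of K/R is a Suzuki group Sz(2^(2n+1)) or PSL₂ over a field with 3^(2n+1) elements. Let S be a Sylow 2-subgroup, J_e(S) the subgroup generated by its elementary abelian subgroups of largest order, and A the normal closure of Ω₁(Z(S)) in N_G(J_e(S)). Then A is an elementary abelian subgroup of S, strongly closed in S with respect to G, and A controls strong fusion in G. -/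
theorem result {G : Type u} [Group G] [Finite G] (hfree : ¬ Cfsg.Involves (Equiv.Perm (Fin 4)) G) (hsec : ∀ (K R : Subgroup G) [hR : (R.subgroupOf K).Normal], Subgroup.centralizer (Cfsg.pCore 2 (K ⧸ R.subgroupOf K) : Set (K ⧸ R.subgroupOf K)) ≤ Cfsg.pCore 2 (K ⧸ R.subgroupOf K) → Cfsg.IsCompositionKGroupWith Cfsg.IsSuzukiOrPSL2OddPowerThree (K ⧸ R.subgroupOf K)) (S : Sylow 2 G) (N : Subgroup G) (hN : N = Subgroup.normalizer (Cfsg.thompsonSubgroupOf 2 (S : Subgroup G) : Set G)) (A : Subgroup G) (hA : A = (Subgroup.normalClosure (((Cfsg.omegaOne 2 ((S : Subgroup G) ⊓ Subgroup.centralizer ((S : Subgroup G) : Set G))).subgroupOf N : Subgroup ↥N) : Set ↥N)).map N.subtype) : A ≤ S ∧ Cfsg.IsElementaryAbelian 2 A ∧ Cfsg.IsStronglyClosed A (S : Subgroup G) ∧ Cfsg.ControlsStrongFusion 2 A := by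
  haveI : Fact (Nat.Prime 2) := ⟨Nat.prime_two⟩
  rw [Thompson.thompsonSubgroupOf_eq] at hN
  have hsec' : ∀ (K R : Subgroup G) [hR : (R.subgroupOf K).Normal],
      Subgroup.centralizer (Cfsg.pCore 2 (K ⧸ R.subgroupOf K) : Set (K ⧸ R.subgroupOf K)) ≤
        Cfsg.pCore 2 (K ⧸ R.subgroupOf K) → Thompson.Pc.GoodFac (K ⧸ R.subgroupOf K) :=
    fun K R _ h => Thompson.Pc.goodFac_of_compositionK (hsec K R h)
  have hAW : A ≤ Thompson.FourFree.wIn (S : Subgroup G) :=
    hA ▸ Thompson.FourFree.normalClosure_le_wIn hfree hsec' S hN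
  have hWJ := Thompson.FourFree.wIn_le_jay (S : Subgroup G)
  have hAS : A ≤ S := hAW.trans (hWJ.trans Thompson.jay_le)
  have hWc : ∀ a ∈ Thompson.FourFree.wIn (S : Subgroup G), a * a = 1 ∧
      a ∈ Subgroup.centralizer (Thompson.jay 2 (S : Subgroup G) : Set G) := by
    intro a ha
    have hc : Thompson.FourFree.wIn (S : Subgroup G) ≤
        Subgroup.centralizer (Thompson.jay 2 (S : Subgroup G) : Set G) := by
      refine le_trans ?_ (Subgroup.centralizer_le
        (SetLike.coe_subset_coe.mpr (Thompson.FourFree.jay_le_jHatIn (S : Subgroup G))))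
      exact (Subgroup.closure_le _).mpr fun _ h => h.1.2
    refine ⟨?_, hc ha⟩
    induction ha using Subgroup.closure_induction with
    | mem x hx => rw [← sq]; exact hx.2
    | one => exact one_mul 1
    | mul x y hx hy h1 h2 =>
      have e : y * x = x * y := Subgroup.mem_centralizer_iff.mp (hc hx) y (hWJ hy)
      calc x * y * (x * y) = x * (y * x) * y := by group
        _ = x * x * (y * y) := by rw [e]; group
        _ = 1 := by rw [h1, h2, one_mul]
    | inv x _ h1 => rw [← mul_inv_rev, h1, inv_one]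
  have hel : Cfsg.IsElementaryAbelian 2 A :=
    ⟨Thompson.isMulCommutative_iff_forall.mpr fun a ha b hb =>
      (Subgroup.mem_centralizer_iff.mp (hWc b (hAW hb)).2 a (hWJ (hAW ha))),
    fun a ha => by rw [sq]; exact (hWc a (hAW ha)).1⟩
  have hNA : Subgroup.normalizer (Thompson.jay 2 (S : Subgroup G) : Set G) ≤ Subgroup.normalizer (A : Set G) := by
    rw [← hN]
    intro n hn
    refine H48.mem_normalizer_of_cj_eq (H48.cj_eq_self_of_le (H48.cj_le.mpr fun x hx => ?_))
    rw [hA] at hx ⊢
    obtain ⟨y, hy, rfl⟩ := hx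
    exact ⟨_, Subgroup.normalClosure_normal.conj_mem y hy ⟨n, hn⟩, rfl⟩
  have key := Thompson.FourFree.controls_of_le_wIn hfree hsec' S hAW hNA
  refine ⟨hAS, hel, ⟨hAS, fun x hx g hg => ?_⟩, S, hAS, fun X hX => ⟨hX, fun g hg => key X hX g hg⟩⟩
  obtain ⟨y, hy, he⟩ := key {x} (Set.singleton_subset_iff.mpr (hAS hx)) g (by
    rintro _ ⟨_, rfl, rfl⟩
    exact hg)
  rw [he x rfl]
  exact (Subgroup.mem_normalizer_iff.mp hy x).mp hx

end Cfsg.Agent.S2796
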