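import Cfsg.Statements.S0073
import Mathlib.GroupTheory.Transfer
import Mathlib.Tactic.NormNum.GCD
import Mathlib.Tactic.IntervalCases

set_option autoImplicit false
open Cfsg

namespace Cfsg.Agent.S0073

/-- An automorphism of prime order `q > p` of a group of order dividing `p ^ 2`. -/
theorem aut_prime {P : Type*} [Group P] [Finite P] {p q k : ℕ} (hp : p.Prime) (hq : q.Prime)
    (hpq : p < q) (hk : k ≤ 2) (hP : Nat.card P = p ^ k) (σ : MulAut P) (hσ : orderOf σ = q) :
    k = 2 ∧ p = 2 ∧ q = 3 := by
  have := Fact.mk hq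
  have hpg : IsPGroup q (Subgroup.zpowers σ) :=
    IsPGroup.of_card (n := 1) (by rw [Nat.card_zpowers, hσ, pow_one])
  have hmod := hpg.card_modEq_card_fixedPoints P
  let F : Subgroup P :=
    { carrier := {x | σ x = x}
      one_mem' := map_one σ
      mul_mem' := fun {a b} ha hb => by rw [Set.mem_setOf_eq, map_mul, ha, hb]
      inv_mem' := fun {a} ha => by rw [Set.mem_setOf_eq, map_inv, ha] }
  have hF : MulAction.fixedPoints (Subgroup.zpowers σ) P = (F : Set P) := by
    ext x
    constructor
    · intro h; exact h ⟨σ, Subgroup.mem_zpowers σ⟩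
    · intro h g
      have hle : Subgroup.zpowers σ ≤ MulAction.stabilizer (MulAut P) x := Subgroup.zpowers_le.2 h
      exact hle g.2
  rw [hF, hP] at hmod
  obtain ⟨j, hj, hjF⟩ := (Nat.dvd_prime_pow hp).1 (hP ▸ F.card_subgroup_dvd_card)
  have hFtop : F ≠ ⊤ := by
    intro h
    have : σ = 1 := MulEquiv.ext fun x => (h ▸ Subgroup.mem_top x : x ∈ F)
    rw [this, orderOf_one] at hσ
    exact hq.one_lt.ne hσ
  have hjk : j < k := by
    rcases hj.lt_or_eq with h | h
    · exact h
    · exact absurd (Subgroup.eq_top_of_card_eq F (by rw [hP, hjF, h])) hFtop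
  have hmod' : p ^ k ≡ p ^ j [MOD q] := by rw [← hjF]; exact hmod
  have hdvd : q ∣ p ^ k - p ^ j :=
    (Nat.modEq_iff_dvd' (Nat.pow_le_pow_right hp.pos hjk.le)).1 hmod'.symm
  have hsmall : ∀ m, q ∣ m → 0 < m → m < q → False := fun m h h0 hm =>
    absurd (Nat.le_of_dvd h0 h) (not_le.2 hm)
  have h2p := hp.two_le
  interval_cases k <;> interval_cases j
  · exact (hsmall _ hdvd (by simp; omega) (by simp; omega)).elim
  · -- `q ∣ p ^ 2 - 1`
    have h : q ∣ (p + 1) * (p - 1) := by
      rw [← Nat.sq_sub_sq]; simpa using hdvd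
    rcases hq.dvd_mul.1 h with h | h
    · have hq1 : q = p + 1 := le_antisymm (Nat.le_of_dvd (by omega) h) hpq
      have hp2 : p = 2 := by
        rcases hp.eq_two_or_odd' with h | ⟨m, hm⟩
        · exact h
        · have : q = 2 := (Nat.prime_dvd_prime_iff_eq Nat.prime_two hq).1 ⟨m + 1, by omega⟩ |>.symm
          omega
      omega
    · exact (hsmall _ h (by omega) (by omega)).elim
  · -- `q ∣ p ^ 2 - p`
    have h : q ∣ p * (p - 1) := by
      rw [Nat.mul_sub, mul_one, ← sq]; simpa using hdvd
    rcases hq.dvd_mul.1 h with h | h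
    · exact (hsmall _ h (by omega) hpq).elim
    · exact (hsmall _ h (by omega) (by omega)).elim

/-- For a finite non-abelian simple group, either the cube of the least prime divisor of the order divides the order, or 12 does. -/
theorem result {G : Type*} [Group G] [Finite G] [IsSimpleGroup G] (hG : ∃ x y : G, x * y ≠ y * x) : (Nat.card G).minFac ^ 3 ∣ Nat.card G ∨ 12 ∣ Nat.card G := by
  have hne1 : Nat.card G ≠ 1 := fun h => by
    obtain ⟨x, y, hxy⟩ := hG
    have := (Nat.card_eq_one_iff_unique.1 h).1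
    exact hxy (Subsingleton.elim _ _)
  let p := (Nat.card G).minFac
  have hp : p.Prime := Nat.minFac_prime hne1
  have := Fact.mk hp
  have hpd : p ∣ Nat.card G := Nat.minFac_dvd _
  obtain ⟨P⟩ : Nonempty (Sylow p G) := inferInstance
  obtain ⟨k, hk⟩ := IsPGroup.iff_card.1 P.2
  rcases lt_or_ge k 3 with hk3 | hk3
  swap
  · exact Or.inl ((pow_dvd_pow p hk3).trans (hk ▸ (P : Subgroup G).card_subgroup_dvd_card))
  refine Or.inr ?_
  have hPcomm : IsMulCommutative (P : Subgroup G) := by
    rcases (by omega : k ≤ 1 ∨ k = 2) with h | h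
    · have : IsCyclic (P : Subgroup G) := by
        interval_cases k
        · have : Subsingleton (P : Subgroup G) := (Nat.card_eq_one_iff_unique.1 (by simpa using hk)).1
          exact isCyclic_of_subsingleton
        · exact isCyclic_of_prime_card (hk.trans (pow_one p))
      infer_instance
    · subst h; exact IsPGroup.isMulCommutative_of_card_eq_prime_sq hk
  let φ := (P : Subgroup G).normalizerMonoidHom
  have hker : φ.ker = (Subgroup.centralizer (P : Set G)).subgroupOf _ := Subgroup.normalizerMonoidHom_ker _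
  have hnot : ¬ Subgroup.normalizer (P : Set G) ≤ Subgroup.centralizer (P : Set G) := by
    intro hle
    have hK := MonoidHom.ker_transferSylow_isComplement' P hle
    rcases IsSimpleGroup.eq_bot_or_eq_top_of_normal _ (MonoidHom.normal_ker (MonoidHom.transferSylow P hle)) with h | h
    · rw [h, Subgroup.isComplement'_bot_left] at hK
      obtain ⟨x, y, hxy⟩ := hG
      exact hxy (Subgroup.mem_centralizer_iff.1 (Subgroup.le_centralizer (P : Subgroup G) (hK ▸ Subgroup.mem_top y)) x (hK ▸ Subgroup.mem_top x))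
    · rw [h, Subgroup.isComplement'_top_left] at hK
      exact P.ne_bot_of_dvd_card hpd hK
  have hne : φ.ker.index ≠ 1 := by
    rw [hker, Ne, Subgroup.index_eq_one, Subgroup.subgroupOf_eq_top]; exact hnot
  obtain ⟨q, hq, hqd⟩ := Nat.exists_prime_and_dvd hne
  have hqG : q ∣ Nat.card G :=
    hqd.trans (φ.ker.index_dvd_card.trans (Subgroup.card_subgroup_dvd_card _))
  have hqp : q ≠ p := by
    rintro rfl
    have h1 : φ.ker.index ∣ ((P : Subgroup G).subgroupOf (Subgroup.normalizer (P : Set G))).index := by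
      rw [hker]
      exact Subgroup.index_dvd_of_le (Subgroup.comap_mono (Subgroup.le_centralizer (P : Subgroup G)))
    exact P.not_dvd_index (hqd.trans (h1.trans (Subgroup.relIndex_dvd_index_of_le Subgroup.le_normalizer)))
  have hlt : p < q := lt_of_le_of_ne (Nat.minFac_le_of_dvd hq.two_le hqG) hqp.symm
  have := Fact.mk hq
  rw [Subgroup.index_ker] at hqd
  obtain ⟨σ, hσ⟩ := exists_prime_orderOf_dvd_card' q hqd
  rw [← Subgroup.orderOf_coe] at hσ
  obtain ⟨hk2, hp2, hq3⟩ := aut_prime hp hq hlt (by omega) hk σ.1 hσ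
  have h4 : 4 ∣ Nat.card G := by
    have h := (P : Subgroup G).card_subgroup_dvd_card
    rw [show Nat.card (P : Subgroup G) = p ^ k from hk, hk2, hp2] at h
    exact h
  exact Nat.Coprime.mul_dvd_of_dvd_of_dvd (by norm_num : Nat.Coprime 4 3) h4 (hq3 ▸ hqG)

end Cfsg.Agent.S0073
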