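import Cfsg.Statements.S5653
import Cfsg.Agent.Symplectic.HermMove
import Cfsg.Agent.H95.SubspaceStab
import Cfsg.Agent.Unitary.Isotropic
import Mathlib

set_option autoImplicit false
open Cfsg

namespace Cfsg.Agent.S5653

open scoped MatrixGroups Matrix
open Matrix Cfsg.Agent.H95 Cfsg.Agent.Symplectic

theorem main {F : Type*} [Field F] [Fintype F] {n q : ℕ} (hF : Fintype.card F = q ^ 2)
    {σ : F ≃+* F} (hf : Geo.IsUnitaryForm σ (Cfsg.hermForm n F q))
    (G : Subgroup (GL (Fin n) F))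
    (hG : G = isoGrp (Cfsg.hermForm n F q) ⊓ Geo.specialLinear (Fin n) F)
    (hgen : ∀ M : Subgroup (GL (Fin n) F),
      (∀ v, Cfsg.hermForm n F q v v = 0 → UtIn hf M v) → G ≤ M)
    (W : Submodule F (Fin n → F)) (hW0 : W ≠ ⊥)
    (hW : Geo.IsTotallySingularFor (Cfsg.hermForm n F q) W) :
    Geo.IsMaximalIn G (Geo.subspaceStabilizer W ⊓ G) := by
  set f := Cfsg.hermForm n F q with hfdef
  -- the only vectors orthogonal to the orthogonal of `W` are those of `W`
  have bip : ∀ v, v ∉ W → ∃ y, (∀ w ∈ W, f y w = 0) ∧ f y v = 1 := by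
    intro v hv
    let b := Module.finBasis F W
    have hli : LinearIndependent F (Fin.cons v (fun i => ((b i : W) : Fin n → F))) := by
      rw [linearIndependent_finCons]
      refine ⟨b.linearIndependent.map' W.subtype W.ker_subtype, fun h => hv ?_⟩
      exact (Submodule.span_le.2 (by rintro _ ⟨i, rfl⟩; exact (b i).2)) h
    obtain ⟨y, -, hy⟩ := Unitary.exists_herm_eq_mem hF (Unitary.nondeg_top hF) hli
      (fun _ => Submodule.mem_top) (Fin.cons 1 (fun _ => 0))
    refine ⟨y, fun w hw => ?_, by simpa using hy 0⟩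
    have hb : ∀ i, f y (b i : W) = 0 := fun i => by simpa using hy i.succ
    have : w = ∑ i, b.repr ⟨w, hw⟩ i • ((b i : W) : Fin n → F) := by
      have := congrArg W.subtype (b.sum_repr ⟨w, hw⟩)
      rw [map_sum] at this
      exact this.symm.trans (Finset.sum_congr rfl fun i _ => map_smul W.subtype _ _)
    rw [this]
    let φ : (Fin n → F) →+ F :=
      { toFun := fun x => f y x
        map_zero' := u_zero_right hf y
        map_add' := fun p r => u_add_right hf y p r }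
    show φ _ = 0
    rw [map_sum]
    refine Finset.sum_eq_zero fun i _ => ?_
    show f y _ = 0
    rw [u_smul_right hf, hb, mul_zero]
  obtain ⟨w0, hw0W, hw00⟩ := W.exists_mem_ne_zero_of_ne_bot hW0
  refine ⟨lt_of_le_of_ne inf_le_right fun hEq => ?_, fun M hSM hMG => ?_⟩
  · obtain ⟨⟨y, hy⟩, -⟩ := hf.nondegenerate w0 hw00
    have h0 : f w0 w0 = 0 := hW w0 hw0W w0 hw0W
    obtain ⟨l, hl⟩ := Unitary.exists_isotropic_add hF h0 hy
    set v := y + l • w0 with hv
    have hvw : f v w0 ≠ 0 := by rw [hv, u_add_left hf, u_smul_left hf, h0]; simpa using hy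
    obtain ⟨d, hd0, hd⟩ := exists_skew_ne_zero hf
    have hmem : ut hf v d ∈ Geo.subspaceStabilizer W ⊓ G :=
      hEq.symm ▸ (hG ▸ ⟨ut_mem_iso hf hl hd, ut_mem_sl hf v d⟩ : ut hf v d ∈ G)
    have h1 := (mem_subspaceStabilizer.1 hmem.1 w0).1 hw0W
    rw [ut_mulVec hf hl, W.add_mem_iff_right hw0W] at h1
    have hne : d * f w0 v ≠ 0 := mul_ne_zero hd0 fun h => hvw (u_symm_zero hf h)
    have hvW := W.smul_mem (d * f w0 v)⁻¹ h1
    rw [inv_smul_smul₀ hne] at hvW
    exact hvw (hW v hvW w0 hw0W)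
  by_cases hM : M ≤ Geo.subspaceStabilizer W ⊓ G
  · exact Or.inl (le_antisymm hM hSM)
  obtain ⟨g, hgM, hgS⟩ := SetLike.not_le_iff_exists.1 hM
  have hgi : g ∈ isoGrp f := (hG ▸ hMG hgM : g ∈ isoGrp f ⊓ _).1
  have hperp : ∀ v, f v v = 0 → (∀ w ∈ W, f w v = 0) → UtIn hf M v := fun v hv hvW l hl => by
    refine hSM ⟨mem_stab_of_forward fun x hx => ?_, hG ▸ ⟨ut_mem_iso hf hv hl, ut_mem_sl hf v l⟩⟩
    rw [ut_mulVec hf hv, hvW x hx, mul_zero, zero_smul, add_zero]
    exact hx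
  obtain ⟨v, hv, hvW, hgv⟩ : ∃ v, f v v = 0 ∧ (∀ w ∈ W, f w v = 0) ∧
      ∃ w ∈ W, f w ((g : Matrix (Fin n) (Fin n) F) *ᵥ v) ≠ 0 := by
    by_contra hcon
    push Not at hcon
    apply hgS
    refine ⟨mem_stab_of_forward fun w hw => ?_, hMG hgM⟩
    -- `g` permutes the isotropic vectors orthogonal to `W`
    let T : Set (Fin n → F) := {v | f v v = 0 ∧ ∀ w ∈ W, f w v = 0}
    have hmaps : Set.MapsTo (fun x => (g : Matrix (Fin n) (Fin n) F) *ᵥ x) T T := fun x hx =>
      ⟨by rw [mem_isoGrp.1 hgi, hx.1], hcon x hx.1 hx.2⟩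
    classical
    have hsurj : ∀ z ∈ T, ∃ x ∈ T, (g : Matrix (Fin n) (Fin n) F) *ᵥ x = z := fun z hz => by
      obtain ⟨x, hx, hxz⟩ := Finset.surjOn_of_injOn_of_card_le _
        (show Set.MapsTo (fun x => (g : Matrix (Fin n) (Fin n) F) *ᵥ x) ↑T.toFinset ↑T.toFinset by
          simpa using hmaps)
        ((gl_mulVec_injective g).injOn) le_rfl (show z ∈ (↑T.toFinset : Set _) by simpa using hz)
      exact ⟨x, by simpa using hx, hxz⟩
    by_contra hgw
    obtain ⟨y, hyW, hy⟩ := bip _ hgw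
    have gwT := hmaps (show w ∈ T from ⟨hW w hw w hw, fun w' hw' => hW w' hw' w hw⟩)
    obtain ⟨t, ht⟩ := Unitary.exists_isotropic_add hF gwT.1 (z := y)
      (by rw [← hfdef, hy]; exact one_ne_zero)
    obtain ⟨x, hx, hxy⟩ := hsurj _ (show y + t • ((g : Matrix (Fin n) (Fin n) F) *ᵥ w) ∈ T from
      ⟨ht, fun w' hw' => by
        rw [u_add_right hf, u_smul_right hf, gwT.2 w' hw', u_symm_zero hf (hyW w' hw')]; ring⟩)
    have h1 : f ((g : Matrix (Fin n) (Fin n) F) *ᵥ x) ((g : Matrix (Fin n) (Fin n) F) *ᵥ w) = 0 := by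
      rw [mem_isoGrp.1 hgi]; exact u_symm_zero hf (hx.2 w hw)
    rw [hxy, u_add_left hf, u_smul_left hf, hy, gwT.1, mul_zero, add_zero] at h1
    exact one_ne_zero h1
  set v1 := (g : Matrix (Fin n) (Fin n) F) *ᵥ v with hv1
  have hv1v1 : f v1 v1 = 0 := by rw [hv1, mem_isoGrp.1 hgi, hv]
  have hv1M : UtIn hf M v1 := (hperp v hv hvW).conj hf hv hgM hgi
  refine Or.inr (le_antisymm hMG (hgen M fun x hx => ?_))
  by_cases hxW : ∀ w ∈ W, f w x = 0
  · exact hperp x hx hxW
  push Not at hxW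
  obtain ⟨a, ha, hax⟩ := hxW
  obtain ⟨b, hb, hbv⟩ := hgv
  -- a vector of `W` orthogonal to neither
  obtain ⟨e, he, hev, hex⟩ : ∃ e ∈ W, f e v1 ≠ 0 ∧ f e x ≠ 0 := by
    by_cases h1 : f a v1 = 0
    · by_cases h2 : f b x = 0
      · exact ⟨a + b, W.add_mem ha hb, by rwa [u_add_left hf, h1, zero_add],
          by rwa [u_add_left hf, h2, add_zero]⟩
      · exact ⟨b, hb, hbv, h2⟩
    · exact ⟨a, ha, h1, hax⟩
  have hv1e : f v1 e ≠ 0 := fun h => hev (u_symm_zero hf h)
  have hxe : f x e ≠ 0 := fun h => hex (u_symm_zero hf h)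
  set p := (f v1 e)⁻¹ • v1 with hp
  set r := (f x e)⁻¹ • x with hr
  have hpp : f p p = 0 := by rw [hp, u_smul_left hf, u_smul_right hf, hv1v1]; ring
  have hrr : f r r = 0 := by rw [hr, u_smul_left hf, u_smul_right hf, show f x x = 0 from hx]; ring
  obtain ⟨hok, hmove⟩ := ue_move hf (hW e he e he) (hpp.trans hrr.symm)
    (by rw [hp, u_smul_left hf, inv_mul_cancel₀ hv1e] : f p e = 1)
    (by rw [hr, u_smul_left hf, inv_mul_cancel₀ hxe] : f r e = 1)
  have hueM : ue hf e (r - p) (f p (r - p)) ∈ M := by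
    refine hSM ⟨mem_stab_of_forward fun z hz => ?_, hG ▸ ⟨ue_mem_iso hf hok, ue_mem_sl hf _ _ _⟩⟩
    rw [ue_mulVec hf hok, hW z hz e he, zero_smul, add_zero]
    exact W.add_mem hz (W.smul_mem _ he)
  have hU := ((hv1M.smul hf hv1v1 (f v1 e)⁻¹).conj hf hpp hueM (ue_mem_iso hf hok))
  rw [hmove] at hU
  rw [show x = f x e • r by rw [hr, smul_inv_smul₀ hxe]]
  exact hU.smul hf hrr _

/-- Let F be the field with q² elements and n ≥ 13, and let SU_n(q) be the group of matrices of determinant one preserving the standard unitary form Σ u_i v_i^q on F^n (the intersection of the unitary group GU_n with the kernel of the determinant). The elements of SU_n(q) stabilising a non-zero subspace on which the form vanishes identically form a maximal subgroup of SU_n(q). -/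
theorem result {F : Type*} [Field F] [Fintype F] (n q : ℕ) (hF : Fintype.card F = q ^ 2) (hn : 13 ≤ n) (W : Submodule F (Fin n → F)) (hW0 : W ≠ ⊥) (hW : Cfsg.Geo.IsTotallySingularFor (Cfsg.hermForm n F q) W) : Cfsg.Geo.IsMaximalIn (Cfsg.GU n F q ⊓ Cfsg.Geo.specialLinear (Fin n) F) (Cfsg.Geo.subspaceStabilizer W ⊓ (Cfsg.GU n F q ⊓ Cfsg.Geo.specialLinear (Fin n) F)) := by
  obtain ⟨σ, hσ, hf⟩ := isUnitaryForm_hermForm (n := n) hF
  exact main hF hf _ rfl (fun M h => su_le_of_ut hF (by omega) hσ hf h) W hW0 hW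

end Cfsg.Agent.S5653
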