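import Cfsg.Statements.S0493
import Cfsg.Agent.H30.SmallSimple

set_option autoImplicit false
open Cfsg

namespace Cfsg.Agent.S0493

/-- The numbers up to one hundred with three prime divisors. -/
theorem three_primes {n : ℕ} (h : n ≤ 100) (h3 : 3 ≤ n.primeFactors.card) :
    n = 30 ∨ n = 42 ∨ n = 60 ∨ n = 66 ∨ n = 70 ∨ n = 78 ∨ n = 84 ∨ n = 90 := by
  have key : ∀ m ∈ List.range 101, (m.divisors.filter fun d => 1 < d ∧ ∀ e ∈ List.range d, 1 < e → ¬ e ∣ d).card < 3 ∨
      m ∈ [30, 42, 60, 66, 70, 78, 84, 90] := by decide +kernel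
  rcases key n (List.mem_range.mpr (by omega)) with h1 | h1
  · exfalso
    have : n.primeFactors ⊆ n.divisors.filter fun d => 1 < d ∧ ∀ e ∈ List.range d, 1 < e → ¬ e ∣ d := by
      intro d hd
      obtain ⟨hp, hdn, hn0⟩ := Nat.mem_primeFactors.mp hd
      refine Finset.mem_filter.mpr ⟨Nat.mem_divisors.mpr ⟨hdn, hn0⟩, hp.one_lt, fun e he he1 hed => ?_⟩
      rcases hp.eq_one_or_self_of_dvd e hed with h' | h'
      · omega
      · exact absurd (List.mem_range.mp he) (by omega)
    have := Finset.card_le_card this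
    omega
  · simpa using h1

/-- A finite simple group of order at most 100 that is not cyclic has order 60. -/
theorem result {G : Type*} [Group G] [Finite G] [IsSimpleGroup G]
    (hG : ¬ IsCyclic G) (h : Nat.card G ≤ 100) : Nat.card G = 60 := by
  have hc := H30.SmallSimple.not_comm_of_not_cyclic hG
  have h3 := three_primes h (H30.SmallSimple.three_le_primeFactors hc)
  have h12 := Cfsg.Agent.S0499.result hc (by
    rcases h3 with e | e | e | e | e | e | e | e <;> rw [e] <;> decide)
  rcases h3 with e | e | e | e | e | e | e | e <;> rw [e] at h12 ⊢ <;> try (exfalso; omega)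
  haveI : Fact (Nat.Prime 7) := ⟨by norm_num⟩
  obtain ⟨d, hd, hd7, hd1, hdP⟩ := H30.SmallSimple.exists_sylow_number hc 7 (by rw [e]; norm_num)
  obtain ⟨P⟩ : Nonempty (Sylow 7 G) := inferInstance
  have hle := Sylow.card_dvd_index P
  exfalso
  have h7 : ¬ 7 ∣ d := by omega
  have hd12 : d ∣ 12 := by
    rw [e] at hd
    exact (Nat.Coprime.dvd_of_dvd_mul_left
      ((Nat.Prime.coprime_iff_not_dvd (by norm_num : Nat.Prime 7)).mpr h7).symm
      (show d ∣ 7 * 12 from hd))
  have : d ≤ 12 := Nat.le_of_dvd (by norm_num) hd12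
  interval_cases d <;> omega

end Cfsg.Agent.S0493
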