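import Cfsg.Statements.S0292
import Cfsg.Agent.Orthogonal.POmega
import Cfsg.Agent.Orthogonal.StdForms
-- import your own Cfsg.Agent.* helpers here

set_option autoImplicit false
open Cfsg

namespace Cfsg.Agent.S0292

/-- 2 |PΩ_{2m+1}(q)| = q^(m^2) prod_{i=1}^{m} (q^(2i) - 1), for q odd and m at least 3 (type B_m). -/
theorem result {F : Type*} [Field F] [Fintype F] {q : ℕ} (hF : Fintype.card F = q) (hodd : Odd q) (m : ℕ) (hm : 3 ≤ m) : 2 * Nat.card (Cfsg.POmega F (Cfsg.quadFormOdd m F)) = q ^ (m ^ 2) * ∏ i ∈ Finset.range m, (q ^ (2 * (i + 1)) - 1) := by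
  have h2 : (2 : F) ≠ 0 := Ring.two_ne_zero fun h => by
    have := FiniteField.even_card_of_char_two (F := F) h
    rw [hF] at this; rw [Nat.odd_iff] at hodd; omega
  have hQ := Orthogonal.formOdd_nondeg F m h2
  have hn : Module.finrank F (Unit ⊕ (Fin m ⊕ Fin m) → F) = 2 * m + 1 :=
    Orthogonal.finrank_formOdd F m
  have hidx : (Cfsg.Omega F ⇑(Orthogonal.formOdd F m)).index = 4 := by
    rw [Orthogonal.omega_index]
    exact Orthogonal.index_commutator_eq_four hQ h2 (by omega)
  have hc := Orthogonal.card_center_omega_eq_one hQ (by omega) (fun g hg hgm => by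
    exfalso
    have h := Orthogonal.det_eq_one_of_mem_omega g hg
    rw [hgm, Matrix.det_neg, Matrix.det_one, mul_one] at h
    have hcard : Fintype.card (Unit ⊕ (Fin m ⊕ Fin m)) = 2 * m + 1 := by simp; omega
    rw [hcard, pow_succ, pow_mul, neg_one_sq, one_pow, one_mul] at h
    exact h2 (by linear_combination -h))
  have key := Orthogonal.card_POmega_mul 4 hidx 1 hc
  rw [Orthogonal.card_O_odd m _ hQ (Orthogonal.formOdd_frame F m) (Orthogonal.formOdd_aniso F m) hn,
    Nat.card_eq_fintype_card (α := F), hF, Orthogonal.oprod_eq] at key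
  change 2 * Nat.card (Cfsg.POmega F ⇑(Orthogonal.formOdd F m)) = _
  rw [mul_assoc] at key; linarith

end Cfsg.Agent.S0292
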