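import Cfsg.Statements.S0955
import Cfsg.Agent.H35.BlockInduction
import Cfsg.Agent.Cores.PCore
-- import your own Cfsg.Agent.* helpers here

set_option autoImplicit false
open Cfsg Cfsg.Agent.H35 Cfsg.Agent.BlockBasic

namespace Cfsg.Agent.S0955

/-- Let D be a defect group of a block of the finite group G relative to a maximal ideal M of the algebraic integers containing the prime p. Then D is the largest normal p-subgroup of its own normalizer: O_p(N_G(D)) = D. -/
theorem result {G : Type*} [Group G] [Finite G] (p : ℕ) [Fact p.Prime] (M : Ideal Cfsg.AlgInt) (hM : Cfsg.IsPModular p M) (B : Set (Cfsg.IrrCharacter G)) (hB : Cfsg.IsPBlock M B) (D : Subgroup G) (hD : Cfsg.IsDefectGroup p M B D) : (Cfsg.pCore p (Subgroup.normalizer (D : Set G))).map (Subgroup.normalizer (D : Set G)).subtype = D := by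
  classical
  cases nonempty_fintype G
  set N := Subgroup.normalizer (D : Set G) with hN
  haveI := Fintype.ofFinite N
  obtain ⟨g, hg, S, hDS⟩ := id hD
  have hDp : IsPGroup p D := hDS ▸ sylImage_isPGroup S
  have hDg : D ≤ Subgroup.centralizer ({g} : Set G) := hDS ▸ sylImage_le S
  set Q := Cfsg.pCore p N with hQdef
  have hQp : IsPGroup p Q := Cfsg.Agent.Cores.pCore_isPGroup (p := p) (G := N)
  have hDQ : D ≤ Q.map N.subtype := by
    have hn : (D.subgroupOf N).Normal := Subgroup.normal_subgroupOf_iff_le_normalizer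
      Subgroup.le_normalizer |>.2 le_rfl
    have hle : D.subgroupOf N ≤ Q := Cfsg.Agent.Cores.le_pCore (N := D.subgroupOf N)
      (hDp.comap_of_injective _ N.subtype_injective)
    intro d hd
    exact ⟨⟨d, Subgroup.le_normalizer hd⟩, hle (Subgroup.mem_subgroupOf.2 hd), rfl⟩
  -- the truncated block idempotent has an irreducible character with a unit value
  set e := trunc D N (blockElem B) with he
  have hCN : Subgroup.centralizer (D : Set G) ≤ N := Subgroup.centralizer_le_normalizer _
  have hgC : g ∈ Subgroup.centralizer (D : Set G) := by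
    rw [Subgroup.mem_centralizer_iff]
    exact fun q hq => Subgroup.mem_centralizer_singleton_iff.1 (hDg hq)
  have hec : IsCentralElt e := isCentralElt_trunc le_rfl (isCentralElt_blockElem B)
  have hei : IsIntElt M e := isIntElt_trunc hM D N (isIntElt_blockElem hM hB)
  have heid : ∀ c : N, MemLocalIdeal M ((e * e).coeff c - e.coeff c) := fun c => by
    have := trunc_mul (H := N) hM hDp hCN (isCentralElt_blockElem B) (isIntElt_blockElem hM hB)
      (isCentralElt_blockElem B) (isIntElt_blockElem hM hB) c
    rw [blockElem_idem] at this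
    simpa [he] using memLocalIdeal_neg this
  obtain ⟨φ, hφ⟩ : ∃ φ : IrrCharacter N, ¬ MemLocalIdeal M (omega (φ : N → ℂ) e) := by
    by_contra h
    push Not at h
    apply hg.2.1
    have := coeff_mem_of_omega_mem hM hec hei heid h ⟨g, hCN hgC⟩
    rwa [he, coeff_trunc_of_mem D N _ hgC, coeff_blockElem] at this
  obtain ⟨χ, hχ⟩ := isPBlock_nonempty hM hB
  obtain ⟨W, hW, hWi, hWe⟩ := blockElem_eq_classSum_mul hM hB g hχ (hg.2.2 χ hχ)
  have hK : ¬ MemLocalIdeal M (omega (φ : N → ℂ) (trunc D N (classSum g))) := by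
    intro h
    apply hφ
    have h1 := omega_trunc_mul (H := N) hM hDp hCN le_rfl φ (isCentralElt_classSum g)
      (isIntElt_classSum hM g) hW hWi
    rw [← hWe] at h1
    have h2 := memLocalIdeal_mul hM (memLocalRing_omega hM φ.2 (z := trunc D N W)
      (isCentralElt_trunc le_rfl hW)
      (isIntElt_trunc hM D N hWi)) h
    simpa [he, mul_comm] using memLocalIdeal_add hM h1 h2
  haveI : Finite (ConjClasses N) := Finite.of_surjective _ ConjClasses.mk_surjective
  haveI : Fintype (ConjClasses N) := Fintype.ofFinite _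
  rw [omega_eq_sum_classes (Cfsg.Agent.CharBasic.IsIrr.isClassFunction φ.2)
    (isCentralElt_trunc le_rfl (isCentralElt_classSum g))] at hK
  obtain ⟨c, hgc, hcu⟩ : ∃ c : N, IsConj g (c : G) ∧
      ¬ MemLocalIdeal M (centralChar (φ : N → ℂ) c) := by
    by_contra h
    push Not at h
    refine hK (memLocalIdeal_sum hM _ _ fun L _ => ?_)
    by_cases hgc : IsConj g ((L.out : N) : G)
    · exact memLocalIdeal_mul hM (isIntElt_trunc hM D N (isIntElt_classSum hM g) _) (h _ hgc)
    · by_cases hLC : ((L.out : N) : G) ∈ Subgroup.centralizer (D : Set G)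
      · rw [coeff_trunc_of_mem D N _ hLC, classSum, coeff_ofFun, if_neg hgc, zero_mul]
        exact memLocalIdeal_zero hM
      · rw [coeff_trunc_of_not_mem D N _ hLC, zero_mul]
        exact memLocalIdeal_zero hM
  obtain ⟨c', hcc', hc'Q⟩ : ∃ c' : N, IsConj c c' ∧ c' ∈ Subgroup.centralizer (Q : Set N) := by
    by_contra h
    push Not at h
    exact hcu (centralChar_mem_of_no_centralizing hM Q hQp h φ)
  have hu : ¬ MemLocalIdeal M (blockCoeff B (c' : G)) := by
    rw [blockCoeff_eq_of_isConj B (show IsConj g (c' : G) from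
      hgc.trans (N.subtype.map_isConj hcc'))]
    exact hg.2.1
  obtain ⟨E, hE, hQE⟩ := exists_defectGroup_ge hM hB hu (Q.map N.subtype) (hQp.map _) (by
    rintro _ ⟨q, hq, rfl⟩
    exact Subgroup.mem_centralizer_singleton_iff.2
      (congrArg Subtype.val (Subgroup.mem_centralizer_iff.1 hc'Q q hq)))
  refine (Subgroup.eq_of_le_of_card_ge hDQ ?_).symm
  rw [card_defectGroup hM hB hD, ← card_defectGroup hM hB hE]
  exact Subgroup.card_le_of_le hQE

end Cfsg.Agent.S0955
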