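import Cfsg.Statements.S5394
import Cfsg.Agent.H95.GolayInv
open Cfsg.Agent.H95 Cfsg.Agent.Golay

set_option autoImplicit false
open Cfsg

namespace Cfsg.Agent.S5394

/-- The automorphism group of the length-24 code built from the squares modulo 23 has exactly two conjugacy classes of involutions: an involution either fixes exactly the eight points of an octad or has no fixed points, both kinds occur, and any two involutions of the same kind are conjugate in the group. -/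
theorem result : (∀ g ∈ Cfsg.M24, orderOf g = 2 → (Finset.univ.filter fun p => g p = p) ∈ Cfsg.octads ∨ ∀ p, g p ≠ p) ∧ (∃ g ∈ Cfsg.M24, orderOf g = 2 ∧ (Finset.univ.filter fun p => g p = p) ∈ Cfsg.octads) ∧ (∃ g ∈ Cfsg.M24, orderOf g = 2 ∧ ∀ p, g p ≠ p) ∧ ∀ g ∈ Cfsg.M24, ∀ h ∈ Cfsg.M24, orderOf g = 2 → orderOf h = 2 → ((∀ p, g p ≠ p) ↔ (∀ p, h p ≠ p)) → ∃ k ∈ Cfsg.M24, k * g * k⁻¹ = h := by
  have hsq : ∀ g : Equiv.Perm Cfsg.GolayPt, orderOf g = 2 → g ^ 2 = 1 ∧ g ≠ 1 := fun g h =>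
    ⟨h ▸ pow_orderOf_eq_one g, fun e => by rw [e, orderOf_one] at h; omega⟩
  obtain ⟨h8, h0⟩ := exists_involutions
  refine ⟨fun g hg h => fixed_octad hg (hsq g h).1 (hsq g h).2, ⟨_, h8⟩, ⟨_, h0⟩, ?_⟩
  intro g hg h hh h2g h2h hiff
  rcases fixed_octad hg (hsq g h2g).1 (hsq g h2g).2 with og | og
  · have oh : (Finset.univ.filter fun p => h p = p) ∈ Cfsg.octads := by
      rcases fixed_octad hh (hsq h h2h).1 (hsq h h2h).2 with oh | oh
      · exact oh
      · have he : (Finset.univ.filter fun p => g p = p) = ∅ :=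
          Finset.filter_eq_empty_iff.2 fun x _ => hiff.2 oh x
        have h8' := og.2
        rw [he, Finset.card_empty] at h8'
        omega
    obtain ⟨a, ha, ea⟩ := conj_invEight hg (hsq g h2g).2 og
    obtain ⟨b, hb, eb⟩ := conj_invEight hh (hsq h h2h).2 oh
    refine ⟨b⁻¹ * a, M24.mul_mem (M24.inv_mem hb) ha, ?_⟩
    calc b⁻¹ * a * g * (b⁻¹ * a)⁻¹ = b⁻¹ * (a * g * a⁻¹) * b := by group
      _ = h := by rw [ea, ← eb]; group
  · obtain ⟨a, ha, ea⟩ := conj_invFree hg (hsq g h2g).1 og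
    obtain ⟨b, hb, eb⟩ := conj_invFree hh (hsq h h2h).1 (hiff.1 og)
    refine ⟨b⁻¹ * a, M24.mul_mem (M24.inv_mem hb) ha, ?_⟩
    calc b⁻¹ * a * g * (b⁻¹ * a)⁻¹ = b⁻¹ * (a * g * a⁻¹) * b := by group
      _ = h := by rw [ea, ← eb]; group

end Cfsg.Agent.S5394
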