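import Cfsg.Statements.S5599
import Cfsg.Agent.Golay.Stabilisers
import Cfsg.Agent.Golay.Mathieu

set_option autoImplicit false
open scoped Pointwise
open Cfsg

namespace Cfsg.Agent.S5599

open Cfsg.Agent.Golay
open scoped Pointwise

lemma mem_M22 {σ : Equiv.Perm GolayPt} :
    σ ∈ Cfsg.Spor.M22 ↔ σ ∈ Cfsg.M24 ∧ σ none = none ∧ σ (some 0) = some 0 := by
  rw [spor_M22_eq, stabGrp_or [] _ (by norm_num : (0 : ℕ) < 24),
    stabGrp_or [] _ (by norm_num : (23 : ℕ) < 24), stabGrp_nil_zero, pt_values.1, pt_values.2]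
  exact ⟨fun h => ⟨h.1.1, h.1.2, h.2⟩, fun h => ⟨⟨h.1, h.2.1⟩, h.2.2⟩⟩

lemma orbit_facts :
    (lvlTrans m24Chain 2 ++ lvlTrans m24Chain 3).all (inStab [] (0 ||| 2 ^ 23 ||| 2 ^ 0)) = true ∧
    ((List.range 24).all fun q => q == 23 || q == 0 || q == 1 ||
      (lvlTrans m24Chain 3).any fun u => app u q != q) = true ∧
    ((List.range 24).all fun q => q == 23 || q == 0 ||
      (lvlTrans m24Chain 2).any fun u => app u 1 == q) = true := by
  decide +kernel

lemma level_fix : ((lvlTrans m24Chain 3).all fun u => app u 1 == 1) = true := by decide +kernel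


/-- In the automorphism group of the length-24 code, the two-point Mathieu group (permutations of the code's group fixing the extra point and the residue 0) has index 2 in the setwise stabiliser of that pair of points, and an element of the code's group interchanging the two points normalises the two-point group and induces on it, by conjugation, an automorphism that is not inner. -/
theorem result (g : Equiv.Perm Cfsg.GolayPt) (hg : g ∈ Cfsg.M24) (h₁ : g none = some 0) (h₂ : g (some 0) = none) : Cfsg.Spor.M22.relIndex (Cfsg.M24 ⊓ MulAction.stabilizer (Equiv.Perm Cfsg.GolayPt) ({none, some 0} : Finset Cfsg.GolayPt)) = 2 ∧ (∀ x ∈ Cfsg.Spor.M22, g * x * g⁻¹ ∈ Cfsg.Spor.M22) ∧ ¬ ∃ h ∈ Cfsg.Spor.M22, ∀ x ∈ Cfsg.Spor.M22, g * x * g⁻¹ = h * x * h⁻¹ := by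
  have hgz : g none = some 0 := h₁
  refine ⟨?_, fun x hx => ?_, fun ⟨h, hh, heq⟩ => ?_⟩
  · rw [Subgroup.relIndex, Subgroup.index_eq_two_iff']
    have hgK : g ∈ Cfsg.M24 ⊓ MulAction.stabilizer (Equiv.Perm GolayPt)
        ({none, some 0} : Finset GolayPt) := by
      refine ⟨hg, smul_eq_of_image (fun p hp => ?_) le_rfl⟩
      simp only [Finset.mem_insert, Finset.mem_singleton] at hp ⊢
      rcases hp with rfl | rfl
      exacts [.inr h₁, .inl h₂]
    refine ⟨⟨g, hgK⟩, fun b => ?_⟩
    have hmem : ∀ p ∈ ({none, some 0} : Finset GolayPt),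
        (b : Equiv.Perm GolayPt) p ∈ ({none, some 0} : Finset GolayPt) := fun p hp => by
      have := Finset.smul_mem_smul_finset (a := (b : Equiv.Perm GolayPt)) hp
      rwa [MulAction.mem_stabilizer_iff.1 b.2.2] at this
    simp only [Subgroup.mem_subgroupOf, mem_M22, Subgroup.coe_mul, Equiv.Perm.mul_apply]
    have b1 := hmem none (by simp)
    have b2 := hmem (some 0) (by simp)
    simp only [Finset.mem_insert, Finset.mem_singleton] at b1 b2
    have hne : (b : Equiv.Perm GolayPt) none ≠ (b : Equiv.Perm GolayPt) (some 0) :=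
      (b : Equiv.Perm GolayPt).injective.ne (by simp)
    rcases b1 with b1 | b1
    · refine .inr ⟨⟨b.2.1, b1, b2.resolve_left fun e => hne (b1.trans e.symm)⟩, ?_⟩
      rintro ⟨-, h, -⟩
      rw [b1, h₁] at h
      cases h
    · refine .inl ⟨⟨mul_mem hg b.2.1, by rw [b1, h₂],
        by rw [b2.resolve_right fun e => hne (b1.trans e.symm), h₁]⟩, ?_⟩
      rintro ⟨-, h, -⟩
      rw [b1] at h
      cases h
  · rw [mem_M22] at hx ⊢
    have e1 : g⁻¹ (none : GolayPt) = some 0 := by
      rw [Equiv.Perm.inv_def, Equiv.symm_apply_eq, h₂]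
    have e2 : g⁻¹ (some 0 : GolayPt) = none := by
      rw [Equiv.Perm.inv_def, Equiv.symm_apply_eq, h₁]
    refine ⟨mul_mem (mul_mem hg hx.1) (inv_mem hg), ?_, ?_⟩
    · rw [Equiv.Perm.mul_apply, Equiv.Perm.mul_apply, e1, hx.2.2, h₂]
    · rw [Equiv.Perm.mul_apply, Equiv.Perm.mul_apply, e2, hx.2.1, h₁]
  · obtain ⟨hhM, hh1, hh2⟩ := mem_M22.1 hh
    set c := h⁻¹ * g with hc
    have hcM : c ∈ Cfsg.M24 := mul_mem (inv_mem hhM) hg
    have hcomm : ∀ x ∈ Cfsg.Spor.M22, ∀ p, c (x p) = x (c p) := by
      intro x hx p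
      have := heq x hx
      have h' : c * x = x * c := by
        rw [hc]
        calc h⁻¹ * g * x = h⁻¹ * (g * x * g⁻¹) * g := by group
          _ = h⁻¹ * (h * x * h⁻¹) * g := by rw [this]
          _ = x * (h⁻¹ * g) := by group
      exact DFunLike.congr_fun h' p
    have c1 : c none = some 0 := by
      rw [hc, Equiv.Perm.mul_apply, h₁, Equiv.Perm.inv_def, Equiv.symm_apply_eq, hh2]
    have c2 : c (some 0) = none := by
      rw [hc, Equiv.Perm.mul_apply, h₂, Equiv.Perm.inv_def, Equiv.symm_apply_eq, hh1]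
    obtain ⟨hst, hmove, hcov⟩ := orbit_facts
    rw [List.all_eq_true] at hst hmove hcov
    have hfix1 : c (pt 1) = pt 1 := by
      have h0 : ∀ i, i = 23 ∨ i = 0 → c (pt 1) ≠ pt i := by
        rintro i (rfl | rfl) e
        · rw [pt_values.1, ← c2, c.injective.eq_iff] at e
          exact absurd e (by decide)
        · rw [pt_values.2, ← c1, c.injective.eq_iff] at e
          exact absurd e (by decide)
      have hq := hmove (idx (c (pt 1))) (List.mem_range.2 (idx_lt _))
      simp only [Bool.or_eq_true, beq_iff_eq, List.any_eq_true, bne_iff_ne, ne_eq] at hq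
      rcases hq with ((e | e) | e) | ⟨u, hu, hne⟩
      · exact absurd (by rw [← e, pt_idx]) (h0 23 (.inl rfl))
      · exact absurd (by rw [← e, pt_idx]) (h0 0 (.inr rfl))
      · rw [← pt_idx (c (pt 1)), e]
      · refine absurd ?_ hne
        have hu' := mem_stabGrp_of_inStab (hst u (List.mem_append.2 (Or.inr hu)))
        have hv : validT u = true := by
          have h' := hst u (List.mem_append.2 (Or.inr hu))
          simp only [inStab, Bool.and_eq_true] at h'
          exact validT_of_inM24 h'.1.1
        have hu1 : mkPerm u (pt 1) = pt 1 := by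
          have hmem : app u 1 = 1 := by
            have h3 := List.all_eq_true.1 level_fix u hu
            exact eq_of_beq h3
          rw [mkPerm_pt hv (by norm_num), hmem]
        have := hcomm _ (spor_M22_eq ▸ hu') (pt 1)
        rw [hu1] at this
        rw [← idx_mkPerm hv, ← this]
    have hall : ∀ p : GolayPt, p ≠ none → p ≠ some 0 → c p = p := by
      intro p hp1 hp2
      have hp := hcov (idx p) (List.mem_range.2 (idx_lt p))
      simp only [Bool.or_eq_true, beq_iff_eq, List.any_eq_true] at hp
      rcases hp with (e | e) | ⟨u, hu, he⟩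
      · exact absurd (by rw [← pt_idx p, e]; exact pt_values.1) hp1
      · exact absurd (by rw [← pt_idx p, e]; exact pt_values.2) hp2
      · have hu' := mem_stabGrp_of_inStab (hst u (List.mem_append.2 (Or.inl hu)))
        have hv : validT u = true := by
          have h' := hst u (List.mem_append.2 (Or.inl hu))
          simp only [inStab, Bool.and_eq_true] at h'
          exact validT_of_inM24 h'.1.1
        have hup : mkPerm u (pt 1) = p := by rw [mkPerm_pt hv (by norm_num), he, pt_idx]
        rw [← hup, hcomm _ (spor_M22_eq ▸ hu') (pt 1), hfix1]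
    have hsw : c = Equiv.swap (pt 23) (pt 0) := by
      ext p : 1
      rw [pt_values.1, pt_values.2]
      rcases eq_or_ne p none with rfl | n1
      · rw [c1, Equiv.swap_apply_left]
      rcases eq_or_ne p (some 0) with rfl | n2
      · rw [c2, Equiv.swap_apply_right]
      rw [hall p n1 n2, Equiv.swap_apply_of_ne_of_ne n1 n2]
    rw [hsw] at hcM
    exact absurd ((inM24_iff (validT_tblOf _)).2 (by rwa [mkPerm_tblOf])) (by decide +kernel)

end Cfsg.Agent.S5599
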