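import Cfsg.Statements.S5213
import Cfsg.Agent.H29.RankTwoFusion.Main

set_option autoImplicit false
set_option linter.style.haveILetI false
open Cfsg

namespace Cfsg.Agent.S5213

/-- Let S be a finite 2-group of 2-rank 2 (it has an elementary abelian subgroup of order 4 and none of order 8) and F a saturated fusion system over S with trivial centre. Then S is dihedral, semidihedral, wreathed, homocyclic abelian (a direct product of cyclic groups of one common order), or isomorphic to a Sylow 2-subgroup of the projective special unitary group PSU₃(4) (realised over the field with 16 elements). -/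
theorem result {Ω : Type*} [Group Ω] {S : Subgroup Ω} [Finite S] (hS : IsPGroup 2 S) (F : Cfsg.FusionSystem S) (hF : F.IsSaturated 2) (hr : Cfsg.PRankAtLeast 2 2 ↥S ∧ ¬ Cfsg.PRankAtLeast 2 3 ↥S) (hZ : F.center = ⊥) {K : Type*} [Field K] [Fintype K] (hK : Fintype.card K = 16) : (∃ m : ℕ, Nonempty (↥S ≃* DihedralGroup m)) ∨ Cfsg.IsQuasiDihedral ↥S ∨ Cfsg.IsWreathed ↥S ∨ (∃ n k : ℕ, Nonempty (↥S ≃* Multiplicative (Fin k → ZMod (2 ^ n)))) ∨ ∃ T : Sylow 2 (Cfsg.PSU 3 K 4), Nonempty (↥S ≃* ↥(T : Subgroup (Cfsg.PSU 3 K 4))) := by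
  classical
  haveI : Fact (Nat.Prime 2) := ⟨Nat.prime_two⟩
  have hrk : H29.RankTwoFusion.RankTwo S := by
    intro A hA hc h2
    by_contra h
    refine hr.2 ⟨A.subgroupOf S, ?_, fun x hx => Subtype.ext (h2 (x : Ω) hx), ?_⟩
    · exact ⟨⟨fun x y => Subtype.ext (Subtype.ext
        (congrArg Subtype.val (hc.is_comm.comm ⟨_, x.2⟩ ⟨_, y.2⟩) :))⟩⟩
    · rw [Nat.card_congr (Subgroup.subgroupOfEquivOfLe hA).toEquiv]
      haveI := Cfsg.Agent.FusionSys.finite_of_le hA
      obtain ⟨k, hk⟩ := (hS.to_le hA).exists_card_eq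
      rw [hk] at h ⊢
      refine Nat.pow_le_pow_right two_pos ?_
      by_contra h3
      exact h ((Nat.pow_le_pow_right two_pos (show k ≤ 2 by omega)).trans_eq (by norm_num))
  obtain ⟨T⟩ := (inferInstance : Nonempty (Sylow 2 (Cfsg.PSU 3 K 4)))
  have hr1 : ¬ ∀ A : Subgroup Ω, A ≤ S → IsMulCommutative A → (∀ a ∈ A, a ^ 2 = 1) → Nat.card A ≤ 2 := by
    intro h
    obtain ⟨A, hc, h2, hcard⟩ := hr.1
    have h' := h (A.map S.subtype) (Subgroup.map_subtype_le A) ⟨⟨?_⟩⟩ ?_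
    · rw [Subgroup.card_map_of_injective S.subtype_injective] at h'
      have := hcard.trans h'
      norm_num at this
    · rintro ⟨_, x, hx, rfl⟩ ⟨_, y, hy, rfl⟩
      have h := congrArg (fun u : A => ((u : S) : Ω)) (hc.is_comm.comm ⟨x, hx⟩ ⟨y, hy⟩)
      exact Subtype.ext h
    · rintro _ ⟨x, hx, rfl⟩
      rw [← map_pow, h2 x hx, map_one]
  rcases H29.RankTwoFusion.main hS F hF hrk hr1 hZ hK T with ⟨m, -, h⟩ | h | h | ⟨n, -, ⟨e⟩⟩ | h
  · exact Or.inl ⟨m, h⟩
  · exact Or.inr (Or.inl h)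
  · exact Or.inr (Or.inr (Or.inl h))
  · refine Or.inr (Or.inr (Or.inr (Or.inl ⟨n, 2, ⟨e.trans ?_⟩⟩)))
    exact AddEquiv.toMultiplicative
      { toEquiv := (piFinTwoEquiv fun _ => ZMod (2 ^ n)).symm
        map_add' := fun a b => funext fun j => by fin_cases j <;> rfl }
  · exact Or.inr (Or.inr (Or.inr (Or.inr ⟨T, h⟩)))

end Cfsg.Agent.S5213
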