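import Cfsg.Statements.S5337
import Cfsg.Agent.H91.AbelianSys

set_option autoImplicit false
open Cfsg

namespace Cfsg.Agent.S5337

open Cfsg.Agent.FusionSys Cfsg.FusionSystem in
theorem hom_inner_eq {Ω : Type*} [Group Ω] {T P : Subgroup Ω} (hab : ∀ x ∈ T, ∀ y ∈ T, x * y = y * x)
    {φ : P →* Ω} (hφ : φ ∈ (Cfsg.innerFusionSystem T).Hom P) (x : P) : φ x = x := by
  obtain ⟨hP, g, hg, h⟩ := hφ
  rw [h x, hab g hg x (hP x.2), mul_inv_cancel_right]

open Cfsg.Agent.FusionSys Cfsg.FusionSystem in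
theorem inner_isSaturated {Ω : Type*} [Group Ω] {T : Subgroup Ω} [Finite T] {p : ℕ} [Fact p.Prime]
    (hT : IsPGroup p T) (hab : ∀ x ∈ T, ∀ y ∈ T, x * y = y * x) :
    (Cfsg.innerFusionSystem T).IsSaturated p := by
  intro P hP
  refine ⟨P, isConj_refl _ hP, (isFullyAutomized_iff hT).2 ⟨hP, ?_⟩,
    receptive_of_extend hP fun R f N hf hRN hN => ?_⟩
  · have hle : (Cfsg.innerFusionSystem T).autGroup P ≤ autInducedBy T P := fun α hα => by
      obtain ⟨-, a, ha, he⟩ := isMap_inner_iff.1 ((mem_autGroup_iff hP).1 hα)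
      have hn : a ∈ Subgroup.normalizer (P : Set Ω) :=
        haveI := finite_of_le hP
        mem_normalizer_of_maps fun y hy => he y hy ▸ autMap_mem α hy
      exact mem_autInducedBy.2 ⟨a, ha, hn, aut_ext fun y hy => by
        rw [he y hy, autMap_conjAut hn hy, conjMap_apply]⟩
    rw [Subgroup.relIndex_eq_one.2 hle, Nat.dvd_one]
    exact (Fact.out : p.Prime).ne_one
  · obtain ⟨hR, a, ha, he⟩ := isMap_inner_iff.1 hf.isMap
    refine ⟨id, isMap_id _ fun x hx => ((hN x).1 hx).1, fun y hy => ?_⟩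
    rw [he y hy, hab a ha y (hR hy), mul_inv_cancel_right]
    rfl

open Cfsg.Agent.FusionSys Cfsg.FusionSystem in
theorem inner_isNormal {Ω : Type*} [Group Ω] {S T : Subgroup Ω} [Finite S] {p : ℕ} [Fact p.Prime]
    (hS : IsPGroup p S) {F : Cfsg.FusionSystem S} (hF : F.IsSaturated p) (hTS : T ≤ S)
    (hab : ∀ x ∈ S, ∀ y ∈ S, x * y = y * x)
    (hT : ∀ (P : Subgroup Ω) (f : Ω → Ω), P ≤ T → IsMap F P f →
      ∃ α ∈ F.autGroup T, ∀ x ∈ P, autMap α x = f x) :
    (Cfsg.innerFusionSystem T).IsNormalIn F p := by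
  haveI := finite_of_le hTS
  have habT : ∀ x ∈ T, ∀ y ∈ T, x * y = y * x := fun x hx y hy => hab x (hTS hx) y (hTS hy)
  have hTT : (Cfsg.innerFusionSystem T).IsSubsystemOf F := by
    rintro P φ ⟨hP, g, hg, h⟩
    exact mem_hom_of_isMap (isMap_conj F (hP.trans hTS) (hTS hg)) h
  refine ⟨⟨inner_isSaturated (hS.to_le hTS) habT, hF, hTT, ⟨hTS, fun R hR φ hφ x => ?_⟩, ?_, ?_⟩, ?_⟩
  · obtain ⟨α, -, hα⟩ := hT R _ hR (isMap_of_mem hφ)
    rw [← homFun_coe φ x, ← hα x x.2]
    exact autMap_mem α (hR x.2)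
  · intro P hPT φ hφ α hα
    have hle : (P.subgroupOf T).map (T.subtype.comp α.toMonoidHom) ≤ T := by
      rintro _ ⟨x, -, rfl⟩
      exact (α x).2
    refine ⟨Subgroup.subtype _, ⟨hle, 1, T.one_mem, fun x => by simp; rfl⟩, fun x hφx hαx => ?_⟩
    show ((α ⟨x, hPT x.2⟩ : T) : Ω) = _
    congr 2
    exact Subtype.ext (hom_inner_eq habT hφ x).symm
  · intro P hP φ hφ
    obtain ⟨α, hα, he⟩ := hT P _ hP (isMap_of_mem hφ)
    refine ⟨α, hα, P.subtype, ⟨hP, 1, T.one_mem, fun x => by simp⟩, fun x hx => ?_⟩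
    rw [← homFun_coe φ x, ← he x x.2, autMap_apply α (hP x.2)]
    rfl
  · intro α hα
    refine ⟨1, one_mem _, fun x => ?_, fun c hc => ?_⟩
    · obtain ⟨-, g, hg, he⟩ := isMap_inner_iff.1 ((mem_autGroup_iff le_rfl).1 hα)
      show (x : Ω) = _
      rw [← autMap_coe α x, he x x.2, habT g hg x x.2, mul_inv_cancel_right]
    · show (c : Ω)⁻¹ * c ∈ _
      rw [inv_mul_cancel]
      exact one_mem _

open Cfsg.Agent.FusionSys Cfsg.Agent.H91 Cfsg.FusionSystem in
theorem simple_iff {Ω : Type*} [Group Ω] {S : Subgroup Ω} [Finite S] {p : ℕ} [Fact p.Prime]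
    (hS : IsPGroup p S) (F : Cfsg.FusionSystem S) (hF : F.IsSaturated p)
    (hab : ∀ x ∈ S, ∀ y ∈ S, x * y = y * x) :
    F.IsSimple p ↔ (Nat.card S = p ∧ ∀ P : Subgroup Ω, F.Hom P = (Cfsg.innerFusionSystem S).Hom P) := by
  constructor
  · rintro ⟨-, hne, hsimp⟩
    rcases hsimp S _ (inner_isNormal hS hF le_rfl hab fun P f _ hf => exists_aut_of_abelian hS hF hab hf)
      with h | ⟨-, heq⟩
    · exact absurd h hne
    refine ⟨?_, fun P => (heq P).symm⟩
    haveI : Nontrivial S := (Subgroup.nontrivial_iff_ne_bot S).2 hne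
    obtain ⟨n, hn, hcard⟩ := hS.nontrivial_iff_card.1 inferInstance
    obtain ⟨t, ht⟩ := exists_prime_orderOf_dvd_card' (G := S) p (hcard ▸ dvd_pow_self p (by omega))
    set T := Subgroup.zpowers (t : Ω) with hTdef
    have hTS : T ≤ S := Subgroup.zpowers_le.2 t.2
    have hTcard : Nat.card T = p := by rw [Nat.card_zpowers, Subgroup.orderOf_coe, ht]
    have hT := inner_isNormal (T := T) hS hF hTS hab fun P f hP hf => by
      refine ⟨1, one_mem _, fun x hx => ?_⟩
      obtain ⟨φ, hφ, he⟩ := hf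
      rw [← heq] at hφ
      rw [← he ⟨x, hx⟩, hom_inner_eq hab hφ, autMap_apply _ (hP hx)]
      rfl
    rcases hsimp T _ hT with h | ⟨h, -⟩
    · exact absurd (Subgroup.card_bot : Nat.card (⊥ : Subgroup Ω) = 1)
        (by rw [← h, hTcard]; exact (Fact.out : p.Prime).ne_one)
    · rw [← h, hTcard]
  · rintro ⟨hcard, heq⟩
    refine ⟨hF, fun h => ?_, fun T E hE => ?_⟩
    · rw [h, Subgroup.card_bot] at hcard
      exact (Fact.out : p.Prime).ne_one hcard.symm
    · obtain ⟨⟨-, -, hsub, hTsc, -, -⟩, -⟩ := hE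
      haveI := finite_of_le hTsc.1
      rcases (Nat.dvd_prime (Fact.out : p.Prime)).1 (hcard ▸ Subgroup.card_dvd_of_le hTsc.1) with h | h
      · exact Or.inl (Subgroup.eq_bot_of_card_eq T h)
      · have hTS : T = S := Subgroup.eq_of_le_of_card_ge hTsc.1 (by rw [h, hcard])
        subst hTS
        exact Or.inr ⟨rfl, fun P => Set.Subset.antisymm (hsub P) fun φ hφ =>
          innerFusionSystem_le E P (heq P ▸ hφ)⟩


/-- Let F be a saturated fusion system over a finite abelian p-group S. Then F is simple if and only if S has order p and F is the inner system of S (whose only maps are the inclusions, S being abelian). -/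
theorem result {Ω : Type*} [Group Ω] {S : Subgroup Ω} [Finite S] (p : ℕ) [Fact p.Prime] (hS : IsPGroup p S) (F : Cfsg.FusionSystem S) (hF : F.IsSaturated p) (hab : ∀ x ∈ S, ∀ y ∈ S, x * y = y * x) : F.IsSimple p ↔ (Nat.card S = p ∧ ∀ P : Subgroup Ω, F.Hom P = (Cfsg.innerFusionSystem S).Hom P) := by
  exact simple_iff hS F hF hab

end Cfsg.Agent.S5337
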