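import Cfsg.Statements.S1205
import Cfsg.Agent.H39.SemiDihedralFusion

set_option autoImplicit false
open Cfsg

namespace Cfsg.Agent.S1205

open Cfsg.Agent Cfsg.Agent.H39

/-- Let G be a finite group with quasi-dihedral Sylow 2-subgroup S, T a Klein four-subgroup and Q a quaternion subgroup of order 8 of S, with |N_G(T) : C_G(T)| = 2 and |N_G(Q) : Q C_G(Q)| = 6. Then G has a normal subgroup K of index 2 whose Sylow 2-subgroups are generalized quaternion and which has no subgroup of index 2; the centre of S is weakly closed in S; and G has exactly two classes of involutions and one class of elements of order 4. -/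
theorem result {G : Type*} [Group G] [Finite G] (S : Sylow 2 G) (hS : Cfsg.IsQuasiDihedral (S : Subgroup G)) (T : Subgroup G) (hT : IsKleinFour T) (hTS : T ≤ S) (Q : Subgroup G) (hQS : Q ≤ S) (eQ : Q ≃* QuaternionGroup 2) (h₁ : (Subgroup.centralizer (T : Set G)).relIndex (Subgroup.normalizer (T : Set G)) = 2) (h₂ : (Q ⊔ Subgroup.centralizer (Q : Set G)).relIndex (Subgroup.normalizer (Q : Set G)) = 6) : (∃ K : Subgroup G, K.Normal ∧ K.index = 2 ∧ (∀ P : Sylow 2 ↥K, ∃ m : ℕ, 1 ≤ m ∧ Nonempty ((P : Subgroup ↥K) ≃* QuaternionGroup (2 ^ m))) ∧ (∀ H : Subgroup ↥K, H.index ≠ 2)) ∧ Cfsg.IsWeaklyClosed ((Subgroup.center (S : Subgroup G)).map (S : Subgroup G).subtype) (S : Subgroup G) ∧ Nat.card {C : ConjClasses G // ∃ t : G, orderOf t = 2 ∧ ConjClasses.mk t = C} = 2 ∧ Nat.card {C : ConjClasses G // ∃ t : G, orderOf t = 4 ∧ ConjClasses.mk t = C} = 1 := by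
  obtain ⟨m, x, y, h⟩ := exists_sdGen hS
  have : Fact (Nat.Prime 2) := ⟨Nat.prime_two⟩
  have hacts : ∀ T' : Subgroup G, T' ≤ (S : Subgroup G) → IsKleinFour T' →
      Subgroup.normalizer (T' : Set G) ≤ actsLike (S : Subgroup G) T' := fun T' hT'S hT' =>
    h.klein_acts_of_two hT' hT'S ((h.klein_relIndex_eq hT hT' hTS hT'S).trans h₁)
  obtain ⟨K, hKn, hK2, hKS⟩ := h.exists_index_two 1 fun a g ha hag =>
    h.parity_invariant 1 (Or.inr hacts) (Or.inl rfl) ha hag
  set z : G := ((x ^ (4 * 2 ^ m : ℤ) : (S : Subgroup G)) : G) with hz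
  have hzc : ∀ s ∈ (S : Subgroup G), s * z = z * s := fun s hs =>
    congrArg Subtype.val (h.z_central ⟨s, hs⟩)
  have hfix : ∀ (a g : G), a ∈ (S : Subgroup G) → g⁻¹ * a * g ∈ (S : Subgroup G) →
      (a = z ↔ g⁻¹ * a * g = z) := by
    intro a g ha hag
    have key : ∀ a : G, ∀ s ∈ (S : Subgroup G), (a = z ↔ s⁻¹ * a * s = z) := by
      intro a s hs
      rw [mul_assoc, inv_mul_eq_iff_eq_mul, hzc s hs, mul_left_inj]
    refine h.fusion (fun u v => (u = z ↔ v = z)) (fun _ _ => Iff.rfl) (fun _ _ _ => Iff.trans)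
      (fun a _ s hs => key a s hs) ?_ ?_ ha hag
    · intro T' hT'S hT' g hg a ha
      obtain ⟨-, s, hs, -, hsa⟩ := hacts T' hT'S hT' hg
      rw [hsa a ha]; exact key a s hs
    · intro Q' hQ'S hQ' g hg a ha
      obtain ⟨-, -, -, -, hord⟩ := h.quat_exists hQ'.some hQ'S
      have hconj : orderOf (g⁻¹ * a * g) = orderOf a := by
        simpa using H39.orderOf_conj g⁻¹ a
      constructor
      · intro e
        exact hord _ ((Subgroup.mem_normalizer_iff''.mp hg a).mp ha) (hconj.trans (e ▸ h.orderOf_zG))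
      · intro e
        exact hord _ ha (hconj.symm.trans (e ▸ h.orderOf_zG))
  refine ⟨⟨K, hKn, hK2, fun P => ?_, fun L hL => ?_⟩, ⟨?_, fun g hg => ?_⟩,
    card_classes_eq_two h.orderOf_zG h.orderOf_yG ?_ fun t ht => h.conj_ord_two ht,
    card_classes_eq_one h.orderOf_wG fun t ht =>
      (h.conj_ord_four ht).elim id fun e => e.trans (h.w_conj_b eQ hQS h₂).symm⟩
  · obtain ⟨e⟩ := sylow_of_normal_equiv S K P
    obtain ⟨f⟩ := h.quaternion_equiv
    exact ⟨m + 1, Nat.le_add_left 1 m, ⟨(e.trans (MulEquiv.subgroupCongr hKS)).trans f⟩⟩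
  · refine index_ne_of_sylow_le S K L (fun a ha => ?_) hL
    have hodd : ∀ k : ℤ, ∀ u : K, (u : G) = ((x ^ (2 * k + 1) * y : (S : Subgroup G)) : G) → u ∈ L :=
      h.outs_odd_mem eQ hQS h₂ hKS.ge (fun g => ⟨1, by
        rw [pow_one, show 4 = 2 * 2 from rfl, pow_mul]
        exact pow_mem (Subgroup.sq_mem_of_index_two hK2 g) 2⟩) hL
    have hmem : ∀ k : ℤ, ((x ^ (2 * k + 1) * y : (S : Subgroup G)) : G) ∈ L.map K.subtype := fun k =>
      ⟨⟨_, hKS.ge (show x ^ (2 * k + 1) * y ∈ h.evenPart 1 from ⟨k, Or.inr rfl⟩)⟩, hodd k _ rfl, rfl⟩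
    obtain ⟨k, e | e⟩ : (⟨a, ha⟩ : (S : Subgroup G)) ∈ h.evenPart 1 := hKS.le a.2
    · have e' : x ^ (2 * k) = x ^ (2 * (k - 2 * 2 ^ m) + 1) * y * (x ^ (2 * 0 + 1 : ℤ) * y) := by
        rw [h.out_mul_out, h.zpow_eq]; exact ⟨0, by ring⟩
      obtain ⟨u, hu, hua⟩ := (show (a : G) ∈ L.map K.subtype from by
        have e3 := congrArg (fun v : (S : Subgroup G) => (v : G)) (e.trans e')
        simp only [Subgroup.coe_mul] at e3
        rw [e3]
        exact mul_mem (hmem _) (hmem 0))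
      exact (Subtype.ext hua : u = a) ▸ hu
    · exact hodd k a (congrArg Subtype.val e)
  · rintro _ ⟨u, -, rfl⟩; exact u.2
  · have hc : (Subgroup.center (S : Subgroup G)).map (S : Subgroup G).subtype = Subgroup.zpowers z := by
      have hle : Subgroup.zpowers (x ^ (4 * 2 ^ m : ℤ)) ≤ Subgroup.center (S : Subgroup G) :=
        Subgroup.zpowers_le.mpr (Subgroup.mem_center_iff.mpr h.z_central)
      rw [← Subgroup.eq_of_le_of_card_ge hle (by rw [h.card_center, Nat.card_zpowers, h.orderOf_z]),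
        MonoidHom.map_zpowers]
      rfl
    rw [hc] at hg ⊢
    have hgz : g * z * g⁻¹ ∈ (S : Subgroup G) := hg ⟨z, Subgroup.mem_zpowers z, rfl⟩
    have e := (hfix z g⁻¹ (x ^ (4 * 2 ^ m : ℤ) : (S : Subgroup G)).2 (by simpa using hgz)).mp rfl
    rw [MonoidHom.map_zpowers]
    exact congrArg Subgroup.zpowers (by simpa using e)
  · intro hc
    obtain ⟨g, hg⟩ := isConj_iff.mp hc
    have e := (hfix z g⁻¹ (x ^ (4 * 2 ^ m : ℤ) : (S : Subgroup G)).2
      (by rw [inv_inv, hg]; exact y.2)).mp rfl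
    rw [inv_inv, hg] at e
    exact h.out_ne_in 0 (4 * 2 ^ m) (by rw [zpow_zero, one_mul]; exact Subtype.ext e)

end Cfsg.Agent.S1205
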