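import Cfsg.Statements.S1210
import Cfsg.Agent.H39.WreathFusion
-- import your own Cfsg.Agent.* helpers here

set_option autoImplicit false
open Cfsg

namespace Cfsg.Agent.S1210

open Cfsg.Agent Cfsg.Agent.H39

/-- Let G be a finite group whose Sylow 2-subgroup S is wreathed of order 2^(2n+1), U the commutative subgroup of index 2 in S, Q a quaternion subgroup of order 8 of S and V = Q Z(S). If |N_G(U) : C_G(U)| = 2 and |N_G(V) : V C_G(V)| = 6, then G has a normal subgroup K of index 2^n whose Sylow 2-subgroups are generalized quaternion and which has no subgroup of index 2; every subgroup of Z(S) is weakly closed in S; and G has exactly two classes of involutions. -/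
theorem result {G : Type*} [Group G] [Finite G] (S : Sylow 2 G) (hS : Cfsg.IsWreathed (S : Subgroup G)) (n : ℕ) (hn : Nat.card S = 2 ^ (2 * n + 1)) (U : Subgroup G) (hUS : U ≤ S) (hUab : IsMulCommutative U) (hUcard : Nat.card U = 2 ^ (2 * n)) (Q : Subgroup G) (hQS : Q ≤ S) (eQ : Q ≃* QuaternionGroup 2) (h₁ : (Subgroup.centralizer (U : Set G)).relIndex (Subgroup.normalizer (U : Set G)) = 2) (h₂ : ((Q ⊔ ((Subgroup.center (S : Subgroup G)).map (S : Subgroup G).subtype)) ⊔ Subgroup.centralizer ((Q ⊔ ((Subgroup.center (S : Subgroup G)).map (S : Subgroup G).subtype) : Subgroup G) : Set G)).relIndex (Subgroup.normalizer ((Q ⊔ ((Subgroup.center (S : Subgroup G)).map (S : Subgroup G).subtype) : Subgroup G) : Set G)) = 6) : (∃ K : Subgroup G, K.Normal ∧ K.index = 2 ^ n ∧ (∀ P : Sylow 2 ↥K, ∃ m : ℕ, 1 ≤ m ∧ Nonempty ((P : Subgroup ↥K) ≃* QuaternionGroup (2 ^ m))) ∧ (∀ H : Subgroup ↥K, H.index ≠ 2)) ∧ (∀ Z₀ : Subgroup G, Z₀ ≤ ((Subgroup.center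 (S : Subgroup G)).map (S : Subgroup G).subtype) → Cfsg.IsWeaklyClosed Z₀ (S : Subgroup G)) ∧ Nat.card {C : ConjClasses G // ∃ t : G, orderOf t = 2 ∧ ConjClasses.mk t = C} = 2 := by
  obtain ⟨m, x, y, z, h⟩ := exists_wGen hS
  have : Fact (Nat.Prime 2) := ⟨Nat.prime_two⟩
  obtain rfl := h.eq_n hn
  obtain rfl : U = h.baseG := h.eq_baseG hUS
    (fun a ha b hb => congrArg Subtype.val (hUab.is_comm.comm ⟨a, ha⟩ ⟨b, hb⟩)) hUcard
  have hU := h.base_acts_of_two h₁
  obtain ⟨K, hKn, hKi, hKS⟩ := h.exists_quat_kernel hU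
  have hclosed : ∀ a g : G, a ∈ (S : Subgroup G) → g * a * g⁻¹ ∈ (S : Subgroup G) →
      a ∈ h.centG ∨ g * a * g⁻¹ ∈ h.centG → a = g * a * g⁻¹ := fun a g ha hag hz => by
    have := h.cent_closed hU (g := g⁻¹) ha (by rwa [inv_inv]) (by rwa [inv_inv])
    rwa [inv_inv] at this
  refine ⟨⟨K, hKn, hKi, fun P => ?_, fun L hL => ?_⟩, fun Z₀ hZ₀ => ⟨hZ₀.trans h.centG_le, ?_⟩,
    card_classes_eq_two h.orderOf_AG h.orderOf_CG ?_ fun t ht => ?_⟩
  · obtain ⟨e⟩ := sylow_of_normal_equiv S K P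
    obtain ⟨f⟩ := h.quat_equiv
    exact ⟨m + 1, by omega, ⟨(e.trans (MulEquiv.subgroupCongr hKS)).trans f⟩⟩
  · refine index_ne_of_sylow_le S K L (fun a ha => ?_) hL
    obtain ⟨v, hv, hva⟩ := h.quat_le_of_index_two eQ hQS h₂ hKS.ge (fun g => ⟨m + 2, by
      rw [show (4 : ℕ) ^ (m + 2) = K.index * 2 ^ (m + 2) by rw [hKi, ← mul_pow]; rfl, pow_mul]
      exact pow_mem (K.pow_index_mem g) _⟩) hL ⟨a, ha⟩ (hKS.le a.2)
    exact (Subtype.ext hva : v = a) ▸ hv
  · intro g hg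
    refine Subgroup.eq_of_le_of_card_ge ?_ (card_map_conj Z₀ g).ge
    rintro _ ⟨t, ht, rfl⟩
    have e := hclosed t g (h.centG_le (hZ₀ ht)) (hg ⟨t, ht, rfl⟩) (Or.inl (hZ₀ ht))
    show g * t * g⁻¹ ∈ Z₀
    rwa [← e]
  · intro hc
    obtain ⟨g, hg⟩ := isConj_iff.mp hc
    have e := hclosed _ g (SetLike.coe_mem _) (by rw [hg]; exact SetLike.coe_mem _)
      (Or.inr (by rw [hg]; exact h.mem_centG.mpr (h.in_mem_center.mpr (by simp))))
    rw [hg] at e
    exact h.half_not_dvd (by simpa using (h.pq_eq.mp (Subtype.ext e)).2)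
  · rcases h.conj_ord_two ht with e | e | e
    · exact Or.inl e
    · exact Or.inr e
    · exact Or.inl (e.trans (h.A_conj_z eQ hQS h₂).symm)

end Cfsg.Agent.S1210
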