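import Cfsg.Statements.S2299
import Cfsg.Agent.H53.SLApp

set_option autoImplicit false
open Cfsg

namespace Cfsg.Agent.S2299

/-- Over a finite field F with q elements, q odd, every irreducible complex character of SL₂ has degree 1, q, q + 1, q − 1, (q + 1)/2 or (q − 1)/2; and when q ≥ 5 (so that these six numbers are distinct) there are exactly one irreducible character of degree 1, one of degree q, (q − 3)/2 of degree q + 1, (q − 1)/2 of degree q − 1, two of degree (q + 1)/2 and two of degree (q − 1)/2. -/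
theorem result {F : Type*} [Field F] [Fintype F] (hodd : Odd (Fintype.card F)) :
    (∀ χ : Matrix.SpecialLinearGroup (Fin 2) F → ℂ, Cfsg.IsIrrCharacter (Matrix.SpecialLinearGroup (Fin 2) F) χ →
      χ 1 = 1 ∨ χ 1 = (Fintype.card F : ℂ) ∨ χ 1 = (Fintype.card F : ℂ) + 1 ∨ χ 1 = (Fintype.card F : ℂ) - 1 ∨
        χ 1 = (((Fintype.card F + 1) / 2 : ℕ) : ℂ) ∨ χ 1 = (((Fintype.card F - 1) / 2 : ℕ) : ℂ)) ∧
    (5 ≤ Fintype.card F →
      Nat.card {χ : Cfsg.IrrCharacter (Matrix.SpecialLinearGroup (Fin 2) F) // (χ : Matrix.SpecialLinearGroup (Fin 2) F → ℂ) 1 = 1} = 1 ∧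
      Nat.card {χ : Cfsg.IrrCharacter (Matrix.SpecialLinearGroup (Fin 2) F) // (χ : Matrix.SpecialLinearGroup (Fin 2) F → ℂ) 1 = (Fintype.card F : ℂ)} = 1 ∧
      Nat.card {χ : Cfsg.IrrCharacter (Matrix.SpecialLinearGroup (Fin 2) F) // (χ : Matrix.SpecialLinearGroup (Fin 2) F → ℂ) 1 = (Fintype.card F : ℂ) + 1} = (Fintype.card F - 3) / 2 ∧
      Nat.card {χ : Cfsg.IrrCharacter (Matrix.SpecialLinearGroup (Fin 2) F) // (χ : Matrix.SpecialLinearGroup (Fin 2) F → ℂ) 1 = (Fintype.card F : ℂ) - 1} = (Fintype.card F - 1) / 2 ∧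
      Nat.card {χ : Cfsg.IrrCharacter (Matrix.SpecialLinearGroup (Fin 2) F) // (χ : Matrix.SpecialLinearGroup (Fin 2) F → ℂ) 1 = (((Fintype.card F + 1) / 2 : ℕ) : ℂ)} = 2 ∧
      Nat.card {χ : Cfsg.IrrCharacter (Matrix.SpecialLinearGroup (Fin 2) F) // (χ : Matrix.SpecialLinearGroup (Fin 2) F → ℂ) 1 = (((Fintype.card F - 1) / 2 : ℕ) : ℂ)} = 2) := by
  classical
  have h2 : (2 : F) ≠ 0 := Linear.two_ne_zero_of_odd_card hodd
  obtain ⟨c1, c2⟩ := H53.half_cast hodd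
  refine ⟨fun χ hχ => ?_, fun h5 => ?_⟩
  · rcases H53.sl_cases_odd h2 hχ with ⟨-, e⟩ | ⟨-, e⟩ | ⟨-, e⟩ | ⟨-, e⟩ | ⟨-, e⟩ | ⟨-, e⟩
    · exact Or.inl e
    · exact Or.inr (Or.inl e)
    · exact Or.inr (Or.inr (Or.inl e))
    · exact Or.inr (Or.inr (Or.inr (Or.inr (Or.inl (by linear_combination (e - c1) / 2)))))
    · exact Or.inr (Or.inr (Or.inr (Or.inr (Or.inr (by linear_combination (e - c2) / 2)))))
    · exact Or.inr (Or.inr (Or.inr (Or.inl e)))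
  obtain ⟨m, hm⟩ := hodd
  obtain ⟨ε, hε, hε1⟩ := H53.exists_mulChar_sq (F := F) h2
  obtain ⟨k1, k2, k3⟩ := H53.card_cusp_odd (F := F) h2
  let one' : Cfsg.IrrCharacter (Matrix.SpecialLinearGroup (Fin 2) F) :=
    ⟨_, CharBasic.isIrrCharacter_one⟩
  let st' : Cfsg.IrrCharacter (Matrix.SpecialLinearGroup (Fin 2) F) := ⟨_, H53.isIrrCharacter_stS⟩
  have single : ∀ (a : Cfsg.IrrCharacter (Matrix.SpecialLinearGroup (Fin 2) F)) (x : ℂ),
      (∀ χ : Cfsg.IrrCharacter (Matrix.SpecialLinearGroup (Fin 2) F),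
        (χ : Matrix.SpecialLinearGroup (Fin 2) F → ℂ) 1 = x ↔ χ = a) →
      Nat.card {χ : Cfsg.IrrCharacter (Matrix.SpecialLinearGroup (Fin 2) F) //
        (χ : Matrix.SpecialLinearGroup (Fin 2) F → ℂ) 1 = x} = 1 := fun a x h => by
    rw [Nat.card_congr (Equiv.subtypeEquivRight h), Nat.card_eq_fintype_card,
      Fintype.card_subtype_eq]
  refine ⟨single one' 1 ?_, single st' _ ?_, ?_, ?_, ?_, ?_⟩
  · intro χ
    refine ⟨fun e => Subtype.ext ?_, fun e => by rw [e]⟩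
    obtain ⟨d, hd, hc⟩ := H53.sl_cases_odd_nat h2 χ.2
    have : d = 1 := Nat.cast_injective (R := ℂ) (by rw [← hd, e, Nat.cast_one])
    rcases hc with ⟨h, -⟩ | ⟨-, e'⟩ | ⟨-, e'⟩ | ⟨-, e'⟩ | ⟨-, e'⟩ | ⟨-, e'⟩ <;>
      first | omega | exact h
  · intro χ
    exact ⟨fun e => Subtype.ext (H53.eq_stS_of_degree χ.2 e), fun e => by
      rw [e]; exact H53.stS_one⟩
  · rw [← k3]
    refine Nat.card_congr (Equiv.subtypeEquivRight fun χ => ⟨fun e => ?_, fun ⟨α, _, h⟩ => by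
      rw [h, H53.sprin_one]⟩)
    obtain ⟨d, hd, hc⟩ := H53.sl_cases_odd_nat h2 χ.2
    have := H53.degree_add_one hd e
    rcases hc with ⟨-, e'⟩ | ⟨-, e'⟩ | ⟨h, -⟩ | ⟨-, e'⟩ | ⟨-, e'⟩ | ⟨-, e'⟩ <;>
      first | omega | exact h
  · rw [← k2]
    refine Nat.card_congr (Equiv.subtypeEquivRight fun χ => ⟨fun e => ⟨?_, e⟩, fun h => h.2⟩)
    obtain ⟨d, hd, hc⟩ := H53.sl_cases_odd_nat h2 χ.2
    have := H53.degree_sub_one hd e
    rcases hc with ⟨-, e'⟩ | ⟨-, e'⟩ | ⟨-, e'⟩ | ⟨-, e'⟩ | ⟨-, e'⟩ | ⟨h, -⟩ <;>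
      first | omega | exact h
  · refine (Nat.card_congr (Equiv.subtypeEquivRight fun χ => ⟨fun e => ?_, fun H => ?_⟩)).trans
      (H53.card_half hε hε1 h2)
    · obtain ⟨d, hd, hc⟩ := H53.sl_cases_odd_nat h2 χ.2
      have : d = (Fintype.card F + 1) / 2 := Nat.cast_injective (R := ℂ) (hd.symm.trans e)
      rcases hc with ⟨-, e'⟩ | ⟨-, e'⟩ | ⟨-, e'⟩ | ⟨⟨ε', he, he1, h⟩, -⟩ | ⟨-, e'⟩ | ⟨-, e'⟩ <;>
        first | omega | (obtain rfl := H53.mulChar_sq_unique he hε he1 hε1; exact h)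
    · obtain ⟨δ, hδ⟩ := H53.exists_not_isSquare h2
      linear_combination (H.two_degree hε hε1 hδ - c1) / 2
  · refine (Nat.card_congr (Equiv.subtypeEquivRight fun χ => ⟨fun e => ⟨?_, ?_⟩, fun h => by
      linear_combination (h.2 - c2) / 2⟩)).trans k1
    · obtain ⟨d, hd, hc⟩ := H53.sl_cases_odd_nat h2 χ.2
      have : d = (Fintype.card F - 1) / 2 := Nat.cast_injective (R := ℂ) (hd.symm.trans e)
      rcases hc with ⟨-, e'⟩ | ⟨-, e'⟩ | ⟨-, e'⟩ | ⟨-, e'⟩ | ⟨h, -⟩ | ⟨-, e'⟩ <;>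
        first | omega | exact h
    · linear_combination 2 * e + c2

end Cfsg.Agent.S2299
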