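import Cfsg.Statements.S2430
import Cfsg.Agent.Linear.TwoClasses
-- import your own Cfsg.Agent.* helpers here

set_option autoImplicit false
open Cfsg

namespace Cfsg.Agent.S2430

/-- Let F be a finite field with q elements, q odd, ℓ an odd prime, and P a Sylow ℓ-subgroup of SL₂ over F. If ℓ divides q − 1, the centraliser of P is cyclic of order q − 1 (a split torus) and the normaliser of P has order 2(q − 1); if ℓ divides q + 1, the centraliser of P is cyclic of order q + 1 (a non-split torus) and the normaliser of P has order 2(q + 1). -/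
theorem result {F : Type*} [Field F] [Fintype F] (hodd : Odd (Fintype.card F)) (ℓ : ℕ) [Fact ℓ.Prime] (hℓ : ℓ ≠ 2)
    (P : Sylow ℓ (Matrix.SpecialLinearGroup (Fin 2) F)) :
    (ℓ ∣ Fintype.card F - 1 →
      Nat.card (Subgroup.centralizer ((P : Subgroup (Matrix.SpecialLinearGroup (Fin 2) F)) : Set (Matrix.SpecialLinearGroup (Fin 2) F))) = Fintype.card F - 1 ∧
      IsCyclic (Subgroup.centralizer ((P : Subgroup (Matrix.SpecialLinearGroup (Fin 2) F)) : Set (Matrix.SpecialLinearGroup (Fin 2) F))) ∧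
      Nat.card (Subgroup.normalizer ((P : Subgroup (Matrix.SpecialLinearGroup (Fin 2) F)) : Set (Matrix.SpecialLinearGroup (Fin 2) F))) = 2 * (Fintype.card F - 1)) ∧
    (ℓ ∣ Fintype.card F + 1 →
      Nat.card (Subgroup.centralizer ((P : Subgroup (Matrix.SpecialLinearGroup (Fin 2) F)) : Set (Matrix.SpecialLinearGroup (Fin 2) F))) = Fintype.card F + 1 ∧
      IsCyclic (Subgroup.centralizer ((P : Subgroup (Matrix.SpecialLinearGroup (Fin 2) F)) : Set (Matrix.SpecialLinearGroup (Fin 2) F))) ∧
      Nat.card (Subgroup.normalizer ((P : Subgroup (Matrix.SpecialLinearGroup (Fin 2) F)) : Set (Matrix.SpecialLinearGroup (Fin 2) F))) = 2 * (Fintype.card F + 1)) := by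
  obtain ⟨f, hp0, hf⟩ := FiniteField.card F (ringChar F)
  have : Fact (ringChar F).Prime := ⟨hp0⟩
  have : CharP F (ringChar F) := ringChar.charP F
  have hq := Fintype.one_lt_card (α := F)
  have hl : ℓ.Prime := Fact.out
  have key : (ℓ ∣ Fintype.card F - 1 ∨ ℓ ∣ Fintype.card F + 1) →
      ∃ g : Matrix.SpecialLinearGroup (Fin 2) F, (g : Matrix (Fin 2) (Fin 2) F).trace ^ 2 ≠ 4 ∧
      Subgroup.centralizer ((P : Subgroup (Matrix.SpecialLinearGroup (Fin 2) F)) : Set (Matrix.SpecialLinearGroup (Fin 2) F))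
        = Subgroup.centralizer {g} ∧
      Subgroup.normalizer ((P : Subgroup (Matrix.SpecialLinearGroup (Fin 2) F)) : Set (Matrix.SpecialLinearGroup (Fin 2) F))
        = Subgroup.normalizer ((Subgroup.centralizer {g} : Subgroup _) : Set (Matrix.SpecialLinearGroup (Fin 2) F)) ∧
      ℓ ∣ Nat.card (Subgroup.centralizer ({g} : Set (Matrix.SpecialLinearGroup (Fin 2) F))) := by
    intro hdvd
    have hlp : ℓ ≠ ringChar F := by
      intro e
      have h1 : ℓ ∣ Fintype.card F := by rw [hf, e]; exact dvd_pow_self _ f.ne_zero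
      rcases hdvd with h | h
      · have h3 := Nat.dvd_sub h1 h
        rw [Nat.sub_sub_self (by omega)] at h3
        exact hl.not_dvd_one h3
      · exact hl.not_dvd_one ((Nat.dvd_add_right h1).mp h)
    have hcyc : IsCyclic (P : Subgroup (Matrix.SpecialLinearGroup (Fin 2) F)) :=
      Cfsg.Agent.Linear.isCyclic_of_isPGroup (ringChar F) hℓ hlp P.isPGroup'
    obtain ⟨g, hg⟩ := Subgroup.isCyclic_iff_exists_zpowers_eq_top (H := (P : Subgroup (Matrix.SpecialLinearGroup (Fin 2) F))) |>.mp hcyc
    have hdG : ℓ ∣ Nat.card (Matrix.SpecialLinearGroup (Fin 2) F) := by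
      rw [Cfsg.Agent.Linear.card_SL_two]
      refine Dvd.dvd.mul_left ?_ _
      rw [show Fintype.card F ^ 2 - 1 = (Fintype.card F + 1) * (Fintype.card F - 1) by
        rw [← Nat.sq_sub_sq, one_pow]]
      rcases hdvd with h | h
      · exact h.mul_left _
      · exact h.mul_right _
    have hord : orderOf g = Nat.card P := by rw [← Nat.card_zpowers, hg]
    have hldg : ℓ ∣ orderOf g := by
      rw [hord]
      exact P.dvd_card_of_dvd_card hdG
    obtain ⟨k, hk⟩ := IsPGroup.iff_card.mp P.isPGroup'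
    have hns : ¬ Cfsg.Agent.Linear.IsScalarTwo (g : Matrix (Fin 2) (Fin 2) F) := by
      intro hs
      have h2 : orderOf g ∣ 2 := by
        refine orderOf_dvd_of_pow_eq_one ?_
        rcases Cfsg.Agent.Linear.isScalarTwo_SL_iff.mp hs with e | e <;> simp [e]
      exact hℓ ((Nat.prime_dvd_prime_iff_eq hl Nat.prime_two).mp (hldg.trans h2))
    have ht : (g : Matrix (Fin 2) (Fin 2) F).trace ^ 2 ≠ 4 := by
      refine Cfsg.Agent.Linear.trace_sq_ne_four (ringChar F) hns ?_
      rw [hord, hk]
      exact ((Nat.coprime_primes hl hp0).mpr hlp).pow_left k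
    have hPC : (P : Subgroup (Matrix.SpecialLinearGroup (Fin 2) F)) ≤ Subgroup.centralizer {g} := by
      rw [← hg, Subgroup.zpowers_le, Subgroup.mem_centralizer_singleton_iff]
    refine ⟨g, ht, le_antisymm (Subgroup.centralizer_le ?_) (fun x hx => ?_), le_antisymm (fun x hx => ?_)
      (fun x hx => ?_), hldg.trans (Subgroup.orderOf_dvd_natCard _ (by rw [Subgroup.mem_centralizer_singleton_iff]))⟩
    · intro y hy
      rw [Set.mem_singleton_iff] at hy
      rw [hy, ← hg]
      exact Subgroup.mem_zpowers g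
    · rw [Subgroup.mem_centralizer_iff]
      intro y hy
      rw [← hg] at hy
      obtain ⟨m, rfl⟩ := Subgroup.mem_zpowers_iff.mp hy
      rw [Subgroup.mem_centralizer_singleton_iff] at hx
      exact ((Commute.symm hx).zpow_left m).eq
    · rw [Cfsg.Agent.Linear.mem_normalizer_centralizer_iff ht]
      refine Cfsg.Agent.Linear.eq_or_eq_inv_of_trace ht (hPC ?_) (Cfsg.Agent.Linear.trace_conj g x)
      exact (Subgroup.mem_normalizer_iff.mp hx g).mp (by rw [← hg]; exact Subgroup.mem_zpowers g)
    · rw [Cfsg.Agent.Linear.mem_normalizer_centralizer_iff ht] at hx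
      rw [Subgroup.mem_normalizer_iff_map_conj_eq, ← hg, MonoidHom.map_zpowers]
      simp only [MulEquiv.coe_toMonoidHom, MulEquiv.toMonoidHom_eq_coe, MonoidHom.coe_coe,
        MulAut.conj_apply]
      rcases hx with e | e <;> rw [e]
      exact Subgroup.zpowers_inv
  have two : ∀ a : ℕ, ¬ (ℓ ∣ a ∧ ℓ ∣ a + 2) := fun a ha =>
    hℓ ((Nat.prime_dvd_prime_iff_eq hl Nat.prime_two).mp ((Nat.dvd_add_right ha.1).mp ha.2))
  constructor
  · intro hd
    obtain ⟨g, ht, hC, hN, hdvd⟩ := key (Or.inl hd)
    rw [hC, hN, Cfsg.Agent.Linear.card_normalizer_centralizer ht]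
    have hc : Nat.card (Subgroup.centralizer ({g} : Set (Matrix.SpecialLinearGroup (Fin 2) F)))
        = Fintype.card F - 1 := by
      refine (Cfsg.Agent.Linear.card_centralizer_cases ht).resolve_right fun e => ?_
      rw [e] at hdvd
      exact two _ ⟨hd, by rwa [show Fintype.card F - 1 + 2 = Fintype.card F + 1 by omega]⟩
    exact ⟨hc, Cfsg.Agent.Linear.isCyclic_centralizer ht, by rw [hc]⟩
  · intro hd
    obtain ⟨g, ht, hC, hN, hdvd⟩ := key (Or.inr hd)
    rw [hC, hN, Cfsg.Agent.Linear.card_normalizer_centralizer ht]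
    have hc : Nat.card (Subgroup.centralizer ({g} : Set (Matrix.SpecialLinearGroup (Fin 2) F)))
        = Fintype.card F + 1 := by
      refine (Cfsg.Agent.Linear.card_centralizer_cases ht).resolve_left fun e => ?_
      rw [e] at hdvd
      exact two _ ⟨hdvd, by rwa [show Fintype.card F - 1 + 2 = Fintype.card F + 1 by omega]⟩
    exact ⟨hc, Cfsg.Agent.Linear.isCyclic_centralizer ht, by rw [hc]⟩

end Cfsg.Agent.S2430
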