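import Cfsg.Statements.S5361
import Cfsg.Agent.Components.TTPrimitive
import Cfsg.Agent.Components.TTZStar

set_option autoImplicit false
open Cfsg
open Cfsg.Agent.Components

namespace Cfsg.Agent.S5361

/-- Let D be a conjugacy class of 3-transpositions generating the finite group G, and suppose the centre of G is trivial and some two different members of D commute. Then the following are equivalent: (1) the commutator subgroup of G is simple (possibly of prime order); (2) G acts primitively on D by conjugation; (3) the largest normal 2-subgroup and the largest normal 3-subgroup of G are trivial and the commuting graph of D is connected. -/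
theorem result {G : Type*} [Group G] [Finite G] {D : Set G} (hD : Cfsg.IsThreeTranspositionClass D) (hZ : Subgroup.center G = ⊥) (hw : ∃ a ∈ D, ∃ b ∈ D, a ≠ b ∧ Commute a b) : (IsSimpleGroup (commutator G) ↔ Cfsg.IsPrimitiveUnderConj D) ∧ (Cfsg.IsPrimitiveUnderConj D ↔ (Cfsg.pCore 2 G = ⊥ ∧ Cfsg.pCore 3 G = ⊥ ∧ (Cfsg.commutingGraph D).Connected)) := by
  have hD2 : ∃ a ∈ D, ∃ b ∈ D, a ≠ b := by
    obtain ⟨a, ha, b, hb, hab, -⟩ := hw; exact ⟨a, ha, b, hb, hab⟩
  have key : Cfsg.pCore 2 G ≤ Subgroup.center G → Cfsg.pCore 3 G ≤ Subgroup.center G →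
      (Cfsg.commutingGraph D).Connected →
      Cfsg.IsPrimitiveUnderConj D ∧ IsSimpleGroup (commutator G) := by
    intro h2 h3 hc
    obtain ⟨L, hn, hL, hF⟩ := exists_qs_normal zStarTheorem hD hD2 h2 h3
    have hidx := index_le_two_of_connected hD hL hc
    exact ⟨primitive_of_index hD hD2 h2 h3 hL hF hidx,
      isSimpleGroup_commutator hD hZ h2 h3 hL hF hidx⟩
  refine ⟨⟨primitive_of_simple_commutator hD hZ hw, fun hp => ?_⟩, ⟨fun hp => ?_, ?_⟩⟩
  · exact (key (pCore_two_le_center hD hp) (pCore_three_le_center hD hp hw)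
      (connected_of_primitive hD hp hw)).2
  · exact ⟨le_bot_iff.1 (hZ ▸ pCore_two_le_center hD hp),
      le_bot_iff.1 (hZ ▸ pCore_three_le_center hD hp hw), connected_of_primitive hD hp hw⟩
  · rintro ⟨e2, e3, hc⟩
    exact (key (e2 ▸ bot_le) (e3 ▸ bot_le) hc).1

end Cfsg.Agent.S5361
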