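import Cfsg.Statements.S1397
import Cfsg.Agent.H41.FittingUnique
import Cfsg.Agent.H41.NoInvariant
import Cfsg.Agent.S1396

set_option autoImplicit false
open Cfsg

namespace Cfsg.Agent.S1397


open Subgroup

/-- Case (b) for a self-centralizing normal subgroup of a Sylow subgroup. -/
theorem scn_case {G : Type*} [Group G] [Finite G] (hG : Cfsg.IsMinSimpleOddOrder G)
    (M : Subgroup G) (hM : IsCoatom M) (p : ℕ) [Fact p.Prime] (hp2 : p ≠ 2)
    (hpG : p ∣ Nat.card G) (hFp : IsPGroup p ↥(Cfsg.fittingOf M)) (hF0 : Cfsg.fittingOf M ≠ ⊥)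
    (PG : Sylow p G) (hPM : (PG : Subgroup G) ≤ M)
    (A : Subgroup G) (hA : Cfsg.IsSCN (PG : Subgroup G) A) (hA3 : ¬ Cfsg.PRankLE p 2 ↥A) :
    A ≤ Cfsg.fittingOf M ∧ Cfsg.InUniqueMaximal A := by
  have hmin := hG.2
  have hpr : p.Prime := Fact.out
  haveI hMsol : Group.IsSolvable M := hmin.2.2 M hM.1
  set F := Cfsg.fittingOf M with hF
  have hAP : A ≤ (PG : Subgroup G) := hA.1
  have hAM : A ≤ M := hAP.trans hPM
  have hAc : IsMulCommutative A := PGroups.isMulCommutative_of_comm fun a ha b hb =>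
    ((hA.2.2.ge ha).2 b hb).symm
  have hAp : IsPGroup p A := PG.isPGroup'.to_le hAP
  -- `O_{p'}(M) = 1`
  have hfitc : ∀ r : ℕ, r.Prime → r ≠ p → H41.fcomp r M = ⊥ := by
    intro r hr hrp
    haveI := Fact.mk hr
    exact (inf_eq_left.mpr (H41.fcomp_le_fittingOf hr M)).symm.trans
      ((inf_comm _ _).trans (Cores.disjoint_of_isPGroup_of_coprime hFp
        (H41.coprime_card_of_isPGroup hrp (H41.isPGroup_fcomp r M))))
  have hD : H41.pCorePrime p M = ⊥ := by
    have h1 : H41.pCorePrime p M ≤ F := by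
      refine H41.centralizer_fittingOf_le (H41.pCorePrime_le M) fun r hr => ?_
      by_cases hrp : r = p
      · subst hrp; exact H41.pCorePrime_le_centralizer_fcomp r M
      · rw [hfitc r hr hrp]
        intro x _ z hz
        rw [mem_bot.mp hz, one_mul, mul_one]
    exact (inf_eq_right.mpr h1).symm.trans
      (Cores.disjoint_of_isPGroup_of_coprime hFp (H41.coprime_pCorePrime M))
  have hO : Cfsg.pPrimeCore p M = ⊥ := (map_eq_bot_iff_of_injective _ M.subtype_injective).mp hD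
  -- `A ≤ F(M)`
  let SM : Sylow p M := PG.subtype hPM
  have hSM : (SM : Subgroup M) = (PG : Subgroup G).subgroupOf M := Sylow.coe_subtype _ _
  have hAF : A ≤ F := by
    have h := Thompson.le_pCore_of_stable
      (Cores.centralizer_pCore_le Cores.isPSolvable_of_isSolvable hO)
      (H41.stableOnNormal_of_odd hp2 (hG.1.of_dvd_nat (card_subgroup_dvd_card M))) SM (A.subgroupOf M)
      (PGroups.isMulCommutative_of_comm fun a ha b hb =>
        Subtype.ext (PGroups.comm_of_isMulCommutative hAc ha hb)) ?_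
    · exact (map_subgroupOf_eq_of_le hAM).ge.trans
        ((Subgroup.map_mono h).trans (H41.fcomp_le_fittingOf hpr M))
    rw [hSM, le_normalizer_iff]
    intro s hs a ha
    show (s : G) * (a : G) * (s : G)⁻¹ ∈ A
    exact Coprime.conj_mem (hA.2.1 hs) ha
  refine ⟨hAF, ?_⟩
  have hFP : F ≤ (PG : Subgroup G) := by
    have h1 : F ≤ H41.fcomp p M := H41.le_fcomp_of_le_fittingOf le_rfl hFp
    refine h1.trans ((Subgroup.map_mono (Cores.pCore_le_sylow SM)).trans ?_)
    rw [hSM, map_subgroupOf_eq_of_le hPM]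
  have hnorm : (A.subgroupOf F).Normal :=
    (normal_subgroupOf_iff_le_normalizer hAF).mpr (hFP.trans hA.2.1)
  have hTH : Cfsg.TransitivityHypothesis A := Cfsg.Agent.S1396.result hG p hpG A hAp hAc
    (Or.inr ⟨PG, hA, fun h => hA3 fun B hBc hBp =>
      (h B hBc hBp).trans (Nat.pow_le_pow_right hpr.pos (by norm_num))⟩)
  have hZA : ¬ Cfsg.RankLE 2 ↥(A ⊓ centralizer (A : Set G)) := by
    rw [inf_eq_left.mpr (fun a ha b hb => PGroups.comm_of_isMulCommutative hAc hb ha :
      A ≤ centralizer (A : Set G))]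
    exact fun h => hA3 (h p hpr)
  have hNF : normalizer (F : Set G) = M :=
    H41.normalizer_eq_of_isCoatom hmin hM (H41.fittingOf_le_self M) hF0 (H41.le_normalizer_fittingOf M)
  have hFπ : ∀ r : ℕ, r.Prime → r ∣ Nat.card F → r ∣ Nat.card A := by
    intro r hr hd
    obtain ⟨n, hn⟩ := IsPGroup.iff_card.mp hFp
    rw [hn] at hd
    rw [(Nat.prime_dvd_prime_iff_eq hr hpr).mp (hr.dvd_of_dvd_pow hd)]
    obtain ⟨m, hm⟩ := IsPGroup.iff_card.mp hAp
    rw [hm]
    exact dvd_pow_self p fun h => hTH.1 (card_eq_one.mp (by rw [hm, h, pow_zero]))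
  have hK : Cfsg.piCoreOf (Cfsg.primesNotDvd (Nat.card A)) (centralizer (F : Set G)) = ⊥ := by
    set K := Cfsg.piCoreOf (Cfsg.primesNotDvd (Nat.card A)) (centralizer (F : Set G)) with hK
    have hKF : K ≤ F := by
      refine H41.centralizer_fittingOf_le ((H41.piCoreOf_le _ _).trans
        ((H41.centralizer_le_normalizer F).trans hNF.le)) fun r hr => ?_
      exact (H41.piCoreOf_le _ _).trans (centralizer_le (H41.fcomp_le_fittingOf hr M))
    refine card_eq_one.mp (Nat.eq_one_iff_not_exists_prime_dvd.mpr fun r hr hd => ?_)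
    exact (H41.piCoreOf_isPiNumber _ _ r hr hd).2 (hFπ r hr (hd.trans (card_dvd_of_le hKF)))
  refine H41.inUniqueMaximal_of_no_invariant hG hp2 hM hAM hAp hTH.1 fun Y hY hAY => ?_
  rw [← le_bot_iff]
  refine Coprime.le_of_exists_sylow_le fun q hq => ?_
  haveI := Fact.mk hq
  have hcop : (Nat.card A).Coprime (Nat.card Y) := by
    obtain ⟨n, hn⟩ := IsPGroup.iff_card.mp hAp
    rw [hn]
    exact (hY.pow_right n).symm
  obtain ⟨Q, hQ⟩ := Coprime.exists_invariant_sylow hAY hcop
    (Or.inl (hmin.2.2 A (H41.ne_top_of_isPGroup hmin hAp))) q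
  refine ⟨Q, ?_⟩
  set Q' := (Q : Subgroup Y).map Y.subtype with hQ'
  by_cases hqA : q ∣ Nat.card A
  · have hq' : q = p := by
      obtain ⟨n, hn⟩ := IsPGroup.iff_card.mp hAp
      rw [hn] at hqA
      exact (Nat.prime_dvd_prime_iff_eq hq hpr).mp (hq.dvd_of_dvd_pow hqA)
    subst hq'
    exact ((inf_eq_left.mpr (map_subtype_le _)).symm.trans
      (Cores.disjoint_of_isPGroup_of_coprime (Q.isPGroup'.map _) hY)).le
  have htr := Cfsg.Agent.S1393.result hG A hTH hZA q hq hqA
  obtain ⟨-, -, hc, hd⟩ := Cfsg.Agent.S1395.result hG A hTH q hq hqA F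
    (fun h => hM.1 (top_le_iff.mp (h ▸ H41.fittingOf_le_self M))) hFπ hAF hnorm.isSubnormal htr
  obtain ⟨Q₀, hQ₀, -⟩ := H41.exists_maxInvSubgroups_ge (X := (⊤ : Subgroup G)) (A := F) (π := {q}) (Q := ⊥)
    ⟨le_top, fun s hs hds => absurd hds (by rw [card_eq_one.mpr rfl]; exact hs.not_dvd_one),
      le_normalizer_iff.mpr fun a _ x hx => by rw [mem_bot.mp hx]; simp⟩
  have hQ₀p := H41.isPGroup_of_invSubgroups hq hQ₀.1
  have hMQ : M ≤ normalizer (Q₀ : Set G) := by
    have h1 := (hd Q₀ hQ₀).2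
    rw [hK, bot_sup_eq, hNF] at h1
    exact h1.le.trans inf_le_right
  have hQ₀0 : Q₀ = ⊥ := by
    by_contra hne
    have hN : normalizer (Q₀ : Set G) = M :=
      (eq_or_lt_of_le hMQ).elim Eq.symm fun h =>
        absurd (hM.2 _ h) (H41.normalizer_ne_top hmin hne (H41.ne_top_of_isPGroup hmin hQ₀p))
    have h1 : Q₀ ≤ H41.fcomp q M := H41.le_fcomp (le_normalizer.trans hN.le) hMQ hQ₀p
    have hqp : q ≠ p := fun h => hqA (h ▸ by
      obtain ⟨m, hm⟩ := IsPGroup.iff_card.mp hAp
      rw [hm]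
      exact dvd_pow_self p fun h => hTH.1 (card_eq_one.mp (by rw [hm, h, pow_zero])))
    rw [hfitc q hq hqp] at h1
    exact hne (le_bot_iff.mp h1)
  obtain ⟨R, hR, hle⟩ := H41.exists_maxInvSubgroups_ge (X := (⊤ : Subgroup G)) (A := A) (π := {q}) (Q := Q')
    ⟨le_top, (Cores.isPGroup_iff_isPiNumber hq).1 (Q.isPGroup'.map _), hQ⟩
  have hbot := hc hQ₀
  rw [hQ₀0] at hbot
  rwa [hbot.2 R hR.1 bot_le] at hle

/-- Let G be a minimal simple group of odd order, M a maximal subgroup, p a prime and A₀ an elementary abelian p-subgroup of F(M) of order at least p ^ 3 that is maximal among elementary abelian p-subgroups of F(M). (a) If F(M) is not a p-group, then F(M) ∩ C_G(A₀) lies in exactly one maximal subgroup of G. (b) If F(M) is a p-group and P is a Sylow p-subgroup of M, then p does not divide the index of P in G, and every normal self-centralizing subgroup A of P containing an elementary abelian subgroup of order p ^ 3 is contained in F(M) and lies in exactly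 one maximal subgroup of G. -/
theorem result {G : Type*} [Group G] [Finite G] (hG : Cfsg.IsMinSimpleOddOrder G)
    (M : Subgroup G) (hM : IsCoatom M) (p : ℕ) [Fact p.Prime] (A₀ : Subgroup G)
    (hA₀ : A₀ ≤ Cfsg.fittingOf M) (hA₀e : Cfsg.IsElementaryAbelian p A₀) (hA₀3 : p ^ 3 ≤ Nat.card A₀)
    (hA₀max : ∀ B : Subgroup G, B ≤ Cfsg.fittingOf M → Cfsg.IsElementaryAbelian p B → A₀ ≤ B → B = A₀) :
    (¬ IsPGroup p ↥(Cfsg.fittingOf M) → Cfsg.InUniqueMaximal (Cfsg.fittingOf M ⊓ Subgroup.centralizer (A₀ : Set G))) ∧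
      (IsPGroup p ↥(Cfsg.fittingOf M) → ∀ P : Sylow p M,
        ¬ p ∣ ((P : Subgroup M).map M.subtype).index ∧
        ∀ A : Subgroup G, Cfsg.IsSCN ((P : Subgroup M).map M.subtype) A → ¬ Cfsg.PRankLE p 2 ↥A →
          A ≤ Cfsg.fittingOf M ∧ Cfsg.InUniqueMaximal A) := by
  have hpr : p.Prime := Fact.out
  have hmin := hG.2
  haveI hMsol : Group.IsSolvable M := hmin.2.2 M hM.1
  have hA₀p : IsPGroup p A₀ := fun x => ⟨1, Subtype.ext (by simpa using hA₀e.2 x x.2)⟩
  have hA₀0 : A₀ ≠ ⊥ := fun h => by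
    rw [h, card_eq_one.mpr rfl] at hA₀3
    exact absurd hA₀3 (not_le.mpr (Nat.one_lt_pow (by norm_num) hpr.one_lt))
  have hA₀F : A₀ ≤ H41.fcomp p M := H41.le_fcomp_of_le_fittingOf hA₀ hA₀p
  have hF0 : Cfsg.fittingOf M ≠ ⊥ := ne_bot_of_le_ne_bot hA₀0 hA₀
  have hpG : p ∣ Nat.card G := by
    obtain ⟨n, hn⟩ := IsPGroup.iff_card.mp hA₀p
    exact (dvd_pow_self p fun h => hA₀0 (card_eq_one.mp (by rw [hn, h, pow_zero]))).trans
      (hn ▸ card_subgroup_dvd_card A₀)
  have hp2 : p ≠ 2 := H41.pne2_of_card_dvd hG.1 hpG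
  constructor
  · intro hFp
    obtain ⟨q, hq, hqp, hq0⟩ : ∃ q : ℕ, q.Prime ∧ q ≠ p ∧ H41.fcomp q M ≠ ⊥ := by
      by_contra hcon
      push Not at hcon
      refine hFp ((H41.isPGroup_fcomp p M).to_le (H41.fittingOf_le fun r hr => ?_))
      by_cases hrp : r = p
      · subst hrp; exact le_rfl
      · rw [hcon r hr hrp]; exact bot_le
    haveI := Fact.mk hq
    have S : H41.FittingSetup M p A₀ q := ⟨hG, hM, hA₀F, hA₀e.1, hA₀e.2, hA₀3, hqp, hq0⟩
    exact ⟨M, ⟨hM, H41.fitX_le M A₀⟩, fun H hH => S.eq_of_le_coatom hH.1 hH.2⟩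
  · intro hFp P
    set P' := (P : Subgroup M).map M.subtype with hP'
    have hP'p : IsPGroup p P' := P.isPGroup'.map _
    have hP'M : P' ≤ M := map_subtype_le _
    have hmaxP : ∀ R' : Subgroup G, IsPGroup p R' → P' ≤ R' → R' ≤ M → R' = P' := by
      intro R' hR' hle hR'M
      have h1 : R'.subgroupOf M = (P : Subgroup M) := P.is_maximal' hR'.comap_subtype
        fun x hx => hle ⟨x, hx, rfl⟩
      rw [hP', ← h1, map_subgroupOf_eq_of_le hR'M]
    have hFP : H41.fcomp p M ≤ P' := Subgroup.map_mono (Cores.pCore_le_sylow P)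
    have hP0 : P' ≠ ⊥ := ne_bot_of_le_ne_bot hA₀0 (hA₀F.trans hFP)
    -- `O_{p'}(M) = 1`
    have hD : H41.pCorePrime p M = ⊥ := by
      have h1 : H41.pCorePrime p M ≤ Cfsg.fittingOf M := by
        refine H41.centralizer_fittingOf_le (H41.pCorePrime_le M) fun r hr => ?_
        haveI := Fact.mk hr
        refine (H41.pCorePrime_le_centralizer_fcomp p M).trans (centralizer_le ?_)
        exact (H41.le_fcomp_of_le_fittingOf (H41.fcomp_le_fittingOf hr M)
          (hFp.to_le (H41.fcomp_le_fittingOf hr M)))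
      exact (inf_eq_right.mpr h1).symm.trans
        (Cores.disjoint_of_isPGroup_of_coprime hFp (H41.coprime_pCorePrime M))
    have hN : normalizer (P' : Set G) ≤ M :=
      ((Thompson.normalizer_le_normalizer_jay 0 P').trans
        (Thompson.normalizer_jay_le_normalizer_zjay 0 P')).trans
        (H41.normalizer_zjay_eq_of_pCorePrime hG hp2 hM hD hP'M hP'p hP0 hmaxP).le
    let PG : Sylow p G :=
      { toSubgroup := P'
        isPGroup' := hP'p
        is_maximal' := fun {Q} hQ hle => by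
          by_contra hne
          obtain ⟨x, hx, hxn, hxN⟩ := H41.exists_mem_notMem_normalizer' hQ (lt_of_le_of_ne hle (Ne.symm hne))
          exact hxn (hmaxP _ (H41.isPGroup_sup_zpowers hQ hle hx) le_sup_left
            (sup_le hP'M (zpowers_le.mpr (hN hxN))) ▸ mem_sup_right (mem_zpowers x)) }
    exact ⟨PG.not_dvd_index, fun A hA hA3 => scn_case hG M hM p hp2 hpG hFp hF0 PG hP'M A hA hA3⟩

end Cfsg.Agent.S1397
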