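import Cfsg.Statements.S1401
import Cfsg.Agent.H41.SCN3
import Cfsg.Agent.S1397
import Cfsg.Agent.S1399
-- import your own Cfsg.Agent.* helpers here

set_option autoImplicit false
open Cfsg

namespace Cfsg.Agent.S1401

/-- Let G be a minimal simple group of odd order, p a prime, and M a maximal subgroup whose Fitting subgroup contains an elementary abelian subgroup of order p ^ 3. Then every abelian p-subgroup of G containing an elementary abelian subgroup of order p ^ 3 lies in exactly one maximal subgroup of G. -/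
theorem result {G : Type*} [Group G] [Finite G] (hG : Cfsg.IsMinSimpleOddOrder G)
    (M : Subgroup G) (hM : IsCoatom M) (p : ℕ) [Fact p.Prime] (hF : ¬ Cfsg.PRankLE p 2 ↥(Cfsg.fittingOf M))
    (A : Subgroup G) (hAp : IsPGroup p A) (hAc : IsMulCommutative A) (hA3 : ¬ Cfsg.PRankLE p 2 ↥A) :
    Cfsg.InUniqueMaximal A := by
  obtain ⟨E, hEA, hEc, hEe, hE⟩ := H41.exists_elementary_of_not_pRankLE hA3
  have hpr : p.Prime := Fact.out
  have hp2 : p ≠ 2 := H41.pne2_of_card_dvd hG.1 (H41.prime_dvd_card_of_elementary (k := 2) hE)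
  have hmin := hG.2
  have hAtop : A ≠ ⊤ := H41.ne_top_of_isPGroup hmin hAp
  suffices h : Cfsg.InUniqueMaximal E from H41.inUniqueMaximal_of_le h hEA hAtop
  set F := Cfsg.fittingOf M with hFdef
  obtain ⟨A₁, hA₁F, hA₁c, hA₁e, hA₁⟩ := H41.exists_elementary_of_not_pRankLE hF
  obtain ⟨A₀, hle, ⟨hA₀F, hA₀e⟩, hmax⟩ :=
    (Set.toFinite {B : Subgroup G | B ≤ F ∧ Cfsg.IsElementaryAbelian p B}).exists_le_maximal
      (show A₁ ∈ {B : Subgroup G | B ≤ F ∧ Cfsg.IsElementaryAbelian p B} from ⟨hA₁F, hA₁c, hA₁e⟩)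
  have hA₀3 : p ^ 3 ≤ Nat.card A₀ := hA₁ ▸ Subgroup.card_le_of_le hle
  have h1397 := Cfsg.Agent.S1397.result hG M hM p A₀ hA₀F hA₀e hA₀3
    fun B hB hBe hAB => le_antisymm (hmax ⟨hB, hBe⟩ hAB) hAB
  by_cases hFp : IsPGroup p F
  · obtain ⟨P⟩ : Nonempty (Sylow p M) := inferInstance
    set P' := (P : Subgroup M).map M.subtype with hP'
    have hA₁P : A₁ ≤ P' := by
      refine le_trans ?_ (Subgroup.map_mono (Cores.pCore_le_sylow P))
      exact H41.le_fcomp_of_le_fittingOf hA₁F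
        (fun x => ⟨1, Subtype.ext (by simpa using hA₁e x x.2)⟩)
    obtain ⟨C, hC, hCc, hCp, hC3, E₁, hE₁C, hE₁c, hE₁e, hE₁⟩ :=
      H41.exists_isSCN_of_not_pRankLE hp2 (P := P') (P.isPGroup'.map _)
        (H41.not_pRankLE (k := 2) hpr.one_lt hA₁P hA₁c hA₁e hA₁.ge)
    exact H41.inUniqueMaximal_transfer' hG hCc ((h1397.2 hFp P).2 C hC hC3).2 hE₁C hE₁e hE₁ hEc hEe hE
  · have hA₀U : Cfsg.InUniqueMaximal A₀ :=
      Cfsg.Agent.S1399.result hG _ A₀ (h1397.1 hFp)
        (Subgroup.le_centralizer_iff.mp inf_le_right)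
        (H41.not_rankLE hpr le_rfl hA₀e.1 hA₀e.2
          (le_trans (Nat.pow_le_pow_right hpr.pos (by norm_num)) hA₀3))
    exact H41.inUniqueMaximal_transfer' hG hA₀e.1 hA₀U hle hA₁e hA₁ hEc hEe hE

end Cfsg.Agent.S1401
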