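import Cfsg.Statements.S1442
import Cfsg.Agent.H42.Stab

set_option autoImplicit false
open Cfsg

namespace Cfsg.Agent.S1442

/-- Let G be a finite group, H a nilpotent subgroup and A a subgroup normalizing H with the orders of A and H coprime. Put C = H ∩ C_G(A). If H ∩ C_G(C) ≤ C then A centralizes H. -/
theorem result {G : Type*} [Group G] [Finite G] (H A : Subgroup G) (hH : Group.IsNilpotent H) (hA : (A ≤ Subgroup.normalizer (H : Set G))) (hcop : (Nat.card A).Coprime (Nat.card H))
    (hC : H ⊓ Subgroup.centralizer (((H ⊓ Subgroup.centralizer (A : Set G)) : Subgroup G) : Set G) ≤ (H ⊓ Subgroup.centralizer (A : Set G))) :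
    A ≤ Subgroup.centralizer (H : Set G) := by
  set C : Subgroup G := H ⊓ Subgroup.centralizer (A : Set G) with hCdef
  -- elements of `H` normalising `C` lie in `C`
  have key : ∀ n ∈ H, n ∈ Subgroup.normalizer (C : Set G) → n ∈ C := by
    intro n hn hnC
    refine ⟨hn, fun a ha => ?_⟩
    let k := n⁻¹ * (a * n * a⁻¹)
    have hkH : k ∈ H := mul_mem (inv_mem hn) ((hA ha n).mp hn)
    have hkC : k ∈ Subgroup.centralizer (C : Set G) := by
      intro c hc
      have hac : a * c * a⁻¹ = c := by rw [hc.2 a ha, mul_inv_cancel_right]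
      have hd : n * c * n⁻¹ ∈ C := (hnC c).mp hc
      have had : a * (n * c * n⁻¹) * a⁻¹ = n * c * n⁻¹ := by rw [hd.2 a ha, mul_inv_cancel_right]
      have e : a * n * a⁻¹ * c * (a * n * a⁻¹)⁻¹ = n * c * n⁻¹ :=
        calc _ = a * (n * (a⁻¹ * c * a) * n⁻¹) * a⁻¹ := by group
          _ = a * (n * c * n⁻¹) * a⁻¹ := by
            rw [show a⁻¹ * c * a = c from by rw [mul_assoc, ← hc.2 a ha, inv_mul_cancel_left]]
          _ = _ := had
      calc c * (n⁻¹ * (a * n * a⁻¹))
          = n⁻¹ * (n * c * n⁻¹) * (a * n * a⁻¹) := by group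
        _ = n⁻¹ * (a * n * a⁻¹ * c * (a * n * a⁻¹)⁻¹) * (a * n * a⁻¹) := by rw [e]
        _ = n⁻¹ * (a * n * a⁻¹) * c := by group
    have hk : k ∈ C := hC ⟨hkH, hkC⟩
    exact Cfsg.Agent.H42.stab_step (k := k) (by simp only [k]; group) (hk.2 a ha)
      ((hcop.coprime_dvd_left (Subgroup.orderOf_dvd_natCard _ ha)).coprime_dvd_right
        (Subgroup.orderOf_dvd_natCard _ hkH))
  have hCH : C.subgroupOf H = ⊤ := by
    haveI := hH
    by_contra hne
    have hlt : C.subgroupOf H < ⊤ := lt_top_iff_ne_top.mpr hne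
    obtain ⟨n, hn, hn'⟩ := SetLike.exists_of_lt (normalizerCondition_of_isNilpotent (G := H) _ hlt)
    refine hn' (key n n.2 fun c => ?_)
    constructor
    · intro hc
      exact (hn ⟨c, hc.1⟩).mp hc
    · intro hc
      have hcH : c ∈ H := by
        have := mul_mem (mul_mem (inv_mem n.2) hc.1) n.2
        simpa [mul_assoc] using this
      exact (hn ⟨c, hcH⟩).mpr hc
  intro a ha h hh
  have : (⟨h, hh⟩ : H) ∈ C.subgroupOf H := hCH ▸ Subgroup.mem_top _
  exact (this.2 a ha).symm

end Cfsg.Agent.S1442
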