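import Cfsg.Statements.S0019
import Cfsg.Agent.H24.Solv

set_option autoImplicit false
open Cfsg

namespace Cfsg.Agent.S0019

theorem aux : ∀ (n : ℕ) (G : Type*) [Group G] [Finite G], Nat.card G = n → ∀ H₁ H₂ H₃ : Subgroup G,
    Group.IsSolvable H₁ → Group.IsSolvable H₂ → Group.IsSolvable H₃ →
    (∀ g : G, ∃ x ∈ H₁, ∃ y ∈ H₂, g = x * y) → (∀ g : G, ∃ x ∈ H₁, ∃ y ∈ H₃, g = x * y) →
    H₂.index.Coprime H₃.index → Group.IsSolvable G := by
  intro n
  induction n using Nat.strong_induction_on with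
  | _ n ih =>
    intro G _ _ hn H₁ H₂ H₃ h₁ h₂ h₃ h12 h13 hcop
    rcases eq_or_ne H₁ ⊥ with hb | hb
    · have htop : H₂ = ⊤ := eq_top_iff.2 fun g _ => by
        obtain ⟨x, hx, y, hy, rfl⟩ := h12 g
        rw [hb, Subgroup.mem_bot] at hx
        rwa [hx, one_mul]
      subst htop
      exact Group.isSolvable_of_surjective (f := (⊤ : Subgroup G).subtype)
        (fun g => ⟨⟨g, Subgroup.mem_top g⟩, rfl⟩)
    have hT : (⊤ : Subgroup H₁) ≠ ⊥ := by
      have := (Subgroup.nontrivial_iff_ne_bot H₁).2 hb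
      exact top_ne_bot
    obtain ⟨M, -, hM, hMb, hmin⟩ := Cfsg.Agent.H24.exists_minimal_normal (⊤ : Subgroup H₁) inferInstance hT
    obtain ⟨-, p, hp, hpow⟩ := Cfsg.Agent.H24.minimal_normal_elementary M hMb hmin
    have := Fact.mk hp
    let N : Subgroup G := M.map H₁.subtype
    have hNb : N ≠ ⊥ := fun h => hMb ((Subgroup.map_eq_bot_iff_of_injective M H₁.subtype_injective).1 h)
    have hNpg : IsPGroup p N := by
      refine IsPGroup.map (fun m => ⟨1, ?_⟩) _
      rw [pow_one]; exact Subtype.ext (by simpa using hpow m m.2)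
    have hNconj : ∀ h ∈ H₁, ∀ a ∈ N, h * a * h⁻¹ ∈ N := by
      rintro h hh _ ⟨m, hm, rfl⟩
      exact ⟨⟨h, hh⟩ * m * ⟨h, hh⟩⁻¹, hM.conj_mem m hm ⟨h, hh⟩, rfl⟩
    have main : ∀ K : Subgroup G, Group.IsSolvable K → (∀ g : G, ∃ x ∈ H₁, ∃ y ∈ K, g = x * y) →
        ¬ p ∣ K.index → Group.IsSolvable K.normalCore ∧ K.normalCore ≠ ⊥ := by
      intro K hK hfac hp'
      obtain ⟨q, hq⟩ := hNpg.nonempty_fixed_point_of_prime_not_dvd_card (G ⧸ K) hp'
      induction q using QuotientGroup.induction_on with | H g => ?_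
      obtain ⟨h, hh, y, hy, rfl⟩ := hfac g
      have hq' : (QuotientGroup.mk (h * y) : G ⧸ K) = QuotientGroup.mk h :=
        QuotientGroup.eq.2 (by simpa using inv_mem hy)
      have hNK : N ≤ K := by
        intro a ha
        have hfx := hq ⟨h * a * h⁻¹, hNconj h hh a ha⟩
        rw [hq'] at hfx
        change (QuotientGroup.mk (h * a * h⁻¹ * h) : G ⧸ K) = QuotientGroup.mk h at hfx
        rw [eq_comm, QuotientGroup.eq] at hfx
        simpa [smul_eq_mul, mul_assoc] using hfx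
      have hNcore : N ≤ K.normalCore := by
        intro a ha g
        obtain ⟨x, hx, z, hz, hxz⟩ := hfac g⁻¹
        have e : g * a * g⁻¹ = z⁻¹ * (x⁻¹ * a * x) * z := by
          have : g = z⁻¹ * x⁻¹ := by rw [← mul_inv_rev, ← hxz, inv_inv]
          subst this; group
        rw [e]
        refine mul_mem (mul_mem (inv_mem hz) (hNK ?_)) hz
        simpa using hNconj x⁻¹ (inv_mem hx) a ha
      exact ⟨Group.isSolvable_of_isSolvable_injective (Subgroup.inclusion_injective K.normalCore_le),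
        fun h0 => hNb (le_bot_iff.1 (h0 ▸ hNcore))⟩
    obtain ⟨C, hCn, hCs, hCb⟩ : ∃ C : Subgroup G, C.Normal ∧ Group.IsSolvable C ∧ C ≠ ⊥ := by
      by_cases hp2 : p ∣ H₂.index
      · have hp3 : ¬ p ∣ H₃.index := fun h => hp.one_lt.ne' (Nat.eq_one_of_dvd_coprimes hcop hp2 h)
        exact ⟨_, H₃.normalCore_normal, main H₃ h₃ h13 hp3⟩
      · exact ⟨_, H₂.normalCore_normal, main H₂ h₂ h12 hp2⟩
    let f := QuotientGroup.mk' C
    have hf : Function.Surjective f := QuotientGroup.mk'_surjective C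
    have hlt : Nat.card (G ⧸ C) < n := by
      have e := Subgroup.card_eq_card_quotient_mul_card_subgroup C
      have h2 : 1 < Nat.card C := by
        have := (Subgroup.nontrivial_iff_ne_bot C).2 hCb
        exact Finite.one_lt_card
      rw [← hn, e]; exact lt_mul_of_one_lt_right Nat.card_pos h2
    have hmap : ∀ K : Subgroup G, (∀ g : G, ∃ x ∈ H₁, ∃ y ∈ K, g = x * y) →
        ∀ g : G ⧸ C, ∃ x ∈ H₁.map f, ∃ y ∈ K.map f, g = x * y := by
      intro K hK g
      obtain ⟨g, rfl⟩ := hf g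
      obtain ⟨x, hx, y, hy, rfl⟩ := hK g
      exact ⟨f x, Subgroup.mem_map_of_mem _ hx, f y, Subgroup.mem_map_of_mem _ hy, map_mul f x y⟩
    have hsol : ∀ K : Subgroup G, Group.IsSolvable K → Group.IsSolvable (K.map f) :=
      fun K _ => Group.isSolvable_of_surjective (f.subgroupMap_surjective K)
    have : Group.IsSolvable (G ⧸ C) := ih _ hlt (G ⧸ C) rfl (H₁.map f) (H₂.map f) (H₃.map f)
      (hsol _ h₁) (hsol _ h₂) (hsol _ h₃) (hmap _ h12) (hmap _ h13)
      ((hcop.coprime_dvd_left (Subgroup.index_map_dvd _ hf)).coprime_dvd_right (Subgroup.index_map_dvd _ hf))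
    exact Group.isSolvable_of_ker_le_range C.subtype f (by simp [f])

/-- A finite group that factorises as H₁H₂ and as H₁H₃ with all three subgroups solvable and the indices of H₂ and H₃ coprime is solvable. -/
theorem result {G : Type*} [Group G] [Finite G] (H₁ H₂ H₃ : Subgroup G)
    (h₁ : Group.IsSolvable H₁) (h₂ : Group.IsSolvable H₂) (h₃ : Group.IsSolvable H₃)
    (h12 : ∀ g : G, ∃ x ∈ H₁, ∃ y ∈ H₂, g = x * y) (h13 : ∀ g : G, ∃ x ∈ H₁, ∃ y ∈ H₃, g = x * y)
    (hcop : H₂.index.Coprime H₃.index) : Group.IsSolvable G := by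
  exact aux (Nat.card G) G rfl H₁ H₂ H₃ h₁ h₂ h₃ h12 h13 hcop

end Cfsg.Agent.S0019
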