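import Cfsg.Statements.S0006
import Cfsg.Agent.S0019
import Cfsg.Agent.S0144
import Cfsg.Agent.H24.Basic

set_option autoImplicit false
open Cfsg

namespace Cfsg.Agent.S0006

theorem aux : ∀ (n : ℕ) (G : Type*) [Group G] [Finite G], Nat.card G = n →
    (∀ p : ℕ, p.Prime → ∃ H : Subgroup G, H.index = p ^ (Nat.card G).factorization p) →
    Group.IsSolvable G := by
  intro n
  induction n using Nat.strong_induction_on with
  | _ n ih =>
    intro G _ _ hn h
    classical
    let f := (Nat.card G).factorization
    let T := (Nat.card G).primeFactors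
    have hT : ∀ {r}, r ∈ T → r.Prime ∧ 0 < f r := fun {r} hr =>
      ⟨Nat.prime_of_mem_primeFactors hr, Nat.pos_of_ne_zero (Finsupp.mem_support_iff.1 (by
        rw [Nat.support_factorization]; exact hr))⟩
    have hprod : ∏ r ∈ T, r ^ f r = Nat.card G :=
      Nat.prod_factorization_pow_eq_self (n := Nat.card G) Nat.card_pos.ne'
    -- each of the subgroups in the hypothesis, for a prime divisor, is solvable
    have hsolv : ∀ p ∈ T, ∀ H : Subgroup G, H.index = p ^ f p → Group.IsSolvable H := by
      intro p hp H hH
      obtain ⟨hpp, hfp⟩ := hT hp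
      have hlt : Nat.card H < n := by
        have h1 : 1 < H.index := hH ▸ Nat.one_lt_pow hfp.ne' hpp.one_lt
        rw [← hn, ← H.card_mul_index]
        exact lt_mul_of_one_lt_right Nat.card_pos h1
      refine ih _ hlt H rfl fun r hr => ?_
      have hfac : ∀ r, f r = (Nat.card H).factorization r + (p ^ f p).factorization r := fun r => by
        show (Nat.card G).factorization r = _
        rw [← H.card_mul_index, Nat.factorization_mul Nat.card_pos.ne' Subgroup.index_ne_zero_of_finite,
          Finsupp.add_apply, hH]
      by_cases hrp : r = p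
      · subst hrp
        refine ⟨⊤, ?_⟩
        have := hfac r
        rw [hpp.factorization_pow, Finsupp.single_eq_same] at this
        rw [Subgroup.index_top, show (Nat.card H).factorization r = 0 by omega, pow_zero]
      · obtain ⟨K, hK⟩ := h r hr
        refine ⟨K.subgroupOf H, ?_⟩
        show K.relIndex H = _
        rw [Cfsg.Agent.H24.relIndex_eq_index_of_coprime K H (by
          rw [hK, hH]; exact ((Nat.coprime_primes hr hpp).2 hrp).pow _ _), hK]
        have := hfac r
        rw [hpp.factorization_pow, Finsupp.single_eq_of_ne hrp, add_zero] at this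
        rw [← this]
    rcases lt_or_ge T.card 3 with hc | hc
    · rcases (show T.card = 0 ∨ T.card = 1 ∨ T.card = 2 by omega) with h0 | h1 | h2
      · rw [Finset.card_eq_zero] at h0
        rw [h0, Finset.prod_empty] at hprod
        exact Cfsg.Agent.S0144.result 2 2 0 0 Nat.prime_two Nat.prime_two (by rw [← hprod]; rfl)
      · obtain ⟨p, hp⟩ := Finset.card_eq_one.1 h1
        have hpp := (hT (hp ▸ Finset.mem_singleton_self p : p ∈ T)).1
        rw [hp, Finset.prod_singleton] at hprod
        exact Cfsg.Agent.S0144.result p p (f p) 0 hpp hpp (by rw [← hprod]; simp)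
      · obtain ⟨p, q, hpq, hp⟩ := Finset.card_eq_two.1 h2
        rw [hp, Finset.prod_pair hpq] at hprod
        exact Cfsg.Agent.S0144.result p q (f p) (f q) (hT (hp ▸ by simp : p ∈ T)).1
          (hT (hp ▸ by simp : q ∈ T)).1 hprod.symm
    · obtain ⟨a, ha⟩ := Finset.card_pos.1 (show 0 < T.card by omega)
      obtain ⟨b, hb⟩ := Finset.card_pos.1 (show 0 < (T.erase a).card by rw [Finset.card_erase_of_mem ha]; omega)
      obtain ⟨c, hc'⟩ := Finset.card_pos.1 (show 0 < ((T.erase a).erase b).card by
        rw [Finset.card_erase_of_mem hb, Finset.card_erase_of_mem ha]; omega)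
      obtain ⟨hba, hbT⟩ := Finset.mem_erase.1 hb
      obtain ⟨hcb, hc''⟩ := Finset.mem_erase.1 hc'
      obtain ⟨hca, hcT⟩ := Finset.mem_erase.1 hc''
      obtain ⟨A, hA⟩ := h a (hT ha).1
      obtain ⟨B, hB⟩ := h b (hT hbT).1
      obtain ⟨C, hC⟩ := h c (hT hcT).1
      have hcop : ∀ {x y : ℕ}, x ∈ T → y ∈ T → x ≠ y → (x ^ f x).Coprime (y ^ f y) := fun hx hy hxy =>
        ((Nat.coprime_primes (hT hx).1 (hT hy).1).2 hxy).pow _ _
      exact Cfsg.Agent.S0019.result A B C (hsolv a ha A hA) (hsolv b hbT B hB) (hsolv c hcT C hC)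
        (Cfsg.Agent.H24.exists_mul_of_coprime_index A B (by rw [hA, hB]; exact hcop ha hbT hba.symm))
        (Cfsg.Agent.H24.exists_mul_of_coprime_index A C (by rw [hA, hC]; exact hcop ha hcT hca.symm))
        (by rw [hB, hC]; exact hcop hbT hcT hcb.symm)

/-- Converse of Hall's Theorem: if for every prime p a finite group has a subgroup of index equal to the p-part of the group order (a Hall p-complement), then the group is solvable. -/
theorem result {G : Type*} [Group G] [Finite G]
    (h : ∀ p : ℕ, p.Prime → ∃ H : Subgroup G, H.index = p ^ (Nat.card G).factorization p) :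
    Group.IsSolvable G := by
  exact aux _ G rfl h

end Cfsg.Agent.S0006
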