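import Cfsg.Statements.S0021
import Cfsg.Agent.S0006

set_option autoImplicit false
open Pointwise
open Cfsg
open scoped Pointwise

namespace Cfsg.Agent.S0021

theorem exists_prod {G : Type*} [Group G] [Finite G] (S : (p : Nat.Primes) → Sylow (p : ℕ) G)
    (hS : ∀ p q : Nat.Primes, (S p : Set G) * (S q : Set G) = (S q : Set G) * (S p : Set G))
    (T : Finset Nat.Primes) :
    ∃ K : Subgroup G, (∀ b : Nat.Primes, (K : Set G) * (S b : Set G) = (S b : Set G) * (K : Set G)) ∧
      Nat.card K = ∏ r ∈ T, (r : ℕ) ^ (Nat.card G).factorization r := by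
  classical
  induction T using Finset.induction_on with
  | empty =>
    refine ⟨⊥, fun b => ?_, by simp⟩
    rw [Subgroup.coe_bot, Set.singleton_mul, Set.mul_singleton]
    simp
  | @insert a T ha ih =>
    obtain ⟨K, hK, hKc⟩ := ih
    let A : Subgroup G := (S a : Subgroup G)
    have hAK : (K : Set G) * (A : Set G) = (A : Set G) * (K : Set G) := hK a
    let L : Subgroup G :=
      { carrier := (A : Set G) * (K : Set G)
        one_mem' := ⟨1, one_mem A, 1, one_mem K, one_mul 1⟩
        mul_mem' := by
          intro x y hx hy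
          have h : x * y ∈ (A : Set G) * (K : Set G) * ((A : Set G) * (K : Set G)) := Set.mul_mem_mul hx hy
          rwa [← mul_assoc, mul_assoc (A : Set G) (K : Set G) (A : Set G), hAK, ← mul_assoc,
            coe_mul_coe, mul_assoc, coe_mul_coe] at h
        inv_mem' := by
          rintro _ ⟨x, hx, y, hy, rfl⟩
          rw [← hAK]
          exact ⟨y⁻¹, inv_mem hy, x⁻¹, inv_mem hx, (mul_inv_rev x y).symm⟩ }
    refine ⟨L, fun b => ?_, ?_⟩
    · show (A : Set G) * (K : Set G) * (S b : Set G) = (S b : Set G) * ((A : Set G) * (K : Set G))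
      have hab : (A : Set G) * (S b : Set G) = (S b : Set G) * (A : Set G) := hS a b
      rw [mul_assoc, hK b, ← mul_assoc, hab, mul_assoc]
    · have hA : Nat.card A = (a : ℕ) ^ (Nat.card G).factorization a := by
        have : Fact (a : ℕ).Prime := ⟨a.2⟩
        exact (S a).card_eq_multiplicity
      have hcop : (Nat.card A).Coprime (Nat.card K) := by
        rw [hA, hKc]
        refine Nat.Coprime.prod_right fun r hr => Nat.Coprime.pow _ _ ?_
        exact (Nat.coprime_primes a.2 r.2).2 fun h => ha (Subtype.ext h ▸ hr)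
      have hinj := Subgroup.mul_injective_of_disjoint (Subgroup.disjoint_of_coprime_natCard hcop)
      have hb : Function.Bijective (fun g : A × K => (⟨g.1.1 * g.2.1, Set.mul_mem_mul g.1.2 g.2.2⟩ : L)) :=
        ⟨fun g g' h => hinj (congrArg Subtype.val h), fun ⟨_, x, hx, y, hy, rfl⟩ => ⟨(⟨x, hx⟩, ⟨y, hy⟩), rfl⟩⟩
      rw [← Nat.card_eq_of_bijective _ hb, Nat.card_prod, hA, hKc, Finset.prod_insert ha]

/-- A finite group with a family of pairwise permuting Sylow subgroups, one for each prime, is solvable (this direction rests on Burnside's two-prime Theorem). -/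
theorem result {G : Type*} [Group G] [Finite G]
    (S : (p : Nat.Primes) → Sylow (p : ℕ) G)
    (hS : ∀ p q : Nat.Primes, (S p : Set G) * (S q : Set G) = (S q : Set G) * (S p : Set G)) :
    Group.IsSolvable G := by
  classical
  refine Cfsg.Agent.S0006.result fun p hp => ?_
  let pf := (Nat.card G).primeFactors
  let emb : {r // r ∈ pf.erase p} ↪ Nat.Primes :=
    ⟨fun r => ⟨r.1, Nat.prime_of_mem_primeFactors (Finset.mem_of_mem_erase r.2)⟩,
      fun r r' h => Subtype.ext (congrArg (fun x : Nat.Primes => (x : ℕ)) h)⟩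
  obtain ⟨K, -, hK⟩ := exists_prod S hS ((pf.erase p).attach.map emb)
  refine ⟨K, ?_⟩
  rw [Finset.prod_map] at hK
  replace hK : Nat.card K = ∏ x ∈ (pf.erase p).attach, (x : ℕ) ^ (Nat.card G).factorization (x : ℕ) := hK
  rw [Finset.prod_attach (pf.erase p) fun r => r ^ (Nat.card G).factorization r] at hK
  have h := K.card_mul_index
  have hprod : ∏ r ∈ pf, r ^ (Nat.card G).factorization r = Nat.card G :=
    Nat.prod_factorization_pow_eq_self (n := Nat.card G) Nat.card_pos.ne'
  refine Nat.eq_of_mul_eq_mul_left (Nat.card_pos (α := K)) (h.trans ?_)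
  rw [hK]
  by_cases hpf : p ∈ pf
  · exact hprod.symm.trans (Finset.prod_erase_mul _ _ hpf).symm
  · have h0 : (Nat.card G).factorization p = 0 :=
      Finsupp.notMem_support_iff.1 (by rw [Nat.support_factorization]; exact hpf)
    rw [h0, pow_zero, mul_one, Finset.erase_eq_of_notMem hpf, hprod]

end Cfsg.Agent.S0021
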