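import Cfsg.Statements.S3007
import Cfsg.Agent.H62.CD

set_option autoImplicit false
open scoped Pointwise
open scoped commutatorElement
open Cfsg

namespace Cfsg.Agent.S3007

/-- Let P be a finite p-group and Q, R minimal centrally large subgroups of P (centrally large: |Q|·|Z(Q)| maximal among subgroups of P; minimal among such under inclusion). Then Q = (Q ∩ R)·Z(Q), the derived subgroups [Q, Q] and [R, R] coincide, |Q| = |R| and |Z(Q)| = |Z(R)|; and if Q is abelian then the minimal centrally large subgroups of P are exactly the abelian subgroups of P of largest order. -/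
theorem result {p : ℕ} [Fact p.Prime] (P : Type*) [Group P] [Finite P] (hP : IsPGroup p P) (Q R : Subgroup P) (hQ : Cfsg.IsMinimalCentrallyLarge Q) (hR : Cfsg.IsMinimalCentrallyLarge R) : (Q ⊓ R) ⊔ (Q ⊓ Subgroup.centralizer (Q : Set P)) = Q ∧ ⁅Q, Q⁆ = ⁅R, R⁆ ∧ Nat.card ↥Q = Nat.card ↥R ∧ Nat.card ↥(Q ⊓ Subgroup.centralizer (Q : Set P)) = Nat.card ↥(R ⊓ Subgroup.centralizer (R : Set P)) ∧ (IsMulCommutative ↥Q → ∀ X : Subgroup P, Cfsg.IsMinimalCentrallyLarge X ↔ X ∈ Cfsg.maxAbelianSubgroups P) := by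
  obtain ⟨hsetQ, heqQ⟩ := H62.minimal_cl_pair hQ hR
  obtain ⟨hsetR, heqR⟩ := H62.minimal_cl_pair hR hQ
  rw [inf_comm R Q] at hsetR heqR
  obtain ⟨hQl, hQc⟩ := H62.cl_iff.mp hQ.1
  obtain ⟨hRl, hRc⟩ := H62.cl_iff.mp hR.1
  obtain ⟨-, hDl, -, hpr, hccD⟩ := H62.large_sup_inf hQl hRl
  rw [inf_eq_right.mpr hQc, inf_eq_right.mpr hRc]
  rw [heqQ] at hsetQ
  rw [heqR] at hsetR
  set D := Q ⊓ R with hD
  have hder : ∀ (X : Subgroup P), (X : Set P) = (D : Set P) * (H62.cc X : Set P) → H62.cc X ≤ X → D ≤ X → ⁅X, X⁆ = ⁅D, D⁆ := by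
    intro X hX hXc hDX
    refine le_antisymm (Subgroup.commutator_le.mpr fun a ha b hb => ?_) (Subgroup.commutator_mono hDX hDX)
    have hb0 : b ∈ X := hb
    obtain ⟨d, hd, z, hz, rfl⟩ : a ∈ (D : Set P) * (H62.cc X : Set P) := hX ▸ ha
    obtain ⟨e, he, w, hw, rfl⟩ : b ∈ (D : Set P) * (H62.cc X : Set P) := hX ▸ hb0
    have c1 : Commute z (e * w) := (hz _ hb).symm
    have c2 : Commute d w := hw _ (hDX hd)
    have : ⁅d * z, e * w⁆ = ⁅d, e⁆ := by
      simp only [commutatorElement_def]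
      calc (d * z) * (e * w) * (d * z)⁻¹ * (e * w)⁻¹
          = d * (z * (e * w)) * z⁻¹ * d⁻¹ * (e * w)⁻¹ := by group
        _ = d * ((e * w) * z) * z⁻¹ * d⁻¹ * (e * w)⁻¹ := by rw [c1.eq]
        _ = d * e * (w * d⁻¹) * w⁻¹ * e⁻¹ := by group
        _ = d * e * (d⁻¹ * w) * w⁻¹ * e⁻¹ := by rw [(c2.symm.inv_right).eq]
        _ = d * e * d⁻¹ * e⁻¹ := by group
    rw [this]
    exact Subgroup.commutator_mem_commutator hd he
  have hcQ : Nat.card Q * Nat.card ↥(D ⊓ H62.cc Q) = Nat.card D * Nat.card (H62.cc Q) := by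
    have h := H62.card_prod_mul_card_inf D (H62.cc Q)
    rwa [← hsetQ] at h
  have hcR : Nat.card R * Nat.card ↥(D ⊓ H62.cc R) = Nat.card D * Nat.card (H62.cc R) := by
    have h := H62.card_prod_mul_card_inf D (H62.cc R)
    rwa [← hsetR] at h
  have hI1 : D ⊓ H62.cc Q = H62.cc Q ⊓ H62.cc R := by
    refine le_antisymm (fun x hx => ⟨hx.2, ?_⟩) (le_inf (le_inf (inf_le_left.trans hQc) (inf_le_right.trans hRc)) inf_le_left)
    intro r hr
    obtain ⟨d, hd, z, hz, rfl⟩ : r ∈ (D : Set P) * (H62.cc R : Set P) := hsetR ▸ hr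
    exact Commute.mul_left (hx.2 d hd.1) (hz x hx.1.2).symm
  have hI2 : D ⊓ H62.cc R = H62.cc Q ⊓ H62.cc R := by
    refine le_antisymm (fun x hx => ⟨?_, hx.2⟩) (le_inf (le_inf (inf_le_left.trans hQc) (inf_le_right.trans hRc)) inf_le_right)
    intro r hr
    obtain ⟨d, hd, z, hz, rfl⟩ : r ∈ (D : Set P) * (H62.cc Q : Set P) := hsetQ ▸ hr
    exact Commute.mul_left (hx.2 d hd.2) (hz x hx.1.1).symm
  rw [hI1] at hcQ
  rw [hI2] at hcR
  have hfQ : Nat.card Q * Nat.card (H62.cc Q) = maxCentralizerProduct P := hQl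
  have hfR : Nat.card R * Nat.card (H62.cc R) = maxCentralizerProduct P := hRl
  have hfD : Nat.card D * Nat.card (H62.cc D) = maxCentralizerProduct P := hDl
  have hcD : Nat.card (H62.cc D) * Nat.card ↥(H62.cc Q ⊓ H62.cc R) = Nat.card (H62.cc Q) * Nat.card (H62.cc R) := by
    have h := H62.card_prod_mul_card_inf (H62.cc Q) (H62.cc R)
    rw [← hpr] at h
    rw [hccD]; exact h
  have hzz : Nat.card (H62.cc Q) = Nat.card (H62.cc R) := by
    refine Nat.eq_of_mul_eq_mul_left (Nat.mul_pos (Nat.card_pos : 0 < Nat.card Q) (Nat.card_pos : 0 < Nat.card ↥(H62.cc Q ⊓ H62.cc R))) ?_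
    calc Nat.card Q * Nat.card ↥(H62.cc Q ⊓ H62.cc R) * Nat.card (H62.cc Q)
        = (Nat.card D * Nat.card (H62.cc D)) * Nat.card ↥(H62.cc Q ⊓ H62.cc R) := by rw [hfD, ← hfQ]; ring
      _ = Nat.card D * (Nat.card (H62.cc Q) * Nat.card (H62.cc R)) := by rw [← hcD]; ring
      _ = _ := by rw [hcQ]; ring
  have hqr : Nat.card Q = Nat.card R :=
    Nat.eq_of_mul_eq_mul_right (Nat.card_pos : 0 < Nat.card (H62.cc Q)) (hfQ.trans (by rw [hzz, hfR]))
  refine ⟨heqQ, (hder Q hsetQ hQc inf_le_left).trans (hder R hsetR hRc inf_le_right).symm, hqr, hzz, fun hab X => ?_⟩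
  have hQQ : H62.cc Q = Q := le_antisymm hQc (Subgroup.le_centralizer_iff_isMulCommutative.mpr hab)
  have hmax : ∀ B : Subgroup P, IsMulCommutative B → Nat.card B ≤ Nat.card Q := by
    intro B hB
    have h1 : B ≤ H62.cc B := Subgroup.le_centralizer_iff_isMulCommutative.mpr hB
    have h2 : Nat.card B * Nat.card B ≤ Nat.card Q * Nat.card Q := by
      refine ((Nat.mul_le_mul_left _ (Subgroup.card_le_of_le h1)).trans (H62.meas_le B)).trans (le_of_eq ?_)
      rw [← hfQ, hQQ]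
    exact Nat.mul_self_le_mul_self_iff.mp h2
  have hmin : ∀ Y : Subgroup P, Cfsg.IsMinimalCentrallyLarge Y → Nat.card Y = Nat.card Q ∧ H62.cc Y = Y := by
    intro Y hY
    obtain ⟨hsetY, -⟩ := H62.minimal_cl_pair hY hQ
    obtain ⟨hYl, hYc⟩ := H62.cl_iff.mp hY.1
    obtain ⟨-, heY⟩ := H62.minimal_cl_pair hY hQ
    have hY' : Y ≤ H62.cc Y := by
      conv_lhs => rw [← heY]
      have hDab : Y ⊓ Q ≤ H62.cc (Y ⊓ Q) := inf_le_right.trans (hQQ.symm.le.trans (H62.cc_anti inf_le_right))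
      have h5 : (Y ⊓ Q) ⊔ H62.cc Y ≤ H62.cc ((Y ⊓ Q) ⊔ H62.cc Y) := by
        rw [H62.cc_sup]
        exact sup_le (le_inf hDab ((inf_le_left : Y ⊓ Q ≤ Y).trans (H62.le_cc_cc Y)))
          (le_inf (H62.cc_anti inf_le_left) (H62.cc_anti hYc))
      rwa [heY] at h5 ⊢
    have hYY : H62.cc Y = Y := le_antisymm hYc hY'
    refine ⟨Nat.mul_self_inj.mp ?_, hYY⟩
    have hYf : Nat.card Y * Nat.card (H62.cc Y) = maxCentralizerProduct P := hYl
    rw [hYY] at hYf
    rw [hYf, ← hfQ, hQQ]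
  constructor
  · intro hX
    obtain ⟨h1, h2⟩ := hmin X hX
    exact ⟨H62.isMulCommutative_of_le_cc h2.symm.le, fun B hB => (hmax B hB).trans h1.ge⟩
  · intro hX
    have hXX := H62.cc_maxAbelian hX
    have hcard : Nat.card X = Nat.card Q := le_antisymm (hmax X hX.1) (hX.2 Q hab)
    refine ⟨H62.cl_iff.mpr ⟨H62.large_of_le (le_of_eq ?_), hXX.le⟩, fun R' hR' hR'cl => ?_⟩
    · rw [H62.meas, hXX, hcard, ← hfQ, hQQ]
    · obtain ⟨Y, hYle, hY⟩ := H62.exists_minimal_cl_le hR'cl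
      refine Subgroup.eq_of_le_of_card_ge hR' ?_
      rw [hcard, ← (hmin Y hY).1]
      exact Subgroup.card_le_of_le hYle

end Cfsg.Agent.S3007
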