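import Cfsg.Statements.S2770
import Cfsg.Agent.H59.PSLFacts
import Cfsg.Agent.H59.PIrred
import Cfsg.Agent.H59.ThompsonMap
import Cfsg.Agent.H59.ThompsonComplement

set_option autoImplicit false
open Cfsg

namespace Cfsg.Agent.S2770

open Subgroup Cfsg.Agent
open scoped Pointwise

/-- Let G be a finite group and p a prime with C_G(O_p(G)) ≤ O_p(G), S a Sylow p-subgroup lying in exactly one maximal subgroup of G, and G/K ≅ PSL₂(p^n) for some normal K and n ≥ 1. If Z(S) is not elementary abelian, then either ℧¹(Z(S)) (the subgroup generated by the p-th powers of the elements of Z(S)) is normal in G or C_S(Z(J(S))) is normal in G, J(S) being generated by the abelian subgroups of S of largest order. -/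
theorem result {G : Type*} [Group G] [Finite G] {p : ℕ} [Fact p.Prime] (S : Sylow p G) (hE₁ : Subgroup.centralizer (Cfsg.pCore p G : Set G) ≤ Cfsg.pCore p G) (hE₂ : ∃! M : Subgroup G, IsCoatom M ∧ (S : Subgroup G) ≤ M) (K : Subgroup G) [K.Normal] (F : Type) [Field F] [Fintype F] (n : ℕ) (hn : 1 ≤ n) (hF : Fintype.card F = p ^ n) (hE₃ : Nonempty (G ⧸ K ≃* Matrix.ProjectiveSpecialLinearGroup (Fin 2) F)) (h : ¬ Cfsg.IsElementaryAbelian p ((S : Subgroup G) ⊓ Subgroup.centralizer ((S : Subgroup G) : Set G))) : (Cfsg.powerClosure p 1 ((S : Subgroup G) ⊓ Subgroup.centralizer ((S : Subgroup G) : Set G))).Normal ∨ (((S : Subgroup G) ⊓ Subgroup.centralizer (Cfsg.centerThompsonAOf (S : Subgroup G) : Set G))).Normal := by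
  classical
  obtain ⟨M, ⟨hM, hSM⟩, huniq⟩ := hE₂
  obtain ⟨e⟩ := hE₃
  obtain ⟨hchar, -⟩ := H59.charP_of_card_eq hF
  set P := Cfsg.pCore p G with hP
  have hPn : P.Normal := inferInstance
  have hPS : P ≤ (S : Subgroup G) := Cores.pCore_le_sylow S
  set R := Cfsg.pResidual p G with hR
  have hRS : (S : Subgroup G) ⊔ R = ⊤ := Fusion.sylow_sup_pResidual S
  -- normal subgroups not covering
  have hN : ∀ N : Subgroup G, N.Normal → ¬ R ≤ N → N ≤ M ∧ (S : Subgroup G) ⊓ N ≤ P := by
    intro N hNn hRN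
    have h1 : (S : Subgroup G) ⊔ N ≠ ⊤ := fun h => hRN (H59.pResidual_le_of_sylow_sup S h)
    obtain ⟨M', hM', hle⟩ := (eq_top_or_exists_le_coatom _).resolve_left h1
    have hNM : N ≤ M := huniq M' ⟨hM', le_sup_left.trans hle⟩ ▸ le_sup_right.trans hle
    refine ⟨hNM, ?_⟩
    obtain ⟨Q, hQ⟩ := H59.exists_sylow_eq_inf S (C := N) le_normalizer_of_normal
    have hfr := Sylow.normalizer_sup_eq_top Q
    rw [hQ, subgroupOf_map_subtype, inf_of_le_left inf_le_right] at hfr
    have hSn : (S : Subgroup G) ≤ normalizer (((S : Subgroup G) ⊓ N : Subgroup G) : Set G) :=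
      fun t ht => H59.mem_normalizer_of_forall fun u hu =>
        ⟨(mul_mem (mul_mem ht hu.1) (inv_mem ht) : t * u * t⁻¹ ∈ (S : Subgroup G)), hNn.conj_mem u hu.2 t⟩
    have hntop : normalizer (((S : Subgroup G) ⊓ N : Subgroup G) : Set G) = ⊤ := by
      by_contra hne
      obtain ⟨M'', hM'', hle'⟩ := (eq_top_or_exists_le_coatom _).resolve_left hne
      have := huniq M'' ⟨hM'', hSn.trans hle'⟩ ▸ hle'
      exact hM.1 (top_le_iff.mp (hfr ▸ sup_le this hNM))
    have := normalizer_eq_top_iff.mp hntop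
    exact Cores.le_pCore (S.isPGroup'.to_le inf_le_left)
  have hcentral : ∀ x : G, x ∈ centralizer ((S : Subgroup G) : Set G) → x ∈ centralizer (R : Set G) →
      x ∈ center G := by
    intro x hxS hxR
    have : (⊤ : Subgroup G) ≤ centralizer ({x} : Set G) := hRS ▸ sup_le
      (fun s hs => by rintro _ rfl; exact (hxS s hs).symm)
      (fun s hs => by rintro _ rfl; exact (hxR s hs).symm)
    exact mem_center_iff.mpr fun g => (this (mem_top g) x rfl).symm
  set Z := (S : Subgroup G) ⊓ centralizer ((S : Subgroup G) : Set G) with hZ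
  have hleft : (∀ x ∈ Z, x ^ p ∈ centralizer (R : Set G)) → (Cfsg.powerClosure p 1 Z).Normal := by
    intro hh
    refine ⟨fun y hy g => ?_⟩
    have h1 : Cfsg.powerClosure p 1 Z ≤ center G := by
      refine (closure_le _).mpr ?_
      rintro _ ⟨x, hx, rfl⟩
      rw [pow_one]
      exact hcentral _ (pow_mem hx.2 p) (hh x hx)
    rwa [mem_center_iff.mp (h1 hy) g, mul_inv_cancel_right]
  -- `K` and its intersection with `S`
  let π := QuotientGroup.mk' K
  let f₀ : G →* Matrix.ProjectiveSpecialLinearGroup (Fin 2) F := e.toMonoidHom.comp π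
  have hf₀ : Function.Surjective f₀ := e.surjective.comp (QuotientGroup.mk'_surjective K)
  have hKer : ∀ x : G, f₀ x = 1 ↔ x ∈ K := fun x => by
    refine ⟨fun h => (QuotientGroup.eq_one_iff x).mp (e.injective (h.trans (map_one e).symm)),
      fun h => ?_⟩
    change e (π x) = 1
    rw [show π x = 1 from (QuotientGroup.eq_one_iff x).mpr h, map_one]
  have hRK : ¬ R ≤ K := by
    intro hRK
    refine H59.not_isPGroup_psl (F := F) (p := p) (S.isPGroup'.of_surjective
      (f₀.comp (S : Subgroup G).subtype) fun y => ?_)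
    obtain ⟨x, rfl⟩ := hf₀ y
    have hx : x ∈ (((S : Subgroup G) ⊔ R : Subgroup G) : Set G) := hRS ▸ mem_top x
    rw [mul_normal] at hx
    obtain ⟨s, hs, r, hr, rfl⟩ := hx
    refine ⟨⟨s, hs⟩, ?_⟩
    change f₀ s = f₀ (s * r)
    rw [map_mul, (hKer r).mpr (hRK hr), mul_one]
  have hPK : P ≤ K := fun x hx => by
    refine (hKer x).mp (mem_bot.mp ?_)
    rw [← H59.pCore_psl (F := F) (p := p)]
    exact Cores.pCore_map_le hf₀ (mem_map_of_mem f₀ hx)
  have hSK := (hN K inferInstance hRK).2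
  -- `V = Z(P)`
  set V := P ⊓ centralizer (P : Set G) with hV
  have hCPn : (centralizer (P : Set G)).Normal := normal_centralizer
  have hVn : ∀ (v : G), v ∈ V → ∀ g : G, g * v * g⁻¹ ∈ V := fun v hv g =>
    ⟨hPn.conj_mem v hv.1 g, hCPn.conj_mem v hv.2 g⟩
  have hVV : V ≤ centralizer (V : Set G) := fun a ha b hb => ha.2 b hb.1
  have hVp : IsPGroup p V := (Cores.pCore_isPGroup (p := p) (G := G)).to_le inf_le_left
  have hZV : Z ≤ V := fun z hz => by
    have h1 : z ∈ centralizer (P : Set G) := centralizer_le hPS hz.2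
    exact ⟨hE₁ h1, h1⟩
  set J := Cfsg.thompsonSubgroupAOf (S : Subgroup G) with hJ
  by_cases hJP : J ≤ P
  · -- the Thompson subgroup lies in `O_p`
    set ZJ := Cfsg.centerThompsonAOf (S : Subgroup G) with hZJ
    have hJn : ∀ g : G, g ∈ normalizer (J : Set G) := fun g => by
      have h1 := H59.thompsonAOf_eq_of_le hPS hJP
      rw [hJ, ← h1]
      exact H59.normalizer_le_normalizer_thompsonAOf P (le_normalizer_of_normal (mem_top g))
    have hZJn : ∀ g : G, g ∈ normalizer (ZJ : Set G) := fun g =>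
      H59.normalizer_le_normalizer_center J (hJn g)
    set C := centralizer (ZJ : Set G) with hC
    have hCn : C.Normal := by
      have : ZJ.Normal := normalizer_eq_top_iff.mp (top_le_iff.mp fun g _ => hZJn g)
      exact normal_centralizer
    by_cases hRC : R ≤ C
    · left
      refine hleft fun x hx => ?_
      suffices hxZJ : x ∈ ZJ from pow_mem (le_centralizer_iff.mp hRC hxZJ) p
      refine ⟨?_, centralizer_le (H59.thompsonAOf_le (S : Subgroup G)) hx.2⟩
      obtain ⟨A, hA1, hA2⟩ := (Set.toFinite {B : Subgroup G | B ≤ (S : Subgroup G) ∧ IsMulCommutative B})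
        |>.exists_maximalFor (fun B : Subgroup G => Nat.card B) _
          ⟨⊥, bot_le, (inferInstance : IsMulCommutative (⊥ : Subgroup G))⟩
      have hAB : IsMulCommutative (A ⊔ zpowers x : Subgroup G) := by
        have hxA : zpowers x ≤ centralizer (A : Set G) :=
          zpowers_le.mpr (centralizer_le hA1.1 hx.2)
        have h2 : A ⊔ zpowers x ≤ centralizer ((A ⊔ zpowers x : Subgroup G) : Set G) := by
          refine sup_le ?_ ?_
          · rw [le_centralizer_iff, sup_le_iff]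
            exact ⟨H59.le_centralizer_self hA1.2, hxA⟩
          · rw [le_centralizer_iff, sup_le_iff]
            exact ⟨le_centralizer_iff.mp hxA, H59.le_centralizer_self inferInstance⟩
        exact ⟨⟨fun a b => Subtype.ext (mem_centralizer_iff.mp (h2 b.2) _ a.2)⟩⟩
      refine H59.le_thompsonAOf (sup_le hA1.1 (zpowers_le.mpr hx.1)) hAB (fun B hB hBc => ?_)
        (mem_sup_right (S := A) (mem_zpowers x))
      refine le_trans ?_ (Subgroup.card_le_of_le le_sup_left)
      exact (le_total (Nat.card B) (Nat.card A)).elim id fun hle => hA2 ⟨hB, hBc⟩ hle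
    · right
      have h1 := (hN C hCn hRC).2
      have h2 : (S : Subgroup G) ⊓ C = P ⊓ C :=
        le_antisymm (le_inf h1 inf_le_right) (inf_le_inf_right _ hPS)
      rw [h2]
      exact ⟨fun v hv g => ⟨hPn.conj_mem v hv.1 g, hCn.conj_mem v hv.2 g⟩⟩
  -- an abelian subgroup of largest order outside `O_p`
  left
  obtain ⟨A, hAS, hAc, hAmax, hAP⟩ : ∃ A : Subgroup G, A ≤ S ∧ IsMulCommutative A ∧
      (∀ B : Subgroup G, B ≤ S → IsMulCommutative B → Nat.card B ≤ Nat.card A) ∧ ¬ A ≤ P := by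
    by_contra hcon
    push Not at hcon
    refine hJP (map_le_iff_le_comap.mpr (sSup_le fun A hA => map_le_iff_le_comap.mp ?_))
    refine hcon _ (map_subtype_le A) (H59.isMulCommutative_map _ hA.1) fun B hBS hB => ?_
    rw [card_map_of_injective (S : Subgroup G).subtype_injective,
      ← Nat.card_congr (subgroupOfEquivOfLe hBS).toEquiv]
    exact hA.2 _ ⟨⟨fun x y => Subtype.ext (Subtype.ext (congrArg (fun z : B => (z : G))
      (hB.is_comm.comm (⟨_, x.2⟩ : B) ⟨_, y.2⟩)))⟩⟩
  obtain ⟨a, haA, haP⟩ := SetLike.not_le_iff_exists.mp hAP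
  have haK : a ∉ K := fun h => haP (hSK ⟨hAS haA, h⟩)
  set W := H59.omegaAb p V hVV with hW
  have hWn : ∀ g : G, ∀ w ∈ W, g * w * g⁻¹ ∈ W := fun g w hw =>
    ⟨hVn w hw.1 g, by rw [conj_pow, hw.2, mul_one, mul_inv_cancel]⟩
  have : W.Normal := ⟨fun w hw g => hWn g w hw⟩
  set CW := centralizer (W : Set G) with hCW
  have hCWn : CW.Normal := normal_centralizer
  refine hleft fun x hx => ?_
  by_cases hRW : R ≤ CW
  · refine pow_mem ?_ p
    intro r hr
    suffices hle : R ≤ centralizer (V : Set G) from (hle hr x (hZV hx)).symm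
    refine Fusion.pResidual_le.mpr fun g hg v hv => ?_
    have hVc : IsMulCommutative V := ⟨⟨fun a b => Subtype.ext (hVV b.2 _ a.2)⟩⟩
    exact (H59.commute_of_commute_omega hVc hVp
      (H59.mem_normalizer_of_forall fun u hu => hVn u hu g) hg
      (fun w hw hwp => (hRW (Fusion.mem_pResidual hg) w ⟨hw, hwp⟩).symm) v hv).symm
  obtain ⟨hCWM, hSCW⟩ := hN CW hCWn hRW
  -- apply the bound to `a` on `W`
  let H : Subgroup G := ⊤
  let f : H →* Matrix.ProjectiveSpecialLinearGroup (Fin 2) F := f₀.comp H.subtype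
  have hq : 2 ≤ n → ∀ h : H, (h : G) ∈ centralizer (W : Set G) → f h = 1 := by
    intro hn2 h hh
    have h4 : 4 ≤ Nat.card F := by
      rw [Nat.card_eq_fintype_card, hF]
      calc 4 = 2 ^ 2 := by norm_num
        _ ≤ p ^ 2 := Nat.pow_le_pow_left (Fact.out : p.Prime).two_le 2
        _ ≤ p ^ n := Nat.pow_le_pow_right (Fact.out : p.Prime).pos hn2
    have := Linear.isSimpleGroup_PSL_fin (F := F) (n := 2) le_rfl fun _ => h4
    rcases (hCWn.map f₀ hf₀).eq_bot_or_eq_top with h0 | h0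
    · exact mem_bot.mp (h0 ▸ mem_map_of_mem f₀ hh)
    · exfalso
      obtain ⟨hKM, -⟩ := hN K inferInstance hRK
      refine hM.1 (eq_top_iff.mpr fun g _ => ?_)
      obtain ⟨c, hc, hcg⟩ := (h0 ▸ mem_top (f₀ g) : f₀ g ∈ CW.map f₀)
      have : c⁻¹ * g ∈ K := (hKer _).mp (by rw [map_mul, map_inv, hcg, inv_mul_cancel])
      simpa using mul_mem (hCWM hc) (hKM this)
  have hbound := (H59.sl2_bound' (V := W) (H := H)
    (hVp.to_le fun w hw => hw.1)
    (fun g _ => H59.mem_normalizer_of_forall fun w hw => hWn g w hw) hF f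
    (hf₀.comp (fun g => ⟨⟨g, mem_top g⟩, rfl⟩)) hq ⟨a, mem_top a⟩
    (by
      obtain ⟨k, hk⟩ := S.isPGroup' ⟨a, hAS haA⟩
      exact ⟨k, Subtype.ext (by simpa using congrArg Subtype.val hk)⟩)
    (fun h => haK ((hKer a).mp h)) (fun h => haP (hSCW ⟨hAS haA, h⟩))).1
  -- the counting
  set Ca := V ⊓ centralizer ({a} : Set G) with hCa
  have hidxA : (A ⊓ P).relIndex A ≤ p ^ n := by
    rw [← hF]
    refine le_trans (le_of_eq ?_) (H59.card_le_of_pGroup_psl (p := p) ((S.isPGroup'.to_le hAS).map f₀))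
    have hker : (A ⊓ P).subgroupOf A = (f₀.comp A.subtype).ker := by
      ext ⟨y, hy⟩
      exact ⟨fun h => (hKer y).mpr (hPK h.2), fun h => ⟨hy, hSK ⟨hAS hy, (hKer y).mp h⟩⟩⟩
    rw [relIndex, hker, index_ker, MonoidHom.range_comp, range_subtype]
  have hVA : (V ⊓ A).relIndex V ≤ p ^ n := by
    refine le_trans ?_ hidxA
    have hcomm : IsMulCommutative ((A ⊓ P) ⊔ V : Subgroup G) := by
      have hAV : A ⊓ P ≤ centralizer (V : Set G) := fun y hy v hv => (hv.2 y hy.2).symm
      have h2 : (A ⊓ P) ⊔ V ≤ centralizer (((A ⊓ P) ⊔ V : Subgroup G) : Set G) := by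
        refine sup_le ?_ ?_
        · rw [le_centralizer_iff, sup_le_iff]
          exact ⟨inf_le_left.trans ((H59.le_centralizer_self hAc).trans (centralizer_le inf_le_left)),
            le_centralizer_iff.mp hAV⟩
        · rw [le_centralizer_iff, sup_le_iff]
          exact ⟨hAV, hVV⟩
      exact ⟨⟨fun a b => Subtype.ext (mem_centralizer_iff.mp (h2 b.2) _ a.2)⟩⟩
    have hle := hAmax _ (sup_le (inf_le_left.trans hAS) (inf_le_left.trans hPS)) hcomm
    have hVnn : V.Normal := ⟨fun v hv g => hVn v hv g⟩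
    have h3 := Cores.card_sup_mul_card_inf (A ⊓ P) V
    have e1 : Nat.card ↥(V ⊓ A) * (V ⊓ A).relIndex V = Nat.card V := by
      have := ((V ⊓ A).subgroupOf V).card_mul_index
      rwa [Nat.card_congr (subgroupOfEquivOfLe (inf_le_left : V ⊓ A ≤ V)).toEquiv] at this
    have e2 : Nat.card ↥(A ⊓ P) * (A ⊓ P).relIndex A = Nat.card A := by
      have := ((A ⊓ P).subgroupOf A).card_mul_index
      rwa [Nat.card_congr (subgroupOfEquivOfLe (inf_le_left : A ⊓ P ≤ A)).toEquiv] at this
    rw [show (A ⊓ P) ⊓ V = V ⊓ A by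
      rw [inf_assoc, inf_of_le_right (inf_le_left : V ≤ P), inf_comm]] at h3
    have h5 : Nat.card ↥((A ⊓ P) ⊔ V) = Nat.card ↥(A ⊓ P) * (V ⊓ A).relIndex V := by
      rw [← e1, mul_comm (Nat.card ↥(V ⊓ A)), ← mul_assoc] at h3
      exact Nat.eq_of_mul_eq_mul_right Nat.card_pos h3
    rw [h5, ← e2] at hle
    exact Nat.le_of_mul_le_mul_left hle Nat.card_pos
  have hCaV : Ca.relIndex V ≤ p ^ n := by
    refine le_trans (Nat.le_of_dvd (Nat.pos_of_ne_zero index_ne_zero_of_finite) ?_) hVA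
    refine relIndex_dvd_of_le_left V fun y hy => ⟨hy.1, ?_⟩
    intro z hz
    rw [Set.mem_singleton_iff.mp hz]
    exact H59.le_centralizer_self hAc hy.2 a haA
  have hWV : W ≤ V := fun w hw => hw.1
  have hsup : V ≤ W ⊔ Ca := by
    have hWC : W ⊓ centralizer ({a} : Set G) = Ca ⊓ W := by
      rw [hCa, inf_assoc, inf_comm (centralizer ({a} : Set G)) W, ← inf_assoc, inf_of_le_right hWV]
    have h1 : p ^ n ≤ Ca.relIndex (W ⊔ Ca) := by
      refine hbound.trans (le_of_eq ?_)
      rw [show (W ⊓ centralizer ({((⟨a, mem_top a⟩ : H) : G)} : Set G)) = Ca ⊓ W from hWC]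
      have c1 := ((Ca ⊓ W).subgroupOf W).card_mul_index
      rw [Nat.card_congr (subgroupOfEquivOfLe (inf_le_right : Ca ⊓ W ≤ W)).toEquiv] at c1
      have c2 := (Ca.subgroupOf (W ⊔ Ca)).card_mul_index
      rw [Nat.card_congr (subgroupOfEquivOfLe (le_sup_right : Ca ≤ W ⊔ Ca)).toEquiv] at c2
      have c3 := Cores.card_sup_mul_card_inf Ca W
      rw [sup_comm Ca W, ← c2, ← c1, mul_assoc, ← mul_assoc (Nat.card Ca), mul_comm _ (Nat.card ↥(Ca ⊓ W))] at c3
      simp only [relIndex]
      refine Nat.eq_of_mul_eq_mul_left (Nat.mul_pos (Nat.card_pos (α := Ca)) (Nat.card_pos (α := ↥(Ca ⊓ W)))) ?_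
      linarith
    have h2 : Ca.relIndex (W ⊔ Ca) * (W ⊔ Ca).relIndex V = Ca.relIndex V :=
      relIndex_mul_relIndex Ca (W ⊔ Ca) V le_sup_right (sup_le hWV inf_le_left)
    rw [← relIndex_eq_one]
    have hpos : 0 < p ^ n := Nat.pow_pos (Fact.out : p.Prime).pos
    have h3 : 1 ≤ (W ⊔ Ca).relIndex V := Nat.pos_of_ne_zero index_ne_zero_of_finite
    have h4 : Ca.relIndex (W ⊔ Ca) * (W ⊔ Ca).relIndex V ≤ Ca.relIndex (W ⊔ Ca) * 1 := by
      rw [h2, mul_one]; exact hCaV.trans h1
    exact le_antisymm (Nat.le_of_mul_le_mul_left h4 (hpos.trans_le h1)) h3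
  have hpow : ∀ v ∈ V, v ^ p ∈ centralizer ({a} : Set G) := by
    intro v hv
    have hv' : v ∈ ((W ⊔ Ca : Subgroup G) : Set G) := hsup hv
    rw [normal_mul] at hv'
    obtain ⟨w, hw, c, hc, rfl⟩ := hv'
    rw [(show Commute w c from hVV hc.1 w hw.1).mul_pow, hw.2, one_mul]
    exact pow_mem hc.2 p
  set X : Set G := {y | ∃ v ∈ V, y = v ^ p} with hX
  have hXn : (centralizer X).Normal := by
    refine ⟨fun y hy g => ?_⟩
    rintro _ ⟨v, hv, rfl⟩
    have h1 := hy _ ⟨_, hVn v hv g⁻¹, rfl⟩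
    rw [conj_pow] at h1
    have h2 := (show Commute _ _ from h1).map (MulAut.conj g).toMonoidHom
    simpa [mul_assoc] using h2.eq
  by_cases hRX : R ≤ centralizer X
  · exact fun r hr => (hRX hr _ ⟨x, hZV hx, rfl⟩).symm
  · exfalso
    refine haP ((hN _ hXn hRX).2 ⟨hAS haA, ?_⟩)
    rintro _ ⟨v, hv, rfl⟩
    exact (hpow v hv a rfl).symm

end Cfsg.Agent.S2770
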