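import Cfsg.Statements.S2989
import Cfsg.Agent.H46.PushUp.Main
-- import your own Cfsg.Agent.* helpers here

set_option autoImplicit false
open Cfsg

namespace Cfsg.Agent.S2989

/-- Let G be a finite group and S a Sylow p-subgroup of G in the basic pushing-up situation (G ≠ 1, C_G(O_p(G)) ≤ O_p(G), S lies in a unique maximal subgroup of G, and some quotient of G is isomorphic to PSL₂ over a field of order a power of p), and suppose that S centralizes Z(J(S)), where J(S) is generated by the abelian subgroups of S of largest order (that is, J̃(S) = C_S(Z(J(S))) = S). Call a subgroup R of S centrally large if |R|·|Z(R)| is as large as possible among subgroups of S, and let S_Φ be the subgroup generated by the Frattini subgroups Φ(Q) of those minimal centrally large subgroups Q of S whose Ω₁(Z(Q)) has the largest order among minimal centrally large subgroups. Then Z(S) or S_Φ is normal in G; and if S_Φ = 1, the minimal centrally large subgroups of S are exactly the abelian subgroups of S of largest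 order, and at least one of them is elementary abelian. -/
theorem result {G : Type*} [Group G] [Finite G] {p : ℕ} [Fact p.Prime] (S : Subgroup G) (hE : Cfsg.IsPushingUpSituation p S) (hJ : S ≤ Subgroup.centralizer (Cfsg.centerThompsonAOf S : Set G)) : ((S ⊓ Subgroup.centralizer (S : Set G)).Normal ∨ ((Cfsg.frattiniOfMinimalCLJoin p ↥S).map S.subtype).Normal) ∧ (Cfsg.frattiniOfMinimalCLJoin p ↥S = ⊥ → (∀ Q : Subgroup ↥S, Cfsg.IsMinimalCentrallyLarge Q ↔ Q ∈ Cfsg.maxAbelianSubgroups ↥S) ∧ ∃ A ∈ Cfsg.maxAbelianSubgroups ↥S, Cfsg.IsElementaryAbelian p A) := by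
  obtain ⟨P, rfl, ⟨D⟩⟩ := Cfsg.Agent.H46.PushUp.exists_sit hE
  have hP := P.isPGroup'
  refine ⟨?_, fun h => ?_⟩
  · by_cases hZ : ((P : Subgroup G) ⊓ Subgroup.centralizer ((P : Subgroup G) : Set G)).Normal
    · exact Or.inl hZ
    · obtain ⟨m⟩ := Cfsg.Agent.H46.PushUp.exists_module D hZ
      exact Or.inr (Cfsg.Agent.H46.PushUp.frattiniJoin_normal m)
  · obtain ⟨Q, hQ, hQm⟩ : Cfsg.maxOmegaCenterOfMinimalCL p ↥(P : Subgroup G) ∈
        {k : ℕ | ∃ Q : Subgroup (P : Subgroup G), Cfsg.IsMinimalCentrallyLarge Q ∧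
          Nat.card ↥(Cfsg.omegaOneCenter p Q) = k} := by
      obtain ⟨Q₀, hQ₀⟩ := Cfsg.Agent.H62.exists_minimal_cl (G := (P : Subgroup G))
      exact Nat.sSup_mem ⟨_, Q₀, hQ₀, rfl⟩ ((Set.finite_range fun R : Subgroup (P : Subgroup G) =>
        Nat.card ↥(Cfsg.omegaOneCenter p R)).subset (by rintro k ⟨R, -, rfl⟩; exact ⟨R, rfl⟩)).bddAbove
    have hphi : Cfsg.Agent.H46.PushUp.phi p Q ≤ ⊥ := by
      rw [← h, ← Cfsg.Agent.H46.PushUp.frattini_map hP]
      exact le_iSup (fun X : {X : Subgroup (P : Subgroup G) // Cfsg.IsMinimalCentrallyLarge X ∧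
          Nat.card ↥(Cfsg.omegaOneCenter p X) = Cfsg.maxOmegaCenterOfMinimalCL p ↥(P : Subgroup G)} =>
        (frattini ↥(X : Subgroup (P : Subgroup G))).map (X : Subgroup (P : Subgroup G)).subtype)
        ⟨Q, hQ, hQm⟩
    have hab : IsMulCommutative Q := by
      refine Subgroup.le_centralizer_iff_isMulCommutative.mp fun a ha b hb => ?_
      exact commutatorElement_eq_one_iff_mul_comm.mp (Subgroup.mem_bot.mp
        (hphi (Subgroup.subset_closure (Or.inl ⟨b, hb, a, ha, rfl⟩))))
    have hiff := (Cfsg.Agent.S3007.result _ hP Q Q hQ hQ).2.2.2.2 hab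
    exact ⟨hiff, Q, (hiff Q).mp hQ, hab, fun a ha => Subgroup.mem_bot.mp
      (hphi (Subgroup.subset_closure (Or.inr ⟨a, ha, rfl⟩)))⟩

end Cfsg.Agent.S2989
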