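import Cfsg.Statements.S3008
import Cfsg.Agent.H62.CD
import Cfsg.Agent.H62.MCLNormal

set_option autoImplicit false
open Cfsg

namespace Cfsg.Agent.S3008

/-- A centrally large `Q` joined with `J` is centrally large and contains `C(Z(J))`. -/
theorem part1 {P : Type*} [Group P] [Finite P] {Q : Subgroup P} (hQ : Cfsg.IsCentrallyLarge Q) :
    Subgroup.centralizer ((Cfsg.thompsonSubgroupA P ⊓
      Subgroup.centralizer (Cfsg.thompsonSubgroupA P : Set P) : Subgroup P) : Set P) ≤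
        Q ⊔ Cfsg.thompsonSubgroupA P := by
  obtain ⟨X, ⟨hX, hQX, hXle⟩, hmax⟩ := (Set.toFinite {X : Subgroup P | Cfsg.IsCentrallyLarge X ∧
    Q ≤ X ∧ X ≤ Q ⊔ Cfsg.thompsonSubgroupA P}).exists_maximal ⟨Q, hQ, le_rfl, le_sup_left⟩
  have hJ : Cfsg.thompsonSubgroupA P ≤ X := sSup_le fun A hA =>
    (le_sup_right : A ≤ X ⊔ A).trans (hmax ⟨(H62.cl_sup_maxAbelian hX hA).1,
      hQX.trans le_sup_left, sup_le hXle ((le_sSup hA).trans le_sup_right)⟩ le_sup_left)
  exact (H62.cc_center_thompsonA_le hX hJ).trans hXle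

/-- If some abelian subgroup is centrally large, minimal centrally large subgroups are abelian. -/
theorem abelian_of_cl {P : Type*} [Group P] [Finite P] {A : Subgroup P}
    (hA : Cfsg.IsCentrallyLarge A) (hab : A ≤ H62.cc A) {Q : Subgroup P}
    (hQ : Cfsg.IsMinimalCentrallyLarge Q) : Q ≤ H62.cc Q := by
  obtain ⟨R, hRA, hR⟩ := H62.exists_minimal_cl_le hA
  obtain ⟨-, he⟩ := H62.minimal_cl_pair hQ hR
  obtain ⟨-, hQc⟩ := H62.cl_iff.1 hQ.1
  conv_lhs => rw [← he]
  have hD : Q ⊓ R ≤ H62.cc (Q ⊓ R) :=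
    inf_le_right.trans (hRA.trans (hab.trans (H62.cc_anti (inf_le_right.trans hRA))))
  have h5 : (Q ⊓ R) ⊔ H62.cc Q ≤ H62.cc ((Q ⊓ R) ⊔ H62.cc Q) := by
    rw [H62.cc_sup]
    exact sup_le (le_inf hD ((inf_le_left : Q ⊓ R ≤ Q).trans (H62.le_cc_cc Q)))
      (le_inf (H62.cc_anti inf_le_left) (H62.cc_anti hQc))
  rwa [he] at h5 ⊢

/-- Let P be a finite p-group, with J(P) generated by its abelian subgroups of largest order and J̃(P) = C_P(Z(J(P))); call R ≤ P centrally large if |R|·|Z(R)| is as large as possible, and let P_MCL be generated by the minimal centrally large subgroups. Then: for every centrally large Q, Q·J(P) ⊇ J̃(P); some minimal centrally large subgroup of P is normalized by both J(P) and P_MCL; if P = J(P) and d(P)² = |P|·|Z(P)|, where d(P) is the largest order of an abelian subgroup, then every minimal centrally large subgroup of P is abelian; and if every minimal centrally large subgroup is abelian then J̃(P) = J(P). -/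
theorem result {p : ℕ} [Fact p.Prime] (P : Type*) [Group P] [Finite P] (hP : IsPGroup p P) : (∀ Q : Subgroup P, Cfsg.IsCentrallyLarge Q → Subgroup.centralizer ((Cfsg.thompsonSubgroupA P ⊓ Subgroup.centralizer (Cfsg.thompsonSubgroupA P : Set P) : Subgroup P) : Set P) ≤ Q ⊔ Cfsg.thompsonSubgroupA P) ∧ (∃ Q : Subgroup P, Cfsg.IsMinimalCentrallyLarge Q ∧ Cfsg.thompsonSubgroupA P ≤ Subgroup.normalizer (Q : Set P) ∧ Cfsg.minimalCentrallyLargeJoin P ≤ Subgroup.normalizer (Q : Set P)) ∧ (Cfsg.thompsonSubgroupA P = ⊤ → (∀ A ∈ Cfsg.maxAbelianSubgroups P, Nat.card ↥A ^ 2 = Nat.card P * Nat.card ↥(Subgroup.center P)) → ∀ Q : Subgroup P, Cfsg.IsMinimalCentrallyLarge Q → IsMulCommutative ↥Q) ∧ ((∀ Q : Subgroup P, Cfsg.IsMinimalCentrallyLarge Q → IsMulCommutative ↥Q) → Subgroup.centralizer ((Cfsg.thompsonSubgroupA P ⊓ Subgroup.centralizer (Cfsg.thompsonSubgroupA P : Set P) : Subgroup P) : Set P) = Cfsg.thompsonSubgroupA P) := by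
  refine ⟨fun Q hQ => part1 hQ, H62.MCL.exists_normalized hP, fun hJ hcard Q hQ => ?_, fun hall => ?_⟩
  · obtain ⟨A, hA⟩ := H62.exists_maxAbelian (G := P)
    have hAA := H62.cc_maxAbelian hA
    obtain ⟨R, hR⟩ := H62.exists_cl (G := P)
    obtain ⟨X, ⟨hX, hRX⟩, hmax⟩ := (Set.toFinite {X : Subgroup P | Cfsg.IsCentrallyLarge X ∧ R ≤ X}).exists_maximal
      ⟨R, hR, le_rfl⟩
    have hXtop : X = ⊤ := by
      rw [← top_le_iff, ← hJ]
      refine sSup_le fun B hB => (le_sup_right : B ≤ X ⊔ B).trans (hmax ⟨(H62.cl_sup_maxAbelian hX hB).1, ?_⟩ le_sup_left)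
      exact le_trans hRX le_sup_left
    subst hXtop
    have hM : Cfsg.maxCentralizerProduct P = Nat.card P * Nat.card (Subgroup.center P) := by
      have h := (H62.cl_iff.1 hX).1
      have h' : Nat.card (⊤ : Subgroup P) * Nat.card (H62.cc (⊤ : Subgroup P)) = Cfsg.maxCentralizerProduct P := h
      rw [← h', Subgroup.card_top, H62.cc, Subgroup.coe_top, Subgroup.centralizer_univ]
    have hAcl : Cfsg.IsCentrallyLarge A := H62.cl_iff.2 ⟨H62.large_of_le (le_of_eq (by
      rw [hM, H62.meas, hAA, ← hcard A hA, pow_two])), hAA.le⟩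
    exact H62.isMulCommutative_of_le_cc (abelian_of_cl hAcl hAA.ge hQ)
  · refine le_antisymm ?_ (Subgroup.le_centralizer_iff.1 inf_le_right)
    obtain ⟨Q, hQ⟩ := H62.exists_minimal_cl (G := P)
    refine (part1 hQ.1).trans (sup_le ?_ le_rfl)
    have hQc : Q ≤ H62.cc Q := Subgroup.le_centralizer_iff_isMulCommutative.mpr (hall Q hQ)
    obtain ⟨hQl, hQcc⟩ := H62.cl_iff.1 hQ.1
    have hQe : H62.cc Q = Q := le_antisymm hQcc hQc
    refine le_sSup ⟨hall Q hQ, fun B hB => ?_⟩
    have h1 : B ≤ H62.cc B := Subgroup.le_centralizer_iff_isMulCommutative.mpr hB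
    have h2 : Nat.card B * Nat.card B ≤ Nat.card Q * Nat.card Q := by
      refine ((Nat.mul_le_mul_left _ (Subgroup.card_le_of_le h1)).trans (H62.meas_le B)).trans ?_
      have h3 : Nat.card Q * Nat.card (H62.cc Q) = Cfsg.maxCentralizerProduct P := hQl
      rw [← h3, hQe]
    exact Nat.mul_self_le_mul_self_iff.mp h2

end Cfsg.Agent.S3008
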