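import Cfsg.Statements.S2764
import Cfsg.Agent.H31.PushUp.Factors

set_option autoImplicit false
open Cfsg

namespace Cfsg.Agent.S2764

/-- The data of pushing up from the hypotheses of the statement. -/
noncomputable def mkPU {G : Type*} [Group G] [Finite G] {p : ℕ} [Fact p.Prime] {S : Sylow p G}
    (hE₁ : Subgroup.centralizer (Cfsg.pCore p G : Set G) ≤ Cfsg.pCore p G)
    (hE₂ : ∃! M : Subgroup G, IsCoatom M ∧ (S : Subgroup G) ≤ M) (K : Subgroup G) [K.Normal] (F : Type) [Field F]
    [Fintype F] (n : ℕ) (hF : Fintype.card F = p ^ n)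
    (hE₃ : Nonempty (G ⧸ K ≃* Matrix.ProjectiveSpecialLinearGroup (Fin 2) F))
    (hd : ∀ T : Subgroup ↥(S : Subgroup G), T ≠ ⊥ → T.Characteristic → ¬ (T.map (S : Subgroup G).subtype).Normal) :
    H31.PushUp.PU S F :=
  { R :=
      { M := hE₂.choose
        hM := hE₂.choose_spec.1.1
        SM := hE₂.choose_spec.1.2
        uniq := fun N h1 h2 => hE₂.choose_spec.2 N ⟨h1, h2⟩
        π := hE₃.some.toMonoidHom.comp (QuotientGroup.mk' K)
        surj := hE₃.some.surjective.comp (QuotientGroup.mk'_surjective K)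
        char := by
          obtain ⟨m, hm, hc⟩ := FiniteField.card F (ringChar F)
          have h1 : ringChar F ∣ p ^ n := hF ▸ hc.symm ▸ dvd_pow_self _ m.2.ne'
          rw [← (Nat.prime_dvd_prime_iff_eq hm Fact.out).mp (hm.dvd_of_dvd_pow h1)]
          exact ringChar.charP F }
    cent := hE₁
    nochar := hd }

/-- Pushing up for a rank-one quotient: let G be a finite group and p a prime with C_G(O_p(G)) ≤ O_p(G), suppose G/K ≅ PSL₂(p^n) for some normal subgroup K and some n ≥ 1, that a Sylow p-subgroup S of G lies in exactly one maximal subgroup of G, and that no nontrivial characteristic subgroup of S is normal in G. Then G/O_p(G) ≅ SL₂(p^n), and every noncentral chief factor U/W of G inside O_p(G) is a natural SL₂-module over the field with p^n elements for the action of G/W. -/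
theorem result {G : Type*} [Group G] [Finite G] {p : ℕ} [Fact p.Prime] (S : Sylow p G) (hE₁ : Subgroup.centralizer (Cfsg.pCore p G : Set G) ≤ Cfsg.pCore p G) (hE₂ : ∃! M : Subgroup G, IsCoatom M ∧ (S : Subgroup G) ≤ M) (K : Subgroup G) [K.Normal] (F : Type) [Field F] [Fintype F] (n : ℕ) (hn : 1 ≤ n) (hF : Fintype.card F = p ^ n) (hE₃ : Nonempty (G ⧸ K ≃* Matrix.ProjectiveSpecialLinearGroup (Fin 2) F)) (hd : ∀ T : Subgroup ↥(S : Subgroup G), T ≠ ⊥ → T.Characteristic → ¬ (T.map (S : Subgroup G).subtype).Normal) : Nonempty (G ⧸ Cfsg.pCore p G ≃* Matrix.SpecialLinearGroup (Fin 2) F) ∧ ∀ (U W : Subgroup G) [W.Normal], U ≤ Cfsg.pCore p G → Cfsg.IsChiefFactor U W → ¬ ⁅U, (⊤ : Subgroup G)⁆ ≤ W → Cfsg.IsNaturalSL2Module F (U.map (QuotientGroup.mk' W)) (⊤ : Subgroup (G ⧸ W)) := by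
  exact H31.PushUp.pushing_up_rank_one (mkPU hE₁ hE₂ K F n hF hE₃ hd)

end Cfsg.Agent.S2764
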