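import Cfsg.Statements.S2981
import Cfsg.Agent.H11.PMinFF.CharP
-- import your own Cfsg.Agent.* helpers here

set_option autoImplicit false
open Cfsg

namespace Cfsg.Agent.S2981

open Cfsg.Agent.H11.PMinFF
open scoped IsMulCommutative


/-- The local C**(G,T)-Theorem for minimal parabolic groups. Let G be a finite p-minimal group (a Sylow p-subgroup T is not normal and lies in exactly one maximal subgroup) of characteristic p (C_G(O_p(G)) ≤ O_p(G)), and suppose G ≠ C**(G,T), the subgroup generated by C_G(Ω₁(Z(T))) and N_G(J(T)) (J(T) generated by the elementary abelian p-subgroups of T of largest order). Put V = Ω₁(Z(O_p(G))) and C = C_G(V). Then there are subgroups E₁, …, E_r of G containing C such that: J(G)TC = G and the E_i C/C form an internal direct product equal to J(G)C/C; any two of the E_i are conjugate by an element of T; V = C_V(⟨E_i⟩)·∏[V, E_i] with [V, E_i, E_j] = 1 for i ≠ j; for some n ≥ 1, each E_i/C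 is isomorphic to SL₂(pⁿ), or p = 2 and to the symmetric group of degree 2ⁿ + 1; and E_i acts on [V, E_i]/C_{[V,E_i]}(E_i) as the natural two-dimensional SL₂(pⁿ)-module, respectively as the symmetric group of degree 2ⁿ+1 on its even-weight permutation module. -/
theorem result {G : Type*} [Group G] [Finite G] {p : ℕ} [Fact p.Prime] (hmin : Cfsg.IsPMinimal p G) (hG : Subgroup.centralizer (Cfsg.pCore p G : Set G) ≤ Cfsg.pCore p G) (T : Sylow p G) (hne : Cfsg.cStarStarOf p (T : Subgroup G) ≠ ⊤) : ∃ (r : ℕ) (E : Fin r → Subgroup G), (∀ i, Subgroup.centralizer (Cfsg.omegaOneCenter p (Cfsg.pCore p G) : Set G) ≤ E i) ∧ Cfsg.thompsonSubgroup p G ⊔ (T : Subgroup G) ⊔ Subgroup.centralizer (Cfsg.omegaOneCenter p (Cfsg.pCore p G) : Set G) = ⊤ ∧ (⨆ i, E i) = Cfsg.thompsonSubgroup p G ⊔ Subgroup.centralizer (Cfsg.omegaOneCenter p (Cfsg.pCore p G) : Set G) ∧ (∀ i j, i ≠ j → ⁅E i, E j⁆ ≤ Subgroup.centralizer (Cfsg.omegaOneCenter p (Cfsg.pCore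 p G) : Set G)) ∧ (∀ i, E i ⊓ (⨆ j ∈ {j | j ≠ i}, E j) ≤ Subgroup.centralizer (Cfsg.omegaOneCenter p (Cfsg.pCore p G) : Set G)) ∧ (∀ i j, ∃ t ∈ (T : Subgroup G), (E i).map (MulAut.conj t).toMonoidHom = E j) ∧ (Cfsg.omegaOneCenter p (Cfsg.pCore p G) ⊓ Subgroup.centralizer ((⨆ i, E i : Subgroup G) : Set G)) ⊔ (⨆ i, ⁅Cfsg.omegaOneCenter p (Cfsg.pCore p G), E i⁆) = Cfsg.omegaOneCenter p (Cfsg.pCore p G) ∧ (∀ i j, i ≠ j → ⁅⁅Cfsg.omegaOneCenter p (Cfsg.pCore p G), E i⁆, E j⁆ = ⊥) ∧ ∀ i, ∃ n : ℕ, 1 ≤ n ∧ ((∃ (F : Type) (_ : Field F) (_ : Fintype F), Fintype.card F = p ^ n ∧ (∃ _ : ((Subgroup.centralizer (Cfsg.omegaOneCenter p (Cfsg.pCore p G) : Set G)).subgroupOf (E i)).Normal, Nonempty (↥(E i) ⧸ (Subgroup.centralizer (Cfsg.omegaOneCenter p (Cfsg.pCore p G) : Set G)).subgroupOf (E i) ≃* Matrix.SpecialLinearGroup (Fin 2) F)) ∧ Cfsg.ActsAsSL2OnSection F ⊤ (E i) ⁅Cfsg.omegaOneCenter p (Cfsg.pCore p G), E i⁆ (⁅Cfsg.omegaOneCenter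 p (Cfsg.pCore p G), E i⁆ ⊓ Subgroup.centralizer ((E i : Subgroup G) : Set G))) ∨ (p = 2 ∧ (∃ _ : ((Subgroup.centralizer (Cfsg.omegaOneCenter p (Cfsg.pCore p G) : Set G)).subgroupOf (E i)).Normal, Nonempty (↥(E i) ⧸ (Subgroup.centralizer (Cfsg.omegaOneCenter p (Cfsg.pCore p G) : Set G)).subgroupOf (E i) ≃* Equiv.Perm (Fin (2 ^ n + 1)))) ∧ Cfsg.ActsAsOddPermModuleOnSection (2 ^ n + 1) ⊤ (E i) ⁅Cfsg.omegaOneCenter p (Cfsg.pCore p G), E i⁆ (⁅Cfsg.omegaOneCenter p (Cfsg.pCore p G), E i⁆ ⊓ Subgroup.centralizer ((E i : Subgroup G) : Set G)))) := by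
  classical
  set V := Cfsg.omegaOneCenter p (Cfsg.pCore p G) with hVdef
  haveI : V.Normal := Cfsg.Agent.H31.normal_omegaOne_center (Cfsg.pCore p G)
  have hV : Cfsg.IsElementaryAbelian p V := Cfsg.Agent.H31.elem_omegaOne_center p (Cfsg.pCore p G)
  haveI := hV.1
  letI := quotAction V
  have c := conj_quot V
  set q := QuotientGroup.mk' (Subgroup.centralizer (V : Set G)) with hq
  have hqs : Function.Surjective q := QuotientGroup.mk'_surjective _
  obtain ⟨T', M', hT', hs, himg, A₁, hA₁, hA₁T, hA₁C⟩ := charP_setup hmin hG T hne V hVdef hV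
  obtain ⟨hB1, hB2, hB3, hB4⟩ := himg A₁ hA₁ hA₁T
  have hoff : IsOff p (Additive ↥V) (A₁.map q) := ⟨fun h => hA₁C (by
    rwa [Subgroup.map_eq_bot_iff, QuotientGroup.ker_mk'] at h), hB2, hB3, hB4⟩
  obtain ⟨B₁, hB₁A, hB₁⟩ := exists_minOff_le hoff
  have hoffs : (offs p (Additive ↥V) (T' : Subgroup _)).Nonempty := ⟨B₁, hB₁, hB₁A.trans hB1⟩
  have hm := moves_of_offs hs hoffs
  obtain ⟨r, E, hr, hb⟩ := exists_blocks hs hm hoffs
  haveI : Nonempty (Fin r) := ⟨⟨0, hr⟩⟩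
  have hK := quot_ker (Subgroup.centralizer (V : Set G))
  have hTmap : (T : Subgroup G).map q = (T' : Subgroup _) := hT'.symm
  haveI hD : (⨆ i, E i).Normal := normal_iSup_of_blocks hb.top fun t ht => by
    rw [cnj, Subgroup.map_iSup]
    exact iSup_le fun i => by
      obtain ⟨j, hj⟩ : ∃ j, cnj (E i) t = E j := hb.perm t ht i
      exact hj.le.trans (le_iSup E j)
  have hN : (Cfsg.thompsonSubgroup p G).map q = ⨆ i, E i := by
    refine le_antisymm ?_ (iSup_le (hb.le_normal _ ?_ ?_))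
    · rw [Cfsg.Agent.H31.thompsonSubgroup_eq, Subgroup.map_le_iff_le_comap]
      refine sSup_le fun A hA => ?_
      obtain ⟨g, hg⟩ := Cfsg.Agent.H31.exists_conj_le_sylow T
        (show IsPGroup p A from fun a => ⟨1, Subtype.ext (by rw [pow_one, SubgroupClass.coe_pow]; exact hA.2.1.2 a a.2)⟩)
      have hA' : Cfsg.Agent.H31.MaxIn p ⊤ (A.map (MulAut.conj g).toMonoidHom) := by
        have := (Cfsg.Agent.H31.maxIn_map_iff (f := (MulAut.conj g).toMonoidHom) (MulAut.conj g).injective).mpr hA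
        rwa [Subgroup.map_top_of_surjective _ (MulAut.conj g).surjective] at this
      obtain ⟨h1, h2, h3, h4⟩ := himg _ hA' hg
      have hle : (A.map (MulAut.conj g).toMonoidHom).map q ≤ ⨆ i, E i :=
        ((mS_le_and_le_sSup hs hm h1 h2 h3).2 h4).trans (sSup_le fun B hB => by
          obtain ⟨i, hi⟩ := hb.offs_le B hB
          exact hi.trans (le_iSup E i))
      intro a ha
      have h5 := hD.conj_mem _ (hle ⟨_, ⟨a, ha, rfl⟩, rfl⟩) (q g)⁻¹
      show q a ∈ ⨆ i, E i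
      have h6 : (q g)⁻¹ * q ((MulAut.conj g).toMonoidHom a) * (q g)⁻¹⁻¹ = q a := by
        show (q g)⁻¹ * q (g * a * g⁻¹) * (q g)⁻¹⁻¹ = q a
        rw [map_mul, map_mul, map_inv]
        group
      rwa [h6] at h5
    · exact (normal_thompson (G := G) p).map q hqs
    · intro B hB
      obtain ⟨t, -, rfl⟩ := offs_conj hs hm hB ⟨hB₁, hB₁A.trans hB1⟩
      rintro _ ⟨b, hb', rfl⟩
      refine ((normal_thompson (G := G) p).map q hqs).conj_mem b ?_ t
      refine Subgroup.map_mono ?_ (hB₁A hb')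
      rw [Cfsg.Agent.H31.thompsonSubgroup_eq]
      exact le_sSup hA₁
  have hsup : (⨆ i, c.pre (E i)) = Cfsg.thompsonSubgroup p G ⊔ Subgroup.centralizer (V : Set G) := by
    rw [← c.pre_iSup, c.pre_top_eq, ← hN, Subgroup.comap_map_eq, QuotientGroup.ker_mk']
  refine ⟨r, fun i => c.pre (E i), fun i => hK.ge.trans (c.ker_le_pre _), ?_, hsup, fun i j hij => ?_, fun i => ?_,
    fun i j => ?_, c.pre_decomp E hb.decomp, fun i j hij => c.pre_orth (hb.orth i j hij), fun i => ?_⟩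
  · refine eq_top_iff.mpr ?_
    have h1 : (⊤ : Subgroup G) ≤ Subgroup.comap q ((⨆ i, E i) ⊔ (T' : Subgroup _)) := by rw [hb.top, Subgroup.comap_top]
    rw [← hN, ← hTmap, ← Subgroup.map_sup, Subgroup.comap_map_eq, QuotientGroup.ker_mk'] at h1
    exact h1
  · exact (c.pre_comm_le (hb.comm i j hij)).trans hK.le
  · refine le_trans (le_trans (inf_le_inf_left _ ?_) (c.pre_inf_le (hb.inf i))) hK.le
    exact iSup₂_le fun j hj => c.pre_mono (le_iSup₂_of_le j hj le_rfl)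
  · obtain ⟨t', ht', he⟩ := hb.conj i j
    rw [← hTmap] at ht'
    obtain ⟨t, ht, rfl⟩ := ht'
    exact ⟨t, ht, (c.pre_cnj (E i) ⟨t, Subgroup.mem_top t⟩).trans (congrArg c.pre he)⟩
  · obtain ⟨n, hn, h⟩ := c.pre_type (hb.type i)
    refine ⟨n, hn, ?_⟩
    have hiso : ∀ {X : Type} [Group X] (f : ↥(c.pre (E i)) →* X), Function.Surjective f →
        f.ker = (Subgroup.centralizer (V : Set G)).subgroupOf (c.pre (E i)) →
        ∃ _ : ((Subgroup.centralizer (V : Set G)).subgroupOf (c.pre (E i))).Normal,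
          Nonempty (↥(c.pre (E i)) ⧸ (Subgroup.centralizer (V : Set G)).subgroupOf (c.pre (E i)) ≃* X) :=
      fun f hf hk => ⟨inferInstance, ⟨(QuotientGroup.quotientMulEquivOfEq hk.symm).trans
        (QuotientGroup.quotientKerEquivOfSurjective f hf)⟩⟩
    rcases h with ⟨F, iF, iFt, hF, ⟨f, hf, hk⟩, hact⟩ | ⟨hp, ⟨f, hf, hk⟩, hact⟩
    · exact Or.inl ⟨F, iF, iFt, hF, hiso f hf (hk.trans (by rw [hK])), hact⟩
    · exact Or.inr ⟨hp, hiso f hf (hk.trans (by rw [hK])), hact⟩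

end Cfsg.Agent.S2981
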