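import Cfsg.Statements.S0178
import Cfsg.Agent.H26.RepBasic

set_option autoImplicit false
open Cfsg

namespace Cfsg.Agent.S0178

/-- The degree of an irreducible complex representation of a finite group is at most the index of any abelian subgroup. -/
theorem result {G : Type*} [Group G] [Finite G] {V : Type*} [AddCommGroup V] [Module ℂ V] [FiniteDimensional ℂ V] (ρ : Representation ℂ G V) [ρ.IsIrreducible] (A : Subgroup G) (hA : ∀ a ∈ A, ∀ b ∈ A, a * b = b * a) : Module.finrank ℂ V ≤ A.index := by
  classical
  have hpos := H26.finrank_pos_of_isIrreducible ρ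
  have : Nontrivial V := Module.nontrivial_of_finrank_pos hpos
  obtain ⟨v, hv0, hv⟩ := H26.exists_common_eigenvector (fun a : A => ρ (a : G))
    (fun i j => by rw [← map_mul, ← map_mul, hA i i.2 j j.2])
  have : Fintype (G ⧸ A) := Fintype.ofFinite _
  let w : G ⧸ A → V := fun q => ρ q.out v
  have hinv : ∀ g : G, ∀ u ∈ Submodule.span ℂ (Set.range w), ρ g u ∈ Submodule.span ℂ (Set.range w) := by
    intro g u hu
    induction hu using Submodule.span_induction with
    | mem x hx =>
      obtain ⟨q, rfl⟩ := hx
      obtain ⟨a, ha⟩ := QuotientGroup.mk_out_eq_mul A (g * q.out)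
      obtain ⟨c, hc⟩ := hv a⁻¹
      have : g * q.out = ((g * q.out : G) : G ⧸ A).out * ((a⁻¹ : A) : G) := by
        rw [ha]; simp [mul_assoc]
      show ρ g (ρ q.out v) ∈ _
      rw [← Module.End.mul_apply, ← map_mul, this, map_mul, Module.End.mul_apply, hc, map_smul]
      exact Submodule.smul_mem _ c (Submodule.subset_span ⟨_, rfl⟩)
    | zero => simp
    | add x y _ _ hx hy => rw [map_add]; exact add_mem hx hy
    | smul c x _ hx => rw [map_smul]; exact Submodule.smul_mem _ c hx
  rcases H26.invariant_submodule_eq_bot_or_top ρ _ hinv with h | h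
  · exfalso
    have hmem : w ((1 : G) : G ⧸ A) ∈ Submodule.span ℂ (Set.range w) :=
      Submodule.subset_span ⟨_, rfl⟩
    rw [h, Submodule.mem_bot] at hmem
    apply hv0
    have := congrArg (ρ (((1 : G) : G ⧸ A).out)⁻¹) hmem
    rwa [map_zero, ← Module.End.mul_apply, ← map_mul, inv_mul_cancel, map_one] at this
  · calc Module.finrank ℂ V = Module.finrank ℂ (Submodule.span ℂ (Set.range w)) := by
          rw [h, finrank_top]
      _ ≤ Fintype.card (G ⧸ A) := finrank_range_le_card w
      _ = A.index := by rw [Subgroup.index, Nat.card_eq_fintype_card]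

end Cfsg.Agent.S0178
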