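import Cfsg.Statements.S4456
import Cfsg.Agent.H82.PrimeDegree
import Cfsg.Agent.Fusion.Tate
import Cfsg.Agent.Cores.Residual
import Cfsg.Agent.H84.ConstantMinus

set_option autoImplicit false
open Cfsg

namespace Cfsg.Agent.S4456

/-- Let p be a prime and G a finite group such that p divides the degree of every irreducible character of G of degree greater than one. Then G has a normal p-complement: a normal subgroup of order prime to p whose index is a power of p. -/
theorem result {G : Type*} [Group G] [Finite G] (p : ℕ) (hp : p.Prime) (hdeg : ∀ χ : Cfsg.IrrCharacter G, Cfsg.charDegree (χ : G → ℂ) ≠ 1 → p ∣ Cfsg.charDegree (χ : G → ℂ)) : ∃ N : Subgroup G, N.Normal ∧ (Nat.card N).Coprime p ∧ ∃ k : ℕ, N.index = p ^ k := by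
  classical
  haveI := Fact.mk hp
  cases nonempty_fintype G
  let P : Sylow p G := default
  have hP : IsPGroup p (P : Subgroup G) := P.isPGroup'
  have hidx : ¬ p ∣ (P : Subgroup G).index := P.not_dvd_index
  set N := Cfsg.pResidual p G
  have hker : ∀ x ∈ (P : Subgroup G), x ∈ N → x ∈ H82.primeDegKer p G := by
    intro x hxP hxN
    refine H82.mem_primeDegKer.mpr fun χ hχ => ?_
    have h1 : Cfsg.charDegree (χ : G → ℂ) = 1 := by
      by_contra h
      exact hχ (hdeg χ h)
    obtain ⟨l, hl⟩ := CharInduce.IsChar.exists_hom_of_degree_one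
      (CharBasic.IsIrr.isCharacter χ.2) (by rw [(H83.charDegree_eq χ.2).1, h1, Nat.cast_one])
    obtain ⟨a, m, hm, hn⟩ :=
      Nat.exists_eq_pow_mul_and_not_dvd (Nat.card_pos (α := G)).ne' p hp.ne_one
    have hsub : N ≤ (l ^ m).ker := Cores.pResidual_le fun g hg => by
      rw [MonoidHom.mem_ker, MonoidHom.pow_apply, ← map_pow]
      have hd : orderOf g ∣ m := by
        have h2 : orderOf g ∣ p ^ a * m := hn ▸ orderOf_dvd_natCard g
        exact (hg.pow_right a).dvd_of_dvd_mul_left h2
      rw [orderOf_dvd_iff_pow_eq_one.mp hd, map_one]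
    obtain ⟨k, hk⟩ := hP ⟨x, hxP⟩
    have e1 : l x ^ m = 1 := MonoidHom.mem_ker.mp (hsub hxN)
    have e2 : l x ^ p ^ k = 1 := by
      rw [← map_pow, show x ^ p ^ k = 1 from congrArg Subtype.val hk, map_one]
    have hlx : l x = 1 := orderOf_eq_one_iff.mp (Nat.eq_one_of_dvd_coprimes
      (Nat.Coprime.pow_right k (hp.coprime_iff_not_dvd.mpr hm).symm)
      (orderOf_dvd_of_pow_eq_one e1) (orderOf_dvd_of_pow_eq_one e2))
    rw [hl, hl, hlx, map_one]
  have htate := Fusion.tate (H := (P : Subgroup G)) hidx fun L hLn hLp x hx => by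
    haveI := hLn
    have hQ : IsPGroup p ((P : Subgroup G) ⧸ L) := hP.to_quotient L
    have hQcard : Nat.card ((P : Subgroup G) ⧸ L) = p := hLp
    haveI : IsCyclic ((P : Subgroup G) ⧸ L) := isCyclic_of_prime_card hQcard
    have hne : commutator ((P : Subgroup G) ⧸ L) ≠ ⊤ := by
      letI := IsCyclic.commGroup (α := (P : Subgroup G) ⧸ L)
      rw [show commutator ((P : Subgroup G) ⧸ L) = ⊥ from by
        rw [commutator_def, Subgroup.commutator_eq_bot_iff_le_centralizer]
        exact fun a _ => Subgroup.mem_centralizer_iff.mpr fun b _ => mul_comm b a]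
      intro h
      have h2 := congrArg (fun s : Subgroup ((P : Subgroup G) ⧸ L) => Nat.card s) h
      simp only [Subgroup.card_bot, Subgroup.card_top, hQcard] at h2
      exact hp.ne_one h2.symm
    obtain ⟨l, hl⟩ := H84.exists_hom_ne_one_of_imperfect hne
    haveI : Fintype (P : Subgroup G) := Fintype.ofFinite _
    have hbot : l.ker = ⊥ := by
      haveI : IsSimpleGroup ((P : Subgroup G) ⧸ L) := isSimpleGroup_of_prime_card hQcard
      refine (Subgroup.Normal.eq_bot_or_eq_top (H := l.ker) inferInstance).resolve_right fun h => hl ?_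
      exact MonoidHom.ker_eq_top_iff.mp h
    set lam : (P : Subgroup G) →* ℂˣ := l.comp (QuotientGroup.mk' L)
    have h1 : (lam x : ℂ) = (lam 1 : ℂ) :=
      H82.apply_eq_of_mem_primeDegKer (p := p) (P : Subgroup G) hidx
        (CharInduce.isIrrCharacter_hom lam) (by
          have := (H83.charDegree_eq (CharInduce.isIrrCharacter_hom lam)).1
          simp only [map_one, Units.val_one] at this
          rw [← Nat.cast_one, Nat.cast_inj] at this
          rw [← this]
          exact hp.not_dvd_one)
        (hker x x.2 hx)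
    rw [map_one] at h1
    have h2 : QuotientGroup.mk' L x ∈ l.ker := MonoidHom.mem_ker.mpr (Units.ext h1)
    rw [hbot, Subgroup.mem_bot] at h2
    exact (QuotientGroup.eq_one_iff x).mp h2
  rw [Cores.pResidual_eq_bot_iff.mpr hP] at htate
  refine ⟨N, inferInstance, ?_, Cores.exists_index_pResidual_eq_pow⟩
  refine (hp.coprime_iff_not_dvd.mpr fun hd => ?_).symm
  obtain ⟨x, hx⟩ := exists_prime_orderOf_dvd_card' p hd
  have hxp : IsPGroup p (Subgroup.zpowers (x : G)) := IsPGroup.of_card (n := 1) (by
    rw [Nat.card_zpowers, Subgroup.orderOf_coe, hx, pow_one])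
  obtain ⟨Q, hQ⟩ := hxp.exists_le_sylow
  obtain ⟨g, hg⟩ := MulAction.exists_smul_eq G Q P
  have hmem : g * (x : G) * g⁻¹ ∈ (P : Subgroup G) := by
    rw [← hg, Sylow.coe_subgroup_smul]
    exact ⟨x, hQ (Subgroup.mem_zpowers _), rfl⟩
  have hN : g * (x : G) * g⁻¹ ∈ N := (inferInstance : N.Normal).conj_mem _ x.2 g
  have h3 : (⟨_, hmem⟩ : (P : Subgroup G)) ∈ N.subgroupOf (P : Subgroup G) := hN
  rw [htate, Subgroup.mem_bot] at h3
  have h4 : (x : G) = 1 := by simpa using congrArg Subtype.val h3
  rw [show x = 1 from Subtype.ext h4, orderOf_one] at hx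
  exact hp.ne_one hx.symm

end Cfsg.Agent.S4456
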