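import Cfsg.Statements.S4345
import Cfsg.Agent.Hall.MinimalNormal

set_option autoImplicit false
open Cfsg

namespace Cfsg.Agent.S4345

open scoped Pointwise
universe u

theorem relIndex_sup_right' {G : Type*} [Group G] [Finite G] (M K : Subgroup G) [M.Normal] :
    K.relIndex (M ⊔ K) = K.relIndex M := by
  have h1 := Subgroup.relIndex_mul_relIndex ⊥ K (M ⊔ K) bot_le le_sup_right
  have h2 := Subgroup.relIndex_mul_relIndex ⊥ (K ⊓ M) M bot_le inf_le_right
  have h3 := Hall.card_sup_mul_card_inf M K
  rw [Subgroup.relIndex_bot_left, Subgroup.relIndex_bot_left] at h1 h2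
  rw [Subgroup.inf_relIndex_right, inf_comm] at h2
  apply Nat.eq_of_mul_eq_mul_left
    (mul_pos (Nat.card_pos (α := K)) (Nat.card_pos (α := (M ⊓ K : Subgroup G))))
  linear_combination (Nat.card (M ⊓ K : Subgroup G)) * h1 - (Nat.card K) * h2 + h3

theorem modEq_one (p ℓ : ℕ) [Fact p.Prime] (hℓ : ℓ.Prime) (n : ℕ) :
    ∀ (G : Type u) [Group G] [Finite G], Nat.card G ≤ n → Group.IsSolvable G →
      ℓ ^ (Nat.card (Sylow p G)).factorization ℓ ≡ 1 [MOD p] := by
  induction n with
  | zero => intro G _ _ h; exact absurd h (not_le.mpr Nat.card_pos)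
  | succ n ih =>
    intro G _ _ hG hsolv
    rcases subsingleton_or_nontrivial G with h | h
    · have : Subsingleton (Sylow p G) :=
        ⟨fun P Q => Sylow.ext (Subsingleton.elim (P : Subgroup G) Q)⟩
      rw [Nat.card_unique, Nat.factorization_one, Finsupp.coe_zero, Pi.zero_apply, pow_zero]
    obtain ⟨M, r, hMn, hM, hr, hMr, -, -⟩ := Hall.exists_minimal_normal_pgroup (G := G)
    obtain ⟨P⟩ := (inferInstance : Nonempty (Sylow p G))
    set f := QuotientGroup.mk' M
    have hsurj : Function.Surjective f := QuotientGroup.mk'_surjective M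
    set N := Subgroup.normalizer ((P : Subgroup G) : Set G) with hN
    set T := M ⊔ (P : Subgroup G) with hT
    set NT := Subgroup.normalizer (T : Set G) with hNT
    have hPT : (P : Subgroup G) ≤ T := le_sup_right
    -- `N(T) = M N(P)`
    have hfr : NT = M ⊔ N := by
      refine le_antisymm (fun g hg => ?_) (sup_le ((le_sup_left : M ≤ T).trans Subgroup.le_normalizer)
        (Hall.le_normalizer_of_conj fun a ha => ?_))
      · have hg1 := Hall.conj_smul_of_le_normalizer (le_refl NT) hg
        have hgT : ((g • P : Sylow p G) : Subgroup G) ≤ T := by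
          rw [← hg1]; exact Hall.conj_smul_mono g hPT
        obtain ⟨c, hc⟩ := MulAction.exists_smul_eq T (P.subtype hPT) ((g • P).subtype hgT)
        rw [Sylow.smul_subtype] at hc
        have hc' : (c : G) • P = g • P := Sylow.subtype_injective hc
        have hmem : g⁻¹ * c ∈ N := Sylow.smul_eq_iff_mem_normalizer.mp (by
          rw [mul_smul, hc', inv_smul_smul])
        obtain ⟨m, hm, q, hq, hmq⟩ := Subgroup.mem_sup_of_normal_left.mp (c.2 : (c : G) ∈ M ⊔ P)
        have : g = m * (q * (g⁻¹ * c)⁻¹) := by rw [← hmq]; group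
        rw [this]
        exact Subgroup.mul_mem_sup hm (N.mul_mem (Subgroup.le_normalizer hq) (N.inv_mem hmem))
      · rw [hT, Subgroup.smul_sup, Hall.conj_smul_of_normal a M,
          Hall.conj_smul_of_le_normalizer le_rfl ha]
    have hne : ∀ L : Subgroup G, N.relIndex L ≠ 0 := fun L => Subgroup.index_ne_zero_of_finite
    have hrel : N.relIndex T = N.relIndex NT := by
      refine le_antisymm (Subgroup.relIndex_le_of_le_right Subgroup.le_normalizer (hne _)) ?_
      rw [hfr, relIndex_sup_right']
      exact Subgroup.relIndex_le_of_le_right le_sup_left (hne _)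
    have hTc : N.relIndex T = Nat.card (Sylow p T) := by
      rw [(P.subtype hPT).card_eq_index_normalizer, ← Sylow.coe_coe, Sylow.coe_subtype,
        ← Subgroup.subgroupOf_normalizer_eq hPT]
      rfl
    have hcomap : NT.index = Nat.card (Sylow p (G ⧸ M)) := by
      rw [(P.mapSurjective hsurj).card_eq_index_normalizer, ← Sylow.coe_coe, Sylow.coe_mapSurjective,
        ← Subgroup.index_comap_of_surjective _ hsurj,
        Subgroup.comap_normalizer_eq_of_surjective _ hsurj]
      rw [Hall.comap_map_mk' M (P : Subgroup G)]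
    have hprod : Nat.card (Sylow p G) = Nat.card (Sylow p (G ⧸ M)) * N.relIndex T := by
      rw [P.card_eq_index_normalizer, ← hcomap, hrel, mul_comm]
      exact (Subgroup.relIndex_mul_index (hfr ▸ le_sup_right)).symm
    have : Fact r.Prime := ⟨hr⟩
    obtain ⟨j, hj⟩ : ∃ j, N.relIndex T = r ^ j := by
      obtain ⟨k, hk⟩ := IsPGroup.iff_card.mp hMr
      have hd : N.relIndex T ∣ r ^ k := by
        rw [hrel, hfr, relIndex_sup_right', ← hk]
        exact Subgroup.relIndex_dvd_card N M
      obtain ⟨i, -, hi⟩ := (Nat.dvd_prime_pow hr).mp hd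
      exact ⟨i, hi⟩
    have hmod : r ^ j ≡ 1 [MOD p] := by
      rw [← hj, hTc]; exact card_sylow_modEq_one p T
    rw [hprod, Nat.factorization_mul (Nat.card_pos.ne') (hne T), Finsupp.add_apply, pow_add]
    have hlt := Hall.card_quotient_lt M hM
    have h1 := ih (G ⧸ M) (by omega) inferInstance
    have h2 : ℓ ^ (N.relIndex T).factorization ℓ ≡ 1 [MOD p] := by
      rw [hj, Nat.Prime.factorization_pow hr]
      by_cases h : r = ℓ
      · subst h; simpa using hmod
      · simp [h, Nat.ModEq]
    simpa using h1.mul h2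

/-- Let G be a finite solvable group and p, ℓ primes. Then the largest power of ℓ dividing the number of Sylow p-subgroups of G is congruent to 1 modulo p. -/
theorem result {G : Type*} [Group G] [Finite G]
    (hG : Group.IsSolvable G) (p ℓ : ℕ) [Fact p.Prime] (hℓ : ℓ.Prime) :
    ℓ ^ (Nat.card (Sylow p G)).factorization ℓ ≡ 1 [MOD p] := by
  exact modEq_one p ℓ hℓ _ G le_rfl hG

end Cfsg.Agent.S4345
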