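import Cfsg.Statements.S1593
import Cfsg.Agent.H44.TernaryHexads

set_option autoImplicit false
open Cfsg

namespace Cfsg.Agent.S1593

/-- The only sign changes preserving the length-12 ternary code are the identity and negation of all coordinates. -/
theorem result (c : Cfsg.ArrayPt → (ZMod 3)ˣ) (h : (∀ x ∈ Cfsg.ternaryGolayCode, Cfsg.monomialMap 1 c x ∈ Cfsg.ternaryGolayCode)) : (∀ p, c p = 1) ∨ (∀ p, c p = -1) := by
  have key : ∀ p q, c p = c q := by
    intro p q
    obtain ⟨hx, hh, hp, hq⟩ := H44.ternHexads_two p q
    obtain ⟨x, hxm, rfl, hc⟩ := (H44.mem_ternHexads hx).1 hh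
    have hm := h x hxm
    have hs : ternarySupport (monomialMap 1 c x) = ternarySupport x := by
      ext r; simp [H44.mem_ternarySupport, monomialMap, Equiv.Perm.one_def]
    rw [H44.mem_ternarySupport] at hp hq
    rcases H44.eq_or_neg_of_five_common hm hxm (by rw [hs]; exact hc) hc
      (by rw [hs, Finset.inter_self]; omega) with e | e
    · have e1 := congrFun e p; have e2 := congrFun e q
      apply Units.ext
      have a1 : (c p : ZMod 3) = 1 := mul_right_cancel₀ hp (by rw [one_mul]; simpa [monomialMap, Equiv.Perm.one_def] using congrFun e p)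
      have a2 : (c q : ZMod 3) = 1 := mul_right_cancel₀ hq (by rw [one_mul]; simpa [monomialMap, Equiv.Perm.one_def] using congrFun e q)
      rw [a1, a2]
    · apply Units.ext
      have a1 : (c p : ZMod 3) = -1 := mul_right_cancel₀ hp (by rw [neg_one_mul]; simpa [monomialMap, Equiv.Perm.one_def] using congrFun e p)
      have a2 : (c q : ZMod 3) = -1 := mul_right_cancel₀ hq (by rw [neg_one_mul]; simpa [monomialMap, Equiv.Perm.one_def] using congrFun e q)
      rw [a1, a2]
  have hu : ∀ u : (ZMod 3)ˣ, u = 1 ∨ u = -1 := by decide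
  rcases hu (c (0, 0)) with e | e
  · exact Or.inl fun p => (key p (0, 0)).trans e
  · exact Or.inr fun p => (key p (0, 0)).trans e

end Cfsg.Agent.S1593
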