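import Cfsg.Statements.S3378
import Cfsg.Agent.H66.Triangle235
import Cfsg.Agent.H66.OrderSixty
import Cfsg.Agent.H66.AltFive
import Cfsg.Agent.H66.SLTwoFive

set_option autoImplicit false
open Cfsg

namespace Cfsg.Agent.S3378

/-- The double cover of the triangle group has order at most 120. -/
theorem card_double_le {P : Type*} [Group P] (x y z : P) (hx : x ^ 3 = 1) (hy : y ^ 5 = 1)
    (hz : z ^ 2 = 1) (hzc : z ∈ Subgroup.center P) (hxy : (x * y) ^ 2 = z)
    (hgen : Subgroup.closure ({x, y} : Set P) = ⊤) : Finite P ∧ Nat.card P ≤ 120 := by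
  set N := Subgroup.zpowers z with hN
  have : N.Normal := ⟨fun n hn g => by
    have hnc : n ∈ Subgroup.center P := (Subgroup.zpowers_le.mpr hzc) hn
    rw [Subgroup.mem_center_iff.mp hnc g, mul_assoc, mul_inv_cancel, mul_one]
    exact hn⟩
  let q := QuotientGroup.mk' N
  obtain ⟨hf, hle⟩ := H66.card_triangle235_le (q x) (q y)
    (by rw [← map_pow, hx, map_one]) (by rw [← map_pow, hy, map_one])
    (by
      rw [← map_mul, ← map_pow, hxy]
      exact (QuotientGroup.eq_one_iff z).mpr (Subgroup.mem_zpowers z))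
    (by
      have h := MonoidHom.map_closure q ({x, y} : Set P)
      rw [hgen, Set.image_pair, Subgroup.map_top_of_surjective _ (QuotientGroup.mk'_surjective N)] at h
      exact h.symm)
  have h2 : Nat.card N ∣ 2 := by
    rw [Nat.card_zpowers]
    exact orderOf_dvd_of_pow_eq_one hz
  have hmul := N.card_mul_index
  have hidx : N.index = Nat.card (P ⧸ N) := N.index_eq_card
  have hpos : 0 < Nat.card N := Nat.pos_of_dvd_of_pos h2 (by norm_num)
  have hpos' : 0 < Nat.card (P ⧸ N) := Nat.card_pos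
  refine ⟨Nat.finite_of_card_ne_zero (by rw [← hmul, hidx]; positivity), ?_⟩
  rw [← hmul, hidx]
  exact Nat.mul_le_mul (Nat.le_of_dvd (by norm_num) h2) hle

/-- The relators. -/
def rels : Set (FreeGroup (Fin 3)) :=
  {FreeGroup.of (0 : Fin 3) ^ 3, FreeGroup.of (1 : Fin 3) ^ 5, FreeGroup.of (2 : Fin 3) ^ 2,
    (FreeGroup.of (2 : Fin 3))⁻¹ * FreeGroup.of 0 * FreeGroup.of 2 * (FreeGroup.of (0 : Fin 3))⁻¹,
    (FreeGroup.of (2 : Fin 3))⁻¹ * FreeGroup.of 1 * FreeGroup.of 2 * (FreeGroup.of (1 : Fin 3))⁻¹,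
    (FreeGroup.of (0 : Fin 3) * FreeGroup.of 1) ^ 2 * (FreeGroup.of (2 : Fin 3))⁻¹}

theorem inv_conj_eq {H : Type*} [Group H] {a b : H} (h : a * b = b * a) : a⁻¹ * b * a * b⁻¹ = 1 := by
  rw [mul_assoc a⁻¹ b a, ← h]
  group

/-- A group of order 120 generated by such elements has this presentation. -/
theorem equiv_presented {H : Type*} [Group H] [Finite H] (x y z : H) (hx : x ^ 3 = 1) (hy : y ^ 5 = 1)
    (hz : z ^ 2 = 1) (hzx : z * x = x * z) (hzy : z * y = y * z) (hxy : (x * y) ^ 2 = z)
    (hgen : Subgroup.closure ({x, y} : Set H) = ⊤) (hcard : Nat.card H = 120) :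
    Nonempty (PresentedGroup rels ≃* H) := by
  let f : Fin 3 → H := ![x, y, z]
  have hf : ∀ r ∈ rels, FreeGroup.lift f r = 1 := by
    rintro r (rfl | rfl | rfl | rfl | rfl | rfl)
    · simpa [f] using hx
    · simpa [f] using hy
    · simpa [f] using hz
    · simpa [f] using inv_conj_eq hzx
    · simpa [f] using inv_conj_eq hzy
    · simp [f, hxy]
  let φ := PresentedGroup.toGroup hf
  have hmk : ∀ r ∈ rels, PresentedGroup.mk rels r = 1 := fun r hr => PresentedGroup.one_of_mem hr
  let X : PresentedGroup rels := PresentedGroup.of 0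
  let Y : PresentedGroup rels := PresentedGroup.of 1
  let Z : PresentedGroup rels := PresentedGroup.of 2
  have hXY : (X * Y) ^ 2 * Z⁻¹ = 1 := by
    simpa [X, Y, Z, PresentedGroup.of] using hmk _ (Or.inr (Or.inr (Or.inr (Or.inr (Or.inr rfl)))))
  rw [mul_inv_eq_one] at hXY
  have hgenP : Subgroup.closure ({X, Y} : Set (PresentedGroup rels)) = ⊤ := by
    rw [eq_top_iff, ← PresentedGroup.closure_range_of rels, Subgroup.closure_le]
    rintro g ⟨i, rfl⟩
    have hX : X ∈ Subgroup.closure ({X, Y} : Set (PresentedGroup rels)) := Subgroup.subset_closure (by simp)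
    have hY : Y ∈ Subgroup.closure ({X, Y} : Set (PresentedGroup rels)) := Subgroup.subset_closure (by simp)
    fin_cases i
    · exact hX
    · exact hY
    · show Z ∈ Subgroup.closure ({X, Y} : Set (PresentedGroup rels))
      rw [← hXY]
      exact Subgroup.pow_mem _ (Subgroup.mul_mem _ hX hY) 2
  have hZX : Z⁻¹ * X * Z * X⁻¹ = 1 := by
    simpa [X, Y, Z, PresentedGroup.of] using hmk _ (Or.inr (Or.inr (Or.inr (Or.inl rfl))))
  have hZY : Z⁻¹ * Y * Z * Y⁻¹ = 1 := by
    simpa [X, Y, Z, PresentedGroup.of] using hmk _ (Or.inr (Or.inr (Or.inr (Or.inr (Or.inl rfl)))))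
  have hcentre : Z ∈ Subgroup.center (PresentedGroup rels) := by
    rw [Subgroup.mem_center_iff]
    intro g
    have hg : g ∈ Subgroup.centralizer ({Z} : Set (PresentedGroup rels)) := by
      refine Subgroup.closure_le _ |>.mpr ?_ (hgenP ▸ Subgroup.mem_top g)
      rintro a (rfl | rfl) <;> rw [SetLike.mem_coe, Subgroup.mem_centralizer_singleton_iff]
      · rw [mul_inv_eq_one, mul_assoc, inv_mul_eq_iff_eq_mul] at hZX; exact hZX
      · rw [mul_inv_eq_one, mul_assoc, inv_mul_eq_iff_eq_mul] at hZY; exact hZY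
    exact Subgroup.mem_centralizer_singleton_iff.mp hg
  obtain ⟨hfin, hle⟩ := card_double_le X Y Z
    (by simpa [X, PresentedGroup.of] using hmk _ (Or.inl rfl))
    (by simpa [Y, PresentedGroup.of] using hmk _ (Or.inr (Or.inl rfl)))
    (by simpa [Z, PresentedGroup.of] using hmk _ (Or.inr (Or.inr (Or.inl rfl))))
    hcentre hXY hgenP
  have hsur : Function.Surjective φ := by
    rw [← MonoidHom.range_eq_top, eq_top_iff, ← hgen, Subgroup.closure_le]
    rintro g (rfl | rfl)
    · exact ⟨X, by simp [φ, X, f]⟩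
    · exact ⟨Y, by simp [φ, Y, f]⟩
  exact ⟨MulEquiv.ofBijective φ ((Nat.bijective_iff_surjective_and_card φ).mpr
    ⟨hsur, le_antisymm (hcard.symm ▸ hle) (Nat.card_le_card_of_surjective φ hsur)⟩)⟩

theorem presented_SL : Nonempty (PresentedGroup rels ≃* Matrix.SpecialLinearGroup (Fin 2) (ZMod 5)) :=
  equiv_presented H66.xSL H66.ySL H66.zSL H66.xSL_pow H66.ySL_pow H66.zSL_pow H66.zSL_comm_x
    H66.zSL_comm_y H66.xySL_pow H66.closure_xSL_ySL H66.card_SL25

/-- Groups of order 24 are solvable. -/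
theorem isSolvable_24 {H : Type*} [Group H] [Finite H] (hH : Nat.card H = 24) : Group.IsSolvable H := by
  have : Fact (Nat.Prime 2) := ⟨Nat.prime_two⟩
  obtain ⟨S⟩ : Nonempty (Sylow 2 H) := inferInstance
  have hS : Nat.card (S : Subgroup H) = 8 := by
    rw [show Nat.card (S : Subgroup H) = Nat.card S from rfl, S.card_eq_multiplicity, hH,
      show (24 : ℕ) = 2 ^ 3 * 3 from rfl, Nat.factorization_mul (by norm_num) (by norm_num),
      Finsupp.add_apply, Nat.prime_two.factorization_pow,
      Nat.factorization_eq_zero_of_not_dvd (n := 3) (by norm_num)]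
    simp
  have hidx : (S : Subgroup H).index = 3 := by
    have := (S : Subgroup H).card_mul_index
    rw [hS, hH] at this
    omega
  have hn : Nat.card (Sylow 2 H) ∣ 3 := hidx ▸ S.card_dvd_index
  let φ := MulAction.toPermHom H (Sylow 2 H)
  have hcard : Nat.card φ.range ∣ 6 := by
    refine (Subgroup.card_subgroup_dvd_card _).trans ?_
    rw [Nat.card_perm]
    rcases (Nat.dvd_prime Nat.prime_three).mp hn with h | h <;> rw [h] <;> norm_num [Nat.factorial]
  have hker : φ.ker ≤ Subgroup.normalizer ((S : Subgroup H) : Set H) := fun g hg => by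
    rw [P_coe S, ← Sylow.stabilizer_eq_normalizer, MulAction.mem_stabilizer_iff]
    exact congrFun (congrArg DFunLike.coe (MonoidHom.mem_ker.mp hg)) S
  -- the kernel is a normal subgroup of the normaliser of `S`
  have hkersolv : Group.IsSolvable φ.ker := by
    rcases (Nat.dvd_prime Nat.prime_three).mp hn with h | h
    · have : Subsingleton (Sylow 2 H) := (Nat.card_eq_one_iff_unique.mp h).1
      have := S.normal_of_subsingleton
      have h1 : Group.IsSolvable (H ⧸ (S : Subgroup H)) := by
        have : IsZGroup (H ⧸ (S : Subgroup H)) := IsZGroup.of_squarefree (by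
          rw [← Subgroup.index_eq_card, hidx]; exact Nat.prime_three.squarefree)
        infer_instance
      have h2 : Group.IsSolvable (S : Subgroup H) := by
        have := S.isPGroup'.isNilpotent
        infer_instance
      have : Group.IsSolvable H := (Group.isSolvable_iff_subgroup_quotient (S : Subgroup H)).mpr ⟨h2, h1⟩
      infer_instance
    · have hN : Nat.card (Subgroup.normalizer ((S : Subgroup H) : Set H)) = 8 := by
        have h1 := (Subgroup.normalizer ((S : Subgroup H) : Set H)).card_mul_index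
        rw [P_coe S] at h1 ⊢
        rw [← S.card_eq_index_normalizer, h, hH] at h1
        omega
      obtain ⟨k, -, hk⟩ := (Nat.dvd_prime_pow Nat.prime_two).mp
        (show Nat.card φ.ker ∣ 2 ^ 3 from (Subgroup.card_dvd_of_le hker).trans hN.dvd)
      have := (IsPGroup.of_card hk).isNilpotent
      infer_instance
  have hquot : Group.IsSolvable (H ⧸ φ.ker) := by
    have : IsZGroup (H ⧸ φ.ker) := IsZGroup.of_squarefree (by
      rw [Nat.card_congr (QuotientGroup.quotientKerEquivRange φ).toEquiv]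
      exact Squarefree.squarefree_of_dvd hcard (by
        rw [Nat.squarefree_mul (show Nat.Coprime 2 3 by norm_num) |> fun h => show Squarefree 6 ↔ _ from h]
        exact ⟨Nat.prime_two.squarefree, Nat.prime_three.squarefree⟩))
    infer_instance
  exact (Group.isSolvable_iff_subgroup_quotient φ.ker).mpr ⟨hkersolv, hquot⟩
where
  P_coe {H : Type _} [Group H] {p : ℕ} (S : Sylow p H) : ((S : Subgroup H) : Set H) = (S : Set H) := S.coe_coe

theorem unique_part {G : Type*} [Group G] [Finite G] (hG : Nat.card G = 120) (hns : ¬ Group.IsSolvable G)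
    (hQ : ∀ P : Sylow 2 G, Nonempty ((P : Subgroup G) ≃* QuaternionGroup 2)) :
    Nonempty (G ≃* Matrix.SpecialLinearGroup (Fin 2) (ZMod 5)) := by
  have : Fact (Nat.Prime 5) := ⟨by norm_num⟩
  have : Fact (Nat.Prime 2) := ⟨Nat.prime_two⟩
  have hG' : Nat.card G = 5 * 24 := hG
  have hns5 : Nat.card (Sylow 5 G) ≠ 1 := by
    intro h1
    have : Subsingleton (Sylow 5 G) := (Nat.card_eq_one_iff_unique.mp h1).1
    obtain ⟨P⟩ : Nonempty (Sylow 5 G) := inferInstance
    have := P.normal_of_subsingleton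
    have hP : Nat.card (P : Subgroup G) = 5 := by
      rw [show Nat.card (P : Subgroup G) = Nat.card P from rfl, P.card_eq_multiplicity, hG',
        Nat.factorization_mul (by norm_num) (by norm_num), Finsupp.add_apply,
        Nat.Prime.factorization_self (by norm_num), Nat.factorization_eq_zero_of_not_dvd (n := 24) (by norm_num)]
      rfl
    refine hns ((Group.isSolvable_iff_subgroup_quotient (P : Subgroup G)).mpr ⟨?_, isSolvable_24 ?_⟩)
    · have := P.isPGroup'.isNilpotent
      infer_instance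
    · have := (P : Subgroup G).card_mul_index
      rw [hP, hG, Subgroup.index_eq_card] at this
      omega
  have h24 : (24 : ℕ) = 12 ∨ (24 : ℕ) = 24 := Or.inr rfl
  have hn5 := fun P => H66.card_sylow_five_eq 24 h24 hG' hns5 P
  let K := (MulAction.toPermHom G (Sylow 5 G)).ker
  have hKmem : ∀ g, g ∈ K ↔ ∀ P : Sylow 5 G, g • P = P := fun g => by
    rw [MonoidHom.mem_ker, Equiv.ext_iff]; rfl
  have hKN : ∀ P : Sylow 5 G, K ≤ Subgroup.normalizer ((P : Subgroup G) : Set G) := fun P g hg => by
    rw [P.coe_coe]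
    exact Sylow.smul_eq_iff_mem_normalizer.mp ((hKmem g).mp hg P)
  have hK5 : ¬ 5 ∣ Nat.card K := by
    intro h5
    obtain ⟨⟨u, huK⟩, hu⟩ := exists_prime_orderOf_dvd_card' 5 h5
    rw [Subgroup.orderOf_mk] at hu
    have hcu : Nat.card (Subgroup.zpowers u) = 5 := by rw [Nat.card_zpowers, hu]
    have hall : ∀ P : Sylow 5 G, (P : Subgroup G) = Subgroup.zpowers u := by
      intro P
      have h1 := (IsPGroup.of_card (p := 5) (n := 1) (G := Subgroup.zpowers u) (by rw [hcu, pow_one])).inf_normalizer_sylow P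
      have h2 : Subgroup.zpowers u ≤ Subgroup.normalizer ((P : Subgroup G) : Set G) :=
        Subgroup.zpowers_le.mpr (hKN P huK)
      rw [P.coe_coe] at h2
      rw [inf_eq_left.mpr h2] at h1
      exact (Subgroup.eq_of_le_of_card_ge (inf_eq_left.mp h1.symm) (by rw [(hn5 P).1, hcu])).symm
    have : Subsingleton (Sylow 5 G) := ⟨fun P P' => Sylow.ext ((hall P).trans (hall P').symm)⟩
    exact hns5 (Nat.card_eq_one_iff_unique.mpr ⟨this, inferInstance⟩)
  have hKd : Nat.card K ∣ 4 := by
    obtain ⟨P⟩ : Nonempty (Sylow 5 G) := inferInstance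
    have h1 := Subgroup.card_dvd_of_le (hKN P)
    have h2 : Nat.card (Subgroup.normalizer ((P : Subgroup G) : Set G)) = 20 := by
      have := (hn5 P).2.2
      omega
    rw [h2, show (20 : ℕ) = 4 * 5 from rfl] at h1
    exact (Nat.Coprime.dvd_mul_right ((Nat.Prime.coprime_iff_not_dvd (by norm_num)).mpr hK5).symm).mp h1
  have hK4 : Nat.card K ≠ 4 := by
    intro h4
    obtain ⟨P⟩ : Nonempty (Sylow 5 G) := inferInstance
    obtain ⟨h5, -, hN⟩ := hn5 P
    refine H66.normalizer_not_le_centralizer 24 h24 hG' hns5 P ?_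
    set C := Subgroup.centralizer ((P : Subgroup G) : Set G) ⊓ Subgroup.normalizer ((P : Subgroup G) : Set G)
    have hcycP : IsMulCommutative (P : Subgroup G) := by
      have : IsCyclic (P : Subgroup G) := isCyclic_of_prime_card h5
      exact IsCyclic.isMulCommutative
    have hKn : K.Normal := inferInstance
    have hKC : K ≤ C := fun k hk => ⟨fun u hu => by
      have h1 : u * k * u⁻¹ * k⁻¹ ∈ K := K.mul_mem (hKn.conj_mem k hk u) (K.inv_mem hk)
      have h2 : u * k * u⁻¹ * k⁻¹ ∈ (P : Subgroup G) := by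
        rw [show u * k * u⁻¹ * k⁻¹ = u * (k * u⁻¹ * k⁻¹) by group]
        exact (P : Subgroup G).mul_mem hu ((Subgroup.mem_normalizer_iff.mp (hKN P hk) _).mp ((P : Subgroup G).inv_mem hu))
      have h3 := Nat.dvd_gcd (K.orderOf_dvd_natCard h1) ((P : Subgroup G).orderOf_dvd_natCard h2)
      rw [h4, h5] at h3
      have h6 := orderOf_eq_one_iff.mp (Nat.eq_one_of_dvd_one h3)
      exact mul_inv_eq_iff_eq_mul.mp (mul_inv_eq_one.mp h6), hKN P hk⟩
    have hPC : (P : Subgroup G) ≤ C := le_inf (Subgroup.le_centralizer (P : Subgroup G)) Subgroup.le_normalizer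
    have hd : 20 ∣ Nat.card C := by
      have h1 := h4 ▸ Subgroup.card_dvd_of_le hKC
      have h2 := h5 ▸ Subgroup.card_dvd_of_le hPC
      exact Nat.Coprime.mul_dvd_of_dvd_of_dvd (show Nat.Coprime 4 5 by norm_num) h1 h2
    have hle : C ≤ Subgroup.normalizer ((P : Subgroup G) : Set G) := inf_le_right
    have hN20 : Nat.card (Subgroup.normalizer ((P : Subgroup G) : Set G)) = 20 := by omega
    rw [← Subgroup.eq_of_le_of_card_ge hle (hN20.le.trans (Nat.le_of_dvd Nat.card_pos hd))]
    exact inf_le_left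
  -- every involution lies in `K`
  have hinvK : ∀ t : G, orderOf t = 2 → t ∈ K := by
    intro t ht
    obtain ⟨S, hS⟩ := (IsPGroup.of_card (p := 2) (n := 1) (G := Subgroup.zpowers t)
      (by rw [Nat.card_zpowers, ht, pow_one])).exists_le_sylow
    obtain ⟨e⟩ := hQ S
    have htS : t ∈ (S : Subgroup G) := hS (Subgroup.mem_zpowers t)
    have hq1 : ∀ g : QuaternionGroup 2, g ^ 2 = 1 → g = 1 ∨ g = QuaternionGroup.a 2 := by decide
    have hq2 : ∀ g : QuaternionGroup 2, g = 1 ∨ g = QuaternionGroup.a 2 ∨ g ^ 2 = QuaternionGroup.a 2 := by decide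
    have hte : e ⟨t, htS⟩ = QuaternionGroup.a 2 := by
      refine (hq1 _ ?_).resolve_left fun h => ?_
      · rw [← map_pow]
        exact (congrArg e (Subtype.ext (orderOf_dvd_iff_pow_eq_one.mp ht.dvd) : (⟨t, htS⟩ : (S : Subgroup G)) ^ 2 = 1)).trans (map_one e)
      · have : (⟨t, htS⟩ : (S : Subgroup G)) = 1 := e.injective (h.trans (map_one e).symm)
        have h' : t = 1 := congrArg Subtype.val this
        simp [h'] at ht
    rw [hKmem]
    intro P
    obtain ⟨s, hs1, hsP⟩ : ∃ s : (S : Subgroup G), s ≠ 1 ∧ (s : G) • P = P := by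
      by_contra hno
      push Not at hno
      have hinj : Function.Injective (fun s : (S : Subgroup G) => (s : G) • P) := by
        intro a b hab
        by_contra hne
        refine hno (a⁻¹ * b) (fun h => hne (inv_mul_eq_one.mp h)) ?_
        have hab' : (a : G) • P = (b : G) • P := hab
        rw [Subgroup.coe_mul, Subgroup.coe_inv, mul_smul, ← hab', inv_smul_smul]
      have h1 := Nat.card_le_card_of_injective _ hinj
      rw [(hn5 P).2.1, Nat.card_congr e.toEquiv, Nat.card_eq_fintype_card, QuaternionGroup.card] at h1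
      omega
    rcases hq2 (e s) with h | h | h
    · exact absurd (e.injective (h.trans (map_one e).symm)) hs1
    · have : s = ⟨t, htS⟩ := e.injective (h.trans hte.symm)
      simpa [this] using hsP
    · have : s ^ 2 = ⟨t, htS⟩ := e.injective ((map_pow e s 2).trans (h.trans hte.symm))
      have h' : (s : G) ^ 2 = t := congrArg Subtype.val this
      rw [← h', pow_two, mul_smul, hsP, hsP]
  obtain ⟨z, hz⟩ := exists_prime_orderOf_dvd_card' (G := G) 2 (by omega)
  have hK2 : Nat.card K = 2 := by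
    have h1 := hz ▸ K.orderOf_dvd_natCard (hinvK z hz)
    have h2 := Nat.le_of_dvd (by norm_num) hKd
    interval_cases h : Nat.card K <;> omega
  have hKz : K = Subgroup.zpowers z :=
    (Subgroup.eq_of_le_of_card_ge (Subgroup.zpowers_le.mpr (hinvK z hz)) (by rw [Nat.card_zpowers, hz, hK2])).symm
  have hKn : K.Normal := inferInstance
  have hcases : ∀ k ∈ K, k = 1 ∨ k = z := by
    intro k hk
    rw [hKz] at hk
    obtain ⟨n, rfl⟩ := Submonoid.mem_powers_iff _ _ |>.mp (mem_powers_iff_mem_zpowers.mpr hk)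
    rw [← pow_mod_orderOf z n, hz]
    rcases Nat.mod_two_eq_zero_or_one n with h | h <;> simp [h]
  have hzinv : ∀ t : G, orderOf t = 2 → t = z := fun t ht =>
    (hcases t (hinvK t ht)).resolve_left fun h => by simp [h] at ht
  have hzc : z ∈ Subgroup.center G := by
    rw [Subgroup.mem_center_iff]
    intro g
    have h1 : g * z * g⁻¹ = z := hzinv _ (by
      rw [show g * z * g⁻¹ = MulAut.conj g z from rfl, MulEquiv.orderOf_eq, hz])
    calc g * z = g * z * g⁻¹ * g := by group
      _ = z * g := by rw [h1]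
  -- the quotient is alternating
  have hcq : Nat.card (G ⧸ K) = 60 := by
    have := K.card_mul_index
    rw [hK2, hG, Subgroup.index_eq_card] at this
    omega
  have hnsq : Nat.card (Sylow 5 (G ⧸ K)) ≠ 1 := by
    intro h1
    have : Subsingleton (Sylow 5 (G ⧸ K)) := (Nat.card_eq_one_iff_unique.mp h1).1
    obtain ⟨R⟩ : Nonempty (Sylow 5 (G ⧸ K)) := inferInstance
    set L := (R : Subgroup (G ⧸ K)).comap (QuotientGroup.mk' K)
    have hPL : ∀ P : Sylow 5 G, (P : Subgroup G) ≤ L := by
      intro P g hg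
      obtain ⟨R', hR'⟩ := (P.isPGroup'.map (QuotientGroup.mk' K)).exists_le_sylow
      rw [Subgroup.mem_comap, Subsingleton.elim R R']
      exact hR' (Subgroup.mem_map_of_mem _ hg)
    have hRc : Nat.card (R : Subgroup (G ⧸ K)) = 5 := by
      rw [show Nat.card (R : Subgroup (G ⧸ K)) = Nat.card R from rfl, R.card_eq_multiplicity, hcq,
        show (60 : ℕ) = 5 * 12 from rfl, Nat.factorization_mul (by norm_num) (by norm_num),
        Finsupp.add_apply, Nat.Prime.factorization_self (by norm_num),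
        Nat.factorization_eq_zero_of_not_dvd (n := 12) (by norm_num)]
      rfl
    have hLc : Nat.card L = 10 := by
      have h1 := L.card_mul_index
      rw [hG, Subgroup.index_comap_of_surjective _ (QuotientGroup.mk'_surjective K)] at h1
      have h2 := (R : Subgroup (G ⧸ K)).card_mul_index
      rw [hRc, hcq] at h2
      have h3 : (R : Subgroup (G ⧸ K)).index = 12 := by omega
      rw [h3] at h1
      omega
    obtain ⟨P⟩ : Nonempty (Sylow 5 G) := inferInstance
    have hone : Nat.card (Sylow 5 L) = 1 := by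
      set PL := P.subtype (hPL P)
      have hPc : Nat.card (PL : Subgroup L) = 5 :=
        (Nat.card_congr (Subgroup.subgroupOfEquivOfLe (hPL P)).toEquiv).trans (hn5 P).1
      have hidx : (PL : Subgroup L).index = 2 := by
        have := (PL : Subgroup L).card_mul_index
        rw [hPc, hLc] at this
        omega
      have hd := hidx ▸ PL.card_dvd_index
      have hm : Nat.card (Sylow 5 L) % 5 = 1 := card_sylow_modEq_one 5 L
      have := Nat.le_of_dvd (by norm_num) hd
      interval_cases h : Nat.card (Sylow 5 L) <;> omega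
    have : Subsingleton (Sylow 5 L) := (Nat.card_eq_one_iff_unique.mp hone).1
    have hsub : Subsingleton (Sylow 5 G) :=
      ⟨fun A B => Sylow.subtype_injective (Subsingleton.elim (A.subtype (hPL A)) (B.subtype (hPL B)))⟩
    exact hns5 (Nat.card_eq_one_iff_unique.mpr ⟨hsub, inferInstance⟩)
  obtain ⟨e⟩ := H66.iso_altFive hcq hnsq
  obtain ⟨x₀, hx₀⟩ := QuotientGroup.mk'_surjective K (e.symm H66.x5)
  obtain ⟨y₀, hy₀⟩ := QuotientGroup.mk'_surjective K (e.symm H66.y5)
  let q : G →* alternatingGroup (Fin 5) := e.toMonoidHom.comp (QuotientGroup.mk' K)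
  have hqx : q x₀ = H66.x5 := by
    show e (QuotientGroup.mk' K x₀) = _
    rw [hx₀, e.apply_symm_apply]
  have hqy : q y₀ = H66.y5 := by
    show e (QuotientGroup.mk' K y₀) = _
    rw [hy₀, e.apply_symm_apply]
  have hqker : ∀ g, q g = 1 → g ∈ K := fun g hg => by
    have : QuotientGroup.mk' K g = 1 := e.injective (hg.trans (map_one e).symm)
    exact (QuotientGroup.eq_one_iff g).mp this
  have hsq : ∀ k ∈ K, k ^ 2 = 1 := fun k hk => by
    rcases hcases k hk with h | h <;> rw [h]
    · exact one_pow 2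
    · exact orderOf_dvd_iff_pow_eq_one.mp hz.dvd
  set x := x₀ ^ 4 with hx
  set y := y₀ ^ 6 with hy
  have hx3 : x ^ 3 = 1 := by
    rw [hx, ← pow_mul, show 4 * 3 = 3 * 2 * 2 from rfl, pow_mul, pow_mul,
      hsq (x₀ ^ 3) (hqker _ (by rw [map_pow, hqx, H66.x5_pow])), one_pow]
  have hy5 : y ^ 5 = 1 := by
    rw [hy, ← pow_mul, show 6 * 5 = 5 * 2 * 3 from rfl, pow_mul, pow_mul,
      hsq (y₀ ^ 5) (hqker _ (by rw [map_pow, hqy, H66.y5_pow])), one_pow]
  have hqx' : q x = H66.x5 := by
    rw [hx, map_pow, hqx, show 4 = 3 + 1 from rfl, pow_succ, H66.x5_pow, one_mul]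
  have hqy' : q y = H66.y5 := by
    rw [hy, map_pow, hqy, show 6 = 5 + 1 from rfl, pow_succ, H66.y5_pow, one_mul]
  have hxy : (x * y) ^ 2 = z := by
    refine (hcases _ (hqker _ (by rw [map_pow, map_mul, hqx', hqy', H66.x5y5_pow]))).resolve_left fun h => ?_
    have hne : x * y ≠ 1 := fun h1 => by
      have h2 : H66.x5 * H66.y5 = 1 := by rw [← hqx', ← hqy', ← map_mul, h1, map_one]
      exact absurd h2 (by decide)
    have := hzinv _ (orderOf_eq_prime h hne)
    have h3 : q z = H66.x5 * H66.y5 := by rw [← this, map_mul, hqx', hqy']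
    have h4 : q z = 1 := by
      have : QuotientGroup.mk' K z = 1 := (QuotientGroup.eq_one_iff z).mpr (hinvK z hz)
      show e (QuotientGroup.mk' K z) = 1
      rw [this, map_one]
    rw [h4] at h3
    exact absurd h3.symm (by decide)
  have hgen : Subgroup.closure ({x, y} : Set G) = ⊤ := by
    set C := Subgroup.closure ({x, y} : Set G) with hC
    have hzC : K ≤ C := by
      rw [hKz, Subgroup.zpowers_le, ← hxy]
      exact Subgroup.pow_mem _ (Subgroup.mul_mem _ (Subgroup.subset_closure (by simp)) (Subgroup.subset_closure (by simp))) 2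
    have hmap : C.map q = ⊤ := by
      rw [hC, MonoidHom.map_closure, Set.image_pair, hqx', hqy', H66.closure_x5_y5]
    rw [eq_top_iff]
    intro g _
    obtain ⟨c, hc, hcg⟩ := Subgroup.mem_map.mp (hmap.symm ▸ Subgroup.mem_top (q g))
    have h1 : c⁻¹ * g ∈ K := hqker _ (by rw [map_mul, map_inv, hcg, inv_mul_cancel])
    have := C.mul_mem hc (hzC h1)
    rwa [mul_inv_cancel_left] at this
  obtain ⟨i⟩ := equiv_presented x y z hx3 hy5 (orderOf_dvd_iff_pow_eq_one.mp hz.dvd)
    (Subgroup.mem_center_iff.mp hzc x).symm (Subgroup.mem_center_iff.mp hzc y).symm hxy hgen hG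
  obtain ⟨j⟩ := presented_SL
  exact ⟨i.symm.trans j⟩

theorem result :
    (∀ (G : Type*) [Group G] [Finite G], Nat.card G = 120 → ¬ Group.IsSolvable G →
      (∀ P : Sylow 2 G, Nonempty ((P : Subgroup G) ≃* QuaternionGroup 2)) →
      Nonempty (G ≃* Matrix.SpecialLinearGroup (Fin 2) (ZMod 5))) ∧
    Nonempty (PresentedGroup ({FreeGroup.of (0 : Fin 3) ^ 3, FreeGroup.of (1 : Fin 3) ^ 5, FreeGroup.of (2 : Fin 3) ^ 2,
        (FreeGroup.of (2 : Fin 3))⁻¹ * FreeGroup.of 0 * FreeGroup.of 2 * (FreeGroup.of (0 : Fin 3))⁻¹,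
        (FreeGroup.of (2 : Fin 3))⁻¹ * FreeGroup.of 1 * FreeGroup.of 2 * (FreeGroup.of (1 : Fin 3))⁻¹,
        (FreeGroup.of (0 : Fin 3) * FreeGroup.of 1) ^ 2 * (FreeGroup.of (2 : Fin 3))⁻¹} : Set (FreeGroup (Fin 3)))
      ≃* Matrix.SpecialLinearGroup (Fin 2) (ZMod 5)) :=
  ⟨fun G _ _ h1 h2 h3 => unique_part h1 h2 h3, presented_SL⟩

end Cfsg.Agent.S3378
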