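import Cfsg.Statements.S4503
import Cfsg.Agent.H81.SmallDegree
import Cfsg.Agent.H81.PrimeSylowData
import Cfsg.Agent.CharBasic.Orth

set_option autoImplicit false
open Cfsg

namespace Cfsg.Agent.S4503

open Cfsg.Agent CharBasic

/-- If all irreducible constituents are linear, commutators lie in the kernel. -/
theorem commutator_apply {K : Type*} [Group K] (φ : K → ℂ) (h : Cfsg.IsIrrCharacter K φ)
    (h1 : φ 1 = 1) (a b : K) : φ (a * b * a⁻¹ * b⁻¹) = φ 1 := by
  obtain ⟨n, ρ, hρ, rfl⟩ := h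
  have hn : n = 1 := by
    rw [Representation.char_one] at h1
    simpa using h1
  subst hn
  have hsc : ∀ u v : Fin 1 → ℂ, ∀ f : (Fin 1 → ℂ) →ₗ[ℂ] (Fin 1 → ℂ),
      u 0 • f v = v 0 • f u := fun u v f => by
    rw [← map_smul, ← map_smul]
    congr 1
    funext i
    simp [Fin.fin_one_eq_zero i, mul_comm]
  have hcomm : ρ a * ρ b = ρ b * ρ a := LinearMap.ext fun v => by
    have key : ∀ (f : (Fin 1 → ℂ) →ₗ[ℂ] (Fin 1 → ℂ)) (u : Fin 1 → ℂ),
        f u = (f (fun _ => 1) 0 * u 0) • (fun _ => (1 : ℂ)) := fun f u => by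
      have h := hsc (fun _ => 1) u f
      rw [one_smul] at h
      funext i
      rw [h]
      simp [Fin.fin_one_eq_zero i, mul_comm]
    rw [Module.End.mul_apply, Module.End.mul_apply, key (ρ a) (ρ b v), key (ρ b) (ρ a v),
      key (ρ b) v, key (ρ a) v]
    congr 1
    simp
    ring
  show LinearMap.trace ℂ _ (ρ (a * b * a⁻¹ * b⁻¹)) = LinearMap.trace ℂ _ (ρ 1)
  have e : ρ (a * b * a⁻¹ * b⁻¹) = ρ 1 := by
    rw [map_mul, map_mul, map_mul, hcomm, mul_assoc (ρ b), ← map_mul ρ a, mul_inv_cancel,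
      map_one, mul_one, ← map_mul, mul_inv_cancel, map_one]
  rw [e]

/-- Let G be a finite group whose order is divisible by the prime p exactly once and which has no normal subgroup of order p. Then every faithful character χ of G has degree at least (p − 1)/2: 2·χ(1) + 1 ≥ p. -/
theorem result {G : Type*} [Group G] [Finite G] (p : ℕ) (hp : p.Prime) (hdiv : p ∣ Nat.card G) (hsq : ¬ p ^ 2 ∣ Nat.card G) (hnn : ∀ H : Subgroup G, H.Normal → Nat.card H ≠ p) (χ : G → ℂ) (hχ : Cfsg.IsCharacter G χ) (hfaith : ∀ g : G, χ g = χ 1 → g = 1) : p ≤ 2 * Cfsg.charDegree χ + 1 := by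
  classical
  haveI := Fact.mk hp
  obtain ⟨m, ρ, rfl⟩ := hχ
  have hdeg : Cfsg.charDegree ρ.character = m := by
    simp [Cfsg.charDegree]
  rw [hdeg]
  by_contra hbound
  obtain ⟨x, hx⟩ := exists_prime_orderOf_dvd_card' p hdiv
  set P := Subgroup.zpowers x
  set K := Subgroup.normalClosure ({x} : Set G)
  have hxK : x ∈ K := Subgroup.subset_normalClosure (Set.mem_singleton x)
  let x' : K := ⟨x, hxK⟩
  have hx' : orderOf x' = p := by rw [Subgroup.orderOf_mk, hx]
  have hsqK : ¬ p ^ 2 ∣ Nat.card K := fun h => hsq (h.trans (Subgroup.card_subgroup_dvd_card K))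
  have hsyl : ∀ y : K, orderOf y = p → ∀ (Q : Sylow p K), y ∈ Q →
      (Q : Subgroup K) = Subgroup.zpowers y := by
    intro y hy Q hyQ
    symm
    refine Subgroup.eq_of_le_of_card_ge (Subgroup.zpowers_le.2 hyQ) ?_
    rw [Nat.card_zpowers, hy, Q.card_eq_multiplicity]
    have hle : (Nat.card K).factorization p ≤ 1 := by
      by_contra hc
      exact hsqK ((hp.pow_dvd_iff_le_factorization Nat.card_pos.ne').2 (by omega))
    exact (Nat.pow_le_pow_right hp.pos hle).trans (pow_one p).le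
  -- all subgroups of order `p` are conjugate in `K`
  have hconj : ∀ y : K, orderOf y = p → ∃ k : K, y ∈ (Subgroup.zpowers x').map
      (MulAut.conj k).toMonoidHom := by
    intro y hy
    have hP : ∀ z : K, orderOf z = p → IsPGroup p (Subgroup.zpowers z) := fun z hz =>
      IsPGroup.of_card (n := 1) (by rw [Nat.card_zpowers, hz, pow_one])
    obtain ⟨Q₁, hQ₁⟩ := (hP x' hx').exists_le_sylow
    obtain ⟨Q₂, hQ₂⟩ := (hP y hy).exists_le_sylow
    obtain ⟨k, hk⟩ := MulAction.exists_smul_eq K Q₁ Q₂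
    refine ⟨k, ?_⟩
    have h2 : y ∈ (k • Q₁ : Sylow p K) := hk ▸ hQ₂ (Subgroup.mem_zpowers y)
    obtain ⟨z, hz, rfl⟩ := h2
    rw [hsyl x' hx' Q₁ (hQ₁ (Subgroup.mem_zpowers x'))] at hz
    exact ⟨z, hz, rfl⟩
  have hgen : ∀ L : Subgroup K, L.Normal → x' ∈ L → L = ⊤ := by
    intro L hL hxL
    have hle : K ≤ L.map K.subtype := by
      show Subgroup.closure _ ≤ _
      refine (Subgroup.closure_le _).2 fun y hy => ?_
      obtain ⟨g, hg⟩ : ∃ g : G, g * x * g⁻¹ = y := by
        obtain ⟨a, ha, hy'⟩ := Group.mem_conjugatesOfSet_iff.1 hy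
        rw [Set.mem_singleton_iff] at ha
        subst ha
        exact isConj_iff.1 hy'
      have hyK : y ∈ K := hg ▸ Subgroup.normalClosure_normal.conj_mem x hxK g
      have hoy : orderOf (⟨y, hyK⟩ : K) = p := by
        rw [Subgroup.orderOf_mk, ← hg]
        exact ((MulAut.conj g).orderOf_eq x).trans hx
      obtain ⟨k, z, hz, hkz⟩ := hconj _ hoy
      refine ⟨⟨y, hyK⟩, ?_, rfl⟩
      rw [SetLike.mem_coe, ← hkz]
      exact hL.conj_mem z (Subgroup.zpowers_le.2 hxL hz) k
    rw [eq_top_iff]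
    intro y _
    obtain ⟨z, hz, hzy⟩ := hle y.2
    rwa [← Subtype.ext hzy]
  -- a nonlinear constituent
  have hchK : Cfsg.IsCharacter K (fun k => ρ.character k) :=
    ⟨m, ρ.comp K.subtype, rfl⟩
  obtain ⟨s, hs⟩ := IsChar.eq_multiset_sum hchK
  have hsum : ∀ k : K, ρ.character k =
      (s.map fun φ : Cfsg.IrrCharacter K => (φ : K → ℂ) k).sum := fun k => by
    rw [show ρ.character k = (fun k : K => ρ.character k) k from rfl, hs]
    simp [Multiset.map_map, Function.comp_def, Pi.multiset_sum_apply]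
  by_cases hall : ∀ φ ∈ s, (φ : K → ℂ) 1 = 1
  · have hab : ∀ a b : K, a * b * a⁻¹ * b⁻¹ = 1 := by
      intro a b
      refine Subtype.ext (hfaith _ ?_)
      rw [hsum, show ρ.character 1 = ρ.character ((1 : K) : G) from rfl, hsum]
      exact congrArg Multiset.sum (Multiset.map_congr rfl fun φ hφ =>
        commutator_apply _ φ.2 (hall φ hφ) a b)
    apply hnn P ?_ (by rw [Nat.card_zpowers, hx])
    refine ⟨fun z hz g => ?_⟩
    obtain ⟨i, rfl⟩ := Subgroup.mem_zpowers_iff.1 hz
    rw [← conj_zpow]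
    refine P.zpow_mem ?_ i
    have hyK : g * x * g⁻¹ ∈ K := Subgroup.normalClosure_normal.conj_mem x hxK g
    obtain ⟨k, z, hz, hkz⟩ := hconj ⟨_, hyK⟩ (by
      rw [Subgroup.orderOf_mk]; exact ((MulAut.conj g).orderOf_eq x).trans hx)
    obtain ⟨j, rfl⟩ := Subgroup.mem_zpowers_iff.1 hz
    have hkz' : k * x' ^ j * k⁻¹ = ⟨_, hyK⟩ := hkz
    have h2 : k * x' ^ j * k⁻¹ = x' ^ j := by
      have h1 := hab k (x' ^ j)
      rwa [mul_inv_eq_one] at h1
    have h3 := congrArg Subtype.val (h2.symm.trans hkz')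
    simp only [SubgroupClass.coe_zpow] at h3
    rw [show g * x * g⁻¹ = x ^ j from h3.symm]
    exact P.zpow_mem (Subgroup.mem_zpowers x) j
  · push Not at hall
    obtain ⟨φ, hφs, hφ1⟩ := hall
    obtain ⟨n, σ, hσ, hσφ⟩ := φ.2
    have hn : (φ : K → ℂ) 1 = n := by rw [← hσφ]; simp
    have hn1 : n ≠ 1 := by rintro rfl; exact hφ1 (by rw [hn, Nat.cast_one])
    have hn0 : n ≠ 0 := by
      obtain ⟨n', hn', h⟩ := IsIrr.exists_degree φ.2
      rw [hn, Nat.cast_inj] at h
      omega
    have hnm : n ≤ m := by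
      obtain ⟨r, hr⟩ := Multiset.exists_cons_of_mem hφs
      have h1 := hsum 1
      rw [hr, Multiset.map_cons, Multiset.sum_cons, hn] at h1
      simp only [OneMemClass.coe_one, Representation.char_one, Module.finrank_fin_fun] at h1
      have : ∀ r : Multiset (Cfsg.IrrCharacter K), ∃ d : ℕ,
          (r.map fun φ : Cfsg.IrrCharacter K => (φ : K → ℂ) 1).sum = d := by
        intro r
        induction r using Multiset.induction_on with
        | empty => exact ⟨0, by simp⟩
        | cons a r ih =>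
          obtain ⟨d, hd⟩ := ih
          obtain ⟨d', -, hd'⟩ := IsIrr.exists_degree a.2
          exact ⟨d' + d, by rw [Multiset.map_cons, Multiset.sum_cons, hd, hd']; push_cast; rfl⟩
      obtain ⟨d, hd⟩ := this r
      rw [hd] at h1
      norm_cast at h1
      omega
    obtain ⟨O, t, e, D⟩ := H81.exists_primeSylowData p hsqK x' hx'
    haveI := hσ
    exact H81.small_degree_false σ (by omega) (by omega) D hgen

end Cfsg.Agent.S4503
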