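import Cfsg.Statements.S0563
import Cfsg.Agent.H31.WielandtCoprimeMain

set_option autoImplicit false
open Pointwise
open Cfsg

namespace Cfsg.Agent.S0563

open Cfsg.Agent.H31 in
theorem sylow_hall {G : Type*} [Group G] [Finite G] {A B : Subgroup G}
    (hcop : (Nat.card A).Coprime (Nat.card B)) (hcard : Nat.card G = Nat.card A * Nat.card B)
    (p : ℕ) [Fact p.Prime] (P : Sylow p A) :
    (Nat.card ((P : Subgroup A).map A.subtype)).Coprime ((P : Subgroup A).map A.subtype).index := by
  set S := (P : Subgroup A).map A.subtype with hS
  have hc : Nat.card S = p ^ (Nat.card A).factorization p := by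
    rw [hS, Subgroup.card_map_of_injective A.subtype_injective, P.card_eq_multiplicity]
  by_cases hpA : p ∣ Nat.card A
  · have hv : (Nat.card G).factorization p = (Nat.card A).factorization p := by
      have : ¬ p ∣ Nat.card B := fun hd =>
        (Fact.out : p.Prime).ne_one (Nat.eq_one_of_dvd_coprimes hcop hpA hd)
      rw [hcard, Nat.factorization_mul Nat.card_pos.ne' Nat.card_pos.ne', Finsupp.add_apply,
        Nat.factorization_eq_zero_of_not_dvd this, add_zero]
    have hi := S.card_mul_index
    rw [hc, ← hv] at hi ⊢
    have hpos : 0 < p ^ (Nat.card G).factorization p := pow_pos (Fact.out : p.Prime).pos _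
    rw [(Nat.div_eq_of_eq_mul_right hpos hi.symm).symm]
    exact (Nat.coprime_ordCompl Fact.out Nat.card_pos.ne').pow_left _
  · rw [hc, Nat.factorization_eq_zero_of_not_dvd hpA, pow_zero]
    exact Nat.coprime_one_left _

/-- If a finite group G is the product AB of two nilpotent subgroups of coprime orders, then G is solvable, and for every Sylow p-subgroup P of A and Sylow q-subgroup Q of B the product set PQ is a subgroup. -/
theorem result {G : Type*} [Group G] [Finite G] (A B : Subgroup G) (hA : Group.IsNilpotent A) (hB : Group.IsNilpotent B) (hcop : (Nat.card A).Coprime (Nat.card B)) (hAB : ∀ g : G, ∃ a ∈ A, ∃ b ∈ B, g = a * b) : Group.IsSolvable G ∧ ∀ (p q : ℕ) [Fact p.Prime] [Fact q.Prime] (P : Sylow p A) (Q : Sylow q B), ∃ S : Subgroup G, (S : Set G) = (((P : Subgroup A).map A.subtype : Subgroup G) : Set G) * (((Q : Subgroup B).map B.subtype : Subgroup G) : Set G) := by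
  have hs := Cfsg.Agent.H31.NilProd.isSolvable hA hB hcop hAB
  refine ⟨hs, fun p q _ _ P Q => ?_⟩
  have hcard : Nat.card G = Nat.card A * Nat.card B := by
    have := Cfsg.Agent.H31.card_factorized hAB
    rwa [Subgroup.inf_eq_bot_of_coprime hcop, Subgroup.card_bot, mul_one] at this
  haveI := hs
  have hP : (P : Subgroup A).Normal := by
    have h := (Group.isNilpotent_of_finite_tfae (G := A)).out 0 3
    exact h.mp hA p inferInstance P
  have hQ : (Q : Subgroup B).Normal := by
    have h := (Group.isNilpotent_of_finite_tfae (G := B)).out 0 3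
    exact h.mp hB q inferInstance Q
  obtain ⟨S, hS⟩ := Cfsg.Agent.S0561.result A B ((P : Subgroup A).map A.subtype) ((Q : Subgroup B).map B.subtype) hAB
    (Subgroup.map_subtype_le _)
    (by
      have e : ((P : Subgroup A).map A.subtype).subgroupOf A = P :=
        Subgroup.comap_map_eq_self_of_injective A.subtype_injective _
      rw [e]; exact hP)
    (Subgroup.map_subtype_le _)
    (by
      have e : ((Q : Subgroup B).map B.subtype).subgroupOf B = Q :=
        Subgroup.comap_map_eq_self_of_injective B.subtype_injective _
      rw [e]; exact hQ)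
    (sylow_hall hcop hcard p P) (sylow_hall hcop.symm (by rw [hcard, mul_comm]) q Q) 1 1
  rw [map_one, one_smul, one_smul] at hS
  exact ⟨S, hS⟩

end Cfsg.Agent.S0563
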