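import Cfsg.Statements.S2202
import Cfsg.Agent.H65.AbInv.Main

set_option autoImplicit false
open Cfsg

namespace Cfsg.Agent.S2202

/-- Finite groups in which the centralizer of every involution is abelian. Let G be a finite group of even order in which the centralizer of every element of order 2 is abelian. Then the Sylow 2-subgroups of G are cyclic, or a Sylow 2-subgroup of G is normal, or G is isomorphic to the direct product of SL₂(F) for a finite field F of characteristic two and an abelian group of odd order. -/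
theorem result {G : Type*} [Group G] [Finite G] (heven : Even (Nat.card G)) (h : ∀ t : G, orderOf t = 2 → IsMulCommutative ↥(Subgroup.centralizer ({t} : Set G))) :
    (∀ P : Sylow 2 G, IsCyclic ↥P) ∨ (∀ P : Sylow 2 G, (P : Subgroup G).Normal) ∨
    (∃ (F : Type) (_ : Field F) (_ : Fintype F) (A : Type) (_ : CommGroup A) (_ : Finite A), CharP F 2 ∧ Odd (Nat.card A) ∧ Nonempty (G ≃* Matrix.SpecialLinearGroup (Fin 2) F × A)) := by
  classical
  have hcomm : ∀ v : G, orderOf v = 2 → ∀ a ∈ H65.AbInv.A v, ∀ b ∈ H65.AbInv.A v, Commute a b :=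
    fun v hv a ha b hb => congrArg Subtype.val ((h v hv).is_comm.comm ⟨a, ha⟩ ⟨b, hb⟩)
  rcases H65.AbInv.cases hcomm heven with hc | hn | ⟨t, ht, H⟩
  · exact Or.inl hc
  · exact Or.inr (Or.inl hn)
  · obtain ⟨F, hF, hF', hchar, ⟨e⟩⟩ := H65.AbInv.exists_prod H ht
    letI : CommGroup ↥(Subgroup.center G) :=
      { (inferInstance : Group ↥(Subgroup.center G)) with
        mul_comm := fun a b => Subtype.ext (Subgroup.mem_center_iff.1 b.2 a) }
    let s : Shrink.{0} ↥(Subgroup.center G) ≃ ↥(Subgroup.center G) := (equivShrink _).symm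
    letI : CommGroup (Shrink.{0} ↥(Subgroup.center G)) := s.commGroup
    refine Or.inr (Or.inr ⟨F, hF, hF', Shrink.{0} ↥(Subgroup.center G), inferInstance,
      Finite.of_equiv _ s.symm, hchar, ?_, ⟨e.trans ((MulEquiv.refl _).prodCongr s.mulEquiv.symm)⟩⟩)
    rw [Nat.card_congr s]
    exact H65.AbInv.odd_center H

end Cfsg.Agent.S2202
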