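import Cfsg.Statements.S3058
import Cfsg.Agent.H62.StronglyEmbedded
import Cfsg.Agent.Coprime.Generation

set_option autoImplicit false
open Cfsg

namespace Cfsg.Agent.S3058

/-- Let p be a prime and G a finite group whose Sylow p-subgroups are not chain-connected through nontrivial intersections (so G has a strongly p-embedded subgroup). If N and M are normal subgroups of G whose orders are both divisible by p, then the order of N ∩ M is divisible by p. Consequently, among the normal subgroups of G whose order is divisible by p there is a smallest one (the intersection of all of them). -/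
theorem result {G : Type*} [Group G] [Finite G]
    (p : ℕ) [Fact p.Prime] (hG : ¬ Cfsg.IsSylowChainConnected p G)
    (N M : Subgroup G) [N.Normal] [M.Normal] (hN : p ∣ Nat.card N) (hM : p ∣ Nat.card M) :
    p ∣ Nat.card ↥(N ⊓ M) := by
  have hp := (Fact.out : p.Prime)
  by_contra hK
  obtain ⟨H, hH, hpH, hse⟩ := H62.exists_SE_of_not_connected hG
  obtain ⟨S, hS⟩ := H62.SE.exists_sylow_le hse hpH
  obtain ⟨x, hxS, hxp⟩ := H62.exists_orderOf_eq_prime (S.isPGroup'.to_le inf_le_left) (H62.inf_normal_ne_bot S N hN)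
  obtain ⟨y, hyS, hyp⟩ := H62.exists_orderOf_eq_prime (S.isPGroup'.to_le inf_le_left) (H62.inf_normal_ne_bot S M hM)
  set K := N ⊓ M with hK_def
  have hNn : N.Normal := inferInstance
  have hMn : M.Normal := inferInstance
  -- `p`-elements of `K` are trivial
  have hKp : ∀ z ∈ K, z ∈ (S : Subgroup G) → z = 1 := by
    intro z hz hzS
    by_contra hz1
    apply hK
    obtain ⟨j, hj⟩ := S.isPGroup' ⟨z, hzS⟩
    obtain ⟨i, -, hi⟩ := (Nat.dvd_prime_pow hp).mp (orderOf_dvd_of_pow_eq_one (congrArg Subtype.val hj : z ^ (p ^ j) = 1))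
    rcases Nat.eq_zero_or_pos i with rfl | hi0
    · exact absurd (orderOf_eq_one_iff.mp (by simpa using hi)) hz1
    · exact (hi ▸ dvd_pow_self p hi0.ne').trans (Subgroup.orderOf_dvd_natCard _ hz)
  have hcommK : ∀ n ∈ N, ∀ m ∈ M, n * m * n⁻¹ * m⁻¹ ∈ K := fun n hn m hm =>
    ⟨by simpa [mul_assoc] using N.mul_mem hn (hNn.conj_mem _ (N.inv_mem hn) m),
      M.mul_mem (hMn.conj_mem _ hm n) (M.inv_mem hm)⟩
  have hxy : Commute x y := by
    have h1 := hKp _ (hcommK x hxS.2 y hyS.2)
      ((S : Subgroup G).mul_mem ((S : Subgroup G).mul_mem ((S : Subgroup G).mul_mem hxS.1 hyS.1)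
        ((S : Subgroup G).inv_mem hxS.1)) ((S : Subgroup G).inv_mem hyS.1))
    rw [mul_inv_eq_one, mul_inv_eq_iff_eq_mul] at h1
    exact h1
  set A := Subgroup.zpowers x ⊔ Subgroup.zpowers y with hA
  have hAS : A ≤ (S : Subgroup G) := sup_le (Subgroup.zpowers_le.mpr hxS.1) (Subgroup.zpowers_le.mpr hyS.1)
  have hcom : IsMulCommutative A := by
    have h1 : A ≤ Subgroup.centralizer (A : Set G) := by
      have hx : ∀ a ∈ A, Commute x a := fun a ha => by
        have : A ≤ Subgroup.centralizer ({x} : Set G) := sup_le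
          (Subgroup.zpowers_le.mpr (Subgroup.mem_centralizer_singleton_iff.mpr rfl))
          (Subgroup.zpowers_le.mpr (Subgroup.mem_centralizer_singleton_iff.mpr hxy.eq.symm))
        exact (Subgroup.mem_centralizer_singleton_iff.mp (this ha)).symm
      have hy : ∀ a ∈ A, Commute y a := fun a ha => by
        have : A ≤ Subgroup.centralizer ({y} : Set G) := sup_le
          (Subgroup.zpowers_le.mpr (Subgroup.mem_centralizer_singleton_iff.mpr hxy.eq))
          (Subgroup.zpowers_le.mpr (Subgroup.mem_centralizer_singleton_iff.mpr rfl))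
        exact (Subgroup.mem_centralizer_singleton_iff.mp (this ha)).symm
      refine sup_le (Subgroup.zpowers_le.mpr ?_) (Subgroup.zpowers_le.mpr ?_)
      · exact Subgroup.mem_centralizer_iff.mpr fun a ha => (hx a ha).eq.symm
      · exact Subgroup.mem_centralizer_iff.mpr fun a ha => (hy a ha).eq.symm
    exact ⟨⟨fun a b => Subtype.ext (Subgroup.mem_centralizer_iff.mp (h1 b.2) a a.2)⟩⟩
  have hKcop : p.Coprime (Nat.card K) := hp.coprime_iff_not_dvd.mpr hK
  have hAcop : (Nat.card A).Coprime (Nat.card K) := by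
    obtain ⟨n, hn⟩ := IsPGroup.iff_card.mp (S.isPGroup'.to_le hAS)
    rw [hn]
    exact hKcop.pow_left n
  have hKH : K ≤ H := by
    refine Coprime.le_of_centralizer_le (p := p) (A := A) (x := x) (y := y)
      (Subgroup.mem_sup_left (Subgroup.mem_zpowers x)) (Subgroup.mem_sup_right (Subgroup.mem_zpowers y))
      K H (by rw [Subgroup.normalizer_eq_top_iff.mpr (inferInstance : K.Normal)]; exact le_top) hAcop hKcop
      (by rw [← hxp, pow_orderOf_eq_one]; exact one_mem _) (by rw [← hyp, pow_orderOf_eq_one]; exact one_mem _)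
      (inf_le_right.trans (H62.SE.centralizer_le hse (hS hyS.1) hyp)) ?_
    intro i hi
    refine inf_le_right.trans (H62.SE.centralizer_le hse
      (H.mul_mem (hS hxS.1) (H.pow_mem (hS hyS.1) i)) (orderOf_eq_prime ?_ ?_))
    · rw [(hxy.pow_right i).mul_pow, ← pow_mul, mul_comm i p, pow_mul, ← hyp, pow_orderOf_eq_one, one_pow, mul_one,
        hyp, ← hxp, pow_orderOf_eq_one]
    · intro e
      have hxM : x ∈ M := by
        rw [eq_inv_of_mul_eq_one_left e]
        exact M.inv_mem (M.pow_mem hyS.2 i)
      have := hKp x ⟨hxS.2, hxM⟩ hxS.1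
      rw [this, orderOf_one] at hxp
      exact hp.ne_one hxp.symm
  have hNH : N ≤ H := by
    intro n hn
    refine hse.mem_of_conj (hS hyS.1) hyp ?_
    have := H.mul_mem (hKH (hcommK n hn y hyS.2)) (hS hyS.1)
    rwa [inv_mul_cancel_right] at this
  apply hH
  rw [eq_top_iff, ← H62.SE.sup_pResidual_eq_top hse hpH N hN]
  exact sup_le le_rfl ((Subgroup.closure_le _).mpr fun g hg => hNH hg.1)

end Cfsg.Agent.S3058
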