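import Cfsg.Statements.S1443
import Cfsg.Agent.H42.FixedLift

set_option autoImplicit false
open Cfsg

namespace Cfsg.Agent.S1443

/-- Let G be a finite group, p an odd prime, H a p-subgroup, E an elementary abelian subgroup of H, and A a subgroup of order coprime to p normalizing H. If A centralizes every element of order p in H ∩ C_G(E), then A centralizes H. -/
theorem result {G : Type*} [Group G] [Finite G] (p : ℕ) [Fact p.Prime] (hp : p ≠ 2) (H E A : Subgroup G) (hH : IsPGroup p H) (hE : E ≤ H) (hEe : Cfsg.IsElementaryAbelian p E)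
    (hA : (A ≤ Subgroup.normalizer (H : Set G))) (hcop : (Nat.card A).Coprime p)
    (hfix : ∀ x ∈ (H ⊓ Subgroup.centralizer (E : Set G)), orderOf x = p → A ≤ Subgroup.centralizer ({x} : Set G)) :
    A ≤ Subgroup.centralizer (H : Set G) := by
  -- `A` centralizes `E`
  have hEp : IsPGroup p E := hH.to_le hE
  have hAE : A ≤ Subgroup.centralizer (E : Set G) := by
    intro a ha e he
    by_cases he1 : e = 1
    · simp [he1]
    haveI := hEe.1
    have hmem : e ∈ H ⊓ Subgroup.centralizer (E : Set G) :=
      ⟨hE he, fun z hz => congrArg Subtype.val (mul_comm' (⟨z, hz⟩ : E) ⟨e, he⟩)⟩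
    exact (Subgroup.mem_centralizer_singleton_iff.mp
      (hfix e hmem (orderOf_eq_prime (hEe.2 e he) he1) ha)).symm
  refine Cfsg.Agent.H42.centralizes_of_omega_fixed_le hp hEp hcop
    ((Subgroup.le_centralizer_iff.mp hAE).trans (Subgroup.centralizer_le_normalizer _)) H hH
    (hE.trans Subgroup.le_normalizer) hA ?_
  intro x hx hxp a ha
  exact Subgroup.mem_centralizer_singleton_iff.mp (hfix x hx hxp ha)

end Cfsg.Agent.S1443
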