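import Cfsg.Statements.S5601
import Cfsg.Agent.H94.M24.Counts

set_option autoImplicit false
open scoped Pointwise
open Cfsg

namespace Cfsg.Agent.S5601

open Cfsg.Agent.Golay Cfsg.Agent.H94.M24

open scoped Pointwise

lemma exists_gen {X : Subgroup ↥Cfsg.M24} (hX : Nat.card X = 3) :
    ∃ σ : ↥Cfsg.M24, orderOf (σ : Equiv.Perm GolayPt) = 3 ∧ X = Subgroup.zpowers σ ∧
      {p : GolayPt | ∀ x ∈ X, ((x : ↥Cfsg.M24) : Equiv.Perm GolayPt) p = p}.ncard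
        = nfix (σ : Equiv.Perm GolayPt) := by
  haveI : Fact (Nat.Prime 3) := ⟨by norm_num⟩
  haveI : Finite X := Nat.finite_of_card_ne_zero (by omega)
  obtain ⟨g, hg⟩ := exists_prime_orderOf_dvd_card' 3 (G := X) (hX ▸ dvd_rfl)
  have h3 : orderOf (g : ↥Cfsg.M24) = 3 := by rwa [Subgroup.orderOf_coe]
  have hgen : X = Subgroup.zpowers (g : ↥Cfsg.M24) :=
    (Subgroup.eq_of_le_of_card_ge (Subgroup.zpowers_le.2 g.2)
      (by rw [Nat.card_zpowers, h3, hX])).symm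
  refine ⟨g, by rwa [Subgroup.orderOf_coe], hgen, ?_⟩
  rw [nfix, ← Set.ncard_coe_finset]
  congr 1
  ext p
  simp only [Set.mem_ofPred_eq, Finset.coe_filter, Finset.mem_univ, true_and]
  refine ⟨fun h => h _ g.2, fun h x hx => ?_⟩
  rw [hgen, Subgroup.mem_zpowers_iff] at hx
  obtain ⟨n, rfl⟩ := hx
  rw [Subgroup.coe_zpow]
  exact Equiv.Perm.zpow_apply_eq_self_of_apply_eq_self h n

lemma exists_sub {r : ℕ} (hv : validT r = true) (hr : mkPerm r ∈ Cfsg.M24) (n : ℕ)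
    (hn : nfix (mkPerm r) = n)
    (h3 : (tblEq (powT 3 r) idTblVal && !(tblEq r idTblVal)) = true) :
    ∃ X : Subgroup ↥Cfsg.M24, Nat.card X = 3 ∧
      {p : GolayPt | ∀ x ∈ X, ((x : ↥Cfsg.M24) : Equiv.Perm GolayPt) p = p}.ncard = n := by
  rw [Bool.and_eq_true] at h3
  have ho : orderOf (mkPerm r) = 3 := by
    haveI : Fact (Nat.Prime 3) := ⟨by norm_num⟩
    refine orderOf_eq_prime ?_ fun e => ?_
    · rw [← (powT_spec hv 3).2, (tblEq_iff (powT_spec hv 3).1 idTblVal_spec.1).1 h3.1,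
        idTblVal_spec.2]
    · rw [← idTblVal_spec.2, ← tblEq_iff hv idTblVal_spec.1] at e
      simp [e] at h3
  have hX : Nat.card (Subgroup.zpowers (⟨mkPerm r, hr⟩ : ↥Cfsg.M24)) = 3 := by
    rw [Nat.card_zpowers, ← Subgroup.orderOf_coe]; exact ho
  refine ⟨_, hX, ?_⟩
  rw [← hn, nfix, ← Set.ncard_coe_finset]
  congr 1
  ext p
  simp only [Set.mem_ofPred_eq, Finset.coe_filter, Finset.mem_univ, true_and]
  refine ⟨fun h => h _ (Subgroup.mem_zpowers (⟨mkPerm r, hr⟩ : ↥Cfsg.M24)), fun h x hx => ?_⟩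
  rw [Subgroup.mem_zpowers_iff] at hx
  obtain ⟨k, rfl⟩ := hx
  rw [Subgroup.coe_zpow]
  exact Equiv.Perm.zpow_apply_eq_self_of_apply_eq_self h k


/-- The group of the length-24 code has exactly two conjugacy classes of subgroups of order 3: a subgroup of order 3 fixes either exactly 6 of the 24 points or none of them, both cases occur, and two subgroups of order 3 with the same number of fixed points are conjugate. -/
theorem result : (∀ X : Subgroup ↥Cfsg.M24, Nat.card X = 3 → {p : Cfsg.GolayPt | ∀ x ∈ X, ((x : ↥Cfsg.M24) : Equiv.Perm Cfsg.GolayPt) p = p}.ncard = 6 ∨ {p : Cfsg.GolayPt | ∀ x ∈ X, ((x : ↥Cfsg.M24) : Equiv.Perm Cfsg.GolayPt) p = p}.ncard = 0) ∧ (∃ X : Subgroup ↥Cfsg.M24, Nat.card X = 3 ∧ {p : Cfsg.GolayPt | ∀ x ∈ X, ((x : ↥Cfsg.M24) : Equiv.Perm Cfsg.GolayPt) p = p}.ncard = 6) ∧ (∃ X : Subgroup ↥Cfsg.M24, Nat.card X = 3 ∧ {p : Cfsg.GolayPt | ∀ x ∈ X, ((x : ↥Cfsg.M24) : Equiv.Perm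 Cfsg.GolayPt) p = p}.ncard = 0) ∧ ∀ X Y : Subgroup ↥Cfsg.M24, Nat.card X = 3 → Nat.card Y = 3 → {p : Cfsg.GolayPt | ∀ x ∈ X, ((x : ↥Cfsg.M24) : Equiv.Perm Cfsg.GolayPt) p = p}.ncard = {p : Cfsg.GolayPt | ∀ x ∈ Y, ((x : ↥Cfsg.M24) : Equiv.Perm Cfsg.GolayPt) p = p}.ncard → ∃ k : ↥Cfsg.M24, MulAut.conj k • X = Y := by
  refine ⟨fun X hX => ?_, ?_, ?_, fun X Y hX hY h => ?_⟩
  · obtain ⟨σ, h3, -, hfix⟩ := exists_gen hX
    rw [hfix]
    exact ((exists_rep_of_nfix (exists_tri_rep σ.2 h3)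
      (by rw [nfix_reps.2.2.1, nfix_reps.2.2.2]; norm_num)).2.2).symm.imp
      (fun h => h.trans nfix_reps.2.2.2) (fun h => h.trans nfix_reps.2.2.1)
  · exact exists_sub (validT_reps.2.2.2) mem_reps.2.2.2 6 nfix_reps.2.2.2 (by decide +kernel)
  · exact exists_sub (validT_reps.2.2.1) mem_reps.2.2.1 0 nfix_reps.2.2.1 (by decide +kernel)
  · obtain ⟨σ, h3, rfl, hfix⟩ := exists_gen hX
    obtain ⟨τ, h3', rfl, hfix'⟩ := exists_gen hY
    rw [hfix, hfix'] at h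
    have hne : nfix (mkPerm triRep0) ≠ nfix (mkPerm triRep1) := by
      rw [nfix_reps.2.2.1, nfix_reps.2.2.2]; norm_num
    obtain ⟨r, hr, c, hc, he⟩ := exists_tri_rep σ.2 h3
    obtain ⟨r', hr', d, hd, he'⟩ := exists_tri_rep τ.2 h3'
    have hrr : r = r' := by
      rw [← he, ← he', nfix_conj, nfix_conj] at h
      simp only [List.mem_cons, List.not_mem_nil, or_false] at hr hr'
      rcases hr with rfl | rfl <;> rcases hr' with rfl | rfl
      exacts [rfl, absurd h hne, absurd h.symm hne, rfl]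
    subst hrr
    refine ⟨⟨d * c⁻¹, mul_mem hd (inv_mem hc)⟩, ?_⟩
    show Subgroup.map (MulAut.conj (⟨d * c⁻¹, mul_mem hd (inv_mem hc)⟩ : ↥Cfsg.M24)).toMonoidHom
      (Subgroup.zpowers σ) = _
    rw [MonoidHom.map_zpowers]
    congr 1
    refine Subtype.ext ?_
    show d * c⁻¹ * (σ : Equiv.Perm GolayPt) * (d * c⁻¹)⁻¹ = (τ : Equiv.Perm GolayPt)
    rw [← he, ← he']
    group

end Cfsg.Agent.S5601
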