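import Cfsg.Statements.S0321
import Cfsg.Agent.H28.BNBasic

set_option autoImplicit false
open Cfsg

namespace Cfsg.Agent.S0321

/-- For `n ∈ N` not in `B`, the union `B ∪ B n B` is (the underlying set of) a subgroup exactly when `n` agrees
modulo `B ⊓ N` with one of the distinguished representatives; thus the distinguished involutions are
determined by `B` and `N`. -/
theorem result {G : Type*} [Group G] (P : Cfsg.BNPair G) {n : G}
    (hn : n ∈ P.N) (hnB : n ∉ P.B) :
    (∃ H : Subgroup G, (H : Set G) = (P.B : Set G) ∪ DoubleCoset.doubleCoset n (P.B : Set G) P.B) ↔ ∃ s ∈ P.S, s⁻¹ * n ∈ P.B := by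
  constructor
  · rintro ⟨H, hH⟩
    have hBH : P.B ≤ H := fun b hb => by
      rw [← SetLike.mem_coe, hH]; exact Or.inl hb
    have hnH : n ∈ H := by
      rw [← SetLike.mem_coe, hH]; exact Or.inr (H28.self_mem_dc P n)
    obtain ⟨L, hL, hl⟩ := H28.exists_red (P := P) hn
    have hLH := H28.mem_of_reduced hn hL hl hBH
      (fun y hy => mul_mem (mul_mem hnH (hBH hy)) (inv_mem hnH))
    match L, hL, hl, hLH with
    | [], hL, _, _ => exact absurd (by simpa using hL.2) hnB
    | s :: L, hL, hl, hLH =>
      have hs : s ∈ P.S := hL.1 s (by simp)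
      have h1 : s ∈ (H : Set G) := hLH s (by simp)
      rw [hH] at h1
      rcases h1 with h1 | h1
      · exact absurd h1 (H28.S_not_mem_B hs)
      · exact ⟨s, hs, H28.dc_inj (H28.S_mem_N hs) hn h1⟩
  · rintro ⟨s, hs, h⟩
    refine ⟨P.parabolic {s}, ?_⟩
    have hdc : DoubleCoset.doubleCoset n (P.B : Set G) P.B = H28.dc P s :=
      H28.dc_eq_of_equiv h
    rw [hdc]
    ext g
    constructor
    · intro hg
      obtain ⟨m, hm, hgm⟩ := H28.mem_parabolic (J := {s}) (by simpa using hs) hg
      obtain ⟨L, hL, hr, hl⟩ := H28.exists_red_of_mem (J := {s}) (by simpa using hs) hm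
      match L, hL, hr, hl with
      | [], _, hr, _ =>
        have hmB : m ∈ P.B := by simpa using hr.2
        exact Or.inl (by rwa [H28.dc_of_mem_B hmB, H28.mem_dc_one] at hgm)
      | [x], hL, hr, _ =>
        obtain rfl : x = s := hL x (by simp)
        have e : H28.dc P m = H28.dc P x := H28.dc_eq_of_equiv (by simpa using hr.2)
        exact Or.inr (e ▸ hgm)
      | x :: y :: L, hL, hr, hl =>
        exfalso
        obtain rfl : x = s := hL x (by simp)
        obtain rfl : y = x := hL y (by simp)
        have hp : L.prod ∈ P.N := H28.prod_mem_N fun z hz => hr.1 z (by simp [hz])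
        have hrep : H28.Rep P L L.prod := ⟨fun z hz => hr.1 z (by simp [hz]), by simp⟩
        have h1 := H28.len_le hrep
        have h2 : H28.Rep P [] ((y * y) * 1) := ⟨by simp, by simpa using P.sq_mem y hs⟩
        have h3 : (L.prod)⁻¹ * m ∈ P.B := by
          have e1 : L.prod⁻¹ * m = (L.prod⁻¹ * (y * y) * L.prod) * ((y :: y :: L).prod⁻¹ * m) := by
            simp [List.prod_cons]; group
          rw [e1]
          exact mul_mem (Subgroup.mem_inf.1 (H28.conj_T' hp (H28.sq_mem_T hs))).1 hr.2
        have h4 := H28.len_le (hrep.congr h3)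
        simp only [List.length_cons] at hl
        omega
    · rintro (hg | hg)
      · exact Subgroup.mem_sup_left hg
      · obtain ⟨a, ha, b, hb, rfl⟩ := (H28.mem_dc P).1 hg
        exact mul_mem (mul_mem (Subgroup.mem_sup_left ha)
          (Subgroup.mem_sup_right (Subgroup.subset_closure rfl))) (Subgroup.mem_sup_left hb)

end Cfsg.Agent.S0321
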