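import Cfsg.Statements.S0322
import Cfsg.Agent.S0321

set_option autoImplicit false
open Cfsg

namespace Cfsg.Agent.S0322

/-- A group with a (B,N)-pair of rank one acts doubly transitively on the left cosets of `B`. -/
theorem result {G : Type*} [Group G] (P : Cfsg.BNPair G) (h : P.rank = 1) : MulAction.IsMultiplyPretransitive G (G ⧸ P.B) 2 := by
  obtain ⟨s, hS⟩ : ∃ s, P.S = {s} := by
    obtain ⟨h1, h2⟩ := Nat.card_eq_one_iff_unique.1 h
    obtain ⟨s, hs⟩ := h2
    refine ⟨s, Set.eq_singleton_iff_unique_mem.2 ⟨hs, fun x hx => ?_⟩⟩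
    exact congrArg Subtype.val (h1.elim ⟨x, hx⟩ ⟨s, hs⟩)
  have hs : s ∈ P.S := by simp [hS]
  obtain ⟨H, hH⟩ : ∃ H : Subgroup G,
      (H : Set G) = (P.B : Set G) ∪ DoubleCoset.doubleCoset s (P.B : Set G) P.B := by
    exact (S0321.result P (H28.S_mem_N hs) (H28.S_not_mem_B hs)).2 ⟨s, hs, by simp⟩
  have htop : H = ⊤ := by
    rw [eq_top_iff, ← H28.parabolic_S (P := P), hS]
    refine sup_le ?_ ((Subgroup.closure_le _).2 ?_)
    · intro b hb
      rw [← SetLike.mem_coe, hH]; exact Or.inl hb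
    · rintro x rfl
      rw [hH]; exact Or.inr (H28.self_mem_dc P x)
  -- every ordered pair of distinct cosets is the image of `(B, s B)`
  have key : ∀ a b : G ⧸ P.B, a ≠ b →
      ∃ g : G, g • ((1 : G) : G ⧸ P.B) = a ∧ g • (s : G ⧸ P.B) = b := by
    intro a b hab
    obtain ⟨x, rfl⟩ := QuotientGroup.mk_surjective a
    obtain ⟨y, rfl⟩ := QuotientGroup.mk_surjective b
    have h1 : x⁻¹ * y ∈ (H : Set G) := by rw [htop]; trivial
    rw [hH] at h1
    rcases h1 with h1 | h1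
    · exact absurd (QuotientGroup.eq.2 h1) hab
    · obtain ⟨b1, hb1, b2, hb2, he⟩ := DoubleCoset.mem_doubleCoset.1 h1
      refine ⟨x * b1, ?_, ?_⟩
      · show ((x * b1 * 1 : G) : G ⧸ P.B) = _
        rw [QuotientGroup.eq]
        simpa using hb1
      · show ((x * b1 * s : G) : G ⧸ P.B) = _
        rw [QuotientGroup.eq]
        have e : (x * b1 * s)⁻¹ * y = (b1 * s)⁻¹ * (x⁻¹ * y) := by group
        rw [e, he]
        simpa [mul_assoc] using hb2
  rw [MulAction.is_two_pretransitive_iff]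
  intro a b c d hab hcd
  obtain ⟨g, hga, hgb⟩ := key a b hab
  obtain ⟨g', hgc, hgd⟩ := key c d hcd
  exact ⟨g' * g⁻¹, by rw [← hga, mul_smul, inv_smul_smul, hgc],
    by rw [← hgb, mul_smul, inv_smul_smul, hgd]⟩

end Cfsg.Agent.S0322
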