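import Cfsg.Statements.S0338
import Cfsg.Agent.S0339
import Cfsg.Agent.H33.Zassenhaus

set_option autoImplicit false
open Cfsg

namespace Cfsg.Agent.S0338

theorem pow_fix {G Ω : Type*} [Group G] [MulAction G Ω] {g : G} {a : Ω} (h : g • a = a) (n : ℕ) :
    (g ^ n) • a = a :=
  pow_mem (show g ∈ MulAction.stabilizer G a from h) n


/-- A Zassenhaus group of odd degree is a simple group. -/
theorem result {G Ω : Type*} [Group G] [MulAction G Ω] [Fintype Ω]
    (hZ : Cfsg.IsZassenhausGroup G Ω) (hodd : Odd (Fintype.card Ω)) : IsSimpleGroup G := by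
  classical
  obtain ⟨hf, h2, h3, hfix, hreg⟩ := id hZ
  haveI := hf
  haveI : Finite G := Finite.of_injective (MulAction.toPerm (α := G) (β := Ω))
    MulAction.toPerm_injective
  haveI : Fact (Nat.Prime 2) := ⟨Nat.prime_two⟩
  obtain ⟨g0, hg0, a, b, hab, hg0a, hg0b⟩ := hfix
  haveI : Nontrivial G := ⟨g0, 1, hg0⟩
  have parity : ∀ t : G, orderOf t = 2 →
      Odd (Nat.card (MulAction.fixedBy Ω t)) := by
    intro t ht
    have hp : IsPGroup 2 (Subgroup.zpowers t) :=
      IsPGroup.of_card (n := 1) (by rw [Nat.card_zpowers, ht, pow_one])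
    have h := hp.card_modEq_card_fixedPoints Ω
    rw [Nat.card_eq_fintype_card] at h
    have e : MulAction.fixedPoints (Subgroup.zpowers t) Ω = MulAction.fixedBy Ω t := by
      ext w
      refine ⟨fun hw => hw ⟨t, Subgroup.mem_zpowers t⟩, fun hw k => ?_⟩
      exact (Subgroup.zpowers_le.2 (show t ∈ MulAction.stabilizer G w from hw)) k.2
    rw [e] at h
    rw [Nat.odd_iff]
    rw [Nat.odd_iff] at hodd
    unfold Nat.ModEq at h
    omega
  -- no involution fixes two points
  have noInv : ∀ t : G, orderOf t = 2 → ∀ x y : Ω, x ≠ y → t • x = x → t • y = y → False := by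
    intro t ht x y hxy hx hy
    have ht1 : t ≠ 1 := fun h => by simp [h] at ht
    have h := parity t ht
    rw [H33.zas_fixed_of_pair hZ ht1 hxy hx hy, Nat.card_coe_set_eq, Set.ncard_pair hxy] at h
    exact absurd h (by decide)
  refine ⟨fun N hNn => ?_⟩
  by_cases hN : N = ⊥
  · exact Or.inl hN
  right
  have hNZ := S0339.result hZ N hN
  have hN2 : ∀ {p q r s : Ω}, p ≠ q → r ≠ s → ∃ g : N, g • p = r ∧ g • q = s :=
    fun h h' => MulAction.is_two_pretransitive_iff.1 hNZ.2.1 h h'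
  obtain ⟨⟨n0, hn0⟩, hn0a, hn0b⟩ := hN2 hab hab.symm
  replace hn0a : n0 • a = b := hn0a
  replace hn0b : n0 • b = a := hn0b
  -- an involution of `N` interchanging `a` and `b`
  have hsqa : (n0 ^ 2) • a = a := by rw [pow_two, mul_smul, hn0a, hn0b]
  have hsqb : (n0 ^ 2) • b = b := by rw [pow_two, mul_smul, hn0b, hn0a]
  have hodd2 : Odd (orderOf (n0 ^ 2)) := by
    rw [← Nat.not_even_iff_odd]
    intro he
    obtain ⟨r, hr⟩ := even_iff_two_dvd.1 he
    have ho : orderOf ((n0 ^ 2) ^ r) = 2 := by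
      have hpos : orderOf (n0 ^ 2) ≠ 0 := (orderOf_pos (n0 ^ 2)).ne'
      rw [orderOf_pow_of_dvd (by omega) (Dvd.intro_left 2 hr.symm), hr,
        Nat.mul_div_cancel _ (by omega)]
    exact noInv _ ho a b hab (pow_fix hsqa r) (pow_fix hsqb r)
  obtain ⟨r, hr⟩ := hodd2
  set t := n0 ^ orderOf (n0 ^ 2) with ht
  have htN : t ∈ N := pow_mem hn0 _
  have hta : t • a = b := by
    rw [ht, hr, pow_succ', pow_mul, mul_smul, pow_fix hsqa r, hn0a]
  have htb : t • b = a := by
    rw [ht, hr, pow_succ', pow_mul, mul_smul, pow_fix hsqb r, hn0b]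
  have htt : t ^ 2 = 1 := by
    rw [ht, ← pow_mul, Nat.mul_comm, pow_mul, pow_orderOf_eq_one]
  have ht2 : orderOf t = 2 := by
    refine orderOf_eq_prime htt ?_
    intro h
    rw [h, one_smul] at hta
    exact hab hta
  -- its unique fixed point
  obtain ⟨c, hc⟩ : (MulAction.fixedBy Ω t).Nonempty := by
    rw [← Set.ncard_pos (Set.toFinite _), ← Nat.card_coe_set_eq]
    exact (parity t ht2).pos
  have hca : c ≠ a := fun h => hab ((h ▸ hc : t • a = a).symm.trans hta)
  have hcb : c ≠ b := fun h => hab (htb.symm.trans (h ▸ hc : t • b = b))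
  set H := MulAction.stabilizer G a ⊓ MulAction.stabilizer G b with hH
  have htinv : t⁻¹ = t := inv_eq_of_mul_eq_one_right (by rw [← pow_two, htt])
  have hconj : ∀ h ∈ H, t * h * t⁻¹ ∈ H := by
    intro h hh
    obtain ⟨h1, h2'⟩ := Subgroup.mem_inf.1 hh
    refine Subgroup.mem_inf.2 ⟨?_, ?_⟩
    · show (t * h * t⁻¹) • a = a
      rw [htinv, mul_smul, mul_smul, hta, (h2' : h • b = b), htb]
    · show (t * h * t⁻¹) • b = b
      rw [htinv, mul_smul, mul_smul, htb, (h1 : h • a = a), hta]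
  have hfpf : ∀ h ∈ H, t * h = h * t → h = 1 := by
    intro h hh hcom
    obtain ⟨h1, h2'⟩ := Subgroup.mem_inf.1 hh
    have hfc : t • (h • c) = h • c := by rw [← mul_smul, hcom, mul_smul, hc]
    have : h • c = c := by
      by_contra hne
      exact noInv t ht2 _ _ hne hfc hc
    exact h3 h a b c hab hcb.symm hca.symm h1 h2' this
  let φ : H → H := fun h => h⁻¹ * ⟨t * h * t⁻¹, hconj h h.2⟩
  have hφ : Function.Injective φ := by
    intro h k hhk
    have h1 : (h : G)⁻¹ * (t * h * t⁻¹) = (k : G)⁻¹ * (t * k * t⁻¹) := congrArg Subtype.val hhk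
    have hcom : t * ((k : G) * (h : G)⁻¹) = ((k : G) * (h : G)⁻¹) * t := by
      have e : ((k : G) * (h : G)⁻¹) * t =
          (k : G) * ((h : G)⁻¹ * (t * h * t⁻¹)) * (t * h * t⁻¹)⁻¹ * t := by group
      rw [e, h1]; group
    exact Subtype.ext (mul_inv_eq_one.1 (hfpf _ (mul_mem k.2 (inv_mem h.2)) hcom)).symm
  have hHN : H ≤ N := by
    intro x hx
    obtain ⟨h, hh⟩ := (Finite.injective_iff_surjective.1 hφ) ⟨x, hx⟩
    have e : x = ((h : G)⁻¹ * t * ((h : G)⁻¹)⁻¹) * t⁻¹ := by
      have : x = (h : G)⁻¹ * (t * h * t⁻¹) := (congrArg Subtype.val hh).symm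
      rw [this]; group
    rw [e]
    exact mul_mem (hNn.conj_mem t htN _) (inv_mem htN)
  rw [eq_top_iff]
  intro g _
  obtain ⟨⟨n, hn⟩, hna, hnb⟩ :=
    hN2 hab (r := g • a) (s := g • b) (fun h => hab (MulAction.injective g h))
  replace hna : n • a = g • a := hna
  replace hnb : n • b = g • b := hnb
  have hmem : n⁻¹ * g ∈ H := Subgroup.mem_inf.2
    ⟨show (n⁻¹ * g) • a = a by rw [mul_smul, ← hna, inv_smul_smul],
      show (n⁻¹ * g) • b = b by rw [mul_smul, ← hnb, inv_smul_smul]⟩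
  have : g = n * (n⁻¹ * g) := by group
  rw [this]
  exact mul_mem hn (hHN hmem)

end Cfsg.Agent.S0338
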