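import Cfsg.Statements.S3370
import Cfsg.Agent.H76.FPFSylow

set_option autoImplicit false
open Cfsg

namespace Cfsg.Agent.S3370

/-- A power of a prime one below a power of two is the prime itself. -/
theorem exp_one {p k n : ℕ} (hp : p.Prime) (h : p ^ k + 1 = 2 ^ n) (hk : 1 ≤ k) : p ^ k = p := by
  have hodd : p ≠ 2 := by
    rintro rfl
    have hn : 1 ≤ n := by
      rcases Nat.eq_zero_or_pos n with rfl | h0
      · have := Nat.one_le_two_pow (n := k); simp at h
      · exact h0
    have e1 : (2 : ℕ) ∣ 2 ^ k := dvd_pow_self 2 (by omega)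
    have e2 : (2 : ℕ) ∣ 2 ^ n := dvd_pow_self 2 (by omega)
    omega
  rcases Nat.even_or_odd k with ⟨j, rfl⟩ | ⟨j, rfl⟩
  · exfalso
    obtain ⟨u, hu⟩ := (hp.odd_of_ne_two hodd).pow (n := j)
    rw [pow_add, hu] at h
    have h2 : 2 ≤ p ^ (j + j) := le_trans hp.two_le (Nat.le_self_pow (by omega) p)
    rw [pow_add, hu] at h2
    rcases n with _ | _ | n
    · simp at h
    · rw [zero_add, pow_one] at h; omega
    · rw [pow_succ, pow_succ] at h; ring_nf at h; omega
  · have hd : (p + 1) ∣ 2 ^ n := by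
      rw [← h]
      have := Odd.nat_add_dvd_pow_add_pow p 1 (odd_two_mul_add_one j)
      simpa using this
    obtain ⟨a, ha, hpa⟩ := (Nat.dvd_prime_pow Nat.prime_two).mp hd
    have ha1 : 1 ≤ a := by
      rcases Nat.eq_zero_or_pos a with rfl | h0
      · simp at hpa; exact absurd hpa hp.ne_zero
      · exact h0
    have hsq : (p : ZMod (2 ^ (a + 1))) ^ 2 = 1 := by
      have hz : ((2 : ℕ) : ZMod (2 ^ (a + 1))) ^ (a + 1) = 0 := by rw [← Nat.cast_pow, ZMod.natCast_self]
      have hp' : (p : ZMod (2 ^ (a + 1))) = 2 ^ a - 1 := by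
        rw [eq_sub_iff_add_eq]; exact_mod_cast congrArg (Nat.cast (R := ZMod (2 ^ (a + 1)))) hpa
      obtain ⟨b, rfl⟩ : ∃ b, a = b + 1 := ⟨a - 1, by omega⟩
      push_cast at hz
      rw [hp', show ((2 : ZMod (2 ^ (b + 1 + 1))) ^ (b + 1) - 1) ^ 2 = 2 ^ (b + 1 + 1) * 2 ^ b - 2 ^ (b + 1 + 1) + 1 by ring, hz]
      ring
    have hna : n ≤ a := by
      by_contra hlt
      have hz : ((2 ^ n : ℕ) : ZMod (2 ^ (a + 1))) = 0 :=
        (ZMod.natCast_eq_zero_iff _ _).mpr (pow_dvd_pow 2 (by omega))
      rw [← h] at hz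
      push_cast at hz
      rw [pow_succ (p : ZMod (2 ^ (a + 1))) (2 * j), pow_mul, hsq, one_pow, one_mul] at hz
      have hz' : ((p + 1 : ℕ) : ZMod (2 ^ (a + 1))) = 0 := by push_cast; exact hz
      rw [hpa, ZMod.natCast_eq_zero_iff] at hz'
      have := Nat.le_of_dvd (Nat.two_pow_pos a) hz'
      rw [pow_succ] at this
      have := Nat.two_pow_pos a
      omega
    have h1 : 2 ^ n ≤ p + 1 := hpa ▸ Nat.pow_le_pow_right (by norm_num) hna
    have h2 := Nat.le_self_pow (show 2 * j + 1 ≠ 0 by omega) p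
    omega

/-- The odd case of the Catalan equation. -/
theorem catalan_odd {q n k : ℕ} (hq : 3 ≤ q) (hqo : Odd q) (hn : 1 ≤ n) (h : q ^ n = 2 ^ k + 1) :
    n = 1 ∨ (q = 3 ∧ n = 2) := by
  rcases Nat.even_or_odd n with ⟨j, rfl⟩ | hodd
  · right
    obtain ⟨u, hu⟩ : ∃ u, q ^ j = u + 2 := ⟨q ^ j - 2, by
      have := Nat.le_self_pow (show j ≠ 0 by omega) q
      omega⟩
    have hprod : (u + 1) * (u + 3) = 2 ^ k := by
      rw [pow_add, hu] at h
      linarith [show (u + 2) * (u + 2) = (u + 1) * (u + 3) + 1 by ring]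
    obtain ⟨a, -, ha⟩ := (Nat.dvd_prime_pow Nat.prime_two).mp (hprod ▸ dvd_mul_right (u + 1) (u + 3))
    obtain ⟨b, -, hb⟩ := (Nat.dvd_prime_pow Nat.prime_two).mp (hprod ▸ dvd_mul_left (u + 3) (u + 1))
    have hu1 : u = 1 := by
      rcases a with _ | _ | a
      · rw [pow_zero] at ha
        rcases b with _ | _ | b <;> simp only [pow_succ, pow_zero] at hb <;> omega
      · rw [zero_add, pow_one] at ha; omega
      · rw [pow_succ, pow_succ] at ha
        rcases b with _ | _ | b <;> simp only [pow_succ, pow_zero] at hb <;> omega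
    subst hu1
    rcases j with _ | _ | j
    · omega
    · simp at hu; omega
    · exfalso
      have h9 : 3 * 3 ≤ q ^ (j + 1 + 1) := by
        calc 3 * 3 ≤ q * q := Nat.mul_le_mul hq hq
          _ = q ^ 2 := (pow_two q).symm
          _ ≤ _ := Nat.pow_le_pow_right (by omega) (by omega)
      omega
  · left
    have hsum : (∑ i ∈ Finset.range n, q ^ i) * (q - 1) = 2 ^ k := by
      have := geom_sum_mul_add (q - 1) n
      rw [show q - 1 + 1 = q by omega, h] at this
      omega
    obtain ⟨a, -, ha⟩ := (Nat.dvd_prime_pow Nat.prime_two).mp (hsum ▸ dvd_mul_right _ _)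
    have hS : Odd (∑ i ∈ Finset.range n, q ^ i) := by
      rw [Finset.odd_sum_iff_odd_card_odd, Finset.filter_true_of_mem (fun i _ => hqo.pow), Finset.card_range]
      exact hodd
    rcases a with _ | a
    · by_contra hn1
      have h2 : ({0, 1} : Finset ℕ) ⊆ Finset.range n := by
        intro i hi; simp at hi; simp; omega
      have := Finset.sum_le_sum_of_subset (f := fun i => q ^ i) h2
      simp [ha] at this
      omega
    · rw [ha, pow_succ] at hS
      exact absurd hS (by simp [Nat.odd_iff])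

/-- The generator of order eight. -/
def x₀ : Matrix (Fin 2) (Fin 2) (ZMod 3) := !![1, 1; 1, 0]

/-- The involution. -/
def y₀ : Matrix (Fin 2) (Fin 2) (ZMod 3) := !![1, 0; 2, 2]

theorem x₀_det : IsUnit x₀.det := by decide +kernel

theorem y₀_det : IsUnit y₀.det := by decide +kernel

/-- The generator of order eight as a unit. -/
noncomputable def gx : GL (Fin 2) (ZMod 3) := Matrix.GeneralLinearGroup.mkOfDetNeZero x₀ (by decide +kernel)

/-- The involution as a unit. -/
noncomputable def gy : GL (Fin 2) (ZMod 3) := Matrix.GeneralLinearGroup.mkOfDetNeZero y₀ (by decide +kernel)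

theorem val_gx : ((gx : GL (Fin 2) (ZMod 3)) : Matrix (Fin 2) (Fin 2) (ZMod 3)) = x₀ := rfl

theorem val_gy : ((gy : GL (Fin 2) (ZMod 3)) : Matrix (Fin 2) (Fin 2) (ZMod 3)) = y₀ := rfl

theorem pow8 : ∀ a b c d : ZMod 3, a * d - b * c ≠ 0 →
    (!![a, b; c, d] * x₀ = x₀ * !![a, b; c, d] ∨ !![a, b; c, d] * x₀ = x₀ ^ 3 * !![a, b; c, d]) →
    !![a, b; c, d] ^ 8 = 1 := by decide +kernel

theorem gx_order : orderOf gx = 2 ^ 3 := by
  refine orderOf_eq_prime_pow (hp := ⟨Nat.prime_two⟩) ?_ ?_
  · intro h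
    have := congrArg Units.val h
    rw [Units.val_pow_eq_pow_val, val_gx] at this
    revert this
    decide +kernel
  · apply Units.ext
    rw [Units.val_pow_eq_pow_val, val_gx]
    decide +kernel

theorem gy_order : orderOf gy = 2 := by
  refine orderOf_eq_prime ?_ ?_
  · apply Units.ext
    rw [Units.val_pow_eq_pow_val, val_gy]
    decide +kernel
  · intro h
    have := congrArg Units.val h
    rw [val_gy] at this
    revert this
    decide +kernel

theorem gy_conj : gy * gx * gy⁻¹ = gx ^ 3 := by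
  rw [mul_inv_eq_iff_eq_mul]
  apply Units.ext
  rw [Units.val_mul, Units.val_mul, Units.val_pow_eq_pow_val, val_gx, val_gy]
  decide +kernel

/-- The subgroup of semilinear maps of the field of nine elements. -/
noncomputable def semi : Subgroup (GL (Fin 2) (ZMod 3)) where
  carrier := {g | g * gx * g⁻¹ = gx ∨ g * gx * g⁻¹ = gx ^ 3}
  one_mem' := Or.inl (by simp)
  mul_mem' {a b} ha hb := by
    have h9 : (gx ^ 3) ^ 3 = gx := by
      have : gx ^ 8 = 1 := by rw [show (8 : ℕ) = 2 ^ 3 from rfl, ← gx_order]; exact pow_orderOf_eq_one gx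
      rw [← pow_mul, show 3 * 3 = 8 + 1 from rfl, pow_succ, this, one_mul]
    show a * b * gx * (a * b)⁻¹ = gx ∨ a * b * gx * (a * b)⁻¹ = gx ^ 3
    rw [show a * b * gx * (a * b)⁻¹ = a * (b * gx * b⁻¹) * a⁻¹ by group]
    rcases hb with e | e <;> rw [e]
    · exact ha
    · rw [← conj_pow]
      rcases ha with e' | e' <;> rw [e']
      · exact Or.inr rfl
      · exact Or.inl h9
  inv_mem' {a} ha := by
    have h9 : (gx ^ 3) ^ 3 = gx := by
      have : gx ^ 8 = 1 := by rw [show (8 : ℕ) = 2 ^ 3 from rfl, ← gx_order]; exact pow_orderOf_eq_one gx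
      rw [← pow_mul, show 3 * 3 = 8 + 1 from rfl, pow_succ, this, one_mul]
    show a⁻¹ * gx * a⁻¹⁻¹ = gx ∨ a⁻¹ * gx * a⁻¹⁻¹ = gx ^ 3
    rcases ha with e | e
    · left; nth_rewrite 1 [← e]; group
    · right
      nth_rewrite 1 [← h9]
      rw [← conj_pow]
      congr 1
      rw [← e]; group

theorem semi_isPGroup : IsPGroup 2 semi := by
  rintro ⟨g, hg⟩
  refine ⟨3, Subtype.ext (Units.ext ?_)⟩
  show ((g ^ 2 ^ 3 : GL (Fin 2) (ZMod 3)) : Matrix (Fin 2) (Fin 2) (ZMod 3)) = 1
  have hg' : (g : Matrix (Fin 2) (Fin 2) (ZMod 3)) * x₀ = x₀ * g ∨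
      (g : Matrix (Fin 2) (Fin 2) (ZMod 3)) * x₀ = x₀ ^ 3 * g := by
    rcases hg with e | e <;> rw [mul_inv_eq_iff_eq_mul] at e <;> have e' := congrArg Units.val e
    · left; simpa [val_gx] using e'
    · right; simpa [val_gx] using e'
  have hdet : (g : Matrix (Fin 2) (Fin 2) (ZMod 3)).det ≠ 0 :=
    ((Matrix.isUnit_iff_isUnit_det _).mp g.isUnit).ne_zero
  rw [Units.val_pow_eq_pow_val]
  rw [Matrix.eta_fin_two (g : Matrix (Fin 2) (Fin 2) (ZMod 3))] at hg' hdet ⊢
  rw [Matrix.det_fin_two_of] at hdet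
  exact pow8 _ _ _ _ hdet hg'

/-- A two-group of order sixteen inside `GL(2,3)` is semidihedral. -/
theorem quasi_of_sixteen {G : Type*} [Group G] [Finite G] (f : G →* GL (Fin 2) (ZMod 3))
    (hf : Function.Injective f) (hcard : Nat.card G = 16) : Cfsg.IsQuasiDihedral G := by
  have : Fact (Nat.Prime 3) := ⟨Nat.prime_three⟩
  have : Fact (Nat.Prime 2) := ⟨Nat.prime_two⟩
  have h48 : Nat.card (GL (Fin 2) (ZMod 3)) = 48 := by
    rw [Matrix.card_GL_field]; simp [Fin.prod_univ_two]
  have hr : Nat.card f.range = 16 := by rw [← Nat.card_congr (MonoidHom.ofInjective hf).toEquiv, hcard]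
  have hfact : (48 : ℕ).factorization 2 = 4 := by
    rw [show (48 : ℕ) = 2 ^ 4 * 3 ^ 1 by norm_num, Nat.factorization_mul (by norm_num) (by norm_num),
      Nat.Prime.factorization_pow Nat.prime_two, Nat.Prime.factorization_pow Nat.prime_three]
    simp
  let P : Sylow 2 (GL (Fin 2) (ZMod 3)) := Sylow.ofCard f.range (by rw [hr, h48, hfact]; norm_num)
  obtain ⟨Q, hQ⟩ := semi_isPGroup.exists_le_sylow
  obtain ⟨g, hg⟩ := MulAction.exists_smul_eq (GL (Fin 2) (ZMod 3)) Q P
  have hmem : ∀ a ∈ semi, g * a * g⁻¹ ∈ f.range := by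
    intro a ha
    have h1 : g * a * g⁻¹ ∈ ((g • Q : Sylow 2 _) : Subgroup (GL (Fin 2) (ZMod 3))) := by
      rw [Sylow.coe_subgroup_smul, Subgroup.mem_pointwise_smul_iff_inv_smul_mem]
      simpa [MulAut.smul_def, mul_assoc] using hQ ha
    rwa [hg] at h1
  obtain ⟨x, hx⟩ := hmem gx (Or.inl (by simp))
  obtain ⟨y, hy⟩ := hmem gy (Or.inr gy_conj)
  have hord : ∀ a : GL (Fin 2) (ZMod 3), orderOf (g * a * g⁻¹) = orderOf a := fun a => by
    rw [show g * a * g⁻¹ = MulAut.conj g a from rfl, MulEquiv.orderOf_eq]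
  refine ⟨3, le_rfl, by rw [hcard]; norm_num, x, y, ?_, ?_, ?_⟩
  · rw [← orderOf_injective f hf, hx, hord, gx_order]
  · rw [← orderOf_injective f hf, hy, hord, gy_order]
  · apply hf
    rw [map_mul, map_mul, map_inv, map_pow, hx, hy, conj_pow, show 2 ^ (3 - 1) - 1 = 3 from rfl, ← gy_conj]
    group

theorem result (q : ℕ) [Fact q.Prime] {V : Type*} [AddCommGroup V] [Module (ZMod q) V] [Finite V] [Nontrivial V]
    {G : Type*} [Group G] [Finite G] [Nontrivial G] (p : ℕ) [Fact p.Prime] (hG : IsPGroup p G)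
    (ρ : G →* (V ≃ₗ[ZMod q] V)) (hρ : Function.Injective ρ)
    (htrans : ∀ v w : V, v ≠ 0 → w ≠ 0 → ∃ g : G, ρ g v = w) :
    (q = 2 ∧ p = Nat.card V - 1 ∧ Nat.card G = p) ∨
    (p = 2 ∧ Nat.card V = q ∧ (∃ m : ℕ, q = 2 ^ m + 1 ∧ Nat.card G = 2 ^ m) ∧ IsCyclic G) ∨
    (p = 2 ∧ q = 3 ∧ Nat.card V = 9 ∧
      ((IsCyclic G ∧ Nat.card G = 8) ∨ Nonempty (G ≃* QuaternionGroup 2) ∨ (Cfsg.IsQuasiDihedral G ∧ Nat.card G = 16))) := by
  classical
  have hp : p.Prime := Fact.out
  have hq : q.Prime := Fact.out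
  let X := ↥({0}ᶜ : Set V)
  letI : MulAction G X :=
    { smul := fun g v => ⟨ρ g v, fun h => v.2 ((ρ g).map_eq_zero_iff.mp h)⟩
      one_smul := fun v => Subtype.ext (by show ρ 1 (v : V) = v; rw [map_one]; rfl)
      mul_smul := fun g h v => Subtype.ext (by show ρ (g * h) (v : V) = ρ g (ρ h v); rw [map_mul]; rfl) }
  have hfaith : ∀ g : G, (∀ v : X, g • v = v) → g = 1 := fun g hg => hρ (by
    rw [map_one]
    refine LinearEquiv.ext fun v => ?_
    by_cases hv : v = 0
    · simp [hv]
    · exact congrArg Subtype.val (hg ⟨v, hv⟩))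
  have : MulAction.IsPretransitive G X := ⟨fun v w => (htrans v w v.2 w.2).imp fun g hg => Subtype.ext hg⟩
  have hXcard : Nat.card X = Nat.card V - 1 := by
    rw [Nat.card_coe_set_eq, Set.ncard_compl, Set.ncard_singleton]
  obtain ⟨v₀, hv₀⟩ := exists_ne (0 : V)
  have hX : Nat.card X ∣ Nat.card G := by
    rw [← MulAction.index_stabilizer_of_transitive G (⟨v₀, hv₀⟩ : X)]
    exact Subgroup.index_dvd_card _
  obtain ⟨e, he⟩ := IsPGroup.iff_card.mp hG
  obtain ⟨k, -, hk⟩ := (Nat.dvd_prime_pow hp).mp (he ▸ hX)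
  set n := Module.finrank (ZMod q) V
  have hn : 1 ≤ n := Module.finrank_pos
  have hV : Nat.card V = q ^ n := by
    rw [Module.natCard_eq_pow_finrank (K := ZMod q), Nat.card_zmod]
  have hV1 : 1 < Nat.card V := Finite.one_lt_card
  have hk1 : 1 ≤ k := by
    rcases Nat.eq_zero_or_pos k with rfl | h0
    · exfalso
      have : Subsingleton X := (Nat.card_eq_one_iff_unique.mp (by rw [hk, pow_zero])).1
      obtain ⟨g, hg⟩ := exists_ne (1 : G)
      exact hg (hfaith g fun v => Subsingleton.elim _ _)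
    · exact h0
  have heq : p ^ k + 1 = q ^ n := by rw [← hk, hXcard, ← hV]; omega
  rcases hq.eq_two_or_odd' with rfl | hqo
  · left
    have hpk := exp_one hp heq hk1
    have hXp : Nat.card X = p := hk.trans hpk
    refine ⟨rfl, by rw [← hXcard, hXp], ?_⟩
    have hinj : Function.Injective (MulAction.toPermHom G X) := (injective_iff_map_eq_one _).mpr fun g hg =>
      hfaith g fun v => DFunLike.congr_fun hg v
    have hd : Nat.card G ∣ p.factorial := by
      have := Subgroup.card_dvd_of_injective _ hinj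
      rwa [Nat.card_perm, hXp] at this
    have hle : e ≤ 1 := by
      by_contra h2
      have h3 : p ^ 2 ∣ p.factorial := (pow_dvd_pow p (by omega)).trans (he ▸ hd)
      obtain ⟨p', hp'⟩ : ∃ p', p = p' + 1 := ⟨p - 1, by have := hp.two_le; omega⟩
      rw [hp', Nat.factorial_succ, pow_two, Nat.mul_dvd_mul_iff_left (by omega)] at h3
      have := (Nat.Prime.dvd_factorial (hp' ▸ hp)).mp h3
      omega
    have : e = 1 := by
      rcases Nat.eq_zero_or_pos e with rfl | h0
      · exact absurd he (by simp [Nat.card_eq_one_iff_unique, not_subsingleton G])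
      · omega
    rw [he, this, pow_one]
  · right
    have hp2 : p = 2 := by
      have h2 : 2 ∣ p ^ k := by
        obtain ⟨u, hu⟩ := hqo.pow (n := n)
        exact ⟨u, by omega⟩
      exact ((Nat.prime_dvd_prime_iff_eq Nat.prime_two hp).mp (Nat.prime_two.dvd_of_dvd_pow h2)).symm
    subst hp2
    have hq3 : 3 ≤ q := by
      have := hq.two_le
      rcases hqo with ⟨u, hu⟩
      omega
    rcases catalan_odd hq3 hqo hn heq.symm with h1 | ⟨rfl, h2⟩
    · left
      rw [h1, pow_one] at heq hV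
      obtain ⟨c, hc⟩ : ∃ c : G → ZMod q, ∀ g, ρ g v₀ = c g • v₀ :=
        ⟨fun g => (((finrank_eq_one_iff_of_nonzero' v₀ hv₀).mp h1) (ρ g v₀)).choose,
          fun g => (((finrank_eq_one_iff_of_nonzero' v₀ hv₀).mp h1) (ρ g v₀)).choose_spec.symm⟩
      let φ : G →* ZMod q :=
        { toFun := c
          map_one' := smul_left_injective (ZMod q) hv₀ (by
            show c 1 • v₀ = (1 : ZMod q) • v₀
            rw [← hc, map_one, one_smul]; rfl)
          map_mul' := fun g h => smul_left_injective (ZMod q) hv₀ (by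
            show c (g * h) • v₀ = (c g * c h) • v₀
            rw [← hc, map_mul, LinearEquiv.mul_apply, hc, map_smul, hc, smul_smul, mul_comm]) }
      have hfix : ∀ g : G, ρ g v₀ = v₀ → g = 1 := fun g hg => hρ (by
        rw [map_one]
        refine LinearEquiv.ext fun v => ?_
        obtain ⟨a, rfl⟩ := (finrank_eq_one_iff_of_nonzero' v₀ hv₀).mp h1 v
        rw [map_smul, hg]; rfl)
      have hinj : Function.Injective φ := fun g h e => by
        have : ρ (g⁻¹ * h) v₀ = v₀ := by
          rw [map_mul, LinearEquiv.mul_apply, map_inv, hc, show c h = c g from e.symm, ← hc]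
          exact (ρ g).symm_apply_apply v₀
        exact inv_mul_eq_one.mp (hfix _ this)
      have hstab : MulAction.stabilizer G (⟨v₀, hv₀⟩ : X) = ⊥ := (Subgroup.eq_bot_iff_forall _).mpr fun g hg =>
        hfix g (congrArg Subtype.val hg)
      have hGc : Nat.card G = 2 ^ k := by
        rw [← hk, ← MulAction.index_stabilizer_of_transitive G (⟨v₀, hv₀⟩ : X), hstab, Subgroup.index_bot]
      refine ⟨rfl, hV, ⟨k, heq.symm, hGc⟩, isCyclic_of_injective_ringHom φ hinj⟩
    · right
      rw [h2] at heq hV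
      norm_num at heq hV
      refine ⟨rfl, rfl, hV, ?_⟩
      have hk3 : k = 3 := Nat.pow_right_injective (le_refl 2) (show 2 ^ k = 2 ^ 3 by omega)
      subst hk3
      let b := Module.finBasisOfFinrankEq (ZMod 3) V h2
      let f : G →* GL (Fin 2) (ZMod 3) :=
        ((Units.map (LinearMap.toMatrixAlgEquiv b).toRingEquiv.toRingHom.toMonoidHom).comp
          (LinearMap.GeneralLinearGroup.generalLinearEquiv (ZMod 3) V).symm.toMonoidHom).comp ρ
      have hf : Function.Injective f :=
        ((Units.map_injective (LinearMap.toMatrixAlgEquiv b).injective).comp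
          (LinearMap.GeneralLinearGroup.generalLinearEquiv (ZMod 3) V).symm.injective).comp hρ
      have hd : Nat.card G ∣ 48 := by
        have := Subgroup.card_dvd_of_injective f hf
        have h48 : Nat.card (GL (Fin 2) (ZMod 3)) = 48 := by
          rw [Matrix.card_GL_field]; simp [Fin.prod_univ_two]
        rwa [h48] at this
      have he' : e = 3 ∨ e = 4 := by
        have h8 : 2 ^ 3 ∣ 2 ^ e := by rw [← hk, ← he]; exact hX
        have hlo := (Nat.pow_dvd_pow_iff_le_right (by norm_num : 1 < 2)).mp h8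
        have : ¬ 5 ≤ e := fun h5 => by
          have := (pow_dvd_pow 2 h5).trans (he ▸ hd)
          norm_num at this
        omega
      rcases he' with rfl | rfl
      · have hstab : ∀ v : X, MulAction.stabilizer G v = ⊥ := fun v => by
          apply Subgroup.eq_bot_of_card_eq
          have := (MulAction.stabilizer G v).card_mul_index
          rw [MulAction.index_stabilizer_of_transitive G v, hk, he] at this
          omega
        let φ : G →* MulAut (Multiplicative V) :=
          { toFun := fun g => AddEquiv.toMultiplicative (ρ g).toAddEquiv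
            map_one' := by ext v; simp
            map_mul' := fun g h => by ext v; simp }
        have hfpf : Cfsg.Agent.Frobenius.IsFPF φ := by
          intro g hg m hm
          by_contra hm1
          have hv : Multiplicative.toAdd m ≠ 0 := fun h => hm1 (by simpa using h)
          have h1 : g ∈ MulAction.stabilizer G (⟨_, hv⟩ : X) := Subtype.ext (congrArg Multiplicative.toAdd hm)
          rw [hstab] at h1
          exact hg (Subgroup.mem_bot.mp h1)
        rcases Cfsg.Agent.H76.cyclic_or_quaternion_of_fpf hfpf 2 hG with hc | ⟨-, m, ⟨em⟩⟩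
        · exact Or.inl ⟨hc, by rw [he]; norm_num⟩
        · have hc4 := Nat.card_congr em.toEquiv
          rw [Nat.card_eq_fintype_card (α := QuaternionGroup (2 ^ m)), QuaternionGroup.card, he] at hc4
          have hm : m = 1 := Nat.pow_right_injective (le_refl 2) (show 2 ^ m = 2 ^ 1 by omega)
          subst hm
          exact Or.inr (Or.inl ⟨em⟩)
      · exact Or.inr (Or.inr ⟨quasi_of_sixteen f hf (by rw [he]; norm_num), by rw [he]; norm_num⟩)

end Cfsg.Agent.S3370
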