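import Cfsg.Statements.S0204
import Cfsg.Agent.H61.ZStarCor3
import Cfsg.Agent.H61.ZStarInst
import Cfsg.Agent.S0205

set_option autoImplicit false
open Cfsg

namespace Cfsg.Agent.S0204

/-- A non-cyclic finite simple group contains a subgroup which is a Klein four-group; this combines the Odd Order Theorem, Burnside's transfer argument for cyclic Sylow 2-subgroups and the Brauer–Suzuki Theorem. -/
theorem result {G : Type*} [Group G] [Finite G] [IsSimpleGroup G] (hG : ¬ IsCyclic G) : ∃ E : Subgroup G, IsKleinFour E := by
  by_contra hne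
  push Not at hne
  have hnc : ¬ IsMulCommutative G := fun hc => hG (by
    letI : CommGroup G := { (inferInstance : Group G) with mul_comm := hc.is_comm.comm }
    exact isCyclic_of_prime_card (p := Nat.card G) (hp := ⟨IsSimpleGroup.prime_card⟩) rfl)
  have heven : Even (Nat.card G) := by
    rw [← Nat.not_odd_iff_even]
    intro ho
    exact hnc ⟨⟨(IsSimpleGroup.comm_iff_isSolvable (G := G)).mpr (S0205.result ho)⟩⟩
  obtain ⟨z, hz, N, hN, hodd, hcen⟩ := H61.zStar_cor_rank_one H61.zStarTheorem heven hne
  rcases hN.eq_bot_or_eq_top with h | h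
  · have hzc : z ∈ Subgroup.center G := by
      rw [Subgroup.mem_center_iff]
      intro g
      have := hcen g
      rw [h, Subgroup.mem_bot] at this
      exact (mul_inv_eq_iff_eq_mul.mp (mul_inv_eq_one.mp this)).symm
    rcases (Subgroup.center G).normal_of_characteristic.eq_bot_or_eq_top with hb | hb
    · rw [hb, Subgroup.mem_bot] at hzc
      rw [hzc, orderOf_one] at hz
      omega
    · exact hnc ⟨⟨fun x y => Subgroup.mem_center_iff.mp (hb ▸ Subgroup.mem_top y) x⟩⟩
  · rw [h, Subgroup.card_top] at hodd
    exact Nat.not_even_iff_odd.mpr hodd heven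

end Cfsg.Agent.S0204
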