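import Cfsg.Statements.S3224
import Cfsg.Agent.PGroups.Taussky
-- import your own Cfsg.Agent.* helpers here

set_option autoImplicit false
open Cfsg

namespace Cfsg.Agent.S3224

open Subgroup

/-- A finite 2-group containing an involution whose centralizer has order 4 is dihedral, quasi-dihedral (semidihedral), or of order 4. -/
theorem result {S : Type*} [Group S] [Finite S] (hS : IsPGroup 2 S)
    (x : S) (hx : orderOf x = 2) (hC : Nat.card ↥(Subgroup.centralizer ({x} : Set S)) = 4) :
    (∃ n : ℕ, Nonempty (S ≃* DihedralGroup n)) ∨ Cfsg.IsQuasiDihedral S ∨ Nat.card S = 4 := by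
  haveI : Fact (Nat.Prime 2) := ⟨Nat.prime_two⟩
  set A := centralizer ({x} : Set S) with hA
  have hxA : x ∈ A := Subgroup.mem_centralizer_iff.mpr fun h hh => by rw [Set.mem_singleton_iff.mp hh]
  have hab : IsMulCommutative A :=
    IsPGroup.isMulCommutative_of_card_eq_prime_sq (p := 2) (by rw [hC]; norm_num)
  have hCA : centralizer (A : Set S) = A := by
    refine le_antisymm (Subgroup.centralizer_le (Set.singleton_subset_iff.mpr hxA)) fun a ha => ?_
    exact Subgroup.mem_centralizer_iff.mpr fun g hg => PGroups.comm_of_isMulCommutative hab hg ha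
  obtain ⟨n, hn⟩ := IsPGroup.iff_card.mp hS
  have hn2 : 2 ≤ n := by
    have h := A.card_subgroup_dvd_card
    rw [hC, hn] at h
    exact (Nat.pow_dvd_pow_iff_le_right one_lt_two).mp (show 2 ^ 2 ∣ 2 ^ n from h)
  rcases hn2.lt_or_eq with hn3 | hn2'
  swap
  · exact Or.inr (Or.inr (by rw [hn, ← hn2']; norm_num))
  have hc := PGroups.nilpotencyClass_of_self_centralizing n S hn A (by rw [hC]; norm_num) hCA
  obtain ⟨c, y, hk, hy, hcase, -⟩ := PGroups.maxClass_two hn3 hn hc
  rcases hcase with ⟨h1, h2 | h2⟩ | ⟨h4, h1, h2⟩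
  · haveI : NeZero (2 ^ (n - 1)) := ⟨by positivity⟩
    exact Or.inl ⟨_, PGroups.nonempty_mulEquiv_dihedral hk hy h2 h1
      (by rw [hn, ← pow_succ', show n - 1 + 1 = n by omega])⟩
  · exfalso
    obtain ⟨hZ, -, -⟩ := PGroups.card_center_of_maxClass hn3 hn hc
    have hx1 : x ≠ 1 := fun h => by rw [h, orderOf_one] at hx; omega
    have hx2 : x ^ 2 = 1 := hx ▸ pow_orderOf_eq_one x
    set z := c ^ 2 ^ (n - 2) with hz
    have hz1 : z ≠ 1 := fun h => by
      have := orderOf_dvd_of_pow_eq_one (hz ▸ h)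
      rw [hk, Nat.pow_dvd_pow_iff_le_right one_lt_two] at this
      omega
    have hz2 : z ^ 2 = 1 := by
      rw [hz, ← pow_mul, ← pow_succ, show n - 2 + 1 = n - 1 by omega, ← hk, pow_orderOf_eq_one]
    have hxc : x ∈ zpowers c := by
      by_contra hxc
      have hidx : (zpowers c).index = 2 := by
        have h1 := (zpowers c).card_mul_index
        rw [Nat.card_zpowers, hk, hn] at h1
        nth_rw 2 [show n = (n - 1) + 1 by omega] at h1
        rw [pow_succ] at h1
        exact Nat.eq_of_mul_eq_mul_left (by positivity) h1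
      obtain ⟨i, hi⟩ := Subgroup.mem_zpowers_iff.mp
        (((Subgroup.mul_mem_iff_of_index_two hidx).mpr (by simp [hy, hxc])) : y⁻¹ * x ∈ zpowers c)
      have hxi : x = y * c ^ i := by rw [hi, mul_inv_cancel_left]
      rw [hxi, PGroups.sq_mul_zpow (r := -1) (s := (2 ^ (n - 2) : ℕ)) (by rw [zpow_neg_one]; exact h1)
        (by rw [zpow_natCast]; exact h2)] at hx2
      rw [show -1 * i + ((2 ^ (n - 2) : ℕ) : ℤ) + i = ((2 ^ (n - 2) : ℕ) : ℤ) by ring, zpow_natCast] at hx2
      exact hz1 hx2
    have hxz := PGroups.eq_of_sq_eq_one (inferInstance : IsCyclic (zpowers c)) hxc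
      (pow_mem (mem_zpowers c) _) hx2 hz2 hx1 hz1
    have hcen : x ∈ center S := by
      haveI : (zpowers c).Normal := PGroups.normal_of_index_eq (p := 2) hS (by
        have h1 := (zpowers c).card_mul_index
        rw [Nat.card_zpowers, hk, hn] at h1
        nth_rw 2 [show n = (n - 1) + 1 by omega] at h1
        rw [pow_succ] at h1
        exact Nat.eq_of_mul_eq_mul_left (by positivity) h1)
      refine Subgroup.mem_center_iff.mpr fun g => ?_
      have hgx : g * x * g⁻¹ = x := by
        refine PGroups.eq_of_sq_eq_one (inferInstance : IsCyclic (zpowers c))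
          (Subgroup.Normal.conj_mem inferInstance x hxc g) hxc
          (by rw [conj_pow, hx2, mul_one, mul_inv_cancel]) hx2 (fun h => hx1 ?_) hx1
        rwa [mul_inv_eq_one, mul_eq_left] at h
      exact mul_inv_eq_iff_eq_mul.mp hgx
    have htop : A = ⊤ := eq_top_iff.mpr fun g _ => Subgroup.mem_centralizer_iff.mpr fun h hh => by
      rw [Set.mem_singleton_iff.mp hh]; exact (Subgroup.mem_center_iff.mp hcen g).symm
    rw [htop, Subgroup.card_top, hn] at hC
    have : 2 ^ 3 ≤ 2 ^ n := Nat.pow_le_pow_right two_pos hn3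
    omega
  · refine Or.inr (Or.inl ⟨n - 1, by omega, by rw [hn, show n - 1 + 1 = n by omega], c, y, hk,
      orderOf_eq_prime h2 (fun h => hy (h ▸ one_mem _)), ?_⟩)
    rw [show n - 1 - 1 = n - 2 by omega]; exact h1

end Cfsg.Agent.S3224
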