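import Cfsg.Statements.S1997
import Cfsg.Agent.H49.OmegaClosure
import Cfsg.Agent.S1996
-- import your own Cfsg.Agent.* helpers here

set_option autoImplicit false
universe u
open Cfsg

namespace Cfsg.Agent.S1997

/-- Let p be a prime, G a finite group with Sylow p-subgroup S, and W₁, W₂ two isomorphism-invariant p-group functors (W assigns to every group Q a subgroup W(Q), nontrivial whenever Q is a nontrivial finite p-group, and every isomorphism from a finite p-group Q onto a group R carries W(Q) onto W(R)). Suppose that G* = C_{G*}(Ω₁Z(S*)) N_{G*}(W₁(S*)) = C_{G*}(Ω₁Z(S*)) N_{G*}(W₂(S*)) = N_{G*}(W₁(S*)) N_{G*}(W₂(S*)) whenever G* = K/R is a section of G with C_{G*}(O_p(G*)) ≤ O_p(G*) and S* is a Sylow p-subgroup of G*, where Ω₁Z denotes the subgroup generated by the elements of order dividing p in the centre. Suppose also Ω₁Z(S) ≤ W₁(S) ∩ W₂(S), and let A be the normal closure of Ω₁Z(S) in N_G(W₁(S)).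 Then A is an elementary abelian subgroup of S, strongly closed in S with respect to G, and A controls strong fusion in G. -/
theorem result {G : Type u} [Group G] [Finite G] {p : ℕ} [Fact p.Prime] (S : Sylow p G) (W₁ W₂ : ∀ (Q : Type u) [Group Q], Subgroup Q) (hW₁ : Cfsg.IsCharPFunctor.{u} p W₁) (hW₂ : Cfsg.IsCharPFunctor.{u} p W₂) (hfac : ∀ (K R : Subgroup G) [hR : (R.subgroupOf K).Normal], Subgroup.centralizer ((Cfsg.pCore p (↥K ⧸ R.subgroupOf K) : Subgroup (↥K ⧸ R.subgroupOf K)) : Set (↥K ⧸ R.subgroupOf K)) ≤ Cfsg.pCore p (↥K ⧸ R.subgroupOf K) → ∀ T : Sylow p (↥K ⧸ R.subgroupOf K), (∀ x : (↥K ⧸ R.subgroupOf K), ∃ a ∈ Subgroup.centralizer ((Cfsg.omegaOne p ((T : Subgroup (↥K ⧸ R.subgroupOf K)) ⊓ Subgroup.centralizer (((T : Subgroup (↥K ⧸ R.subgroupOf K)) : Subgroup (↥K ⧸ R.subgroupOf K)) : Set (↥K ⧸ R.subgroupOf K))) : Subgroup (↥K ⧸ R.subgroupOf K)) : Set (↥K ⧸ R.subgroupOf K)), ∃ b ∈ Subgroup.normalizer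 ((Cfsg.inducedFunctor (G := (↥K ⧸ R.subgroupOf K)) W₁ (T : Subgroup (↥K ⧸ R.subgroupOf K)) : Subgroup (↥K ⧸ R.subgroupOf K)) : Set (↥K ⧸ R.subgroupOf K)), x = a * b) ∧ (∀ x : (↥K ⧸ R.subgroupOf K), ∃ a ∈ Subgroup.centralizer ((Cfsg.omegaOne p ((T : Subgroup (↥K ⧸ R.subgroupOf K)) ⊓ Subgroup.centralizer (((T : Subgroup (↥K ⧸ R.subgroupOf K)) : Subgroup (↥K ⧸ R.subgroupOf K)) : Set (↥K ⧸ R.subgroupOf K))) : Subgroup (↥K ⧸ R.subgroupOf K)) : Set (↥K ⧸ R.subgroupOf K)), ∃ b ∈ Subgroup.normalizer ((Cfsg.inducedFunctor (G := (↥K ⧸ R.subgroupOf K)) W₂ (T : Subgroup (↥K ⧸ R.subgroupOf K)) : Subgroup (↥K ⧸ R.subgroupOf K)) : Set (↥K ⧸ R.subgroupOf K)), x = a * b) ∧ (∀ x : (↥K ⧸ R.subgroupOf K), ∃ a ∈ Subgroup.normalizer ((Cfsg.inducedFunctor (G := (↥K ⧸ R.subgroupOf K)) W₁ (T : Subgroup (↥K ⧸ R.subgroupOf K)) : Subgroup (↥K ⧸ R.subgroupOf K)) : Set (↥K ⧸ R.subgroupOf K)), ∃ b ∈ Subgroup.normalizer ((Cfsg.inducedFunctor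 (G := (↥K ⧸ R.subgroupOf K)) W₂ (T : Subgroup (↥K ⧸ R.subgroupOf K)) : Subgroup (↥K ⧸ R.subgroupOf K)) : Set (↥K ⧸ R.subgroupOf K)), x = a * b)) (hZ : Cfsg.omegaOne p ((S : Subgroup G) ⊓ Subgroup.centralizer (((S : Subgroup G) : Subgroup G) : Set G)) ≤ Cfsg.inducedFunctor (G := G) W₁ (S : Subgroup G) ⊓ Cfsg.inducedFunctor (G := G) W₂ (S : Subgroup G)) (N₁ : Subgroup G) (hN₁ : N₁ = Subgroup.normalizer ((Cfsg.inducedFunctor (G := G) W₁ (S : Subgroup G) : Subgroup G) : Set G)) (A : Subgroup G) (hA : A = (Subgroup.normalClosure (((Cfsg.omegaOne p ((S : Subgroup G) ⊓ Subgroup.centralizer (((S : Subgroup G) : Subgroup G) : Set G))).subgroupOf N₁ : Subgroup ↥N₁) : Set ↥N₁)).map N₁.subtype) : A ≤ (S : Subgroup G) ∧ Cfsg.IsElementaryAbelian p A ∧ Cfsg.IsStronglyClosed A (S : Subgroup G) ∧ Cfsg.ControlsStrongFusion p A := by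
  set P : Subgroup G := (S : Subgroup G) with hP
  set Z := Cfsg.omegaOne p (P ⊓ Subgroup.centralizer (P : Set G)) with hZdef
  set U₁ := Cfsg.inducedFunctor (G := G) W₁ P with hU₁
  set N₂ := Subgroup.normalizer ((Cfsg.inducedFunctor (G := G) W₂ P : Subgroup G) : Set G) with hN₂
  have hPN₁ : P ≤ N₁ := hN₁ ▸ Fusion.le_normalizer_inducedFunctor hW₁ S.isPGroup'
  have hU₁P : U₁ ≤ P := Fusion.inducedFunctor_le P
  have hf1 : H49.CentralFactor (G := G) p W₁ := fun K R _ hc T => (hfac K R hc T).1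
  have hf2 : H49.CentralFactor (G := G) p W₂ := fun K R _ hc T => (hfac K R hc T).2.1
  have hZc : ∀ z ∈ Z, z ∈ P ⊓ Subgroup.centralizer (P : Set G) := fun z hz =>
    (Subgroup.closure_le _).mpr (fun y hy => hy.1) hz
  have hZ1 : Z ≤ U₁ := hZ.trans inf_le_left
  have hZp : ∀ z ∈ Z, z ^ p = 1 := by
    intro z hz
    induction hz using Subgroup.closure_induction with
    | mem y hy => exact hy.2
    | one => exact one_pow p
    | mul a b ha hb iha ihb =>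
      have : Commute a b := Subgroup.mem_centralizer_iff.mp (hZc b hb).2 a (hZc a ha).1
      rw [this.mul_pow, iha, ihb, one_mul]
    | inv a _ iha => rw [inv_pow, iha, inv_one]
  set Gen : Set G := {g | ∃ n ∈ N₁, ∃ z ∈ Z, g = n * z * n⁻¹} with hGen
  have hAeq : A = Subgroup.closure Gen := by
    rw [hA, Subgroup.normalClosure, MonoidHom.map_closure]
    congr 1
    ext g
    constructor
    · rintro ⟨w, hw, rfl⟩
      obtain ⟨z, hz, hconj⟩ := Group.mem_conjugatesOfSet_iff.mp hw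
      obtain ⟨c, hc⟩ := isConj_iff.mp hconj
      refine ⟨(c : G), c.2, (z : G), hz, ?_⟩
      rw [← hc]; rfl
    · rintro ⟨n, hn, z, hz, rfl⟩
      have hzN : z ∈ N₁ := hPN₁ (hZc z hz).1
      refine ⟨⟨n, hn⟩ * ⟨z, hzN⟩ * ⟨n, hn⟩⁻¹, Group.mem_conjugatesOfSet_iff.mpr
        ⟨⟨z, hzN⟩, hz, isConj_iff.mpr ⟨⟨n, hn⟩, rfl⟩⟩, rfl⟩
  have hGenA : Gen ⊆ (A : Set G) := hAeq ▸ Subgroup.subset_closure
  have hconjU : ∀ n ∈ N₁, ∀ w ∈ U₁, n * w * n⁻¹ ∈ U₁ := fun n hn w hw =>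
    (Subgroup.mem_normalizer_iff.mp (hN₁ ▸ hn) w).mp hw
  have hAU : A ≤ U₁ := by
    rw [hAeq, Subgroup.closure_le]
    rintro _ ⟨n, hn, z, hz, rfl⟩
    exact hconjU n hn z (hZ1 hz)
  have hGenc : Gen ⊆ (Subgroup.centralizer (U₁ : Set G) : Set G) := by
    rintro _ ⟨n, hn, z, hz, rfl⟩
    refine Subgroup.mem_centralizer_iff.mpr fun w hw => ?_
    have hw' : n⁻¹ * w * n ∈ P := hU₁P (by simpa using hconjU n⁻¹ (inv_mem hn) w hw)
    calc w * (n * z * n⁻¹) = n * ((n⁻¹ * w * n) * z) * n⁻¹ := by group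
      _ = n * (z * (n⁻¹ * w * n)) * n⁻¹ := by
          rw [Subgroup.mem_centralizer_iff.mp (hZc z hz).2 _ hw']
      _ = n * z * n⁻¹ * w := by group
  have hAc : A ≤ Subgroup.centralizer (U₁ : Set G) := hAeq ▸ (Subgroup.closure_le _).mpr hGenc
  have hcomm : ∀ a ∈ A, ∀ b ∈ A, b * a = a * b := fun a ha b hb =>
    Subgroup.mem_centralizer_iff.mp (hAc ha) b (hAU hb)
  have hel : Cfsg.IsElementaryAbelian p A := by
    refine ⟨⟨⟨fun a b => Subtype.ext (hcomm b b.2 a a.2)⟩⟩, fun a ha => ?_⟩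
    rw [hAeq] at ha
    induction ha using Subgroup.closure_induction with
    | mem y hy =>
      obtain ⟨n, hn, z, hz, rfl⟩ := hy
      rw [conj_pow, hZp z hz, mul_one, mul_inv_cancel]
    | one => exact one_pow p
    | mul a b ha hb iha ihb =>
      have : Commute a b := hcomm b (hAeq.symm ▸ hb) a (hAeq.symm ▸ ha)
      rw [this.mul_pow, iha, ihb, one_mul]
    | inv a _ iha => rw [inv_pow, iha, inv_one]
  have hAP : A ≤ P := hAU.trans hU₁P
  have hNA : ∀ x : G, (∀ g ∈ Gen, x * g * x⁻¹ ∈ A) → x ∈ Subgroup.normalizer (A : Set G) := by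
    intro x hx
    refine H48.mem_normalizer_of_cj_eq (H48.cj_eq_self_of_le ?_)
    rw [show H48.cj x A = A.map (MulAut.conj x).toMonoidHom from rfl, hAeq, MonoidHom.map_closure,
      Subgroup.closure_le]
    rintro _ ⟨g, hg, rfl⟩
    exact hAeq ▸ hx g hg
  have hN1A : ∀ x ∈ N₁, x ∈ Subgroup.normalizer (A : Set G) := fun x hx => hNA x (by
    rintro _ ⟨n, hn, z, hz, rfl⟩
    exact hGenA ⟨x * n, mul_mem hx hn, z, hz, by group⟩)
  have hN2A : ∀ x ∈ N₂, x ∈ Subgroup.normalizer (A : Set G) := fun x hx => hNA x (by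
    rintro _ ⟨n, hn, z, hz, rfl⟩
    obtain ⟨m, hm, hme⟩ := H49.conj_omega_of_factor hW₂ hW₁ hf2 S (hZ.trans inf_le_left) hz (hN₁ ▸ hn)
    rw [hme, show x * (m * z * m⁻¹) * x⁻¹ = x * m * z * (x * m)⁻¹ by group]
    obtain ⟨m', hm', hme'⟩ := H49.conj_omega_of_factor hW₁ hW₂ hf1 S (hZ.trans inf_le_right) hz
      (mul_mem hx hm : x * m ∈ N₂)
    rw [hme']
    exact hGenA ⟨m', hN₁.symm ▸ hm', z, hz, rfl⟩)
  have hsfc : H49.SFC {W₁, W₂} p G := by
    refine H49.sfc_of_familyControls (by rintro W (rfl | rfl) <;> assumption) ?_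
    rw [Set.image_pair]
    exact S1996.result W₁ W₂ hW₁ hW₂ fun K R _ hc T => (hfac K R hc T).2.2
  have hsteps : ∀ {B : Set G} {k : G}, H48.Steps (H49.stepSet {W₁, W₂} P) (P : Set G) B k →
      k ∈ Subgroup.normalizer (A : Set G) := by
    intro B k hk
    induction hk with
    | nil B _ => exact one_mem _
    | cons B x k _ hx _ ih =>
      obtain ⟨W, hW, hxW⟩ := hx
      refine mul_mem ih ?_
      rcases hW with rfl | rfl
      · exact hN1A x (hN₁.symm ▸ hxW)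
      · exact hN2A x hxW
  refine ⟨hAP, hel, ⟨hAP, fun x hx g hg => ?_⟩, ⟨S, hAP, fun B hB => ⟨hB, fun g hg => ?_⟩⟩⟩
  · obtain ⟨k, hk, e⟩ := hsfc S {x} g (Set.singleton_subset_iff.mpr (hAP hx))
      (by rintro _ ⟨_, rfl, rfl⟩; exact hg)
    rw [← e x rfl]
    exact (Subgroup.mem_normalizer_iff.mp (hsteps hk) x).mp hx
  · obtain ⟨k, hk, e⟩ := hsfc S B g hB hg
    exact ⟨k, hsteps hk, fun a ha => (e a ha).symm⟩

end Cfsg.Agent.S1997
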