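import Cfsg.Statements.S3779
import Cfsg.Agent.Frobenius.HigmanBound

set_option autoImplicit false
open Cfsg

namespace Cfsg.Agent.S3779

/-- Let G be a finite group with an automorphism of prime order p fixing only the identity. Then G is nilpotent; if p = 2 then G is abelian, if p = 3 then G has class at most 2, and in general the class of G is at most ξ = 1 + (p−1) + (p−1)² + ⋯ + (p−1)^(n−1) with n = 2^(p−1) − 1 (the Higman–Kreknin–Kostrikin bound). -/
theorem result {G : Type*} [Group G] [Finite G] {p : ℕ} (hp : p.Prime) (α : MulAut G) (hα : orderOf α = p) (hfpf : ∀ g : G, α g = g → g = 1) : (p = 2 → (⊤ : Subgroup G).lowerCentralSeries 1 = ⊥) ∧ (p = 3 → (⊤ : Subgroup G).lowerCentralSeries 2 = ⊥) ∧ (⊤ : Subgroup G).lowerCentralSeries (Finset.sum (Finset.range (2 ^ (p - 1) - 1)) (fun i => (p - 1) ^ i)) = ⊥ := by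
  haveI : Fact p.Prime := ⟨hp⟩
  have hpow : ∀ g, (α : G ≃* G)^[p] g = g := fun g => by
    have e : ∀ k : ℕ, (α : G ≃* G)^[k] g = (α ^ k : MulAut G) g := fun k => by
      induction k with
      | zero => rfl
      | succ k ih => rw [Function.iterate_succ_apply', ih, pow_succ', MulAut.mul_apply]
    rw [e, ← hα, pow_orderOf_eq_one, MulAut.one_apply]
  have key := fun (c : ℕ) (hc : Frobenius.GradedLie.ClassLE (Frobenius.Higman.eig α p) 0 c) =>
    Frobenius.Higman.lowerCentralSeries_eq_bot α p hfpf hpow hc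
  have hg := Frobenius.Higman.isGrading α p hfpf
  refine ⟨fun h2 => ?_, fun h3 => ?_, key _ (Frobenius.GradedLie.classLE_xi hg)⟩
  · have h := key _ (Frobenius.GradedLie.classLE_xi hg)
    rwa [show ∑ i ∈ Finset.range (2 ^ (p - 1) - 1), (p - 1) ^ i = 1 by subst h2; rfl] at h
  · subst h3
    exact key _ (Frobenius.GradedLie.classLE_three hg)

end Cfsg.Agent.S3779
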