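import Cfsg.Statements.S5576
import Cfsg.Agent.H69.JFourSylow.EnvMk
import Cfsg.Agent.H99.J4U.Final
-- import your own Cfsg.Agent.* helpers here

set_option autoImplicit false
open Cfsg

namespace Cfsg.Agent.S5576

/-- Let G be a finite non-abelian simple group of Janko-four type (an involution z whose centralizer H has an extraspecial largest normal 2-subgroup E of order 2^13 containing its centralizer in H, a normal subgroup N ≥ E of H with N/E of order 3 and H/N the automorphism group of M₂₂, and a subgroup P ≤ N of order 3 with C_E(P) = ⟨z⟩, N_H(P) ≠ C_H(P) and P ≤ C_H(P)′). Then G has exactly two conjugacy classes of elements of order 11. -/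
theorem result {G : Type*} [Group G] [Finite G] [IsSimpleGroup G] (hG : ¬ IsMulCommutative G) (hJ : Cfsg.IsOfJankoFourType G) :
    ∃ x y : G, orderOf x = 11 ∧ orderOf y = 11 ∧ ¬ IsConj x y ∧ ∀ w : G, orderOf w = 11 → IsConj w x ∨ IsConj w y := by
  obtain ⟨z, hz⟩ := hJ
  obtain ⟨c, x, U, rfl, s⟩ := H69.JFourSylow.exists_setting hG hz (H99.J4U.isoJ4 hG hz)
  obtain ⟨t, ht, htz⟩ := H69.JFourSylow.exists_nonz hG hz
  obtain ⟨V, K, -, -, -, -, hV, hKV, hsup, ⟨e⟩⟩ := (H38.JFour.second_class_all hG hz).2 t ht htz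
  have hd : 11 ∣ Nat.card (Subgroup.centralizer ({t} : Set G)) := by
    refine dvd_trans ?_ (Subgroup.card_dvd_of_le (hsup ▸ le_sup_left : K ≤ _))
    rw [Nat.card_congr e.toEquiv, H85.AutM22.autData.card]
    norm_num
  obtain ⟨v, hv, -, hnc, hall⟩ := s.two_classes ht htz hd
  exact ⟨x, v, s.x_ord, hv, hnc, hall⟩

end Cfsg.Agent.S5576
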