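import Cfsg.Statements.S5577
import Cfsg.Agent.H69.JFourSylow.LargeMk
import Cfsg.Agent.H99.J4U.Final
-- import your own Cfsg.Agent.* helpers here

set_option autoImplicit false
open Cfsg

namespace Cfsg.Agent.S5577

/-- Let G be a finite non-abelian simple group of Janko-four type (an involution z whose centralizer H has an extraspecial largest normal 2-subgroup E of order 2^13 containing its centralizer in H, a normal subgroup N ≥ E of H with N/E of order 3 and H/N the automorphism group of M₂₂, and a subgroup P ≤ N of order 3 with C_E(P) = ⟨z⟩, N_H(P) ≠ C_H(P) and P ≤ C_H(P)′). Then for p = 23, 29, 31, 37 and 43 every Sylow p-subgroup of G is self-centralizing, with normalizer of order 23·22, 29·28, 31·10, 37·12 and 43·14 respectively. -/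
theorem result {G : Type*} [Group G] [Finite G] [IsSimpleGroup G] (hG : ¬ IsMulCommutative G) (hJ : Cfsg.IsOfJankoFourType G) :
    (∀ U : Sylow 23 G, Subgroup.centralizer ((U : Subgroup G) : Set G) = (U : Subgroup G) ∧ Nat.card ↥(Subgroup.normalizer ((U : Subgroup G) : Set G)) = 23 * 22) ∧
    (∀ U : Sylow 29 G, Subgroup.centralizer ((U : Subgroup G) : Set G) = (U : Subgroup G) ∧ Nat.card ↥(Subgroup.normalizer ((U : Subgroup G) : Set G)) = 29 * 28) ∧
    (∀ U : Sylow 31 G, Subgroup.centralizer ((U : Subgroup G) : Set G) = (U : Subgroup G) ∧ Nat.card ↥(Subgroup.normalizer ((U : Subgroup G) : Set G)) = 31 * 10) ∧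
    (∀ U : Sylow 37 G, Subgroup.centralizer ((U : Subgroup G) : Set G) = (U : Subgroup G) ∧ Nat.card ↥(Subgroup.normalizer ((U : Subgroup G) : Set G)) = 37 * 12) ∧
    (∀ U : Sylow 43 G, Subgroup.centralizer ((U : Subgroup G) : Set G) = (U : Subgroup G) ∧ Nat.card ↥(Subgroup.normalizer ((U : Subgroup G) : Set G)) = 43 * 14) := by
  obtain ⟨z, hz⟩ := hJ
  have B := H69.JFourSylow.exists_big hG hz (H99.J4U.isoJ4 hG hz)
  have key : ∀ p ∈ H69.JFourSylow.bigList, ∀ [Fact p.Prime] (U : Sylow p G),
      Subgroup.centralizer ((U : Subgroup G) : Set G) = (U : Subgroup G) ∧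
        Nat.card ↥(Subgroup.normalizer ((U : Subgroup G) : Set G)) = p * H69.JFourSylow.expE p := by
    intro p hp _ U
    refine B.solve hp ?_
    have h1 := (Fact.out : p.Prime).factorization_pos_of_dvd Nat.card_pos.ne'
      (B.card ▸ (H69.JFourSylow.dvd_big hp).2.2 : p ∣ Nat.card G)
    have h2 : (Nat.card G).factorization p ≤ 1 := by
      by_contra hne
      exact (H69.JFourSylow.dvd_big hp).2.1 (B.card ▸ ((Nat.pow_dvd_pow p
        (show 2 ≤ (Nat.card G).factorization p by omega)).trans (Nat.ordProj_dvd _ _)))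
    rw [U.card_eq_multiplicity, show (Nat.card G).factorization p = 1 by omega, pow_one]
  exact ⟨@key 23 (by decide) ⟨by norm_num⟩, @key 29 (by decide) ⟨by norm_num⟩,
    @key 31 (by decide) ⟨by norm_num⟩, @key 37 (by decide) ⟨by norm_num⟩,
    @key 43 (by decide) ⟨by norm_num⟩⟩

end Cfsg.Agent.S5577
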