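import Cfsg.Statements.S2505
import Mathlib

set_option autoImplicit false
open Cfsg

namespace Cfsg.Agent.S2505

/-- The largest product of parts of a sum. -/
def g : ℕ → ℕ
  | 0 => 1
  | 1 => 1
  | 2 => 2
  | 3 => 3
  | 4 => 4
  | n + 5 => 3 * g (n + 2)

theorem g_step {n : ℕ} (h : 2 ≤ n) : g (n + 3) = 3 * g n := by
  obtain ⟨m, rfl⟩ : ∃ m, n = m + 2 := ⟨n - 2, by omega⟩
  show g (m + 5) = _
  rw [g]

theorem small_mul : ∀ b a, a ≤ 4 → a * g b ≤ g (a + b) := by
  intro b
  induction b using Nat.strong_induction_on with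
  | _ b ih =>
    intro a ha
    by_cases hb : b < 5
    · interval_cases b <;> interval_cases a <;> simp [g]
    · have h1 : g b = 3 * g (b - 3) := by
        rw [← g_step (show 2 ≤ b - 3 by omega), Nat.sub_add_cancel (by omega)]
      have h2 : g (a + b) = 3 * g (a + (b - 3)) := by
        rw [← g_step (show 2 ≤ a + (b - 3) by omega)]
        congr 1; omega
      rw [h1, h2, Nat.mul_left_comm]
      exact Nat.mul_le_mul_left _ (ih _ (by omega) a ha)

theorem mul_g : ∀ a b, a * g b ≤ g (a + b) := by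
  intro a
  induction a using Nat.strong_induction_on with
  | _ a ih =>
    intro b
    by_cases ha : a ≤ 4
    · exact small_mul b a ha
    · calc a * g b ≤ 3 * (a - 3) * g b := Nat.mul_le_mul_right _ (by omega)
        _ ≤ 3 * g (a - 3 + b) := by rw [mul_assoc]; exact Nat.mul_le_mul_left _ (ih _ (by omega) b)
        _ = g (a + b) := by rw [← g_step (by omega)]; congr 1; omega

theorem g_closed (k : ℕ) : g (3 * (k + 1)) = 3 ^ (k + 1) ∧ g (3 * (k + 1) + 1) = 4 * 3 ^ k ∧
    g (3 * (k + 1) + 2) = 2 * 3 ^ (k + 1) := by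
  induction k with
  | zero => refine ⟨?_, ?_, ?_⟩ <;> simp [g]
  | succ k ih =>
    refine ⟨?_, ?_, ?_⟩
    · rw [show 3 * (k + 1 + 1) = 3 * (k + 1) + 3 by ring, g_step (by omega), ih.1]; ring
    · rw [show 3 * (k + 1 + 1) + 1 = 3 * (k + 1) + 1 + 3 by ring, g_step (by omega), ih.2.1]; ring
    · rw [show 3 * (k + 1 + 1) + 2 = 3 * (k + 1) + 2 + 3 by ring, g_step (by omega), ih.2.2]; ring

theorem card_le_g {α : Type*} [Fintype α] [DecidableEq α] :
    ∀ (T : Finset α) (A : Subgroup (Equiv.Perm α)), IsMulCommutative A →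
      (∀ a ∈ A, ∀ x ∉ T, a x = x) → Nat.card A ≤ g T.card := by
  intro T
  induction hT : T.card using Nat.strong_induction_on generalizing T with
  | _ n ih =>
    intro A hA hsupp
    subst hT
    rcases T.eq_empty_or_nonempty with rfl | ⟨x, hx⟩
    · have : A = ⊥ := (Subgroup.eq_bot_iff_forall A).2 fun a ha =>
        Equiv.ext fun y => hsupp a ha y (Finset.notMem_empty y)
      simp [this, g]
    classical
    haveI := hA
    let O : Finset α := (MulAction.orbit A x).toFinset
    have hO : ∀ y, y ∈ O ↔ ∃ a : A, (a : Equiv.Perm α) x = y := fun y => by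
      simp [O, MulAction.mem_orbit_iff, Subgroup.smul_def]
    have hxO : x ∈ O := (hO x).2 ⟨1, rfl⟩
    have hOT : O ⊆ T := by
      intro y hy
      obtain ⟨a, rfl⟩ := (hO y).1 hy
      by_contra hn
      have := (a : Equiv.Perm α).injective (hsupp a a.2 _ hn)
      exact hn (by rw [this]; exact hx)
    let B : Subgroup (Equiv.Perm α) := (MulAction.stabilizer A x).map A.subtype
    have hBc : IsMulCommutative B := by
      refine ⟨⟨fun p q => Subtype.ext ?_⟩⟩
      obtain ⟨a, -, ha⟩ := p.2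
      obtain ⟨b, -, hb⟩ := q.2
      show (p : Equiv.Perm α) * q = q * p
      rw [← ha, ← hb]
      exact congrArg A.subtype (IsMulCommutative.is_comm.comm a b)
    have hBs : ∀ b ∈ B, ∀ y ∉ T \ O, b y = y := by
      rintro _ ⟨b, hb, rfl⟩ y hy
      by_cases hyO : y ∈ O
      · obtain ⟨a, rfl⟩ := (hO y).1 hyO
        have hbx : (b : Equiv.Perm α) x = x := hb
        show ((b : Equiv.Perm α) * a) x = (a : Equiv.Perm α) x
        rw [show (b : Equiv.Perm α) * a = a * b from
          congrArg A.subtype (IsMulCommutative.is_comm.comm b a), Equiv.Perm.mul_apply, hbx]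
      · exact hsupp _ b.2 y fun h => hy (Finset.mem_sdiff.2 ⟨h, hyO⟩)
    have hlt : (T \ O).card < T.card :=
      Finset.card_lt_card ((Finset.sdiff_subset).ssubset_of_ne fun e =>
        (Finset.mem_sdiff.1 (e.symm ▸ hx : x ∈ T \ O)).2 hxO)
    have hB : Nat.card B ≤ g (T \ O).card := ih _ hlt (T \ O) rfl B hBc hBs
    have hcardB : Nat.card B = Nat.card (MulAction.stabilizer A x) :=
      Subgroup.card_map_of_injective A.subtype_injective
    have hprod : Nat.card A = O.card * Nat.card (MulAction.stabilizer A x) := by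
      have hidx := MulAction.index_stabilizer A x
      rw [← (MulAction.stabilizer A x).card_mul_index, hidx, mul_comm]
      congr 1
      rw [Set.ncard_eq_toFinset_card' (MulAction.orbit A x)]
    rw [hprod, ← hcardB]
    refine (Nat.mul_le_mul_left _ hB).trans ((mul_g _ _).trans (le_of_eq ?_))
    rw [add_comm, Finset.card_sdiff_add_card_eq_card hOT]

theorem card_le (n : ℕ) (A : Subgroup (Equiv.Perm (Fin n))) (hA : IsMulCommutative A) :
    Nat.card A ≤ g n := by
  simpa using card_le_g Finset.univ A hA fun a _ x hx => absurd (Finset.mem_univ x) hx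

theorem exists_abelian {ι : Type} [Fintype ι] (m : ι → ℕ) (hm : ∀ i, 0 < m i) :
    ∃ A : Subgroup (Equiv.Perm (Fin (∑ i, m i))), IsMulCommutative A ∧ Nat.card A = ∏ i, m i := by
  classical
  haveI : ∀ i, NeZero (m i) := fun i => ⟨(hm i).ne'⟩
  let f : (∀ i, Multiplicative (ZMod (m i))) →* Equiv.Perm (Σ i, ZMod (m i)) :=
    MonoidHom.mk' (fun u => Equiv.sigmaCongrRight fun i => Equiv.addRight (u i).toAdd) fun u v => by
      refine Equiv.ext fun p => ?_
      obtain ⟨i, z⟩ := p
      show (Sigma.mk i (z + ((u i).toAdd + (v i).toAdd)) : Σ i, ZMod (m i)) =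
        Sigma.mk i (z + (v i).toAdd + (u i).toAdd)
      rw [add_comm ((u i).toAdd), add_assoc]
  have hf : Function.Injective f := by
    intro u v h
    funext i
    have := congrArg (fun s : Equiv.Perm (Σ i, ZMod (m i)) => s ⟨i, 0⟩) h
    simpa [f] using this
  let e : (Σ i, ZMod (m i)) ≃ Fin (∑ i, m i) :=
    Fintype.equivFinOfCardEq (by simp [Fintype.card_sigma, ZMod.card])
  let F : (∀ i, Multiplicative (ZMod (m i))) →* Equiv.Perm (Fin (∑ i, m i)) :=
    (e.permCongrHom.toMonoidHom).comp f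
  have hF : Function.Injective F := e.permCongrHom.injective.comp hf
  refine ⟨F.range, ⟨⟨?_⟩⟩, ?_⟩
  · rintro ⟨_, a, rfl⟩ ⟨_, b, rfl⟩
    apply Subtype.ext
    show F a * F b = F b * F a
    rw [← map_mul, ← map_mul, mul_comm]
  · rw [← Nat.card_congr (MonoidHom.ofInjective hF).toEquiv, Nat.card_pi]
    exact Finset.prod_congr rfl fun i _ => (Nat.card_congr Multiplicative.toAdd).trans (Nat.card_zmod _)

/-- The largest order of an abelian subgroup of the symmetric group of degree n is 3^k when n = 3k, 4·3^(k−1) when n = 3k + 1, and 2·3^k when n = 3k + 2, for every k ≥ 1. -/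
theorem result (k : ℕ) (hk : 1 ≤ k) :
    IsGreatest {c : ℕ | ∃ A : Subgroup (Equiv.Perm (Fin (3 * k))), IsMulCommutative A ∧ Nat.card A = c} (3 ^ k) ∧
    IsGreatest {c : ℕ | ∃ A : Subgroup (Equiv.Perm (Fin (3 * k + 1))), IsMulCommutative A ∧ Nat.card A = c}
      (4 * 3 ^ (k - 1)) ∧
    IsGreatest {c : ℕ | ∃ A : Subgroup (Equiv.Perm (Fin (3 * k + 2))), IsMulCommutative A ∧ Nat.card A = c}
      (2 * 3 ^ k) := by
  obtain ⟨j, rfl⟩ : ∃ j, k = j + 1 := ⟨k - 1, by omega⟩
  obtain ⟨c0, c1, c2⟩ := g_closed j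
  rw [Nat.add_sub_cancel]
  refine ⟨⟨?_, ?_⟩, ⟨?_, ?_⟩, ⟨?_, ?_⟩⟩
  · obtain ⟨A, hA, hc⟩ := exists_abelian (fun _ : Fin (j + 1) => 3) (fun _ => by norm_num)
    have e : ∑ _i : Fin (j + 1), 3 = 3 * (j + 1) := by simp [mul_comm]
    revert A
    rw [e]
    intro A hA hc
    exact ⟨A, hA, by simpa using hc⟩
  · rintro c ⟨A, hA, rfl⟩; exact c0 ▸ card_le _ A hA
  · obtain ⟨A, hA, hc⟩ := exists_abelian (Sum.elim (fun _ : Fin j => 3) (fun _ : Unit => 4))
      (by rintro (i | i) <;> simp)
    have e : ∑ i, Sum.elim (fun _ : Fin j => 3) (fun _ : Unit => 4) i = 3 * (j + 1) + 1 := by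
      simp [Fintype.sum_sum_type]; ring
    revert A
    rw [e]
    intro A hA hc
    exact ⟨A, hA, by simpa [Fintype.prod_sum_type, mul_comm] using hc⟩
  · rintro c ⟨A, hA, rfl⟩; exact c1 ▸ card_le _ A hA
  · obtain ⟨A, hA, hc⟩ := exists_abelian (Sum.elim (fun _ : Fin (j + 1) => 3) (fun _ : Unit => 2))
      (by rintro (i | i) <;> simp)
    have e : ∑ i, Sum.elim (fun _ : Fin (j + 1) => 3) (fun _ : Unit => 2) i = 3 * (j + 1) + 2 := by
      simp [Fintype.sum_sum_type]; ring
    revert A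
    rw [e]
    intro A hA hc
    exact ⟨A, hA, by simpa [Fintype.prod_sum_type, mul_comm] using hc⟩
  · rintro c ⟨A, hA, rfl⟩; exact c2 ▸ card_le _ A hA

end Cfsg.Agent.S2505
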