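import Cfsg.Agent.H65.DihedralFusion
import Cfsg.Statements.S0848
-- import your own Cfsg.Agent.* helpers here

set_option autoImplicit false
open Cfsg

namespace Cfsg.Agent.S0848

/-- If a finite group equals its own commutator subgroup and contains an involution whose centralizer is isomorphic to the dihedral group of order 8, then the group has order 168 or 360. -/
theorem result {G : Type*} [Group G] [Finite G] (hperf : commutator G = ⊤) (t : G) (ht : orderOf t = 2) (e : Subgroup.centralizer ({t} : Set G) ≃* DihedralGroup 4) : Nat.card G = 168 ∨ Nat.card G = 360 := by
  letI : Fintype G := Fintype.ofFinite G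
  refine H65.DihedralEight.card_eq t e ht (H65.DihedralFusion.isConj_of_no_hom e ht fun f => ?_)
  ext g
  have h : commutator G ≤ f.ker := by
    rw [commutator_def, Subgroup.commutator_le]
    intro a _ b _
    simp [MonoidHom.mem_ker, commutatorElement_def, map_mul, mul_comm, mul_assoc, mul_left_comm]
  rw [hperf] at h
  exact MonoidHom.mem_ker.1 (h (Subgroup.mem_top g))

end Cfsg.Agent.S0848
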