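import Cfsg.Statements.S1079
import Cfsg.Agent.H38.St.CentreData

set_option autoImplicit false
set_option maxRecDepth 100000
open Cfsg

namespace Cfsg.Agent.S1079

/-- `|Z(Ḡ)| = gcd(3, q-1)` for E₆ and `gcd(2, q-1)` for E₇ over a field with `q` elements (the centre is dual to the weight lattice modulo the root lattice). -/
theorem result {K : Type*} [Field K] [Fintype K] {q : ℕ} (hq : Fintype.card K = q)
    (p : Cfsg.Lie.ChevalleyDatum × ℕ) (hp : p ∈ [(Cfsg.Lie.chevE6, 3), (Cfsg.Lie.chevE7, 2)]) :
    Nat.card (Subgroup.center (p.1.SteinbergGroup K)) = Nat.gcd p.2 (q - 1) := by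
  subst hq
  simp only [List.mem_cons, List.not_mem_nil, or_false] at hp
  rcases hp with rfl | rfl
  · exact H38.St.center_card (H37.Chev.dataE6 K) Chevalley.E7.cert
      (H38.St.relOK_of_check _ H37.Chev.typeE6.M (w := Chevalley.E6.tab.w) rfl (by decide +kernel))
      (H38.St.adj_of_check (by decide +kernel)) H38.CT.chkE6 rfl H38.St.embE6_ok H38.St.subE6_ok
      H38.St.latE6 H38.St.latE6_ok
  · exact H38.St.center_card (H37.Chev.dataE7 K) Chevalley.E8.cert
      (H38.St.relOK_of_check _ H37.Chev.typeE7.M (w := Chevalley.E7.tab.w) rfl (by decide +kernel))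
      (H38.St.adj_of_check (by decide +kernel)) H38.CT.chkE7 rfl H38.St.embE7_ok H38.St.subE7_ok
      H38.St.latE7 H38.St.latE7_ok

end Cfsg.Agent.S1079
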