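import Cfsg.Statements.S5976
import Cfsg.Agent.H48.SimForm
import Cfsg.Agent.Symplectic.AltStd
import Cfsg.Agent.Orthogonal.Frame
import Cfsg.Agent.Unitary.Order


set_option autoImplicit false
open scoped MatrixGroups
open Cfsg

namespace Cfsg.Agent.S5976

set_option linter.style.haveILetI false

open scoped Matrix
open Polynomial Cfsg.Agent.Symplectic

variable {F : Type*} [Field F] {d : ℕ}

local notation "sf" => Cfsg.sympForm d F

theorem sf_eq_spB (u v : Fin d ⊕ Fin d → F) : sf u v = spB d F u v := (spB_apply u v).symm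

theorem sf_swap (u v : Fin d ⊕ Fin d → F) : sf u v = - sf v u := by
  rw [sf_eq_spB, sf_eq_spB]; exact alt_swap (spB_alt d F) u v

theorem sf_self (u : Fin d ⊕ Fin d → F) : sf u u = 0 := by
  rw [sf_eq_spB]; exact spB_alt d F u

theorem sf_nd {u : Fin d ⊕ Fin d → F} (h : ∀ v, sf u v = 0) : u = 0 :=
  (spB_nondeg d F).1 u fun v => by rw [spB_apply]; exact h v

theorem mem_spGL {g : GL (Fin d ⊕ Fin d) F} :
    g ∈ Cfsg.spGL d F ↔ ∀ u v, sf ((g : Matrix (Fin d ⊕ Fin d) (Fin d ⊕ Fin d) F) *ᵥ u) ((g : Matrix (Fin d ⊕ Fin d) (Fin d ⊕ Fin d) F) *ᵥ v) = sf u v :=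
  Iff.rfl

theorem exists_gl_of_linear (L : (Fin d ⊕ Fin d → F) →ₗ[F] (Fin d ⊕ Fin d → F))
    (h : ∀ u v, sf (L u) (L v) = sf u v) :
    ∃ g ∈ Cfsg.spGL d F, ∀ v, (g : Matrix (Fin d ⊕ Fin d) (Fin d ⊕ Fin d) F) *ᵥ v = L v := by
  have hu : IsUnit (LinearMap.toMatrix' L) := Matrix.mulVec_injective_iff_isUnit.1 fun u v huv => by
    rw [LinearMap.toMatrix'_mulVec, LinearMap.toMatrix'_mulVec] at huv
    refine sub_eq_zero.1 (sf_nd fun w => ?_)
    rw [← h, map_sub, huv, sub_self, sf_eq_spB, map_zero, LinearMap.zero_apply]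
  obtain ⟨g, hg⟩ := hu
  have hgv : ∀ v, (g : Matrix (Fin d ⊕ Fin d) (Fin d ⊕ Fin d) F) *ᵥ v = L v := fun v => by
    rw [hg, LinearMap.toMatrix'_mulVec]
  exact ⟨g, mem_spGL.2 fun u v => by rw [hgv, hgv, h], hgv⟩

/-- A symplectic basis adapted to an endomorphism that is self- or anti-adjoint. -/
theorem exists_adapted_basis (T : Matrix (Fin d ⊕ Fin d) (Fin d ⊕ Fin d) F) (c : F)
    (hT : ∀ u v, sf (T *ᵥ u) v = c * sf u (T *ᵥ v))
    (R : (Fin d ⊕ Fin d → F) → (Fin d ⊕ Fin d → F) → Prop)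
    (step : ∀ W : Submodule F (Fin d ⊕ Fin d → F), (∀ x ∈ W, T *ᵥ x ∈ W) → W ≠ ⊥ →
      (∀ u ∈ W, (∀ v ∈ W, sf u v = 0) → u = 0) →
      ∃ v ∈ W, ∃ w ∈ W, sf v w = 1 ∧ R v w ∧ T *ᵥ v ∈ Submodule.span F {v, w} ∧ T *ᵥ w ∈ Submodule.span F {v, w}) :
    ∃ g ∈ Cfsg.spGL d F, ∀ i, R ((g : Matrix (Fin d ⊕ Fin d) (Fin d ⊕ Fin d) F) *ᵥ Pi.single (.inr i) 1)
      ((g : Matrix (Fin d ⊕ Fin d) (Fin d ⊕ Fin d) F) *ᵥ Pi.single (.inl i) 1) := by
  classical
  have hB : ∀ u v, sf u v = spB d F u v := sf_eq_spB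
  have key : ∀ (N : ℕ) (W : Submodule F (Fin d ⊕ Fin d → F)), Module.finrank F W ≤ N → (∀ x ∈ W, T *ᵥ x ∈ W) →
      (∀ u ∈ W, (∀ v ∈ W, sf u v = 0) → u = 0) →
      ∃ (k : ℕ) (v w : Fin k → Fin d ⊕ Fin d → F), (∀ i j, sf (v i) (w j) = if i = j then 1 else 0) ∧
        (∀ i j, sf (v i) (v j) = 0) ∧ (∀ i j, sf (w i) (w j) = 0) ∧ (∀ i, R (v i) (w i)) ∧
        Submodule.span F (Set.range (Sum.elim w v)) = W := by
    intro N
    induction N with
    | zero =>
      intro W hN _ _
      exact ⟨0, Fin.elim0, Fin.elim0, fun i => i.elim0, fun i => i.elim0, fun i => i.elim0, fun i => i.elim0,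
        by simp [Submodule.finrank_eq_zero.1 (Nat.le_zero.1 hN)]⟩
    | succ N ih =>
      intro W hN hTW hW
      by_cases hne : W = ⊥
      · exact ⟨0, Fin.elim0, Fin.elim0, fun i => i.elim0, fun i => i.elim0, fun i => i.elim0, fun i => i.elim0,
          by simp [hne]⟩
      obtain ⟨v, hv, w, hw, hvw, hR, hTv, hTw⟩ := step W hTW hne hW
      let W' : Submodule F (Fin d ⊕ Fin d → F) :=
        W ⊓ (LinearMap.ker ((spB d F).flip v) ⊓ LinearMap.ker ((spB d F).flip w))
      have hmem : ∀ x, x ∈ W' ↔ x ∈ W ∧ sf x v = 0 ∧ sf x w = 0 := by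
        intro x
        simp [W', LinearMap.mem_ker]
      have hwv : sf w v = -1 := by rw [sf_swap, hvw]
      have hsplit : ∀ x ∈ W, x - sf x w • v + sf x v • w ∈ W' := by
        intro x hx
        refine (hmem _).2 ⟨W.add_mem (W.sub_mem hx (W.smul_mem _ hv)) (W.smul_mem _ hw), ?_, ?_⟩ <;>
        · simp only [hB, map_add, map_sub, map_smul, LinearMap.add_apply, LinearMap.sub_apply, LinearMap.smul_apply, smul_eq_mul]
          simp only [← hB, sf_self, hvw, hwv]
          ring
      have hspan : ∀ y ∈ W', ∀ z ∈ Submodule.span F {v, w}, sf y z = 0 := by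
        intro y hy z hz
        obtain ⟨b, b', rfl⟩ := Submodule.mem_span_pair.1 hz
        obtain ⟨-, h1, h2⟩ := (hmem _).1 hy
        rw [hB, map_add, map_smul, map_smul, ← hB, ← hB, h1, h2, smul_zero, smul_zero, add_zero]
      have hlt : Module.finrank F W' < Module.finrank F W := by
        refine Submodule.finrank_lt_finrank_of_lt (lt_of_le_of_ne inf_le_left fun h => ?_)
        have h1 := ((hmem v).1 (h.symm ▸ hv)).2.2
        rw [hvw] at h1
        exact one_ne_zero h1
      obtain ⟨k, vs, ws, h1, h2, h3, h4, h5⟩ := ih W' (by omega) (fun x hx => by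
        refine (hmem _).2 ⟨hTW x ((hmem x).1 hx).1, ?_, ?_⟩ <;> rw [hT] <;>
          simp [hspan x hx _ hTv, hspan x hx _ hTw]) (fun y hy h => by
        refine hW y ((hmem y).1 hy).1 fun x hx => ?_
        have e1 := h _ (hsplit x hx)
        obtain ⟨-, e2, e3⟩ := (hmem _).1 hy
        simp only [hB, map_add, map_sub, map_smul, smul_eq_mul] at e1
        simp only [← hB, e2, e3, mul_zero, sub_zero, add_zero] at e1
        exact e1)
      have hperp : ∀ i, (sf (vs i) v = 0 ∧ sf (vs i) w = 0) ∧ (sf (ws i) v = 0 ∧ sf (ws i) w = 0) := fun i => by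
        have a1 : vs i ∈ W' := h5 ▸ Submodule.subset_span ⟨Sum.inr i, rfl⟩
        have a2 : ws i ∈ W' := h5 ▸ Submodule.subset_span ⟨Sum.inl i, rfl⟩
        exact ⟨((hmem _).1 a1).2, ((hmem _).1 a2).2⟩
      refine ⟨k + 1, Fin.cons v vs, Fin.cons w ws, fun i j => ?_, fun i j => ?_, fun i j => ?_, fun i => ?_, ?_⟩
      · refine Fin.cases ?_ (fun i => ?_) i <;> refine Fin.cases ?_ (fun j => ?_) j
        · simpa using hvw
        · simp [(Fin.succ_ne_zero j).symm, sf_swap v (ws j), (hperp j).2.1]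
        · simp [Fin.succ_ne_zero i, (hperp i).1.2]
        · simpa using h1 i j
      · refine Fin.cases ?_ (fun i => ?_) i <;> refine Fin.cases ?_ (fun j => ?_) j
        · simp [sf_self]
        · simp [sf_swap v (vs j), (hperp j).1.1]
        · simp [(hperp i).1.1]
        · simpa using h2 i j
      · refine Fin.cases ?_ (fun i => ?_) i <;> refine Fin.cases ?_ (fun j => ?_) j
        · simp [sf_self]
        · simp [sf_swap w (ws j), (hperp j).2.2]
        · simp [(hperp i).2.2]
        · simpa using h3 i j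
      · refine Fin.cases ?_ (fun i => ?_) i
        · simpa using hR
        · simpa using h4 i
      · apply le_antisymm
        · rw [Submodule.span_le]
          rintro - ⟨s, rfl⟩
          rcases s with s | s <;> refine Fin.cases ?_ (fun j => ?_) s
          · simpa using hw
          · have : ws j ∈ W' := h5 ▸ Submodule.subset_span ⟨Sum.inl j, rfl⟩
            simpa using ((hmem _).1 this).1
          · simpa using hv
          · have : vs j ∈ W' := h5 ▸ Submodule.subset_span ⟨Sum.inr j, rfl⟩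
            simpa using ((hmem _).1 this).1
        · intro x hx
          have hle : W' ≤ Submodule.span F (Set.range (Sum.elim (Fin.cons w ws) (Fin.cons v vs))) := by
            rw [← h5]
            refine Submodule.span_mono ?_
            rintro - ⟨s | s, rfl⟩
            · exact ⟨Sum.inl s.succ, by simp⟩
            · exact ⟨Sum.inr s.succ, by simp⟩
          rw [show x = (x - sf x w • v + sf x v • w) + sf x w • v - sf x v • w by abel]
          exact Submodule.sub_mem _ (Submodule.add_mem _ (hle (hsplit x hx))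
            (Submodule.smul_mem _ _ (Submodule.subset_span ⟨Sum.inr 0, by simp⟩)))
            (Submodule.smul_mem _ _ (Submodule.subset_span ⟨Sum.inl 0, by simp⟩))
  obtain ⟨k, v, w, h1, h2, h3, h4, h5⟩ := key _ ⊤ le_rfl (fun _ _ => trivial) (fun u _ h => sf_nd fun v => h v trivial)
  let L : (Fin k ⊕ Fin k → F) →ₗ[F] (Fin d ⊕ Fin d → F) := Fintype.linearCombination F (Sum.elim w v)
  have hwv : ∀ i j, sf (w i) (v j) = if i = j then -1 else 0 := fun i j => by
    rw [sf_swap, h1]
    by_cases h : i = j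
    · rw [h]; simp
    · simp [h, Ne.symm h]
  have hL : ∀ u t, sf (L u) (L t) = Cfsg.sympForm k F u t := by
    intro u t
    simp only [L, Fintype.linearCombination_apply, Fintype.sum_sum_type, Sum.elim_inl, Sum.elim_inr, hB, map_add,
      map_sum, map_smul, LinearMap.add_apply, LinearMap.coe_sum, Finset.sum_apply, LinearMap.smul_apply, smul_eq_mul]
    simp only [← hB, h1, h2, h3, hwv, sympForm_eq, mul_ite, mul_zero, Finset.sum_const_zero, add_zero, zero_add,
      Finset.sum_ite_eq', Finset.mem_univ, if_true, Finset.sum_sub_distrib]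
    simp only [mul_one, mul_neg, Finset.sum_neg_distrib]
    rw [← sub_eq_add_neg]
    congr 1 <;> exact Finset.sum_congr rfl fun _ _ => mul_comm _ _
  have hinj : Function.Injective L := (injective_iff_map_eq_zero L).2 fun u hu => (spB_nondeg k F).1 u fun t => by
    rw [spB_apply, ← hL, hu, hB, map_zero, LinearMap.zero_apply]
  have hsurj : Function.Surjective L := by
    rw [← LinearMap.range_eq_top, Fintype.range_linearCombination]
    exact h5
  have hk : k = d := by
    have := (LinearEquiv.ofBijective L ⟨hinj, hsurj⟩).finrank_eq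
    simp at this
    omega
  subst hk
  obtain ⟨g, hg, hgv⟩ := exists_gl_of_linear L hL
  refine ⟨g, hg, fun i => ?_⟩
  rw [hgv, hgv]
  simp only [L, Fintype.linearCombination_apply_single, one_smul, Sum.elim_inr, Sum.elim_inl]
  exact h4 i

/-- The standard anti-adjoint matrix with square `a`. -/
def Sa (d : ℕ) (a : F) : Matrix (Fin d ⊕ Fin d) (Fin d ⊕ Fin d) F := Matrix.fromBlocks 0 1 (a • 1) 0

theorem Sa_apply (a : F) (v : Fin d ⊕ Fin d → F) :
    Sa d a *ᵥ v = Sum.elim (fun i => v (.inr i)) (fun i => a * v (.inl i)) := by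
  rw [Sa, Matrix.fromBlocks_mulVec]
  funext s
  rcases s with i | i <;> simp [Matrix.smul_mulVec]

theorem Sa_sq (a : F) : Sa d a * Sa d a = a • 1 := by
  rw [Sa, Matrix.fromBlocks_multiply, ← Matrix.fromBlocks_one, Matrix.fromBlocks_smul]
  simp

theorem Sa_anti (a : F) (u v : Fin d ⊕ Fin d → F) : sf (Sa d a *ᵥ u) v = - sf u (Sa d a *ᵥ v) := by
  rw [sympForm_eq, sympForm_eq, ← Finset.sum_neg_distrib]
  refine Finset.sum_congr rfl fun i _ => ?_
  simp only [Sa_apply, Sum.elim_inl, Sum.elim_inr]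
  ring

theorem exists_conj_Sa [Finite F] (h2 : (2 : F) ≠ 0) {a : F} (ha : a ≠ 0)
    (κ : Matrix (Fin d ⊕ Fin d) (Fin d ⊕ Fin d) F) (hκ : κ * κ = a • 1)
    (hanti : ∀ u v, sf (κ *ᵥ u) v = - sf u (κ *ᵥ v)) :
    ∃ g ∈ Cfsg.spGL d F, κ * (g : Matrix (Fin d ⊕ Fin d) (Fin d ⊕ Fin d) F) = (g : Matrix (Fin d ⊕ Fin d) (Fin d ⊕ Fin d) F) * Sa d a := by
  classical
  have hκκ : ∀ u, κ *ᵥ (κ *ᵥ u) = a • u := fun u => by
    rw [Matrix.mulVec_mulVec, hκ, Matrix.smul_mulVec, Matrix.one_mulVec]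
  obtain ⟨g, hg, hR⟩ := exists_adapted_basis κ (-1) (fun u v => by rw [hanti, neg_one_mul]) (fun v w => w = κ *ᵥ v)
    (fun W hTW hne hW => by
      let B : LinearMap.BilinForm F W := LinearMap.mk₂ F (fun u v : W => sf (u : Fin d ⊕ Fin d → F) (κ *ᵥ (v : Fin d ⊕ Fin d → F)))
        (fun x y v => by simp [sf_eq_spB, -spB_apply]) (fun c x v => by simp [sf_eq_spB, -spB_apply])
        (fun x y v => by simp [sf_eq_spB, Matrix.mulVec_add, -spB_apply]) (fun c x v => by simp [sf_eq_spB, Matrix.mulVec_smul, -spB_apply])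
      have hBs : ∀ u v, B u v = B v u := fun u v => by
        show sf _ _ = sf _ _
        rw [sf_swap, hanti, neg_neg]
      let Qw : QuadraticForm F W := LinearMap.BilinMap.toQuadraticMap B
      have hQ : Cfsg.Agent.Orthogonal.Nondeg Qw := by
        intro u hu
        refine Subtype.ext (hW _ u.2 fun v hv => ?_)
        have h1 := hu ⟨a⁻¹ • κ *ᵥ v, W.smul_mem _ (hTW v hv)⟩
        rw [LinearMap.BilinMap.polar_toQuadraticMap, hBs _ u, ← two_mul] at h1
        have h3 := (mul_eq_zero.1 h1).resolve_left h2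
        change sf (u : Fin d ⊕ Fin d → F) (κ *ᵥ (a⁻¹ • κ *ᵥ v)) = 0 at h3
        rwa [Matrix.mulVec_smul, hκκ, smul_smul, inv_mul_cancel₀ ha, one_smul] at h3
      obtain ⟨u, hu, hu0⟩ := W.exists_mem_ne_zero_of_ne_bot hne
      obtain ⟨t, ht, htu⟩ : ∃ t ∈ W, sf u t ≠ 0 := by
        by_contra hno
        push Not at hno
        exact hu0 (hW u hu hno)
      have hdim : 2 ≤ Module.finrank F W := by
        have hli : LinearIndependent F ![(⟨u, hu⟩ : W), ⟨t, ht⟩] := by
          refine LinearIndependent.pair_iff.2 fun b b' h => ?_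
          have h' : b • u + b' • t = 0 := congrArg Subtype.val h
          have e1 : sf (b • u + b' • t) t = 0 := by rw [h', sf_eq_spB, map_zero, LinearMap.zero_apply]
          have e2 : sf u (b • u + b' • t) = 0 := by rw [h', sf_eq_spB, map_zero]
          simp only [sf_eq_spB, map_add, map_smul, LinearMap.add_apply, LinearMap.smul_apply, smul_eq_mul] at e1 e2
          simp only [← sf_eq_spB, sf_self, mul_zero, add_zero, zero_add] at e1 e2
          exact ⟨(mul_eq_zero.1 e1).resolve_right htu, (mul_eq_zero.1 e2).resolve_right htu⟩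
        simpa using hli.fintype_card_le_finrank
      obtain ⟨v, hv⟩ := hQ.exists_value hdim 1
      refine ⟨v, v.2, κ *ᵥ v, hTW v v.2, hv, rfl, Submodule.subset_span (by simp), ?_⟩
      rw [hκκ]
      exact Submodule.smul_mem _ _ (Submodule.subset_span (by simp)))
  refine ⟨g, hg, Matrix.ext_of_mulVec_single fun s => ?_⟩
  rw [← Matrix.mulVec_mulVec, ← Matrix.mulVec_mulVec]
  rcases s with i | i
  · rw [hR i, hκκ, show Sa d a *ᵥ Pi.single (Sum.inl i) 1 = a • Pi.single (Sum.inr i) 1 by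
      funext s; rw [Sa_apply]; rcases s with j | j <;> simp [Pi.single_apply], Matrix.mulVec_smul]
  · rw [← hR i, show Sa d a *ᵥ Pi.single (Sum.inr i) 1 = Pi.single (Sum.inl i) 1 by
      funext s; rw [Sa_apply]; rcases s with j | j <;> simp [Pi.single_apply]]

/-- Commuting or anticommuting with the standard matrix. -/
def Good (a : F) (y : Matrix (Fin d ⊕ Fin d) (Fin d ⊕ Fin d) F) : Prop :=
  ∃ ε : F, (ε = 1 ∨ ε = -1) ∧ y * Sa d a = ε • (Sa d a * y)

/-- Every element of prime order `r` modulo scalars is conjugate to a good one. -/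
def AllGood (d : ℕ) (a : F) (r : ℕ) : Prop :=
  ∀ x ∈ Cfsg.spGL d F,
    (∃ z : F, ((x ^ r : GL (Fin d ⊕ Fin d) F) : Matrix (Fin d ⊕ Fin d) (Fin d ⊕ Fin d) F) = z • (1 : Matrix (Fin d ⊕ Fin d) (Fin d ⊕ Fin d) F)) →
    (∀ z : F, (x : Matrix (Fin d ⊕ Fin d) (Fin d ⊕ Fin d) F) ≠ z • (1 : Matrix (Fin d ⊕ Fin d) (Fin d ⊕ Fin d) F)) →
    ∃ h ∈ Cfsg.spGL d F, Good a ((h⁻¹ * x * h : GL (Fin d ⊕ Fin d) F) : Matrix (Fin d ⊕ Fin d) (Fin d ⊕ Fin d) F)

theorem two_cases [Finite F] (h2 : (2 : F) ≠ 0) {a : F} (hd : 0 < d) (ha : a ≠ 0) : AllGood d a 2 := by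
  classical
  intro x hx hxz _
  obtain ⟨z, hz⟩ := hxz
  rw [Units.val_pow_eq_pow_val, sq] at hz
  set X := (x : Matrix (Fin d ⊕ Fin d) (Fin d ⊕ Fin d) F)
  have hXX : ∀ u, X *ᵥ (X *ᵥ u) = z • u := fun u => by
    rw [Matrix.mulVec_mulVec, hz, Matrix.smul_mulVec, Matrix.one_mulVec]
  have hz2 : z * z = 1 := by
    let i : Fin d := ⟨0, hd⟩
    have h1 := hx (X *ᵥ Pi.single (.inr i) 1) (X *ᵥ Pi.single (.inl i) 1)
    have h3 := (mem_spGL.1 hx) (Pi.single (.inr i) 1) (Pi.single (.inl i) 1)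
    have h4 : sf (Pi.single (.inr i) 1) (Pi.single (.inl i) 1) = (1 : F) := by
      rw [sf_eq_spB, spB_single]; simp [Matrix.J]
    change sf (X *ᵥ (X *ᵥ _)) (X *ᵥ (X *ᵥ _)) = sf (X *ᵥ _) (X *ᵥ _) at h1
    rw [hXX, hXX, h3, h4] at h1
    simp only [sf_eq_spB, map_smul, LinearMap.smul_apply, smul_eq_mul] at h1
    rw [← sf_eq_spB, h4, mul_one] at h1
    exact h1
  have hadj : ∀ u v, sf (X *ᵥ u) v = z * sf u (X *ᵥ v) := fun u v => by
    have h1 : sf (X *ᵥ (X *ᵥ u)) (X *ᵥ v) = sf (X *ᵥ u) v := mem_spGL.1 hx _ _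
    rw [hXX] at h1
    rw [← h1, sf_eq_spB, map_smul, LinearMap.smul_apply, smul_eq_mul, ← sf_eq_spB]
  rcases mul_self_eq_one_iff.1 hz2 with rfl | rfl
  · obtain ⟨g, hg, hR⟩ := exists_adapted_basis X 1 hadj
      (fun v w => ∃ ε : F, (ε = 1 ∨ ε = -1) ∧ X *ᵥ v = ε • v ∧ X *ᵥ w = ε • w)
      (fun W hTW hne hW => by
        obtain ⟨u, hu, hu0⟩ := W.exists_mem_ne_zero_of_ne_bot hne
        obtain ⟨v, hv, hv0, ε, hε, hev⟩ : ∃ v ∈ W, v ≠ 0 ∧ ∃ ε : F, (ε = 1 ∨ ε = -1) ∧ X *ᵥ v = ε • v := by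
          by_cases h : u + X *ᵥ u = 0
          · exact ⟨u, hu, hu0, -1, Or.inr rfl, by rw [neg_one_smul]; exact eq_neg_of_add_eq_zero_right h⟩
          · exact ⟨u + X *ᵥ u, W.add_mem hu (hTW u hu), h, 1, Or.inl rfl, by
              rw [Matrix.mulVec_add, hXX, one_smul, one_smul, add_comm]⟩
        have hεε : ε * ε = 1 := by rcases hε with rfl | rfl <;> simp
        obtain ⟨t, ht, htv⟩ : ∃ t ∈ W, sf v t ≠ 0 := by
          by_contra hno
          push Not at hno
          exact hv0 (hW v hv hno)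
        set c : F := (2 * sf v t)⁻¹ with hc
        refine ⟨v, hv, c • (t + ε • X *ᵥ t), W.smul_mem _ (W.add_mem ht (W.smul_mem _ (hTW t ht))), ?_,
          ⟨ε, hε, hev, ?_⟩, ?_, ?_⟩
        · have h1 := hadj v t
          rw [hev, one_mul] at h1
          simp only [sf_eq_spB, map_smul, map_add, LinearMap.smul_apply, smul_eq_mul] at h1 ⊢
          rw [← h1, hc]
          simp only [← sf_eq_spB]
          rw [← mul_assoc ε ε, hεε, one_mul, ← two_mul, inv_mul_cancel₀ (mul_ne_zero h2 htv)]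
        · rw [Matrix.mulVec_smul, Matrix.mulVec_add, Matrix.mulVec_smul, hXX, one_smul, smul_comm ε c, smul_add ε,
            smul_smul ε ε, hεε, one_smul, add_comm]
        · rw [hev]; exact Submodule.smul_mem _ _ (Submodule.subset_span (by simp))
        · rw [Matrix.mulVec_smul, Matrix.mulVec_add, Matrix.mulVec_smul, hXX, one_smul,
            show X *ᵥ t + ε • t = ε • (t + ε • X *ᵥ t) by rw [smul_add, smul_smul, hεε, one_smul, add_comm],
            smul_comm]
          exact Submodule.smul_mem _ _ (Submodule.subset_span (by simp)))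
    choose ε hε hev hew using hR
    refine ⟨g, hg, 1, Or.inl rfl, ?_⟩
    have hy : ((g⁻¹ * x * g : GL (Fin d ⊕ Fin d) F) : Matrix (Fin d ⊕ Fin d) (Fin d ⊕ Fin d) F) =
        Matrix.diagonal (Sum.elim ε ε) := by
      rw [Units.val_mul, Units.val_mul, mul_assoc]
      refine Matrix.ext_of_mulVec_single fun s => ?_
      rw [← Matrix.mulVec_mulVec, ← Matrix.mulVec_mulVec]
      rcases s with i | i
      · rw [hew i, Matrix.mulVec_smul, Matrix.mulVec_mulVec, Units.inv_mul, Matrix.one_mulVec]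
        funext s; by_cases h : s = Sum.inl i <;> simp [h, Matrix.mulVec_diagonal]
      · rw [hev i, Matrix.mulVec_smul, Matrix.mulVec_mulVec, Units.inv_mul, Matrix.one_mulVec]
        funext s; by_cases h : s = Sum.inr i <;> simp [h, Matrix.mulVec_diagonal]
    rw [hy, one_smul]
    refine Matrix.ext_iff_mulVec.2 fun v => ?_
    rw [← Matrix.mulVec_mulVec, ← Matrix.mulVec_mulVec, Sa_apply, Sa_apply]
    funext s
    rcases s with i | i <;> simp [Matrix.mulVec_diagonal] <;> ring
  · obtain ⟨s, t, hst⟩ := Cfsg.Agent.Orthogonal.exists_sq_add_sq (one_ne_zero (α := F)) (neg_ne_zero.2 ha) (-1)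
    let Y : Matrix (Fin d ⊕ Fin d) (Fin d ⊕ Fin d) F :=
      Matrix.fromBlocks (s • 1) (t • 1) ((-(a * t)) • 1) ((-s) • 1)
    have hY : ∀ v, Y *ᵥ v = Sum.elim (fun i => s * v (.inl i) + t * v (.inr i))
        (fun i => -(a * t) * v (.inl i) + -s * v (.inr i)) := by
      intro v
      rw [Matrix.fromBlocks_mulVec]
      funext q
      rcases q with i | i <;> simp [Matrix.smul_mulVec, Matrix.neg_mulVec]
    have hYY : Y * Y = (-1 : F) • 1 := by
      refine Matrix.ext_iff_mulVec.2 fun v => funext fun q => ?_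
      rw [← Matrix.mulVec_mulVec, hY, hY, Matrix.smul_mulVec, Matrix.one_mulVec]
      rcases q with i | i <;> simp
      · linear_combination (v (.inl i)) * hst
      · linear_combination (v (.inr i)) * hst
    obtain ⟨gY, hgY, hgYv⟩ := exists_gl_of_linear (Matrix.toLin' Y) (fun u v => by
      simp only [Matrix.toLin'_apply, sympForm_eq, hY, Sum.elim_inl, Sum.elim_inr]
      refine Finset.sum_congr rfl fun i _ => ?_
      linear_combination -(u (.inr i) * v (.inl i) - u (.inl i) * v (.inr i)) * hst)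
    have hYanti : ∀ u v, sf (Y *ᵥ u) v = - sf u (Y *ᵥ v) := fun u v => by
      have h1 : sf (Y *ᵥ (Y *ᵥ u)) (Y *ᵥ v) = sf (Y *ᵥ u) v := by
        have := mem_spGL.1 hgY (Y *ᵥ u) v
        simpa [hgYv] using this
      rw [Matrix.mulVec_mulVec, hYY, Matrix.smul_mulVec, Matrix.one_mulVec, sf_eq_spB, map_smul, LinearMap.smul_apply,
        smul_eq_mul, neg_one_mul, ← sf_eq_spB] at h1
      rw [← h1]
    obtain ⟨g₁, hg₁, h₁⟩ := exists_conj_Sa h2 (neg_ne_zero.2 (one_ne_zero (α := F))) X hz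
      (fun u v => by rw [hadj, neg_one_mul])
    obtain ⟨g₂, hg₂, h₂⟩ := exists_conj_Sa h2 (neg_ne_zero.2 (one_ne_zero (α := F))) Y hYY hYanti
    refine ⟨g₁ * g₂⁻¹, Subgroup.mul_mem _ hg₁ (Subgroup.inv_mem _ hg₂), -1, Or.inr rfl, ?_⟩
    have hy : ((((g₁ * g₂⁻¹)⁻¹ * x * (g₁ * g₂⁻¹)) : GL (Fin d ⊕ Fin d) F) : Matrix (Fin d ⊕ Fin d) (Fin d ⊕ Fin d) F) = Y := by
      rw [show (g₁ * g₂⁻¹)⁻¹ * x * (g₁ * g₂⁻¹) = g₂ * (g₁⁻¹ * (x * g₁)) * g₂⁻¹ by group, Units.val_mul, Units.val_mul,
        Units.val_mul, Units.val_mul]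
      change _ * (_ * (X * _)) * _ = Y
      rw [h₁, Units.inv_mul_cancel_left, ← h₂, Units.mul_inv_cancel_right]
    rw [hy]
    refine Matrix.ext_iff_mulVec.2 fun v => ?_
    rw [← Matrix.mulVec_mulVec, Matrix.smul_mulVec, ← Matrix.mulVec_mulVec, hY, hY]
    funext q
    rcases q with i | i <;> simp [Sa_apply] <;> ring

/-! ### Derangements -/

/-- No anti-adjoint square root of `a` commutes with the element. -/
def IsObstructed (a : F) (x : Matrix (Fin d ⊕ Fin d) (Fin d ⊕ Fin d) F) : Prop :=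
  ∀ κ : Matrix (Fin d ⊕ Fin d) (Fin d ⊕ Fin d) F, κ * κ = a • 1 → (∀ u v, sf (κ *ᵥ u) v = - sf u (κ *ᵥ v)) →
    κ * x ≠ x * κ

theorem not_allGood (h2 : (2 : F) ≠ 0) {a : F} {r : ℕ} (hr : Odd r) (x : GL (Fin d ⊕ Fin d) F)
    (hx : x ∈ Cfsg.spGL d F) (hxr : x ^ r = 1)
    (hns : ∀ z : F, (x : Matrix (Fin d ⊕ Fin d) (Fin d ⊕ Fin d) F) ≠ z • (1 : Matrix (Fin d ⊕ Fin d) (Fin d ⊕ Fin d) F))
    (ha : a ≠ 0) (hd : 0 < d) (hobs : IsObstructed a (x : Matrix (Fin d ⊕ Fin d) (Fin d ⊕ Fin d) F)) :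
    ¬ AllGood d a r := by
  intro hall
  obtain ⟨h, hh, ε, hε, hy⟩ := hall x hx ⟨1, by rw [hxr, one_smul]; rfl⟩ hns
  set y := h⁻¹ * x * h with hydef
  have hyr : y ^ r = 1 := by
    have := conj_pow (i := r) (a := h⁻¹) (b := x)
    rw [inv_inv] at this
    rw [hydef, this, hxr, mul_one, inv_mul_cancel]
  have hpow : ∀ k : ℕ, ((y ^ k : GL (Fin d ⊕ Fin d) F) : Matrix (Fin d ⊕ Fin d) (Fin d ⊕ Fin d) F) * Sa d a =
      ε ^ k • (Sa d a * ((y ^ k : GL (Fin d ⊕ Fin d) F) : Matrix (Fin d ⊕ Fin d) (Fin d ⊕ Fin d) F)) := by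
    intro k
    induction k with
    | zero => simp
    | succ k ih =>
      rw [pow_succ, Units.val_mul, mul_assoc, hy, Matrix.mul_smul, ← mul_assoc, ih, Matrix.smul_mul, smul_smul,
        pow_succ', mul_assoc (Sa d a)]
  have hε1 : ε = 1 := by
    rcases hε with h | h
    · exact h
    · exfalso
      have h1 := hpow r
      rw [hyr, Units.val_one, one_mul, mul_one, h, hr.neg_one_pow] at h1
      have h3 := congrFun (congrFun h1 (.inl ⟨0, hd⟩)) (.inr ⟨0, hd⟩)
      simp [Sa] at h3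
      exact h2 (by linear_combination h3)
  refine hobs ((h : Matrix (Fin d ⊕ Fin d) (Fin d ⊕ Fin d) F) * Sa d a * ((h⁻¹ : GL (Fin d ⊕ Fin d) F) : Matrix (Fin d ⊕ Fin d) (Fin d ⊕ Fin d) F)) ?_ ?_ ?_
  · simp only [mul_assoc, Units.inv_mul_cancel_left]
    rw [← mul_assoc (Sa d a), Sa_sq, Matrix.smul_mul, one_mul, Matrix.mul_smul, Units.mul_inv]
  · intro u v
    have hi := mem_spGL.1 (Subgroup.inv_mem _ hh)
    have hf := mem_spGL.1 hh
    rw [← Matrix.mulVec_mulVec, ← Matrix.mulVec_mulVec]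
    conv_lhs => arg 4; rw [← Matrix.one_mulVec v, ← Units.mul_inv h, ← Matrix.mulVec_mulVec]
    rw [hf, Sa_anti, ← hf]
    simp [Matrix.mulVec_mulVec, mul_assoc]
  · rw [hε1, one_smul] at hy
    have e : x = h * y * h⁻¹ := by rw [hydef]; group
    rw [e, Units.val_mul, Units.val_mul]
    simp only [mul_assoc, Units.inv_mul_cancel_left]
    rw [← mul_assoc (Sa d a), ← hy, mul_assoc]

theorem not_allGood_char (h2 : (2 : F) ≠ 0) (p : ℕ) [Fact p.Prime] [CharP F p] (hp : p ≠ 2) (hd : 0 < d)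
    {a : F} (ha : ¬ IsSquare a) : ¬ AllGood d a p := by
  classical
  let i : Fin d := ⟨0, hd⟩
  let N : Matrix (Fin d ⊕ Fin d) (Fin d ⊕ Fin d) F := Matrix.single (.inl i) (.inr i) 1
  have hN : ∀ v, N *ᵥ v = v (.inr i) • Pi.single (.inl i) (1 : F) := by
    intro v
    funext s
    by_cases h : s = Sum.inl i
    · subst h; simp [N, Matrix.mulVec, dotProduct, Matrix.single_apply]
    · simp [N, Matrix.mulVec, dotProduct, Matrix.single_apply, h, Ne.symm h]
  obtain ⟨x, hx, hxv⟩ := exists_gl_of_linear (Matrix.toLin' (1 + N)) (fun u v => by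
    simp only [Matrix.toLin'_apply, Matrix.add_mulVec, Matrix.one_mulVec, hN, sympForm_eq]
    refine Finset.sum_congr rfl fun j _ => ?_
    by_cases h : j = i
    · subst h; simp; ring
    · simp [h])
  have hxN : (x : Matrix (Fin d ⊕ Fin d) (Fin d ⊕ Fin d) F) = 1 + N :=
    Matrix.ext_iff_mulVec.2 fun v => by rw [hxv]; rfl
  have hN2 : N ^ 2 = 0 := by simp [sq, N]
  have hp2 := (Fact.out : p.Prime).two_le
  have hxp : x ^ p = 1 := by
    haveI : Nonempty (Fin d ⊕ Fin d) := ⟨.inl i⟩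
    refine Units.ext ?_
    rw [Units.val_pow_eq_pow_val, hxN, add_pow_char_of_commute (R := Matrix (Fin d ⊕ Fin d) (Fin d ⊕ Fin d) F) p (Commute.one_left N),
      one_pow, show N ^ p = N ^ 2 * N ^ (p - 2) by rw [← pow_add]; congr 1; omega, hN2, zero_mul, add_zero, Units.val_one]
  refine not_allGood h2 ((Fact.out : p.Prime).odd_of_ne_two hp) x hx hxp (fun z hz => ?_)
    (fun h => ha (h ▸ IsSquare.zero)) hd ?_
  · have := congrFun (congrFun hz (.inl i)) (.inr i)
    simp [hxN, N] at this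
  · intro κ hκ _ hcomm
    rw [hxN, mul_add, add_mul, mul_one, one_mul, add_right_inj] at hcomm
    have hc : ∀ v, κ *ᵥ (N *ᵥ v) = N *ᵥ (κ *ᵥ v) := fun v => by rw [Matrix.mulVec_mulVec, Matrix.mulVec_mulVec, hcomm]
    have h1 := hc (Pi.single (.inr i) 1)
    rw [hN, hN, Pi.single_eq_same, one_smul] at h1
    set c := (κ *ᵥ Pi.single (Sum.inr i) (1 : F)) (Sum.inr i)
    have h3 : κ *ᵥ (κ *ᵥ Pi.single (Sum.inl i) (1 : F)) = κ *ᵥ (c • Pi.single (Sum.inl i) (1 : F)) := congrArg (κ *ᵥ ·) h1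
    rw [Matrix.mulVec_mulVec, hκ, Matrix.smul_mulVec, Matrix.one_mulVec, Matrix.mulVec_smul, h1, smul_smul] at h3
    have h4 := congrFun h3 (.inl i)
    simp at h4
    exact ha ⟨c, h4⟩

/-- An element of the symplectic group from a space with form and isometry. -/
theorem exists_model {P : Type*} [AddCommGroup P] [Module F P] [FiniteDimensional F P]
    (B : LinearMap.BilinForm F P) (hA : B.IsAlt) (hB : B.Nondegenerate) (X : Module.End F P)
    (hX : ∀ u v, B (X u) (X v) = B u v) {r : ℕ} (hXr : X ^ r = 1) (hdim : Module.finrank F P ≤ 2 * d)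
    (ψ : F[X]) (hψ1 : ψ.eval 1 ≠ 0) :
    ∃ x : GL (Fin d ⊕ Fin d) F, x ∈ Cfsg.spGL d F ∧ x ^ r = 1 ∧
      (∀ z : F, (x : Matrix (Fin d ⊕ Fin d) (Fin d ⊕ Fin d) F) = z • (1 : Matrix (Fin d ⊕ Fin d) (Fin d ⊕ Fin d) F) → ∀ u, X u = z • u) ∧
      ∀ (a : F) (κ : Matrix (Fin d ⊕ Fin d) (Fin d ⊕ Fin d) F), κ * κ = a • 1 →
        (∀ u v, sf (κ *ᵥ u) v = - sf u (κ *ᵥ v)) → κ * (x : Matrix (Fin d ⊕ Fin d) (Fin d ⊕ Fin d) F) = (x : Matrix (Fin d ⊕ Fin d) (Fin d ⊕ Fin d) F) * κ →
        ∃ k : Module.End F P, Commute k X ∧ (∀ u v, B (k u) v = - B u (k v)) ∧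
          ∀ u, aeval X ψ u = 0 → k (k u) = a • u := by
  classical
  obtain ⟨m, -, hm, -⟩ := exists_std_equiv hA hB
  let M := P × (Fin (d - m) ⊕ Fin (d - m) → F)
  let BM : LinearMap.BilinForm F M :=
    B.comp (LinearMap.fst F P _) (LinearMap.fst F P _) +
      (spB (d - m) F).comp (LinearMap.snd F P _) (LinearMap.snd F P _)
  have hBM : ∀ u v : M, BM u v = B u.1 v.1 + spB (d - m) F u.2 v.2 := fun u v => rfl
  have hAM : BM.IsAlt := fun u => by rw [hBM, hA, spB_alt (d - m) F u.2, add_zero]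
  have hND : BM.Nondegenerate := by
    refine ⟨fun u h => Prod.ext (hB.1 _ fun v => ?_) ((spB_nondeg _ F).1 _ fun v => ?_),
      fun u h => Prod.ext (hB.2 _ fun v => ?_) ((spB_nondeg _ F).2 _ fun v => ?_)⟩
    · simpa [hBM, -spB_apply] using h (v, 0)
    · simpa [hBM, -spB_apply] using h (0, v)
    · simpa [hBM, -spB_apply] using h (v, 0)
    · simpa [hBM, -spB_apply] using h (0, v)
  obtain ⟨m', e, hm', he⟩ := exists_std_equiv hAM hND
  have hmd : m' = d := by
    simp only [M, Module.finrank_prod, Module.finrank_pi, Fintype.card_sum, Fintype.card_fin] at hm'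
    omega
  subst hmd
  let XM : Module.End F M := X.prodMap LinearMap.id
  have hXM : ∀ u : M, XM u = (X u.1, u.2) := fun u => rfl
  obtain ⟨x, hx, hxv⟩ := exists_gl_of_linear (e.conj XM) (fun u v => by
    obtain ⟨u, rfl⟩ := e.surjective u
    obtain ⟨v, rfl⟩ := e.surjective v
    simp only [LinearEquiv.conj_apply, LinearMap.coe_comp, LinearEquiv.coe_coe, Function.comp_apply,
      LinearEquiv.symm_apply_apply, he, hBM, hXM, hX])
  have hxe : ∀ u, (x : Matrix (Fin m' ⊕ Fin m') (Fin m' ⊕ Fin m') F) *ᵥ e u = e (XM u) := fun u => by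
    rw [hxv]; simp [LinearEquiv.conj_apply]
  refine ⟨x, hx, Units.ext (Matrix.ext_iff_mulVec.2 fun v => ?_), fun z hz u => ?_, fun a κ hκ hanti hcomm => ?_⟩
  · obtain ⟨v, rfl⟩ := e.surjective v
    rw [Units.val_pow_eq_pow_val, Units.val_one, Matrix.one_mulVec]
    have : ∀ k : ℕ, (x : Matrix (Fin m' ⊕ Fin m') (Fin m' ⊕ Fin m') F) ^ k *ᵥ e v = e ((X ^ k) v.1, v.2) := by
      intro k
      induction k with
      | zero => simp
      | succ k ih => rw [pow_succ', ← Matrix.mulVec_mulVec, ih, hxe, hXM, pow_succ', Module.End.mul_apply]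
    rw [this, hXr, Module.End.one_apply]
  · have h1 := hxe (u, 0)
    rw [hz, Matrix.smul_mulVec, Matrix.one_mulVec, ← map_smul, hXM] at h1
    exact (congrArg Prod.fst (e.injective h1)).symm
  · let K : Module.End F M := e.symm.conj (Matrix.toLin' κ)
    have hK : ∀ u, e (K u) = κ *ᵥ e u := fun u => by simp [K, LinearEquiv.conj_apply]
    have hKX : ∀ u, K (XM u) = XM (K u) := fun u => e.injective (by
      rw [hK, ← hxe, ← hxe, hK, Matrix.mulVec_mulVec, Matrix.mulVec_mulVec, hcomm])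
    let k : Module.End F P := LinearMap.fst F P _ ∘ₗ K ∘ₗ LinearMap.inl F P _
    have hk : ∀ u, k u = (K (u, 0)).1 := fun u => rfl
    refine ⟨k, LinearMap.ext fun u => ?_, fun u v => ?_, fun u hu => ?_⟩
    · show k (X u) = X (k u)
      rw [hk, hk, show ((X u, 0) : M) = XM (u, 0) from rfl, hKX]
      rfl
    · have h1 := hanti (e (u, 0)) (e (v, 0))
      rw [← hK, ← hK, he, he, hBM, hBM] at h1
      simpa [hk, -spB_apply] using h1
    · have hval : ∀ (Q : F[X]) (w : M), aeval XM Q w = (aeval X Q w.1, Q.eval 1 • w.2) := by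
        intro Q
        induction Q using Polynomial.induction_on' with
        | add A A' hA' hA'' =>
          intro w
          rw [map_add, LinearMap.add_apply, hA', hA'', map_add, LinearMap.add_apply, eval_add, add_smul]; rfl
        | monomial j c =>
          intro w
          have : ∀ j : ℕ, (XM ^ j) w = ((X ^ j) w.1, w.2) := by
            intro j
            induction j with
            | zero => simp
            | succ j ih => rw [pow_succ', Module.End.mul_apply, ih, hXM, pow_succ', Module.End.mul_apply]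
          rw [aeval_monomial, aeval_monomial, Module.End.mul_apply, Module.End.mul_apply, Module.algebraMap_end_apply,
            Module.algebraMap_end_apply, this, eval_monomial, one_pow, mul_one]
          rfl
      have hKQ : ∀ (Q : F[X]) (w : M), K (aeval XM Q w) = aeval XM Q (K w) := by
        intro Q
        have hc : Commute K XM := LinearMap.ext hKX
        induction Q using Polynomial.induction_on' with
        | add A A' hA' hA'' => intro w; simp [hA', hA'']
        | monomial j c =>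
          intro w
          rw [aeval_monomial, Module.End.mul_apply, Module.End.mul_apply, Module.algebraMap_end_apply,
            Module.algebraMap_end_apply, map_smul]
          congr 1
          exact LinearMap.congr_fun (hc.pow_right j).eq w
      have h1 := hKQ ψ (u, 0)
      rw [hval, hu, smul_zero, Prod.mk_zero_zero, map_zero, hval] at h1
      have h3 : (K (u, 0)).2 = 0 := (smul_eq_zero.1 (congrArg Prod.snd h1).symm).resolve_left hψ1
      have h4 : K (u, 0) = (k u, 0) := Prod.ext (hk u).symm h3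
      rw [hk (k u), ← h4]
      have h5 : K (K (u, 0)) = a • (u, 0) := e.injective (by
        rw [hK, hK, Matrix.mulVec_mulVec, hκ, Matrix.smul_mulVec, Matrix.one_mulVec, map_smul])
      rw [h5]
      rfl

theorem not_allGood_odd [Fintype F] (h2 : (2 : F) ≠ 0) (r : ℕ) (hr : r.Prime) (hr2 : r ≠ 2) (hrF : (r : F) ≠ 0)
    (hd : 0 < d) {a : F} (ha : ¬ IsSquare a) {i : ℕ} (hi : 0 < i) (hid : i ≤ d)
    (hneg : (-(Fintype.card F : ZMod r)) ^ i = -1) : ¬ AllGood d a r := by
  classical
  haveI : Fact r.Prime := ⟨hr⟩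
  have ha0 : a ≠ 0 := fun h => ha (h ▸ IsSquare.zero)
  obtain ⟨ψ, hψ, hψd⟩ : ∃ ψ : F[X], Irreducible ψ ∧ ψ ∣ cyclotomic r F := by
    obtain ⟨ψ, -, h1, h2⟩ := exists_monic_irreducible_factor (cyclotomic r F)
      (fun hu => by
        have := natDegree_eq_zero_of_isUnit hu
        rw [natDegree_cyclotomic, Nat.totient_prime hr] at this
        have := hr.two_le; omega)
    exact ⟨ψ, h1, h2⟩
  haveI : Fact (Irreducible ψ) := ⟨hψ⟩
  let L := AdjoinRoot ψ
  haveI : Module.Finite F L := (AdjoinRoot.powerBasis hψ.ne_zero).finite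
  haveI : Finite L := Module.finite_of_finite F
  set ω : L := AdjoinRoot.root ψ with hω
  have hψω : aeval ω ψ = 0 := by rw [hω, AdjoinRoot.aeval_eq, AdjoinRoot.mk_self]
  haveI : NeZero ((r : L)) := ⟨fun h => hrF ((algebraMap F L).injective (by simpa using h))⟩
  have hprim : IsPrimitiveRoot ω r := by
    rw [← isRoot_cyclotomic_iff, ← map_cyclotomic r (algebraMap F L), IsRoot.def, eval_map_algebraMap]
    obtain ⟨u, hu⟩ := hψd
    rw [hu, map_mul, hψω, zero_mul]
  have hω0 : ω ≠ 0 := hprim.ne_zero hr.ne_zero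
  have hω1 : ω ≠ 1 := hprim.ne_one hr.one_lt
  have hr3 : 2 < r := lt_of_le_of_ne hr.two_le (Ne.symm hr2)
  have hωinv : ω ≠ ω⁻¹ := fun h => by
    have : ω ^ 2 = 1 := by rw [sq]; nth_rewrite 2 [h]; rw [mul_inv_cancel₀ hω0]
    have := Nat.le_of_dvd two_pos (hprim.dvd_of_pow_eq_one 2 this)
    omega
  have hψ1 : ψ.eval 1 ≠ 0 := by
    intro h0
    have h1 : (cyclotomic r F).eval 1 = 0 := by
      obtain ⟨u, hu⟩ := hψd; rw [hu, eval_mul, h0, zero_mul]
    rw [eval_one_cyclotomic_prime] at h1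
    exact hrF h1
  set e := ψ.natDegree with he
  have hfe : Module.finrank F L = e := by
    rw [(AdjoinRoot.powerBasis hψ.ne_zero).finrank, AdjoinRoot.powerBasis_dim]
  set q := Fintype.card F with hq
  have hpow : ∀ t : ℕ, (q : ZMod r) ^ t = 1 → e ∣ t := by
    intro t ht
    refine Irreducible.natDegree_dvd_of_dvd_X_pow_card_pow_sub_X hψ ?_
    rw [← AdjoinRoot.mk_eq_zero, ← AdjoinRoot.aeval_eq, map_sub, map_pow, aeval_X, sub_eq_zero,
      Nat.card_eq_fintype_card, ← hq, ← pow_mod_orderOf, ← hprim.eq_orderOf]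
    have : q ^ t % r = 1 % r := (ZMod.natCast_eq_natCast_iff' _ _ _).1 (by simpa using ht)
    rw [this, Nat.mod_eq_of_lt hr.one_lt, pow_one]
  have hqe : (q : ZMod r) ^ e = 1 := by
    have h1 : ω ^ (Nat.card L) = ω := by
      haveI := Fintype.ofFinite L
      rw [Nat.card_eq_fintype_card]; exact FiniteField.pow_card ω
    rw [Module.natCard_eq_pow_finrank (K := F), hfe, Nat.card_eq_fintype_card, ← hq] at h1
    have h3 : q ^ e ≡ 1 [MOD r] := by
      rw [hprim.eq_orderOf]
      exact (IsOfFinOrder.pow_eq_pow_iff_modEq (hprim.isOfFinOrder hr.pos.ne')).1 (by rwa [pow_one])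
    simpa using (ZMod.natCast_eq_natCast_iff _ _ _).2 h3
  have hne1 : (-1 : ZMod r) ≠ 1 := fun h => by
    have : r ∣ 2 := (ZMod.natCast_eq_zero_iff 2 r).1 (by push_cast; linear_combination -h)
    have := Nat.le_of_dvd two_pos this
    omega
  have he2i : e ∣ 2 * i := hpow _ (by
    rw [← (even_two_mul i).neg_pow, pow_mul, neg_pow_two, ← pow_mul, mul_comm, pow_mul,
      show ((q : ZMod r) ^ i) ^ 2 = ((-(q : ZMod r)) ^ i) ^ 2 by
        rw [← pow_mul, ← pow_mul, mul_comm, pow_mul, pow_mul, neg_pow_two], hneg, neg_one_sq])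
  have hmulk : ∀ (Z : Module.End F L) (t : L), (∀ l, Z l = t * l) → ∀ (Q : F[X]) l, aeval Z Q l = aeval t Q * l := by
    intro Z t hZ Q
    induction Q using Polynomial.induction_on' with
    | add A A' hA hA' => intro l; simp [hA, hA', add_mul]
    | monomial j c =>
      intro l
      have : ∀ j : ℕ, (Z ^ j) l = t ^ j * l := by
        intro j
        induction j with
        | zero => simp
        | succ j ih => rw [pow_succ', Module.End.mul_apply, ih, hZ, pow_succ', mul_assoc]
      rw [aeval_monomial, aeval_monomial, Module.End.mul_apply, Module.algebraMap_end_apply, this,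
        Algebra.smul_def, mul_assoc]
  have haux : ∀ s : L, s * s = algebraMap F L a → Even e := by
    intro s hs
    have hirr : Irreducible (X ^ 2 - C a) :=
      X_pow_sub_C_irreducible_of_prime Nat.prime_two fun b hb => ha ⟨b, by rw [← hb, sq]⟩
    have h1 := minpoly.eq_of_irreducible_of_monic hirr (x := s) (by simp [sq, hs]) (monic_X_pow_sub_C a two_ne_zero)
    have h3 : (minpoly F s).natDegree ∣ Module.finrank F L := minpoly.degree_dvd (IsIntegral.of_finite F s)
    rw [← h1, natDegree_X_pow_sub_C, hfe] at h3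
    exact even_iff_two_dvd.2 h3
  rcases Nat.even_or_odd e with ⟨t, ht⟩ | hodd
  · have ht0 : 0 < t := by have := hψ.natDegree_pos; omega
    have hqt : (q : ZMod r) ^ t = -1 := by
      have h1 : (q : ZMod r) ^ t * (q : ZMod r) ^ t = 1 := by rw [← pow_add, ← ht, hqe]
      refine (mul_self_eq_one_iff.1 h1).resolve_left fun h => ?_
      have := Nat.le_of_dvd ht0 (hpow t h)
      omega
    have hteven : Even t := by
      by_contra hto
      rw [Nat.not_even_iff_odd] at hto
      have h1 : (-(q : ZMod r)) ^ t = 1 := by rw [hto.neg_pow, hqt, neg_neg]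
      have h3 : (-1 : ZMod r) ^ t = 1 := by rw [← hneg, ← pow_mul, mul_comm, pow_mul, h1, one_pow]
      rw [hto.neg_one_pow] at h3
      exact hne1 h3
    let τ : L →ₐ[F] L := FiniteField.frobeniusAlgHom F L ^ t
    have hτpow : ∀ (j : ℕ) (l : L), (FiniteField.frobeniusAlgHom F L ^ j) l = l ^ (q ^ j) := by
      intro j
      induction j with
      | zero => simp
      | succ j ih =>
        intro l
        rw [pow_succ, AlgHom.mul_apply, ih, FiniteField.coe_frobeniusAlgHom]
        show (l ^ q) ^ (q ^ j) = _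
        rw [← pow_mul, ← pow_succ']
    have hτω : τ ω = ω⁻¹ := by
      refine eq_inv_of_mul_eq_one_left ?_
      rw [hτpow, ← pow_succ, ← pow_mod_orderOf, ← hprim.eq_orderOf,
        Nat.mod_eq_zero_of_dvd ((ZMod.natCast_eq_zero_iff _ _).1 (by push_cast; rw [hqt]; ring)), pow_zero]
    have hττ : ∀ l, τ (τ l) = l := fun l => by
      haveI := Fintype.ofFinite L
      rw [hτpow, hτpow, ← pow_mul, ← pow_add, ← ht, hq, ← hfe, ← Nat.card_eq_fintype_card,
        ← Module.natCard_eq_pow_finrank, Nat.card_eq_fintype_card]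
      exact FiniteField.pow_card l
    let γ : L := ω - ω⁻¹
    have hγ : γ ≠ 0 := sub_ne_zero.2 hωinv
    have hτω' : τ ω⁻¹ = ω := by rw [← hτω, hττ]
    have hτγ : τ γ = -γ := by rw [map_sub, hτω, hτω', neg_sub]
    let B : LinearMap.BilinForm F L := LinearMap.mk₂ F (fun u v => Algebra.trace F L (γ * u * τ v))
      (fun x y v => by rw [← map_add]; congr 1; ring) (fun c x v => by rw [mul_smul_comm, smul_mul_assoc, map_smul])
      (fun x y v => by rw [← map_add, map_add τ]; congr 1; ring)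
      (fun c x v => by rw [map_smul τ, mul_smul_comm, map_smul])
    have hB : ∀ u v, B u v = Algebra.trace F L (γ * u * τ v) := fun u v => rfl
    let τe : L ≃ₐ[F] L := AlgEquiv.ofBijective τ ⟨τ.toRingHom.injective, Finite.surjective_of_injective τ.toRingHom.injective⟩
    have hswap : ∀ u v, B v u = - B u v := fun u v => by
      rw [hB, hB, ← Algebra.trace_eq_of_algEquiv τe]
      show Algebra.trace F L (τ (γ * v * τ u)) = _
      rw [map_mul τ, map_mul τ, hτγ, hττ, ← map_neg]
      congr 1; ring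
    have hA : B.IsAlt := fun u => by
      have h1 := hswap u u
      have h3 : (2 : F) * B u u = 0 := by linear_combination h1
      exact (mul_eq_zero.1 h3).resolve_left h2
    have hnd : ∀ u, (∀ v, B u v = 0) → u = 0 := fun u h => by
      have h1 : γ * u = 0 := (traceForm_nondegenerate F L).1 _ fun v => by
        have := h (τ v)
        rw [hB, hττ] at this
        simpa [Algebra.traceForm_apply] using this
      exact (mul_eq_zero.1 h1).resolve_left hγ
    have hBnd : B.Nondegenerate := ⟨hnd, fun u h => hnd u fun v => by rw [hswap, h, neg_zero]⟩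
    let X : Module.End F L := LinearMap.mulLeft F ω
    obtain ⟨x, hx, hxr, hns, hk⟩ := exists_model (d := d) B hA hBnd X (fun u v => by
      rw [hB, hB]
      show Algebra.trace F L (γ * (ω * u) * τ (ω * v)) = _
      rw [map_mul τ, hτω]
      congr 1
      rw [show γ * (ω * u) * (ω⁻¹ * τ v) = γ * u * τ v * (ω * ω⁻¹) by ring, mul_inv_cancel₀ hω0, mul_one]) (r := r) (LinearMap.ext fun l => by
        rw [LinearMap.pow_mulLeft, hprim.pow_eq_one]; simp) (by
        rw [hfe]
        have := Nat.le_of_dvd (by omega) he2i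
        omega) ψ hψ1
    refine not_allGood h2 (hr.odd_of_ne_two hr2) x hx hxr (fun z hz => ?_) ha0 hd fun κ hκ hanti hcomm => ?_
    · have h1 : ω * 1 = z • (1 : L) := hns z hz 1
      rw [mul_one] at h1
      have h3 : τ ω = ω := by rw [h1, map_smul, map_one]
      exact hωinv (h3.symm.trans hτω)
    · obtain ⟨k, hkX, hka, hkk⟩ := hk a κ hκ hanti hcomm
      set s := k 1
      have hks : ∀ l, k l = s * l := by
        intro l
        obtain ⟨Q, rfl⟩ := AdjoinRoot.mk_surjective l
        rw [← AdjoinRoot.aeval_eq]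
        have h1 : k (aeval X Q 1) = aeval X Q (k 1) := by
          induction Q using Polynomial.induction_on' with
          | add A A' hA hA' => simp [hA, hA']
          | monomial j c =>
            rw [aeval_monomial, Module.End.mul_apply, Module.End.mul_apply, Module.algebraMap_end_apply,
              Module.algebraMap_end_apply, map_smul]
            congr 1
            exact LinearMap.congr_fun (hkX.pow_right j).eq 1
        rw [hmulk X ω (fun _ => rfl), hmulk X ω (fun _ => rfl), mul_one] at h1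
        rw [h1, mul_comm]
      have hss : s * s = algebraMap F L a := by
        have h1 := hkk 1 (by rw [hmulk X ω (fun _ => rfl), hψω, zero_mul])
        rw [hks, hks 1, mul_one, Algebra.smul_def, mul_one] at h1
        exact h1
      have hs0 : s ≠ 0 := fun h => ha0 ((algebraMap F L).injective (by rw [← hss, h, mul_zero, map_zero]))
      have hodd_q : q % 2 = 1 := FiniteField.odd_card_of_char_ne_two fun h => h2 (by
        haveI := ringChar.of_eq h; exact CharTwo.two_eq_zero)
      have hfix : ∀ j : ℕ, s ^ (q ^ (2 * j)) = s := by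
        intro j
        induction j with
        | zero => simp
        | succ j ih =>
          rw [show 2 * (j + 1) = 2 * j + 2 by ring, pow_add, pow_mul, ih]
          obtain ⟨b, hb⟩ : ∃ b, q = 2 * b + 1 := ⟨q / 2, by omega⟩
          have h1 : a ^ (2 * b) = 1 := by
            have := FiniteField.pow_card_sub_one_eq_one a ha0
            rwa [← hq, hb, Nat.add_sub_cancel] at this
          rw [show q ^ 2 = 2 * (2 * b * (b + 1)) + 1 by rw [hb]; ring, pow_succ, pow_mul, sq, hss, pow_mul, ← map_pow,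
            h1, map_one, one_pow, one_mul]
      have hτs : τ s = s := by
        obtain ⟨j, hj⟩ := hteven
        rw [hτpow, hj, ← two_mul, hfix]
      have hzero : ∀ v, B s v = 0 := fun v => by
        have h1 := hka 1 v
        rw [hks v, hks 1, mul_one] at h1
        have h3 : B 1 (s * v) = B s v := by
          rw [hB, hB, map_mul τ, hτs]; congr 1; ring
        rw [h3] at h1
        have h4 : (2 : F) * B s v = 0 := by linear_combination h1
        exact (mul_eq_zero.1 h4).resolve_left h2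
      exact hs0 (hnd s hzero)
  · have hei : e ∣ i := (Nat.coprime_two_right.2 hodd).dvd_of_dvd_mul_left he2i
    have hinv := Cfsg.Agent.H48.SimForm.inv_not_root hr3 hodd ψ dvd_rfl hprim
    let B : LinearMap.BilinForm F (L × L) := LinearMap.mk₂ F
      (fun u v => Algebra.trace F L (u.1 * v.2 - u.2 * v.1))
      (fun x y v => by rw [← map_add]; congr 1; simp; ring)
      (fun c x v => by simp only [Prod.smul_fst, Prod.smul_snd, smul_mul_assoc, ← smul_sub, map_smul])
      (fun x y v => by rw [← map_add]; congr 1; simp; ring)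
      (fun c x v => by simp only [Prod.smul_fst, Prod.smul_snd, mul_smul_comm, ← smul_sub, map_smul])
    have hB : ∀ u v, B u v = Algebra.trace F L (u.1 * v.2 - u.2 * v.1) := fun u v => rfl
    have hA : B.IsAlt := fun u => by rw [hB, mul_comm u.1, sub_self, map_zero]
    have hnd : ∀ u, (∀ v, B u v = 0) → u = 0 := fun u h => Prod.ext
      ((traceForm_nondegenerate F L).1 _ fun v => by simpa [hB, Algebra.traceForm_apply] using h (0, v))
      ((traceForm_nondegenerate F L).1 _ fun v => by simpa [hB, Algebra.traceForm_apply] using h (v, 0))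
    have hBnd : B.Nondegenerate := ⟨hnd, fun u h => hnd u fun v => by rw [← hA.neg_eq, h, neg_zero]⟩
    let X : Module.End F (L × L) := (LinearMap.mulLeft F ω).prodMap (LinearMap.mulLeft F ω⁻¹)
    have hXv : ∀ u, X u = (ω * u.1, ω⁻¹ * u.2) := fun u => rfl
    have hval : ∀ (Q : F[X]) u, aeval X Q u = (aeval ω Q * u.1, aeval ω⁻¹ Q * u.2) := by
      intro Q
      induction Q using Polynomial.induction_on' with
      | add A A' hA hA' => intro u; simp [hA, hA', add_mul]
      | monomial j c =>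
        intro u
        have : ∀ j : ℕ, (X ^ j) u = (ω ^ j * u.1, ω⁻¹ ^ j * u.2) := by
          intro j
          induction j with
          | zero => simp
          | succ j ih => rw [pow_succ', Module.End.mul_apply, ih, hXv, pow_succ', pow_succ', mul_assoc, mul_assoc]
        rw [aeval_monomial, aeval_monomial, aeval_monomial, Module.End.mul_apply, Module.algebraMap_end_apply, this,
          Prod.smul_mk, Algebra.smul_def, Algebra.smul_def, mul_assoc, mul_assoc]
    obtain ⟨x, hx, hxr, hns, hk⟩ := exists_model (d := d) B hA hBnd X (fun u v => by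
      rw [hB, hB, hXv, hXv]; congr 1
      show ω * u.1 * (ω⁻¹ * v.2) - ω⁻¹ * u.2 * (ω * v.1) = _
      rw [mul_mul_mul_comm ω, mul_inv_cancel₀ hω0, mul_mul_mul_comm ω⁻¹, inv_mul_cancel₀ hω0, one_mul, one_mul]) (r := r) (LinearMap.ext fun u => by
        have h1 := hval (Polynomial.X ^ r) u
        rw [map_pow, map_pow, map_pow, aeval_X, aeval_X, aeval_X] at h1
        rw [h1, inv_pow, hprim.pow_eq_one, inv_one, one_mul, one_mul, Module.End.one_apply]) (by
        rw [Module.finrank_prod, hfe]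
        have := Nat.le_of_dvd hi hei
        omega) ψ hψ1
    refine not_allGood h2 (hr.odd_of_ne_two hr2) x hx hxr (fun z hz => ?_) ha0 hd fun κ hκ hanti hcomm => ?_
    · have h1 := hns z hz (1, 1)
      rw [hXv, Prod.smul_mk, Prod.mk.injEq, mul_one, mul_one] at h1
      exact hωinv (h1.1.trans h1.2.symm)
    · obtain ⟨k, hkX, -, hkk⟩ := hk a κ hκ hanti hcomm
      have hkQ : ∀ (Q : F[X]) u, k (aeval X Q u) = aeval X Q (k u) := by
        intro Q
        induction Q using Polynomial.induction_on' with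
        | add A A' hA hA' => intro u; simp [hA, hA']
        | monomial j c =>
          intro u
          rw [aeval_monomial, Module.End.mul_apply, Module.End.mul_apply, Module.algebraMap_end_apply,
            Module.algebraMap_end_apply, map_smul]
          congr 1
          exact LinearMap.congr_fun (hkX.pow_right j).eq u
      set s := (k (1, 0)).1
      have h0 : (k (1, 0)).2 = 0 := by
        have h1 := hkQ ψ (1, 0)
        rw [hval, hval, hψω, zero_mul, mul_zero, Prod.mk_zero_zero, map_zero] at h1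
        exact (mul_eq_zero.1 (congrArg Prod.snd h1).symm).resolve_left hinv
      have hks : ∀ l, k (l, 0) = (s * l, 0) := by
        intro l
        obtain ⟨Q, rfl⟩ := AdjoinRoot.mk_surjective l
        rw [← AdjoinRoot.aeval_eq]
        have h1 := hkQ Q (1, 0)
        rw [hval, mul_one, mul_zero, hval, h0, mul_zero] at h1
        rw [h1, mul_comm]
      have h1 := hkk (1, 0) (by rw [hval, hψω, zero_mul, mul_zero]; rfl)
      rw [hks 1, hks, mul_one] at h1
      have h3 := congrArg Prod.fst h1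
      rw [Prod.smul_fst, Algebra.smul_def, mul_one] at h3
      exact Nat.not_even_iff_odd.2 hodd (haux s h3)

/-! ### The subgroup -/

theorem exists_centralizer_GU [Fintype F] {a : F} (ha : ¬ IsSquare a) (h2 : (2 : F) ≠ 0) :
    ∃ C : Subgroup (GL (Fin d ⊕ Fin d) F), C ≤ Cfsg.spGL d F ∧
      (∀ y ∈ C, (y : Matrix (Fin d ⊕ Fin d) (Fin d ⊕ Fin d) F) * Sa d a = Sa d a * (y : Matrix (Fin d ⊕ Fin d) (Fin d ⊕ Fin d) F)) ∧
      Nat.card C = Fintype.card F ^ (d * (d - 1) / 2) * ∏ i ∈ Finset.range d, Cfsg.Agent.Unitary.guFactor (Fintype.card F) i := by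
  classical
  set q := Fintype.card F with hq
  have hirr : Irreducible (X ^ 2 - C a) :=
    X_pow_sub_C_irreducible_of_prime Nat.prime_two fun b hb => ha ⟨b, by rw [← hb, sq]⟩
  haveI : Fact (Irreducible (X ^ 2 - C a)) := ⟨hirr⟩
  let E := AdjoinRoot (X ^ 2 - C a)
  haveI : Module.Finite F E := (AdjoinRoot.powerBasis hirr.ne_zero).finite
  haveI : Finite E := Module.finite_of_finite F
  haveI := Fintype.ofFinite E
  have hfE : Module.finrank F E = 2 := by
    rw [(AdjoinRoot.powerBasis hirr.ne_zero).finrank, AdjoinRoot.powerBasis_dim, natDegree_X_pow_sub_C]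
  have hE : Fintype.card E = q ^ 2 := by rw [Module.card_eq_pow_finrank (K := F) (V := E), hfE]
  set θ : E := AdjoinRoot.root _
  have hθ : θ * θ = algebraMap F E a := by
    have := AdjoinRoot.aeval_eq (R := F) (f := X ^ 2 - C a) (X ^ 2 - C a)
    rw [AdjoinRoot.mk_self] at this
    simp [sub_eq_zero, sq] at this
    exact this
  have hθq : θ ^ q = -θ := by
    have hodd : q % 2 = 1 := FiniteField.odd_card_of_char_ne_two fun h => h2 (by
      haveI := ringChar.of_eq h; exact CharTwo.two_eq_zero)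
    have hrc : ringChar F ≠ 2 := fun h => h2 (by haveI := ringChar.of_eq h; exact CharTwo.two_eq_zero)
    have ha0 : a ≠ 0 := fun h => ha (h ▸ IsSquare.zero)
    have h1 : a ^ (q / 2) = -1 :=
      (FiniteField.pow_dichotomy hrc ha0).resolve_left fun h => ha ((FiniteField.isSquare_iff hrc ha0).2 h)
    rw [show q = 2 * (q / 2) + 1 by omega, pow_succ, pow_mul, pow_two θ, hθ, ← map_pow, h1, map_neg, map_one, neg_one_mul]
  have hind : ∀ r l : F, algebraMap F E r + θ * algebraMap F E l = 0 → r = 0 ∧ l = 0 := by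
    intro r l h
    by_cases hl : l = 0
    · subst hl; simp at h; exact ⟨h, rfl⟩
    · exfalso
      refine ha ⟨r / l, (algebraMap F E).injective ?_⟩
      have hl' : algebraMap F E l ≠ 0 := (_root_.map_ne_zero _).2 hl
      rw [← hθ, map_mul, map_div₀, show algebraMap F E r = -(θ * algebraMap F E l) from eq_neg_of_add_eq_zero_left h,
        neg_div, mul_div_cancel_right₀ _ hl', neg_mul_neg]
  let T : (Fin d ⊕ Fin d → F) →ₗ[F] (Fin d → E) :=
    { toFun := fun v i => algebraMap F E (v (.inr i)) + θ * algebraMap F E (v (.inl i))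
      map_add' := fun u v => funext fun i => by simp; ring
      map_smul' := fun c v => funext fun i => by simp [Algebra.smul_def]; ring }
  have hTinj : Function.Injective T := (injective_iff_map_eq_zero T).2 fun v hv => funext fun s => by
    rcases s with i | i
    · exact (hind _ _ (congrFun hv i)).2
    · exact (hind _ _ (congrFun hv i)).1
  let Te : (Fin d ⊕ Fin d → F) ≃ₗ[F] (Fin d → E) := LinearEquiv.ofBijective T ⟨hTinj,
    (LinearMap.injective_iff_surjective_of_finrank_eq_finrank (by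
      rw [Module.finrank_pi, Module.finrank_pi_fintype]
      simp [hfE]; ring)).1 hTinj⟩
  have hherm : ∀ u v, Cfsg.hermForm d E q (T v) (T u) =
      algebraMap F E (∑ i, (v (.inr i) * u (.inr i) - a * (v (.inl i) * u (.inl i)))) + θ * algebraMap F E (sf u v) := by
    intro u v
    rw [sympForm_eq, map_sum, map_sum, Finset.mul_sum, ← Finset.sum_add_distrib, Cfsg.hermForm]
    refine Finset.sum_congr rfl fun i _ => ?_
    show (algebraMap F E _ + θ * algebraMap F E _) * (algebraMap F E _ + θ * algebraMap F E _) ^ q = _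
    rw [Cfsg.Agent.Unitary.add_pow_q hE, mul_pow, hθq, ← map_pow, ← map_pow, hq, FiniteField.pow_card, FiniteField.pow_card]
    simp only [map_sub, map_mul, ← hθ]
    ring
  let eg : GL (Fin d ⊕ Fin d) F ≃* ((Fin d ⊕ Fin d → F) ≃ₗ[F] (Fin d ⊕ Fin d → F)) :=
    Matrix.GeneralLinearGroup.toLin.trans (LinearMap.GeneralLinearGroup.generalLinearEquiv F (Fin d ⊕ Fin d → F))
  let egE : GL (Fin d) E ≃* ((Fin d → E) ≃ₗ[E] (Fin d → E)) :=
    Matrix.GeneralLinearGroup.toLin.trans (LinearMap.GeneralLinearGroup.generalLinearEquiv E (Fin d → E))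
  let φ : GL (Fin d) E →* GL (Fin d ⊕ Fin d) F :=
    eg.symm.toMonoidHom.comp
      { toFun := fun g => Te.trans (((egE g).restrictScalars F).trans Te.symm)
        map_one' := LinearEquiv.ext fun v => by
          simp only [LinearEquiv.trans_apply, LinearEquiv.restrictScalars_apply, map_one]
          exact Te.symm_apply_apply v
        map_mul' := fun g h => LinearEquiv.ext fun v => by
          rw [LinearEquiv.mul_apply]
          simp only [LinearEquiv.trans_apply, LinearEquiv.restrictScalars_apply, LinearEquiv.apply_symm_apply, map_mul]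
          rfl }
  have hφ : ∀ g v, T (((φ g : GL (Fin d ⊕ Fin d) F) : Matrix (Fin d ⊕ Fin d) (Fin d ⊕ Fin d) F) *ᵥ v) =
      ((g : GL (Fin d) E) : Matrix (Fin d) (Fin d) E) *ᵥ T v := by
    intro g v
    have h1 : ((φ g : GL (Fin d ⊕ Fin d) F) : Matrix (Fin d ⊕ Fin d) (Fin d ⊕ Fin d) F) *ᵥ v = eg (φ g) v := rfl
    rw [h1]
    show Te (eg (eg.symm _) v) = _
    rw [MulEquiv.apply_symm_apply]
    exact Te.apply_symm_apply _
  have hφinj : Function.Injective φ := fun g h hgh => Units.ext (Matrix.ext_iff_mulVec.2 fun w => by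
    obtain ⟨v, rfl⟩ := Te.surjective w
    show _ *ᵥ T v = _ *ᵥ T v
    rw [← hφ, ← hφ, hgh])
  refine ⟨(Cfsg.GU d E q).map φ, ?_, ?_, ?_⟩
  · rintro - ⟨g, hg, rfl⟩
    refine mem_spGL.2 fun u v => ?_
    have h1 := hherm (((φ g : GL (Fin d ⊕ Fin d) F) : Matrix (Fin d ⊕ Fin d) (Fin d ⊕ Fin d) F) *ᵥ u) (((φ g : GL (Fin d ⊕ Fin d) F) : Matrix (Fin d ⊕ Fin d) (Fin d ⊕ Fin d) F) *ᵥ v)
    rw [hφ, hφ, Cfsg.Agent.Unitary.mem_GU_iff.1 hg, hherm] at h1
    set A := (∑ i, (v (Sum.inr i) * u (Sum.inr i) - a * (v (Sum.inl i) * u (Sum.inl i))))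
    set A' := (∑ i, ((((φ g : GL (Fin d ⊕ Fin d) F) : Matrix (Fin d ⊕ Fin d) (Fin d ⊕ Fin d) F) *ᵥ v) (Sum.inr i) *
      (((φ g : GL (Fin d ⊕ Fin d) F) : Matrix (Fin d ⊕ Fin d) (Fin d ⊕ Fin d) F) *ᵥ u) (Sum.inr i) -
        a * ((((φ g : GL (Fin d ⊕ Fin d) F) : Matrix (Fin d ⊕ Fin d) (Fin d ⊕ Fin d) F) *ᵥ v) (Sum.inl i) *
          (((φ g : GL (Fin d ⊕ Fin d) F) : Matrix (Fin d ⊕ Fin d) (Fin d ⊕ Fin d) F) *ᵥ u) (Sum.inl i))))
    have h3 : algebraMap F E (A - A') + θ * algebraMap F E (sf u v -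
        sf (((φ g : GL (Fin d ⊕ Fin d) F) : Matrix (Fin d ⊕ Fin d) (Fin d ⊕ Fin d) F) *ᵥ u) (((φ g : GL (Fin d ⊕ Fin d) F) : Matrix (Fin d ⊕ Fin d) (Fin d ⊕ Fin d) F) *ᵥ v)) = 0 := by
      rw [map_sub, map_sub]; linear_combination h1
    exact (sub_eq_zero.1 (hind _ _ h3).2).symm
  · rintro - ⟨g, -, rfl⟩
    refine Matrix.ext_iff_mulVec.2 fun v => hTinj ?_
    have hS : ∀ w, T (Sa d a *ᵥ w) = θ • T w := fun w => funext fun i => by
      show algebraMap F E _ + θ * algebraMap F E _ = θ * (algebraMap F E _ + θ * algebraMap F E _)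
      simp only [Sa_apply, Sum.elim_inl, Sum.elim_inr, map_mul, ← hθ]
      ring
    rw [← Matrix.mulVec_mulVec, ← Matrix.mulVec_mulVec, hS, hφ, hS, hφ, Matrix.mulVec_smul]
  · rw [Subgroup.card_map_of_injective hφinj, Cfsg.Agent.Unitary.card_GU hE]

theorem card_spGL [Fintype F] :
    Nat.card (Cfsg.spGL d F) = Fintype.card F ^ (d ^ 2) * ∏ i ∈ Finset.range d, (Fintype.card F ^ (2 * (i + 1)) - 1) := by
  rw [← card_sp]
  refine Nat.card_congr
    { toFun := fun g => ⟨(g.1 : Matrix (Fin d ⊕ Fin d) (Fin d ⊕ Fin d) F), (mem_symplectic_iff_form _).2 g.2⟩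
      invFun := fun A => ⟨((Matrix.isUnit_iff_isUnit_det _).2 (SymplecticGroup.symplectic_det A.2)).unit,
        mem_spGL.2 fun u v => by rw [IsUnit.unit_spec]; exact (mem_symplectic_iff_form _).1 A.2 u v⟩
      left_inv := fun g => by apply Subtype.ext; apply Units.ext; simp
      right_inv := fun A => by apply Subtype.ext; simp }

/-- The two kinds of normalising elements. -/
theorem exists_standard [Fintype F] (h2 : (2 : F) ≠ 0)
    (K : Subalgebra F (Matrix (Fin d ⊕ Fin d) (Fin d ⊕ Fin d) F)) (hK : Cfsg.Geo.IsFieldSubalgebra 2 K)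
    (hKf : Cfsg.Geo.IsAdjointClosedFor sf K) (hKns : ¬ Cfsg.Geo.IsSelfAdjointFor sf K) :
    ∃ (a : F) (g : GL (Fin d ⊕ Fin d) F), ¬ IsSquare a ∧ g ∈ Cfsg.spGL d F ∧
      ∀ y : GL (Fin d ⊕ Fin d) F, y ∈ Cfsg.Geo.subalgebraNormalizer K ↔
        Good a ((g⁻¹ * y * g : GL (Fin d ⊕ Fin d) F) : Matrix (Fin d ⊕ Fin d) (Fin d ⊕ Fin d) F) := by
  classical
  simp only [Cfsg.Geo.IsSelfAdjointFor, not_forall] at hKns
  obtain ⟨b, hb, u₀, v₀, hne⟩ := hKns
  obtain ⟨b', hb', hadj⟩ := hKf b hb
  have hadj' : ∀ u v, sf (b' *ᵥ u) v = sf u (b *ᵥ v) := fun u v => by rw [sf_swap, ← hadj, ← sf_swap]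
  let κ := b - b'
  have hκK : κ ∈ K := K.sub_mem hb hb'
  have hanti : ∀ u v, sf (κ *ᵥ u) v = - sf u (κ *ᵥ v) := fun u v => by
    simp only [κ, Matrix.sub_mulVec, sf_eq_spB, map_sub, LinearMap.sub_apply]
    simp only [← sf_eq_spB, hadj, hadj']
    ring
  have hκ0 : κ ≠ 0 := fun h => hne (by rw [hadj, show b' = b from (sub_eq_zero.1 h).symm])
  have hd : 0 < d := Nat.pos_of_ne_zero fun h => by
    subst h
    exact hκ0 (Matrix.ext fun i => (Sum.elim Fin.elim0 Fin.elim0 i))
  have hone : (1 : Matrix (Fin d ⊕ Fin d) (Fin d ⊕ Fin d) F) ≠ 0 := fun h => by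
    simpa using congrFun (congrFun h (.inl ⟨0, hd⟩)) (.inl ⟨0, hd⟩)
  have hnsc : ∀ s : F, κ ≠ s • 1 := fun s h => by
    have h1 := hanti (Pi.single (.inr ⟨0, hd⟩) 1) (Pi.single (.inl ⟨0, hd⟩) 1)
    rw [h, Matrix.smul_mulVec, Matrix.smul_mulVec, Matrix.one_mulVec, Matrix.one_mulVec] at h1
    simp [sf_eq_spB, spB_single, Matrix.J, -spB_apply] at h1
    have h3 : (2 : F) * s = 0 := by linear_combination h1
    exact hκ0 (by rw [h, (mul_eq_zero.1 h3).resolve_left h2, zero_smul])
  have hli : LinearIndependent F ![(1 : K), ⟨κ, hκK⟩] := by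
    refine LinearIndependent.pair_iff.2 fun s t h => ?_
    have h' : s • (1 : Matrix (Fin d ⊕ Fin d) (Fin d ⊕ Fin d) F) + t • κ = 0 := congrArg Subtype.val h
    by_cases ht : t = 0
    · rw [ht, zero_smul, add_zero] at h'
      exact ⟨(smul_eq_zero.1 h').resolve_right hone, ht⟩
    · exact absurd (by
        rw [add_eq_zero_iff_neg_eq, ← neg_smul] at h'
        rw [← inv_smul_smul₀ ht κ, ← h', smul_smul]) (hnsc (t⁻¹ * -s))
  have hspan : ∀ k ∈ K, ∃ s t : F, k = s • 1 + t • κ := by
    intro k hk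
    have htop := hli.span_eq_top_of_card_eq_finrank (by rw [Fintype.card_fin, hK.finrank_eq])
    have hmem : (⟨k, hk⟩ : K) ∈ Submodule.span F (Set.range ![(1 : K), ⟨κ, hκK⟩]) := by rw [htop]; trivial
    rw [Matrix.range_cons, Matrix.range_cons, Matrix.range_empty, Set.union_empty, Set.singleton_union] at hmem
    obtain ⟨s, t, hst⟩ := Submodule.mem_span_pair.1 hmem
    exact ⟨s, t, (congrArg Subtype.val hst).symm⟩
  have hK' : ∀ s t : F, s • 1 + t • κ ∈ K := fun s t => K.add_mem (K.smul_mem K.one_mem s) (K.smul_mem hκK t)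
  obtain ⟨s, t, hst⟩ := hspan _ (K.mul_mem hκK hκK)
  have ht0 : t = 0 := by
    by_contra ht
    have h1 : ∀ u v, sf ((κ * κ) *ᵥ u) v = sf u ((κ * κ) *ᵥ v) := fun u v => by
      rw [← Matrix.mulVec_mulVec, ← Matrix.mulVec_mulVec, hanti, hanti, neg_neg]
    have h3 : ∀ u v, sf u (κ *ᵥ v) = 0 := fun u v => by
      have h4 := h1 u v
      rw [hst, Matrix.add_mulVec, Matrix.smul_mulVec, Matrix.smul_mulVec, Matrix.one_mulVec, Matrix.add_mulVec,
        Matrix.smul_mulVec, Matrix.smul_mulVec, Matrix.one_mulVec] at h4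
      simp only [sf_eq_spB, map_add, map_smul, LinearMap.add_apply, LinearMap.smul_apply, smul_eq_mul] at h4
      simp only [← sf_eq_spB, hanti u v] at h4
      have h5 : (2 * t) * sf u (κ *ᵥ v) = 0 := by linear_combination -h4
      exact (mul_eq_zero.1 h5).resolve_left (mul_ne_zero h2 ht)
    exact hκ0 (Matrix.ext_iff_mulVec.2 fun v => by
      rw [Matrix.zero_mulVec]
      refine sf_nd fun u => ?_
      rw [sf_swap, h3, neg_zero])
  rw [ht0, zero_smul, add_zero] at hst
  have ha : ¬ IsSquare s := by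
    rintro ⟨c, rfl⟩
    have h1 : (κ - c • 1) * (κ + c • 1) = 0 := by
      rw [sub_mul, mul_add, mul_add, hst]; simp [smul_smul]; abel
    obtain ⟨w, -, hw⟩ := hK.inv _ (K.sub_mem hκK (K.smul_mem K.one_mem c)) (sub_ne_zero.2 (hnsc c))
    have h3 : κ + c • 1 = 0 := by
      have h4 := congrArg (w * ·) h1
      simp only [mul_zero, ← mul_assoc] at h4
      rwa [mul_eq_one_comm.1 hw, one_mul] at h4
    exact hnsc (-c) (by rw [neg_smul]; exact eq_neg_of_add_eq_zero_left h3)
  have hs0 : s ≠ 0 := fun h => ha (h ▸ IsSquare.zero)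
  obtain ⟨g, hg, hκg⟩ := exists_conj_Sa h2 hs0 κ hst hanti
  have hequiv : ∀ (y : GL (Fin d ⊕ Fin d) F) (ε : F), (y : Matrix _ _ F) * κ = ε • (κ * (y : Matrix _ _ F)) ↔
      ((g⁻¹ * y * g : GL (Fin d ⊕ Fin d) F) : Matrix (Fin d ⊕ Fin d) (Fin d ⊕ Fin d) F) * Sa d s =
        ε • (Sa d s * ((g⁻¹ * y * g : GL (Fin d ⊕ Fin d) F) : Matrix (Fin d ⊕ Fin d) (Fin d ⊕ Fin d) F)) := by
    intro y ε
    have hS : Sa d s = ((g⁻¹ : GL (Fin d ⊕ Fin d) F) : Matrix _ _ F) * κ * (g : Matrix _ _ F) := by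
      rw [mul_assoc, hκg, Units.inv_mul_cancel_left]
    rw [hS, Units.val_mul, Units.val_mul]
    simp only [mul_assoc, Units.mul_inv_cancel_left]
    constructor
    · intro h
      rw [← mul_assoc (y : Matrix (Fin d ⊕ Fin d) (Fin d ⊕ Fin d) F), h, Matrix.smul_mul, Matrix.mul_smul, mul_assoc κ]
    · intro h
      rw [← Matrix.mul_smul, ← mul_assoc κ, ← mul_assoc (y : Matrix (Fin d ⊕ Fin d) (Fin d ⊕ Fin d) F), ← Matrix.smul_mul, Units.mul_right_inj,
        Units.mul_left_inj] at h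
      exact h
  refine ⟨s, g, ha, hg, fun y => ⟨fun hy => ?_, fun ⟨ε, hε, h⟩ => ?_⟩⟩
  · obtain ⟨c, e, hce⟩ := hspan _ ((hy κ).1 hκK)
    have hyk : (y : Matrix _ _ F) * κ = c • (y : Matrix _ _ F) + e • (κ * (y : Matrix _ _ F)) := by
      have := congrArg (· * (y : Matrix _ _ F)) hce
      simpa [add_mul, mul_assoc] using this
    have hsq : (c • 1 + e • κ) * (c • 1 + e • κ) = s • (1 : Matrix (Fin d ⊕ Fin d) (Fin d ⊕ Fin d) F) := by
      rw [← hce]
      simp only [mul_assoc, Units.inv_mul_cancel_left]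
      rw [← mul_assoc κ, hst, Matrix.smul_mul, one_mul, Matrix.mul_smul, Units.mul_inv]
    have h1 : (c * c + e * e * s - s) • (1 : Matrix (Fin d ⊕ Fin d) (Fin d ⊕ Fin d) F) + (2 * c * e) • κ = 0 := by
      simp only [add_mul, mul_add, Matrix.smul_mul, Matrix.mul_smul, one_mul, mul_one, hst, smul_smul] at hsq
      rw [sub_smul, add_smul, show (2 * c * e) • κ = (c * e) • κ + (e * c) • κ by rw [← add_smul]; congr 1; ring]
      linear_combination (norm := module) hsq
    obtain ⟨e1, e2⟩ := LinearIndependent.pair_iff.1 hli _ _ (Subtype.ext h1)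
    have hc : c = 0 := by
      rcases mul_eq_zero.1 e2 with h | h
      · exact (mul_eq_zero.1 h).resolve_left h2
      · exact absurd ⟨c, by rw [h] at e1; linear_combination -e1⟩ ha
    refine ⟨e, ?_, (hequiv y e).1 (by rw [hyk, hc, zero_smul, zero_add])⟩
    rw [hc] at e1
    exact mul_self_eq_one_iff.1 (mul_right_cancel₀ hs0 (by linear_combination e1))
  · have hyk := (hequiv y ε).2 h
    have hεε : ε * ε = 1 := by rcases hε with rfl | rfl <;> simp
    have hfwd : ∀ c e : F, (y : Matrix _ _ F) * (c • 1 + e • κ) * ((y⁻¹ : GL (Fin d ⊕ Fin d) F) : Matrix _ _ F) = c • 1 + (e * ε) • κ := by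
      intro c e
      rw [mul_add, add_mul, Matrix.mul_smul, Matrix.mul_smul, mul_one, hyk, smul_smul, Matrix.smul_mul, Matrix.smul_mul,
        Units.mul_inv, mul_assoc, Units.mul_inv, mul_one]
    refine fun k => ⟨fun hk => ?_, fun hk => ?_⟩
    · obtain ⟨c, e, rfl⟩ := hspan k hk
      rw [hfwd]; exact hK' _ _
    · obtain ⟨c, e, he⟩ := hspan _ hk
      have h3 : k = c • 1 + (e * ε) • κ := by
        have := hfwd c (e * ε)
        rw [mul_assoc e ε ε, hεε, mul_one, ← he] at this
        rw [mul_assoc, mul_assoc, Units.mul_right_inj, Units.mul_left_inj] at this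
        exact this.symm
      rw [h3]; exact hK' _ _

/-- Elements of prime order of PSp_n(q), q odd, and the subgroups of type GU_{n/2}(q). Here `T = PSp_{2d}(F)` for a field `F` with `q` elements, `q` odd, `d ≥ 2`, realised through the matrices preserving the standard alternating form `f`; `K` is a subalgebra of the `2d × 2d` matrices that is a field of degree 2 over `F`, closed under taking adjoints for `f` but not consisting of self-adjoint elements (so `F^{2d}` becomes a `d`-dimensional space over `K ≅ F_{q²}` on which `f` is the trace of a multiple of a non-degenerate hermitian form); `H` is the subgroup of `T` normalizing `K` — the symplectic maps that are `K`-linear or `K`-semilinear, a subgroup of type GU_d(q) (maximality is not assumed). Ω is the set of cosets of `H` in `T`, so an element of `T` of prime order `r` (`x ∈ T` with `x^r` scalar, `x` not scalar) fixes a point of Ω exactly when some `T`-conjugate of `x` normalizes `K`. Let `r` be a prime dividing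 the index of `H`. Then every element of `T` of order `r` fixes a point of Ω if and only if `r = 2`. -/
theorem result {F : Type*} [Field F] [Fintype F] {p : ℕ} [Fact p.Prime] [CharP F p] {q : ℕ} (hq : Fintype.card F = q)
    (hodd : Odd q) (d : ℕ) (hd : 2 ≤ d)
    (K : Subalgebra F (Matrix (Fin d ⊕ Fin d) (Fin d ⊕ Fin d) F)) (hK : Cfsg.Geo.IsFieldSubalgebra 2 K)
    (hKf : Cfsg.Geo.IsAdjointClosedFor (Cfsg.sympForm d F) K) (hKns : ¬ Cfsg.Geo.IsSelfAdjointFor (Cfsg.sympForm d F) K)
    (r : ℕ) [Fact r.Prime]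
    (hΩ : r ∣ (Cfsg.Geo.subalgebraNormalizer K).relIndex (Cfsg.spGL d F)) :
    (∀ x ∈ Cfsg.spGL d F, (∃ z : F, ((x ^ r : GL (Fin d ⊕ Fin d) F) : Matrix (Fin d ⊕ Fin d) (Fin d ⊕ Fin d) F) = z • (1 : Matrix (Fin d ⊕ Fin d) (Fin d ⊕ Fin d) F)) →
      (∀ z : F, (x : Matrix (Fin d ⊕ Fin d) (Fin d ⊕ Fin d) F) ≠ z • (1 : Matrix (Fin d ⊕ Fin d) (Fin d ⊕ Fin d) F)) →
      ∃ g ∈ Cfsg.spGL d F, g⁻¹ * x * g ∈ Cfsg.Geo.subalgebraNormalizer K) ↔ r = 2 := by
  classical
  subst hq
  have hr : r.Prime := Fact.out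
  have hp2 : p ≠ 2 := by
    rintro rfl
    obtain ⟨k, hk, he⟩ := FiniteField.card F 2
    rw [he] at hodd
    exact Nat.not_odd_iff_even.2 (even_two.pow_of_ne_zero (PNat.ne_zero k)) hodd
  have h2 : (2 : F) ≠ 0 := by
    intro h
    have : p ∣ 2 := (CharP.cast_eq_zero_iff F p 2).1 (by exact_mod_cast h)
    exact hp2 ((Nat.prime_dvd_prime_iff_eq Fact.out Nat.prime_two).1 this)
  obtain ⟨a, g, ha, hg, hN⟩ := exists_standard h2 K hK hKf hKns
  constructor
  · intro hall
    by_contra hr2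
    have hgood : AllGood d a r := fun x hx hz hns => by
      obtain ⟨h, hh, hy⟩ := hall x hx hz hns
      refine ⟨h * g, Subgroup.mul_mem _ hh hg, ?_⟩
      have := (hN _).1 hy
      rwa [show (h * g)⁻¹ * x * (h * g) = g⁻¹ * (h⁻¹ * x * h) * g by group]
    by_cases hrp : r = p
    · subst hrp
      exact not_allGood_char h2 r hp2 (by omega) ha hgood
    obtain ⟨C, hC, hcomm, hcard⟩ := exists_centralizer_GU (d := d) ha h2
    set q := Fintype.card F with hq
    let C' := C.map (MulAut.conj g).toMonoidHom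
    have hC' : C' ≤ Cfsg.Geo.subalgebraNormalizer K := by
      rintro - ⟨y, hy, rfl⟩
      refine (hN _).2 ⟨1, Or.inl rfl, ?_⟩
      rw [one_smul, MulEquiv.coe_toMonoidHom, MulAut.conj_apply, show g⁻¹ * (g * y * g⁻¹) * g = y by group]
      exact hcomm y hy
    have hC'S : C' ≤ Cfsg.spGL d F := by
      rintro - ⟨y, hy, rfl⟩
      exact Subgroup.mul_mem _ (Subgroup.mul_mem _ hg (hC hy)) (Subgroup.inv_mem _ hg)
    have hidx : Nat.card C' * C'.relIndex (Cfsg.spGL d F) = Nat.card (Cfsg.spGL d F) := by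
      rw [← Subgroup.relIndex_bot_left, ← Subgroup.relIndex_bot_left]
      exact Subgroup.relIndex_mul_relIndex _ _ _ bot_le hC'S
    rw [Subgroup.card_map_of_injective (MulAut.conj g).injective, hcard, card_spGL, ← hq] at hidx
    have hdvd : r ∣ C'.relIndex (Cfsg.spGL d F) := hΩ.trans (Subgroup.relIndex_dvd_of_le_left _ hC')
    let cf : ℕ → ℕ := fun i => if Even i then q ^ (i + 1) - 1 else q ^ (i + 1) + 1
    have hq1 : 1 < q := Fintype.one_lt_card
    have hfac : ∀ i, q ^ (2 * (i + 1)) - 1 = cf i * Cfsg.Agent.Unitary.guFactor q i := by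
      intro i
      rw [mul_comm 2, pow_mul, show (q ^ (i + 1)) ^ 2 - 1 = (q ^ (i + 1) - 1) * (q ^ (i + 1) + 1) by
        rw [mul_comm, ← Nat.sq_sub_sq, one_pow]]
      simp only [cf, Cfsg.Agent.Unitary.guFactor]
      split_ifs <;> ring
    have hpos : 0 < ∏ i ∈ Finset.range d, Cfsg.Agent.Unitary.guFactor q i := Finset.prod_pos fun i _ => by
      have : 1 < q ^ (i + 1) := Nat.one_lt_pow (by omega) hq1
      simp only [Cfsg.Agent.Unitary.guFactor]
      split_ifs <;> omega
    rw [Finset.prod_congr rfl fun i _ => hfac i, Finset.prod_mul_distrib] at hidx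
    have h3 : q ^ (d * (d - 1) / 2) * C'.relIndex (Cfsg.spGL d F) = q ^ (d ^ 2) * ∏ i ∈ Finset.range d, cf i :=
      Nat.eq_of_mul_eq_mul_right hpos (by linear_combination hidx)
    rcases hr.dvd_mul.1 (h3 ▸ hdvd.mul_left (q ^ (d * (d - 1) / 2)) : r ∣ q ^ (d ^ 2) * ∏ i ∈ Finset.range d, cf i) with h | h
    · obtain ⟨k, hk, he⟩ := FiniteField.card F p
      rw [hq, he] at h
      exact hrp ((Nat.prime_dvd_prime_iff_eq hr Fact.out).1 (hr.dvd_of_dvd_pow (hr.dvd_of_dvd_pow h)))
    · obtain ⟨i, hi, hd'⟩ := (Prime.dvd_finsetProd_iff hr.prime _).1 h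
      refine not_allGood_odd h2 r hr hr2 (fun h0 => hrp ((Nat.prime_dvd_prime_iff_eq Fact.out hr).1
        ((CharP.cast_eq_zero_iff F p r).1 h0)).symm) (by omega) ha (i := i + 1) (by omega)
        (by have := Finset.mem_range.1 hi; omega) ?_ hgood
      simp only [cf] at hd'
      split_ifs at hd' with he
      · have := (ZMod.natCast_eq_zero_iff _ _).2 hd'
        rw [Nat.cast_sub (Nat.one_le_pow _ _ (by omega)), Nat.cast_pow, Nat.cast_one, sub_eq_zero] at this
        rw [he.add_one.neg_pow, this]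
      · have := (ZMod.natCast_eq_zero_iff _ _).2 hd'
        rw [Nat.cast_add, Nat.cast_pow, Nat.cast_one, add_eq_zero_iff_eq_neg] at this
        rw [(Nat.not_even_iff_odd.1 he).add_one.neg_pow, this]
  · rintro rfl x hx hz hns
    obtain ⟨h, hh, hy⟩ := two_cases h2 (by omega) (fun h0 : a = 0 => ha (h0 ▸ IsSquare.zero)) x hx hz hns
    refine ⟨h * g⁻¹, Subgroup.mul_mem _ hh (Subgroup.inv_mem _ hg), (hN _).2 ?_⟩
    rwa [show g⁻¹ * ((h * g⁻¹)⁻¹ * x * (h * g⁻¹)) * g = h⁻¹ * x * h by group]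

end Cfsg.Agent.S5976
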