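import Cfsg.Statements.S1213
import Cfsg.Agent.H39.InvolutionCentralizer
-- import your own Cfsg.Agent.* helpers here

set_option autoImplicit false
open Cfsg

namespace Cfsg.Agent.S1213

open Cfsg.Agent Cfsg.Agent.H39

/-- Let G be a finite group with quasi-dihedral or wreathed Sylow 2-subgroups and no subgroup of index 2, and let x be an involution with centralizer C. Then C has a Sylow 2-subgroup R which is a Sylow 2-subgroup of G; C has a normal subgroup K of index a power of 2 which has no subgroup of index 2 and whose Sylow 2-subgroups are generalized quaternion; and every subgroup of the centre of R is weakly closed in R with respect to C. -/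
theorem result {G : Type*} [Group G] [Finite G] (S : Sylow 2 G) (hS : Cfsg.IsQuasiDihedral (S : Subgroup G) ∨ Cfsg.IsWreathed (S : Subgroup G)) (hG : ∀ H : Subgroup G, H.index ≠ 2) (x : G) (hx : orderOf x = 2) : ∃ R : Sylow 2 ↥(Subgroup.centralizer ({x} : Set G)), Nat.card R = Nat.card S ∧ (∃ K : Subgroup ↥(Subgroup.centralizer ({x} : Set G)), K.Normal ∧ (∃ a : ℕ, K.index = 2 ^ a) ∧ (∀ H : Subgroup ↥K, H.index ≠ 2) ∧ (∀ P : Sylow 2 ↥K, ∃ m : ℕ, 1 ≤ m ∧ Nonempty ((P : Subgroup ↥K) ≃* QuaternionGroup (2 ^ m)))) ∧ (∀ Z₀ : Subgroup ↥(Subgroup.centralizer ({x} : Set G)), Z₀ ≤ ((Subgroup.center (R : Subgroup ↥(Subgroup.centralizer ({x} : Set G)))).map (R : Subgroup ↥(Subgroup.centralizer ({x} : Set G))).subtype) → Cfsg.IsWeaklyClosed Z₀ (R : Subgroup ↥(Subgroup.centralizer ({x} : Set G)))) := by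
  have : Fact (Nat.Prime 2) := ⟨Nat.prime_two⟩
  have hcard : ∀ g : G, Nat.card (g • S : Sylow 2 G) = Nat.card S := fun g =>
    Nat.card_congr (S.equivSMul g).toEquiv.symm
  have fin : ∀ g : G, IsQGroupAt (Subgroup.centralizer ({x} : Set G))
      (Nat.card (g • S : Sylow 2 G)) →
      IsQGroupAt (Subgroup.centralizer ({x} : Set G)) (Nat.card S) := fun g hq => by rwa [← hcard g]
  rcases hS with hS | hS
  · obtain ⟨m, a, b, h⟩ := exists_sdGen hS
    obtain ⟨g, hg⟩ := isConj_iff.mp (h.conj_z_of_no_index_two hG hx).symm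
    have h' := h.map_equiv (S.equivSMul g)
    have e : (((S.equivSMul g a) ^ (4 * 2 ^ m : ℤ) : ((g • S : Sylow 2 G) : Subgroup G)) : G) = x := by
      rw [← map_zpow]; exact hg
    have hq := h'.qGroupAt hG
    rw [e] at hq
    exact fin g hq
  · obtain ⟨m, a, b, c, h⟩ := exists_wGen hS
    obtain ⟨g, hg⟩ := isConj_iff.mp (h.conj_C_of_no_index_two hG hx).symm
    have h' := h.map_equiv (S.equivSMul g)
    have e : (((S.equivSMul g a) ^ (2 * 2 ^ m : ℤ) * (S.equivSMul g b) ^ (2 * 2 ^ m : ℤ) :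
        ((g • S : Sylow 2 G) : Subgroup G)) : G) = x := by
      rw [← map_zpow, ← map_zpow, ← map_mul]; exact hg
    have hq := h'.qGroupAt hG
    rw [e] at hq
    exact fin g hq

end Cfsg.Agent.S1213
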