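import Cfsg.Statements.S4551
import Cfsg.Agent.H81.DadeBijection
-- import your own Cfsg.Agent.* helpers here

set_option autoImplicit false
open Cfsg

namespace Cfsg.Agent.S4551

/-- Let N be a normal subgroup of the finite group G of index prime to p, P a Sylow p-subgroup of G with G = N·C_G(P), and M a maximal ideal of the algebraic integers containing p. Then restriction to N is a bijection from the principal p-block of G onto the principal p-block of N: every member of the principal block of G restricts to a member of the principal block of N, and every member of the principal block of N is the restriction of exactly one member of the principal block of G. -/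
theorem result {G : Type*} [Group G] [Finite G] (p : ℕ) [Fact p.Prime] (M : Ideal Cfsg.AlgInt) (hM : Cfsg.IsPModular p M) (N : Subgroup G) [N.Normal] (hidx : ¬ p ∣ N.index) (P : Sylow p G) (hsup : N ⊔ Subgroup.centralizer ((P : Subgroup G) : Set G) = ⊤) : (∀ χ ∈ Cfsg.principalBlock M G, ∃ θ ∈ Cfsg.principalBlock M ↥N, ∀ n : N, (χ : G → ℂ) n = (θ : N → ℂ) n) ∧ ∀ θ ∈ Cfsg.principalBlock M ↥N, ∃! χ : Cfsg.IrrCharacter G, χ ∈ Cfsg.principalBlock M G ∧ ∀ n : N, (χ : G → ℂ) n = (θ : N → ℂ) n := by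
  classical
  cases nonempty_fintype G
  haveI : Fintype N := Fintype.ofFinite N
  have hPN : (P : Subgroup G) ≤ N := by
    intro x hx
    obtain ⟨j, hj⟩ := IsPGroup.iff_orderOf.1 P.isPGroup' ⟨x, hx⟩
    rw [Subgroup.orderOf_mk] at hj
    rw [← QuotientGroup.eq_one_iff, ← orderOf_eq_one_iff]
    refine Nat.eq_one_of_dvd_coprimes
      (((Fact.out : p.Prime).coprime_iff_not_dvd.2 hidx).pow_left j)
      (hj ▸ orderOf_map_dvd (QuotientGroup.mk' N) x) ?_
    rw [Subgroup.index_eq_card]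
    exact orderOf_dvd_natCard _
  have hd : Cfsg.Agent.H81.IsDadePair p N (P : Subgroup G) := ⟨hPN, P.not_dvd_index, fun g => by
    have hg : g ∈ N ⊔ Subgroup.centralizer ((P : Subgroup G) : Set G) := hsup ▸ Subgroup.mem_top g
    rw [Subgroup.mem_sup_of_normal_left] at hg
    obtain ⟨n, hn, y, hy, rfl⟩ := hg
    refine ⟨y, hy, ?_⟩
    have h := Subgroup.Normal.conj_mem ‹N.Normal› _ (N.inv_mem hn) y⁻¹
    simpa [mul_assoc] using h⟩
  have key : ∀ θ : Cfsg.IrrCharacter N, θ ∈ Cfsg.principalBlock M N →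
      ∃ χ : Cfsg.IrrCharacter G, χ ∈ Cfsg.principalBlock M G ∧
        (∀ n : N, (χ : G → ℂ) n = (θ : N → ℂ) n) ∧
        ∀ χ' ∈ Cfsg.principalBlock M G,
          Cfsg.classInner (fun n : N => (χ' : G → ℂ) n) (θ : N → ℂ) ≠ 0 → χ' = χ := by
    intro θ hθ
    obtain ⟨η, hη, hηN⟩ := Cfsg.Agent.H81.exists_extension_principal hM N hd hθ
    obtain ⟨l, hlN, hl⟩ := Cfsg.Agent.H81.exists_eq_twist N hM hd hθ ⟨η, hη⟩ hηN
    obtain ⟨χ, hχ, hover⟩ := Cfsg.Agent.H81.exists_over hM N hd hθ
    refine ⟨χ, hχ, fun n => ?_, fun χ' hχ' hover' => Subtype.ext ?_⟩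
    · rw [hl χ hχ hover]
      show η n * (l n : ℂ) = _
      rw [hlN n n.2, Units.val_one, mul_one, hηN]
    · rw [hl χ hχ hover, hl χ' hχ' hover']
  refine ⟨fun χ hχ => ?_, fun θ hθ => ?_⟩
  · obtain ⟨θ, hover⟩ := Cfsg.Agent.BlockBasic.exists_constituent χ N
    have hθ := Cfsg.Agent.H81.mem_principalBlock_of_over N hM hχ hover
    obtain ⟨χ₀, -, h₀, huniq⟩ := key θ hθ
    exact ⟨θ, hθ, fun n => by rw [huniq χ hχ hover]; exact h₀ n⟩
  · obtain ⟨χ, hχ, hN, huniq⟩ := key θ hθ
    refine ⟨χ, ⟨hχ, hN⟩, fun χ' h' => huniq χ' h'.1 ?_⟩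
    rw [funext h'.2, Cfsg.Agent.CharBasic.classInner_irr_self θ.2]
    exact one_ne_zero

end Cfsg.Agent.S4551
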