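import Cfsg.Statements.S1202
import Cfsg.Agent.H39.WreathCentric
-- import your own Cfsg.Agent.* helpers here

set_option autoImplicit false
open Cfsg

namespace Cfsg.Agent.S1202

open Cfsg.Agent.H39

/-- Let S be a wreathed 2-group of order 2^(2n+1) and X a subgroup with C_S(X) ≤ X such that Aut(X) is not a 2-group. Then |N_S(X) : X| = 2, and either X is the commutative subgroup of order 2^(2n), or X = Q·Z(S) for some subgroup Q ≅ Q₈; in the latter case any two such subgroups are conjugate in S. -/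
theorem result {S : Type*} [Group S] [Finite S] (hS : Cfsg.IsWreathed S) (n : ℕ) (hn : Nat.card S = 2 ^ (2 * n + 1)) (X : Subgroup S) (hC : Subgroup.centralizer (X : Set S) ≤ X) (hA : ¬ IsPGroup 2 (MulAut X)) : X.relIndex (Subgroup.normalizer (X : Set S)) = 2 ∧ ((IsMulCommutative X ∧ Nat.card X = 2 ^ (2 * n)) ∨ ∃ Q : Subgroup S, Nonempty (Q ≃* QuaternionGroup 2) ∧ X = Q ⊔ Subgroup.center S) ∧ ∀ X' : Subgroup S, Subgroup.centralizer (X' : Set S) ≤ X' → ¬ IsPGroup 2 (MulAut X') → ¬ IsMulCommutative X → ¬ IsMulCommutative X' → ∃ s : S, X.map (MulAut.conj s).toMonoidHom = X' := by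
  obtain ⟨m, x, y, z, h⟩ := exists_wGen hS
  obtain rfl := h.eq_n hn
  rcases h.classify hC hA with rfl | ⟨δ, hX⟩
  · exact ⟨h.base_normalizer_relIndex, Or.inl ⟨h.base_comm, h.card_base⟩,
      fun X' _ _ hn' _ => absurd h.base_comm hn'⟩
  refine ⟨h.exc_normalizer_relIndex hX, Or.inr (h.exc_quaternion hX), fun X' hC' hA' _ hn' => ?_⟩
  rcases h.classify hC' hA' with rfl | ⟨δ', hX'⟩
  · exact absurd h.base_comm hn'
  · exact h.exc_conj hX hX'

end Cfsg.Agent.S1202
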