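import Cfsg.Statements.S3116
import Cfsg.Agent.PGroups.Taussky
-- import your own Cfsg.Agent.* helpers here

set_option autoImplicit false
open Cfsg

namespace Cfsg.Agent.S3116

open Subgroup

/-- The automorphism group of a dihedral 2-group of order at least 8, or of a quasi-dihedral (semidihedral) 2-group of order at least 16, is a 2-group. -/
theorem result {X : Type*} [Group X] [Finite X] (h2 : IsPGroup 2 X)
    (h : (∃ n : ℕ, 4 ≤ n ∧ Nonempty (X ≃* DihedralGroup n)) ∨ Cfsg.IsQuasiDihedral X) : IsPGroup 2 (MulAut X) := by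
  haveI : Fact (Nat.Prime 2) := ⟨Nat.prime_two⟩
  rcases h with ⟨n, hn, ⟨e⟩⟩ | ⟨n, hn, hcard, x, y, hx, hy, hxy⟩
  · haveI : NeZero n := ⟨by omega⟩
    obtain ⟨k, hk⟩ := IsPGroup.iff_orderOf.mp h2 (e.symm (DihedralGroup.r 1))
    rw [MulEquiv.orderOf_eq, DihedralGroup.orderOf_r_one] at hk
    subst hk
    set c := e.symm (DihedralGroup.r 1) with hcdef
    have hc : orderOf c = 2 ^ k := by rw [hcdef, MulEquiv.orderOf_eq, DihedralGroup.orderOf_r_one]
    have hmem : ∀ g : X, (∃ i, e g = DihedralGroup.r i) → g ∈ zpowers c := by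
      rintro g ⟨i, hi⟩
      refine ⟨(i.val : ℤ), e.injective ?_⟩
      show e (c ^ (i.val : ℤ)) = e g
      rw [hi, zpow_natCast, map_pow, hcdef, MulEquiv.apply_symm_apply, DihedralGroup.r_one_pow, ZMod.natCast_zmod_val]
    have hys : e.symm (DihedralGroup.sr 0) ∉ zpowers c := by
      rintro ⟨i, hi⟩
      have h1 := congrArg e hi
      change e (c ^ i) = _ at h1
      rw [map_zpow, hcdef, MulEquiv.apply_symm_apply, MulEquiv.apply_symm_apply, DihedralGroup.r_one_zpow] at h1
      cases h1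
    refine PGroups.isPGroup_mulAut hc ?_ hys ?_
    · have h1 := (zpowers c).card_mul_index
      rw [Nat.card_zpowers, hc, Nat.card_congr e.toEquiv, DihedralGroup.nat_card, mul_comm 2] at h1
      exact Nat.eq_of_mul_eq_mul_left (by positivity) h1
    · intro φ
      refine hmem _ ?_
      cases h' : e (φ c) with
      | r i => exact ⟨i, rfl⟩
      | sr i =>
        have h1 : orderOf (e (φ c)) = 2 ^ k := by rw [MulEquiv.orderOf_eq, MulEquiv.orderOf_eq, hc]
        rw [h', DihedralGroup.orderOf_sr] at h1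
        omega
  · have hyx : y ∉ zpowers x := by
      rintro ⟨i, hi⟩
      change x ^ i = y at hi
      have h1 : y * x * y⁻¹ = x := by rw [← hi]; group
      rw [hxy] at h1
      have h3 : orderOf x ∣ 2 ^ (n - 1) - 1 - 1 := by
        refine orderOf_dvd_of_pow_eq_one ?_
        have h4 : 1 ≤ 2 ^ (n - 1) - 1 := by
          have : 2 ^ 1 ≤ 2 ^ (n - 1) := Nat.pow_le_pow_right two_pos (by omega)
          omega
        rw [pow_sub _ h4, pow_one, h1, mul_inv_cancel]
      rw [hx] at h3
      have h5 : 2 ^ n = 2 * 2 ^ (n - 1) := by rw [← pow_succ', Nat.sub_add_cancel (by omega)]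
      have h6 : 2 ^ 2 ≤ 2 ^ (n - 1) := Nat.pow_le_pow_right two_pos (by omega)
      have h7 := Nat.le_of_dvd (by omega) h3
      omega
    have hidx : (zpowers x).index = 2 := by
      have h1 := (zpowers x).card_mul_index
      rw [Nat.card_zpowers, hx, hcard, pow_succ] at h1
      exact Nat.eq_of_mul_eq_mul_left (by positivity) h1
    refine PGroups.isPGroup_mulAut hx hidx hyx fun φ => ?_
    by_contra hφ
    obtain ⟨i, hi⟩ := Subgroup.mem_zpowers_iff.mp
      (((Subgroup.mul_mem_iff_of_index_two hidx).mpr (by simp [hyx, hφ])) : y⁻¹ * φ x ∈ zpowers x)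
    have hφx : φ x = y * x ^ i := by rw [hi, mul_inv_cancel_left]
    have h4 : φ x ^ 4 = 1 := by
      rw [show (4 : ℕ) = 2 * 2 from rfl, pow_mul, hφx,
        PGroups.sq_mul_zpow (r := ((2 ^ (n - 1) - 1 : ℕ) : ℤ)) (s := 0) (by rw [zpow_natCast]; exact hxy)
          (by rw [zpow_zero, ← hy, pow_orderOf_eq_one]),
        ← zpow_natCast, ← zpow_mul, PGroups.zpow_eq_one_iff_dvd hx, Nat.cast_sub Nat.one_le_two_pow]
      refine ⟨i, ?_⟩
      push_cast
      nth_rw 2 [show n = n - 1 + 1 by omega]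
      rw [pow_succ]; ring
    have h5 := orderOf_le_of_pow_eq_one (by norm_num) h4
    rw [MulEquiv.orderOf_eq, hx] at h5
    have : 2 ^ 3 ≤ 2 ^ n := Nat.pow_le_pow_right two_pos hn
    omega

end Cfsg.Agent.S3116
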