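import Cfsg.Statements.S2585


set_option autoImplicit false
open Cfsg

namespace Cfsg.Agent.S2585

section
open QuadraticMap

variable {F : Type*} [Field F] [Fintype F] [CharP F 2] {m : ℕ}

theorem sympForm_eq (u v : Fin m ⊕ Fin m → F) :
    Cfsg.sympForm m F u v = ∑ i, u (.inl i) * v (.inr i) + ∑ i, v (.inl i) * u (.inr i) := by
  simp [Cfsg.sympForm, Matrix.J, dotProduct, Matrix.mulVec, Fintype.sum_sum_type,
    Matrix.fromBlocks, Matrix.one_apply, CharTwo.neg_eq, mul_comm]

theorem exists_form (A : Matrix.symplecticGroup (Fin m) F) :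
    ∃ Q : QuadraticForm F (Fin m ⊕ Fin m → F),
      (∀ u v : Fin m ⊕ Fin m → F, QuadraticMap.polar ⇑Q u v = Cfsg.sympForm m F u v) ∧
      ∀ v : Fin m ⊕ Fin m → F, Q ((A : Matrix (Fin m ⊕ Fin m) (Fin m ⊕ Fin m) F).mulVec v) = Q v := by
  set M := (A : Matrix (Fin m ⊕ Fin m) (Fin m ⊕ Fin m) F) with hM
  set Q₀ : QuadraticForm F (Fin m ⊕ Fin m → F) :=
    ∑ i : Fin m, linMulLin (LinearMap.proj (.inl i)) (LinearMap.proj (.inr i)) with hQ₀
  have hQv : ∀ v, Q₀ v = ∑ i, v (.inl i) * v (.inr i) := by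
    intro v; simp [hQ₀, QuadraticMap.sum_apply]
  have hadd : ∀ u v, Q₀ (u + v) = Q₀ u + Q₀ v + Cfsg.sympForm m F u v := by
    intro u v
    simp only [hQv, sympForm_eq, Pi.add_apply, ← Finset.sum_add_distrib]
    exact Finset.sum_congr rfl fun i _ => by ring
  have hinv : ∀ u v, Cfsg.sympForm m F (M.mulVec u) (M.mulVec v) = Cfsg.sympForm m F u v := by
    intro u v
    unfold Cfsg.sympForm
    rw [← Matrix.vecMul_transpose M, ← Matrix.dotProduct_mulVec, Matrix.mulVec_mulVec,
      Matrix.mulVec_mulVec, hM, SymplecticGroup.mem_iff'.mp A.2]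
  have htwo : ∀ x : F, x + x = 0 := CharTwo.add_self_eq_zero
  have : Fact (Nat.Prime 2) := ⟨Nat.prime_two⟩
  let φ : F ≃+* F := frobeniusEquiv F 2
  have hφ : ∀ x : F, φ x = x ^ 2 := fun x => rfl
  have hs : ∀ x : F, φ.symm x ^ 2 = x := fun x => by rw [← hφ, φ.apply_symm_apply]
  let d : (Fin m ⊕ Fin m → F) →ₗ[F] F :=
    { toFun := fun v => φ.symm (Q₀ (M.mulVec v) + Q₀ v)
      map_add' := fun u v => by
        rw [← map_add φ.symm, Matrix.mulVec_add, hadd, hadd, hinv]
        congr 1
        linear_combination htwo (Cfsg.sympForm m F u v)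
      map_smul' := fun c v => by
        rw [RingHom.id_apply, smul_eq_mul, Matrix.mulVec_smul, QuadraticMap.map_smul,
          QuadraticMap.map_smul, smul_eq_mul, smul_eq_mul, ← mul_add, map_mul, ← pow_two, ← hφ,
          φ.symm_apply_apply] }
  have hd : d ∈ LinearMap.range (M.mulVecLin + LinearMap.id).dualMap := by
    rw [LinearMap.range_dualMap_eq_dualAnnihilator_ker, Submodule.mem_dualAnnihilator]
    intro v hv
    have hv' : M.mulVec v = v := by
      have h : M.mulVec v + v = 0 := hv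
      funext i
      have hi := congrFun h i
      rw [Pi.add_apply, Pi.zero_apply] at hi
      linear_combination hi - htwo (v i)
    show φ.symm (Q₀ (M.mulVec v) + Q₀ v) = 0
    rw [hv', htwo, map_zero]
  obtain ⟨ℓ, hℓ⟩ := hd
  refine ⟨Q₀ + linMulLin ℓ ℓ, ?_, ?_⟩
  · intro u v
    simp only [QuadraticMap.polar, QuadraticMap.add_apply, linMulLin_apply, hadd, map_add]
    linear_combination htwo (ℓ u * ℓ v)
  · intro v
    have h : ℓ (M.mulVec v) + ℓ v = d v := by
      rw [← hℓ]; simp [LinearMap.dualMap_apply]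
    have h2 : d v ^ 2 = Q₀ (M.mulVec v) + Q₀ v := hs _
    simp only [QuadraticMap.add_apply, linMulLin_apply]
    linear_combination (ℓ (M.mulVec v) + ℓ v + d v) * h + h2 + htwo (Q₀ (M.mulVec v))
      - htwo (ℓ v * ℓ v) - htwo (ℓ (M.mulVec v) * ℓ v)

end


/-- Over a finite field of characteristic two every element of the symplectic group is orthogonal for a suitable quadratic form: for each A in Sp_2m(F) there is a quadratic form Q on F^(2m) whose polar form is the alternating form defining Sp_2m(F) (so Q is non-degenerate) and which A preserves. Equivalently, for m ≥ 1, Sp_2m(F) is the union of the conjugates of its two orthogonal subgroups O⁺_2m(F) and O⁻_2m(F). -/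
theorem result {F : Type*} [Field F] [Fintype F] [CharP F 2] {m : ℕ} (A : Matrix.symplecticGroup (Fin m) F) : ∃ Q : QuadraticForm F (Fin m ⊕ Fin m → F), (∀ u v : Fin m ⊕ Fin m → F, QuadraticMap.polar ⇑Q u v = Cfsg.sympForm m F u v) ∧ ∀ v : Fin m ⊕ Fin m → F, Q ((A : Matrix (Fin m ⊕ Fin m) (Fin m ⊕ Fin m) F).mulVec v) = Q v := by
  exact exists_form A

end Cfsg.Agent.S2585
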