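import Cfsg.Statements.S5665
import Cfsg.Agent.Symplectic.SkewMax
import Mathlib

set_option autoImplicit false
open Cfsg

namespace Cfsg.Agent.S5665

open scoped MatrixGroups Matrix
open Matrix Cfsg.Agent.H95 Cfsg.Agent.Symplectic

variable {ι : Type} [Fintype ι] [DecidableEq ι] {F : Type*} [Field F]

theorem adj_unique {f : (ι → F) → (ι → F) → F} (hf : Geo.IsSymplecticForm f) {a b : Matrix ι ι F}
    (h : ∀ u v, f u (a *ᵥ v) = f u (b *ᵥ v)) : a = b := by
  refine mat_ext fun v => ?_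
  rw [← sub_eq_zero]
  by_contra hne
  obtain ⟨⟨x, hx⟩, -⟩ := hf.nondegenerate _ hne
  exact hx (by rw [f_sub_right hf, h, sub_self])

/-- the algebra is spanned by `1` and a skew square root of a non-square -/
theorem exists_skew [Nonempty ι] {f : (ι → F) → (ι → F) → F} (hf : Geo.IsSymplecticForm f)
    (h2 : (2 : F) ≠ 0) {K : Subalgebra F (Matrix ι ι F)} (hK : Geo.IsFieldSubalgebra 2 K)
    (hac : Geo.IsAdjointClosedFor f K) (hnsa : ¬ Geo.IsSelfAdjointFor f K) :
    ∃ (j : Matrix ι ι F) (d : F), SkewStr f j d ∧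
      ∀ k, k ∈ K ↔ ∃ a b : F, k = a • (1 : Matrix ι ι F) + b • j := by
  simp only [Geo.IsSelfAdjointFor, not_forall] at hnsa
  obtain ⟨k, hk, u0, v0, hk0⟩ := hnsa
  obtain ⟨k', hk', hadj⟩ := hac k hk
  obtain ⟨k'', -, hadj'⟩ := hac k' hk'
  have hkk : k'' = k := adj_unique hf fun u v => by
    rw [← hadj', f_skew hf (k' *ᵥ u) v, f_skew hf u (k *ᵥ v), hadj]
  subst hkk
  set j := k'' - k' with hj
  have hskew : ∀ x y, f (j *ᵥ x) y = -f x (j *ᵥ y) := fun x y => by
    rw [hj, sub_mulVec, sub_mulVec, f_sub_left hf, f_sub_right hf, hadj, hadj']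
    ring
  have hjK : j ∈ K := K.sub_mem hk hk'
  have hj0 : j ≠ 0 := fun e => hk0 (by rw [hadj, ← sub_eq_zero.1 (hj.symm.trans e)])
  have hind : LinearIndependent F ![(⟨1, K.one_mem⟩ : K), ⟨j, hjK⟩] := by
    rw [LinearIndependent.pair_iff]
    intro s t hst
    have hst' : s • (1 : Matrix ι ι F) + t • j = 0 := congrArg Subtype.val hst
    rcases eq_or_ne t 0 with rfl | ht
    · rw [zero_smul, add_zero] at hst'
      obtain ⟨i⟩ := ‹Nonempty ι›
      exact ⟨by simpa using congrFun (congrFun hst' i) i, rfl⟩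
    exfalso
    apply hj0
    refine mat_ext fun v => ?_
    rw [zero_mulVec]
    have hv : ∀ w, j *ᵥ w = (-s / t) • w := fun w => by
      have := congrArg (fun N : Matrix ι ι F => N *ᵥ w) hst'
      simp only [add_mulVec, Matrix.smul_mulVec, one_mulVec, zero_mulVec] at this
      rw [neg_div, neg_smul, div_eq_inv_mul, mul_smul, eq_neg_of_add_eq_zero_left this, smul_neg,
        inv_smul_smul₀ ht, neg_neg]
    rw [hv]
    by_contra hne
    obtain ⟨y, hy⟩ := exists_f_eq_one hf hne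
    have := hskew v y
    rw [hv, hv y, f_smul_right hf] at this
    rw [hy] at this
    rw [f_smul_left hf] at hy
    exact h2 (by linear_combination this - hy)
  have hspan : ∀ k, k ∈ K ↔ ∃ a b : F, k = a • (1 : Matrix ι ι F) + b • j := by
    refine fun k => ⟨fun hkK => ?_, ?_⟩
    · have htop := hind.span_eq_top_of_card_eq_finrank (by rw [Fintype.card_fin, hK.finrank_eq])
      have : (⟨k, hkK⟩ : K) ∈ Submodule.span F (Set.range ![(⟨1, K.one_mem⟩ : K), ⟨j, hjK⟩]) :=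
        htop ▸ Submodule.mem_top
      rw [Matrix.range_cons_cons_empty, Submodule.mem_span_pair] at this
      obtain ⟨a, b, hab⟩ := this
      exact ⟨a, b, (congrArg Subtype.val hab).symm⟩
    · rintro ⟨a, b, rfl⟩
      exact K.add_mem (K.smul_mem K.one_mem a) (K.smul_mem hjK b)
  obtain ⟨d, b, hjj⟩ := (hspan (j * j)).1 (K.mul_mem hjK hjK)
  obtain ⟨x0, hx0⟩ : ∃ x, j *ᵥ x ≠ 0 := by
    by_contra h
    push Not at h
    exact hj0 (mat_ext fun v => by rw [h, zero_mulVec])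
  have hb : b = 0 := by
    obtain ⟨y, hy⟩ := exists_f_eq_one hf hx0
    have e : ∀ z, j *ᵥ (j *ᵥ z) = d • z + b • (j *ᵥ z) := fun z => by
      rw [mulVec_mulVec, hjj, add_mulVec, Matrix.smul_mulVec, Matrix.smul_mulVec, one_mulVec]
    have h1 := hskew (j *ᵥ x0) y
    rw [hskew x0 (j *ᵥ y), e, e, f_add_left hf, f_add_right hf, f_smul_left hf, f_smul_left hf,
      f_smul_right hf, f_smul_right hf, hskew x0 y] at h1
    rw [hskew x0 y] at hy
    exact (mul_eq_zero.1 (show (2 * f x0 (j *ᵥ y)) * b = 0 by linear_combination -h1)).resolve_left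
      (mul_ne_zero h2 (by intro h; rw [h, neg_zero] at hy; exact zero_ne_one hy))
  refine ⟨j, d, ⟨hf, fun x => ?_, fun s hs => ?_, hskew⟩, hspan⟩
  · rw [mulVec_mulVec, hjj, hb, zero_smul, add_zero, Matrix.smul_mulVec, one_mulVec]
  · have hp : (j - s • (1 : Matrix ι ι F)) * (j + s • (1 : Matrix ι ι F)) = 0 := by
      rw [sub_mul, mul_add, mul_add, hjj, hb]
      simp only [mul_smul_comm, smul_mul_assoc, mul_one, one_mul, zero_smul, add_zero, smul_smul,
        ← hs, pow_two]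
      module
    have hm : j - s • (1 : Matrix ι ι F) ∈ K := K.sub_mem hjK (K.smul_mem K.one_mem s)
    have hne : ∀ t : F, j + t • (1 : Matrix ι ι F) ≠ 0 := fun t e => by
      have := LinearIndependent.pair_iff.1 hind t 1 (Subtype.ext (by
        simpa [add_comm] using e))
      exact one_ne_zero this.2
    obtain ⟨y, -, hy⟩ := hK.inv _ hm (by rw [sub_eq_add_neg, ← neg_smul]; exact hne _)
    apply hne s
    have : (j - s • (1 : Matrix ι ι F)) * y = y * (j - s • (1 : Matrix ι ι F)) := by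
      rw [hy, mul_eq_one_comm.1 hy]
    calc j + s • (1 : Matrix ι ι F) = (y * (j - s • 1)) * (j + s • 1) := by
          rw [← this, hy, one_mul]
      _ = 0 := by rw [mul_assoc, hp, mul_zero]

/-- An isometry sending complex lines to complex lines is semilinear. -/
theorem exists_sign (h2 : (2 : F) ≠ 0) (hn : 6 ≤ Fintype.card ι)
    {f : (ι → F) → (ι → F) → F} {j : Matrix ι ι F} {d : F} (C : SkewStr f j d) {g : GL ι F}
    (hg : g ∈ isoGrp f)
    (h : ∀ b, f b (j *ᵥ b) ≠ 0 → (g : Matrix ι ι F) *ᵥ (j *ᵥ b) ∈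
      Submodule.span F {(g : Matrix ι ι F) *ᵥ b, j *ᵥ ((g : Matrix ι ι F) *ᵥ b)}) :
    ∃ q : F, q ≠ 0 ∧
      ∀ x, j *ᵥ ((g : Matrix ι ι F) *ᵥ x) = q • ((g : Matrix ι ι F) *ᵥ (j *ᵥ x)) := by
  have hf := C.symp
  set T : Matrix ι ι F := ((g⁻¹ : GL ι F) : Matrix ι ι F) * j * (g : Matrix ι ι F) with hTdef
  have hgT : ∀ x, (g : Matrix ι ι F) *ᵥ (T *ᵥ x) = j *ᵥ ((g : Matrix ι ι F) *ᵥ x) := fun x => by
    rw [hTdef, ← mulVec_mulVec, ← mulVec_mulVec, mulVec_inv_mulVec]
  have Tskew : ∀ x y, f (T *ᵥ x) y = -f x (T *ᵥ y) := fun x y => by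
    rw [← mem_isoGrp.1 hg (T *ᵥ x), ← mem_isoGrp.1 hg x, hgT, hgT, C.skew]
  have Tsq : ∀ x, T *ᵥ (T *ᵥ x) = d • x := fun x => by
    refine gl_mulVec_injective g ?_
    show (g : Matrix ι ι F) *ᵥ _ = (g : Matrix ι ι F) *ᵥ _
    rw [hgT, hgT, C.sq, mulVec_smul]
  have jb_ne : ∀ b, f b (j *ᵥ b) ≠ 0 → f (j *ᵥ b) (j *ᵥ (j *ᵥ b)) ≠ 0 := fun b hb => by
    rw [C.sq, f_smul_right hf, f_skew hf]; simp [C.d_ne, hb]
  have line : ∀ b, f b (j *ᵥ b) ≠ 0 → ∃ p q : F, T *ᵥ b = p • b + q • (j *ᵥ b) := by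
    intro b hb
    obtain ⟨s, t, e⟩ := Submodule.mem_span_pair.1 (h b hb)
    rw [← hgT, ← mulVec_smul, ← mulVec_smul, ← mulVec_add] at e
    have e' := gl_mulVec_injective g e
    rcases eq_or_ne t 0 with rfl | ht
    · rw [zero_smul, add_zero] at e'
      exact absurd e'.symm (C.j_ne_smul (C.norm_ne hb) s)
    · refine ⟨-(t⁻¹ * s), t⁻¹, ?_⟩
      rw [← e', smul_add, inv_smul_smul₀ ht, smul_smul]
      module
  -- coefficients in orthogonal complex lines
  have indep : ∀ b c, f b (j *ᵥ b) ≠ 0 → f c (j *ᵥ c) ≠ 0 → f b c = 0 → f b (j *ᵥ c) = 0 →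
      ∀ p q p' q' : F, p • b + q • (j *ᵥ b) + (p' • c + q' • (j *ᵥ c)) = 0 →
        p = 0 ∧ q = 0 ∧ p' = 0 ∧ q' = 0 := by
    intro b c hb hc bc bjc p q p' q' e
    have cb := f_symm_zero hf bc
    have jcb : f (j *ᵥ c) b = 0 := f_symm_zero hf bjc
    have cjb : f c (j *ᵥ b) = 0 := by rw [← C.h_symm, bjc]
    have jbc : f (j *ᵥ b) c = 0 := f_symm_zero hf cjb
    have jbjc : f (j *ᵥ b) (j *ᵥ c) = 0 := by rw [C.f_jj, bc, mul_zero, neg_zero]
    have jcjb := f_symm_zero hf jbjc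
    have e1 := congrArg (fun y => f y (j *ᵥ b)) e
    have e2 := congrArg (fun y => f y b) e
    have e3 := congrArg (fun y => f y (j *ᵥ c)) e
    have e4 := congrArg (fun y => f y c) e
    simp only [f_add_left hf, f_smul_left hf, f_self hf, f_zero_left hf, bc, bjc, cb, jcb, cjb, jbc,
      jbjc, jcjb, mul_zero, add_zero, zero_add, mul_eq_zero, f_skew hf (j *ᵥ b) b,
      f_skew hf (j *ᵥ c) c, neg_eq_zero, hb, hc, or_false] at e1 e2 e3 e4
    exact ⟨e1, e2, e3, e4⟩
  have Q : ∀ b c, f b (j *ᵥ b) ≠ 0 → f c (j *ᵥ c) ≠ 0 → f b c = 0 → f b (j *ᵥ c) = 0 →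
      f b (j *ᵥ b) + f c (j *ᵥ c) ≠ 0 → -(d * f b (j *ᵥ b)) + f c (j *ᵥ c) ≠ 0 →
      ∃ q : F, q ^ 2 = 1 ∧ (T *ᵥ b = q • (j *ᵥ b) ∧ T *ᵥ (j *ᵥ b) = (q * d) • b) ∧
        (T *ᵥ c = q • (j *ᵥ c) ∧ T *ᵥ (j *ᵥ c) = (q * d) • c) := by
    intro b c hb hc bc bjc s1 s2
    have cb := f_symm_zero hf bc
    have cjb : f c (j *ᵥ b) = 0 := by rw [← C.h_symm, bjc]
    have jbc : f (j *ᵥ b) c = 0 := f_symm_zero hf cjb
    have jbjc : f (j *ᵥ b) (j *ᵥ c) = 0 := by rw [C.f_jj, bc, mul_zero, neg_zero]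
    have jcb : f (j *ᵥ c) b = 0 := f_symm_zero hf bjc
    have hjb := jb_ne b hb
    have sum1 : f (b + c) (j *ᵥ (b + c)) ≠ 0 := by
      simpa [mulVec_add, f_add_left hf, f_add_right hf, bjc, cjb] using s1
    have sum2 : f (j *ᵥ b + c) (j *ᵥ (j *ᵥ b + c)) ≠ 0 := by
      simpa [mulVec_add, C.sq, f_add_left hf, f_add_right hf, f_smul_right hf, jbjc, cb,
        f_skew hf (j *ᵥ b) b] using s2
    obtain ⟨p1, q1, E1⟩ := line b hb
    obtain ⟨p2, q2, E2⟩ := line c hc
    obtain ⟨p3, q3, E3⟩ := line _ sum1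
    obtain ⟨p4, q4, E4⟩ := line _ hjb
    obtain ⟨p5, q5, E5⟩ := line _ sum2
    rw [mulVec_add, E1, E2] at E3
    rw [mulVec_add, E4, E2] at E5
    simp only [mulVec_add, C.sq] at E3 E4 E5
    obtain ⟨a1, a2, a3, a4⟩ := indep b c hb hc bc bjc (p1 - p3) (q1 - q3) (p2 - p3) (q2 - q3)
      (by linear_combination (norm := module) E3)
    obtain ⟨a5, a6, a7, a8⟩ := indep b c hb hc bc bjc ((q4 - q5) * d) (p4 - p5) (p2 - p5) (q2 - q5)
      (by linear_combination (norm := module) E5)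
    have hp4 : p4 = -p1 := by
      have := Tskew (j *ᵥ b) b
      rw [E4, E1] at this
      simp only [f_add_left hf, f_add_right hf, f_smul_left hf, f_smul_right hf, f_self hf,
        f_skew hf (j *ᵥ b) b] at this
      exact mul_right_cancel₀ hb (by linear_combination -this)
    have hq4 : q4 = q5 := sub_eq_zero.1 ((mul_eq_zero.1 a5).resolve_right C.d_ne)
    have hp1 : p1 = 0 := (mul_eq_zero.1 (show (2 : F) * p1 = 0 by
      linear_combination a1 - a3 + a7 - a6 + hp4)).resolve_left h2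
    have hp2 : p2 = 0 := by linear_combination a3 - a1 + hp1
    have hq2 : q2 = q1 := by linear_combination a4 - a2
    have hq41 : q4 = q1 := by linear_combination hq4 - a8 + hq2
    have hp40 : p4 = 0 := by linear_combination hp4 - hp1
    subst hp1 hp2
    rw [zero_smul, zero_add] at E1 E2
    rw [hp40, zero_smul, zero_add, hq41, smul_smul] at E4
    rw [hq2] at E2
    have hsq : q1 ^ 2 = 1 := by
      have h4 := Tsq b
      rw [E1, mulVec_smul, E4, smul_smul] at h4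
      have h5 : (q1 * (q1 * d) - d) • b = 0 := by rw [sub_smul, h4, sub_self]
      have h6 := (smul_eq_zero.1 h5).resolve_right (C.norm_ne hb)
      exact mul_right_cancel₀ C.d_ne (by linear_combination h6)
    refine ⟨q1, hsq, ⟨E1, E4⟩, E2, ?_⟩
    have h4 := Tsq c
    rw [E2, mulVec_smul] at h4
    calc T *ᵥ (j *ᵥ c) = (q1 ^ 2) • (T *ᵥ (j *ᵥ c)) := by rw [hsq, one_smul]
      _ = q1 • (d • c) := by rw [← h4, smul_smul, pow_two]
      _ = (q1 * d) • c := smul_smul _ _ _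
  -- a base vector and a partner
  obtain ⟨b, hb⟩ : ∃ b, f b (j *ᵥ b) ≠ 0 := by
    haveI : Nonempty ι := Fintype.card_pos_iff.1 (by omega)
    obtain ⟨i⟩ := ‹Nonempty ι›
    have hout : Pi.single i (1 : F) ∉
        Submodule.span F ({(0 : ι → F), j *ᵥ (0 : ι → F)} : Set (ι → F)) := by
      simpa [mulVec_zero] using (fun h => one_ne_zero (α := F) (by simpa using congrFun h i) :
        Pi.single i (1 : F) ≠ 0)
    obtain ⟨b, hb, -⟩ := C.exists_aniso h2 hn hout
    exact ⟨b, hb⟩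
  have hd1 : (1 : F) - d ≠ 0 := by simpa using C.den_ne 1
  have full : ∀ c, f c (j *ᵥ c) ≠ 0 → f b c = 0 → f b (j *ᵥ c) = 0 →
      ∃ q : F, q ^ 2 = 1 ∧ (T *ᵥ b = q • (j *ᵥ b) ∧ T *ᵥ (j *ᵥ b) = (q * d) • b) ∧
        T *ᵥ c = q • (j *ᵥ c) := by
    intro c hc bc bjc
    have back : ∀ q : F, T *ᵥ (c + j *ᵥ c) = q • (j *ᵥ (c + j *ᵥ c)) →
        T *ᵥ (j *ᵥ (c + j *ᵥ c)) = (q * d) • (c + j *ᵥ c) → T *ᵥ c = q • (j *ᵥ c) := by
      intro q e1 e2
      have e : (1 - d) • c = (c + j *ᵥ c) - j *ᵥ (c + j *ᵥ c) := by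
        simp only [mulVec_add, C.sq]; module
      rw [← inv_smul_smul₀ hd1 c, e]
      simp only [mulVec_smul, mulVec_sub, e1, e2, C.sq]
      module
    have hn' : f (c + j *ᵥ c) (j *ᵥ (c + j *ᵥ c)) = (1 - d) * f c (j *ᵥ c) := by
      simp only [mulVec_add, C.sq, f_add_left hf, f_add_right hf, f_smul_right hf, C.f_jj,
        f_self hf, f_skew hf (j *ᵥ c) c]
      ring
    have hc' : f (c + j *ᵥ c) (j *ᵥ (c + j *ᵥ c)) ≠ 0 := by rw [hn']; exact mul_ne_zero hd1 hc
    have jbjc : f (j *ᵥ b) (j *ᵥ c) = 0 := by rw [C.f_jj, bc, mul_zero, neg_zero]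
    have jbc : f (j *ᵥ b) c = 0 := by rw [C.skew, bjc, neg_zero]
    by_cases s1 : f b (j *ᵥ b) + f c (j *ᵥ c) = 0
    · obtain ⟨q, hq, hbq, e1, e2⟩ := Q b (c + j *ᵥ c) hb hc'
        (by simp [f_add_right hf, bc, bjc])
        (by simp [mulVec_add, C.sq, f_add_right hf, f_smul_right hf, bc, bjc])
        (fun e => mul_ne_zero C.d_ne hc (by rw [hn'] at e; linear_combination s1 - e))
        (fun e => hc (by rw [hn'] at e; linear_combination e + d * s1))
      exact ⟨q, hq, hbq, back q e1 e2⟩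
    by_cases s2 : -(d * f b (j *ᵥ b)) + f c (j *ᵥ c) = 0
    · have hjb := jb_ne b hb
      have njb : f (j *ᵥ b) (j *ᵥ (j *ᵥ b)) = -(d * f b (j *ᵥ b)) := C.f_jj b (j *ᵥ b)
      obtain ⟨q, hq, ⟨b1, b2⟩, e1, e2⟩ := Q (j *ᵥ b) (c + j *ᵥ c) hjb hc'
        (by simp [f_add_right hf, jbc, jbjc])
        (by simp [mulVec_add, C.sq, f_add_right hf, f_smul_right hf, jbc, jbjc])
        (fun e => mul_ne_zero C.d_ne hc (by rw [njb, hn'] at e; linear_combination s2 - e))
        (fun e => hc (by rw [njb, hn'] at e; linear_combination e + d * s2))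
      rw [C.sq, smul_smul] at b1
      rw [C.sq, mulVec_smul] at b2
      refine ⟨q, hq, ⟨?_, b1⟩, back q e1 e2⟩
      rw [← inv_smul_smul₀ C.d_ne (T *ᵥ b), b2, smul_smul, mul_comm q d,
        inv_mul_cancel_left₀ C.d_ne]
    · obtain ⟨q, hq, hbq, e1, -⟩ := Q b c hb hc bc bjc s1 s2
      exact ⟨q, hq, hbq, e1⟩
  obtain ⟨z, hz⟩ : ∃ z, z ∉ Submodule.span F ({b, j *ᵥ b} : Set (ι → F)) := by
    by_contra hcon
    push Not at hcon
    have h1 := Submodule.finrank_mono (fun x (_ : x ∈ (⊤ : Submodule F (ι → F))) => hcon x)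
    classical
    have h5 := finrank_span_finset_le_card (R := F) ({b, j *ᵥ b} : Finset (ι → F))
    rw [Set.finrank, Finset.coe_insert, Finset.coe_singleton] at h5
    have h6 := (Finset.card_le_two (a := b) (b := j *ᵥ b))
    rw [finrank_top, Module.finrank_fintype_fun_eq_card] at h1
    omega
  obtain ⟨c0, hc0, bc0, bjc0, -⟩ := C.exists_aniso h2 hn hz
  obtain ⟨q, hq, ⟨hb1, hb2⟩, -⟩ := full c0 hc0 bc0 bjc0
  have hc_all : ∀ c, f b c = 0 → f b (j *ᵥ c) = 0 → f c (j *ᵥ c) ≠ 0 →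
      T *ᵥ c = q • (j *ᵥ c) := by
    intro c bc bjc hc
    obtain ⟨q', hq', ⟨e1, -⟩, e3⟩ := full c hc bc bjc
    have : (q - q') • (j *ᵥ b) = 0 := by rw [sub_smul, ← hb1, ← e1, sub_self]
    have hjb0 : j *ᵥ b ≠ 0 := fun e => hb (by rw [e, f_zero_right hf])
    rw [e3, sub_eq_zero.1 ((smul_eq_zero.1 this).resolve_right hjb0)]
  have hperp : ∀ c, f b c = 0 → f b (j *ᵥ c) = 0 → T *ᵥ c = q • (j *ᵥ c) := by
    intro c bc bjc
    by_cases hc : f c (j *ᵥ c) = 0
    swap
    · exact hc_all c bc bjc hc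
    rcases eq_or_ne c 0 with rfl | hc0
    · simp
    have hout : c ∉ Submodule.span F ({b, j *ᵥ b} : Set (ι → F)) := by
      intro hmem
      obtain ⟨x, y, rfl⟩ := Submodule.mem_span_pair.1 hmem
      apply hc0
      have hx : x = 0 := by
        have := bjc
        simp only [mulVec_add, mulVec_smul, C.sq, f_add_right hf, f_smul_right hf, f_self hf,
          mul_zero, add_zero, mul_eq_zero] at this
        exact this.resolve_right hb
      have hy : y = 0 := by
        have := bc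
        simp only [f_add_right hf, f_smul_right hf, f_self hf, mul_zero, zero_add,
          mul_eq_zero] at this
        exact this.resolve_right hb
      rw [hx, hy, zero_smul, zero_smul, add_zero]
    obtain ⟨e, he, be, bje, -⟩ := C.exists_aniso h2 hn hout
    by_cases hp : f (c + e) (j *ᵥ (c + e)) = 0
    · have hm : f (c - e) (j *ᵥ (c - e)) ≠ 0 := by
        intro hm
        simp only [mulVec_add, mulVec_sub, f_add_left hf, f_add_right hf, f_sub_left hf,
          f_sub_right hf, hc] at hp hm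
        exact he ((mul_eq_zero.1 (show (2 : F) * f e (j *ᵥ e) = 0 by
          linear_combination hp + hm)).resolve_left h2)
      have e1 := hc_all (c - e) (by rw [f_sub_right hf, bc, be, sub_zero])
        (by rw [mulVec_sub, f_sub_right hf, bjc, bje, sub_zero]) hm
      rw [mulVec_sub, hc_all e be bje he, mulVec_sub, smul_sub] at e1
      exact sub_left_inj.1 e1
    · have e1 := hc_all (c + e) (by rw [f_add_right hf, bc, be, add_zero])
        (by rw [mulVec_add, f_add_right hf, bjc, bje, add_zero]) hp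
      rw [mulVec_add, hc_all e be bje he, mulVec_add, smul_add] at e1
      exact add_right_cancel e1
  have hall : ∀ x, T *ᵥ x = q • (j *ᵥ x) := by
    intro x
    have o1 : f b (x - cproj f j b x) = 0 := f_symm_zero hf (C.cproj_orth_left hb x)
    have o2 : f b (j *ᵥ (x - cproj f j b x)) = 0 := by
      rw [C.h_symm, C.cproj_orth_right hb x]
    have e := hperp _ o1 o2
    have e2 : T *ᵥ cproj f j b x = q • (j *ᵥ cproj f j b x) := by
      simp only [cproj, mulVec_smul, mulVec_sub, hb1, hb2, C.sq]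
      module
    rw [mulVec_sub, e2, mulVec_sub, smul_sub] at e
    exact sub_left_inj.1 e
  refine ⟨q, fun e => zero_ne_one (α := F) (by rw [← hq, e]; ring), fun x => ?_⟩
  rw [← hgT, hall, mulVec_smul]

theorem main [Finite F] (h2 : (2 : F) ≠ 0) (hn : 6 ≤ Fintype.card ι)
    {f : (ι → F) → (ι → F) → F} (K : Subalgebra F (Matrix ι ι F)) (hK : Geo.IsFieldSubalgebra 2 K)
    (hf : Geo.IsSymplecticForm f) (hac : Geo.IsAdjointClosedFor f K)
    (hnsa : ¬ Geo.IsSelfAdjointFor f K) :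
    Geo.IsMaximalIn (isoGrp f) (Geo.subalgebraNormalizer K ⊓ isoGrp f) := by
  haveI : Nonempty ι := Fintype.card_pos_iff.1 (by omega)
  obtain ⟨j, d, C, hspan⟩ := exists_skew hf h2 hK hac hnsa
  haveI := Fintype.ofFinite F
  set S := Geo.subalgebraNormalizer K ⊓ isoGrp f with hS
  have hjK : j ∈ K := (hspan j).2 ⟨0, 1, by simp⟩
  have hnorm : ∀ g : GL ι F, g ∈ isoGrp f → ∀ q : F, q ≠ 0 →
      (∀ x, j *ᵥ ((g : Matrix ι ι F) *ᵥ x) = q • ((g : Matrix ι ι F) *ᵥ (j *ᵥ x))) → g ∈ S := by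
    intro g hg q hq hc
    have hgj : (g : Matrix ι ι F) * j = q⁻¹ • (j * (g : Matrix ι ι F)) :=
      mat_ext fun x => by
        rw [← mulVec_mulVec, Matrix.smul_mulVec, ← mulVec_mulVec, hc, inv_smul_smul₀ hq]
    have hjg : j * (g : Matrix ι ι F) = q • ((g : Matrix ι ι F) * j) := by
      rw [hgj, smul_inv_smul₀ hq]
    refine ⟨fun k => ⟨fun hk => ?_, fun hk => ?_⟩, hg⟩
    · obtain ⟨a, b, rfl⟩ := (hspan k).1 hk
      refine (hspan _).2 ⟨a, b * q⁻¹, ?_⟩
      rw [mul_add, mul_smul_comm, mul_smul_comm, mul_one, hgj, add_mul, smul_mul_assoc,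
        smul_mul_assoc, smul_mul_assoc, mul_assoc, Units.mul_inv, mul_one, smul_smul]
    · obtain ⟨a, b, hab⟩ := (hspan _).1 hk
      refine (hspan k).2 ⟨a, b * q, ?_⟩
      calc k = ((g⁻¹ : GL ι F) : Matrix ι ι F) * ((g : Matrix ι ι F) * k *
            ((g⁻¹ : GL ι F) : Matrix ι ι F)) * (g : Matrix ι ι F) := by
            simp [mul_assoc]
        _ = a • (1 : Matrix ι ι F) + (b * q) • j := by
            rw [hab, mul_add, mul_smul_comm, mul_smul_comm, mul_one, add_mul, smul_mul_assoc,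
              smul_mul_assoc, mul_assoc _ j, hjg, mul_smul_comm, ← mul_assoc, Units.inv_mul,
              one_mul, smul_smul]
  have hcomm : ∀ g : GL ι F, g ∈ isoGrp f →
      (∀ x, j *ᵥ ((g : Matrix ι ι F) *ᵥ x) = (g : Matrix ι ι F) *ᵥ (j *ᵥ x)) → g ∈ S :=
    fun g hg hc => hnorm g hg 1 one_ne_zero fun x => by rw [one_smul, hc]
  have hRotS : C.Rots S :=
    ⟨fun a ha t => hcomm _ (C.rot_mem_iso a t) (C.rot_comm ha t),
      fun a ha => hcomm _ (neg2_mem_iso hf _ _) (C.refl_comm ha)⟩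
  obtain ⟨a, ha⟩ : ∃ a, f a (j *ᵥ a) ≠ 0 := by
    obtain ⟨i⟩ := ‹Nonempty ι›
    have hout : Pi.single i (1 : F) ∉
        Submodule.span F ({(0 : ι → F), j *ᵥ (0 : ι → F)} : Set (ι → F)) := by
      simpa [mulVec_zero] using (fun h => one_ne_zero (α := F) (by simpa using congrFun h i) :
        Pi.single i (1 : F) ≠ 0)
    obtain ⟨b, hb, -⟩ := C.exists_aniso h2 hn hout
    exact ⟨b, hb⟩
  refine ⟨lt_of_le_of_ne inf_le_right fun hEq => ?_, fun M hSM hMK => ?_⟩
  · -- a transvection does not normalise `K`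
    have h : rt hf a 1 ∈ S := hEq.symm ▸ rt_mem_iso hf a 1
    obtain ⟨p, q, hpq⟩ := (hspan _).1 ((h.1 j).1 hjK)
    set g := rt hf a 1 with hg
    have hgj : ∀ x, (g : Matrix ι ι F) *ᵥ (j *ᵥ x) =
        p • ((g : Matrix ι ι F) *ᵥ x) + q • (j *ᵥ ((g : Matrix ι ι F) *ᵥ x)) := by
      intro x
      have h1 : (g : Matrix ι ι F) * j * ((g⁻¹ : GL ι F) : Matrix ι ι F) * (g : Matrix ι ι F) =
          (p • (1 : Matrix ι ι F) + q • j) * (g : Matrix ι ι F) := by rw [hpq]
      rw [mul_assoc _ ((g⁻¹ : GL ι F) : Matrix ι ι F), Units.inv_mul, mul_one] at h1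
      have := congrArg (fun N : Matrix ι ι F => N *ᵥ x) h1
      simpa [← mulVec_mulVec, add_mulVec, Matrix.smul_mulVec, one_mulVec] using this
    have hout : a ∉ Submodule.span F ({(0 : ι → F), j *ᵥ (0 : ι → F)} : Set (ι → F)) := by
      simpa [mulVec_zero] using C.norm_ne ha
    obtain ⟨z, hz, hza⟩ : ∃ z, z ≠ 0 ∧ f z a = 0 ∧ f z (j *ᵥ a) = 0 := by
      by_contra hcon
      push Not at hcon
      let L : (ι → F) →ₗ[F] (Fin 2 → F) :=
        { toFun := fun x => ![f x a, f x (j *ᵥ a)]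
          map_add' := fun x y => by ext i; fin_cases i <;> simp [f_add_left hf]
          map_smul' := fun t x => by ext i; fin_cases i <;> simp [f_smul_left hf] }
      have hi : Function.Injective L := by
        rw [← LinearMap.ker_eq_bot, LinearMap.ker_eq_bot']
        intro x hx
        by_contra hx0
        exact hcon x hx0 (congrFun hx 0) (congrFun hx 1)
      have := LinearMap.finrank_le_finrank_of_injective hi
      rw [Module.finrank_fintype_fun_eq_card, Module.finrank_fin_fun] at this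
      omega
    have h1 := hgj z
    rw [hg, rt_fix hf hza.1, rt_fix hf (by rw [C.skew, hza.2, neg_zero])] at h1
    have hq : q = 1 := by
      by_contra hne
      apply C.j_ne_smul hz (p / (1 - q))
      have h3 : (1 - q) • (j *ᵥ z) = p • z := by
        rw [sub_smul, one_smul]; exact sub_eq_iff_eq_add.2 h1
      rw [div_eq_inv_mul, mul_smul, ← h3, inv_smul_smul₀ (sub_ne_zero.2 (Ne.symm hne))]
    have hp : p = 0 := by
      rw [hq, one_smul] at h1
      exact (smul_eq_zero.1 (by simpa using h1.symm)).resolve_right hz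
    have h3 := hgj a
    rw [hq, hp, hg, rt_mulVec hf, rt_fix hf (f_self hf a), C.skew] at h3
    simp only [zero_smul, zero_add, one_smul, add_eq_left] at h3
    exact C.norm_ne ha ((smul_eq_zero.1 h3).resolve_left (by simpa using ha))
  by_cases hM : M ≤ S
  · exact Or.inl (le_antisymm hM hSM)
  refine Or.inr (le_antisymm hMK ?_)
  obtain ⟨g, hgM, hgS⟩ := SetLike.not_le_iff_exists.1 hM
  have hgi : g ∈ isoGrp f := hMK hgM
  have hR : C.Rots M := ⟨fun a ha t => hSM (hRotS.rot a ha t), fun a ha => hSM (hRotS.refl a ha)⟩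
  obtain ⟨b, hb, hout⟩ : ∃ b, f b (j *ᵥ b) ≠ 0 ∧ (g : Matrix ι ι F) *ᵥ (j *ᵥ b) ∉
      Submodule.span F {(g : Matrix ι ι F) *ᵥ b, j *ᵥ ((g : Matrix ι ι F) *ᵥ b)} := by
    by_contra hcon
    push Not at hcon
    obtain ⟨q, hq, hT⟩ := exists_sign h2 hn C hgi hcon
    exact hgS (hnorm g hgi q hq hT)
  obtain ⟨r, hr0, hr⟩ := C.exists_rootIn h2 hn hR hgM hgi hb hout
  exact iso_le_of_roots hf (C.rootIn_all_of_one h2 hn hR hr0 hr)

/-- For a finite field F of odd order and m ≥ 7, let K be a subfield of the algebra of 2m × 2m matrices over F containing the scalars, of degree 2 over F, that is closed under adjoints for the standard alternating form on F^(2m) but whose elements are not all self-adjoint (so the adjoint map induces the automorphism of order two of K). Then the elements of Sp_2m(F) normalising K form a maximal subgroup of Sp_2m(F). -/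
theorem result {F : Type*} [Field F] [Fintype F] (m : ℕ) (hm : 7 ≤ m) (hodd : Odd (Fintype.card F)) (K : Subalgebra F (Matrix (Fin m ⊕ Fin m) (Fin m ⊕ Fin m) F)) (hK : Cfsg.Geo.IsFieldSubalgebra 2 K) (hac : Cfsg.Geo.IsAdjointClosedFor (Cfsg.sympForm m F) K) (hnsa : ¬ Cfsg.Geo.IsSelfAdjointFor (Cfsg.sympForm m F) K) : Cfsg.Geo.IsMaximalIn (Cfsg.spGL m F) (Cfsg.Geo.subalgebraNormalizer K ⊓ Cfsg.spGL m F) := by
  have h2 : (2 : F) ≠ 0 := Ring.two_ne_zero ((FiniteField.even_card_iff_char_two (F := F)).not.2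
    (Nat.mod_two_ne_zero.2 (Nat.odd_iff.1 hodd)))
  rw [spGL_eq_isoGrp]
  exact main h2 (by simp; omega) K hK (isSymplecticForm_sympForm m) hac hnsa

end Cfsg.Agent.S5665

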