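import Cfsg.Statements.S2947
import Cfsg.Agent.PGroups.Basic
import Cfsg.Agent.H61.Basic

set_option autoImplicit false
open Cfsg

namespace Cfsg.Agent.S2947

/-- Let G be a finite group of characteristic 2 type in which every 2-local subgroup is solvable and the centralizer of Ω₁(Z(S)) lies in N_G(S) for every Sylow 2-subgroup S; suppose O₂(G) = 1, fix a Sylow 2-subgroup S and a 2-local subgroup M containing N_G(J(S)) (J the Thompson subgroup generated by the elementary abelian 2-subgroups of largest order). Then M is strongly embedded in G (a proper subgroup of even order whose intersection with each conjugate by an element outside M has odd order) if and only if no nontrivial 2-subgroup of M lies in a 2-local subgroup of G not contained in M. -/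
theorem result {G : Type*} [Group G] [Finite G] (hL : Cfsg.IsCharacteristicTwoType G) (hN : ∀ N : Subgroup G, Cfsg.IsTwoLocal N → Group.IsSolvable ↥N)
    (hZ : ∀ S : Sylow 2 G, Subgroup.centralizer (Cfsg.omegaCenterOf (S : Subgroup G) : Set G) ≤ Subgroup.normalizer ((S : Subgroup G) : Set G)) (hO : Cfsg.pCore 2 G = ⊥) (S : Sylow 2 G) (M : Subgroup G) (hM : Cfsg.IsTwoLocal M)
    (hMJ : Subgroup.normalizer (Cfsg.thompsonSubgroupOf 2 (S : Subgroup G) : Set G) ≤ M) :
    Cfsg.IsStronglyEmbedded M ↔ Cfsg.straddlingTwoSubgroups M = ∅ := by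
  classical
  have hfact : Fact (Nat.Prime 2) := ⟨Nat.prime_two⟩
  constructor
  · rintro ⟨-, -, hse⟩
    -- an element moving a nontrivial 2-subgroup of `M` into `M` lies in `M`
    have key : ∀ g : G, ∀ u ∈ M, u ≠ 1 → (∃ k, orderOf u = 2 ^ k) → g * u * g⁻¹ ∈ M → g ∈ M := by
      intro g u hu hu1 hk hgu
      by_contra hg
      obtain ⟨k, hk⟩ := hk
      have hk0 : k ≠ 0 := fun h0 => hu1 (orderOf_eq_one_iff.mp (by rw [hk, h0, pow_zero]))
      have hmem : g * u * g⁻¹ ∈ M ⊓ M.map (MulAut.conj g).toMonoidHom := ⟨hgu, u, hu, rfl⟩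
      have h2 := (hse g hg).of_dvd_nat (Subgroup.orderOf_dvd_natCard _ hmem)
      rw [show g * u * g⁻¹ = MulAut.conj g u from rfl, MulEquiv.orderOf_eq, hk] at h2
      exact (Nat.not_odd_iff_even.mpr (Nat.even_pow.mpr ⟨even_two, hk0⟩)) h2
    have hcent : ∀ u ∈ M, u ≠ 1 → (∃ k, orderOf u = 2 ^ k) → Subgroup.centralizer ({u} : Set G) ≤ M := by
      intro u hu hu1 hk g hg
      refine key g u hu hu1 hk ?_
      rw [Subgroup.mem_centralizer_singleton_iff.mp hg]
      simpa using hu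
    rw [Set.eq_empty_iff_forall_notMem]
    rintro T ⟨hTp, hT1, hTM, L, ⟨R, hRp, hR1, rfl⟩, hTL, hLM⟩
    apply hLM
    -- `T` normalizes `R`, so centralizes a nontrivial element of it
    have hTR : IsPGroup 2 (R ⊔ T : Subgroup G) := hRp.to_sup_of_normal_left' hTp hTL
    set P := R ⊔ T
    have hnil : Group.IsNilpotent P := hTR.isNilpotent
    -- a nontrivial central element of `R`, centralized by `T`
    obtain ⟨t, ht, ht1⟩ := (T.bot_or_exists_ne_one).resolve_left hT1
    obtain ⟨r, hr, hr1, hrt⟩ : ∃ r ∈ R, r ≠ 1 ∧ r * t = t * r := by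
      have hRn : (R.subgroupOf P).Normal :=
        Subgroup.normal_subgroupOf_of_le_normalizer (sup_le Subgroup.le_normalizer hTL)
      have hne : R.subgroupOf P ≠ ⊥ := fun h0 => by
        obtain ⟨r, hr, hr1⟩ := (R.bot_or_exists_ne_one).resolve_left hR1
        have hr' : (⟨r, Subgroup.mem_sup_left hr⟩ : P) ∈ R.subgroupOf P := hr
        rw [h0, Subgroup.mem_bot] at hr'
        exact hr1 (congrArg Subtype.val hr')
      obtain ⟨r, ⟨hr, hrc⟩, hr1⟩ := (Subgroup.bot_or_exists_ne_one _).resolve_left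
        (PGroups.inf_center_ne_bot hTR (R.subgroupOf P) hne)
      refine ⟨r, hr, fun e => hr1 (Subtype.ext e), ?_⟩
      exact congrArg Subtype.val (Subgroup.mem_center_iff.mp hrc ⟨t, Subgroup.mem_sup_right ht⟩).symm
    obtain ⟨k, hk⟩ := IsPGroup.iff_orderOf.mp hTp ⟨t, ht⟩
    have hto : ∃ k, orderOf t = 2 ^ k := ⟨k, by rw [← hk, ← Subgroup.orderOf_coe]⟩
    have hrM : r ∈ M := hcent t (hTM ht) ht1 hto (Subgroup.mem_centralizer_singleton_iff.mpr hrt)
    obtain ⟨z, hz, hz1, hzc⟩ : ∃ z ∈ R, z ≠ 1 ∧ ∀ y ∈ R, y * z = z * y := by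
      have hRne : (⊤ : Subgroup R) ≠ ⊥ := fun h0 => by
        have := h0 ▸ Subgroup.mem_top (⟨r, hr⟩ : R)
        exact hr1 (congrArg Subtype.val (Subgroup.mem_bot.mp this))
      obtain ⟨z, ⟨-, hzc⟩, hz1⟩ := (Subgroup.bot_or_exists_ne_one _).resolve_left
        (PGroups.inf_center_ne_bot hRp (⊤ : Subgroup R) hRne)
      exact ⟨z, z.2, fun e => hz1 (Subtype.ext e), fun y hy =>
        congrArg Subtype.val (Subgroup.mem_center_iff.mp hzc ⟨y, hy⟩)⟩
    obtain ⟨k', hk'⟩ := IsPGroup.iff_orderOf.mp hRp ⟨r, hr⟩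
    have hzM : z ∈ M := hcent r hrM hr1 ⟨k', by rw [← hk', ← Subgroup.orderOf_coe]⟩
      (Subgroup.mem_centralizer_singleton_iff.mpr (hzc r hr).symm)
    obtain ⟨k'', hk''⟩ := IsPGroup.iff_orderOf.mp hRp ⟨z, hz⟩
    have hRM : R ≤ M := fun y hy => hcent z hzM hz1 ⟨k'', by rw [← hk'', ← Subgroup.orderOf_coe]⟩
      (Subgroup.mem_centralizer_singleton_iff.mpr (hzc y hy))
    intro g hg
    exact key g r (hRM hr) hr1 ⟨k', by rw [← hk', ← Subgroup.orderOf_coe]⟩
      (hRM ((Subgroup.mem_normalizer_iff.mp hg r).mp hr))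
  · intro hempty
    obtain ⟨T₀, hT₀, hT₀1, hMeq⟩ := hM
    have hN : ∀ R : Subgroup G, IsPGroup 2 R → R ≠ ⊥ → R ≤ M → Subgroup.normalizer (R : Set G) ≤ M := by
      intro R hR hR1 hRM
      by_contra hle
      exact Set.eq_empty_iff_forall_notMem.mp hempty R
        ⟨hR, hR1, hRM, _, ⟨R, hR, hR1, rfl⟩, Subgroup.le_normalizer, hle⟩
    have hT₀M : T₀ ≤ M := hMeq ▸ Subgroup.le_normalizer
    refine ⟨fun htop => hT₀1 ?_, ?_, fun g hg => ?_⟩
    · have hn : T₀.Normal := Subgroup.normalizer_eq_top_iff.mp (hMeq ▸ htop)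
      exact le_bot_iff.mp (hO ▸ le_sSup ⟨hn, hT₀⟩)
    · rw [even_iff_two_dvd]
      obtain h1 | h1 := hT₀.card_eq_or_dvd
      · exact absurd ((Subgroup.card_eq_one).mp h1) hT₀1
      · exact h1.trans (Subgroup.card_dvd_of_le hT₀M)
    by_contra hodd
    set D := M ⊓ M.map (MulAut.conj g).toMonoidHom
    have h2 : 2 ∣ Nat.card D := even_iff_two_dvd.mp (Nat.not_odd_iff_even.mp hodd)
    obtain ⟨RD⟩ : Nonempty (Sylow 2 D) := inferInstance
    set R := (RD : Subgroup D).map D.subtype with hR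
    have hRp : IsPGroup 2 R := RD.isPGroup'.map _
    have hRD : R ≤ D := Subgroup.map_subtype_le _
    have hR1 : R ≠ ⊥ := fun h0 => (RD.ne_bot_of_dvd_card h2) ((Subgroup.map_eq_bot_iff_of_injective _ D.subtype_injective).mp h0)
    -- `R' = g⁻¹ R g` is a subgroup of `M` as well
    set R' := R.map (MulAut.conj g⁻¹).toMonoidHom with hR'
    have hR'M : R' ≤ M := by
      rintro _ ⟨y, hy, rfl⟩
      obtain ⟨m, hm, rfl⟩ := (hRD hy).2
      simpa [mul_assoc] using hm
    have hR'1 : R' ≠ ⊥ := fun h0 => hR1 ((Subgroup.map_eq_bot_iff_of_injective _ (MulAut.conj g⁻¹).injective).mp h0)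
    -- so `R` is a Sylow subgroup of `M`, and so is `R'`
    have hND : Subgroup.normalizer (R : Set G) ≤ D := by
      refine le_inf (hN R hRp hR1 (hRD.trans inf_le_left)) ?_
      intro y hy
      refine ⟨g⁻¹ * y * g, hN R' (hRp.map _) hR'1 hR'M ?_, by simp [mul_assoc]⟩
      refine H61.mem_normalizer_of_conj_mem ?_
      rintro _ ⟨w, hw, rfl⟩
      exact ⟨y * w * y⁻¹, (Subgroup.mem_normalizer_iff.mp hy w).mp hw, by simp [mul_assoc]⟩
    obtain ⟨U, hU⟩ := hRp.exists_le_sylow
    have hRU : R = (U : Subgroup G) := by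
      refine le_antisymm hU ?_
      by_contra hne
      have hlt : R.subgroupOf (U : Subgroup G) < ⊤ :=
        lt_top_iff_ne_top.mpr fun h => hne (Subgroup.subgroupOf_eq_top.mp h)
      have hnil : Group.IsNilpotent (U : Subgroup G) := U.isPGroup'.isNilpotent
      obtain ⟨u, hu, hu'⟩ := SetLike.exists_of_lt (Group.normalizerCondition_of_isNilpotent _ hlt)
      have huN : (u : G) ∈ Subgroup.normalizer (R : Set G) := H61.mem_normalizer_of_conj_mem
        fun y hy => (Subgroup.mem_normalizer_iff.mp hu ⟨y, hU hy⟩).mp hy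
      have hle : (RD : Subgroup D) ≤ (U : Subgroup G).subgroupOf D := fun t ht => hU ⟨t, ht, rfl⟩
      have he := RD.3 (U.isPGroup'.comap_subtype (K := D)) hle
      have : (⟨u, hND huN⟩ : D) ∈ (RD : Subgroup D) := he ▸ u.2
      exact hu' (show (u : G) ∈ R from ⟨_, this, rfl⟩)
    have hU'M : ((g⁻¹ • U : Sylow 2 G) : Subgroup G) ≤ M := by
      rw [Sylow.coe_subgroup_smul, ← hRU]
      exact hR'M
    have hUM : (U : Subgroup G) ≤ M := hRU ▸ hRD.trans inf_le_left
    obtain ⟨m, hm⟩ := MulAction.exists_smul_eq M (U.subtype hUM) ((g⁻¹ • U).subtype hU'M)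
    rw [Sylow.smul_subtype] at hm
    have hm' : (g * (m : G)) • U = U := by
      rw [mul_smul, show (m : G) • U = g⁻¹ • U from Sylow.subtype_injective hm, smul_inv_smul]
    have hgm := hN R hRp hR1 (hRD.trans inf_le_left)
      (by rw [hRU]; exact Sylow.smul_eq_iff_mem_normalizer.mp hm')
    exact hg (by simpa using M.mul_mem hgm (M.inv_mem m.2))

end Cfsg.Agent.S2947
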