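import Cfsg.Statements.S0282
import Cfsg.Agent.Unitary.Center
import Cfsg.Agent.Unitary.Order72

set_option autoImplicit false
open Cfsg

namespace Cfsg.Agent.S0282

/-- PSU_3(2) is a solvable group of order 72. -/
theorem result {F : Type*} [Field F] [Fintype F] (hF : Fintype.card F = 4) : Nat.card (Cfsg.PSU 3 F 2) = 72 ∧ Group.IsSolvable (Cfsg.PSU 3 F 2) := by
  have hF2 : Fintype.card F = 2 ^ 2 := hF
  have hc : Nat.card (Cfsg.PSU 3 F 2) = 72 := by
    have h1 := Cfsg.Agent.Unitary.card_PSU hF2 (n := 3) (by norm_num)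
    have h2 := Cfsg.Agent.Unitary.card_GU_eq_mul_card_SU hF2 (n := 3) (by norm_num)
    rw [Cfsg.Agent.Unitary.card_GU hF2] at h2
    simp [Finset.prod_range_succ, Cfsg.Agent.Unitary.guFactor, Nat.even_iff] at h2
    have hg : Nat.gcd 3 (2 + 1) = 3 := by norm_num
    rw [hg] at h1
    omega
  exact ⟨hc, Cfsg.Agent.Unitary.isSolvable_of_card_dvd_72 hc dvd_rfl⟩

end Cfsg.Agent.S0282
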