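import Cfsg.Statements.S5660
import Cfsg.Agent.Symplectic.HermRational
import Mathlib

set_option autoImplicit false
open Cfsg

namespace Cfsg.Agent.S5660

open scoped MatrixGroups Matrix
open Matrix Cfsg.Agent.H95 Cfsg.Agent.Symplectic Cfsg.Agent.S5650

theorem main {ι : Type} [Fintype ι] [DecidableEq ι] {F : Type*} [Field F]
    (hn : 5 ≤ Fintype.card ι) {σ : F ≃+* F} {f : (ι → F) → (ι → F) → F} {F₀ : Subfield F} {ζ : F}
    {P : GL ι F} (H : HAlt σ f F₀ ζ P)
    (G : Subgroup (GL ι F)) (hG : G = isoGrp f ⊓ Geo.specialLinear ι F)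
    (hgen : ∀ M : Subgroup (GL ι F), (∀ v, f v v = 0 → UtIn H.herm M v) → G ≤ M) :
    Geo.IsMaximalIn G (Geo.subfieldSubgroup F₀ P ⊓ G) := by
  haveI : Nonempty ι := Fintype.card_pos_iff.1 (by omega)
  have hf := H.herm
  set S := Geo.subfieldSubgroup F₀ P ⊓ G with hS
  obtain ⟨θ, hθ⟩ : ∃ θ : F, σ θ ≠ θ := by
    by_contra hcon
    push Not at hcon
    exact hf.ne_refl (RingEquiv.ext hcon)
  have hRS : H.RatUt S := by
    intro v hv l hl
    refine ⟨mem_subfieldSubgroup_of F₀ P one_ne_zero fun x hx => ?_,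
      hG ▸ ⟨ut_mem_iso hf (H.alt v hv) hl, ut_mem_sl hf v l⟩⟩
    rw [inv_one, one_smul, ut_mulVec hf (H.alt v hv)]
    refine (V0 F₀ P).add_mem hx (mem_V0_smul F₀ P ((H.fixed _).1 ?_) hv)
    rw [map_mul, hl, (H.skew hx hv).2]
    ring
  have hne0 : ∀ j : ι, (P : Matrix ι ι F) *ᵥ Pi.single j (1 : F) ≠ 0 := fun j h0 => by
    have := inv_mulVec_mulVec P (Pi.single j (1 : F))
    rw [h0, mulVec_zero] at this
    simpa using congrFun this j
  have partner : ∀ a ∈ V0 F₀ P, a ≠ 0 → ∃ z ∈ V0 F₀ P, ζ * f z a = 1 := by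
    intro a ha ha0
    obtain ⟨z, hz, hza⟩ := H.exists_ne ha0
    exact ⟨(ζ * f z a)⁻¹ • z, mem_V0_smul F₀ P (F₀.inv_mem (H.rat z hz a ha)) hz,
      by rw [u_smul_left hf, mul_left_comm, inv_mul_cancel₀ (mul_ne_zero H.zeta_ne hza)]⟩
  refine ⟨lt_of_le_of_ne inf_le_right fun hEq => ?_, fun M hSM hMG => ?_⟩
  · obtain ⟨j⟩ := ‹Nonempty ι›
    set a := (P : Matrix ι ι F) *ᵥ Pi.single j (1 : F) with hadef
    have ha : a ∈ V0 F₀ P := col_mem F₀ P j
    have ha0 : a ≠ 0 := hne0 j
    obtain ⟨d, hd, hda⟩ := partner a ha ha0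
    obtain ⟨b, hb, hb0, ba, bd, -, -⟩ := H.exists_perp4 hn ha hd ha ha
    have hind : ∀ t : F, b ≠ t • a := fun t e => by
      rw [e, u_smul_left hf, H.swap hd ha, mul_neg, neg_eq_zero, mul_eq_zero] at bd
      rcases bd with h | h
      · exact hb0 (by rw [e, h, zero_smul])
      · rw [h, mul_zero] at hda; exact zero_ne_one hda
    obtain ⟨b', hb', b'a, b'b⟩ := H.exists_dual2 hb ha hind
    obtain ⟨v, hv, hv0, va, vb, -, -⟩ := H.exists_perp4 hn ha hb ha hb
    have ab : f a b = 0 := u_symm_zero hf ba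
    set w := a + θ • b with hw
    have hww : f w w = 0 := by
      simp only [hw, u_add_left hf, u_add_right hf, u_smul_left hf, u_smul_right hf, H.alt a ha,
        H.alt b hb, ab, ba]
      ring
    obtain ⟨l, hl0, hl⟩ := exists_skew_ne_zero hf
    have hmem : ut hf w l ∈ S :=
      hEq.symm ▸ (hG ▸ ⟨ut_mem_iso hf hww hl, ut_mem_sl hf w l⟩ : ut hf w l ∈ G)
    obtain ⟨c, hc, hcv⟩ := scalar_of_mem F₀ P hmem.1
    have e1 := hcv v hv
    rw [ut_mulVec hf hww, hw, u_add_right hf, u_smul_right hf, va, vb, mul_zero, add_zero,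
      mul_zero, zero_smul, add_zero] at e1
    have hcF : c⁻¹ ∈ F₀ := by
      obtain ⟨z, hz, hz1⟩ := partner v hv hv0
      have h1 := H.rat z hz _ e1
      rw [u_smul_right hf] at h1
      have h2 : σ c⁻¹ ∈ F₀ := by
        rwa [mul_left_comm, hz1, mul_one] at h1
      have := (H.fixed _).2 h2
      rw [u_inv hf] at this
      rw [this]
      exact h2
    have hTV : ∀ x ∈ V0 F₀ P, (ut hf w l : Matrix ι ι F) *ᵥ x ∈ V0 F₀ P := fun x hx => by
      have := mem_V0_smul F₀ P (F₀.inv_mem hcF) (hcv x hx)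
      rwa [inv_inv, smul_inv_smul₀ hc] at this
    have h2 := (V0 F₀ P).sub_mem (hTV b' hb') hb'
    rw [ut_mulVec hf hww, add_sub_cancel_left, hw, u_add_right hf, u_smul_right hf, b'a,
      zero_add] at h2
    -- pair against duals
    obtain ⟨a', ha', a'b, a'a⟩ := H.exists_dual2 ha hb (fun t e => by
      rcases eq_or_ne t 0 with rfl | ht
      · exact ha0 (by rw [e, zero_smul])
      · exact hind t⁻¹ (by rw [e, inv_smul_smul₀ ht]))
    set t := l * (σ θ * f b' b) with ht
    have ht0 : t ≠ 0 := by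
      refine mul_ne_zero hl0 (mul_ne_zero ?_ ?_)
      · intro h0; exact hθ (by rw [h0, (map_eq_zero_iff σ σ.injective).1 h0])
      · intro h0; rw [h0, mul_zero] at b'b; exact zero_ne_one b'b
    have r1 := H.rat a' ha' _ h2
    have r2 := H.rat b' hb' _ h2
    rw [u_smul_right hf, u_add_right hf, u_smul_right hf, a'b, mul_zero, add_zero, mul_left_comm,
      a'a, mul_one] at r1
    rw [u_smul_right hf, u_add_right hf, u_smul_right hf, b'a, zero_add, mul_left_comm,
      mul_left_comm ζ, b'b, mul_one] at r2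
    have r3 := F₀.div_mem r2 r1
    rw [mul_div_cancel_left₀ _ (fun h => ht0 ((map_eq_zero_iff σ σ.injective).1 h))] at r3
    exact hθ (σ.injective ((H.fixed _).2 r3))
  by_cases hM : M ≤ S
  · exact Or.inl (le_antisymm hM hSM)
  refine Or.inr (le_antisymm hMG (hgen M ?_))
  obtain ⟨g, hgM, hgS⟩ := SetLike.not_le_iff_exists.1 hM
  have hgi : g ∈ isoGrp f := (hG ▸ hMG hgM).1
  have hR : H.RatUt M := fun v hv l hl => hSM (hRS v hv l hl)
  obtain ⟨v, hv, hout⟩ : ∃ v ∈ V0 F₀ P,
      ∀ c : F, c ≠ 0 → c • ((g : Matrix ι ι F) *ᵥ v) ∉ V0 F₀ P := by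
    by_contra hcon
    push Not at hcon
    apply hgS
    refine ⟨?_, hMG hgM⟩
    obtain ⟨j⟩ := ‹Nonempty ι›
    set v0 := (P : Matrix ι ι F) *ᵥ Pi.single j (1 : F)
    have hv0m : v0 ∈ V0 F₀ P := col_mem F₀ P j
    obtain ⟨c0, hc0, hc0v⟩ := hcon v0 hv0m
    refine mem_subfieldSubgroup_of F₀ P (inv_ne_zero hc0) ?_
    simp only [inv_inv]
    have near : ∀ v ∈ V0 F₀ P, f v0 v ≠ 0 → c0 • ((g : Matrix ι ι F) *ᵥ v) ∈ V0 F₀ P := by
      intro v hv hh
      obtain ⟨c, hc, hcv⟩ := hcon v hv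
      have h1 := H.rat _ hc0v _ hcv
      rw [u_smul_left hf, u_smul_right hf, mem_isoGrp.1 hgi] at h1
      have h2 : c0 * σ c ∈ F₀ := by
        have := F₀.div_mem h1 (H.rat v0 hv0m v hv)
        convert this using 1
        field_simp [H.zeta_ne]
      have h3 : c0 * σ c0 ∈ F₀ := (H.fixed _).1 (by rw [map_mul, u_inv hf]; ring)
      have h4 := F₀.div_mem h3 h2
      have hsc : σ c ≠ 0 := fun h => hc ((map_eq_zero_iff σ σ.injective).1 h)
      rw [mul_div_mul_left _ _ hc0] at h4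
      have h5 : σ c0 / σ c = c0 / c := by
        have := (H.fixed _).2 h4
        rw [map_div₀, u_inv hf, u_inv hf] at this
        exact this.symm
      rw [h5] at h4
      have := mem_V0_smul F₀ P h4 hcv
      rwa [smul_smul, div_mul_cancel₀ c0 hc] at this
    intro v hv
    by_cases hh : f v0 v = 0
    · obtain ⟨z, hz, hz1⟩ := partner v0 hv0m (hne0 j)
      have hzne : f v0 z ≠ 0 := fun h => by
        rw [u_symm_zero hf h, mul_zero] at hz1; exact zero_ne_one hz1
      have h1 := near _ ((V0 F₀ P).add_mem hv hz) (by rwa [u_add_right hf, hh, zero_add])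
      have h2 := (V0 F₀ P).sub_mem h1 (near z hz hzne)
      rwa [← smul_sub, ← mulVec_sub, add_sub_cancel_right] at h2
    · exact near v hv hh
  have hvv := H.alt v hv
  refine H.utIn_all hn hR (w := (g : Matrix ι ι F) *ᵥ v) ?_ ((hR v hv).conj hf hvv hgM hgi) hout
  rw [mem_isoGrp.1 hgi, hvv]

/-- Let F be the field with q² elements, n ≥ 13 even, and F₀ the subfield with q elements. Let ζ be a non-zero element with ζ + ζ^q = 0 and P an invertible matrix such that ζ times the standard unitary form takes values in F₀ on the F₀-span of the columns of P and the form vanishes on every pair (u, u) of that span (so ζ times the form restricts to a non-degenerate alternating form there). Then the elements of SU_n(q) lying in the subfield group of P form a maximal subgroup of SU_n(q). -/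
theorem result {F : Type*} [Field F] [Fintype F] (n q : ℕ) (hF : Fintype.card F = q ^ 2) (hn : 13 ≤ n) (heven : Even n) (F₀ : Subfield F) (hcard : Fintype.card F = Nat.card F₀ ^ 2) (ζ : F) (hζ0 : ζ ≠ 0) (hζ : ζ + ζ ^ q = 0) (P : Matrix.GeneralLinearGroup (Fin n) F) (hP : Cfsg.Geo.IsFormRationalStructure (Cfsg.hermForm n F q) F₀ ζ P) (halt : ∀ u : Fin n → F, (∀ i, u i ∈ F₀) → Cfsg.hermForm n F q (Matrix.mulVec (P : Matrix (Fin n) (Fin n) F) u) (Matrix.mulVec (P : Matrix (Fin n) (Fin n) F) u) = 0) : Cfsg.Geo.IsMaximalIn (Cfsg.GU n F q ⊓ Cfsg.Geo.specialLinear (Fin n) F) (Cfsg.Geo.subfieldSubgroup F₀ P ⊓ (Cfsg.GU n F q ⊓ Cfsg.Geo.specialLinear (Fin n) F)) := by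
  obtain ⟨σ, hσ, hf⟩ := isUnitaryForm_hermForm (n := n) hF
  have hq : Nat.card F₀ = q := Nat.pow_left_injective two_ne_zero (hcard.symm.trans hF)
  have hfix : F₀ = Unitary.fixK hF := by
    refine SetLike.coe_injective (Set.eq_of_subset_of_ncard_le (fun x hx => ?_) ?_ (Set.toFinite _))
    · rw [SetLike.mem_coe, Unitary.mem_fixK]
      letI := Fintype.ofFinite F₀
      have := FiniteField.pow_card (⟨x, hx⟩ : F₀)
      rw [← Nat.card_eq_fintype_card, hq] at this
      exact congrArg Subtype.val this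
    · rw [← Nat.card_coe_set_eq, ← Nat.card_coe_set_eq]
      exact ((Unitary.card_fixK hF).le.trans hq.ge)
  have H : HAlt σ (Cfsg.hermForm n F q) F₀ ζ P :=
    { herm := hf
      fixed := fun x => by rw [hσ, hfix, Unitary.mem_fixK]
      zeta := by rw [hσ]; linear_combination hζ
      zeta_ne := hζ0
      rat := fun u hu v hv => by
        have := hP _ _ hu hv
        rwa [mulVec_inv_mulVec, mulVec_inv_mulVec] at this
      alt := fun u hu => by
        have := halt _ hu
        rwa [mulVec_inv_mulVec] at this }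
  exact main (by simp; omega) H _ rfl fun M h => su_le_of_ut hF (by omega) hσ hf h

end Cfsg.Agent.S5660
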