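import Cfsg.Statements.S0575
import Cfsg.Agent.H31.Basic

set_option autoImplicit false
open Cfsg

namespace Cfsg.Agent.S0575

/-- If H is a normal subgroup of a finite group G, then the Frattini subgroup of H, viewed in G, lies in the Frattini subgroup of G. -/
theorem result {G : Type*} [Group G] [Finite G] (H : Subgroup G) [H.Normal] : (frattini ↥H).map H.subtype ≤ frattini G := by
  haveI hK : ((frattini ↥H).map H.subtype).Normal := inferInstance
  set K := (frattini ↥H).map H.subtype with hKdef
  have hKH : K ≤ H := Subgroup.map_subtype_le _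
  refine le_iInf₂ fun M hM => ?_
  by_contra hKM
  have htop : M ⊔ K = ⊤ := hM.2 _ (left_lt_sup.mpr hKM)
  apply hKM
  have h2 : M.subgroupOf H ⊔ frattini ↥H = ⊤ := by
    refine top_le_iff.mp fun x _ => ?_
    have hx : (x : G) ∈ (↑(M ⊔ K) : Set G) := by rw [htop]; trivial
    rw [Subgroup.mul_normal] at hx
    obtain ⟨m, hm, k, hk, hmk⟩ := hx
    have hk' : k ∈ K := hk
    obtain ⟨k₀, hk₀, hk₀e⟩ := hk'
    have : x = (x * k₀⁻¹) * k₀ := by group
    rw [this]
    refine mul_mem (Subgroup.mem_sup_left ?_) (Subgroup.mem_sup_right hk₀)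
    rw [Subgroup.mem_subgroupOf]
    have : ((x * k₀⁻¹ : H) : G) = m := by
      simp [← hmk, ← hk₀e]
    rw [this]; exact hm
  exact hKH.trans (Subgroup.subgroupOf_eq_top.mp (frattini_nongenerating h2))

end Cfsg.Agent.S0575
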