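import Cfsg.Statements.S0660

set_option autoImplicit false
open Cfsg

namespace Cfsg.Agent.S0660

/-- Under a coprime action on an abelian group, an invariant subgroup that is complemented admits an invariant complement. -/
theorem result {G : Type*} [Group G] [Finite G] (V A U : Subgroup G) (hVab : IsMulCommutative V) (hAV : A ≤ Subgroup.normalizer (V : Set G)) (hcop : (Nat.card A).Coprime (Nat.card V)) (hUV : U ≤ V) (hAU : A ≤ Subgroup.normalizer (U : Set G)) (W : Subgroup G) (hWV : W ≤ V) (hUW : U ⊓ W = ⊥) (hUWV : U ⊔ W = V) : ∃ W' : Subgroup G, W' ≤ V ∧ A ≤ Subgroup.normalizer (W' : Set G) ∧ U ⊓ W' = ⊥ ∧ U ⊔ W' = V := by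
  classical
  haveI : Fintype A := Fintype.ofFinite _
  letI : CommGroup V := { (inferInstance : Group V) with mul_comm := fun x y => hVab.is_comm.comm x y }
  have hVc : ∀ x ∈ V, ∀ y ∈ V, x * y = y * x := fun x hx y hy =>
    congrArg Subtype.val (mul_comm (⟨x, hx⟩ : V) ⟨y, hy⟩)
  have hconjV : ∀ a : G, a ∈ A → ∀ v ∈ V, a * v * a⁻¹ ∈ V := fun a ha v hv =>
    (Subgroup.mem_normalizer_iff.mp (hAV ha) v).mp hv
  have hconjU : ∀ a : G, a ∈ A → ∀ v ∈ U, a * v * a⁻¹ ∈ U := fun a ha v hv =>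
    (Subgroup.mem_normalizer_iff.mp (hAU ha) v).mp hv
  -- the projection of `V` onto `U` along `W`
  let U' := U.subgroupOf V
  let W₁ := W.subgroupOf V
  have hUW' : U' ⊓ W₁ = ⊥ := by
    rw [eq_bot_iff]
    intro x hx
    have h : (x : G) ∈ U ⊓ W := hx
    rw [hUW, Subgroup.mem_bot] at h
    exact Subtype.ext h
  let φ : U' × W₁ →* V := U'.subtype.coprod W₁.subtype
  have hφ : Function.Bijective φ := by
    constructor
    · rw [injective_iff_map_eq_one]
      rintro ⟨u, w⟩ h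
      have h1 : (u : V) * (w : V) = 1 := h
      have h2 : (u : V) ∈ U' ⊓ W₁ := ⟨u.2, by rw [mul_eq_one_iff_eq_inv.mp h1]; exact W₁.inv_mem w.2⟩
      rw [hUW', Subgroup.mem_bot] at h2
      rw [h2, one_mul] at h1
      exact Prod.ext (Subtype.ext h2) (Subtype.ext h1)
    · rintro ⟨v, hv⟩
      have h : (⟨v, hv⟩ : V) ∈ U' ⊔ W₁ := by
        rw [← Subgroup.subgroupOf_sup hUV hWV, hUWV, Subgroup.subgroupOf_self]
        exact Subgroup.mem_top _
      obtain ⟨u, hu, w, hw, he⟩ := Subgroup.mem_sup.mp h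
      exact ⟨(⟨u, hu⟩, ⟨w, hw⟩), he⟩
  let π : V →* V := (U'.subtype.comp (MonoidHom.fst U' W₁)).comp (MulEquiv.ofBijective φ hφ).symm.toMonoidHom
  have hπU : ∀ v : V, (π v : G) ∈ U := fun v => ((MulEquiv.ofBijective φ hφ).symm v).1.2
  have hπid : ∀ v : V, (v : G) ∈ U → π v = v := by
    intro v hv
    have : (MulEquiv.ofBijective φ hφ).symm v = (⟨v, hv⟩, 1) := by
      rw [MulEquiv.symm_apply_eq]
      simp [φ]
    simp [π, this]
  -- conjugation by elements of `A` on `V`
  let c : A → V →* V := fun a => MonoidHom.mk' (fun v => ⟨(a : G) * v * (a : G)⁻¹, hconjV a a.2 v v.2⟩)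
    (fun v w => Subtype.ext (by simp [mul_assoc]))
  have hc : ∀ (a b : A) (v : V), c a (c b v) = c (a * b) v := fun a b v =>
    Subtype.ext (by simp [c, mul_assoc])
  let f : V →* V := ∏ a : A, (c a).comp (π.comp (c a⁻¹))
  have hf : ∀ v, f v = ∏ a : A, c a (π (c a⁻¹ v)) := fun v => by simp [f]
  have hfA : ∀ (b : A) (v : V), f (c b v) = c b (f v) := by
    intro b v
    rw [hf, hf, map_prod]
    refine Fintype.prod_equiv (Equiv.mulLeft b⁻¹) _ _ fun a => ?_
    simp [hc]
  have hfU : ∀ v : V, (f v : G) ∈ U := by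
    intro v
    have : f v ∈ U' := by
      rw [hf]
      exact Subgroup.prod_mem U' fun a _ => hconjU a a.2 _ (hπU _)
    exact this
  have hfid : ∀ v : V, (v : G) ∈ U → f v = v ^ Nat.card A := by
    intro v hv
    rw [hf, Nat.card_eq_fintype_card]
    refine (Finset.prod_congr rfl fun a _ => ?_).trans (Finset.prod_const _)
    rw [hπid _ (hconjU _ (a⁻¹).2 v hv), hc, mul_inv_cancel]
    exact Subtype.ext (by simp [c])
  refine ⟨f.ker.map V.subtype, Subgroup.map_subtype_le _, ?_, ?_, ?_⟩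
  · have hinv : ∀ a ∈ A, ∀ x ∈ f.ker.map V.subtype, a * x * a⁻¹ ∈ f.ker.map V.subtype := by
      rintro a ha _ ⟨v, hv, rfl⟩
      refine ⟨c ⟨a, ha⟩ v, ?_, rfl⟩
      rw [SetLike.mem_coe, MonoidHom.mem_ker] at hv ⊢
      rw [hfA, hv, map_one]
    intro a ha
    rw [Subgroup.mem_normalizer_iff]
    refine fun x => ⟨hinv a ha x, fun h => ?_⟩
    simpa [mul_assoc] using hinv a⁻¹ (A.inv_mem ha) _ h
  · rw [eq_bot_iff]
    rintro _ ⟨hu, v, hv, rfl⟩
    rw [SetLike.mem_coe, MonoidHom.mem_ker] at hv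
    have h1 := hfid v hu
    rw [hv] at h1
    have h2 : (powCoprime (G := V) hcop.symm) v = (powCoprime (G := V) hcop.symm) 1 := by
      simp [← Nat.card_eq_fintype_card, ← h1]
    rw [(powCoprime (G := V) hcop.symm).injective h2]
    simp
  · refine le_antisymm (sup_le hUV (Subgroup.map_subtype_le _)) fun x hx => ?_
    set u := (powCoprime (G := V) hcop.symm).symm (f ⟨x, hx⟩) with hu
    have hupow : u ^ Nat.card A = f ⟨x, hx⟩ := (powCoprime (G := V) hcop.symm).apply_symm_apply _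
    have huU : (u : G) ∈ U := by
      have huz : u ∈ U' := by
        have hb := (Nat.Coprime.coprime_dvd_left (orderOf_dvd_natCard u) hcop.symm).symm
        obtain ⟨m, hm⟩ := exists_pow_eq_self_of_coprime hb
        rw [← hm, hupow]
        exact U'.pow_mem (hfU _) m
      exact huz
    have hk : u⁻¹ * ⟨x, hx⟩ ∈ f.ker := by
      rw [MonoidHom.mem_ker, map_mul, map_inv, hfid u huU, hupow, inv_mul_cancel]
    have : x = (u : G) * ((u⁻¹ * ⟨x, hx⟩ : V) : G) := by simp
    rw [this]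
    exact Subgroup.mul_mem_sup huU (Subgroup.mem_map_of_mem V.subtype hk)

end Cfsg.Agent.S0660
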