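import Cfsg.Statements.S2760
import Cfsg.Agent.Cores.PCore

set_option autoImplicit false
open Cfsg

namespace Cfsg.Agent.S2760

/-- Let G be a finite group with C_G(O₂(G)) ≤ O₂(G) and H a subgroup of G such that H is normal in G, or the subgroup O²(H) generated by the elements of H of odd order is normal in G. Then C_H(O₂(H)) ≤ O₂(H). -/
theorem result {G : Type*} [Group G] [Finite G] (hchar : Subgroup.centralizer (Cfsg.pCore 2 G : Set G) ≤ Cfsg.pCore 2 G) (H : Subgroup G) (hH : H.Normal ∨ ((Cfsg.pResidual 2 ↥H).map H.subtype).Normal) : Subgroup.centralizer (Cfsg.pCore 2 ↥H : Set ↥H) ≤ Cfsg.pCore 2 ↥H := by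
  classical
  obtain ⟨N, hN, hNH, hmem⟩ : ∃ N : Subgroup G, N.Normal ∧ N ≤ H ∧
      ∀ x : ↥H, Odd (orderOf x) → (x : G) ∈ N := by
    rcases hH with h | h
    · exact ⟨H, h, le_rfl, fun x _ => x.2⟩
    · refine ⟨_, h, Subgroup.map_subtype_le _, fun x hx => ⟨x, ?_, rfl⟩⟩
      exact Subgroup.subset_closure ((Nat.coprime_two_right).2 hx)
  set Q := Cfsg.pCore 2 G
  have hQn : Q.Normal := inferInstance
  have hQp : IsPGroup 2 Q := Cores.pCore_isPGroup
  have hle : (Q ⊓ N).subgroupOf H ≤ Cfsg.pCore 2 ↥H := by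
    refine le_sSup ⟨?_, ?_⟩
    · exact (Subgroup.normal_inf_normal Q N).subgroupOf H
    · exact (hQp.to_le inf_le_left).of_equiv (Subgroup.subgroupOfEquivOfLe (inf_le_right.trans hNH)).symm
  have key : ∀ x ∈ Subgroup.centralizer (Cfsg.pCore 2 ↥H : Set ↥H), Odd (orderOf x) → x = 1 := by
    intro x hx hodd
    have hxN := hmem x hodd
    have hfix : ∀ c ∈ Q ⊓ N, (x : G) * c = c * (x : G) := by
      intro c hc
      have := Subgroup.mem_centralizer_iff.1 hx ⟨c, hNH hc.2⟩ (hle (Subgroup.mem_subgroupOf.2 hc))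
      exact (congrArg Subtype.val this).symm
    have hxQ : (x : G) ∈ Q := by
      refine hchar (Subgroup.mem_centralizer_iff.2 fun a ha => ?_)
      set c := a⁻¹ * ((x : G) * a * (x : G)⁻¹) with hc
      have hcm : c ∈ Q ⊓ N := by
        refine ⟨Q.mul_mem (Q.inv_mem ha) (hQn.conj_mem a ha x), ?_⟩
        have : c = (a⁻¹ * (x : G) * a) * (x : G)⁻¹ := by rw [hc]; group
        rw [this]
        exact N.mul_mem (by simpa using hN.conj_mem _ hxN a⁻¹) (N.inv_mem hxN)
      have hconj : (x : G) * a * (x : G)⁻¹ = a * c := by rw [hc]; group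
      have hpow : ∀ n : ℕ, (x : G) ^ n * a * ((x : G) ^ n)⁻¹ = a * c ^ n := by
        intro n
        induction n with
        | zero => simp
        | succ n ih =>
            have e2 : (x : G) * c ^ n * (x : G)⁻¹ = c ^ n := by
              rw [hfix _ (pow_mem hcm n), mul_inv_cancel_right]
            calc (x : G) ^ (n+1) * a * ((x : G) ^ (n+1))⁻¹
                = (x : G) * ((x : G) ^ n * a * ((x : G) ^ n)⁻¹) * (x : G)⁻¹ := by rw [pow_succ']; group
              _ = ((x : G) * a * (x : G)⁻¹) * ((x : G) * c ^ n * (x : G)⁻¹) := by rw [ih]; group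
              _ = a * c ^ (n+1) := by rw [hconj, e2, pow_succ', mul_assoc]
      have h1 := hpow (orderOf (x : G))
      rw [pow_orderOf_eq_one, one_mul, inv_one, mul_one, left_eq_mul] at h1
      obtain ⟨k, hk⟩ := (IsPGroup.iff_orderOf.1 hQp) ⟨c, hcm.1⟩
      rw [Subgroup.orderOf_mk] at hk
      have hc1 : c = 1 := by
        have d1 := orderOf_dvd_of_pow_eq_one h1
        rw [Subgroup.orderOf_coe, hk] at d1
        have : (2 ^ k : ℕ) = 1 :=
          Nat.Coprime.eq_one_of_dvd (Nat.Coprime.pow_left k ((Nat.coprime_two_left).2 hodd)) d1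
        rw [← orderOf_eq_one_iff, hk, this]
      rw [hc1, mul_one] at hconj
      conv_lhs => rw [← hconj]
      group
    obtain ⟨k, hk⟩ := (IsPGroup.iff_orderOf.1 hQp) ⟨(x : G), hxQ⟩
    rw [Subgroup.orderOf_mk, Subgroup.orderOf_coe] at hk
    rw [hk] at hodd
    cases k with
    | zero => rwa [pow_zero, orderOf_eq_one_iff] at hk
    | succ k => exact absurd hodd (by simp [parity_simps])
  refine le_sSup ⟨?_, ?_⟩
  · have : (Cfsg.pCore 2 ↥H).Normal := inferInstance
    infer_instance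
  · intro c
    set n := orderOf (c : ↥H) with hn
    have hn0 : n ≠ 0 := (orderOf_pos (c : ↥H)).ne'
    obtain ⟨k, m, hm, he⟩ := Nat.exists_eq_two_pow_mul_odd hn0
    refine ⟨k, Subtype.ext ?_⟩
    refine key _ (pow_mem c.2 _) ?_
    rw [Subgroup.coe_pow, orderOf_pow, ← hn, he, Nat.gcd_mul_right_left, Nat.mul_div_cancel_left _ (by positivity)]
    exact hm

end Cfsg.Agent.S2760
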