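import Cfsg.Statements.S0132
import Cfsg.Agent.Fusion.Frobenius

set_option autoImplicit false
open Cfsg

namespace Cfsg.Agent.S0132

/-- A minimal non-p-nilpotent finite group is a minimal non-nilpotent group with a normal Sylow p-subgroup. -/
theorem result {G : Type*} [Group G] [Finite G] {p : ℕ} [Fact p.Prime] (h1 : ¬ Cfsg.HasNormalPComplement p G) (h2 : ∀ H : Subgroup G, H ≠ ⊤ → Cfsg.HasNormalPComplement p H) : (∀ H : Subgroup G, H ≠ ⊤ → Group.IsNilpotent H) ∧ ¬ Group.IsNilpotent G ∧ ∀ P : Sylow p G, (P : Subgroup G).Normal := by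
  have hp : p.Prime := Fact.out
  obtain ⟨P⟩ : Nonempty (Sylow p G) := inferInstance
  have h := h1
  rw [Fusion.frobenius_criterion P] at h
  simp only [not_forall] at h
  obtain ⟨Q, hQP, g, hgN, hgp, hgC⟩ := h
  have hQp : IsPGroup p Q := P.isPGroup'.to_le hQP
  set H := Q ⊔ Subgroup.zpowers g with hH
  have hHtop : H = ⊤ := by
    by_contra hne
    refine hgC (Subgroup.mem_centralizer_iff.mpr fun x hx => ?_)
    have hgH : g ∈ H := Subgroup.mem_sup_right (Subgroup.mem_zpowers g)
    have hHN : H ≤ Subgroup.normalizer (Q : Set G) :=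
      sup_le Subgroup.le_normalizer (Subgroup.zpowers_le.mpr hgN)
    haveI : (Q.subgroupOf H).Normal := Subgroup.normal_subgroupOf_of_le_normalizer hHN
    have := Fusion.commute_of_hasNormalPComplement (h2 H hne) (Q := Q.subgroupOf H)
      (hQ := hQp.comap_subtype) (g := ⟨g, hgH⟩) (by simpa [Subgroup.orderOf_mk] using hgp)
      (x := ⟨x, Subgroup.mem_sup_left hx⟩) hx
    exact (congrArg Subtype.val this).symm
  haveI hQn : Q.Normal := by
    rw [← Subgroup.normalizer_eq_top_iff, eq_top_iff, ← hHtop, hH]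
    exact sup_le Subgroup.le_normalizer (Subgroup.zpowers_le.mpr hgN)
  have hgen : ∀ y : G ⧸ Q, y ∈ Subgroup.zpowers (QuotientGroup.mk' Q g) := by
    intro y
    have h3 : (H.map (QuotientGroup.mk' Q)) = ⊤ := by
      rw [hHtop]; exact Subgroup.map_top_of_surjective _ (QuotientGroup.mk'_surjective Q)
    rw [hH, Subgroup.map_sup, QuotientGroup.map_mk'_self, bot_sup_eq,
      MonoidHom.map_zpowers] at h3
    rw [h3]; trivial
  haveI : IsCyclic (G ⧸ Q) := ⟨QuotientGroup.mk' Q g, hgen⟩
  have hindex : ¬ p ∣ Q.index := by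
    intro hd
    rw [Subgroup.index_eq_card, ← orderOf_eq_card_of_forall_mem_zpowers hgen] at hd
    exact hp.coprime_iff_not_dvd.mp hgp.symm (hd.trans (orderOf_map_dvd _ g))
  have hnormal : ∀ R : Sylow p G, (R : Subgroup G).Normal := by
    intro R
    let QS : Sylow p G := hQp.toSylow hindex
    haveI : (QS : Subgroup G).Normal := hQn
    haveI := Sylow.unique_of_normal QS hQn
    rw [Subsingleton.elim R QS]
    exact hQn
  refine ⟨fun L hL => ?_, fun hnil => h1 ?_, hnormal⟩
  · letI : CommGroup (G ⧸ Q) := IsCyclic.commGroup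
    set K := Cfsg.pResidual p L with hK
    haveI : Group.IsNilpotent (L ⧸ K) :=
      (Fusion.isPGroup_quotient_pResidual (p := p) (G := L)).isNilpotent
    let f : L →* (L ⧸ K) × (G ⧸ Q) :=
      (QuotientGroup.mk' K).prod ((QuotientGroup.mk' Q).comp L.subtype)
    suffices hf : Function.Injective f from
      (Group.isNilpotent_congr (MonoidHom.ofInjective hf)).mpr inferInstance
    rw [injective_iff_map_eq_one]
    intro x hx
    have hx1 : x ∈ K := (QuotientGroup.eq_one_iff x).mp (congrArg Prod.fst hx)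
    have hx2 : (x : G) ∈ Q := (QuotientGroup.eq_one_iff (x : G)).mp (congrArg Prod.snd hx)
    obtain ⟨k, hk⟩ := IsPGroup.iff_orderOf.mp hQp ⟨x, hx2⟩
    rw [Subgroup.orderOf_mk, Subgroup.orderOf_coe] at hk
    exact orderOf_eq_one_iff.mp (Nat.eq_one_of_dvd_coprimes
      ((hp.coprime_iff_not_dvd.mpr (Fusion.hasNormalPComplement_iff_pResidual.mp (h2 L hL))).pow_left k)
      hk.dvd (K.orderOf_dvd_natCard hx1))
  · exact Fusion.hasNormalPComplement_of_isNilpotent

end Cfsg.Agent.S0132
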