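import Cfsg.Statements.S0526
import Cfsg.Agent.H30.Supersolvable

set_option autoImplicit false
open Cfsg

namespace Cfsg.Agent.S0526

open Subgroup in
theorem comm_aux.{u} {G : Type u} [Group G] [Finite G]
    (hG : Cfsg.IsSupersolvable G) : Group.IsNilpotent (commutator G) := by
  refine H30.supersolvable_induction (P := fun X _ => Group.IsNilpotent (commutator X)) ?_ ?_ hG
  · intro X _ _; infer_instance
  · intro X _ _ N _ _ hp ih
    have := H30.isCyclic_of_prime_card' hp
    have hmap : ∀ c : commutator X, QuotientGroup.mk' N (c : X) ∈ commutator (X ⧸ N) := by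
      intro c
      have h := mem_map_of_mem (QuotientGroup.mk' N) c.2
      have e : (_root_.commutator X).map (QuotientGroup.mk' N) = _root_.commutator (X ⧸ N) := by
        rw [_root_.commutator_def, map_commutator, map_top_of_surjective _ (QuotientGroup.mk'_surjective N)]
        rfl
      exact e ▸ h
    let f : commutator X →* commutator (X ⧸ N) :=
      ((QuotientGroup.mk' N).comp (commutator X).subtype).codRestrict _ hmap
    have := ih
    refine Subgroup.isNilpotent_of_ker_le_center f ?_
    intro n hn
    have hnN : (n : X) ∈ N := by
      have : QuotientGroup.mk' N (n : X) = 1 := congrArg Subtype.val hn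
      rwa [← QuotientGroup.ker_mk' N, MonoidHom.mem_ker]
    rw [mem_center_iff]
    intro c
    apply Subtype.ext
    have hk : commutator X ≤ (MulAut.conjNormal (H := N)).ker := by
      have hk := Abelianization.commutator_subset_ker
        ((IsCyclic.mulAutMulEquiv (↥N)).toMonoidHom.comp (MulAut.conjNormal (H := N)))
      intro x hx
      have := hk hx
      rw [MonoidHom.mem_ker, MonoidHom.comp_apply, MulEquiv.coe_toMonoidHom,
        EmbeddingLike.map_eq_one_iff] at this
      exact this
    have := hk c.2
    rw [MonoidHom.mem_ker] at this
    have h2 := congrArg (fun σ : MulAut N => (σ ⟨(n : X), hnN⟩ : X)) this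
    simp only [MulAut.conjNormal_apply, MulAut.one_apply] at h2
    calc (c : X) * n = ((c : X) * n * (c : X)⁻¹) * c := by group
      _ = n * c := by rw [h2]

/-- In a finite supersolvable group the commutator subgroup is nilpotent. -/
theorem result {G : Type*} [Group G] [Finite G] (hG : Cfsg.IsSupersolvable G) : Group.IsNilpotent (commutator G) := by
  exact comm_aux hG

end Cfsg.Agent.S0526
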