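import Cfsg.Statements.S2154
import Cfsg.Agent.H51.BorelTits
import Cfsg.Agent.H37.Chev.All

set_option autoImplicit false
open Cfsg

namespace Cfsg.Agent.S2154

/-- The Borel–Tits property of the finite Chevalley groups of types G₂, B₂, D₄, F₄, E₆, E₇, E₈ over a finite field of characteristic p: for every non-trivial p-subgroup U of the group G there are an element g of G and a proper set J of fundamental roots such that the normaliser of U in G lies in the conjugate by g of the standard parabolic subgroup P_J and U lies in the conjugate by g of its unipotent radical U_J. -/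
theorem result {F : Type*} [Field F] [Fintype F] (p : ℕ) [Fact p.Prime] [CharP F p] (D : Cfsg.Lie.ChevalleyDatum) (hD : D ∈ [Cfsg.Lie.chevG2, Cfsg.Lie.chevB2, Cfsg.Lie.chevD4, Cfsg.Lie.chevF4, Cfsg.Lie.chevE6, Cfsg.Lie.chevE7, Cfsg.Lie.chevE8]) (U : Subgroup (GL D.Idx F)) (hUG : U ≤ D.group F) (hU : IsPGroup p ↥U) (hne : U ≠ ⊥) : ∃ g ∈ D.group F, ∃ J : Set ℕ, (∃ i, i < D.rank ∧ i ∉ J) ∧ Subgroup.normalizer (U : Set (GL D.Idx F)) ⊓ D.group F ≤ (D.parabolicSubgroup F J).map (MulAut.conj g).toMonoidHom ∧ U ≤ (D.unipotentRadical F J).map (MulAut.conj g).toMonoidHom := by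
  classical
  obtain ⟨Q, hS⟩ := Agent.H37.Chev.exists_data hD F
  set R := U.subgroupOf (D.group F) with hR
  have hRp : IsPGroup p ↥R := hU.of_equiv (Subgroup.subgroupOfEquivOfLe hUG).symm
  obtain ⟨c, hc⟩ := H51.BT.exists_conj_le_U Q hRp
  obtain ⟨g, a, ha, hf, hmin⟩ := H51.BT.exists_optimal Q hc
  set J : Set ℕ := {i | ∃ h : i < D.rank, a ⟨i, h⟩ = 0} with hJ
  refine ⟨(g : GL D.Idx F), g.2, J, ?_, ?_, ?_⟩
  · by_contra hcon
    push Not at hcon
    have ha0 : ∀ m, a m = 0 := fun m => (hcon m m.isLt).2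
    have hbig : H51.BT.big (H51.CoW.phi Q a) = ∅ := Finset.eq_empty_of_forall_notMem fun r hr => by
      obtain ⟨h1, -, h3⟩ := H51.BT.mem_big.1 hr
      rw [H51.CoW.phi] at h3
      simp [ha0] at h3
      linarith
    refine hne ((Subgroup.eq_bot_iff_forall _).2 fun x hx => ?_)
    have h1 := hf ⟨x, hUG hx⟩ (Subgroup.mem_subgroupOf.2 hx)
    rw [hbig] at h1
    have h2 : g⁻¹ * ⟨x, hUG hx⟩ * g = 1 := by
      refine (Subgroup.mem_bot).1 ((Agent.H37.RootSys.XS_le (K := ⊥) ?_) h1)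
      simp
    have h3 : (⟨x, hUG hx⟩ : ↥(D.group F)) = 1 := by
      rw [show (⟨x, hUG hx⟩ : ↥(D.group F)) = g * (g⁻¹ * ⟨x, hUG hx⟩ * g) * g⁻¹ by group, h2]
      group
    exact congrArg Subtype.val h3
  · rintro x ⟨hxN, hxG⟩
    set x' : ↥(D.group F) := ⟨x, hxG⟩ with hx'
    have hf' : H51.BT.Fits Q R (x' * g) a := by
      intro y hy
      have hy' : x⁻¹ * (y : GL D.Idx F) * x ∈ U :=
        (Subgroup.mem_normalizer_iff''.1 hxN _).1 (Subgroup.mem_subgroupOf.1 hy)
      rw [show (x' * g)⁻¹ * y * (x' * g) = g⁻¹ * (x'⁻¹ * y * x') * g by group]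
      exact hf _ (Subgroup.mem_subgroupOf.2 hy')
    have h := H51.BT.optimal_unique Q ha ha hf hf' hmin le_rfl
    refine ⟨_, h, ?_⟩
    show (g : GL D.Idx F) * _ * (g : GL D.Idx F)⁻¹ = x
    push_cast
    group
    rfl
  · intro x hx
    have h1 := hf ⟨x, hUG hx⟩ (Subgroup.mem_subgroupOf.2 hx)
    have hle : Agent.H37.RootSys.XS Q.sys.x (↑(H51.BT.big (H51.CoW.phi Q a)) : Set ℕ) ≤
        (D.unipotentRadical F J).subgroupOf (D.group F) := by
      refine Agent.H37.RootSys.XS_le fun r hr t => Subgroup.mem_subgroupOf.2 ?_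
      obtain ⟨h1, h2, h3⟩ := H51.BT.mem_big.1 (Finset.mem_coe.1 hr)
      refine Subgroup.subset_closure ⟨r, t, (Q.ord.isPosRoot_iff r).2 ⟨h1, h2⟩, fun hin => ?_,
        Q.K.coe_xU F r t⟩
      have h4 := ((Agent.H37.Chev.inRootSub_iff Q.X.good Q.K hS).1 hin).2
      have h5 : H51.CoW.phi Q a ⟨r, h1⟩ = 0 := Finset.sum_eq_zero fun m _ => by
        by_cases hm : (m : ℕ) ∈ J
        · rw [show a m = 0 from hm.2, zero_mul]
        · rw [h4 m m.isLt hm, Int.cast_zero, mul_zero]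
      linarith
    refine ⟨_, Subgroup.mem_subgroupOf.1 (hle h1), ?_⟩
    show (g : GL D.Idx F) * _ * (g : GL D.Idx F)⁻¹ = x
    push_cast
    group

end Cfsg.Agent.S2154
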