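import Cfsg.Statements.S0505
import Cfsg.Agent.Coprime.Centralize
import Cfsg.Agent.Cores.PCore
import Cfsg.Agent.Cores.Fitting

set_option autoImplicit false
open Cfsg

namespace Cfsg.Agent.S0505

open Subgroup

universe u

theorem char_two {G : Type u} [Group G] [Finite G]
    (hs : ∀ t : G, orderOf t = 2 → Group.IsSolvable (Subgroup.centralizer ({t} : Set G)))
    (hc : ∀ t : G, orderOf t = 2 → Cfsg.oddCore (Subgroup.centralizer ({t} : Set G)) = ⊥)
    (T : Subgroup G) (hT : IsPGroup 2 T) (hT1 : T ≠ ⊥) :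
    Cfsg.IsOfCharacteristicTwo (normalizer (T : Set G)) := by
  have : Fact (Nat.Prime 2) := ⟨Nat.prime_two⟩
  have hTnt : Nontrivial T := (T.nontrivial_iff_ne_bot).2 hT1
  have hZ := hT.center_nontrivial
  obtain ⟨z, hz⟩ : ∃ z : center T, orderOf z = 2 := by
    refine exists_prime_orderOf_dvd_card' 2 ?_
    obtain ⟨k, hk⟩ := (hT.to_subgroup (center T)).exists_card_eq
    rw [hk]
    refine dvd_pow_self 2 ?_
    rintro rfl
    simpa [hk] using Finite.one_lt_card (α := center T)
  obtain ⟨z', hz'⟩ : ∃ z' : G, z' = ((z : T) : G) := ⟨_, rfl⟩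
  have hzo : orderOf z' = 2 := by rw [hz', Subgroup.orderOf_coe, Subgroup.orderOf_coe, hz]
  have hTC : T ≤ centralizer ({z'} : Set G) := fun x hx =>
    mem_centralizer_singleton_iff.2 (by
      have h := congrArg Subtype.val (mem_center_iff.1 z.2 ⟨x, hx⟩)
      rw [hz']; exact h)
  have hCT : centralizer (T : Set G) ≤ centralizer ({z'} : Set G) := fun x hx =>
    mem_centralizer_singleton_iff.2 (by
      rw [hz']; exact (mem_centralizer_iff.1 hx _ (SetLike.coe_mem _)).symm)
  set H := normalizer (T : Set G) with hH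
  set C := centralizer ({z'} : Set G) with hC
  have := hs z' hzo
  -- no nontrivial normal subgroup of odd order in `H`
  have hodd : ∀ N : Subgroup H, N.Normal → Odd (Nat.card N) → N = ⊥ := by
    intro N hN hNo
    set N' := N.map H.subtype with hN'
    have hN'o : (Nat.card N').Coprime 2 := by
      rw [hN', card_map_of_injective H.subtype_injective]
      exact Nat.coprime_two_right.2 hNo
    have hTn : (T.subgroupOf H).Normal := normal_in_normalizer
    have hcomm : T ≤ centralizer (N' : Set G) := by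
      intro t ht
      refine mem_centralizer_iff.2 ?_
      rintro _ ⟨n, hn, rfl⟩
      have hdis : Disjoint N (T.subgroupOf H) := by
        rw [disjoint_iff]
        exact (inf_comm _ _).trans (Cores.disjoint_of_isPGroup_of_coprime
          (hT.comap_of_injective H.subtype H.subtype_injective) (Nat.coprime_two_right.2 hNo))
      have := commute_of_normal_of_disjoint N (T.subgroupOf H) hN hTn hdis n ⟨t, le_normalizer ht⟩ hn ht
      exact congrArg Subtype.val this.eq
    have hN'C : N' ≤ C := (le_centralizer_iff.1 hcomm).trans hCT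
    set U := (Cfsg.pCore 2 C).map C.subtype with hU
    have hCU : C ≤ normalizer (U : Set G) := by
      intro c hc
      refine mem_normalizer_iff_map_conj_eq.2 (eq_of_le_of_card_ge ?_
        (le_of_eq (card_map_of_injective (MulEquiv.injective _)).symm))
      rintro _ ⟨_, ⟨y, hy, rfl⟩, rfl⟩
      exact ⟨⟨c, hc⟩ * y * ⟨c, hc⟩⁻¹, (Cfsg.pCore_normal 2 C).conj_mem y hy _, rfl⟩
    have hU2 : IsPGroup 2 U := Cores.pCore_isPGroup.map _
    have hcore : U ⊓ centralizer (T : Set G) ≤ centralizer (N' : Set G) := by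
      rintro x ⟨hxU, hxT⟩
      refine mem_centralizer_iff.2 ?_
      rintro _ ⟨n, hn, rfl⟩
      have hxH : x ∈ H := centralizer_le_normalizer _ hxT
      have h1 : (n : G) * x * (n : G)⁻¹ * x⁻¹ ∈ U :=
        mul_mem ((mem_normalizer_iff.1 (hCU (hN'C (mem_map_of_mem _ hn))) x).1 hxU) (inv_mem hxU)
      have h2 : (n : G) * x * (n : G)⁻¹ * x⁻¹ ∈ N' := by
        refine ⟨n * (⟨x, hxH⟩ * n⁻¹ * ⟨x, hxH⟩⁻¹), mul_mem hn (hN.conj_mem _ (inv_mem hn) _), ?_⟩
        simp [mul_assoc]
      have h3 : U ⊓ N' = ⊥ := Cores.disjoint_of_isPGroup_of_coprime hU2 hN'o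
      have h4 : (n : G) * x * (n : G)⁻¹ * x⁻¹ = 1 := mem_bot.1 (h3 ▸ mem_inf.2 ⟨h1, h2⟩)
      rwa [mul_inv_eq_one, mul_inv_eq_iff_eq_mul] at h4
    have hNU := Coprime.thompson_AxB hT hN'o hcomm U hU2 (hTC.trans hCU) (hN'C.trans hCU) hcore
    have hfit : Cfsg.fittingSubgroup C ≤ Cfsg.pCore 2 C := by
      rw [Cores.iSup_pCore_eq_fittingSubgroup]
      refine iSup_le fun p => ?_
      by_cases hp : (p : ℕ) = 2
      · rw [hp]
      · have : Fact (p : ℕ).Prime := ⟨p.2⟩
        have h1 : Cfsg.pCore (p : ℕ) C ≤ Cfsg.oddCore C := by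
          refine Cores.le_oddCore ?_
          obtain ⟨k, hk⟩ := (Cores.pCore_isPGroup (p := (p : ℕ)) (G := C)).exists_card_eq
          rw [hk]
          exact (p.2.odd_of_ne_two hp).pow
        rw [hc z' hzo] at h1
        exact h1.trans bot_le
    have hN'U : N' ≤ U := by
      intro x hx
      refine ⟨⟨x, hN'C hx⟩, hfit (Cores.centralizer_fittingSubgroup_le ?_), rfl⟩
      refine mem_centralizer_iff.2 fun f hf => Subtype.ext ?_
      exact mem_centralizer_iff.1 (hNU hx) _ (mem_map_of_mem C.subtype (hfit hf))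
    have : N' = ⊥ := by
      rw [← inf_eq_left.2 hN'U, inf_comm]
      exact Cores.disjoint_of_isPGroup_of_coprime hU2 hN'o
    exact (map_eq_bot_iff_of_injective N H.subtype_injective).1 this
  -- the centralizer of `O₂(H)`
  set K := centralizer ((Cfsg.pCore 2 H : Subgroup H) : Set H) with hK
  show K ≤ Cfsg.pCore 2 H
  have hTR : T.subgroupOf H ≤ Cfsg.pCore 2 H := by
    have : (T.subgroupOf H).Normal := normal_in_normalizer
    exact Cores.le_pCore (hT.comap_of_injective H.subtype H.subtype_injective)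
  have hKC : K.map H.subtype ≤ C := by
    refine le_trans ?_ hCT
    rintro _ ⟨x, hx, rfl⟩
    refine mem_centralizer_iff.2 fun t ht => ?_
    exact congrArg Subtype.val (mem_centralizer_iff.1 hx ⟨t, le_normalizer ht⟩ (hTR ht))
  have : Group.IsSolvable K := by
    refine Group.isSolvable_of_isSolvable_injective (f := ((H.subtype.comp K.subtype).codRestrict C
      fun x => hKC (mem_map_of_mem _ x.2))) (fun a b h => ?_)
    exact Subtype.ext (Subtype.ext (congrArg (fun w : C => (w : G)) h))
  intro x hx
  have hfit2 : ∀ p : Nat.Primes, (Cfsg.pCore (p : ℕ) K).map K.subtype ≤ Cfsg.pCore 2 H := by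
    intro p
    have := Fact.mk p.2
    by_cases hp : (p : ℕ) = 2
    · rw [hp]; exact Cores.map_pCore_le_of_normal K
    · have : ((Cfsg.pCore (p : ℕ) K).map K.subtype).Normal := inferInstance
      rw [hodd _ this ?_]
      · exact bot_le
      · rw [card_map_of_injective K.subtype_injective]
        obtain ⟨k, hk⟩ := (Cores.pCore_isPGroup (p := (p : ℕ)) (G := K)).exists_card_eq
        rw [hk]
        exact (p.2.odd_of_ne_two hp).pow
  have hmem : (⟨x, hx⟩ : K) ∈ Cfsg.fittingSubgroup K := by
    refine Cores.centralizer_fittingSubgroup_le (mem_centralizer_iff.2 fun f hf => Subtype.ext ?_)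
    have : (f : H) ∈ Cfsg.pCore 2 H := by
      rw [Cores.iSup_pCore_eq_fittingSubgroup] at hf
      have := mem_map_of_mem K.subtype hf
      rw [Subgroup.map_iSup] at this
      exact iSup_le hfit2 this
    exact mem_centralizer_iff.1 hx _ this
  rw [Cores.iSup_pCore_eq_fittingSubgroup] at hmem
  have := mem_map_of_mem K.subtype hmem
  rw [Subgroup.map_iSup] at this
  exact iSup_le hfit2 this

/-- Let G be a finite group of even order in which the centralizer of every involution is solvable and has trivial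
core (no nontrivial normal subgroup of odd order). Then G is of characteristic 2 type. -/
theorem result {G : Type*} [Group G] [Finite G]
    (h2 : Even (Nat.card G))
    (hs : ∀ t : G, orderOf t = 2 → Group.IsSolvable (Subgroup.centralizer ({t} : Set G)))
    (hc : ∀ t : G, orderOf t = 2 → Cfsg.oddCore (Subgroup.centralizer ({t} : Set G)) = ⊥) :
    Cfsg.IsCharacteristicTwoType G := by
  exact ⟨h2, fun T hT hT1 => char_two hs hc T hT hT1⟩

end Cfsg.Agent.S0505
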