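import Cfsg.Statements.S1895
import Cfsg.Agent.H48.ChiefBound
import Cfsg.Agent.H48.SylowCore
import Cfsg.Agent.S1443
import Cfsg.Agent.S0093
import Cfsg.Agent.S0016
import Cfsg.Agent.S3771
import Cfsg.Agent.Cores.Constrained
import Cfsg.Agent.PGroups.Basic
import Cfsg.Agent.PGroups.Critical
import Cfsg.Agent.PGroups.RankTwoStructure


set_option autoImplicit false
open Cfsg

namespace Cfsg.Agent.S1895

open Subgroup H48
open scoped commutatorElement

variable {G : Type*} [Group G] [Finite G] {p : ℕ} [Fact p.Prime]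

/-- A `p`-group of automorphisms of a group of order `p²` has order at most `p`. -/
theorem card_aut_le {V : Type*} [Group V] [Finite V] (hV : Nat.card V = p ^ 2)
    (S : Subgroup (MulAut V)) (hS : IsPGroup p S) : Nat.card S ≤ p := by
  classical
  have hp : p.Prime := Fact.out
  obtain ⟨v, hv, hv1⟩ := hS.exists_fixed_point_of_prime_dvd_card_of_fixed_point V
    (by rw [hV]; exact dvd_pow_self p two_ne_zero) (a := (1 : V)) (fun s => map_one (s : MulAut V))
  have hvf : ∀ s ∈ S, s v = v := fun s hs => hv ⟨s, hs⟩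
  have hz1 : 1 < Nat.card (zpowers v) := (Subgroup.one_lt_card_iff_ne_bot _).mpr
    (zpowers_ne_bot.mpr hv1.symm)
  by_cases htop : zpowers v = ⊤
  · have h1 : S = ⊥ := eq_bot_iff.mpr fun s hs => mem_bot.mpr (MulEquiv.ext fun x => by
      obtain ⟨i, rfl⟩ := mem_zpowers_iff.mp (htop.ge (mem_top x))
      rw [map_zpow, hvf s hs, MulAut.one_apply])
    rw [h1, card_bot]; exact hp.one_lt.le
  obtain ⟨w, hw⟩ : ∃ w, w ∉ zpowers v := by
    by_contra! h
    exact htop (eq_top_iff.mpr fun x _ => h x)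
  have hcard : p ≤ Nat.card (zpowers v) := by
    obtain ⟨i, -, hi⟩ := (Nat.dvd_prime_pow hp).mp (hV ▸ (zpowers v).card_subgroup_dvd_card)
    rcases Nat.eq_zero_or_pos i with h0 | h0
    · rw [h0, pow_zero] at hi; omega
    · rw [hi]; exact Nat.le_self_pow h0.ne' p
  have hgen : zpowers v ⊔ zpowers w = ⊤ := by
    obtain ⟨i, hi2, hi⟩ :=
      (Nat.dvd_prime_pow hp).mp (hV ▸ (zpowers v ⊔ zpowers w).card_subgroup_dvd_card)
    refine eq_top_of_card_eq _ ?_
    have hlt : Nat.card (zpowers v) < Nat.card ↥(zpowers v ⊔ zpowers w) := by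
      by_contra hle
      exact hw ((Subgroup.eq_of_le_of_card_ge le_sup_left (not_lt.mp hle)).ge
        (mem_sup_right (mem_zpowers w)))
    rw [hi] at hlt ⊢
    have : 1 < i := (Nat.pow_lt_pow_iff_right hp.one_lt).mp (by rw [pow_one]; omega)
    rw [hV, show i = 2 by omega]
  have hinj : Function.Injective
      (fun s : S => (⟨(s : MulAut V) w, fun h => hw (by
        obtain ⟨i, hi⟩ := mem_zpowers_iff.mp h
        refine mem_zpowers_iff.mpr ⟨i, (s : MulAut V).injective ?_⟩
        rw [map_zpow, hvf s s.2, hi])⟩ : {x : V // x ∉ zpowers v})) := by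
    intro s t hst
    have h0 : (s : MulAut V) w = (t : MulAut V) w := congrArg Subtype.val hst
    have hle : zpowers v ⊔ zpowers w ≤
        MonoidHom.eqLocus (s : MulAut V).toMonoidHom (t : MulAut V).toMonoidHom :=
      sup_le (zpowers_le.mpr ((hvf s s.2).trans (hvf t t.2).symm)) (zpowers_le.mpr h0)
    exact Subtype.ext (MulEquiv.ext fun x => hle (hgen.ge (mem_top x)))
  have h2 := Nat.card_le_card_of_injective _ hinj
  haveI := Fintype.ofFinite V
  have h3 : Nat.card {x : V // x ∉ zpowers v} = Nat.card V - Nat.card (zpowers v) := by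
    simp only [Nat.card_eq_fintype_card]
    exact Fintype.card_subtype_compl _
  obtain ⟨j, hj⟩ := IsPGroup.iff_card.mp hS
  rw [h3, hV, hj] at h2
  have := pow_pos hp.pos j
  have : p ^ j < p ^ 2 := by omega
  have hj2 : j < 2 := (Nat.pow_lt_pow_iff_right hp.one_lt).mp this
  rw [hj]
  exact (Nat.pow_le_pow_right hp.pos (show j ≤ 1 by omega)).trans_eq (pow_one p)

/-- `p²` does not divide the index of the centralizer of a normal subgroup of order `p²`. -/
theorem not_sq_dvd_index (V : Subgroup G) [V.Normal] (hV : Nat.card V = p ^ 2) :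
    ¬ p ^ 2 ∣ (centralizer (V : Set G)).index := by
  intro h
  set φ : G →* MulAut V := MulAut.conjNormal with hφ
  have hker : φ.ker = centralizer (V : Set G) := by
    ext g
    rw [MonoidHom.mem_ker, MulEquiv.ext_iff, mem_centralizer_iff]
    refine ⟨fun hh x hx => ?_, fun hh x => Subtype.ext ?_⟩
    · have := congrArg Subtype.val (hh ⟨x, hx⟩)
      rw [hφ, MulAut.conjNormal_apply] at this
      exact (mul_inv_eq_iff_eq_mul.mp this).symm
    · rw [hφ, MulAut.conjNormal_apply, MulAut.one_apply, ← hh x x.2, mul_inv_cancel_right]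
  rw [← hker, index_ker] at h
  obtain ⟨S, hS⟩ := Sylow.exists_subgroup_card_pow_prime p h
  have h1 := card_aut_le hV (S.map φ.range.subtype) ((IsPGroup.of_card hS).map _)
  rw [card_map_of_injective φ.range.subtype_injective, hS] at h1
  have := (Nat.pow_le_pow_iff_right (Fact.out : p.Prime).one_lt).mp (h1.trans_eq (pow_one p).symm)
  omega

/-- A factor avoiding `M` is bounded when `p²` does not divide `|G : M|`. -/
theorem relIndex_le_of_not_sq {M H K : Subgroup G} [M.Normal] (h : H ⊓ M ≤ K)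
    (hM : ¬ p ^ 2 ∣ M.index) (hpow : ∃ n, K.relIndex H = p ^ n) : K.relIndex H ≤ p ^ 2 := by
  obtain ⟨n, hn⟩ := hpow
  have h1 : p ^ n ∣ M.index := by
    rw [← hn, ← relIndex_top_right M]
    exact relIndex_dvd_of_inf_le le_top le_top h
  rw [hn]
  refine Nat.pow_le_pow_right (Fact.out : p.Prime).pos ?_
  by_contra hn2
  exact hM ((pow_dvd_pow p (le_of_lt (not_le.mp hn2))).trans h1)

/-- The case `O_{p'}(G) = 1`. -/
theorem chiefBound_top (hp : p ≠ 2) (hG : Cfsg.IsPSolvable p G) (hr : Cfsg.PRankLE p 2 G)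
    (hcore : Cfsg.pPrimeCore p G = ⊥) : ChiefBound p (⊤ : Subgroup G) := by
  classical
  have hpp : p.Prime := Fact.out
  set R := Cfsg.pCore p G with hR
  have hRp : IsPGroup p R := Cores.pCore_isPGroup
  have hCR : centralizer (R : Set G) ≤ R := Cores.centralizer_pCore_le hG hcore
  obtain ⟨C0, hC0ch, hC0fr, hC0comm, hC0c⟩ := Cfsg.Agent.S0093.result hRp
  haveI := hC0ch
  set Cg : Subgroup G := C0.map R.subtype with hCg
  haveI hCgn : Cg.Normal := inferInstance
  have hCgR : Cg ≤ R := map_subtype_le _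
  have hCgp : IsPGroup p Cg := hRp.to_le hCgR
  -- class two
  have hcl : ∀ x ∈ Cg, ∀ y ∈ Cg, ∀ z ∈ Cg, z * ⁅x, y⁆ = ⁅x, y⁆ * z := by
    rintro _ ⟨x, hx, rfl⟩ _ ⟨y, hy, rfl⟩ _ ⟨z, hz, rfl⟩
    have h := mem_centralizer_iff.mp
      (hC0comm (commutator_mem_commutator hx (mem_top y))).2 z hz
    exact congrArg R.subtype h
  have hfr : ∀ x ∈ Cg, ∀ z ∈ Cg, z * x ^ p = x ^ p * z := by
    rintro _ ⟨x, hx, rfl⟩ _ ⟨z, hz, rfl⟩
    have h := mem_centralizer_iff.mp (hC0fr (x := x ^ p)
      ⟨(⟨x, hx⟩ : C0) ^ p, PGroups.pow_mem_frattini (hRp.to_subgroup C0) _, rfl⟩) z hz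
    exact congrArg R.subtype h
  let D : Subgroup G :=
    { carrier := {x | x ∈ Cg ∧ x ^ p = 1}
      one_mem' := ⟨Cg.one_mem, one_pow _⟩
      mul_mem' := fun {a b} ha hb => ⟨Cg.mul_mem ha.1 hb.1, by
        set e := a⁻¹ * b⁻¹ * a * b with he
        have hba : a * b = b * a * e := by rw [he]; group
        have hec : ∀ z ∈ Cg, z * e = e * z := by
          intro z hz
          have h := hcl a⁻¹ (Cg.inv_mem ha.1) b⁻¹ (Cg.inv_mem hb.1) z hz
          simpa [he, commutatorElement_def] using h
        have heC : e ∈ Cg :=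
          Cg.mul_mem (Cg.mul_mem (Cg.mul_mem (Cg.inv_mem ha.1) (Cg.inv_mem hb.1)) ha.1) hb.1
        have hep : e ^ p = 1 := by
          have h1 : Commute a (⁅a⁻¹, b⁻¹⁆) := hcl a⁻¹ (Cg.inv_mem ha.1) b⁻¹ (Cg.inv_mem hb.1) a ha.1
          have h2 : ∀ n : ℕ, a ^ n * b = b * a ^ n * e ^ n := by
            intro n
            induction n with
            | zero => simp
            | succ n hn =>
              calc a ^ (n + 1) * b = a * (a ^ n * b) := by rw [pow_succ', mul_assoc]
                _ = (a * b) * (a ^ n * e ^ n) := by rw [hn]; group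
                _ = b * a * (e * a ^ n) * e ^ n := by rw [hba]; group
                _ = b * a * (a ^ n * e) * e ^ n := by
                  rw [← hec _ (Cg.pow_mem ha.1 n)]
                _ = b * a ^ (n + 1) * e ^ (n + 1) := by rw [pow_succ' a, pow_succ' e]; group
          have h3 := h2 p
          rw [ha.2, one_mul, mul_one, left_eq_mul] at h3
          exact h3
        obtain ⟨t, ht⟩ : p ∣ p.choose 2 :=
          hpp.dvd_choose_self two_ne_zero (lt_of_le_of_ne hpp.two_le (Ne.symm hp))
        have h4 := PGroups.mul_pow_of_commute (a := b) (b := a) hba (hec b hb.1).symm (hec a ha.1).symm p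
        rw [ha.2, hb.2, one_mul, one_mul, ht, pow_mul, hep, one_pow] at h4
        calc (a * b) ^ p = (a * (b * a) * a⁻¹) ^ p := by group
          _ = 1 := by rw [conj_pow, h4, mul_one, mul_inv_cancel]⟩
      inv_mem' := fun {a} ha => ⟨Cg.inv_mem ha.1, by rw [inv_pow, ha.2, inv_one]⟩ }
  haveI hDn : D.Normal := ⟨fun x hx g => ⟨hCgn.conj_mem x hx.1 g, by
    rw [conj_pow, hx.2, mul_one, mul_inv_cancel]⟩⟩
  have hDC : D ≤ Cg := fun x hx => hx.1
  have hDexp : ∀ x : D, x ^ p = 1 := fun x => Subtype.ext x.2.2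
  have hrD : Cfsg.PRankLE p 2 D := fun A hA hAe => by
    rw [← card_map_of_injective D.subtype_injective]
    refine hr _ (Subgroup.map_isMulCommutative A D.subtype) ?_
    rintro _ ⟨a, ha, rfl⟩
    rw [← map_pow, hAe a ha, map_one]
  have hDp : IsPGroup p D := hCgp.to_le hDC
  have hD3 : Nat.card D ≤ p ^ 3 := Cfsg.Agent.S3771.result hDp hrD hDexp
  -- `C_G(D)` is a `p`-group
  set X := centralizer (D : Set G) with hX
  haveI hXn : X.Normal := inferInstanceAs (centralizer (D : Set G)).Normal
  have hXp : IsPGroup p X := by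
    have hX0 : ∀ g ∈ X, (orderOf g).Coprime p → g = 1 := by
      intro g hg hgo
      have hgA : (Nat.card (zpowers g)).Coprime p := by rwa [Nat.card_zpowers]
      have h1 : zpowers g ≤ centralizer (Cg : Set G) :=
        Cfsg.Agent.S1443.result p hp Cg ⊥ (zpowers g) hCgp bot_le
          ⟨inferInstance, fun a ha => by rw [mem_bot.mp ha, one_pow]⟩
          (fun h _ => mem_normalizer_of_normal h) hgA fun x hx hxo => zpowers_le.mpr
            (mem_centralizer_singleton_iff.mpr ((mem_centralizer_iff.mp hg x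
              ⟨hx.1, hxo ▸ pow_orderOf_eq_one x⟩).symm))
      set α : MulAut R := MulAut.conjNormal g with hα
      have hαC : ∀ x ∈ C0, α x = x := fun x hx => Subtype.ext (by
        rw [hα, MulAut.conjNormal_apply,
          ← mem_centralizer_iff.mp (zpowers_le.mp h1) x ⟨x, hx, rfl⟩, mul_inv_cancel_right])
      have hα1 := PGroups.mulAut_eq_one_of_fixed hRp C0 hC0c α
        (hgo.coprime_dvd_left (orderOf_map_dvd (MulAut.conjNormal (H := R)) g)) hαC
      have hgR : g ∈ R := hCR (mem_centralizer_iff.mpr fun x hx => by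
        have h2 := congrArg Subtype.val (DFunLike.congr_fun hα1 ⟨x, hx⟩)
        rw [hα, MulAut.conjNormal_apply] at h2
        exact (mul_inv_eq_iff_eq_mul.mp h2).symm)
      obtain ⟨i, hi⟩ := IsPGroup.iff_orderOf.mp hRp ⟨g, hgR⟩
      rw [Subgroup.orderOf_mk] at hi
      exact orderOf_eq_one_iff.mp (Nat.eq_one_of_dvd_coprimes (hgo.pow_right i) dvd_rfl hi.dvd)
    refine IsPGroup.iff_card.mpr ⟨_, Nat.eq_prime_pow_of_unique_prime_dvd Nat.card_pos.ne' ?_⟩
    intro q hq hqd
    by_contra hqp
    haveI : Fact q.Prime := ⟨hq⟩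
    obtain ⟨x, hx⟩ := exists_prime_orderOf_dvd_card' q hqd
    have h1 := hX0 x x.2 (by
      rw [Subgroup.orderOf_coe, hx]; exact (Nat.coprime_primes hq hpp).mpr hqp)
    rw [← orderOf_eq_one_iff, Subgroup.orderOf_coe, hx] at h1
    exact hq.one_lt.ne' h1
  have hXR : X ≤ R := Cores.le_pCore hXp
  -- an abelian subgroup of `D` absorbing the elements of order `p` of its centralizer
  have habs : ∀ A : Subgroup G, A ≤ D → (∀ x ∈ A, ∀ y ∈ A, x * y = y * x) → p ^ 2 ≤ Nat.card A →
      ∀ x : G, x ^ p = 1 → (∀ a ∈ A, a * x = x * a) → x ∈ A := by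
    intro A hAD hAc hA2 x hxp hxA
    have hcm : IsMulCommutative ↥(A ⊔ zpowers x) :=
      PGroups.isMulCommutative_sup_zpowers (PGroups.isMulCommutative_of_comm hAc)
        (mem_centralizer_iff.mpr hxA)
    have hexp : ∀ e ∈ A ⊔ zpowers x, e ^ p = 1 := by
      intro e he
      have hn : zpowers x ≤ normalizer (A : Set G) := zpowers_le.mpr
        (centralizer_le_normalizer _ (mem_centralizer_iff.mpr hxA))
      obtain ⟨a, ha, b, hb, rfl⟩ := (Coprime.mem_sup_iff hn).mp he
      obtain ⟨i, rfl⟩ := mem_zpowers_iff.mp hb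
      rw [(show Commute a (x ^ i) from Commute.zpow_right (hxA a ha) i).mul_pow, (hAD ha).2,
        one_mul, ← zpow_natCast, ← zpow_mul, mul_comm, zpow_mul, zpow_natCast, hxp, one_zpow]
    exact (Subgroup.eq_of_le_of_card_ge le_sup_left ((hr _ hcm hexp).trans hA2)).ge
      (mem_sup_right (mem_zpowers x))
  -- the factors below `C_G(D)` when it is `p`-central
  obtain ⟨d, hd⟩ := IsPGroup.iff_card.mp hDp
  have hd3 : d ≤ 3 := (Nat.pow_le_pow_iff_right hpp.one_lt).mp (hd ▸ hD3)
  by_cases hd1 : d ≤ 1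
  · -- `C` is cyclic and `G/C` abelian
    have huniq : ∀ H K : Subgroup Cg, Nat.card H = p → Nat.card K = p → H = K := by
      have key : ∀ H : Subgroup Cg, Nat.card H = p → H.map Cg.subtype = D := by
        intro H hH
        refine Subgroup.eq_of_le_of_card_ge ?_ ?_
        · rintro _ ⟨x, hx, rfl⟩
          have hxp : x ^ p = 1 := orderOf_dvd_iff_pow_eq_one.mp (hH ▸ H.orderOf_dvd_natCard hx)
          exact ⟨x.2, congrArg Subtype.val hxp⟩
        · rw [card_map_of_injective Cg.subtype_injective, hH, hd]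
          exact (Nat.pow_le_pow_right hpp.pos hd1).trans_eq (pow_one p)
      exact fun H K hH hK => map_injective Cg.subtype_injective ((key H hH).trans (key K hK).symm)
    have hcyc : IsCyclic Cg :=
      (Cfsg.Agent.S0016.result p hCgp huniq).resolve_right fun h => hp h.1
    obtain ⟨c, hc⟩ := hcyc.exists_generator
    have hgen : ∀ x ∈ Cg, ∃ i : ℤ, (c : G) ^ i = x := fun x hx => by
      obtain ⟨i, hi⟩ := mem_zpowers_iff.mp (hc ⟨x, hx⟩)
      exact ⟨i, congrArg Subtype.val hi⟩
    have hCC : centralizer (Cg : Set G) ≤ Cg := by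
      intro g hg
      have hgR : g ∈ R := hXR (centralizer_le hDC hg)
      exact ⟨⟨g, hgR⟩, hC0c (mem_centralizer_iff.mpr fun x hx => Subtype.ext
        (mem_centralizer_iff.mp hg x ⟨x, hx, rfl⟩)), rfl⟩
    have hab : ∀ g h : G, ⁅g, h⁆ ∈ Cg := by
      intro g h
      refine hCC (mem_centralizer_iff.mpr fun x hx => ?_)
      have hpow : ∀ g : G, ∀ x ∈ Cg, ∀ y ∈ Cg, ∀ i : ℤ, (c : G) ^ i = x →
          g * x * g⁻¹ = (g * (c : G) * g⁻¹) ^ i := fun g x _ _ _ i hi => by rw [conj_zpow, hi]
      have hcomm : ∀ g h : G, g * (h * (c : G) * h⁻¹) * g⁻¹ = h * (g * (c : G) * g⁻¹) * h⁻¹ := by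
        intro g h
        obtain ⟨i, hi⟩ := hgen _ (hCgn.conj_mem _ c.2 g)
        obtain ⟨j, hj⟩ := hgen _ (hCgn.conj_mem _ c.2 h)
        rw [← hi, ← hj, ← conj_zpow, ← conj_zpow, ← hi, ← hj, ← zpow_mul, ← zpow_mul, mul_comm]
      obtain ⟨i, hi⟩ := hgen x hx
      have hfix : ⁅g, h⁆ * (c : G) * ⁅g, h⁆⁻¹ = c := by
        calc ⁅g, h⁆ * (c : G) * ⁅g, h⁆⁻¹
            = g * (h * (g⁻¹ * (h⁻¹ * (c : G) * h) * g⁻¹⁻¹) * h⁻¹) * g⁻¹ := by
              rw [commutatorElement_def]; group
          _ = g * (h * (h⁻¹ * (g⁻¹ * (c : G) * g⁻¹⁻¹) * h) * h⁻¹) * g⁻¹ := by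
              have := hcomm g⁻¹ h⁻¹
              simp only [inv_inv] at this ⊢
              rw [this]
          _ = c := by group
      have hx' : ⁅g, h⁆ * x * ⁅g, h⁆⁻¹ = x := by rw [← hi, ← conj_zpow, hfix]
      exact (mul_inv_eq_iff_eq_mul.mp hx').symm
    have hcI : PGroups.IsPCentralIn p Cg := fun x hx _ y hy => by
      obtain ⟨i, rfl⟩ := hgen x hx
      obtain ⟨j, rfl⟩ := hgen y hy
      exact (Commute.refl (c : G)).zpow_zpow i j
    have hE : Nat.card (PGroups.torsionIn hcI) ≤ p ^ 2 := by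
      rw [show PGroups.torsionIn hcI = D from Subgroup.ext fun _ => Iff.rfl, hd]
      exact Nat.pow_le_pow_right hpp.pos (by omega)
    refine (chiefBound_of_pCentral hp Cg hCgp hcI hE).step fun H K hH hK hlt _ hch hpow hav => ?_
    haveI := hH
    haveI := hK
    obtain ⟨n, hn⟩ := hpow
    rw [hn]
    refine Nat.pow_le_pow_right hpp.pos ?_
    by_contra hn2
    -- a subgroup of index `p` between is normal
    have hdvd : p ∣ Nat.card (H ⧸ K.subgroupOf H) := by
      rw [← Subgroup.index_eq_card]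
      show p ∣ K.relIndex H
      rw [hn]; exact dvd_pow_self p (by omega)
    obtain ⟨z, hz⟩ := exists_prime_orderOf_dvd_card' p hdvd
    set L0 := (zpowers z).comap (QuotientGroup.mk' (K.subgroupOf H)) with hL0
    set L := L0.map H.subtype with hL
    have hLH : L ≤ H := map_subtype_le _
    have hKL : K ≤ L := fun k hk => ⟨⟨k, hlt.le hk⟩, by
      rw [SetLike.mem_coe, hL0, mem_comap, QuotientGroup.mk'_apply,
        (QuotientGroup.eq_one_iff _).mpr (show (⟨k, hlt.le hk⟩ : H) ∈ K.subgroupOf H from hk)]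
      exact one_mem _, rfl⟩
    have hLn : L.Normal := ⟨fun x hx g => by
      have h1 : ⁅g, x⁆ ∈ K := by
        refine hav ⟨?_, hab g x⟩
        have := H.mul_mem (hH.conj_mem x (hLH hx) g) (H.inv_mem (hLH hx))
        exact this
      have h2 := L.mul_mem (hKL h1) hx
      simpa [commutatorElement_def] using h2⟩
    have hidx : K.relIndex L = p := by
      have h1 := relIndex_map_map_of_injective (K.subgroupOf H) L0 H.subtype_injective
      rw [subgroupOf_map_subtype, inf_eq_left.mpr hlt.le] at h1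
      rw [hL, h1]
      have h2 := relIndex_comap (⊥ : Subgroup (H ⧸ K.subgroupOf H))
        (QuotientGroup.mk' (K.subgroupOf H)) L0
      rw [MonoidHom.comap_bot, QuotientGroup.ker_mk'] at h2
      rw [h2, hL0, map_comap_eq_self_of_surjective (QuotientGroup.mk'_surjective _),
        relIndex_bot_left, Nat.card_zpowers, hz]
    rcases hch L hLn hKL hLH with h | h
    · rw [h, relIndex_self] at hidx; exact hpp.one_lt.ne hidx
    · rw [h, hn] at hidx
      have := (Nat.pow_eq_self_iff hpp.one_lt).mp hidx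
      omega
  push Not at hd1
  have hXbound : (∀ x ∈ X, x ^ p = 1 → x ∈ D) → ChiefBound p X := by
    intro hx
    have hcX : PGroups.IsPCentralIn p X := fun x hxX hxp y hy =>
      mem_centralizer_iff.mp hy x (hx x hxX hxp)
    refine chiefBound_of_pCentral hp X hXp hcX ?_
    -- the torsion is abelian of exponent `p`
    refine hr _ (PGroups.isMulCommutative_of_comm fun a ha b hb => (hcX a ha.1 ha.2 b hb.1).eq) ?_
    exact fun a ha => ha.2
  by_cases hd2 : d = 2
  · have hDc : ∀ x ∈ D, ∀ y ∈ D, x * y = y * x := fun x hx y hy => by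
      have h := IsPGroup.isMulCommutative_of_card_eq_prime_sq (p := p) (G := D) (by rw [hd, hd2])
      exact congrArg Subtype.val (h.is_comm.comm (⟨x, hx⟩ : D) ⟨y, hy⟩)
    refine (hXbound fun x hx hxp => habs D le_rfl hDc (by rw [hd, hd2]) x hxp
      fun a ha => mem_centralizer_iff.mp hx a ha).step fun H K _ _ _ _ _ hpow hav =>
        relIndex_le_of_not_sq hav (not_sq_dvd_index D (by rw [hd, hd2])) hpow
  have hd' : d = 3 := by omega
  subst hd'
  have hDnc : ¬ ∀ x ∈ D, ∀ y ∈ D, x * y = y * x := fun h => by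
    have := hr D (PGroups.isMulCommutative_of_comm h) fun a ha => ha.2
    rw [hd] at this
    exact absurd ((Nat.pow_le_pow_iff_right hpp.one_lt).mp this) (by omega)
  set Z := D ⊓ X with hZ
  have hZcard : Nat.card Z = p := by
    have h1 : (center D).map D.subtype = Z := by
      ext x
      constructor
      · rintro ⟨y, hy, rfl⟩
        exact ⟨y.2, mem_centralizer_iff.mpr fun z hz =>
          congrArg Subtype.val (mem_center_iff.mp hy ⟨z, hz⟩)⟩
      · rintro ⟨hxD, hxX⟩
        exact ⟨⟨x, hxD⟩, mem_center_iff.mpr fun z => Subtype.ext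
          (mem_centralizer_iff.mp hxX z z.2), rfl⟩
    haveI : Nontrivial D := Finite.one_lt_card_iff_nontrivial.mp
      (by rw [hd]; exact Nat.one_lt_pow three_ne_zero hpp.one_lt)
    haveI := hDp.center_nontrivial
    rw [← h1, card_map_of_injective D.subtype_injective]
    obtain ⟨i, hi3, hi⟩ := (Nat.dvd_prime_pow hpp).mp (hd ▸ (center D).card_subgroup_dvd_card)
    have hi0 : i ≠ 0 := fun h => by
      rw [h, pow_zero] at hi
      exact (Subgroup.nontrivial_iff_ne_bot _).mp inferInstance (card_eq_one.mp hi)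
    have hi2 : i ≠ 2 := fun h => by
      have h2 := (center D).card_mul_index
      rw [hi, h, hd, pow_succ p 2] at h2
      exact PGroups.center_index_ne_prime (p := p) (G := D)
        (Nat.eq_of_mul_eq_mul_left (pow_pos hpp.pos 2) h2)
    have hi3' : i ≠ 3 := fun h => by
      refine hDnc fun x hx y hy => congrArg Subtype.val (mem_center_iff.mp
        ((eq_top_of_card_eq (center D) (by rw [hi, h, hd])).ge (mem_top (⟨y, hy⟩ : D))) ⟨x, hx⟩)
    rw [hi, show i = 1 by omega, pow_one]
  obtain ⟨a, haD, b, hbD, hab⟩ : ∃ a ∈ D, ∃ b ∈ D, a * b ≠ b * a := by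
    by_contra! h; exact hDnc h
  have hgenD : D ≤ closure ({a, b} : Set G) := by
    intro x hx
    have h := PGroups.le_closure_pair_of_card_cube (G := D) hDp (W := ⊤) (x := ⟨a, haD⟩) (y := ⟨b, hbD⟩)
      (by rw [card_top, hd]) (mem_top _) (mem_top _) (fun h => hab (congrArg Subtype.val
        (commutatorElement_eq_one_iff_mul_comm.mp h))) (mem_top ⟨x, hx⟩)
    have h2 := mem_map_of_mem D.subtype h
    rw [MonoidHom.map_closure, Set.image_pair] at h2
    exact h2
  have haX : a ∉ X := fun h => hab (mem_centralizer_iff.mp h b hbD).symm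
  have hXD : ∀ x ∈ X, x ^ p = 1 → x ∈ D := by
    intro x hx hxp
    set A := Z ⊔ zpowers a with hA
    have hAD : A ≤ D := sup_le inf_le_left (zpowers_le.mpr haD)
    have hAc : IsMulCommutative A := PGroups.isMulCommutative_sup_zpowers
      (PGroups.isMulCommutative_of_comm (H := Z) fun u hu v hv => mem_centralizer_iff.mp hv.2 u hu.1)
      (mem_centralizer_iff.mpr fun u hu => (mem_centralizer_iff.mp hu.2 a haD).symm)
    have hA2 : p ^ 2 ≤ Nat.card A := by
      have hlt : Nat.card Z < Nat.card A := by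
        by_contra hle
        exact haX ((Subgroup.eq_of_le_of_card_ge le_sup_left (not_lt.mp hle)).ge
          (mem_sup_right (mem_zpowers a))).2
      obtain ⟨i, -, hi⟩ := (Nat.dvd_prime_pow hpp).mp (hd ▸ card_dvd_of_le hAD)
      rw [hZcard, hi] at hlt
      rw [hi]
      refine Nat.pow_le_pow_right hpp.pos ?_
      by_contra h
      have := Nat.pow_le_pow_right hpp.pos (show i ≤ 1 by omega)
      rw [pow_one] at this
      omega
    exact hAD (habs A hAD (fun u hu v hv => PGroups.comm_of_isMulCommutative hAc hu hv) hA2 x hxp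
      fun u hu => mem_centralizer_iff.mp hx u (hAD hu))
  -- the kernel of the action on `D/Z`
  set π := QuotientGroup.mk' Z with hπ
  haveI : (D.map π).Normal := hDn.map π (QuotientGroup.mk'_surjective Z)
  set K1 := (centralizer ((D.map π : Subgroup (G ⧸ Z)) : Set (G ⧸ Z))).comap π with hK1
  haveI : K1.Normal := Subgroup.Normal.comap inferInstance π
  have hDbar : Nat.card (D.map π) = p ^ 2 := by
    have h := PGroups.card_eq_card_map_mul Z D
    rw [hd, inf_eq_right.mpr (inf_le_left : Z ≤ D), hZcard, pow_succ p 2] at h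
    exact (Nat.eq_of_mul_eq_mul_right hpp.pos h).symm
  have hXK1 : X ≤ K1 := fun g hg => by
    rw [hK1, mem_comap]
    rintro _ ⟨y, hy, rfl⟩
    rw [← map_mul, ← map_mul, mem_centralizer_iff.mp hg y hy]
  have hK1X : X.relIndex K1 ≤ p ^ 2 := by
    have hmem : ∀ g : K1, ∀ y ∈ D, ⁅(g : G), y⁆ ∈ Z := fun g y hy => by
      rw [← QuotientGroup.eq_one_iff, ← QuotientGroup.mk'_apply, ← hπ, map_commutatorElement,
        commutatorElement_eq_one_iff_commute]
      exact (mem_centralizer_iff.mp g.2 (π y) (mem_map_of_mem π hy)).symm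
    have hinj : Function.Injective (fun q : K1 ⧸ X.subgroupOf K1 =>
        ((⟨_, hmem q.out a haD⟩, ⟨_, hmem q.out b hbD⟩) : Z × Z)) := by
      intro q r hqr
      simp only [Prod.mk.injEq, Subtype.mk.injEq, commutatorElement_def, mul_left_inj] at hqr
      rw [← QuotientGroup.out_eq' q, ← QuotientGroup.out_eq' r, QuotientGroup.eq, mem_subgroupOf]
      push_cast
      set u : G := ((q.out : K1) : G)
      set v : G := ((r.out : K1) : G)
      have key : ∀ y : G, u * y * u⁻¹ = v * y * v⁻¹ → u⁻¹ * v ∈ centralizer ({y} : Set G) := by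
        intro y hy
        rw [mem_centralizer_singleton_iff]
        calc u⁻¹ * v * y = u⁻¹ * (v * y * v⁻¹) * v := by group
          _ = y * (u⁻¹ * v) := by rw [← hy]; group
      refine mem_centralizer_iff.mpr fun y hy => ?_
      have hle : closure ({a, b} : Set G) ≤ centralizer ({u⁻¹ * v} : Set G) := by
        rw [closure_le]
        rintro y (rfl | rfl)
        · exact mem_centralizer_singleton_iff.mpr
            (mem_centralizer_singleton_iff.mp (key _ hqr.1)).symm
        · exact mem_centralizer_singleton_iff.mpr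
            (mem_centralizer_singleton_iff.mp (key _ hqr.2)).symm
      exact mem_centralizer_singleton_iff.mp (hle (hgenD hy))
    have := Nat.card_le_card_of_injective _ hinj
    rw [Nat.card_prod, hZcard, ← Subgroup.index_eq_card] at this
    rw [sq]; exact this
  refine ((hXbound hXD).step (N := K1) fun H K _ _ _ hle _ _ hav =>
    (Nat.le_of_dvd (Nat.pos_of_ne_zero Subgroup.index_ne_zero_of_finite)
      (relIndex_dvd_of_inf_le hle hXK1 hav)).trans hK1X).step fun H K _ _ _ _ _ hpow hav =>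
        relIndex_le_of_not_sq hav ?_ hpow
  rw [hK1, index_comap_of_surjective _ (QuotientGroup.mk'_surjective Z)]
  exact not_sq_dvd_index _ hDbar

theorem pRankLE_quotient_core (hr : Cfsg.PRankLE p 2 G) :
    Cfsg.PRankLE p 2 (G ⧸ Cfsg.pPrimeCore p G) := by
  intro A hA hAe
  set O := Cfsg.pPrimeCore p G with hO
  set f := QuotientGroup.mk' O with hf
  have hpp : p.Prime := Fact.out
  have hAp : IsPGroup p A := fun a => ⟨1, by rw [pow_one]; exact Subtype.ext (hAe a a.2)⟩
  obtain ⟨T, hT, -⟩ := exists_isSylowIn_ge (p := p) (Q := (⊥ : Subgroup G)) (H := A.comap f)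
    IsPGroup.of_bot bot_le
  have hinj : ∀ x ∈ T, f x = 1 → x = 1 := by
    intro x hx hfx
    obtain ⟨i, hi⟩ := IsPGroup.iff_orderOf.mp hT.isPGroup ⟨x, hx⟩
    rw [Subgroup.orderOf_mk] at hi
    exact orderOf_eq_one_iff.mp (Nat.eq_one_of_dvd_coprimes
      ((Cores.coprime_card_pPrimeCore (p := p) (G := G)).pow_right i)
      (O.orderOf_dvd_natCard ((QuotientGroup.eq_one_iff x).mp hfx)) hi.dvd)
  have hTA : T.map f = A := by
    have hmap : (A.comap f).map f = A :=
      map_comap_eq_self_of_surjective (QuotientGroup.mk'_surjective O) A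
    have hle : T.map f ≤ A := (Subgroup.map_mono hT.le).trans hmap.le
    refine le_antisymm hle (relIndex_eq_one.mp ?_)
    obtain ⟨n, hn⟩ := IsPGroup.iff_card.mp hAp
    obtain ⟨i, -, hi⟩ := (Nat.dvd_prime_pow hpp).mp (hn ▸ relIndex_dvd_card (T.map f) A)
    rw [hi]
    rcases Nat.eq_zero_or_pos i with h0 | h0
    · rw [h0, pow_zero]
    · refine absurd ?_ hT.ndvd
      have h1 : (T.map f).relIndex ((A.comap f).map f) ∣ T.relIndex (A.comap f) := by
        rw [relIndex_map_map]
        have h2 : O ≤ A.comap f := fun x hx => by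
          rw [mem_comap, show f x = 1 from (QuotientGroup.eq_one_iff x).mpr hx]; exact A.one_mem
        rw [show f.ker = O from QuotientGroup.ker_mk' O, sup_eq_left.mpr h2]
        exact relIndex_dvd_of_le_left _ le_sup_left
      rw [hmap, hi] at h1
      exact (dvd_pow_self p h0.ne').trans h1
  rw [← hTA, Nat.card_congr (Equiv.ofBijective (fun x : T => (⟨f x, mem_map_of_mem f x.2⟩ : T.map f))
    ⟨fun x y h => Subtype.ext (inv_mul_eq_one.mp (hinj _ (T.mul_mem (T.inv_mem x.2) y.2) (by
      rw [map_mul, map_inv, inv_mul_eq_one]; exact congrArg Subtype.val h))),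
    fun ⟨_, x, hx, rfl⟩ => ⟨⟨x, hx⟩, rfl⟩⟩).symm]
  refine hr T (PGroups.isMulCommutative_of_comm fun x hx y hy => ?_) fun x hx => ?_
  · have h1 : f (x * y) = f (y * x) := by
      rw [map_mul, map_mul]
      exact congrArg Subtype.val (hA.is_comm.comm ⟨f x, hTA.le (mem_map_of_mem f hx)⟩
        ⟨f y, hTA.le (mem_map_of_mem f hy)⟩)
    exact inv_mul_eq_one.mp (hinj _ (T.mul_mem (T.inv_mem (T.mul_mem hx hy)) (T.mul_mem hy hx))
      (by rw [map_mul, map_inv, h1, inv_mul_cancel]))
  · exact hinj _ (T.pow_mem hx p) (by rw [map_pow]; exact hAe _ (hTA.le (mem_map_of_mem f hx)))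

/-- Let p be an odd prime and G a finite p-solvable group with no elementary abelian subgroup of order p³. Then every chief factor H/K of G (H, K normal in G with no normal subgroup of G strictly between them) whose order is a power of p has order p or p². -/
theorem result {G : Type*} [Group G] [Finite G] {p : ℕ} [Fact p.Prime] (hp : p ≠ 2)
    (hG : Cfsg.IsPSolvable p G) (hr : Cfsg.PRankLE p 2 G)
    (H K : Subgroup G) [H.Normal] [K.Normal] (hKH : K < H) (hpow : ∃ n : ℕ, K.relIndex H = p ^ n)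
    (hchief : ∀ L : Subgroup G, L.Normal → K ≤ L → L ≤ H → L = K ∨ L = H) :
    K.relIndex H = p ∨ K.relIndex H = p ^ 2 := by
  have hpp : p.Prime := Fact.out
  obtain ⟨n, hn⟩ := hpow
  suffices h : K.relIndex H ≤ p ^ 2 by
    rw [hn] at h ⊢
    have hn2 := (Nat.pow_le_pow_iff_right hpp.one_lt).mp h
    interval_cases n
    · rw [pow_zero] at hn
      exact absurd (Subgroup.relIndex_eq_one.mp hn) hKH.not_ge
    · exact Or.inl (pow_one p)
    · exact Or.inr rfl
  have hc : H48.IsChiefPair K H := hchief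
  rcases hc.cases hKH.le (Cfsg.pPrimeCore p G) with h | h
  swap
  · obtain ⟨-, -, h3⟩ := hc.inf hKH _ h
    rw [← h3] at hn ⊢
    have h4 : p ^ n ∣ Nat.card (Cfsg.pPrimeCore p G) := hn ▸
      (Subgroup.relIndex_dvd_card _ _).trans (Subgroup.card_dvd_of_le inf_le_right)
    have h5 := Nat.eq_one_of_dvd_coprimes (Cores.coprime_card_pPrimeCore.pow_right n) h4 dvd_rfl
    rw [hn, h5]
    exact Nat.one_le_pow _ _ hpp.pos
  obtain ⟨h1, h2, h3⟩ := H48.isChiefPair_map hKH hc h
  rw [← h3]
  exact chiefBound_top hp (Cores.isPSolvable_quotient hG _) (pRankLE_quotient_core hr)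
    Cores.pPrimeCore_quotient_pPrimeCore _ _
    (Subgroup.Normal.map ‹_› _ (QuotientGroup.mk'_surjective _))
    (Subgroup.Normal.map ‹_› _ (QuotientGroup.mk'_surjective _)) h1 le_top h2 ⟨n, by rw [h3]; exact hn⟩

end Cfsg.Agent.S1895
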