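import Cfsg.Statements.S0501
import Cfsg.Agent.Coprime.FourGen.Index

set_option autoImplicit false
open Cfsg

namespace Cfsg.Agent.S0501

/-- A finite 2-group in which every normal elementary abelian subgroup has order at most 4 has sectional rank at most
4: every quotient of every subgroup has no elementary abelian subgroup of order exceeding 16. -/
theorem result {P : Type*} [Group P] [Finite P] (hP : IsPGroup 2 P)
    (h : ∀ A : Subgroup P, A.Normal → IsMulCommutative A → (∀ a ∈ A, a ^ 2 = 1) → Nat.card A ≤ 4) :
    Cfsg.SectionalPRankLE 2 4 P := by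
  intro H N _ A _ hexp
  let E : Subgroup ↥H := A.comap (QuotientGroup.mk' N)
  let g : ↥E →* ↥A := ((QuotientGroup.mk' N).comp E.subtype).codRestrict A fun x => x.2
  let eqv := Subgroup.equivMapOfInjective E H.subtype H.subtype_injective
  let f : ↥(E.map H.subtype) →* ↥A := g.comp eqv.symm.toMonoidHom
  have hg : Function.Surjective g := by
    rintro ⟨a, ha⟩
    obtain ⟨x, rfl⟩ := QuotientGroup.mk'_surjective N a
    exact ⟨⟨x, ha⟩, rfl⟩
  have hf : Function.Surjective f := hg.comp eqv.symm.surjective
  have hle : Coprime.FourGen.sq (⊤ : Subgroup ↥(E.map H.subtype)) ≤ f.ker := by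
    refine (Subgroup.closure_le _).2 ?_
    rintro _ ⟨u, -, rfl⟩
    rw [SetLike.mem_coe, MonoidHom.mem_ker, map_mul]
    apply Subtype.ext
    have := hexp _ (f u).2
    rwa [pow_two] at this
  calc Nat.card A = f.ker.index := by
        rw [Subgroup.index_ker, MonoidHom.range_eq_top.2 hf, Subgroup.card_top]
    _ ≤ (Coprime.FourGen.sq (⊤ : Subgroup ↥(E.map H.subtype))).index := Subgroup.index_antitone hle
    _ ≤ 2 ^ 4 := Coprime.FourGen.index_sq_top_le hP h _

end Cfsg.Agent.S0501
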