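import Cfsg.Statements.S1958
import Cfsg.Agent.Cores.Constrained
import Cfsg.Agent.Coprime.Centralize
-- import your own Cfsg.Agent.* helpers here

set_option autoImplicit false
open Cfsg
open Cfsg.Agent.Coprime

namespace Cfsg.Agent.S1958

open Cfsg.Agent in
theorem half {G : Type*} [Group G] [Finite G] (p : ℕ) [Fact p.Prime] (x y : G) (hx : orderOf x = p)
    (_hy : orderOf y = p) (hxy : x * y = y * x)
    (hCy : Group.IsSolvable ↥(Subgroup.centralizer ({y} : Set G))) :
    Cfsg.centralizerPPrimeCore p x ⊓ Subgroup.centralizer {y} ≤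
      Cfsg.centralizerPPrimeCore p y ⊓ Subgroup.centralizer {x} := by
  intro d hd
  refine ⟨?_, Subgroup.map_subtype_le _ hd.1⟩
  set C := Subgroup.centralizer ({y} : Set G) with hC
  set Cx := Subgroup.centralizer ({x} : Set G) with hCxdef
  have hxC : x ∈ C := Subgroup.mem_centralizer_singleton_iff.mpr hxy
  set N := Cfsg.pPrimeCore p C with hN
  set f := QuotientGroup.mk' N with hf
  set D := (Cfsg.centralizerPPrimeCore p x).subgroupOf C with hD
  have hDcard : (Nat.card D).Coprime p := by
    refine Nat.Coprime.coprime_dvd_left ?_ (Cores.coprime_card_pPrimeCore (p := p) (G := Cx))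
    rw [← Subgroup.card_map_of_injective C.subtype_injective, hD, Subgroup.subgroupOf_map_subtype,
      ← Subgroup.card_map_of_injective Cx.subtype_injective]
    exact Subgroup.card_dvd_of_le inf_le_left
  set X := Subgroup.zpowers (⟨x, hxC⟩ : C) with hX
  have hXp : IsPGroup p X := IsPGroup.of_card (n := 1) (by
    rw [Nat.card_zpowers, ← Subgroup.orderOf_coe, hx, pow_one])
  have hDn : Subgroup.centralizer (X : Set C) ≤ Subgroup.normalizer (D : Set C) := by
    rw [Subgroup.le_normalizer_iff]
    intro c hc e he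
    have hcx : (c : G) ∈ Cx := Subgroup.mem_centralizer_singleton_iff.mpr
      (congr_arg Subtype.val (Subgroup.mem_centralizer_iff.mp hc _ (Subgroup.mem_zpowers _))).symm
    obtain ⟨e', he', hee⟩ : (e : G) ∈ Cfsg.centralizerPPrimeCore p x := he
    refine ⟨⟨c, hcx⟩ * e' * ⟨c, hcx⟩⁻¹,
      (inferInstance : (Cfsg.pPrimeCore p Cx).Normal).conj_mem e' he' _, ?_⟩
    show (c : G) * (e' : G) * (c : G)⁻¹ = (c : G) * (e : G) * (c : G)⁻¹
    rw [show (e' : G) = (e : G) from hee]
  have hDX : X ≤ Subgroup.centralizer (D : Set C) := by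
    rw [hX, Subgroup.zpowers_le, Subgroup.mem_centralizer_iff]
    intro e he
    exact Subtype.ext (Subgroup.mem_centralizer_singleton_iff.mp
      (Subgroup.map_subtype_le _ (show (e : G) ∈ Cfsg.centralizerPPrimeCore p x from he)))
  -- pass to the quotient by the `p'`-core
  set D' := D.map f with hD'
  set X' := X.map f with hX'
  set P := Cfsg.pCore p (C ⧸ N) with hP
  have hD'p : (Nat.card D').Coprime p := hDcard.coprime_dvd_left (Subgroup.card_map_dvd _ _)
  have hPp : IsPGroup p P := Cores.pCore_isPGroup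
  have hPn : P.Normal := inferInstance
  have hX'D' : X' ≤ Subgroup.centralizer (D' : Set (C ⧸ N)) := by
    rintro _ ⟨u, hu, rfl⟩
    rw [Subgroup.mem_centralizer_iff]
    rintro _ ⟨e, he, rfl⟩
    rw [← map_mul, ← map_mul, Subgroup.mem_centralizer_iff.mp (hDX hu) e he]
  have hdisj : D' ⊓ P = ⊥ := by
    rw [inf_comm]
    exact Cores.disjoint_of_isPGroup_of_coprime hPp hD'p
  have hfix : P ⊓ Subgroup.centralizer (X' : Set (C ⧸ N)) ≤ Subgroup.centralizer (D' : Set (C ⧸ N)) := by
    intro u hu
    have hu' : u ∈ Subgroup.normalizer (D' : Set (C ⧸ N)) := by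
      have h := hu.2
      rw [hX', hf, ← Cores.map_centralizer_of_coprime N Cores.coprime_card_pPrimeCore hXp] at h
      exact Subgroup.le_normalizer_map f (Subgroup.map_mono hDn h)
    refine mem_centralizer_of_conj_eq fun e he => ?_
    have h1 : e * u * e⁻¹ * u⁻¹ ∈ D' ⊓ P := by
      refine ⟨?_, P.mul_mem (hPn.conj_mem u hu.1 e) (P.inv_mem hu.1)⟩
      have := D'.mul_mem he (conj_mem hu' (D'.inv_mem he))
      simpa [mul_assoc] using this
    rw [hdisj, Subgroup.mem_bot, mul_inv_eq_one] at h1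
    exact h1
  have hDP : D' ≤ Subgroup.centralizer (P : Set (C ⧸ N)) :=
    thompson_AxB (hXp.map f) hD'p hX'D' P hPp Subgroup.le_normalizer_of_normal
      Subgroup.le_normalizer_of_normal hfix
  have : Group.IsSolvable (C ⧸ N) :=
    Group.isSolvable_of_surjective (QuotientGroup.mk'_surjective N)
  have hHH : Subgroup.centralizer (P : Set (C ⧸ N)) ≤ P :=
    Cores.centralizer_pCore_le Cores.isPSolvable_of_isSolvable Cores.pPrimeCore_quotient_pPrimeCore
  have hD'bot : D' = ⊥ := by
    rw [eq_bot_iff, ← hdisj]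
    exact le_inf le_rfl (hDP.trans hHH)
  have hdD : (⟨d, hd.2⟩ : C) ∈ D := hd.1
  have : f ⟨d, hd.2⟩ ∈ D' := Subgroup.mem_map_of_mem f hdD
  rw [hD'bot, Subgroup.mem_bot, hf, QuotientGroup.mk'_apply, QuotientGroup.eq_one_iff] at this
  exact ⟨_, this, rfl⟩

/-- Let `G` be a finite group, `p` a prime, and `x, y` commuting elements of order `p` whose centralizers `C_G(x)` and `C_G(y)` are both solvable. Then `O_{p'}(C_G(x)) ∩ C_G(y) = O_{p'}(C_G(y)) ∩ C_G(x)` (balance). -/
theorem result {G : Type*} [Group G] [Finite G]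
    (p : ℕ) [Fact p.Prime] (x y : G) (hx : orderOf x = p) (hy : orderOf y = p) (hxy : x * y = y * x)
    (hCx : Group.IsSolvable ↥(Subgroup.centralizer ({x} : Set G))) (hCy : Group.IsSolvable ↥(Subgroup.centralizer ({y} : Set G))) :
    Cfsg.centralizerPPrimeCore p x ⊓ Subgroup.centralizer {y} = Cfsg.centralizerPPrimeCore p y ⊓ Subgroup.centralizer {x} := by
  exact le_antisymm (half p x y hx hy hxy hCy) (half p y x hy hx hxy.symm hCx)

end Cfsg.Agent.S1958
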