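import Cfsg.Agent.H65.DihedralIndexTwo
import Cfsg.Agent.H65.DihedralAltSix
import Cfsg.Agent.S0495
import Cfsg.Agent.H27.SevenPoints
import Cfsg.Statements.S3035
-- import your own Cfsg.Agent.* helpers here

set_option autoImplicit false
open Cfsg

namespace Cfsg.Agent.S3035

open DihedralGroup H65.DihedralEight in
/-- A group with dihedral involution centraliser and a subgroup of index two containing it. -/
theorem of_index_two {G : Type*} [Group G] [Finite G] (z : G) (hz : orderOf z = 2)
    (e : ↥(Subgroup.centralizer ({z} : Set G)) ≃* DihedralGroup 4) (M : Subgroup G) (hM2 : M.index = 2) :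
    Subgroup.centralizer ({z} : Set G) ⊔ Cfsg.oddCore G = ⊤ ∨ Nonempty (G ≃* Equiv.Perm (Fin 4)) ∨
      Nonempty (G ≃* Equiv.Perm (Fin 5)) := by
  classical
  haveI : Fact (Nat.Prime 2) := ⟨Nat.prime_two⟩
  haveI hMn : M.Normal := Subgroup.normal_of_index_eq_two hM2
  set C := Subgroup.centralizer ({z} : Set G) with hCdef
  have h8 : Nat.card ↥C = 8 := H65.DihedralFusion.card_eight e
  obtain ⟨S, hS⟩ := H65.DihedralFusion.exists_sylow e hz
  have hzM : z ∈ M := by
    rw [← inc_sq z e hz]
    exact Subgroup.mul_self_mem_of_index_two hM2 _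
  have hCM : ¬ C ≤ M := by
    intro hle
    refine S.not_dvd_index ?_
    have := Subgroup.index_dvd_of_le (H := C) (K := M) hle
    rw [hM2] at this
    rw [show (S : Subgroup G) = C from hS]
    exact this
  have hV4 : Nat.card ↥(C.subgroupOf M) = 4 := by
    have h1 : M.relIndex C = 2 := by
      have hd : M.relIndex C ∣ M.index := Subgroup.relIndex_dvd_index_of_normal M C
      rw [hM2] at hd
      rcases (Nat.dvd_prime Nat.prime_two).1 hd with h | h
      · exact absurd (Subgroup.relIndex_eq_one.1 h) hCM
      · exact h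
    have h2 := (M.subgroupOf C).card_mul_index
    rw [show (M.subgroupOf C).index = M.relIndex C from rfl, h1, h8] at h2
    have h3 : Nat.card ↥(C.subgroupOf M) = Nat.card ↥(M.subgroupOf C) :=
      (Nat.card_congr
        { toFun := fun a => ⟨⟨((a : ↥M) : G), a.2⟩, (a : ↥M).2⟩
          invFun := fun a => ⟨⟨((a : ↥C) : G), a.2⟩, (a : ↥C).2⟩
          left_inv := fun _ => rfl
          right_inv := fun _ => rfl })
    omega
  let zM : ↥M := ⟨z, hzM⟩
  have hzM2 : orderOf zM = 2 := (Subgroup.orderOf_mk _ _).trans hz
  have hCzM : Subgroup.centralizer ({zM} : Set ↥M) = C.subgroupOf M := by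
    ext a
    rw [Subgroup.mem_centralizer_singleton_iff, Subgroup.mem_subgroupOf, hCdef,
      Subgroup.mem_centralizer_singleton_iff]
    exact ⟨fun h => congrArg Subtype.val h, fun h => Subtype.ext h⟩
  have hCzM4 : Nat.card ↥(Subgroup.centralizer ({zM} : Set ↥M)) = 4 := by rw [hCzM, hV4]
  let Q : Sylow 2 ↥M := default
  by_cases hnc : HasNormalPComplement 2 ↥M
  · left
    -- the normal complement in `M` lies in the odd core of `G`
    obtain ⟨P, N, hNn, hc⟩ := hnc
    have hNodd : ¬ 2 ∣ Nat.card ↥N := Fusion.not_dvd_card_of_isComplement' P hc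
    have hNG : (N.map M.subtype).Normal := by
      refine ⟨fun a ha g => ?_⟩
      obtain ⟨b, hb, rfl⟩ := ha
      refine ⟨⟨g * (b : G) * g⁻¹, hMn.conj_mem _ b.2 g⟩, ?_, rfl⟩
      haveI := hNn
      refine (Fusion.mem_iff_coprime_orderOf hNodd (Fusion.isPGroup_quotient_of_isComplement' P hc)).2 ?_
      have hb' := (Fusion.mem_iff_coprime_orderOf hNodd
        (Fusion.isPGroup_quotient_of_isComplement' P hc)).1 hb
      rw [Subgroup.orderOf_mk]
      rw [← Subgroup.orderOf_coe] at hb'
      rwa [H65.orderOf_conj']
    have hNcard : Nat.card ↥(N.map M.subtype) = Nat.card ↥N :=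
      Subgroup.card_map_of_injective M.subtype_injective
    have hNodd' : Odd (Nat.card ↥(N.map M.subtype)) := by
      rw [hNcard]; exact Nat.odd_iff.2 (Nat.two_dvd_ne_zero.1 hNodd)
    have hle : N.map M.subtype ≤ Cfsg.oddCore G := @Cores.le_oddCore G _ _ hNG hNodd'
    have hP4 : Nat.card ↥(P : Subgroup ↥M) = 4 := by
      haveI hp : IsPGroup 2 ↥(C.subgroupOf M) := IsPGroup.of_card (n := 2) (by rw [hV4]; norm_num)
      obtain ⟨R, hR⟩ := hp.exists_le_sylow
      rw [P.card_eq_multiplicity, ← R.card_eq_multiplicity]
      obtain ⟨k, hk⟩ := IsPGroup.iff_card.1 R.isPGroup'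
      have h2k : 2 ^ k ∣ Nat.card G := hk ▸ (Subgroup.card_subgroup_dvd_card _).trans
        (Subgroup.card_subgroup_dvd_card M)
      have h4 := hV4 ▸ Subgroup.card_dvd_of_le hR
      have hne : k ≠ 3 ∧ k < 4 := by
        have hGM := M.card_mul_index
        rw [hM2] at hGM
        have hfull : ¬ 2 ^ 4 ∣ Nat.card G := by
          intro h
          refine S.not_dvd_index ?_
          have hSi := (S : Subgroup G).card_mul_index
          rw [hS, h8] at hSi
          rw [hS]
          omega
        constructor
        · rintro rfl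
          apply hfull
          have : 2 ^ 3 ∣ Nat.card ↥M := hk ▸ Subgroup.card_subgroup_dvd_card _
          omega
        · by_contra h
          exact hfull ((pow_dvd_pow 2 (not_lt.1 h)).trans h2k)
      have hk2 : 2 ≤ k := by
        have h4' : (2 : ℕ) ^ 2 ∣ 2 ^ k := by rw [← hk]; exact h4
        exact (Nat.pow_dvd_pow_iff_le_right (by norm_num)).1 h4'
      rw [hk, show k = 2 by omega]
      norm_num
    refine eq_top_iff.2 (le_of_eq_of_le ?_ (sup_le_sup_left hle C))
    refine ((Subgroup.isComplement'_of_coprime ?_ ?_).sup_eq_top).symm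
    · rw [h8, hNcard, ← M.card_mul_index, hM2, ← hc.card_mul, hP4]
      ring
    · rw [h8]
      exact Nat.Coprime.pow_left 3 (Nat.coprime_two_left.2 hNodd')
  · -- the centraliser in `M` is a four group
    have hCel : ∀ c ∈ Subgroup.centralizer ({zM} : Set ↥M), c ^ 2 = 1 := by
      by_contra hcon
      push Not at hcon
      obtain ⟨c, hc, hc2⟩ := hcon
      have hp : IsPGroup 2 ↥(Subgroup.centralizer ({zM} : Set ↥M)) :=
        IsPGroup.of_card (n := 2) (by rw [hCzM4]; norm_num)
      obtain ⟨R, hR⟩ := hp.exists_le_sylow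
      haveI : Group.IsNilpotent ↥(R : Subgroup ↥M) := R.isPGroup'.isNilpotent
      -- `R` is the cyclic group generated by `c`
      have hRle : (R : Subgroup ↥M) = Subgroup.centralizer ({zM} : Set ↥M) := by
        refine (Subgroup.eq_of_le_of_card_ge hR ?_).symm
        rw [hCzM4]
        obtain ⟨k, hk⟩ := IsPGroup.iff_card.1 R.isPGroup'
        rw [hk]
        by_contra hlt
        have hk3 : 3 ≤ k := by
          by_contra h
          have : 2 ^ k ≤ 2 ^ 2 := Nat.pow_le_pow_right (by norm_num) (by omega)
          omega
        refine S.not_dvd_index ?_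
        have h1 : 2 ^ 3 ∣ Nat.card ↥M :=
          (pow_dvd_pow 2 hk3).trans (hk ▸ (R : Subgroup ↥M).card_subgroup_dvd_card)
        have hGM := M.card_mul_index
        rw [hM2] at hGM
        have hSi := (S : Subgroup G).card_mul_index
        rw [hS, h8] at hSi
        rw [hS]
        omega
      have hcyc : IsCyclic ↥(R : Subgroup ↥M) := by
        refine isCyclic_of_orderOf_eq_card ⟨c, hRle ▸ hc⟩ ?_
        rw [Subgroup.orderOf_mk, hRle, hCzM4]
        have hd : orderOf c ∣ 2 ^ 2 := by
          have := Subgroup.orderOf_dvd_natCard _ hc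
          rw [hCzM4] at this
          exact this
        obtain ⟨i, hi, hi2⟩ := (Nat.dvd_prime_pow Nat.prime_two).1 hd
        interval_cases i
        · exact absurd (show c ^ 2 = 1 by
            rw [orderOf_eq_one_iff.1 (show orderOf c = 1 by simpa using hi2), one_pow]) hc2
        · exact absurd (show c ^ 2 = 1 by
            have := pow_orderOf_eq_one c
            rwa [hi2, pow_one] at this) hc2
        · rw [hi2]; rfl
      refine hnc (Fusion.hasNormalPComplement_of_normalizer_le_centralizer R ?_)
      have hmin : (Nat.card ↥M).minFac = 2 :=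
        (Nat.minFac_eq_two_iff _).2 (by
          have := hCzM4 ▸ Subgroup.card_subgroup_dvd_card (Subgroup.centralizer ({zM} : Set ↥M))
          omega)
      exact IsCyclic.normalizer_le_centralizer hmin hcyc
    by_cases hne : ∀ E : Subgroup ↥M, E.Normal → Cfsg.IsElementaryAbelian 2 E →
        Nat.card ↥E ≠ 2 ∧ Nat.card ↥E ≠ 4
    · obtain ⟨eM⟩ := Cfsg.Agent.S3277.result zM hzM2 hCzM4 hCel hnc hne
      exact Or.inr (Or.inr (H65.DihedralIndexTwo.iso_perm_five e hz M hM2 hzM eM))
    · push Not at hne
      obtain ⟨E, hEn, hEel, hE⟩ := hne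
      set V := Subgroup.centralizer ({zM} : Set ↥M) with hV
      have hVp : IsPGroup 2 ↥V := IsPGroup.of_card (n := 2) (by rw [hV, hCzM4]; norm_num)
      obtain ⟨R, hR⟩ := hVp.exists_le_sylow
      have hRV : (R : Subgroup ↥M) = V := by
        refine (Subgroup.eq_of_le_of_card_ge hR ?_).symm
        rw [hV, hCzM4]
        obtain ⟨k, hk⟩ := IsPGroup.iff_card.1 R.isPGroup'
        rw [hk]
        by_contra hlt
        have hk3 : 3 ≤ k := by
          by_contra h
          have : 2 ^ k ≤ 2 ^ 2 := Nat.pow_le_pow_right (by norm_num) (by omega)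
          omega
        refine S.not_dvd_index ?_
        have h1 : 2 ^ 3 ∣ Nat.card ↥M :=
          (pow_dvd_pow 2 hk3).trans (hk ▸ (R : Subgroup ↥M).card_subgroup_dvd_card)
        have hGM := M.card_mul_index
        rw [hM2] at hGM
        have hSi := (S : Subgroup G).card_mul_index
        rw [hS, h8] at hSi
        rw [hS]
        omega
      have hE2 : Nat.card ↥E = 2 ∨ Nat.card ↥E = 4 := by
        by_cases h : Nat.card ↥E = 2
        · exact Or.inl h
        · exact Or.inr (hE h)
      have hER : E ≤ (R : Subgroup ↥M) := by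
        haveI := hEn
        have hEp : IsPGroup 2 ↥E := by
          rcases hE2 with h | h
          · exact IsPGroup.of_card (n := 1) (by rw [h, pow_one])
          · exact IsPGroup.of_card (n := 2) (by rw [h]; norm_num)
        have := R.is_maximal' (hEp.to_sup_of_normal_left R.isPGroup') le_sup_right
        rw [← this]; exact le_sup_left
      rcases hE2 with hE2 | hE4
      · -- a normal subgroup of order two would give a normal complement
        exfalso
        haveI := hEn
        refine hnc (Fusion.hasNormalPComplement_of_normalizer_le_centralizer R ?_)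
        rw [hRV]
        intro n hn a ha
        have hVab : ∀ p ∈ V, ∀ q ∈ V, p * q = q * p := by
          haveI : IsMulCommutative ↥V :=
            IsPGroup.isMulCommutative_of_card_eq_prime_sq (p := 2) (by rw [hV, hCzM4]; norm_num)
          exact fun p hp q hq => congrArg Subtype.val (mul_comm' (⟨p, hp⟩ : ↥V) ⟨q, hq⟩)
        obtain ⟨w, hw⟩ := exists_prime_orderOf_dvd_card' 2 (show 2 ∣ Nat.card ↥E by rw [hE2])
        have hw2 : orderOf (w : ↥M) = 2 := (Subgroup.orderOf_coe w).trans hw
        have hwV : (w : ↥M) ∈ V := hRV ▸ hER w.2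
        have hwc : ∀ m : ↥M, m * w * m⁻¹ = w := by
          intro m
          have hmem : m * w * m⁻¹ ∈ E := hEn.conj_mem w w.2 m
          by_contra hne'
          have h3 : ({1, m * w * m⁻¹, (w : ↥M)} : Set ↥M).ncard = 3 := by
            rw [Set.ncard_insert_of_notMem (by
              simp only [Set.mem_insert_iff, Set.mem_singleton_iff, not_or]
              exact ⟨(H65.ne_one_of_orderOf ((H65.orderOf_conj' m (w : ↥M)).trans hw2)).symm,
                (H65.ne_one_of_orderOf hw2).symm⟩), Set.ncard_pair hne']
          have hsub : ({1, m * w * m⁻¹, (w : ↥M)} : Set ↥M) ⊆ (E : Set ↥M) := by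
            rintro _ (rfl | rfl | rfl)
            exacts [E.one_mem, hmem, w.2]
          have := Set.ncard_le_ncard hsub
          rw [h3, ← Nat.card_coe_set_eq, show Nat.card ((E : Set ↥M) : Set ↥M) = 2 from hE2] at this
          omega
        by_cases hwz : (w : ↥M) = zM
        · have hnV : n ∈ V := Subgroup.mem_centralizer_singleton_iff.2
            (mul_inv_eq_iff_eq_mul.1 (hwz ▸ hwc n))
          exact hVab a ha n hnV
        -- `n` fixes or swaps `z` and `z * w`
        have hzV : zM ∈ V := Subgroup.mem_centralizer_singleton_iff.2 rfl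
        have hzw : zM * w ∈ V := V.mul_mem hzV hwV
        have hset : ∀ v ∈ V, v = 1 ∨ v = zM ∨ v = (w : ↥M) ∨ v = zM * w := by
          intro v hv
          by_contra hcon
          push Not at hcon
          have h1z : (1 : ↥M) ≠ zM := (H65.ne_one_of_orderOf hzM2).symm
          have h1w : (1 : ↥M) ≠ w := (H65.ne_one_of_orderOf hw2).symm
          have h1zw : (1 : ↥M) ≠ zM * w := fun h => hwz (by
            rw [← inv_eq_of_mul_eq_one_right h.symm]; exact H65.inv_eq_self hzM2)
          have hz3 : zM ≠ zM * w := fun h => h1w (mul_eq_left.1 h.symm).symm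
          have hw3 : (w : ↥M) ≠ zM * w := fun h => h1z (mul_eq_right.1 h.symm).symm
          have h5 : ({v, 1, zM, (w : ↥M), zM * w} : Set ↥M).ncard = 5 := by
            rw [Set.ncard_insert_of_notMem (by simp [hcon.1, hcon.2.1, hcon.2.2.1, hcon.2.2.2]),
              Set.ncard_insert_of_notMem (by simp [h1z, h1w, h1zw]),
              Set.ncard_insert_of_notMem (by simp [Ne.symm hwz, hz3]), Set.ncard_pair hw3]
          have hsub : ({v, 1, zM, (w : ↥M), zM * w} : Set ↥M) ⊆ (V : Set ↥M) := by
            rintro _ (rfl | rfl | rfl | rfl | rfl)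
            exacts [hv, V.one_mem, hzV, hwV, hzw]
          have := Set.ncard_le_ncard hsub
          rw [h5, ← Nat.card_coe_set_eq, show Nat.card ((V : Set ↥M) : Set ↥M) = 4 from hCzM4] at this
          omega
        have hnzV : n * zM * n⁻¹ ∈ V := (Subgroup.mem_normalizer_iff.1 hn zM).1 hzV
        rcases hset _ hnzV with h | h | h | h
        · exact absurd (by simpa using h) (H65.ne_one_of_orderOf hzM2)
        · exact hVab a ha n (Subgroup.mem_centralizer_singleton_iff.2 (mul_inv_eq_iff_eq_mul.1 h))
        · exfalso
          apply hwz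
          have h1 := hwc n⁻¹
          rw [inv_inv] at h1
          calc (w : ↥M) = n⁻¹ * w * n := h1.symm
            _ = n⁻¹ * (n * zM * n⁻¹) * n := by rw [h]
            _ = zM := by group
        · -- `n ^ 2` fixes `z`
          have hn2 : n * n ∈ V := by
            refine Subgroup.mem_centralizer_singleton_iff.2 (mul_inv_eq_iff_eq_mul.1 ?_)
            calc n * n * zM * (n * n)⁻¹ = n * (n * zM * n⁻¹) * n⁻¹ := by group
              _ = n * (zM * w) * n⁻¹ := by rw [h]
              _ = (n * zM * n⁻¹) * (n * w * n⁻¹) := by group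
              _ = zM * (w * w) := by rw [h, hwc n, mul_assoc]
              _ = zM := by rw [H65.mul_self_eq_one hw2, mul_one]
          have h4 : (n * n) ^ 2 = 1 := hCel _ hn2
          have hnp : IsPGroup 2 ↥(Subgroup.zpowers n) := by
            have hd : orderOf n ∣ 2 ^ 2 := orderOf_dvd_of_pow_eq_one (by
              rw [show (2 : ℕ) ^ 2 = 2 * 2 from rfl, pow_mul, sq n]
              exact h4)
            obtain ⟨i, -, hi⟩ := (Nat.dvd_prime_pow Nat.prime_two).1 hd
            exact IsPGroup.of_card (n := i) (by rw [Nat.card_zpowers, hi])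
          have hnR : Subgroup.zpowers n ≤ Subgroup.normalizer ((R : Subgroup ↥M) : Set ↥M) :=
            Subgroup.zpowers_le.2 (hRV ▸ hn)
          have := R.is_maximal' (hnp.to_sup_of_normal_right' R.isPGroup' hnR) le_sup_right
          have hnV : n ∈ V := by
            rw [← hRV, ← this]
            exact (le_sup_left : Subgroup.zpowers n ≤ _) (Subgroup.mem_zpowers n)
          exact hVab a ha n hnV
      · -- a normal four group: order 24
        have hEV : E = V := Subgroup.eq_of_le_of_card_ge (hRV ▸ hER) (by rw [hV, hCzM4, hE4])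
        haveI := hEn
        have h12 : Nat.card ↥M = 12 := by
          have hle := H65.DihedralIndexTwo.card_le_twelve hzM2 E
            (by rw [hEV]; exact Subgroup.mem_centralizer_singleton_iff.2 rfl) hE4 hCzM4
          have h4 : 4 ∣ Nat.card ↥M := hE4 ▸ E.card_subgroup_dvd_card
          have hn8 : ¬ 8 ∣ Nat.card ↥M := by
            intro h1
            refine S.not_dvd_index ?_
            have hGM := M.card_mul_index
            rw [hM2] at hGM
            have hSi := (S : Subgroup G).card_mul_index
            rw [hS, h8] at hSi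
            rw [hS]
            omega
          have hn4 : Nat.card ↥M ≠ 4 := by
            intro h4'
            refine hnc (Fusion.hasNormalPComplement_of_isPGroup ?_)
            exact IsPGroup.of_card (n := 2) (by rw [h4']; norm_num)
          have hpos : 0 < Nat.card ↥M := Nat.card_pos
          omega
        have hEG : (E.map M.subtype).Normal := by
          refine ⟨fun a ha g => ?_⟩
          obtain ⟨b, hb, rfl⟩ := ha
          let φ : MulAut ↥M := MulAut.conjNormal g
          have hEn' : (E.map φ.toMonoidHom).Normal :=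
            Subgroup.Normal.map hEn _ φ.surjective
          have hEp : IsPGroup 2 ↥(E.map φ.toMonoidHom) :=
            IsPGroup.of_card (n := 2) ((Subgroup.card_map_of_injective φ.injective).trans (hE4.trans (by norm_num)))
          have hmax := R.is_maximal' (hEp.to_sup_of_normal_left R.isPGroup') le_sup_right
          have heq : E.map φ.toMonoidHom ≤ E := by
            rw [hEV, ← hRV]
            conv_rhs => rw [← hmax]
            rw [hRV, ← hEV]
            exact le_sup_left
          exact ⟨φ b, heq ⟨b, hb, rfl⟩, MulAut.conjNormal_apply g b⟩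
        haveI := hEG
        refine Or.inr (Or.inl (H65.DihedralIndexTwo.iso_perm_four e hz ?_ (E.map M.subtype)
          (by rw [Subgroup.card_map_of_injective M.subtype_injective, hE4])
          ⟨zM, by rw [hEV]; exact Subgroup.mem_centralizer_singleton_iff.2 rfl, rfl⟩))
        rw [← M.card_mul_index, hM2, h12]

/-- Let G be a finite group with an involution z whose centralizer is dihedral of order 8. Then G = C_G(z) O(G) with O(G) the largest normal subgroup of odd order, or G is isomorphic to the symmetric group of degree 4, the symmetric group of degree 5, the group SL₃(2), or the alternating group of degree 6. -/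
theorem result {G : Type*} [Group G] [Finite G] (z : G) (hz : orderOf z = 2)
    (hC : Nonempty (↥(Subgroup.centralizer ({z} : Set G)) ≃* DihedralGroup 4)) :
    Subgroup.centralizer ({z} : Set G) ⊔ Cfsg.oddCore G = ⊤ ∨ Nonempty (G ≃* Equiv.Perm (Fin 4)) ∨ Nonempty (G ≃* Equiv.Perm (Fin 5)) ∨
      Nonempty (G ≃* Matrix.SpecialLinearGroup (Fin 3) (ZMod 2)) ∨ Nonempty (G ≃* ↥(alternatingGroup (Fin 6))) := by
  classical
  obtain ⟨e⟩ := hC
  by_cases hhom : ∀ f : G →* Multiplicative (ZMod 2), f = 1
  · letI : Fintype G := Fintype.ofFinite G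
    have hone := H65.DihedralFusion.isConj_of_no_hom e hz hhom
    haveI := H65.DihedralFusion.isSimpleGroup e hz hone
    rcases H65.DihedralEight.card_eq z e hz hone with h | h
    · haveI : Fact (Nat.Prime 7) := ⟨by norm_num⟩
      obtain ⟨e7⟩ := Cfsg.Agent.S0495.result (F := ZMod 7) h (ZMod.card 7)
      obtain ⟨eGL⟩ := Cfsg.Agent.H27.SevenPoints.psl_two_seven
      have hdet : ∀ g : GL (Fin 3) (ZMod 2), (g : Matrix (Fin 3) (Fin 3) (ZMod 2)).det = 1 := by
        intro g
        have key : ∀ a : ZMod 2, a ≠ 0 → a = 1 := by decide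
        exact key _ ((Matrix.isUnit_iff_isUnit_det _).1 g.isUnit).ne_zero
      let ψ : GL (Fin 3) (ZMod 2) →* Matrix.SpecialLinearGroup (Fin 3) (ZMod 2) :=
        MonoidHom.mk' (fun g => ⟨g, hdet g⟩) (fun a b => Subtype.ext rfl)
      have hψ : Function.Bijective ψ := by
        refine ⟨fun a b h => Units.ext (congrArg Subtype.val h), fun s => ?_⟩
        exact ⟨Matrix.SpecialLinearGroup.toGL s, Subtype.ext rfl⟩
      exact Or.inr (Or.inr (Or.inr (Or.inl
        ⟨(e7.trans eGL).trans (MulEquiv.ofBijective ψ hψ)⟩)))
    · exact Or.inr (Or.inr (Or.inr (Or.inr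
        (H65.DihedralAltSix.iso_alternating_six z e hz hone h))))
  · obtain ⟨f, hf⟩ := not_forall.1 hhom
    have hidx : f.ker.index = 2 := by
      rw [Subgroup.index_ker, MonoidHom.range_eq_top.2 ?_, Subgroup.card_top]
      · simp
      · obtain ⟨g, hg⟩ : ∃ g, f g ≠ 1 := by
          by_contra h
          push Not at h
          exact hf (MonoidHom.ext h)
        have key : ∀ a b : Multiplicative (ZMod 2), a ≠ 1 → b ≠ 1 → a = b := by decide
        intro b
        by_cases hb : b = 1
        · exact ⟨1, by rw [map_one, hb]⟩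
        · exact ⟨g, key _ _ hg hb⟩
    rcases of_index_two z hz e f.ker hidx with h | h | h
    · exact Or.inl h
    · exact Or.inr (Or.inl h)
    · exact Or.inr (Or.inr (Or.inl h))

end Cfsg.Agent.S3035
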