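import Cfsg.Statements.S3209
import Mathlib
import Cfsg.Agent.H64.SLPair

set_option autoImplicit false
open Cfsg

namespace Cfsg.Agent.S3209

/-- Let L₁ ≅ SL₂(q₁) and L₂ ≅ SL₂(q₂), q₁ and q₂ odd, be elementwise-commuting subgroups of a finite group meeting in ⟨j⟩ for an involution j. Then L₁L₂ has exactly two conjugacy classes of involutions: the central involution j, and one further class (there is an involution x ≠ j in L₁L₂, and every involution of L₁L₂ other than j is conjugate to x by an element of L₁L₂). -/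
theorem result {G : Type*} [Group G] [Finite G]
    {F₁ : Type*} [Field F₁] [Fintype F₁] {F₂ : Type*} [Field F₂] [Fintype F₂]
    (hF₁ : Odd (Fintype.card F₁)) (hF₂ : Odd (Fintype.card F₂)) (L₁ L₂ : Subgroup G)
    (e₁ : ↥L₁ ≃* Matrix.SpecialLinearGroup (Fin 2) F₁) (e₂ : ↥L₂ ≃* Matrix.SpecialLinearGroup (Fin 2) F₂)
    (hc : ∀ x ∈ L₁, ∀ y ∈ L₂, x * y = y * x) (j : G) (hj : orderOf j = 2) (hm : L₁ ⊓ L₂ = Subgroup.zpowers j) :
    ∃ x ∈ L₁ ⊔ L₂, orderOf x = 2 ∧ x ≠ j ∧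
      ∀ y ∈ L₁ ⊔ L₂, orderOf y = 2 → y = j ∨ ∃ g ∈ L₁ ⊔ L₂, g * x * g⁻¹ = y := by
  have h1 := Linear.two_ne_zero_of_odd_card hF₁
  have h2 := Linear.two_ne_zero_of_odd_card hF₂
  obtain ⟨hj1, hj2⟩ := H64.SLPair.j_mem hm
  have hjj : j * j = 1 := by rw [← pow_two, ← hj, pow_orderOf_eq_one]
  obtain ⟨a₀, ha₀, haa⟩ := H64.SLPair.exists_sq_eq h1 e₁ hj1 hj
  obtain ⟨b₀, hb₀, hbb⟩ := H64.SLPair.exists_sq_eq h2 e₂ hj2 hj
  have hsq : ∀ a ∈ L₁, ∀ b ∈ L₂, a * b * (a * b) = a * a * (b * b) := fun a ha b hb => by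
    calc a * b * (a * b) = a * (b * a) * b := by group
      _ = _ := by rw [← hc a ha b hb]; group
  have hne : ∀ z ∈ Subgroup.zpowers j, a₀ * b₀ ≠ z := by
    intro z hz h
    have ha : a₀ ∈ Subgroup.zpowers j := hm ▸ ⟨ha₀, by
      rw [eq_mul_inv_of_mul_eq h]
      exact L₂.mul_mem (Subgroup.zpowers_le.2 hj2 hz) (L₂.inv_mem hb₀)⟩
    have hj1' : j ≠ 1 := fun h => by rw [h, orderOf_one] at hj; omega
    rcases (H64.SLPair.mem_zpowers_involution_iff hj).1 ha with h | h <;> rw [h] at haa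
    · exact hj1' (by rw [← haa, one_mul])
    · exact hj1' (haa.symm.trans hjj)
  refine ⟨a₀ * b₀, Subgroup.mul_mem_sup ha₀ hb₀, ?_, hne j (Subgroup.mem_zpowers j), fun y hy hy2 => ?_⟩
  · exact orderOf_eq_prime (by rw [pow_two, hsq _ ha₀ _ hb₀, haa, hbb, hjj]) (hne 1 (one_mem _))
  obtain ⟨a, ha, b, hb, rfl⟩ := (H64.SLPair.mem_sup_iff hc).1 hy
  have hab : a * a * (b * b) = 1 := by rw [← hsq a ha b hb, ← pow_two, ← hy2, pow_orderOf_eq_one]
  have hz : a * a ∈ Subgroup.zpowers j := hm ▸ ⟨L₁.mul_mem ha ha, by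
    rw [eq_inv_of_mul_eq_one_left hab]
    exact L₂.inv_mem (L₂.mul_mem hb hb)⟩
  rcases (H64.SLPair.mem_zpowers_involution_iff hj).1 hz with h | h <;> rw [h] at hab
  · rw [one_mul] at hab
    rcases H64.SLPair.eq_one_or_of_sq h1 e₁ hj1 hj ha h with rfl | rfl <;>
      rcases H64.SLPair.eq_one_or_of_sq h2 e₂ hj2 hj hb hab with rfl | rfl
    all_goals first
      | (left; simp; done)
      | (exfalso; simp [hjj] at hy2; done)
  · have hbj : b * b = j := by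
      rw [eq_inv_of_mul_eq_one_right hab]
      exact inv_eq_of_mul_eq_one_right hjj
    obtain ⟨g, hg, hga⟩ := H64.SLPair.conj_of_sq h1 e₁ hj1 hj ha₀ ha haa h
    obtain ⟨k, hk, hkb⟩ := H64.SLPair.conj_of_sq h2 e₂ hj2 hj hb₀ hb hbb hbj
    refine Or.inr ⟨g * k, Subgroup.mul_mem_sup hg hk, ?_⟩
    calc g * k * (a₀ * b₀) * (g * k)⁻¹ = g * (k * a₀) * b₀ * k⁻¹ * g⁻¹ := by group
      _ = g * a₀ * (k * b₀ * k⁻¹) * g⁻¹ := by rw [← hc a₀ ha₀ k hk]; group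
      _ = g * a₀ * (b * g⁻¹) := by rw [hkb]; group
      _ = g * a₀ * g⁻¹ * b := by rw [← hc g⁻¹ (L₁.inv_mem hg) b hb, mul_assoc (g * a₀)]
      _ = a * b := by rw [hga]

end Cfsg.Agent.S3209
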