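import Cfsg.Statements.S0727
import Mathlib
import Cfsg.Agent.H33.SharplyThreeEven

set_option autoImplicit false
open Cfsg

namespace Cfsg.Agent.S0727

/-- A sharply triply transitive permutation group of degree `2^f + 1` is isomorphic to the projective general linear group of degree 2 over the field with `2^f` elements. -/
theorem result {α : Type*} [Fintype α] [DecidableEq α] {f : ℕ} (hf : 1 ≤ f) (hα : Fintype.card α = 2 ^ f + 1) (G : Subgroup (Equiv.Perm α)) (h3 : MulAction.IsMultiplyPretransitive G α 3) (hsharp : ∀ x : Fin 3 ↪ α, MulAction.stabilizer G x = ⊥) : ∃ (F : Type) (_ : Field F) (_ : Fintype F), Fintype.card F = 2 ^ f ∧ Nonempty (G ≃* Matrix.ProjGenLinGroup (Fin 2) F) := by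
  classical
  have h3c : 3 ≤ Fintype.card α := by
    have : 2 ≤ 2 ^ f := by
      calc 2 = 2 ^ 1 := rfl
        _ ≤ 2 ^ f := Nat.pow_le_pow_right (by norm_num) hf
    omega
  obtain ⟨e⟩ : Nonempty (Fin 3 ↪ α) := Function.Embedding.nonempty_of_card_le (by simpa using h3c)
  have emb : ∀ x y z : α, x ≠ y → x ≠ z → y ≠ z → ∃ e : Fin 3 ↪ α, e 0 = x ∧ e 1 = y ∧ e 2 = z :=
    fun x y z hxy hxz hyz => ⟨⟨![x, y, z], by
      intro i j h
      fin_cases i <;> fin_cases j <;> first | rfl | simp_all⟩, rfl, rfl, rfl⟩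
  let D : Cfsg.Agent.H33.SharpOdd.Data G α :=
    { a := e 0
      b := e 1
      c := e 2
      hab := e.injective.ne (by decide)
      hac := e.injective.ne (by decide)
      hbc := e.injective.ne (by decide)
      odd := by
        rw [hα]
        exact Even.add_one ((Nat.even_pow).2 ⟨even_two, by omega⟩)
      fix3 := fun g x y z hxy hxz hyz hx hy hz => by
        obtain ⟨u, rfl, rfl, rfl⟩ := emb x y z hxy hxz hyz
        have hg : g ∈ MulAction.stabilizer G u := by
          rw [MulAction.mem_stabilizer_iff]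
          ext i
          fin_cases i <;> assumption
        rwa [hsharp u, Subgroup.mem_bot] at hg
      trans3 := fun x y z x' y' z' h1 h2 h3' h4 h5 h6 => by
        obtain ⟨u, rfl, rfl, rfl⟩ := emb x y z h1 h2 h3'
        obtain ⟨v, rfl, rfl, rfl⟩ := emb x' y' z' h4 h5 h6
        obtain ⟨g, hg⟩ := MulAction.isMultiplyPretransitive_iff.1 h3 u v
        subst hg
        exact ⟨g, rfl, rfl, rfl⟩ }
  exact D.exists_field hα fun g hg => Subtype.ext (Equiv.ext hg)

end Cfsg.Agent.S0727
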