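import Cfsg.Statements.S0346
import Cfsg.Agent.H28.ZassFeit
import Cfsg.Agent.S0738
import Cfsg.Agent.S0741

set_option autoImplicit false
open Cfsg

namespace Cfsg.Agent.S0346

/-- The number of points of a finite simple Zassenhaus group is `p^k + 1` for some prime power `p^k` (the regular normal
subgroup of a point stabiliser is a `p`-group). -/
theorem result {G Ω : Type*} [Group G] [Finite G] [MulAction G Ω] [Fintype Ω]
    (hZ : Cfsg.IsZassenhausGroup G Ω) [IsSimpleGroup G] :
    IsPrimePow (Fintype.card Ω - 1) := by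
  classical
  have := Fintype.ofFinite G
  obtain ⟨g, -, a, b, hab, -, -⟩ := hZ.2.2.2.1
  obtain ⟨H, hH, -⟩ := H28.Zass.exists_ker hZ a
  have hcard := hH.card
  rw [Nat.card_eq_fintype_card (α := Ω)] at hcard
  have hN3 := H33.zas_three_le_card hZ
  rw [Nat.card_eq_fintype_card] at hN3
  set E := MulAction.stabilizer G a ⊓ MulAction.stabilizer G b with hE
  by_cases hd : Fintype.card Ω - 2 ≤ 2 * Nat.card E
  · obtain ⟨-, p, f, hp, -, hpf⟩ := S0738.result hZ hab hd H hH.le (hH.normal_sub hZ)
      (fun y z hy hz => hH.regular hZ hy hz)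
    have hf : f ≠ 0 := fun h => by rw [h, pow_zero] at hpf; omega
    exact ⟨p, f, hp.prime, Nat.pos_of_ne_zero hf, by omega⟩
  · have hodd : Odd (Nat.card E) := by
      rw [← Nat.not_even_iff_odd]
      exact fun he => hd (S0741.result hZ hab he)
    obtain ⟨hcyc, -, hinv⟩ := H28.Zass.inverted_of_simple hZ hab hodd
    obtain ⟨p, hp, hpg, -, -⟩ := H28.Zass.feit_odd hH hZ hab hcyc hodd hinv (by rw [← hE]; omega)
    have := Fact.mk hp
    obtain ⟨n, hn⟩ := IsPGroup.iff_card.1 hpg
    have hn0 : n ≠ 0 := fun h => by rw [h, pow_zero] at hn; omega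
    exact ⟨p, n, hp.prime, Nat.pos_of_ne_zero hn0, by omega⟩

end Cfsg.Agent.S0346
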