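import Cfsg.Statements.S0992
import Cfsg.Agent.H36.Basic
import Mathlib.GroupTheory.SpecificGroups.KleinFour
import Mathlib.GroupTheory.PGroup

set_option autoImplicit false
open Cfsg

namespace Cfsg.Agent.S0992

/-- Let G be a non-abelian finite simple group of even order not divisible by 8, and T a Sylow 2-subgroup. Then T is a Klein four-group and the centralizer of T has index 3 in the normalizer of T. -/
theorem result {G : Type*} [Group G] [Finite G] [IsSimpleGroup G] (hG : ¬ IsMulCommutative G) (h2 : Even (Nat.card G)) (h8 : ¬ 8 ∣ Nat.card G) (T : Sylow 2 G) : IsKleinFour ↥(T : Subgroup G) ∧ (Subgroup.centralizer ((T : Subgroup G) : Set G)).relIndex (Subgroup.normalizer ((T : Subgroup G) : Set G)) = 3 := by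
  have h2' : 2 ∣ Nat.card G := even_iff_two_dvd.1 h2
  obtain ⟨k, hk⟩ := T.2.exists_card_eq
  have hk2 : k ≤ 2 := by
    by_contra hc
    exact h8 ((pow_dvd_pow 2 (by omega : 3 ≤ k)).trans (hk ▸ T.1.card_subgroup_dvd_card))
  have hcl := Cfsg.Agent.H36.one_lt_relIndex_centralizer hG T h2'
  have hmin : (Nat.card G).minFac = 2 := (Nat.minFac_eq_two_iff _).2 h2'
  have hnc : ¬ IsCyclic ↥(T : Subgroup G) := fun hc =>
    Cfsg.Agent.H36.not_normalizer_le_centralizer hG T h2' (hc.normalizer_le_centralizer hmin)
  have hcard : Nat.card ↥(T : Subgroup G) = 4 := by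
    interval_cases k
    · exact absurd (by haveI := (Nat.card_eq_one_iff_unique.1 (hk.trans (pow_zero 2))).1; exact isCyclic_of_subsingleton) hnc
    · exact absurd (isCyclic_of_prime_card (p := 2) (by rw [hk]; norm_num)) hnc
    · simpa using hk
  have hK : IsKleinFour ↥(T : Subgroup G) := {
    card_four := hcard
    exponent_two := by
      have hdvd : Monoid.exponent ↥(T : Subgroup G) ∣ 4 := hcard ▸ Group.exponent_dvd_nat_card
      have hne : Monoid.exponent ↥(T : Subgroup G) ≠ 4 := fun h4 => hnc (by
        haveI : Fact (Nat.Prime 2) := ⟨Nat.prime_two⟩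
        letI : CommGroup ↥(T : Subgroup G) :=
          IsPGroup.commGroupOfCardEqPrimeSq (p := 2) (by rw [hcard]; norm_num)
        exact IsCyclic.iff_exponent_eq_card.2 (by rw [h4, hcard]))
      have hne1 : Monoid.exponent ↥(T : Subgroup G) ≠ 1 := fun h1 => by
        haveI := Monoid.exp_eq_one_iff.1 h1
        rw [Nat.card_unique] at hcard; omega
      have := (Nat.dvd_prime_pow Nat.prime_two (m := 2)).1 (by simpa using hdvd)
      obtain ⟨i, hi, hi'⟩ := this
      interval_cases i <;> simp_all }
  refine ⟨hK, ?_⟩
  set H := (T : Subgroup G)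
  haveI : IsMulCommutative H := ⟨⟨(IsKleinFour.isMulCommutative (G := H)).is_comm.comm⟩⟩
  let Y := {x : H // x ≠ 1}
  let f : MulAut H →* Equiv.Perm Y :=
    { toFun := fun a => a.toEquiv.subtypeEquiv (fun x => (map_ne_one_iff a a.injective).symm)
      map_one' := rfl
      map_mul' := fun _ _ => rfl }
  have hf : Function.Injective f := by
    intro a b hab
    ext x
    by_cases hx : x = 1
    · simp [hx]
    · exact congrArg Subtype.val (congrArg Subtype.val (Equiv.ext_iff.1 hab ⟨x, hx⟩))
  have hY : Nat.card Y = 3 := by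
    classical
    haveI := Fintype.ofFinite H
    rw [Nat.card_eq_fintype_card, Fintype.card_subtype_compl, Fintype.card_subtype_eq,
      ← Nat.card_eq_fintype_card, hcard]
  have h6 : Nat.card (MulAut H) ∣ 6 := by
    have := Subgroup.card_dvd_of_injective f hf
    rwa [Nat.card_perm, hY] at this
  have hd := (Cfsg.Agent.H36.relIndex_centralizer_dvd_mulAut H).trans h6
  have hodd : ¬ 2 ∣ (Subgroup.centralizer (H : Set G)).relIndex
      (Subgroup.normalizer (H : Set G)) := fun h => T.not_dvd_index <| h.trans <| by
    refine (Subgroup.relIndex_dvd_of_le_left _ ?_).trans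
      (Subgroup.relIndex_dvd_index_of_le Subgroup.le_normalizer)
    exact Subgroup.le_centralizer H
  set e := (Subgroup.centralizer (H : Set G)).relIndex (Subgroup.normalizer (H : Set G))
  have := Nat.le_of_dvd (by norm_num) hd
  interval_cases e <;> omega

end Cfsg.Agent.S0992
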