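import Cfsg.Statements.S0496
import Cfsg.Agent.H39.OrderScreenLow
-- import your own Cfsg.Agent.* helpers here

set_option autoImplicit false
open Cfsg

namespace Cfsg.Agent.S0496

open H36.OrderScreen H39.OrderScreenLow

/-- A non-abelian finite simple group of order at most 1092 has order 60, 168, 360, 504, 660 or 1092. -/
theorem result {G : Type*} [Group G] [Finite G] [IsSimpleGroup G]
    (hG : ¬ IsMulCommutative G) (h : Nat.card G ≤ 1092) :
    Nat.card G = 60 ∨ Nat.card G = 168 ∨ Nat.card G = 360 ∨ Nat.card G = 504 ∨ Nat.card G = 660 ∨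
      Nat.card G = 1092 := by
  have hlt : Nat.card G < 6400 := by omega
  have hc : covered (Nat.card G) = true :=
    List.all_eq_true.1 covered_all _ (List.mem_range'_1.2 ⟨Nat.card_pos, by omega⟩)
  simp only [covered, Bool.or_eq_true, List.contains_iff_mem] at hc
  rcases hc with (((hc | hc) | hc) | hc) | hc
  · exact (false_of_divFails hG hlt hc).elim
  · exact (false_of_twoPrimes hG hlt hc).elim
  · simp only [remainingOrders, List.mem_cons, List.not_mem_nil, or_false] at hc
    rcases hc with hc | hc | hc | hc | hc | hc | hc | hc | hc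
    iterate 5 omega
    · exact (false_of_card_720 hG hc).elim
    · exact (false_of_card_900 hG hc).elim
    · exact (false_of_card_960 hG hc).elim
    · omega
  · obtain ⟨⟨n, p⟩, hx, rfl⟩ := List.mem_map.1 hc
    exact (false_of_sylowFails hG (List.all_eq_true.1 sylowTable_spec _ hx)).elim
  · obtain ⟨⟨n, p⟩, hx, rfl⟩ := List.mem_map.1 hc
    exact (false_of_blockFails hG hlt (List.all_eq_true.1 blockTable_spec _ hx)).elim

end Cfsg.Agent.S0496
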