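import Cfsg.Agent.H65.Invol
import Cfsg.Statements.S3276
-- import your own Cfsg.Agent.* helpers here

set_option autoImplicit false
open Cfsg

namespace Cfsg.Agent.S3276

/-- Let x and y be commuting, non-conjugate involutions of a finite group G, and suppose that for every involution u commuting with x, each conjugate of y that commutes with u also commutes with y. Then the normal closure of y is a proper, normal, elementary abelian 2-subgroup of G; and if y is the only involution of that normal closure commuting with x, it has order at most 4. -/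
theorem result {G : Type*} [Group G] [Finite G] (x y : G) (hx : orderOf x = 2) (hy : orderOf y = 2)
    (hxy : Commute x y) (hnc : ¬ IsConj x y)
    (hstar : ∀ u : G, orderOf u = 2 → Commute u x → ∀ g : G, Commute (g * y * g⁻¹) u → Commute (g * y * g⁻¹) y) :
    Subgroup.normalClosure ({y} : Set G) ≠ ⊤ ∧ Cfsg.IsElementaryAbelian 2 (Subgroup.normalClosure ({y} : Set G)) ∧
      ((∀ u ∈ Subgroup.normalClosure ({y} : Set G), orderOf u = 2 → Commute u x → u = y) →
        Nat.card ↥(Subgroup.normalClosure ({y} : Set G)) ≤ 4) := by
  classical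
  set Y := Subgroup.normalClosure ({y} : Set G) with hY
  have hyY : y ∈ Y := Subgroup.subset_normalClosure rfl
  have hall : ∀ g : G, Commute (g * y * g⁻¹) y := by
    intro g
    have hnv : ¬ IsConj x (g * y * g⁻¹) := fun h =>
      hnc (h.trans (isConj_iff.2 ⟨g, rfl⟩).symm)
    obtain ⟨u, hu, hux, huv⟩ := Cfsg.Agent.H65.exists_invol_commute_of_not_isConj hx
      ((Cfsg.Agent.H65.orderOf_conj' g y).trans hy) hnv
    exact hstar u hu hux g huv.symm
  have hcS : ∀ a ∈ Group.conjugatesOfSet ({y} : Set G), ∀ b ∈ Group.conjugatesOfSet ({y} : Set G),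
      a * b = b * a := by
    intro a ha b hb
    rw [Group.mem_conjugatesOfSet_iff] at ha hb
    obtain ⟨_, rfl, ha⟩ := ha
    obtain ⟨_, rfl, hb⟩ := hb
    obtain ⟨g, rfl⟩ := isConj_iff.1 ha
    obtain ⟨h, rfl⟩ := isConj_iff.1 hb
    have := hall (h⁻¹ * g)
    have h2 := this.map (MulAut.conj h).toMonoidHom
    simp only [MulEquiv.coe_toMonoidHom, MulAut.conj_apply] at h2
    convert h2.eq using 2 <;> group
  have hcomm : IsMulCommutative ↥Y := Subgroup.isMulCommutative_closure hcS
  have hYc : ∀ a ∈ Y, ∀ b ∈ Y, a * b = b * a := by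
    intro a ha b hb
    exact congrArg Subtype.val (hcomm.is_comm.comm ⟨a, ha⟩ ⟨b, hb⟩)
  have hsq : ∀ a ∈ Y, a ^ 2 = 1 := by
    intro a ha
    induction ha using Subgroup.closure_induction with
    | mem a ha =>
      rw [Group.mem_conjugatesOfSet_iff] at ha
      obtain ⟨_, rfl, ha⟩ := ha
      rw [← hy, Cfsg.Agent.H65.orderOf_of_isConj ha, pow_orderOf_eq_one]
    | one => exact one_pow 2
    | mul a b ha hb iha ihb => rw [(show Commute a b from hYc a ha b hb).mul_pow, iha, ihb, one_mul]
    | inv a _ iha => rw [inv_pow, iha, inv_one]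
  refine ⟨?_, ⟨hcomm, hsq⟩, ?_⟩
  · intro htop
    have hG : ∀ a b : G, a * b = b * a := fun a b =>
      hYc a (by rw [htop]; trivial) b (by rw [htop]; trivial)
    have hle : Y ≤ Subgroup.zpowers y := by
      haveI : (Subgroup.zpowers y).Normal :=
        ⟨fun n hn g => by rwa [hG g n, mul_inv_cancel_right]⟩
      exact Subgroup.normalClosure_le_normal (by
        intro a ha
        rw [Set.mem_singleton_iff] at ha
        subst ha
        exact Subgroup.mem_zpowers _)
    have hxz : x ∈ Subgroup.zpowers y := hle (by rw [htop]; trivial)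
    rw [mem_zpowers_iff_mem_range_orderOf, hy] at hxz
    simp [Finset.range_add_one] at hxz
    rcases hxz with h | h
    · exact hnc (h ▸ IsConj.refl _)
    · exact Cfsg.Agent.H65.ne_one_of_orderOf hx h
  · intro honly
    have hconjY : ∀ a ∈ Y, x * a * x ∈ Y := by
      intro a ha
      have := (Subgroup.normalClosure_normal (s := ({y} : Set G))).conj_mem a ha x
      rwa [Cfsg.Agent.H65.inv_eq_self hx] at this
    have hone : ∀ a ∈ Y, Commute a x → a = 1 ∨ a = y := by
      intro a ha hax
      by_cases h1 : a = 1
      · exact Or.inl h1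
      · exact Or.inr (honly a ha (orderOf_eq_prime (hsq a ha) h1) hax)
    have hxx := Cfsg.Agent.H65.mul_self_eq_one hx
    have hf : ∀ a ∈ Y, a * (x * a * x) = 1 ∨ a * (x * a * x) = y := by
      intro a ha
      refine hone _ (mul_mem ha (hconjY a ha)) ?_
      change a * (x * a * x) * x = x * (a * (x * a * x))
      rw [show a * (x * a * x) * x = a * x * a * (x * x) by group, hxx, mul_one,
        hYc a ha _ (hconjY a ha), show x * (x * a * x * a) = x * x * (a * x * a) by group, hxx,
        one_mul]
    have hinj : ∀ a ∈ Y, ∀ b ∈ Y, a * (x * a * x) = b * (x * b * x) → b = a ∨ b = a * y := by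
      intro a ha b hb hab
      have ha2 : a * a = 1 := by rw [← sq]; exact hsq a ha
      have hb2 : b * b = 1 := by rw [← sq]; exact hsq b hb
      have e1 : x * a * x = a * (b * (x * b * x)) := by
        rw [← hab, ← mul_assoc, ha2, one_mul]
      have e2 : x * (a * b) * x = a * b := by
        calc x * (a * b) * x = (x * a * x) * (x * b * x) := by
              rw [show x * a * x * (x * b * x) = x * a * (x * x) * b * x by group, hxx]; group
          _ = a * b * ((x * b * x) * (x * b * x)) := by rw [e1]; group
          _ = a * b := by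
              rw [show x * b * x * (x * b * x) = x * b * (x * x) * b * x by group, hxx, mul_one,
                mul_assoc x b b, hb2, mul_one, hxx, mul_one]
      have hc : Commute (a * b) x := by
        change a * b * x = x * (a * b)
        conv_lhs => rw [← e2]
        rw [mul_assoc, hxx, mul_one]
      rcases hone _ (mul_mem ha hb) hc with h | h
      · left
        calc b = a * a * b := by rw [ha2, one_mul]
          _ = a := by rw [mul_assoc, h, mul_one]
      · right
        calc b = a * a * b := by rw [ha2, one_mul]
          _ = a * y := by rw [mul_assoc, h]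
    have h1i : ∀ a ∈ Y, a * (x * a * x) = 1 → a = 1 ∨ a = y := by
      intro a ha h
      have := hinj 1 Y.one_mem a ha (by rw [h]; simp [hxx])
      simpa using this
    have key : ∃ a0 : G, (Y : Set G) ⊆ {1, y, a0, a0 * y} := by
      by_cases hex : ∃ a ∈ Y, a * (x * a * x) = y
      · obtain ⟨a0, ha0, he⟩ := hex
        refine ⟨a0, fun a ha => ?_⟩
        rcases hf a ha with h | h
        · rcases h1i a ha h with h | h <;> simp [h]
        · rcases hinj a0 ha0 a ha (he.trans h.symm) with h | h <;> simp [h]
      · refine ⟨1, fun a ha => ?_⟩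
        rcases hf a ha with h | h
        · rcases h1i a ha h with h | h <;> simp [h]
        · exact absurd ⟨a, ha, h⟩ hex
    obtain ⟨a0, ha0⟩ := key
    rw [show Nat.card ↥Y = (Y : Set G).ncard from Nat.card_coe_set_eq _]
    refine (Set.ncard_le_ncard ha0).trans ?_
    refine (Set.ncard_insert_le _ _).trans (Nat.succ_le_succ ?_)
    refine (Set.ncard_insert_le _ _).trans (Nat.succ_le_succ ?_)
    refine (Set.ncard_insert_le _ _).trans (Nat.succ_le_succ ?_)
    rw [Set.ncard_singleton]

end Cfsg.Agent.S3276
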