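import Cfsg.Agent.H65.FourCount
import Cfsg.Agent.PGroups.Basic
import Cfsg.Agent.S3276
import Cfsg.Agent.Fusion.PComplement
import Cfsg.Statements.S3277
-- import your own Cfsg.Agent.* helpers here

set_option autoImplicit false
open Cfsg

namespace Cfsg.Agent.S3277

open Cfsg.Agent Cfsg.Agent.H65

/-- Let G be a finite group containing an involution whose centralizer is elementary abelian of order 4. If G has no normal 2-complement and no normal elementary abelian 2-subgroup of order 2 or 4, then G is isomorphic to the alternating group of degree 5 (that is, to PSL(2, 5)). -/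
theorem result {G : Type*} [Group G] [Finite G] (x : G) (hx : orderOf x = 2)
    (hC4 : Nat.card ↥(Subgroup.centralizer ({x} : Set G)) = 4) (hCe : ∀ c ∈ Subgroup.centralizer ({x} : Set G), c ^ 2 = 1)
    (hnc : ¬ Cfsg.HasNormalPComplement 2 G)
    (hne : ∀ E : Subgroup G, E.Normal → Cfsg.IsElementaryAbelian 2 E → Nat.card ↥E ≠ 2 ∧ Nat.card ↥E ≠ 4) :
    Nonempty (G ≃* ↥(alternatingGroup (Fin 5))) := by
  classical
  haveI : Fact (Nat.Prime 2) := ⟨Nat.prime_two⟩
  letI : Fintype G := Fintype.ofFinite G
  set V := Subgroup.centralizer ({x} : Set G) with hVdef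
  have hxV : x ∈ V := Subgroup.mem_centralizer_singleton_iff.2 rfl
  have hVcomm : ∀ a ∈ V, ∀ b ∈ V, a * b = b * a := by
    intro a ha b hb
    have h1 := hCe _ (V.mul_mem ha hb)
    rw [sq] at h1
    have h2 : a * a = 1 := by rw [← sq]; exact hCe a ha
    have h3 : b * b = 1 := by rw [← sq]; exact hCe b hb
    calc a * b = (a * b)⁻¹ := (inv_eq_of_mul_eq_one_left h1).symm
      _ = b * a := by rw [mul_inv_rev, inv_eq_of_mul_eq_one_left h2, inv_eq_of_mul_eq_one_left h3]
  have hVel : Cfsg.IsElementaryAbelian 2 V :=
    ⟨⟨⟨fun a b => Subtype.ext (hVcomm _ a.2 _ b.2)⟩⟩, hCe⟩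
  have hVp : IsPGroup 2 ↥V := IsPGroup.of_card (n := 2) (by rw [hC4]; norm_num)
  have hmemV : ∀ {v : G}, v ∈ V ↔ Commute v x := fun {v} =>
    Subgroup.mem_centralizer_singleton_iff
  -- every non-identity element of V is an involution
  have hord : ∀ v ∈ V, v ≠ 1 → orderOf v = 2 := fun v hv h1 =>
    orderOf_eq_prime (hCe v hv) h1
  by_cases hsome : ∃ w ∈ V, w ≠ 1 ∧ ¬ IsConj x w
  · exfalso
    obtain ⟨w, hwV, hw1, hnw⟩ := hsome
    have hw2 := hord w hwV hw1
    have hwx : w ≠ x := fun h => hnw (h ▸ IsConj.refl _)
    have hxw2 : orderOf (x * w) = 2 := orderOf_mul_two hx hw2 (hmemV.1 hwV).symm hwx.symm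
    have hset : ∀ u ∈ V, u ≠ 1 → u = x ∨ u = w ∨ u = x * w := by
      intro u hu hu1
      by_contra hcon
      push Not at hcon
      have hxw : x * w ∈ V := V.mul_mem hxV hwV
      have h1 : (1 : G) ≠ x := (ne_one_of_orderOf hx).symm
      have h2 : (1 : G) ≠ x * w := (ne_one_of_orderOf hxw2).symm
      have h3 : x ≠ x * w := fun h => hw1 (mul_eq_left.1 h.symm)
      have h4 : w ≠ x * w := fun h => h1.symm (mul_eq_right.1 h.symm)
      have hsub : ({u, 1, x, w, x * w} : Set G) ⊆ V := by
        rintro _ (rfl | rfl | rfl | rfl | rfl)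
        exacts [hu, V.one_mem, hxV, hwV, hxw]
      have h5 : ({u, 1, x, w, x * w} : Set G).ncard = 5 := by
        rw [Set.ncard_insert_of_notMem (by simp [hu1, hcon.1, hcon.2.1, hcon.2.2]),
          Set.ncard_insert_of_notMem (by simp [h1, h2, hw1.symm]),
          Set.ncard_insert_of_notMem (by simp [hwx.symm, h3]),
          Set.ncard_pair h4]
      have := Set.ncard_le_ncard hsub
      rw [h5, ← Nat.card_coe_set_eq] at this
      simp only [SetLike.coe_sort_coe, hC4] at this
      omega
    by_cases h3 : IsConj x (x * w)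
    · obtain ⟨-, hYel, hY4⟩ := Cfsg.Agent.S3276.result x w hx hw2 (hmemV.1 hwV).symm hnw (by
        intro u hu hux g hc
        have hv2 : orderOf (g * w * g⁻¹) = 2 := (orderOf_conj' g w).trans hw2
        rcases hset u (hmemV.2 hux) (ne_one_of_orderOf hu) with rfl | rfl | rfl
        · exact hVcomm _ (hmemV.2 hc) _ hwV
        · exact hc
        · -- the centraliser of `x * w` is `V`
          obtain ⟨k, hk⟩ := isConj_iff.1 h3
          have hle : V ≤ Subgroup.centralizer ({x * w} : Set G) := fun a ha =>
            Subgroup.mem_centralizer_singleton_iff.2 (hVcomm a ha _ (V.mul_mem hxV hwV))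
          have hcard : Nat.card ↥(Subgroup.centralizer ({x * w} : Set G)) ≤ Nat.card ↥V := by
            refine Nat.card_le_card_of_injective (fun a => ⟨k⁻¹ * (a : G) * k, hmemV.2 ?_⟩) ?_
            · have ha : (a : G) * (k * x * k⁻¹) = k * x * k⁻¹ * (a : G) := by
                rw [hk]; exact Subgroup.mem_centralizer_singleton_iff.1 a.2
              change k⁻¹ * (a : G) * k * x = x * (k⁻¹ * (a : G) * k)
              calc k⁻¹ * (a : G) * k * x = k⁻¹ * ((a : G) * (k * x * k⁻¹)) * k := by group
                _ = k⁻¹ * (k * x * k⁻¹ * (a : G)) * k := by rw [ha]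
                _ = x * (k⁻¹ * (a : G) * k) := by group
            · intro a b hab
              exact Subtype.ext (mul_left_cancel (mul_right_cancel (congrArg Subtype.val hab)))
          have heq := Subgroup.eq_of_le_of_card_ge hle hcard
          exact hVcomm _ (heq ▸ Subgroup.mem_centralizer_singleton_iff.2 hc) _ hwV)
      set Y := Subgroup.normalClosure ({w} : Set G) with hY
      have hwY : w ∈ Y := Subgroup.subset_normalClosure rfl
      have hYn : Y.Normal := Subgroup.normalClosure_normal
      have honly : ∀ u ∈ Y, orderOf u = 2 → Commute u x → u = w := by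
        intro u huY hu hux
        by_contra huw
        have hxY : x ∈ Y := by
          rcases hset u (hmemV.2 hux) (ne_one_of_orderOf hu) with rfl | rfl | rfl
          · exact huY
          · exact absurd rfl huw
          · simpa using Y.mul_mem huY (Y.inv_mem hwY)
        have hYV : Y ≤ V := fun a ha => hmemV.2
          (congrArg Subtype.val (hYel.1.is_comm.comm ⟨a, ha⟩ ⟨x, hxY⟩))
        have hVY : V ≤ Y := by
          intro a ha
          by_cases ha1 : a = 1
          · subst ha1; exact Y.one_mem
          rcases hset a ha ha1 with rfl | rfl | rfl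
          exacts [hxY, hwY, Y.mul_mem hxY hwY]
        have hVn : V.Normal := le_antisymm hVY hYV ▸ hYn
        exact (hne V hVn hVel).2 hC4
      have h4 := hY4 honly
      have hYp : IsPGroup 2 ↥Y := fun a => ⟨1, Subtype.ext (by simpa using hYel.2 a a.2)⟩
      obtain ⟨j, hj⟩ := IsPGroup.iff_card.1 hYp
      have hne2 := hne Y hYn hYel
      rcases j with _ | _ | _ | j
      · rw [pow_zero] at hj
        exact hw1 (Subgroup.mem_bot.1 (Subgroup.card_eq_one.1 hj ▸ hwY))
      · exact hne2.1 hj
      · exact hne2.2 hj
      · rw [hj] at h4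
        have : 2 ^ 3 ≤ 2 ^ (j + 1 + 1 + 1) := Nat.pow_le_pow_right (by omega) (by omega)
        omega
    · -- `x` is fused to no other involution of `V`
      have hfix : ∀ n ∈ Subgroup.normalizer (V : Set G), n ∈ V := by
        intro n hn
        have h1 : n * x * n⁻¹ ∈ V := (Subgroup.mem_normalizer_iff.1 hn x).1 hxV
        have h2 : n * x * n⁻¹ ≠ 1 := by simpa using ne_one_of_orderOf hx
        rcases hset _ h1 h2 with h | h | h
        · exact hmemV.2 (mul_inv_eq_iff_eq_mul.1 h)
        · exact absurd (isConj_iff.2 ⟨n, h⟩) hnw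
        · exact absurd (isConj_iff.2 ⟨n, h⟩) h3
      obtain ⟨S, hS⟩ := hVp.exists_le_sylow
      have hSV : (S : Subgroup G) = V := by
        by_contra hne'
        have hlt : V.subgroupOf (S : Subgroup G) < ⊤ := lt_top_iff_ne_top.2 fun h =>
          hne' (le_antisymm (Subgroup.subgroupOf_eq_top.1 h) hS)
        haveI : Group.IsNilpotent ↥(S : Subgroup G) := S.isPGroup'.isNilpotent
        obtain ⟨n, hn, hnV⟩ := SetLike.exists_of_lt (normalizerCondition_of_isNilpotent _ hlt)
        refine hnV (hfix _ (Subgroup.mem_normalizer_iff.2 fun a => ⟨fun ha => ?_, fun ha => ?_⟩))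
        · exact (Subgroup.mem_normalizer_iff.1 hn ⟨a, hS ha⟩).1 ha
        · have haS : a ∈ (S : Subgroup G) := by
            have := (S : Subgroup G).mul_mem ((S : Subgroup G).mul_mem ((S : Subgroup G).inv_mem n.2)
              (hS ha)) n.2
            simpa [mul_assoc] using this
          exact (Subgroup.mem_normalizer_iff.1 hn ⟨a, haS⟩).2 ha
      refine hnc (Cfsg.Agent.Fusion.hasNormalPComplement_of_normalizer_le_centralizer S ?_)
      rw [hSV]
      intro n hn a ha
      exact hVcomm _ ha _ (hfix n hn)
  -- all involutions of V are conjugate to x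
  push Not at hsome
  obtain ⟨S, hS⟩ := hVp.exists_le_sylow
  have hone0 : ∀ u : G, orderOf u = 2 → IsConj x u ∧ ((S : Subgroup G) ≤ V) := by
    intro u hu
    haveI : Nontrivial ↥(S : Subgroup G) :=
      ⟨⟨x, hS hxV⟩, 1, fun h => ne_one_of_orderOf hx (congrArg Subtype.val h)⟩
    obtain ⟨z, -, hzc, hz⟩ := Cfsg.Agent.PGroups.exists_mem_center_orderOf_eq S.isPGroup'
      (⊤ : Subgroup ↥(S : Subgroup G)) top_ne_bot
    have hz2 : orderOf (z : G) = 2 := (Subgroup.orderOf_coe z).trans hz
    have hzall : ∀ s ∈ (S : Subgroup G), s * (z : G) = (z : G) * s := fun s hs =>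
      congrArg Subtype.val (Subgroup.mem_center_iff.1 hzc ⟨s, hs⟩)
    have hzV : (z : G) ∈ V := hmemV.2 (show Commute (z : G) x from (hzall x (hS hxV)).symm)
    obtain ⟨k, hk⟩ := isConj_iff.1 (hsome _ hzV (ne_one_of_orderOf hz2))
    have hSV : (S : Subgroup G) ≤ V := by
      have hle : V ≤ (S : Subgroup G) := hS
      have hcard : Nat.card ↥(S : Subgroup G) ≤ Nat.card ↥V := by
        refine Nat.card_le_card_of_injective (fun a => ⟨k⁻¹ * (a : G) * k, hmemV.2 ?_⟩) ?_
        · have ha := hzall a a.2
          rw [← hk] at ha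
          change k⁻¹ * (a : G) * k * x = x * (k⁻¹ * (a : G) * k)
          calc k⁻¹ * (a : G) * k * x = k⁻¹ * ((a : G) * (k * x * k⁻¹)) * k := by group
            _ = k⁻¹ * (k * x * k⁻¹ * (a : G)) * k := by rw [ha]
            _ = x * (k⁻¹ * (a : G) * k) := by group
        · intro a b hab
          exact Subtype.ext (mul_left_cancel (mul_right_cancel (congrArg Subtype.val hab)))
      exact (Subgroup.eq_of_le_of_card_ge hle hcard).ge
    refine ⟨?_, hSV⟩
    have hp : IsPGroup 2 ↥(Subgroup.zpowers u) :=
      IsPGroup.of_card (n := 1) (by rw [Nat.card_zpowers, hu, pow_one])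
    obtain ⟨R, hR⟩ := hp.exists_le_sylow
    obtain ⟨g, hg⟩ := MulAction.exists_smul_eq G R S
    have hgu : g * u * g⁻¹ ∈ V := hSV (by
      rw [← hg]
      exact Subgroup.smul_mem_pointwise_smul u (MulAut.conj g) _ (hR (Subgroup.mem_zpowers u)))
    exact (hsome _ hgu (by simpa using ne_one_of_orderOf hu)).trans (isConj_iff.2 ⟨g⁻¹, by group⟩)
  have hSV : (S : Subgroup G) = V := le_antisymm (hone0 x hx).2 hS
  have hone : ∀ s t : G, orderOf s = 2 → orderOf t = 2 → IsConj s t := fun s t hs ht =>
    (hone0 s hs).1.symm.trans (hone0 t ht).1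
  have h4 : ∀ t : G, orderOf t = 2 → Nat.card ↥(Subgroup.centralizer ({t} : Set G)) = 4 ∧
      ∀ c ∈ Subgroup.centralizer ({t} : Set G), c ^ 2 = 1 := by
    intro t ht
    obtain ⟨k, hk⟩ := isConj_iff.1 (hone0 t ht).1
    have heq : Subgroup.centralizer ({t} : Set G) = V.map (MulAut.conj k).toMonoidHom := by
      ext c
      rw [Subgroup.mem_centralizer_singleton_iff, Subgroup.mem_map_equiv, MulAut.conj_symm_apply,
        hmemV, ← hk]
      constructor
      · intro h
        change k⁻¹ * c * k * x = x * (k⁻¹ * c * k)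
        calc k⁻¹ * c * k * x = k⁻¹ * (c * (k * x * k⁻¹)) * k := by group
          _ = k⁻¹ * (k * x * k⁻¹ * c) * k := by rw [h]
          _ = x * (k⁻¹ * c * k) := by group
      · intro h
        calc c * (k * x * k⁻¹) = k * ((k⁻¹ * c * k) * x) * k⁻¹ := by group
          _ = k * (x * (k⁻¹ * c * k)) * k⁻¹ := by rw [h.eq]
          _ = k * x * k⁻¹ * c := by group
    rw [heq]
    refine ⟨(Nat.card_congr (V.equivMapOfInjective _ (MulAut.conj k).injective).toEquiv).symm.trans hC4, ?_⟩
    rintro _ ⟨c, hc, rfl⟩
    rw [← map_pow, hCe c hc, map_one]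
  have hG := H65.FourCount.card_eq_four_mul h4 hone hx
  have hinvs : ∀ t, t ∈ (H65.FourCount.invs : Finset G) ↔ orderOf t = 2 := fun t => by
    simp [H65.FourCount.invs]
  have hVinv : ∀ v : G, v ∈ V → v ≠ 1 → v ∈ (H65.FourCount.invs : Finset G) := fun v hv h1 =>
    (hinvs v).2 (hord v hv h1)
  set Vs : Finset G := (Finset.univ.filter fun v => v ∈ V).erase 1 with hVs
  have hVs3 : Vs.card = 3 := by
    have hV4 : (Finset.univ.filter fun v => v ∈ V).card = 4 := by
      rw [← hC4, Nat.card_eq_fintype_card]
      exact (Fintype.card_of_subtype _ (by simp)).symm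
    rw [hVs, Finset.card_erase_of_mem (by simp), hV4]
  rcases H65.FourCount.card_invs h4 hone hx with hn | hn
  · exfalso
    have heq : Vs = H65.FourCount.invs := by
      refine Finset.eq_of_subset_of_card_le (fun v hv => ?_) (by rw [hn, hVs3])
      simp only [hVs, Finset.mem_erase, Finset.mem_filter, Finset.mem_univ, true_and] at hv
      exact hVinv v hv.2 hv.1
    have hVn : V.Normal := by
      refine ⟨fun v hv g => ?_⟩
      by_cases hv1 : v = 1
      · subst hv1; simp
      have h2 : g * v * g⁻¹ ∈ (H65.FourCount.invs : Finset G) :=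
        (hinvs _).2 ((orderOf_conj' g v).trans (hord v hv hv1))
      rw [← heq] at h2
      simp only [hVs, Finset.mem_erase, Finset.mem_filter, Finset.mem_univ, true_and] at h2
      exact h2.2
    exact (hne V hVn hVel).2 hC4
  · -- order 60, five Sylow 2-subgroups
    rw [hn] at hG
    have hScard : ∀ R : Sylow 2 G, Nat.card ↥(R : Subgroup G) = 4 := fun R => by
      rw [← hC4, ← hSV, R.card_eq_multiplicity, S.card_eq_multiplicity]
    have hRC : ∀ (R : Sylow 2 G) (t : G), t ∈ (R : Subgroup G) → orderOf t = 2 →
        (R : Subgroup G) = Subgroup.centralizer ({t} : Set G) := by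
      intro R t htR ht
      refine Subgroup.eq_of_le_of_card_ge (fun a ha => ?_) (by rw [hScard R, (h4 t ht).1])
      haveI : IsMulCommutative ↥(R : Subgroup G) :=
        IsPGroup.isMulCommutative_of_card_eq_prime_sq (p := 2) (by rw [hScard R]; norm_num)
      exact Subgroup.mem_centralizer_singleton_iff.2
        (congrArg Subtype.val (mul_comm' (⟨a, ha⟩ : ↥(R : Subgroup G)) ⟨t, htR⟩))
    letI : Fintype (Sylow 2 G) := Fintype.ofFinite _
    have hfib : ∀ t ∈ (H65.FourCount.invs : Finset G), ∃! R : Sylow 2 G, t ∈ (R : Subgroup G) := by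
      intro t ht
      have ht := (hinvs t).1 ht
      obtain ⟨R, hR⟩ := (IsPGroup.of_card (p := 2) (n := 1) (G := ↥(Subgroup.zpowers t))
        (by rw [Nat.card_zpowers, ht, pow_one])).exists_le_sylow
      refine ⟨R, hR (Subgroup.mem_zpowers t), fun R' hR' => Sylow.ext ?_⟩
      rw [hRC R t (hR (Subgroup.mem_zpowers t)) ht, hRC R' t hR' ht]
    have hcount : 15 = Fintype.card (Sylow 2 G) * 3 := by
      rw [← hn, ← Finset.card_univ]
      have h1 : (H65.FourCount.invs : Finset G) = Finset.univ.biUnion
          (fun R : Sylow 2 G => (Finset.univ.filter fun v => v ∈ (R : Subgroup G)).erase 1) := by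
        ext t
        simp only [Finset.mem_biUnion, Finset.mem_univ, true_and, Finset.mem_erase, Finset.mem_filter]
        constructor
        · intro ht
          obtain ⟨R, hR, -⟩ := hfib t ht
          exact ⟨R, ne_one_of_orderOf ((hinvs t).1 ht), hR⟩
        · rintro ⟨R, ht1, htR⟩
          refine (hinvs t).2 ?_
          obtain ⟨j, hj⟩ := IsPGroup.iff_orderOf.1 R.isPGroup' ⟨t, htR⟩
          have hdvd : orderOf t ∣ 4 := hScard R ▸ Subgroup.orderOf_dvd_natCard _ htR
          rw [Subgroup.orderOf_mk] at hj
          rcases j with _ | _ | j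
          · exact absurd (orderOf_eq_one_iff.1 (by simpa using hj)) ht1
          · simpa using hj
          · exfalso
            -- an element of order four would be central in its Sylow subgroup
            have h4' : orderOf t = 4 := by
              refine Nat.dvd_antisymm hdvd ?_
              rw [hj, show 4 = 2 ^ 2 by norm_num]
              exact pow_dvd_pow 2 (by omega)
            have hu : orderOf (t ^ 2) = 2 := by rw [orderOf_pow' _ (by omega), h4']; norm_num
            have := (h4 _ hu).2 t (Subgroup.mem_centralizer_singleton_iff.2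
              (Commute.pow_right (Commute.refl t) 2).eq)
            have := Nat.le_of_dvd (by omega) (orderOf_dvd_of_pow_eq_one this)
            omega
      rw [h1, Finset.card_biUnion]
      · rw [Finset.sum_const_nat (m := 3)]
        intro R _
        rw [Finset.card_erase_of_mem (by simp), show (Finset.univ.filter fun v => v ∈ (R : Subgroup G)).card = 4 by
          rw [← hScard R, Nat.card_eq_fintype_card]
          exact (Fintype.card_of_subtype _ (by simp)).symm]
      · intro R _ R' _ hRR'
        rw [Function.onFun, Finset.disjoint_left]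
        intro t ht ht'
        simp only [Finset.mem_erase, Finset.mem_filter, Finset.mem_univ, true_and] at ht ht'
        have : t ∈ (H65.FourCount.invs : Finset G) := by
          rw [h1]
          simp only [Finset.mem_biUnion, Finset.mem_univ, true_and, Finset.mem_erase, Finset.mem_filter]
          exact ⟨R, ht⟩
        exact hRR' ((hfib t this).unique ht.2 ht'.2)
    have h5 : Fintype.card (Sylow 2 G) = 5 := by omega
    let φ : G →* Equiv.Perm (Sylow 2 G) := MulAction.toPermHom G (Sylow 2 G)
    have hker : ∀ k ∈ φ.ker, ∀ R : Sylow 2 G, k ∈ Subgroup.normalizer ((R : Subgroup G) : Set G) := by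
      intro k hk R
      refine Sylow.smul_eq_iff_mem_normalizer.1 ?_
      exact congrArg (fun f : Equiv.Perm (Sylow 2 G) => f R) hk
    have hN : Nat.card ↥(Subgroup.normalizer ((S : Subgroup G) : Set G)) = 12 := by
      have h1 : (Subgroup.normalizer ((S : Subgroup G) : Set G)).index = 5 := by
        rw [← h5, ← Nat.card_eq_fintype_card]; exact S.card_eq_index_normalizer.symm
      have h2 := Subgroup.card_mul_index (Subgroup.normalizer ((S : Subgroup G) : Set G))
      rw [h1, Nat.card_eq_fintype_card (α := G), hG] at h2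
      omega
    have hinj : Function.Injective φ := by
      rw [← MonoidHom.ker_eq_bot_iff, Subgroup.eq_bot_iff_forall]
      intro k hk
      have hnoinv : ∀ t ∈ φ.ker, orderOf t ≠ 2 := by
        intro t ht ht2
        have hsub : (H65.FourCount.invs : Finset G) ⊆
            Finset.univ.filter fun v => v ∈ Subgroup.normalizer ((S : Subgroup G) : Set G) := by
          intro u hu
          obtain ⟨g, hg⟩ := isConj_iff.1 (hone t u ht2 ((hinvs u).1 hu))
          refine Finset.mem_filter.2 ⟨Finset.mem_univ _, hker _ ?_ S⟩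
          rw [← hg]; exact φ.normal_ker.conj_mem t ht g
        have := Finset.card_le_card hsub
        rw [hn, show (Finset.univ.filter fun v => v ∈ Subgroup.normalizer ((S : Subgroup G) : Set G)).card = 12 by
          rw [← hN, Nat.card_eq_fintype_card]
          exact (Fintype.card_of_subtype _ (by simp)).symm] at this
        omega
      have hcomm : k * x * k⁻¹ * x⁻¹ ∈ φ.ker ⊓ V := by
        constructor
        · have := φ.ker.mul_mem hk (φ.normal_ker.conj_mem _ (φ.ker.inv_mem hk) x)
          simpa [mul_assoc] using this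
        · refine V.mul_mem ?_ (V.inv_mem hxV)
          have := hker k hk S
          rw [hSV] at this
          exact (Subgroup.mem_normalizer_iff.1 this x).1 hxV
      have h1 : k * x * k⁻¹ * x⁻¹ = 1 := by
        by_contra h
        exact hnoinv _ hcomm.1 (hord _ hcomm.2 h)
      have hkV : k ∈ V := hmemV.2 (mul_inv_eq_iff_eq_mul.1 (mul_inv_eq_one.1 h1))
      by_contra hk1
      exact hnoinv k hk (hord k hkV hk1)
    let e := (Fintype.equivFinOfCardEq h5)
    let ψ : G →* Equiv.Perm (Fin 5) := (e.permCongrHom.toMonoidHom).comp φ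
    have hψ : Function.Injective ψ := e.permCongrHom.injective.comp hinj
    have hidx : ψ.range.index = 2 := by
      have h1 := Subgroup.card_mul_index ψ.range
      rw [← Nat.card_congr (MonoidHom.ofInjective hψ).toEquiv, Nat.card_eq_fintype_card (α := G), hG,
        Nat.card_eq_fintype_card (α := Equiv.Perm (Fin 5)), Fintype.card_perm] at h1
      simp [Nat.factorial] at h1
      omega
    exact ⟨(MonoidHom.ofInjective hψ).trans
      (MulEquiv.subgroupCongr (Equiv.Perm.eq_alternatingGroup_of_index_eq_two hidx))⟩

end Cfsg.Agent.S3277
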