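import Cfsg.Statements.S0068
import Mathlib.GroupTheory.FixedPointFree
import Mathlib.GroupTheory.Sylow
import Mathlib.Tactic.Group

set_option autoImplicit false
open Cfsg

namespace Cfsg.Agent.S0068

/-- Frobenius complements of even order: if H complements a nontrivial normal subgroup K, each nonidentity element of H has trivial centraliser in K, and H has even order, then H contains a unique involution s, K is abelian, and s inverts every element of K. -/
theorem result {G : Type*} [Group G] [Finite G] (K H : Subgroup G) [K.Normal]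
    (hc : Subgroup.IsComplement' K H) (hK : K ≠ ⊥) (hfpf : ∀ h ∈ H, h ≠ 1 → K ⊓ Subgroup.centralizer {h} = ⊥)
    (heven : 2 ∣ Nat.card H) :
    (∃ s ∈ H, orderOf s = 2 ∧ (∀ t ∈ H, orderOf t = 2 → t = s) ∧ ∀ k ∈ K, s * k * s⁻¹ = k⁻¹) ∧ IsMulCommutative K := by
  classical
  have := Fact.mk Nat.prime_two
  obtain ⟨⟨s, hs⟩, hso⟩ := exists_prime_orderOf_dvd_card' 2 heven
  rw [Subgroup.orderOf_mk] at hso
  have hinv : ∀ t ∈ H, orderOf t = 2 → ∀ k ∈ K, t * k * t⁻¹ = k⁻¹ := by
    intro t ht hto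
    let φ : K →* K := (MulAut.conjNormal (H := K) t).toMonoidHom
    have ht1 : t ≠ 1 := fun h => by simp [h] at hto
    have hf : MonoidHom.FixedPointFree φ := by
      intro k hk
      have hk' : t * (k : G) * t⁻¹ = k := congrArg Subtype.val hk
      have h1 : (k : G) ∈ K ⊓ Subgroup.centralizer {t} :=
        ⟨k.2, Subgroup.mem_centralizer_singleton_iff.2 (mul_inv_eq_iff_eq_mul.1 hk').symm⟩
      rw [hfpf t ht ht1, Subgroup.mem_bot] at h1
      exact Subtype.ext h1
    have ht2 : t * t = 1 := by rw [← sq, ← hto, pow_orderOf_eq_one]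
    have h2 : φ^[2] = _root_.id := by
      funext k
      apply Subtype.ext
      show t * (t * (k : G) * t⁻¹) * t⁻¹ = k
      have e : t⁻¹ = t := inv_eq_of_mul_eq_one_left ht2
      rw [e, show t * (t * (k : G) * t) * t = t * t * k * (t * t) by simp [mul_assoc], ht2, one_mul, mul_one]
    intro k hk
    exact congrArg Subtype.val (congrFun (hf.coe_eq_inv_of_sq_eq_one h2) ⟨k, hk⟩)
  refine ⟨⟨s, hs, hso, fun t ht hto => ?_, hinv s hs hso⟩, ?_⟩
  · by_contra hne
    apply hK
    have h1 : s⁻¹ * t ≠ 1 := fun h => hne (inv_mul_eq_one.1 h).symm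
    rw [eq_bot_iff, ← hfpf (s⁻¹ * t) (mul_mem (inv_mem hs) ht) h1]
    refine fun k hk => ⟨hk, Subgroup.mem_centralizer_singleton_iff.2 ?_⟩
    have hk1 := hinv t ht hto k hk
    have hk2 := hinv s hs hso k hk
    have e : s⁻¹ * t * k * (s⁻¹ * t)⁻¹ = k :=
      calc s⁻¹ * t * k * (s⁻¹ * t)⁻¹ = s⁻¹ * (t * k * t⁻¹) * s := by group
        _ = s⁻¹ * (s * k * s⁻¹) * s := by rw [hk1, hk2]
        _ = k := by group
    exact (mul_inv_eq_iff_eq_mul.1 e).symm
  · refine ⟨⟨fun a b => Subtype.ext ?_⟩⟩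
    have e : (s * (a : G) * s⁻¹) * (s * (b : G) * s⁻¹) = s * (a * b : G) * s⁻¹ := by group
    rw [hinv s hs hso a a.2, hinv s hs hso b b.2, hinv s hs hso _ (mul_mem a.2 b.2)] at e
    simp only [Subgroup.coe_mul]
    calc (a : G) * b = ((a : G) * b)⁻¹⁻¹ := (inv_inv _).symm
      _ = ((a : G)⁻¹ * (b : G)⁻¹)⁻¹ := by rw [e]
      _ = b * a := by group

end Cfsg.Agent.S0068
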