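import Cfsg.Statements.S0069
import Cfsg.Agent.S0068
import Cfsg.Agent.S0056
import Cfsg.Agent.H24.FPF
import Cfsg.Agent.Frobenius.Sylow
import Cfsg.Agent.Frobenius.Structure
import Mathlib.GroupTheory.SpecificGroups.ZGroup
import Mathlib.GroupTheory.SpecificGroups.Quaternion
import Mathlib.GroupTheory.SchurZassenhaus

set_option autoImplicit false
open Cfsg

namespace Cfsg.Agent.S0069

open scoped IsMulCommutative commutatorElement

theorem cyclic_eq_of_card_eq {D : Type*} [Group D] [Finite D] [IsCyclic D] {A B : Subgroup D}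
    (h : Nat.card A = Nat.card B) : A = B := by
  classical
  have := Fintype.ofFinite D
  have key : ∀ C : Subgroup D, (C : Set D).toFinset =
      Finset.univ.filter fun a : D => a ^ Nat.card C = 1 := by
    intro C
    refine Finset.eq_of_subset_of_card_le ?_ ?_
    · intro a ha
      simp only [Set.mem_toFinset, SetLike.mem_coe] at ha
      simp only [Finset.mem_filter, Finset.mem_univ, true_and]
      exact orderOf_dvd_iff_pow_eq_one.1 (Subgroup.orderOf_dvd_natCard _ ha)
    · rw [Set.toFinset_card, ← Nat.card_eq_fintype_card]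
      exact IsCyclic.card_pow_eq_one_le Nat.card_pos
  exact SetLike.ext' (Set.toFinset_inj.1 (by rw [key, key, h]))

theorem center_ne_bot_of_odd {G : Type*} [Group G] [Finite G] {H : Subgroup G}
    (hH : Cfsg.IsFrobeniusComplement H) (hodd : ¬ 2 ∣ Nat.card H) : Subgroup.center H ≠ ⊥ := by
  classical
  have hnt : Nontrivial H := (Subgroup.nontrivial_iff_ne_bot H).2 hH.1
  have hZ : IsZGroup H := ⟨fun p hp P => by
    have : Fact p.Prime := ⟨hp⟩
    rcases Cfsg.Agent.Frobenius.sylow_cyclic_or_quaternion hH p P with h | ⟨-, n, ⟨e⟩⟩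
    · exact h
    · exfalso
      apply hodd
      have h4 : 2 ∣ Nat.card (P : Subgroup H) := by
        have : NeZero (2 ^ n) := ⟨pow_ne_zero _ two_ne_zero⟩
        rw [Nat.card_congr e.toEquiv, Nat.card_eq_fintype_card, QuaternionGroup.card]
        exact dvd_mul_of_dvd_left (by norm_num) _
      exact h4.trans (Subgroup.card_subgroup_dvd_card _)⟩
  let D := commutator H
  have hDn : D.Normal := inferInstance
  have hcyc : IsCyclic D := IsZGroup.isCyclic_commutator H
  have hDc : IsMulCommutative D := inferInstance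
  have hcop : (Nat.card D).Coprime D.index := IsZGroup.coprime_commutator_index H
  have hidx : D.index ≠ 1 := fun h => (IsZGroup.commutator_lt H).ne (Subgroup.index_eq_one.1 h)
  obtain ⟨q, hq, hqd⟩ := Nat.exists_prime_and_dvd hidx
  have : Fact q.Prime := ⟨hq⟩
  obtain ⟨C, hC⟩ := Subgroup.exists_right_complement'_of_coprime hcop
  have hCc : Nat.card C = D.index := hC.symm.index_eq_card.symm
  obtain ⟨x, hx⟩ := exists_prime_orderOf_dvd_card' (G := C) q (hCc ▸ hqd)
  rw [← Subgroup.orderOf_coe] at hx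
  have hx1 : (x : H) ≠ 1 := fun h => by rw [h, orderOf_one] at hx; exact hq.one_lt.ne hx
  let X : Subgroup H := Subgroup.zpowers (x : H)
  have hXD : (Nat.card X).Coprime (Nat.card D) := by
    rw [Nat.card_zpowers, hx]
    exact (hcop.coprime_dvd_right hqd).symm
  -- `x` commutes with the elements of prime order of `D`
  have hprime : ∀ y ∈ D, (orderOf y).Prime → ∀ a ∈ X, a * y = y * a := by
    intro y hy hr a ha
    let Y : Subgroup H := Subgroup.zpowers y
    have hYD : Y ≤ D := Subgroup.zpowers_le.2 hy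
    have hYn : Y.Normal := by
      refine ⟨fun b hb g => ?_⟩
      have hbD : g * b * g⁻¹ ∈ D := hDn.conj_mem b (hYD hb) g
      rcases eq_or_ne b 1 with rfl | hb1
      · simp
      have : Subgroup.zpowers (⟨g * b * g⁻¹, hbD⟩ : D) = Subgroup.zpowers (⟨y, hy⟩ : D) := by
        refine cyclic_eq_of_card_eq ?_
        rw [Nat.card_zpowers, Nat.card_zpowers,
          ← Subgroup.orderOf_coe (⟨g * b * g⁻¹, hbD⟩ : D), ← Subgroup.orderOf_coe (⟨y, hy⟩ : D)]
        show orderOf (MulAut.conj g b) = orderOf y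
        rw [MulEquiv.orderOf_eq]
        have h1 : orderOf b ∣ orderOf y := by
          rw [← Nat.card_zpowers y]; exact Subgroup.orderOf_dvd_natCard _ hb
        exact ((Nat.dvd_prime hr).1 h1).resolve_left fun h => hb1 (orderOf_eq_one_iff.1 h)
      have h2 : (⟨g * b * g⁻¹, hbD⟩ : D) ∈ Subgroup.zpowers (⟨y, hy⟩ : D) := this ▸ Subgroup.mem_zpowers _
      obtain ⟨k, hk⟩ := Subgroup.mem_zpowers_iff.1 h2
      exact Subgroup.mem_zpowers_iff.2 ⟨k, by simpa using congrArg Subtype.val hk⟩
    have hcard : Nat.card ↥(Y ⊔ X) = orderOf y * q := by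
      have hXY : (Nat.card Y).Coprime (Nat.card X) :=
        (hXD.coprime_dvd_right (Subgroup.card_dvd_of_le hYD)).symm
      have hb : Function.Bijective (fun g : Y × X => (⟨g.1.1 * g.2.1,
          mul_mem (Subgroup.mem_sup_left g.1.2) (Subgroup.mem_sup_right g.2.2)⟩ : ↥(Y ⊔ X))) := by
        refine ⟨fun g g' h => Subgroup.mul_injective_of_disjoint (Subgroup.disjoint_of_coprime_natCard hXY)
          (congrArg Subtype.val h), fun b => ?_⟩
        obtain ⟨u, hu, w, hw, h⟩ := Subgroup.mem_sup_of_normal_left.1 b.2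
        exact ⟨(⟨u, hu⟩, ⟨w, hw⟩), Subtype.ext h⟩
      rw [← Nat.card_eq_of_bijective _ hb, Nat.card_prod, Nat.card_zpowers, Nat.card_zpowers, hx]
    have hcy : IsCyclic ↥(Y ⊔ X) := Cfsg.Agent.Frobenius.fpf_elim hH fun A _ φ hA hφ => by
      have hf := hφ.comp (f := (Y ⊔ X).subtype) (Subgroup.subtype_injective _)
      rcases le_total (orderOf y) q with h | h
      · exact Cfsg.Agent.H24.isCyclic_of_card_mul_prime _ hf hr hq h hcard
      · exact Cfsg.Agent.H24.isCyclic_of_card_mul_prime _ hf hq hr h (hcard.trans (mul_comm _ _))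
    exact congrArg Subtype.val ((IsCyclic.isMulCommutative : IsMulCommutative ↥(Y ⊔ X)).is_comm.comm
      ⟨a, Subgroup.mem_sup_right ha⟩ ⟨y, Subgroup.mem_sup_left (Subgroup.mem_zpowers y)⟩)
  have hXc : X ≤ Subgroup.centralizer (D : Set H) :=
    Cfsg.Agent.S0056.result X D (fun a _ => by simp [Subgroup.normalizer_eq_top_iff.2 hDn]) hXD hprime
  have hCcomm : ∀ a ∈ C, ∀ b ∈ C, a * b = b * a := by
    intro a ha b hb
    have h1 : ⁅a, b⁆ ∈ D := Subgroup.commutator_mem_commutator (Subgroup.mem_top a) (Subgroup.mem_top b)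
    have h2 : ⁅a, b⁆ ∈ C := by
      rw [commutatorElement_def]
      exact mul_mem (mul_mem (mul_mem ha hb) (inv_mem ha)) (inv_mem hb)
    have h3 : ⁅a, b⁆ = 1 := Subgroup.mem_bot.1 (hC.disjoint.eq_bot ▸ Subgroup.mem_inf.2 ⟨h1, h2⟩)
    exact commutatorElement_eq_one_iff_mul_comm.1 h3
  intro hb
  apply hx1
  rw [← Subgroup.mem_bot, ← hb, Subgroup.mem_center_iff]
  intro g
  obtain ⟨⟨⟨d, hd⟩, ⟨c, hc⟩⟩, rfl⟩ := hC.2 g
  have e1 : Commute d (x : H) := Subgroup.mem_centralizer_iff.1 (hXc (Subgroup.mem_zpowers _)) d hd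
  have e2 : Commute c (x : H) := hCcomm c hc x x.2
  exact (e1.mul_left e2).eq

/-- A Frobenius complement has nontrivial centre: if H ≠ 1 complements a nontrivial normal subgroup K and every nonidentity element of H has trivial centraliser in K, then the centre of H is nontrivial. -/
theorem result {G : Type*} [Group G] [Finite G] (K H : Subgroup G) [K.Normal]
    (hc : Subgroup.IsComplement' K H) (hK : K ≠ ⊥) (hH : H ≠ ⊥) (hfpf : ∀ h ∈ H, h ≠ 1 → K ⊓ Subgroup.centralizer {h} = ⊥) :
    Subgroup.center H ≠ ⊥ := by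
  by_cases heven : 2 ∣ Nat.card H
  · obtain ⟨⟨s, hs, hso, huniq, -⟩, -⟩ := Cfsg.Agent.S0068.result K H hc hK hfpf heven
    intro hb
    have hcen : (⟨s, hs⟩ : H) ∈ Subgroup.center H := by
      rw [Subgroup.mem_center_iff]
      intro g
      have hord : orderOf ((g : G) * s * (g : G)⁻¹) = 2 := by
        rw [show (g : G) * s * (g : G)⁻¹ = MulAut.conj (g : G) s from rfl, MulEquiv.orderOf_eq, hso]
      have := huniq _ (mul_mem (mul_mem g.2 hs) (inv_mem g.2)) hord
      exact Subtype.ext (mul_inv_eq_iff_eq_mul.1 this)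
    rw [hb, Subgroup.mem_bot, Subgroup.mk_eq_one] at hcen
    rw [hcen, orderOf_one] at hso
    exact absurd hso (by norm_num)
  · exact center_ne_bot_of_odd (Cfsg.Agent.Frobenius.of_fixedPointFree hc hK hH
      fun h hh h1 k hk hcom => Subgroup.mem_bot.1 (hfpf h hh h1 ▸
        Subgroup.mem_inf.2 ⟨hk, Subgroup.mem_centralizer_singleton_iff.2 hcom.symm⟩)) heven

end Cfsg.Agent.S0069
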