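import Cfsg.Statements.S1474
import Cfsg.Agent.S0069
import Cfsg.Agent.H41.Nilpotent
import Cfsg.Agent.Components.Fitting
import Cfsg.Agent.Frobenius.Basic
import Cfsg.Agent.PGroups.Basic
import Cfsg.Agent.Thompson.ZJ

set_option autoImplicit false
open Cfsg

namespace Cfsg.Agent.S1474

/-- Let G be a finite group in which every non-identity element has nilpotent centralizer, not itself nilpotent, and having a nontrivial normal Sylow p-subgroup for some prime p. Let H be the largest normal nilpotent Hall subgroup of G. Then H is a nontrivial proper normal subgroup with a complement E that is a Frobenius complement in G (no non-identity element of E centralizes a non-identity element of H), and G/H is nilpotent. -/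
theorem result {G : Type*} [Group G] [Finite G] (hCN : Cfsg.IsCNGroup G) (hnn : ¬ Group.IsNilpotent G) (p : ℕ) [Fact p.Prime] (P : Sylow p G)
    (hP1 : (P : Subgroup G) ≠ ⊥) (hPn : (P : Subgroup G).Normal) :
    Cfsg.fittingHall G ≠ ⊥ ∧ Cfsg.fittingHall G ≠ ⊤ ∧
      (∃ E : Subgroup G, Subgroup.IsComplement' (Cfsg.fittingHall G) E ∧ Cfsg.IsFrobeniusComplement E ∧
        ∀ e ∈ E, e ≠ 1 → Cfsg.fittingHall G ⊓ Subgroup.centralizer ({e} : Set G) = ⊥) ∧
      Group.IsNilpotent (G ⧸ Cfsg.fittingHall G) := by
  classical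
  obtain ⟨hKn, hKnil, hKhall⟩ := Cfsg.Agent.H41.fittingHall_spec G
  set K := Cfsg.fittingHall G with hK
  haveI := hKn
  have hPK : (P : Subgroup G) ≤ K := le_sSup
    ⟨hPn, P.isPGroup'.isNilpotent, P.card_coprime_index⟩
  have hK1 : K ≠ ⊥ := fun h => hP1 (le_bot_iff.mp (h ▸ hPK))
  have hKt : K ≠ ⊤ := fun h => hnn (by
    rw [h] at hKnil
    exact Group.nilpotent_of_mulEquiv Subgroup.topEquiv)
  obtain ⟨E, hE⟩ := Subgroup.exists_right_complement'_of_coprime hKhall
  have hEc : Nat.card E = K.index := hE.symm.index_eq_card.symm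
  have hcop : ∀ k ∈ K, ∀ e ∈ E, (orderOf k).Coprime (orderOf e) := fun k hk e he =>
    (hKhall.coprime_dvd_left (Subgroup.orderOf_dvd_natCard K hk)).coprime_dvd_right
      (hEc ▸ Subgroup.orderOf_dvd_natCard E he)
  have hcc : ∀ g : G, g ≠ 1 → ∀ k ∈ K, ∀ e ∈ E, g * k = k * g → g * e = e * g → k * e = e * k :=
    fun g hg k hk e he h1 h2 => Cfsg.Agent.H41.commute_of_coprime_of_isNilpotent (hCN g hg)
      (Subgroup.mem_centralizer_singleton_iff.mpr h1.symm)
      (Subgroup.mem_centralizer_singleton_iff.mpr h2.symm) (hcop k hk e he)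
  -- a central element of `K`
  haveI := hKnil
  haveI : Nontrivial K := (Subgroup.nontrivial_iff_ne_bot K).mpr hK1
  haveI : Nontrivial (Subgroup.center K) :=
    (Subgroup.nontrivial_iff_ne_bot _).mpr (Group.IsNilpotent.center_ne_bot _)
  obtain ⟨z, hz1⟩ := exists_ne (1 : Subgroup.center K)
  set z₀ : G := ((z : K) : G) with hz₀
  have hz01 : z₀ ≠ 1 := fun h => hz1 (Subtype.ext (Subtype.ext h))
  have hzc : ∀ k ∈ K, z₀ * k = k * z₀ := fun k hk =>
    (congrArg Subtype.val (Subgroup.mem_center_iff.mp z.2 ⟨k, hk⟩)).symm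
  set E0 := E ⊓ Subgroup.centralizer (K : Set G) with hE0
  have hin : ∀ e ∈ E, ∀ x ∈ K, x ≠ 1 → e * x = x * e → e ∈ E0 := by
    intro e he x hx hx1 hex
    have h1 : z₀ * e = e * z₀ := hcc x hx1 z₀ (z : K).2 e he (hzc x hx).symm hex.symm
    exact ⟨he, Subgroup.mem_centralizer_iff.mpr fun k hk =>
      hcc z₀ hz01 k hk e he (hzc k hk) h1⟩
  have hE0bot : E0 = ⊥ := by
    by_contra hne
    have hnorm : E0.Normal := by
      refine Subgroup.normalizer_eq_top_iff.mp (eq_top_iff.mpr (hE.sup_eq_top.ge.trans (sup_le ?_ ?_)))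
      · intro k hk
        refine Subgroup.centralizer_le_normalizer _ (Subgroup.mem_centralizer_iff.mpr fun e he => ?_)
        exact (Subgroup.mem_centralizer_iff.mp he.2 k hk).symm
      · intro f hf
        rw [Subgroup.mem_normalizer_iff]
        intro e
        have hC : (Subgroup.centralizer (K : Set G)).Normal := inferInstance
        constructor
        · exact fun he => ⟨E.mul_mem (E.mul_mem hf he.1) (E.inv_mem hf), hC.conj_mem e he.2 f⟩
        · intro he
          refine ⟨?_, ?_⟩
          · have := E.mul_mem (E.mul_mem (E.inv_mem hf) he.1) hf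
            simpa [mul_assoc] using this
          · have := hC.conj_mem _ he.2 f⁻¹
            simpa [mul_assoc] using this
    have hnil : Group.IsNilpotent E0 := by
      refine Cfsg.Agent.Components.isNilpotent_of_le (hCN z₀ hz01) fun e he => ?_
      exact Subgroup.mem_centralizer_singleton_iff.mpr
        (Subgroup.mem_centralizer_iff.mp he.2 z₀ (z : K).2).symm
    have hhall : (Nat.card E0).Coprime E0.index := by
      refine Nat.coprime_of_dvd fun r hr hr1 hr2 => ?_
      haveI := Fact.mk hr
      -- the Sylow `r`-subgroup of `E` lies in `E0`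
      obtain ⟨R⟩ : Nonempty (Sylow r E) := inferInstance
      have hR0 : (R : Subgroup E) ≤ E0.subgroupOf E := by
        haveI : (E0.subgroupOf E).Normal := hnorm.subgroupOf E
        have hcard : Nat.card (E0.subgroupOf E) = Nat.card E0 :=
          Nat.card_congr (Subgroup.subgroupOfEquivOfLe inf_le_left).toEquiv
        obtain ⟨Q, hQ⟩ := Cfsg.Agent.Thompson.exists_sylow_inf_normal R (E0.subgroupOf E)
        have hne0 : (R : Subgroup E) ⊓ E0.subgroupOf E ≠ ⊥ := by
          intro hbot
          rw [hbot, Subgroup.map_eq_bot_iff_of_injective _ (E0.subgroupOf E).subtype_injective] at hQ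
          have := Q.not_dvd_index
          rw [hQ, Subgroup.index_bot, hcard] at this
          exact this hr1
        have hne1 : (E0.subgroupOf E).subgroupOf (R : Subgroup E) ≠ ⊥ := by
          rw [ne_eq, Subgroup.subgroupOf_eq_bot, disjoint_iff, inf_comm]
          exact hne0
        obtain ⟨c, hc, hc1⟩ := (Subgroup.bot_or_exists_ne_one _).resolve_left
          (Cfsg.Agent.PGroups.inf_center_ne_bot R.isPGroup'
            ((E0.subgroupOf E).subgroupOf (R : Subgroup E)) hne1)
        set c₀ : G := ((c : E) : G) with hc₀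
        have hc01 : c₀ ≠ 1 := fun h => hc1 (Subtype.ext (Subtype.ext h))
        have hcE0 : c₀ ∈ E0 := hc.1
        intro a ha
        refine Subgroup.mem_subgroupOf.mpr ⟨a.2, Subgroup.mem_centralizer_iff.mpr fun k hk => ?_⟩
        have h1 := congrArg (fun t : (R : Subgroup E) => ((t : E) : G))
          (Subgroup.mem_center_iff.mp hc.2 ⟨a, ha⟩)
        exact hcc c₀ hc01 k hk (a : G) a.2
          (Subgroup.mem_centralizer_iff.mp hcE0.2 k hk).symm h1.symm
      -- `r` divides neither `[E : E0]` nor `|K|`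
      have h4 : E0.index = E0.relIndex E * E.index :=
        (Subgroup.relIndex_mul_index inf_le_left).symm
      rw [h4] at hr2
      rcases hr.dvd_mul.mp hr2 with h5 | h5
      · exact R.not_dvd_index (h5.trans (Subgroup.index_dvd_of_le hR0))
      · rw [hE.index_eq_card] at h5
        have h6 : r ∣ K.index := hEc ▸ hr1.trans (Subgroup.card_dvd_of_le inf_le_left)
        exact hr.one_lt.ne' (Nat.eq_one_of_dvd_coprimes hKhall h5 h6)
    have : E0 ≤ K := le_sSup ⟨hnorm, hnil, hhall⟩
    exact hne (le_bot_iff.mp (hE.disjoint.eq_bot ▸ le_inf this inf_le_left))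
  have hfpf : ∀ e ∈ E, e ≠ 1 → K ⊓ Subgroup.centralizer ({e} : Set G) = ⊥ := by
    intro e he he1
    refine (Subgroup.eq_bot_iff_forall _).mpr fun x hx => ?_
    by_contra hx1
    have := hin e he x hx.1 hx1 (Subgroup.mem_centralizer_singleton_iff.mp hx.2).symm
    rw [hE0bot, Subgroup.mem_bot] at this
    exact he1 this
  have hE1 : E ≠ ⊥ := fun h => hKt (Subgroup.isComplement'_bot_right.mp (h ▸ hE))
  refine ⟨hK1, hKt, ⟨E, hE, ?_, hfpf⟩, ?_⟩
  · refine Cfsg.Agent.Frobenius.of_fixedPointFree hE hK1 hE1 fun e he he1 k hk hek => ?_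
    have h1 : k ∈ K ⊓ Subgroup.centralizer ({e} : Set G) :=
      ⟨hk, Subgroup.mem_centralizer_singleton_iff.mpr hek.symm⟩
    rwa [hfpf e he he1, Subgroup.mem_bot] at h1
  · -- `E` centralizes one of its nonidentity elements
    obtain ⟨c, hc, hc1⟩ := (Subgroup.bot_or_exists_ne_one _).resolve_left
      (Cfsg.Agent.S0069.result K E hE hK1 hE1 hfpf)
    have hle : E ≤ Subgroup.centralizer ({(c : G)} : Set G) := fun f hf =>
      Subgroup.mem_centralizer_singleton_iff.mpr
        (congrArg Subtype.val (Subgroup.mem_center_iff.mp hc ⟨f, hf⟩))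
    haveI : Group.IsNilpotent E := Cfsg.Agent.Components.isNilpotent_of_le
      (hCN c fun h => hc1 (Subtype.ext h)) hle
    exact Group.nilpotent_of_mulEquiv (hE.symm.QuotientMulEquiv).symm

end Cfsg.Agent.S1474
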