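import Cfsg.Statements.S2568
import Cfsg.Agent.H54.RegularClasses
-- import your own Cfsg.Agent.* helpers here

set_option autoImplicit false
set_option linter.style.haveILetI false
open Cfsg

namespace Cfsg.Agent.S2568

open Polynomial UniqueFactorizationMonoid
open scoped MatrixGroups

section poly

variable {F : Type*} [Field F] [DecidableEq F]

theorem normalizedFactors_prod_monic (s : Multiset F[X]) (hs : ∀ a ∈ s, Irreducible a ∧ a.Monic) :
    normalizedFactors s.prod = s := by
  induction s using Multiset.induction_on with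
  | empty => simp
  | cons a s ih =>
    have ha := hs a (Multiset.mem_cons_self a s)
    have hs' := fun b hb => hs b (Multiset.mem_cons_of_mem hb)
    have h0 : s.prod ≠ 0 := Multiset.prod_ne_zero fun h => (hs' 0 h).1.ne_zero rfl
    rw [Multiset.prod_cons, normalizedFactors_mul ha.1.ne_zero h0, ih hs',
      normalizedFactors_irreducible ha.1, ha.2.normalize_eq_self, Multiset.singleton_add]

theorem monic_of_mem_normalizedFactors {f a : F[X]} (h : a ∈ normalizedFactors f) : a.Monic := by
  rw [← normalize_normalized_factor a h]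
  exact monic_normalize (irreducible_of_normalized_factor a h).ne_zero

theorem eq_map_some_add_replicate {α : Type*} (s : Multiset (Option α)) :
    s = (s.filterMap id).map some +
      Multiset.replicate (Multiset.card s - Multiset.card (s.filterMap id)) none := by
  induction s using Multiset.induction_on with
  | empty => simp
  | cons a s ih =>
    have hle : Multiset.card (s.filterMap id) ≤ Multiset.card s := by
      have := congrArg Multiset.card ih
      rw [Multiset.card_add, Multiset.card_map, Multiset.card_replicate] at this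
      omega
    cases a with
    | none =>
      rw [Multiset.filterMap_cons_none _ _ rfl, Multiset.card_cons, Nat.succ_sub hle,
        Multiset.replicate_succ, Multiset.add_cons, ← ih]
    | some b =>
      rw [Multiset.filterMap_cons_some id _ _ rfl, Multiset.card_cons, Multiset.card_cons,
        Nat.add_sub_add_right, Multiset.map_cons, Multiset.cons_add, ← ih]

end poly

variable {F : Type*} [Field F] [Fintype F] {p : ℕ} [Fact p.Prime] [CharP F p] {n : ℕ}

omit [Fintype F] in
/-- The factors of the characteristic polynomial of a matrix with `g ^ r = 1` divide `X ^ r - 1`. -/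
theorem dvd_of_factor (g : GL (Fin n) F) {r : ℕ} (hg : g ^ r = 1) {f : F[X]} (hf : Irreducible f)
    (hfd : f ∣ (g : Matrix (Fin n) (Fin n) F).charpoly) : f ∣ X ^ r - 1 := by
  set T : Module.End F (Fin n → F) := Matrix.toLinAlgEquiv' (g : Matrix (Fin n) (Fin n) F) with hT
  have hcp : T.charpoly = (g : Matrix (Fin n) (Fin n) F).charpoly := Matrix.charpoly_toLin' _
  obtain ⟨v, hv, hfv⟩ := H54.exists_ne_zero_aeval_eq_zero T hf (hcp ▸ hfd)
  by_contra hdvd
  obtain ⟨a, b, hab⟩ := (hf.coprime_iff_not_dvd).2 hdvd
  have hTr : T ^ r = 1 := by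
    rw [hT, ← map_pow, ← Units.val_pow_eq_pow_val, hg, Units.val_one, map_one]
  have := congrArg (fun q => Polynomial.aeval T q v) hab
  simp only [map_add, map_mul, map_one, LinearMap.add_apply, Module.End.mul_apply, hfv, map_zero,
    map_sub, map_pow, Polynomial.aeval_X, hTr, sub_self, LinearMap.zero_apply, add_zero,
    Module.End.one_apply] at this
  exact hv this.symm

/-- Every product of factors of `X ^ r - 1` of degree `n` is such a characteristic polynomial. -/
theorem exists_pow_eq_one {r : ℕ} (hrp : r.Coprime p) (ms : Multiset F[X])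
    (hms : ∀ a ∈ ms, a.Monic ∧ a ∣ X ^ r - 1) (hdeg : ms.prod.natDegree = n) :
    ∃ g : GL (Fin n) F, g ^ r = 1 ∧ (g : Matrix (Fin n) (Fin n) F).charpoly = ms.prod := by
  classical
  have hp := Fact.out (p := p.Prime)
  have hr0 : r ≠ 0 := by
    rintro rfl
    exact hp.one_lt.ne' ((Nat.coprime_zero_left p).1 hrp)
  have hmon : ms.prod.Monic := by
    simpa using monic_multiset_prod_of_monic ms id (fun a ha => (hms a ha).1)
  have h0 : ms.prod.coeff 0 ≠ 0 := by
    rw [coeff_zero_eq_eval_zero, eval_multiset_prod]
    refine Multiset.prod_ne_zero fun h => ?_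
    obtain ⟨a, ha, ha0⟩ := Multiset.mem_map.1 h
    obtain ⟨c, hc⟩ := (hms a ha).2
    have := congrArg (Polynomial.eval (0 : F)) hc
    simp [hr0, ha0] at this
  obtain ⟨s, hs, hsf⟩ := H54.exists_regular_charpoly p hmon hdeg h0
  refine ⟨s, ?_, hsf⟩
  have hdvd : ms.prod ∣ (X ^ r - 1) ^ Multiset.card ms := by
    clear hdeg hmon h0 hsf
    induction ms using Multiset.induction_on with
    | empty => simp
    | cons a ms ih =>
      rw [Multiset.prod_cons, Multiset.card_cons, pow_succ']
      exact mul_dvd_mul (hms a (Multiset.mem_cons_self a ms)).2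
        (ih fun b hb => hms b (Multiset.mem_cons_of_mem hb))
  obtain ⟨c, hc⟩ := hdvd
  have hz : ((s : Matrix (Fin n) (Fin n) F) ^ r - 1) ^ Multiset.card ms = 0 := by
    have := congrArg (Polynomial.aeval (s : Matrix (Fin n) (Fin n) F)) hc
    rw [map_pow, map_sub, map_pow, aeval_X, map_one, map_mul, ← hsf, Matrix.aeval_self_charpoly,
      zero_mul] at this
    exact this
  rcases Nat.eq_zero_or_pos n with hn | hn
  · subst hn
    exact Subsingleton.elim _ _
  haveI : Nonempty (Fin n) := ⟨⟨0, hn⟩⟩
  haveI : CharP (Matrix (Fin n) (Fin n) F) p := Matrix.charP p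
  set k := Multiset.card ms
  have hpk : (s ^ r) ^ p ^ k = 1 := by
    apply Units.ext
    rw [Units.val_pow_eq_pow_val, Units.val_pow_eq_pow_val, Units.val_one, ← sub_eq_zero]
    have hz' : ((s : Matrix (Fin n) (Fin n) F) ^ r - 1) ^ p ^ k = 0 :=
      pow_eq_zero_of_le (hp.one_lt |> fun h => (Nat.lt_pow_self h).le) hz
    rwa [sub_pow_char_pow_of_commute p k (Commute.one_right _), one_pow] at hz'
  have h1 : orderOf (s ^ r) ∣ p ^ k := orderOf_dvd_of_pow_eq_one hpk
  have h2 : (orderOf (s ^ r)).Coprime (p ^ k) :=
    Nat.Coprime.pow_right k (Nat.Coprime.coprime_dvd_left (orderOf_pow_dvd r) hs)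
  exact orderOf_eq_one_iff.1 (Nat.eq_one_of_dvd_coprimes h2 dvd_rfl h1)

/-- The classes of solutions of `g ^ r = 1` in `GL n F`. -/
theorem card_classes_pow {q r i t : ℕ} (hF : Fintype.card F = q) (hr : r.Prime) (hrp : r ≠ p)
    (hi : i = orderOf (q : ZMod r)) (ht : t * i = r - 1) :
    Nat.card {C : ConjClasses (GL (Fin n) F) // ∃ g : GL (Fin n) F, ConjClasses.mk g = C ∧ g ^ r = 1} =
      Nat.choose (n / i + t) t := by
  classical
  have hp := Fact.out (p := p.Prime)
  haveI : Fact r.Prime := ⟨hr⟩
  obtain ⟨f, -, hf⟩ := FiniteField.card F p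
  have hcop : p.Coprime r := (Nat.coprime_primes hp hr).2 hrp.symm
  have hqi : orderOf (ZMod.unitOfCoprime _ (hcop.pow_left (f : ℕ))) = i := by
    rw [hi, ← orderOf_units, ZMod.coe_unitOfCoprime, ← hf, hF]
  have hi0 : 0 < i := hqi ▸ orderOf_pos _
  set K : Finset F[X] := (normalizedFactors (cyclotomic r F)).toFinset with hK
  have hKi : ∀ a ∈ K, Irreducible a ∧ a.Monic ∧ a.natDegree = i ∧ a ∣ cyclotomic r F := by
    intro a ha
    rw [hK, Multiset.mem_toFinset] at ha
    refine ⟨irreducible_of_normalized_factor a ha, monic_of_mem_normalizedFactors ha, ?_,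
      dvd_of_mem_normalizedFactors ha⟩
    exact (natDegree_of_mem_normalizedFactors_cyclotomic hf hcop ha).trans hqi
  have hKcard : K.card = t := by
    rw [hK, normalizedFactors_cyclotomic_card hf hcop, hqi, Nat.totient_prime hr, ← ht,
      Nat.mul_div_cancel _ hi0]
  have hsplit := cyclotomic_prime_mul_X_sub_one F r
  have hone : (X - 1 : F[X]) ∉ K := by
    intro h
    have hd := mul_dvd_mul (hKi _ h).2.2.2 (dvd_refl (X - 1 : F[X]))
    rw [hsplit] at hd
    have hsq : Squarefree (X ^ r - 1 : F[X]) := by
      have := Polynomial.separable_X_pow_sub_C (1 : F) (n := r)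
        (by rw [Ne, CharP.cast_eq_zero_iff F p]; exact fun h => hrp ((Nat.prime_dvd_prime_iff_eq hp hr).1 h).symm)
        one_ne_zero
      rw [C_1] at this
      exact this.squarefree
    exact (hKi _ h).1.not_isUnit (hsq _ hd)
  have hX1 : Irreducible (X - 1 : F[X]) ∧ (X - 1 : F[X]).Monic ∧ (X - 1 : F[X]).natDegree = 1 := by
    rw [← C_1]
    exact ⟨irreducible_X_sub_C 1, monic_X_sub_C 1, natDegree_X_sub_C 1⟩
  let fac : Multiset K → Multiset F[X] := fun u =>
    Multiset.replicate (n - i * Multiset.card u) (X - 1) + u.map Subtype.val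
  have hfacmem : ∀ u, ∀ a ∈ fac u, Irreducible a ∧ a.Monic ∧ a ∣ X ^ r - 1 := by
    intro u a ha
    rcases Multiset.mem_add.1 ha with ha | ha
    · rw [Multiset.eq_of_mem_replicate ha]
      exact ⟨hX1.1, hX1.2.1, hsplit ▸ dvd_mul_left _ _⟩
    · obtain ⟨b, -, rfl⟩ := Multiset.mem_map.1 ha
      exact ⟨(hKi _ b.2).1, (hKi _ b.2).2.1, (hKi _ b.2).2.2.2.trans (hsplit ▸ dvd_mul_right _ _)⟩
  have hfacdeg : ∀ u, i * Multiset.card u ≤ n → (fac u).prod.natDegree = n := by
    intro u hu
    rw [natDegree_multiset_prod_of_monic _ (fun a ha => (hfacmem u a ha).2.1), Multiset.map_add,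
      Multiset.map_replicate, hX1.2.2, Multiset.map_map, Multiset.sum_add, Multiset.sum_replicate,
      (Multiset.map_congr rfl (fun b _ => (hKi _ b.2).2.2.1) :
        u.map (natDegree ∘ Subtype.val) = u.map fun _ => i),
      Multiset.map_const', Multiset.sum_replicate, smul_eq_mul, smul_eq_mul, mul_one, mul_comm _ i]
    omega
  have hbound : ∀ σ : Sym (Option K) (n / i),
      i * Multiset.card ((σ : Multiset (Option K)).filterMap id) ≤ n := by
    intro σ
    have h1 := congrArg Multiset.card (eq_map_some_add_replicate (σ : Multiset (Option K)))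
    rw [Multiset.card_add, Multiset.card_map, Multiset.card_replicate, Sym.card_coe] at h1
    exact le_trans (Nat.mul_le_mul_left i (by omega)) (Nat.mul_div_le n i)
  have hex : ∀ σ : Sym (Option K) (n / i), ∃ g : GL (Fin n) F, g ^ r = 1 ∧
      (g : Matrix (Fin n) (Fin n) F).charpoly = (fac ((σ : Multiset (Option K)).filterMap id)).prod :=
    fun σ => exists_pow_eq_one (p := p) hcop.symm _ (fun a ha => (hfacmem _ a ha).2)
      (hfacdeg _ (hbound σ))
  choose g hg1 hg2 using hex
  have hco : ∀ x : GL (Fin n) F, x ^ r = 1 → (orderOf x).Coprime p := fun x hx =>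
    Nat.Coprime.coprime_dvd_left (orderOf_dvd_of_pow_eq_one hx) hcop.symm
  let Φ : Sym (Option K) (n / i) →
      {C : ConjClasses (GL (Fin n) F) // ∃ g : GL (Fin n) F, ConjClasses.mk g = C ∧ g ^ r = 1} :=
    fun σ => ⟨ConjClasses.mk (g σ), g σ, rfl, hg1 σ⟩
  have hΦ : Function.Bijective Φ := by
    constructor
    · intro σ τ h
      have hc : ConjClasses.mk (g σ) = ConjClasses.mk (g τ) := congrArg Subtype.val h
      have h1 : (fac ((σ : Multiset (Option K)).filterMap id)).prod =
          (fac ((τ : Multiset (Option K)).filterMap id)).prod := by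
        rw [← hg2, ← hg2]
        obtain ⟨c, hc⟩ := isConj_iff.1 (ConjClasses.mk_eq_mk_iff_isConj.1 hc)
        rw [← hc, Units.val_mul, Units.val_mul]
        rw [Matrix.coe_units_inv]
        exact (Matrix.charpoly_units_conj c _).symm
      have h2 := congrArg normalizedFactors h1
      rw [normalizedFactors_prod_monic _ (fun a ha => ⟨(hfacmem _ a ha).1, (hfacmem _ a ha).2.1⟩),
        normalizedFactors_prod_monic _ (fun a ha => ⟨(hfacmem _ a ha).1, (hfacmem _ a ha).2.1⟩)] at h2
      have hfil : ∀ u : Multiset K, (fac u).filter (· ∈ K) = u.map Subtype.val := by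
        intro u
        rw [Multiset.filter_add, Multiset.filter_eq_nil.2 (fun a ha => by
          rw [Multiset.eq_of_mem_replicate ha]; exact hone), zero_add, Multiset.filter_eq_self.2]
        intro a ha
        obtain ⟨b, -, rfl⟩ := Multiset.mem_map.1 ha
        exact b.2
      have h3 := congrArg (Multiset.filter (· ∈ K)) h2
      rw [hfil, hfil] at h3
      have h4 := Multiset.map_injective Subtype.val_injective h3
      apply Sym.coe_injective
      rw [eq_map_some_add_replicate (σ : Multiset (Option K)),
        eq_map_some_add_replicate (τ : Multiset (Option K)), Sym.card_coe, Sym.card_coe, h4]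
    · rintro ⟨_, x, rfl, hx⟩
      set P := (x : Matrix (Fin n) (Fin n) F).charpoly with hP
      set ms := normalizedFactors P with hms
      have hP0 : P ≠ 0 := (Matrix.charpoly_monic _).ne_zero
      have hprod : ms.prod = P := by
        refine eq_of_monic_of_associated ?_ (Matrix.charpoly_monic _) (prod_normalizedFactors hP0)
        simpa using monic_multiset_prod_of_monic ms id (fun a ha => monic_of_mem_normalizedFactors ha)
      have hcases : ∀ a ∈ ms, a ∈ K ∨ a = X - 1 := by
        intro a ha
        have hai := irreducible_of_normalized_factor a ha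
        have hd := dvd_of_factor x hx hai (dvd_of_mem_normalizedFactors ha)
        rw [← hsplit] at hd
        rcases hai.prime.dvd_or_dvd hd with h | h
        · left
          rw [hK, Multiset.mem_toFinset]
          obtain ⟨b, hb, hab⟩ := exists_mem_normalizedFactors_of_dvd (cyclotomic_ne_zero r F) hai h
          rwa [eq_of_monic_of_associated (monic_of_mem_normalizedFactors ha)
            (monic_of_mem_normalizedFactors hb) hab]
        · right
          exact eq_of_monic_of_associated (monic_of_mem_normalizedFactors ha) hX1.2.1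
            (hai.associated_of_dvd hX1.1 h)
      obtain ⟨u, hu⟩ : ∃ u : Multiset K, u.map Subtype.val = ms.filter (· ∈ K) :=
        ⟨(ms.filter (· ∈ K)).pmap (fun a ha => (⟨a, ha⟩ : K)) (fun a ha => (Multiset.mem_filter.1 ha).2), by
          rw [Multiset.map_pmap]; simp [Multiset.pmap_eq_map]⟩
      have hrest : ms.filter (fun a => a ∉ K) =
          Multiset.replicate (Multiset.card (ms.filter (fun a => a ∉ K))) (X - 1) :=
        Multiset.eq_replicate_of_mem fun a ha =>
          (hcases a (Multiset.mem_of_mem_filter ha)).resolve_left (Multiset.mem_filter.1 ha).2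
      have hdegsum : i * Multiset.card u + Multiset.card (ms.filter (fun a => a ∉ K)) = n := by
        have h1 : ms.prod.natDegree = n := by
          rw [hprod, hP, Matrix.charpoly_natDegree_eq_dim, Fintype.card_fin]
        rw [natDegree_multiset_prod_of_monic _ (fun a ha => monic_of_mem_normalizedFactors ha),
          ← hms, ← Multiset.filter_add_not (· ∈ K) ms, ← hu, hrest, Multiset.map_add, Multiset.sum_add,
          Multiset.map_map, Multiset.map_replicate, hX1.2.2, Multiset.sum_replicate,
          (Multiset.map_congr rfl (fun b _ => (hKi _ b.2).2.2.1) :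
        u.map (natDegree ∘ Subtype.val) = u.map fun _ => i),
          Multiset.map_const', Multiset.sum_replicate, smul_eq_mul, smul_eq_mul, mul_one] at h1
        rw [mul_comm]
        exact h1
      have hule : Multiset.card u ≤ n / i := (Nat.le_div_iff_mul_le hi0).2 (by rw [mul_comm]; omega)
      let σ : Sym (Option K) (n / i) :=
        ⟨u.map some + Multiset.replicate (n / i - Multiset.card u) none, by
          rw [Multiset.card_add, Multiset.card_map, Multiset.card_replicate]; omega⟩
      refine ⟨σ, Subtype.ext ?_⟩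
      show ConjClasses.mk (g σ) = ConjClasses.mk x
      rw [ConjClasses.mk_eq_mk_iff_isConj]
      refine H54.isConj_GL p (hco _ (hg1 σ)) (hco _ hx) ?_
      rw [hg2]
      have hσ : (σ : Multiset (Option K)).filterMap id = u := by
        show (u.map some + Multiset.replicate _ none).filterMap id = u
        rw [Multiset.filterMap_add, Multiset.filterMap_map]
        have hrep : ∀ m : ℕ, (Multiset.replicate m (none : Option K)).filterMap id = 0 := by
          intro m
          induction m with
          | zero => simp
          | succ m ih => rw [Multiset.replicate_succ, Multiset.filterMap_cons_none _ _ rfl, ih]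
        rw [hrep, add_zero]
        exact Multiset.filterMap_some u
      rw [hσ]
      show (Multiset.replicate (n - i * Multiset.card u) (X - 1) + u.map Subtype.val).prod = P
      rw [show n - i * Multiset.card u = Multiset.card (ms.filter (fun a => a ∉ K)) by omega, ← hrest,
        hu, add_comm, Multiset.filter_add_not, hprod]
  rw [← Nat.card_congr (Equiv.ofBijective Φ hΦ), Nat.card_eq_fintype_card,
    Sym.card_sym_eq_multichoose, Fintype.card_option, Fintype.card_coe, hKcard, Nat.multichoose_eq,
    show t + 1 + n / i = n / i + t + 1 by ring, Nat.add_sub_cancel]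
  exact Nat.choose_symm_add


/-- Number of conjugacy classes of elements of a given prime order r, coprime to the characteristic, in GL_n(q): if i is the multiplicative order of q modulo r and t = (r − 1)/i, the classes correspond to the non-zero t-tuples of natural numbers (a_1, …, a_t) with i(a_1 + ⋯ + a_t) ≤ n (a_j is the multiplicity of the j-th Frobenius orbit of nontrivial r-th roots of unity among the eigenvalues), so there are exactly C(⌊n/i⌋ + t, t) − 1 of them. -/
theorem result {F : Type*} [Field F] [Fintype F] {p q : ℕ} [Fact p.Prime] [CharP F p] (hF : Fintype.card F = q) (n r i t : ℕ) (hr : r.Prime) (hrp : r ≠ p) (hi : i = orderOf (q : ZMod r)) (ht : t * i = r - 1) : Nat.card {C : ConjClasses (GL (Fin n) F) // ∃ g : GL (Fin n) F, ConjClasses.mk g = C ∧ orderOf g = r} = Nat.choose (n / i + t) t - 1 := by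
  classical
  have h := card_classes_pow (F := F) (p := p) (n := n) hF hr hrp hi ht
  haveI : Finite (ConjClasses (GL (Fin n) F)) := inferInstance
  have hset : {C : ConjClasses (GL (Fin n) F) | ∃ g : GL (Fin n) F, ConjClasses.mk g = C ∧ orderOf g = r} =
      {C : ConjClasses (GL (Fin n) F) | ∃ g : GL (Fin n) F, ConjClasses.mk g = C ∧ g ^ r = 1} \
        {ConjClasses.mk 1} := by
    ext C
    simp only [Set.mem_ofPred_eq, Set.mem_sdiff, Set.mem_singleton_iff]
    constructor
    · rintro ⟨g, rfl, hg⟩
      refine ⟨⟨g, rfl, hg ▸ pow_orderOf_eq_one g⟩, fun h1 => ?_⟩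
      rw [ConjClasses.mk_eq_mk_iff_isConj, isConj_one_left] at h1
      exact hr.one_lt.ne (by rw [← hg, h1, orderOf_one])
    · rintro ⟨⟨g, rfl, hg⟩, h1⟩
      haveI : Fact r.Prime := ⟨hr⟩
      exact ⟨g, rfl, orderOf_eq_prime hg fun h => h1 (by rw [h])⟩
  have hmem : ConjClasses.mk (1 : GL (Fin n) F) ∈
      {C : ConjClasses (GL (Fin n) F) | ∃ g : GL (Fin n) F, ConjClasses.mk g = C ∧ g ^ r = 1} :=
    ⟨1, rfl, one_pow r⟩
  rw [← Set.coe_ofPred, Nat.card_coe_set_eq, hset, Set.ncard_sdiff_singleton_of_mem hmem,
    ← Nat.card_coe_set_eq, Set.coe_ofPred, h]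

end Cfsg.Agent.S2568
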