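import Cfsg.Statements.S1475
import Cfsg.Agent.Hall.ThreePrimes

set_option autoImplicit false
open Cfsg

namespace Cfsg.Agent.S1475

/-- Let G be a finite solvable group such that the order of every element is a prime power (1 included). Then at most two distinct primes divide the order of G. -/
theorem result {G : Type*} [Group G] [Finite G] [Group.IsSolvable G] (h : ∀ g : G, IsPrimePow (orderOf g) ∨ g = 1) :
    (Nat.card G).primeFactors.card ≤ 2 := by
  classical
  by_contra hc
  push Not at hc
  refine Cfsg.Agent.Hall.three_primes_false (Nat.card G).primeFactors (by omega)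
    (fun r hr => ⟨Nat.prime_of_mem_primeFactors hr, Nat.dvd_of_mem_primeFactors hr⟩) ?_
  rintro r hr s hs hrs ⟨x, hx⟩
  have hr' := Nat.prime_of_mem_primeFactors hr
  have hs' := Nat.prime_of_mem_primeFactors hs
  rcases h x with h1 | h1
  · obtain ⟨q, n, hq, -, hqn⟩ := h1
    rw [hx] at hqn
    have hr2 : r ∣ q := hr'.dvd_of_dvd_pow (hqn ▸ dvd_mul_right r s)
    have hs2 : s ∣ q := hs'.dvd_of_dvd_pow (hqn ▸ dvd_mul_left s r)
    have hqp : q.Prime := Nat.prime_iff.mpr hq
    exact hrs (((Nat.prime_dvd_prime_iff_eq hr' hqp).mp hr2).trans ((Nat.prime_dvd_prime_iff_eq hs' hqp).mp hs2).symm)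
  · rw [h1, orderOf_one] at hx
    exact hr'.one_lt.ne' (Nat.eq_one_of_mul_eq_one_right hx.symm)

end Cfsg.Agent.S1475
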