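import Cfsg.Statements.S3331
import Cfsg.Agent.H66.SelfThree.Main
import Cfsg.Agent.H66.OrderSixty
import Cfsg.Agent.S0495
-- import your own Cfsg.Agent.* helpers here

set_option autoImplicit false
open Cfsg

namespace Cfsg.Agent.S3331

open Subgroup Cfsg.Agent.H66.SelfThree

/-- A group of order six with an involution not commuting with an element of order three. -/
theorem equiv_perm_three {Q : Type*} [Group Q] [Finite Q] (h6 : Nat.card Q = 6) {q a : Q}
    (hq : q * q = 1) (hq1 : q ≠ 1) (hnc : ¬ q * a = a * q) :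
    Nonempty (Q ≃* Equiv.Perm (Fin 3)) := by
  classical
  have : Fact (Nat.Prime 2) := ⟨Nat.prime_two⟩
  have ho : orderOf q = 2 := orderOf_eq_prime (by rw [pow_two]; exact hq) hq1
  have hidx : (zpowers q).index = 3 := by
    have e := (zpowers q).index_mul_card
    rw [Nat.card_zpowers, ho, h6] at e
    omega
  have : Fintype (Q ⧸ zpowers q) := Fintype.ofFinite _
  have hc3 : Fintype.card (Q ⧸ zpowers q) = 3 := by
    rw [← Nat.card_eq_fintype_card, ← Subgroup.index_eq_card, hidx]
  let φ : Q →* Equiv.Perm (Fin 3) :=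
    ((Fintype.equivFinOfCardEq hc3).permCongrHom).toMonoidHom.comp
      (MulAction.toPermHom Q (Q ⧸ zpowers q))
  have hker : φ.ker = ⊥ := by
    have hk : φ.ker = (MulAction.toPermHom Q (Q ⧸ zpowers q)).ker := by
      ext z; simp [φ, MonoidHom.mem_ker]
    rw [hk, ← Subgroup.normalCore_eq_ker]
    by_contra hne
    obtain ⟨⟨z, hz⟩, hz1⟩ := (Subgroup.ne_bot_iff_exists_ne_one.1 hne)
    have hcases : ∀ w ∈ zpowers q, w = 1 ∨ w = q := by
      rintro w ⟨k, rfl⟩
      show q ^ k = 1 ∨ q ^ k = q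
      rw [← zpow_mod_orderOf, ho]
      rcases Int.emod_two_eq k with e | e <;> simp [e]
    have hzq : z = q := (hcases z (normalCore_le _ hz)).resolve_left fun e => hz1 (Subtype.ext e)
    have hm : a * q * a⁻¹ ∈ zpowers q :=
      normalCore_le _ ((normalCore_normal _).conj_mem q (hzq ▸ hz) a)
    rcases hcases _ hm with e | e
    · exact hq1 (by rwa [mul_inv_eq_one, mul_eq_left] at e)
    · exact hnc (mul_inv_eq_iff_eq_mul.1 e).symm
  have hinj : Function.Injective φ := (MonoidHom.ker_eq_bot_iff φ).1 hker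
  exact ⟨MulEquiv.ofBijective φ ((Nat.bijective_iff_injective_and_card φ).2
    ⟨hinj, by rw [h6, Nat.card_perm, Nat.card_fin]; rfl⟩)⟩

/-- Let G be a finite group containing a subgroup X of order 3 with C_G(X) = X. Then one of the following holds: G has a nilpotent normal subgroup N of order prime to 3 with G/N of order 3 or isomorphic to Sym(3); or G has an elementary abelian normal 2-subgroup N with G/N isomorphic to the alternating group of degree 5; or G is isomorphic to PSL(2,7). -/
theorem result {G : Type*} [Group G] [Finite G]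
    (X : Subgroup G) (hX : Nat.card X = 3) (hC : Subgroup.centralizer (X : Set G) = X) :
    (∃ (N : Subgroup G) (hN : N.Normal), Group.IsNilpotent N ∧ (Nat.card N).Coprime 3 ∧
        (Nat.card (G ⧸ N) = 3 ∨ Nonempty (G ⧸ N ≃* Equiv.Perm (Fin 3)))) ∨
    (∃ (N : Subgroup G) (hN : N.Normal), IsMulCommutative N ∧ (∀ n ∈ N, n ^ 2 = 1) ∧
        Nonempty (G ⧸ N ≃* alternatingGroup (Fin 5))) ∨
    Nonempty (G ≃* Matrix.ProjectiveSpecialLinearGroup (Fin 2) (ZMod 7)) := by
  classical
  have : Fact (Nat.Prime 3) := ⟨Nat.prime_three⟩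
  obtain ⟨⟨x, hxX⟩, hx⟩ := exists_prime_orderOf_dvd_card' (G := X) 3 (by rw [hX])
  have hx3 : orderOf x = 3 := (Subgroup.orderOf_coe (⟨x, hxX⟩ : X)).trans hx
  have hXz : zpowers x = X := Subgroup.eq_of_le_of_card_ge (zpowers_le.2 hxX)
    (by rw [hX, Nat.card_zpowers, hx3])
  have hsc : SC x := ⟨hx3, fun g hg => by
    rw [hXz, ← hC, mem_centralizer_iff]
    intro z hz
    rw [← hXz] at hz
    obtain ⟨k, rfl⟩ := hz
    exact ((Commute.zpow_right (show Commute g x from hg) k)).eq.symm⟩
  obtain ⟨R, hR, hc, h1 | ⟨h6, q, hq, hq1, hnc⟩ | ⟨hsimp, hnc, hcard, u, hu⟩⟩ := shape hsc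
  · exact Or.inl ⟨R, hR, (Inv3.of_normal x hR hc).nilpotent hsc,
      (Nat.prime_three.coprime_iff_not_dvd.2 hc).symm,
      Or.inl ((Subgroup.index_eq_card R).symm.trans h1)⟩
  · exact Or.inl ⟨R, hR, (Inv3.of_normal x hR hc).nilpotent hsc,
      (Nat.prime_three.coprime_iff_not_dvd.2 hc).symm,
      Or.inr (equiv_perm_three ((Subgroup.index_eq_card R).symm.trans h6) hq hq1 hnc)⟩
  have hab := abelian_of_simple_quotient hsc hc hnc
  rcases hcard with h60 | h168
  · refine Or.inr (Or.inl ⟨R, hR, ⟨⟨fun a b => Subtype.ext (hab _ a.2 _ b.2)⟩⟩, ?_, ?_⟩)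
    all_goals
      have hns : Nat.card (Sylow 5 (G ⧸ R)) ≠ 1 := fun e => by
        have : Fact (Nat.Prime 5) := ⟨by norm_num⟩
        have : Subsingleton (Sylow 5 (G ⧸ R)) := (Nat.card_eq_one_iff_unique.1 e).1
        obtain ⟨P⟩ := (inferInstance : Nonempty (Sylow 5 (G ⧸ R)))
        have hP : Nat.card (P : Subgroup (G ⧸ R)) = 5 := by
          rw [P.card_eq_multiplicity, h60, show (60 : ℕ) = 5 * 12 by norm_num,
            Nat.factorization_mul (by norm_num) (by norm_num), Finsupp.add_apply,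
            Nat.Prime.factorization_self (by norm_num),
            Nat.factorization_eq_zero_of_not_dvd (by norm_num : ¬ 5 ∣ 12), add_zero, pow_one]
        rcases (Sylow.normal_of_subsingleton P).eq_bot_or_eq_top with e' | e'
        · rw [e', Subgroup.card_bot] at hP; omega
        · rw [e', Subgroup.card_top, h60] at hP; omega
      obtain ⟨e⟩ := Cfsg.Agent.H66.iso_altFive h60 hns
    · exact fun n hn => sq_eq_one_of_altFive hsc hc hab hu e.symm n hn
    · exact ⟨e⟩
  · right; right
    have hbot := eq_bot_of_card_168 hsc hc hab hu h168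
    subst hbot
    have e : G ≃* G ⧸ (⊥ : Subgroup G) := QuotientGroup.quotientBot.symm
    have : Fact (Nat.Prime 7) := ⟨by norm_num⟩
    obtain ⟨e'⟩ := Cfsg.Agent.S0495.result (G := G ⧸ (⊥ : Subgroup G)) h168
      (F := ZMod 7) (hF := ZMod.card 7)
    exact ⟨e.trans e'⟩


end Cfsg.Agent.S3331
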