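import Cfsg.Statements.S5045
import Cfsg.Agent.H87.InvBlocks
-- import your own Cfsg.Agent.* helpers here

set_option autoImplicit false
open Cfsg

namespace Cfsg.Agent.S5045

open Cfsg.Agent.H87
open scoped commutatorElement

theorem line_reach {G : Type*} [Group G] {D : Set G} (hD : Cfsg.IsRootInvolutionSet D) {d e : G}
    (hde : Commute d e) (hm : d * e ∈ D) (hd : ∃ z, Cfsg.OddAdj D d z) (he : ∃ x, Cfsg.OddAdj D e x) :
    Relation.ReflTransGen (Cfsg.OddAdj D) e d := by
  obtain ⟨z, hz⟩ := hd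
  obtain ⟨x, hx⟩ := he
  rcases Inv.third hD hde hx.1 hm (Inv.odd_symm hD hz) with h | h
  · exact (Relation.ReflTransGen.single (Inv.odd_symm hD h)).tail (Inv.odd_symm hD hz)
  rcases Inv.third hD hde.symm hz.1 (hde.eq ▸ hm) (Inv.odd_symm hD hx) with h' | h'
  · exact (Relation.ReflTransGen.single hx).tail h'
  · rw [← hde.eq] at h'
    exact (((Relation.ReflTransGen.single hx).tail h').tail (Inv.odd_symm hD h)).tail (Inv.odd_symm hD hz)

theorem exists_partner {G : Type*} [Group G] {D : Set G} {a : G}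
    (h : ∃ a' ∈ Cfsg.elemComponentOf (Cfsg.OddAdj D) D a, a' ≠ a) : ∃ x, Cfsg.OddAdj D a x := by
  obtain ⟨a', ⟨-, hr⟩, hne⟩ := h
  rcases Relation.ReflTransGen.cases_head hr with e | ⟨x, hx, -⟩
  · exact absurd e.symm hne
  · exact ⟨x, hx⟩


/-- Let G be a finite group generated by a set D of root involutions, and W the set of members of D whose product with every other member of D has even order or is trivial (the isolated vertices of the odd-order-product graph on D). Then W is conjugation-invariant and generates a normal 2-subgroup of G meeting D in exactly W; the commutator of two members of D lying in different connected components of that graph, each with more than one member, lies in the subgroup generated by W; and for a in such a component, every member of D commuting with a, different from a and with product with a in D, lies in that component or in W. -/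
theorem result {G : Type*} [Group G] [Finite G] {D : Set G} (hD : Cfsg.IsRootInvolutionSet D) :
    (∀ w ∈ {w | Cfsg.IsIsolatedElem (Cfsg.OddAdj D) D w}, ∀ g : G, g * w * g⁻¹ ∈ {w | Cfsg.IsIsolatedElem (Cfsg.OddAdj D) D w}) ∧
    (Subgroup.closure {w | Cfsg.IsIsolatedElem (Cfsg.OddAdj D) D w}).Normal ∧
    IsPGroup 2 ↥(Subgroup.closure {w | Cfsg.IsIsolatedElem (Cfsg.OddAdj D) D w}) ∧
    (Subgroup.closure {w | Cfsg.IsIsolatedElem (Cfsg.OddAdj D) D w} : Set G) ∩ D = {w | Cfsg.IsIsolatedElem (Cfsg.OddAdj D) D w} ∧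
    (∀ a ∈ D, ∀ b ∈ D, (∃ a' ∈ Cfsg.elemComponentOf (Cfsg.OddAdj D) D a, a' ≠ a) →
      (∃ b' ∈ Cfsg.elemComponentOf (Cfsg.OddAdj D) D b, b' ≠ b) →
      Cfsg.elemComponentOf (Cfsg.OddAdj D) D a ≠ Cfsg.elemComponentOf (Cfsg.OddAdj D) D b →
        a * b * a⁻¹ * b⁻¹ ∈ Subgroup.closure {w | Cfsg.IsIsolatedElem (Cfsg.OddAdj D) D w}) ∧
    (∀ a ∈ D, (∃ a' ∈ Cfsg.elemComponentOf (Cfsg.OddAdj D) D a, a' ≠ a) →
      Cfsg.productPartners D a ⊆ Cfsg.elemComponentOf (Cfsg.OddAdj D) D a ∪ {w | Cfsg.IsIsolatedElem (Cfsg.OddAdj D) D w}) := by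
  set W := {w | Cfsg.IsIsolatedElem (Cfsg.OddAdj D) D w} with hW
  have hconj : ∀ w ∈ W, ∀ g : G, g * w * g⁻¹ ∈ W := by
    refine fun w hw g => ⟨hD.conj_mem w hw.1 g, fun b => ⟨fun h => (hw.2 (g⁻¹ * b * g)).1 ?_, fun h => (hw.2 (g⁻¹ * b * g)).2 ?_⟩⟩
    all_goals
      have := Inv.odd_conj hD h g⁻¹
      simpa [mul_assoc] using this
  have hpc : Subgroup.closure W ≤ Cfsg.pCore 2 G := (Subgroup.closure_le _).2 fun w hw =>
    Inv.mem_pCore_of_no_odd hD hw.1 fun g => (hw.2 _).1
  have hmem : ∀ d ∈ D, (∀ b, ¬ Cfsg.OddAdj D d b) → d ∈ W := fun d hd h =>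
    ⟨hd, fun b => ⟨h b, fun h' => h b (Inv.odd_symm hD h')⟩⟩
  refine ⟨hconj, ⟨fun x hx g => ?_⟩, (Cores.pCore_isPGroup (G := G) (p := 2)).to_le hpc, ?_, ?_, ?_⟩
  · induction hx using Subgroup.closure_induction with
    | mem w hw => exact Subgroup.subset_closure (hconj w hw g)
    | one => simp
    | mul y z _ _ hy hz => simpa [mul_assoc] using mul_mem hy hz
    | inv y _ hy => simpa [mul_assoc] using inv_mem hy
  · refine Set.Subset.antisymm (fun d hd => hmem d hd.2 fun b => Inv.not_odd_of_mem_pCore hD (hpc hd.1)) ?_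
    exact fun w hw => ⟨Subgroup.subset_closure hw, hw.1⟩
  · intro a ha b hb hca hcb hne
    rcases Inv.cases' hD ha hb with h | h | h
    · rw [Inv.inv_eq hD ha, Inv.inv_eq hD hb, h.eq, mul_assoc b a, Inv.sq_eq hD ha, mul_one, Inv.sq_eq hD hb]
      exact one_mem _
    · exfalso
      apply hne
      refine Set.ext fun z => ⟨fun hz => ⟨hz.1, ?_⟩, fun hz => ⟨hz.1, ?_⟩⟩
      · exact (Relation.ReflTransGen.single (Inv.odd_symm hD h)).trans hz.2
      · exact (Relation.ReflTransGen.single h).trans hz.2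
    · obtain ⟨hcD, hcA, hcB, -, hac, hs⟩ := Inv.four_data hD h
      obtain ⟨-, -, -, -, hbc, -⟩ := Inv.four_data hD (Inv.four_symm hD h)
      rw [hs] at hbc
      refine Subgroup.subset_closure ?_
      have e : a * b * a⁻¹ * b⁻¹ = (a * b) ^ 2 := by
        rw [Inv.inv_eq hD ha, Inv.inv_eq hD hb, pow_two]; group
      rw [e]
      by_contra hcW
      obtain ⟨z, hz⟩ : ∃ z, Cfsg.OddAdj D ((a * b) ^ 2) z := by
        by_contra hcon
        push Not at hcon
        exact hcW (hmem _ hcD hcon)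
      have ra := line_reach hD hcA (hcA.eq ▸ hac) ⟨z, hz⟩ (exists_partner hca)
      have rb := line_reach hD hcB (hcB.eq ▸ hbc) ⟨z, hz⟩ (exists_partner hcb)
      apply hne
      refine Set.ext fun w => ⟨fun hw => ⟨hw.1, ?_⟩, fun hw => ⟨hw.1, ?_⟩⟩
      · exact (rb.trans (Inv.reach_symm hD ra)).trans hw.2
      · exact (ra.trans (Inv.reach_symm hD rb)).trans hw.2
  · rintro a ha hca e ⟨⟨he, hea, -⟩, hm⟩
    by_cases hiso : ∀ b, ¬ Cfsg.OddAdj D e b
    · exact Or.inr (hmem e he hiso)
    · push Not at hiso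
      exact Or.inl ⟨he, line_reach hD hea hm hiso (exists_partner hca)⟩

end Cfsg.Agent.S5045
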