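import Cfsg.Statements.S2916
import Cfsg.Agent.H23.GL23.Main
import Cfsg.Agent.Fusion.PResidual
import Cfsg.Agent.H69.M11.Unique
import Cfsg.Agent.Golay.Mathieu

set_option autoImplicit false
open Cfsg

namespace Cfsg.Agent.S2916

/-- Brauer: a group without subgroups of index two with an involution centralizer GL(2, 3) is
PSL(3, 3) or the Mathieu group M₁₁. -/
theorem result {G : Type*} [Group G] [Finite G] (hO : Cfsg.pResidual 2 G = ⊤) (t : G) (ht : orderOf t = 2) (hC : Nonempty (↥(Subgroup.centralizer ({t} : Set G)) ≃* GL (Fin 2) (ZMod 3))) : (∃ (F : Type) (_ : Field F) (_ : Fintype F), Fintype.card F = 3 ∧ Nonempty (G ≃* Matrix.ProjectiveSpecialLinearGroup (Fin 3) F)) ∨ Cfsg.Spor.IsoM11 G := by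
  obtain ⟨e⟩ := hC
  obtain ⟨D, -⟩ := H23.GL23.exists_setup t ht e
  haveI : Fact (Nat.Prime 2) := ⟨Nat.prime_two⟩
  have hno : ∀ f : G →* Multiplicative (ZMod 2), f = 1 := fun f => by
    refine MonoidHom.ker_eq_top_iff.1 (top_le_iff.1 ?_)
    rw [← hO]
    exact Fusion.pResidual_le_ker (IsPGroup.of_card (n := 1)
      (show Nat.card (Multiplicative (ZMod 2)) = 2 ^ 1 from Nat.card_zmod 2)) f
  have hone := D.isConj_of_no_hom hno
  haveI := D.isSimpleGroup hone
  rcases D.card_final hone with h | h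
  · exact Or.inl ⟨ZMod 3, inferInstance, inferInstance, ZMod.card 3,
      D.nonempty_equiv_of_card hone h⟩
  · exact Or.inr (H69.M11.nonempty_mulEquiv ⟨inferInstance, h⟩ Golay.isM11_spor)

end Cfsg.Agent.S2916
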