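import Cfsg.Statements.S0813
import Cfsg.Agent.H56.OutPSL

set_option autoImplicit false
open Cfsg

namespace Cfsg.Agent.S0813

/-- |Aut(PSL_n(q))|, q = p^f: for n ≥ 3 it is 2 f |PGL_n(q)|, and for n = 2 (q ≥ 4) it is f |PGL_2(q)|. -/
theorem result {F : Type*} [Field F] [Fintype F] (p f : ℕ) [Fact p.Prime] (hf : 1 ≤ f) (hF : Fintype.card F = p ^ f) (n : ℕ) (hn : 2 ≤ n) (h2 : n = 2 → 4 ≤ p ^ f) : Nat.card (MulAut (Matrix.ProjectiveSpecialLinearGroup (Fin n) F)) = (if n = 2 then 1 else 2) * f * Nat.card (Matrix.ProjGenLinGroup (Fin n) F) := by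
  classical
  obtain ⟨e⟩ := H56.ringAut_equiv F hf hF
  have hring : Nat.card (RingAut F) = f := by
    rw [Nat.card_congr e.toEquiv, Nat.card_congr Multiplicative.toAdd, Nat.card_zmod]
  have hR : Nat.card (H56.pglToAut (F := F) hn).range = Nat.card (Matrix.ProjGenLinGroup (Fin n) F) := by
    rw [← Nat.card_congr (QuotientGroup.quotientKerEquivRange (H56.pglToAut (F := F) hn)).toEquiv,
      H56.pglToAut_ker]
    rfl
  have key : ∀ {A : Type _} [Group A] (Ψ : MulAut (H56.PSLn n F) →* A), Function.Surjective Ψ →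
      Ψ.ker = (H56.pglToAut (F := F) hn).range →
      Nat.card (MulAut (H56.PSLn n F)) = Nat.card A * Nat.card (Matrix.ProjGenLinGroup (Fin n) F) := by
    intro A _ Ψ hs hk
    rw [Subgroup.card_eq_card_quotient_mul_card_subgroup Ψ.ker,
      Nat.card_congr (QuotientGroup.quotientKerEquivOfSurjective Ψ hs).toEquiv, hk, hR]
  rcases Nat.lt_or_ge n 3 with h3 | h3
  · have h : n = 2 := by omega
    rw [if_pos h, one_mul]
    refine (key (H56.fieldHom hn) (fun σ => ⟨_, H56.fieldHom_semiAut hn 1 σ⟩) ?_).trans (by rw [hring])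
    refine le_antisymm (fun φ hφ => ?_) ?_
    · obtain ⟨g, σ, rfl | ⟨h', -⟩⟩ := H56.exists_decomp hn φ
      · obtain rfl : σ = RingEquiv.refl F := (H56.fieldHom_semiAut hn g σ).symm.trans hφ
        exact ⟨g, rfl⟩
      · omega
    · rintro _ ⟨g, rfl⟩
      exact H56.fieldHom_semiAut hn g _
  · rw [if_neg (by omega)]
    refine (key ((H56.fieldHom hn).prod (H56.graphHom h3)) ?_ ?_).trans ?_
    · rintro ⟨σ, b⟩
      have hb : b = 1 ∨ b = Multiplicative.ofAdd 1 := by revert b; decide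
      rcases hb with rfl | rfl
      · exact ⟨H56.semiAut 1 σ, Prod.ext (H56.fieldHom_semiAut hn 1 σ) (H56.graphHom_semiAut h3 1 σ)⟩
      · refine ⟨H56.semiAut 1 σ * H56.invTAut, Prod.ext ?_ ?_⟩
        · show H56.fieldHom hn _ = σ
          rw [map_mul, H56.fieldHom_semiAut, H56.fieldHom_invT h3, mul_one]
        · show H56.graphHom h3 _ = _
          rw [map_mul, H56.graphHom_semiAut, H56.graphHom_invT, one_mul]
    · refine le_antisymm (fun φ hφ => ?_) ?_
      · have hf1 : H56.fieldHom hn φ = 1 := congrArg Prod.fst hφ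
        have hg1 : H56.graphHom h3 φ = 1 := congrArg Prod.snd hφ
        obtain ⟨g, σ, rfl | ⟨-, rfl⟩⟩ := H56.exists_decomp hn φ
        · obtain rfl : σ = RingEquiv.refl F := (H56.fieldHom_semiAut hn g σ).symm.trans hf1
          exact ⟨g, rfl⟩
        · rw [map_mul, H56.graphHom_semiAut, H56.graphHom_invT, one_mul] at hg1
          exact absurd hg1 (by decide)
      · rintro _ ⟨g, rfl⟩
        exact Prod.ext (H56.fieldHom_semiAut hn g _) (H56.graphHom_semiAut h3 g _)
    · rw [Nat.card_prod, hring, Nat.card_congr Multiplicative.toAdd, Nat.card_zmod]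
      ring

end Cfsg.Agent.S0813
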