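import Cfsg.Statements.S1007
import Cfsg.Agent.H36.Order168

set_option autoImplicit false
open Cfsg

namespace Cfsg.Agent.S1007

theorem klein_congr {X Y : Type*} [Group X] [Group Y] (f : X ≃* Y) (hX : IsKleinFour X) :
    IsKleinFour Y where
  card_four := (Nat.card_congr f.toEquiv).symm.trans hX.card_four
  exponent_two := (Monoid.exponent_eq_of_mulEquiv f).symm.trans hX.exponent_two

/-- The dihedral group of order 8 has exactly two Klein four-subgroups. -/
theorem card_klein_dihedral : Nat.card {V : Subgroup (DihedralGroup 4) // IsKleinFour ↥V} = 2 := by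
  classical
  let mkV : ZMod 4 → Subgroup (DihedralGroup 4) := fun i =>
    { carrier := {x | x = 1 ∨ x = DihedralGroup.r 2 ∨ x = DihedralGroup.sr i ∨ x = DihedralGroup.sr (i + 2)}
      one_mem' := Or.inl rfl
      mul_mem' := by revert i; simp only [Set.mem_setOf_eq]; decide
      inv_mem' := by revert i; simp only [Set.mem_setOf_eq]; decide }
  have hK : ∀ i, IsKleinFour ↥(mkV i) := by
    intro i
    have hcard : Nat.card ↥(mkV i) = 4 := by
      rw [show Nat.card ↥(mkV i) = (({1, DihedralGroup.r 2, DihedralGroup.sr i,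
        DihedralGroup.sr (i + 2)} : Finset (DihedralGroup 4))).card from ?_]
      · revert i; decide
      · rw [← Nat.card_eq_finsetCard]
        refine Nat.card_congr (Equiv.subtypeEquivRight fun x => ?_)
        simp [mkV]
    refine ⟨hcard, Nat.dvd_antisymm (Monoid.exponent_dvd_of_forall_pow_eq_one fun x => ?_) ?_⟩
    · obtain ⟨x, hx⟩ := x
      apply Subtype.ext
      show x ^ 2 = 1
      clear hcard
      rcases hx with rfl | rfl | rfl | rfl <;> (revert i; decide)
    · have hr : (DihedralGroup.r 2 : DihedralGroup 4) ∈ mkV i := Or.inr (Or.inl rfl)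
      have h2 : orderOf (⟨_, hr⟩ : ↥(mkV i)) = 2 := by
        rw [Subgroup.orderOf_mk]
        exact orderOf_eq_prime (by decide) (by decide)
      exact h2 ▸ Monoid.order_dvd_exponent _
  let f : Bool → {V : Subgroup (DihedralGroup 4) // IsKleinFour ↥V} := fun b =>
    ⟨mkV (if b then 0 else 1), hK _⟩
  rw [← Nat.card_eq_of_bijective f ⟨?_, ?_⟩]
  · simp
  · intro a b hab
    have hm : ∀ x, x ∈ mkV (if a then 0 else 1) ↔ x ∈ mkV (if b then 0 else 1) := fun x => by
      rw [show mkV (if a then 0 else 1) = mkV (if b then 0 else 1) from congrArg Subtype.val hab]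
    have := (hm (DihedralGroup.sr (if a then 0 else 1))).1 (Or.inr (Or.inr (Or.inl rfl)))
    revert this
    cases a <;> cases b <;> simp [mkV] <;> decide
  · rintro ⟨V, hV⟩
    have hsq : ∀ x ∈ V, x * x = 1 := fun x hx =>
      congrArg Subtype.val (IsKleinFour.mul_self (⟨x, hx⟩ : V))
    -- elements of square one, and two different reflection pairs do not multiply to one
    have hmem : ∀ x ∈ V, ∀ y ∈ V, x * x = 1 ∧ y * y = 1 ∧ x * y * (x * y) = 1 := fun x hx y hy =>
      ⟨hsq x hx, hsq y hy, hsq _ (mul_mem hx hy)⟩
    by_cases h0 : ∃ x ∈ V, x = DihedralGroup.sr (1 : ZMod 4) ∨ x = DihedralGroup.sr 3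
    · refine ⟨false, Subtype.ext (Subgroup.eq_of_le_of_card_ge ?_ ?_).symm⟩
      · obtain ⟨x, hx, hx'⟩ := h0
        intro y hy
        have := hmem x hx y hy
        revert this hx'
        clear hy hx hmem
        show _ → _ → y = 1 ∨ _
        revert x y
        decide
      · rw [(hK _).card_four, hV.card_four]
    · refine ⟨true, Subtype.ext (Subgroup.eq_of_le_of_card_ge ?_ ?_).symm⟩
      · push_neg at h0
        intro y hy
        have h1 := hsq y hy
        have h2 := h0 y hy
        revert h1 h2
        clear hy
        show _ → _ → y = 1 ∨ _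
        revert y
        decide
      · rw [(hK _).card_four, hV.card_four]

/-- Let G be a simple group of order 168 and T a Sylow 2-subgroup. Then T contains exactly two subgroups that are Klein four-groups; they are not conjugate in G; and the normalizer of every Klein four-subgroup of G is isomorphic to the symmetric group of degree 4. -/
theorem result {G : Type*} [Group G] [Finite G] [IsSimpleGroup G] (h : Nat.card G = 168) (T : Sylow 2 G) : Nat.card {U : Subgroup G // U ≤ (T : Subgroup G) ∧ IsKleinFour ↥U} = 2 ∧ (∀ U W : Subgroup G, U ≤ (T : Subgroup G) → W ≤ (T : Subgroup G) → IsKleinFour ↥U → IsKleinFour ↥W → U ≠ W → ∀ g : G, U.map (MulAut.conj g).toMonoidHom ≠ W) ∧ ∀ U : Subgroup G, IsKleinFour ↥U → Nonempty (↥(Subgroup.normalizer (U : Set G)) ≃* Equiv.Perm (Fin 4)) := by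
  classical
  refine ⟨?_, ?_, fun U hU => Cfsg.Agent.H36.S168.normalizer_klein_equiv h hU⟩
  · obtain ⟨e⟩ := Cfsg.Agent.H36.S168.dihedral h T
    -- transfer to the dihedral group
    let A := {U : Subgroup G // U ≤ (T : Subgroup G) ∧ IsKleinFour ↥U}
    let B := {V : Subgroup (DihedralGroup 4) // IsKleinFour ↥V}
    let f : A → B := fun U => ⟨(U.1.subgroupOf (T : Subgroup G)).map e.toMonoidHom,
      klein_congr (Subgroup.equivMapOfInjective _ _ e.injective)
        (klein_congr (Subgroup.subgroupOfEquivOfLe U.2.1).symm U.2.2)⟩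
    have hf : Function.Bijective f := by
      constructor
      · rintro ⟨U, hU, hU'⟩ ⟨W, hW, hW'⟩ hUW
        have := Subgroup.map_injective e.injective (congrArg Subtype.val hUW)
        apply Subtype.ext
        have h2 := congrArg (Subgroup.map (T : Subgroup G).subtype) this
        rwa [Subgroup.map_subgroupOf_eq_of_le hU, Subgroup.map_subgroupOf_eq_of_le hW] at h2
      · rintro ⟨V, hV⟩
        refine ⟨⟨(V.comap e.toMonoidHom).map (T : Subgroup G).subtype, Subgroup.map_subtype_le _,
          klein_congr (Subgroup.equivMapOfInjective _ _ (T : Subgroup G).subtype_injective)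
            (klein_congr ((Subgroup.equivMapOfInjective (V.comap e.toMonoidHom) e.toMonoidHom e.injective).trans (MulEquiv.subgroupCongr (Subgroup.map_comap_eq_self_of_surjective e.surjective V))).symm hV)⟩, ?_⟩
        apply Subtype.ext
        show (((V.comap e.toMonoidHom).map (T : Subgroup G).subtype).subgroupOf (T : Subgroup G)).map
          e.toMonoidHom = V
        rw [Subgroup.subgroupOf, Subgroup.comap_map_eq_self_of_injective (T : Subgroup G).subtype_injective,
          Subgroup.map_comap_eq_self_of_surjective e.surjective]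
    rw [Nat.card_congr (Equiv.ofBijective f hf)]
    exact card_klein_dihedral
  · intro U W hU hW hUK hWK hne g hg
    obtain ⟨n, hn, hn'⟩ := Cfsg.Agent.Fusion.burnside_fusion_sets T
      (X := (U : Set G)) (Y := (W : Set G)) (g := g)
      (Cfsg.Agent.H36.S168.klein_normal h hUK hU) (Cfsg.Agent.H36.S168.klein_normal h hWK hW)
      (by rw [← hg]; ext y; simp [Subgroup.mem_map])
    have hnT : n ∈ (T : Subgroup G) := (Cfsg.Agent.H36.S168.normalizer2 h T) ▸ hn
    have hnU : n ∈ Subgroup.normalizer (U : Set G) := Cfsg.Agent.H36.S168.klein_normal h hUK hU hnT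
    apply hne
    apply SetLike.coe_injective
    rw [← hn']
    ext y
    constructor
    · intro hy
      refine ⟨n⁻¹ * y * n, ?_, by group⟩
      exact (Subgroup.mem_normalizer_iff''.1 hnU y).1 hy
    · rintro ⟨x, hx, rfl⟩
      exact (Subgroup.mem_normalizer_iff.1 hnU x).1 hx

end Cfsg.Agent.S1007
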