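import Cfsg.Statements.S1008
import Cfsg.Agent.H36.Order168
import Cfsg.Agent.S1007

set_option autoImplicit false
open Cfsg

namespace Cfsg.Agent.S1008

open Cfsg.Agent.H36 Subgroup

section
variable {G : Type*} [Group G] [Finite G] [IsSimpleGroup G] (h : Nat.card G = 168)
include h

theorem conj_of_21 {M M' : Subgroup G} (hc : Nat.card ↥M = 21) (hc' : Nat.card ↥M' = 21) :
    ∃ g : G, M' = M.map (MulAut.conj g).toMonoidHom := by
  haveI : Fact (Nat.Prime 7) := ⟨by norm_num⟩
  have key : ∀ L : Subgroup G, Nat.card ↥L = 21 →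
      ∃ P : Sylow 7 G, L = normalizer ((P : Subgroup G) : Set G) := by
    intro L hL
    have h1 := card_sylow_mem (p := 7) hL 1 3 (by norm_num) (by norm_num) {1} (by decide)
    rw [Finset.mem_singleton] at h1
    haveI := (Nat.card_eq_one_iff_unique.1 h1).1
    obtain ⟨S⟩ := Sylow.nonempty (p := 7) (G := L)
    haveI := S.normal_of_subsingleton
    have hS : Nat.card ((S : Subgroup L).map L.subtype) = 7 := by
      rw [card_subtype]
      simpa using card_sylow_eq hL S (a := 1) (m := 3) (by norm_num) (by norm_num)
    obtain ⟨P, hP⟩ := (S.2.map L.subtype).exists_le_sylow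
    have heq := eq_of_le_of_card_ge hP (by rw [hS, S168.card_sylow7 h P])
    refine ⟨P, eq_of_le_of_card_ge ?_ (by rw [hL, S168.card_normalizer7 h P])⟩
    rw [← heq]
    intro x hx
    rw [mem_normalizer_iff]
    intro y
    constructor
    · rintro ⟨s, hs, rfl⟩
      exact ⟨⟨x, hx⟩ * s * ⟨x, hx⟩⁻¹, Normal.conj_mem inferInstance s hs _, rfl⟩
    · rintro ⟨s, hs, hsy⟩
      have hcm : (⟨x, hx⟩ : L)⁻¹ * s * ⟨x, hx⟩ ∈ (S : Subgroup L) := by
        simpa using Normal.conj_mem (inferInstance : (S : Subgroup L).Normal) s hs (⟨x, hx⟩ : L)⁻¹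
      refine ⟨_, hcm, ?_⟩
      show x⁻¹ * (L.subtype s) * x = y
      rw [hsy]; group
  obtain ⟨P, rfl⟩ := key M hc
  obtain ⟨P', rfl⟩ := key M' hc'
  obtain ⟨g, rfl⟩ := MulAction.exists_smul_eq G P P'
  refine ⟨g, ?_⟩
  rw [map_equiv_normalizer_eq]
  rfl

theorem not_comm_21 {M : Subgroup G} (hM : Nat.card ↥M = 21) : ¬ IsMulCommutative ↥M := by
  intro hcomm
  haveI : Fact (Nat.Prime 7) := ⟨by norm_num⟩
  obtain ⟨⟨x, hx⟩, hx7⟩ := exists_prime_orderOf_dvd_card' (G := M) 7 (by rw [hM]; norm_num)
  rw [Subgroup.orderOf_mk] at hx7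
  have hle : M ≤ centralizer ({x} : Set G) := fun y hy => mem_centralizer_singleton_iff.2
    (congrArg Subtype.val (hcomm.is_comm.comm (⟨y, hy⟩ : M) ⟨x, hx⟩))
  have := card_le_of_le hle
  rw [hM, S168.card_centralizer_of_orderOf h (p := 7) (Or.inr rfl) hx7] at this
  omega

/-- A maximal subgroup of order 24 or 21. -/
theorem card_maximal {M : Subgroup G} (hM : IsCoatom M) :
    Nat.card ↥M = 24 ∨ Nat.card ↥M = 21 := by
  classical
  haveI : Fact (Nat.Prime 7) := ⟨by norm_num⟩
  haveI : Fact (Nat.Prime 2) := ⟨Nat.prime_two⟩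
  haveI : Fact (Nat.Prime 3) := ⟨Nat.prime_three⟩
  have hd : Nat.card ↥M ∣ 168 := h ▸ card_subgroup_dvd_card M
  have hne : Nat.card ↥M ≠ 168 := fun hc => hM.1 (eq_top_of_card_eq M (hc.trans h.symm))
  -- an overgroup equals `M`
  have hover : ∀ L : Subgroup G, M ≤ L → Nat.card ↥L ≠ 168 → Nat.card ↥M = Nat.card ↥L := by
    intro L hle hL
    rcases eq_or_lt_of_le hle with rfl | hlt
    · rfl
    · exact absurd (by rw [hM.2 L hlt, card_top, h]) hL
  by_cases h7 : 7 ∣ Nat.card ↥M
  · right
    obtain ⟨S⟩ := Sylow.nonempty (p := 7) (G := M)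
    obtain ⟨P, hP⟩ := (S.2.map M.subtype).exists_le_sylow
    have hScard : Nat.card ((S : Subgroup M).map M.subtype) = 7 := by
      rw [card_subtype]
      obtain ⟨k, hk⟩ := S.2.exists_card_eq
      have h1 := S.dvd_card_of_dvd_card h7
      have h2 := card_le_of_le hP
      rw [card_subtype, S168.card_sylow7 h P, hk] at h2
      have := Nat.le_of_dvd Nat.card_pos h1
      omega
    have heq := eq_of_le_of_card_ge hP (by rw [hScard, S168.card_sylow7 h P])
    have hPM : (P : Subgroup G) ≤ M := heq ▸ map_subtype_le _
    -- `M` is contained in the normalizer of `P`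
    by_cases hall : ∀ Q : Sylow 7 G, (Q : Subgroup G) ≤ M
    · exfalso
      have hcore : (P : Subgroup G) ≤ M.normalCore := by
        intro y hy g
        have hy' : g * y * g⁻¹ ∈ ((g • P : Sylow 7 G) : Subgroup G) := by
          rw [mem_smul_sylow_iff]; simpa [mul_assoc] using hy
        exact hall (g • P) hy'
      rcases (normalCore_normal M).eq_bot_or_eq_top with hb | ht
      · have := card_le_of_le hcore
        rw [hb, card_bot, S168.card_sylow7 h P] at this
        omega
      · exact hM.1 (top_le_iff.1 (ht ▸ M.normalCore_le))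
    · have hle : M ≤ normalizer ((P : Subgroup G) : Set G) := by
        intro x hx
        refine Sylow.smul_eq_iff_mem_normalizer.1 ?_
        by_contra hne'
        apply hall
        -- two Sylow subgroups in `M` force all eight
        obtain ⟨k, hk, hdvd⟩ := exists_mul_dvd_card (M := M) hne' (fun y hy => by
          rw [mem_smul_sylow_iff] at hy
          have := M.mul_mem (M.mul_mem hx (hPM hy)) (M.inv_mem hx)
          simpa [mul_assoc] using this) hPM
        rw [S168.card_sylow7 h] at hdvd
        have h56 : 56 ≤ Nat.card ↥M := le_trans (by omega) (Nat.le_of_dvd Nat.card_pos hdvd)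
        have hfac := card_dvd_factorial hM.1
        have hmul := M.card_mul_index
        rw [h] at hfac hmul
        have hidx : M.index ≤ 3 := by
          have := Nat.mul_le_mul_right M.index h56
          omega
        have := hfac.trans (Nat.factorial_dvd_factorial hidx)
        norm_num [Nat.factorial] at this
      rw [hover _ hle (by rw [S168.card_normalizer7 h P]; norm_num), S168.card_normalizer7 h P]
  · left
    have h24 : Nat.card ↥M ∣ 24 := by
      have hc : Nat.Coprime (Nat.card ↥M) 7 :=
        (((by norm_num : Nat.Prime 7).coprime_iff_not_dvd).2 h7).symm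
      exact hc.dvd_of_dvd_mul_right (show Nat.card ↥M ∣ 24 * 7 by norm_num; exact hd)
    -- a subgroup inside some `N(U)`
    have hin : (∀ L : Subgroup G, M ≤ L → Nat.card ↥L ≠ 168) → ∀ U : Subgroup G, IsKleinFour ↥U →
        M ≤ normalizer (U : Set G) → Nat.card ↥M = 24 := fun _ U hU hle => by
      rw [hover _ hle (by rw [S168.card_normalizer_klein h hU]; norm_num),
        S168.card_normalizer_klein h hU]
    obtain ⟨T₀⟩ := Sylow.nonempty (p := 2) (G := G)
    -- some Klein four-group in every Sylow 2-subgroup
    have hklein : ∀ T : Sylow 2 G, ∃ U : Subgroup G, IsKleinFour ↥U ∧ U ≤ (T : Subgroup G) := by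
      intro T
      obtain ⟨e⟩ := S168.dihedral h T
      let V : Subgroup (DihedralGroup 4) :=
        { carrier := {x | x = 1 ∨ x = DihedralGroup.r 2 ∨ x = DihedralGroup.sr 0 ∨ x = DihedralGroup.sr 2}
          one_mem' := Or.inl rfl
          mul_mem' := by simp only [Set.mem_setOf_eq]; decide
          inv_mem' := by simp only [Set.mem_setOf_eq]; decide }
      refine ⟨(V.comap e.toMonoidHom).map (T : Subgroup G).subtype, ?_, map_subtype_le _⟩
      have hcard : Nat.card ↥((V.comap e.toMonoidHom).map (T : Subgroup G).subtype) = 4 := by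
        rw [card_subtype, Nat.card_congr ((equivMapOfInjective (V.comap e.toMonoidHom) e.toMonoidHom e.injective).trans
            (MulEquiv.subgroupCongr (map_comap_eq_self_of_surjective e.surjective V))).toEquiv,
          show Nat.card ↥V = (({1, DihedralGroup.r 2, DihedralGroup.sr 0, DihedralGroup.sr 2} :
            Finset (DihedralGroup 4))).card from ?_]
        · decide
        · rw [← Nat.card_eq_finsetCard]
          exact Nat.card_congr (Equiv.subtypeEquivRight fun x => by simp [V])
      refine ⟨hcard, Nat.dvd_antisymm (Monoid.exponent_dvd_of_forall_pow_eq_one fun x => ?_) ?_⟩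
      · obtain ⟨_, ⟨y, hy, rfl⟩⟩ := x
        apply Subtype.ext
        show ((y : G)) ^ 2 = 1
        have : y ^ 2 = 1 := e.injective (by
          rw [map_pow, map_one]
          have hy' : e y ∈ V := hy
          rcases hy' with hy' | hy' | hy' | hy' <;> rw [hy'] <;> decide)
        simpa using congrArg Subtype.val this
      · haveI : Fact (Nat.Prime 2) := ⟨Nat.prime_two⟩
        obtain ⟨u, hu⟩ := exists_prime_orderOf_dvd_card' (G := ↥((V.comap e.toMonoidHom).map
          (T : Subgroup G).subtype)) 2 (by rw [hcard]; norm_num)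
        exact (dvd_of_eq hu.symm).trans (Monoid.order_dvd_exponent u)
    by_contra hne24
    have hlt : Nat.card ↥M ∣ 12 ∨ Nat.card ↥M ∣ 8 := by
      have := Nat.le_of_dvd (by norm_num) h24
      generalize Nat.card ↥M = m at h24 hne24 this ⊢
      interval_cases m <;> first | omega | (norm_num at h24)
    by_cases h3 : 3 ∣ Nat.card ↥M
    · -- `M` has a Sylow 3-subgroup `P` of `G`
      obtain ⟨⟨y, hy⟩, hy3⟩ := exists_prime_orderOf_dvd_card' 3 h3
      rw [Subgroup.orderOf_mk] at hy3
      obtain ⟨P, hP⟩ := exists_sylow_mem hy3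
      have hPz := sylow_eq_zpowers P (S168.card_sylow3 h P) hy3 hP
      have hPM : (P : Subgroup G) ≤ M := hPz ▸ zpowers_le.2 hy
      by_cases hsingle : M ≤ normalizer ((P : Subgroup G) : Set G)
      · -- then `M` has order at most 6; `N(P)` lies in some `N(U)`
        have hMN := hover _ hsingle (by rw [S168.card_normalizer3 h P]; norm_num)
        obtain ⟨U, hU, -⟩ := hklein T₀
        set L := normalizer (U : Set G)
        obtain ⟨⟨w, hw⟩, hw3⟩ := exists_prime_orderOf_dvd_card' (G := L) 3
          (by rw [S168.card_normalizer_klein h hU]; norm_num)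
        rw [Subgroup.orderOf_mk] at hw3
        obtain ⟨Q, hQ⟩ := exists_sylow_mem hw3
        have hQz := sylow_eq_zpowers Q (S168.card_sylow3 h Q) hw3 hQ
        have hQL : (Q : Subgroup G) ≤ L := hQz ▸ zpowers_le.2 hw
        -- `N_L(Q) = N(Q)`
        have hNQ : normalizer ((Q : Subgroup G) : Set G) ≤ L := by
          have hLc : Nat.card ↥L = 24 := S168.card_normalizer_klein h hU
          set S := Q.subtype hQL
          have hn := card_sylow_mem (p := 3) (G := L) hLc 1 8 (by norm_num) (by norm_num) {1, 4} (by decide)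
          have hmul := card_sylow_mul_normalizer S
          rw [hLc] at hmul
          have hge : 6 ≤ Nat.card (normalizer ((S : Subgroup L) : Set L)) := by
            rcases Finset.mem_insert.1 hn with hn | hn
            · rw [hn] at hmul; omega
            · rw [Finset.mem_singleton.1 hn] at hmul; omega
          have hle : (normalizer ((S : Subgroup L) : Set L)).map L.subtype ≤
              normalizer ((Q : Subgroup G) : Set G) := by
            refine (le_normalizer_map _).trans (le_of_eq ?_)
            rw [Sylow.coe_subtype, map_subgroupOf_eq_of_le hQL]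
          have heq := eq_of_le_of_card_ge hle (by rw [card_subtype, S168.card_normalizer3 h Q]; exact hge)
          rw [← heq]
          exact map_subtype_le _
        obtain ⟨g, hg⟩ := MulAction.exists_smul_eq G Q P
        -- conjugate `N(U)` to contain `M`
        have hle : M ≤ L.map (MulAut.conj g).toMonoidHom := by
          refine hsingle.trans ?_
          rw [← hg]
          have hmap : (normalizer ((Q : Subgroup G) : Set G)).map (MulAut.conj g).toMonoidHom =
              normalizer (((g • Q : Sylow 3 G) : Subgroup G) : Set G) := by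
            rw [map_equiv_normalizer_eq]; rfl
          rw [← hmap]
          exact map_mono hNQ
        have := hover _ hle (by
          rw [card_map_of_injective (MulAut.conj g).injective, S168.card_normalizer_klein h hU]
          norm_num)
        rw [card_map_of_injective (MulAut.conj g).injective, S168.card_normalizer_klein h hU] at this
        exact hne24 this
      · -- `M` has four Sylow 3-subgroups, hence order 12 and a normal four-group
        obtain ⟨x, hx, hxn⟩ := SetLike.not_le_iff_exists.1 hsingle
        have hne' : (x • P : Sylow 3 G) ≠ P := fun he => hxn (Sylow.smul_eq_iff_mem_normalizer.1 he)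
        obtain ⟨k, hk, hdvd⟩ := exists_mul_dvd_card (M := M) hne' (fun z hz => by
          rw [mem_smul_sylow_iff] at hz
          have := M.mul_mem (M.mul_mem hx (hPM hz)) (M.inv_mem hx)
          simpa [mul_assoc] using this) hPM
        rw [S168.card_sylow3 h] at hdvd
        have hc12 : Nat.card ↥M = 12 := by
          have h1 := Nat.le_of_dvd Nat.card_pos hdvd
          rcases hlt with hl | hl
          · have := Nat.le_of_dvd (by norm_num) hl; omega
          · have := h3.trans hl; norm_num at this
        -- elements of order 3 fill all but four places, so the Sylow 2-subgroup is normal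
        have hn3 := card_sylow_mem (p := 3) (G := M) hc12 1 4 (by norm_num) (by norm_num) {1, 4} (by decide)
        have h34 : Nat.card (Sylow 3 M) = 4 := by
          rcases Finset.mem_insert.1 hn3 with hn | hn
          · exfalso
            have := one_lt_card_sylow_of_le (M := M) hne' (fun z hz => by
              rw [mem_smul_sylow_iff] at hz
              have := M.mul_mem (M.mul_mem hx (hPM hz)) (M.inv_mem hx)
              simpa [mul_assoc] using this) hPM
            omega
          · simpa using hn
        obtain ⟨S3⟩ := Sylow.nonempty (p := 3) (G := M)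
        obtain ⟨S2⟩ := Sylow.nonempty (p := 2) (G := M)
        have hS3 : Nat.card (S3 : Subgroup M) = 3 := by
          simpa using card_sylow_eq hc12 S3 (a := 1) (m := 4) (by norm_num) (by norm_num)
        have hS2 : Nat.card (S2 : Subgroup M) = 4 := by
          simpa using card_sylow_eq hc12 S2 (a := 2) (m := 3) (by norm_num) (by norm_num)
        have hcount := card_orderOf_eq S3 hS3
        rw [h34] at hcount
        have hset : ∀ S : Sylow 2 M, ((S : Subgroup M) : Set M) = {g : M | orderOf g ≠ 3} := by
          intro S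
          have hScard : Nat.card (S : Subgroup M) = 4 := (card_sylow_congr S S2).trans hS2
          refine Set.eq_of_subset_of_ncard_le (fun g hg h3' => ?_) ?_ (Set.toFinite _)
          · have := Subgroup.orderOf_dvd_natCard _ (SetLike.mem_coe.1 hg)
            rw [h3', hScard] at this
            norm_num at this
          · have e1 : Set.ncard ((S : Subgroup M) : Set M) = 4 :=
              (Nat.card_coe_set_eq _).symm.trans hScard
            have e2 := Set.ncard_add_ncard_compl {g : M | orderOf g = 3}
            rw [Set.compl_setOf, hc12, show Set.ncard {g : M | orderOf g = 3} = 8 from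
              (Nat.card_coe_set_eq _).symm.trans hcount] at e2
            rw [e1]
            simp only [ne_eq]
            omega
        haveI : Subsingleton (Sylow 2 M) :=
          ⟨fun A B => Sylow.ext (SetLike.coe_injective ((hset A).trans (hset B).symm))⟩
        haveI := S2.normal_of_subsingleton
        set U := (S2 : Subgroup M).map M.subtype
        have hUM : M ≤ normalizer (U : Set G) := by
          refine le_trans ?_ (le_normalizer_map M.subtype)
          rw [normalizer_eq_top_iff.2 (inferInstance : (S2 : Subgroup M).Normal)]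
          intro z hz
          exact ⟨⟨z, hz⟩, mem_top _, rfl⟩
        have hUcard : Nat.card ↥U = 4 := by rw [card_subtype, hS2]
        have hU : IsKleinFour ↥U := by
          refine ⟨hUcard, ?_⟩
          -- otherwise an element of order 3 centralizes a cyclic group of order 4
          have hexp : Monoid.exponent ↥U ∣ 2 := by
            refine Monoid.exponent_dvd_of_forall_pow_eq_one fun u => ?_
            by_contra hu
            have hu4 : orderOf u = 4 := by
              obtain ⟨i, hi, hi'⟩ := (Nat.dvd_prime_pow Nat.prime_two (m := 2)).1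
                (show orderOf u ∣ 2 ^ 2 by rw [show (2:ℕ) ^ 2 = Nat.card ↥U from hUcard.symm ▸ rfl]; exact orderOf_dvd_natCard u)
              interval_cases i
              · exact absurd (by rw [orderOf_eq_one_iff.1 (hi'.trans (pow_zero 2)), one_pow]) hu
              · exact absurd (by rw [← pow_orderOf_eq_one u, hi', pow_one]) hu
              · exact hi'
            haveI : IsCyclic ↥U := isCyclic_of_orderOf_eq_card u (hu4.trans hUcard.symm)
            have hrel := relIndex_centralizer_dvd_mulAut U
            rw [IsCyclic.card_mulAut, hUcard] at hrel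
            haveI : ((centralizer (U : Set G)).subgroupOf (normalizer (U : Set G))).Normal := by
              rw [← normalizerMonoidHom_ker]; infer_instance
            have hy2 : y ∈ centralizer (U : Set G) := by
              set C := (centralizer (U : Set G)).subgroupOf (normalizer (U : Set G))
              have h1 : orderOf (QuotientGroup.mk' C ⟨y, hUM hy⟩) ∣ 3 := by
                have := orderOf_map_dvd (QuotientGroup.mk' C) ⟨y, hUM hy⟩
                rwa [Subgroup.orderOf_mk, hy3] at this
              have h2 : orderOf (QuotientGroup.mk' C ⟨y, hUM hy⟩) ∣ C.index := by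
                rw [index_eq_card]; exact orderOf_dvd_natCard _
              rcases (Nat.dvd_prime Nat.prime_three).1 h1 with h | h
              · rw [orderOf_eq_one_iff, QuotientGroup.mk'_apply, QuotientGroup.eq_one_iff] at h
                exact h
              · exfalso
                rw [h] at h2
                have := h2.trans hrel
                rw [show Nat.totient 4 = 2 from rfl] at this
                norm_num at this
            have hu' : (u : G) ∈ centralizer ({y} : Set G) :=
              mem_centralizer_singleton_iff.2 (mem_centralizer_iff.1 hy2 u u.2)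
            have := Subgroup.orderOf_dvd_natCard _ hu'
            rw [Subgroup.orderOf_coe, hu4, S168.card_centralizer_of_orderOf h (p := 3) (Or.inl rfl) hy3] at this
            norm_num at this
          obtain ⟨u, hu⟩ := exists_prime_orderOf_dvd_card' (G := ↥U) 2 (by rw [hUcard]; norm_num)
          exact Nat.dvd_antisymm hexp (hu ▸ Monoid.order_dvd_exponent u)
        rw [hover _ hUM (by rw [S168.card_normalizer_klein h hU]; norm_num),
          S168.card_normalizer_klein h hU] at hc12
        omega
    · -- a 2-group
      have h8 : Nat.card ↥M ∣ 8 := by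
        have hc : Nat.Coprime (Nat.card ↥M) 3 := ((Nat.prime_three.coprime_iff_not_dvd).2 h3).symm
        exact hc.dvd_of_dvd_mul_right h24
      obtain ⟨i, -, hi⟩ := (Nat.dvd_prime_pow Nat.prime_two (m := 3)).1 h8
      obtain ⟨T, hT⟩ := (IsPGroup.of_card hi : IsPGroup 2 M).exists_le_sylow
      obtain ⟨U, hU, hUT⟩ := hklein T
      have hle := hT.trans (S168.klein_normal h hU hUT)
      rw [hover _ hle (by rw [S168.card_normalizer_klein h hU]; norm_num),
        S168.card_normalizer_klein h hU] at h8
      norm_num at h8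

theorem maximal_cases {M : Subgroup G} (hM : IsCoatom M) :
    Nonempty (↥M ≃* Equiv.Perm (Fin 4)) ∨ (Nat.card ↥M = 21 ∧ ¬ IsMulCommutative ↥M) := by
  rcases card_maximal h hM with hc | hc
  · exact Or.inl (nonempty_equiv_perm_four hc fun g hg =>
      S168.not_six h (g : G) (by rwa [Subgroup.orderOf_coe]))
  · exact Or.inr ⟨hc, not_comm_21 h hc⟩

/-- Klein four-groups with equal normalizers are equal. -/
theorem klein_eq_of_normalizer {U W : Subgroup G} (hU : IsKleinFour ↥U) (hW : IsKleinFour ↥W)
    (hN : normalizer (U : Set G) = normalizer (W : Set G)) : U = W := by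
  haveI : Fact (Nat.Prime 2) := ⟨Nat.prime_two⟩
  have hle : U ≤ normalizer (W : Set G) := hN ▸ le_normalizer
  have hUp : IsPGroup 2 U := IsPGroup.of_card (n := 2) hU.card_four
  have hWp : IsPGroup 2 W := IsPGroup.of_card (n := 2) hW.card_four
  have hp : IsPGroup 2 (U ⊔ W : Subgroup G) := hUp.to_sup_of_normal_right' hWp hle
  obtain ⟨T, hT⟩ := hp.exists_le_sylow
  have hd : Nat.card ↥(U ⊔ W) ∣ 8 := S168.card_sylow2 h T ▸ card_dvd_of_le hT
  have h4 : 4 ≤ Nat.card ↥(U ⊔ W) := hU.card_four ▸ card_le_of_le le_sup_left
  have h8 : Nat.card ↥(U ⊔ W) ≠ 8 := by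
    intro h8
    have heq := eq_of_le_of_card_ge hT (by rw [h8, S168.card_sylow2 h T])
    have hsub : normalizer (U : Set G) ≤ normalizer ((U ⊔ W : Subgroup G) : Set G) := by
      intro x hx
      have hx' : x ∈ normalizer (W : Set G) := hN ▸ hx
      rw [mem_normalizer_iff_map_conj_eq] at hx hx' ⊢
      rw [Subgroup.map_sup, hx, hx']
    rw [heq, S168.normalizer2 h T] at hsub
    have := card_le_of_le hsub
    rw [S168.card_normalizer_klein h hU, S168.card_sylow2 h T] at this
    omega
  have h4' : Nat.card ↥(U ⊔ W) ≤ 4 := by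
    have := Nat.le_of_dvd (by norm_num) hd
    generalize Nat.card ↥(U ⊔ W) = m at hd h4 h8 this ⊢
    interval_cases m <;> omega
  exact (eq_of_le_of_card_ge le_sup_left (hU.card_four.symm ▸ h4')).trans
    (eq_of_le_of_card_ge le_sup_right (hW.card_four.symm ▸ h4')).symm

theorem isCoatom_normalizer {U : Subgroup G} (hU : IsKleinFour ↥U) :
    IsCoatom (normalizer (U : Set G)) := by
  have hc := S168.card_normalizer_klein h hU
  refine ⟨fun htop => ?_, fun L hL => ?_⟩
  · rw [htop, card_top, h] at hc
    omega
  · obtain ⟨k, hk⟩ := card_dvd_of_le hL.le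
    have hd : Nat.card ↥L ∣ 24 * 7 := by simpa [h] using card_subgroup_dvd_card L
    rw [hk, hc] at hd
    have hk7 : k = 1 ∨ k = 7 :=
      (Nat.dvd_prime (by norm_num)).1 (Nat.dvd_of_mul_dvd_mul_left (by norm_num) hd)
    rcases hk7 with rfl | rfl
    · exact absurd (eq_of_le_of_card_ge hL.le (by rw [hk, mul_one])) hL.ne
    · exact eq_top_of_card_eq L (by rw [hk, hc, h])

theorem two_classes (T : Sylow 2 G) : ∃ M₁ M₂ : Subgroup G, IsCoatom M₁ ∧ IsCoatom M₂ ∧
    Nonempty (↥M₁ ≃* Equiv.Perm (Fin 4)) ∧ Nonempty (↥M₂ ≃* Equiv.Perm (Fin 4)) ∧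
    (∀ g : G, M₂ ≠ M₁.map (MulAut.conj g).toMonoidHom) ∧
    ∀ M : Subgroup G, IsCoatom M → Nonempty (↥M ≃* Equiv.Perm (Fin 4)) →
      ∃ g : G, M = M₁.map (MulAut.conj g).toMonoidHom ∨ M = M₂.map (MulAut.conj g).toMonoidHom := by
  classical
  obtain ⟨h71, h72, -⟩ := Cfsg.Agent.S1007.result h T
  obtain ⟨a, b, hab, huniv⟩ := Nat.card_eq_two_iff.1 h71
  obtain ⟨U₁, hU1T, hU1⟩ := a
  obtain ⟨U₂, hU2T, hU2⟩ := b
  have hne : U₁ ≠ U₂ := fun e => hab (Subtype.ext e)
  refine ⟨normalizer (U₁ : Set G), normalizer (U₂ : Set G), isCoatom_normalizer h hU1,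
    isCoatom_normalizer h hU2, S168.normalizer_klein_equiv h hU1,
    S168.normalizer_klein_equiv h hU2, fun g hg => ?_, fun M _ hM => ?_⟩
  · rw [map_equiv_normalizer_eq] at hg
    have hK : IsKleinFour ↥(U₁.map (MulAut.conj g).toMonoidHom) :=
      Cfsg.Agent.S1007.klein_congr (equivMapOfInjective _ _ (MulAut.conj g).injective) hU1
    exact h72 U₁ U₂ hU1T hU2T hU1 hU2 hne g (klein_eq_of_normalizer h hK hU2 hg.symm)
  · obtain ⟨f⟩ := hM
    -- the normal four-group of the symmetric group
    let V : Subgroup (Equiv.Perm (Fin 4)) :=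
      { carrier := {x | x = 1 ∨ x = Equiv.swap 0 1 * Equiv.swap 2 3 ∨
          x = Equiv.swap 0 2 * Equiv.swap 1 3 ∨ x = Equiv.swap 0 3 * Equiv.swap 1 2}
        one_mem' := Or.inl rfl
        mul_mem' := by simp only [Set.mem_setOf_eq]; decide
        inv_mem' := by simp only [Set.mem_setOf_eq]; decide }
    haveI hVn : V.Normal := by
      refine ⟨?_⟩
      show ∀ n, (n = 1 ∨ _) → ∀ g, (g * n * g⁻¹ = 1 ∨ _)
      intro n hn g
      rcases hn with rfl | rfl | rfl | rfl <;> (revert g; decide)
    have hVc : Nat.card ↥V = 4 := by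
      rw [show Nat.card ↥V = (({1, Equiv.swap 0 1 * Equiv.swap 2 3, Equiv.swap 0 2 * Equiv.swap 1 3,
        Equiv.swap 0 3 * Equiv.swap 1 2} : Finset (Equiv.Perm (Fin 4)))).card from ?_]
      · decide
      · rw [← Nat.card_eq_finsetCard]
        exact Nat.card_congr (Equiv.subtypeEquivRight fun x => by simp [V])
    have hVsq : ∀ x ∈ V, x ^ 2 = 1 := by
      intro x hx
      rcases hx with rfl | rfl | rfl | rfl <;> decide
    set V' := V.comap f.toMonoidHom
    set U := V'.map M.subtype
    have hUc : Nat.card ↥U = 4 := by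
      rw [card_subtype, ← hVc]
      exact Nat.card_congr
        ((equivMapOfInjective V' f.toMonoidHom f.injective).trans
          (MulEquiv.subgroupCongr (map_comap_eq_self_of_surjective f.surjective V))).toEquiv
    have hU : IsKleinFour ↥U := by
      refine ⟨hUc, Nat.dvd_antisymm (Monoid.exponent_dvd_of_forall_pow_eq_one fun x => ?_) ?_⟩
      · obtain ⟨_, ⟨y, hy, rfl⟩⟩ := x
        apply Subtype.ext
        show ((y : G)) ^ 2 = 1
        have : y ^ 2 = 1 := f.injective (by rw [map_pow, map_one]; exact hVsq _ hy)
        simpa using congrArg Subtype.val this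
      · haveI : Fact (Nat.Prime 2) := ⟨Nat.prime_two⟩
        obtain ⟨u, hu⟩ := exists_prime_orderOf_dvd_card' (G := ↥U) 2 (by rw [hUc]; norm_num)
        exact hu ▸ Monoid.order_dvd_exponent u
    have hMle : M ≤ normalizer (U : Set G) := by
      refine le_trans ?_ (le_normalizer_map M.subtype)
      rw [normalizer_eq_top_iff.2 (inferInstance : V'.Normal)]
      exact fun z hz => ⟨⟨z, hz⟩, mem_top _, rfl⟩
    have hMeq : M = normalizer (U : Set G) := eq_of_le_of_card_ge hMle (by
      rw [S168.card_normalizer_klein h hU, Nat.card_congr f.toEquiv, Nat.card_eq_fintype_card,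
        Fintype.card_perm, Fintype.card_fin]
      rfl)
    obtain ⟨T', hT'⟩ := (IsPGroup.of_card (n := 2) hUc : IsPGroup 2 U).exists_le_sylow
    haveI : Fact (Nat.Prime 2) := ⟨Nat.prime_two⟩
    obtain ⟨g, rfl⟩ := MulAction.exists_smul_eq G T T'
    set W := U.map (MulAut.conj g⁻¹).toMonoidHom
    have hWT : W ≤ (T : Subgroup G) := by
      rintro _ ⟨x, hx, rfl⟩
      have := (mem_smul_sylow_iff g x T).1 (hT' hx)
      simpa using this
    have hW : IsKleinFour ↥W :=
      Cfsg.Agent.S1007.klein_congr (equivMapOfInjective _ _ (MulAut.conj g⁻¹).injective) hU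
    have hUW : U = W.map (MulAut.conj g).toMonoidHom := by
      ext x
      simp [W, mem_map, mul_assoc]
    refine ⟨g, ?_⟩
    have hcases : (⟨W, hWT, hW⟩ : {U : Subgroup G // U ≤ (T : Subgroup G) ∧ IsKleinFour ↥U}) ∈
        ({⟨U₁, hU1T, hU1⟩, ⟨U₂, hU2T, hU2⟩} : Set _) := huniv ▸ Set.mem_univ _
    rcases hcases with hc | hc
    · left
      rw [map_equiv_normalizer_eq, hMeq, hUW, show W = U₁ from congrArg Subtype.val hc]
    · right
      rw [map_equiv_normalizer_eq, hMeq, hUW, show W = U₂ from congrArg Subtype.val (Set.mem_singleton_iff.1 hc)]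

end

/-- In a simple group of order 168 every maximal subgroup is either isomorphic to the symmetric group of degree 4 or non-abelian of order 21; the maximal subgroups of order 21 form one conjugacy class and those isomorphic to the symmetric group of degree 4 form exactly two conjugacy classes. -/
theorem result {G : Type*} [Group G] [Finite G] [IsSimpleGroup G] (h : Nat.card G = 168) : (∀ M : Subgroup G, IsCoatom M → Nonempty (↥M ≃* Equiv.Perm (Fin 4)) ∨ (Nat.card ↥M = 21 ∧ ¬ IsMulCommutative ↥M)) ∧ (∀ M M' : Subgroup G, IsCoatom M → IsCoatom M' → Nat.card ↥M = 21 → Nat.card ↥M' = 21 → ∃ g : G, M' = M.map (MulAut.conj g).toMonoidHom) ∧ ∃ M₁ M₂ : Subgroup G, IsCoatom M₁ ∧ IsCoatom M₂ ∧ Nonempty (↥M₁ ≃* Equiv.Perm (Fin 4)) ∧ Nonempty (↥M₂ ≃* Equiv.Perm (Fin 4)) ∧ (∀ g : G, M₂ ≠ M₁.map (MulAut.conj g).toMonoidHom) ∧ ∀ M : Subgroup G, IsCoatom M → Nonempty (↥M ≃* Equiv.Perm (Fin 4)) → ∃ g : G, M = M₁.map (MulAut.conj g).toMonoidHom ∨ M = M₂.map (MulAut.conj g).toMonoidHom := by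
  classical
  obtain ⟨T⟩ := Sylow.nonempty (p := 2) (G := G)
  exact ⟨fun M hM => maximal_cases h hM, fun M M' hM hM' hc hc' => conj_of_21 h hc hc',
    two_classes h T⟩

end Cfsg.Agent.S1008
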