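import Cfsg.Statements.S0343
import Cfsg.Agent.H29.Ward.Reduce
import Cfsg.Agent.H79.Ward.Setup
import Cfsg.Agent.H79.Ward.Small
import Cfsg.Agent.H79.Ward.Three
import Cfsg.Agent.H84.Ward.Even
import Cfsg.Agent.H35.Ward.Eleven
import Cfsg.Agent.H29.Ward.PairKill
import Cfsg.Agent.H15.Ward.PslSide

set_option autoImplicit false
open Cfsg Cfsg.Agent Cfsg.Agent.H29.Ward

namespace Cfsg.Agent.S0343

/-- If a finite simple group has abelian Sylow `2`-subgroups and an involution whose centraliser is isomorphic to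
`Z₂ × PSL₂(F)` with `|F| = q ≥ 3`, then either `q = 3^(2m+1)` with `m ≥ 1` and the group has the small-Ree order
`q³(q³+1)(q-1)`, or `q = 4` or `q = 5` and the group is simple of the order of the smallest Janko group. -/
theorem result {G : Type*} [Group G] [Finite G]
    [IsSimpleGroup G] (hab : ∀ P : Sylow 2 G, ∀ a b : P, a * b = b * a)
    {F : Type*} [Field F] [Fintype F] (hq : 3 ≤ Fintype.card F) (t : G) (ht : orderOf t = 2)
    (hC : Nonempty (Subgroup.centralizer ({t} : Set G) ≃* Multiplicative (ZMod 2) × Matrix.ProjectiveSpecialLinearGroup (Fin 2) F)) :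
    (∃ m : ℕ, 1 ≤ m ∧ Fintype.card F = 3 ^ (2 * m + 1) ∧
        Nat.card G = (3 ^ (2 * m + 1)) ^ 3 * ((3 ^ (2 * m + 1)) ^ 3 + 1) * (3 ^ (2 * m + 1) - 1)) ∨
      ((Fintype.card F = 4 ∨ Fintype.card F = 5) ∧ Cfsg.IsJ1 G) := by
  by_cases h45 : Fintype.card F = 4 ∨ Fintype.card F = 5
  · exact Or.inr ⟨h45, H79.Ward.isJ1_of_four_five hab h45 t ht hC⟩
  left
  rcases Nat.even_or_odd (Fintype.card F) with he | ho
  · exact absurd (Or.inl (H84.WardEven.card_eq_four hab hq t ht hC he)) h45
  have h3 := H79.Ward.card_ne_three hab t ht hC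
  have h5 : 5 ≤ Fintype.card F := by
    have := Nat.odd_iff.1 ho
    omega
  obtain ⟨F', _, _, hcard, h⟩ := exists_hyp hab ho h5 ht hC
  rw [not_or] at h45
  rw [← hcard] at h45 ⊢
  have h19 : 19 ≤ Fintype.card F' := by
    by_contra hlt
    refine H35.Ward.false_of_three h ?_
    have := h.mod_eight
    have := h.five
    omega
  obtain ⟨v, hv, hv1, hvt, hne, f, hfpf⟩ := H79.Ward.exists_frame_fpf h (by
    intro v hv hv1 hvt hne hk
    obtain ⟨-, -, -, k3, k5⟩ := h.torusK_facts hv hv1 hvt hne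
    rcases h.mod_eight with e | e
    · have := k3 e
      omega
    · have := k5 e
      omega)
  letI : Fintype G := Fintype.ofFinite G
  letI : Fintype (Matrix.ProjectiveSpecialLinearGroup (Fin 2) F') := Fintype.ofFinite _
  obtain ⟨J, W, _, _, X, μ, hX, hV⟩ := H15.Ward.exists_pslSide f h.five h.mod_eight
  exact H29.Ward.ward_equations h (by omega) f hfpf hX hV

end Cfsg.Agent.S0343
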