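import Cfsg.Statements.S3909


set_option autoImplicit false
open Cfsg

namespace Cfsg.Agent.S3909

/-- Let G be a finite group in which any two abelian subgroups of the same order are conjugate. Let M be a normal subgroup of G. If M contains an element of the same order as a ∈ G, then a ∈ M; and if M is elementary abelian of order p^t with p prime and t ≥ 2, then M is the unique Sylow p-subgroup of G. -/
theorem result {G : Type*} [Group G] [Finite G] (hB : ∀ A B : Subgroup G, IsMulCommutative ↥A → IsMulCommutative ↥B → Nat.card ↥A = Nat.card ↥B → ∃ g : G, B = A.map (MulAut.conj g).toMonoidHom) (M : Subgroup G) [M.Normal] :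
    (∀ a : G, (∃ m ∈ M, orderOf m = orderOf a) → a ∈ M) ∧
    ∀ (p t : ℕ) [Fact p.Prime], 2 ≤ t → Nat.card ↥M = p ^ t → Cfsg.IsElementaryAbelian p M → ∀ P : Sylow p G, (P : Subgroup G) = M := by
  refine ⟨fun a ⟨m, hm, hma⟩ => ?_, fun p t _ ht hcard hM P => ?_⟩
  · obtain ⟨g, hg⟩ := hB (Subgroup.zpowers m) (Subgroup.zpowers a) inferInstance inferInstance
      (by rw [Nat.card_zpowers, Nat.card_zpowers, hma])
    obtain ⟨z, hz, hza⟩ : a ∈ (Subgroup.zpowers m).map (MulAut.conj g).toMonoidHom :=
      hg ▸ Subgroup.mem_zpowers a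
    rw [← hza]
    exact (inferInstance : M.Normal).conj_mem z (Subgroup.zpowers_le.mpr hm hz) g
  · have hp : p.Prime := Fact.out
    have hinM : ∀ x : G, x ^ p = 1 → x ∈ M := by
      intro x hx
      rcases eq_or_ne x 1 with rfl | hx1
      · exact one_mem M
      have hox : orderOf x = p := orderOf_eq_prime hx hx1
      obtain ⟨m, hm⟩ := exists_prime_orderOf_dvd_card' (G := ↥M) p (hcard ▸ dvd_pow_self p (by omega))
      obtain ⟨g, hg⟩ := hB (Subgroup.zpowers (m : G)) (Subgroup.zpowers x) inferInstance inferInstance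
        (by rw [Nat.card_zpowers, Nat.card_zpowers, hox, Subgroup.orderOf_coe, hm])
      obtain ⟨z, hz, hza⟩ : x ∈ (Subgroup.zpowers (m : G)).map (MulAut.conj g).toMonoidHom :=
        hg ▸ Subgroup.mem_zpowers x
      rw [← hza]
      exact (inferInstance : M.Normal).conj_mem z (Subgroup.zpowers_le.mpr m.2 hz) g
    have hexp : ∀ x ∈ (P : Subgroup G), x ^ p = 1 := by
      intro x hx
      by_contra hxp
      obtain ⟨k, hk⟩ := IsPGroup.iff_orderOf.mp P.isPGroup' ⟨x, hx⟩
      rw [Subgroup.orderOf_mk] at hk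
      have hk2 : 2 ≤ k := by
        by_contra h
        apply hxp
        rw [← orderOf_dvd_iff_pow_eq_one, hk]
        exact (pow_dvd_pow p (by omega : k ≤ 1)).trans (pow_one p).dvd
      set w := x ^ (orderOf x / p ^ 2)
      have hw : orderOf w = p ^ 2 :=
        orderOf_pow_orderOf_div (orderOf_pos x).ne' (hk ▸ pow_dvd_pow p hk2)
      obtain ⟨E, hE⟩ := Sylow.exists_subgroup_card_pow_prime (G := ↥M) p (hcard ▸ pow_dvd_pow p ht)
      have hab := hM.1
      obtain ⟨g, hg⟩ := hB (E.map M.subtype) (Subgroup.zpowers w) inferInstance inferInstance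
        (by rw [Subgroup.card_map_of_injective M.subtype_injective, hE, Nat.card_zpowers, hw])
      obtain ⟨z, hz, hzw⟩ : w ∈ (E.map M.subtype).map (MulAut.conj g).toMonoidHom :=
        hg ▸ Subgroup.mem_zpowers w
      have hwp : w ^ p = 1 := by
        rw [← hzw]
        refine (map_pow (MulAut.conj g).toMonoidHom z p).symm.trans ?_
        rw [hM.2 z (Subgroup.map_subtype_le E hz), map_one]
      have := Nat.le_of_dvd hp.pos (hw ▸ orderOf_dvd_iff_pow_eq_one.mpr hwp)
      nlinarith [hp.two_le]
    exact P.is_maximal' (IsPGroup.of_card hcard) (fun x hx => hinM x (hexp x hx)) |>.symm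

end Cfsg.Agent.S3909
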