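import Cfsg.Statements.S4488
import Cfsg.Agent.H43.Galois
import Cfsg.Agent.H26.RationalValue
import Cfsg.Agent.H83.ClassConst
import Cfsg.Agent.CharInduce.Ops
import Mathlib

set_option autoImplicit false
open Cfsg

namespace Cfsg.Agent.S4488

open Cfsg.Agent Finset

/-- `(∑ x)^(p^b)` is `∑ x^(p^b)` modulo `p`. -/
theorem sum_pow_prime_pow {R : Type*} [CommRing R] {ι : Type*} {p : ℕ} (hp : p.Prime) (b : ℕ)
    (s : Finset ι) (x : ι → R) :
    ∃ w : R, (∑ i ∈ s, x i) ^ p ^ b = ∑ i ∈ s, x i ^ p ^ b + (p : R) * w := by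
  classical
  induction s using Finset.induction_on with
  | empty => exact ⟨0, by simp [hp.ne_zero]⟩
  | @insert a t ha ih =>
    obtain ⟨w, hw⟩ := ih
    obtain ⟨c, hc⟩ := exists_add_pow_prime_pow_eq hp (x a) (∑ i ∈ t, x i) b
    refine ⟨x a * (∑ i ∈ t, x i) * c + w, ?_⟩
    rw [sum_insert ha, sum_insert ha, hc, hw]
    ring

/-- A `p`-rational character takes rational integer values on `p`-elements, congruent to the
degree, and constant on generators of the cyclic subgroup. -/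
theorem value_int {G : Type*} [Group G] [Finite G] {p : ℕ} (hp : p.Prime) {χ : G → ℂ}
    (hχ : Cfsg.IsCharacter G χ) {r : ℕ} (hr0 : 0 < r) (hr : ¬ p ∣ r)
    (hrat : ∀ g : G, χ g ∈
      IntermediateField.adjoin ℚ ({Complex.exp (2 * Real.pi * Complex.I / r)} : Set ℂ))
    {N : ℕ} (hN : χ 1 = N) {g : G} {b : ℕ} (hg : orderOf g = p ^ b) :
    ∃ T : ℤ, χ g = (T : ℂ) ∧ ((p : ℤ) ∣ (N : ℤ) - T) ∧
      ∀ k : ℕ, k.Coprime p → χ (g ^ k) = χ g := by
  obtain ⟨m, ζ, e, hζ, hval⟩ := H81.exists_exponents hχ g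
  rw [hg] at hζ
  haveI : NeZero (p ^ b) := ⟨pow_ne_zero _ hp.ne_zero⟩
  have hg1 : χ g = ∑ i, ζ ^ e i := by simpa using hval 1
  have hm : m = N := by
    have := hval 0
    simp [hN] at this
    exact this.symm
  have hcop : Nat.Coprime (p ^ b) r := ((hp.coprime_iff_not_dvd).2 hr).pow_left b
  set ρ := Complex.exp (2 * Real.pi * Complex.I / r) with hρdef
  have hρ : IsPrimitiveRoot ρ r := Complex.isPrimitiveRoot_exp r hr0.ne'
  have hconj : ∀ k : ℕ, Nat.Coprime k (p ^ b) → ∑ i, (ζ ^ k) ^ e i = ∑ i, ζ ^ e i := by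
    intro k hk
    obtain ⟨k', h1, h2⟩ := Nat.chineseRemainder hcop k 1
    have hk' : k'.Coprime (r * p ^ b) := Nat.Coprime.mul_right
      (by unfold Nat.Coprime; rw [h2.gcd_eq, Nat.gcd_one_left])
      (by unfold Nat.Coprime; rw [h1.gcd_eq]; exact hk)
    obtain ⟨σ, hσ⟩ := H43.exists_aut_pow (mul_ne_zero hr0.ne' (NeZero.ne (p ^ b))) hk'
    have hρfix : σ ρ = ρ := by
      rw [hσ ρ (by rw [pow_mul, hρ.pow_eq_one, one_pow])]
      conv_rhs => rw [← pow_one ρ]
      exact pow_eq_pow_of_modEq h2 hρ.pow_eq_one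
    have hζσ : σ ζ = ζ ^ k := by
      rw [hσ ζ (by rw [mul_comm, pow_mul, hζ.pow_eq_one, one_pow])]
      exact pow_eq_pow_of_modEq h1 hζ.pow_eq_one
    have hfix : ∀ z ∈ IntermediateField.adjoin ℚ ({ρ} : Set ℂ), σ z = z := by
      intro z hz
      induction hz using IntermediateField.adjoin_induction with
      | mem x hx => rw [Set.mem_singleton_iff] at hx; rw [hx, hρfix]
      | algebraMap x => simp
      | add x y _ _ hx hy => rw [map_add, hx, hy]
      | inv x _ hx => rw [map_inv₀, hx]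
      | mul x y _ _ hx hy => rw [map_mul, hx, hy]
    have := hfix _ (hrat g)
    rw [hg1, map_sum] at this
    simpa [map_pow, hζσ] using this
  obtain ⟨q, hq⟩ := (H26.rootsum_rational_iff hζ e).2 hconj
  rw [← hg1] at hq
  obtain ⟨T, hT⟩ := H43.int_of_rat_integral (CharBasic.IsChar.isIntegral hχ g) hq
  refine ⟨T, hT, ?_, fun k hk => by
    rw [hval, hconj k (Nat.Coprime.pow_right b hk), hg1]⟩
  let A := integralClosure ℤ ℂ
  let x : A := ⟨ζ, hζ.isIntegral (NeZero.pos _)⟩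
  obtain ⟨w, hw⟩ := sum_pow_prime_pow hp b Finset.univ (fun i => x ^ e i)
  have hone : ∀ i, (x ^ e i) ^ p ^ b = 1 := fun i => by
    apply Subtype.ext
    push_cast
    rw [← pow_mul, mul_comm, pow_mul]
    simp [x, hζ.pow_eq_one]
  simp only [hone, sum_const, card_univ, Fintype.card_fin, nsmul_one] at hw
  have hw' := congrArg (Subtype.val : A → ℂ) hw
  push_cast at hw'
  rw [show ∑ i, (x : ℂ) ^ e i = (T : ℂ) from hg1.symm.trans hT, hm] at hw'
  have hdvd := H83.int_dvd_of_isIntegral (z := (w : ℂ)) (n := (p : ℤ))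
    (m := T ^ p ^ b - (N : ℤ)) w.2 (by exact_mod_cast hp.ne_zero)
    (by push_cast; rw [hw']; ring)
  haveI := Fact.mk hp
  rw [← ZMod.intCast_zmod_eq_zero_iff_dvd] at hdvd ⊢
  push_cast at hdvd ⊢
  rw [ZMod.pow_card_pow] at hdvd
  linear_combination -hdvd

/-- The lower bound `-(N)/(p-1)` for a character value constant on generators. -/
theorem value_lower {G : Type*} [Group G] [Finite G] {p : ℕ} (hp : p.Prime) {χ : G → ℂ}
    (hχ : Cfsg.IsCharacter G χ) {N : ℕ} (hN : χ 1 = N) {g : G} {c : ℕ}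
    (hg : orderOf g = p ^ (c + 1)) {T : ℤ} (hT : χ g = T)
    (hgen : ∀ k : ℕ, k.Coprime p → χ (g ^ k) = χ g) : -(N : ℤ) ≤ ((p : ℤ) - 1) * T := by
  classical
  cases nonempty_fintype G
  let H := Subgroup.zpowers g
  let K := Subgroup.zpowers (g ^ p)
  have hKH : K ≤ H := Subgroup.zpowers_le.2 (Subgroup.pow_mem _ (Subgroup.mem_zpowers g) p)
  have hcardH : Nat.card H = p ^ (c + 1) := by rw [Nat.card_zpowers, hg]
  have hcardK : Nat.card K = p ^ c := by
    rw [Nat.card_zpowers, orderOf_pow_of_dvd hp.ne_zero (by rw [hg]; exact dvd_pow_self p (by omega)),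
      hg, pow_succ, Nat.mul_div_cancel _ hp.pos]
  let sH := (Finset.univ : Finset G).filter (· ∈ H)
  let sK := (Finset.univ : Finset G).filter (· ∈ K)
  have hsub : sK ⊆ sH := fun x hx => by
    simp only [sH, sK, mem_filter, mem_univ, true_and] at hx ⊢
    exact hKH hx
  have hcH : sH.card = p ^ (c + 1) := by
    rw [← hcardH, Nat.card_eq_fintype_card, Fintype.card_subtype]
  have hcK : sK.card = p ^ c := by
    rw [← hcardK, Nat.card_eq_fintype_card, Fintype.card_subtype]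
  have hout : ∀ x ∈ sH \ sK, χ x = (T : ℂ) := by
    intro x hx
    simp only [sH, sK, mem_sdiff, mem_filter, mem_univ, true_and] at hx
    obtain ⟨k, rfl⟩ := (Submonoid.mem_powers_iff _ _).1
      (mem_powers_iff_mem_zpowers.2 (show x ∈ Subgroup.zpowers g from hx.1))
    rw [hgen k ?_, hT]
    refine ((hp.coprime_iff_not_dvd).2 ?_).symm
    rintro ⟨j, rfl⟩
    exact hx.2 (by rw [pow_mul]; exact Subgroup.pow_mem _ (Subgroup.mem_zpowers _) j)
  obtain ⟨d, hd⟩ := H83.sum_subgroup_eq hχ H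
  rw [← Finset.sum_subtype sH (by simp [sH, H]) χ, ← Finset.sum_sdiff hsub,
    sum_congr rfl hout, sum_const, card_sdiff_of_subset hsub, hcH, hcK, hcardH,
    nsmul_eq_mul] at hd
  have hn : ‖∑ x ∈ sK, χ x‖ ≤ (p : ℝ) ^ c * N := by
    refine (norm_sum_le _ _).trans ?_
    refine (sum_le_card_nsmul _ _ (N : ℝ) fun x _ => ?_).trans (le_of_eq ?_)
    · simpa [hN] using CharBasic.IsChar.norm_le hχ x
    · rw [hcK, nsmul_eq_mul]; push_cast; rfl
  have hle : p ^ c ≤ p ^ (c + 1) := Nat.pow_le_pow_right hp.pos (by omega)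
  push_cast [hle] at hd
  have hre : ∑ x ∈ sK, χ x =
      (((p : ℝ) ^ (c + 1) * d - ((p : ℝ) ^ (c + 1) - (p : ℝ) ^ c) * T : ℝ) : ℂ) := by
    push_cast
    linear_combination hd
  rw [hre, Complex.norm_real, Real.norm_eq_abs] at hn
  have h2 := (le_abs_self _).trans hn
  have hpc : (0 : ℝ) < (p : ℝ) ^ c := by
    have := hp.pos
    positivity
  have h3 : (0 : ℝ) ≤ (p : ℝ) ^ (c + 1) * d := by positivity
  have key : (p : ℝ) ^ c * (-(N : ℝ)) ≤ (p : ℝ) ^ c * (((p : ℝ) - 1) * T) := by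
    rw [pow_succ] at h2 h3
    nlinarith
  have := le_of_mul_le_mul_left key hpc
  exact_mod_cast this

/-- Moments of a character over a subgroup are multiples of the subgroup order. -/
theorem sum_prod_sub_eq {G : Type*} [Group G] [Finite G] {χ : G → ℂ}
    (hχ : Cfsg.IsCharacter G χ) (P : Subgroup G) [Fintype P] {ι : Type*} (s : Finset ι)
    (c : ι → ℤ) : ∀ j : ℕ, ∃ z : ℤ, ∑ h : P, χ (h : G) ^ j * ∏ k ∈ s, (χ (h : G) - (c k : ℂ)) =
      (Nat.card P : ℂ) * (z : ℂ) := by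
  classical
  induction s using Finset.induction_on with
  | empty =>
    intro j
    obtain ⟨m, hm⟩ := H83.sum_subgroup_eq (CharInduce.IsChar.pow hχ j) P
    exact ⟨m, by simpa using hm⟩
  | @insert a t ha ih =>
    intro j
    obtain ⟨z1, hz1⟩ := ih (j + 1)
    obtain ⟨z2, hz2⟩ := ih j
    refine ⟨z1 - c a * z2, ?_⟩
    have : ∀ h : P, χ (h : G) ^ j * ∏ k ∈ insert a t, (χ (h : G) - (c k : ℂ)) =
        χ (h : G) ^ (j + 1) * ∏ k ∈ t, (χ (h : G) - (c k : ℂ)) -
          (c a : ℂ) * (χ (h : G) ^ j * ∏ k ∈ t, (χ (h : G) - (c k : ℂ))) := fun h => by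
      rw [prod_insert ha]; ring
    rw [sum_congr rfl fun h _ => this h, sum_sub_distrib, ← mul_sum, hz1, hz2]
    push_cast
    ring

/-- Let the finite group G have a faithful p-rational character χ of degree n (all values of χ lie in the field generated over ℚ by a root of unity of order prime to p), and let p^a be the order of a Sylow p-subgroup of G. Then a ≤ Σ_{i ≥ 0} ⌊n / ((p − 1)·p^i)⌋ (a finite sum; the terms vanish once (p − 1)p^i > n). -/
theorem result {G : Type*} [Group G] [Finite G] (p : ℕ) (hp : p.Prime) (χ : G → ℂ) (hχ : Cfsg.IsCharacter G χ) (hfaith : ∀ g : G, χ g = χ 1 → g = 1) (hrat : (∃ r : ℕ, 0 < r ∧ ¬ p ∣ r ∧ ∀ g : G, χ g ∈ IntermediateField.adjoin ℚ ({Complex.exp (2 * Real.pi * Complex.I / r)} : Set ℂ))) (n : ℕ) (hn : Cfsg.charDegree χ = n) : (Nat.card G).factorization p ≤ ∑ i ∈ Finset.range (n + 1), n / ((p - 1) * p ^ i) := by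
  classical
  obtain ⟨r, hr0, hr, hrat⟩ := hrat
  obtain ⟨N, hN⟩ := CharBasic.IsChar.exists_degree hχ
  have hnN : n = N := by rw [← hn, Cfsg.charDegree, hN]; simp
  subst hnN
  haveI := Fact.mk hp
  cases nonempty_fintype G
  obtain ⟨P⟩ : Nonempty (Sylow p G) := inferInstance
  have hcardP := P.card_eq_multiplicity
  set a := (Nat.card G).factorization p
  set M := n / (p - 1) with hM
  have hp1 : 1 ≤ p - 1 := by have := hp.two_le; omega
  obtain ⟨z, hz⟩ := sum_prod_sub_eq hχ (P : Subgroup G) (Finset.Icc 1 M)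
    (fun k => (n : ℤ) - p * k) 0
  have hzero : ∀ h : (P : Subgroup G), h ≠ 1 → χ (h : G) ^ 0 *
      ∏ k ∈ Finset.Icc 1 M, (χ (h : G) - (((n : ℤ) - p * k : ℤ) : ℂ)) = 0 := by
    intro h hne
    have hne' : (h : G) ≠ 1 := fun e => hne (Subtype.ext e)
    obtain ⟨b, hb⟩ := P.2 h
    obtain ⟨b', -, hb'⟩ := (Nat.dvd_prime_pow hp).1 (orderOf_dvd_of_pow_eq_one
      (show (h : G) ^ p ^ b = 1 by simpa using congrArg Subtype.val hb))
    obtain ⟨c, rfl⟩ : ∃ c, b' = c + 1 := ⟨b' - 1, by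
      rcases Nat.eq_zero_or_pos b' with e | e
      · exact absurd (orderOf_eq_one_iff.1 (by simpa [e] using hb')) hne'
      · omega⟩
    obtain ⟨T, hT, ⟨k, hk⟩, hgen⟩ := value_int hp hχ hr0 hr hrat hN hb'
    have hlow := value_lower hp hχ hN hb' hT hgen
    have hlt : T < (n : ℤ) := by
      refine lt_of_le_of_ne ?_ fun e => hne' (hfaith _ (by rw [hT, hN, e]; simp))
      have := CharBasic.IsChar.norm_le hχ (h : G)
      rw [hT, hN, Complex.norm_intCast, Complex.norm_natCast] at this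
      have := (le_abs_self _).trans this
      exact_mod_cast this
    have hk1 : 1 ≤ k := by
      rcases le_or_gt k 0 with e | e
      · have := hp.pos
        nlinarith
      · omega
    obtain ⟨j, rfl⟩ : ∃ j : ℕ, k = j := ⟨k.toNat, by omega⟩
    have hjM : j ≤ M := by
      rw [hM, Nat.le_div_iff_mul_le (by omega)]
      have h4 : (p : ℤ) * ((j : ℤ) * ((p : ℤ) - 1)) ≤ (p : ℤ) * n := by
        have : T = (n : ℤ) - p * j := by omega
        rw [this] at hlow
        nlinarith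
      have h5 := le_of_mul_le_mul_left h4 (by exact_mod_cast hp.pos)
      have h6 : ((p - 1 : ℕ) : ℤ) = (p : ℤ) - 1 := by
        rw [Nat.cast_sub hp.one_le]; rfl
      rw [← h6] at h5
      exact_mod_cast h5
    rw [Finset.prod_eq_zero (Finset.mem_Icc.2 ⟨by exact_mod_cast hk1, hjM⟩), mul_zero]
    rw [hT, sub_eq_zero, Int.cast_inj]
    omega
  rw [Finset.sum_eq_single_of_mem (1 : (P : Subgroup G)) (Finset.mem_univ _)
    (fun h _ hne => hzero h hne)] at hz
  simp only [pow_zero, one_mul, OneMemClass.coe_one, hN] at hz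
  have hfac : ∀ m : ℕ, ∏ k ∈ Finset.Icc 1 m, (k : ℕ) = m.factorial := fun m => by
    induction m with
    | zero => simp
    | succ m ih => rw [Finset.prod_Icc_succ_top (by omega), ih, Nat.factorial_succ, mul_comm]
  have hprod : ∏ k ∈ Finset.Icc 1 M, ((n : ℂ) - (((n : ℤ) - p * k : ℤ) : ℂ)) =
      ((p ^ M * M.factorial : ℕ) : ℂ) := by
    rw [← hfac M]
    push_cast
    simp [Finset.prod_mul_distrib]
  rw [hprod, hcardP] at hz
  have hdvd : p ^ a ∣ p ^ M * M.factorial := by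
    rw [← Int.natCast_dvd_natCast]
    exact ⟨z, by exact_mod_cast hz⟩
  have hle : a ≤ padicValNat p (p ^ M * M.factorial) :=
    (padicValNat_dvd_iff_le (mul_ne_zero (pow_ne_zero _ hp.ne_zero) M.factorial_ne_zero)).1 hdvd
  refine hle.trans (le_of_eq ?_)
  rw [padicValNat.mul (pow_ne_zero _ hp.ne_zero) M.factorial_ne_zero, padicValNat.prime_pow,
    padicValNat_factorial (b := n + 1)
      ((Nat.log_le_self p M).trans_lt (Nat.lt_succ_of_le (Nat.div_le_self _ _))),
    Finset.range_eq_Ico, Finset.sum_eq_sum_Ico_succ_bot (Nat.succ_pos n), pow_zero, mul_one]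
  congr 1
  exact Finset.sum_congr rfl fun i _ => Nat.div_div_eq_div_mul n (p - 1) (p ^ i)

end Cfsg.Agent.S4488
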