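import Cfsg.Statements.S2378
import Cfsg.Agent.H77.Homocyclic.Sylow
-- import your own Cfsg.Agent.* helpers here

set_option autoImplicit false
open Cfsg

namespace Cfsg.Agent.S2378

open Cfsg.Lie Cfsg.Agent.H37 in
/-- The order statements from the normal form. -/
theorem order_pair {D : ChevalleyDatum} {L : Type*} [Field L] [Fintype L] (Q : Chev.Data D L)
    {degs : List ℕ} (hdeg : Q.X.C.degCheck Q.X.n degs = true) (hlen : degs.length = Q.X.n) {c r : ℕ}
    (hrc : ¬ r ∣ c)
    (hH : c * Nat.card (D.diagonalSubgroup L) = (Nat.card L - 1) ^ D.rank) :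
    ∃ c, ¬ r ∣ c ∧
      c * Nat.card ↥(D.group L) =
        Fintype.card L ^ (D.nroots / 2) * (degs.map fun e => Fintype.card L ^ e - 1).prod ∧
      c * Nat.card ↥(D.diagonalSubgroup L) = (Fintype.card L - 1) ^ D.rank := by
  refine ⟨c, hrc, ?_, ?_⟩
  · rw [Q.card_group hdeg hlen (by rw [← Q.rank_eq]; exact hH), Nat.card_eq_fintype_card (α := L)]
  · rw [hH, Nat.card_eq_fintype_card (α := L)]

theorem not_dvd_gcd {r d k e : ℕ} (hr : r.Prime) (h : ¬ r ∣ d) : ¬ r ∣ Nat.gcd d k ^ e :=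
  fun hd => h ((hr.dvd_of_dvd_pow hd).trans (Nat.gcd_dvd_left d k))

/-- Sylow subgroups for primes away from the characteristic and the Weyl group. Let `G` be the Chevalley group of type G₂, B₂, D₄, F₄, E₆, E₇ or E₈ over a field with `q` elements, with the degrees of its Weyl group listed beside the type (their product is the order of the Weyl group), and let `r` be a prime dividing the order of `G`, not dividing `q` and not dividing the order of the Weyl group. Let `d` be the multiplicative order of `q` modulo `r`, `a` the number of degrees divisible by `d`, and `m` the `r`-part of the value at `q` of the `d`-th cyclotomic polynomial. Then every Sylow `r`-subgroup of `G` is homocyclic: a direct product of `a` cyclic groups of order `m` (in particular abelian). -/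
theorem result {F : Type*} [Field F] [Fintype F] {q : ℕ} (hq : Fintype.card F = q)
    (c : Cfsg.Lie.ChevalleyDatum × List ℕ)
    (hc : c ∈ [(Cfsg.Lie.chevG2, [2, 6]), (Cfsg.Lie.chevB2, [2, 4]), (Cfsg.Lie.chevD4, [2, 4, 4, 6]), (Cfsg.Lie.chevF4, [2, 6, 8, 12]),
      (Cfsg.Lie.chevE6, [2, 5, 6, 8, 9, 12]), (Cfsg.Lie.chevE7, [2, 6, 8, 10, 12, 14, 18]), (Cfsg.Lie.chevE8, [2, 8, 12, 14, 18, 20, 24, 30])])
    (r : ℕ) [Fact r.Prime] (hrq : ¬ r ∣ q) (hrW : ¬ r ∣ c.2.prod) (hrG : r ∣ Nat.card ↥(c.1.group F)) (P : Sylow r ↥(c.1.group F)) :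
    Nonempty (↥(P : Subgroup ↥(c.1.group F)) ≃*
      (Fin (c.2.filter (fun e => orderOf (q : ZMod r) ∣ e)).length →
        Multiplicative (ZMod (r ^ padicValNat r ((Polynomial.cyclotomic (orderOf (q : ZMod r)) ℤ).eval (q : ℤ)).natAbs)))) := by
  have hr : r.Prime := Fact.out
  have hrone : ¬ r ∣ 1 := fun h => hr.ne_one (Nat.dvd_one.1 h)
  have hdeg : ∀ e ∈ c.2, ¬ r ∣ e := fun e he h => hrW (h.trans (List.dvd_prod he))
  have hr2 : r ≠ 2 := fun h => by
    refine hdeg 2 ?_ (h ▸ dvd_rfl)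
    simp only [List.mem_cons, List.not_mem_nil, or_false] at hc
    rcases hc with rfl | rfl | rfl | rfl | rfl | rfl | rfl <;> simp
  have hrd : ∀ k, k ∣ c.2.prod → ¬ r ∣ k := fun k hk h => hrW (h.trans hk)
  simp only [List.mem_cons, List.not_mem_nil, or_false] at hc
  rcases hc with rfl | rfl | rfl | rfl | rfl | rfl | rfl
  · have hA : H77.Homocyclic.cartanMat Lie.chevG2 = H37.cartanG2 :=
      Matrix.ext fun i j => of_decide_eq_true ((show ∀ i j : Fin 2,
        decide (H77.Homocyclic.cartanMat Lie.chevG2 i j = H37.cartanG2 i j) = true by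
          decide +kernel) i j)
    obtain ⟨cF, hcF, hGF, -⟩ := order_pair (H37.Chev.dataG2 F) H37.Weyl.degsG2 rfl
      (c := 1) hrone (H37.Chev.diag_G2 F)
    rw [hq] at hGF
    exact H77.Homocyclic.sylow_homocyclic (D := Lie.chevG2) [2, 6] (hA.symm ▸ H37.kerCertG2)
      (hA.symm ▸ H77.Homocyclic.eigenBound_G2) rfl (fun L _ => H37.Chev.dataG2 L) r hr2
      hrone hdeg
      (fun L _ => by
        rw [show Nat.card (H37.Chev.dataG2 L).X.M.Group = _ from H37.Weyl.cardG2]
        exact hrW)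
      (fun L _ _ => order_pair (H37.Chev.dataG2 L) H37.Weyl.degsG2 rfl
        (c := 1) hrone (H37.Chev.diag_G2 L))
      hq hrq ⟨cF, hcF, hGF⟩ hrG P
  · have hA : H77.Homocyclic.cartanMat Lie.chevB2 = H37.cartanB2 :=
      Matrix.ext fun i j => of_decide_eq_true ((show ∀ i j : Fin 2,
        decide (H77.Homocyclic.cartanMat Lie.chevB2 i j = H37.cartanB2 i j) = true by
          decide +kernel) i j)
    obtain ⟨cF, hcF, hGF, -⟩ := order_pair (H37.Chev.dataB2 F) H37.Weyl.degsB2 rfl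
      (c := Nat.gcd 2 (Nat.card F - 1) ^ 1) (not_dvd_gcd (e := 1) hr (hrd 2 (by decide))) (by rw [pow_one]; exact H37.Chev.diag_B2 F)
    rw [hq] at hGF
    exact H77.Homocyclic.sylow_homocyclic (D := Lie.chevB2) [2, 4] (hA.symm ▸ H37.kerCertB2)
      (hA.symm ▸ H77.Homocyclic.eigenBound_B2) rfl (fun L _ => H37.Chev.dataB2 L) r hr2
      (hrd 2 (by decide)) hdeg
      (fun L _ => by
        rw [show Nat.card (H37.Chev.dataB2 L).X.M.Group = _ from H37.Weyl.cardB2]
        exact hrW)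
      (fun L _ _ => order_pair (H37.Chev.dataB2 L) H37.Weyl.degsB2 rfl
        (c := Nat.gcd 2 (Nat.card L - 1) ^ 1) (not_dvd_gcd (e := 1) hr (hrd 2 (by decide))) (by rw [pow_one]; exact H37.Chev.diag_B2 L))
      hq hrq ⟨cF, hcF, hGF⟩ hrG P
  · have hA : H77.Homocyclic.cartanMat Lie.chevD4 = H37.cartanD4 :=
      Matrix.ext fun i j => of_decide_eq_true ((show ∀ i j : Fin 4,
        decide (H77.Homocyclic.cartanMat Lie.chevD4 i j = H37.cartanD4 i j) = true by
          decide +kernel) i j)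
    obtain ⟨cF, hcF, hGF, -⟩ := order_pair (H37.Chev.dataD4 F) H37.Weyl.degsD4 rfl
      (c := Nat.gcd 2 (Nat.card F - 1) ^ 2) (not_dvd_gcd (e := 2) hr (hrd 2 (by decide))) (H37.Chev.diag_D4 F)
    rw [hq] at hGF
    exact H77.Homocyclic.sylow_homocyclic (D := Lie.chevD4) [2, 4, 4, 6] (hA.symm ▸ H37.kerCertD4)
      (hA.symm ▸ H77.Homocyclic.eigenBound_D4) rfl (fun L _ => H37.Chev.dataD4 L) r hr2
      (hrd 2 (by decide)) hdeg
      (fun L _ => by
        rw [show Nat.card (H37.Chev.dataD4 L).X.M.Group = _ from H37.Weyl.cardD4]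
        exact hrW)
      (fun L _ _ => order_pair (H37.Chev.dataD4 L) H37.Weyl.degsD4 rfl
        (c := Nat.gcd 2 (Nat.card L - 1) ^ 2) (not_dvd_gcd (e := 2) hr (hrd 2 (by decide))) (H37.Chev.diag_D4 L))
      hq hrq ⟨cF, hcF, hGF⟩ hrG P
  · have hA : H77.Homocyclic.cartanMat Lie.chevF4 = H37.cartanF4 :=
      Matrix.ext fun i j => of_decide_eq_true ((show ∀ i j : Fin 4,
        decide (H77.Homocyclic.cartanMat Lie.chevF4 i j = H37.cartanF4 i j) = true by
          decide +kernel) i j)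
    obtain ⟨cF, hcF, hGF, -⟩ := order_pair (H37.Chev.dataF4 F) H37.Weyl.degsF4 rfl
      (c := 1) hrone (H37.Chev.diag_F4 F)
    rw [hq] at hGF
    exact H77.Homocyclic.sylow_homocyclic (D := Lie.chevF4) [2, 6, 8, 12] (hA.symm ▸ H37.kerCertF4)
      (hA.symm ▸ H77.Homocyclic.eigenBound_F4) rfl (fun L _ => H37.Chev.dataF4 L) r hr2
      hrone hdeg
      (fun L _ => by
        rw [show Nat.card (H37.Chev.dataF4 L).X.M.Group = _ from H37.Weyl.cardF4]
        exact hrW)
      (fun L _ _ => order_pair (H37.Chev.dataF4 L) H37.Weyl.degsF4 rfl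
        (c := 1) hrone (H37.Chev.diag_F4 L))
      hq hrq ⟨cF, hcF, hGF⟩ hrG P
  · have hA : H77.Homocyclic.cartanMat Lie.chevE6 = H37.cartanE6 :=
      Matrix.ext fun i j => of_decide_eq_true ((show ∀ i j : Fin 6,
        decide (H77.Homocyclic.cartanMat Lie.chevE6 i j = H37.cartanE6 i j) = true by
          decide +kernel) i j)
    obtain ⟨cF, hcF, hGF, -⟩ := order_pair (H37.Chev.dataE6 F) H37.Weyl.degsE6 rfl
      (c := Nat.gcd 3 (Nat.card F - 1) ^ 1) (not_dvd_gcd (e := 1) hr (hrd 3 (by decide))) (by rw [pow_one]; exact H37.Chev.diag_E6 F)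
    rw [hq] at hGF
    exact H77.Homocyclic.sylow_homocyclic (D := Lie.chevE6) [2, 5, 6, 8, 9, 12] (hA.symm ▸ H37.kerCertE6)
      (hA.symm ▸ H77.Homocyclic.eigenBound_E6) rfl (fun L _ => H37.Chev.dataE6 L) r hr2
      (hrd 3 (by decide)) hdeg
      (fun L _ => by
        rw [show Nat.card (H37.Chev.dataE6 L).X.M.Group = _ from H37.Weyl.cardE6]
        exact hrW)
      (fun L _ _ => order_pair (H37.Chev.dataE6 L) H37.Weyl.degsE6 rfl
        (c := Nat.gcd 3 (Nat.card L - 1) ^ 1) (not_dvd_gcd (e := 1) hr (hrd 3 (by decide))) (by rw [pow_one]; exact H37.Chev.diag_E6 L))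
      hq hrq ⟨cF, hcF, hGF⟩ hrG P
  · have hA : H77.Homocyclic.cartanMat Lie.chevE7 = H37.cartanE7 :=
      Matrix.ext fun i j => of_decide_eq_true ((show ∀ i j : Fin 7,
        decide (H77.Homocyclic.cartanMat Lie.chevE7 i j = H37.cartanE7 i j) = true by
          decide +kernel) i j)
    obtain ⟨cF, hcF, hGF, -⟩ := order_pair (H37.Chev.dataE7 F) H37.Weyl.degsE7 rfl
      (c := Nat.gcd 2 (Nat.card F - 1) ^ 1) (not_dvd_gcd (e := 1) hr (hrd 2 (by decide))) (by rw [pow_one]; exact H37.Chev.diag_E7 F)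
    rw [hq] at hGF
    exact H77.Homocyclic.sylow_homocyclic (D := Lie.chevE7) [2, 6, 8, 10, 12, 14, 18] (hA.symm ▸ H37.kerCertE7)
      (hA.symm ▸ H77.Homocyclic.eigenBound_E7) rfl (fun L _ => H37.Chev.dataE7 L) r hr2
      (hrd 2 (by decide)) hdeg
      (fun L _ => by
        rw [show Nat.card (H37.Chev.dataE7 L).X.M.Group = _ from H37.Weyl.cardE7]
        exact hrW)
      (fun L _ _ => order_pair (H37.Chev.dataE7 L) H37.Weyl.degsE7 rfl
        (c := Nat.gcd 2 (Nat.card L - 1) ^ 1) (not_dvd_gcd (e := 1) hr (hrd 2 (by decide))) (by rw [pow_one]; exact H37.Chev.diag_E7 L))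
      hq hrq ⟨cF, hcF, hGF⟩ hrG P
  · have hA : H77.Homocyclic.cartanMat Lie.chevE8 = H37.cartanE8 :=
      Matrix.ext fun i j => of_decide_eq_true ((show ∀ i j : Fin 8,
        decide (H77.Homocyclic.cartanMat Lie.chevE8 i j = H37.cartanE8 i j) = true by
          decide +kernel) i j)
    obtain ⟨cF, hcF, hGF, -⟩ := order_pair (H37.Chev.dataE8 F) H37.Weyl.degsE8 rfl
      (c := 1) hrone (H37.Chev.diag_E8 F)
    rw [hq] at hGF
    exact H77.Homocyclic.sylow_homocyclic (D := Lie.chevE8) [2, 8, 12, 14, 18, 20, 24, 30] (hA.symm ▸ H37.kerCertE8)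
      (hA.symm ▸ H77.Homocyclic.eigenBound_E8) rfl (fun L _ => H37.Chev.dataE8 L) r hr2
      hrone hdeg
      (fun L _ => by
        rw [show Nat.card (H37.Chev.dataE8 L).X.M.Group = _ from H37.Weyl.cardE8]
        exact hrW)
      (fun L _ _ => order_pair (H37.Chev.dataE8 L) H37.Weyl.degsE8 rfl
        (c := 1) hrone (H37.Chev.diag_E8 L))
      hq hrq ⟨cF, hcF, hGF⟩ hrG P

end Cfsg.Agent.S2378
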