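import Cfsg.Statements.S4914
import Cfsg.Agent.H34.RelGlauberman

set_option autoImplicit false
open Cfsg

namespace Cfsg.Agent.S4914

/-- Let P and K be subgroups of a finite group G with P a p-group normalizing K, and suppose K has a normal Sylow p-subgroup Q. Let C be the subgroup of those k ∈ K whose commutator with every element of P lies in Q (so that C/Q is the fixed-point subgroup of P on K/Q). Then there is a bijection f from the P-invariant irreducible complex characters of K onto the P-invariant irreducible complex characters of C such that, for every P-invariant irreducible character χ of K, the multiplicity of f(χ) in the restriction of χ to C is a natural number congruent to 1 or to −1 modulo p, every other P-invariant irreducible character of C occurs in that restriction with multiplicity divisible by p, and the degrees of χ and f(χ) are congruent modulo p up to sign.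 -/
theorem result {G : Type*} [Group G] [Finite G] (p : ℕ) [Fact p.Prime] (P K Q C : Subgroup G) (hP : IsPGroup p ↥P) (hPK : P ≤ Subgroup.normalizer (K : Set G)) (hQK : Q ≤ K) (hQn : ∀ k ∈ K, ∀ q ∈ Q, k * q * k⁻¹ ∈ Q) (hQp : ∃ a : ℕ, Nat.card ↥Q = p ^ a) (hQsyl : ¬ p ∣ Q.relIndex K) (hCK : C ≤ K) (hC : ∀ k : G, k ∈ C ↔ (k ∈ K ∧ ∀ x ∈ P, x * k * x⁻¹ * k⁻¹ ∈ Q)) : ∃ f : {χ : Cfsg.IrrCharacter ↥K // (∀ x ∈ P, ∀ k k' : ↥K, (k' : G) = x * (k : G) * x⁻¹ → (χ : ↥K → ℂ) k' = (χ : ↥K → ℂ) k)} → {ξ : Cfsg.IrrCharacter ↥C // (∀ x ∈ P, ∀ k k' : ↥C, (k' : G) = x * (k : G) * x⁻¹ → (ξ : ↥C → ℂ) k' = (ξ : ↥C → ℂ) k)}, Function.Bijective f ∧ ∀ χ, (∀ ξ : {ξ : Cfsg.IrrCharacter ↥C // (∀ x ∈ P, ∀ k k' : ↥C, (k' : G) = x * (k : G) * x⁻¹ → (ξ : ↥C → ℂ) k' = (ξ : ↥C → ℂ) k)}, ∃ m : ℕ, (Nat.card ↥C : ℂ)⁻¹ * ∑ᶠ c : ↥C, (χ.1 : ↥K → ℂ) (Subgroup.inclusion hCK c) * (starRingEnd ℂ) ((ξ.1 : ↥C → ℂ) c) = (m : ℂ)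 ∧ (ξ = f χ → ((m : ZMod p) = 1 ∨ (m : ZMod p) = -1)) ∧ (ξ ≠ f χ → p ∣ m)) ∧ ((Cfsg.charDegree ((f χ).1 : ↥C → ℂ) : ZMod p) = (Cfsg.charDegree (χ.1 : ↥K → ℂ) : ZMod p) ∨ (Cfsg.charDegree ((f χ).1 : ↥C → ℂ) : ZMod p) = -(Cfsg.charDegree (χ.1 : ↥K → ℂ) : ZMod p)) := by
  classical
  cases nonempty_fintype G
  haveI : Fintype K := Fintype.ofFinite _
  have hnorm : ∀ s ∈ P, ∀ g ∈ K, s * g * s⁻¹ ∈ K := fun s hs g hg =>
    (Subgroup.mem_normalizer_iff.1 (hPK hs) g).1 hg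
  letI := Cfsg.Agent.H80.conjAction K P hnorm
  set C' : Subgroup K := C.subgroupOf K with hC'
  haveI : Fintype C' := Fintype.ofFinite _
  haveI : Fintype C := Fintype.ofFinite _
  have h : Cfsg.Agent.H34.RelGlauberman.RelAct p P (Q.subgroupOf K) C' := by
    refine ⟨hP, ?_, ?_, hQsyl, fun k => ?_⟩
    · obtain ⟨a, ha⟩ := hQp
      exact IsPGroup.of_card (n := a) ((Nat.card_congr (Subgroup.subgroupOfEquivOfLe hQK).toEquiv).trans ha)
    · exact ⟨fun q hq k => hQn k k.2 q hq⟩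
    · show (k : G) ∈ C ↔ ∀ s : P, (s : G) * k * (s : G)⁻¹ * (k : G)⁻¹ ∈ Q
      rw [hC]
      exact ⟨fun hk s => hk.2 s s.2, fun hk => ⟨k.2, fun x hx => hk ⟨x, hx⟩⟩⟩
  obtain ⟨f, hf, hspec⟩ := Cfsg.Agent.H34.RelGlauberman.exists_corr h
  set e := Subgroup.subgroupOfEquivOfLe hCK with he
  have hK : ∀ χ : K → ℂ, (∀ x ∈ P, ∀ k k' : K, (k' : G) = x * (k : G) * x⁻¹ → χ k' = χ k) ↔
      Cfsg.Agent.H80.IsInv P χ := fun χ =>
    ⟨fun hx s g => hx s s.2 g (s • g) rfl, fun hx x hxP k k' hk => by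
      rw [show k' = (⟨x, hxP⟩ : P) • k from Subtype.ext hk]; exact hx ⟨x, hxP⟩ k⟩
  have hCinv : ∀ ξ : C → ℂ, (∀ x ∈ P, ∀ k k' : C, (k' : G) = x * (k : G) * x⁻¹ → ξ k' = ξ k) ↔
      Cfsg.Agent.H34.RelGlauberman.InvOn P C' (fun c => ξ (e c)) := fun ξ =>
    ⟨fun hx s n n' hn => hx s s.2 (e n) (e n') (congrArg Subtype.val hn), fun hx x hxP k k' hk => by
      have h1 := hx ⟨x, hxP⟩ (e.symm k) (e.symm k') (Subtype.ext hk)
      simpa using h1⟩
  let eK := (Equiv.refl (Cfsg.IrrCharacter K)).subtypeEquiv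
    (p := fun χ : Cfsg.IrrCharacter K => ∀ x ∈ P, ∀ k k' : K, (k' : G) = x * (k : G) * x⁻¹ → (χ : K → ℂ) k' = (χ : K → ℂ) k)
    (q := fun χ : Cfsg.IrrCharacter K => Cfsg.Agent.H80.IsInv P (χ : K → ℂ)) (fun χ => hK χ)
  let eC := (Cfsg.Agent.H80.irrEquiv e).subtypeEquiv
    (p := fun ξ : Cfsg.IrrCharacter C => ∀ x ∈ P, ∀ k k' : C, (k' : G) = x * (k : G) * x⁻¹ → (ξ : C → ℂ) k' = (ξ : C → ℂ) k)
    (q := fun ξ : Cfsg.IrrCharacter C' => Cfsg.Agent.H34.RelGlauberman.InvOn P C' (ξ : C' → ℂ)) (fun ξ => hCinv ξ)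
  refine ⟨fun χ => eC.symm (f (eK χ)), eC.symm.bijective.comp (hf.comp eK.bijective),
    fun χ => ⟨fun ξ => ?_, ?_⟩⟩
  · obtain ⟨m, hm⟩ := Cfsg.Agent.CharBasic.classInner_isChar_nat
      (Cfsg.Agent.CharInduce.IsChar.res (Cfsg.Agent.CharBasic.IsIrr.isCharacter χ.1.2) C')
      (Cfsg.Agent.CharBasic.IsIrr.isCharacter (eC ξ).1.2)
    refine ⟨m, ?_, fun hξ => ?_, fun hξ => ?_⟩
    · rw [finsum_eq_sum_of_fintype, ← hm]
      exact (Cfsg.Agent.CharInduce.classInner_comp_mulEquiv e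
        (fun c : C => (χ.1 : K → ℂ) (Subgroup.inclusion hCK c)) (ξ.1 : C → ℂ)).symm
    · obtain ⟨m', a, b, hm', h1, -⟩ := (hspec (eK χ)).1
      rw [hξ, Equiv.apply_symm_apply] at hm
      have : m = m' := Nat.cast_injective (R := ℂ) (hm.symm.trans hm')
      rwa [this]
    · by_contra hd
      refine (hspec (eK χ)).2 (eC ξ) (fun e0 => hξ ?_) ⟨m, hm, hd⟩
      exact (Equiv.eq_symm_apply eC).2 e0
  · obtain ⟨m, a, b, -, -, ha, hb, hab⟩ := (hspec (eK χ)).1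
    have ha' : Cfsg.charDegree (χ.1 : K → ℂ) = a := by
      rw [Cfsg.charDegree, show (χ.1 : K → ℂ) 1 = (a : ℂ) from ha, Complex.natCast_re,
        Nat.floor_natCast]
    have hb' : Cfsg.charDegree ((eC.symm (f (eK χ))).1 : C → ℂ) = b := by
      have : ((eC.symm (f (eK χ))).1 : C → ℂ) 1 = (b : ℂ) := by
        show ((f (eK χ)).1 : C' → ℂ) (e.symm 1) = _
        rw [map_one, hb]
      rw [Cfsg.charDegree, this, Complex.natCast_re, Nat.floor_natCast]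
    rw [ha', hb']
    exact hab

end Cfsg.Agent.S4914
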