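import Cfsg.Statements.S2426
import Cfsg.Agent.H54.SL2Presentation
import Cfsg.Agent.Linear.Generation
-- import your own Cfsg.Agent.* helpers here

set_option autoImplicit false
open Cfsg

namespace Cfsg.Agent.S2426

/-- The rank-one Steinberg presentation of `SL₂` over a finite field `K`: generators `x(t)`, `y(t)` (`t ∈ K`; the two opposite root subgroups) subject to additivity `x(t)x(u) = x(t+u)`, `y(t)y(u) = y(t+u)` and, with `w(t) = x(t) y(−t⁻¹) x(t)` and `w'(t) = y(t) x(−t⁻¹) y(t)` for `t ≠ 0`, the relations `w(t) x(u) w(t)⁻¹ = y(−t⁻² u)` and `w'(t) y(u) w'(t)⁻¹ = x(−t⁻² u)`, present `SL₂(K)`, with `x(t) ↦ (1 t; 0 1)` and `y(t) ↦ (1 0; t 1)`. -/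
theorem result {K : Type*} [Field K] [Finite K] :
    ∃ e : PresentedGroup
        ({g : FreeGroup (Bool × K) | ∃ (b : Bool) (t u : K), g = FreeGroup.of (b, t) * FreeGroup.of (b, u) * (FreeGroup.of (b, t + u))⁻¹} ∪
          {g | ∃ (b : Bool) (t u : K), t ≠ 0 ∧
            g = (FreeGroup.of (b, t) * FreeGroup.of (!b, -t⁻¹) * FreeGroup.of (b, t)) * FreeGroup.of (b, u) *
                  (FreeGroup.of (b, t) * FreeGroup.of (!b, -t⁻¹) * FreeGroup.of (b, t))⁻¹ * (FreeGroup.of (!b, -(t⁻¹ ^ 2 * u)))⁻¹})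
        ≃* Matrix.SpecialLinearGroup (Fin 2) K,
      (∀ t : K, ((e (PresentedGroup.of (true, t)) : Matrix (Fin 2) (Fin 2) K)) = !![1, t; 0, 1]) ∧
      (∀ t : K, ((e (PresentedGroup.of (false, t)) : Matrix (Fin 2) (Fin 2) K)) = !![1, 0; t, 1]) := by
  classical
  let f : Bool × K → Matrix.SpecialLinearGroup (Fin 2) K := fun p =>
    if p.1 then Matrix.SpecialLinearGroup.transvection (zero_ne_one (α := Fin 2)) p.2
    else Matrix.SpecialLinearGroup.transvection (one_ne_zero (α := Fin 2)) p.2
  have hfT : ∀ t : K, (f (true, t) : Matrix (Fin 2) (Fin 2) K) = !![1, t; 0, 1] := fun t => by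
    ext i j; fin_cases i <;> fin_cases j <;> simp [f, Matrix.SpecialLinearGroup.transvection_coe]
  have hfF : ∀ t : K, (f (false, t) : Matrix (Fin 2) (Fin 2) K) = !![1, 0; t, 1] := fun t => by
    ext i j; fin_cases i <;> fin_cases j <;> simp [f, Matrix.SpecialLinearGroup.transvection_coe]
  set rels : Set (FreeGroup (Bool × K)) :=
    {g : FreeGroup (Bool × K) | ∃ (b : Bool) (t u : K), g = FreeGroup.of (b, t) * FreeGroup.of (b, u) * (FreeGroup.of (b, t + u))⁻¹} ∪
          {g | ∃ (b : Bool) (t u : K), t ≠ 0 ∧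
            g = (FreeGroup.of (b, t) * FreeGroup.of (!b, -t⁻¹) * FreeGroup.of (b, t)) * FreeGroup.of (b, u) *
                  (FreeGroup.of (b, t) * FreeGroup.of (!b, -t⁻¹) * FreeGroup.of (b, t))⁻¹ * (FreeGroup.of (!b, -(t⁻¹ ^ 2 * u)))⁻¹}
    with hrels
  have hf : ∀ r ∈ rels, FreeGroup.lift f r = 1 := by
    rintro r (⟨b, t, u, rfl⟩ | ⟨b, t, u, ht, rfl⟩) <;>
      simp only [map_mul, map_inv, FreeGroup.lift_apply_of] <;> rw [mul_inv_eq_one]
    · apply Subtype.ext
      rw [Matrix.SpecialLinearGroup.coe_mul]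
      cases b
      · rw [hfF, hfF, hfF]; ext i j; fin_cases i <;> fin_cases j <;> simp
      · rw [hfT, hfT, hfT]; ext i j; fin_cases i <;> fin_cases j <;> simp [add_comm]
    · rw [mul_inv_eq_iff_eq_mul]
      apply Subtype.ext
      simp only [Matrix.SpecialLinearGroup.coe_mul]
      cases b
      · simp only [Bool.not_false, hfF, hfT]
        ext i j; fin_cases i <;> fin_cases j <;> simp [ht] <;> field_simp <;> first | ring1 | simp
      · simp only [Bool.not_true, hfF, hfT]
        ext i j; fin_cases i <;> fin_cases j <;> simp [ht] <;> field_simp <;> first | ring1 | simp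
  let φ := PresentedGroup.toGroup hf
  let x : K → PresentedGroup rels := fun t => PresentedGroup.of (true, t)
  let y : K → PresentedGroup rels := fun t => PresentedGroup.of (false, t)
  have hadd : ∀ (b : Bool) (t u : K), (PresentedGroup.of (b, t) : PresentedGroup rels) * PresentedGroup.of (b, u) =
      PresentedGroup.of (b, t + u) := by
    intro b t u
    have := PresentedGroup.one_of_mem (rels := rels) (Or.inl ⟨b, t, u, rfl⟩)
    simp only [map_mul, map_inv] at this
    exact mul_inv_eq_one.1 this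
  have R : Cfsg.Agent.H54.Presentation.SL2Rels x y :=
    ⟨hadd true, hadd false, fun t u ht => by
      have := PresentedGroup.one_of_mem (rels := rels) (Or.inr ⟨true, t, u, ht, rfl⟩)
      simp only [map_mul, map_inv] at this
      exact mul_inv_eq_one.1 this⟩
  have hgen : Subgroup.closure (Set.range x ∪ Set.range y) = ⊤ := by
    rw [eq_top_iff, ← PresentedGroup.closure_range_of rels]
    refine Subgroup.closure_mono ?_
    rintro _ ⟨⟨b, t⟩, rfl⟩
    cases b
    · exact Or.inr ⟨t, rfl⟩
    · exact Or.inl ⟨t, rfl⟩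
  have hinj : Function.Injective φ := R.injective φ
    (fun t => by rw [show φ (x t) = f (true, t) from PresentedGroup.toGroup.of hf]; exact hfT t)
    (fun t => by rw [show φ (y t) = f (false, t) from PresentedGroup.toGroup.of hf]; exact hfF t) hgen
  have hsurj : Function.Surjective φ := by
    rw [← MonoidHom.range_eq_top]
    refine Cfsg.Agent.Linear.eq_top_of_transvection_mem fun i j hij c => ?_
    fin_cases i <;> fin_cases j
    · exact absurd rfl hij
    · exact ⟨x c, PresentedGroup.toGroup.of hf⟩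
    · exact ⟨y c, PresentedGroup.toGroup.of hf⟩
    · exact absurd rfl hij
  exact ⟨MulEquiv.ofBijective φ ⟨hinj, hsurj⟩,
    fun t => (congrArg (fun g : Matrix.SpecialLinearGroup (Fin 2) K => (g : Matrix (Fin 2) (Fin 2) K)) (show φ (PresentedGroup.of (true, t)) = f (true, t) from PresentedGroup.toGroup.of hf)).trans (hfT t),
    fun t => (congrArg (fun g : Matrix.SpecialLinearGroup (Fin 2) K => (g : Matrix (Fin 2) (Fin 2) K)) (show φ (PresentedGroup.of (false, t)) = f (false, t) from PresentedGroup.toGroup.of hf)).trans (hfF t)⟩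

end Cfsg.Agent.S2426
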