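import Cfsg.Statements.S0330
import Cfsg.Agent.Suzuki.Structure

set_option autoImplicit false
open Cfsg

namespace Cfsg.Agent.S0330

/-- A Sylow 2-subgroup `P` of the Suzuki group (field with `q = 2^(2m+1)` elements, `m ≥ 1`) has order `q²` and
exponent `4`; its centre coincides with its commutator subgroup and has order `q`. -/
theorem result {F : Type*} [Field F] [Fintype F] {m : ℕ} (hm : 1 ≤ m)
    (hF : Fintype.card F = 2 ^ (2 * m + 1)) (P : Sylow 2 (Cfsg.Sz F m)) :
    Nat.card P = (2 ^ (2 * m + 1)) ^ 2 ∧ Monoid.exponent P = 4 ∧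
      Subgroup.center P = commutator P ∧ Nat.card (Subgroup.center P) = 2 ^ (2 * m + 1) := by
  have : Cfsg.Agent.Suzuki.SzField F m := ⟨hF, hm⟩
  obtain ⟨e⟩ := Cfsg.Agent.Suzuki.exists_sylow_iso m P
  refine ⟨?_, ?_, ?_, ?_⟩
  · show Nat.card (P : Subgroup (Cfsg.Sz F m)) = _
    rw [← Nat.card_congr e.toEquiv, Cfsg.Agent.Suzuki.card_U, Cfsg.Agent.Suzuki.card_nat (F := F) m]
  · exact (Monoid.exponent_eq_of_mulEquiv e).symm.trans (Cfsg.Agent.Suzuki.exponent_U m)
  · show Subgroup.center (P : Subgroup (Cfsg.Sz F m)) = commutator (P : Subgroup (Cfsg.Sz F m))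
    have hc : (Subgroup.center _).map e.toMonoidHom = Subgroup.center (P : Subgroup (Cfsg.Sz F m)) := by
      ext x
      simp only [Subgroup.mem_map, Subgroup.mem_center_iff]
      constructor
      · rintro ⟨y, hy, rfl⟩ z
        obtain ⟨z, rfl⟩ := e.surjective z
        simpa using congrArg e (hy z)
      · intro hx
        refine ⟨e.symm x, fun z => e.injective ?_, by simp⟩
        simpa using hx (e z)
    rw [← hc, Cfsg.Agent.Suzuki.center_U_eq_commutator, commutator_def, commutator_def,
      Subgroup.map_commutator, Subgroup.map_top_of_surjective _ e.surjective]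
  · show Nat.card (Subgroup.center (P : Subgroup (Cfsg.Sz F m))) = _
    rw [← Nat.card_congr (Subgroup.centerCongr e).toEquiv, Cfsg.Agent.Suzuki.card_center_U,
      Cfsg.Agent.Suzuki.card_nat (F := F) m]

end Cfsg.Agent.S0330
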