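import Cfsg.Statements.S0820
import Cfsg.Agent.H34.Transvection

set_option autoImplicit false
open Cfsg

namespace Cfsg.Agent.S0820

theorem center_pow_three {F : Type*} [Field F] (z : Matrix.SpecialLinearGroup (Fin 3) F)
    (hz : z ∈ Subgroup.center (Matrix.SpecialLinearGroup (Fin 3) F)) : z ^ 3 = 1 := by
  obtain ⟨r, hr, hrz⟩ := Matrix.SpecialLinearGroup.mem_center_iff.mp hz
  refine Subtype.ext ?_
  show (z : Matrix (Fin 3) (Fin 3) F) ^ 3 = 1
  rw [← hrz, ← map_pow, show r ^ 3 = 1 by simpa using hr, map_one]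

/-- The transvection `1 + e₁ e₀ᵀ`. -/
def base (F : Type*) [Field F] : Matrix (Fin 3) (Fin 3) F := !![1, 0, 0; 1, 1, 0; 0, 0, 1]

theorem involution_conj_base {F : Type*} [Field F] (h2 : (2 : F) = 0)
    (g : Matrix.SpecialLinearGroup (Fin 3) F) (hg : g ^ 2 = 1) (hne : g ≠ 1) :
    ∃ c : Matrix.SpecialLinearGroup (Fin 3) F,
      ((c⁻¹ * g * c : Matrix.SpecialLinearGroup (Fin 3) F) : Matrix (Fin 3) (Fin 3) F) = base F := by
  set M : Matrix (Fin 3) (Fin 3) F := (g : Matrix (Fin 3) (Fin 3) F) - 1 with hM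
  have hgg : (g : Matrix (Fin 3) (Fin 3) F) * g = 1 := by
    rw [sq] at hg; exact congrArg Subtype.val hg
  have hne' : (g : Matrix (Fin 3) (Fin 3) F) ≠ 1 := fun h => hne (Subtype.ext h)
  have hMM : M * M = 0 := by
    rw [hM, sub_mul, mul_sub, hgg, one_mul, mul_one]
    ext i j
    simp only [Matrix.sub_apply, Matrix.zero_apply]
    linear_combination ((1 : Matrix (Fin 3) (Fin 3) F) i j - (g : Matrix (Fin 3) (Fin 3) F) i j) * h2
  have hrank : M.rank ≤ 1 := by
    have h1 := LinearMap.finrank_range_add_finrank_ker M.mulVecLin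
    have h3 : LinearMap.range M.mulVecLin ≤ LinearMap.ker M.mulVecLin := by
      rintro x ⟨y, rfl⟩
      simp [LinearMap.mem_ker, Matrix.mulVec_mulVec, hMM]
    have h4 := Submodule.finrank_mono h3
    rw [Module.finrank_fin_fun] at h1
    show Module.finrank F (LinearMap.range M.mulVecLin) ≤ 1
    omega
  obtain ⟨c, v, hv0, hv, hc⟩ := H34.conj_to_first_column g hrank hne' hMM
  suffices ∃ d : Matrix.SpecialLinearGroup (Fin 3) F,
      (1 + Matrix.vecMulVec v (Pi.single 0 1)) * (d : Matrix (Fin 3) (Fin 3) F) = (d : Matrix (Fin 3) (Fin 3) F) * base F by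
    obtain ⟨d, hd⟩ := this
    refine ⟨c * d, ?_⟩
    have e : (c * d)⁻¹ * g * (c * d) = d⁻¹ * (c⁻¹ * g * c * d) := by group
    rw [e]
    have h' : (d : Matrix (Fin 3) (Fin 3) F).adjugate * (d : Matrix (Fin 3) (Fin 3) F) = 1 := by
      rw [Matrix.adjugate_mul, d.2, one_smul]
    simp only [Matrix.SpecialLinearGroup.coe_mul, Matrix.SpecialLinearGroup.coe_inv] at hc ⊢
    rw [hc, hd, ← mul_assoc, h', one_mul]
  by_cases h1 : v 1 = 0
  · have h2' : v 2 ≠ 0 := by
      intro h; apply hv; funext i; fin_cases i <;> assumption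
    refine ⟨⟨!![(v 2)⁻¹, 0, 0; 0, 0, -v 2; 0, 1, 0], by simp [Matrix.det_fin_three, h2']⟩, ?_⟩
    ext i j
    fin_cases i <;> fin_cases j <;>
      simp [base, Matrix.mul_apply, Fin.sum_univ_three, Matrix.vecMulVec_apply, hv0, h1, h2',
        Matrix.one_apply, Matrix.add_apply] <;> field_simp <;> linear_combination h2
  · refine ⟨⟨!![(v 1)⁻¹, 0, 0; 0, 1, 0; 0, v 2 * (v 1)⁻¹, v 1], by simp [Matrix.det_fin_three, h1]⟩, ?_⟩
    ext i j
    fin_cases i <;> fin_cases j <;>
      simp [base, Matrix.mul_apply, Fin.sum_univ_three, Matrix.vecMulVec_apply, hv0, h1,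
        Matrix.one_apply, Matrix.add_apply] <;> field_simp <;> ring

theorem lift {F : Type*} [Field F] (h2 : (2 : F) = 0)
    (x : Matrix.ProjectiveSpecialLinearGroup (Fin 3) F) (hx : orderOf x = 2) :
    ∃ g c : Matrix.SpecialLinearGroup (Fin 3) F, (g : Matrix.ProjectiveSpecialLinearGroup (Fin 3) F) = x ∧
      ((c⁻¹ * g * c : Matrix.SpecialLinearGroup (Fin 3) F) : Matrix (Fin 3) (Fin 3) F) = base F := by
  obtain ⟨g, rfl⟩ := QuotientGroup.mk_surjective x
  have hsq : g ^ 2 ∈ Subgroup.center (Matrix.SpecialLinearGroup (Fin 3) F) := by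
    rw [← QuotientGroup.eq_one_iff, QuotientGroup.mk_pow]
    exact orderOf_dvd_iff_pow_eq_one.mp hx.dvd
  have hx3 : ((g ^ 3 : Matrix.SpecialLinearGroup (Fin 3) F) :
      Matrix.ProjectiveSpecialLinearGroup (Fin 3) F) = g := by
    rw [QuotientGroup.mk_pow, pow_succ, orderOf_dvd_iff_pow_eq_one.mp hx.dvd, one_mul]
  have h6 : (g ^ 3) ^ 2 = 1 := by
    rw [← pow_mul, mul_comm, pow_mul]
    exact center_pow_three _ hsq
  have hne : g ^ 3 ≠ 1 := by
    intro h
    rw [h, QuotientGroup.mk_one] at hx3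
    rw [← hx3, orderOf_one] at hx
    omega
  obtain ⟨c, hc⟩ := involution_conj_base h2 (g ^ 3) h6 hne
  exact ⟨g ^ 3, c, hx3, hc⟩


/-- Any two elements of order 2 of PSL_3(4) are conjugate. -/
theorem result {F : Type*} [Field F] [Fintype F] (hF : Fintype.card F = 4) (x y : Matrix.ProjectiveSpecialLinearGroup (Fin 3) F) (hx : orderOf x = 2) (hy : orderOf y = 2) : IsConj x y := by
  have h2 : (2 : F) = 0 := by
    have h4 : ((Fintype.card F : ℕ) : F) = 0 := Nat.cast_card_eq_zero F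
    rw [hF] at h4
    have : (2 : F) * 2 = 0 := by push_cast at h4; linear_combination h4
    rcases mul_eq_zero.mp this with h | h <;> exact h
  obtain ⟨g, c, rfl, hc⟩ := lift h2 x hx
  obtain ⟨g', c', rfl, hc'⟩ := lift h2 y hy
  have e : c⁻¹ * g * c = c'⁻¹ * g' * c' := Subtype.ext (hc.trans hc'.symm)
  have h : IsConj g g' := by
    rw [isConj_iff]
    refine ⟨c' * c⁻¹, ?_⟩
    have e2 : c' * c⁻¹ * g * (c' * c⁻¹)⁻¹ = c' * (c⁻¹ * g * c) * c'⁻¹ := by group
    rw [e2, e]; group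
  exact MonoidHom.map_isConj (QuotientGroup.mk' _) h

end Cfsg.Agent.S0820
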