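import Cfsg.Statements.S4774
import Cfsg.Agent.Linear.SLDegrees
-- import your own Cfsg.Agent.* helpers here

set_option autoImplicit false
open Cfsg Cfsg.Agent Cfsg.Agent.Linear

namespace Cfsg.Agent.S4774

/-- Let F be a finite field of odd characteristic t with q > 5 elements and let S be isomorphic to PSL(2,F) or to SL(2,F). Then the vertices of the character degree graph of S are the primes dividing q(q²−1); the prime t is adjacent to no vertex; two distinct primes dividing q² − 1 are adjacent exactly when one of them is 2, or both divide q + 1, or both divide q − 1. -/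
theorem result (F : Type*) [Field F] [Fintype F] (t : ℕ) [Fact t.Prime] [CharP F t] (ht : t ≠ 2) (q : ℕ) (hq : Fintype.card F = q) (h5 : 5 < q) {S : Type*} [Group S] [Finite S] (hS : Nonempty (S ≃* Matrix.ProjectiveSpecialLinearGroup (Fin 2) F) ∨ Nonempty (S ≃* Matrix.SpecialLinearGroup (Fin 2) F)) : Cfsg.degreePrimes S = {r : ℕ | r.Prime ∧ r ∣ q * (q ^ 2 - 1)} ∧ ∀ r s : ℕ, (Cfsg.degreeGraph S).Adj r s ↔ (r ≠ s ∧ r.Prime ∧ s.Prime ∧ r ∣ q ^ 2 - 1 ∧ s ∣ q ^ 2 - 1 ∧ (r = 2 ∨ s = 2 ∨ (r ∣ q + 1 ∧ s ∣ q + 1) ∨ (r ∣ q - 1 ∧ s ∣ q - 1))) := by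
  classical
  subst hq
  obtain ⟨n, htp, hn⟩ := FiniteField.card F t
  have htodd : Odd t := htp.odd_of_ne_two ht
  have hqodd : Odd (Fintype.card F) := hn ▸ htodd.pow
  have h2 : (2 : F) ≠ 0 := two_ne_zero_of_odd_card hqodd
  obtain ⟨m, hm⟩ := hqodd
  obtain ⟨hsub, hsup⟩ := SLDegrees.mem_charDegrees_S hS
  have hdeg : ∀ d ∈ Cfsg.charDegrees S, d = 1 ∨ d = Fintype.card F ∨
      d ∣ Fintype.card F + 1 ∨ d ∣ Fintype.card F - 1 := fun d hd => by
    rcases SLDegrees.degree_cases (hsub hd) with e | e | e | e | ⟨-, e | e⟩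
    · exact Or.inl e
    · exact Or.inr (Or.inl e)
    · exact Or.inr (Or.inr (Or.inl (e ▸ dvd_rfl)))
    · exact Or.inr (Or.inr (Or.inr ⟨1, by omega⟩))
    · exact Or.inr (Or.inr (Or.inl ⟨2, by omega⟩))
    · exact Or.inr (Or.inr (Or.inr ⟨2, by omega⟩))
  have hmem : Fintype.card F ∈ Cfsg.charDegrees S ∧ Fintype.card F + 1 ∈ Cfsg.charDegrees S ∧
      Fintype.card F - 1 ∈ Cfsg.charDegrees S :=
    ⟨hsup SLDegrees.q_mem_PSL, hsup (SLDegrees.succ_mem_PSL (by omega) (by omega)),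
      hsup (SLDegrees.pred_mem_PSL_odd h2 (by omega))⟩
  have hfac : Fintype.card F ^ 2 - 1 = (Fintype.card F + 1) * (Fintype.card F - 1) := by
    simpa using Nat.sq_sub_sq (Fintype.card F) 1
  refine ⟨Set.ext fun r => ⟨?_, ?_⟩, fun r s => ⟨?_, ?_⟩⟩
  · rintro ⟨hr, d, hd, hrd⟩
    refine ⟨hr, hfac ▸ ?_⟩
    rcases hdeg d hd with rfl | rfl | h | h
    · exact absurd hrd hr.not_dvd_one
    · exact hrd.mul_right _
    · exact ((hrd.trans h).mul_right _).mul_left _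
    · exact ((hrd.trans h).mul_left _).mul_left _
  · rintro ⟨hr, hrd⟩
    rw [hfac] at hrd
    rcases hr.dvd_mul.mp hrd with h | h
    · exact ⟨hr, _, hmem.1, h⟩
    · rcases hr.dvd_mul.mp h with h | h
      · exact ⟨hr, _, hmem.2.1, h⟩
      · exact ⟨hr, _, hmem.2.2, h⟩
  · rintro ⟨hne, hr, hs, d, hd, hdvd⟩
    have a := (dvd_mul_right r s).trans hdvd
    have b := (dvd_mul_left s r).trans hdvd
    refine ⟨hne, hr, hs, ?_⟩
    rw [hfac]
    rcases hdeg d hd with rfl | rfl | h | h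
    · exact absurd a hr.not_dvd_one
    · rw [hn] at a b
      exact absurd (((Nat.prime_dvd_prime_iff_eq hr htp).mp (hr.dvd_of_dvd_pow a)).trans
        ((Nat.prime_dvd_prime_iff_eq hs htp).mp (hs.dvd_of_dvd_pow b)).symm) hne
    · exact ⟨(a.trans h).mul_right _, (b.trans h).mul_right _,
        Or.inr (Or.inr (Or.inl ⟨a.trans h, b.trans h⟩))⟩
    · exact ⟨(a.trans h).mul_left _, (b.trans h).mul_left _,
        Or.inr (Or.inr (Or.inr ⟨a.trans h, b.trans h⟩))⟩
  · rintro ⟨hne, hr, hs, hrq, hsq, hcase⟩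
    have hev : ∀ u : ℕ, u = 2 → u ∣ Fintype.card F + 1 ∧ u ∣ Fintype.card F - 1 := fun u hu => by
      subst hu; exact ⟨⟨m + 1, by omega⟩, ⟨m, by omega⟩⟩
    have hcop := (Nat.coprime_primes hr hs).mpr hne
    have hboth : (r ∣ Fintype.card F + 1 ∧ s ∣ Fintype.card F + 1) ∨
        (r ∣ Fintype.card F - 1 ∧ s ∣ Fintype.card F - 1) := by
      rw [hfac] at hrq hsq
      rcases hcase with e | e | e | e
      · rcases hs.dvd_mul.mp hsq with h | h
        · exact Or.inl ⟨(hev r e).1, h⟩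
        · exact Or.inr ⟨(hev r e).2, h⟩
      · rcases hr.dvd_mul.mp hrq with h | h
        · exact Or.inl ⟨h, (hev s e).1⟩
        · exact Or.inr ⟨h, (hev s e).2⟩
      · exact Or.inl e
      · exact Or.inr e
    rcases hboth with ⟨a, b⟩ | ⟨a, b⟩
    · exact ⟨hne, hr, hs, _, hmem.2.1, hcop.mul_dvd_of_dvd_of_dvd a b⟩
    · exact ⟨hne, hr, hs, _, hmem.2.2, hcop.mul_dvd_of_dvd_of_dvd a b⟩

end Cfsg.Agent.S4774
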