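import Cfsg.Statements.S4812
import Cfsg.Agent.Linear.SLDegrees
-- import your own Cfsg.Agent.* helpers here

set_option autoImplicit false
open Cfsg Cfsg.Agent Cfsg.Agent.Linear

namespace Cfsg.Agent.S4812

/-- Let F be a finite field of characteristic 2 with q ≥ 4 elements and let S be isomorphic to PSL(2,F) or to SL(2,F). Then the vertices of the character degree graph of S are the primes dividing q(q²−1), and two distinct primes are adjacent exactly when both divide q + 1 or both divide q − 1; so the graph has the three connected components {2}, the primes dividing q + 1 and the primes dividing q − 1, each complete. -/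
theorem result (F : Type*) [Field F] [Fintype F] [CharP F 2] (q : ℕ) (hq : Fintype.card F = q) (h4 : 4 ≤ q) {S : Type*} [Group S] [Finite S] (hS : Nonempty (S ≃* Matrix.ProjectiveSpecialLinearGroup (Fin 2) F) ∨ Nonempty (S ≃* Matrix.SpecialLinearGroup (Fin 2) F)) : Cfsg.degreePrimes S = {r : ℕ | r.Prime ∧ r ∣ q * (q ^ 2 - 1)} ∧ ∀ r s : ℕ, (Cfsg.degreeGraph S).Adj r s ↔ (r ≠ s ∧ r.Prime ∧ s.Prime ∧ ((r ∣ q + 1 ∧ s ∣ q + 1) ∨ (r ∣ q - 1 ∧ s ∣ q - 1))) := by
  classical
  subst hq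
  have h2 : (2 : F) = 0 := CharTwo.two_eq_zero
  obtain ⟨hsub, hsup⟩ := SLDegrees.mem_charDegrees_S hS
  obtain ⟨n, -, hn⟩ := FiniteField.card F 2
  have hdeg : ∀ d ∈ Cfsg.charDegrees S, d = 1 ∨ d = Fintype.card F ∨ d = Fintype.card F + 1 ∨
      d = Fintype.card F - 1 := fun d hd => by
    rcases SLDegrees.degree_cases (hsub hd) with e | e | e | e | ⟨h, -⟩ <;> first | omega | exact absurd h2 h
  have hmem : Fintype.card F ∈ Cfsg.charDegrees S ∧ Fintype.card F + 1 ∈ Cfsg.charDegrees S ∧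
      Fintype.card F - 1 ∈ Cfsg.charDegrees S :=
    ⟨hsup SLDegrees.q_mem_PSL, hsup (SLDegrees.succ_mem_PSL h4 (fun e => by
      have := (Nat.prime_five.dvd_of_dvd_pow (e ▸ hn ▸ dvd_rfl : 5 ∣ 2 ^ (n : ℕ)))
      norm_num at this)), hsup (SLDegrees.pred_mem_PSL_even h2)⟩
  have hfac : Fintype.card F ^ 2 - 1 = (Fintype.card F + 1) * (Fintype.card F - 1) := by
    simpa using Nat.sq_sub_sq (Fintype.card F) 1
  refine ⟨Set.ext fun r => ⟨?_, ?_⟩, fun r s => ⟨?_, ?_⟩⟩
  · rintro ⟨hr, d, hd, hrd⟩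
    refine ⟨hr, hfac ▸ ?_⟩
    rcases hdeg d hd with rfl | rfl | rfl | rfl
    · exact absurd hrd hr.not_dvd_one
    · exact hrd.mul_right _
    · exact (hrd.mul_right _).mul_left _
    · exact (hrd.mul_left _).mul_left _
  · rintro ⟨hr, hrd⟩
    rw [hfac] at hrd
    rcases hr.dvd_mul.mp hrd with h | h
    · exact ⟨hr, _, hmem.1, h⟩
    · rcases hr.dvd_mul.mp h with h | h
      · exact ⟨hr, _, hmem.2.1, h⟩
      · exact ⟨hr, _, hmem.2.2, h⟩
  · rintro ⟨hne, hr, hs, d, hd, hdvd⟩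
    refine ⟨hne, hr, hs, ?_⟩
    rcases hdeg d hd with rfl | rfl | rfl | rfl
    · exact absurd ((dvd_mul_right r s).trans hdvd) hr.not_dvd_one
    · rw [hn] at hdvd
      exact absurd (((Nat.prime_dvd_prime_iff_eq hr Nat.prime_two).mp
          (hr.dvd_of_dvd_pow ((dvd_mul_right r s).trans hdvd))).trans
        ((Nat.prime_dvd_prime_iff_eq hs Nat.prime_two).mp
          (hs.dvd_of_dvd_pow ((dvd_mul_left s r).trans hdvd))).symm) hne
    · exact Or.inl ⟨(dvd_mul_right r s).trans hdvd, (dvd_mul_left s r).trans hdvd⟩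
    · exact Or.inr ⟨(dvd_mul_right r s).trans hdvd, (dvd_mul_left s r).trans hdvd⟩
  · rintro ⟨hne, hr, hs, ⟨a, b⟩ | ⟨a, b⟩⟩
    · exact ⟨hne, hr, hs, _, hmem.2.1, ((Nat.coprime_primes hr hs).mpr hne).mul_dvd_of_dvd_of_dvd a b⟩
    · exact ⟨hne, hr, hs, _, hmem.2.2, ((Nat.coprime_primes hr hs).mpr hne).mul_dvd_of_dvd_of_dvd a b⟩

end Cfsg.Agent.S4812
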