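import Cfsg.Statements.S0015
import Cfsg.Agent.H24.Nilp

set_option autoImplicit false
open Cfsg

namespace Cfsg.Agent.S0015

/-- In a finite nilpotent group, an abelian normal subgroup that is maximal among abelian normal subgroups equals its own centralizer. -/
theorem result {G : Type*} [Group G] [Finite G] [Group.IsNilpotent G]
    (N : Subgroup G) [N.Normal] [IsMulCommutative N]
    (hmax : ∀ M : Subgroup G, M.Normal → IsMulCommutative M → N ≤ M → M = N) :
    Subgroup.centralizer (N : Set G) = N := by
  have hNC : N ≤ Subgroup.centralizer (N : Set G) := Subgroup.le_centralizer N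
  apply le_antisymm ?_ hNC
  by_contra hne
  let C := Subgroup.centralizer (N : Set G)
  have hmap : C.map (QuotientGroup.mk' N) ≠ ⊥ := by
    intro h
    rw [Subgroup.map_eq_bot_iff, QuotientGroup.ker_mk'] at h
    exact hne h
  have hCn : C.Normal := inferInstance
  have : (C.map (QuotientGroup.mk' N)).Normal := hCn.map _ (QuotientGroup.mk'_surjective N)
  obtain ⟨⟨z, hz⟩, hz1⟩ := Subgroup.ne_bot_iff_exists_ne_one.1
    (Cfsg.Agent.H24.inf_center_ne_bot _ hmap)
  rw [Ne, Subgroup.mk_eq_one] at hz1
  obtain ⟨c, hc, rfl⟩ := hz.1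
  let M : Subgroup G := N ⊔ Subgroup.zpowers c
  have hMq : M.map (QuotientGroup.mk' N) = Subgroup.zpowers (QuotientGroup.mk' N c) := by
    simp [M, Subgroup.map_sup, MonoidHom.map_zpowers]
  have hZ : (M.map (QuotientGroup.mk' N)).Normal :=
    ⟨fun a ha g => by
      rw [hMq] at ha ⊢
      have hac : a ∈ Subgroup.center (G ⧸ N) := (Subgroup.zpowers_le.2 hz.2) ha
      rw [Subgroup.mem_center_iff.1 hac g]
      simpa [mul_assoc] using ha⟩
  have hMn : M.Normal := by
    have hcm : (M.map (QuotientGroup.mk' N)).comap (QuotientGroup.mk' N) = M :=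
      Subgroup.comap_map_eq_self (by rw [QuotientGroup.ker_mk']; exact le_sup_left)
    rw [← hcm]; exact hZ.comap _
  have hcomm : IsMulCommutative M := by
    rw [← Subgroup.le_centralizer_iff_isMulCommutative]
    refine sup_le (Subgroup.le_centralizer_iff.1 (sup_le hNC (Subgroup.zpowers_le.2 hc))) ?_
    refine Subgroup.le_centralizer_iff.1 (sup_le ?_ ?_)
    · exact Subgroup.le_centralizer_iff.1 (Subgroup.zpowers_le.2 hc)
    · exact Subgroup.le_centralizer _
  have hM := hmax M hMn hcomm le_sup_left
  apply hz1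
  rw [QuotientGroup.mk'_apply, QuotientGroup.eq_one_iff]
  rw [← hM]
  exact Subgroup.mem_sup_right (Subgroup.mem_zpowers c)

end Cfsg.Agent.S0015
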