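import Cfsg.Statements.S2034
import Cfsg.Agent.H50.SchurRigid
import Cfsg.Agent.Golay.Mathieu
import Cfsg.Agent.H44.M11Involution
import Cfsg.Agent.H69.M11.Normalizer
import Mathlib

set_option autoImplicit false
open Cfsg Subgroup

namespace Cfsg.Agent.S2034

universe u

/-- A semidihedral group of order 16 is rigid. -/
theorem rigidAt_semidihedral (p : ℕ) {Q : Type u} [Group Q] (a b : Q) (ha : orderOf a = 8)
    (hb : b ^ 2 = 1) (hba : b * a * b⁻¹ = a ^ 3) (hgen : Subgroup.closure {a, b} = ⊤) :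
    Cfsg.Agent.H50.RigidAt p Q := by
  intro P _ _ π hs hk z hzk hzc _
  obtain ⟨A, rfl⟩ := hs a
  obtain ⟨B, rfl⟩ := hs b
  have cen : ∀ {w : P}, π w = 1 → ∀ g : P, Commute g w := fun hw g =>
    mem_center_iff.1 (hk (MonoidHom.mem_ker.2 hw)) g
  obtain ⟨k, hk1, e1⟩ : ∃ k, π k = 1 ∧ B * A * B⁻¹ = A ^ 3 * k :=
    ⟨(A ^ 3)⁻¹ * (B * A * B⁻¹), by
      rw [map_mul, map_inv, map_mul, map_mul, map_inv, map_pow, hba, inv_mul_cancel], by group⟩
  have hck := cen hk1
  have hpow : ∀ n : ℕ, B * A ^ n * B⁻¹ = A ^ (3 * n) * k ^ n := by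
    intro n
    rw [← conj_pow, e1, ((hck _).mul_pow n), ← pow_mul]
  have hA8 : A ^ 8 * k ^ 4 = 1 := by
    have h2 : Commute (B ^ 2) A := (cen (by rw [map_pow, hb]) A).symm
    have e : B ^ 2 * A * (B ^ 2)⁻¹ = A ^ 9 * k ^ 4 := by
      calc B ^ 2 * A * (B ^ 2)⁻¹ = B * (B * A * B⁻¹) * B⁻¹ := by
            rw [pow_two, mul_inv_rev]; simp only [mul_assoc]
        _ = (B * A ^ 3 * B⁻¹) * (B * k * B⁻¹) := by rw [e1]; group
        _ = A ^ 9 * k ^ 4 := by
          rw [hpow, (hck B).eq, mul_inv_cancel_right, mul_assoc, ← pow_succ]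
    rw [h2.eq, mul_inv_cancel_right] at e
    rw [pow_succ', mul_assoc] at e
    exact left_eq_mul.1 e
  set d := A ^ 2 * k with hd
  have hdd : d = B * A * B⁻¹ * A⁻¹ := by
    rw [e1, hd]
    calc A ^ 2 * k = A ^ 2 * (A * k * A⁻¹) := by rw [(hck A).eq, mul_inv_cancel_right]
      _ = A ^ 3 * k * A⁻¹ := by group
  have hAd : A * d * A⁻¹ = d := by
    have : Commute A d := ((Commute.refl A).pow_right 2).mul_right (hck A)
    rw [this.eq, mul_inv_cancel_right]
  have hBd : B * d * B⁻¹ = d ^ 3 := by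
    calc B * d * B⁻¹ = (B * A ^ 2 * B⁻¹) * (B * k * B⁻¹) := by rw [hd]; group
      _ = A ^ 6 * k ^ 3 := by rw [hpow, (hck B).eq, mul_inv_cancel_right, mul_assoc, ← pow_succ]
      _ = d ^ 3 := by rw [hd, (hck _).mul_pow, ← pow_mul]
  have hgenP : Subgroup.closure ({A, B} ∪ (π.ker : Set P)) = ⊤ := by
    rw [eq_top_iff]
    intro x _
    have hsub : Subgroup.closure {π A, π B} ≤ (Subgroup.closure ({A, B} ∪ (π.ker : Set P))).map π := by
      rw [closure_le, Set.insert_subset_iff, Set.singleton_subset_iff]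
      exact ⟨mem_map_of_mem π (subset_closure (by simp)), mem_map_of_mem π (subset_closure (by simp))⟩
    obtain ⟨y, hy, hyx⟩ := hsub (by rw [hgen]; exact mem_top (π x))
    have : y⁻¹ * x ∈ Subgroup.closure ({A, B} ∪ (π.ker : Set P)) :=
      subset_closure (Or.inr (by simp [hyx]))
    simpa using mul_mem hy this
  let S : Submonoid P :=
    { carrier := {g | g * d * g⁻¹ ∈ zpowers d}
      one_mem' := by simp
      mul_mem' := fun {g h} hg hh => by
        obtain ⟨i, hi⟩ := hh
        show g * h * d * (g * h)⁻¹ ∈ zpowers d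
        have : g * h * d * (g * h)⁻¹ = (g * d * g⁻¹) ^ i := by
          simp only at hi
          rw [conj_zpow, hi]; group
        rw [this]
        exact zpow_mem (show g * d * g⁻¹ ∈ zpowers d from hg) i }
  have hS : ∀ g : P, g ∈ S := by
    intro g
    have hle : Submonoid.closure ({A, B} ∪ (π.ker : Set P)) ≤ S := by
      rw [Submonoid.closure_le]
      rintro x ((rfl | rfl) | hx)
      · show x * d * x⁻¹ ∈ zpowers d
        rw [hAd]; exact mem_zpowers d
      · show x * d * x⁻¹ ∈ zpowers d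
        rw [hBd]; exact npow_mem_zpowers d 3
      · show x * d * x⁻¹ ∈ zpowers d
        rw [← (cen (MonoidHom.mem_ker.1 hx) d).eq, mul_inv_cancel_right]; exact mem_zpowers d
    refine hle ?_
    rw [← Subgroup.closure_toSubmonoid_of_finite, Subgroup.mem_toSubmonoid, hgenP]
    trivial
  haveI hDn : (zpowers d).Normal := ⟨fun x hx g => by
    obtain ⟨i, rfl⟩ := hx
    show g * d ^ i * g⁻¹ ∈ _
    rw [← conj_zpow]
    exact zpow_mem (show g * d * g⁻¹ ∈ zpowers d from hS g) i⟩
  have hcD : commutator P ≤ zpowers d := by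
    let q := QuotientGroup.mk' (zpowers d)
    have hAB : Commute (q A) (q B) := by
      refine Commute.symm ?_
      rw [← commutatorElement_eq_one_iff_commute, ← map_commutatorElement,
        commutatorElement_def, ← hdd, QuotientGroup.mk'_apply, QuotientGroup.eq_one_iff]
      exact mem_zpowers d
    have hall : ∀ x y : P, Commute (q x) (q y) := by
      have hz : ∀ w ∈ π.ker, ∀ g, Commute (q g) (q w) := fun w hw g => (cen (MonoidHom.mem_ker.1 hw) g).map q
      have h1 : ∀ g ∈ ({A, B} ∪ (π.ker : Set P) : Set P), ∀ x : P, Commute (q g) (q x) := by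
        intro g hg x
        have : x ∈ Subgroup.closure ({A, B} ∪ (π.ker : Set P)) := by rw [hgenP]; trivial
        induction this using closure_induction with
        | mem y hy =>
          rcases hg with (rfl | rfl) | hg <;> rcases hy with (rfl | rfl) | hy <;>
            first
              | exact Commute.refl _
              | exact hAB
              | exact hAB.symm
              | exact hz _ hy _
              | exact (hz _ hg _).symm
        | one => rw [map_one]; exact Commute.one_right _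
        | mul y w _ _ ih1 ih2 => rw [map_mul]; exact ih1.mul_right ih2
        | inv y _ ih => rw [map_inv]; exact ih.inv_right
      intro x y
      have : x ∈ Subgroup.closure ({A, B} ∪ (π.ker : Set P)) := by rw [hgenP]; trivial
      induction this using closure_induction with
      | mem g hg => exact h1 g hg y
      | one => rw [map_one]; exact Commute.one_left _
      | mul g w _ _ ih1 ih2 => rw [map_mul]; exact ih1.mul_left ih2
      | inv g _ ih => rw [map_inv]; exact ih.inv_left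
    rw [_root_.commutator_def, commutator_le]
    intro x _ y _
    rw [← QuotientGroup.eq_one_iff, ← QuotientGroup.mk'_apply, map_commutatorElement,
      commutatorElement_eq_one_iff_commute]
    exact hall x y
  obtain ⟨i, rfl⟩ := hcD hzc
  have hd4 : d ^ 4 = 1 := by rw [hd, (hck _).mul_pow, ← pow_mul]; exact hA8
  have hzk' := MonoidHom.mem_ker.1 hzk
  simp only [map_zpow, hd, map_mul, map_pow, hk1, mul_one] at hzk'
  rw [← zpow_natCast, ← zpow_mul, ← orderOf_dvd_iff_zpow_eq_one, ha] at hzk'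
  have h4 : (4 : ℤ) ∣ i := by push_cast at hzk'; omega
  obtain ⟨c, rfl⟩ := h4
  show d ^ (4 * c) = 1
  rw [zpow_mul, show d ^ (4 : ℤ) = d ^ 4 from zpow_natCast d 4, hd4, one_zpow]

/-- An abelian `3`-subgroup `⟨x, w⟩` with an element fixing `x` and inverting `w` kills the `3`-part. -/
theorem eq_one_of_inverted {Γ G : Type u} [Group Γ] [Group G] [Finite Γ] {σ : Γ →* G}
    (hσ : Cfsg.IsStemExtension σ) {x w s : G} (hxw : Commute x w) (hx3 : x ^ 3 = 1)
    (hsx : s * x * s⁻¹ = x) (hsw : s * w * s⁻¹ = w⁻¹) (hcop : Nat.Coprime 3 (Subgroup.closure {x, w}).index)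
    (z : Γ) (hz : z ∈ σ.ker) (hz3 : z ^ 3 = 1) : z = 1 := by
  obtain ⟨X, rfl⟩ := hσ.1 x
  obtain ⟨W, rfl⟩ := hσ.1 w
  obtain ⟨S, rfl⟩ := hσ.1 s
  have cen : ∀ {a : Γ}, σ a = 1 → ∀ g : Γ, Commute g a := fun ha g =>
    mem_center_iff.1 (hσ.2.1 (MonoidHom.mem_ker.2 ha)) g
  set c := X * W * X⁻¹ * W⁻¹ with hc
  have hc1 : σ c = 1 := by
    rw [hc, map_mul, map_mul, map_mul, map_inv, map_inv, hxw.eq, mul_inv_cancel_right, mul_inv_cancel]
  have hcc := cen hc1
  obtain ⟨k1, hk1, e1⟩ : ∃ k, σ k = 1 ∧ S * X * S⁻¹ = X * k :=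
    ⟨X⁻¹ * (S * X * S⁻¹), by rw [map_mul, map_inv, map_mul, map_mul, map_inv, hsx, inv_mul_cancel],
      by group⟩
  obtain ⟨k2, hk2, e2⟩ : ∃ k, σ k = 1 ∧ S * W * S⁻¹ = W⁻¹ * k :=
    ⟨W * (S * W * S⁻¹), by rw [map_mul, map_mul, map_mul, map_inv, hsw, mul_inv_cancel], by group⟩
  have hcinv : c * c = 1 := by
    have h1 : S * c * S⁻¹ = (S * X * S⁻¹) * (S * W * S⁻¹) * (S * X * S⁻¹)⁻¹ * (S * W * S⁻¹)⁻¹ := by
      rw [hc]; group
    rw [e1, e2, (hcc S).eq, mul_inv_cancel_right] at h1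
    have hk1c := cen hk1
    have hk2c := cen hk2
    have h2 : X * k1 * (W⁻¹ * k2) * (X * k1)⁻¹ * (W⁻¹ * k2)⁻¹ = X * W⁻¹ * X⁻¹ * W := by
      calc X * k1 * (W⁻¹ * k2) * (X * k1)⁻¹ * (W⁻¹ * k2)⁻¹
          = X * (k1 * (W⁻¹ * k2)) * k1⁻¹ * X⁻¹ * k2⁻¹ * W := by group
        _ = X * W⁻¹ * (k2 * X⁻¹) * k2⁻¹ * W := by rw [← (hk1c (W⁻¹ * k2)).eq]; group
        _ = X * W⁻¹ * X⁻¹ * W := by rw [← (hk2c X⁻¹).eq]; group
    rw [h2] at h1
    have h3 : X * W⁻¹ * X⁻¹ * W = W⁻¹ * c⁻¹ * W := by rw [hc]; group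
    rw [h3] at h1
    have h4 : c = c⁻¹ := by
      calc c = W⁻¹ * c⁻¹ * W := h1
        _ = c⁻¹ := by rw [((hcc W⁻¹).inv_right).eq, inv_mul_cancel_right]
    nth_rewrite 2 [h4]
    exact mul_inv_cancel c
  have hc3 : c ^ 3 = 1 := by
    have hX3 : Commute W (X ^ 3) := cen (by rw [map_pow, hx3]) W
    have h : X * W * X⁻¹ = c * W := by rw [hc]; group
    have hXc : X * c * X⁻¹ = c := by rw [(hcc X).eq, mul_inv_cancel_right]
    have hn : ∀ u, X * (c * u) * X⁻¹ = c * (X * u * X⁻¹) := fun u => by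
      calc X * (c * u) * X⁻¹ = (X * c * X⁻¹) * (X * u * X⁻¹) := by group
        _ = c * (X * u * X⁻¹) := by rw [hXc]
    have : X ^ 3 * W * (X ^ 3)⁻¹ = c ^ 3 * W := by
      calc X ^ 3 * W * (X ^ 3)⁻¹ = X * (X * (X * W * X⁻¹) * X⁻¹) * X⁻¹ := by
            rw [pow_succ, pow_two, mul_inv_rev, mul_inv_rev]; simp only [mul_assoc]
        _ = c * (c * (c * W)) := by rw [h, hn, h, hn, hn, h]
        _ = c ^ 3 * W := by rw [pow_succ, pow_two]; simp only [mul_assoc]
    rw [← hX3.eq, mul_inv_cancel_right] at this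
    exact mul_right_cancel (b := W) (by rw [one_mul]; exact this.symm)
  have hc0 : c = 1 := by
    rw [pow_succ, pow_two, hcinv, one_mul] at hc3
    exact hc3
  have hXW : Commute X W := by
    rw [hc, mul_inv_eq_one, mul_inv_eq_iff_eq_mul] at hc0
    exact hc0
  obtain ⟨hzQ, hzc⟩ := Cfsg.Agent.H50.mem_commutator_comap hσ (Subgroup.closure {σ X, σ W}) hcop z hz hz3
  have hcomap : (Subgroup.closure {σ X, σ W}).comap σ ≤ Subgroup.closure ({X, W} ∪ (σ.ker : Set Γ)) := by
    intro y hy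
    have hsub : Subgroup.closure {σ X, σ W} ≤ (Subgroup.closure ({X, W} ∪ (σ.ker : Set Γ))).map σ := by
      rw [closure_le, Set.insert_subset_iff, Set.singleton_subset_iff]
      exact ⟨mem_map_of_mem σ (subset_closure (by simp)), mem_map_of_mem σ (subset_closure (by simp))⟩
    obtain ⟨v, hv, hvy⟩ := hsub hy
    have : v⁻¹ * y ∈ Subgroup.closure ({X, W} ∪ (σ.ker : Set Γ)) := subset_closure (Or.inr (by simp [hvy]))
    simpa using mul_mem hv this
  have hall : ∀ a ∈ Subgroup.closure ({X, W} ∪ (σ.ker : Set Γ)), ∀ b ∈ Subgroup.closure ({X, W} ∪ (σ.ker : Set Γ)),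
      Commute a b := by
    intro a ha b hb
    set T : Set Γ := {X, W} ∪ (σ.ker : Set Γ) with hT
    have hcT : ∀ g ∈ T, ∀ h ∈ T, g * h = h * g := by
      rintro g ((rfl | rfl) | hg) h ((rfl | rfl) | hh) <;>
        first
          | rfl
          | exact hXW.eq
          | exact hXW.eq.symm
          | exact ((cen (MonoidHom.mem_ker.1 hh)) _).eq
          | exact ((cen (MonoidHom.mem_ker.1 hg)) _).eq.symm
    have := Subgroup.isMulCommutative_closure hcT
    exact congrArg Subtype.val (this.is_comm.comm ⟨a, ha⟩ ⟨b, hb⟩)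
  have hbot : commutator ↥((Subgroup.closure {σ X, σ W}).comap σ) = ⊥ := by
    rw [_root_.commutator_def, eq_bot_iff, commutator_le]
    intro a _ b _
    rw [Subgroup.mem_bot, commutatorElement_eq_one_iff_mul_comm]
    exact Subtype.ext (hall _ (hcomap a.2) _ (hcomap b.2)).eq
  rw [hbot, Subgroup.mem_bot] at hzc
  exact congrArg Subtype.val hzc

/-- An element of order 8 of `GL(2, 3)`. -/
def sdA : GL (Fin 2) (ZMod 3) := ⟨!![0, 1; 1, 1], !![2, 1; 1, 0], by decide +kernel, by decide +kernel⟩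

/-- An involution of `GL(2, 3)` acting on `sdA` as the cube map. -/
def sdB : GL (Fin 2) (ZMod 3) := ⟨!![1, 1; 0, 2], !![1, 1; 0, 2], by decide +kernel, by decide +kernel⟩

/-- The semidihedral subgroup of `GL(2, 3)`. -/
theorem exists_sd_GL : ∃ (a b : GL (Fin 2) (ZMod 3)), orderOf a = 8 ∧ b ^ 2 = 1 ∧ b * a * b⁻¹ = a ^ 3 ∧
    Nat.card (Subgroup.closure {a, b}) = 16 := by
  have hb : sdB ^ 2 = 1 := by decide +kernel
  have hba : sdB * sdA * sdB⁻¹ = sdA ^ 3 := by decide +kernel
  have h1 : ¬ sdA ^ 2 ^ 2 = 1 := by decide +kernel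
  have h2 : sdA ^ 2 ^ (2 + 1) = 1 := by decide +kernel
  have ha : orderOf sdA = 8 := by
    haveI : Fact (Nat.Prime 2) := ⟨Nat.prime_two⟩
    exact orderOf_eq_prime_pow h1 h2
  refine ⟨sdA, sdB, ha, hb, hba, ?_⟩
  let S : Finset (GL (Fin 2) (ZMod 3)) :=
    (Finset.univ : Finset (Fin 8 × Fin 2)).image fun ij => sdA ^ (ij.1 : ℕ) * sdB ^ (ij.2 : ℕ)
  have hmul : ∀ g ∈ S, ∀ h ∈ S, g * h ∈ S := by decide +kernel
  have hone : (1 : GL (Fin 2) (ZMod 3)) ∈ S := by decide +kernel
  have hinv : ∀ g ∈ S, g⁻¹ ∈ S := by decide +kernel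
  let K : Subgroup (GL (Fin 2) (ZMod 3)) :=
    { carrier := S, mul_mem' := fun hg hh => hmul _ hg _ hh, one_mem' := hone, inv_mem' := fun hg => hinv _ hg }
  have hK : Subgroup.closure {sdA, sdB} = K := by
    refine le_antisymm ((closure_le K).2 ?_) ?_
    · intro g hg
      rcases hg with rfl | rfl
      · show sdA ∈ S; decide +kernel
      · show sdB ∈ S; decide +kernel
    · intro g hg
      obtain ⟨ij, -, rfl⟩ := Finset.mem_image.1 (show g ∈ S from hg)
      exact mul_mem (pow_mem (subset_closure (by simp)) _) (pow_mem (subset_closure (by simp)) _)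
  rw [hK]
  show Nat.card (S : Set (GL (Fin 2) (ZMod 3))) = 16
  rw [Nat.card_coe_set_eq, Set.ncard_coe_finset]
  decide +kernel

/-- An injective image of `GL(2, 3)` in `M11`. -/
theorem exists_hom_GL : ∃ f : GL (Fin 2) (ZMod 3) →* ↥Cfsg.Spor.M11, Function.Injective f := by
  obtain ⟨e⟩ := Cfsg.Agent.H44.invCent_iso
  have hle : Cfsg.Agent.H44.invCent ≤ Cfsg.Spor.M11 := by
    intro σ hσ
    rw [Cfsg.Agent.Golay.spor_M11_eq]
    exact (Cfsg.Agent.H44.mem_invCent.1 hσ).1
  exact ⟨(Subgroup.inclusion hle).comp e.symm.toMonoidHom,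
    (Subgroup.inclusion_injective hle).comp e.symm.injective⟩

/-- The Schur multiplier of the Mathieu group M₁₁ (the stabiliser of a dodecad and one of its points in the automorphism group of the length-24 binary code) is trivial; here the Schur multiplier is described through stem extensions, as in the definitions: surjective homomorphisms onto the group from a finite group, whose kernel is central in that finite group and contained in that finite group's commutator subgroup. -/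
theorem result : Cfsg.HasCyclicSchurMultiplier ↥Cfsg.Spor.M11 1 := by
  have hG := Cfsg.Agent.Golay.isM11_spor
  have hcard : Nat.card ↥Cfsg.Spor.M11 = 7920 := hG.2
  haveI : Finite ↥Cfsg.Spor.M11 := Nat.finite_of_card_ne_zero (by rw [hcard]; norm_num)
  have cop : ∀ (H : Subgroup ↥Cfsg.Spor.M11) (p c : ℕ), Nat.card H = c → p.Coprime (7920 / c) →
      p.Coprime H.index := by
    intro H p c hc hp
    have h := H.index_mul_card
    rw [hc, hcard] at h
    have hpos : 0 < c := hc ▸ Nat.card_pos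
    rwa [Nat.div_eq_of_eq_mul_left hpos h.symm] at hp
  refine Cfsg.Agent.H50.hasTrivialMultiplier_of_forall_prime fun Γ _ _ σ hσ p hp z hz hzp => ?_
  haveI : Fact p.Prime := ⟨hp⟩
  by_cases h2 : p = 2
  · subst h2
    obtain ⟨a, b, ha, hb, hba, hc⟩ := exists_sd_GL
    obtain ⟨f, hf⟩ := exists_hom_GL
    have hmap : (Subgroup.closure {a, b}).map f = Subgroup.closure {f a, f b} := by
      rw [MonoidHom.map_closure, Set.image_insert_eq, Set.image_singleton]
    have hQc : Nat.card (Subgroup.closure {f a, f b}) = 16 := by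
      rw [← hmap, Nat.card_congr (Subgroup.equivMapOfInjective _ f hf).toEquiv.symm, hc]
    refine Cfsg.Agent.H50.eq_one_of_rigidAt hσ (Subgroup.closure {f a, f b}) (cop _ 2 16 hQc (by norm_num)) ?_ z hz hzp
    refine rigidAt_semidihedral 2 (⟨f a, subset_closure (by simp)⟩ : Subgroup.closure {f a, f b})
      ⟨f b, subset_closure (by simp)⟩ ?_ ?_ ?_ ?_
    · rw [← Subgroup.orderOf_coe]; exact (orderOf_injective f hf a).trans ha
    · exact Subtype.ext (by simp [← map_pow, hb])
    · exact Subtype.ext (by simp [← map_pow, ← hba])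
    · apply Subgroup.map_injective (Subgroup.closure {f a, f b}).subtype_injective
      rw [MonoidHom.map_closure, ← MonoidHom.range_eq_map, Subgroup.range_subtype]
      simp [Set.image_insert_eq]
  by_cases h3 : p = 3
  · subst h3
    obtain ⟨P⟩ := (inferInstance : Nonempty (Sylow 3 ↥Cfsg.Spor.M11))
    have h9 := Cfsg.Agent.H69.M11.card_nine hG P
    have : (P : Subgroup ↥Cfsg.Spor.M11) ≠ ⊥ := fun e => by rw [e, Subgroup.card_bot] at h9; omega
    obtain ⟨x, hxP, hx1⟩ := (Subgroup.ne_bot_iff_exists_ne_one.1 this) |> fun ⟨x, hx⟩ =>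
      (⟨(x : ↥Cfsg.Spor.M11), x.2, fun e => hx (Subtype.ext e)⟩ : ∃ x, x ∈ (P : Subgroup ↥Cfsg.Spor.M11) ∧ x ≠ 1)
    have hx3 : x ^ 3 = 1 := by
      rw [← Cfsg.Agent.H69.M11.orderOf_three hG P hxP hx1]; exact pow_orderOf_eq_one x
    have h18 := (Cfsg.Agent.H69.M11.card_fix hG P hxP hx1).1
    obtain ⟨t, ht⟩ := exists_prime_orderOf_dvd_card' (G := ↥(Subgroup.centralizer ({x} : Set _) ⊓
      Subgroup.normalizer ((P : Subgroup ↥Cfsg.Spor.M11) : Set _))) 2 (by rw [h18]; norm_num)
    obtain ⟨s, hsC, hsN⟩ : ∃ s, s ∈ Subgroup.centralizer ({x} : Set _) ∧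
        s ∈ Subgroup.normalizer ((P : Subgroup ↥Cfsg.Spor.M11) : Set _) ∧ s = t :=
      ⟨t, t.2.1, t.2.2, rfl⟩
    obtain ⟨hsN, rfl⟩ := hsN
    have hs2 : orderOf (t : ↥Cfsg.Spor.M11) = 2 := by rw [Subgroup.orderOf_coe]; exact ht
    set s : ↥Cfsg.Spor.M11 := (t : ↥Cfsg.Spor.M11)
    have hsx : s * x * s⁻¹ = x := by
      rw [Subgroup.mem_centralizer_singleton_iff.1 hsC, mul_inv_cancel_right]
    obtain ⟨y, hy, hne⟩ : ∃ y ∈ (P : Subgroup ↥Cfsg.Spor.M11), s * y * s⁻¹ ≠ y := by
      by_contra hall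
      push Not at hall
      have hle : (P : Subgroup ↥Cfsg.Spor.M11) ≤ Subgroup.centralizer ({s} : Set _) := fun q hq =>
        Subgroup.mem_centralizer_singleton_iff.2 ((mul_inv_eq_iff_eq_mul.1 (hall q hq)).symm)
      have := Subgroup.card_dvd_of_le hle
      rw [h9, Cfsg.Agent.H69.M11.card_centralizer_involution hG hs2] at this
      omega
    have hss : s * s = 1 := by rw [← pow_two, ← hs2, pow_orderOf_eq_one]
    have hsinv : s⁻¹ = s := inv_eq_of_mul_eq_one_right hss
    set w := y⁻¹ * (s * y * s⁻¹) with hw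
    have hy' : s * y * s⁻¹ ∈ (P : Subgroup ↥Cfsg.Spor.M11) := (Subgroup.mem_normalizer_iff.1 hsN y).1 hy
    have hwP : w ∈ (P : Subgroup ↥Cfsg.Spor.M11) := mul_mem (inv_mem hy) hy'
    have hcomm := Cfsg.Agent.H69.M11.sylow_three_comm hG P
    have hsw : s * w * s⁻¹ = w⁻¹ := by
      have e : s * w * s⁻¹ = (s * y⁻¹ * s⁻¹) * ((s * s) * y * (s * s)⁻¹) := by rw [hw]; group
      rw [e, hss, one_mul, inv_one, mul_one, hw, mul_inv_rev, inv_inv]
      group
    have hwx : w ∉ Subgroup.zpowers x := by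
      rintro ⟨i, hi⟩
      simp only at hi
      have h1 : s * w * s⁻¹ = w := by rw [← hi, ← conj_zpow, hsx]
      rw [hsw] at h1
      have hw2 : w * w = 1 := by nth_rewrite 1 [← h1]; exact inv_mul_cancel w
      have ho := Subgroup.orderOf_dvd_natCard _ hwP
      rw [h9] at ho
      have h2' : orderOf w ∣ 2 := orderOf_dvd_of_pow_eq_one (by rw [pow_two, hw2])
      have : orderOf w = 1 := Nat.eq_one_of_dvd_coprimes (by norm_num : Nat.Coprime 9 2) ho h2'
      have hw1 : w = 1 := orderOf_eq_one_iff.1 this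
      exact hne ((inv_mul_eq_one.1 hw1).symm)
    have hle : Subgroup.closure {x, w} ≤ (P : Subgroup ↥Cfsg.Spor.M11) := by
      rw [closure_le, Set.insert_subset_iff, Set.singleton_subset_iff]; exact ⟨hxP, hwP⟩
    have hdvd := Subgroup.card_dvd_of_le hle
    rw [h9] at hdvd
    have hxle : Subgroup.zpowers x ≤ Subgroup.closure {x, w} := Subgroup.zpowers_le.2 (subset_closure (by simp))
    have hd3 := Subgroup.card_dvd_of_le hxle
    rw [Nat.card_zpowers, Cfsg.Agent.H69.M11.orderOf_three hG P hxP hx1] at hd3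
    have hne3 : Nat.card (Subgroup.closure {x, w}) ≠ 3 := fun e => by
      have := Subgroup.eq_of_le_of_card_ge hxle (by
        rw [e, Nat.card_zpowers, Cfsg.Agent.H69.M11.orderOf_three hG P hxP hx1])
      exact hwx (this ▸ subset_closure (by simp))
    have hQ : Nat.card (Subgroup.closure {x, w}) = 9 := by
      have h := Nat.le_of_dvd (by norm_num) hdvd
      interval_cases Nat.card (Subgroup.closure {x, w}) <;> omega
    exact eq_one_of_inverted hσ (hcomm x hxP w hwP) hx3 hsx hsw (cop _ 3 9 hQ (by norm_num)) z hz hzp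
  by_cases hd : p ∣ 7920
  · obtain ⟨x, hx⟩ := exists_prime_orderOf_dvd_card' (G := ↥Cfsg.Spor.M11) p (by rw [hcard]; exact hd)
    have hp' : p = 5 ∨ p = 11 := by
      have hle := Nat.le_of_dvd (by norm_num) hd
      have h1 : p ∣ 2 ^ 4 * 3 ^ 2 * 5 * 11 := by norm_num; exact hd
      rcases hp.dvd_mul.1 h1 with h | h
      · rcases hp.dvd_mul.1 h with h | h
        · rcases hp.dvd_mul.1 h with h | h
          · exact absurd ((Nat.prime_dvd_prime_iff_eq hp Nat.prime_two).1 (hp.dvd_of_dvd_pow h)) h2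
          · exact absurd ((Nat.prime_dvd_prime_iff_eq hp Nat.prime_three).1 (hp.dvd_of_dvd_pow h)) h3
        · exact Or.inl ((Nat.prime_dvd_prime_iff_eq hp (by norm_num)).1 h)
      · exact Or.inr ((Nat.prime_dvd_prime_iff_eq hp (by norm_num)).1 h)
    exact Cfsg.Agent.H50.eq_one_of_rigidAt hσ (Subgroup.zpowers x)
      (cop _ p p (by rw [Nat.card_zpowers, hx]) (by rcases hp' with rfl | rfl <;> norm_num))
      (Cfsg.Agent.H50.rigidAt_of_isCyclic p _) z hz hzp
  · exact Cfsg.Agent.H50.eq_one_of_rigidAt hσ ⊥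
      (cop _ p 1 Subgroup.card_bot (by simpa using (hp.coprime_iff_not_dvd).2 hd))
      (Cfsg.Agent.H50.rigidAt_of_isCyclic p _) z hz hzp

end Cfsg.Agent.S2034
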