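import Cfsg.Statements.S5737
import Cfsg.Agent.Suzuki.Binary
import Cfsg.Agent.Suzuki.Lie

set_option autoImplicit false
open Cfsg

namespace Cfsg.Agent.S5737

/-- Let G = Sz(q) be a Suzuki group, q = 2^(2a+1) with a ≥ 1 (realised inside Sp₄ over the field with q elements), and let H be a proper subgroup of G. Then the action of G on the cosets of H is binary if and only if H is trivial or H is the centre of a Sylow 2-subgroup of G. Here an action is binary (relational complexity 2) when, for every n ≥ 2 and all n-tuples I, J of points, if for every pair of positions some group element carries the corresponding pair of entries of I to those of J, then a single group element carries I to J. -/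
theorem result {F : Type*} [Field F] [Fintype F] (a : ℕ) (ha : 1 ≤ a) (hF : Fintype.card F = 2 ^ (2 * a + 1))
    (H : Subgroup (Cfsg.Lie.Sz F (2 ^ (a + 1)))) (hH : H ≠ ⊤) :
    (∀ (n : ℕ) (I J : Fin n → (Cfsg.Lie.Sz F (2 ^ (a + 1))) ⧸ H), 2 ≤ n →
        (∀ i j : Fin n, i ≠ j → ∃ g : (Cfsg.Lie.Sz F (2 ^ (a + 1))), g • I i = J i ∧ g • I j = J j) → ∃ g : (Cfsg.Lie.Sz F (2 ^ (a + 1))), ∀ i, g • I i = J i) ↔
      (H = ⊥ ∨ ∃ P : Sylow 2 (Cfsg.Lie.Sz F (2 ^ (a + 1))), H = (Subgroup.center (P : Subgroup (Cfsg.Lie.Sz F (2 ^ (a + 1))))).map (P : Subgroup (Cfsg.Lie.Sz F (2 ^ (a + 1)))).subtype) := by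
  have : Cfsg.Agent.Suzuki.SzField F a := ⟨hF, ha⟩
  let f : ↥(Cfsg.Sz F a) ≃* ↥(Cfsg.Lie.Sz F (2 ^ (a + 1))) := Cfsg.Agent.Suzuki.lieEquiv a
  let _ : MulAction ↥(Cfsg.Sz F a) (↥(Cfsg.Lie.Sz F (2 ^ (a + 1))) ⧸ H) := MulAction.compHom _ f.toMonoidHom
  have : MulAction.IsPretransitive ↥(Cfsg.Sz F a) (↥(Cfsg.Lie.Sz F (2 ^ (a + 1))) ⧸ H) := ⟨fun x y => by
    obtain ⟨g, hg⟩ := MulAction.exists_smul_eq ↥(Cfsg.Lie.Sz F (2 ^ (a + 1))) x y
    exact ⟨f.symm g, by show f (f.symm g) • x = y; rw [MulEquiv.apply_symm_apply]; exact hg⟩⟩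
  have hst : ∀ g, g ∈ MulAction.stabilizer ↥(Cfsg.Sz F a)
      ((1 : ↥(Cfsg.Lie.Sz F (2 ^ (a + 1)))) : ↥(Cfsg.Lie.Sz F (2 ^ (a + 1))) ⧸ H) ↔ f g ∈ H := by
    intro g
    show f g • ((1 : ↥(Cfsg.Lie.Sz F (2 ^ (a + 1)))) : ↥(Cfsg.Lie.Sz F (2 ^ (a + 1))) ⧸ H) = _ ↔ _
    rw [MulAction.Quotient.smul_coe, smul_eq_mul, mul_one, QuotientGroup.eq, mul_one, inv_mem_iff]
  have hne : ∀ ω : ↥(Cfsg.Lie.Sz F (2 ^ (a + 1))) ⧸ H, MulAction.stabilizer ↥(Cfsg.Sz F a) ω ≠ ⊤ := by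
    intro ω h
    refine hH (eq_top_iff.mpr fun x _ => ?_)
    induction ω using QuotientGroup.induction_on with | H c => ?_
    have h1 : f.symm (c * x * c⁻¹) ∈ MulAction.stabilizer ↥(Cfsg.Sz F a) (c : ↥(Cfsg.Lie.Sz F (2 ^ (a + 1))) ⧸ H) :=
      h ▸ trivial
    have h2 : f (f.symm (c * x * c⁻¹)) • (c : ↥(Cfsg.Lie.Sz F (2 ^ (a + 1))) ⧸ H) = c := h1
    rw [MulEquiv.apply_symm_apply, MulAction.Quotient.smul_coe, smul_eq_mul, QuotientGroup.eq] at h2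
    simpa [mul_assoc] using h2
  have hbin : Cfsg.Agent.Suzuki.IsBinaryAction ↥(Cfsg.Sz F a) (↥(Cfsg.Lie.Sz F (2 ^ (a + 1))) ⧸ H) ↔
      Cfsg.Agent.Suzuki.IsBinaryAction ↥(Cfsg.Lie.Sz F (2 ^ (a + 1))) (↥(Cfsg.Lie.Sz F (2 ^ (a + 1))) ⧸ H) :=
    Cfsg.Agent.Suzuki.isBinaryAction_congr f (fun _ _ => rfl)
  change Cfsg.Agent.Suzuki.IsBinaryAction ↥(Cfsg.Lie.Sz F (2 ^ (a + 1))) (↥(Cfsg.Lie.Sz F (2 ^ (a + 1))) ⧸ H) ↔ _
  rw [← hbin, Cfsg.Agent.Suzuki.binary_iff a hne ((1 : ↥(Cfsg.Lie.Sz F (2 ^ (a + 1)))) : ↥(Cfsg.Lie.Sz F (2 ^ (a + 1))) ⧸ H)]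
  refine or_congr ?_ ?_
  · rw [Subgroup.eq_bot_iff_forall, Subgroup.eq_bot_iff_forall]
    constructor
    · intro h x hx
      have := h (f.symm x) ((hst _).mpr (by rwa [MulEquiv.apply_symm_apply]))
      exact f.symm.injective (by rw [this, map_one])
    · intro h g hg
      exact f.injective (by rw [h _ ((hst g).mp hg), map_one])
  · have : Fact (Nat.Prime 2) := ⟨Nat.prime_two⟩
    constructor
    · rintro ⟨c, hc⟩
      refine ⟨(Cfsg.Agent.Suzuki.sylowU a).mapSurjective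
        (f := f.toMonoidHom.comp (MulAut.conj c).toMonoidHom) (f.surjective.comp (MulAut.conj c).surjective), ?_⟩
      ext x
      obtain ⟨g, rfl⟩ := f.surjective x
      rw [← hst g, hc g, Cfsg.Agent.Suzuki.mem_center_map_iff a f _ c]
      intro x
      constructor
      · rintro ⟨y, hy, hyx⟩
        have : x = c * y * c⁻¹ := f.injective hyx.symm
        simpa [this, mul_assoc] using (show y ∈ Cfsg.Agent.Suzuki.U a from hy)
      · intro hx
        exact ⟨c⁻¹ * x * c, hx, congrArg f (by show c * (c⁻¹ * x * c) * c⁻¹ = x; group)⟩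
    · rintro ⟨P, hP⟩
      obtain ⟨c, hc⟩ := Cfsg.Agent.Suzuki.exists_conj_U a (P.mapSurjective (f := f.symm.toMonoidHom) f.symm.surjective)
      refine ⟨c, fun g => ?_⟩
      rw [hst, hP, Cfsg.Agent.Suzuki.mem_center_map_iff a f _ c]
      intro x
      have h1 : f x ∈ (P : Subgroup _) ↔ x ∈ (P.mapSurjective (f := f.symm.toMonoidHom) f.symm.surjective : Subgroup _) :=
        ⟨fun h => ⟨f x, h, f.symm_apply_apply x⟩, fun ⟨y, hy, e⟩ => by
          have : y = f x := by rw [← e]; exact (f.apply_symm_apply y).symm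
          exact this ▸ hy⟩
      rw [h1, hc, Cfsg.Agent.Suzuki.mem_map_conj_iff]

end Cfsg.Agent.S5737
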