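import Cfsg.Statements.S0439


set_option autoImplicit false
open Cfsg

namespace Cfsg.Agent.S0439

/-- In the symmetric group of degree n ≥ 2, the set of transpositions is a conjugacy class of 3-transpositions which generates the group. -/
theorem result (n : ℕ) (hn : 2 ≤ n) : Cfsg.IsThreeTranspositionClass {σ : Equiv.Perm (Fin n) | σ.IsSwap} := by
  classical
  refine ⟨⟨?_, ?_⟩, ?_, Equiv.Perm.closure_isSwap⟩
  · intro d hd
    exact Equiv.Perm.IsSwap.orderOf hd
  · rintro d ⟨x, y, hxy, rfl⟩ e ⟨z, w, hzw, rfl⟩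
    by_cases hd : Disjoint ({x, y} : Finset (Fin n)) {z, w}
    · left
      have hdis : (Equiv.swap x y).Disjoint (Equiv.swap z w) := by
        rw [Equiv.Perm.disjoint_iff_disjoint_support, Equiv.Perm.support_swap hxy, Equiv.Perm.support_swap hzw]
        exact hd
      rw [hdis.commute.mul_pow, pow_two, pow_two, Equiv.swap_mul_self, Equiv.swap_mul_self, one_mul]
    · rw [Finset.not_disjoint_iff] at hd
      obtain ⟨p, hp1, hp2⟩ := hd
      obtain ⟨q, hpq, hxy'⟩ : ∃ q, p ≠ q ∧ Equiv.swap x y = Equiv.swap p q := by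
        rcases (by simpa using hp1 : p = x ∨ p = y) with rfl | rfl
        · exact ⟨y, hxy, rfl⟩
        · exact ⟨x, hxy.symm, Equiv.swap_comm _ _⟩
      obtain ⟨r, hpr, hzw'⟩ : ∃ r, p ≠ r ∧ Equiv.swap z w = Equiv.swap p r := by
        rcases (by simpa using hp2 : p = z ∨ p = w) with rfl | rfl
        · exact ⟨w, hzw, rfl⟩
        · exact ⟨z, hzw.symm, Equiv.swap_comm _ _⟩
      rw [hxy', hzw']
      by_cases hqr : q = r
      · left; rw [hqr, Equiv.swap_mul_self, one_pow]
      · right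
        have h3 := Equiv.Perm.isThreeCycle_swap_mul_swap_same hpq hpr hqr
        rw [← h3.orderOf]; exact pow_orderOf_eq_one _
  · have h01 : (⟨0, by omega⟩ : Fin n) ≠ ⟨1, by omega⟩ := by simp
    refine ⟨Equiv.swap ⟨0, by omega⟩ ⟨1, by omega⟩, ⟨_, _, h01, rfl⟩, ?_⟩
    ext σ
    show σ.IsSwap ↔ IsConj _ σ
    constructor
    · rintro ⟨x, y, hxy, rfl⟩
      exact Equiv.Perm.isConj_swap h01 hxy
    · intro h
      obtain ⟨c, hc⟩ := isConj_iff.1 h
      exact ⟨c ⟨0, by omega⟩, c ⟨1, by omega⟩, c.injective.ne h01, by rw [← hc, ← Equiv.swap_apply_apply]⟩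

end Cfsg.Agent.S0439
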