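import Cfsg.Agent.H76.LocalTwinsOdd
import Cfsg.Statements.S1615

set_option autoImplicit false
open Cfsg

namespace Cfsg.Agent.S1615

/-- If O(⟨D_x⟩) is not central in ⟨D_x⟩ for some transposition x, the 3-transposition group is the symmetric group of degree 5. -/
theorem result {G : Type*} [Group G] [Finite G] (hsol : ∀ N : Subgroup G, N.Normal → Group.IsSolvable ↥N → N = ⊥) (hperf : ⁅commutator G, commutator G⁆ = commutator G) {D : Set G} (hD : Cfsg.IsThreeTranspositionClass D) (x : G) (hx : x ∈ D) (h : ¬ Cfsg.oddCore ↥(Subgroup.closure {y : G | y ∈ D ∧ y ≠ x ∧ Commute x y}) ≤ Subgroup.center ↥(Subgroup.closure {y : G | y ∈ D ∧ y ≠ x ∧ Commute x y})) : Nonempty (G ≃* Equiv.Perm (Fin 5)) := by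
  have H := H76.LocalTwins.isRigid_of_class hD hsol
  obtain ⟨a, b, hba, hab⟩ := H76.LocalTwins.exists_twin_pair H h
  have hcj : ∀ u ∈ D, ∀ v ∈ D, ∃ g : G, g * u * g⁻¹ = v := by
    obtain ⟨-, ⟨d₀, -, hD₀⟩, -⟩ := hD
    intro u hu v hv
    rw [hD₀] at hu hv
    exact isConj_iff.1 ((show IsConj d₀ u from hu).symm.trans hv)
  have hT : ∀ y ∈ D, ∀ p ∈ H76.LocallyS3.nb D y, ∃ q, q ≠ p ∧ H76.LocalTwins.Tw D y p q := by
    intro y hy p hp
    obtain ⟨g, hg⟩ := hcj x hx y hy
    have hg' : H76.LocallyS3.cj g x = y := hg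
    have h1 := H76.LocalTwins.Tw.conj H g hab
    rw [hg'] at h1
    obtain ⟨k, hk, hkp⟩ := H44.dx_conjugate hD hsol hy h1.1 hp
    have hky : Commute k y := by
      refine Subgroup.closure_induction (fun z hz => hz.2.2.symm) (Commute.one_left y)
        (fun _ _ _ _ h h' => h.mul_left h') (fun _ _ h => h.inv_left) hk
    have h2 := H76.LocalTwins.Tw.conj' H h1 hky
    have hkp' : H76.LocallyS3.cj k (H76.LocallyS3.cj g a) = p := hkp
    rw [hkp'] at h2
    refine ⟨_, fun e => hba ?_, h2⟩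
    rw [← hkp'] at e
    exact H76.LocallyS3.cj_injective g (H76.LocallyS3.cj_injective k e)
  exact H76.LocalTwins.five H hD.2.2
    (fun y hy p hp => H76.LocalTwins.M_eq_empty H hT hy hp) hx hab.1 hab.2.1 hba.symm

end Cfsg.Agent.S1615
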