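import Cfsg.Statements.S1906
import Cfsg.Agent.H52.SignDiag
import Cfsg.Agent.PGroups.Basic


set_option autoImplicit false
open Cfsg

namespace Cfsg.Agent.S1906

open Subgroup MulAction Module
open scoped commutatorElement

theorem zpow_sq_one {G : Type*} [Group G] {z : G} (hz : z ^ 2 = 1) (j : ℤ) : 1 = z ^ j * z ^ j := by
  rw [← zpow_add, ← two_mul, zpow_mul]
  simp [zpow_ofNat, hz]

/-- A product of an invariant function with values of order at most two, over a `2`-group action. -/
theorem prod_eq_prod_fixed {K α A : Type*} [Group K] [MulAction K α] [Fintype α] [CommGroup A]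
    (hK : IsPGroup 2 K) (w : α → A) (hinv : ∀ (k : K) a, w (k • a) = w a) (hsq : ∀ a, w a ^ 2 = 1)
    [DecidablePred (· ∈ fixedPoints K α)] :
    ∏ a, w a = ∏ a ∈ Finset.univ.filter (· ∈ fixedPoints K α), w a := by
  classical
  haveI := Fintype.ofFinite (Quotient (orbitRel K α))
  rw [← Finset.prod_filter_mul_prod_filter_not Finset.univ (· ∈ fixedPoints K α)]
  refine mul_eq_left.mpr ?_
  rw [← Finset.prod_fiberwise (g := fun a : α => (Quotient.mk'' a : Quotient (orbitRel K α)))]
  refine Finset.prod_eq_one fun q _ => ?_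
  induction q using Quotient.inductionOn' with
  | h b =>
  by_cases hb : b ∈ fixedPoints K α
  · refine Finset.prod_eq_one fun a ha => ?_
    simp only [Finset.mem_filter, Finset.mem_univ, true_and] at ha
    have hab : a ∈ orbit K b := orbitRel_apply.mp (Quotient.exact' ha.2)
    rw [mem_fixedPoints'.mp hb a hab] at ha
    exact absurd hb ha.1
  have hset : ∀ a, a ∈ (Finset.univ.filter (fun a => a ∉ fixedPoints K α)).filter
      (fun a => (Quotient.mk'' a : Quotient (orbitRel K α)) = Quotient.mk'' b) ↔ a ∈ orbit K b := by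
    intro a
    simp only [Finset.mem_filter, Finset.mem_univ, true_and]
    refine ⟨fun h => orbitRel_apply.mp (Quotient.exact' h.2), fun h => ⟨fun hfa => hb ?_,
      Quotient.sound' (orbitRel_apply.mpr h)⟩⟩
    have hba : b ∈ orbit K a := mem_orbit_symm.mpr h
    rwa [mem_fixedPoints'.mp hfa b hba]
  rw [Finset.prod_congr rfl (g := fun _ => w b) (fun a ha => by
    obtain ⟨k, rfl⟩ := (hset a).mp ha; exact hinv k b), Finset.prod_const]
  have hcard : ((Finset.univ.filter (fun a => a ∉ fixedPoints K α)).filter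
      (fun a => (Quotient.mk'' a : Quotient (orbitRel K α)) = Quotient.mk'' b)).card
      = Nat.card (orbit K b) := by
    rw [Nat.card_eq_fintype_card, Fintype.card_subtype]
    congr 1
    ext a
    rw [hset a]; simp
  obtain ⟨n, hn⟩ := hK.card_orbit b
  rw [hcard, hn]
  rcases Nat.eq_zero_or_pos n with h0 | h0
  · exfalso
    rw [h0, pow_zero] at hn
    obtain ⟨hsub, -⟩ := Nat.card_eq_one_iff_unique.mp hn
    exact hb (mem_fixedPoints'.mpr fun a ha =>
      congrArg Subtype.val (hsub.elim (⟨a, ha⟩ : orbit K b) ⟨b, mem_orbit_self b⟩))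
  · obtain ⟨j, hj⟩ : 2 ∣ 2 ^ n := dvd_pow_self 2 h0.ne'
    rw [hj, pow_mul, hsq, one_pow]

/-- An involution `z` central in a Sylow `2`-subgroup `X` and fixed by `N(X)` lies in `X'` if there is
no subgroup of index `2`. -/
theorem mem_commutator_of_isolated {G : Type*} [Group G] [Finite G] (hG : ∀ H : Subgroup G, H.index ≠ 2)
    (X : Sylow 2 G) (z : G) (hz : z ∈ (X : Subgroup G)) (hz2 : z ^ 2 = 1)
    (hzc : ∀ x ∈ (X : Subgroup G), x * z = z * x)
    (hiso : ∀ g ∈ normalizer ((X : Subgroup G) : Set G), g⁻¹ * z * g = z) :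
    (⟨z, hz⟩ : (X : Subgroup G)) ∈ commutator ↥(X : Subgroup G) := by
  classical
  set H := (X : Subgroup G) with hH
  set ϕ : H →* Abelianization H := Abelianization.of with hϕ
  rw [← Abelianization.ker_of H, MonoidHom.mem_ker]
  -- every homomorphism to a commutative 2-group is trivial
  have hA : IsPGroup 2 (Abelianization H) := X.isPGroup'.to_quotient (commutator H)
  have htriv : MonoidHom.transfer ϕ z = 1 := by
    have h1 : (MonoidHom.transfer ϕ).range = ⊥ := by
      obtain ⟨n, hn⟩ := IsPGroup.iff_card.mp (hA.to_subgroup (MonoidHom.transfer ϕ).range)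
      by_contra hne
      have hn0 : n ≠ 0 := fun h => hne (card_eq_one.mp (by rw [hn, h, pow_zero]))
      obtain ⟨L, hL⟩ := Sylow.exists_subgroup_card_pow_prime (G := (MonoidHom.transfer ϕ).range) 2
        (n := n - 1) (by rw [hn]; exact pow_dvd_pow 2 (Nat.sub_le n 1))
      refine hG (L.comap (MonoidHom.transfer ϕ).rangeRestrict) ?_
      rw [index_comap_of_surjective _ (MonoidHom.transfer ϕ).rangeRestrict_surjective]
      have h2 := L.card_mul_index
      rw [hL, hn, show 2 ^ n = 2 ^ (n - 1) * 2 by rw [← pow_succ]; congr 1; omega] at h2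
      exact Nat.eq_of_mul_eq_mul_left (pow_pos two_pos _) h2
    exact (mem_bot (G := Abelianization H)).mp (h1.le ⟨z, rfl⟩)
  haveI := Fintype.ofFinite (G ⧸ H)
  haveI := Fintype.ofFinite (Quotient (orbitRel (zpowers z) (G ⧸ H)))
  set w : G ⧸ H → Abelianization H := fun c =>
    if h : c.out⁻¹ * z * c.out ∈ H then ϕ ⟨_, h⟩ else 1 with hw
  have hfix : ∀ c : G ⧸ H, z • c = c ↔ c.out⁻¹ * z * c.out ∈ H := by
    intro c
    conv_lhs => rw [← QuotientGroup.out_eq' c, MulAction.Quotient.smul_mk, smul_eq_mul,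
      eq_comm, QuotientGroup.eq, ← mul_assoc]
  have hwfix : ∀ c : G ⧸ H, z • c ≠ c → w c = 1 := fun c hc => dif_neg (mt (hfix c).mpr hc)
  have hsq : ∀ c, w c ^ 2 = 1 := by
    intro c
    by_cases h : c.out⁻¹ * z * c.out ∈ H
    · rw [hw]; simp only [dif_pos h]
      rw [← map_pow, show (⟨_, h⟩ : H) ^ 2 = 1 from Subtype.ext ?_, map_one]
      show (c.out⁻¹ * z * c.out) ^ 2 = 1
      rw [show c.out⁻¹ * z * c.out = c.out⁻¹ * z * c.out⁻¹⁻¹ by rw [inv_inv], conj_pow, hz2]
      group
    · rw [hw]; simp only [dif_neg h]; exact one_pow _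
  have htr : MonoidHom.transfer ϕ z = ∏ c : G ⧸ H, w c := by
    rw [MonoidHom.transfer_eq_prod_quotient_orbitRel_zpowers_quot,
      ← Finset.prod_fiberwise Finset.univ
        (fun c : G ⧸ H => (Quotient.mk'' c : Quotient (orbitRel (zpowers z) (G ⧸ H)))) w]
    refine Finset.prod_congr rfl fun q _ => ?_
    have horb : ∀ c : G ⧸ H, (Quotient.mk'' c : Quotient (orbitRel (zpowers z) (G ⧸ H))) = q ↔
        c = q.out ∨ c = z • q.out := by
      intro c
      rw [← Quotient.out_eq' q, Quotient.eq'', orbitRel_apply, Quotient.out_eq' q]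
      constructor
      · rintro ⟨⟨_, i, rfl⟩, rfl⟩
        rcases Int.even_or_odd i with ⟨j, rfl⟩ | ⟨j, rfl⟩
        · left
          show z ^ (j + j) • q.out = q.out
          rw [zpow_add, ← zpow_sq_one hz2 j, one_smul]
        · right
          show z ^ (2 * j + 1) • q.out = z • q.out
          rw [zpow_add, zpow_one, two_mul, zpow_add, ← zpow_sq_one hz2 j, one_mul]
      · rintro (rfl | rfl)
        · exact mem_orbit_self _
        · exact ⟨⟨z, mem_zpowers z⟩, rfl⟩
    by_cases hq : z • q.out = q.out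
    · rw [Finset.prod_eq_single q.out]
      · have h1 := (hfix _).mp hq
        rw [hw]; simp only [dif_pos h1]
        congr 1; apply Subtype.ext
        show q.out.out⁻¹ * z ^ Function.minimalPeriod (z • ·) q.out * q.out.out = _
        rw [Function.minimalPeriod_eq_one_iff_isFixedPt.mpr hq, pow_one]
      · intro c hc hne
        simp only [Finset.mem_filter, Finset.mem_univ, true_and] at hc
        rcases (horb c).mp hc with h | h
        · exact absurd h hne
        · exact absurd (h.trans hq) hne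
      · intro h
        exact (h (Finset.mem_filter.mpr ⟨Finset.mem_univ _, (horb _).mpr (Or.inl rfl)⟩)).elim
    · have hper : Function.IsPeriodicPt (z • ·) 2 q.out := by
        show (z • ·)^[2] q.out = q.out
        rw [smul_iterate]
        show z ^ 2 • q.out = q.out
        rw [hz2, one_smul]
      have h2 : Function.minimalPeriod (z • ·) q.out = 2 :=
        (((Nat.dvd_prime Nat.prime_two).mp hper.minimalPeriod_dvd).resolve_left
          fun h => hq (Function.minimalPeriod_eq_one_iff_isFixedPt.mp h))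
      rw [show ϕ ⟨_, QuotientGroup.out_conj_pow_minimalPeriod_mem H z q.out⟩ = 1 by
        rw [show (⟨_, QuotientGroup.out_conj_pow_minimalPeriod_mem H z q.out⟩ : H) = 1 from
          Subtype.ext (by
            show q.out.out⁻¹ * z ^ Function.minimalPeriod (z • ·) q.out * q.out.out = 1
            rw [h2, hz2, mul_one, inv_mul_cancel]), map_one]]
      symm
      refine Finset.prod_eq_one fun c hc => hwfix c ?_
      simp only [Finset.mem_filter, Finset.mem_univ, true_and] at hc
      rcases (horb c).mp hc with rfl | rfl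
      · exact hq
      · intro h
        have h3 : z • z • q.out = q.out := by rw [smul_smul, ← sq, hz2, one_smul]
        exact hq (h.symm.trans h3)
  -- `X` acts on the cosets and `w` is invariant
  have hinv : ∀ (k : H) (c : G ⧸ H), w (k • c) = w c := by
    intro k c
    set g := c.out with hg
    have hkc : (k • c : G ⧸ H) = (((k : G) * g : G) : G ⧸ H) := by
      conv_lhs => rw [← QuotientGroup.out_eq' c]
      rfl
    obtain ⟨y, hy⟩ := QuotientGroup.mk_out_eq_mul H ((k : G) * g)
    have hout : (k • c : G ⧸ H).out = (k : G) * g * y := by rw [hkc]; exact hy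
    have e : (k • c : G ⧸ H).out⁻¹ * z * (k • c : G ⧸ H).out = (y : G)⁻¹ * (g⁻¹ * z * g) * y := by
      rw [hout]
      calc ((k : G) * g * y)⁻¹ * z * ((k : G) * g * y)
          = (y : G)⁻¹ * (g⁻¹ * ((k : G)⁻¹ * (z * k)) * g) * y := by group
        _ = (y : G)⁻¹ * (g⁻¹ * z * g) * y := by rw [← hzc k k.2, inv_mul_cancel_left]
    by_cases h : g⁻¹ * z * g ∈ H
    · have h' : (k • c : G ⧸ H).out⁻¹ * z * (k • c : G ⧸ H).out ∈ H := by
        rw [e]; exact H.mul_mem (H.mul_mem (H.inv_mem y.2) h) y.2
      rw [hw]; simp only [dif_pos h, dif_pos h', ← hg]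
      rw [show (⟨_, h'⟩ : H) = y⁻¹ * ⟨_, h⟩ * y from Subtype.ext (by push_cast; exact e),
        map_mul, map_mul, map_inv, mul_right_comm, inv_mul_cancel, one_mul]
    · have h' : ¬ (k • c : G ⧸ H).out⁻¹ * z * (k • c : G ⧸ H).out ∈ H := by
        rw [e]
        intro h2
        apply h
        have := H.mul_mem (H.mul_mem y.2 h2) (H.inv_mem y.2)
        simpa [mul_assoc] using this
      rw [hw]; simp only [dif_neg h', ← hg, dif_neg h]
  have hval : ∀ c ∈ fixedPoints H (G ⧸ H), w c = ϕ ⟨z, hz⟩ := by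
    intro c hc
    have hn : c.out ∈ normalizer (H : Set G) := by
      rw [← QuotientGroup.out_eq' c] at hc
      exact Sylow.mem_fixedPoints_mul_left_cosets_iff_mem_normalizer.mp hc
    have h := hiso _ hn
    rw [hw]; simp only [dif_pos (h.symm ▸ hz : c.out⁻¹ * z * c.out ∈ H)]
    congr 1; exact Subtype.ext h
  rw [htr, prod_eq_prod_fixed X.isPGroup' w hinv hsq, Finset.prod_congr rfl
    (fun c hc => hval c (Finset.mem_filter.mp hc).2), Finset.prod_const] at htriv
  have hmod := X.isPGroup'.card_modEq_card_fixedPoints (G ⧸ H)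
  have hfc : (Finset.univ.filter (· ∈ fixedPoints H (G ⧸ H))).card
      = Nat.card (fixedPoints H (G ⧸ H)) := by
    rw [Nat.card_eq_fintype_card, Fintype.card_subtype]
  obtain ⟨j, hj⟩ : Odd (Finset.univ.filter (· ∈ fixedPoints H (G ⧸ H))).card := by
    have h : ¬ 2 ∣ H.index := X.not_dvd_index
    rw [Subgroup.index_eq_card] at h
    rw [Nat.odd_iff, hfc, ← hmod]
    omega
  rw [hj, pow_succ, pow_mul, ← map_pow, show (⟨z, hz⟩ : H) ^ 2 = 1 from Subtype.ext hz2, map_one,
    one_pow, one_mul] at htriv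
  exact htriv

/-- A matrix commuting with a full sign group is diagonal in its basis. -/
theorem comm_of_sign_group {F : Type*} [Field F] (h2 : (2 : F) ≠ 0) {X : Type*} [Group X]
    (f : X →* GL (Fin 3) F) (hf : Function.Injective f) (U : Subgroup X)
    (hUc : ∀ a ∈ U, ∀ c ∈ U, a * c = c * a) (hU2 : ∀ a ∈ U, a ^ 2 = 1) (hU8 : Nat.card U = 8) :
    (∃ z ∈ U, (f z : Matrix (Fin 3) (Fin 3) F) = -1) ∧
      ∀ x y : X, (∀ a ∈ U, x * a = a * x) → (∀ a ∈ U, y * a = a * y) → x * y = y * x := by
  classical
  haveI : Finite U := Nat.finite_of_card_ne_zero (by omega)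
  obtain ⟨b, s, hs⟩ := Cfsg.Agent.H52.exists_sign_basis h2
    (fun a : U => (f a : Matrix (Fin 3) (Fin 3) F))
    (fun a => by rw [← Units.val_mul, ← map_mul, ← sq, hU2 a a.2, map_one, Units.val_one])
    (fun a c => by rw [← Units.val_mul, ← Units.val_mul, ← map_mul, ← map_mul, hUc a a.2 c c.2])
  let σ : U → (Fin 3 → Bool) := fun a k => decide (s a k = 1)
  have hne : (-1 : F) ≠ 1 := fun e => h2 (by linear_combination -e)
  have hsσ : ∀ a k, s a k = if σ a k then 1 else -1 := by
    intro a k
    rcases (hs a k).1 with e | e <;> simp [σ, e, hne]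
  have hσinj : Function.Injective σ := by
    intro a c h
    refine Subtype.ext (hf (Units.ext (Cfsg.Agent.H52.eq_of_eigen b (s a) (fun k => (hs a k).2)
      fun k => ?_)))
    rw [show s a k = s c k by rw [hsσ, hsσ, h]]
    exact (hs c k).2
  have hσ : Function.Bijective σ := by
    haveI := Fintype.ofFinite U
    rw [Fintype.bijective_iff_injective_and_card]
    refine ⟨hσinj, ?_⟩
    rw [← Nat.card_eq_fintype_card, hU8]
    simp
  refine ⟨?_, fun x y hx hy => ?_⟩
  · obtain ⟨a, ha⟩ := hσ.2 fun _ => false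
    refine ⟨a, a.2, Cfsg.Agent.H52.eq_of_eigen b (fun _ => -1) (fun k => ?_) fun k => ?_⟩
    · rw [(hs a k).2, hsσ, ha]; simp
    · rw [Matrix.neg_mulVec, Matrix.one_mulVec, neg_one_smul]
  have hdiag : ∀ x : X, (∀ a ∈ U, x * a = a * x) →
      ∃ t : Fin 3 → F, ∀ k, (f x : Matrix (Fin 3) (Fin 3) F).mulVec (b k) = t k • b k := by
    intro x hx
    refine ⟨fun k => b.repr ((f x : Matrix (Fin 3) (Fin 3) F).mulVec (b k)) k, fun k => ?_⟩
    set v := (f x : Matrix (Fin 3) (Fin 3) F).mulVec (b k) with hv
    refine b.repr.injective ?_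
    rw [map_smul, b.repr_self, Finsupp.smul_single, smul_eq_mul, mul_one]
    ext j
    rw [Finsupp.single_apply]
    split_ifs with hjk
    · subst hjk; rfl
    obtain ⟨a, ha⟩ := hσ.2 fun i => decide (i = k)
    have h1 : (f a : Matrix (Fin 3) (Fin 3) F).mulVec v = v := by
      rw [hv, Matrix.mulVec_mulVec, ← Units.val_mul, ← map_mul, ← hx a a.2, map_mul, Units.val_mul,
        ← Matrix.mulVec_mulVec, (hs a k).2, hsσ, ha]
      simp
    have h3 : v = ∑ i, b.repr v i • b i := (b.sum_repr v).symm
    have h4 : (f a : Matrix (Fin 3) (Fin 3) F).mulVec v = ∑ i, (b.repr v i * s a i) • b i := by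
      conv_lhs => rw [h3, ← Matrix.toLin'_apply, map_sum]
      refine Finset.sum_congr rfl fun i _ => ?_
      rw [map_smul, Matrix.toLin'_apply, (hs a i).2, smul_smul]
    have h5 := congrArg (fun u => b.repr u j) (h4.symm.trans h1)
    simp only [Basis.repr_sum_self] at h5
    rw [hsσ, ha] at h5
    simp only [Ne.symm hjk, decide_false, Bool.false_eq_true, if_false, mul_neg, mul_one] at h5
    have h6 : (2 : F) * b.repr v j = 0 := by linear_combination -h5
    exact (mul_eq_zero.mp h6).resolve_left h2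
  obtain ⟨t, ht⟩ := hdiag x hx
  obtain ⟨u, hu⟩ := hdiag y hy
  refine hf (Units.ext (Cfsg.Agent.H52.eq_of_eigen b (fun k => t k * u k) (fun k => ?_) fun k => ?_))
  · rw [map_mul, Units.val_mul, ← Matrix.mulVec_mulVec, hu, Matrix.mulVec_smul, ht, smul_smul, mul_comm]
  · rw [map_mul, Units.val_mul, ← Matrix.mulVec_mulVec, ht, Matrix.mulVec_smul, hu, smul_smul]

/-- Let G be a finite group with no subgroup of index 2 whose Sylow 2-subgroup X embeds in GL₃(F) for a finite field F of odd order. If X contains an elementary abelian subgroup of order 8, then X is abelian. -/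
theorem result {G : Type*} [Group G] [Finite G] (hG : ∀ H : Subgroup G, H.index ≠ 2) (X : Sylow 2 G)
    {F : Type*} [Field F] [Fintype F] (hF : Odd (Fintype.card F))
    (f : ↥(X : Subgroup G) →* GL (Fin 3) F) (hf : Function.Injective f)
    (E : Subgroup G) (hE : E ≤ (X : Subgroup G)) (hEa : Cfsg.IsElementaryAbelian 2 E) (hE8 : Nat.card E = 8) :
    IsMulCommutative (X : Subgroup G) := by
  classical
  have h2 : (2 : F) ≠ 0 := Cfsg.Agent.H52.two_ne_zero_of_odd_card hF
  haveI : Fact (Nat.Prime 2) := ⟨Nat.prime_two⟩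
  by_contra hna
  have hEc : ∀ a ∈ E.subgroupOf (X : Subgroup G), ∀ c ∈ E.subgroupOf (X : Subgroup G), a * c = c * a := fun a ha c hc => by
    apply Subtype.ext
    have h := congrArg Subtype.val (hEa.1.is_comm.comm (⟨(a : G), ha⟩ : E) ⟨(c : G), hc⟩)
    exact h
  obtain ⟨⟨zX, hzE, hzf⟩, -⟩ := comm_of_sign_group h2 f hf (E.subgroupOf (X : Subgroup G)) hEc
    (fun a ha => Subtype.ext (hEa.2 (a : G) ha))
    (by rw [Nat.card_congr (Subgroup.subgroupOfEquivOfLe hE).toEquiv]; exact hE8)
  have hzc : ∀ x : (X : Subgroup G), x * zX = zX * x := fun x => hf (Units.ext (by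
    rw [map_mul, map_mul, Units.val_mul, Units.val_mul, hzf, mul_neg, mul_one, neg_mul, one_mul]))
  have hz2 : zX ^ 2 = 1 := hf (Units.ext (by
    rw [map_pow, Units.val_pow_eq_pow_val, hzf, neg_one_sq, map_one, Units.val_one]))
  have hdet : ∀ x ∈ commutator (X : Subgroup G), (Matrix.GeneralLinearGroup.det (f x)) = 1 := by
    intro x hx
    have := Abelianization.commutator_subset_ker ((Matrix.GeneralLinearGroup.det).comp f) hx
    simpa using this
  have hzd : Matrix.GeneralLinearGroup.det (f zX) ≠ 1 := by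
    intro h
    have h1 := congrArg Units.val h
    rw [Matrix.GeneralLinearGroup.val_det_apply, hzf, Matrix.det_neg, Matrix.det_one] at h1
    simp at h1
    exact h2 (by linear_combination -h1)
  have hzn : zX ∉ commutator (X : Subgroup G) := fun h => hzd (hdet zX h)
  apply hzn
  -- a central involution in the derived group
  obtain ⟨a, haD, hac, hao⟩ := PGroups.exists_mem_center_orderOf_eq X.isPGroup' (commutator (X : Subgroup G))
    (fun h => hna ⟨⟨fun x y => (commutatorElement_eq_one_iff_mul_comm.mp (by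
      rw [← mem_bot, ← h]
      exact commutator_mem_commutator (mem_top x) (mem_top y)))⟩⟩)
  have ha2 : a ^ 2 = 1 := orderOf_dvd_iff_pow_eq_one.mp hao.dvd
  have ha1 : a ≠ 1 := fun h => by simp [h] at hao
  have hne : a ≠ zX := fun h => hzn (h ▸ haD)
  -- central elements of order at most two
  let U : Subgroup (X : Subgroup G) :=
    { carrier := {x | x ∈ center (X : Subgroup G) ∧ x ^ 2 = 1}
      one_mem' := ⟨one_mem _, one_pow _⟩
      mul_mem' := fun {x y} hx hy => ⟨mul_mem hx.1 hy.1, by
        rw [(show Commute x y from mem_center_iff.mp hy.1 x).mul_pow, hx.2, hy.2, one_mul]⟩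
      inv_mem' := fun {x} hx => ⟨inv_mem hx.1, by rw [inv_pow, hx.2, inv_one]⟩ }
  have hzU : zX ∈ U := ⟨mem_center_iff.mpr hzc, hz2⟩
  have haU : a ∈ U := ⟨hac, ha2⟩
  have hUp : IsPGroup 2 U := X.isPGroup'.to_subgroup U
  have hU4 : Nat.card U ≤ 4 := by
    obtain ⟨n, hn⟩ := IsPGroup.iff_card.mp hUp
    by_contra hlt
    have hn3 : 3 ≤ n := by
      by_contra h
      have := Nat.pow_le_pow_right two_pos (show n ≤ 2 by omega)
      omega
    obtain ⟨L, hL⟩ := Sylow.exists_subgroup_card_pow_prime (G := U) 2 (n := 3)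
      (hn ▸ pow_dvd_pow 2 hn3)
    obtain ⟨-, hab⟩ := comm_of_sign_group h2 f hf (L.map U.subtype)
      (fun c hc d hd => by
        obtain ⟨c, -, rfl⟩ := hc; exact ((mem_center_iff.mp c.2.1) d).symm)
      (fun c hc => by obtain ⟨c, -, rfl⟩ := hc; exact c.2.2)
      (by rw [card_map_of_injective U.subtype_injective, hL]; rfl)
    refine hna ⟨⟨fun x y => hab x y ?_ ?_⟩⟩ <;>
    · rintro c ⟨c, -, rfl⟩
      exact mem_center_iff.mp c.2.1 _
  have hcases : ∀ u ∈ U, u = 1 ∨ u = a ∨ u = zX ∨ u = a * zX := by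
    intro u hu
    by_contra hcon
    simp only [not_or] at hcon
    obtain ⟨h1, h2', h3, h4⟩ := hcon
    have hz1 : zX ≠ 1 := fun h => hzn (h ▸ one_mem _)
    have haz : a * zX ≠ 1 := fun h => hne (by
      rw [mul_eq_one_iff_eq_inv] at h
      rw [h, inv_eq_of_mul_eq_one_right (by rw [← sq]; exact hz2)])
    have haza : a * zX ≠ a := fun h => hz1 (mul_eq_left.mp h)
    have hazz : a * zX ≠ zX := fun h => ha1 (mul_eq_right.mp h)
    let S : Finset (X : Subgroup G) := insert u (insert (a * zX) (insert zX (insert a {1})))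
    have hS : S.card = 5 := by
      simp only [S]
      rw [Finset.card_insert_of_notMem, Finset.card_insert_of_notMem, Finset.card_insert_of_notMem,
        Finset.card_insert_of_notMem, Finset.card_singleton]
      · simpa using ha1
      · simp only [Finset.mem_insert, Finset.mem_singleton, not_or]; exact ⟨hne.symm, hz1⟩
      · simp only [Finset.mem_insert, Finset.mem_singleton, not_or]; exact ⟨hazz, haza, haz⟩
      · simp only [Finset.mem_insert, Finset.mem_singleton, not_or]; exact ⟨h4, h3, h2', h1⟩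
    have hSU : ∀ x ∈ S, x ∈ U := by
      intro x hx
      simp only [S, Finset.mem_insert, Finset.mem_singleton] at hx
      rcases hx with rfl | rfl | rfl | rfl | rfl
      exacts [hu, U.mul_mem haU hzU, hzU, haU, U.one_mem]
    have hc := Nat.card_le_card_of_injective (fun x : S => (⟨x.1, hSU x.1 x.2⟩ : U))
      (fun x y h => Subtype.ext (congrArg (fun q : U => (q : (X : Subgroup G))) h))
    rw [Nat.card_eq_fintype_card, Fintype.card_coe, hS] at hc
    omega
  have hzG : (zX : G) ∈ (X : Subgroup G) := zX.2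
  refine mem_commutator_of_isolated hG X (zX : G) hzG (congrArg Subtype.val hz2)
    (fun x hx => congrArg Subtype.val (hzc ⟨x, hx⟩)) fun g hg => ?_
  -- the action of `N(X)` on the central involutions
  let φ : ∀ g : G, g ∈ normalizer ((X : Subgroup G) : Set G) → (X : Subgroup G) ≃* (X : Subgroup G) := fun g hg =>
    (normalizerMonoidHom (X : Subgroup G)) ⟨g, hg⟩
  have hφ : ∀ g hg (x : (X : Subgroup G)), ((φ g hg x : (X : Subgroup G)) : G) = g * x * g⁻¹ := fun g hg x => rfl
  have hφU : ∀ g hg, ∀ x ∈ U, φ g hg x ∈ U := by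
    intro g hg x hx
    refine ⟨mem_center_iff.mpr fun y => ?_, by rw [← map_pow, hx.2, map_one]⟩
    obtain ⟨y, rfl⟩ := (φ g hg).surjective y
    rw [← map_mul, ← map_mul, mem_center_iff.mp hx.1 y]
  have hφD : ∀ g hg, ∀ x ∈ commutator (X : Subgroup G), φ g hg x ∈ commutator (X : Subgroup G) := fun g hg x hx =>
    (Subgroup.Characteristic.fixed (inferInstance : (commutator (X : Subgroup G)).Characteristic) (φ g hg)).ge hx
  have hazD : a * zX ∉ commutator (X : Subgroup G) := fun h => hzn (by
    simpa using mul_mem (inv_mem haD) h)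
  have hφz : ∀ g hg, φ g hg zX = zX ∨ φ g hg zX = a * zX := by
    intro g hg
    have hnD : φ g hg zX ∉ commutator (X : Subgroup G) := fun h => hzn (by
      have := (Subgroup.Characteristic.fixed (inferInstance : (commutator (X : Subgroup G)).Characteristic)
        (φ g hg)).le (show zX ∈ (commutator (X : Subgroup G)).comap (φ g hg).toMonoidHom from h)
      exact this)
    rcases hcases _ (hφU g hg zX hzU) with h | h | h | h
    · exact absurd (h ▸ one_mem _) hnD
    · exact absurd (h ▸ haD) hnD
    · exact Or.inl h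
    · exact Or.inr h
  have hφa : ∀ g hg, φ g hg a = a := by
    intro g hg
    rcases hcases _ (hφU g hg a haU) with h | h | h | h
    · exact absurd ((map_eq_one_iff _ (φ g hg).injective).mp h) ha1
    · exact h
    · exact absurd (h ▸ hφD g hg a haD) hzn
    · exact absurd (h ▸ hφD g hg a haD) hazD
  set g' := g⁻¹ with hg'def
  have hg' : g' ∈ normalizer ((X : Subgroup G) : Set G) := inv_mem hg
  rcases hφz g' hg' with h | h
  · have h3 := congrArg Subtype.val h
    rw [hφ, hg'def, inv_inv] at h3
    exact h3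
  exfalso
  -- an odd power is a `2`-element of `N(X)`
  obtain ⟨k, m, hm, hkm⟩ := Nat.exists_eq_pow_mul_and_not_dvd (orderOf_pos g').ne' 2 (by norm_num)
  have hpow : ∀ j : ℕ, φ (g' ^ j) (pow_mem hg' j) zX = if Even j then zX else a * zX := by
    intro j
    induction j with
    | zero => simp only [Even.zero, if_true]; exact Subtype.ext (by rw [hφ]; simp)
    | succ j hj =>
      have e : φ (g' ^ (j + 1)) (pow_mem hg' (j + 1)) zX = φ g' hg' (φ (g' ^ j) (pow_mem hg' j) zX) :=
        Subtype.ext (by rw [hφ, hφ, hφ, pow_succ']; group)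
      rw [e, hj]
      by_cases hev : Even j
      · rw [if_pos hev, h, if_neg (by simp [Nat.even_add_one, hev])]
      · rw [if_neg hev, map_mul, hφa, h, if_pos (by simp [Nat.even_add_one, hev]), ← mul_assoc,
          ← sq, ha2, one_mul]
  have h4 := hpow m
  rw [if_neg (by rw [even_iff_two_dvd]; exact hm)] at h4
  have hgm : g' ^ m ∈ (X : Subgroup G) := by
    have h2el : IsPGroup 2 (zpowers (g' ^ m)) := by
      refine IsPGroup.of_card (n := k) ?_
      rw [Nat.card_zpowers, orderOf_pow' _ (fun h : m = 0 => hm (by rw [h]; exact dvd_zero 2)), hkm,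
        Nat.gcd_eq_right (Dvd.intro_left _ rfl),
        Nat.mul_div_cancel _ (Nat.pos_of_ne_zero fun h : m = 0 => hm (by rw [h]; exact dvd_zero 2))]
    have hsup : IsPGroup 2 ↥((X : Subgroup G) ⊔ zpowers (g' ^ m)) :=
      X.isPGroup'.to_sup_of_normal_left' h2el (zpowers_le.mpr (pow_mem hg' m))
    exact (X.3 hsup le_sup_left).le (mem_sup_right (mem_zpowers _))
  have h5 : φ (g' ^ m) (pow_mem hg' m) zX = zX := Subtype.ext (by
    have e := congrArg Subtype.val (hzc ⟨g' ^ m, hgm⟩)
    rw [hφ]
    push_cast at e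
    rw [e, mul_inv_cancel_right])
  rw [h5] at h4
  exact ha1 (mul_eq_right.mp h4.symm)

end Cfsg.Agent.S1906
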