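import Cfsg.Statements.S4025
import Cfsg.Agent.H75.SemiaffineEmbed

set_option autoImplicit false
open Cfsg

namespace Cfsg.Agent.S4025

universe v

open scoped Pointwise

/-- A Sylow subgroup that is abelian controls the fusion of its subgroups. -/
theorem fusion {G : Type*} [Group G] [Finite G] {p : ℕ} [Fact p.Prime] (P : Sylow p G)
    [IsMulCommutative P] (A : Subgroup G) (g : G) (hA : A ≤ P)
    (hB : A.map (MulAut.conj g).toMonoidHom ≤ P) :
    ∃ m ∈ Subgroup.normalizer ((P : Subgroup G) : Set G),
      A.map (MulAut.conj m).toMonoidHom = A.map (MulAut.conj g).toMonoidHom := by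
  set B := A.map (MulAut.conj g).toMonoidHom
  have h1 : (P : Subgroup G) ≤ Subgroup.centralizer (B : Set G) := fun x hx =>
    Subgroup.mem_centralizer_iff.mpr fun b hb => congrArg Subtype.val (mul_comm' (⟨b, hB hb⟩ : P) ⟨x, hx⟩)
  have h2 : ((g • P : Sylow p G) : Subgroup G) ≤ Subgroup.centralizer (B : Set G) := by
    rintro _ ⟨z, hz, rfl⟩
    refine Subgroup.mem_centralizer_iff.mpr ?_
    rintro _ ⟨a, ha, rfl⟩
    show MulAut.conj g a * MulAut.conj g z = MulAut.conj g z * MulAut.conj g a
    rw [← map_mul, ← map_mul]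
    exact congrArg (MulAut.conj g) (congrArg Subtype.val (mul_comm' (⟨a, hA ha⟩ : P) ⟨z, hz⟩))
  obtain ⟨h, hh⟩ := MulAction.exists_smul_eq (Subgroup.centralizer (B : Set G)) ((g • P).subtype h2) (P.subtype h1)
  simp_rw [Sylow.smul_subtype, Subgroup.smul_def, smul_smul] at hh
  refine ⟨h * g, Sylow.smul_eq_iff_mem_normalizer.mp (Sylow.subtype_injective hh), ?_⟩
  have hfix : ∀ b ∈ B, MulAut.conj (h : G) b = b := fun b hb => by
    rw [MulAut.conj_apply, ← (Subgroup.mem_centralizer_iff.mp h.2) b hb, mul_inv_cancel_right]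
  ext x
  constructor
  · rintro ⟨a, ha, rfl⟩
    exact ⟨a, ha, by
      show MulAut.conj g a = MulAut.conj ((h : G) * g) a
      rw [map_mul, MulAut.mul_apply]
      exact (hfix _ ⟨a, ha, rfl⟩).symm⟩
  · rintro ⟨a, ha, rfl⟩
    exact ⟨a, ha, by
      show MulAut.conj ((h : G) * g) a = MulAut.conj g a
      rw [map_mul, MulAut.mul_apply]
      exact hfix _ ⟨a, ha, rfl⟩⟩

/-- The structure of the normalizer modulo its core, on the quotient. -/
theorem core {Q : Type v} [Group Q] [Finite Q] [Group.IsSolvable Q] {p n : ℕ} [Fact p.Prime]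
    {P : Type v} [CommGroup P] [Finite P] (hn : 3 ≤ n) (hexp : ∀ x : P, x ^ p = 1)
    (hP : Nat.card P = p ^ n) (ι : P →* Q) (hι : Function.Injective ι) [ι.range.Normal]
    (hco : (Nat.card P).Coprime ι.range.index)
    (hfaith : ∀ D : Subgroup Q, D.Normal → (Nat.card D).Coprime p → D = ⊥)
    (htr : ∀ A B : Subgroup P, Nat.card A = Nat.card B →
      ∃ q : Q, (A.map ι).map (MulAut.conj q).toMonoidHom = B.map ι) :
    (n = 3 ∧ (∃ f : Q →* ↥(Cfsg.semiaffineGroup (GaloisField p 3)), Function.Injective f) ∧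
      (p = 2 → Nonempty (Q ≃* Cfsg.semiaffineGroup (GaloisField 2 3)) ∨
               Nonempty (Q ≃* Cfsg.affineGroup (GaloisField 2 3)))) ∨
    (n = 5 ∧ p = 2 ∧ Nonempty (Q ≃* Cfsg.semiaffineGroup (GaloisField 2 5))) := by
  classical
  have hp : p.Prime := Fact.out
  have hn0 : n ≠ 0 := by omega
  have hVcard : Nat.card ι.range = p ^ n := by rw [← Nat.card_congr (MonoidHom.ofInjective hι).toEquiv, hP]
  obtain ⟨K, hK⟩ := Subgroup.exists_right_complement'_of_coprime
    (N := ι.range) (by rw [hVcard, ← hP]; exact hco)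
  let ψ : P ≃* ι.range := MonoidHom.ofInjective hι
  let act : K →* MulAut P :=
    (MulAut.congr ψ.symm).toMonoidHom.comp ((MulAut.conjNormal (H := ι.range)).comp K.subtype)
  have hact : ∀ (k : K) (x : P), (k : Q) * ι x * (k : Q)⁻¹ = ι (act k x) := fun k x => by
    have h : ι (act k x) = ((ψ (act k x) : ι.range) : Q) := rfl
    rw [h]
    show _ = ((ψ (ψ.symm (MulAut.conjNormal (k : Q) (ψ x))) : ι.range) : Q)
    rw [MulEquiv.apply_symm_apply, MulAut.conjNormal_apply]
    rfl
  have hsplit : ∀ q : Q, ∃ (x : P) (k : K), ι x * (k : Q) = q := fun q => by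
    obtain ⟨⟨⟨_, x, rfl⟩, k⟩, hq⟩ := hK.2 q
    exact ⟨x, k, hq⟩
  have hinj : Function.Injective act := by
    refine (injective_iff_map_eq_one act).mpr fun k hk => ?_
    have hD : (act.ker.map K.subtype).Normal := ⟨by
      rintro _ ⟨d, hd, rfl⟩ q
      obtain ⟨x, j, rfl⟩ := hsplit q
      refine ⟨j * d * j⁻¹, act.normal_ker.conj_mem d hd j, ?_⟩
      have hcomm : Commute ((j * d * j⁻¹ : K) : Q) (ι x) := by
        have h := hact (j * d * j⁻¹) x
        rw [MonoidHom.mem_ker.mp (act.normal_ker.conj_mem d hd j), MulAut.one_apply] at h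
        exact mul_inv_eq_iff_eq_mul.mp h
      show ((j * d * j⁻¹ : K) : Q) = ι x * (j : Q) * (d : Q) * (ι x * (j : Q))⁻¹
      calc ((j * d * j⁻¹ : K) : Q) = ι x * ((j * d * j⁻¹ : K) : Q) * (ι x)⁻¹ := by
            rw [← hcomm.eq, mul_inv_cancel_right]
        _ = _ := by push_cast; group⟩
    have hbot := hfaith _ hD (by
      rw [Subgroup.card_map_of_injective K.subtype_injective]
      refine Nat.Coprime.coprime_dvd_left (Subgroup.card_subgroup_dvd_card _) ?_
      rw [hK.symm.index_eq_card, hP, Nat.coprime_pow_left_iff (by omega)] at hco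
      exact hco.symm)
    exact Subtype.ext (Subgroup.mem_bot.mp (hbot ▸ Subgroup.mem_map_of_mem K.subtype (MonoidHom.mem_ker.mpr hk)))
  have htrK : ∀ A B : Subgroup P, Nat.card A = Nat.card B → ∃ k : K, A.map (act k).toMonoidHom = B := by
    intro A B hAB
    obtain ⟨q, hq⟩ := htr A B hAB
    obtain ⟨x, k, rfl⟩ := hsplit q
    refine ⟨k, Subgroup.map_injective hι ?_⟩
    rw [← hq, Subgroup.map_map, Subgroup.map_map]
    congr 1
    refine MonoidHom.ext fun a => ?_
    show ι (act k a) = ι x * (k : Q) * ι a * (ι x * (k : Q))⁻¹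
    rw [mul_inv_rev, show ι x * (k : Q) * ι a * ((k : Q)⁻¹ * (ι x)⁻¹) = ι x * ((k : Q) * ι a * (k : Q)⁻¹) * (ι x)⁻¹
      by group, hact, ← map_inv, ← map_mul, ← map_mul, mul_right_comm, mul_inv_cancel, one_mul]
  obtain ⟨F, instF, instFF, e, hF, hsemi, hn35, hp2⟩ :=
    H75.PlaneTransitive.main hn hexp hP act hinj htrK
  have hQ : Nat.card Q = p ^ n * Nat.card K := by rw [← hK.card_mul_card, hVcard]
  haveI := Fintype.ofFinite (GaloisField p n)
  let r : F ≃+* GaloisField p n := FiniteField.ringEquivOfCardEq (by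
    rw [← Nat.card_eq_fintype_card, ← Nat.card_eq_fintype_card, hF, GaloisField.card p n hn0])
  obtain ⟨f, hf⟩ := H75.SemiaffineEmbed.exists_semiaffine ι K act hι hK hinj hact _
    (H75.SemiaffineEmbed.semilin_trans r hsemi)
  have hbound := H75.SemiaffineEmbed.card_semiaffine_le (F := GaloisField p n) (GaloisField.card p n hn0)
  rcases hn35 with rfl | ⟨rfl, rfl⟩
  · refine Or.inl ⟨rfl, ⟨f, hf⟩, ?_⟩
    rintro rfl
    rcases (hp2 rfl).2 rfl with h21 | hlin
    · refine Or.inl ⟨MulEquiv.ofBijective f ⟨hf, ?_⟩⟩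
      refine ((Nat.bijective_iff_injective_and_card f).mpr ⟨hf, le_antisymm
        (Nat.card_le_card_of_injective f hf) ?_⟩).2
      rw [hQ, h21]
      exact hbound.trans (by norm_num)
    · obtain ⟨f', hf'⟩ := H75.SemiaffineEmbed.exists_affine ι K act hι hK hinj hact _
        (H75.SemiaffineEmbed.lin_trans r hlin)
      refine Or.inr ⟨MulEquiv.ofBijective f' ((Nat.bijective_iff_injective_and_card f').mpr
        ⟨hf', le_antisymm (Nat.card_le_card_of_injective f' hf') ?_⟩)⟩
      -- the complement moves a point to the seven others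
      have h7 : 7 ≤ Nat.card K := by
        obtain ⟨v, hv⟩ : ∃ v : P, v ≠ 1 := by
          haveI : Nontrivial P := Finite.one_lt_card_iff_nontrivial.mp (by rw [hP]; norm_num)
          exact exists_ne 1
        cases nonempty_fintype P
        have hsurj : Function.Surjective (fun k : K =>
            (⟨act k v, fun h => hv ((map_eq_one_iff _ (act k).injective).mp h)⟩ : {w : P // w ≠ 1})) := by
          rintro ⟨w, hw⟩
          obtain ⟨k, hk⟩ := htrK (Subgroup.zpowers v) (Subgroup.zpowers w) (by
            rw [Nat.card_zpowers, Nat.card_zpowers, orderOf_eq_prime (hexp v) hv, orderOf_eq_prime (hexp w) hw])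
          have h2 : act k v ∈ Subgroup.zpowers w := hk ▸ Subgroup.mem_map_of_mem _ (Subgroup.mem_zpowers v)
          obtain ⟨i, hi⟩ := Subgroup.mem_zpowers_iff.mp h2
          refine ⟨k, Subtype.ext ?_⟩
          rcases Int.even_or_odd i with ⟨j, rfl⟩ | ⟨j, rfl⟩
          · exfalso
            rw [zpow_add, ← mul_zpow, ← pow_two, hexp, one_zpow, eq_comm, map_eq_one_iff _ (act k).injective] at hi
            exact hv hi
          · rw [zpow_add_one, zpow_mul, zpow_two, ← pow_two, hexp, one_zpow, one_mul] at hi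
            exact hi.symm
        have h := Nat.card_le_card_of_surjective _ hsurj
        rwa [Nat.card_eq_fintype_card (α := {w : P // w ≠ 1}), Fintype.card_subtype_compl,
          Fintype.card_subtype_eq, ← Nat.card_eq_fintype_card, hP] at h
      have haff := H75.SemiaffineEmbed.card_affine_le (F := GaloisField 2 3) (GaloisField.card 2 3 hn0)
      rw [hQ]
      norm_num at haff ⊢
      omega
  · refine Or.inr ⟨rfl, rfl, ⟨MulEquiv.ofBijective f ((Nat.bijective_iff_injective_and_card f).mpr
      ⟨hf, le_antisymm (Nat.card_le_card_of_injective f hf) ?_⟩)⟩⟩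
    rw [hQ, (hp2 rfl).1 rfl]
    exact hbound.trans (by norm_num)

/-- Let p be a prime and G a finite group in which any two p-subgroups of the same order are conjugate, and suppose a Sylow p-subgroup P of G is elementary abelian of order pⁿ with n ≥ 3. Let N be the normalizer of P and K the largest normal subgroup of N of order prime to p, and assume N/K is solvable. Then either n = 3 and N/K embeds in the one-dimensional semi-affine group over the field with p³ elements (and for p = 2 it is isomorphic to the affine or the semi-affine group over the field with 8 elements), or n = 5, p = 2 and N/K is isomorphic to the one-dimensional semi-affine group over the field with 32 elements. -/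
theorem result {G : Type*} [Group G] [Finite G]
    {p : ℕ} [Fact p.Prime] (hC : ∀ H K : Subgroup G, IsPGroup p H → IsPGroup p K → Nat.card H = Nat.card K →
      ∃ g : G, K = H.map (MulAut.conj g).toMonoidHom) (P : Sylow p G) (n : ℕ) (hn : 3 ≤ n)
    (hel : Cfsg.IsElementaryAbelian p (P : Subgroup G)) (hcard : Nat.card P = p ^ n)
    (N : Subgroup G) (hN : N = Subgroup.normalizer ((P : Subgroup G) : Set G))
    (hsolv : Group.IsSolvable (↥N ⧸ Cfsg.pPrimeCore p ↥N)) :
    (n = 3 ∧ (∃ f : ↥N ⧸ Cfsg.pPrimeCore p ↥N →* ↥(Cfsg.semiaffineGroup (GaloisField p 3)), Function.Injective f) ∧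
      (p = 2 → Nonempty (↥N ⧸ Cfsg.pPrimeCore p ↥N ≃* Cfsg.semiaffineGroup (GaloisField 2 3)) ∨
               Nonempty (↥N ⧸ Cfsg.pPrimeCore p ↥N ≃* Cfsg.affineGroup (GaloisField 2 3)))) ∨
    (n = 5 ∧ p = 2 ∧ Nonempty (↥N ⧸ Cfsg.pPrimeCore p ↥N ≃* Cfsg.semiaffineGroup (GaloisField 2 5))) := by
  haveI := hel.1
  subst hN
  haveI := hsolv
  set N := Subgroup.normalizer ((P : Subgroup G) : Set G)
  set K := Cfsg.pPrimeCore p ↥N
  letI : CommGroup (P : Subgroup G) :=
    { (inferInstance : Group (P : Subgroup G)) with mul_comm := fun a b => mul_comm' a b }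
  let inc : (P : Subgroup G) →* N := Subgroup.inclusion Subgroup.le_normalizer
  let ι : (P : Subgroup G) →* ↥N ⧸ K := (QuotientGroup.mk' K).comp inc
  have hincinj : Function.Injective inc := Subgroup.inclusion_injective _
  have hincrange : inc.range = (P : Subgroup G).subgroupOf N := by
    ext x
    exact ⟨fun ⟨y, hy⟩ => hy ▸ y.2, fun hx => ⟨⟨x, hx⟩, Subtype.ext rfl⟩⟩
  haveI : inc.range.Normal := by rw [hincrange]; exact Subgroup.normal_in_normalizer
  have hι : Function.Injective ι := by
    refine (injective_iff_map_eq_one ι).mpr fun x hx => ?_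
    have hxK : inc x ∈ K := (QuotientGroup.eq_one_iff _).mp hx
    have h1 : orderOf (inc x) ∣ Nat.card K := Subgroup.orderOf_dvd_natCard K hxK
    have h2 : orderOf (inc x) ∣ p :=
      orderOf_dvd_of_pow_eq_one (by rw [← map_pow, show x ^ p = 1 from Subtype.ext (hel.2 x x.2), map_one])
    exact hincinj ((orderOf_eq_one_iff.mp (Nat.eq_one_of_dvd_coprimes (Cores.coprime_card_pPrimeCore (p := p)) h1 h2)).trans
      (map_one inc).symm)
  have hrange : ι.range = inc.range.map (QuotientGroup.mk' K) := MonoidHom.range_comp _ _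
  haveI : ι.range.Normal := by
    rw [hrange]
    exact Subgroup.Normal.map inferInstance _ (QuotientGroup.mk'_surjective K)
  refine core hn (fun x => Subtype.ext (hel.2 x x.2)) hcard ι hι ?_ ?_ ?_
  · rw [hcard, Nat.coprime_pow_left_iff (by omega), Nat.Prime.coprime_iff_not_dvd Fact.out]
    intro hd
    have h1 : p ∣ inc.range.index := hd.trans (hrange ▸ Subgroup.index_map_dvd _ (QuotientGroup.mk'_surjective K))
    rw [hincrange] at h1
    exact P.not_dvd_index (h1.trans (Subgroup.relIndex_dvd_index_of_le Subgroup.le_normalizer))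
  · intro D hD hcop
    have hle : D.comap (QuotientGroup.mk' K) ≤ K := by
      refine Cores.le_pPrimeCore ?_
      have hdvd : Nat.card (D.comap (QuotientGroup.mk' K)) ∣ Nat.card K * Nat.card D := by
        let φ := ((QuotientGroup.mk' K).comp (D.comap (QuotientGroup.mk' K)).subtype).codRestrict D fun x => x.2
        rw [← φ.ker.card_mul_index, Subgroup.index_ker]
        refine mul_dvd_mul ?_ (Subgroup.card_subgroup_dvd_card _)
        let κ : φ.ker →* K := ((D.comap (QuotientGroup.mk' K)).subtype.comp φ.ker.subtype).codRestrict K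
          fun x => (QuotientGroup.eq_one_iff _).mp (congrArg Subtype.val x.2)
        exact Subgroup.card_dvd_of_injective κ fun x y hxy => by
          exact Subtype.ext (Subtype.ext (congrArg (fun k : K => (k : N)) hxy))
      exact Nat.Coprime.coprime_dvd_left hdvd (Nat.Coprime.mul_left Cores.coprime_card_pPrimeCore hcop)
    rw [← Subgroup.map_comap_eq_self_of_surjective (QuotientGroup.mk'_surjective K) D, eq_bot_iff]
    rintro _ ⟨x, hx, rfl⟩
    exact Subgroup.mem_bot.mpr ((QuotientGroup.eq_one_iff x).mpr (hle hx))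
  · intro A B hAB
    obtain ⟨g, hg⟩ := hC (A.map (P : Subgroup G).subtype) (B.map (P : Subgroup G).subtype)
      ((P.2.to_le (Subgroup.map_subtype_le A))) (P.2.to_le (Subgroup.map_subtype_le B))
      (by rw [Subgroup.card_map_of_injective (Subgroup.subtype_injective _),
        Subgroup.card_map_of_injective (Subgroup.subtype_injective _), hAB])
    obtain ⟨m, hm, hmeq⟩ := fusion P _ g (Subgroup.map_subtype_le A) (hg ▸ Subgroup.map_subtype_le B)
    refine ⟨QuotientGroup.mk' K ⟨m, hm⟩, ?_⟩
    show (A.map ((QuotientGroup.mk' K).comp inc)).map _ = B.map ((QuotientGroup.mk' K).comp inc)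
    rw [← Subgroup.map_map A, ← Subgroup.map_map B, Subgroup.map_map (A.map inc)]
    have hN' : (A.map inc).map (MulAut.conj (⟨m, hm⟩ : N)).toMonoidHom = B.map inc := by
      refine Subgroup.map_injective N.subtype_injective ?_
      rw [Subgroup.map_map, Subgroup.map_map, Subgroup.map_map, show N.subtype.comp inc = (P : Subgroup G).subtype from rfl,
        hg, ← hmeq, Subgroup.map_map]
      rfl
    rw [← hN', Subgroup.map_map (A.map inc)]
    rfl

end Cfsg.Agent.S4025
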