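import Cfsg.Statements.S4023
import Cfsg.Agent.H59.ConjPSubgroups

set_option autoImplicit false
open Cfsg

namespace Cfsg.Agent.S4023

open Subgroup

/-- Let p be a prime and G a finite group in which any two p-subgroups of the same order are conjugate, with Sylow p-subgroup P. Then P is cyclic, or elementary abelian, or p = 2 and P is a quaternion group of order 8, or p is odd and P is non-abelian of order p³ and exponent p. -/
theorem result {G : Type*} [Group G] [Finite G]
    {p : ℕ} [Fact p.Prime] (hC : ∀ H K : Subgroup G, IsPGroup p H → IsPGroup p K → Nat.card H = Nat.card K →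
      ∃ g : G, K = H.map (MulAut.conj g).toMonoidHom) (P : Sylow p G) :
    IsCyclic P ∨ Cfsg.IsElementaryAbelian p (P : Subgroup G) ∨
      (p = 2 ∧ Nonempty ((P : Subgroup G) ≃* QuaternionGroup 2)) ∨
      (p ≠ 2 ∧ ¬ IsMulCommutative P ∧ Nat.card P = p ^ 3 ∧ Monoid.exponent P = p) := by
  have hI : ∀ H K : Subgroup (P : Subgroup G), Nat.card H = Nat.card K → Nonempty (↥H ≃* ↥K) := by
    intro H K h
    have hp' : ∀ L : Subgroup (P : Subgroup G), IsPGroup p (L.map (P : Subgroup G).subtype) :=
      fun L => (P.isPGroup'.to_subgroup L).map _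
    obtain ⟨g, hg⟩ := hC _ _ (hp' H) (hp' K)
      (by rw [Subgroup.card_map_of_injective (Subgroup.subtype_injective _),
        Subgroup.card_map_of_injective (Subgroup.subtype_injective _), h])
    exact ⟨((Subgroup.equivMapOfInjective H _ (Subgroup.subtype_injective _)).trans
      ((Subgroup.equivMapOfInjective _ _ (MulAut.conj g).injective).trans
        (MulEquiv.subgroupCongr hg.symm))).trans
      (Subgroup.equivMapOfInjective K _ (Subgroup.subtype_injective _)).symm⟩
  rcases Cfsg.Agent.H59.ConjPSubgroups.structure_aux P.isPGroup' hI with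
    h | ⟨h1, h2⟩ | h | h
  · exact Or.inl h
  · exact Or.inr (Or.inl ⟨h1, fun a ha => congrArg Subtype.val (h2 ⟨a, ha⟩)⟩)
  · exact Or.inr (Or.inr (Or.inl h))
  · exact Or.inr (Or.inr (Or.inr h))

end Cfsg.Agent.S4023
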