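import Cfsg.Statements.S4435
import Cfsg.Agent.H1.FongReynoldsG

set_option autoImplicit false
open Cfsg

namespace Cfsg.Agent.S4435

/-- Let N be a normal subgroup of the finite group G, b a block of N (relative to a maximal ideal M of the algebraic integers containing p), and T the stabilizer of b in G (the elements g such that conjugating any member of b by g gives a member of b); N ≤ T. Say that a block of T (or of G) covers b when some member has a constituent in b on restriction to N. Then: (i) every block B′ of T covering b induces a block B of G, B covers b, every ψ ∈ B′ induces to an irreducible character of G, and B consists exactly of the characters induced from members of B′; (ii) distinct blocks of T covering b induce distinct blocks of G; (iii) every block of G covering b is induced by some block of T covering b. -/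
theorem result {G : Type*} [Group G] [Fintype G] (p : ℕ) [Fact p.Prime] (M : Ideal Cfsg.AlgInt) (hM : Cfsg.IsPModular p M) (N : Subgroup G) [hN : N.Normal] [Fintype N] (b : Set (Cfsg.IrrCharacter N)) (hb : Cfsg.IsPBlock M b) (T : Subgroup G) [Fintype T] (hT : ∀ g : G, g ∈ T ↔ ∀ θ ∈ b, ∀ θ' : Cfsg.IrrCharacter N, (∀ n : N, (θ' : N → ℂ) n = (θ : N → ℂ) ⟨g * n * g⁻¹, hN.conj_mem n n.2 g⟩) → θ' ∈ b) (hNT : N ≤ T) : (∀ B' : Set (Cfsg.IrrCharacter T), Cfsg.IsPBlock M B' → (∃ ψ ∈ B', ∃ θ ∈ b, Cfsg.classInner (fun n : N => (ψ : T → ℂ) ⟨(n : G), hNT n.2⟩) (θ : N → ℂ) ≠ 0) → ∃ B : Set (Cfsg.IrrCharacter G), Cfsg.IsInducedBlock M T B' B ∧ (∃ χ ∈ B, ∃ θ ∈ b, Cfsg.classInner (fun n : N => (χ : G → ℂ) n) (θ : N → ℂ) ≠ 0) ∧ (∀ ψ ∈ B', Cfsg.IsIrrCharacter G (Cfsg.indFun T (ψ : T → ℂ))) ∧ ∀ χ : Cfsg.IrrCharacter G, χ ∈ B ↔ ∃ ψ ∈ B', (χ : G → ℂ) = Cfsg.indFun T (ψ : T → ℂ)) ∧ (∀ B'₁ B'₂ : Set (Cfsg.IrrCharacter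 T), Cfsg.IsPBlock M B'₁ → Cfsg.IsPBlock M B'₂ → (∃ ψ ∈ B'₁, ∃ θ ∈ b, Cfsg.classInner (fun n : N => (ψ : T → ℂ) ⟨(n : G), hNT n.2⟩) (θ : N → ℂ) ≠ 0) → (∃ ψ ∈ B'₂, ∃ θ ∈ b, Cfsg.classInner (fun n : N => (ψ : T → ℂ) ⟨(n : G), hNT n.2⟩) (θ : N → ℂ) ≠ 0) → ∀ B : Set (Cfsg.IrrCharacter G), Cfsg.IsInducedBlock M T B'₁ B → Cfsg.IsInducedBlock M T B'₂ B → B'₁ = B'₂) ∧ (∀ B : Set (Cfsg.IrrCharacter G), Cfsg.IsPBlock M B → (∃ χ ∈ B, ∃ θ ∈ b, Cfsg.classInner (fun n : N => (χ : G → ℂ) n) (θ : N → ℂ) ≠ 0) → ∃ B' : Set (Cfsg.IrrCharacter T), Cfsg.IsPBlock M B' ∧ (∃ ψ ∈ B', ∃ θ ∈ b, Cfsg.classInner (fun n : N => (ψ : T → ℂ) ⟨(n : G), hNT n.2⟩) (θ : N → ℂ) ≠ 0) ∧ Cfsg.IsInducedBlock M T B' B) := by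
  have hs := H1.isBlockStab_of N T b hM hb hT
  have self := fun (H : Cfsg.IrrCharacter G) => BlockBasic.self_mem_blockOf hM H
  -- the induced block of the block of a character over b
  have hind : ∀ (B' : Set (Cfsg.IrrCharacter T)), Cfsg.IsPBlock M B' → ∀ ψ0 ∈ B',
      ∀ hc0 : H1.Covers N hNT (b := b) (ψ0 : T → ℂ),
      Cfsg.IsInducedBlock M T B' (Cfsg.blockOf M (H1.indIrr hNT hc0 hs : G → ℂ)) := by
    intro B' hB' ψ0 h0 hc0
    refine ⟨hB', BlockBasic.isPBlock_blockOf M _, fun ξ hξ χ hχ g => ?_⟩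
    have hsame := BlockBasic.isPBlock_sameBlock hM hB' h0 hξ
    have hcξ := H1.covers_of_sameBlock hs hNT hM hb hc0 hsame
    rw [← H1.centralChar_indFun]
    exact BlockBasic.sameBlock_trans hM
      ((H1.sameBlock_iff_indFun hs hNT hM hb hcξ hc0).2 (BlockBasic.sameBlock_symm hsame)) hχ g
  refine ⟨?_, ?_, ?_⟩
  · rintro B' hB' ⟨ψ0, h0, hcov⟩
    have hc0 : H1.Covers N hNT (b := b) (ψ0 : T → ℂ) := hcov
    refine ⟨_, hind B' hB' ψ0 h0 hc0, ⟨_, self _, H1.coversG_indFun hs hNT hc0⟩, ?_, ?_⟩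
    · intro ψ hψ
      exact H1.isIrr_indFun hs hNT (H1.covers_of_sameBlock hs hNT hM hb hc0
        (BlockBasic.isPBlock_sameBlock hM hB' h0 hψ))
    · intro χ
      constructor
      · intro hχ
        obtain ⟨ψ, hc, he⟩ := H1.exists_of_coversG hs hNT (H1.coversG_of_sameBlock hs hNT hM hb
          (χ := H1.indIrr hNT hc0 hs) (H1.coversG_indFun hs hNT hc0) hχ)
        refine ⟨ψ, ?_, he⟩
        rw [BlockBasic.isPBlock_eq_blockOf hM hB' h0]
        exact (H1.sameBlock_iff_indFun hs hNT hM hb hc0 hc).1 (he ▸ hχ)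
      · rintro ⟨ψ, hψ, he⟩
        have hsame := BlockBasic.isPBlock_sameBlock hM hB' h0 hψ
        have hc := H1.covers_of_sameBlock hs hNT hM hb hc0 hsame
        show Cfsg.SameBlock M _ (χ : G → ℂ)
        rw [he]
        exact (H1.sameBlock_iff_indFun hs hNT hM hb hc0 hc).2 hsame
  · rintro B'₁ B'₂ h₁ h₂ ⟨ψ₁, m₁, c₁⟩ ⟨ψ₂, m₂, c₂⟩ B hB₁ hB₂
    have hc₁ : H1.Covers N hNT (b := b) (ψ₁ : T → ℂ) := c₁
    have hc₂ : H1.Covers N hNT (b := b) (ψ₂ : T → ℂ) := c₂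
    obtain ⟨χ, hχ⟩ := BlockBasic.isPBlock_nonempty hM hB₁.2.1
    have e₁ : Cfsg.SameBlock M (Cfsg.indFun T (ψ₁ : T → ℂ)) (χ : G → ℂ) := fun g => by
      rw [H1.centralChar_indFun]
      exact hB₁.2.2 ψ₁ m₁ χ hχ g
    have e₂ : Cfsg.SameBlock M (Cfsg.indFun T (ψ₂ : T → ℂ)) (χ : G → ℂ) := fun g => by
      rw [H1.centralChar_indFun]
      exact hB₂.2.2 ψ₂ m₂ χ hχ g
    rw [BlockBasic.isPBlock_eq_blockOf hM h₁ m₁, BlockBasic.isPBlock_eq_blockOf hM h₂ m₂]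
    exact BlockBasic.blockOf_eq_of_sameBlock hM ((H1.sameBlock_iff_indFun hs hNT hM hb hc₁ hc₂).1
      (BlockBasic.sameBlock_trans hM e₁ (BlockBasic.sameBlock_symm e₂)))
  · rintro B hB ⟨χ, hχ, hcov⟩
    obtain ⟨ψ, hc, he⟩ := H1.exists_of_coversG hs hNT (b := b) (χ := χ) hcov
    have hB' := BlockBasic.isPBlock_blockOf M ψ
    have hψ := BlockBasic.self_mem_blockOf hM ψ
    refine ⟨_, hB', ⟨ψ, hψ, hc⟩, ?_⟩
    have h := hind _ hB' ψ hψ hc
    rw [BlockBasic.isPBlock_eq_blockOf hM hB hχ]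
    have e : H1.indIrr hNT hc hs = χ := Subtype.ext he.symm
    rwa [e] at h

end Cfsg.Agent.S4435
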