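import Cfsg.Statements.S4436
import Cfsg.Agent.H1.FongReynoldsG
import Cfsg.Agent.S4435
import Cfsg.Agent.H35.Consequences
import Cfsg.Agent.BlockBasic.Brauer
open Cfsg.Agent.BlockBasic Cfsg.Agent.CharBasic MonoidAlgebra

set_option autoImplicit false
open Cfsg

namespace Cfsg.Agent.S4436

/-- Let N be a normal subgroup of the finite group G, b a block of N (relative to a maximal ideal M of the algebraic integers containing p), T the stabilizer of b in G, N ≤ T, and B′ a block of T covering b (some member of B′ has a constituent in b on restriction to N) that induces the block B of G. Then every defect group of B′ is a defect group of B, and for every ψ ∈ B′ the induced character ψ^G is an irreducible character of G lying in B with the same height as ψ. -/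
theorem result {G : Type*} [Group G] [Fintype G] (p : ℕ) [Fact p.Prime] (M : Ideal Cfsg.AlgInt) (hM : Cfsg.IsPModular p M) (N : Subgroup G) [hN : N.Normal] [Fintype N] (b : Set (Cfsg.IrrCharacter N)) (hb : Cfsg.IsPBlock M b) (T : Subgroup G) [Fintype T] (hT : ∀ g : G, g ∈ T ↔ ∀ θ ∈ b, ∀ θ' : Cfsg.IrrCharacter N, (∀ n : N, (θ' : N → ℂ) n = (θ : N → ℂ) ⟨g * n * g⁻¹, hN.conj_mem n n.2 g⟩) → θ' ∈ b) (hNT : N ≤ T) (B' : Set (Cfsg.IrrCharacter T)) (hB' : Cfsg.IsPBlock M B') (hcov : (∃ ψ ∈ B', ∃ θ ∈ b, Cfsg.classInner (fun n : N => (ψ : T → ℂ) ⟨(n : G), hNT n.2⟩) (θ : N → ℂ) ≠ 0)) (B : Set (Cfsg.IrrCharacter G)) (hind : Cfsg.IsInducedBlock M T B' B) : (∀ D : Subgroup T, Cfsg.IsDefectGroup p M B' D → Cfsg.IsDefectGroup p M B (D.map T.subtype)) ∧ ∀ ψ ∈ B', ∃ χ ∈ B, (χ : G → ℂ) = Cfsg.indFun T (ψ : T → ℂ) ∧ Cfsg.blockHeight p B (χ : G → ℂ) = Cfsg.blockHeight p B' (ψ : T → ℂ) := by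
  classical
  obtain ⟨B₁, hind₁, -, hirr, hmem⟩ := (S4435.result p M hM N b hb T hT hNT).1 B' hB' hcov
  obtain rfl : B₁ = B := isInducedBlock_unique hM hind₁ hind
  have hB := hind.2.1
  have hp : p.Prime := Fact.out
  set v := T.index.factorization p
  have hdeg : ∀ ψ ∈ B', ∀ χ : IrrCharacter G, (χ : G → ℂ) = indFun T (ψ : T → ℂ) →
      (charDegree (χ : G → ℂ)).factorization p = v + (charDegree (ψ : T → ℂ)).factorization p := by
    intro ψ hψ χ hχ
    have h : charDegree (χ : G → ℂ) = T.index * charDegree (ψ : T → ℂ) := by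
      apply Nat.cast_injective (R := ℂ)
      rw [← apply_one_eq_charDegree χ, Nat.cast_mul, ← apply_one_eq_charDegree ψ, hχ,
        CharInduce.indFun_one]
    rw [h, Nat.factorization_mul Subgroup.index_ne_zero_of_finite (charDegree_pos ψ).ne',
      Finsupp.add_apply]
  set S' := (fun ψ : IrrCharacter T => (charDegree (ψ : T → ℂ)).factorization p) '' B'
  set S := (fun χ : IrrCharacter G => (charDegree (χ : G → ℂ)).factorization p) '' B₁
  obtain ⟨ψ₀, hψ₀⟩ := isPBlock_nonempty hM hB'
  have hS' : S'.Nonempty := ⟨_, ψ₀, hψ₀, rfl⟩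
  have hinf : sInf S = v + sInf S' := by
    obtain ⟨ψ, hψ, he⟩ := Nat.sInf_mem hS'
    have hin : v + sInf S' ∈ S := by
      let χ : IrrCharacter G := ⟨_, hirr ψ hψ⟩
      exact ⟨χ, (hmem χ).2 ⟨ψ, hψ, rfl⟩, (hdeg ψ hψ χ rfl).trans (by rw [← he])⟩
    refine le_antisymm (Nat.sInf_le hin) (le_csInf ⟨_, hin⟩ ?_)
    rintro _ ⟨χ, hχ, rfl⟩
    obtain ⟨φ, hφ, hφe⟩ := (hmem χ).1 hχ
    refine le_of_le_of_eq ?_ (hdeg φ hφ χ hφe).symm
    exact Nat.add_le_add_left (Nat.sInf_le (s := S') ⟨φ, hφ, rfl⟩) v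
  refine ⟨?_, fun ψ hψ => ?_⟩
  · intro D hD
    have hDc := H35.card_defectGroup hM hB' hD
    have hdef : blockDefect p B' = blockDefect p B₁ := by
      have h1 : (Nat.card G).factorization p = v + (Nat.card T).factorization p := by
        rw [← T.index_mul_card, Nat.factorization_mul Subgroup.index_ne_zero_of_finite
          Nat.card_pos.ne', Finsupp.add_apply]
      show (Nat.card T).factorization p - sInf S' = (Nat.card G).factorization p - sInf S
      omega
    obtain ⟨h, hh, P, rfl⟩ := hD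
    obtain ⟨g, hg⟩ := exists_isDefectClass (p := p) hM hB
    obtain ⟨χ, hχ⟩ := isPBlock_nonempty hM hB
    haveI : Finite (ConjClasses T) := Finite.of_surjective _ ConjClasses.mk_surjective
    haveI : Fintype (ConjClasses T) := Fintype.ofFinite _
    -- an element of the stabilizer conjugate to `g` with unit central character
    obtain ⟨t, hgt, htu⟩ : ∃ t : T, IsConj g (t : G) ∧
        ¬ MemLocalIdeal M (centralChar (ψ₀ : T → ℂ) t) := by
      by_contra hc
      push Not at hc
      apply hg.2.2 χ hχ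
      have hcong := hind.2.2 ψ₀ hψ₀ χ hχ g
      suffices MemLocalIdeal M (inducedCentralChar T (ψ₀ : T → ℂ) g) by
        simpa using memLocalIdeal_sub hM this hcong
      have hz : IsCentralElt (resMap T (classSum g)) := isCentralElt_resMap (isCentralElt_classSum g)
      rw [← omega_resMap_classSum, omega_eq_sum_classes (IsIrr.isClassFunction ψ₀.2) hz]
      refine memLocalIdeal_sum hM _ _ fun C _ => ?_
      rw [coeff_resMap, classSum, coeff_ofFun]
      split_ifs with hC
      · rw [one_mul]; exact hc _ hC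
      · rw [zero_mul]; exact memLocalIdeal_zero hM
    obtain ⟨x, htx, hx⟩ := H35.exists_conj_mem_centralizer hM hB' hψ₀ htu hh.2.1 (H35.sylImage P)
      (H35.sylImage_isPGroup P) (H35.sylImage_le P)
    set D' := (H35.sylImage P).map T.subtype
    have hgx : IsConj g (x : G) := hgt.trans (T.subtype.map_isConj htx)
    have hxD : (x : G) ∈ Subgroup.centralizer (D' : Set G) := by
      rintro _ ⟨q, hq, rfl⟩
      exact congrArg Subtype.val (hx q hq)
    obtain ⟨c, hc⟩ := H35.exists_le_conj hgx D' ((H35.sylImage_isPGroup P).map _) hxD default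
    have hE := H35.isDefectGroup_conj (p := p) (M := M) (B := B₁) ⟨g, hg, default, rfl⟩ c
    have : D' = _ := Subgroup.eq_of_le_of_card_ge hc (le_of_eq (by
      refine (H35.card_defectGroup hM hB hE).trans ?_
      rw [Subgroup.card_map_of_injective T.subtype_injective]
      rw [← hdef]
      exact hDc.symm))
    show IsDefectGroup p M B₁ D'
    rw [this]
    exact hE
  · refine ⟨⟨_, hirr ψ hψ⟩, (hmem _).2 ⟨ψ, hψ, rfl⟩, rfl, ?_⟩
    show (charDegree _).factorization p - sInf S = (charDegree _).factorization p - sInf S'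
    rw [hdeg ψ hψ ⟨_, hirr ψ hψ⟩ rfl, hinf]
    omega

end Cfsg.Agent.S4436
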