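import Cfsg.Statements.S0440
import Cfsg.Agent.H95.Symp
import Cfsg.Agent.Symplectic.Std

set_option autoImplicit false
open Cfsg

namespace Cfsg.Agent.S0440

open Matrix Module Cfsg.Agent.H95

/-- In the symplectic group in dimension 2n ≥ 2 over the field with two elements, the elements g for which g - 1 has rank one (the symplectic transvections) form a conjugacy class of 3-transpositions generating the group. -/
theorem result (n : ℕ) (hn : 1 ≤ n) : Cfsg.IsThreeTranspositionClass {g : Matrix.symplecticGroup (Fin n) (ZMod 2) | ((g : Matrix (Fin n ⊕ Fin n) (Fin n ⊕ Fin n) (ZMod 2)) - 1).rank = 1} := by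
  classical
  set f := Cfsg.sympForm n (ZMod 2) with hfdef
  have hf : Cfsg.Geo.IsSymplecticForm f := isSymplecticForm_sympForm n
  set G := Matrix.symplecticGroup (Fin n) (ZMod 2) with hG
  let ψ : G →* GL (Fin n ⊕ Fin n) (ZMod 2) := (Units.map G.subtype).comp toUnits.toMonoidHom
  have hψv : ∀ g : G, (ψ g : Matrix (Fin n ⊕ Fin n) (Fin n ⊕ Fin n) (ZMod 2)) = g.1 := fun g => rfl
  have hψi : Function.Injective ψ := fun a b h => Subtype.ext (congrArg Units.val h)
  have hψmem : ∀ g, ψ g ∈ isoGrp f := fun g => (Cfsg.Agent.Symplectic.mem_symplectic_iff_form g.1).1 g.2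
  have hψs : ∀ x ∈ isoGrp f, ∃ g, ψ g = x := fun x hx =>
    ⟨⟨x.1, (Cfsg.Agent.Symplectic.mem_symplectic_iff_form _).2 hx⟩, Units.ext rfl⟩
  set D : Set G := {g | ((g : Matrix (Fin n ⊕ Fin n) (Fin n ⊕ Fin n) (ZMod 2)) - 1).rank = 1} with hD
  have h01 : ∀ c : ZMod 2, c = 0 ∨ c = 1 := by decide
  have hchar : ∀ g : G, g ∈ D ↔ ∃ v : Fin n ⊕ Fin n → ZMod 2, v ≠ 0 ∧ ψ g = rt hf v 1 := by
    intro g
    constructor
    · intro hg
      set N : Matrix (Fin n ⊕ Fin n) (Fin n ⊕ Fin n) (ZMod 2) := g.1 - 1 with hN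
      change N.rank = 1 at hg
      obtain ⟨⟨w, hw⟩, hw0, hsp⟩ := finrank_eq_one_iff'.1
        (show finrank (ZMod 2) (LinearMap.range N.mulVecLin) = 1 from hg)
      have hw0' : w ≠ 0 := fun h => hw0 (Subtype.ext h)
      choose φ hφ using fun x => hsp ⟨N *ᵥ x, x, rfl⟩
      have hgx : ∀ x, g.1 *ᵥ x = x + φ x • w := fun x => by
        have h := congrArg Subtype.val (hφ x)
        simp only [Submodule.coe_smul] at h
        rw [h, hN, sub_mulVec, one_mulVec]
        abel
      obtain ⟨y, hy⟩ := exists_f_eq_one hf hw0'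
      have hiso : ∀ x, φ x = φ y * f x w := by
        intro x
        have h := (Cfsg.Agent.Symplectic.mem_symplectic_iff_form g.1).1 g.2 x y
        rw [hgx, hgx, ← hfdef] at h
        simp only [f_add_left hf, f_add_right hf, f_smul_left hf, f_smul_right hf, f_self hf, hy, mul_zero,
          add_zero, mul_one] at h
        have h2 : (2 : ZMod 2) = 0 := rfl
        linear_combination h - φ y * f x w * h2
      have hy1 : φ y = 1 := by
        rcases h01 (φ y) with h | h
        · exfalso
          have hN0 : N = 0 := by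
            refine Matrix.toLin'.injective (LinearMap.ext fun x => ?_)
            have h' := congrArg Subtype.val (hφ x)
            simp only [Submodule.coe_smul, hiso x, h, zero_mul, zero_smul] at h'
            simp [← h']
          rw [hN0, Matrix.rank_zero] at hg
          exact zero_ne_one hg
        · exact h
      refine ⟨w, hw0', gl_ext fun x => ?_⟩
      rw [hψv, hgx, rt_mulVec hf, hiso, hy1, one_mul]
    · rintro ⟨v, hv, hg⟩
      change (g.1 - 1).rank = 1
      have hN : ∀ x, (g.1 - 1) *ᵥ x = f x v • v := fun x => by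
        rw [sub_mulVec, one_mulVec, ← hψv g, hg, rt_mulVec hf, one_mul]
        abel
      have : LinearMap.range (g.1 - 1).mulVecLin = Submodule.span (ZMod 2) {v} := by
        refine le_antisymm ?_ ?_
        · rintro _ ⟨x, rfl⟩
          rw [Matrix.mulVecLin_apply, hN]
          exact Submodule.smul_mem _ _ (Submodule.mem_span_singleton_self v)
        · rw [Submodule.span_singleton_le_iff_mem]
          obtain ⟨y, hy⟩ := exists_f_eq_one hf hv
          refine ⟨y, ?_⟩
          rw [Matrix.mulVecLin_apply, hN, f_skew hf y v, hy, show (-1 : ZMod 2) = 1 from rfl, one_smul]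
      rw [Matrix.rank, this, finrank_span_singleton hv]
  have hmk : ∀ v : Fin n ⊕ Fin n → ZMod 2, v ≠ 0 → ∃ g ∈ D, ψ g = rt hf v 1 := fun v hv => by
    obtain ⟨g, hg⟩ := hψs _ (rt_mem_iso hf v 1)
    exact ⟨g, (hchar g).2 ⟨v, hv, hg⟩, hg⟩
  have hconj : ∀ (h : G) v, ψ h * rt hf v 1 * (ψ h)⁻¹ = rt hf ((ψ h : Matrix _ _ (ZMod 2)) *ᵥ v) 1 :=
    fun h v => conj_rt hf (hψmem h) v 1
  have hsq : ∀ v, rt hf v 1 * rt hf v 1 = 1 := fun v => gl_ext fun x => by
    rw [mul_mulVec, rt_mulVec hf, rt_mulVec hf, one_mul, one_mul, f_add_left hf, f_smul_left hf, f_self hf,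
      mul_zero, add_zero, Units.val_one, one_mulVec, add_assoc, ← add_smul, CharTwo.add_self_eq_zero, zero_smul,
      add_zero]
  have hne : ∀ g ∈ D, g ≠ 1 := fun g hg h => by
    subst h
    simp [hD] at hg
  have hord : ∀ d ∈ D, orderOf d = 2 := fun d hd => by
    obtain ⟨v, -, hv⟩ := (hchar d).1 hd
    refine orderOf_eq_prime (hψi ?_) (hne d hd)
    rw [map_pow, hv, pow_two, hsq, map_one]
  refine ⟨⟨hord, ?_⟩, ?_, ?_⟩
  · intro d hd e he
    obtain ⟨u, -, hu⟩ := (hchar d).1 hd
    obtain ⟨v, -, hv⟩ := (hchar e).1 he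
    set A := rt hf u 1
    set B := rt hf v 1
    have hA : A⁻¹ = A := inv_eq_of_mul_eq_one_right (hsq u)
    have hB : B⁻¹ = B := inv_eq_of_mul_eq_one_right (hsq v)
    have hABA : A * B * A = rt hf (v + f v u • u) 1 := by
      have := hconj d v
      rw [hu, hA, rt_mulVec hf, one_mul] at this
      exact this
    have hBAB : B * A * B = rt hf (u + f u v • v) 1 := by
      have := hconj e u
      rw [hv, hB, rt_mulVec hf, one_mul] at this
      exact this
    rcases h01 (f v u) with h | h
    · left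
      refine hψi ?_
      rw [map_pow, map_mul, hu, hv, map_one, pow_two, ← mul_assoc, hABA, h, zero_smul, add_zero, hsq]
    · right
      have h' : f u v = 1 := by rw [f_skew hf, h]; rfl
      refine hψi ?_
      rw [map_pow, map_mul, hu, hv, map_one, pow_succ, pow_two,
        show A * B * (A * B) * (A * B) = (A * B * A) * (B * A * B) by group, hABA, hBAB, h, h', one_smul, one_smul,
        add_comm u v, hsq]
  · let v0 : Fin n ⊕ Fin n → ZMod 2 := Pi.single (Sum.inl ⟨0, by omega⟩) 1
    obtain ⟨d, hd, hdv⟩ := hmk v0 (by simp [v0])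
    refine ⟨d, hd, Set.ext fun g => ?_⟩
    show g ∈ D ↔ IsConj d g
    constructor
    · intro hg
      obtain ⟨v, hv, hgv⟩ := (hchar g).1 hg
      have hmove : ∀ w w', f w w' ≠ 0 → ∃ h : G, (ψ h : Matrix _ _ (ZMod 2)) *ᵥ w = w' := fun w w' hww => by
        obtain ⟨h, hh⟩ := hψs _ (rt_mem_iso hf (w' - w) (f w w')⁻¹)
        exact ⟨h, by rw [hh, rt_move hf hww]⟩
      obtain ⟨x, hx1, hx2⟩ := exists_common_nonorth hf (show v0 ≠ 0 by simp [v0]) hv
      obtain ⟨a, ha⟩ := hmove v0 x hx1
      obtain ⟨b, hb⟩ := hmove x v (f_symm_ne hf hx2)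
      refine isConj_iff.2 ⟨b * a, hψi ?_⟩
      rw [map_mul, map_mul, map_inv, hdv, hconj, hgv, map_mul, mul_mulVec, ha, hb]
    · intro hg
      obtain ⟨h, rfl⟩ := isConj_iff.1 hg
      refine (hchar _).2 ⟨(ψ h : Matrix _ _ (ZMod 2)) *ᵥ v0, fun e => ?_, ?_⟩
      · have e' := congrArg (fun z => ((ψ h)⁻¹ : GL _ (ZMod 2)).1 *ᵥ z) e
        simp only [inv_mulVec_mulVec, mulVec_zero] at e'
        simp [v0] at e'
      · rw [map_mul, map_mul, map_inv, hdv, hconj]
  · refine top_le_iff.1 fun g _ => ?_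
    have hle : isoGrp f ≤ (Subgroup.closure D).map ψ := iso_le_of_roots hf fun u l => by
      rcases h01 l with rfl | rfl
      · have : rt hf u 0 = 1 := gl_ext fun x => by simp [rt_mulVec hf]
        rw [this]
        exact Subgroup.one_mem _
      · by_cases hu : u = 0
        · have : rt hf u 1 = 1 := gl_ext fun x => by simp [rt_mulVec hf, hu]
          rw [this]
          exact Subgroup.one_mem _
        · obtain ⟨d, hd, hdu⟩ := hmk u hu
          exact ⟨d, Subgroup.subset_closure hd, hdu⟩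
    obtain ⟨g', hg', he⟩ := hle (hψmem g)
    exact hψi he ▸ hg'

end Cfsg.Agent.S0440
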