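import Cfsg.Statements.S4937
import Cfsg.Agent.H25.PrincipalExtension.Twist
import Cfsg.Agent.H85.Gallagher

set_option autoImplicit false
set_option linter.style.haveILetI false
open Cfsg

namespace Cfsg.Agent.S4937

/-- Let G be a finite group, p a prime, M a maximal ideal of the algebraic integers containing p, N a normal subgroup of G and P a Sylow p-subgroup of N such that G = N·C_G(P). Let θ be an irreducible character in the principal p-block of N that is the restriction of some irreducible character of G. Then θ is the restriction of an irreducible character χ of G lying in the principal p-block of G such that, for every subgroup J of G containing N, the restriction of χ to J is an irreducible character of J lying in the principal p-block of J. -/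
theorem result {G : Type*} [Group G] [Finite G] (p : ℕ) [Fact p.Prime] (M : Ideal Cfsg.AlgInt) (hM : Cfsg.IsPModular p M) (N : Subgroup G) [N.Normal] (P : Sylow p ↥N)
    (hcov : N ⊔ Subgroup.centralizer (((P : Subgroup ↥N).map N.subtype : Subgroup G) : Set G) = ⊤)
    (θ : Cfsg.IrrCharacter ↥N) (hθ : θ ∈ Cfsg.principalBlock M ↥N)
    (hext : ∃ ψ : Cfsg.IrrCharacter G, ∀ x : ↥N, (ψ : G → ℂ) x = (θ : ↥N → ℂ) x) :
    ∃ χ : Cfsg.IrrCharacter G, χ ∈ Cfsg.principalBlock M G ∧ (∀ x : ↥N, (χ : G → ℂ) x = (θ : ↥N → ℂ) x) ∧
      ∀ J : Subgroup G, N ≤ J → ∃ ξ : Cfsg.IrrCharacter ↥J, ξ ∈ Cfsg.principalBlock M ↥J ∧ ∀ y : ↥J, (ξ : ↥J → ℂ) y = (χ : G → ℂ) y := by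
  classical
  haveI := Fintype.ofFinite G
  obtain ⟨ψ, hψ⟩ := hext
  obtain ⟨n, ρ, hρ, hψρ⟩ := ψ.2
  have hθfun : (fun y : N => ρ.character (y : G)) = (θ : ↥N → ℂ) := by
    funext y
    rw [← hψ y, hψρ]
  -- the restriction of `ρ` to `N` is irreducible
  have hres : (H25.PrincipalExtension.resN N ρ).IsIrreducible := by
    obtain ⟨n', σ, hσ, hθσ⟩ := θ.2
    have hchar : σ.character = (H25.PrincipalExtension.resN N ρ).character := by
      rw [hθσ, ← hθfun]
      rfl
    obtain ⟨e⟩ := CharBasic.nonempty_equiv_of_character_eq σ (H25.PrincipalExtension.resN N ρ) hchar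
    exact CharBasic.isIrreducible_of_equiv e
  have hB : ∀ x : N, Cfsg.MemLocalIdeal M (((Subgroup.centralizer ({x} : Set N)).index : ℂ) -
      Cfsg.centralChar (fun y : N => ρ.character y) x) := by
    rw [hθfun]
    exact (H82.mem_principalBlock_iff θ).1 hθ
  have hcov' : ∀ q : G ⧸ N, ∃ c : G, (c : G ⧸ N) = q ∧
      ∀ x ∈ (P : Subgroup N), (x : G) * c = c * x := by
    intro q
    obtain ⟨g, rfl⟩ := QuotientGroup.mk_surjective q
    have hg : g ∈ N ⊔ Subgroup.centralizer
        (((P : Subgroup ↥N).map N.subtype : Subgroup G) : Set G) := by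
      rw [hcov]; exact Subgroup.mem_top g
    obtain ⟨a, ha, c, hc, rfl⟩ := Subgroup.mem_sup_of_normal_left.1 hg
    refine ⟨c, ?_, fun x hx => ?_⟩
    · rw [QuotientGroup.mk_mul, (QuotientGroup.eq_one_iff a).2 ha, one_mul]
    · exact Subgroup.mem_centralizer_iff.1 hc (x : G) (Subgroup.mem_map.2 ⟨x, hx, rfl⟩)
  obtain ⟨lam, hlamN, hlam⟩ := H25.PrincipalExtension.exists_twist N ρ hM hB P hcov'
  -- the twisted representation
  let σ : Representation ℂ G (Fin n → ℂ) :=
    { toFun := fun g => ((lam g⁻¹ : Cfsg.AlgInt) : ℂ) • ρ g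
      map_one' := by simp
      map_mul' := fun a b => by
        rw [mul_inv_rev, map_mul, map_mul ρ, smul_mul_smul_comm]
        congr 1
        simp [mul_comm] }
  have hσchar : ∀ g, σ.character g = ((lam g⁻¹ : Cfsg.AlgInt) : ℂ) * ρ.character g := fun g => by
    show LinearMap.trace ℂ _ (((lam g⁻¹ : Cfsg.AlgInt) : ℂ) • ρ g) = _
    rw [map_smul, smul_eq_mul]
    rfl
  have hσN : ∀ y : N, σ.character (y : G) = (θ : ↥N → ℂ) y := fun y => by
    rw [hσchar, hlamN _ (inv_mem y.2), ← hθfun]
    simp
  have hσ1 : σ.character 1 = ρ.character 1 := by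
    rw [Representation.char_one, Representation.char_one]
  -- sums over sets invariant under conjugation by `N`
  have key : ∀ s : Finset G, (∀ a ∈ s, ∀ m ∈ N, m * a * m⁻¹ ∈ s) →
      Cfsg.MemLocalIdeal M (∑ a ∈ s, (σ.character a / σ.character 1 - 1)) := by
    intro s hs
    rw [← Finset.sum_fiberwise_of_maps_to (t := s.image (H25.PrincipalExtension.nOrbit N))
      (g := H25.PrincipalExtension.nOrbit N) (fun a ha => Finset.mem_image_of_mem _ ha)]
    refine Finset.sum_induction _ (Cfsg.MemLocalIdeal M)
      (fun a b => BlockBasic.memLocalIdeal_add hM) (BlockBasic.memLocalIdeal_zero hM)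
      fun O hO => ?_
    obtain ⟨g, hg, rfl⟩ := Finset.mem_image.1 hO
    have hfib : s.filter (fun a => H25.PrincipalExtension.nOrbit N a =
        H25.PrincipalExtension.nOrbit N g) = H25.PrincipalExtension.nOrbit N g := by
      ext a
      rw [Finset.mem_filter]
      refine ⟨fun h => h.2 ▸ H25.PrincipalExtension.self_mem_nOrbit N a,
        fun h => ⟨?_, H25.PrincipalExtension.nOrbit_eq_of_mem N h⟩⟩
      obtain ⟨m, hm, rfl⟩ := (H25.PrincipalExtension.mem_nOrbit N).1 h
      exact hs g hg m hm
    rw [hfib, Finset.sum_sub_distrib, ← Finset.sum_div, Finset.sum_const, nsmul_one, hσ1]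
    simp only [hσchar]
    exact hlam g
  have hirrG : Cfsg.IsIrrCharacter G σ.character := by
    refine H85.isIrr_of_res N.subtype (CharBasic.isCharacter_character σ) ?_
    have : (fun y : N => σ.character (N.subtype y)) = (θ : ↥N → ℂ) := funext hσN
    rw [this]
    exact θ.2
  refine ⟨⟨σ.character, hirrG⟩, (H82.mem_principalBlock_iff _).2 fun g => ?_, hσN, fun J hNJ => ?_⟩
  · have h := key (Finset.univ.filter fun z => IsConj g z) (by
      intro a ha m _
      simp only [Finset.mem_filter, Finset.mem_univ, true_and] at ha ⊢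
      exact ha.trans (isConj_iff.2 ⟨m, rfl⟩))
    rw [Finset.sum_congr rfl (g := fun _ => σ.character g / σ.character 1 - 1),
      Finset.sum_const, nsmul_eq_mul] at h
    · have h' := BlockBasic.memLocalIdeal_neg h
      have hcard : (Finset.univ.filter fun z => IsConj g z).card =
          (Subgroup.centralizer ({g} : Set G)).index := by
        rw [← H83.classSize_eq_index g]
        congr! 1
        ext a
        simp
      rw [hcard] at h'
      convert h' using 1
      show _ - _ * σ.character g / σ.character 1 = _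
      ring
    · intro z hz
      obtain ⟨x, rfl⟩ := isConj_iff.1 (Finset.mem_filter.1 hz).2
      rw [CharBasic.IsIrr.isClassFunction hirrG g x]
  · haveI := Fintype.ofFinite J
    let σJ : Representation ℂ J (Fin n → ℂ) := MonoidHom.comp σ J.subtype
    have hirr : Cfsg.IsIrrCharacter J σJ.character := by
      refine H85.isIrr_of_res (Subgroup.inclusion hNJ) (CharBasic.isCharacter_character σJ) ?_
      have : (fun y : N => σJ.character (Subgroup.inclusion hNJ y)) = (θ : ↥N → ℂ) := by
        funext y
        exact hσN y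
      rw [this]
      exact θ.2
    refine ⟨⟨σJ.character, hirr⟩, (H82.mem_principalBlock_iff _).2 fun y => ?_, fun y => rfl⟩
    let cl : Finset J := Finset.univ.filter fun z : J => IsConj y z
    have h := key (cl.map (Function.Embedding.subtype _)) (by
      intro a ha m hm
      obtain ⟨z, hz, rfl⟩ := Finset.mem_map.1 ha
      refine Finset.mem_map.2 ⟨⟨m, hNJ hm⟩ * z * ⟨m, hNJ hm⟩⁻¹, ?_, rfl⟩
      simp only [cl, Finset.mem_filter, Finset.mem_univ, true_and] at hz ⊢
      exact hz.trans (isConj_iff.2 ⟨_, rfl⟩))
    rw [Finset.sum_map, Finset.sum_congr rfl (g := fun _ => σJ.character y / σJ.character 1 - 1),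
      Finset.sum_const, nsmul_eq_mul] at h
    · have h' := BlockBasic.memLocalIdeal_neg h
      have hcard : cl.card = (Subgroup.centralizer ({y} : Set J)).index := by
        rw [← H83.classSize_eq_index y]
        congr! 1
        ext a
        simp [cl]
      rw [hcard] at h'
      convert h' using 1
      show _ - _ * σJ.character y / σJ.character 1 = _
      ring
    · intro z hz
      obtain ⟨x, rfl⟩ := isConj_iff.1 (Finset.mem_filter.1 hz).2
      rw [← CharBasic.IsIrr.isClassFunction hirr y x]
      rfl

end Cfsg.Agent.S4937
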