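import Cfsg.Statements.S4558
import Cfsg.Agent.CharBasic.Orth
import Cfsg.Agent.H81.AlgInt

set_option autoImplicit false
open Cfsg

namespace Cfsg.Agent.S4558

/-- Let χ be a character of the finite group G and g an element of p-power order for the prime p. If χ g = 0, then p divides the degree of χ. -/
theorem result {G : Type*} [Group G] [Finite G] (p : ℕ) [Fact p.Prime] (χ : G → ℂ) (hχ : Cfsg.IsCharacter G χ) (g : G) (hg : ∃ j : ℕ, orderOf g = p ^ j) (h0 : χ g = 0) : p ∣ Cfsg.charDegree χ := by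
  obtain ⟨n, ρ, rfl⟩ := hχ
  obtain ⟨j, hj⟩ := hg
  obtain ⟨b, μ, -, hμ, hsum⟩ := Cfsg.Agent.CharBasic.exists_eigenbasis_rep ρ g
  have hdeg : Cfsg.charDegree ρ.character = Module.finrank ℂ (Fin n → ℂ) := by
    rw [Cfsg.charDegree, Representation.char_one, Complex.natCast_re, Nat.floor_natCast]
  rw [hdeg]
  have hint : ∀ i, IsIntegral ℤ (μ i) := fun i =>
    IsIntegral.of_pow (orderOf_pos g) (by rw [hμ i]; exact isIntegral_one)
  let ν : Fin (Module.finrank ℂ (Fin n → ℂ)) → AlgInt := fun i => ⟨μ i, hint i⟩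
  have hν0 : ∑ i, ν i = 0 := Subtype.ext (by simpa [ν] using hsum.symm.trans h0)
  have hν1 : ∀ i, ν i ^ p ^ j = 1 := fun i => Subtype.ext (by simpa [ν, ← hj] using hμ i)
  refine Cfsg.Agent.H81.natCast_dvd_natCast (Fact.out : p.Prime).ne_zero ?_
  by_cases hu : IsUnit (p : AlgInt)
  · exact hu.dvd
  haveI := CharP.quotient AlgInt p (mem_nonunits_iff.2 hu)
  haveI : ExpChar (AlgInt ⧸ Ideal.span {(p : AlgInt)}) p := ExpChar.prime Fact.out
  rw [← Ideal.mem_span_singleton, ← Ideal.Quotient.eq_zero_iff_mem, map_natCast]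
  have h := congrArg (Ideal.Quotient.mk (Ideal.span {(p : AlgInt)})) hν0
  rw [map_sum, map_zero] at h
  have h' := congrArg (· ^ p ^ j) h
  simp only [sum_pow_char_pow, ← map_pow, hν1, map_one, Finset.sum_const, Finset.card_univ,
    Fintype.card_fin, nsmul_eq_mul, mul_one] at h'
  rw [h', zero_pow]
  exact pow_ne_zero _ (Fact.out : p.Prime).ne_zero

end Cfsg.Agent.S4558
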