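import Cfsg.Statements.S0944
import Cfsg.Agent.CharBasic.Rep
import Cfsg.Agent.BlockBasic.Center

set_option autoImplicit false
open Cfsg

namespace Cfsg.Agent.S0944

/-- Let χ be an irreducible character of the finite group G and u an involution. Then χ u is a rational integer n with n ≡ χ 1 (mod 2). -/
theorem result {G : Type*} [Group G] [Finite G] (χ : Cfsg.IrrCharacter G) (u : G) (hu : orderOf u = 2) : ∃ n : ℤ, (χ : G → ℂ) u = (n : ℂ) ∧ (2 : ℤ) ∣ (Cfsg.charDegree (χ : G → ℂ) : ℤ) - n := by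
  classical
  cases nonempty_fintype G
  obtain ⟨n, ρ, hρ, he⟩ := χ.2
  obtain ⟨b, μ, -, hμ, htr⟩ := CharBasic.exists_eigenbasis_rep ρ u
  have hdeg : Cfsg.charDegree (χ : G → ℂ) = Module.finrank ℂ (Fin n → ℂ) := by
    rw [Cfsg.charDegree, ← he, Representation.char_one]
    simp
  have hsign : ∀ i, ∃ e : ℤ, μ i = (e : ℂ) ∧ (2 : ℤ) ∣ 1 - e := by
    intro i
    have h := hμ i
    rw [hu] at h
    rcases sq_eq_one_iff.mp h with h | h
    · exact ⟨1, by simp [h], by norm_num⟩
    · exact ⟨-1, by simp [h], by norm_num⟩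
  choose e he1 he2 using hsign
  refine ⟨∑ i, e i, by rw [← he, htr, Int.cast_sum]; exact Finset.sum_congr rfl fun i _ => he1 i, ?_⟩
  have : (Cfsg.charDegree (χ : G → ℂ) : ℤ) - ∑ i, e i = ∑ i, (1 - e i) := by
    rw [hdeg, Finset.sum_sub_distrib]
    simp
  rw [this]
  exact Finset.dvd_sum fun i _ => he2 i

end Cfsg.Agent.S0944
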