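import Cfsg.Statements.S4646
import Cfsg.Agent.H82.BrauerMap
import Cfsg.Agent.H82.PrincipalBlock
import Cfsg.Agent.BlockBasic.Orth
import Cfsg.Agent.CharInduce.Ops
import Cfsg.Agent.Fusion.Frobenius

set_option autoImplicit false
open Cfsg

namespace Cfsg.Agent.S4646

/-- For a finite group G, a prime p and a maximal ideal M of the algebraic integers containing p: the principal block of G is nilpotent if and only if its p-regular rank is 1 (the trivial Brauer character is its only irreducible Brauer character). -/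
theorem result {G : Type*} [Group G] [Finite G] (p : ℕ) [Fact p.Prime] (M : Ideal Cfsg.AlgInt) (hM : Cfsg.IsPModular p M) : Cfsg.IsNilpotentBlock p M (Cfsg.principalBlock M G) ↔ Cfsg.blockRank p (Cfsg.principalBlock M G) = 1 := by
  classical
  cases nonempty_fintype G
  have hp := (Fact.out : p.Prime)
  have hB := BlockBasic.isPBlock_principalBlock (G := G) M
  set B := Cfsg.principalBlock M G
  have htriv : BlockBasic.trivialIrr (G := G) ∈ B := BlockBasic.sameBlock_refl hM _
  -- rank one says exactly that the `p`-regular elements lie in the kernel of `B`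
  have hrank : Cfsg.blockRank p B = 1 ↔
      ∀ χ ∈ B, ∀ g : G, Cfsg.IsPRegular p g → (χ : G → ℂ) g = (χ : G → ℂ) 1 := by
    set e : G → ℂ := Cfsg.pRegularPart p (fun _ : G => (1 : ℂ)) with he
    have hreg1 : Cfsg.IsPRegular p (1 : G) := by simpa [Cfsg.IsPRegular] using hp.ne_one
    have he1 : e ≠ 0 := fun h => by
      have := congrFun h (1 : G)
      simp [he, Cfsg.pRegularPart, if_pos hreg1] at this
    have hemem : e ∈ (fun χ : Cfsg.IrrCharacter G => Cfsg.pRegularPart p (χ : G → ℂ)) '' B :=
      ⟨_, htriv, rfl⟩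
    constructor
    · intro h χ hχ g hg
      set S := Submodule.span ℂ ((fun χ : Cfsg.IrrCharacter G => Cfsg.pRegularPart p (χ : G → ℂ)) '' B)
      let v : S := ⟨e, Submodule.subset_span hemem⟩
      let w : S := ⟨Cfsg.pRegularPart p (χ : G → ℂ), Submodule.subset_span ⟨χ, hχ, rfl⟩⟩
      obtain ⟨c, hc⟩ := exists_smul_eq_of_finrank_eq_one h
        (show v ≠ 0 from fun h0 => he1 (congrArg Subtype.val h0)) w
      have hc' : ∀ x : G, c * e x = Cfsg.pRegularPart p (χ : G → ℂ) x := fun x =>
        congrFun (congrArg Subtype.val hc) x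
      have h1 := hc' 1
      have h2 := hc' g
      simp only [he, Cfsg.pRegularPart, if_pos hreg1, if_pos hg, mul_one] at h1 h2
      rw [← h1, ← h2]
    · intro h
      have hspan : Submodule.span ℂ ((fun χ : Cfsg.IrrCharacter G => Cfsg.pRegularPart p (χ : G → ℂ)) '' B) =
          Submodule.span ℂ {e} := by
        refine le_antisymm (Submodule.span_le.mpr ?_) (Submodule.span_le.mpr ?_)
        · rintro _ ⟨χ, hχ, rfl⟩
          refine Submodule.mem_span_singleton.mpr ⟨(χ : G → ℂ) 1, ?_⟩
          funext g
          simp only [he, Cfsg.pRegularPart, Pi.smul_apply, smul_eq_mul]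
          split_ifs with hg
          · rw [mul_one, h χ hχ g hg]
          · rw [mul_zero]
        · rintro _ rfl
          exact Submodule.subset_span hemem
      rw [Cfsg.blockRank, hspan, finrank_span_singleton he1]
  rw [hrank]
  constructor
  · intro hnil
    obtain ⟨P⟩ : Nonempty (Sylow p G) := inferInstance
    have hnc : Cfsg.HasNormalPComplement p G := by
      refine (Fusion.frobenius_criterion P).mpr fun Q hQ g hg hgp => ?_
      have hQp : IsPGroup p Q := P.2.to_le hQ
      set C := Subgroup.centralizer (Q : Set G)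
      have hgC : g ∈ Subgroup.normalizer (C : Set G) := by
        refine Subgroup.mem_normalizer_fintype fun c hc => ?_
        rw [SetLike.mem_coe, Subgroup.mem_centralizer_iff] at hc ⊢
        intro q hq
        have h1 := hc _ ((Subgroup.mem_normalizer_iff''.mp hg q).mp hq)
        calc q * (g * c * g⁻¹) = g * ((g⁻¹ * q * g) * c) * g⁻¹ := by group
          _ = g * (c * (g⁻¹ * q * g)) * g⁻¹ := by rw [h1]
          _ = g * c * g⁻¹ * q := by group
      refine hnil.2 Q _ (H82.isBrauerPairOf_principalBlock hM hQp) g hg ?_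
        (hp.coprime_iff_not_dvd.mp hgp.symm)
      refine ⟨hgC, fun ξ hξ => ?_⟩
      let φ : C ≃* C :=
        { toFun := fun k => ⟨g⁻¹ * k * g, (Subgroup.mem_normalizer_iff''.mp hgC k).mp k.2⟩
          invFun := fun k => ⟨g * k * g⁻¹, (Subgroup.mem_normalizer_iff.mp hgC k).mp k.2⟩
          left_inv := fun k => Subtype.ext (by simp [mul_assoc])
          right_inv := fun k => Subtype.ext (by simp [mul_assoc])
          map_mul' := fun a b => Subtype.ext (by simp [mul_assoc]) }
      let ξ' : Cfsg.IrrCharacter C :=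
        ⟨fun k => (ξ : C → ℂ) (φ k), CharInduce.IsIrr.comp ξ.2 φ.toMonoidHom φ.surjective⟩
      refine ⟨ξ', ?_, fun k k' hk => ?_⟩
      · rw [H82.mem_principalBlock_iff] at hξ ⊢
        intro k
        have hidx : (Subgroup.centralizer ({φ k} : Set C)).index =
            (Subgroup.centralizer ({k} : Set C)).index := by
          rw [← CharBasic.card_conjugates_eq_index, ← CharBasic.card_conjugates_eq_index]
          refine Nat.card_congr (φ.toEquiv.subtypeEquiv fun a => ?_).symm
          constructor
          · exact fun h => φ.toMonoidHom.map_isConj h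
          · intro h
            have := φ.symm.toMonoidHom.map_isConj h
            simpa using this
        have := hξ (φ k)
        rw [Cfsg.centralChar, hidx] at this
        simpa [Cfsg.centralChar, ξ'] using this
      · change (ξ : C → ℂ) (φ k') = (ξ : C → ℂ) k
        have he : φ k' = k := Subtype.ext (show g⁻¹ * (k' : G) * g = (k : G) by rw [hk]; group)
        rw [he]
    intro χ hχ g hg
    refine H82.apply_eq_of_mem_principalBlock hM hχ (Cfsg.pResidual p G)
      (Fusion.hasNormalPComplement_iff_pResidual.mp hnc) ?_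
    exact (Fusion.mem_pResidual_iff_of_hasNormalPComplement hnc).mpr
      (hp.coprime_iff_not_dvd.mpr hg).symm
  · intro hker
    refine ⟨hB, fun Q e hQe x hx _ hxreg => ?_⟩
    -- the `p`-regular elements generate a `p'`-subgroup
    set K := Cfsg.pResidual p G with hKdef
    have hKker : ∀ k ∈ K, ∀ χ ∈ B, (χ : G → ℂ) k = (χ : G → ℂ) 1 := by
      intro k hk χ hχ
      obtain ⟨n, ρ, hρ, hρχ⟩ := χ.2
      suffices K ≤ MonoidHom.ker ρ by
        rw [← hρχ, Representation.char_one]
        exact (CharBasic.character_eq_finrank_iff ρ k).mpr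
          (by rw [← Module.End.one_eq_id]; exact this hk)
      rw [hKdef, Cfsg.pResidual, Subgroup.closure_le]
      intro g hg
      have h1 := hker χ hχ g (hp.coprime_iff_not_dvd.mp hg.symm)
      rw [← hρχ, Representation.char_one] at h1
      rw [SetLike.mem_coe, MonoidHom.mem_ker, Module.End.one_eq_id]
      exact (CharBasic.character_eq_finrank_iff ρ g).mp h1
    have hKp : ¬ p ∣ Nat.card K := by
      intro hd
      obtain ⟨y, hy⟩ := exists_prime_orderOf_dvd_card' (G := K) p hd
      rw [← Subgroup.orderOf_coe] at hy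
      have h1 := BlockBasic.blockCoeff_eq_zero_of_singular hM hB (g := (y : G)) (hy ▸ dvd_rfl)
      have h2 : Cfsg.blockCoeff B (1 : G) = 0 := by
        rw [← h1, Cfsg.blockCoeff, Cfsg.blockCoeff]
        congr 1
        exact finsum_mem_congr rfl fun χ hχ => by rw [hKker y y.2 χ hχ]
      rw [Cfsg.blockCoeff, mul_eq_zero, BlockBasic.finsum_mem_eq_sum_ite] at h2
      have h3 := h2.resolve_left (inv_ne_zero (Nat.cast_ne_zero.mpr Nat.card_pos.ne'))
      have h4 : ∀ χ : Cfsg.IrrCharacter G,
          (if χ ∈ B then (χ : G → ℂ) 1 * (starRingEnd ℂ) ((χ : G → ℂ) 1) else 0) =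
            (((if χ ∈ B then Cfsg.charDegree (χ : G → ℂ) ^ 2 else 0 : ℕ)) : ℂ) := fun χ => by
        obtain ⟨hd1, -⟩ := H83.charDegree_eq χ.2
        split_ifs
        · rw [hd1, Complex.conj_natCast, Nat.cast_pow, sq]
        · rw [Nat.cast_zero]
      rw [Finset.sum_congr rfl fun χ _ => h4 χ, ← Nat.cast_sum, Nat.cast_eq_zero,
        Finset.sum_eq_zero_iff] at h3
      have h5 := h3 _ (Finset.mem_univ (BlockBasic.trivialIrr (G := G)))
      rw [if_pos htriv] at h5
      exact absurd (pow_eq_zero_iff two_ne_zero |>.mp h5) (H83.charDegree_eq (BlockBasic.trivialIrr (G := G)).2).2.ne'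
    rw [Subgroup.mem_centralizer_iff]
    intro q hq
    have hxK : x ∈ K := Subgroup.subset_closure (hp.coprime_iff_not_dvd.mpr hxreg).symm
    have hKn : K.Normal := inferInstance
    have hdisj : K ⊓ Q = ⊥ := by
      apply Subgroup.inf_eq_bot_of_coprime
      obtain ⟨n, hn⟩ := hQe.1.1.exists_card_eq
      rw [hn]
      exact Nat.Coprime.pow_right n (hp.coprime_iff_not_dvd.mpr hKp).symm
    have : q * x * q⁻¹ * x⁻¹ ∈ K ⊓ Q := by
      refine ⟨K.mul_mem (hKn.conj_mem x hxK q) (K.inv_mem hxK), ?_⟩
      rw [show q * x * q⁻¹ * x⁻¹ = q * (x * q⁻¹ * x⁻¹) by group]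
      exact Q.mul_mem hq ((Subgroup.mem_normalizer_iff.mp hx q⁻¹).mp (Q.inv_mem hq))
    rw [hdisj, Subgroup.mem_bot, mul_inv_eq_one, mul_inv_eq_iff_eq_mul] at this
    exact this

end Cfsg.Agent.S4646
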