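import Cfsg.Statements.S4691
import Cfsg.Agent.H83.PrincipalPair
import Cfsg.Agent.Fusion.Frobenius

set_option autoImplicit false
open Cfsg

namespace Cfsg.Agent.S4691

/-- Fix a prime p and a maximal ideal M of the algebraic integers containing p. A finite group G has a normal p-complement if and only if its principal p-block is nilpotent. -/
theorem result {G : Type*} [Group G] [Fintype G] (p : ℕ) [Fact p.Prime] (M : Ideal Cfsg.AlgInt) (hM : Cfsg.IsPModular p M) : Cfsg.HasNormalPComplement p G ↔ Cfsg.IsNilpotentBlock p M (Cfsg.principalBlock M G) := by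
  constructor
  · refine fun h => ⟨BlockBasic.isPBlock_principalBlock M, fun Q e he g hg _ hreg => ?_⟩
    refine Subgroup.mem_centralizer_iff.mpr fun x hx => ?_
    have hgp : Nat.Coprime (orderOf g) p :=
      ((Fact.out : p.Prime).coprime_iff_not_dvd.2 hreg).symm
    have := Fusion.commute_of_hasNormalPComplement
      (Fusion.hasNormalPComplement_subgroup h (Subgroup.normalizer (Q : Set G)))
      (Q := Q.subgroupOf (Subgroup.normalizer (Q : Set G)))
      (hQ := he.1.1.comap_subtype)
      (g := ⟨g, hg⟩) (by simpa [Subgroup.orderOf_mk] using hgp)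
      (x := ⟨x, Subgroup.le_normalizer hx⟩) hx
    exact (congrArg Subtype.val this).symm
  · rintro ⟨-, h⟩
    obtain ⟨P⟩ : Nonempty (Sylow p G) := inferInstance
    rw [Fusion.frobenius_criterion P]
    intro Q hQ g hg hgp
    exact h Q _ (H82.isBrauerPairOf_principalBlock hM (P.isPGroup'.to_le hQ)) g hg
      (H83.stabilizesBlock_principalBlock hg)
      ((Fact.out : p.Prime).coprime_iff_not_dvd.1 hgp.symm)

end Cfsg.Agent.S4691
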