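import Cfsg.Statements.S4602
import Cfsg.Agent.Coprime.Action
import Cfsg.Agent.Cores.Constrained

set_option autoImplicit false
open Cfsg
open scoped commutatorElement

namespace Cfsg.Agent.S4602

/-- Let G be a finite p-solvable group and q a prime different from p. Some Sylow p-subgroup of G normalizes some Sylow q-subgroup of G if and only if q does not divide the order of G/O_{p'}(G), the quotient by the largest normal subgroup of order prime to p. -/
theorem result {G : Type*} [Group G] [Finite G] (p q : ℕ) [Fact p.Prime] [Fact q.Prime] (hpq : p ≠ q) (hsolv : Cfsg.IsPSolvable p G) :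
    (∃ (P : Sylow p G) (Q : Sylow q G), (P : Subgroup G) ≤ Subgroup.normalizer ((Q : Subgroup G) : Set G)) ↔ ¬ q ∣ (Cfsg.pPrimeCore p G).index := by
  classical
  have hp := (Fact.out : p.Prime)
  have hq := (Fact.out : q.Prime)
  set K := pPrimeCore p G with hK
  constructor
  · rintro ⟨P, Q, hPQ⟩ hdvd
    set π := QuotientGroup.mk' K
    let P' : Sylow p (G ⧸ K) := P.mapSurjective (QuotientGroup.mk'_surjective K)
    let Q' : Sylow q (G ⧸ K) := Q.mapSurjective (QuotientGroup.mk'_surjective K)
    have hPn : (P' : Subgroup (G ⧸ K)) ≤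
        Subgroup.normalizer ((Q' : Subgroup (G ⧸ K)) : Set (G ⧸ K)) := by
      rintro _ ⟨x, hx, rfl⟩
      refine Subgroup.mem_normalizer_fintype ?_
      rintro _ ⟨y, hy, rfl⟩
      exact ⟨x * y * x⁻¹, (Subgroup.mem_normalizer_iff.mp (hPQ hx) y).mp hy, by
        rw [map_mul, map_mul, map_inv]⟩
    set U := pCore p (G ⧸ K)
    have hU : U ≤ (P' : Subgroup (G ⧸ K)) := Cores.pCore_le_sylow P'
    have hUn : U.Normal := inferInstance
    have hdisj : (P' : Subgroup (G ⧸ K)) ⊓ (Q' : Subgroup (G ⧸ K)) = ⊥ := by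
      apply Subgroup.inf_eq_bot_of_coprime
      exact IsPGroup.coprime_card_of_ne p q hpq _ _ P'.2 Q'.2
    have hQC : (Q' : Subgroup (G ⧸ K)) ≤ Subgroup.centralizer (U : Set (G ⧸ K)) := by
      intro y hy
      rw [Subgroup.mem_centralizer_iff]
      intro u hu
      rw [← commutatorElement_eq_one_iff_mul_comm, ← Subgroup.mem_bot, ← hdisj]
      refine ⟨hU ?_, ?_⟩
      · rw [commutatorElement_def, show u * y * u⁻¹ * y⁻¹ = u * (y * u⁻¹ * y⁻¹) by group]
        exact U.mul_mem hu (hUn.conj_mem _ (U.inv_mem hu) y)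
      · rw [commutatorElement_def]
        exact Subgroup.mul_mem _ ((Subgroup.mem_normalizer_iff.mp (hPn (hU hu)) y).mp hy)
          (Subgroup.inv_mem _ hy)
    have hC := Cores.centralizer_pCore_le (Cores.isPSolvable_quotient hsolv K)
      Cores.pPrimeCore_quotient_pPrimeCore
    have hbot : (Q' : Subgroup (G ⧸ K)) = ⊥ :=
      le_bot_iff.mp (hdisj ▸ le_inf ((hQC.trans hC).trans hU) le_rfl)
    have h1 := Q'.ne_bot_of_dvd_card (by rwa [← Subgroup.index_eq_card])
    exact h1 hbot
  · intro hdvd
    obtain ⟨P⟩ : Nonempty (Sylow p G) := inferInstance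
    have hcop : Nat.Coprime (Nat.card (P : Subgroup G)) (Nat.card K) := by
      obtain ⟨n, hn⟩ := P.2.exists_card_eq
      rw [hn]
      exact Nat.Coprime.pow_left n (Cores.coprime_card_pPrimeCore (p := p) (G := G)).symm
    obtain ⟨R, hR⟩ := Coprime.exists_invariant_sylow
      (show (P : Subgroup G) ≤ Subgroup.normalizer (K : Set G) from
        Subgroup.normalizer_eq_top (H := K) ▸ le_top) hcop
      (Or.inl (by have := P.2.isNilpotent; infer_instance)) q
    refine ⟨P, Sylow.ofCard ((R : Subgroup K).map K.subtype) ?_, ?_⟩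
    · rw [Subgroup.card_map_of_injective K.subtype_injective, Sylow.card_eq_multiplicity]
      congr 1
      rw [← K.card_mul_index, Nat.factorization_mul Nat.card_pos.ne' Subgroup.index_ne_zero_of_finite,
        Finsupp.add_apply, Nat.factorization_eq_zero_of_not_dvd hdvd, add_zero]
    · rw [Sylow.coe_ofCard]
      exact hR

end Cfsg.Agent.S4602
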