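import Cfsg.Statements.S0084
import Cfsg.Agent.H25.SmallSylow

set_option autoImplicit false
open Cfsg

namespace Cfsg.Agent.S0084


/-- A group whose Sylow 2-subgroups are Klein four-groups and whose order is prime to 3 has a normal 2-complement. -/
theorem result {G : Type*} [Group G] [Finite G] (T : Sylow 2 G) (hT : IsKleinFour T) (h3 : ¬ 3 ∣ Nat.card G) : Cfsg.HasNormalPComplement 2 G := by
  have hc : IsMulCommutative (T : Subgroup G) :=
    ⟨⟨fun a b => mul_comm_of_exponent_two hT.exponent_two a b⟩⟩
  refine H25.hasNormalPComplement_of_counting T hc fun r hr hrG hr2 d hd hlt hrd => ?_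
  rw [show Nat.card (T : Subgroup G) = 4 from hT.card_four] at hd hlt hrd
  have h3r : r ≠ 3 := fun e => h3 (e ▸ hrG)
  interval_cases d
  · norm_num at hd
  · exact h3r ((Nat.prime_dvd_prime_iff_eq hr Nat.prime_three).mp hrd)
  · exact hr2 ((Nat.prime_dvd_prime_iff_eq hr Nat.prime_two).mp hrd)
  · norm_num at hd

end Cfsg.Agent.S0084
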