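import Cfsg.Statements.S0996
import Cfsg.Agent.H86.FewSylowZassenhaus
import Cfsg.Agent.H86.FewSylowExceptional

set_option autoImplicit false
open Cfsg

namespace Cfsg.Agent.S0996

/-- Let G be a finite perfect group containing an element z of prime order p whose centralizer is the cyclic group it generates, and suppose the number 1 + n * p of Sylow p-subgroups satisfies n < (p + 3) / 2. Then p > 3 and G is isomorphic to the projective special linear group of dimension 2 over the field with p elements, or p - 1 is a power of 2 and G is isomorphic to that group over the field with p - 1 elements. -/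
theorem result {G : Type*} [Group G] [Finite G] (hperf : commutator G = ⊤) (p : ℕ) [Fact p.Prime] (z : G) (hz : orderOf z = p) (hC : Subgroup.centralizer ({z} : Set G) = Subgroup.zpowers z) (hn : 2 * Nat.card (Sylow p G) < (p + 1) * (p + 2)) : (∃ (F : Type) (_ : Field F) (_ : Fintype F), Fintype.card F = p ∧ 3 < p ∧ Nonempty (G ≃* Matrix.ProjectiveSpecialLinearGroup (Fin 2) F)) ∨ (∃ (m : ℕ) (F : Type) (_ : Field F) (_ : Fintype F), Fintype.card F = 2 ^ m ∧ p = 2 ^ m + 1 ∧ 3 < p ∧ Nonempty (G ≃* Matrix.ProjectiveSpecialLinearGroup (Fin 2) F)) := by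
  classical
  cases nonempty_fintype G
  have hzG : Nat.card (Subgroup.zpowers z) = p := by rw [Nat.card_zpowers, hz]
  obtain ⟨P, hzP⟩ := (IsPGroup.of_card (n := 1) (by rw [hzG, pow_one]) :
    IsPGroup p (Subgroup.zpowers z)).exists_le_sylow
  haveI : Nontrivial (P : Subgroup G) :=
    ⟨⟨⟨z, hzP (Subgroup.mem_zpowers z)⟩, 1, fun e => by
      have : z = 1 := congrArg Subtype.val e
      rw [this, orderOf_one] at hz
      exact (Fact.out : p.Prime).ne_one hz.symm⟩⟩
  haveI := P.isPGroup'.center_nontrivial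
  obtain ⟨c, hc⟩ := exists_ne (1 : Subgroup.center (P : Subgroup G))
  have hcz : (((c : (P : Subgroup G))) : G) ∈ Subgroup.zpowers z := by
    rw [← hC, Subgroup.mem_centralizer_singleton_iff]
    exact congrArg Subtype.val (Subgroup.mem_center_iff.1 c.2 ⟨z, hzP (Subgroup.mem_zpowers z)⟩).symm
  have hgen : Subgroup.zpowers (((c : (P : Subgroup G))) : G) = Subgroup.zpowers z := by
    refine Subgroup.eq_of_le_of_card_ge (Subgroup.zpowers_le.2 hcz) ?_
    have hd := orderOf_dvd_natCard (G := Subgroup.zpowers z) ⟨_, hcz⟩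
    rw [hzG, Subgroup.orderOf_mk] at hd
    rw [Nat.card_zpowers (a := (((c : (P : Subgroup G))) : G)), hzG]
    rcases (Nat.dvd_prime (Fact.out : p.Prime)).1 hd with e | e
    · exact absurd (orderOf_eq_one_iff.1 e) fun h => hc (Subtype.ext (Subtype.ext h))
    · exact e.ge
  have hPz : (P : Subgroup G) = Subgroup.zpowers z := by
    refine le_antisymm (fun y hy => ?_) hzP
    rw [← hC, Subgroup.mem_centralizer_singleton_iff]
    obtain ⟨i, hi⟩ := (hgen.symm ▸ Subgroup.mem_zpowers z :
      z ∈ Subgroup.zpowers (((c : (P : Subgroup G))) : G))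
    rw [← hi]
    exact (Commute.zpow_right (show Commute y (((c : (P : Subgroup G))) : G) from
      congrArg Subtype.val (Subgroup.mem_center_iff.1 c.2 ⟨y, hy⟩)) i).eq
  have hCP : Subgroup.centralizer ((P : Subgroup G) : Set G) = P := by
    refine le_antisymm (fun y hy => ?_) fun y hy => ?_
    · rw [hPz, ← hC, Subgroup.mem_centralizer_singleton_iff]
      exact (Subgroup.mem_centralizer_iff.1 hy z (hzP (Subgroup.mem_zpowers z))).symm
    · rw [hPz] at hy ⊢
      refine Subgroup.mem_centralizer_iff.2 fun v hv => ?_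
      obtain ⟨i, rfl⟩ := hy
      obtain ⟨j, rfl⟩ := hv
      exact (Commute.zpow_zpow (Commute.refl z) j i).eq
  obtain ⟨S, -⟩ := Cfsg.Agent.H86.FewSylow.exists_sc P
    (by rw [show Nat.card P = Nat.card (P : Subgroup G) from rfl, hPz, hzG]) hCP
  obtain ⟨D⟩ := Cfsg.Agent.H86.FewSylow.exists_data S hperf
    (Cfsg.Agent.H86.FewSylowArith.not_rep_of_few (Cfsg.Agent.H86.FewSylow.card_sylow_eq S) hn)
  rcases D.cases with h | ⟨h, -, ht⟩
  · exact Or.inl (D.exists_psl_odd h)
  · exact Or.inr (D.exists_psl_even h ht)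

end Cfsg.Agent.S0996
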