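import Cfsg.Statements.S0731
import Cfsg.Agent.H28.ZassApps

open Cfsg.Agent.H28.Zass MulAction

set_option autoImplicit false
open Cfsg

namespace Cfsg.Agent.S0731

/-- A finite Zassenhaus group whose point stabiliser has an abelian regular normal subgroup on the remaining points is sharply triply transitive or isomorphic to `PSL(2, F)` for a finite field `F` of odd characteristic. -/
theorem result {G Ω : Type*} [Group G] [Finite G] [MulAction G Ω] [Finite Ω] (hZ : Cfsg.IsZassenhausGroup G Ω) (x : Ω) (F : Subgroup G) (hFle : F ≤ MulAction.stabilizer G x) (hFn : (F.subgroupOf (MulAction.stabilizer G x)).Normal) (hFab : IsMulCommutative F) (hreg : ∀ y z : Ω, y ≠ x → z ≠ x → ∃! u : F, (u : G) • y = z) : (MulAction.IsMultiplyPretransitive G Ω 3 ∧ ∀ t : Fin 3 ↪ Ω, MulAction.stabilizer G t = ⊥) ∨ ∃ (K : Type) (_ : Field K) (_ : Fintype K), ringChar K ≠ 2 ∧ Nonempty (G ≃* Matrix.ProjectiveSpecialLinearGroup (Fin 2) K) := by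
  obtain ⟨b, hb, -⟩ := exists_third hZ x x
  have hH := isKer_of_regular hb.symm F hFle hreg
  have hcomm : ∀ u ∈ F, ∀ v ∈ F, u * v = v * u := fun u hu v hv =>
    congrArg Subtype.val (hFab.is_comm.comm ⟨u, hu⟩ ⟨v, hv⟩)
  rcases kernel_cases hH hZ hb.symm hcomm with he | hhalf
  · exact Or.inl (sharp_triple hH hZ hb.symm he)
  · obtain ⟨K, hK1, hK2, hchar, -, hiso⟩ := half_equiv hH hZ hb.symm hcomm hhalf
    exact Or.inr ⟨K, hK1, hK2, hchar, hiso⟩

end Cfsg.Agent.S0731
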