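import Cfsg.Statements.S4702
import Cfsg.Agent.H33.SharplyThreeEven
import Cfsg.Agent.H36.EvenPSL
-- import your own Cfsg.Agent.* helpers here

set_option autoImplicit false
open Cfsg

namespace Cfsg.Agent.S4702

/-- Let G be a triply transitive permutation group on a finite set of odd size m ≥ 3 in which only the identity fixes three or more points. Then m = 2^a + 1 for some a ≥ 1 and G is isomorphic to SL(2, 2^a). -/
theorem result {α : Type*} [Fintype α] [DecidableEq α] (hm : 3 ≤ Fintype.card α) (hodd : Odd (Fintype.card α)) (G : Subgroup (Equiv.Perm α)) (h3 : MulAction.IsMultiplyPretransitive G α 3) (hfix : ∀ g : G, 3 ≤ Nat.card (MulAction.fixedBy α g) → g = 1) : ∃ a : ℕ, 1 ≤ a ∧ Fintype.card α = 2 ^ a + 1 ∧ ∃ (F : Type) (_ : Field F) (_ : Fintype F), Fintype.card F = 2 ^ a ∧ Nonempty (G ≃* Matrix.SpecialLinearGroup (Fin 2) F) := by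
  classical
  obtain ⟨e⟩ : Nonempty (Fin 3 ↪ α) := Function.Embedding.nonempty_of_card_le (by simpa using hm)
  have emb : ∀ x y z : α, x ≠ y → x ≠ z → y ≠ z → ∃ e : Fin 3 ↪ α, e 0 = x ∧ e 1 = y ∧ e 2 = z :=
    fun x y z hxy hxz hyz => ⟨⟨![x, y, z], by
      intro i j h
      fin_cases i <;> fin_cases j <;> first | rfl | simp_all⟩, rfl, rfl, rfl⟩
  let D : Cfsg.Agent.H33.SharpOdd.Data G α :=
    { a := e 0
      b := e 1
      c := e 2
      hab := e.injective.ne (by decide)
      hac := e.injective.ne (by decide)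
      hbc := e.injective.ne (by decide)
      odd := hodd
      fix3 := fun g x y z hxy hxz hyz hx hy hz => by
        refine hfix g ?_
        let ι : Fin 3 → MulAction.fixedBy α g := fun i =>
          ⟨![x, y, z] i, by fin_cases i <;> assumption⟩
        have hι : Function.Injective ι := by
          intro i j h
          have h' : ![x, y, z] i = ![x, y, z] j := congrArg Subtype.val h
          fin_cases i <;> fin_cases j <;> first | rfl | simp_all
        simpa using Nat.card_le_card_of_injective ι hι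
      trans3 := fun x y z x' y' z' h1 h2 h3' h4 h5 h6 => by
        obtain ⟨u, rfl, rfl, rfl⟩ := emb x y z h1 h2 h3'
        obtain ⟨v, rfl, rfl, rfl⟩ := emb x' y' z' h4 h5 h6
        obtain ⟨g, hg⟩ := MulAction.isMultiplyPretransitive_iff.1 h3 u v
        subst hg
        exact ⟨g, rfl, rfl, rfl⟩ }
  set q := Fintype.card α - 1 with hq
  have hα : Fintype.card α = q + 1 := by omega
  have hqeven : Even q := by
    rw [hα] at hodd
    exact (Nat.odd_add_one.mp hodd) |> Nat.not_odd_iff_even.mp
  obtain ⟨F, _, _, hF, ⟨e'⟩⟩ := D.exists_field hα fun g hg => Subtype.ext (Equiv.ext hg)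
  obtain ⟨p, n, hp, hn, hpn⟩ := (FiniteField.isPrimePow_card F)
  rw [hF] at hpn
  have hp2 : p = 2 := by
    have h2 : 2 ∣ p ^ n := hpn ▸ hqeven.two_dvd
    exact ((Nat.prime_dvd_prime_iff_eq Nat.prime_two hp.nat_prime).mp
      (Nat.prime_two.dvd_of_dvd_pow h2)).symm
  subst hp2
  refine ⟨n, hn, by rw [hα, hpn], F, inferInstance, inferInstance, by rw [hF, hpn], ?_⟩
  obtain ⟨φ⟩ := H36.EvenPSL.nonempty_psl_of_pgl hF hqeven (F := F) hF e'
  have hc : Subgroup.center (Matrix.SpecialLinearGroup (Fin 2) F) = ⊥ := by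
    refine Subgroup.eq_bot_of_card_eq _ ?_
    rw [Linear.card_center_SL, Fintype.card_fin, hF]
    refine (Nat.prime_two.coprime_iff_not_dvd.2 ?_)
    have := Fintype.one_lt_card (α := F)
    have := Nat.even_iff.1 hqeven
    omega
  exact ⟨φ.trans ((QuotientGroup.quotientMulEquivOfEq hc).trans QuotientGroup.quotientBot)⟩

end Cfsg.Agent.S4702
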