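import Cfsg.Statements.S0910
import Cfsg.Agent.BlockBasic.Kernel
import Cfsg.Agent.CharBasic.Integral

set_option autoImplicit false
open Cfsg

namespace Cfsg.Agent.S0910

/-- Let G be a non-abelian finite simple group and p a prime. If an irreducible character χ lies in the principal block (relative to a maximal ideal of the algebraic integers containing p) and χ 1 is a power of p, then χ is the principal character. -/
theorem result {G : Type*} [Group G] [Finite G] (p : ℕ) [Fact p.Prime] (M : Ideal Cfsg.AlgInt) (hM : Cfsg.IsPModular p M) [IsSimpleGroup G] (hna : ∃ a b : G, a * b ≠ b * a) (χ : Cfsg.IrrCharacter G) (hχ : χ ∈ Cfsg.principalBlock M G) (k : ℕ) (hdeg : (χ : G → ℂ) 1 = (p : ℂ) ^ k) : (χ : G → ℂ) = fun _ => 1 := by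
  classical
  cases nonempty_fintype G
  obtain ⟨n, ρ, hρ, he⟩ := χ.2
  obtain ⟨K, hKn, hK⟩ := BlockBasic.exists_kernel_subgroup χ
  suffices hKtop : K = ⊤ by
    funext g
    have hall : ∀ g, (χ : G → ℂ) g = (χ : G → ℂ) 1 := fun g => (hK g).1 (hKtop ▸ Subgroup.mem_top g)
    have h0 : BlockBasic.chiLin (χ : G → ℂ) (BlockBasic.ofFun fun _ => (1 : ℂ)) ≠ 0 := by
      simp [BlockBasic.chiLin, hall, BlockBasic.irr_one_ne_zero χ.2]
    have hn := CharBasic.classInner_irr_self χ.2
    rw [CharBasic.classInner_def] at hn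
    simp only [hall, Finset.sum_const, Finset.card_univ, nsmul_eq_mul, Nat.card_eq_fintype_card] at hn
    rw [← mul_assoc, inv_mul_cancel₀ (Nat.cast_ne_zero.2 Fintype.card_ne_zero), one_mul,
      BlockBasic.apply_one_eq_charDegree, Complex.conj_natCast] at hn
    rw [hall g, BlockBasic.apply_one_eq_charDegree]
    have : Cfsg.charDegree (χ : G → ℂ) * Cfsg.charDegree (χ : G → ℂ) = 1 := by exact_mod_cast hn
    exact_mod_cast (Nat.eq_one_of_mul_eq_one_left this)
  by_contra hKtop
  have hKbot : K = ⊥ := hKn.eq_bot_or_eq_top.resolve_right hKtop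
  have hdegree : Module.finrank ℂ (Fin n → ℂ) = p ^ k := by
    have h1 : ρ.character 1 = (p : ℂ) ^ k := by rw [he]; exact hdeg
    rw [Representation.char_one] at h1
    exact_mod_cast h1
  -- a `p`-element with class size prime to `p`
  by_cases hpG : p ∣ Nat.card G
  swap
  · have hk : k = 0 := by
      by_contra hk0
      have := BlockBasic.charDegree_dvd χ
      rw [show Cfsg.charDegree (χ : G → ℂ) = p ^ k by
        have h2 := BlockBasic.apply_one_eq_charDegree χ
        rw [hdeg] at h2
        exact_mod_cast h2.symm] at this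
      exact hpG ((dvd_pow_self p hk0).trans this)
    subst hk
    obtain ⟨a, b, hab⟩ := hna
    have hcomm : ∀ g : G, ∃ c : ℂ, ρ g = c • LinearMap.id := by
      intro g
      obtain ⟨v, hv0, hv⟩ := (finrank_eq_one_iff' (K := ℂ) (V := Fin n → ℂ)).1 (by rw [hdegree, pow_zero])
      obtain ⟨c, hc⟩ := hv (ρ g v)
      refine ⟨c, LinearMap.ext fun w => ?_⟩
      obtain ⟨d, rfl⟩ := hv w
      simp only [map_smul, ← hc, LinearMap.smul_apply, LinearMap.id_apply, smul_smul, mul_comm]
    have hmem : (a * b) * (b * a)⁻¹ ∈ K := by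
      rw [hK, ← he, Representation.char_one, CharBasic.character_eq_finrank_iff]
      obtain ⟨c, hc⟩ := hcomm a
      obtain ⟨d, hd⟩ := hcomm b
      have h2 : ρ (a * b) = ρ (b * a) := by
        rw [map_mul, map_mul, hc, hd]
        ext w; simp [smul_smul, mul_comm]
      rw [map_mul, h2, ← map_mul, mul_inv_cancel, map_one]
      rfl
    rw [hKbot, Subgroup.mem_bot, mul_inv_eq_one] at hmem
    exact hab hmem
  obtain ⟨P⟩ : Nonempty (Sylow p G) := inferInstance
  have hPne : (P : Subgroup G) ≠ ⊥ := P.ne_bot_of_dvd_card hpG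
  haveI : Nontrivial (P : Subgroup G) := (Subgroup.nontrivial_iff_ne_bot _).2 hPne
  have := P.isPGroup'.center_nontrivial
  obtain ⟨⟨z, hzc⟩, hz1⟩ := exists_ne (1 : Subgroup.center (P : Subgroup G))
  have hPC : (P : Subgroup G) ≤ Subgroup.centralizer ({(z : G)} : Set G) := fun w hw => by
    rw [Subgroup.mem_centralizer_singleton_iff]
    exact congrArg Subtype.val (Subgroup.mem_center_iff.1 hzc ⟨w, hw⟩)
  have hidx : ¬ p ∣ (Subgroup.centralizer ({(z : G)} : Set G)).index := fun hd =>
    P.not_dvd_index' Subgroup.index_ne_zero_of_finite (hd.trans (Subgroup.index_dvd_of_le hPC))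
  have hcop : Nat.Coprime (Module.finrank ℂ (Fin n → ℂ))
      (Subgroup.centralizer ({(z : G)} : Set G)).index := by
    rw [hdegree]
    exact ((Fact.out : p.Prime).coprime_iff_not_dvd.2 hidx).pow_left k
  rcases CharBasic.burnside_zero_or_scalar ρ (z : G) hcop with h0 | h0
  · apply hidx
    have h1 := hχ (z : G)
    rw [Cfsg.centralChar, Cfsg.centralChar, mul_one, div_one, show (χ : G → ℂ) (z : G) = 0 from he ▸ h0,
      mul_zero, zero_div, sub_zero] at h1
    exact (BlockBasic.memLocalIdeal_natCast_iff hM _).1 h1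
  · obtain ⟨c, hc⟩ := (CharBasic.norm_character_eq_iff ρ (z : G)).1 h0
    obtain ⟨a, b, hab⟩ := hna
    have hmem : ∀ g : G, (z : G) * g * (z : G)⁻¹ * g⁻¹ ∈ K := fun g => by
      rw [hK, ← he, Representation.char_one, CharBasic.character_eq_finrank_iff]
      have h2 : ρ ((z : G) * g) = ρ (g * (z : G)) := by
        rw [map_mul, map_mul, hc]
        ext w; simp
      rw [map_mul, map_mul, h2, ← map_mul, ← map_mul, mul_inv_cancel_right, mul_inv_cancel, map_one]
      rfl
    have hzcent : (z : G) ∈ Subgroup.center G := Subgroup.mem_center_iff.2 fun g => by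
      have := hmem g
      rw [hKbot, Subgroup.mem_bot, mul_inv_eq_one, mul_inv_eq_iff_eq_mul] at this
      exact this.symm
    rcases (inferInstance : (Subgroup.center G).Normal).eq_bot_or_eq_top with hb | ht
    · rw [hb, Subgroup.mem_bot] at hzcent
      exact hz1 (Subtype.ext (Subtype.ext hzcent))
    · exact hab ((Subgroup.mem_center_iff.1 (ht ▸ Subgroup.mem_top b : b ∈ Subgroup.center G)) a)

end Cfsg.Agent.S0910
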