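import Cfsg.Statements.S4706
import Cfsg.Agent.H84.PrimeDegreeTriples
import Cfsg.Agent.S4702

set_option autoImplicit false
open Cfsg

namespace Cfsg.Agent.S4706

/-- Let p > 2 be a prime and G a permutation group on p letters whose Sylow p-subgroup P has normalizer of order 2p. Then either P is normal in G, or p − 1 = 2^a for some a and G is isomorphic to SL(2, 2^a). -/
theorem result {α : Type*} [Fintype α] [DecidableEq α] {p : ℕ} [Fact p.Prime] (hp : 2 < p) (hα : Fintype.card α = p) (G : Subgroup (Equiv.Perm α)) (P : Sylow p G) (hN : Nat.card (Subgroup.normalizer ((P : Subgroup G) : Set G)) = 2 * p) : (P : Subgroup G).Normal ∨ ∃ (a : ℕ) (F : Type) (_ : Field F) (_ : Fintype F), p = 2 ^ a + 1 ∧ Fintype.card F = 2 ^ a ∧ Nonempty (G ≃* Matrix.SpecialLinearGroup (Fin 2) F) := by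
  classical
  by_cases hnn : (P : Subgroup G).Normal
  · exact Or.inl hnn
  refine Or.inr ?_
  have hp3 : 3 < p := by
    by_contra hle
    obtain rfl : p = 3 := by omega
    apply hnn
    have hG : Nat.card G ≤ 6 := by
      refine (Nat.card_le_card_of_injective (Subgroup.subtype G) (Subgroup.subtype_injective G)).trans ?_
      rw [Nat.card_eq_fintype_card, Fintype.card_perm, hα]; rfl
    have htop : Subgroup.normalizer ((P : Subgroup G) : Set G) = ⊤ := by
      refine Subgroup.eq_top_of_card_eq _ (le_antisymm (Subgroup.card_le_card_group _) ?_)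
      rw [hN]; omega
    exact Subgroup.normalizer_eq_top_iff.1 htop
  have h : H84.TwoP.Hyp p G P := ⟨hα, hp3, hN⟩
  obtain ⟨h3, hfix⟩ : MulAction.IsMultiplyPretransitive G α 3 ∧
      ∀ g : G, 3 ≤ Nat.card (MulAction.fixedBy α g) → g = 1 := by
    haveI : Fintype G := Fintype.ofFinite _
    rcases Nat.lt_or_ge p 7 with hlt | hge
    · obtain rfl : p = 5 := by
        rcases Nat.lt_or_ge p 5 with h4 | h4
        · exact absurd (Fact.out : p.Prime) (by rw [show p = 4 by omega]; norm_num)
        · by_contra h5
          exact absurd (Fact.out : p.Prime) (by rw [show p = 6 by omega]; norm_num)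
      exact H84.TwoP.five_case h hnn
    · exact h.eq_one_of_three_fixed hge hnn
  obtain ⟨a, -, hcard, F, i1, i2, hF, he⟩ := S4702.result (by omega)
    (hα ▸ (Fact.out : p.Prime).odd_of_ne_two (by omega)) G h3 hfix
  exact ⟨a, F, i1, i2, hα ▸ hcard, hF, he⟩

end Cfsg.Agent.S4706
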