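import Cfsg.Statements.S4146
import Cfsg.Agent.Hall.FourSizesTwoPrime
-- import your own Cfsg.Agent.* helpers here

set_option autoImplicit false
open Cfsg

namespace Cfsg.Agent.S4146

/-- Let G be a finite group whose conjugacy class sizes are exactly 1, n, m and nm for coprime integers n, m > 1. Then G is nilpotent and n and m are prime powers. -/
theorem result {G : Type*} [Group G] [Finite G] (n m : ℕ) (hn : 1 < n) (hm : 1 < m) (hcop : n.Coprime m)
    (h : Set.range (fun x : G => (Subgroup.centralizer ({x} : Set G)).index) = ({1, n, m, n * m} : Set ℕ)) :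
    Group.IsNilpotent G ∧ IsPrimePow n ∧ IsPrimePow m := by
  have F : Hall.FourSizes.Four n m G := by
    have hmem : ∀ k, k ∈ Set.range (fun x : G => (Subgroup.centralizer ({x} : Set G)).index) ↔
        k = 1 ∨ k = n ∨ k = m ∨ k = n * m := fun k => by rw [h]; simp
    refine ⟨hn, hm, hcop, fun g => ?_, (hmem n).2 (by simp), (hmem m).2 (by simp),
      (hmem (n * m)).2 (by simp)⟩
    rcases (hmem _).1 ⟨g, rfl⟩ with h1 | h1 | h1 | h1
    · exact Or.inl (Hall.FourSizes.index_C_eq_one.mp h1)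
    · exact Or.inr (Or.inl h1)
    · exact Or.inr (Or.inr (Or.inl h1))
    · exact Or.inr (Or.inr (Or.inr h1))
  obtain ⟨s, a, hs, ha, hma⟩ := F.exists_prime_pow
  obtain ⟨r, b, hr, hb, hnb⟩ := F.symm.exists_prime_pow
  have hrs : r ≠ s := by
    rintro rfl
    have h1 : r ∣ Nat.gcd n m :=
      Nat.dvd_gcd (hnb ▸ dvd_pow_self r hb.ne') (hma ▸ dvd_pow_self r ha.ne')
    rw [hcop] at h1
    exact hr.ne_one (Nat.dvd_one.mp h1)
  have T : Hall.FourSizes.TP r s n m G := ⟨F, hr, hs, hrs, ⟨b, hnb⟩, ⟨a, hma⟩⟩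
  exact ⟨T.nilpotent, hnb ▸ hr.isPrimePow.pow hb.ne', hma ▸ hs.isPrimePow.pow ha.ne'⟩

end Cfsg.Agent.S4146
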