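import Cfsg.Agent.H76.ClassProportion
import Cfsg.Statements.S4160

set_option autoImplicit false
open Cfsg

namespace Cfsg.Agent.S4160

theorem result {G : Type*} [Group G] [Finite G] (p q : ℕ) (hp : p.Prime) (hq : q.Prime) (hpq : p ≠ q)
    (hp' : ∃ x : G, p ∣ (Subgroup.centralizer ({x} : Set G)).index) (hq' : ∃ x : G, q ∣ (Subgroup.centralizer ({x} : Set G)).index) (h : ∀ x : G, ¬ p * q ∣ (Subgroup.centralizer ({x} : Set G)).index) :
    Cfsg.HasNormalPComplement p G ∨ Cfsg.HasNormalPComplement q G := by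
  have := Fact.mk hp
  have := Fact.mk hq
  by_contra hcon
  rw [not_or] at hcon
  set A := {x : G | p ∣ (Subgroup.centralizer ({x} : Set G)).index} with hA
  set B := {x : G | q ∣ (Subgroup.centralizer ({x} : Set G)).index} with hB
  have h1 : Nat.card G ≤ 2 * A.ncard := H76.card_le_two_mul_card_index_dvd hcon.1
  have h2 : Nat.card G ≤ 2 * B.ncard := H76.card_le_two_mul_card_index_dvd hcon.2
  have hdisj : Disjoint A B := Set.disjoint_left.mpr fun x hxA hxB =>
    h x (((Nat.coprime_primes hp hq).mpr hpq).mul_dvd_of_dvd_of_dvd hxA hxB)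
  have hsub : A ∪ B ⊆ ({1} : Set G)ᶜ := by
    intro x hx h1x
    rw [Set.mem_singleton_iff] at h1x
    subst h1x
    rcases hx with hx | hx
    · exact H76.not_dvd_index_centralizer_one hp hx
    · exact H76.not_dvd_index_centralizer_one hq hx
  have h3 := Set.ncard_le_ncard hsub
  rw [Set.ncard_union_eq hdisj] at h3
  have h4 := Set.ncard_add_ncard_compl ({1} : Set G)
  rw [Set.ncard_singleton] at h4
  omega

end Cfsg.Agent.S4160
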