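import Cfsg.Statements.S0041
import Cfsg.Agent.H24.FPF
import Mathlib.GroupTheory.SpecificGroups.ZGroup

set_option autoImplicit false
open Cfsg

namespace Cfsg.Agent.S0041

/-- A group acting on a nontrivial abelian group so that no nonidentity element has a nonidentity fixed point is cyclic, provided it is abelian or its order is a product of two (possibly equal) primes. -/
theorem result {G : Type*} [Group G] [Finite G] (A V : Subgroup G) [IsMulCommutative V]
    (hV : V ≠ ⊥) (hAV : A ≤ Subgroup.normalizer (V : Set G)) (hfpf : ∀ a ∈ A, a ≠ 1 → V ⊓ Subgroup.centralizer {a} = ⊥)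
    (hA : IsMulCommutative A ∨ ∃ p q : ℕ, p.Prime ∧ q.Prime ∧ Nat.card A = p * q) : IsCyclic A := by
  open scoped IsMulCommutative in
  have := (Subgroup.nontrivial_iff_ne_bot V).2 hV
  let φ : A →* MulAut V := V.normalizerMonoidHom.comp (Subgroup.inclusion hAV)
  have hf : ∀ a : A, a ≠ 1 → ∀ v : V, φ a v = v → v = 1 := by
    intro a ha v hv
    have hv' : (a : G) * v * (a : G)⁻¹ = v := congrArg Subtype.val hv
    have h1 : (v : G) ∈ V ⊓ Subgroup.centralizer {(a : G)} :=
      ⟨v.2, Subgroup.mem_centralizer_singleton_iff.2 (mul_inv_eq_iff_eq_mul.1 hv').symm⟩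
    rw [hfpf a a.2 (fun h => ha (Subtype.ext h)), Subgroup.mem_bot] at h1
    exact Subtype.ext h1
  open scoped IsMulCommutative in
  rcases hA with hA | ⟨p, q, hp, hq, hc⟩
  · by_contra hnc
    have hnil : Group.IsNilpotent A := inferInstance
    have hnz : ¬ IsZGroup A := fun h => hnc inferInstance
    obtain ⟨p, hp, P, hP⟩ : ∃ (p : ℕ) (_ : p.Prime) (P : Sylow p A), ¬ IsCyclic (P : Subgroup A) := by
      by_contra h
      push Not at h
      exact hnz ⟨h⟩
    obtain ⟨B, hB, hexp⟩ := Cfsg.Agent.H24.exists_elementary_sq hp P.2 hP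
    have hcyc : IsCyclic B := Cfsg.Agent.H24.isCyclic_of_card_mul_prime
      (φ.comp ((P : Subgroup A).subtype.comp B.subtype))
      (fun b hb => hf _ fun h => hb (Subtype.ext (Subtype.ext h))) hp hp le_rfl (by rw [hB, sq])
    obtain ⟨g, hg⟩ := hcyc.exists_generator
    have hgc := orderOf_eq_card_of_forall_mem_zpowers hg
    rw [hB] at hgc
    have h1 : orderOf g ∣ p := orderOf_dvd_of_pow_eq_one (Subtype.ext (hexp g g.2))
    rw [hgc] at h1
    exact absurd (Nat.le_of_dvd hp.pos h1) (not_le.2 (by rw [sq]; exact lt_mul_of_one_lt_left hp.pos hp.one_lt))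
  · rcases le_total p q with h | h
    · exact Cfsg.Agent.H24.isCyclic_of_card_mul_prime φ hf hp hq h hc
    · exact Cfsg.Agent.H24.isCyclic_of_card_mul_prime φ hf hq hp h (hc.trans (mul_comm p q))

end Cfsg.Agent.S0041
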