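import Cfsg.Statements.S0087
import Cfsg.Agent.H25.Transfer

set_option autoImplicit false
open Cfsg

namespace Cfsg.Agent.S0087

open scoped commutatorElement

/-- An abelian Hall subgroup is conjugate, inside any subgroup containing both, to every abelian
subgroup of the same order. -/
theorem exists_conj {G : Type*} [Group G] [Finite G] (H : Subgroup G)
    (hHall : Nat.Coprime (Nat.card H) H.index) (hc : H ≤ Subgroup.centralizer (H : Set G)) :
    ∀ (m : ℕ) (K C : Subgroup G), Nat.card K = Nat.card H →
      K ≤ Subgroup.centralizer (K : Set G) → H ≤ C → K ≤ C →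
      Nat.card H - Nat.card (H ⊓ K : Subgroup G) ≤ m →
      ∃ c ∈ C, K.map (MulAut.conj c).toMonoidHom = H := by
  intro m
  induction m with
  | zero =>
    intro K C hK hKc hHC hKC hm
    refine ⟨1, one_mem C, ?_⟩
    have h1 : H ⊓ K = H := Subgroup.eq_of_le_of_card_ge inf_le_left (by omega)
    have h2 : H ≤ K := inf_eq_left.mp h1
    have h3 : H = K := Subgroup.eq_of_le_of_card_ge h2 hK.le
    subst h3
    ext a; simp
  | succ m ih =>
    intro K C hK hKc hHC hKC hm
    set D := H ⊓ K with hD
    by_cases hDH : Nat.card D = Nat.card H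
    · exact ih K C hK hKc hHC hKC (by rw [← hD]; omega)
    obtain ⟨p, hp, hpd⟩ : ∃ p : ℕ, p.Prime ∧
        (Nat.card D).factorization p < (Nat.card H).factorization p := by
      by_contra hno
      push Not at hno
      apply hDH
      refine Nat.dvd_antisymm (Subgroup.card_dvd_of_le inf_le_left) ?_
      refine (Nat.factorization_le_iff_dvd Nat.card_pos.ne' Nat.card_pos.ne').mp fun q => ?_
      by_cases hq : q.Prime
      · exact hno q hq
      · simp [Nat.factorization_eq_zero_of_not_prime _ hq]
    have := Fact.mk hp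
    have hpH : p ∣ Nat.card H := Nat.dvd_of_factorization_pos (by omega)
    have hpi : (Nat.card G).factorization p = (Nat.card H).factorization p := by
      rw [← H.card_mul_index, Nat.factorization_mul Nat.card_pos.ne'
        Subgroup.index_ne_zero_of_finite, Finsupp.add_apply,
        Nat.factorization_eq_zero_of_not_dvd (n := H.index) fun hd => hp.not_dvd_one
          (hHall.gcd_eq_one ▸ Nat.dvd_gcd hpH hd), add_zero]
    let P₀ : Sylow p H := default
    let R₀ : Sylow p K := default
    let P : Sylow p G := Sylow.ofCard ((P₀ : Subgroup H).map H.subtype)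
      (by rw [Subgroup.card_map_of_injective H.subtype_injective, hpi]
          exact P₀.card_eq_multiplicity)
    let R : Sylow p G := Sylow.ofCard ((R₀ : Subgroup K).map K.subtype)
      (by rw [Subgroup.card_map_of_injective K.subtype_injective, hpi, ← hK]
          exact R₀.card_eq_multiplicity)
    have hPH : (P : Subgroup G) ≤ H := Subgroup.map_subtype_le _
    have hRK : (R : Subgroup G) ≤ K := Subgroup.map_subtype_le _
    let C' := C ⊓ Subgroup.centralizer (D : Set G)
    have hHC' : H ≤ C' := le_inf hHC (hc.trans (Subgroup.centralizer_le inf_le_left))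
    have hKC' : K ≤ C' := le_inf hKC (hKc.trans (Subgroup.centralizer_le inf_le_right))
    obtain ⟨c, hcc⟩ := MulAction.exists_smul_eq C' (R.subtype (hRK.trans hKC'))
      (P.subtype (hPH.trans hHC'))
    rw [Sylow.smul_subtype] at hcc
    have hcc' : (c : G) • R = P := Sylow.subtype_injective hcc
    let K' := K.map (MulAut.conj (c : G)).toMonoidHom
    have hPK' : (P : Subgroup G) ≤ K' := by
      rw [← hcc']
      rintro _ ⟨r, hr, rfl⟩
      exact ⟨r, hRK hr, rfl⟩
    have hDK' : D ≤ K' := by
      intro d hd
      refine ⟨d, hd.2, ?_⟩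
      have := c.2.2 d hd
      simp [mul_inv_eq_iff_eq_mul, this]
    have hK'c : K' ≤ Subgroup.centralizer (K' : Set G) := by
      rintro _ ⟨a, ha, rfl⟩ _ ⟨b, hb, rfl⟩
      simp only [MulEquiv.toMonoidHom_eq_coe, MonoidHom.coe_coe, MulAut.conj_apply,
        conj_mul, hKc ha b hb]
    have hK'card : Nat.card K' = Nat.card H := by
      rw [Subgroup.card_map_of_injective (MulAut.conj (c : G)).injective, hK]
    have hK'C : K' ≤ C := by
      rintro _ ⟨a, ha, rfl⟩
      exact mul_mem (mul_mem c.2.1 (hKC ha)) (inv_mem c.2.1)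
    have hgrow : Nat.card D < Nat.card (H ⊓ K' : Subgroup G) := by
      refine lt_of_le_of_ne (Subgroup.card_le_of_le (le_inf inf_le_left hDK')) fun he => ?_
      have h1 : Nat.card P ∣ Nat.card D :=
        he ▸ Subgroup.card_dvd_of_le (le_inf hPH hPK')
      rw [P.card_eq_multiplicity, hpi] at h1
      have := (Nat.Prime.pow_dvd_iff_le_factorization hp Nat.card_pos.ne').mp h1
      omega
    obtain ⟨c', hc', he⟩ := ih K' C hK'card hK'c hHC hK'C (by omega)
    refine ⟨c' * c, mul_mem hc' c.2.1, ?_⟩
    rw [← he, Subgroup.map_map]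
    congr 1
    ext a
    simp [mul_assoc]


/-- A Hall subgroup that is central in its normalizer has a normal complement. -/
theorem result {G : Type*} [Group G] [Finite G] (H : Subgroup G) (hHall : Nat.Coprime (Nat.card H) H.index) (h : Subgroup.normalizer (H : Set G) ≤ Subgroup.centralizer (H : Set G)) : ∃ N : Subgroup G, N.Normal ∧ N.IsComplement' H := by
  have hc : H ≤ Subgroup.centralizer (H : Set G) := Subgroup.le_normalizer.trans h
  have hfus : ∀ x ∈ H, ∀ g : G, g * x * g⁻¹ ∈ H → g * x * g⁻¹ = x := by
    intro x hx g hy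
    set y := g * x * g⁻¹ with hyd
    let C := Subgroup.centralizer ({y} : Set G)
    let K := H.map (MulAut.conj g).toMonoidHom
    have hyK : y ∈ K := ⟨x, hx, rfl⟩
    have hKc : K ≤ Subgroup.centralizer (K : Set G) := by
      rintro _ ⟨a, ha, rfl⟩ _ ⟨b, hb, rfl⟩
      simp only [MulEquiv.toMonoidHom_eq_coe, MonoidHom.coe_coe, MulAut.conj_apply,
        conj_mul, hc ha b hb]
    have hKC : K ≤ C := fun a ha => Subgroup.mem_centralizer_singleton_iff.mpr (hKc ha y hyK).symm
    have hHC : H ≤ C := fun a ha => Subgroup.mem_centralizer_singleton_iff.mpr (hc ha y hy).symm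
    have hKcard : Nat.card K = Nat.card H :=
      Subgroup.card_map_of_injective (MulAut.conj g).injective
    obtain ⟨c, hcC, hcK⟩ := exists_conj H hHall hc _ K C hKcard hKc hHC hKC le_rfl
    have hn : c * g ∈ Subgroup.normalizer (H : Set G) := by
      rw [Subgroup.mem_normalizer_iff_map_conj_eq]
      conv_rhs => rw [← hcK]
      simp only [K, Subgroup.map_map]
      congr 1
      ext a
      simp [mul_assoc]
    have h1 : x * (c * g) = c * g * x := h hn x hx
    have h2 : c * y = y * c := Subgroup.mem_centralizer_singleton_iff.mp hcC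
    have h3 : c * y * c⁻¹ = x := by
      calc c * y * c⁻¹ = (c * g * x) * g⁻¹ * c⁻¹ := by rw [hyd]; group
        _ = x := by rw [← h1]; group
    rw [h2, mul_inv_cancel_right] at h3
    exact h3
  have hfoc : H.focalSubgroup = ⊥ := by
    rw [Subgroup.focalSubgroup_def, Subgroup.closure_eq_bot_iff]
    rintro _ ⟨hm, x, hx, u, rfl⟩
    have h1 : u * x⁻¹ * u⁻¹ ∈ H := by
      have := mul_mem (inv_mem hx) hm
      simpa [commutatorElement_def, mul_assoc] using this
    have h2 := hfus x⁻¹ (inv_mem hx) u h1
    rw [Set.mem_singleton_iff, commutatorElement_def, mul_assoc, mul_assoc,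
      ← mul_assoc u, h2, mul_inv_cancel]
  have hcop : Nat.Coprime H.index (⁅H, H⁆.relIndex H) :=
    hHall.symm.coprime_dvd_right (Subgroup.relIndex_dvd_card _ _)
  obtain ⟨h1, h2⟩ := H25.transferFocal_ker H hcop
  refine ⟨H.transferFocal.ker, inferInstance, ?_⟩
  refine Subgroup.isComplement'_of_disjoint_and_mul_eq_univ
    (disjoint_iff.mpr (h1.trans hfoc)) ?_
  rw [← Subgroup.normal_mul, h2, Subgroup.coe_top]

end Cfsg.Agent.S0087
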