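import Cfsg.Statements.S4033
import Cfsg.Agent.Hall.TwoClassSizes
import Cfsg.Agent.Hall.ClassSizeNilpotent
-- import your own Cfsg.Agent.* helpers here

set_option autoImplicit false
set_option linter.style.haveILetI false
open Cfsg

namespace Cfsg.Agent.S4033

open Hall Hall.TwoSizes Subgroup

theorem eq_of_unique_nc {G : Type*} [Group G] [Finite G] {p q : ℕ} [Fact p.Prime] [Fact q.Prime]
    (hqp : q ≠ p) (hu : ∀ l : ℕ, l.Prime → l ≠ p → l ≠ q → ¬ HasNC l G) :
    ∃ (P : Sylow p G) (Q : Sylow q G) (A : Subgroup G),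
      A ≤ Subgroup.center G ∧
        Nat.card ↥((P : Subgroup G) ⊔ (Q : Subgroup G)) = Nat.card P * Nat.card Q ∧
        ((P : Subgroup G) ⊔ (Q : Subgroup G)).Normal ∧
        ((P : Subgroup G) ⊔ (Q : Subgroup G)) ⊓ A = ⊥ ∧
        ((P : Subgroup G) ⊔ (Q : Subgroup G)) ⊔ A = ⊤ := by
  obtain ⟨P⟩ := (inferInstance : Nonempty (Sylow p G))
  obtain ⟨Q⟩ := (inferInstance : Nonempty (Sylow q G))
  let A : Subgroup G :=
    { carrier := {x | x ∈ center G ∧ (orderOf x).Coprime (p * q)}
      one_mem' := ⟨one_mem _, by simp⟩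
      mul_mem' := by
        rintro x y ⟨hx, hxc⟩ ⟨hy, hyc⟩
        refine ⟨mul_mem hx hy, ?_⟩
        exact (Nat.Coprime.mul_left hxc hyc).coprime_dvd_left
          ((Commute.orderOf_mul_dvd_lcm (mem_center_iff.mp hy x)).trans (Nat.lcm_dvd_mul _ _))
      inv_mem' := by
        rintro x ⟨hx, hxc⟩
        exact ⟨inv_mem hx, by rwa [orderOf_inv]⟩ }
  have hAZ : A ≤ center G := fun x hx => hx.1
  haveI : A.Normal := ⟨fun n hn g => by
    rw [mem_center_iff.mp (hAZ hn) g, mul_inv_cancel_right]; exact hn⟩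
  have hcard : ∀ l : ℕ, l.Prime → l ∣ Nat.card A → l ≠ p ∧ l ≠ q := by
    intro l hl hlA
    haveI := Fact.mk hl
    obtain ⟨x, hx⟩ := exists_prime_orderOf_dvd_card' (G := A) l hlA
    have h1 := x.2.2
    rw [Subgroup.orderOf_coe, hx] at h1
    constructor <;> rintro rfl
    · exact hl.coprime_iff_not_dvd.mp h1 (dvd_mul_right _ _)
    · exact hl.coprime_iff_not_dvd.mp h1 (dvd_mul_left _ _)
  have hindex : ∀ l : ℕ, l.Prime → l ∣ A.index → l = p ∨ l = q := by
    intro l hl hlA
    by_contra hne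
    push Not at hne
    haveI := Fact.mk hl
    obtain ⟨L⟩ := (inferInstance : Nonempty (Sylow l G))
    refine L.not_dvd_index (hlA.trans (index_dvd_of_le fun x hx => ?_))
    have hxl : IsQ l x := IsQ.of_mem L.2 hx
    refine ⟨by_contra fun h => hu l hl hne.1 hne.2 ⟨x, hxl, h⟩, ?_⟩
    exact (hxl.coprime_prime hl Fact.out hne.1).mul_right (hxl.coprime_prime hl Fact.out hne.2)
  have hcop : (Nat.card A).Coprime A.index := by
    refine Nat.coprime_of_dvd fun l hl h1 h2 => ?_
    rcases hindex l hl h2 with h | h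
    · exact (hcard l hl h1).1 h
    · exact (hcard l hl h1).2 h
  obtain ⟨K, hK⟩ := exists_right_complement'_of_coprime hcop
  have hKc : Nat.card K = A.index := by
    have h1 := hK.card_mul
    have h2 := A.card_mul_index
    exact Nat.eq_of_mul_eq_mul_left Nat.card_pos (h1.trans h2.symm)
  have hKA : A ⊔ K = ⊤ := hK.sup_eq_top
  haveI hKn : K.Normal := by
    refine normalizer_eq_top_iff.mp (eq_top_iff.mpr (hKA ▸ sup_le ?_ le_normalizer))
    intro a ha
    rw [mem_normalizer_iff]
    intro k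
    have h := mem_center_iff.mp (hAZ ha) k
    rw [← h, mul_inv_cancel_right]
  have hKi : K.index = Nat.card A := by
    have h1 := hK.card_mul
    have h2 := K.card_mul_index
    exact Nat.eq_of_mul_eq_mul_left (n := Nat.card K) Nat.card_pos
      (by rw [h2, ← h1, mul_comm])
  have hle : ∀ (l : ℕ) [Fact l.Prime] (L : Sylow l G), (l = p ∨ l = q) → (L : Subgroup G) ≤ K := by
    intro l _ L hl x hx
    rw [← QuotientGroup.eq_one_iff, ← orderOf_eq_one_iff]
    refine Nat.eq_one_of_dvd_coprimes (k := orderOf (x : G ⧸ K)) (a := orderOf x)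
      (b := Nat.card A) ?_ (orderOf_map_dvd (QuotientGroup.mk' K) x) ?_
    · obtain ⟨j, hj⟩ := (IsQ.of_mem L.2 hx).orderOf_eq Fact.out
      rw [hj]
      refine Nat.Coprime.pow_left j ((Fact.out : l.Prime).coprime_iff_not_dvd.mpr fun h => ?_)
      rcases hl with h' | h'
      · exact (hcard l Fact.out h).1 h'
      · exact (hcard l Fact.out h).2 h'
    · rw [← hKi, index_eq_card]
      exact orderOf_dvd_natCard _
  have hsup : (P : Subgroup G) ⊔ (Q : Subgroup G) = K := by
    have hsle : (P : Subgroup G) ⊔ (Q : Subgroup G) ≤ K :=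
      sup_le (hle p P (Or.inl rfl)) (hle q Q (Or.inr rfl))
    refine eq_of_le_of_card_ge hsle (Nat.le_of_dvd Nat.card_pos ?_)
    rw [Nat.dvd_iff_prime_pow_dvd_dvd]
    intro l k hl hlk
    rcases Nat.eq_zero_or_pos k with hk | hk
    · simp [hk]
    have hlA : l ∣ A.index := hKc ▸ (dvd_pow_self l hk.ne').trans hlk
    have hlG : l ^ k ∣ Nat.card G := hlk.trans (card_subgroup_dvd_card K)
    rcases hindex l hl hlA with h | h <;> subst h
    · exact (P.pow_dvd_card_of_pow_dvd_card hlG).trans (card_dvd_of_le le_sup_left)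
    · exact (Q.pow_dvd_card_of_pow_dvd_card hlG).trans (card_dvd_of_le le_sup_right)
  refine ⟨P, Q, A, hAZ, ?_, ?_, ?_, ?_⟩
  · refine Nat.dvd_antisymm ?_ ?_
    · rw [Nat.dvd_iff_prime_pow_dvd_dvd]
      intro l k hl hlk
      rcases Nat.eq_zero_or_pos k with hk | hk
      · simp [hk]
      rw [hsup] at hlk
      have hlA : l ∣ A.index := hKc ▸ (dvd_pow_self l hk.ne').trans hlk
      have hlG : l ^ k ∣ Nat.card G := hlk.trans (card_subgroup_dvd_card K)
      rcases hindex l hl hlA with h | h <;> subst h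
      · exact (P.pow_dvd_card_of_pow_dvd_card hlG).trans (dvd_mul_right _ _)
      · exact (Q.pow_dvd_card_of_pow_dvd_card hlG).trans (dvd_mul_left _ _)
    · refine Nat.Coprime.mul_dvd_of_dvd_of_dvd ?_ (card_dvd_of_le le_sup_left)
        (card_dvd_of_le le_sup_right)
      exact IsPGroup.coprime_card_of_ne p q hqp.symm _ _ P.2 Q.2
  · rw [hsup]; exact hKn
  · rw [hsup, inf_comm]; exact hK.disjoint.eq_bot
  · rw [hsup, sup_comm]; exact hKA

/-- Let G be a finite group and p a prime, and suppose the conjugacy classes of p-regular elements of G (elements of order prime to p) have exactly two distinct sizes. Then either G has an abelian p-complement (an abelian subgroup of order prime to p and p-power index), or there are a prime q ≠ p, a Sylow p-subgroup P, a Sylow q-subgroup Q and a central subgroup A such that PQ is a normal subgroup of order #P·#Q and G is the internal direct product PQ × A. -/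
theorem result {G : Type*} [Group G] [Finite G] {p : ℕ} (hp : p.Prime)
    (h2 : Set.ncard (Set.range fun x : {x : G // (orderOf x).Coprime p} => (ConjClasses.mk (x : G)).carrier.ncard) = 2) :
    (∃ H : Subgroup G, IsMulCommutative H ∧ ¬ p ∣ Nat.card H ∧ ∃ k : ℕ, H.index = p ^ k) ∨
    (∃ (q : ℕ) (_ : Fact q.Prime) (P : Sylow p G) (Q : Sylow q G) (A : Subgroup G), q ≠ p ∧
        A ≤ Subgroup.center G ∧ Nat.card ↥((P : Subgroup G) ⊔ (Q : Subgroup G)) = Nat.card P * Nat.card Q ∧
        ((P : Subgroup G) ⊔ (Q : Subgroup G)).Normal ∧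
        ((P : Subgroup G) ⊔ (Q : Subgroup G)) ⊓ A = ⊥ ∧ ((P : Subgroup G) ⊔ (Q : Subgroup G)) ⊔ A = ⊤) := by
  haveI := Fact.mk hp
  have hci : ∀ x : G, (ConjClasses.mk x).carrier.ncard =
      (Subgroup.centralizer ({x} : Set G)).index := fun x => by
    rw [← ClassSizeNilpotent.card_carrier_mk x, Nat.card_coe_set_eq]
  have h1 : (1 : ℕ) ∈ Set.range fun x : {x : G // (orderOf x).Coprime p} =>
      (ConjClasses.mk (x : G)).carrier.ncard := by
    refine ⟨⟨1, by simp⟩, ?_⟩
    simp only [hci]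
    rw [index_eq_one, eq_top_iff]
    intro g _
    rw [mem_centralizer_singleton_iff]
    simp
  obtain ⟨m, hm, hrange⟩ : ∃ m, m ≠ 1 ∧ (Set.range fun x : {x : G // (orderOf x).Coprime p} =>
      (ConjClasses.mk (x : G)).carrier.ncard) = {1, m} := by
    obtain ⟨a, b, hab, he⟩ := Set.ncard_eq_two.mp h2
    rw [he] at h1
    rcases h1 with h | h
    · exact ⟨b, fun hb => hab (h.symm.trans hb.symm), by rw [he, h]⟩
    · rw [Set.mem_singleton_iff] at h
      exact ⟨a, fun ha => hab (ha.trans h), by rw [he, h, Set.pair_comm]⟩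
  have hcen : ∀ x : G, x ∈ center G ↔ (Subgroup.centralizer ({x} : Set G)).index = 1 := by
    intro x
    rw [index_eq_one, eq_top_iff, mem_center_iff]
    simp only [SetLike.le_def, mem_top, true_implies, mem_centralizer_singleton_iff]
  have S : Setup p m G := by
    refine ⟨hp, fun x hx => ?_⟩
    have hmem : (Subgroup.centralizer ({x} : Set G)).index ∈ ({1, m} : Set ℕ) :=
      hrange ▸ ⟨⟨x, hx⟩, hci x⟩
    rcases hmem with h | h
    · exact Or.inl ((hcen x).mpr h)
    · exact Or.inr h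
  obtain ⟨x0, hx0, hx0Z⟩ : ∃ x : G, (orderOf x).Coprime p ∧ x ∉ center G := by
    obtain ⟨⟨x, hx⟩, hxm⟩ : m ∈ Set.range fun x : {x : G // (orderOf x).Coprime p} =>
        (ConjClasses.mk (x : G)).carrier.ncard := by rw [hrange]; simp
    simp only [hci] at hxm
    exact ⟨x, hx, fun h => hm (hxm ▸ (hcen x).mp h)⟩
  have hNC : ∀ l : ℕ, l.Prime → l ≠ p → l ∣ m → HasNC l G := by
    intro l hl hlp hlm
    haveI := Fact.mk hl
    by_contra h
    obtain ⟨L⟩ := (inferInstance : Nonempty (Sylow l G))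
    refine L.not_dvd_index (hlm.trans ?_)
    rw [← (S.idx x0 hx0).resolve_left hx0Z]
    refine index_dvd_of_le fun y hy => ?_
    have hyZ : y ∈ center G := by_contra fun hyZ => h ⟨y, IsQ.of_mem L.2 hy, hyZ⟩
    rw [mem_centralizer_singleton_iff]
    exact (mem_center_iff.mp hyZ x0).symm
  obtain ⟨q, hq, hqp, hqNC⟩ : ∃ q : ℕ, q.Prime ∧ q ≠ p ∧ HasNC q G := by
    by_contra hno
    push Not at hno
    refine hx0Z ?_
    have hd : orderOf x0 ∣ Nat.card (zpowers x0 ⊓ center G : Subgroup G) := by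
      rw [Nat.dvd_iff_prime_pow_dvd_dvd]
      intro l k hl hlk
      rcases Nat.eq_zero_or_pos k with hk | hk
      · simp [hk]
      have hlp : l ≠ p := fun h => hl.coprime_iff_not_dvd.mp
        (hx0.coprime_dvd_left ((dvd_pow_self l hk.ne').trans hlk)) (dvd_of_eq h)
      set y := x0 ^ (orderOf x0 / l ^ k)
      have hy : orderOf y = l ^ k := by
        rw [orderOf_pow_orderOf_div (orderOf_pos x0).ne' hlk]
      have hyZ : y ∈ center G := by_contra fun h =>
        hno l hl hlp ⟨y, ⟨k, by rw [← hy, pow_orderOf_eq_one]⟩, h⟩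
      have hmem : y ∈ zpowers x0 ⊓ center G :=
        mem_inf.mpr ⟨pow_mem (mem_zpowers x0) _, hyZ⟩
      rw [← hy, ← Subgroup.orderOf_mk y hmem]
      exact orderOf_dvd_natCard _
    have h3 : zpowers x0 ⊓ center G = zpowers x0 :=
      eq_of_le_of_card_ge inf_le_left (by
        rw [Nat.card_zpowers]; exact Nat.le_of_dvd Nat.card_pos hd)
    exact ((inf_eq_left.mp h3) (mem_zpowers x0))
  haveI := Fact.mk hq
  by_cases hu : ∀ l : ℕ, l.Prime → l ≠ p → l ≠ q → ¬ HasNC l G
  · right
    obtain ⟨P, Q, A, h1, h2, h3, h4, h5⟩ := eq_of_unique_nc hqp hu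
    exact ⟨q, inferInstance, P, Q, A, hqp, h1, h2, h3, h4, h5⟩
  · left
    push Not at hu
    obtain ⟨r, hr, hrp, hrq, hrNC⟩ := hu
    haveI := Fact.mk hr
    refine exists_abelian_complement hp fun x hx => ?_
    rcases S.idx x hx with h | h
    · exact ⟨0, by rw [pow_zero]; exact (hcen x).mp h⟩
    · refine ⟨_, Nat.eq_prime_pow_of_unique_prime_dvd index_ne_zero_of_finite
        fun {l} hl hld => ?_⟩
      by_contra hlp
      rw [h] at hld
      haveI := Fact.mk hl
      by_cases hlq : l = q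
      · exact not_dvd_of_two S hlp hrp (hlq ▸ hrq.symm) (hNC l hl hlp hld) hrNC hNC hld
      · exact not_dvd_of_two S hlp hqp hlq (hNC l hl hlp hld) hqNC hNC hld

end Cfsg.Agent.S4033
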