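import Cfsg.Statements.S2507
import Cfsg.Agent.H55.SLTwoSizes

set_option autoImplicit false
open Cfsg

namespace Cfsg.Agent.S2507

open Cfsg.Agent.H55 Cfsg.Agent.Linear

/-- Let F be a finite field with q = 2^f ≥ 4 elements. The conjugacy class sizes of PSL(2,F) are exactly 1, q(q − 1), q² − 1 and q(q + 1). -/
theorem result {F : Type*} [Field F] [Fintype F]
    (h2 : 2 ∣ Fintype.card F) (h4 : 4 ≤ Fintype.card F) :
    Set.range (fun g : (Matrix.ProjectiveSpecialLinearGroup (Fin 2) F) => (Subgroup.centralizer ({g} : Set (Matrix.ProjectiveSpecialLinearGroup (Fin 2) F))).index) =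
      {1, Fintype.card F * (Fintype.card F - 1), Fintype.card F ^ 2 - 1, Fintype.card F * (Fintype.card F + 1)} := by
  rcases gcd_two_eq (F := F) with ⟨h20, -, -⟩ | ⟨-, -, hodd⟩
  swap
  · exact absurd h2 hodd
  have : CharP F 2 := CharTwo.of_one_ne_zero_of_two_eq_zero one_ne_zero h20
  have : Fact (Nat.Prime 2) := ⟨Nat.prime_two⟩
  rw [clsSize_range]
  apply Set.Subset.antisymm
  · rintro _ ⟨X, rfl⟩
    simp only [Set.mem_insert_iff, Set.mem_singleton_iff]
    by_cases hs : IsScalarTwo (X : Matrix (Fin 2) (Fin 2) F)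
    · exact Or.inl (clsSize_scalar hs)
    by_cases ht : (X : Matrix (Fin 2) (Fin 2) F).trace ^ 2 = 4
    · exact Or.inr (Or.inr (Or.inl ((clsSize_unipotent hs ht).1 h20)))
    · rcases clsSize_semisimple ht (Or.inr h20) with ⟨-, h⟩ | ⟨-, h⟩
      · exact Or.inr (Or.inr (Or.inr h))
      · exact Or.inr (Or.inl h)
  · obtain ⟨⟨Y, hY⟩, ⟨Z, hZ⟩⟩ := exists_semisimple (F := F) 2 h4 (by omega)
    simp only [Set.insert_subset_iff, Set.singleton_subset_iff]
    exact ⟨⟨1, clsSize_one⟩, ⟨Z, hZ⟩, ⟨uni, (clsSize_unipotent uni_spec.1 uni_spec.2).1 h20⟩, ⟨Y, hY⟩⟩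

end Cfsg.Agent.S2507
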