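import Cfsg.Statements.S2508
import Cfsg.Agent.H55.SLTwoSizes

set_option autoImplicit false
open Cfsg

namespace Cfsg.Agent.S2508

open Cfsg.Agent.H55 Cfsg.Agent.Linear Matrix

theorem zero_trace_size {F : Type*} [Field F] [Fintype F] (h20 : (2 : F) ≠ 0)
    (X : Matrix.SpecialLinearGroup (Fin 2) F) (h : (X : Matrix (Fin 2) (Fin 2) F).trace = 0) :
    (Fintype.card F % 4 ≠ 3 → clsSize X * 2 = Fintype.card F * (Fintype.card F + 1)) ∧
    (Fintype.card F % 4 = 3 → clsSize X * 2 = Fintype.card F * (Fintype.card F - 1)) := by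
  have h4 : (X : Matrix (Fin 2) (Fin 2) F).trace ^ 2 ≠ 4 := by
    rw [h]
    intro h'
    exact h20 (mul_self_eq_zero.1 (show (2 : F) * 2 = 0 by linear_combination -h'))
  have h1 := Fintype.one_lt_card (α := F)
  have hsq : Fintype.card F ^ 2 - 1 = (Fintype.card F + 1) * (Fintype.card F - 1) := by
    simpa using Nat.sq_sub_sq (Fintype.card F) 1
  constructor <;> intro hq
  · obtain ⟨r, hr⟩ := isSquare_iff_exists_sq _ |>.1 (FiniteField.isSquare_neg_one_iff.2 hq)
    have hc := card_centralizer_split_SL h4 ⟨r, by rw [h]; linear_combination -hr⟩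
    have hm := clsSize_mul X _ (by rw [card_comap_trace_zero h20 h, hc])
    rw [hsq, ← mul_assoc, ← mul_assoc] at hm
    exact Nat.eq_of_mul_eq_mul_right (show 0 < Fintype.card F - 1 by omega) hm
  · have hc := card_centralizer_nonsplit_SL h4 (fun r hr => by
      rw [h] at hr
      exact (FiniteField.isSquare_neg_one_iff.1 ⟨r, by linear_combination -hr⟩) hq)
    have hm := clsSize_mul X _ (by rw [card_comap_trace_zero h20 h, hc])
    rw [hsq, mul_comm (Fintype.card F + 1), ← mul_assoc, ← mul_assoc] at hm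
    exact Nat.eq_of_mul_eq_mul_right (show 0 < Fintype.card F + 1 by omega) hm

/-- Let F be a finite field with q elements, q odd and q ≥ 7. If q ≡ 1 (mod 4) the conjugacy class sizes of PSL(2,F) are exactly 1, (q² − 1)/2, q(q + 1)/2, q(q − 1) and q(q + 1); if q ≡ 3 (mod 4) they are exactly 1, (q² − 1)/2, q(q − 1)/2, q(q + 1) and q(q − 1). -/
theorem result {F : Type*} [Field F] [Fintype F]
    (hodd : ¬ 2 ∣ Fintype.card F) (h7 : 7 ≤ Fintype.card F) :
    (Fintype.card F % 4 = 1 →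
      Set.range (fun g : (Matrix.ProjectiveSpecialLinearGroup (Fin 2) F) => (Subgroup.centralizer ({g} : Set (Matrix.ProjectiveSpecialLinearGroup (Fin 2) F))).index) =
        {1, (Fintype.card F ^ 2 - 1) / 2, Fintype.card F * (Fintype.card F + 1) / 2,
          Fintype.card F * (Fintype.card F - 1), Fintype.card F * (Fintype.card F + 1)}) ∧
    (Fintype.card F % 4 = 3 →
      Set.range (fun g : (Matrix.ProjectiveSpecialLinearGroup (Fin 2) F) => (Subgroup.centralizer ({g} : Set (Matrix.ProjectiveSpecialLinearGroup (Fin 2) F))).index) =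
        {1, (Fintype.card F ^ 2 - 1) / 2, Fintype.card F * (Fintype.card F - 1) / 2,
          Fintype.card F * (Fintype.card F + 1), Fintype.card F * (Fintype.card F - 1)}) := by
  rcases gcd_two_eq (F := F) with ⟨-, -, h2⟩ | ⟨h20, -, -⟩
  · exact absurd h2 hodd
  obtain ⟨p, hp⟩ := CharP.exists F
  have : Fact p.Prime := ⟨CharP.char_is_prime F p⟩
  obtain ⟨⟨Y, hY⟩, ⟨Z, hZ⟩⟩ := exists_semisimple (F := F) p (by omega) (by omega)
  have huni := (clsSize_unipotent (F := F) uni_spec.1 uni_spec.2).2 h20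
  have hinv := zero_trace_size (F := F) h20 inv0 inv0_trace
  rw [clsSize_range]
  have key : ∀ X : Matrix.SpecialLinearGroup (Fin 2) F, clsSize X = 1 ∨
      clsSize X * 2 = Fintype.card F ^ 2 - 1 ∨ clsSize X = Fintype.card F * (Fintype.card F + 1) ∨
      clsSize X = Fintype.card F * (Fintype.card F - 1) ∨
      ((Fintype.card F % 4 ≠ 3 → clsSize X * 2 = Fintype.card F * (Fintype.card F + 1)) ∧
        (Fintype.card F % 4 = 3 → clsSize X * 2 = Fintype.card F * (Fintype.card F - 1))) := by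
    intro X
    by_cases hs : IsScalarTwo (X : Matrix (Fin 2) (Fin 2) F)
    · exact Or.inl (clsSize_scalar hs)
    by_cases ht : (X : Matrix (Fin 2) (Fin 2) F).trace ^ 2 = 4
    · exact Or.inr (Or.inl ((clsSize_unipotent hs ht).2 h20))
    by_cases h0 : (X : Matrix (Fin 2) (Fin 2) F).trace = 0
    · exact Or.inr (Or.inr (Or.inr (Or.inr (zero_trace_size h20 X h0))))
    rcases clsSize_semisimple ht (Or.inl h0) with ⟨-, h⟩ | ⟨-, h⟩
    · exact Or.inr (Or.inr (Or.inl h))
    · exact Or.inr (Or.inr (Or.inr (Or.inl h)))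
  have hhalf : ∀ a b : ℕ, a * 2 = b → a = b / 2 := fun a b h => by omega
  constructor <;> intro hq
  · apply Set.Subset.antisymm
    · rintro _ ⟨X, rfl⟩
      simp only [Set.mem_insert_iff, Set.mem_singleton_iff]
      rcases key X with h | h | h | h | ⟨h, -⟩
      exacts [Or.inl h, Or.inr (Or.inl (hhalf _ _ h)), Or.inr (Or.inr (Or.inr (Or.inr h))),
        Or.inr (Or.inr (Or.inr (Or.inl h))), Or.inr (Or.inr (Or.inl (hhalf _ _ (h (by omega)))))]
    · simp only [Set.insert_subset_iff, Set.singleton_subset_iff]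
      exact ⟨⟨1, clsSize_one⟩, ⟨uni, hhalf _ _ huni⟩, ⟨inv0, hhalf _ _ (hinv.1 (by omega))⟩,
        ⟨Z, hZ⟩, ⟨Y, hY⟩⟩
  · apply Set.Subset.antisymm
    · rintro _ ⟨X, rfl⟩
      simp only [Set.mem_insert_iff, Set.mem_singleton_iff]
      rcases key X with h | h | h | h | ⟨-, h⟩
      exacts [Or.inl h, Or.inr (Or.inl (hhalf _ _ h)), Or.inr (Or.inr (Or.inr (Or.inl h))),
        Or.inr (Or.inr (Or.inr (Or.inr h))), Or.inr (Or.inr (Or.inl (hhalf _ _ (h (by omega)))))]
    · simp only [Set.insert_subset_iff, Set.singleton_subset_iff]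
      exact ⟨⟨1, clsSize_one⟩, ⟨uni, hhalf _ _ huni⟩, ⟨inv0, hhalf _ _ (hinv.2 hq)⟩,
        ⟨Y, hY⟩, ⟨Z, hZ⟩⟩

end Cfsg.Agent.S2508
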