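import Cfsg.Statements.S3333
import Mathlib
import Cfsg.Agent.H33.ExcThree.Main
import Cfsg.Agent.H33.ExcThree.Setup

set_option autoImplicit false
open Cfsg

namespace Cfsg.Agent.S3333

/-- Let G be a finite group with a Sylow 3-subgroup S of order 9 that is its own centralizer, with N_G(S)/S dihedral of order 8, and such that C_G(x) ≤ N_G(S) for every non-identity x in S. Then S is normal in G or G is isomorphic to the symmetric group of degree 6. -/
theorem result {G : Type*} [Group G] [Finite G]
    (P : Sylow 3 G) (S : Subgroup G) (hSP : S = P) (hcard : Nat.card S = 9)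
    (hC : Subgroup.centralizer (S : Set G) = S)
    (eN : Subgroup.normalizer (S : Set G) ⧸ S.subgroupOf (Subgroup.normalizer (S : Set G)) ≃* DihedralGroup 4)
    (hcent : ∀ x ∈ S, x ≠ 1 → Subgroup.centralizer ({x} : Set G) ≤ Subgroup.normalizer (S : Set G)) :
    S.Normal ∨ Nonempty (G ≃* Equiv.Perm (Fin 6)) := by
  haveI : Fact (Nat.Prime 2) := ⟨Nat.prime_two⟩
  haveI : Fact (Nat.Prime 3) := ⟨Nat.prime_three⟩
  set N := Subgroup.normalizer (S : Set G) with hNdef
  have hidx : ¬ 3 ∣ S.index := by rw [hSP]; exact P.not_dvd_index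
  have hle : S ≤ N := Subgroup.le_normalizer
  have hq : Nat.card (↥N ⧸ S.subgroupOf N) = 8 := by
    rw [Nat.card_congr eN.toEquiv, DihedralGroup.nat_card]
  have h72 : Nat.card N = 72 := by
    rw [Subgroup.card_eq_card_quotient_mul_card_subgroup (S.subgroupOf N), hq,
      Nat.card_congr (Subgroup.subgroupOfEquivOfLe hle).toEquiv, hcard]
  let T : Sylow 2 ↥N := default
  have hT8 : Nat.card (T : Subgroup ↥N) = 8 := by
    rw [Sylow.card_eq_multiplicity, h72, show (72 : ℕ) = 2 ^ 3 * 9 by norm_num,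
      Nat.factorization_mul (by norm_num) (by norm_num), Finsupp.add_apply,
      Nat.prime_two.factorization_pow, Finsupp.single_eq_same,
      Nat.factorization_eq_zero_of_not_dvd (show ¬ 2 ∣ 9 by norm_num), add_zero]
    norm_num
  let π : (T : Subgroup ↥N) →* ↥N ⧸ S.subgroupOf N :=
    (QuotientGroup.mk' (S.subgroupOf N)).comp (T : Subgroup ↥N).subtype
  have hπ : Function.Injective π := by
    rw [← MonoidHom.ker_eq_bot_iff, Subgroup.eq_bot_iff_forall]
    intro x hx
    have hx' : (x : ↥N) ∈ S.subgroupOf N := (QuotientGroup.eq_one_iff _).1 hx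
    have h1 : orderOf (x : ↥N) ∣ 9 := by
      have := Subgroup.orderOf_dvd_natCard _ hx'
      rwa [Nat.card_congr (Subgroup.subgroupOfEquivOfLe hle).toEquiv, hcard] at this
    have h2 : orderOf (x : ↥N) ∣ 8 := hT8 ▸ Subgroup.orderOf_dvd_natCard _ x.2
    have h3 : orderOf (x : ↥N) = 1 := Nat.eq_one_of_dvd_coprimes (by norm_num) h1 h2
    exact Subtype.ext (orderOf_eq_one_iff.1 h3)
  have hbij : Function.Bijective π := (Nat.bijective_iff_injective_and_card _).2 ⟨hπ, by rw [hT8, hq]⟩
  let eT := (MulEquiv.ofBijective π hbij).trans eN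
  obtain ⟨K, hK⟩ := Cfsg.Agent.H33.ExcThree.exists_cfg S hcard hidx hC
    (fun m hm h1 => hcent m hm h1) h72 ((T : Subgroup ↥N).map N.subtype) (Subgroup.map_subtype_le _)
    ((Subgroup.equivMapOfInjective _ _ (Subgroup.subtype_injective _)).symm.trans eT)
  rcases Cfsg.Agent.H33.ExcThree.main K with h | h
  · exact Or.inl (hK ▸ h)
  · exact Or.inr h

end Cfsg.Agent.S3333
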