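import Cfsg.Statements.S5036
import Cfsg.Agent.H87.CommPlane
-- import your own Cfsg.Agent.* helpers here

set_option autoImplicit false
open Cfsg

namespace Cfsg.Agent.S5036

open Cfsg.Agent.H87

/-- Let S be a set of abstract root subgroups of G, A, B ∈ S with C = ⁅A, B⁆ ∈ S, and D ∈ S with ⁅D, C⁆ = A. Put X = ⟨B, D⟩ and N = AC. Then B, D form a rank one pair; the conjugates of A under X are the conjugates of C under X, namely the conjugates of A by elements of B together with C, equally the conjugates of C by elements of D together with A, and they partition N; and the centralizer of N in X is central in X. -/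
theorem result {G : Type*} [Group G] {S : Set (Subgroup G)} (hS : Cfsg.IsRootSubgroupSet S)
    {A B D : Subgroup G} (hA : A ∈ S) (hB : B ∈ S) (hC : ⁅A, B⁆ ∈ S) (hD : D ∈ S) (hDC : ⁅D, ⁅A, B⁆⁆ = A) :
    Cfsg.IsRankOnePair B D ∧
    {E | ∃ x ∈ B ⊔ D, E = Cfsg.conjBy A x} = {E | ∃ x ∈ B ⊔ D, E = Cfsg.conjBy ⁅A, B⁆ x} ∧
    {E | ∃ x ∈ B ⊔ D, E = Cfsg.conjBy A x} = (fun b : G => Cfsg.conjBy A b) '' (B : Set G) ∪ {⁅A, B⁆} ∧
    {E | ∃ x ∈ B ⊔ D, E = Cfsg.conjBy A x} = (fun d : G => Cfsg.conjBy ⁅A, B⁆ d) '' (D : Set G) ∪ {A} ∧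
    Cfsg.IsSubgroupPartition (A ⊔ ⁅A, B⁆) {E | ∃ x ∈ B ⊔ D, E = Cfsg.conjBy A x} ∧
    ∀ x ∈ (B ⊔ D) ⊓ Subgroup.centralizer ((A ⊔ ⁅A, B⁆ : Subgroup G) : Set G), ∀ y ∈ B ⊔ D, x * y = y * x := by
  set C := ⁅A, B⁆ with hCdef
  have h1 : Cfsg.RootCommutatorCase S A B := comm_case_of_mem hS hA hB hC
  have h2 : Cfsg.RootCommutatorCase S D C := comm_case_of_mem hS hD hC (hDC ▸ hA)
  have hAC := commute_left_comm h1
  have hBC := commute_right_comm h1
  have hDA : ∀ d ∈ D, ∀ a ∈ A, d * a = a * d := fun d hd a ha =>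
    commute_left_comm h2 d hd a (hDC.symm ▸ ha)
  have hmix : ∀ b ∈ B, ∀ a ∈ A, b * a * b⁻¹ * a⁻¹ ∈ C := fun b hb a ha => by
    rw [hCdef, Subgroup.commutator_comm]
    exact Subgroup.commutator_mem_commutator hb ha
  have hmix' : ∀ d ∈ D, ∀ c ∈ C, d * c * d⁻¹ * c⁻¹ ∈ A := fun d hd c hc =>
    hDC ▸ Subgroup.commutator_mem_commutator hd hc
  have hBD : Cfsg.IsRankOnePair B D := by
    rcases hS.pair B hB D hD with h | h | h
    · exfalso
      apply hS.ne_bot A hA
      have hDA' : ⁅D, A⁆ = ⊥ := bot_of_commute hDA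
      have := Subgroup.commutator_commutator_eq_bot_of_rotate (H₁ := A) (H₂ := B) (H₃ := D)
        (by rw [h, Subgroup.commutator_bot_left]) (by rw [hDA', Subgroup.commutator_bot_left])
      rw [Subgroup.commutator_comm, ← hCdef, hDC] at this
      exact this
    · exact h
    · exfalso
      obtain ⟨b, hb, hb1⟩ := B.bot_or_exists_ne_one.resolve_left (hS.ne_bot B hB)
      obtain ⟨d, hd, hd1⟩ := D.bot_or_exists_ne_one.resolve_left (hS.ne_bot D hD)
      have hkey : ∀ a'' ∈ A, (b * a'' * b⁻¹) * d = d * (b * a'' * b⁻¹) := by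
        intro a'' ha''
        obtain ⟨c', hc', ec'⟩ := exists_commutator_eq hS h2 hd hd1 (hDC.symm ▸ ha'' : a'' ∈ ⁅D, C⁆)
        obtain ⟨a, ha, ea⟩ := exists_commutator_eq hS (comm_case_symm h1) (inv_mem hb) (by simpa using hb1)
          (Subgroup.commutator_comm A B ▸ hc' : c' ∈ ⁅B, A⁆)
        rw [inv_inv] at ea
        set k := b * d * b⁻¹ * d⁻¹ with hk
        have hkd : Commute k d := h.2.1 k (Subgroup.commutator_mem_commutator hb hd) d (Subgroup.mem_sup_right hd)
        have had : Commute a d := (hDA d hd a ha).symm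
        have e1 : b⁻¹ * a * b = a * c' := by
          rw [hAC a ha c' hc', ← ea]; group
        have e2 : d * (a * c') * d⁻¹ = a * (a'' * c') := by
          rw [← mul_assoc d a c', hDA d hd a ha, ← ec']; group
        have e3 : k * a * k⁻¹ = a * (b * a'' * b⁻¹) := by
          calc k * a * k⁻¹ = b * d * b⁻¹ * (d⁻¹ * (a * d)) * b * d⁻¹ * b⁻¹ := by rw [hk]; group
            _ = b * (d * (b⁻¹ * a * b) * d⁻¹) * b⁻¹ := by rw [had.eq]; group
            _ = b * (a * (a'' * c')) * b⁻¹ := by rw [e1, e2]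
            _ = b * (a * c' * a'') * b⁻¹ := by rw [mul_assoc a c' a'', hAC a'' ha'' c' hc']
            _ = b * (b⁻¹ * a * b) * a'' * b⁻¹ := by rw [e1]; group
            _ = _ := by group
        have h3 : Commute (k * a * k⁻¹) d := (hkd.mul_left had).mul_left hkd.inv_left
        rw [e3] at h3
        have h4 := had.inv_left.mul_left h3
        rw [inv_mul_cancel_left] at h4
        exact h4.eq
      have hCd : C ≤ Subgroup.centralizer {d} := by
        rw [hCdef, Subgroup.commutator_comm, ← (comm_case_symm h1).2.2.1 b hb hb1, Subgroup.closure_le]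
        rintro _ ⟨a, ha, rfl⟩
        refine Subgroup.mem_centralizer_singleton_iff.2 ?_
        have h5 : Commute d (b * a * b⁻¹ * a⁻¹) :=
          (show Commute d (b * a * b⁻¹) from (hkey a ha).symm).mul_right (show Commute d a from hDA d hd a ha).inv_right
        exact h5.eq.symm
      exact hd1 (eq_one_of_comm_of_centralizes hS h2 hd
        fun c hc => (Subgroup.mem_centralizer_singleton_iff.1 (hCd hc)).symm)
  set N := A ⊔ C with hN
  have hdec : ∀ x ∈ N, ∃ a ∈ A, ∃ c ∈ C, a * c = x := fun x hx => exists_mul_of_mem_sup hAC hx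
  have hnorm : ∀ x ∈ B ⊔ D, Cfsg.conjBy N x = N := by
    intro x hx
    refine conjBy_eq_self_iff.2 ((sup_le ?_ ?_ : B ⊔ D ≤ Subgroup.normalizer (N : Set G)) hx)
    all_goals
      intro y hy
      refine conjBy_eq_self_iff.1 ?_
      suffices ∀ z : G, z ∈ ({y, y⁻¹} : Set G) → Cfsg.conjBy N z ≤ N by
        refine le_antisymm (this y (by simp)) fun w hw => ?_
        have := this y⁻¹ (by simp) (conj_mem_conjBy y⁻¹ hw)
        rw [mem_conjBy]
        simpa using this
      intro z hz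
      rw [hN, conjBy_sup]
    · have hzB : z ∈ B := by rcases hz with rfl | rfl <;> [exact hy; exact inv_mem hy]
      refine sup_le (fun w hw => ?_) (le_of_eq_of_le (conjBy_eq_of_commute (hBC z hzB)) le_sup_right)
      rw [mem_conjBy] at hw
      have := mul_mem (Subgroup.mem_sup_right (S := A) (hmix z hzB _ hw)) (Subgroup.mem_sup_left hw)
      simpa [mul_assoc] using this
    · have hzD : z ∈ D := by rcases hz with rfl | rfl <;> [exact hy; exact inv_mem hy]
      refine sup_le (le_of_eq_of_le (conjBy_eq_of_commute (hDA z hzD)) le_sup_left) fun w hw => ?_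
      rw [mem_conjBy] at hw
      have := mul_mem (Subgroup.mem_sup_left (T := C) (hmix' z hzD _ hw)) (Subgroup.mem_sup_right hw)
      simpa [mul_assoc] using this
  let F : Subgroup G → Subgroup G := fun E => N ⊓ Subgroup.centralizer (E : Set G)
  have hF : ∀ x ∈ B ⊔ D, ∀ E : Subgroup G, F (Cfsg.conjBy E x) = Cfsg.conjBy (F E) x := by
    intro x hx E
    ext y
    simp only [F, Subgroup.mem_inf, Subgroup.mem_centralizer_iff, mem_conjBy, SetLike.mem_coe]
    constructor
    · rintro ⟨hy, hc⟩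
      refine ⟨?_, fun e he => ?_⟩
      · rwa [← hnorm x hx, mem_conjBy] at hy
      · have := hc (x * e * x⁻¹) (by simpa [mul_assoc] using he)
        have := congrArg (fun t => x⁻¹ * t * x) this
        simpa [mul_assoc] using this
    · rintro ⟨hy, hc⟩
      refine ⟨?_, fun e he => ?_⟩
      · rwa [← hnorm x hx, mem_conjBy]
      · have := congrArg (fun t => x * t * x⁻¹) (hc _ he)
        simpa [mul_assoc] using this
  have hFB : F B = C := by
    refine le_antisymm (fun x hx => ?_) (le_inf le_sup_right fun c hc =>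
      Subgroup.mem_centralizer_iff.2 fun b hb => hBC b hb c hc)
    obtain ⟨a, ha, c, hc, rfl⟩ := hdec x hx.1
    have : a = 1 := eq_one_of_comm_of_centralizes hS h1 ha fun b hb => by
      have h3 : Commute (a * c) b := (Subgroup.mem_centralizer_iff.1 hx.2 b hb).symm
      have h4 := h3.mul_left (show Commute c b from (hBC b hb c hc).symm).inv_left
      rw [mul_inv_cancel_right] at h4
      exact h4.eq
    rwa [this, one_mul]
  have hFD : F D = A := by
    refine le_antisymm (fun x hx => ?_) (le_inf le_sup_left fun a ha =>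
      Subgroup.mem_centralizer_iff.2 fun d hd => hDA d hd a ha)
    obtain ⟨a, ha, c, hc, rfl⟩ := hdec x hx.1
    have : c = 1 := eq_one_of_comm_of_centralizes hS (comm_case_symm h2) hc fun d hd => by
      have h3 : Commute (a * c) d := (Subgroup.mem_centralizer_iff.1 hx.2 d hd).symm
      have h4 := (show Commute a d from (hDA d hd a ha).symm).inv_left.mul_left h3
      rw [inv_mul_cancel_left] at h4
      exact h4.eq
    rwa [this, mul_one]
  have hdisj : ∀ E₁ ∈ Cfsg.unipotentSubgroups B D, ∀ E₂ ∈ Cfsg.unipotentSubgroups B D, E₁ ≠ E₂ →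
      F E₁ ⊓ F E₂ = ⊥ := by
    intro E₁ he₁ E₂ he₂ hne
    obtain ⟨x, hx, rfl, rfl⟩ := exists_pair_transport hBD he₁ he₂ hne
    rw [hF x hx, hF x hx, hFB, hFD, ← Subgroup.map_inf _ _ _ (MulAut.conj x).injective, inf_comm,
      inf_commutator_eq_bot hS h1, Subgroup.map_bot]
  have hinj : ∀ E₁ ∈ Cfsg.unipotentSubgroups B D, ∀ E₂ ∈ Cfsg.unipotentSubgroups B D,
      F E₁ = F E₂ → E₁ = E₂ := by
    intro E₁ he₁ E₂ he₂ e
    by_contra hne
    have h0 := hdisj E₁ he₁ E₂ he₂ hne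
    rw [← e, inf_idem] at h0
    obtain ⟨x, hx, rfl⟩ := he₁
    rw [hF x hx, hFB] at h0
    exact hS.ne_bot _ (hS.conj_mem C hC x) h0
  obtain ⟨x₀, hx₀, ex₀⟩ := right_mem hBD
  have hCA : Cfsg.conjBy C x₀ = A := by rw [← hFB, ← hF x₀ hx₀, ← ex₀, hFD]
  set T := {E | ∃ x ∈ B ⊔ D, E = Cfsg.conjBy A x} with hT
  have hTC : T = {E | ∃ x ∈ B ⊔ D, E = Cfsg.conjBy C x} := by
    ext E
    constructor
    · rintro ⟨x, hx, rfl⟩
      exact ⟨x * x₀, mul_mem hx hx₀, by rw [conjBy_mul, hCA]⟩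
    · rintro ⟨x, hx, rfl⟩
      exact ⟨x * x₀⁻¹, mul_mem hx (inv_mem hx₀), by rw [← hCA, ← conjBy_mul, inv_mul_cancel_right]⟩
  have hTF : ∀ E, E ∈ T ↔ ∃ U ∈ Cfsg.unipotentSubgroups B D, E = F U := by
    intro E
    rw [hTC]
    constructor
    · rintro ⟨x, hx, rfl⟩
      exact ⟨_, ⟨x, hx, rfl⟩, by rw [hF x hx, hFB]⟩
    · rintro ⟨_, ⟨x, hx, rfl⟩, rfl⟩
      exact ⟨x, hx, by rw [hF x hx, hFB]⟩
  have hT1 : T = (fun b : G => Cfsg.conjBy A b) '' (B : Set G) ∪ {C} := by
    refine Set.Subset.antisymm ?_ ?_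
    · intro E hE
      obtain ⟨U, hU, rfl⟩ := (hTF E).1 hE
      rcases (unipotent_eq hBD).1 hU with rfl | ⟨b, hb, rfl⟩
      · exact Or.inr hFB
      · exact Or.inl ⟨b, hb, by rw [hF b (Subgroup.mem_sup_left hb), hFD]⟩
    · rintro E (⟨b, hb, rfl⟩ | rfl)
      · exact ⟨b, Subgroup.mem_sup_left hb, rfl⟩
      · rw [hTC]; exact ⟨1, one_mem _, (conjBy_one C).symm⟩
  refine ⟨hBD, hTC, hT1, ?_, ?_, ?_⟩
  · refine Set.Subset.antisymm ?_ ?_
    · intro E hE
      obtain ⟨U, hU, rfl⟩ := (hTF E).1 hE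
      rw [← unipotent_comm hBD] at hU
      rcases (unipotent_eq (rankOne_symm hBD)).1 hU with rfl | ⟨d, hd, rfl⟩
      · exact Or.inr hFD
      · exact Or.inl ⟨d, hd, by rw [hF d (Subgroup.mem_sup_right hd), hFB]⟩
    · rintro E (⟨d, hd, rfl⟩ | rfl)
      · show _ ∈ T
        rw [hTC]; exact ⟨d, Subgroup.mem_sup_right hd, rfl⟩
      · exact ⟨1, one_mem _, (conjBy_one _).symm⟩
  · refine ⟨fun E hE => ?_, fun x hx hx1 => ?_, fun E₁ he₁ E₂ he₂ hne => ?_⟩
    · obtain ⟨U, -, rfl⟩ := (hTF E).1 hE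
      exact inf_le_left
    · obtain ⟨a, ha, c, hc, rfl⟩ := hdec x hx
      show ∃ E ∈ T, a * c ∈ E
      rw [hT1]
      rcases eq_or_ne a 1 with rfl | ha1
      · exact ⟨C, Or.inr rfl, by rwa [one_mul]⟩
      · obtain ⟨b, hb, eb⟩ := exists_commutator_eq hS h1 ha ha1 (inv_mem hc : c⁻¹ ∈ C)
        refine ⟨_, Or.inl ⟨b, hb, rfl⟩, ?_⟩
        rw [hAC a ha c hc, ← inv_inv c, ← eb]
        have := conj_mem_conjBy b ha
        simpa [mul_assoc] using this
    · obtain ⟨U₁, hU₁, rfl⟩ := (hTF E₁).1 he₁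
      obtain ⟨U₂, hU₂, rfl⟩ := (hTF E₂).1 he₂
      exact hdisj U₁ hU₁ U₂ hU₂ fun e => hne (e ▸ rfl)
  · rintro z ⟨hz, hzN⟩ y hy
    refine (Subgroup.mem_centralizer_iff.1 (centralizes_of_fixes hBD fun U hU => ?_) y hy).symm
    refine hinj _ (conjBy_mem_unipotent hU hz) U hU ?_
    rw [hF z hz]
    exact conjBy_eq_of_commute fun e he => (Subgroup.mem_centralizer_iff.1 hzN e (inf_le_left (α := Subgroup G) he)).symm

end Cfsg.Agent.S5036
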