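import Cfsg.Statements.S0160
import Cfsg.Agent.CharInduce.Twist
-- import your own Cfsg.Agent.* helpers here

set_option autoImplicit false
open Cfsg

namespace Cfsg.Agent.S0160

/-- A finite group has as many real-valued irreducible complex characters as conjugacy classes closed under taking inverses. -/
theorem result {G : Type*} [Group G] [Finite G] : Nat.card {χ : Cfsg.IrrCharacter G // ∀ g : G, ((χ : G → ℂ) g).im = 0} = Nat.card {C : ConjClasses G // ∀ g : G, ConjClasses.mk g = C → IsConj g g⁻¹} := by
  have hiff : ∀ χ : Cfsg.IrrCharacter G,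
      (∀ g : G, ((χ : G → ℂ) g).im = 0) ↔ (χ : G → ℂ) ∘ (fun g => g⁻¹) = χ := by
    intro χ
    rw [CharInduce.irr_comp_inv, funext_iff]
    exact forall_congr' fun g => Complex.conj_eq_iff_im.symm
  rw [Nat.card_congr (Equiv.subtypeEquivRight hiff)]
  exact CharInduce.card_fixed_irr_eq_card_fixed_classes _ CharInduce.isIrr_comp_inv

end Cfsg.Agent.S0160
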