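import Cfsg.Statements.S5148
import Cfsg.Agent.H89.Series
import Mathlib.Algebra.BigOperators.Group.Finset.Basic
-- import your own Cfsg.Agent.* helpers here

set_option autoImplicit false
open Cfsg

namespace Cfsg.Agent.S5148

open Cfsg.FusionSystem Cfsg.Agent.FusionSys Cfsg.Agent.H89

theorem aut_fixed_eq_one {S : Type*} [CommGroup S] [Finite S] {A : Subgroup (MulAut S)}
    (hco : (Nat.card S).Coprime (Nat.card A))
    (hgen : Subgroup.closure {y : S | ∃ β ∈ A, ∃ x : S, y = x⁻¹ * β x} = ⊤)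
    {z : S} (hz : ∀ β ∈ A, β z = z) : z = 1 := by
  haveI : Finite A :=
    Finite.of_injective (fun a : A => ((a : MulAut S) : S → S)) fun a b h => Subtype.ext (DFunLike.coe_injective h)
  haveI := Fintype.ofFinite A
  let N : S →* S :=
    { toFun := fun x => ∏ β : A, (β : MulAut S) x
      map_one' := by simp
      map_mul' := fun x y => by simp [Finset.prod_mul_distrib] }
  have hN : N.ker = ⊤ := by
    rw [eq_top_iff, ← hgen, Subgroup.closure_le]
    rintro _ ⟨β, hβ, x, rfl⟩
    rw [SetLike.mem_coe, MonoidHom.mem_ker, map_mul, map_inv, inv_mul_eq_one]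
    exact (Equiv.prod_comp (Equiv.mulRight (⟨β, hβ⟩ : A)) fun γ : A => (γ : MulAut S) x).symm
  have h1 : z ^ Nat.card A = 1 := by
    have h : N z = 1 := MonoidHom.mem_ker.1 (hN ▸ Subgroup.mem_top z)
    have h2 : N z = ∏ _β : A, z := Finset.prod_congr rfl fun β _ => hz β β.2
    rw [h2, Finset.prod_const, Finset.card_univ, ← Nat.card_eq_fintype_card] at h
    exact h
  exact orderOf_eq_one_iff.1 (Nat.eq_one_of_dvd_coprimes hco (orderOf_dvd_natCard z) (orderOf_dvd_of_pow_eq_one h1))

theorem inner_isSaturated {Ω : Type*} [Group Ω] {S : Subgroup Ω} {p : ℕ} [Fact p.Prime]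
    (hab : ∀ a ∈ S, ∀ b ∈ S, a * b = b * a) [Finite S] : (innerFusionSystem S).IsSaturated p := by
  intro P hP
  have hid : ∀ {Q : Subgroup Ω} {f : Ω → Ω}, IsMap (innerFusionSystem S) Q f → ∀ x ∈ Q, f x = x := by
    intro Q f hf x hx
    obtain ⟨hQ, a, ha, he⟩ := isMap_inner_iff.1 hf
    rw [he x hx, hab a ha x (hQ hx), mul_inv_cancel_right]
  haveI := finite_autGroup (innerFusionSystem S) hP
  haveI : Subsingleton ((innerFusionSystem S).autGroup P) := by
    have h1 : ∀ α : (innerFusionSystem S).autGroup P, α = 1 := fun α => by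
      refine Subtype.ext (aut_ext fun x hx => ?_)
      rw [hid ((mem_autGroup_iff hP).1 α.2) x hx, Subgroup.coe_one, autMap_apply _ hx]
      rfl
    exact ⟨fun α β => (h1 α).trans (h1 β).symm⟩
  refine ⟨P, isConj_refl _ hP, ⟨hP, default, Subsingleton.elim _ _⟩,
    receptive_of_extend hP fun Q f N hf _ hN => ⟨id, isMap_id _ fun x hx => ((hN x).1 hx).1,
      fun y hy => (hid hf.isMap y hy).symm⟩⟩

theorem main {Ω : Type*} [Group Ω] {S : Subgroup Ω} [Finite S] {p : ℕ} [Fact p.Prime]
    (hS : IsPGroup p S) {F : FusionSystem S} (hq : F.Quasisimple p)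
    (hab' : IsMulCommutative S) : False := by
  have hab : ∀ a ∈ S, ∀ b ∈ S, a * b = b * a := fun a ha b hb =>
    congrArg Subtype.val (mul_comm' (⟨a, ha⟩ : S) ⟨b, hb⟩)
  obtain ⟨hsat, hhyp, hsimp⟩ := hq
  have hSnormal : F.IsNormal S := isNormal_of_comm hS hsat (stronglyClosed_top F) hab
  haveI := finite_autGroup F (le_rfl : S ≤ S)
  letI : CommGroup S := { (inferInstance : Group S) with mul_comm := fun a b => mul_comm' a b }
  have hco : (Nat.card S).Coprime (Nat.card (F.autGroup S)) := by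
    haveI : Finite (Cfsg.FusionSystem.normalizerIn S S) := finite_of_le normalizerIn_le
    have hFN : F.IsFullyNormalized S := ⟨le_rfl, fun Q _ => Nat.card_le_card_of_injective
      (Subgroup.inclusion (show Cfsg.FusionSystem.normalizerIn S Q ≤ Cfsg.FusionSystem.normalizerIn S S
        from fun x hx => ⟨hx.1, Subgroup.le_normalizer hx.1⟩)) (Subgroup.inclusion_injective _)⟩
    have h := ((isFullyAutomized_iff hS).1 (isFullyAutomized_of_isFullyNormalized hS hsat hFN)).2
    have hbot : autInducedBy S S = ⊥ := by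
      refine (Subgroup.eq_bot_iff_forall _).2 fun α hα => ?_
      obtain ⟨g, hg, hgn, rfl⟩ := mem_autInducedBy.1 hα
      refine aut_ext fun x hx => ?_
      rw [autMap_conjAut _ hx, conjMap_apply, hab g hg x hx, mul_inv_cancel_right, autMap_apply _ hx]
      rfl
    rw [hbot, Subgroup.relIndex_bot_left] at h
    obtain ⟨e, he⟩ := IsPGroup.iff_card.1 hS
    rw [he]
    exact Nat.Coprime.pow_left e ((Fact.out : p.Prime).coprime_iff_not_dvd.2 h)
  have hgen : Subgroup.closure {y : S | ∃ β ∈ F.autGroup S, ∃ x : S, y = x⁻¹ * β x} = ⊤ := by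
    refine eq_top_iff.2 fun y _ => ?_
    have hy : (y : Ω) ∈ (Subgroup.closure {y : S | ∃ β ∈ F.autGroup S, ∃ x : S, y = x⁻¹ * β x}).map
        S.subtype := by
      have hy' : (y : Ω) ∈ F.hyperfocalSubgroup p := hhyp.symm ▸ y.2
      revert hy'
      refine fun hy' => (Subgroup.closure_le _).2 ?_ hy'
      rintro _ ⟨P, α, x, hP, -, rfl⟩
      obtain ⟨g, hg, hge, -⟩ := (Cfsg.Agent.FusionSys.isNormal_iff.1 hSnormal).2 P _ (isIso_autMap hP α.2).isMap
      have hgS := hg.mono (le_sup_right : S ≤ P ⊔ S)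
      obtain ⟨β, hβ, hβg⟩ :=
        (IsIso.mk hgS (hgS.image_eq_of_mapsTo fun z hz => hgS.mem_S hz)).exists_aut
      refine ⟨(⟨x, hP x.2⟩ : S)⁻¹ * β ⟨x, hP x.2⟩, Subgroup.subset_closure ⟨β, hβ, _, rfl⟩, ?_⟩
      show (x : Ω)⁻¹ * (β ⟨x, hP x.2⟩ : Ω) = _
      rw [← autMap_apply β (hP x.2), hβg _ (hP x.2), hge _ x.2, autMap_apply _ x.2]
    obtain ⟨z, hz, hzy⟩ := hy
    rwa [← Subtype.ext (hzy : (z : Ω) = y)]
  have hfix : ∀ z : S, (∀ β ∈ F.autGroup S, β z = z) → z = 1 := fun z hz => aut_fixed_eq_one hco hgen hz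
  have hcenter : F.center = ⊥ := by
    refine (Subgroup.eq_bot_iff_forall _).2 fun q hq' => ?_
    have hcen := isCentral_center F
    have := hfix ⟨q, hcen.1 hq'⟩ fun β hβ => by
      obtain ⟨g, hg, hgP, hgQ⟩ := (Cfsg.Agent.FusionSys.isCentral_iff.1 hcen).2 S _ (isIso_autMap le_rfl hβ).isMap
      apply Subtype.ext
      rw [← autMap_apply β (hcen.1 hq'), ← hgP q (hcen.1 hq'), hgQ q hq']
    exact congrArg Subtype.val this
  set θ := QuotientGroup.mk' ((F.center).subgroupOf S)
  have hθ : KerEq θ F.center := fun s => QuotientGroup.eq_one_iff s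
  have hR : F.StronglyClosed F.center := hcenter.symm ▸ stronglyClosed_bot F
  have hrange : θ.range = (⊤ : Subgroup (S ⧸ (F.center).subgroupOf S)) :=
    MonoidHom.range_eq_top.2 (QuotientGroup.mk'_surjective _)
  set U : Subgroup (S ⧸ (F.center).subgroupOf S) := ⊤
  set E : FusionSystem U := factorSystem θ hθ hR hrange
  obtain ⟨hEsat, hEne, hEsimp⟩ := hsimp E (isFactorSystem_factorSystem θ hθ hR hrange)
  have habq : ∀ a ∈ U, ∀ b ∈ U, a * b = b * a := by
    intro a _ b _
    obtain ⟨a, rfl⟩ := QuotientGroup.mk'_surjective _ a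
    obtain ⟨b, rfl⟩ := QuotientGroup.mk'_surjective _ b
    rw [← map_mul, ← map_mul, mul_comm]
  have hUp : IsPGroup p U := (hS.to_quotient _).to_subgroup U
  have hUnormal : E.IsNormal U := isNormal_of_comm hUp hEsat (stronglyClosed_top E) habq
  have hautI : ∀ α ∈ (innerFusionSystem U).autGroup U, α = 1 := fun α hα => by
    refine aut_ext fun x hx => ?_
    obtain ⟨-, a, ha, he⟩ := isMap_inner_iff.1 ((mem_autGroup_iff le_rfl).1 hα)
    rw [he x hx, habq a ha x hx, mul_inv_cancel_right, autMap_apply _ hx]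
    rfl
  have hinner : (innerFusionSystem U).IsNormalIn E p := by
    refine ⟨⟨inner_isSaturated habq, hEsat, innerFusionSystem_le E, stronglyClosed_top E, ?_, ?_⟩, ?_⟩
    · intro P hPT φ hφ α _
      refine ⟨conjHom _ 1, (innerFusionSystem U).conj_mem le_top U.one_mem, fun x hφx hαx => ?_⟩
      obtain ⟨-, a, ha, he⟩ := hφ
      have h1 : φ x = x := by rw [he x, habq a ha x (hPT x.2), mul_inv_cancel_right]
      rw [show (⟨φ x, hφx⟩ : U) = ⟨x, hPT x.2⟩ from Subtype.ext h1]
      simp only [conjHom, map_one]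
      rfl
    · intro P hP φ hφ
      obtain ⟨g, hg, hge, -⟩ := (Cfsg.Agent.FusionSys.isNormal_iff.1 hUnormal).2 P _ (isMap_of_mem hφ)
      have hgU := hg.mono (le_sup_right : U ≤ P ⊔ U)
      obtain ⟨α, hα, hαg⟩ :=
        (IsIso.mk hgU (hgU.image_eq_of_mapsTo fun z hz => hgU.mem_S hz)).exists_aut
      refine ⟨α, hα, conjHom P 1, (innerFusionSystem U).conj_mem hP U.one_mem, fun x hx => ?_⟩
      rw [← autMap_apply α hx]
      simp only [conjHom, MonoidHom.comp_apply, Subgroup.coe_subtype, MulEquiv.coe_toMonoidHom,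
        MulAut.conj_apply, inv_one, mul_one, one_mul]
      rw [hαg _ (hP x.2), hge _ x.2, homFun_coe]
    · intro α hα
      refine ⟨1, one_mem _, fun x => ?_, fun c _ => ?_⟩
      · rw [hautI α hα]; rfl
      · simp
  rcases hEsimp U _ hinner with h | ⟨-, h⟩
  · exact hEne h
  · apply hEne
    refine (Subgroup.eq_bot_iff_forall U).2 fun u _ => ?_
    obtain ⟨s, rfl⟩ := QuotientGroup.mk'_surjective ((F.center).subgroupOf S) u
    rw [hfix s fun β hβ => ?_, map_one]
    obtain ⟨φ, hφ, hφβ⟩ := (mem_autGroup_iff le_rfl).1 hβ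
    obtain ⟨⟨-, hmor⟩, -, -⟩ := isSurjectiveMorphism_of_factor hS hsat hR (isFactorSystem_factorSystem θ hθ hR hrange)
    obtain ⟨φ', hφ', hle, hφS, hmem, hind⟩ := hmor S φ hφ
    rw [← h] at hφ'
    obtain ⟨-, a, ha, he⟩ := hφ'
    have h1 : θ ⟨φ s, hφS s⟩ = θ s := by
      rw [← hind s, he]
      show a * θ s * a⁻¹ = θ s
      rw [habq a ha (θ s) trivial, mul_inv_cancel_right]
    have h2 : θ (s⁻¹ * ⟨φ s, hφS s⟩) = 1 := by rw [map_mul, map_inv, h1, inv_mul_cancel]
    have h3 := (hθ _).1 h2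
    rw [hcenter, Subgroup.mem_bot] at h3
    apply Subtype.ext
    rw [← autMap_apply β s.2, ← hφβ s]
    exact (inv_mul_eq_one.1 h3).symm

/-- A quasisimple fusion system over a finite p-group S (saturated, equal to its p-residual subsystem, with simple — in particular nontrivial — factor system modulo its centre) has S nonabelian. -/
theorem result {Ω : Type*} [Group Ω] {S : Subgroup Ω} [Finite S] (p : ℕ) [Fact p.Prime] (hS : IsPGroup p S) (F : Cfsg.FusionSystem S) (hq : F.Quasisimple p) : ¬ IsMulCommutative S := fun h => main hS hq h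

end Cfsg.Agent.S5148
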