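import Cfsg.Statements.S5136
-- import your own Cfsg.Agent.* helpers here

set_option autoImplicit false
open Cfsg

namespace Cfsg.Agent.S5136

theorem exists_inverse {Ω : Type*} [Group Ω] {S : Subgroup Ω} (F : Cfsg.FusionSystem S) {P : Subgroup Ω}
    {φ : P →* Ω} (hφ : φ ∈ F.Hom P) {R : Subgroup Ω} (hR : φ.range = R) :
    ∃ ψ ∈ F.Hom R, ∀ (x : P) (h : φ x ∈ R), ψ ⟨φ x, h⟩ = (x : Ω) := by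
  subst hR
  obtain ⟨ψ, hψ, h⟩ := F.inv_mem hφ
  exact ⟨ψ, hψ, fun x _ => h x⟩

/-- Let F₁ and F₂ be fusion systems over finite p-groups S₁ and S₂ (inside ambient groups Ω₁ and Ω₂). Then their direct product exists: there is a fusion system over S₁ × S₂ inside Ω₁ × Ω₂ whose maps with source P ≤ S₁ × S₂ are exactly the restrictions to P of the homomorphisms (x₁, x₂) ↦ (φ₁ x₁, φ₂ x₂) with φ₁ a map of F₁ on the first projection of P and φ₂ a map of F₂ on the second projection. -/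
theorem result {Ω₁ Ω₂ : Type*} [Group Ω₁] [Group Ω₂] {S₁ : Subgroup Ω₁} {S₂ : Subgroup Ω₂} [Finite S₁] [Finite S₂] (p : ℕ) [Fact p.Prime] (h₁ : IsPGroup p S₁) (h₂ : IsPGroup p S₂) (F₁ : Cfsg.FusionSystem S₁) (F₂ : Cfsg.FusionSystem S₂) : ∃ E : Cfsg.FusionSystem (S₁.prod S₂), Cfsg.FusionSystem.IsProductSystem F₁ F₂ E := by
  let H : (P : Subgroup (Ω₁ × Ω₂)) → Set (P →* Ω₁ × Ω₂) := fun P => {φ | P ≤ S₁.prod S₂ ∧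
    ∃ φ₁ ∈ F₁.Hom (P.map (MonoidHom.fst Ω₁ Ω₂)), ∃ φ₂ ∈ F₂.Hom (P.map (MonoidHom.snd Ω₁ Ω₂)),
      ∀ (x : P) (h₁ : (x : Ω₁ × Ω₂).1 ∈ P.map (MonoidHom.fst Ω₁ Ω₂))
        (h₂ : (x : Ω₁ × Ω₂).2 ∈ P.map (MonoidHom.snd Ω₁ Ω₂)),
        φ x = (φ₁ ⟨(x : Ω₁ × Ω₂).1, h₁⟩, φ₂ ⟨(x : Ω₁ × Ω₂).2, h₂⟩)}
  refine ⟨{ Hom := H, le_of_mem := ?_, injective_of_mem := ?_, conj_mem := ?_, comp_mem := ?_, inv_mem := ?_ }, fun P φ => Iff.rfl⟩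
  · rintro P φ ⟨hP, φ₁, hφ₁, φ₂, hφ₂, h⟩
    refine ⟨hP, fun x => ?_⟩
    rw [h x ⟨x, x.2, rfl⟩ ⟨x, x.2, rfl⟩]
    exact ⟨(F₁.le_of_mem hφ₁).2 _, (F₂.le_of_mem hφ₂).2 _⟩
  · rintro P φ ⟨-, φ₁, hφ₁, φ₂, hφ₂, h⟩ x y hxy
    rw [h x ⟨x, x.2, rfl⟩ ⟨x, x.2, rfl⟩, h y ⟨y, y.2, rfl⟩ ⟨y, y.2, rfl⟩, Prod.mk.injEq] at hxy
    exact Subtype.ext (Prod.ext (congrArg Subtype.val (F₁.injective_of_mem hφ₁ hxy.1))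
      (congrArg Subtype.val (F₂.injective_of_mem hφ₂ hxy.2)))
  · intro P g hP hg
    refine ⟨hP, conjHom _ g.1, F₁.conj_mem ?_ hg.1, conjHom _ g.2, F₂.conj_mem ?_ hg.2, fun x _ _ => rfl⟩
    · rintro _ ⟨x, hx, rfl⟩
      exact (hP hx).1
    · rintro _ ⟨x, hx, rfl⟩
      exact (hP hx).2
  · rintro P Q φ ψ ⟨hP, φ₁, hφ₁, φ₂, hφ₂, h⟩ ⟨-, ψ₁, hψ₁, ψ₂, hψ₂, h'⟩ hQ
    have e₁ : ∀ z, φ₁ z ∈ Q.map (MonoidHom.fst Ω₁ Ω₂) := by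
      rintro ⟨_, x, hx, rfl⟩
      exact ⟨φ ⟨x, hx⟩, hQ _, (congrArg Prod.fst (h ⟨x, hx⟩ ⟨x, hx, rfl⟩ ⟨x, hx, rfl⟩))⟩
    have e₂ : ∀ z, φ₂ z ∈ Q.map (MonoidHom.snd Ω₁ Ω₂) := by
      rintro ⟨_, x, hx, rfl⟩
      exact ⟨φ ⟨x, hx⟩, hQ _, (congrArg Prod.snd (h ⟨x, hx⟩ ⟨x, hx, rfl⟩ ⟨x, hx, rfl⟩))⟩
    refine ⟨hP, _, F₁.comp_mem hφ₁ hψ₁ e₁, _, F₂.comp_mem hφ₂ hψ₂ e₂, fun x hx₁ hx₂ => ?_⟩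
    show ψ ⟨φ x, hQ x⟩ = (ψ₁ ⟨φ₁ ⟨_, hx₁⟩, e₁ _⟩, ψ₂ ⟨φ₂ ⟨_, hx₂⟩, e₂ _⟩)
    rw [h' ⟨φ x, hQ x⟩ ⟨_, hQ x, rfl⟩ ⟨_, hQ x, rfl⟩]
    simp only [h x hx₁ hx₂]
  · rintro P φ ⟨hP, φ₁, hφ₁, φ₂, hφ₂, h⟩
    have r₁ : φ₁.range = φ.range.map (MonoidHom.fst Ω₁ Ω₂) := by
      ext z
      constructor
      · rintro ⟨⟨_, x, hx, rfl⟩, rfl⟩
        exact ⟨φ ⟨x, hx⟩, ⟨_, rfl⟩, congrArg Prod.fst (h ⟨x, hx⟩ ⟨x, hx, rfl⟩ ⟨x, hx, rfl⟩)⟩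
      · rintro ⟨_, ⟨x, rfl⟩, rfl⟩
        exact ⟨_, (congrArg Prod.fst (h x ⟨x, x.2, rfl⟩ ⟨x, x.2, rfl⟩)).symm⟩
    have r₂ : φ₂.range = φ.range.map (MonoidHom.snd Ω₁ Ω₂) := by
      ext z
      constructor
      · rintro ⟨⟨_, x, hx, rfl⟩, rfl⟩
        exact ⟨φ ⟨x, hx⟩, ⟨_, rfl⟩, congrArg Prod.snd (h ⟨x, hx⟩ ⟨x, hx, rfl⟩ ⟨x, hx, rfl⟩)⟩
      · rintro ⟨_, ⟨x, rfl⟩, rfl⟩
        exact ⟨_, (congrArg Prod.snd (h x ⟨x, x.2, rfl⟩ ⟨x, x.2, rfl⟩)).symm⟩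
    obtain ⟨ψ₁, hψ₁, k₁⟩ := exists_inverse F₁ hφ₁ r₁
    obtain ⟨ψ₂, hψ₂, k₂⟩ := exists_inverse F₂ hφ₂ r₂
    refine ⟨(ψ₁.comp (((MonoidHom.fst Ω₁ Ω₂).comp φ.range.subtype).codRestrict _
        fun x => ⟨x, x.2, rfl⟩)).prod (ψ₂.comp (((MonoidHom.snd Ω₁ Ω₂).comp φ.range.subtype).codRestrict _
        fun x => ⟨x, x.2, rfl⟩)), ⟨?_, ψ₁, hψ₁, ψ₂, hψ₂, fun x _ _ => rfl⟩, fun x => ?_⟩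
    · rintro _ ⟨x, rfl⟩
      rw [h x ⟨x, x.2, rfl⟩ ⟨x, x.2, rfl⟩]
      exact ⟨(F₁.le_of_mem hφ₁).2 _, (F₂.le_of_mem hφ₂).2 _⟩
    · have hx₁ : (x : Ω₁ × Ω₂).1 ∈ P.map (MonoidHom.fst Ω₁ Ω₂) := ⟨x, x.2, rfl⟩
      have hx₂ : (x : Ω₁ × Ω₂).2 ∈ P.map (MonoidHom.snd Ω₁ Ω₂) := ⟨x, x.2, rfl⟩
      have hx := h x hx₁ hx₂
      refine Prod.ext ?_ ?_
      · show ψ₁ ⟨(φ x).1, _⟩ = _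
        exact (congrArg ψ₁ (Subtype.ext (congrArg Prod.fst hx))).trans
          (k₁ ⟨_, hx₁⟩ (r₁ ▸ ⟨_, rfl⟩))
      · show ψ₂ ⟨(φ x).2, _⟩ = _
        exact (congrArg ψ₂ (Subtype.ext (congrArg Prod.snd hx))).trans
          (k₂ ⟨_, hx₂⟩ (r₂ ▸ ⟨_, rfl⟩))

end Cfsg.Agent.S5136
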