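import Cfsg.Statements.S5128
import Cfsg.Agent.H89.Extend

set_option autoImplicit false
open Cfsg

namespace Cfsg.Agent.S5128

open Cfsg.Agent.FusionSys Cfsg.Agent.H89 in
theorem main {Ω : Type*} [Group Ω] {S : Subgroup Ω} [Finite S] {p : ℕ} [Fact p.Prime] (hS : IsPGroup p S)
    (F : Cfsg.FusionSystem S) (hF : F.IsSaturated p) (T₁ T₂ : Subgroup Ω) (h₁ : F.StronglyClosed T₁)
    (h₂ : F.StronglyClosed T₂) : F.StronglyClosed (T₁ ⊔ T₂) := by
  have hle : T₁ ⊔ T₂ ≤ S := sup_le h₁.1 h₂.1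
  have hn : T₂ ≤ Subgroup.normalizer (T₁ : Set Ω) := fun s hs => by
    refine Subgroup.mem_normalizer_iff.mpr fun b => ⟨fun hb => conj_mem_of_stronglyClosed h₁ (h₂.1 hs) hb,
      fun hb => ?_⟩
    have h := conj_mem_of_stronglyClosed h₁ (S.inv_mem (h₂.1 hs)) hb
    rwa [show s⁻¹ * (s * b * s⁻¹) * s⁻¹⁻¹ = b by group] at h
  refine ⟨hle, fun R hR φ hφ x => ?_⟩
  obtain ⟨g, hg, hge⟩ := exists_extend_mod hS hF h₁ h₁ le_rfl
    (fun a ha b hb => T₁.mul_mem (T₁.mul_mem (T₁.mul_mem ha hb) (T₁.inv_mem ha)) (T₁.inv_mem hb))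
    (isMap_of_mem hφ)
  have hx : (x : Ω) ∈ ((T₁ ⊔ T₂ : Subgroup Ω) : Set Ω) := hR x.2
  rw [Subgroup.coe_mul_of_right_le_normalizer_left T₁ T₂ hn] at hx
  obtain ⟨t, ht, u, hu, htu⟩ := Set.mem_mul.mp hx
  have hxR : (x : Ω) ∈ R ⊔ T₁ := Subgroup.mem_sup_left x.2
  have htm : t ∈ R ⊔ T₁ := Subgroup.mem_sup_right ht
  have hum : u ∈ R ⊔ T₁ := by
    rw [show u = t⁻¹ * (x : Ω) by rw [← htu]; group]
    exact Subgroup.mul_mem _ (Subgroup.inv_mem _ htm) hxR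
  have hgx : g x = g t * g u := by rw [← htu]; exact hg.map_mul htm hum
  rw [← homFun_coe φ x, show homFun φ (x : Ω) = g x * ((homFun φ (x : Ω))⁻¹ * g x)⁻¹ by group, hgx]
  refine Subgroup.mul_mem _ (Subgroup.mul_mem _ (Subgroup.mem_sup_left ?_) (Subgroup.mem_sup_right ?_))
    (Subgroup.inv_mem _ (Subgroup.mem_sup_left (hgx ▸ hge x x.2)))
  · exact mem_of_stronglyClosed h₁ hg htm ht
  · exact mem_of_stronglyClosed h₂ hg hum hu

/-- In a saturated fusion system over a finite p-group S, the product of two strongly closed subgroups is strongly closed. -/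
theorem result {Ω : Type*} [Group Ω] {S : Subgroup Ω} [Finite S] (p : ℕ) [Fact p.Prime] (hS : IsPGroup p S) (F : Cfsg.FusionSystem S) (hF : F.IsSaturated p) (T₁ T₂ : Subgroup Ω) (h₁ : F.StronglyClosed T₁) (h₂ : F.StronglyClosed T₂) : F.StronglyClosed (T₁ ⊔ T₂) := by
  exact main hS F hF T₁ T₂ h₁ h₂

end Cfsg.Agent.S5128
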