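import Cfsg.Statements.S5226
import Cfsg.Agent.H90.Normal

set_option autoImplicit false
open Cfsg

namespace Cfsg.Agent.S5226

/-- Let F be a saturated fusion system over a finite p-group S and Q a subgroup of S. Then Q is normal in F (F equals the normalizer system of Q) if and only if Q is strongly closed in F and admits a central series 1 = Q₀ ≤ Q₁ ≤ ⋯ ≤ Qₙ = Q ([Qᵢ₊₁, Q] ≤ Qᵢ) all of whose proper terms are weakly closed in F. -/
theorem result {Ω : Type*} [Group Ω] {S : Subgroup Ω} [Finite S] (p : ℕ) [Fact p.Prime] (hS : IsPGroup p S) (F : Cfsg.FusionSystem S) (hF : F.IsSaturated p) (Q : Subgroup Ω) : F.IsNormal Q ↔ F.StronglyClosed Q ∧ ∃ (n : ℕ) (C : Fin (n + 1) → Subgroup Ω), C 0 = ⊥ ∧ C (Fin.last n) = Q ∧ Monotone C ∧ (∀ i : Fin n, ⁅C i.succ, Q⁆ ≤ C i.castSucc) ∧ ∀ i : Fin n, F.WeaklyClosed (C i.castSucc) := by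
  constructor
  · intro h
    obtain ⟨n, D, h0, hn, hm, hc, hw⟩ := Cfsg.Agent.H90.series_of_isNormal hS h
    exact ⟨Cfsg.Agent.H90.stronglyClosed_of_isNormal F h, n, fun i => D i, h0, by simpa using hn,
      fun a b hab => hm hab, fun i => hc i i.2, fun i => hw i⟩
  · rintro ⟨hsc, n, C, h0, hn, hm, hc, hw⟩
    let D : ℕ → Subgroup Ω := fun k => C ⟨min k n, by omega⟩
    refine Cfsg.Agent.H90.isNormal_of_series hS hF hsc D n ?_ ?_ ?_ ?_ ?_
    · exact (congrArg C (Fin.ext (by simp))).trans h0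
    · exact (congrArg C (Fin.ext (by simp))).trans hn
    · exact fun a b hab => hm (Fin.mk_le_mk.2 (min_le_min hab le_rfl))
    · intro i hi
      have := hc ⟨i, hi⟩
      rwa [show (⟨i, hi⟩ : Fin n).succ = ⟨min (i + 1) n, by omega⟩ from Fin.ext (by simp; omega),
        show (⟨i, hi⟩ : Fin n).castSucc = ⟨min i n, by omega⟩ from Fin.ext (by simp; omega)] at this
    · intro i hi
      have := hw ⟨i, hi⟩
      rwa [show (⟨i, hi⟩ : Fin n).castSucc = ⟨min i n, by omega⟩ from Fin.ext (by simp; omega)] at this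

end Cfsg.Agent.S5226
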