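import Cfsg.Statements.S0638
import Cfsg.Agent.PGroups.NormalSq
-- import your own Cfsg.Agent.* helpers here

set_option autoImplicit false
open Cfsg

namespace Cfsg.Agent.S0638

open Subgroup

/-- For odd p, in a non-cyclic metacyclic p-group the elements of order dividing p generate an elementary abelian subgroup of order p². -/
theorem result {R : Type*} [Group R] [Finite R] {p : ℕ} [Fact p.Prime] (hp : p ≠ 2) (hR : IsPGroup p R) (hm : Cfsg.IsMetacyclic R) (hnc : ¬ IsCyclic R) : Cfsg.IsElementaryAbelian p (Cfsg.omegaOne p (⊤ : Subgroup R)) ∧ Nat.card ↥(Cfsg.omegaOne p (⊤ : Subgroup R)) = p ^ 2 := by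
  obtain ⟨N, hNn, hNc, hQc⟩ := hm
  haveI := hNn
  haveI := hQc
  obtain ⟨T, hTn, hTp, hT⟩ : ∃ T : Subgroup R, T.Normal ∧ (∀ x : R, x ^ p = 1 → x ∈ T) ∧
      (∃ h : N ≤ T, (N.subgroupOf T).index = p) := by
    have hNtop : N ≠ ⊤ := fun h => hnc (by
      rw [h] at hNc; exact isCyclic_of_surjective _ Subgroup.topEquiv.surjective)
    obtain ⟨M, hMn, hNM, -, hM⟩ := PGroups.exists_normal_card_mul hR N ⊤ (lt_top_iff_ne_top.mpr hNtop)
    haveI := hMn
    refine ⟨M, hMn, fun x hx => ?_, hNM, ?_⟩
    · set q := QuotientGroup.mk' N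
      have hMq : Nat.card (M.map q) = p := by
        have h1 := PGroups.card_comap_mk' N (M.map q)
        rw [Subgroup.comap_map_eq, QuotientGroup.ker_mk', sup_eq_left.mpr hNM, hM, mul_comm p] at h1
        exact (Nat.eq_of_mul_eq_mul_left Nat.card_pos h1).symm
      classical
      haveI := Fintype.ofFinite (R ⧸ N)
      have hle := IsCyclic.card_pow_eq_one_le (α := R ⧸ N) (Fact.out : p.Prime).pos
      haveI := Fintype.ofFinite (M.map q)
      have hsub : ({y | y ∈ M.map q} : Finset (R ⧸ N)) ⊆ ({y | y ^ p = 1} : Finset (R ⧸ N)) := by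
        intro y hy
        simp only [Finset.mem_filter, Finset.mem_univ, true_and] at hy ⊢
        have := pow_card_eq_one' (G := M.map q) (x := ⟨y, hy⟩)
        rw [hMq] at this
        exact congrArg Subtype.val this
      have hcard : ({y | y ∈ M.map q} : Finset (R ⧸ N)).card = p := by
        rw [← hMq, Nat.card_eq_fintype_card, Fintype.card_subtype]
      have heq := Finset.eq_of_subset_of_card_le hsub (by omega)
      have hxq : q x ∈ ({y | y ^ p = 1} : Finset (R ⧸ N)) := by
        simp only [Finset.mem_filter, Finset.mem_univ, true_and]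
        rw [← map_pow, hx, map_one]
      rw [← heq] at hxq
      simp only [Finset.mem_filter, Finset.mem_univ, true_and] at hxq
      have : x ∈ (M.map q).comap q := hxq
      rwa [Subgroup.comap_map_eq, QuotientGroup.ker_mk', sup_eq_left.mpr hNM] at this
    · have h2 := Subgroup.card_mul_index (N.subgroupOf M)
      rw [Nat.card_congr (Subgroup.subgroupOfEquivOfLe hNM).toEquiv, hM, mul_comm p] at h2
      exact Nat.eq_of_mul_eq_mul_left Nat.card_pos h2
  obtain ⟨hNT, hidx⟩ := hT
  obtain ⟨B, -, hBab, hBe, hBc⟩ := PGroups.exists_normal_elementary_sq hR hp hnc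
  have hTc : ¬ IsCyclic T := fun h => by
    haveI := h
    haveI : IsCyclic B := Subgroup.isCyclic_of_le (fun b hb => hTp b (hBe b hb) : B ≤ T)
    obtain ⟨g, hg⟩ := IsCyclic.exists_ofOrder_eq_natCard (α := B)
    have h1 : orderOf g ∣ p := orderOf_dvd_of_pow_eq_one (Subtype.ext (hBe g g.2))
    rw [hg, hBc] at h1
    have h2 := Nat.le_of_dvd (Fact.out : p.Prime).pos h1
    nlinarith [(Fact.out : p.Prime).two_le]
  haveI : IsCyclic (N.subgroupOf T) :=
    isCyclic_of_surjective _ (Subgroup.subgroupOfEquivOfLe hNT).symm.surjective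
  obtain ⟨hcomm, hcard, hexp⟩ :=
    PGroups.omega_of_cyclic_max (hR.to_subgroup T) hp hTc (C := N.subgroupOf T) inferInstance hidx
  have hmap : Cfsg.omegaOne p (⊤ : Subgroup R) = (Subgroup.closure {x : T | x ^ p = 1}).map T.subtype := by
    rw [MonoidHom.map_closure]
    unfold Cfsg.omegaOne
    congr 1
    ext x
    constructor
    · rintro ⟨-, hx⟩
      exact ⟨⟨x, hTp x hx⟩, Subtype.ext hx, rfl⟩
    · rintro ⟨y, hy, rfl⟩
      exact ⟨trivial, congrArg Subtype.val hy⟩
  rw [hmap]
  refine ⟨⟨PGroups.isMulCommutative_of_comm ?_, ?_⟩, ?_⟩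
  · rintro _ ⟨x, hx, rfl⟩ _ ⟨y, hy, rfl⟩
    exact congrArg Subtype.val (PGroups.comm_of_isMulCommutative hcomm hx hy)
  · rintro _ ⟨x, hx, rfl⟩
    exact congrArg Subtype.val (hexp x hx)
  · rw [Subgroup.card_map_of_injective T.subtype_injective, hcard]

end Cfsg.Agent.S0638
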