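import Cfsg.Statements.S5234
import Cfsg.Agent.H90.OmegaSmall
import Cfsg.Agent.S0638

set_option autoImplicit false
open Cfsg

namespace Cfsg.Agent.S5234

/-- Let p be an odd prime, F a saturated fusion system over a finite p-group S and P a metacyclic subgroup of S strongly closed in F. Then P is normal in F. -/
theorem result {Ω : Type*} [Group Ω] {S : Subgroup Ω} [Finite S] (p : ℕ) [Fact p.Prime] (hS : IsPGroup p S) (F : Cfsg.FusionSystem S) (hF : F.IsSaturated p) (P : Subgroup Ω) (hP : F.StronglyClosed P) (hp : p ≠ 2) (hm : Cfsg.IsMetacyclic ↥P) : F.IsNormal P := by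
  haveI := H90.finite_le hP.1
  set E₀ := Cfsg.omegaOne p (⊤ : Subgroup ↥P) with hE₀
  have hmap : E₀.map P.subtype = Cfsg.omegaOne p P := by
    rw [hE₀, Cfsg.omegaOne, Cfsg.omegaOne, MonoidHom.map_closure]
    congr 1
    ext x
    constructor
    · rintro ⟨y, ⟨-, hy⟩, rfl⟩
      exact ⟨y.2, by simpa using congrArg Subtype.val hy⟩
    · rintro ⟨hx, hxp⟩
      exact ⟨⟨x, hx⟩, ⟨trivial, Subtype.ext (by simpa using hxp)⟩, rfl⟩
  have key : (∀ y ∈ E₀, y ^ p = 1) ∧ Nat.card ↥E₀ ≤ p ^ 2 := by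
    by_cases hc : IsCyclic ↥P
    · have hexp : ∀ y ∈ E₀, y ^ p = 1 := by
        letI : CommGroup ↥P := IsCyclic.commGroup
        have hle : E₀ ≤ (powMonoidHom p : ↥P →* ↥P).ker :=
          (Subgroup.closure_le _).2 fun y hy => hy.2
        exact fun y hy => hle hy
      refine ⟨hexp, ?_⟩
      obtain ⟨g, hg⟩ := IsCyclic.exists_generator (α := ↥E₀)
      rw [← orderOf_eq_card_of_forall_mem_zpowers hg]
      have h1 : orderOf g ∣ p := orderOf_dvd_of_pow_eq_one (Subtype.ext (hexp g g.2))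
      exact (Nat.le_of_dvd (Fact.out : p.Prime).pos h1).trans
        (Nat.le_self_pow two_ne_zero p)
    · obtain ⟨hE, hc2⟩ := Cfsg.Agent.S0638.result hp (hS.to_le hP.1) hm hc
      exact ⟨fun y hy => hE.2 y hy, hc2.le⟩
  refine H90.isNormal_of_omega_small hS hF hp hP ?_ ?_
  · rw [← hmap]
    rintro _ ⟨y, hy, rfl⟩
    rw [← map_pow, key.1 y hy, map_one]
  · rw [← hmap, Subgroup.card_map_of_injective P.subtype_injective]
    exact key.2

end Cfsg.Agent.S5234
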