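import Cfsg.Statements.S3206
import Mathlib
import Cfsg.Agent.H64.PSLFour
import Cfsg.Agent.H64.SLPair
import Cfsg.Agent.H25.Transfer
import Cfsg.Agent.Fusion.Basic
import Cfsg.Agent.Linear.Simple

set_option autoImplicit false
open Cfsg

namespace Cfsg.Agent.S3206

open Subgroup
open scoped commutatorElement

variable {G : Type*} [Group G] [Finite G]

/-- In a perfect group an element of an abelian Sylow subgroup fixed by its normalizer is trivial. -/
theorem eq_one_of_fixed (hperf : commutator G = ⊤) (S : Sylow 2 G) (hS : IsMulCommutative ↥(S : Subgroup G))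
    {z : G} (hz : z ∈ (S : Subgroup G)) (hfix : ∀ n ∈ normalizer ((S : Subgroup G) : Set G), n * z * n⁻¹ = z) : z = 1 := by
  have : Fact (Nat.Prime 2) := ⟨Nat.prime_two⟩
  have hcomm : ∀ a ∈ (S : Subgroup G), ∀ b ∈ (S : Subgroup G), a * b = b * a := fun a ha b hb =>
    congrArg Subtype.val (hS.is_comm.comm ⟨a, ha⟩ ⟨b, hb⟩)
  have hsing : ∀ x ∈ (S : Subgroup G), (S : Subgroup G) ≤ normalizer ({x} : Set G) := fun x hx a ha => by
    rw [mem_set_normalizer_iff]
    intro y
    simp only [Set.mem_singleton_iff]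
    constructor
    · rintro rfl; rw [hcomm a ha y hx, mul_inv_cancel_right]
    · intro h
      calc y = a⁻¹ * (a * y * a⁻¹) * a := by group
        _ = x := by rw [h, hcomm _ (inv_mem ha) x hx, inv_mul_cancel_right]
  have key : ∀ (k : ℕ) (g₀ : G), g₀⁻¹ * z ^ k * g₀ ∈ (S : Subgroup G) → g₀⁻¹ * z ^ k * g₀ = z ^ k := by
    intro k g₀ h
    obtain ⟨n, hn, hnx⟩ := Fusion.burnside_fusion_sets S (hsing _ (pow_mem hz k)) (hsing _ h)
      (g := g₀⁻¹) (by simp)
    simp only [Set.image_singleton, Set.singleton_eq_singleton_iff] at hnx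
    rw [← hnx, ← conj_pow, hfix n hn]
  let _ : CommGroup ↥(S : Subgroup G) := { (inferInstance : Group ↥(S : Subgroup G)) with mul_comm := hS.is_comm.comm }
  have h1 := MonoidHom.transfer_eq_pow (MonoidHom.id ↥(S : Subgroup G)) z key
  have h2 : MonoidHom.transfer (MonoidHom.id ↥(S : Subgroup G)) z = 1 :=
    Abelianization.commutator_subset_ker _ (hperf ▸ mem_top z)
  rw [h2, MonoidHom.id_apply] at h1
  have h3 : z ^ (S : Subgroup G).index = 1 := by
    exact (congrArg Subtype.val h1).symm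
  obtain ⟨i, hi⟩ := IsPGroup.iff_orderOf.1 S.2 ⟨z, hz⟩
  rw [Subgroup.orderOf_mk] at hi
  refine orderOf_eq_one_iff.1 (Nat.eq_one_of_dvd_coprimes ?_ (orderOf_dvd_of_pow_eq_one h3) hi.dvd)
  exact ((Nat.prime_two.coprime_iff_not_dvd.2 S.not_dvd_index).symm.pow_right i)

omit [Finite G] in
/-- Elements in the subgroup generated by commuting elements squaring to one square to one. -/
theorem sq_eq_one_of_mem_closure {s : Set G} (hs : ∀ a ∈ s, a * a = 1) (hc : ∀ a ∈ s, ∀ b ∈ s, a * b = b * a)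
    {x : G} (hx : x ∈ closure s) : x * x = 1 := by
  have hcm := isMulCommutative_closure hc
  induction hx using closure_induction with
  | mem a ha => exact hs a ha
  | one => simp
  | mul a b ha hb iha ihb =>
    have e : a * b = b * a := congrArg Subtype.val (hcm.is_comm.comm ⟨a, ha⟩ ⟨b, hb⟩)
    calc a * b * (a * b) = a * (b * a) * b := by group
      _ = (a * a) * (b * b) := by rw [← e]; group
      _ = 1 := by rw [iha, ihb, one_mul]
  | inv a ha iha => rw [← mul_inv_rev, iha, inv_one]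

/-- The automorphism induced on an embedded group. -/
noncomputable def restrAut {P : Type*} [Group P] (f : P →* G) (hf : Function.Injective f) (ψ : MulAut G)
    (h : ∀ x, ψ (f x) ∈ f.range) : MulAut P :=
  MulEquiv.ofBijective
    ((MonoidHom.ofInjective hf).symm.toMonoidHom.comp ((ψ.toMonoidHom.comp f).codRestrict f.range h))
    (by
      have : Finite P := Finite.of_injective f hf
      refine Finite.injective_iff_bijective.1 fun a b hab => hf (ψ.injective ?_)
      exact congrArg Subtype.val ((MonoidHom.ofInjective hf).symm.injective hab))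

theorem restrAut_spec {P : Type*} [Group P] (f : P →* G) (hf : Function.Injective f) (ψ : MulAut G)
    (h : ∀ x, ψ (f x) ∈ f.range) (x : P) : f (restrAut f hf ψ h x) = ψ (f x) :=
  MonoidHom.apply_ofInjective_symm hf _

theorem restrAut_pow_spec {P : Type*} [Group P] (f : P →* G) (hf : Function.Injective f) (ψ : MulAut G)
    (h : ∀ x, ψ (f x) ∈ f.range) (m : ℕ) (x : P) : f ((restrAut f hf ψ h ^ m) x) = (ψ ^ m) (f x) := by
  induction m generalizing x with
  | zero => simp
  | succ m ih => rw [pow_succ, pow_succ, MulAut.mul_apply, MulAut.mul_apply, ih, restrAut_spec]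

/-- An automorphism of 2-power order normalizing an embedded PSL₂ and fixing two of its commuting involutions
acts on it as an element of their four-group. -/
theorem inner_on {F : Type*} [Field F] [Fintype F] (hodd : Odd (Fintype.card F))
    (f : Matrix.ProjectiveSpecialLinearGroup (Fin 2) F →* G) (hf : Function.Injective f)
    (hab : ∀ P : Sylow 2 (Matrix.ProjectiveSpecialLinearGroup (Fin 2) F),
      IsMulCommutative ↥(P : Subgroup (Matrix.ProjectiveSpecialLinearGroup (Fin 2) F)))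
    (ψ : MulAut G) {k : ℕ} (hk : ψ ^ 2 ^ k = 1) (h : ∀ x, ψ (f x) ∈ f.range)
    {u v : Matrix.ProjectiveSpecialLinearGroup (Fin 2) F} (hu1 : u ≠ 1) (hv1 : v ≠ 1) (huv : u ≠ v)
    (hu : u * u = 1) (hv : v * v = 1) (hc : u * v = v * u) (hfu : ψ (f u) = f u) (hfv : ψ (f v) = f v) :
    ∃ w, (w = 1 ∨ w = f u ∨ w = f v ∨ w = f u * f v) ∧ ∀ x, ψ (f x) = w * f x * w⁻¹ := by
  set φ := restrAut f hf ψ h
  have hφk : φ ^ 2 ^ k = 1 := MulEquiv.ext fun x => hf (by
    rw [restrAut_pow_spec, hk]; rfl)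
  obtain ⟨w, hw, he⟩ := H64.PSLFour.inner_of_fix hodd hab φ hφk hu1 hv1 huv hu hv hc
    (hf (by rw [restrAut_spec, hfu])) (hf (by rw [restrAut_spec, hfv]))
  refine ⟨f w, ?_, fun x => ?_⟩
  · rcases hw with rfl | rfl | rfl | rfl <;> simp
  · rw [← restrAut_spec f hf ψ h]
    show f (φ x) = _
    rw [he, MulAut.conj_apply, map_mul, map_mul, map_inv]

set_option maxHeartbeats 1600000 in
/-- Let G be a non-abelian finite simple group with abelian Sylow 2-subgroups, and let t be an involution of G whose centralizer is a maximal subgroup of G and is the direct product of the subgroup generated by t with a subgroup E having a normal subgroup isomorphic to PSL(2, q), q odd and greater than 3, with trivial centralizer in E. Then every finite perfect group having a central 2-subgroup with quotient isomorphic to G has that central subgroup trivial (G has no nontrivial perfect central extension by a 2-group), and every automorphism of G of 2-power order that fixes every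 element of some Sylow 2-subgroup of G is inner. -/
theorem result {G : Type*} [Group G] [Finite G] [IsSimpleGroup G]
    (hG : ¬ IsMulCommutative G) (hab : ∀ S : Sylow 2 G, IsMulCommutative ↥(S : Subgroup G))
    (t : G) (ht : orderOf t = 2) (hmax : IsCoatom (Subgroup.centralizer ({t} : Set G)))
    (E : Subgroup G) (hE : Cfsg.IsInternalDirectProduct (Subgroup.zpowers t) E (Subgroup.centralizer ({t} : Set G)))
    {F : Type*} [Field F] [Fintype F] (hFo : Odd (Fintype.card F)) (hF3 : 3 < Fintype.card F)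
    (N : Subgroup ↥E) [N.Normal] (hN : Nonempty (↥N ≃* Matrix.ProjectiveSpecialLinearGroup (Fin 2) F))
    (hNc : Subgroup.centralizer (N : Set ↥E) = ⊥) :
    (∀ (L : Type) (_ : Group L) (_ : Finite L) (Z : Subgroup L) (_ : Z.Normal), commutator L = ⊤ → Z ≤ Subgroup.center L →
        IsPGroup 2 ↥Z → Nonempty (L ⧸ Z ≃* G) → Z = ⊥) ∧
    (∀ (φ : G ≃* G) (k : ℕ), φ ^ (2 ^ k) = 1 → (∃ S : Sylow 2 G, ∀ s ∈ (S : Subgroup G), φ s = s) →
        ∃ g : G, ∀ x : G, φ x = g * x * g⁻¹) := by
  have : Fact (Nat.Prime 2) := ⟨Nat.prime_two⟩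
  have hperf : commutator G = ⊤ := by
    refine (Subgroup.Normal.eq_bot_or_eq_top (inferInstance : (commutator G).Normal)).resolve_left fun h => hG ?_
    exact ⟨⟨fun a b => by
      have : a * b * a⁻¹ * b⁻¹ ∈ commutator G := Subgroup.commutator_mem_commutator (mem_top a) (mem_top b)
      rw [h, mem_bot] at this
      exact mul_inv_eq_iff_eq_mul.1 (mul_inv_eq_one.1 this)⟩⟩
  set C := centralizer ({t} : Set G)
  obtain ⟨htC, hEC, htE, hinf, hsup⟩ := hE
  have hdec : ∀ x ∈ C, ∃ a ∈ zpowers t, ∃ e ∈ E, a * e = x := fun x hx =>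
    (H64.SLPair.mem_sup_iff htE).1 (hsup.symm ▸ hx)
  have hEn : ∀ x ∈ C, ∀ e ∈ E, x * e * x⁻¹ ∈ E := by
    intro x hx e he
    obtain ⟨a, ha, e', he', rfl⟩ := hdec x hx
    have : a * e' * e * (a * e')⁻¹ = e' * e * e'⁻¹ := by
      calc a * e' * e * (a * e')⁻¹ = a * (e' * e * e'⁻¹) * a⁻¹ := by group
        _ = _ := by rw [htE a ha _ (mul_mem (mul_mem he' he) (inv_mem he')), mul_inv_cancel_right]
    rw [this]
    exact mul_mem (mul_mem he' he) (inv_mem he')
  -- the embedded linear group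
  obtain ⟨eN⟩ := hN
  let f : Matrix.ProjectiveSpecialLinearGroup (Fin 2) F →* G := E.subtype.comp (N.subtype.comp eN.symm.toMonoidHom)
  have hf : Function.Injective f := E.subtype_injective.comp (N.subtype_injective.comp eN.symm.injective)
  have hfE : ∀ x, f x ∈ E := fun x => ((eN.symm x : N) : E).2
  have hrange : ∀ e : E, e ∈ N ↔ (e : G) ∈ f.range := by
    intro e
    refine ⟨fun he => ⟨eN ⟨e, he⟩, by simp [f]⟩, ?_⟩
    rintro ⟨x, hx⟩
    have : ((eN.symm x : N) : E) = e := Subtype.ext hx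
    exact this ▸ (eN.symm x).2
  have hfn : ∀ e ∈ E, ∀ x, e * f x * e⁻¹ ∈ f.range := fun e he x =>
    (hrange (⟨e, he⟩ * ((eN.symm x : N) : E) * ⟨e, he⟩⁻¹)).1
      ((inferInstance : N.Normal).conj_mem _ (eN.symm x).2 _)
  have hfnC : ∀ c ∈ C, ∀ x, c * f x * c⁻¹ ∈ f.range := by
    intro c hc x
    obtain ⟨a, ha, e, he, rfl⟩ := hdec c hc
    have h1 := hfn e he x
    obtain ⟨y, hy⟩ := h1
    have : a * e * f x * (a * e)⁻¹ = f y := by
      calc a * e * f x * (a * e)⁻¹ = a * (e * f x * e⁻¹) * a⁻¹ := by group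
        _ = f y := by rw [← hy, htE a ha _ (hfE y), mul_inv_cancel_right]
    rw [this]
    exact ⟨y, rfl⟩
  have hcentr : ∀ e ∈ E, (∀ x, e * f x = f x * e) → e = 1 := by
    intro e he h
    have hm : (⟨e, he⟩ : E) ∈ centralizer (N : Set E) := by
      rw [mem_centralizer_iff]
      intro n hn
      obtain ⟨x, hx⟩ := (hrange n).1 hn
      exact Subtype.ext (by show (n : G) * e = e * n; rw [← hx]; exact (h x).symm)
    rw [hNc, mem_bot] at hm
    exact congrArg Subtype.val hm
  have hcommG : ∀ S : Sylow 2 G, ∀ a ∈ (S : Subgroup G), ∀ b ∈ (S : Subgroup G), a * b = b * a :=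
    fun S a ha b hb => congrArg Subtype.val ((hab S).is_comm.comm ⟨a, ha⟩ ⟨b, hb⟩)
  have habP : ∀ P : Sylow 2 (Matrix.ProjectiveSpecialLinearGroup (Fin 2) F),
      IsMulCommutative ↥(P : Subgroup (Matrix.ProjectiveSpecialLinearGroup (Fin 2) F)) := fun P => by
    obtain ⟨Q, hQ⟩ := (P.2.map f).exists_le_sylow
    exact ⟨⟨fun a b => Subtype.ext (hf (by
      simp only [Subgroup.coe_mul, map_mul]
      exact hcommG Q _ (hQ ⟨a, a.2, rfl⟩) _ (hQ ⟨b, b.2, rfl⟩)))⟩⟩
  obtain ⟨u₀, v₀, τ₀, hu1, hv1, huv, huu, hvv, hcuv, hτu, hτv⟩ := H64.PSLFour.exists_four (F := F) hFo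
  set u := f u₀ with hu
  set v := f v₀ with hv
  set τ := f τ₀ with hτ
  have htt : t * t = 1 := by rw [← pow_two, ← ht, pow_orderOf_eq_one]
  have htf : ∀ x, t * f x = f x * t := fun x => htE t (mem_zpowers t) _ (hfE x)
  have hτC : τ ∈ C := mem_centralizer_singleton_iff.2 (htf τ₀).symm
  -- a Sylow subgroup
  have hA : IsPGroup 2 (closure ({t, u, v} : Set G)) := by
    refine IsPGroup.iff_orderOf.2 fun x => ?_
    have hx : (x : G) * x = 1 := by
      refine sq_eq_one_of_mem_closure ?_ ?_ x.2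
      · rintro a (rfl | rfl | rfl)
        exacts [htt, by rw [hu, ← map_mul, huu, map_one], by rw [hv, ← map_mul, hvv, map_one]]
      · rintro a (rfl | rfl | rfl) b (rfl | rfl | rfl)
        exacts [rfl, htf _, htf _, (htf _).symm, rfl, by rw [hu, hv, ← map_mul, hcuv, map_mul],
          (htf _).symm, by rw [hu, hv, ← map_mul, ← hcuv, map_mul], rfl]
    obtain ⟨i, -, hi⟩ := (Nat.dvd_prime_pow Nat.prime_two).1
      (orderOf_dvd_of_pow_eq_one (show x ^ 2 ^ 1 = 1 from Subtype.ext (by simpa [pow_two] using hx)))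
    exact ⟨i, hi⟩
  obtain ⟨S₀, hS₀⟩ := hA.exists_le_sylow
  have htS : t ∈ (S₀ : Subgroup G) := hS₀ (subset_closure (by simp))
  have huS : u ∈ (S₀ : Subgroup G) := hS₀ (subset_closure (by simp))
  have hvS : v ∈ (S₀ : Subgroup G) := hS₀ (subset_closure (by simp))
  have hS0C : (S₀ : Subgroup G) ≤ C := fun x hx => mem_centralizer_singleton_iff.2 (hcommG S₀ x hx t htS)
  have hSE : ∀ x ∈ (S₀ : Subgroup G), x ∈ E → x = 1 ∨ x = u ∨ x = v ∨ x = u * v := by
    intro e heS he
    obtain ⟨k, hk⟩ := IsPGroup.iff_orderOf.1 S₀.2 ⟨e, heS⟩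
    rw [Subgroup.orderOf_mk] at hk
    obtain ⟨w, hw, hwe⟩ := inner_on hFo f hf habP (MulAut.conj e) (k := k)
      (by rw [← map_pow, ← hk, pow_orderOf_eq_one, map_one]) (hfn e he) hu1 hv1 huv huu hvv hcuv
      (by show e * u * e⁻¹ = u; rw [hcommG S₀ e heS u huS, mul_inv_cancel_right])
      (by show e * v * e⁻¹ = v; rw [hcommG S₀ e heS v hvS, mul_inv_cancel_right])
    have hwE : w ∈ E := by
      rcases hw with rfl | rfl | rfl | rfl
      exacts [one_mem _, hfE _, hfE _, mul_mem (hfE _) (hfE _)]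
    have h1 := hcentr (w⁻¹ * e) (mul_mem (inv_mem hwE) he) fun x => by
      have h' : e * f x * e⁻¹ = w * f x * w⁻¹ := hwe x
      calc w⁻¹ * e * f x = w⁻¹ * (e * f x * e⁻¹) * e := by group
        _ = _ := by rw [h']; group
    rw [← inv_mul_eq_one.1 h1]
    exact hw
  have hS0el : ∀ x ∈ (S₀ : Subgroup G), ∃ a, (a = 1 ∨ a = t) ∧ ∃ w, (w = 1 ∨ w = u ∨ w = v ∨ w = u * v) ∧ x = a * w := by
    intro x hx
    obtain ⟨a, ha, e, he, rfl⟩ := hdec x (hS0C hx)
    have haS : a ∈ (S₀ : Subgroup G) := zpowers_le.2 htS ha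
    have heS : e ∈ (S₀ : Subgroup G) := by simpa using mul_mem (inv_mem haS) hx
    exact ⟨a, (H64.SLPair.mem_zpowers_involution_iff ht).1 ha, e, hSE e heS he, rfl⟩
  have hsq : ∀ x ∈ (S₀ : Subgroup G), x * x = 1 := by
    intro x hx
    obtain ⟨a, ha, w, hw, rfl⟩ := hS0el x hx
    refine sq_eq_one_of_mem_closure (s := ({t, u, v} : Set G)) ?_ ?_ ?_
    · rintro a (rfl | rfl | rfl)
      exacts [htt, by rw [hu, ← map_mul, huu, map_one], by rw [hv, ← map_mul, hvv, map_one]]
    · rintro a (rfl | rfl | rfl) b (rfl | rfl | rfl) <;>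
        exact hcommG S₀ _ (by assumption) _ (by assumption)
    · refine mul_mem ?_ ?_
      · rcases ha with rfl | rfl
        exacts [one_mem _, subset_closure (by simp)]
      · rcases hw with rfl | rfl | rfl | rfl
        exacts [one_mem _, subset_closure (by simp), subset_closure (by simp),
          mul_mem (subset_closure (by simp)) (subset_closure (by simp))]
  have hτt : τ * t * τ⁻¹ = t := by rw [← htf τ₀, mul_inv_cancel_right]
  have hτu' : τ * u * τ⁻¹ = v := by rw [hτ, hu, hv, ← hτu]; simp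
  have hτv' : τ * v * τ⁻¹ = u * v := by
    rw [hτ, hu, hv, ← map_inv, ← map_mul, ← map_mul, hτv, map_mul]
  have hτuv : τ * (u * v) * τ⁻¹ = u := by
    calc τ * (u * v) * τ⁻¹ = (τ * u * τ⁻¹) * (τ * v * τ⁻¹) := by group
      _ = v * (v * u) := by rw [hτu', hτv', hcommG S₀ u huS v hvS]
      _ = u := by rw [← mul_assoc, hsq v hvS, one_mul]
  have hne : u ≠ 1 ∧ v ≠ 1 ∧ u ≠ v :=
    ⟨fun h => hu1 (hf (h.trans (map_one f).symm)), fun h => hv1 (hf (h.trans (map_one f).symm)), fun h => huv (hf h)⟩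
  -- τ fixes only 1 and t in S₀
  have hτfix : ∀ x ∈ (S₀ : Subgroup G), τ * x * τ⁻¹ = x → x = 1 ∨ x = t := by
    intro x hx h
    obtain ⟨a, ha, w, hw, rfl⟩ := hS0el x hx
    have haτ : τ * a * τ⁻¹ = a := by rcases ha with rfl | rfl <;> simp [hτt]
    have h' : τ * w * τ⁻¹ = w := by
      calc τ * w * τ⁻¹ = (τ * a * τ⁻¹)⁻¹ * (τ * (a * w) * τ⁻¹) := by group
        _ = w := by rw [haτ, h, inv_mul_cancel_left]
    rcases hw with rfl | rfl | rfl | rfl
    · rcases ha with rfl | rfl <;> simp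
    · exact absurd (hτu'.symm.trans h').symm hne.2.2
    · rw [hτv'] at h'; exact absurd (mul_eq_right.1 h') hne.1
    · rw [hτuv] at h'; exact absurd (left_eq_mul.1 h') hne.2.1
  set M := normalizer ((S₀ : Subgroup G) : Set G)
  have hτS : ∀ x ∈ (S₀ : Subgroup G), τ * x * τ⁻¹ ∈ (S₀ : Subgroup G) := by
    intro x hx
    obtain ⟨a, ha, w, hw, rfl⟩ := hS0el x hx
    rw [show τ * (a * w) * τ⁻¹ = (τ * a * τ⁻¹) * (τ * w * τ⁻¹) by group]
    refine mul_mem ?_ ?_
    · rcases ha with rfl | rfl <;> simp [hτt, htS]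
    · rcases hw with rfl | rfl | rfl | rfl
      · simp
      · rw [hτu']; exact hvS
      · rw [hτv']; exact mul_mem huS hvS
      · rw [hτuv]; exact huS
  have hτM : τ ∈ M := by
    have hle : (S₀ : Subgroup G).map (MulAut.conj τ).toMonoidHom ≤ (S₀ : Subgroup G) := by
      rintro _ ⟨x, hx, rfl⟩
      exact hτS x hx
    have heq := Subgroup.eq_of_le_of_card_ge hle
      (card_map_of_injective (MulAut.conj τ).injective).ge
    refine mem_normalizer_iff.2 fun x => ⟨hτS x, fun hx => ?_⟩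
    rw [← heq] at hx
    obtain ⟨y, hy, hyx⟩ := hx
    rwa [← (MulAut.conj τ).injective hyx]
  have hMconj : ∀ n ∈ M, ∀ x ∈ (S₀ : Subgroup G), n * x * n⁻¹ ∈ (S₀ : Subgroup G) := fun n hn x hx =>
    (mem_normalizer_iff.1 hn x).1 hx
  -- the orbit of t
  let O : Set G := {x | ∃ n ∈ M, n * t * n⁻¹ = x}
  have hOτ : ∀ x ∈ O, τ * x * τ⁻¹ ∈ O := by
    rintro x ⟨n, hn, rfl⟩
    exact ⟨τ * n, mul_mem hτM hn, by group⟩
  have hOodd : Odd (Nat.card O) := by
    have hcardO : Nat.card O = C.relIndex M := by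
      rw [Subgroup.relIndex, Subgroup.index]
      refine (Nat.card_congr (Equiv.ofBijective
        (Quotient.lift (fun n : M => (⟨(n : G) * t * (n : G)⁻¹, n, n.2, rfl⟩ : O)) ?_) ⟨?_, ?_⟩)).symm
      · intro a b hab'
        have h := QuotientGroup.leftRel_apply.1 hab'
        rw [mem_subgroupOf] at h
        have h' := mem_centralizer_singleton_iff.1 h
        refine Subtype.ext ?_
        show (a : G) * t * (a : G)⁻¹ = (b : G) * t * (b : G)⁻¹
        calc (a : G) * t * (a : G)⁻¹ = (a : G) * (t * ((a⁻¹ * b : M) : G)) * (b : G)⁻¹ := by simp [mul_assoc]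
          _ = _ := by rw [← h']; simp [mul_assoc]
      · intro a b hab'
        induction a using Quotient.inductionOn with | _ a => ?_
        induction b using Quotient.inductionOn with | _ b => ?_
        refine Quotient.sound (QuotientGroup.leftRel_apply.2 (mem_subgroupOf.2 (mem_centralizer_singleton_iff.2 ?_)))
        have h : (a : G) * t * (a : G)⁻¹ = (b : G) * t * (b : G)⁻¹ := congrArg Subtype.val hab'
        calc ((a⁻¹ * b : M) : G) * t = (a : G)⁻¹ * ((b : G) * t * (b : G)⁻¹) * (b : G) := by simp [mul_assoc]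
          _ = t * ((a⁻¹ * b : M) : G) := by rw [← h]; simp [mul_assoc]
      · rintro ⟨x, n, hn, rfl⟩
        exact ⟨Quotient.mk _ ⟨n, hn⟩, rfl⟩
    rw [hcardO]
    have h1 := relIndex_mul_relIndex ((S₀ : Subgroup G) ⊓ M) (C ⊓ M) M (inf_le_inf_right _ hS0C) inf_le_right
    rw [inf_relIndex_right, inf_relIndex_right] at h1
    have hd : C.relIndex M ∣ (S₀ : Subgroup G).index :=
      (Dvd.intro_left _ h1).trans (relIndex_dvd_index_of_le le_normalizer)
    rw [← Nat.not_even_iff_odd, even_iff_two_dvd]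
    exact fun h => S₀.not_dvd_index (h.trans hd)
  have htO : t ∈ O := ⟨1, one_mem _, by simp⟩
  have hne1 : ∀ x ∈ O, x ≠ 1 := by
    rintro x ⟨n, -, rfl⟩ h
    rw [conj_eq_one_iff] at h
    rw [h, orderOf_one] at ht
    omega
  have hOS : ∀ x ∈ O, x ∈ (S₀ : Subgroup G) := by
    rintro x ⟨n, hn, rfl⟩
    exact hMconj n hn t htS
  have htn : t ∉ E := fun h => by
    have : t ∈ zpowers t ⊓ E := ⟨mem_zpowers t, h⟩
    rw [hinf, mem_bot] at this
    rw [this, orderOf_one] at ht; omega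
  have hcyc : ∀ a, τ * a * τ⁻¹ = a → ((a * u ∈ O ↔ a * v ∈ O) ∧ (a * v ∈ O ↔ a * (u * v) ∈ O)) := by
    intro a ha
    have e : ∀ w, τ * (a * w) * τ⁻¹ = a * (τ * w * τ⁻¹) := fun w => by
      calc τ * (a * w) * τ⁻¹ = (τ * a * τ⁻¹) * (τ * w * τ⁻¹) := by group
        _ = _ := by rw [ha]
    have s1 : a * u ∈ O → a * v ∈ O := fun h => by have := hOτ _ h; rwa [e, hτu'] at this
    have s2 : a * v ∈ O → a * (u * v) ∈ O := fun h => by have := hOτ _ h; rwa [e, hτv'] at this
    have s3 : a * (u * v) ∈ O → a * u ∈ O := fun h => by have := hOτ _ h; rwa [e, hτuv] at this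
    exact ⟨⟨s1, fun h => s3 (s2 h)⟩, ⟨s2, fun h => s1 (s3 h)⟩⟩
  have htrans : ∀ x ∈ (S₀ : Subgroup G), x ≠ 1 → x ∈ O := by
    have h4 : ∀ a, (a = 1 ∨ a = t) → ∀ b, (b = 1 ∨ b = t) → a ≠ b → a * u ∈ O → b * u ∈ O := by
      intro a ha b hb hab' hau
      by_contra hbu
      have hca := hcyc a (by rcases ha with rfl | rfl <;> simp [hτt])
      have hcb := hcyc b (by rcases hb with rfl | rfl <;> simp [hτt])
      have hO : O = {t, a * u, a * v, a * (u * v)} := by
        ext x
        constructor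
        · intro hx
          obtain ⟨c, hc, w, hw, rfl⟩ := hS0el x (hOS x hx)
          have hcab : c = a ∨ c = b := by
            rcases ha with rfl | rfl <;> rcases hb with rfl | rfl <;> rcases hc with rfl | rfl <;>
              first | exact Or.inl rfl | exact Or.inr rfl | exact absurd rfl hab'
          rcases hw with rfl | rfl | rfl | rfl
          · rcases hc with rfl | rfl
            · exact absurd (one_mul 1) (hne1 _ hx)
            · exact Or.inl (mul_one _)
          · rcases hcab with rfl | rfl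
            · simp
            · exact absurd hx hbu
          · rcases hcab with rfl | rfl
            · simp
            · exact absurd (hcb.1.2 hx) hbu
          · rcases hcab with rfl | rfl
            · simp
            · exact absurd (hcb.1.2 (hcb.2.2 hx)) hbu
        · rintro (rfl | rfl | rfl | rfl)
          exacts [htO, hau, hca.1.1 hau, hca.2.1 (hca.1.1 hau)]
      have haE : ∀ w ∈ E, w ≠ 1 → t ≠ a * w := by
        intro w hw hw1 h
        rcases ha with rfl | rfl
        · exact htn (by rw [h, one_mul]; exact hw)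
        · exact hw1 (left_eq_mul.1 h)
      have huE := hfE u₀
      have hvE := hfE v₀
      have huv1 : u * v ≠ 1 := fun h => hne.2.2 (by
        rw [← inv_eq_of_mul_eq_one_right (hsq u huS), inv_eq_of_mul_eq_one_right h])
      have hcard : Nat.card O = 4 := by
        rw [hO, Nat.card_coe_set_eq, Set.ncard_insert_of_notMem, Set.ncard_insert_of_notMem,
          Set.ncard_insert_of_notMem, Set.ncard_singleton]
        · simp [mul_right_inj, hne.1]
        · simp [mul_right_inj, hne.2.2, hne.2.1]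
        · simp only [Set.mem_insert_iff, Set.mem_singleton_iff, not_or]
          exact ⟨haE u huE hne.1, haE v hvE hne.2.1, haE _ (mul_mem huE hvE) huv1⟩
      rw [hcard] at hOodd
      exact (Nat.not_odd_iff_even.2 ⟨2, rfl⟩) hOodd
    have hboth : 1 * u ∈ O ∧ t * u ∈ O := by
      have ht1 : t ≠ 1 := hne1 t htO
      by_contra hcon
      have h1 : 1 * u ∉ O := fun h => hcon ⟨h, h4 1 (Or.inl rfl) t (Or.inr rfl) ht1.symm h⟩
      have h2 : t * u ∉ O := fun h => hcon ⟨h4 t (Or.inr rfl) 1 (Or.inl rfl) ht1 h, h⟩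
      refine ht1 (eq_one_of_fixed hperf S₀ (hab S₀) htS fun n hn => ?_)
      obtain ⟨c, hc, w, hw, hx⟩ := hS0el _ (hMconj n hn t htS)
      have hxO : c * w ∈ O := ⟨n, hn, hx⟩
      have hcc := hcyc c (by rcases hc with rfl | rfl <;> simp [hτt])
      have hcu : c * u ∉ O := by rcases hc with rfl | rfl <;> assumption
      rcases hw with rfl | rfl | rfl | rfl
      · rcases hc with rfl | rfl
        · exact absurd (one_mul 1) (hne1 _ hxO)
        · rw [hx, mul_one]
      · exact absurd hxO hcu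
      · exact absurd (hcc.1.2 hxO) hcu
      · exact absurd (hcc.1.2 (hcc.2.2 hxO)) hcu
    intro x hx hx1
    obtain ⟨c, hc, w, hw, rfl⟩ := hS0el x hx
    have hcu : c * u ∈ O := by rcases hc with rfl | rfl <;> simp only [hboth.1, hboth.2]
    have hcc := hcyc c (by rcases hc with rfl | rfl <;> simp [hτt])
    rcases hw with rfl | rfl | rfl | rfl
    · rcases hc with rfl | rfl
      · exact absurd (one_mul 1) hx1
      · rwa [mul_one]
    exacts [hcu, hcc.1.1 hcu, hcc.2.1 (hcc.1.1 hcu)]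
  constructor
  · -- central extensions
    intro L _ _ Z _ hL hZc hZ2 ⟨e⟩
    let π : L →* G := e.toMonoidHom.comp (QuotientGroup.mk' Z)
    have hπ : Function.Surjective π := e.surjective.comp (QuotientGroup.mk'_surjective Z)
    have hker : ∀ z : L, π z = 1 ↔ z ∈ Z := fun z => by
      show e (QuotientGroup.mk z) = 1 ↔ _
      rw [MulEquiv.map_eq_one_iff, QuotientGroup.eq_one_iff]
    have hkerZ : π.ker = Z := Subgroup.ext fun z => hker z
    have hcen : ∀ z ∈ Z, ∀ b : L, b * z = z * b := fun z hz b => mem_center_iff.1 (hZc hz) b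
    let d : L → L → L := fun a b => a * b * a⁻¹ * b⁻¹
    have hdZ : ∀ {a b}, π a * π b = π b * π a → d a b ∈ Z := fun {a b} h => by
      rw [← hker]; simp [d, h]
    have hmul : ∀ a b b', π a * π b' = π b' * π a → d a (b * b') = d a b * d a b' := by
      intro a b b' h
      calc d a (b * b') = a * b * a⁻¹ * ((d a b') * b⁻¹) := by simp only [d]; group
        _ = a * b * a⁻¹ * (b⁻¹ * d a b') := by rw [hcen _ (hdZ h) b⁻¹]
        _ = _ := by simp only [d]; group
    have hext : ∀ a a' b b', π a = π a' → π b = π b' → d a b = d a' b' := by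
      intro a a' b b' ha hb
      obtain ⟨z, hz, rfl⟩ : ∃ z ∈ Z, a' = a * z :=
        ⟨a⁻¹ * a', by rw [← hker, map_mul, map_inv, ha, inv_mul_cancel], by group⟩
      obtain ⟨z', hz', rfl⟩ : ∃ z ∈ Z, b' = b * z :=
        ⟨b⁻¹ * b', by rw [← hker, map_mul, map_inv, hb, inv_mul_cancel], by group⟩
      have r1 : d a (b * z') = d a b := by
        show a * (b * z') * a⁻¹ * (b * z')⁻¹ = a * b * a⁻¹ * b⁻¹
        calc a * (b * z') * a⁻¹ * (b * z')⁻¹ = a * b * (z' * a⁻¹) * z'⁻¹ * b⁻¹ := by group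
          _ = _ := by rw [← hcen z' hz' a⁻¹]; group
      have r2 : d (a * z) (b * z') = d a (b * z') := by
        show a * z * (b * z') * (a * z)⁻¹ * (b * z')⁻¹ = a * (b * z') * a⁻¹ * (b * z')⁻¹
        calc a * z * (b * z') * (a * z)⁻¹ * (b * z')⁻¹ = a * (z * (b * z')) * z⁻¹ * a⁻¹ * (b * z')⁻¹ := by group
          _ = _ := by rw [← hcen z hz (b * z')]; group
      rw [r2, r1]
    have hinv : ∀ c a b, π a * π b = π b * π a → d (c * a * c⁻¹) (c * b * c⁻¹) = d a b := by
      intro c a b h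
      calc d (c * a * c⁻¹) (c * b * c⁻¹) = c * d a b * c⁻¹ := by simp only [d]; group
        _ = d a b := by rw [hcen _ (hdZ h) c, mul_inv_cancel_right]
    obtain ⟨a₀, ha₀⟩ := hπ t
    obtain ⟨cτ, hcτ⟩ := hπ τ
    obtain ⟨bu, hbu⟩ := hπ u
    obtain ⟨bv, hbv⟩ := hπ v
    have hch : ∀ {b}, π b ∈ (S₀ : Subgroup G) → π a₀ * π b = π b * π a₀ := fun {b} hb => by
      rw [ha₀]; exact hcommG S₀ t htS _ hb
    have hτd : ∀ b b', π b ∈ (S₀ : Subgroup G) → π b' = τ * π b * τ⁻¹ → d a₀ b' = d a₀ b := by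
      intro b b' hb hb'
      rw [← hinv cτ a₀ b (hch hb)]
      refine hext _ _ _ _ ?_ ?_
      · simp [ha₀, hcτ, hτt]
      · simp [hb', hcτ]
    have du : d a₀ bu = 1 := by
      have e1 : d a₀ bv = d a₀ bu := hτd bu bv (hbu.symm ▸ huS) (by rw [hbu, hbv, hτu'])
      have e2 : d a₀ (bu * bv) = d a₀ bv := hτd bv (bu * bv) (hbv.symm ▸ hvS) (by rw [map_mul, hbu, hbv, hτv'])
      rw [hmul _ _ _ (hch (hbv.symm ▸ hvS)), e1] at e2
      exact mul_eq_right.1 e2
    have dv : d a₀ bv = 1 := (hτd bu bv (hbu.symm ▸ huS) (by rw [hbu, hbv, hτu'])).trans du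
    have dt : ∀ b, π b ∈ (S₀ : Subgroup G) → d a₀ b = 1 := by
      intro b hb
      obtain ⟨c, hc, w, hw, hx⟩ := hS0el _ hb
      obtain ⟨bc, hbc, dbc⟩ : ∃ bc, π bc = c ∧ d a₀ bc = 1 := by
        rcases hc with rfl | rfl
        · exact ⟨1, map_one π, by simp [d]⟩
        · exact ⟨a₀, ha₀, by simp [d]⟩
      obtain ⟨bw, hbw, dbw, hwS⟩ : ∃ bw, π bw = w ∧ d a₀ bw = 1 ∧ w ∈ (S₀ : Subgroup G) := by
        rcases hw with rfl | rfl | rfl | rfl
        · exact ⟨1, map_one π, by simp [d], one_mem _⟩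
        · exact ⟨bu, hbu, du, huS⟩
        · exact ⟨bv, hbv, dv, hvS⟩
        · exact ⟨bu * bv, by rw [map_mul, hbu, hbv],
            by rw [hmul _ _ _ (hch (hbv.symm ▸ hvS)), du, dv, one_mul], mul_mem huS hvS⟩
      rw [hext a₀ a₀ b (bc * bw) rfl (by rw [map_mul, hbc, hbw, hx]),
        hmul _ _ _ (hch (hbw.symm ▸ hwS)), dbc, dbw, one_mul]
    set P := (S₀ : Subgroup G).comap π
    have hPc : IsMulCommutative ↥P := by
      refine ⟨⟨fun a b => Subtype.ext ?_⟩⟩
      show (a : L) * b = b * a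
      have hd : d (a : L) b = 1 := by
        by_cases ha : π a = 1
        · simp only [d]
          rw [← hcen _ ((hker _).1 ha) (b : L)]
          group
        obtain ⟨n, hn, hnx⟩ := htrans _ a.2 ha
        obtain ⟨c, hc⟩ := hπ n
        have hb' : π (c⁻¹ * b * c) ∈ (S₀ : Subgroup G) := by
          have := hMconj n⁻¹ (inv_mem hn) _ b.2
          simpa [hc] using this
        rw [hext (a : L) (c * a₀ * c⁻¹) b (c * (c⁻¹ * b * c) * c⁻¹)
          (by simp only [map_mul, map_inv, hc, ha₀]; exact hnx.symm) (by simp [mul_assoc]),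
          hinv c a₀ _ (hch hb'), dt _ hb']
      exact mul_inv_eq_iff_eq_mul.1 (mul_inv_eq_one.1 hd)
    have hP2 : IsPGroup 2 P := S₀.2.comap_of_ker_isPGroup π (hkerZ.symm ▸ hZ2)
    have hcop : Nat.Coprime (Nat.card P) P.index := by
      obtain ⟨i, hi⟩ := hP2.exists_card_eq
      rw [hi, index_comap_of_surjective _ hπ]
      exact (Nat.prime_two.coprime_iff_not_dvd.2 S₀.not_dvd_index).pow_left i
    refine eq_bot_iff.2 fun z hz => mem_bot.2 ?_
    exact H25.eq_one_of_mem_commutator_of_mem_center P hPc hcop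
      (show π z ∈ (S₀ : Subgroup G) by rw [(hker z).2 hz]; exact one_mem _) (hZc hz) (hL ▸ mem_top z)
  -- automorphisms
  intro φ₀ k hk₀ ⟨S, hS⟩
  obtain ⟨g, hg⟩ := MulAction.exists_smul_eq G S₀ S
  set φ : MulAut G := MulAut.conj g⁻¹ * φ₀ * MulAut.conj g with hφdef
  suffices h : ∃ w : G, φ = MulAut.conj w by
    obtain ⟨w, hw⟩ := h
    refine ⟨g * w * g⁻¹, fun x => ?_⟩
    have h0 : φ₀ = MulAut.conj g * φ * MulAut.conj g⁻¹ := by
      rw [hφdef, map_inv]; group
    rw [h0, hw, ← map_mul, ← map_mul, MulAut.conj_apply]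
  have hk : φ ^ 2 ^ k = 1 := by
    have hcp : ∀ m : ℕ, φ ^ m = MulAut.conj g⁻¹ * φ₀ ^ m * MulAut.conj g := by
      intro m
      induction m with
      | zero => simp
      | succ m ih => rw [pow_succ, ih, hφdef, map_inv, pow_succ φ₀]; group
    rw [hcp, hk₀, mul_one, ← map_mul, inv_mul_cancel, map_one]
  have hfix : ∀ s ∈ (S₀ : Subgroup G), φ s = s := by
    intro s hs
    have hgs : g * s * g⁻¹ ∈ (S : Subgroup G) := by
      rw [← hg]
      exact smul_mem_pointwise_smul _ (MulAut.conj g) (S₀ : Subgroup G) hs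
    show g⁻¹ * φ₀ (g * s * g⁻¹) * g⁻¹⁻¹ = s
    rw [hS _ hgs]; group
  have hφt := hfix t htS
  have hφC : ∀ x ∈ C, φ x ∈ C := fun x hx => mem_centralizer_singleton_iff.2 (by
    conv_lhs => rw [← hφt]
    conv_rhs => rw [← hφt]
    rw [← map_mul, ← map_mul, mem_centralizer_singleton_iff.1 hx])
  have hφinvC : ∀ x ∈ C, φ⁻¹ x ∈ C := fun x hx => mem_centralizer_singleton_iff.2 (φ.injective (by
    simp only [map_mul, MulAut.apply_inv_self, hφt]
    exact mem_centralizer_singleton_iff.1 hx))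
  -- φ preserves the linear group
  have hq : 4 ≤ Nat.card F := by rw [Nat.card_eq_fintype_card]; omega
  have : IsSimpleGroup (Matrix.ProjectiveSpecialLinearGroup (Fin 2) F) :=
    Linear.isSimpleGroup_PSL_fin le_rfl fun _ => hq
  have hfE' : ∀ x, φ (f x) ∈ E := by
    have hCC : ⁅C, C⁆ ≤ E := by
      rw [commutator_le]
      intro a ha b hb
      obtain ⟨a', ha', e1, he1, rfl⟩ := hdec a ha
      obtain ⟨b', hb', e2, he2, rfl⟩ := hdec b hb
      have : ⁅a' * e1, b' * e2⁆ = ⁅e1, e2⁆ := by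
        have c1 : Commute a' e2 := htE a' ha' e2 he2
        have c2 : Commute b' e1 := htE b' hb' e1 he1
        have c3 : Commute a' b' := by
          rcases (H64.SLPair.mem_zpowers_involution_iff ht).1 ha' with rfl | rfl
          · exact Commute.one_left _
          rcases (H64.SLPair.mem_zpowers_involution_iff ht).1 hb' with rfl | rfl
          · exact Commute.one_right _
          · exact Commute.refl _
        have c4 : Commute a' e1 := htE a' ha' e1 he1
        rw [commutatorElement_def, commutatorElement_def]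
        calc a' * e1 * (b' * e2) * (a' * e1)⁻¹ * (b' * e2)⁻¹
            = a' * (e1 * (b' * e2) * e1⁻¹) * a'⁻¹ * (b' * e2)⁻¹ := by group
          _ = (e1 * (b' * e2) * e1⁻¹) * (b' * e2)⁻¹ := by
            rw [((c4.mul_right (c3.mul_right c1)).mul_right c4.inv_right).eq, mul_inv_cancel_right]
          _ = (e1 * b') * e2 * e1⁻¹ * (b' * e2)⁻¹ := by group
          _ = b' * (e1 * e2 * e1⁻¹ * e2⁻¹) * b'⁻¹ := by rw [← c2.eq]; group
          _ = _ := by
            rw [htE b' hb' _ (mul_mem (mul_mem (mul_mem he1 he2) (inv_mem he1)) (inv_mem he2)), mul_inv_cancel_right]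
      rw [this]
      exact mul_mem (mul_mem (mul_mem he1 he2) (inv_mem he1)) (inv_mem he2)
    intro x
    have hx : x ∈ commutator (Matrix.ProjectiveSpecialLinearGroup (Fin 2) F) := by
      rw [Linear.commutator_PSL_eq_top (Or.inr (H64.PSLFour.exists_ne_sq hF3))]
      exact mem_top x
    have h1 := mem_map_of_mem (φ.toMonoidHom.comp f) hx
    rw [_root_.commutator_def, map_commutator] at h1
    refine hCC (commutator_mono ?_ ?_ h1) <;>
    · rintro _ ⟨y, -, rfl⟩
      exact hφC _ (hEC (hfE y))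
  let K : Subgroup (Matrix.ProjectiveSpecialLinearGroup (Fin 2) F) := f.range.comap (φ.toMonoidHom.comp f)
  have hKn : K.Normal := ⟨fun x hx y => by
    obtain ⟨z, hz⟩ : φ (f x) ∈ f.range := hx
    show φ (f (y * x * y⁻¹)) ∈ f.range
    rw [map_mul, map_mul, map_inv, map_mul, map_mul, map_inv, ← hz]
    exact hfn _ (hfE' y) z⟩
  have hrangeφ : ∀ x, φ (f x) ∈ f.range := by
    rcases hKn.eq_bot_or_eq_top with h | h
    · exfalso
      refine hne.1 ?_
      have h1 : φ u = 1 := hcentr _ (hfE' u₀) fun y => by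
        obtain ⟨z, hz⟩ := hfn _ (hfE' u₀) y
        obtain ⟨w, hw⟩ := hfnC (φ⁻¹ (f y)) (hφinvC _ (hEC (hfE y))) u₀⁻¹
        have e1 : φ (f w) = f y * (φ u)⁻¹ * (f y)⁻¹ := by
          rw [hw, map_mul, map_mul, map_inv φ (φ⁻¹ (f y)), MulAut.apply_inv_self, map_inv f, map_inv φ]
        have e2 : φ (f (u₀ * w)) = f (z * y⁻¹) := by
          rw [map_mul, map_mul, e1, map_mul, map_inv, hz, hu]
          group
        have hK : u₀ * w ∈ K := show φ (f (u₀ * w)) ∈ f.range from ⟨_, e2.symm⟩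
        rw [h, mem_bot] at hK
        rw [hK, map_one, map_one, map_mul, map_inv, eq_comm, mul_inv_eq_one] at e2
        rw [e2] at hz
        exact (mul_inv_eq_iff_eq_mul.1 hz.symm)
      exact φ.injective (h1.trans (map_one φ).symm)
    · intro x
      exact (h.symm ▸ mem_top x : x ∈ K)
  obtain ⟨w, hw, hwe⟩ := inner_on hFo f hf habP φ hk hrangeφ hu1 hv1 huv huu hvv hcuv (hfix u huS) (hfix v hvS)
  have hwS : w ∈ (S₀ : Subgroup G) := by
    rcases hw with rfl | rfl | rfl | rfl
    exacts [one_mem _, huS, hvS, mul_mem huS hvS]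
  set ψ : MulAut G := MulAut.conj w⁻¹ * φ with hψdef
  have hψk : ψ ^ 2 ^ (k + 1) = 1 := by
    have hc : Commute (MulAut.conj w⁻¹) φ := MulEquiv.ext fun x => by
      show w⁻¹ * φ x * w⁻¹⁻¹ = φ (w⁻¹ * x * w⁻¹⁻¹)
      rw [map_mul, map_mul, map_inv φ w⁻¹, map_inv φ w, hfix w hwS]
    rw [hψdef, hc.mul_pow, ← map_pow, pow_succ' 2 k, pow_mul, pow_mul, pow_two, ← mul_inv_rev,
      hsq w hwS, inv_one, one_pow, map_one, ← pow_mul, mul_comm, pow_mul, hk, one_pow, one_mul]
  have hψS : ∀ s ∈ (S₀ : Subgroup G), ψ s = s := fun s hs => by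
    show w⁻¹ * φ s * w⁻¹⁻¹ = s
    rw [hfix s hs, hcommG S₀ _ (inv_mem hwS) s hs, mul_inv_cancel_right]
  have hψf : ∀ x, ψ (f x) = f x := fun x => by
    show w⁻¹ * φ (f x) * w⁻¹⁻¹ = f x
    rw [hwe]; group
  have hψC : ∀ c ∈ C, ψ c = c := by
    have hψE : ∀ e ∈ E, ∃ a ∈ zpowers t, ψ e = a * e := by
      intro e he
      have hec : ψ e ∈ C := by
        show w⁻¹ * φ e * w⁻¹⁻¹ ∈ C
        exact mul_mem (mul_mem (inv_mem (hS0C hwS)) (hφC e (hEC he))) (inv_mem (inv_mem (hS0C hwS)))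
      obtain ⟨a, ha, e', he', h⟩ := hdec _ hec
      refine ⟨a, ha, ?_⟩
      have : e'⁻¹ * e = 1 := hcentr _ (mul_mem (inv_mem he') he) fun x => by
        obtain ⟨y, hy⟩ := hfn e he x
        have h1 : ψ (e * f x * e⁻¹) = e * f x * e⁻¹ := by rw [← hy, hψf]
        have h2 : ψ (e * f x * e⁻¹) = e' * f x * e'⁻¹ := by
          rw [map_mul, map_mul, map_inv, hψf, ← h]
          calc a * e' * f x * (a * e')⁻¹ = a * (e' * f x * e'⁻¹) * a⁻¹ := by group
            _ = _ := by
              rw [htE a ha _ (mul_mem (mul_mem he' (hfE x)) (inv_mem he')), mul_inv_cancel_right]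
        calc e'⁻¹ * e * f x = e'⁻¹ * (e * f x * e⁻¹) * e := by group
          _ = e'⁻¹ * (e' * f x * e'⁻¹) * e := by rw [← h1, h2]
          _ = f x * (e'⁻¹ * e) := by group
      rw [← h, inv_mul_eq_one.1 this]
    have hψe : ∀ e ∈ E, ψ e = e := by
      intro e he
      obtain ⟨a, ha, h⟩ := hψE e he
      obtain ⟨i, m, hm, hn⟩ := Nat.exists_eq_two_pow_mul_odd (orderOf_pos e).ne'
      have hp2 : IsPGroup 2 (zpowers (⟨e ^ m, hEC (pow_mem he m)⟩ : C)) := by
        refine IsPGroup.iff_orderOf.2 fun y => ?_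
        have : orderOf y ∣ 2 ^ i := by
          refine (orderOf_dvd_natCard y).trans ?_
          rw [Nat.card_zpowers, Subgroup.orderOf_mk]
          exact orderOf_dvd_of_pow_eq_one (by rw [← pow_mul, mul_comm, ← hn, pow_orderOf_eq_one])
        obtain ⟨j, -, hj⟩ := (Nat.dvd_prime_pow Nat.prime_two).1 this
        exact ⟨j, hj⟩
      obtain ⟨Q, hQ⟩ := hp2.exists_le_sylow
      obtain ⟨c, hc⟩ := MulAction.exists_smul_eq C Q (S₀.subtype hS0C)
      have hmem : (c : G) * e ^ m * (c : G)⁻¹ ∈ (S₀ : Subgroup G) := by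
        have := smul_mem_pointwise_smul _ (MulAut.conj c) (Q : Subgroup C) (hQ (mem_zpowers _))
        have h2 : MulAut.conj c • (⟨e ^ m, hEC (pow_mem he m)⟩ : C) ∈ (S₀.subtype hS0C : Subgroup C) := hc ▸ this
        exact h2
      have hrng : e ^ m ∈ f.range := by
        obtain ⟨y, hy⟩ : (c : G) * e ^ m * (c : G)⁻¹ ∈ f.range := by
          rcases hSE _ hmem (hEn _ c.2 _ (pow_mem he m)) with h | h | h | h <;> rw [h]
          exacts [one_mem _, ⟨u₀, rfl⟩, ⟨v₀, rfl⟩, mul_mem ⟨u₀, rfl⟩ ⟨v₀, rfl⟩]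
        have := hfnC (c : G)⁻¹ (inv_mem c.2) y
        rw [hy] at this
        simpa [mul_assoc] using this
      obtain ⟨y, hy⟩ := hrng
      have hfix' : ψ (e ^ m) = e ^ m := by rw [← hy, hψf]
      rw [map_pow, h, (show Commute a e from htE a ha e he).mul_pow, mul_eq_right] at hfix'
      rcases (H64.SLPair.mem_zpowers_involution_iff ht).1 ha with ha' | ha'
      · rw [h, ha', one_mul]
      · obtain ⟨r, rfl⟩ := hm
        rw [ha', pow_succ, pow_mul, pow_two, htt, one_pow, one_mul] at hfix'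
        exact absurd hfix' (hne1 t htO)
    intro c hc
    obtain ⟨a, ha, e, he, rfl⟩ := hdec c hc
    rw [map_mul, hψe e he, hψS a (zpowers_le.2 htS ha)]
  -- the derivation on the normalizer
  let c : G → G := fun n => n⁻¹ * ψ n
  have hcS : ∀ n ∈ M, c n ∈ (S₀ : Subgroup G) := by
    intro n hn
    have hcent : c n ∈ centralizer ((S₀ : Subgroup G) : Set G) := by
      rw [mem_centralizer_iff]
      intro s hs
      have h1 := hψS _ (hMconj n hn s hs)
      rw [map_mul, map_mul, map_inv, hψS s hs] at h1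
      calc s * (n⁻¹ * ψ n) = n⁻¹ * (n * s * n⁻¹) * ψ n := by group
        _ = n⁻¹ * ψ n * s := by rw [← h1]; group
    have hcC : c n ∈ C := mem_centralizer_singleton_iff.2 (mem_centralizer_iff.1 hcent t htS).symm
    have hψn : ∀ m : ℕ, (ψ ^ m) n = n * c n ^ m := by
      intro m
      induction m with
      | zero => simp
      | succ m ih =>
        rw [pow_succ', MulAut.mul_apply, ih, map_mul, map_pow, hψC _ hcC, pow_succ', ← mul_assoc]
        congr 1
        simp only [c]; group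
    have h1 : c n ^ 2 ^ (k + 1) = 1 := by
      have := hψn (2 ^ (k + 1))
      rw [hψk] at this
      simpa using this.symm
    obtain ⟨i, -, hi⟩ := (Nat.dvd_prime_pow Nat.prime_two).1 (orderOf_dvd_of_pow_eq_one h1)
    have hzp : IsPGroup 2 (zpowers (c n)) := IsPGroup.of_card (by rw [Nat.card_zpowers, hi])
    have hsup' := hzp.to_sup_of_normal_right' S₀.2 (zpowers_le.2 (centralizer_le_normalizer _ hcent))
    have heq := S₀.3 hsup' le_sup_right
    exact heq ▸ mem_sup_left (mem_zpowers _)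
  have hcC0 : ∀ h ∈ M, h ∈ C → c h = 1 := fun h _ hC => by simp only [c]; rw [hψC h hC, inv_mul_cancel]
  have hcmul : ∀ n h, c (n * h) = h⁻¹ * c n * h * c h := fun n h => by
    simp only [c, map_mul]; group
  classical
  let _ : CommGroup ↥(S₀ : Subgroup G) := { (inferInstance : Group ↥(S₀ : Subgroup G)) with mul_comm := (hab S₀).is_comm.comm }
  have hpick : ∀ x : {x : ↥(S₀ : Subgroup G) // x ≠ 1}, ∃ n ∈ M, n⁻¹ * t * n = (x.1 : G) := by
    intro x
    obtain ⟨n, hn, hx⟩ := htrans _ x.1.2 (fun h => x.2 (Subtype.ext h))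
    exact ⟨n⁻¹, inv_mem hn, by rw [inv_inv]; exact hx⟩
  choose p hpM hpt using hpick
  let F' : {x : ↥(S₀ : Subgroup G) // x ≠ 1} → ↥(S₀ : Subgroup G) := fun x => ⟨c (p x), hcS _ (hpM x)⟩
  have hwd : ∀ n ∈ M, ∀ x, n⁻¹ * t * n = ((x : {x : ↥(S₀ : Subgroup G) // x ≠ 1}).1 : G) → c n = c (p x) := by
    intro n hn x hx
    have hh : n * (p x)⁻¹ ∈ C := mem_centralizer_singleton_iff.2 (by
      calc n * (p x)⁻¹ * t = n * ((p x)⁻¹ * t * p x) * (p x)⁻¹ := by group
        _ = t * (n * (p x)⁻¹) := by rw [hpt, ← hx]; group)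
    have := hcmul (n * (p x)⁻¹) (p x)
    rw [inv_mul_cancel_right, hcC0 _ (mul_mem hn (inv_mem (hpM x))) hh] at this
    simpa using this
  let X := {x : ↥(S₀ : Subgroup G) // x ≠ 1}
  have : Fintype X := Fintype.ofFinite X
  set s : ↥(S₀ : Subgroup G) := ∏ x : X, F' x with hs
  have hXodd : Odd (Fintype.card X) := by
    have e : X ≃ O :=
      { toFun := fun x => ⟨(x.1 : G), htrans _ x.1.2 fun h => x.2 (Subtype.ext h)⟩
        invFun := fun y => ⟨⟨y.1, hOS _ y.2⟩, fun h => hne1 _ y.2 (congrArg Subtype.val h)⟩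
        left_inv := fun x => rfl
        right_inv := fun y => rfl }
    rw [← Nat.card_eq_fintype_card, Nat.card_congr e]
    exact hOodd
  have hder : ∀ h ∈ M, c h = h⁻¹ * (s : G) * h * (s : G) := by
    intro h hh
    let α : MulAut ↥(S₀ : Subgroup G) := (S₀ : Subgroup G).normalizerMonoidHom ⟨h⁻¹, inv_mem hh⟩
    have hα : ∀ x, ((α x : ↥(S₀ : Subgroup G)) : G) = h⁻¹ * (x : G) * h := fun x => by
      show h⁻¹ * (x : G) * h⁻¹⁻¹ = _
      rw [inv_inv]
    let σ : X ≃ X := α.toEquiv.subtypeEquiv (fun x => by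
      show x ≠ 1 ↔ α x ≠ 1
      rw [ne_eq, ne_eq, MulEquiv.map_eq_one_iff])
    set ch : ↥(S₀ : Subgroup G) := ⟨c h, hcS h hh⟩ with hch'
    have hstep : ∀ x : X, F' (σ x) = α (F' x) * ch := by
      intro x
      refine Subtype.ext ?_
      rw [Subgroup.coe_mul, hα]
      show c (p (σ x)) = h⁻¹ * c (p x) * h * c h
      rw [← hcmul, ← hwd (p x * h) (mul_mem (hpM x) hh) (σ x)]
      show (p x * h)⁻¹ * t * (p x * h) = (α x.1 : G)
      rw [hα, ← hpt x]; group
    have h1 : s = α s * ch ^ Fintype.card X := by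
      calc s = ∏ x : X, F' (σ x) := (Equiv.prod_comp σ F').symm
        _ = ∏ x : X, (α (F' x) * ch) := Finset.prod_congr rfl fun x _ => hstep x
        _ = _ := by rw [Finset.prod_mul_distrib, Finset.prod_const, Finset.card_univ, ← map_prod]
    obtain ⟨r, hr⟩ := hXodd
    have hch2 : ch * ch = 1 := Subtype.ext (hsq _ ch.2)
    rw [hr, pow_succ, pow_mul, pow_two, hch2, one_pow, one_mul] at h1
    have h2 : ch = (α s)⁻¹ * s := eq_inv_mul_of_mul_eq h1.symm
    have h3 : (α s)⁻¹ = α s := inv_eq_of_mul_eq_one_right (Subtype.ext (hsq _ (α s).2))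
    rw [h3] at h2
    have := congrArg Subtype.val h2
    rwa [Subgroup.coe_mul, hα] at this
  have hst : (s : G) = 1 ∨ (s : G) = t := by
    refine hτfix _ s.2 ?_
    have h := hder τ hτM
    rw [hcC0 τ hτM hτC] at h
    have hh' : τ⁻¹ * (s : G) * τ = s := by
      rw [eq_inv_of_mul_eq_one_left h.symm, inv_eq_of_mul_eq_one_right (hsq _ s.2)]
    calc τ * (s : G) * τ⁻¹ = τ * (τ⁻¹ * (s : G) * τ) * τ⁻¹ := by rw [hh']
      _ = s := by group
  set ψ' : MulAut G := MulAut.conj (s : G) * ψ with hψ'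
  have hψ'C : ∀ x ∈ C, ψ' x = x := fun x hx => by
    show (s : G) * ψ x * (s : G)⁻¹ = x
    rw [hψC x hx]
    rcases hst with e | e <;> rw [e]
    · simp
    · rw [← mem_centralizer_singleton_iff.1 hx, mul_inv_cancel_right]
  have hψ'M : ∀ h ∈ M, ψ' h = h := fun h hh => by
    show (s : G) * ψ h * (s : G)⁻¹ = h
    have : ψ h = h * c h := by simp [c]
    rw [this, hder h hh]
    calc (s : G) * (h * (h⁻¹ * (s : G) * h * (s : G))) * (s : G)⁻¹ = ((s : G) * (s : G)) * h := by group
      _ = h := by rw [hsq _ s.2, one_mul]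
  let Fx : Subgroup G := MonoidHom.eqLocus ψ'.toMonoidHom (MonoidHom.id G)
  have hFx : Fx = ⊤ := by
    refine hmax.2 Fx (lt_of_le_of_ne hψ'C fun h => ?_)
    obtain ⟨n, hn, hnu⟩ := htrans u huS hne.1
    have hnC : n ∈ C := h.symm ▸ (hψ'M n hn : n ∈ Fx)
    have hut : t = u := by
      rw [← hnu, mem_centralizer_singleton_iff.1 hnC, mul_inv_cancel_right]
    exact htn (hut ▸ hfE u₀)
  refine ⟨w * (s : G), MulEquiv.ext fun x => ?_⟩
  have hx : (s : G) * (w⁻¹ * φ x * w⁻¹⁻¹) * (s : G)⁻¹ = x := (hFx.symm ▸ mem_top x : x ∈ Fx)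
  rw [MulAut.conj_apply]
  conv_rhs => rw [← hx]
  calc φ x = w * ((s : G) * (s : G)) * w⁻¹ * φ x * w * ((s : G) * (s : G))⁻¹ * w⁻¹ := by
        rw [hsq _ s.2]; group
    _ = _ := by group

end Cfsg.Agent.S3206
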