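import Cfsg.Statements.S2602
import Cfsg.Agent.H56.OutPSL

set_option autoImplicit false
open Cfsg

namespace Cfsg.Agent.S2602

/-- Structure of the outer automorphism group of PSL_2(q), q = p^f ≥ 4: it has a normal cyclic subgroup of order gcd(2, q − 1) (diagonal automorphisms) with cyclic quotient of order f (field automorphisms); there is no graph automorphism in dimension 2. -/
theorem result {F : Type*} [Field F] [Fintype F] {p f : ℕ} [Fact p.Prime] (hf : 1 ≤ f) (hF : Fintype.card F = p ^ f) (h4 : 4 ≤ p ^ f) : ∃ φ : Cfsg.Out (Matrix.ProjectiveSpecialLinearGroup (Fin 2) F) →* Multiplicative (ZMod f), Function.Surjective φ ∧ IsCyclic φ.ker ∧ Nat.card φ.ker = Nat.gcd 2 (p ^ f - 1) := by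
  classical
  obtain ⟨e⟩ := H56.ringAut_equiv F hf hF
  set Ψ : MulAut (H56.PSLn 2 F) →* Multiplicative (ZMod f) := e.toMonoidHom.comp (H56.fieldHom le_rfl) with hΨ
  have hle : Cfsg.Inn (H56.PSLn 2 F) ≤ Ψ.ker := fun x hx => by
    rw [MonoidHom.mem_ker, hΨ, MonoidHom.comp_apply, MonoidHom.mem_ker.mp (H56.fieldHom_inn le_rfl hx), map_one]
  refine ⟨QuotientGroup.lift _ Ψ hle, fun y => ⟨QuotientGroup.mk (H56.semiAut 1 (e.symm y)), ?_⟩, ?_⟩
  · show Ψ _ = y
    rw [hΨ, MonoidHom.comp_apply, H56.fieldHom_semiAut]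
    exact e.apply_symm_apply y
  have hker : (QuotientGroup.lift _ Ψ hle).ker = (H56.diagOut (F := F) (n := 2) le_rfl).range := by
    refine le_antisymm (fun x hx => ?_) ?_
    · obtain ⟨φ, rfl⟩ := QuotientGroup.mk_surjective x
      obtain ⟨g, σ, h | ⟨h3, -⟩⟩ := H56.exists_decomp le_rfl φ
      · subst h
        have hσ : e σ = 1 := by
          have : Ψ (H56.semiAut g σ) = 1 := hx
          rwa [hΨ, MonoidHom.comp_apply, H56.fieldHom_semiAut] at this
        obtain rfl : σ = RingEquiv.refl F := e.injective (hσ.trans (map_one e).symm)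
        exact H56.diagOut_range le_rfl g
      · omega
    · rintro _ ⟨c, rfl⟩
      show Ψ (H56.semiAut _ (RingEquiv.refl F)) = 1
      rw [hΨ, MonoidHom.comp_apply, H56.fieldHom_semiAut]
      exact map_one e
  rw [hker, ← hF]
  exact H56.diagOut_card le_rfl

end Cfsg.Agent.S2602
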