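import Cfsg.Statements.S5276
import Cfsg.Agent.H90.TateInner
open scoped commutatorElement

set_option autoImplicit false
open Cfsg

namespace Cfsg.Agent.S5276

/-- Let p be a prime and F a saturated fusion system over a finite p-group S. Then F is the inner fusion system of S if and only if the normalizer fusion system of S itself in F is the inner fusion system (equivalently, Aut_F(S) is induced by S) and the Frattini subgroup Φ(S) is strongly closed in F. -/
theorem result {Ω : Type*} [Group Ω] {S : Subgroup Ω} [Finite S] (p : ℕ) [Fact p.Prime] (hS : IsPGroup p ↥S) (F : Cfsg.FusionSystem S) (hF : F.IsSaturated p) : (∀ P : Subgroup Ω, F.Hom P = (Cfsg.innerFusionSystem S).Hom P) ↔ (∀ N : Cfsg.FusionSystem (Cfsg.FusionSystem.normalizerIn S S), F.IsNormalizerSystem S N → ∀ P : Subgroup Ω, N.Hom P = (Cfsg.innerFusionSystem (Cfsg.FusionSystem.normalizerIn S S)).Hom P) ∧ F.StronglyClosed ((frattini ↥S).map S.subtype) := by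
  have hΦS : (frattini ↥S).map S.subtype ≤ S := Subgroup.map_subtype_le _
  constructor
  · intro h
    refine ⟨fun N hN P => ?_, hΦS, ?_⟩
    · ext φ
      constructor
      · intro hφ
        have hφ' := hN P ▸ hφ
        obtain ⟨-, g, hg, hh⟩ := h P ▸ hφ'.1
        exact ⟨hφ'.2.1, g, ⟨hg, Subgroup.le_normalizer hg⟩, hh⟩
      · rintro ⟨hP, g, hg, hh⟩
        exact H90.mem_of_agree N (N.conj_mem hP hg) hh
    · intro R hR φ hφ x
      obtain ⟨-, g, hg, hh⟩ := h R ▸ hφ
      rw [hh x]
      obtain ⟨y, hy, hyx⟩ := hR x.2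
      exact ⟨⟨g, hg⟩ * y * ⟨g, hg⟩⁻¹, (inferInstance : (frattini ↥S).Normal).conj_mem y hy ⟨g, hg⟩,
        by rw [← hyx]; rfl⟩
  · rintro ⟨hN, hΦ⟩
    refine H90.inner_of_focal_le hS hF (H90.focal_le_of_stronglyClosed hS hF hΦ
      (H90.commutator_le_frattini_map hS) fun φ hφ x => ?_)
    obtain ⟨g, hg, hh⟩ := H90.top_inner_of_normalizer hN hφ
    rw [hh x, show (x : Ω)⁻¹ * (g * x * g⁻¹) = ⁅(x : Ω)⁻¹, g⁆ by rw [commutatorElement_def]; group]
    exact H90.commutator_le_frattini_map hS
      (Subgroup.commutator_mem_commutator (S.inv_mem x.2) hg)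

end Cfsg.Agent.S5276
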