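import Cfsg.Statements.S5434
import Cfsg.Agent.H92.Extra
import Cfsg.Agent.Coprime.Action
import Cfsg.Agent.Coprime.Centralize

set_option autoImplicit false
open Cfsg

namespace Cfsg.Agent.S5434

/-- Let Q be a large extraspecial 2-subgroup of the finite group G (extraspecial; centralizer equal to its centre; normal in the centralizer of its centre; normalizing no non-trivial subgroup of odd order), and A a non-trivial subgroup of odd order of the normalizer of Q. Then Q is the central product of the centralizer of A in Q and the commutator subgroup [Q, A] (they generate Q and commute elementwise), [Q, A] is extraspecial, and the centralizer of A in Q is either the centre of Q or extraspecial. -/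
theorem result {G : Type*} [Group G] [Finite G] (Q : Subgroup G) (hQ : Cfsg.IsLargeExtraspecial Q) (A : Subgroup G) (hA : A ≤ Subgroup.normalizer (Q : Set G)) (hAodd : Odd (Nat.card ↥A)) (hA1 : A ≠ ⊥) : (Q ⊓ Subgroup.centralizer (A : Set G)) ⊔ ⁅Q, A⁆ = Q ∧ (∀ x ∈ Q ⊓ Subgroup.centralizer (A : Set G), ∀ y ∈ ⁅Q, A⁆, x * y = y * x) ∧ Cfsg.IsExtraspecial 2 ↥⁅Q, A⁆ ∧ (Q ⊓ Subgroup.centralizer (A : Set G) = ((Subgroup.center ↥Q).map Q.subtype) ∨ Cfsg.IsExtraspecial 2 ↥(Q ⊓ Subgroup.centralizer (A : Set G))) := by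
  have : Fact (Nat.Prime 2) := ⟨Nat.prime_two⟩
  obtain ⟨hQe, hL2, hL3, -⟩ := hQ
  set Z := (Subgroup.center ↥Q).map Q.subtype with hZdef
  have hZQ : Z ≤ Q := Cfsg.Agent.H92.center_map_le
  have hcop : (Nat.card A).Coprime (Nat.card Q) := by
    obtain ⟨n, hn⟩ := IsPGroup.iff_card.mp hQe.1.1
    rw [hn]
    exact (Nat.coprime_two_right.mpr hAodd).pow_right n
  have hnilQ : Group.IsNilpotent Q := hQe.1.1.isNilpotent
  have hsolv : Group.IsSolvable Q := inferInstance
  have hdec : ⁅Q, A⁆ ⊔ (Q ⊓ Subgroup.centralizer (A : Set G)) = Q :=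
    Cfsg.Agent.Coprime.commutator_sup_centralizer hA hcop (Or.inr hsolv)
  have hAZ : A ≤ Subgroup.centralizer (Z : Set G) :=
    hA.trans (Cfsg.Agent.H92.normalizer_le_centralizer_center hQe)
  set C := Q ⊓ Subgroup.centralizer (A : Set G) with hCdef
  set T := ⁅Q, A⁆ with hTdef
  have hTQ : T ≤ Q := le_sup_left.trans hdec.le
  have hcomm : C ≤ Subgroup.centralizer (T : Set G) := by
    rw [Subgroup.le_centralizer_iff, hTdef, Subgroup.commutator_le]
    intro q hq a ha
    rw [commutatorElement_def, Subgroup.mem_centralizer_iff]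
    intro c hc
    have hac : Commute a c := Subgroup.mem_centralizer_iff.mp hc.2 a ha
    obtain hw := Cfsg.Agent.H92.commutator_mem_center_map hQe hc.1 hq
    set w := c * q * c⁻¹ * q⁻¹ with hwdef
    have hwa : Commute a w := (Subgroup.mem_centralizer_iff.mp (hAZ ha) w hw).symm
    have h1 : c * q * c⁻¹ = w * q := by rw [hwdef]; group
    have hac' : c * a * c⁻¹ = a := by rw [← hac.eq]; group
    have : c * (q * a * q⁻¹ * a⁻¹) * c⁻¹ = q * a * q⁻¹ * a⁻¹ := by
      have hwq : q * w = w * q := Subgroup.mem_centralizer_iff.mp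
        (Cfsg.Agent.H92.center_map_le_centralizer hw) q hq
      calc c * (q * a * q⁻¹ * a⁻¹) * c⁻¹
          = (c * q * c⁻¹) * (c * a * c⁻¹) * (c * q * c⁻¹)⁻¹ * (c * a * c⁻¹)⁻¹ := by group
        _ = q * (w * a) * w⁻¹ * q⁻¹ * a⁻¹ := by rw [h1, hac', ← hwq]; group
        _ = q * a * q⁻¹ * a⁻¹ := by rw [← hwa.eq]; group
    calc c * (q * a * q⁻¹ * a⁻¹) = (c * (q * a * q⁻¹ * a⁻¹) * c⁻¹) * c := by group
      _ = _ := by rw [this]
  have hcent : ∀ x ∈ Q, x ∈ Subgroup.centralizer (C : Set G) →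
      x ∈ Subgroup.centralizer (T : Set G) → x ∈ Z := by
    intro x hxQ hxC hxT
    rw [hZdef, Cfsg.Agent.H92.center_map_eq_inf]
    refine ⟨hxQ, Subgroup.le_centralizer_iff.mp (hdec ▸ sup_le ?_ ?_) (Subgroup.mem_zpowers x)⟩
    · exact Subgroup.le_centralizer_iff.mp (Subgroup.zpowers_le.mpr hxT)
    · exact Subgroup.le_centralizer_iff.mp (Subgroup.zpowers_le.mpr hxC)
  have hTna : ∃ x ∈ T, ∃ y ∈ T, x * y ≠ y * x := by
    by_contra h
    push Not at h
    apply hA1
    have hTZ : T ≤ Z := fun x hx => hcent x (hTQ hx) (Subgroup.le_centralizer_iff.mp hcomm hx)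
      (Subgroup.mem_centralizer_iff.mpr (fun y hy => (h x hx y hy).symm))
    have hAQ : A ≤ Subgroup.centralizer (Q : Set G) :=
      Cfsg.Agent.Coprime.le_centralizer_of_commutator_le hA hcop hTZ hAZ
    have hAQ' : A ≤ Q := hAQ.trans (hL2.le.trans hZQ)
    have := Cfsg.Agent.H92.inf_eq_bot_of_odd_of_two hAodd hQe.1.1
    rwa [inf_eq_left.mpr hAQ'] at this
  refine ⟨by rw [sup_comm]; exact hdec, fun x hx y hy => ?_, ?_, ?_⟩
  · exact (Subgroup.mem_centralizer_iff.mp (hcomm hx) y hy).symm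
  · refine Cfsg.Agent.H92.isExtraspecial_of_le hQe hTQ ?_ hTna
    exact fun x hx => hcent x (hTQ hx.1) (Subgroup.le_centralizer_iff.mp hcomm hx.1) hx.2
  · have hZC : Z ≤ C := le_inf hZQ (Subgroup.le_centralizer_iff.mp hAZ)
    have hCle : C ⊓ Subgroup.centralizer (C : Set G) ≤ Z :=
      fun x hx => hcent x hx.1.1 hx.2 (hcomm hx.1)
    by_cases hab : ∀ x ∈ C, ∀ y ∈ C, x * y = y * x
    · left
      refine le_antisymm (fun x hx => ?_) hZC
      exact hcent x hx.1 (Subgroup.mem_centralizer_iff.mpr (fun y hy => hab y hy x hx)) (hcomm hx)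
    · right
      push Not at hab
      exact Cfsg.Agent.H92.isExtraspecial_of_le hQe inf_le_left hCle hab

end Cfsg.Agent.S5434
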