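import Cfsg.Statements.S1258
import Cfsg.Agent.Components.Basic
-- import your own Cfsg.Agent.* helpers here

set_option autoImplicit false
open Cfsg

namespace Cfsg.Agent.S1258

open Cfsg.Agent.Components
open scoped commutatorElement
set_option linter.style.haveILetI false

/-- If the central quotient of a finite group X is non-abelian simple, then X = X' Z(X) and the commutator subgroup X' is quasisimple. -/
theorem result {X : Type*} [Group X] [Finite X] (hs : IsSimpleGroup (X ⧸ Subgroup.center X)) (hna : ¬ IsMulCommutative (X ⧸ Subgroup.center X)) : commutator X ⊔ Subgroup.center X = ⊤ ∧ Cfsg.IsQuasisimple ↥(commutator X) := by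
  haveI := hs
  set Z := Subgroup.center X with hZ
  have hsurj := QuotientGroup.mk'_surjective Z
  have hmap : (commutator X).map (QuotientGroup.mk' Z) = ⊤ := by
    rcases ((inferInstance : (commutator X).Normal).map _ hsurj).eq_bot_or_eq_top with h | h
    · exfalso
      apply hna
      rw [Subgroup.map_eq_bot_iff, QuotientGroup.ker_mk'] at h
      exact (Subgroup.Normal.quotient_commutative_iff_commutator_le).mpr h
    · exact h
  have hsup : commutator X ⊔ Z = ⊤ := by
    have := congrArg (Subgroup.comap (QuotientGroup.mk' Z)) hmap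
    rwa [Subgroup.comap_map_eq, QuotientGroup.ker_mk', Subgroup.comap_top] at this
  have hcommle : ∀ M : Subgroup X, M ⊔ Z = ⊤ → commutator X ≤ ⁅M, M⁆ := by
    intro M hM
    rw [commutator_def, Subgroup.commutator_le]
    intro a _ b _
    obtain ⟨m, hm, z, hz, rfl⟩ := Subgroup.mem_sup_of_normal_right.mp
      (show a ∈ M ⊔ Z by rw [hM]; trivial)
    obtain ⟨n, hn, w, hw, rfl⟩ := Subgroup.mem_sup_of_normal_right.mp
      (show b ∈ M ⊔ Z by rw [hM]; trivial)
    have e : ⁅m * z, n * w⁆ = ⁅m, n⁆ := by
      have hz' : ∀ g, g * z = z * g := Subgroup.mem_center_iff.mp hz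
      have hw' : ∀ g, g * w = w * g := Subgroup.mem_center_iff.mp hw
      simp only [commutatorElement_def, mul_inv_rev, mul_assoc]
      rw [← mul_assoc z, ← hz' n, mul_assoc, ← mul_assoc z, ← hz' w, mul_assoc, mul_inv_cancel_left,
        ← mul_assoc w, ← hw' m⁻¹, mul_assoc, mul_inv_cancel_left]
    rw [e]
    exact Subgroup.commutator_mem_commutator hm hn
  refine ⟨hsup, ?_⟩
  have hperf : ⁅commutator X, commutator X⁆ = commutator X :=
    le_antisymm (Subgroup.commutator_le_self _) (hcommle _ hsup)
  haveI : Nontrivial ↥(commutator X) := by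
    rw [Subgroup.nontrivial_iff_ne_bot]
    intro h
    rw [h, Subgroup.map_bot] at hmap
    exact bot_ne_top hmap
  refine qs_of_perfect (Subgroup.isPerfect_iff.mpr hperf) fun N hN hNt => ?_
  set M := N.map (commutator X).subtype with hM
  haveI hMn : M.Normal := by
    have h1 : commutator X ≤ Subgroup.normalizer (M : Set X) :=
      le_normalizer_of_normal_subgroupOf (Subgroup.map_subtype_le N)
        (by rwa [hM, Subgroup.subgroupOf, Subgroup.comap_map_eq_self_of_injective
          (commutator X).subtype_injective])
    refine Subgroup.normalizer_eq_top_iff.mp (top_le_iff.mp (hsup.ge.trans (sup_le h1 ?_)))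
    exact (Subgroup.center_le_centralizer _).trans (Subgroup.centralizer_le_normalizer _)
  rcases (hMn.map _ hsurj).eq_bot_or_eq_top with h | h
  · rw [Subgroup.map_eq_bot_iff, QuotientGroup.ker_mk'] at h
    intro x hx
    rw [Subgroup.mem_center_iff]
    intro y
    exact Subtype.ext (Subgroup.mem_center_iff.mp (h ⟨x, hx, rfl⟩) y)
  · exfalso
    apply hNt
    have := congrArg (Subgroup.comap (QuotientGroup.mk' Z)) h
    rw [Subgroup.comap_map_eq, QuotientGroup.ker_mk', Subgroup.comap_top] at this
    have h2 : commutator X ≤ M := (hcommle M this).trans (Subgroup.commutator_le_self M)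
    rw [eq_top_iff]
    intro x _
    obtain ⟨y, hy, hyx⟩ := h2 x.2
    rwa [← Subtype.ext hyx]

end Cfsg.Agent.S1258
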