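import Cfsg.Statements.S5693
import Cfsg.Agent.H96.DecompRefine
import Cfsg.Agent.H99.FrameThree

set_option autoImplicit false
open Cfsg

namespace Cfsg.Agent.S5693

open QuadraticMap Module Cfsg.Agent.Orthogonal

variable {F : Type*} [Field F] {ι : Type} [Fintype ι]

/-- A plus type member has a full hyperbolic frame. -/
theorem plus_frame {R : QuadraticForm F (ι → F)} {W : Submodule F (ι → F)} (hnd : Nondeg (restr R W)) {m : ℕ}
    (hdim : finrank F W = 2 * m) (hp : Cfsg.Geo.IsPlusTypeOn (⇑R) W) :
    ∃ e f : Fin m → ι → F, (∀ l, e l ∈ W ∧ f l ∈ W) ∧ IsFrame R e f ∧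
      ∀ v ∈ W, ∃ a b : Fin m → F, v = (∑ l, a l • e l) + ∑ l, b l • f l := by
  obtain ⟨U, hUW, hU, hUdim⟩ := hp
  obtain ⟨k, e, f, h, ha⟩ := hnd.exists_frame
  have hle := Cfsg.Agent.H51.finrank_totSing_le hnd h ha (W := U.comap W.subtype)
    (fun w hw => (hU _ hw : R (w : ι → F) = 0))
  rw [(Submodule.comapSubtypeEquivOfLe hUW).finrank_eq] at hle
  have hk := h.finrank_kernel hnd
  obtain rfl : k = m := by omega
  have htop : IsFrame.hspan (F := F) e f = ⊤ :=
    Submodule.eq_top_of_finrank_eq (by rw [h.finrank_hspan, hdim])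
  refine ⟨fun l => e l, fun l => f l, fun l => ⟨(e l).2, (f l).2⟩, ⟨fun i => h.qe i, fun i => h.qf i,
    fun i j => (polar_restr (Q := R) W (e i) (f j)).symm.trans (h.ef i j),
    fun i j => (polar_restr (Q := R) W (e i) (e j)).symm.trans (h.ee i j),
    fun i j => (polar_restr (Q := R) W (f i) (f j)).symm.trans (h.ff i j)⟩, fun v hv => ?_⟩
  have hmem : (⟨v, hv⟩ : W) ∈ IsFrame.hspan (F := F) e f := htop ▸ Submodule.mem_top
  obtain ⟨g, hg⟩ := (Submodule.mem_span_range_iff_exists_fun F).1 hmem
  refine ⟨g ∘ Sum.inl, g ∘ Sum.inr, ?_⟩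
  have := congrArg Subtype.val hg
  simpa [Fintype.sum_sum_type] using this.symm

/-- Let F be a finite field with q elements, n ≥ 13 even, Q a non-degenerate quadratic form on F^n of plus type (some subspace of dimension n/2 is totally singular), and Ω the commutator subgroup of the isometry group of Q, viewed inside GL_n(F). Let D be a decomposition of F^n into t ≥ 2 pairwise orthogonal, pairwise Q-isometric subspaces of equal dimension k on which the polar form is non-degenerate (with, for even k, all members of plus type or t even; for odd k, q odd and square discriminant), in one of the cases: k = 2 with q = 3; k = 2 with plus-type members and q ∈ {2, 4, 5}; k = 3 with q = 3; k = 4 with plus-type members and q = 2. Then the elements of Ω permuting the members of D form a subgroup that is not maximal: some subgroup lies strictly between it and Ω. -/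
theorem result {F : Type*} [Field F] [Fintype F] {n : ℕ} (hn : 13 ≤ n) (heven : Even n) (Q : (Fin n → F) → F) (hQ : Cfsg.Geo.IsNondegenerateQuadraticForm Q) (hplus : Cfsg.Geo.IsPlusTypeOn Q ⊤) {t : ℕ} (k : ℕ) (D : Fin t → Submodule F (Fin n → F)) (hD : Cfsg.Geo.IsOrthogonalMDecomposition Q k D) (hke : Even k → ((∀ i, Cfsg.Geo.IsPlusTypeOn Q (D i)) ∨ Even t)) (hko : Odd k → (Odd (Fintype.card F) ∧ Cfsg.Geo.HasSquareDiscriminant Q)) (hcase : ((k = 2 ∧ (Fintype.card F = 3 ∨ ((∀ i, Cfsg.Geo.IsPlusTypeOn Q (D i)) ∧ (Fintype.card F = 2 ∨ Fintype.card F = 4 ∨ Fintype.card F = 5)))) ∨ (k = 3 ∧ Fintype.card F = 3) ∨ (k = 4 ∧ Fintype.card F = 2 ∧ ∀ i, Cfsg.Geo.IsPlusTypeOn Q (D i)))) : ∃ K : Subgroup (Matrix.GeneralLinearGroup (Fin n) F), Cfsg.Geo.decompositionStabilizer D ⊓ Cfsg.Geo.omegaGL Q < K ∧ K < Cfsg.Geo.omegaGL Q := by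
  classical
  obtain ⟨R, rfl, hR⟩ : ∃ Q' : QuadraticForm F (Fin n → F), ⇑Q' = Q ∧ Nondeg Q' :=
    ⟨Cfsg.Agent.H96.asForm hQ, rfl, Cfsg.Agent.H96.asForm_nondeg hQ⟩
  have hdim := hD.decomp.decomp.finrank_eq
  have horth : ∀ i j, i ≠ j → ∀ u ∈ D i, ∀ v ∈ D j, polar R u v = 0 :=
    fun i j hij u hu v hv => hD.decomp.orthogonal i j hij u hu v hv
  have hnd : ∀ i, Nondeg (restr R (D i)) := fun i x hx => by
    by_contra hne
    obtain ⟨-, y, hy, hy'⟩ := hD.decomp.nondegenerate i x x.2 (fun h => hne (Subtype.ext h))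
    exact hy' ((polar_restr (Q := R) (D i) x ⟨y, hy⟩).symm.trans (hx ⟨y, hy⟩))
  have htk : t * k = n := by
    have h1 := Module.finrank_eq_card_basis
      (((DirectSum.isInternal_submodule_iff_iSupIndep_and_iSup_eq_top D).2
        ⟨hD.decomp.decomp.indep, hD.decomp.decomp.iSup_eq_top⟩).collectedBasis
        (fun i => Module.finBasisOfFinrankEq F (D i) (hdim i)))
    rw [Module.finrank_fintype_fun_eq_card] at h1
    simpa using h1.symm
  have hn5 : 5 ≤ finrank F (Fin n → F) := by rw [Module.finrank_fin_fun]; omega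
  by_cases hH : (k = 3 ∨ ∀ i, ¬ Cfsg.Geo.IsPlusTypeOn (⇑R) (D i)) ∧ Fintype.card F = 3
  · obtain ⟨h, hq⟩ := hH
    refine Cfsg.Agent.H99.decomposition_not_maximal hq (by simpa using hn) D hD ?_ ?_
    · rcases hcase with h' | h' | h'
      · exact Or.inl h'.1
      · exact Or.inr h'.1
      · omega
    · intro hk2; exact h.resolve_left (by omega)
  -- the remaining members are of plus type
  have ht : 4 ≤ t := by
    rcases hcase with h | h | h <;> rcases h with ⟨rfl, -⟩ <;> omega
  obtain ⟨i0, i1, i2, h01, h02, h12⟩ : ∃ a b c : Fin t, a ≠ b ∧ a ≠ c ∧ b ≠ c :=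
    ⟨⟨0, by omega⟩, ⟨1, by omega⟩, ⟨2, by omega⟩, by simp, by simp, by simp⟩
  have hpl : ∀ i, Cfsg.Geo.IsPlusTypeOn (⇑R) (D i) := by
    rcases hcase with ⟨hk2, hq | h⟩ | ⟨hk3, hq⟩ | h
    · push Not at hH
      by_contra hcon
      push Not at hcon
      obtain ⟨i, hi⟩ := hcon
      refine hH (Or.inr fun j hj => hi ?_) hq
      obtain ⟨U, hUW, hU, hUdim⟩ := hj
      obtain ⟨φ, hφ⟩ := hD.isometric j i
      refine ⟨((U.comap (D j).subtype).map (φ : D j →ₗ[F] D i)).map (D i).subtype, ?_, ?_, ?_⟩
      · rintro _ ⟨x, -, rfl⟩; exact x.2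
      · rintro _ ⟨_, ⟨x, hx, rfl⟩, rfl⟩
        exact (hφ x).trans (hU _ hx)
      · rw [Submodule.finrank_map_subtype_eq, LinearEquiv.finrank_map_eq,
          (Submodule.comapSubtypeEquivOfLe hUW).finrank_eq, hUdim, hdim, hdim]
    · exact h.1
    · exact absurd hq fun h => hH ⟨Or.inl hk3, h⟩
    · exact h.2.2
  rcases hcase with ⟨rfl, hq⟩ | ⟨rfl, hq⟩ | ⟨rfl, hq, -⟩
  · choose e f hmem hfr hspan using fun i => plus_frame (hnd i) (m := 1) (by rw [hdim]) (hpl i)
    have hef : ∀ i, R (e i 0) = 0 ∧ R (f i 0) = 0 ∧ polar R (e i 0) (f i 0) = 1 := fun i =>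
      ⟨(hfr i).qe 0, (hfr i).qf 0, by rw [(hfr i).ef, if_pos rfl]⟩
    have hsp : ∀ i v, v ∈ D i → ∃ a b : F, v = a • e i 0 + b • f i 0 := fun i v hv => by
      obtain ⟨a, b, hab⟩ := hspan i v hv
      exact ⟨a 0, b 0, by simpa using hab⟩
    have hval : ∀ i (a b : F), R (a • e i 0 + b • f i 0) = a * b := fun i a b => by
      rw [map_add_polar, qmap_smul, qmap_smul, polar_smul_left', polar_smul_right', (hef i).1, (hef i).2.1,
        (hef i).2.2]
      ring
    have hpp : ∀ i (a b c d : F), polar R (a • e i 0 + b • f i 0) (c • e i 0 + d • f i 0) = a * d + b * c := by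
      intro i a b c d
      simp only [polar_add_left, polar_add_right, polar_smul_left', polar_smul_right', polar_self', (hef i).1,
        (hef i).2.1, (hef i).2.2, polar_comm (⇑R) (f i 0) (e i 0)]
      ring
    rcases hq with hq | ⟨-, hq | hq | hq⟩
    · -- three elements
      have h3 : (3 : F) = 0 := by
        have h := FiniteField.cast_card_eq_zero F; rwa [hq] at h
      let e3 := ZMod.ringEquivOfPrime F Nat.prime_three hq
      have hF : ∀ r : F, r = 0 ∨ r = 1 ∨ r = -1 := fun r => by
        obtain ⟨s, rfl⟩ := e3.surjective r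
        have hs : ∀ s : ZMod 3, s = 0 ∨ s = 1 ∨ s = -1 := by decide
        rcases hs s with rfl | rfl | rfl <;> simp
      have h2 : (2 : F) ≠ 0 := fun h => one_ne_zero (α := F) (by linear_combination h3 - h)
      refine Cfsg.Agent.H96.framed_planes_not_maximal hR hn5 h2 horth (fun r => r ≠ 0) ![1, -1]
        (fun l => by fin_cases l <;> simp) (fun l => by fin_cases l <;> simp)
        (fun i => ![(1 : F) • e i 0 + (1 : F) • f i 0, (1 : F) • e i 0 + (-1 : F) • f i 0])
        (fun i l => by
          fin_cases l <;>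
            exact (D i).add_mem ((D i).smul_mem _ (hmem i 0).1) ((D i).smul_mem _ (hmem i 0).2))
        (fun i l => by
          fin_cases l
          · exact (hval i 1 1).trans (by simp)
          · exact (hval i 1 (-1)).trans (by simp))
        (fun i => (hpp i 1 1 1 (-1)).trans (by ring)) ?_ h01 h02 h12
        ((1 + 1 : F) • e i1 0) ?_ ?_ h01.symm ?_
      · intro i v hv hne
        obtain ⟨a, b, rfl⟩ := hsp i v hv
        rw [hval] at hne
        rcases hF a with rfl | rfl | rfl <;> rcases hF b with rfl | rfl | rfl <;> (try simp at hne)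
        · exact ⟨0, Or.inl rfl⟩
        · exact ⟨1, Or.inl rfl⟩
        · refine ⟨1, Or.inr ?_⟩; simp; abel
        · refine ⟨0, Or.inr ?_⟩; simp; abel
      · rw [qmap_smul, (hef i1).1, mul_zero]
      · rw [polar_smul_right', horth i0 i1 h01 _ _ _ (hmem i1 0).1, mul_zero]
        exact (D i0).add_mem ((D i0).smul_mem _ (hmem i0 0).1) ((D i0).smul_mem _ (hmem i0 0).2)
      · show polar R _ ((1 : F) • e i1 0 + (1 : F) • f i1 0) ≠ 0
        rw [show (1 + 1 : F) • e i1 0 = (1 + 1 : F) • e i1 0 + (0 : F) • f i1 0 by simp, hpp]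
        intro h; exact h2 (by linear_combination h)
    · -- two elements
      have h20 : (2 : F) = 0 := by have h := FiniteField.cast_card_eq_zero F; rwa [hq] at h
      have hF : ∀ r : F, r = 0 ∨ r = 1 := fun r => by
        by_contra hr
        push Not at hr
        have hlt : ({0, 1, r} : Finset F).card ≤ Fintype.card F := Finset.card_le_univ _
        rw [Finset.card_insert_of_notMem (by simp [Ne.symm hr.1]),
          Finset.card_insert_of_notMem (by simp [Ne.symm hr.2]), Finset.card_singleton] at hlt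
        omega
      exact Cfsg.Agent.H96.two_planes_not_maximal hR hn5 hF h20 horth (fun i => e i 0) (fun i => f i 0)
        (fun i => (hmem i 0).1) (fun i => (hmem i 0).2) hef hsp h01 h02 h12
    · -- four elements
      have h20 : (2 : F) = 0 := by
        have h := FiniteField.cast_card_eq_zero F
        rw [hq] at h
        exact mul_self_eq_zero.1 (by push_cast at h; linear_combination h)
      obtain ⟨ω, hω0, hω1⟩ : ∃ ω : F, ω ≠ 0 ∧ ω ≠ 1 := by
        by_contra hcon
        push Not at hcon
        have hsub : (Finset.univ : Finset F) ⊆ {0, 1} := fun r _ => by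
          by_cases h : r = 0
          · simp [h]
          · simp [hcon r h]
        have := Finset.card_le_card hsub
        rw [Finset.card_univ, hq, Finset.card_pair zero_ne_one] at this
        omega
      have hω : ω * ω + ω + 1 = 0 := by
        have h := FiniteField.pow_card_sub_one_eq_one ω hω0
        rw [hq] at h
        exact (mul_eq_zero.1 (show (ω - 1) * (ω * ω + ω + 1) = 0 by linear_combination h)).resolve_left
          (sub_ne_zero.2 hω1)
      have hω2 : ω + 1 ≠ 0 := fun h => hω1 (by linear_combination h - h20)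
      have hω3 : ω + 1 ≠ 1 := fun h => hω0 (by linear_combination h)
      have hω4 : ω + 1 ≠ ω := fun h => one_ne_zero (α := F) (by linear_combination h)
      have hF : ∀ r : F, r = 0 ∨ r = 1 ∨ r = ω ∨ r = ω + 1 := fun r => by
        have huniv : ({0, 1, ω, ω + 1} : Finset F) = Finset.univ := by
          refine Finset.eq_univ_of_card _ ?_
          rw [hq, Finset.card_insert_of_notMem (by simp [hω0.symm, hω2.symm]),
            Finset.card_insert_of_notMem (by simp [hω1.symm, hω3.symm]),
            Finset.card_insert_of_notMem (by simp [hω4.symm]), Finset.card_singleton]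
        have := huniv.symm ▸ Finset.mem_univ r
        simpa using this
      exact Cfsg.Agent.H96.four_planes_not_maximal hR hn5 hω hF h20 horth (fun i => e i 0) (fun i => f i 0)
        (fun i => (hmem i 0).1) (fun i => (hmem i 0).2) hef hsp h01 h02 h12
    · -- five elements
      have h5 : (5 : F) = 0 := by have h := FiniteField.cast_card_eq_zero F; rwa [hq] at h
      let e5 := ZMod.ringEquivOfPrime F Nat.prime_five hq
      have hF : ∀ r : F, r = 0 ∨ r = 1 ∨ r = 2 ∨ r = 3 ∨ r = 4 := fun r => by
        obtain ⟨s, rfl⟩ := e5.surjective r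
        have hs : ∀ s : ZMod 5, s = 0 ∨ s = 1 ∨ s = 2 ∨ s = 3 ∨ s = 4 := by decide
        rcases hs s with rfl | rfl | rfl | rfl | rfl <;> simp [map_ofNat]
      have h2 : (2 : F) ≠ 0 := fun h => one_ne_zero (α := F) (by linear_combination h5 - 2 * h)
      refine Cfsg.Agent.H96.framed_planes_not_maximal hR hn5 h2 horth (fun r => r = 1) ![1, 1]
        (fun l => by fin_cases l <;> simp) (fun l => by fin_cases l <;> simp)
        (fun i => ![(1 : F) • e i 0 + (1 : F) • f i 0, (2 : F) • e i 0 + (3 : F) • f i 0])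
        (fun i l => by
          fin_cases l <;>
            exact (D i).add_mem ((D i).smul_mem _ (hmem i 0).1) ((D i).smul_mem _ (hmem i 0).2))
        (fun i l => by
          fin_cases l
          · exact (hval i 1 1).trans (by simp)
          · exact (hval i 2 3).trans (show (2 : F) * 3 = 1 by linear_combination h5))
        (fun i => (hpp i 1 1 2 3).trans (by linear_combination h5)) ?_ h01 h02 h12
        (((1 : F) • e i1 0 + (1 : F) • f i1 0) + (2 : F) • ((1 : F) • e i2 0 + (1 : F) • f i2 0)) ?_ ?_ h01.symm ?_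
      · intro i v hv hv1
        obtain ⟨a, b, rfl⟩ := hsp i v hv
        rw [hval] at hv1
        obtain ⟨rfl, rfl⟩ | ⟨rfl, rfl⟩ | ⟨rfl, rfl⟩ | ⟨rfl, rfl⟩ :
            (a = 1 ∧ b = 1) ∨ (a = 2 ∧ b = 3) ∨ (a = -2 ∧ b = -3) ∨ (a = -1 ∧ b = -1) := by
          rcases hF a with rfl | rfl | rfl | rfl | rfl
          · simp at hv1
          · exact Or.inl ⟨rfl, by linear_combination hv1⟩
          · exact Or.inr (Or.inl ⟨rfl, by linear_combination 3 * hv1 - b * h5⟩)
          · exact Or.inr (Or.inr (Or.inl ⟨by linear_combination h5, by linear_combination 2 * hv1 - b * h5 + h5⟩))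
          · exact Or.inr (Or.inr (Or.inr ⟨by linear_combination h5, by linear_combination 4 * hv1 - 3 * b * h5 + h5⟩))
        · exact ⟨0, Or.inl rfl⟩
        · exact ⟨1, Or.inl rfl⟩
        · refine ⟨1, Or.inr ?_⟩; simp; abel
        · refine ⟨0, Or.inr ?_⟩; simp; abel
      · rw [map_add_polar, qmap_smul, hval, hval, polar_smul_right', horth i1 i2 h12]
        · linear_combination h5
        · exact (D i1).add_mem ((D i1).smul_mem _ (hmem i1 0).1) ((D i1).smul_mem _ (hmem i1 0).2)
        · exact (D i2).add_mem ((D i2).smul_mem _ (hmem i2 0).1) ((D i2).smul_mem _ (hmem i2 0).2)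
      · show polar R ((1 : F) • e i0 0 + (1 : F) • f i0 0) _ = 0
        have m : ∀ i, (1 : F) • e i 0 + (1 : F) • f i 0 ∈ D i := fun i =>
          (D i).add_mem ((D i).smul_mem _ (hmem i 0).1) ((D i).smul_mem _ (hmem i 0).2)
        rw [polar_add_right, polar_smul_right', horth i0 i1 h01 _ (m i0) _ (m i1), horth i0 i2 h02 _ (m i0) _ (m i2),
          mul_zero, add_zero]
      · show polar R _ ((1 : F) • e i1 0 + (1 : F) • f i1 0) ≠ 0
        have m : ∀ i, (1 : F) • e i 0 + (1 : F) • f i 0 ∈ D i := fun i =>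
          (D i).add_mem ((D i).smul_mem _ (hmem i 0).1) ((D i).smul_mem _ (hmem i 0).2)
        rw [polar_add_left, polar_smul_left', horth i2 i1 h12.symm _ (m i2) _ (m i1), hpp]
        intro h; exact h2 (by linear_combination h)
  · exact absurd hq fun h => hH ⟨Or.inl rfl, h⟩
  · -- four-spaces over two elements
    have h20 : (2 : F) = 0 := by have h := FiniteField.cast_card_eq_zero F; rwa [hq] at h
    have hF : ∀ r : F, r = 0 ∨ r = 1 := fun r => by
      by_contra hr
      push Not at hr
      have hlt : ({0, 1, r} : Finset F).card ≤ Fintype.card F := Finset.card_le_univ _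
      rw [Finset.card_insert_of_notMem (by simp [Ne.symm hr.1]),
        Finset.card_insert_of_notMem (by simp [Ne.symm hr.2]), Finset.card_singleton] at hlt
      omega
    choose e f hmem hfr hspan using fun i => plus_frame (hnd i) (m := 2) (by rw [hdim]) (hpl i)
    refine Cfsg.Agent.H96.four_spaces_not_maximal hR hn5 hF h20 horth (fun i => e i 0 + f i 0)
      (fun i => e i 0 + (e i 1 + f i 1)) (fun i => e i 0 + f i 0 + e i 1) (fun i => e i 0 + f i 0 + f i 1) ?_ ?_ ?_
      h01 h02 h12
    · intro i
      refine ⟨?_, ?_, ?_, ?_⟩ <;>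
        repeat' first
          | apply Submodule.add_mem
          | exact (hmem i _).1
          | exact (hmem i _).2
    · intro i
      simp [map_add_polar, polar_add_left, polar_add_right, polar_self', (hfr i).qe, (hfr i).qf, (hfr i).ef,
        (hfr i).ee, (hfr i).ff, (hfr i).fe, h20, one_add_one_eq_two]
    · intro i v hv
      obtain ⟨a, b, rfl⟩ := hspan i v hv
      refine ⟨b 0 + a 1 + b 1, a 0 + b 0, a 0 + b 0 + a 1, a 0 + b 0 + b 1, ?_⟩
      simp only [Fin.sum_univ_two]
      match_scalars <;> first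
        | linear_combination -(a 0 + 2 * b 0 + a 1 + b 1) * h20
        | linear_combination -(a 0 + b 0 + a 1 + b 1) * h20
        | linear_combination -(a 0 + b 0) * h20

end Cfsg.Agent.S5693
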