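import Cfsg.Statements.S5710
import Cfsg.Agent.H96.FrameThree
import Cfsg.Agent.H96.TensorCoords

set_option autoImplicit false
open Cfsg

namespace Cfsg.Agent.S5710

open QuadraticMap Cfsg.Agent.Orthogonal Cfsg.Agent.H96

/-- A non-degenerate symmetric form in three variables over three elements has a frame of equal values. -/
theorem exists_frame_equal {F : Type*} [Field F] [Finite F] (hF : ∀ t : F, t = 0 ∨ t = 1 ∨ t = -1) (h3 : (3 : F) = 0)
    {f : (Fin 3 → F) → (Fin 3 → F) → F} (hf : Cfsg.Geo.IsSymmetricForm f) :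
    ∃ (u : Fin 3 → Fin 3 → F) (d : F), d ≠ 0 ∧ ∀ i j, f (u i) (u j) = if i = j then d else 0 := by
  have h1 : (1 : F) ≠ 0 := one_ne_zero
  have h2 : (2 : F) ≠ 0 := fun h => h1 (by linear_combination h3 - h)
  let φ : (Fin 3 → F) →ₗ[F] (Fin 3 → F) →ₗ[F] F := LinearMap.mk₂ F f hf.bilinear.add_left
    hf.bilinear.smul_left hf.bilinear.add_right hf.bilinear.smul_right
  let q : QuadraticForm F (Fin 3 → F) := LinearMap.BilinMap.toQuadraticMap φ
  have hqp : ∀ a b, polar q a b = 2 * f a b := by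
    intro a b
    rw [LinearMap.BilinMap.polar_toQuadraticMap]
    show f a b + f b a = _
    rw [hf.symm b a]
    ring
  have hq : Nondeg q := fun x hx => by
    by_contra hne
    obtain ⟨b, hb⟩ := (hf.nondegenerate x hne).2
    have := hx b
    rw [hqp] at this
    exact hb ((mul_eq_zero.1 this).resolve_left h2)
  have ortho : ∀ (a b : Fin 3 → F), polar q a b = 0 → f a b = 0 := fun a b h => by
    rw [hqp] at h; exact (mul_eq_zero.1 h).resolve_left h2
  obtain ⟨a, ha⟩ := hq.exists_value (by simp) 1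
  have ha0 : a ≠ 0 := fun h => by rw [h, QuadraticMap.map_zero] at ha; exact h1 ha.symm
  have hline : Nondeg (restr q (Submodule.span F {a})) := by
    rw [nondeg_restr_iff, eq_bot_iff]
    rintro x ⟨hx1, hx2⟩
    obtain ⟨r, rfl⟩ := Submodule.mem_span_singleton.1 hx1
    have := (mem_perp_span_singleton q).1 hx2
    rw [polar_smul_right', polar_self', ha, mul_one, mul_eq_zero] at this
    rw [this.resolve_right h2, zero_smul]
    exact Submodule.zero_mem _
  have hdim : Module.finrank F (perp q (Submodule.span F {a})) = 2 := by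
    have := hq.finrank_perp_singleton ha0
    rw [Module.finrank_fintype_fun_eq_card, Fintype.card_fin] at this
    omega
  have hN := hq.nondeg_perp hline
  obtain ⟨⟨b, hbp⟩, hb⟩ := hN.exists_value hdim.ge 1
  rw [restr_apply] at hb
  have hb0 : b ≠ 0 := fun h => by
    have hb' : q b = 1 := hb
    rw [h, QuadraticMap.map_zero] at hb'
    exact h1 hb'.symm
  obtain ⟨⟨c, hcp⟩, hc0, hcb⟩ : ∃ c : perp q (Submodule.span F {a}), c ≠ 0 ∧ polar q b (c : Fin 3 → F) = 0 := by
    obtain ⟨c, hc, hc0⟩ := Submodule.exists_mem_ne_zero_of_ne_bot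
      (p := LinearMap.ker ((q.polarBilin b).comp (perp q (Submodule.span F {a})).subtype)) fun h => by
        have := LinearMap.finrank_le_finrank_of_injective (LinearMap.ker_eq_bot.1 h)
        rw [hdim, Module.finrank_self] at this
        omega
    exact ⟨c, hc0, hc⟩
  have hab : f a b = 0 := ortho _ _ ((mem_perp_span_singleton q).1 hbp)
  have hac : f a c = 0 := ortho _ _ ((mem_perp_span_singleton q).1 hcp)
  have hbc : f b c = 0 := ortho _ _ hcb
  have hcc : f c c ≠ 0 := by
    intro h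
    apply hc0
    apply hN
    intro w
    rw [polar_restr]
    have hb' : q b = 1 := hb
    -- the plane is spanned by b and c
    have hind : LinearIndependent F ![(⟨b, hbp⟩ : perp q (Submodule.span F {a})), ⟨c, hcp⟩] := by
      rw [LinearIndependent.pair_iff]
      intro s t hst
      have hst' : s • b + t • c = 0 := congrArg Subtype.val hst
      have h5 := congrArg (φ b) hst'
      rw [map_add, map_smul, map_smul, map_zero, smul_eq_mul, smul_eq_mul] at h5
      change s * f b b + t * f b c = 0 at h5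
      rw [hbc, mul_zero, add_zero] at h5
      have hs : s = 0 := (mul_eq_zero.1 h5).resolve_right fun h6 => h1 (hb'.symm.trans h6)
      rw [hs, zero_smul, zero_add, smul_eq_zero] at hst'
      exact ⟨hs, hst'.resolve_right fun h6 => hc0 (Subtype.ext h6)⟩
    have hspan : Submodule.span F (Set.range ![(⟨b, hbp⟩ : perp q (Submodule.span F {a})), ⟨c, hcp⟩]) = ⊤ :=
      hind.span_eq_top_of_card_eq_finrank (by rw [Fintype.card_fin, hdim])
    obtain ⟨s, t, rfl⟩ : ∃ s t : F, w = s • ⟨b, hbp⟩ + t • ⟨c, hcp⟩ := by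
      have hw : w ∈ Submodule.span F (Set.range ![(⟨b, hbp⟩ : perp q (Submodule.span F {a})), ⟨c, hcp⟩]) := by
        rw [hspan]; trivial
      rw [Matrix.range_cons, Matrix.range_cons, Matrix.range_empty, Set.union_empty, Set.singleton_union] at hw
      obtain ⟨s, t, hst⟩ := Submodule.mem_span_pair.1 hw
      exact ⟨s, t, hst.symm⟩
    show polar q c (s • b + t • c) = 0
    rw [polar_add_right, polar_smul_right', polar_smul_right', polar_comm (⇑q) c b, hcb, polar_self',
      show q c = 0 from h]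
    ring
  have ha' : f a a = 1 := ha
  have hb' : f b b = 1 := hb
  have fin3 : ∀ (u : Fin 3 → Fin 3 → F) (d : F), f (u 0) (u 0) = d → f (u 1) (u 1) = d → f (u 2) (u 2) = d →
      f (u 0) (u 1) = 0 → f (u 0) (u 2) = 0 → f (u 1) (u 2) = 0 →
      ∀ i j, f (u i) (u j) = if i = j then d else 0 := by
    intro u d h00 h11 h22 h01 h02 h12 i j
    fin_cases i <;> fin_cases j <;> simp [h00, h11, h22, h01, h02, h12, hf.symm (u 1) (u 0),
      hf.symm (u 2) (u 0), hf.symm (u 2) (u 1)]
  rcases (hF (f c c)).resolve_left hcc with h | h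
  · exact ⟨![a, b, c], 1, h1, fin3 _ _ ha' hb' h hab hac hbc⟩
  · refine ⟨![a + b, a - b, c], -1, neg_ne_zero.2 h1, fin3 _ _ ?_ ?_ h ?_ ?_ ?_⟩
    all_goals show φ _ _ = _
    all_goals simp only [Matrix.cons_val_zero, Matrix.cons_val_one, Matrix.cons_val_two, Matrix.tail_cons,
      Matrix.head_cons, map_add, map_sub, LinearMap.add_apply, LinearMap.sub_apply]
    all_goals simp only [show ∀ x y, φ x y = f x y from fun _ _ => rfl, ha', hb', hab, hac, hbc, hf.symm b a]
    all_goals first | linear_combination h3 | ring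

/-- Let F be the field with 3 elements, n = 3 n₂ ≥ 13 even, Q a non-degenerate quadratic form on F^n of minus type and Ω the commutator subgroup of its isometry group. Suppose that, through P and e, the polar form of Q is similar to the tensor product of non-degenerate symmetric bilinear forms f₁ on F^3 and f₂ on F^(n₂), n₂ even and at least 4, of minus type. Then the elements of Ω in the stabiliser of this tensor decomposition form a subgroup that is not maximal: some subgroup lies strictly between it and Ω. -/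
theorem result {F : Type*} [Field F] [Fintype F] {n : ℕ} (hn : 13 ≤ n) (heven : Even n) (Q : (Fin n → F) → F) (hQ : Cfsg.Geo.IsNondegenerateQuadraticForm Q) (hminus : ¬ Cfsg.Geo.IsPlusTypeOn Q ⊤) (hq : Fintype.card F = 3) (n₂ : ℕ) (h2 : 4 ≤ n₂) (h2e : Even n₂) (e : (Fin n) ≃ Fin 3 × Fin n₂) (P : Matrix.GeneralLinearGroup (Fin n) F) (f₁ : (Fin 3 → F) → (Fin 3 → F) → F) (f₂ : (Fin n₂ → F) → (Fin n₂ → F) → F) (hf₁ : Cfsg.Geo.IsSymmetricForm f₁) (hf₂ : Cfsg.Geo.IsSymmetricForm f₂) (hf₂m : ¬ Cfsg.Geo.IsPlusTypeOn (fun v : Fin n₂ → F => f₂ v v) ⊤) (hT : Cfsg.Geo.IsTensorFormStructure id (QuadraticMap.polar Q) f₁ f₂ e P) : ∃ K : Subgroup (Matrix.GeneralLinearGroup (Fin n) F), Cfsg.Geo.tensorProductSubgroup 3 n₂ e P ⊓ Cfsg.Geo.omegaGL Q < K ∧ K < Cfsg.Geo.omegaGL Q := by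
  obtain ⟨Q, rfl⟩ : ∃ Q' : QuadraticForm F (Fin n → F), ⇑Q' = Q := ⟨asForm hQ, rfl⟩
  have hN : Nondeg Q := fun x hx => by
    by_contra hne
    obtain ⟨y, hy⟩ := (hQ.nondegenerate x hne).2
    exact hy (hx y)
  have hF : ∀ t : F, t = 0 ∨ t = 1 ∨ t = -1 := fun t => by
    rcases eq_or_ne t 0 with h | h
    · exact Or.inl h
    · have := FiniteField.pow_card_sub_one_eq_one t h
      rw [hq] at this
      exact Or.inr (sq_eq_one_iff.1 this)
  have h3 : (3 : F) = 0 := by
    have := Nat.cast_card_eq_zero F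
    rw [hq] at this
    exact_mod_cast this
  let β : (Fin n₂ → F) →ₗ[F] (Fin n₂ → F) →ₗ[F] F := LinearMap.mk₂ F f₂ hf₂.bilinear.add_left
    hf₂.bilinear.smul_left hf₂.bilinear.add_right hf₂.bilinear.smul_right
  obtain ⟨u, d, hd, hu⟩ := exists_frame_equal hF h3 hf₁
  let M : Matrix (Fin 3) (Fin 3) F := Matrix.of fun i j => u j i
  have hMGM : Matrix.transpose M * Cfsg.Geo.gramMatrix f₁ * M = d • 1 := by
    ext j k
    rw [Matrix.smul_apply, Matrix.one_apply, smul_eq_mul, mul_ite, mul_one, mul_zero, ← hu j k,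
      ← sum_gram hf₁.bilinear]
    simp only [Matrix.mul_apply, Finset.sum_mul, Matrix.transpose_apply]
    rw [Finset.sum_comm]
    rfl
  have hMdet : IsUnit M.det := by
    rw [isUnit_iff_ne_zero]
    intro h
    have := congrArg Matrix.det hMGM
    rw [Matrix.det_mul, h, mul_zero, Matrix.det_smul, Matrix.det_one, mul_one, eq_comm] at this
    exact hd ((pow_eq_zero_iff (by simp)).1 this)
  have hM1 : M * M⁻¹ = 1 := Matrix.mul_nonsing_inv M hMdet
  have hM2 : M⁻¹ * M = 1 := Matrix.nonsing_inv_mul M hMdet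
  let act : Matrix (Fin 3) (Fin 3) F → (Fin 3 → Fin n₂ → F) →ₗ[F] (Fin 3 → Fin n₂ → F) := fun A =>
    LinearMap.pi fun i => ∑ j, A i j • LinearMap.proj j
  have hact : ∀ A x i, act A x i = ∑ j, A i j • x j := fun A x i => by simp [act]
  have hmul : ∀ A B x, act A (act B x) = act (A * B) x := fun A B x => by
    funext i
    simp only [hact, Finset.smul_sum, smul_smul, Matrix.mul_apply, Finset.sum_smul]
    exact Finset.sum_comm
  have hone : ∀ x, act 1 x = x := fun x => by
    funext i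
    rw [hact, Finset.sum_eq_single i (fun k _ hk => by rw [Matrix.one_apply_ne (Ne.symm hk), zero_smul])
      (fun h => absurd (Finset.mem_univ _) h), Matrix.one_apply_eq, one_smul]
  let T : (Fin 3 → Fin n₂ → F) ≃ₗ[F] (Fin 3 → Fin n₂ → F) := LinearEquiv.ofLinearMap (act M) (act M⁻¹)
    (LinearMap.ext fun x => by rw [LinearMap.comp_apply, hmul, hM1, hone]; rfl)
    (LinearMap.ext fun x => by rw [LinearMap.comp_apply, hmul, hM2, hone]; rfl)
  let Φ : (Fin 3 → Fin n₂ → F) ≃ₗ[F] (Fin n → F) := T.trans (tensorIso e P)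
  obtain ⟨c, hc, hpol⟩ := tensor_polar hf₂.bilinear hT
  have hΦ : ∀ x y, polar Q (Φ x) (Φ y) = c * d * ∑ j, β (x j) (y j) := fun x y => by
    show polar Q (tensorIso e P (act M x)) (tensorIso e P (act M y)) = _
    rw [hpol, mul_assoc, Finset.mul_sum (a := d)]
    congr 1
    have : ∀ i i', f₂ (act M x i) (act M y i') = ∑ j, ∑ k, M i j * M i' k * β (x j) (y k) := fun i i' => by
      show β (act M x i) (act M y i') = _
      simp only [hact, map_sum, map_smul, LinearMap.sum_apply, LinearMap.smul_apply, smul_eq_mul, Finset.mul_sum]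
      rw [Finset.sum_comm]
      refine Finset.sum_congr rfl fun j _ => Finset.sum_congr rfl fun k _ => ?_
      ring
    simp only [this, Finset.mul_sum]
    have hent : ∀ j k, ∑ i, ∑ i', M i j * Cfsg.Geo.gramMatrix f₁ i i' * M i' k = if j = k then d else 0 := by
      intro j k
      rw [← hu j k, ← sum_gram hf₁.bilinear]
      rfl
    calc _ = ∑ i, ∑ i', ∑ j, ∑ k, Cfsg.Geo.gramMatrix f₁ i i' * (M i j * M i' k * β (x j) (y k)) := rfl
      _ = ∑ j, ∑ k, (∑ i, ∑ i', M i j * Cfsg.Geo.gramMatrix f₁ i i' * M i' k) * β (x j) (y k) := by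
        simp only [Finset.sum_mul]
        rw [Finset.sum_comm_cycle]
        refine Finset.sum_congr rfl fun j _ => ?_
        rw [Finset.sum_comm_cycle]
        refine Finset.sum_congr rfl fun k _ => ?_
        refine Finset.sum_congr rfl fun i _ => Finset.sum_congr rfl fun i' _ => ?_
        ring
      _ = _ := by simp only [hent, ite_mul, zero_mul, Finset.sum_ite_eq, Finset.mem_univ, if_true]
  obtain ⟨h1, ⟨g, hg, hgX, hgS⟩, h3'⟩ := frame_three Φ (mul_ne_zero hc hd) hΦ hF h3 hf₂.symm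
    (fun a ha => (hf₂.nondegenerate a ha).2) (by rw [Module.finrank_fintype_fun_eq_card, Fintype.card_fin]; omega)
  have key : ∀ x : O Q, om Q x ∈ Cfsg.Geo.tensorProductSubgroup 3 n₂ e P →
      ∃ (A : Matrix (Fin 3) (Fin 3) F) (B : (Fin n₂ → F) →ₗ[F] (Fin n₂ → F)), ∀ z,
        (x : (Fin n → F) ≃ₗ[F] (Fin n → F)) (Φ z) = Φ (fun j => ∑ j', A j j' • B (z j')) := by
    intro x hx
    obtain ⟨A, B, hAB⟩ := exists_tensor_action hx
    refine ⟨M⁻¹ * (A : Matrix (Fin 3) (Fin 3) F) * M, Matrix.toLin' (B : Matrix (Fin n₂) (Fin n₂) F), fun z => ?_⟩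
    show (x : (Fin n → F) ≃ₗ[F] (Fin n → F)) (tensorIso e P (act M z)) = tensorIso e P (act M _)
    rw [← om_mulVec, hAB]
    congr 1
    have e1 : (fun j => ∑ j', (M⁻¹ * (A : Matrix (Fin 3) (Fin 3) F) * M) j j' •
        Matrix.toLin' (B : Matrix (Fin n₂) (Fin n₂) F) (z j')) =
        act (M⁻¹ * (A : Matrix (Fin 3) (Fin 3) F) * M) (fun j' => Matrix.toLin' (B : Matrix (Fin n₂) (Fin n₂) F) (z j')) :=
      funext fun j => (hact _ _ j).symm
    rw [e1, hmul, ← Matrix.mul_assoc, ← Matrix.mul_assoc, hM1, Matrix.one_mul, ← hmul]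
    funext i
    rw [hact]
    refine Finset.sum_congr rfl fun i' _ => ?_
    congr 1
    rw [hact, hact, ← Matrix.toLin'_apply, map_sum]
    exact Finset.sum_congr rfl fun j _ => map_smul _ _ _
  let X := (Cfsg.Geo.decompositionStabilizer (piece Φ)).comap (om Q)
  have hX : ∀ x : O Q, x ∈ X ↔ ∃ σ : Equiv.Perm (Fin 3), ∀ j,
      (piece Φ j).map ((x : (Fin n → F) ≃ₗ[F] (Fin n → F)) : (Fin n → F) →ₗ[F] (Fin n → F)) = piece Φ (σ j) := by
    intro x
    show (∃ σ : Equiv.Perm (Fin 3), ∀ j, (piece Φ j).map (Matrix.toLin' (om Q x : Matrix (Fin n) (Fin n) F)) = piece Φ (σ j)) ↔ _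
    rw [om_toLin']
  refine exists_between Q _ X (fun x _ hx => ?_) ⟨g, hg, (hX g).2 hgX, fun hmem => ?_⟩ ?_
  · obtain ⟨A, B, hAB⟩ := key x hx
    exact (hX x).2 (h1 x A B hAB)
  · obtain ⟨A, B, hAB⟩ := key g hmem
    exact hgS A B hAB
  · obtain ⟨g', hg', hg''⟩ := h3'
    exact ⟨g', hg', fun h => hg'' ((hX g').1 h)⟩

end Cfsg.Agent.S5710
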