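import Cfsg.Statements.S2400
import Cfsg.Agent.H38.St.SmallSplit
import Cfsg.Agent.H38.St.Symbols
import Cfsg.Agent.H74.SchurBasic
import Cfsg.Agent.S2395
import Cfsg.Agent.H38.St.Coprime

set_option autoImplicit false
open Cfsg

namespace Cfsg.Agent.S2400

/-- Over a finite field `K`, the group presented by Steinberg's relators (R1)–(R3) (the universal Chevalley group) of type E₆ or E₇, or of type B₂ or D₄ with `K` of more than two elements, has trivial Schur multiplier: every finite stem extension of it is an isomorphism (Schur multiplier described through stem extensions as in the definitions). Types G₂, F₄ and E₈ are not covered here. -/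
theorem result {K : Type*} [Field K] [Fintype K] (e : Cfsg.Lie.ChevalleyDatum × ℕ)
    (he : e ∈ [(Cfsg.Lie.chevE6, 0), (Cfsg.Lie.chevE7, 0), (Cfsg.Lie.chevB2, 2), (Cfsg.Lie.chevD4, 2)]) (hK : Fintype.card K ≠ e.2) :
    Cfsg.HasCyclicSchurMultiplier (e.1.SteinbergGroup K) 1 := by
  have hmem : e.1 ∈ [Cfsg.Lie.chevG2, Cfsg.Lie.chevB2, Cfsg.Lie.chevD4, Cfsg.Lie.chevF4,
      Cfsg.Lie.chevE6, Cfsg.Lie.chevE7, Cfsg.Lie.chevE8] := by
    simp only [List.mem_cons, List.not_mem_nil, or_false] at he
    rcases he with rfl | rfl | rfl | rfl <;> simp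
  obtain ⟨Q, hrel, hA⟩ := H38.St.exists_stData hmem K
  obtain ⟨φ, -⟩ := H38.St.cover_equiv Q hrel hA
  have hperf : commutator (e.1.SteinbergCover K) = ⊤ := by
    refine S2395.result e.1 hmem fun hBG => ?_
    by_contra hne
    push Not at hne
    refine hK ?_
    have h2 : e.2 = 2 := by
      simp only [List.mem_cons, List.not_mem_nil, or_false] at he hBG
      rcases he with rfl | rfl | rfl | rfl <;> first | rfl | skip
      all_goals (rcases hBG with hBG | hBG <;> simpa [Cfsg.Lie.chevE6, Cfsg.Lie.chevE7, Cfsg.Lie.chevB2,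
        Cfsg.Lie.chevG2] using congrArg Cfsg.Lie.ChevalleyDatum.rank hBG)
    rw [h2]
    classical
    have : (Finset.univ : Finset K) = {0, 1} := by
      ext x
      simp only [Finset.mem_univ, Finset.mem_insert, Finset.mem_singleton, true_iff]
      exact (em (x = 0)).imp id (hne x)
    rw [← Finset.card_univ, this, Finset.card_pair zero_ne_one]
  have hfin : Finite (e.1.SteinbergCover K) := H38.St.finite_cover Q hrel hA hperf
  have : Finite (e.1.SteinbergGroup K) := Finite.of_equiv _ φ.toEquiv
  refine H74.Schur.hasCyclicSchurMultiplier_one fun Γ _ _ σ hσ => ?_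
  obtain ⟨hs, hc, hd⟩ := hσ
  let X : H38.St.CExt Γ (e.1.SteinbergCover K) :=
    ⟨φ.symm.toMonoidHom.comp σ, φ.symm.surjective.comp hs, fun g hg => hc (by
      rw [MonoidHom.mem_ker] at hg ⊢
      exact φ.symm.injective (hg.trans (map_one φ.symm).symm))⟩
  have hker : X.p.ker = σ.ker := MonoidHom.ker_mulEquiv_comp σ φ.symm
  obtain ⟨f, hf⟩ := H38.St.exists_section_finite e he hK X
  rw [← hker]
  exact H38.St.ker_eq_bot_of_section X (hker ▸ hd) hf

end Cfsg.Agent.S2400
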