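import Cfsg.Statements.S5357
import Cfsg.Agent.H91.ReflThree

set_option autoImplicit false
open scoped MatrixGroups
open Cfsg

namespace Cfsg.Agent.S5357

open Cfsg.Agent.Orthogonal

/-- Let Q be a non-degenerate quadratic form on the n-dimensional coordinate space over the field with three elements, n ≥ 5, and c a non-zero scalar. In the subgroup of the isometry group of Q generated by the reflections in vectors v with Q(v) = c, these reflections form a single conjugacy class of 3-transpositions generating that subgroup. -/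
theorem result (n : ℕ) (hn : 5 ≤ n) (Q : QuadraticForm (ZMod 3) (Fin n → ZMod 3)) (hQ : (QuadraticMap.polarBilin Q).Nondegenerate) (c : ZMod 3) (hc : c ≠ 0) : Cfsg.IsThreeTranspositionClass {g : ↥(Cfsg.reflectionSubgroup (⇑Q) c) | (g : ↥(Cfsg.isometryGroup (ZMod 3) (⇑Q))) ∈ Cfsg.reflectionsOfNorm (⇑Q) c} := by
  have hN := Orthogonal.nondeg_of_polarBilin hQ
  have h2 : (2 : ZMod 3) ≠ 0 := by decide
  have h3 : ∀ x : ZMod 3, x = 0 ∨ x = 1 ∨ x = -1 := by decide
  have hsq : ∀ t : ZMod 3, t ≠ 0 → t ^ 2 = 1 := by decide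
  have hn' : 5 ≤ Module.finrank (ZMod 3) (Fin n → ZMod 3) := by rw [Module.finrank_fin_fun]; exact hn
  let ψ : ↥(Cfsg.reflectionSubgroup (⇑Q) c) →* O Q :=
    (toO Q).toMonoidHom.comp (Cfsg.reflectionSubgroup (⇑Q) c).subtype
  have hψ : Function.Injective ψ := (toO Q).injective.comp Subtype.val_injective
  have hrange : classGroup Q c ≤ ψ.range := by
    rw [classGroup, Subgroup.closure_le]
    rintro _ ⟨v, t, ht, hv, rfl⟩
    exact ⟨⟨reflIso Q v, Subgroup.subset_closure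
      ⟨v, by rw [hv, hsq t ht, mul_one], reflIso_val v⟩⟩, (toO Q).apply_symm_apply _⟩
  set D := {g : ↥(Cfsg.reflectionSubgroup (⇑Q) c) |
    (g : ↥(Cfsg.isometryGroup (ZMod 3) (⇑Q))) ∈ Cfsg.reflectionsOfNorm (⇑Q) c}
  have hD : ∀ g, g ∈ D ↔ ∃ v, Q v = c ∧ ψ g = rO Q v := fun g =>
    ⟨fun ⟨v, hv, hg⟩ => ⟨v, hv, (toO_eq_rO_iff Q _ v).2 hg⟩,
      fun ⟨v, hv, hg⟩ => ⟨v, hv, (toO_eq_rO_iff Q _ v).1 hg⟩⟩
  have hclo : Subgroup.closure D = ⊤ := Subgroup.closure_closure_coe_preimage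
  refine ⟨⟨fun d hd => ?_, fun d hd e he => ?_⟩, ?_, hclo⟩
  · obtain ⟨v, hv, hdv⟩ := (hD d).1 hd
    rw [← orderOf_injective ψ hψ, hdv]
    refine orderOf_eq_prime (by rw [pow_two, rO_mul_self]) fun h => ?_
    have hv0 : Q v ≠ 0 := hv ▸ hc
    have hs := rO_self hv0
    rw [h] at hs
    have hv' : (2 : ZMod 3) • v = 0 := by
      rw [two_smul]
      nth_rewrite 1 [show v = -v from hs]
      exact neg_add_cancel v
    exact hv0 (by rw [(smul_eq_zero.1 hv').resolve_left h2, QuadraticMap.map_zero])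
  · obtain ⟨u, hu, hdu⟩ := (hD d).1 hd
    obtain ⟨v, hv, hev⟩ := (hD e).1 he
    rcases Cfsg.Agent.H91.ReflThree.sq_or_cube h3 hc hu hv with h | h
    · exact Or.inl (hψ (by rw [map_pow, map_mul, hdu, hev, h, map_one]))
    · exact Or.inr (hψ (by rw [map_pow, map_mul, hdu, hev, h, map_one]))
  · obtain ⟨v₀, hv₀⟩ := hN.exists_value (by omega) c
    obtain ⟨d, hd⟩ := hrange (rO_mem_classGroup_of_value hc hv₀)
    refine ⟨d, (hD d).2 ⟨v₀, hv₀, hd⟩, Set.ext fun e => ⟨fun he => ?_, fun he => ?_⟩⟩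
    · obtain ⟨v, hv, hev⟩ := (hD e).1 he
      obtain ⟨r, hr, hrv⟩ := exists_classGroup_map hN h2 h3 hc hn' hv₀ hv
      obtain ⟨g, rfl⟩ := hrange hr
      refine isConj_iff.2 ⟨g, hψ ?_⟩
      rw [map_mul, map_mul, map_inv, hd, conj_rO, hrv, hev]
    · obtain ⟨g, rfl⟩ := isConj_iff.1 (show IsConj d e from he)
      refine (hD _).2 ⟨((ψ g : O Q) : _ ≃ₗ[ZMod 3] _) v₀, ?_, ?_⟩
      · rw [O.map_app, hv₀]
      · rw [map_mul, map_mul, map_inv, hd, conj_rO]

end Cfsg.Agent.S5357
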