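import Cfsg.Statements.S5360
import Cfsg.Agent.Orthogonal.ReflClass
-- import your own Cfsg.Agent.* helpers here

set_option autoImplicit false
open scoped MatrixGroups
open Cfsg

namespace Cfsg.Agent.S5360

/-- Let Q be a non-degenerate quadratic form on the n-dimensional coordinate space over the field with three elements, n ≥ 5, c a non-zero scalar, and R the subgroup of the isometry group generated by the reflections of norm c. Then the commutator subgroup of R is quasisimple of index at most 2, the generalized Fitting subgroup of R is the product of the centre and the commutator subgroup, and R acts primitively by conjugation on its reflections of norm c. -/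
theorem result (n : ℕ) (hn : 5 ≤ n) (Q : QuadraticForm (ZMod 3) (Fin n → ZMod 3)) (hQ : (QuadraticMap.polarBilin Q).Nondegenerate) (c : ZMod 3) (hc : c ≠ 0) : Cfsg.IsQuasisimple (commutator ↥(Cfsg.reflectionSubgroup (⇑Q) c)) ∧ (commutator ↥(Cfsg.reflectionSubgroup (⇑Q) c)).index ≤ 2 ∧ Cfsg.generalizedFittingSubgroup ↥(Cfsg.reflectionSubgroup (⇑Q) c) = Subgroup.center ↥(Cfsg.reflectionSubgroup (⇑Q) c) ⊔ commutator ↥(Cfsg.reflectionSubgroup (⇑Q) c) ∧ Cfsg.IsPrimitiveUnderConj {g : ↥(Cfsg.reflectionSubgroup (⇑Q) c) | (g : ↥(Cfsg.isometryGroup (ZMod 3) (⇑Q))) ∈ Cfsg.reflectionsOfNorm (⇑Q) c} := by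
  have hN := Orthogonal.nondeg_of_polarBilin hQ
  have h2 : (2 : ZMod 3) ≠ 0 := by decide
  have h3 : ∀ x : ZMod 3, x = 0 ∨ x = 1 ∨ x = -1 := by decide
  have hsq : ∀ t : ZMod 3, t ≠ 0 → t ^ 2 = 1 := by decide
  have hn' : 5 ≤ Module.finrank (ZMod 3) (Fin n → ZMod 3) := by rw [Module.finrank_fin_fun]; exact hn
  let ψ : ↥(Cfsg.reflectionSubgroup (⇑Q) c) →* Orthogonal.O Q :=
    (Orthogonal.toO Q).toMonoidHom.comp (Cfsg.reflectionSubgroup (⇑Q) c).subtype
  have hψ : Function.Injective ψ := (Orthogonal.toO Q).injective.comp Subtype.val_injective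
  have hrange : ψ.range = Orthogonal.classGroup Q c := by
    rw [MonoidHom.range_comp, Subgroup.range_subtype, Cfsg.reflectionSubgroup, MonoidHom.map_closure,
      Orthogonal.classGroup]
    congr 1
    ext x
    constructor
    · rintro ⟨g, ⟨v, hv, hg⟩, rfl⟩
      exact ⟨v, 1, one_ne_zero, by rw [hv]; ring, (Orthogonal.toO_eq_rO_iff Q g v).2 hg⟩
    · rintro ⟨v, t, ht, hv, rfl⟩
      have ht2 : t ^ 2 = 1 := hsq t ht
      exact ⟨Orthogonal.reflIso Q v, ⟨v, by rw [hv, ht2, mul_one], Orthogonal.reflIso_val v⟩,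
        (Orthogonal.toO Q).apply_symm_apply _⟩
  refine ⟨Orthogonal.isQuasisimple_commutator_classGroup hN h2 hc hn' ψ hψ hrange,
    (Orthogonal.index_commutator_classGroup hN h2 hc hn' ψ hψ hrange).le,
    Orthogonal.genFitting_classGroup hN h2 hc hn' ψ hψ hrange,
    Orthogonal.isPrimitive_classGroup hN h2 hc hn' ψ hψ hrange h3 _ fun g => ?_⟩
  constructor
  · rintro ⟨v, hv, hg⟩
    exact ⟨v, hv, (Orthogonal.toO_eq_rO_iff Q _ v).2 hg⟩
  · rintro ⟨v, hv, hg⟩
    exact ⟨v, hv, (Orthogonal.toO_eq_rO_iff Q _ v).1 hg⟩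

end Cfsg.Agent.S5360
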