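import Cfsg.Statements.S1523
import Cfsg.Agent.H83.ClassConst

set_option autoImplicit false
open Cfsg

namespace Cfsg.Agent.S1523

open Classical in
/-- A free action makes an invariant integral sum divisible by the group order. -/
theorem dvd_sum_free {Γ : Type*} [Group Γ] [Finite Γ] {β : Type*} [Fintype β] (φ : Γ →* Equiv.Perm β)
    (s : Finset β) (hs : ∀ (g : Γ), ∀ b ∈ s, φ g b ∈ s)
    (hfree : ∀ b ∈ s, ∀ g : Γ, φ g b = b → g = 1) (f : β → ℂ) (hf : ∀ (g : Γ) (b : β), f (φ g b) = f b)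
    (hint : ∀ b, IsIntegral ℤ (f b)) :
    ∃ w : ℂ, IsIntegral ℤ w ∧ ∑ b ∈ s, f b = (Nat.card Γ : ℂ) * w := by
  let act : MulAction Γ β := MulAction.compHom β φ
  letI := MulAction.orbitRel Γ β
  refine ⟨∑ ω ∈ s.image (fun b => (Quotient.mk'' b : MulAction.orbitRel.Quotient Γ β)), f ω.out,
    IsIntegral.sum _ (fun ω _ => hint _), ?_⟩
  rw [Finset.mul_sum,
    ← Finset.sum_fiberwise_of_maps_to
      (g := fun b => (Quotient.mk'' b : MulAction.orbitRel.Quotient Γ β))
      (fun b hb => Finset.mem_image_of_mem _ hb)]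
  refine Finset.sum_congr rfl fun ω hω => ?_
  obtain ⟨b₀, hb₀, hω'⟩ := Finset.mem_image.mp hω
  have hmem : ∀ b, (Quotient.mk'' b : MulAction.orbitRel.Quotient Γ β) = ω ↔ ∃ g : Γ, g • b₀ = b := by
    intro b
    rw [← hω', Quotient.eq'', MulAction.orbitRel_apply]
    exact MulAction.mem_orbit_iff
  have hconst : ∀ b ∈ s.filter (fun b => (Quotient.mk'' b : MulAction.orbitRel.Quotient Γ β) = ω),
      f b = f ω.out := by
    intro b hb
    obtain ⟨g, rfl⟩ := (hmem b).mp (Finset.mem_filter.mp hb).2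
    obtain ⟨g', hg'⟩ := (hmem ω.out).mp (Quotient.out_eq ω)
    exact (hf g b₀).trans ((hf g' b₀).symm.trans (congrArg f hg'))
  rw [Finset.sum_congr rfl hconst, Finset.sum_const, nsmul_eq_mul]
  congr 1
  have : Fintype Γ := Fintype.ofFinite Γ
  rw [Nat.card_eq_fintype_card, ← Finset.card_univ]
  norm_cast
  symm
  refine Finset.card_bij (fun g _ => g • b₀) ?_ ?_ ?_
  · intro g _
    exact Finset.mem_filter.mpr ⟨hs g b₀ hb₀, (hmem _).mpr ⟨g, rfl⟩⟩
  · intro g _ g' _ he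
    have := hfree b₀ hb₀ (g'⁻¹ * g) (by
      show (g'⁻¹ * g) • b₀ = b₀
      rw [mul_smul]
      rw [show g • b₀ = g' • b₀ from he, inv_smul_smul])
    exact (inv_mul_eq_one.mp this).symm
  · intro b hb
    obtain ⟨g, hg⟩ := (hmem b).mp (Finset.mem_filter.mp hb).2
    exact ⟨g, Finset.mem_univ _, hg⟩

open Classical in
/-- The size of an orbit divides the index of any subgroup fixing the point. -/
theorem card_orbit_dvd {Γ : Type*} [Group Γ] [Finite Γ] {β : Type*} [Fintype β] (φ : Γ →* Equiv.Perm β)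
    (b : β) (s : Finset β) (hs : ∀ x, x ∈ s ↔ ∃ g : Γ, φ g b = x) (K : Subgroup Γ)
    (hK : ∀ k ∈ K, φ k b = b) : s.card ∣ K.index := by
  let act : MulAction Γ β := MulAction.compHom β φ
  have hm : s.card = (MulAction.stabilizer Γ b).index := by
    rw [MulAction.index_stabilizer, Set.ncard_eq_toFinset_card']
    congr 1
    ext x
    rw [hs, Set.mem_toFinset]
    exact MulAction.mem_orbit_iff.symm
  rw [hm]
  exact Subgroup.index_dvd_of_le hK

/-- Let G be a finite group, p a prime, P a Sylow p-subgroup whose underlying set is a TI-subset of G, with L the set normaliser of P of odd order. Let Z ≠ ⊥ be a subgroup of P, normal in L and central in P, such that the centralisers in L of any two non-identity elements of Z have the same order. If ψ is an irreducible character of G taking the same value at all non-identity elements of Z, then for z ∈ Z, z ≠ 1, the value ψ z is an integer n with Nat.card P dividing ψ(1) − n (as integers,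 ψ 1 being the degree). -/
theorem result {G : Type*} [Group G] [Finite G] (p : ℕ) [Fact p.Prime] (P : Sylow p G) (hTI : Cfsg.IsTISubset ((P : Subgroup G) : Set G)) (hodd : Odd (Nat.card (Subgroup.normalizer ((P : Subgroup G) : Set G)))) (Z : Subgroup G) (hZ1 : Z ≠ ⊥) (hZP : Z ≤ P) (hZn : ∀ x ∈ Subgroup.normalizer ((P : Subgroup G) : Set G), ∀ z ∈ Z, x * z * x⁻¹ ∈ Z) (hZc : ∀ z ∈ Z, ∀ y ∈ (P : Subgroup G), z * y = y * z) (hCL : ∀ z ∈ Z, ∀ z' ∈ Z, z ≠ 1 → z' ≠ 1 → Nat.card ↥(Subgroup.normalizer ((P : Subgroup G) : Set G) ⊓ Subgroup.centralizer ({z} : Set G)) = Nat.card ↥(Subgroup.normalizer ((P : Subgroup G) : Set G) ⊓ Subgroup.centralizer ({z'} : Set G))) (ψ : G → ℂ) (hψ : Cfsg.IsIrrCharacter G ψ) (hconst : ∀ z ∈ Z, ∀ z' ∈ Z, z ≠ 1 → z' ≠ 1 → ψ z = ψ z') (z : G) (hz : z ∈ Z) (hz1 : z ≠ 1) : ∃ n d : ℤ, ψ z = n ∧ ψ 1 = d ∧ (Nat.card (P : Subgroup G) : ℤ) ∣ d - n := by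
  classical
  cases nonempty_fintype G
  set L := Subgroup.normalizer ((P : Subgroup G) : Set G) with hLdef
  have hψc := CharBasic.IsIrr.isClassFunction hψ
  have hψi : ∀ g, IsIntegral ℤ (ψ g) := H83.irr_isIntegral hψ
  have hne : ψ 1 ≠ 0 := CharBasic.IsIrr.one_ne_zero hψ
  obtain ⟨d, -, hd⟩ := CharBasic.IsIrr.exists_degree hψ
  have hzP : z ∈ (P : Subgroup G) := hZP hz
  -- the value is an integer
  obtain ⟨n, hn⟩ : ∃ n : ℤ, ψ z = n := by
    obtain ⟨m, hm⟩ := H83.sum_subgroup_eq (CharBasic.IsIrr.isCharacter hψ) Z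
    rw [← Finset.add_sum_erase _ _ (Finset.mem_univ (1 : Z)),
      Finset.sum_congr rfl (g := fun _ => ψ z) (fun (w : Z) hw => hconst w w.2 z hz
        (by simpa using (Finset.mem_erase.mp hw).1) hz1), Finset.sum_const, Finset.card_erase_of_mem
        (Finset.mem_univ _), Finset.card_univ, ← Nat.card_eq_fintype_card, nsmul_eq_mul,
      OneMemClass.coe_one, hd] at hm
    have h2 : 1 < Nat.card Z := Subgroup.one_lt_card_iff_ne_bot Z |>.mpr hZ1
    have h3 : ((Nat.card Z - 1 : ℕ) : ℤ) ≠ 0 := by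
      rw [Nat.cast_ne_zero]; omega
    have h4 : (((Nat.card Z - 1 : ℕ) : ℤ) : ℂ) * ψ z = (((Nat.card Z : ℤ) * m - d : ℤ) : ℂ) := by
      push_cast
      linear_combination hm
    obtain ⟨q, hq⟩ := H83.int_dvd_of_isIntegral (hψi z) h3 h4
    refine ⟨q, mul_left_cancel₀ (show (((Nat.card Z - 1 : ℕ) : ℤ) : ℂ) ≠ 0 by exact_mod_cast h3) ?_⟩
    rw [h4, hq]; push_cast; ring
  refine ⟨n, d, hn, by rw [hd]; simp, ?_⟩
  -- conjugates of elements of Z
  have hfus : ∀ g w : G, w ∈ Z → w ≠ 1 → g * w * g⁻¹ ∈ (P : Subgroup G) → g ∈ L := by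
    intro g w hw hw1 hg
    by_contra h
    exact hw1 (hTI g h w (hZP hw) hg)
  have hcl : ∀ {t x : G}, t ∈ Z → t ≠ 1 → IsConj t x → x ∈ (P : Subgroup G) →
      ∃ g ∈ L, g * t * g⁻¹ = x := by
    intro t x ht ht1 hc hx
    obtain ⟨g, hg⟩ := isConj_iff.mp hc
    exact ⟨g, hfus g t ht ht1 (hg ▸ hx), hg⟩
  have hcent : ∀ {t x u : G}, t ∈ Z → t ≠ 1 → IsConj t x → u ∈ (P : Subgroup G) → u ≠ 1 →
      u * x = x * u → x ∈ Z := by
    intro t x u ht ht1 hc hu hu1 hux
    have hxN : x ∈ L := by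
      by_contra h
      refine hu1 (hTI x h u hu ?_)
      rw [← hux, mul_inv_cancel_right]
      exact hu
    obtain ⟨g, hg⟩ := isConj_iff.mp hc
    obtain ⟨k, hk⟩ := P.2 ⟨t, hZP ht⟩
    have hxp : x ^ p ^ k = 1 := by
      have hk' : t ^ p ^ k = 1 := by simpa using congrArg Subtype.val hk
      rw [← hg, conj_pow, hk']
      group
    have hxP : x ∈ (P : Subgroup G) := by
      have hz' : IsPGroup p (Subgroup.zpowers x) := by
        rintro ⟨y, j, rfl⟩
        refine ⟨k, Subtype.ext ?_⟩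
        show (x ^ j) ^ p ^ k = 1
        rw [← zpow_natCast, ← zpow_mul, mul_comm, zpow_mul, zpow_natCast, hxp, one_zpow]
      have hle : Subgroup.zpowers x ≤ L := Subgroup.zpowers_le.mpr hxN
      have := P.is_maximal' (hz'.to_sup_of_normal_right' P.2 hle) le_sup_right
      rw [← this]
      exact Subgroup.mem_sup_left (Subgroup.mem_zpowers x)
    obtain ⟨g', hg', rfl⟩ := hcl ht ht1 hc hxP
    exact hZn g' hg' t ht
  have hnotconj : ∀ g : G, g * z * g⁻¹ ≠ z⁻¹ := by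
    intro g he
    have hgL : g ∈ L := hfus g z hz hz1 (he ▸ inv_mem hzP)
    have h2 : Commute (g ^ 2) z := by
      show g ^ 2 * z = z * g ^ 2
      have e : g * z⁻¹ * g⁻¹ = z := by rw [← conj_inv, he, inv_inv]
      calc g ^ 2 * z = g * (g * z * g⁻¹) * g⁻¹ * g ^ 2 := by rw [pow_two]; group
        _ = z * g ^ 2 := by rw [he, e]
    obtain ⟨j, hj⟩ := hodd
    have hg : g = (g ^ 2) ^ (j + 1) := by
      have := congrArg Subtype.val (pow_card_eq_one' (x := (⟨g, hgL⟩ : L)))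
      rw [hj] at this
      simp only [SubmonoidClass.coe_pow, OneMemClass.coe_one] at this
      rw [← pow_mul, show 2 * (j + 1) = (2 * j + 1) + 1 by ring, pow_succ, this, one_mul]
    have h3 : Commute g z := hg ▸ h2.pow_left _
    have h4 : z ^ 2 = 1 := by
      rw [pow_two, ← mul_inv_cancel z, ← he, h3.eq, mul_inv_cancel_right]
    have h5 : orderOf z ∣ 2 * j + 1 := by
      rw [← hj]
      have := orderOf_dvd_natCard (⟨z, Subgroup.le_normalizer hzP⟩ : L)
      rwa [← Subgroup.orderOf_coe] at this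
    rcases (Nat.dvd_prime Nat.prime_two).mp (orderOf_dvd_of_pow_eq_one h4) with h6 | h6
    · exact hz1 (orderOf_eq_one_iff.mp h6)
    · rw [h6] at h5; omega
  -- class sums
  let Kc : G → Finset G := fun t => Finset.univ.filter (fun x => IsConj t x)
  let S : G → ℂ := fun t => ∑ x ∈ Kc z, ∑ y ∈ Kc t, ψ (x * y)
  have hS : ∀ t, S t * ψ 1 = (((Subgroup.centralizer ({z} : Set G)).index : ℂ) * ψ z) *
      (((Subgroup.centralizer ({t} : Set G)).index : ℂ) * ψ t) := by
    intro t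
    have h := H83.omega_mul (H83.classInd_isClassFunction z) (H83.classInd_isClassFunction t) hψ
    rw [H83.sum_classInd_mul hψc, H83.sum_classInd_mul hψc, H83.classSize_eq_index,
      H83.classSize_eq_index] at h
    rw [← h]
    congr 1
    simp only [S, Kc, H83.classInd, Finset.sum_filter, ite_mul, mul_ite, one_mul, zero_mul, mul_zero]
    refine Finset.sum_congr rfl fun x _ => ?_
    split_ifs <;> simp
  have hCinv : Subgroup.centralizer ({z⁻¹} : Set G) = Subgroup.centralizer ({z} : Set G) := by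
    ext x
    simp only [Subgroup.mem_centralizer_singleton_iff]
    exact ⟨fun h => by simpa using (Commute.inv_right (show Commute x z⁻¹ from h)).eq,
      fun h => (Commute.inv_right (show Commute x z from h)).eq⟩
  have hSS : S z = S z⁻¹ := by
    refine mul_right_cancel₀ hne ?_
    rw [hS, hS, hCinv, hconst z⁻¹ (inv_mem hz) z hz (inv_ne_one.mpr hz1) hz1]
  -- split off the pairs inside Z
  let Zc : G → Finset G := fun t => (Kc t).filter (· ∈ Z)
  let φ : (P : Subgroup G) →* Equiv.Perm (G × G) :=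
    { toFun := fun u => Equiv.prodCongr (MulAut.conj (u : G)).toEquiv (MulAut.conj (u : G)).toEquiv
      map_one' := by ext q <;> simp
      map_mul' := fun u v => by ext q <;> simp }
  have hsm : ∀ (u : (P : Subgroup G)) (q : G × G),
      φ u q = ((u : G) * q.1 * (u : G)⁻¹, (u : G) * q.2 * (u : G)⁻¹) := fun _ _ => rfl
  have hsplit : ∀ t, t ∈ Z → t ≠ 1 → ∃ w : ℂ, IsIntegral ℤ w ∧
      S t = (∑ x ∈ Zc z, ∑ y ∈ Zc t, ψ (x * y)) + (Nat.card (P : Subgroup G) : ℂ) * w := by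
    intro t ht ht1
    let s := (Kc z ×ˢ Kc t).filter (fun q => ¬ (q.1 ∈ Z ∧ q.2 ∈ Z))
    suffices hh : ∃ w : ℂ, IsIntegral ℤ w ∧ ∑ q ∈ s, ψ (q.1 * q.2) = (Nat.card (P : Subgroup G) : ℂ) * w by
      obtain ⟨w, hw, hsum⟩ := hh
      refine ⟨w, hw, ?_⟩
      rw [← hsum]
      simp only [S, s, Zc]
      rw [← Finset.sum_product', ← Finset.sum_product']
      have h := (Finset.sum_filter_add_sum_filter_not (Kc z ×ˢ Kc t) (fun q : G × G => q.1 ∈ Z ∧ q.2 ∈ Z) (fun q : G × G => ψ (q.1 * q.2))).symm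
      rw [Finset.filter_product (fun x => x ∈ Z) (fun x => x ∈ Z)] at h
      exact h
    refine dvd_sum_free φ s ?_ ?_ (fun q => ψ (q.1 * q.2)) ?_ (fun q => hψi _)
    · rintro u ⟨x, y⟩ hq
      simp only [s, Kc, Finset.mem_filter, Finset.mem_product, Finset.mem_univ, true_and] at hq ⊢
      rw [hsm]
      refine ⟨⟨hq.1.1.trans (isConj_iff.mpr ⟨u, rfl⟩), hq.1.2.trans (isConj_iff.mpr ⟨u, rfl⟩)⟩, ?_⟩
      rintro ⟨h1, h2⟩
      have e : ∀ w : G, (u : G) * w * (u : G)⁻¹ ∈ Z → w ∈ Z := fun w hw' => by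
        simpa [mul_assoc] using hZn _ (inv_mem (Subgroup.le_normalizer u.2)) _ hw'
      exact hq.2 ⟨e _ h1, e _ h2⟩
    · rintro ⟨x, y⟩ hq u hu
      simp only [s, Kc, Finset.mem_filter, Finset.mem_product, Finset.mem_univ, true_and] at hq
      rw [hsm, Prod.mk.injEq] at hu
      by_contra hu1
      have hu1' : (u : G) ≠ 1 := fun h => hu1 (Subtype.ext h)
      exact hq.2 ⟨hcent hz hz1 hq.1.1 u.2 hu1' (mul_inv_eq_iff_eq_mul.mp hu.1),
        hcent ht ht1 hq.1.2 u.2 hu1' (mul_inv_eq_iff_eq_mul.mp hu.2)⟩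
    · intro u q
      rw [hsm]
      simp only
      rw [← hψc (q.1 * q.2) (u : G)]
      congr 1
      group
  obtain ⟨w₁, hw₁, h₁⟩ := hsplit z hz hz1
  obtain ⟨w₂, hw₂, h₂⟩ := hsplit z⁻¹ (inv_mem hz) (inv_ne_one.mpr hz1)
  set m := (Zc z).card with hm
  have hmemZc : ∀ {t x : G}, x ∈ Zc t ↔ IsConj t x ∧ x ∈ Z := fun {t x} => by simp [Zc, Kc]
  have hZ1' : ∀ {t x : G}, t ≠ 1 → IsConj t x → x ≠ 1 := by
    intro t x ht hc hx
    subst hx
    exact ht (isConj_one_left.mp hc)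
  have hin : ∀ {x : G}, IsConj z x → IsConj z⁻¹ x⁻¹ := by
    intro x hc
    obtain ⟨g, rfl⟩ := isConj_iff.mp hc
    exact isConj_iff.mpr ⟨g, by group⟩
  have e₁ : ∑ x ∈ Zc z, ∑ y ∈ Zc z, ψ (x * y) = (m : ℂ) * m * n := by
    rw [Finset.sum_congr rfl fun x hx => Finset.sum_congr rfl (g := fun _ => (n : ℂ)) fun y hy => ?_]
    · simp [← hm, mul_assoc]
    obtain ⟨hx1, hx2⟩ := hmemZc.mp hx
    obtain ⟨hy1, hy2⟩ := hmemZc.mp hy
    rw [← hn]
    refine hconst _ (mul_mem hx2 hy2) z hz (fun e => ?_) hz1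
    rw [mul_eq_one_iff_eq_inv'] at e
    subst e
    obtain ⟨g, hg⟩ := isConj_iff.mp ((hy1.trans (hin hx1).symm))
    exact hnotconj g hg
  have e₂ : ∑ x ∈ Zc z, ∑ y ∈ Zc z⁻¹, ψ (x * y) = (m : ℂ) * m * n + (m : ℂ) * (d - n) := by
    have hcard : (Zc z⁻¹).card = m := by
      rw [hm]
      refine (Finset.card_bij (fun x _ => x⁻¹) (fun x hx => ?_) (fun x _ y _ h => inv_inj.mp h)
        (fun x hx => ⟨x⁻¹, ?_, inv_inv x⟩)).symm
      · exact hmemZc.mpr ⟨hin (hmemZc.mp hx).1, inv_mem (hmemZc.mp hx).2⟩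
      · refine hmemZc.mpr ⟨?_, inv_mem (hmemZc.mp hx).2⟩
        obtain ⟨g, hg⟩ := isConj_iff.mp (hmemZc.mp hx).1
        exact isConj_iff.mpr ⟨g, by rw [← hg]; group⟩
    have hrow : ∀ x ∈ Zc z, ∑ y ∈ Zc z⁻¹, ψ (x * y) = (m : ℂ) * n + (d - n) := by
      intro x hx
      obtain ⟨hx1, hx2⟩ := hmemZc.mp hx
      have hxi : x⁻¹ ∈ Zc z⁻¹ := hmemZc.mpr ⟨hin hx1, inv_mem hx2⟩
      rw [← Finset.add_sum_erase _ _ hxi, mul_inv_cancel, hd,
        Finset.sum_congr rfl (g := fun _ => (n : ℂ)) (fun y hy => by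
          rw [← hn]
          refine hconst _ (mul_mem hx2 (hmemZc.mp (Finset.mem_of_mem_erase hy)).2) z hz (fun e => ?_) hz1
          exact (Finset.mem_erase.mp hy).1 (mul_eq_one_iff_eq_inv'.mp e)),
        Finset.sum_const, Finset.card_erase_of_mem hxi, hcard, nsmul_eq_mul]
      have : 1 ≤ m := hcard ▸ Finset.card_pos.mpr ⟨_, hxi⟩
      push_cast [Nat.cast_sub this]
      ring
    rw [Finset.sum_congr rfl hrow, Finset.sum_const, ← hm, nsmul_eq_mul]
    ring
  have hdvd : (Nat.card (P : Subgroup G) : ℤ) ∣ (m : ℤ) * (d - n) := by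
    refine H83.int_dvd_of_isIntegral (hw₁.sub hw₂) (by exact_mod_cast Nat.card_pos.ne') ?_
    rw [h₁, h₂, e₁, e₂] at hSS
    push_cast
    linear_combination hSS
  -- m is prime to p
  have hmco : ¬ p ∣ m := by
    let φL : L →* Equiv.Perm G :=
      { toFun := fun g => (MulAut.conj (g : G)).toEquiv
        map_one' := by ext q; simp
        map_mul' := fun u v => by ext q; simp }
    have hsmL : ∀ (g : L) (x : G), φL g x = (g : G) * x * (g : G)⁻¹ := fun _ _ => rfl
    have hdvdm : m ∣ ((P : Subgroup G).subgroupOf L).index := by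
      rw [hm]
      refine card_orbit_dvd φL z _ (fun x => ?_) _ fun u hu => ?_
      · rw [hmemZc]
        constructor
        · rintro ⟨hc, hxZ⟩
          obtain ⟨g, hg, rfl⟩ := hcl hz hz1 hc (hZP hxZ)
          exact ⟨⟨g, hg⟩, rfl⟩
        · rintro ⟨g, rfl⟩
          rw [hsmL]
          exact ⟨isConj_iff.mpr ⟨g, rfl⟩, hZn _ g.2 z hz⟩
      · rw [hsmL, ← hZc z hz u hu, mul_inv_cancel_right]
    intro hp
    exact P.not_dvd_index ((hp.trans hdvdm).trans (Subgroup.relIndex_dvd_index_of_le Subgroup.le_normalizer))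
  obtain ⟨j, hj⟩ := (IsPGroup.iff_card (p := p)).mp P.2
  refine Int.dvd_of_dvd_mul_right_of_gcd_one hdvd ?_
  rw [hj]
  exact_mod_cast Nat.Coprime.pow_left j ((Fact.out (p := p.Prime)).coprime_iff_not_dvd.mpr hmco)

end Cfsg.Agent.S1523
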