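import Cfsg.Statements.S5969
import Cfsg.Agent.H99.FieldExt
import Cfsg.Agent.H99.Diag
import Cfsg.Agent.H99.SLTwo
-- import your own Cfsg.Agent.* helpers here

set_option autoImplicit false
open scoped MatrixGroups
open Cfsg

namespace Cfsg.Agent.S5969

open Cfsg.Agent.H99 Cfsg.Geo Polynomial
open scoped Matrix

variable {F : Type*} [Field F]

theorem two_ne_zero' [Fintype F] {q : ℕ} (hq : Fintype.card F = q) (hodd : Odd q) : (2 : F) ≠ 0 := by
  refine Ring.two_ne_zero fun h => ?_
  have := FiniteField.even_card_iff_char_two.1 h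
  rw [hq, ← Nat.even_iff] at this
  exact Nat.not_even_iff_odd.2 hodd this

theorem conj_mem {n : ℕ} {K : Subalgebra F (Matrix (Fin n) (Fin n) F)} (x P : Matrix.SpecialLinearGroup (Fin n) F)
    (y : Matrix (Fin n) (Fin n) F) (h : (x : Matrix (Fin n) (Fin n) F) * (P : Matrix (Fin n) (Fin n) F) = (P : Matrix (Fin n) (Fin n) F) * y)
    (hy : ∀ k ∈ K, ∃ k' ∈ K, y * k = k' * y) :
    P⁻¹ * x * P ∈ ((subalgebraNormalizer K).comap (Matrix.SpecialLinearGroup.toGL : Matrix.SpecialLinearGroup (Fin n) F →* GL (Fin n) F)) := by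
  have he : ((P⁻¹ * x * P : Matrix.SpecialLinearGroup (Fin n) F) : Matrix (Fin n) (Fin n) F) = y := by
    rw [Matrix.SpecialLinearGroup.coe_mul, Matrix.SpecialLinearGroup.coe_mul, mul_assoc, h, ← mul_assoc,
      ← Matrix.SpecialLinearGroup.coe_mul, inv_mul_cancel, Matrix.SpecialLinearGroup.coe_one, one_mul]
  refine mem_normalizer_of_conj fun k hk => ?_
  show ∃ k' ∈ K, ((P⁻¹ * x * P : Matrix.SpecialLinearGroup (Fin n) F) : Matrix (Fin n) (Fin n) F) * k = _
  rw [show (Matrix.SpecialLinearGroup.toGL (P⁻¹ * x * P) : Matrix (Fin n) (Fin n) F) = y from he]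
  rw [he]
  exact hy k hk

theorem finrank_ker_conj {n : ℕ} (x P : Matrix.SpecialLinearGroup (Fin n) F) (c : F) :
    Module.finrank F (LinearMap.ker (Matrix.toLin' ((P⁻¹ * x * P : Matrix.SpecialLinearGroup (Fin n) F) : Matrix (Fin n) (Fin n) F) - c • LinearMap.id)) =
      Module.finrank F (LinearMap.ker (Matrix.toLin' (x : Matrix (Fin n) (Fin n) F) - c • LinearMap.id)) := by
  let Q : (Fin n → F) ≃ₗ[F] (Fin n → F) := Matrix.SpecialLinearGroup.toLin' P
  have hQ : ∀ v, Q v = (P : Matrix (Fin n) (Fin n) F) *ᵥ v := fun v => rfl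
  have hmap : (LinearMap.ker (Matrix.toLin' ((P⁻¹ * x * P : Matrix.SpecialLinearGroup (Fin n) F) : Matrix (Fin n) (Fin n) F) - c • LinearMap.id)).map (Q : (Fin n → F) →ₗ[F] (Fin n → F)) =
      LinearMap.ker (Matrix.toLin' (x : Matrix (Fin n) (Fin n) F) - c • LinearMap.id) := by
    rw [Submodule.map_equiv_eq_comap_symm]
    ext v
    obtain ⟨w, rfl⟩ := Q.surjective v
    simp only [Submodule.mem_comap, LinearEquiv.coe_coe, LinearEquiv.symm_apply_apply, LinearMap.mem_ker, LinearMap.sub_apply,
      LinearMap.smul_apply, LinearMap.id_apply, sub_eq_zero, Matrix.toLin'_apply]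
    rw [hQ, Matrix.mulVec_mulVec]
    constructor
    · intro h
      have := congrArg (fun u => (P : Matrix (Fin n) (Fin n) F) *ᵥ u) h
      simp only [Matrix.mulVec_mulVec, Matrix.mulVec_smul, ← Matrix.SpecialLinearGroup.coe_mul, mul_assoc,
        mul_inv_cancel_left] at this
      simpa using this
    · intro h
      have := congrArg (fun u => ((P⁻¹ : Matrix.SpecialLinearGroup (Fin n) F) : Matrix (Fin n) (Fin n) F) *ᵥ u) h
      simp only [Matrix.mulVec_mulVec, Matrix.mulVec_smul, ← Matrix.SpecialLinearGroup.coe_mul, mul_assoc,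
        inv_mul_cancel_left, inv_mul_cancel] at this
      simpa [mul_assoc] using this
  rw [← hmap, LinearEquiv.finrank_map_eq]

theorem finrank_ker_proj {n : ℕ} (j : Fin n) :
    Module.finrank F (LinearMap.ker (LinearMap.proj j : (Fin n → F) →ₗ[F] F)) = n - 1 := by
  have h := LinearMap.finrank_range_add_finrank_ker (LinearMap.proj j : (Fin n → F) →ₗ[F] F)
  rw [LinearMap.range_eq_top.2 (LinearMap.proj_surjective j), finrank_top, Module.finrank_self, Module.finrank_pi,
    Fintype.card_fin] at h
  omega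

/-- An element with an eigenspace of codimension one is not conjugate into the normalizer. -/
theorem not_conj_mem {n : ℕ} (hn : 2 < n) (hne : 2 ∣ n) {K : Subalgebra F (Matrix (Fin n) (Fin n) F)}
    (hK : IsFieldSubalgebra 2 K) (x : Matrix.SpecialLinearGroup (Fin n) F) (c : F) (j : Fin n)
    (hker : LinearMap.ker (Matrix.toLin' (x : Matrix (Fin n) (Fin n) F) - c • LinearMap.id) = LinearMap.ker (LinearMap.proj j : (Fin n → F) →ₗ[F] F))
    (P : Matrix.SpecialLinearGroup (Fin n) F) :
    P⁻¹ * x * P ∉ ((subalgebraNormalizer K).comap (Matrix.SpecialLinearGroup.toGL : Matrix.SpecialLinearGroup (Fin n) F →* GL (Fin n) F)) := by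
  intro h
  haveI : Nonempty (Fin n) := ⟨j⟩
  have h1 := finrank_eigenspace_of_mem_normalizer Nat.prime_two hK h c
  have h2 : Module.finrank F (LinearMap.ker (Matrix.toLin' ((P⁻¹ * x * P : Matrix.SpecialLinearGroup (Fin n) F) : Matrix (Fin n) (Fin n) F) - c • LinearMap.id)) = n - 1 := by
    rw [finrank_ker_conj, hker, finrank_ker_proj]
  replace h2 : Module.finrank F (LinearMap.ker (Matrix.toLin' ((Matrix.SpecialLinearGroup.toGL (P⁻¹ * x * P) : GL (Fin n) F) : Matrix (Fin n) (Fin n) F) - c • LinearMap.id)) = n - 1 := h2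
  rw [h2, Fintype.card_fin] at h1
  omega

/-- Two matrices of size two with square -1 and not scalar are conjugate by a matrix of determinant one. -/
theorem exists_conj_two [Fintype F] (x y : Matrix (Fin 2) (Fin 2) F) (hx : x * x = -1) (hy : y * y = -1)
    (hxs : ∀ z : F, x ≠ z • (1 : Matrix (Fin 2) (Fin 2) F)) (hys : ∀ z : F, y ≠ z • (1 : Matrix (Fin 2) (Fin 2) F)) :
    ∃ P : Matrix.SpecialLinearGroup (Fin 2) F, x * (P : Matrix (Fin 2) (Fin 2) F) = (P : Matrix (Fin 2) (Fin 2) F) * y := by
  let C : Matrix (Fin 2) (Fin 2) F := !![0, -1; 1, 0]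
  have key : ∀ a : Matrix (Fin 2) (Fin 2) F, a * a = -1 → (∀ z : F, a ≠ z • (1 : Matrix (Fin 2) (Fin 2) F)) →
      ∃ B : Matrix (Fin 2) (Fin 2) F, B.det ≠ 0 ∧ a * B = B * C := by
    intro a ha has
    obtain ⟨v, hv⟩ : ∃ v : Fin 2 → F, v 0 * (a *ᵥ v) 1 - v 1 * (a *ᵥ v) 0 ≠ 0 := by
      by_contra hno
      push Not at hno
      have h1 := hno ![1, 0]
      have h2 := hno ![0, 1]
      have h3 := hno ![1, 1]
      simp [Matrix.mulVec, dotProduct, Fin.sum_univ_two] at h1 h2 h3
      apply has (a 0 0)
      ext i k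
      fin_cases i <;> fin_cases k <;> simp [h1, h2]
      linear_combination h3 - h1 + h2
    refine ⟨Matrix.of ![![v 0, (a *ᵥ v) 0], ![v 1, (a *ᵥ v) 1]], ?_, ?_⟩
    · rw [Matrix.det_fin_two]
      simpa [mul_comm] using hv
    · have h0 : a *ᵥ (a *ᵥ v) = -v := by rw [Matrix.mulVec_mulVec, ha, Matrix.neg_mulVec, Matrix.one_mulVec]
      ext i k
      have h4 := congrFun h0 i
      fin_cases i <;> fin_cases k <;>
        simp [C, Matrix.mul_apply, Fin.sum_univ_two, Matrix.mulVec, dotProduct] at h4 ⊢ <;> linear_combination h4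
  obtain ⟨Bx, hBx, hxB⟩ := key x hx hxs
  obtain ⟨By, hBy, hyB⟩ := key y hy hys
  obtain ⟨a, b, hab⟩ : ∃ a b : F, a ^ 2 + b ^ 2 = By.det / Bx.det := by
    by_cases h2 : ringChar F = 2
    · obtain ⟨r, hr⟩ := FiniteField.isSquare_of_char_two h2 (By.det / Bx.det)
      exact ⟨r, 0, by rw [hr]; ring⟩
    · obtain ⟨a, b, h⟩ := FiniteField.exists_root_sum_quadratic (degree_X_pow (R := F) 2)
        (degree_X_pow_sub_C (by norm_num : 0 < 2) (By.det / Bx.det)) (FiniteField.odd_card_of_char_ne_two h2)
      simp only [eval_pow, eval_X, eval_sub, eval_C] at h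
      exact ⟨a, b, by linear_combination h⟩
  let M : Matrix (Fin 2) (Fin 2) F := a • 1 + b • C
  have hM : M.det = By.det / Bx.det := by
    rw [← hab, Matrix.det_fin_two]; simp [M, C]; ring
  have hMC : C * M = M * C := by simp [M, mul_add, add_mul]
  refine ⟨⟨Bx * M * By⁻¹, by
    rw [Matrix.det_mul, Matrix.det_mul, hM, Matrix.det_nonsing_inv, Ring.inverse_eq_inv]
    field_simp⟩, ?_⟩
  show x * (Bx * M * By⁻¹) = (Bx * M * By⁻¹) * y
  have hy' : By⁻¹ * y = C * By⁻¹ := by
    have hu : IsUnit By.det := hBy.isUnit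
    calc By⁻¹ * y = By⁻¹ * (y * By) * By⁻¹ := by rw [mul_assoc By⁻¹, mul_assoc y, Matrix.mul_nonsing_inv _ hu, mul_one]
      _ = C * By⁻¹ := by rw [hyB, ← mul_assoc By⁻¹, Matrix.nonsing_inv_mul _ hu, one_mul]
  calc x * (Bx * M * By⁻¹) = (x * Bx) * M * By⁻¹ := by simp [mul_assoc]
    _ = Bx * (C * M) * By⁻¹ := by rw [hxB]; simp [mul_assoc]
    _ = (Bx * M * By⁻¹) * y := by rw [hMC]; simp [mul_assoc, hy']

/-- A diagonalisable element with two eigenvalues of even multiplicity is conjugate into the commutant of the field. -/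
theorem exists_conj_commutant [Fintype F] [DecidableEq F] {n : ℕ} [NeZero n] {K : Subalgebra F (Matrix (Fin n) (Fin n) F)}
    (hK : IsFieldSubalgebra 2 K) (x : Matrix (Fin n) (Fin n) F) (μ : F) (hμ : μ ≠ -μ) (e : Fin n → F)
    (he : ∀ i, e i = μ ∨ e i = -μ) (heven : 2 ∣ Fintype.card {i // e i = -μ})
    (Q : GL (Fin n) F) (hQ : (Q : Matrix (Fin n) (Fin n) F).det = 1)
    (hQx : x * (Q : Matrix (Fin n) (Fin n) F) = (Q : Matrix (Fin n) (Fin n) F) * Matrix.diagonal e) :
    ∃ (P : Matrix.SpecialLinearGroup (Fin n) F) (y : Matrix (Fin n) (Fin n) F),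
      x * (P : Matrix (Fin n) (Fin n) F) = (P : Matrix (Fin n) (Fin n) F) * y ∧ ∀ k ∈ K, y * k = k * y := by
  classical
  letI := (isField_subalgebra hK).toField
  haveI : FiniteDimensional F K := FiniteDimensional.of_finrank_pos (by rw [hK.finrank_eq]; omega)
  obtain ⟨m, hm, E, hE⟩ := exists_field_coord K.val
  rw [hK.finrank_eq, Fintype.card_fin] at hm
  obtain ⟨b', hb'⟩ := heven
  have hbn : Fintype.card {i // e i = -μ} ≤ n := le_of_le_of_eq (Fintype.card_subtype_le _) (Fintype.card_fin n)
  let f : Fin m → F := fun i => if (i : ℕ) < b' then -μ else μ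
  let bK := Module.finBasisOfFinrankEq F K hK.finrank_eq
  let B : Module.Basis (Fin 2 × Fin m) F (Fin n → F) := (bK.smulTower (Pi.basisFun K (Fin m))).map E
  let D : (Fin m → K) →ₗ[F] (Fin m → K) :=
    { toFun := fun w i => f i • w i
      map_add' := fun u w => by ext i; simp
      map_smul' := fun c w => by funext i; simp [smul_comm c] }
  let y : Matrix (Fin n) (Fin n) F := LinearMap.toMatrix' (E.toLinearMap ∘ₗ D ∘ₗ E.symm.toLinearMap)
  have hy : ∀ v, y *ᵥ v = E (D (E.symm v)) := fun v => by
    rw [← Matrix.toLin'_apply, Matrix.toLin'_toMatrix']; rfl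
  have hycomm : ∀ k ∈ K, y * k = k * y := by
    intro k hk
    apply Matrix.ext_of_mulVec_single
    intro j
    set v : Fin n → F := Pi.single j 1
    rw [← Matrix.mulVec_mulVec, ← Matrix.mulVec_mulVec, hy, hy]
    have h1 : E.symm (k *ᵥ v) = (⟨k, hk⟩ : K) • E.symm v := by
      apply E.injective
      rw [hE]; simp
    rw [h1]
    show _ = (K.val ⟨k, hk⟩) *ᵥ _
    rw [← hE]
    congr 1
    funext i
    simp [D]
  have hBy : ∀ a : Fin 2 × Fin m, y *ᵥ (B a) = f a.2 • B a := by
    intro a
    have h1 : B a = E (bK a.1 • Pi.single a.2 (1 : K)) := by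
      simp [B, Module.Basis.smulTower_apply, Module.Basis.map_apply]
    rw [hy, h1, LinearEquiv.symm_apply_apply, ← map_smul]
    congr 1
    funext i
    by_cases hi : i = a.2
    · subst hi; simp [D]
    · simp [D, hi]
  have hcard : ∀ c : F, Fintype.card {a : Fin 2 × Fin m // f a.2 = c} = Fintype.card {i // e i = c} := by
    have hA : Fintype.card {a : Fin 2 × Fin m // f a.2 = -μ} = 2 * b' := by
      rw [Fintype.card_congr (show {a : Fin 2 × Fin m // f a.2 = -μ} ≃ Fin 2 × {i : Fin m // (i : ℕ) < b'} from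
        { toFun := fun a => (a.1.1, ⟨a.1.2, by
            by_contra hlt
            have := a.2
            simp only [f, if_neg hlt] at this
            exact hμ this⟩)
          invFun := fun a => ⟨(a.1, a.2.1), by simp [f, a.2.2]⟩
          left_inv := fun a => rfl
          right_inv := fun a => rfl }), Fintype.card_prod, Fintype.card_fin, Fintype.card_fin_lt_of_le (by omega)]
    intro c
    by_cases hc : c = -μ
    · subst hc; rw [hA, hb']
    by_cases hc' : c = μ
    · rw [hc']
      have h1 := Fintype.card_subtype_compl (fun a : Fin 2 × Fin m => f a.2 = -μ)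
      have h2 := Fintype.card_subtype_compl (fun i => e i = -μ)
      rw [Fintype.card_prod, Fintype.card_fin, Fintype.card_fin, hA] at h1
      rw [Fintype.card_fin, hb'] at h2
      rw [Fintype.card_congr (Equiv.subtypeEquivRight (q := fun i => ¬ e i = -μ) fun i => by
        rcases he i with h | h <;> simp [h, hμ, Ne.symm hμ]), h2]
      rw [Fintype.card_congr (Equiv.subtypeEquivRight (q := fun a : Fin 2 × Fin m => ¬ f a.2 = -μ) fun a => by
        simp only [f]; split <;> simp [hμ, Ne.symm hμ]), h1, hm]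
    · rw [Fintype.card_eq_zero_iff.2, Fintype.card_eq_zero_iff.2]
      · exact ⟨fun i => by
          rcases he i.1 with h | h
          · exact hc' (i.2.symm.trans h)
          · exact hc (i.2.symm.trans h)⟩
      · exact ⟨fun a => by
          have := a.2
          simp only [f] at this
          split at this
          · exact hc this.symm
          · exact hc' this.symm⟩
  let ε : (Fin 2 × Fin m) ≃ Fin n := Equiv.ofFiberEquiv (fun c => Fintype.equivOfCardEq (hcard c))
  have hε : ∀ a, e (ε a) = f a.2 := Equiv.ofFiberEquiv_map _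
  obtain ⟨P, hP, hyP⟩ := exists_det_one_diagonal_of_basis y e (B.reindex ε) (fun i => by
    obtain ⟨a, rfl⟩ := ε.surjective i
    rw [Module.Basis.reindex_apply, Equiv.symm_apply_apply, hBy, hε])
  refine ⟨⟨(Q : Matrix (Fin n) (Fin n) F) * ((P⁻¹ : GL (Fin n) F) : Matrix (Fin n) (Fin n) F), by
    rw [Matrix.det_mul, hQ, Matrix.coe_units_inv, Matrix.det_nonsing_inv, hP]; simp⟩, y, ?_, hycomm⟩
  show x * ((Q : Matrix (Fin n) (Fin n) F) * ((P⁻¹ : GL (Fin n) F) : Matrix (Fin n) (Fin n) F)) = _ * y
  have hy' : ((P⁻¹ : GL (Fin n) F) : Matrix (Fin n) (Fin n) F) * y = Matrix.diagonal e * ((P⁻¹ : GL (Fin n) F) : Matrix (Fin n) (Fin n) F) := by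
    have h := congrArg (fun M => ((P⁻¹ : GL (Fin n) F) : Matrix (Fin n) (Fin n) F) * M * ((P⁻¹ : GL (Fin n) F) : Matrix (Fin n) (Fin n) F)) hyP
    simp only [mul_assoc, Units.mul_inv, mul_one, Units.inv_mul_cancel_left] at h
    exact h
  rw [← mul_assoc, hQx, mul_assoc, mul_assoc, hy']

/-- Involutions of PSL_n(q) and extension-field subgroups of degree 2. Here `T = PSL_n(F)` for a field `F` with `q = p^f` elements (`n ≥ 2`, `(n, q) ≠ (2, 2), (2, 3)`), `k` is a prime dividing `n`, `K` is a subalgebra of the `n × n` matrices that is a field of degree `k` over `F` (an extension-field structure F_{q^k} on `F^n`), and `H` is the subgroup of matrices of determinant 1 normalizing `K` — a subgroup of type GL_{n/k}(q^k) (maximal except in some small cases; maximality is not assumed); Ω is the set of cosets of `H` in `T`, so an element of `T` of prime order `r` (a matrix `x` of determinant 1 with `x^r` scalar, `x` not scalar) fixes a point of Ω when some conjugate of `x` by a matrix of determinant 1 normalizes `K`.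 Take `k = 2` and suppose the index of `H` is even. Then every involution of `T` is conjugate in `T` into `H` if and only if `n = 2`, or `q` is odd and `(q − 1)_2 ≤ (n)_2`. -/
theorem result {F : Type*} [Field F] [Fintype F] {p : ℕ} [Fact p.Prime] [CharP F p] {q : ℕ} (hq : Fintype.card F = q)
    (n : ℕ) (hn : 2 ≤ n) (hT : (n, q) ≠ (2, 2) ∧ (n, q) ≠ (2, 3))
    (k : ℕ) (hk : k.Prime) (hkn : k ∣ n) (K : Subalgebra F (Matrix (Fin n) (Fin n) F)) (hK : Cfsg.Geo.IsFieldSubalgebra k K) (hk2 : k = 2) (hΩ : 2 ∣ ((Cfsg.Geo.subalgebraNormalizer K).comap (Matrix.SpecialLinearGroup.toGL : Matrix.SpecialLinearGroup (Fin n) F →* GL (Fin n) F)).index) :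
    (∀ x : Matrix.SpecialLinearGroup (Fin n) F,
      (∃ z : F, ((x ^ 2 : Matrix.SpecialLinearGroup (Fin n) F) : Matrix (Fin n) (Fin n) F) = z • (1 : Matrix (Fin n) (Fin n) F)) →
      (∀ z : F, (x : Matrix (Fin n) (Fin n) F) ≠ z • (1 : Matrix (Fin n) (Fin n) F)) →
      ∃ P : Matrix.SpecialLinearGroup (Fin n) F, P⁻¹ * x * P ∈ ((Cfsg.Geo.subalgebraNormalizer K).comap (Matrix.SpecialLinearGroup.toGL : Matrix.SpecialLinearGroup (Fin n) F →* GL (Fin n) F))) ↔
    (n = 2 ∨ (Odd q ∧ padicValNat 2 (q - 1) ≤ padicValNat 2 n)) := by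
  classical
  subst hk2
  have hp1 := Fact.out (p := p.Prime)
  haveI : NeZero n := ⟨by omega⟩
  have hq1 : 1 < q := hq ▸ Fintype.one_lt_card
  constructor
  · intro h
    by_contra hcon
    push Not at hcon
    obtain ⟨hn2, hpar⟩ := hcon
    have hn2' : 2 < n := by omega
    by_cases hodd : Odd q
    · have hval := hpar hodd
      have hchar : (2 : F) ≠ 0 := two_ne_zero' hq hodd
      set v := padicValNat 2 n with hv
      have hdvd : 2 ^ (v + 1) ∣ q - 1 := (pow_dvd_pow 2 hval).trans pow_padicValNat_dvd
      obtain ⟨ν, hν⟩ : ∃ ν : Fˣ, orderOf ν = 2 ^ (v + 1) := by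
        obtain ⟨g, hg⟩ := IsCyclic.exists_generator (α := Fˣ)
        have hgo : orderOf g = q - 1 := by
          rw [orderOf_eq_card_of_forall_mem_zpowers hg, Nat.card_eq_fintype_card, Fintype.card_units, hq]
        exact ⟨g ^ ((q - 1) / 2 ^ (v + 1)), orderOf_pow_orderOf_div (by omega : orderOf g ≠ 0) (hgo ▸ hdvd) |> fun h => by rwa [hgo] at h⟩
      have hνsq : (ν : F) ^ (2 ^ v) = -1 := by
        have h1 : ((ν : F) ^ (2 ^ v)) ^ 2 = 1 := by
          rw [← pow_mul, ← pow_succ, ← hν, ← Units.val_pow_eq_pow_val, pow_orderOf_eq_one, Units.val_one]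
        refine (sq_eq_one_iff.1 h1).resolve_left fun h2 => ?_
        have h3 := orderOf_dvd_of_pow_eq_one (x := ν) (Units.ext (by simpa using h2))
        rw [hν] at h3
        have := (Nat.pow_dvd_pow_iff_le_right (by norm_num : 1 < 2)).1 h3
        omega
      obtain ⟨m, hm⟩ : 2 ^ v ∣ n := pow_padicValNat_dvd
      have hmodd : Odd m := by
        rw [Nat.odd_iff, ← Nat.two_dvd_ne_zero]
        intro h2
        have h3 : 2 ^ (v + 1) ∣ n := by rw [pow_succ, hm]; exact Nat.mul_dvd_mul_left _ h2
        rw [padicValNat_dvd_iff_le (by omega)] at h3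
        omega
      set μ : F := (ν : F) with hμ
      have hμn : μ ^ n = -1 := by rw [hm, pow_mul, hνsq, hmodd.neg_one_pow]
      let j : Fin n := ⟨0, by omega⟩
      let e : Fin n → F := Function.update (fun _ => μ) j (-μ)
      have hμ0 : μ ≠ 0 := ν.ne_zero
      have hμμ : -μ ≠ μ := by
        intro h1
        have : (2 : F) * μ = 0 := by rw [two_mul]; nth_rewrite 1 [← h1]; simp
        simp [hchar, hμ0] at this
      have hdet : (Matrix.diagonal e).det = 1 := by
        rw [Matrix.det_diagonal, Finset.prod_update_of_mem (Finset.mem_univ _), Finset.prod_const,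
          Finset.card_sdiff, Finset.card_univ, Fintype.card_fin]
        simp
        rw [show -(μ * μ ^ (n - 1)) = -(μ ^ (n - 1 + 1)) by rw [pow_succ'], Nat.sub_add_cancel (by omega), hμn, neg_neg]
      let x : Matrix.SpecialLinearGroup (Fin n) F := ⟨Matrix.diagonal e, hdet⟩
      obtain ⟨P, hP⟩ := h x ⟨μ ^ 2, by
          rw [Matrix.SpecialLinearGroup.coe_pow]
          show (Matrix.diagonal e) ^ 2 = _
          rw [Matrix.diagonal_pow, Matrix.smul_one_eq_diagonal]
          congr 1; funext i
          by_cases hi : i = j <;> simp [e, hi]⟩ (fun z hz => by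
          have h1 := congrFun (congrFun hz j) j
          have h2 := congrFun (congrFun hz ⟨1, by omega⟩) ⟨1, by omega⟩
          simp [x, e, j] at h1 h2
          exact hμμ (h1.trans h2.symm))
      refine not_conj_mem hn2' hkn hK x μ j ?_ P hP
      ext w
      simp only [LinearMap.mem_ker, LinearMap.sub_apply, LinearMap.smul_apply, LinearMap.id_apply, LinearMap.proj_apply,
        Matrix.toLin'_apply, sub_eq_zero]
      constructor
      · intro h1
        have h2 := congrFun h1 j
        simp [x, e, Matrix.mulVec_diagonal] at h2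
        by_contra hw
        apply hμμ
        apply mul_right_cancel₀ hw
        rw [neg_mul]; exact h2
      · intro h1
        funext i
        by_cases hi : i = j
        · subst hi; simp [x, e, Matrix.mulVec_diagonal, h1]
        · simp [x, e, Matrix.mulVec_diagonal, hi]
    · have h2 : (2 : F) = 0 := by
        rw [Nat.not_odd_iff_even, Nat.even_iff, ← hq] at hodd
        haveI : CharP F 2 := ringChar.of_eq (FiniteField.even_card_iff_char_two.2 hodd)
        exact CharP.cast_eq_zero F 2
      let i : Fin n := ⟨0, by omega⟩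
      let j : Fin n := ⟨1, by omega⟩
      have hij : i ≠ j := by simp [i, j]
      let x : Matrix.SpecialLinearGroup (Fin n) F := ⟨Matrix.transvection i j (1 : F), Matrix.det_transvection_of_ne _ _ hij _⟩
      obtain ⟨P, hP⟩ := h x ⟨1, by
          rw [Matrix.SpecialLinearGroup.coe_pow, sq]
          show Matrix.transvection i j (1 : F) * Matrix.transvection i j 1 = _
          rw [Matrix.transvection_mul_transvection_same _ _ hij, one_add_one_eq_two, h2, Matrix.transvection_zero, one_smul]⟩ (fun z hz => by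
          have h1 := congrFun (congrFun hz i) j
          simp [x, Matrix.transvection, hij] at h1)
      refine not_conj_mem hn2' hkn hK x 1 j ?_ P hP
      ext w
      simp only [LinearMap.mem_ker, LinearMap.sub_apply, LinearMap.smul_apply, LinearMap.id_apply, LinearMap.proj_apply,
        Matrix.toLin'_apply, one_smul]
      simp [x, Matrix.transvection, Matrix.add_mulVec, Matrix.single_mulVec]
  · intro h x hx hxs
    obtain ⟨z, hz⟩ := hx
    rw [Matrix.SpecialLinearGroup.coe_pow, sq] at hz
    have hxx := hz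
    by_cases hn2 : n = 2
    · subst hn2
      have hch := cayleyHamilton_two (x : Matrix (Fin 2) (Fin 2) F)
      rw [x.det_coe, one_smul, hz] at hch
      have htr : (x : Matrix (Fin 2) (Fin 2) F).trace = 0 := by
        by_contra ht
        apply hxs ((x : Matrix (Fin 2) (Fin 2) F).trace⁻¹ * (z + 1))
        rw [mul_smul, add_smul, one_smul, hch, sub_add_cancel, inv_smul_smul₀ ht]
      have hx1 : (x : Matrix (Fin 2) (Fin 2) F) * (x : Matrix (Fin 2) (Fin 2) F) = -1 := by
        rw [hz, hch, htr, zero_smul, zero_sub]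
      letI := (isField_subalgebra hK).toField
      haveI : FiniteDimensional F K := FiniteDimensional.of_finrank_pos (by rw [hK.finrank_eq]; omega)
      haveI : Finite K := Finite.of_injective _ Subtype.val_injective
      let α := FiniteField.frobeniusAlgEquivOfAlgebraic F K
      have hord : orderOf α = 2 := by
        rw [FiniteField.orderOf_frobeniusAlgEquivOfAlgebraic, hK.finrank_eq]
      obtain ⟨g, hg, hgpow, -⟩ := exists_semilinear K.val α
      have hg2 : g ^ 2 = 1 := hgpow 2 (by have h2 := pow_orderOf_eq_one α; rwa [hord] at h2)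
      obtain ⟨c, hc⟩ := FiniteField.norm_surjective F K (-1)
      have hcK : c * α c = -1 := by
        have h1 := congrArg (algebraMap F K) hc
        rw [FiniteField.algebraMap_norm_eq_pow, map_neg, map_one] at h1
        rw [← h1]
        have hK2 : Nat.card K = q ^ 2 := by
          rw [Module.natCard_eq_pow_finrank (K := F), hK.finrank_eq, Nat.card_eq_fintype_card, hq]
        have hdiv : (Nat.card K - 1) / (Nat.card F - 1) = q + 1 := by
          rw [hK2, Nat.card_eq_fintype_card, hq, show q ^ 2 - 1 = (q + 1) * (q - 1) from by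
            rw [← Nat.sq_sub_sq, one_pow], Nat.mul_div_cancel _ (by omega)]
        rw [hdiv, pow_succ']
        congr 1
        show (FiniteField.frobeniusAlgEquivOfAlgebraic F K) c = _
        rw [FiniteField.coe_frobeniusAlgEquivOfAlgebraic, ← hq]
      set y : Matrix (Fin 2) (Fin 2) F := K.val c * (g : Matrix (Fin 2) (Fin 2) F) with hy
      have hy1 : y * y = -1 := by
        rw [hy, mul_assoc (K.val c), ← mul_assoc (g : Matrix (Fin 2) (Fin 2) F), hg, mul_assoc, ← Units.val_mul, ← sq, hg2,
          Units.val_one, mul_one, ← map_mul, hcK, map_neg, map_one]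
      have hyK : ∀ k : K, y * K.val k = K.val (α k) * y := by
        intro k
        rw [hy, mul_assoc, hg, ← mul_assoc, ← map_mul, mul_comm c, map_mul, mul_assoc]
      have hys : ∀ w : F, y ≠ w • (1 : Matrix (Fin 2) (Fin 2) F) := by
        intro w hw
        have hall : ∀ k : K, α k = k := by
          intro k
          have h1 := hyK k
          rw [hw, Matrix.smul_mul, Matrix.mul_smul, one_mul, mul_one] at h1
          have hw0 : w ≠ 0 := by
            intro h0
            rw [hw, h0, zero_smul, zero_mul] at hy1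
            simpa using congrFun (congrFun hy1 0) 0
          exact (Subtype.val_injective (smul_right_injective _ hw0 h1)).symm
        have : α = 1 := AlgEquiv.ext hall
        rw [this, orderOf_one] at hord
        omega
      obtain ⟨P, hP⟩ := exists_conj_two (x : Matrix (Fin 2) (Fin 2) F) y hx1 hy1 hxs hys
      exact ⟨P, conj_mem x P y hP fun k hk => ⟨_, (α ⟨k, hk⟩).2, hyK ⟨k, hk⟩⟩⟩
    obtain ⟨hodd, hval⟩ := h.resolve_left hn2
    by_cases hsq : ∃ μ : F, μ ^ 2 = z
    · obtain ⟨μ, rfl⟩ := hsq
      have hchar := two_ne_zero' hq hodd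
      have hμ0 : μ ≠ 0 := by
        intro h0
        have h1 := congrArg Matrix.det hz
        rw [Matrix.det_mul, x.det_coe, h0] at h1
        simp [show n ≠ 0 by omega] at h1
      have hμμ : μ ≠ -μ := by
        intro h1
        have : (2 : F) * μ = 0 := by rw [two_mul]; nth_rewrite 2 [h1]; simp
        simp [hchar, hμ0] at this
      let xg : GL (Fin n) F := Matrix.SpecialLinearGroup.toGL x
      obtain ⟨e, he, heσ⟩ := exists_specialLinear_conj_diagonal xg {μ, -μ} (by
        rw [Finset.prod_insert (by simpa using hμμ), Finset.prod_singleton, map_mul]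
        simp only [map_sub, map_neg, sub_neg_eq_add, map_add, aeval_X, aeval_C, Algebra.algebraMap_eq_smul_one, map_neg, neg_smul, sub_neg_eq_add]
        show ((x : Matrix (Fin n) (Fin n) F) - μ • 1) * ((x : Matrix (Fin n) (Fin n) F) + μ • 1) = 0
        rw [sub_mul, mul_add, mul_add, hxx]
        simp [smul_smul, sq, add_comm])
      obtain ⟨Q, hQ, hQx⟩ := heσ 1
      have hQd : (Q : Matrix (Fin n) (Fin n) F).det = 1 := by
        rw [Cfsg.Geo.specialLinear, MonoidHom.mem_ker, ← Units.val_inj] at hQ
        simpa using hQ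
      have hQx' : (x : Matrix (Fin n) (Fin n) F) * (Q : Matrix (Fin n) (Fin n) F) = (Q : Matrix (Fin n) (Fin n) F) * Matrix.diagonal e := by
        have h1 : Matrix.diagonal (e ∘ (1 : Equiv.Perm (Fin n))) = Matrix.diagonal e := rfl
        rw [← h1, ← hQx, Units.val_mul, Units.val_mul]
        show _ = (Q : Matrix (Fin n) (Fin n) F) * (_ * (x : Matrix (Fin n) (Fin n) F) * _)
        rw [← mul_assoc, ← mul_assoc, Units.mul_inv, one_mul]
      have he' : ∀ i, e i = μ ∨ e i = -μ := fun i => by simpa using he i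
      have hdet : μ ^ n * (-1) ^ (Fintype.card {i // e i = -μ}) = 1 := by
        have h1 := congrArg Matrix.det hQx'
        rw [Matrix.det_mul, Matrix.det_mul, x.det_coe, hQd, one_mul, one_mul, Matrix.det_diagonal] at h1
        rw [Finset.prod_congr rfl (fun i _ => show e i = μ * (if e i = -μ then -1 else 1) by
          rcases he' i with h2 | h2 <;> simp [h2, hμμ]), Finset.prod_mul_distrib, Finset.prod_const, Finset.card_univ,
          Fintype.card_fin, Finset.prod_ite, Finset.prod_const, Finset.prod_const_one, mul_one, ← Fintype.card_subtype] at h1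
        exact h1.symm
      have hev : 2 ∣ Fintype.card {i // e i = -μ} := by
        by_contra hb
        rw [← even_iff_two_dvd, Nat.not_even_iff_odd] at hb
        rw [hb.neg_one_pow, mul_neg_one, neg_eq_iff_eq_neg] at hdet
        set v := padicValNat 2 n with hv
        obtain ⟨m, hm⟩ : 2 ^ v ∣ n := pow_padicValNat_dvd
        let ν : Fˣ := Units.mk0 μ hμ0 ^ m
        have hν : (ν : F) ^ (2 ^ v) = -1 := by
          simp [ν, ← pow_mul, mul_comm m, ← hm, hdet]
        haveI : Fact (Nat.Prime 2) := ⟨Nat.prime_two⟩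
        have hord : orderOf ν = 2 ^ (v + 1) := by
          refine orderOf_eq_prime_pow (fun h1 => ?_) ?_
          · have h3 := congrArg (fun u : Fˣ => (u : F)) h1
            simp only [Units.val_pow_eq_pow_val, Units.val_one, hν] at h3
            exact hchar (by rw [← one_add_one_eq_two]; nth_rewrite 1 [← h3]; simp)
          · apply Units.ext
            rw [Units.val_pow_eq_pow_val, pow_succ, pow_mul, hν, neg_one_sq, Units.val_one]
        have hd : 2 ^ (v + 1) ∣ q - 1 := by
          rw [← hord, ← hq, ← Fintype.card_units]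
          exact orderOf_dvd_card
        rw [padicValNat_dvd_iff_le (by omega)] at hd
        omega
      obtain ⟨P, y, hP, hy⟩ := exists_conj_commutant hK _ μ hμμ e he' hev Q hQd hQx'
      exact ⟨P, conj_mem x P y hP fun k hk => ⟨k, hk, hy k hk⟩⟩
    · push Not at hsq
      obtain ⟨y, hyK, hy⟩ := exists_root_mem hK (X_pow_sub_C_irreducible_of_prime Nat.prime_two hsq) (by simp)
      obtain ⟨P, hP⟩ := exists_specialLinear_conj_of_irreducible (X_pow_sub_C_irreducible_of_prime Nat.prime_two hsq)
        (x := (x : Matrix (Fin n) (Fin n) F)) (by simp [sq, hxx, Algebra.smul_def]) hy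
      exact ⟨P, conj_mem x P y hP fun k hk => ⟨k, hk, hK.comm y hyK k hk⟩⟩


end Cfsg.Agent.S5969
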