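import Cfsg.Statements.S0802
import Cfsg.Agent.H34.Klein

set_option autoImplicit false
open Cfsg

namespace Cfsg.Agent.S0802

open Matrix

theorem even_of_cubeRoot {F : Type*} [Field F] [Fintype F] {n : ℕ} (hF : Fintype.card F = 2 ^ n)
    {b : F} (h1 : b ≠ 1) (h3 : b ^ 3 = 1) : Even n := by
  have hb : b ≠ 0 := fun h => by rw [h, zero_pow (by norm_num)] at h3; exact zero_ne_one h3
  haveI : Fact (Nat.Prime 3) := ⟨Nat.prime_three⟩
  have hord : orderOf b = 3 := orderOf_eq_prime h3 h1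
  have hd : orderOf b ∣ Fintype.card F - 1 :=
    orderOf_dvd_of_pow_eq_one (FiniteField.pow_card_sub_one_eq_one b hb)
  rw [hord, hF] at hd
  rcases Nat.even_or_odd n with h | ⟨r, rfl⟩
  · exact h
  · exfalso
    rw [pow_succ, pow_mul] at hd
    have h4 : ((2 : ℕ) ^ 2) ^ r % 3 = 1 := by rw [Nat.pow_mod]; norm_num
    omega

theorem even_of_alt {F : Type*} [Field F] [Fintype F] [CharP F 2] {n : ℕ} (hF : Fintype.card F = 2 ^ n)
    {H : Subgroup (Matrix.ProjectiveSpecialLinearGroup (Fin 2) F)} (e : H ≃* alternatingGroup (Fin 4)) :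
    Even n := by
  have hc : Subgroup.center (Matrix.SpecialLinearGroup (Fin 2) F) = ⊥ := by
    rw [eq_bot_iff]
    intro a ha
    rcases Linear.mem_center_SL_two.mp ha with rfl | rfl
    · exact one_mem _
    · rw [Subgroup.mem_bot]
      refine Subtype.ext ?_
      ext i j
      fin_cases i <;> fin_cases j <;> simp [CharTwo.neg_eq]
  let em : Matrix.SpecialLinearGroup (Fin 2) F ≃* Matrix.ProjectiveSpecialLinearGroup (Fin 2) F :=
    MulEquiv.ofBijective (QuotientGroup.mk' _)
      ⟨by rw [← MonoidHom.ker_eq_bot_iff, QuotientGroup.ker_mk', hc], QuotientGroup.mk'_surjective _⟩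
  let ψ : alternatingGroup (Fin 4) →* Matrix.SpecialLinearGroup (Fin 2) F :=
    (em.symm.toMonoidHom.comp H.subtype).comp e.symm.toMonoidHom
  have hψ : Function.Injective ψ := em.symm.injective.comp (H.subtype_injective.comp e.symm.injective)
  let u0 : alternatingGroup (Fin 4) := ⟨Equiv.swap 0 1 * Equiv.swap 2 3, by simp [Equiv.Perm.mem_alternatingGroup]⟩
  let w0 : alternatingGroup (Fin 4) := ⟨Equiv.swap 0 1 * Equiv.swap 1 2, by simp [Equiv.Perm.mem_alternatingGroup]⟩
  have huu : u0 * u0 = 1 := by decide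
  have hu1 : u0 ≠ 1 := by decide
  have hcomm : u0 * (w0 * u0 * w0⁻¹) = (w0 * u0 * w0⁻¹) * u0 := by decide
  have hne : w0 * u0 * w0⁻¹ ≠ u0 := by decide
  have hw3 : w0 * w0 * w0 = 1 := by decide
  set u := ψ u0 with hu
  set w := ψ w0 with hw
  have huns : ¬ Linear.IsScalarTwo (u : Matrix (Fin 2) (Fin 2) F) := fun hs => by
    apply hu1
    apply hψ
    rw [map_one, ← hu]
    have := Linear.mem_center_SL_two.mpr (Linear.isScalarTwo_SL_iff.mp hs)
    rw [hc, Subgroup.mem_bot] at this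
    exact this
  have hvu : w * u * w⁻¹ ≠ u := fun h => hne (hψ (by rw [map_mul, map_mul, map_inv]; exact h))
  have hcent : w * u * w⁻¹ ∈ Subgroup.centralizer ({u} : Set (Matrix.SpecialLinearGroup (Fin 2) F)) := by
    rw [Subgroup.mem_centralizer_singleton_iff, hu, hw, ← map_inv, ← map_mul, ← map_mul, ← map_mul,
      ← map_mul, hcomm]
  obtain ⟨a, b, hab⟩ := (Linear.mem_centralizer_SL_two huns).mp hcent
  have h20 : (2 : F) = 0 := CharTwo.two_eq_zero
  have mu : (u : Matrix (Fin 2) (Fin 2) F) * (u : Matrix (Fin 2) (Fin 2) F) = 1 := by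
    rw [← Matrix.SpecialLinearGroup.coe_mul, hu, ← map_mul, huu, map_one, Matrix.SpecialLinearGroup.coe_one]
  have hmm : (a • (1 : Matrix (Fin 2) (Fin 2) F) + b • (u : Matrix (Fin 2) (Fin 2) F)) *
      (a • (1 : Matrix (Fin 2) (Fin 2) F) + b • (u : Matrix (Fin 2) (Fin 2) F)) = 1 := by
    rw [← hab, ← Matrix.SpecialLinearGroup.coe_mul, hu, hw, ← map_inv, ← map_mul, ← map_mul, ← map_mul,
      show w0 * u0 * w0⁻¹ * (w0 * u0 * w0⁻¹) = 1 by decide, map_one, Matrix.SpecialLinearGroup.coe_one]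
  have hsum : a ^ 2 + b ^ 2 = 1 := by
    have h := congrFun (congrFun hmm 0) 0
    simp only [Matrix.add_mul, Matrix.mul_add, Matrix.smul_mul, Matrix.mul_smul, one_mul, mul_one, mu,
      smul_smul, Matrix.add_apply, Matrix.smul_apply, smul_eq_mul, Matrix.one_apply_eq] at h
    linear_combination h - a * b * (u : Matrix (Fin 2) (Fin 2) F) 0 0 * h20
  have hab1 : a = 1 + b := by
    have h : (a - (1 + b)) ^ 2 = 0 := by linear_combination hsum - (a + a * b - b - 1) * h20
    exact sub_eq_zero.mp (pow_eq_zero_iff (n := 2) (by norm_num) |>.mp h)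
  subst hab1
  have hb1 : b ≠ 1 := by
    intro hb
    apply hvu
    refine Subtype.ext ?_
    rw [hab, hb, one_add_one_eq_two, h20, zero_smul, one_smul, zero_add]
  refine even_of_cubeRoot hF hb1 ?_
  have hstep : ((w * w * w) * u * (w * w * w)⁻¹ : Matrix.SpecialLinearGroup (Fin 2) F) = u := by
    rw [hw, ← map_mul, ← map_mul, hw3, map_one]; simp
  have hcw : ∀ c d : F, (w : Matrix (Fin 2) (Fin 2) F) * (c • 1 + d • (u : Matrix (Fin 2) (Fin 2) F)) *
      ((w⁻¹ : Matrix.SpecialLinearGroup (Fin 2) F) : Matrix (Fin 2) (Fin 2) F) =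
      (c + d * (1 + b)) • 1 + (d * b) • (u : Matrix (Fin 2) (Fin 2) F) := by
    intro c d
    have e2 : ((w * u * w⁻¹ : Matrix.SpecialLinearGroup (Fin 2) F) : Matrix (Fin 2) (Fin 2) F) =
        (w : Matrix (Fin 2) (Fin 2) F) * (u : Matrix (Fin 2) (Fin 2) F) *
          ((w⁻¹ : Matrix.SpecialLinearGroup (Fin 2) F) : Matrix (Fin 2) (Fin 2) F) := by
      simp only [Matrix.SpecialLinearGroup.coe_mul]
    rw [Matrix.mul_add, Matrix.mul_smul, Matrix.mul_smul, mul_one, Matrix.add_mul, Matrix.smul_mul,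
      Matrix.smul_mul, ← e2, hab, ← Matrix.SpecialLinearGroup.coe_mul, mul_inv_cancel,
      Matrix.SpecialLinearGroup.coe_one]
    module
  have e : (w : Matrix (Fin 2) (Fin 2) F) * ((w : Matrix (Fin 2) (Fin 2) F) *
      ((w * u * w⁻¹ : Matrix.SpecialLinearGroup (Fin 2) F) : Matrix (Fin 2) (Fin 2) F) *
      ((w⁻¹ : Matrix.SpecialLinearGroup (Fin 2) F) : Matrix (Fin 2) (Fin 2) F)) *
      ((w⁻¹ : Matrix.SpecialLinearGroup (Fin 2) F) : Matrix (Fin 2) (Fin 2) F) = (u : Matrix (Fin 2) (Fin 2) F) := by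
    simp only [← Matrix.SpecialLinearGroup.coe_mul]
    have : w * (w * (w * u * w⁻¹) * w⁻¹) * w⁻¹ = w * w * w * u * (w * w * w)⁻¹ := by group
    rw [this, hstep]
  rw [hab, hcw, hcw] at e
  by_contra hb3
  apply huns
  have hfinal : (1 - b * b * b) • (u : Matrix (Fin 2) (Fin 2) F) =
      (1 + b + b * (1 + b) + b * b * (1 + b)) • (1 : Matrix (Fin 2) (Fin 2) F) := by
    rw [sub_smul, one_smul]
    nth_rewrite 1 [← e]
    abel
  have hs : (u : Matrix (Fin 2) (Fin 2) F) = ((1 - b * b * b)⁻¹ *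
      (1 + b + b * (1 + b) + b * b * (1 + b))) • (1 : Matrix (Fin 2) (Fin 2) F) := by
    rw [← smul_smul, ← hfinal, smul_smul, inv_mul_cancel₀ (fun h => hb3 (by linear_combination -h)), one_smul]
  refine ⟨?_, ?_, ?_⟩ <;> rw [hs] <;> simp

theorem alt_of_cubeRoot {F : Type*} [Field F] [Fintype F] [CharP F 2] {ω : F} (h1 : ω ≠ 1)
    (h3 : ω ^ 3 = 1) :
    ∃ H : Subgroup (Matrix.ProjectiveSpecialLinearGroup (Fin 2) F), Nonempty (H ≃* alternatingGroup (Fin 4)) := by
  classical
  have hω0 : ω ≠ 0 := fun h => by rw [h, zero_pow (by norm_num)] at h3; exact zero_ne_one h3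
  have hrel : ω ^ 2 + ω + 1 = 0 := by
    have : (ω - 1) * (ω ^ 2 + ω + 1) = 0 := by linear_combination h3
    exact (mul_eq_zero.mp this).resolve_left (sub_ne_zero.mpr h1)
  have hfour : ∀ x y : F, (x + y) ^ 4 = x ^ 4 + y ^ 4 := fun x y => by
    rw [show (4 : ℕ) = 2 ^ 2 by norm_num, add_pow_char_pow]
  have hpow4 : ∀ a : F, a ^ 3 = 1 → a ^ 4 = a := fun a ha => by rw [pow_succ, ha, one_mul]
  let B : Subgroup (Matrix.SpecialLinearGroup (Fin 2) F) :=
    { carrier := {g | (g : Matrix (Fin 2) (Fin 2) F) 1 0 = 0 ∧ ((g : Matrix (Fin 2) (Fin 2) F) 0 0) ^ 3 = 1 ∧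
        ((g : Matrix (Fin 2) (Fin 2) F) 0 1) ^ 4 = (g : Matrix (Fin 2) (Fin 2) F) 0 1}
      one_mem' := by simp
      mul_mem' := by
        rintro g h ⟨g10, g00, g01⟩ ⟨h10, h00, h01⟩
        simp only [Set.mem_setOf_eq, Linear.SL_mul_entries, g10, h10, zero_mul, mul_zero, add_zero]
        refine ⟨trivial, by rw [mul_pow, g00, h00, one_mul], ?_⟩
        have hd := Linear.SL_det_two h
        rw [h10, mul_zero, sub_zero] at hd
        have h11 : ((h : Matrix (Fin 2) (Fin 2) F) 1 1) ^ 4 = (h : Matrix (Fin 2) (Fin 2) F) 1 1 := by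
          refine hpow4 _ ?_
          have := congrArg (· ^ 3) hd
          simpa [mul_pow, h00] using this
        rw [hfour, mul_pow, mul_pow, hpow4 _ g00, h01, g01, h11]
      inv_mem' := by
        rintro g ⟨g10, g00, g01⟩
        obtain ⟨i00, i11, i01, i10⟩ := Linear.SL_inv_entries g
        have hd := Linear.SL_det_two g
        rw [g10, mul_zero, sub_zero] at hd
        refine ⟨by rw [i10, g10, neg_zero], ?_, by rw [i01, CharTwo.neg_eq, g01]⟩
        rw [i00]
        have := congrArg (· ^ 3) hd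
        simpa [mul_pow, g00] using this }
  have hK : ∀ {a : F}, a ^ 3 = 1 → a ≠ 0 := fun {a} ha e => by
    rw [e, zero_pow (by norm_num)] at ha; exact zero_ne_one ha
  have cubes : ∀ a : F, a ^ 3 = 1 ↔ a = 1 ∨ a = ω ∨ a = ω ^ 2 := by
    intro a
    constructor
    · intro ha
      have : (a - 1) * ((a - ω) * (a - ω ^ 2)) = 0 := by
        linear_combination ha + (-a ^ 2 + (ω ^ 2 * 0 + 1) * a) * hrel + (a - 1) * h3
      rcases mul_eq_zero.mp this with h | h
      · exact Or.inl (sub_eq_zero.mp h)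
      · rcases mul_eq_zero.mp h with h | h
        · exact Or.inr (Or.inl (sub_eq_zero.mp h))
        · exact Or.inr (Or.inr (sub_eq_zero.mp h))
    · rintro (rfl | rfl | rfl)
      · ring
      · exact h3
      · rw [← pow_mul, mul_comm, pow_mul, h3, one_pow]
  have hω2 : ω ^ 2 ≠ 1 := fun h => h1 (by rw [pow_succ, h, one_mul] at h3; exact h3)
  have hω12 : ω ≠ ω ^ 2 := fun h => h1 (by
    have : ω * (ω - 1) = 0 := by linear_combination -h
    exact sub_eq_zero.mp ((mul_eq_zero.mp this).resolve_left hω0))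
  let e : B ≃ {a : F // a ^ 3 = 1} × {b : F // b ^ 4 = b} :=
    { toFun := fun g => (⟨(g.1 : Matrix (Fin 2) (Fin 2) F) 0 0, g.2.2.1⟩, ⟨(g.1 : Matrix (Fin 2) (Fin 2) F) 0 1, g.2.2.2⟩)
      invFun := fun x => ⟨⟨!![x.1.1, x.2.1; 0, x.1.1⁻¹], by
          rw [Matrix.det_fin_two_of, mul_zero, sub_zero, mul_inv_cancel₀ (hK x.1.2)]⟩,
        show (!![x.1.1, x.2.1; 0, x.1.1⁻¹] : Matrix (Fin 2) (Fin 2) F) 1 0 = 0 ∧
            ((!![x.1.1, x.2.1; 0, x.1.1⁻¹] : Matrix (Fin 2) (Fin 2) F) 0 0) ^ 3 = 1 ∧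
            ((!![x.1.1, x.2.1; 0, x.1.1⁻¹] : Matrix (Fin 2) (Fin 2) F) 0 1) ^ 4 =
              (!![x.1.1, x.2.1; 0, x.1.1⁻¹] : Matrix (Fin 2) (Fin 2) F) 0 1 by simp [x.1.2, x.2.2]⟩
      left_inv := fun g => by
        have hd := Linear.SL_det_two g.1
        rw [g.2.1, mul_zero, sub_zero] at hd
        refine Subtype.ext (Linear.SL_ext_two ?_ ?_ ?_ ?_) <;> simp [g.2.1, inv_eq_of_mul_eq_one_right hd]
      right_inv := fun x => by refine Prod.ext (Subtype.ext ?_) (Subtype.ext ?_) <;> simp }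
  have hB : Nat.card B = 12 := by
    have hA : Nat.card {a : F // a ^ 3 = 1} = 3 := by
      have : {a : F | a ^ 3 = 1} = {1, ω, ω ^ 2} := by ext a; simp [cubes]
      show Nat.card {a : F | a ^ 3 = 1} = 3
      rw [this, Nat.card_coe_set_eq, Set.ncard_insert_of_notMem (by simp [h1.symm, hω2.symm]),
        Set.ncard_pair hω12]
    have hb4 : Nat.card {b : F // b ^ 4 = b} = 4 := by
      have : {b : F | b ^ 4 = b} = {0, 1, ω, ω ^ 2} := by
        ext b
        simp only [Set.mem_setOf_eq, Set.mem_insert_iff, Set.mem_singleton_iff]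
        rw [← cubes]
        constructor
        · intro hb
          by_cases hb0 : b = 0
          · exact Or.inl hb0
          · exact Or.inr (mul_right_cancel₀ hb0 (by rw [← pow_succ, hb, one_mul]))
        · rintro (rfl | hb)
          · simp
          · exact hpow4 b hb
      show Nat.card {b : F | b ^ 4 = b} = 4
      rw [this, Nat.card_coe_set_eq, Set.ncard_insert_of_notMem (by simp [hω0.symm, (pow_ne_zero 2 hω0).symm]),
        Set.ncard_insert_of_notMem (by simp [h1.symm, hω2.symm]), Set.ncard_pair hω12]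
    rw [Nat.card_congr e, Nat.card_prod, hA, hb4]
  let dia : B →* F :=
    { toFun := fun g => (g.1 : Matrix (Fin 2) (Fin 2) F) 0 0
      map_one' := by simp
      map_mul' := fun g h => by
        show (↑(g.1 * h.1) : Matrix (Fin 2) (Fin 2) F) 0 0 = _
        rw [Linear.SL_mul_entries, h.2.1, mul_zero, add_zero] }
  let V : Subgroup B := dia.ker
  have hd11 : ∀ g : B, (g.1 : Matrix (Fin 2) (Fin 2) F) 0 0 = 1 → (g.1 : Matrix (Fin 2) (Fin 2) F) 1 1 = 1 := by
    intro g hg
    have hd := Linear.SL_det_two g.1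
    rw [g.2.1, mul_zero, sub_zero, hg, one_mul] at hd
    exact hd
  have hV : Nat.card V = 4 := by
    let eV : V ≃ {b : F // b ^ 4 = b} :=
      { toFun := fun g => (e g.1).2
        invFun := fun b => ⟨e.symm (⟨1, one_pow 3⟩, b), by
          rw [MonoidHom.mem_ker]; show (e (e.symm _)).1.1 = 1; rw [e.apply_symm_apply]⟩
        left_inv := fun g => Subtype.ext (by
          show e.symm (⟨1, one_pow 3⟩, (e g.1).2) = g.1
          rw [Equiv.symm_apply_eq]
          exact Prod.ext (Subtype.ext (MonoidHom.mem_ker.mp g.2).symm) rfl)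
        right_inv := fun b => by
          show (e (e.symm _)).2 = b
          rw [e.apply_symm_apply] }
    have := Nat.card_congr e
    rw [hB, Nat.card_prod, ← Nat.card_congr eV] at this
    have hA : Nat.card {a : F // a ^ 3 = 1} = 3 := by
      have : {a : F | a ^ 3 = 1} = {1, ω, ω ^ 2} := by ext a; simp [cubes]
      show Nat.card {a : F | a ^ 3 = 1} = 3
      rw [this, Nat.card_coe_set_eq, Set.ncard_insert_of_notMem (by simp [h1.symm, hω2.symm]),
        Set.ncard_pair hω12]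
    rw [hA] at this
    omega
  let t : B := e.symm (⟨1, one_pow 3⟩, ⟨1, one_pow 4⟩)
  have hC : ∀ g : B, (∀ v ∈ V, g * v = v * g) → g ∈ V := by
    intro g hg
    rw [MonoidHom.mem_ker]
    have ht : t ∈ V := by rw [MonoidHom.mem_ker]; show (e t).1.1 = 1; rw [e.apply_symm_apply]
    have h := congrArg (fun z : B => (z.1 : Matrix (Fin 2) (Fin 2) F) 0 1) (hg t ht)
    simp only [Subgroup.coe_mul, Linear.SL_mul_entries] at h
    simp [t, e] at h
    have hd := Linear.SL_det_two g.1
    rw [g.2.1, mul_zero, sub_zero] at hd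
    have heq : (g.1 : Matrix (Fin 2) (Fin 2) F) 0 0 = (g.1 : Matrix (Fin 2) (Fin 2) F) 1 1 := by
      linear_combination h
    rw [← heq] at hd
    show (g.1 : Matrix (Fin 2) (Fin 2) F) 0 0 = 1
    have : ((g.1 : Matrix (Fin 2) (Fin 2) F) 0 0 - 1) ^ 2 = 0 := by
      linear_combination hd + (1 - (g.1 : Matrix (Fin 2) (Fin 2) F) 0 0) * (CharTwo.two_eq_zero : (2 : F) = 0)
    exact sub_eq_zero.mp (pow_eq_zero_iff (n := 2) (by norm_num) |>.mp this)
  obtain ⟨φ⟩ := H34.equiv_alt_four V hV hC hB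
  have hinj : Function.Injective (QuotientGroup.mk' (Subgroup.center (Matrix.SpecialLinearGroup (Fin 2) F))) := by
    rw [← MonoidHom.ker_eq_bot_iff, QuotientGroup.ker_mk', eq_bot_iff]
    intro a ha
    rcases Linear.mem_center_SL_two.mp ha with rfl | rfl
    · exact one_mem _
    · rw [Subgroup.mem_bot]
      refine Subtype.ext ?_
      ext i j
      fin_cases i <;> fin_cases j <;> simp [CharTwo.neg_eq]
  exact ⟨B.map (QuotientGroup.mk' _), ⟨(Subgroup.equivMapOfInjective B _ hinj).symm.trans φ⟩⟩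

theorem main {F : Type*} [Field F] [Fintype F] (p n : ℕ) [Fact p.Prime] [CharP F p] (hF : Fintype.card F = p ^ n) :
    (∃ H : Subgroup (Matrix.ProjectiveSpecialLinearGroup (Fin 2) F), Nonempty (H ≃* alternatingGroup (Fin 4))) ↔
      ¬ (p = 2 ∧ Odd n) := by
  constructor
  · rintro ⟨H, ⟨e⟩⟩ ⟨rfl, hn⟩
    exact Nat.not_even_iff_odd.mpr hn (even_of_alt hF e)
  · intro h
    by_cases hp : p = 2
    · subst hp
      have hn : Even n := Nat.not_odd_iff_even.mp fun ho => h ⟨rfl, ho⟩
      obtain ⟨r, rfl⟩ := hn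
      have h3 : 3 ∣ Nat.card Fˣ := by
        rw [Nat.card_units, Nat.card_eq_fintype_card, hF, ← two_mul, pow_mul]
        have h4 : ((2 : ℕ) ^ 2) ^ r % 3 = 1 := by rw [Nat.pow_mod]; norm_num
        omega
      haveI : Fact (Nat.Prime 3) := ⟨Nat.prime_three⟩
      obtain ⟨ω, hω⟩ := exists_prime_orderOf_dvd_card' 3 h3
      refine alt_of_cubeRoot (ω := (ω : F)) (fun e => ?_) ?_
      · rw [Units.val_eq_one] at e; rw [e, orderOf_one] at hω; omega
      · rw [← Units.val_pow_eq_pow_val, ← hω, pow_orderOf_eq_one, Units.val_one]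
    · have hodd : Odd (Fintype.card F) := by
        rw [hF]; exact ((Fact.out : p.Prime).odd_of_ne_two hp).pow
      obtain ⟨x, y, hxy⟩ := H34.exists_pair (F := F) hodd
      obtain ⟨V, hV, -⟩ := H34.exists_klein (Linear.two_ne_zero_of_odd_card hodd) hxy
      by_cases hsq : IsSquare (2 : F)
      · obtain ⟨φ⟩ := (H34.normalizer_equiv hodd V).1 hsq
        let ψ : alternatingGroup (Fin 4) →* Matrix.ProjectiveSpecialLinearGroup (Fin 2) F :=
          ((Subgroup.normalizer (V : Set (Matrix.ProjectiveSpecialLinearGroup (Fin 2) F))).subtype.comp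
            φ.symm.toMonoidHom).comp (alternatingGroup (Fin 4)).subtype
        have hψ : Function.Injective ψ :=
          (Subgroup.subtype_injective _).comp (φ.symm.injective.comp (Subgroup.subtype_injective _))
        exact ⟨ψ.range, ⟨(MonoidHom.ofInjective hψ).symm⟩⟩
      · exact ⟨_, (H34.normalizer_equiv hodd V).2 hsq⟩


/-- PSL_2(p^n) has a subgroup isomorphic to A_4 if and only if it is not the case that p = 2 and n is odd. -/
theorem result {F : Type*} [Field F] [Fintype F] (p n : ℕ) [Fact p.Prime] [CharP F p] (hF : Fintype.card F = p ^ n) : (∃ H : Subgroup (Matrix.ProjectiveSpecialLinearGroup (Fin 2) F), Nonempty (H ≃* alternatingGroup (Fin 4))) ↔ ¬ (p = 2 ∧ Odd n) := by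
  exact main p n hF

end Cfsg.Agent.S0802
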