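import Cfsg.Statements.S0803
import Cfsg.Agent.H34.Klein

set_option autoImplicit false
open Cfsg

namespace Cfsg.Agent.S0803

theorem order_cases {F : Type*} [Field F] [Fintype F] (p : ℕ) [Fact p.Prime] [CharP F p]
    (g : Matrix.SpecialLinearGroup (Fin 2) F) :
    orderOf g ∣ 2 * p ∨ orderOf g ∣ Fintype.card F - 1 ∨ orderOf g ∣ Fintype.card F + 1 := by
  by_cases ht : (g : Matrix (Fin 2) (Fin 2) F).trace ^ 2 = 4
  · exact Or.inl (orderOf_dvd_of_pow_eq_one (Linear.pow_two_mul_char_eq_one p ht))
  · right
    have hd : orderOf g ∣ Nat.card (Subgroup.centralizer ({g} : Set (Matrix.SpecialLinearGroup (Fin 2) F))) := by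
      rw [← Subgroup.orderOf_mk g (Subgroup.mem_centralizer_singleton_iff.mpr rfl)]
      exact orderOf_dvd_natCard _
    rcases Linear.card_centralizer_cases ht with h | h <;> rw [h] at hd
    · exact Or.inl hd
    · exact Or.inr hd

theorem main {F : Type*} [Field F] [Fintype F] :
    (∃ H : Subgroup (Matrix.ProjectiveSpecialLinearGroup (Fin 2) F), Nonempty (H ≃* Equiv.Perm (Fin 4))) ↔
      Fintype.card F ^ 2 % 16 = 1 := by
  obtain ⟨p, hp⟩ := CharP.exists F
  haveI := hp
  haveI : Fact p.Prime := ⟨CharP.char_is_prime F p⟩
  set q := Fintype.card F with hq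
  constructor
  · rintro ⟨H, ⟨e⟩⟩
    have h4 : orderOf (finRotate 4) = 4 := by
      rw [← Equiv.Perm.lcm_cycleType, cycleType_finRotate]; simp
    set u : Matrix.ProjectiveSpecialLinearGroup (Fin 2) F := H.subtype (e.symm (finRotate 4)) with hu
    have hu4 : orderOf u = 4 := by rw [hu, orderOf_injective H.subtype H.subtype_injective, MulEquiv.orderOf_eq, h4]
    obtain ⟨g, hg⟩ := QuotientGroup.mk_surjective u
    have hdvd : 4 ∣ orderOf g := by
      rw [← hu4, ← hg]
      exact orderOf_map_dvd (QuotientGroup.mk' _) g
    have hodd : p ≠ 2 → Odd q := fun h => by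
      rw [Nat.odd_iff]; exact FiniteField.odd_card_of_char_ne_two (by rwa [ringChar.eq F p])
    by_cases hp2 : p = 2
    · exfalso
      have hc : Subgroup.center (Matrix.SpecialLinearGroup (Fin 2) F) = ⊥ := by
        rw [eq_bot_iff]
        intro a ha
        rcases Linear.mem_center_SL_two.mp ha with rfl | rfl
        · exact one_mem _
        · rw [Subgroup.mem_bot]
          have h2 : (-1 : F) = 1 := by
            subst hp2
            haveI : CharP F 2 := hp
            exact CharTwo.neg_eq 1
          refine Subtype.ext ?_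
          ext i j
          fin_cases i <;> fin_cases j <;> simp [h2]
      have hg4 : orderOf g = 4 := by
        rw [← hu4, ← hg]
        exact (orderOf_injective (QuotientGroup.mk' (Subgroup.center (Matrix.SpecialLinearGroup (Fin 2) F)))
          (by rw [← MonoidHom.ker_eq_bot_iff, QuotientGroup.ker_mk', hc]) g).symm
      have heven : q % 2 = 0 := by
        rw [hq]; exact FiniteField.even_card_iff_char_two.mp (by rw [ringChar.eq F p, hp2])
      have h2q : 2 ≤ q := Fintype.one_lt_card
      rcases order_cases p g with h | h | h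
      · -- in characteristic two `g` is then an involution
        by_cases ht : (g : Matrix (Fin 2) (Fin 2) F).trace ^ 2 = 4
        · have h20 : (2 : F) = 0 := by subst hp2; exact CharTwo.two_eq_zero
          have ht2 : (g : Matrix (Fin 2) (Fin 2) F).trace = 2 := by
            have : (4 : F) = 2 * 2 := by norm_num
            rw [this, h20, mul_zero] at ht
            rw [h20]; exact pow_eq_zero_iff (n := 2) (by norm_num) |>.mp ht
          have := orderOf_dvd_of_pow_eq_one ((Linear.pow_char_eq_one_iff p g).mpr ht2)
          rw [hg4, hp2] at this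
          norm_num at this
        · have hd : orderOf g ∣ Nat.card (Subgroup.centralizer ({g} : Set (Matrix.SpecialLinearGroup (Fin 2) F))) := by
            rw [← Subgroup.orderOf_mk g (Subgroup.mem_centralizer_singleton_iff.mpr rfl)]
            exact orderOf_dvd_natCard _
          rw [hg4] at hd
          rcases Linear.card_centralizer_cases ht with h | h <;> rw [h] at hd <;> omega
      · rw [hg4] at h; omega
      · rw [hg4] at h; omega
    · have hoq := hodd hp2
      have h2 := Linear.two_ne_zero_of_odd_card hoq
      -- `g ^ (orderOf g / 2) = -1`, so the order of `g` is twice a multiple of `4`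
      have h8 : 8 ∣ orderOf g := by
        obtain ⟨k, hk⟩ := hdvd
        have hk0 : 0 < k := by
          rcases Nat.eq_zero_or_pos k with h | h
          · exfalso; rw [h, mul_zero] at hk; exact (orderOf_pos g).ne' hk
          · exact h
        have hhalf : g ^ (2 * k) = -1 := by
          refine (Linear.eq_one_or_neg_one_of_sq h2 ?_).resolve_left
            (pow_ne_one_of_lt_orderOf (by omega) (by omega))
          rw [← pow_add, show 2 * k + 2 * k = orderOf g by omega, pow_orderOf_eq_one]
        have hu' : u ^ (2 * k) = 1 := by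
          rw [← hg, ← QuotientGroup.mk_pow, hhalf, QuotientGroup.eq_one_iff]
          exact Linear.mem_center_SL_two.mpr (Or.inr rfl)
        have := orderOf_dvd_of_pow_eq_one hu'
        rw [hu4] at this
        omega
      have hq2 : q % 2 = 1 := Nat.odd_iff.mp hoq
      have hcase : 8 ∣ q - 1 ∨ 8 ∣ q + 1 := by
        rcases order_cases p g with h | h | h
        · exfalso
          have h' := h8.trans h
          have hp : p % 2 = 1 := Nat.odd_iff.mp ((Fact.out : p.Prime).odd_of_ne_two hp2)
          omega
        · exact Or.inl (h8.trans h)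
        · exact Or.inr (h8.trans h)
      rw [Nat.pow_mod]
      have hm : q % 16 = 1 ∨ q % 16 = 7 ∨ q % 16 = 9 ∨ q % 16 = 15 := by omega
      rcases hm with h | h | h | h <;> rw [h]
  · intro h
    have hoq : Odd q := by
      rw [Nat.odd_iff]
      rcases Nat.mod_two_eq_zero_or_one q with h0 | h1
      · exfalso
        obtain ⟨r, hr⟩ : ∃ r, q = 2 * r := ⟨q / 2, by omega⟩
        rw [hr, mul_pow] at h; omega
      · exact h1
    have hm : q % 8 = 1 ∨ q % 8 = 7 := by
      have h1 := Nat.odd_iff.mp hoq
      have : q % 16 < 16 := Nat.mod_lt _ (by norm_num)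
      rw [Nat.pow_mod] at h
      rw [show q % 8 = q % 16 % 8 by omega]
      have hodd' : q % 16 % 2 = 1 := by omega
      generalize q % 16 = a at *
      interval_cases a <;> omega
    have hsq : IsSquare (2 : F) := by rw [FiniteField.isSquare_two_iff]; omega
    obtain ⟨x, y, hxy⟩ := H34.exists_pair (F := F) hoq
    obtain ⟨V, hV, -⟩ := H34.exists_klein (Linear.two_ne_zero_of_odd_card hoq) hxy
    exact ⟨_, (H34.normalizer_equiv hoq V).1 hsq⟩


/-- PSL_2(q) has a subgroup isomorphic to S_4 iff q² ≡ 1 (mod 16). -/
theorem result {F : Type*} [Field F] [Fintype F] {q : ℕ} (hF : Fintype.card F = q) : (∃ H : Subgroup (Matrix.ProjectiveSpecialLinearGroup (Fin 2) F), Nonempty (H ≃* Equiv.Perm (Fin 4))) ↔ q ^ 2 % 16 = 1 := by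
  subst hF
  exact main

end Cfsg.Agent.S0803
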