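import Cfsg.Statements.S1006
import Cfsg.Agent.H36.Order168

set_option autoImplicit false
open Cfsg

namespace Cfsg.Agent.S1006

/-- In a simple group of order 168 there are 56 elements of order 3, all conjugate; 42 elements of order 4, all conjugate; and 48 elements of order 7 falling into two conjugacy classes of size 24, an element of order 7 not being conjugate to its inverse. -/
theorem result {G : Type*} [Group G] [Finite G] [IsSimpleGroup G] (h : Nat.card G = 168) : Nat.card {g : G // orderOf g = 3} = 56 ∧ (∀ s t : G, orderOf s = 3 → orderOf t = 3 → IsConj s t) ∧ Nat.card {g : G // orderOf g = 4} = 42 ∧ (∀ s t : G, orderOf s = 4 → orderOf t = 4 → IsConj s t) ∧ Nat.card {g : G // orderOf g = 7} = 48 ∧ ∀ x : G, orderOf x = 7 → Nat.card {g : G // IsConj x g} = 24 ∧ ¬ IsConj x x⁻¹ := by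
  obtain ⟨c2, c4, c3, c7, _, hconj4, hconj3⟩ := Cfsg.Agent.H36.S168.counts h
  refine ⟨c3, hconj3, c4, hconj4, c7, fun x hx => ?_⟩
  haveI : Fact (Nat.Prime 7) := ⟨by norm_num⟩
  have hcx := Cfsg.Agent.H36.S168.card_centralizer_of_orderOf h (p := 7) (Or.inr rfl) hx
  refine ⟨?_, fun hinv => ?_⟩
  · have := Cfsg.Agent.H36.card_class_mul_centralizer x
    rw [hcx, h] at this
    omega
  · obtain ⟨u, hu⟩ := isConj_iff.1 hinv
    obtain ⟨P, hP⟩ := Cfsg.Agent.H36.exists_sylow_mem hx
    have hPz := Cfsg.Agent.H36.sylow_eq_zpowers P (Cfsg.Agent.H36.S168.card_sylow7 h P) hx hP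
    have huN : u ∈ Subgroup.normalizer ((P : Subgroup G) : Set G) := by
      rw [← hPz, Subgroup.mem_normalizer_iff]
      intro y
      constructor
      · intro hy
        obtain ⟨k, rfl⟩ := Subgroup.mem_zpowers_iff.1 hy
        rw [← conj_zpow, hu, inv_zpow]
        exact inv_mem (Subgroup.zpow_mem_zpowers x k)
      · intro hy
        obtain ⟨k, hk⟩ := Subgroup.mem_zpowers_iff.1 hy
        refine Subgroup.mem_zpowers_iff.2 ⟨-k, ?_⟩
        have h1 : u * x ^ (-k) * u⁻¹ = u * y * u⁻¹ := by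
          rw [← conj_zpow, hu, inv_zpow', neg_neg, hk]
        exact mul_left_cancel (mul_right_cancel h1)
    have hu21 : orderOf u ∣ 21 :=
      Cfsg.Agent.H36.S168.card_normalizer7 h P ▸ Subgroup.orderOf_dvd_natCard _ huN
    have hu2 : u ^ 2 * x = x * u ^ 2 := by
      calc u ^ 2 * x = u * (u * x * u⁻¹) * u⁻¹ * u ^ 2 := by rw [pow_two]; group
        _ = u * x⁻¹ * u⁻¹ * u ^ 2 := by rw [hu]
        _ = (u * x * u⁻¹)⁻¹ * u ^ 2 := by group
        _ = x * u ^ 2 := by rw [hu, inv_inv]
    have hux : Commute u x := by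
      have h21 : u ^ 21 = 1 := orderOf_dvd_iff_pow_eq_one.1 hu21
      have hu11 : u = (u ^ 2) ^ 11 := by
        rw [← pow_mul, show (2 * 11 : ℕ) = 21 + 1 by norm_num, pow_succ, h21, one_mul]
      rw [hu11]
      exact (show Commute (u ^ 2) x from hu2).pow_left 11
    have hxx : x = x⁻¹ := by
      rw [← hu, hux.eq, mul_inv_cancel_right]
    have : orderOf x ∣ 2 := orderOf_dvd_of_pow_eq_one (by rw [pow_two]; nth_rw 1 [hxx]; exact inv_mul_cancel x)
    rw [hx] at this
    norm_num at this

end Cfsg.Agent.S1006
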