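import Cfsg.Statements.S1394
import Cfsg.Agent.H41.Transitivity
import Cfsg.Agent.H41.RankTwo
-- import your own Cfsg.Agent.* helpers here

set_option autoImplicit false
open Cfsg

namespace Cfsg.Agent.S1394

/-- Let G be a minimal simple group of odd order, A a subgroup satisfying the transitivity hypothesis whose centre has rank at least 2, K = O_{π(A)'}(C_G(A)), and q a prime dividing the order of C_G(A) but not that of A. Then any two maximal A-invariant q-subgroups of G are conjugate by an element of K. -/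
theorem result {G : Type*} [Group G] [Finite G] (hG : Cfsg.IsMinSimpleOddOrder G)
    (A : Subgroup G) (hA : Cfsg.TransitivityHypothesis A) (hZ : ¬ Cfsg.RankLE 1 ↥(A ⊓ Subgroup.centralizer (A : Set G)))
    (q : ℕ) (hq : q.Prime) (hqA : ¬ q ∣ Nat.card A) (hqC : q ∣ Nat.card (Subgroup.centralizer (A : Set G))) :
    ∀ Q₁ ∈ Cfsg.maxInvSubgroups ⊤ A {q}, ∀ Q₂ ∈ Cfsg.maxInvSubgroups ⊤ A {q}, ∃ k ∈ Cfsg.piCoreOf (Cfsg.primesNotDvd (Nat.card A)) (Subgroup.centralizer (A : Set G)), Q₂ = Q₁.map (MulAut.conj k).toMonoidHom := by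
  classical
  haveI := Fact.mk hq
  set Z := A ⊓ Subgroup.centralizer (A : Set G) with hZdef
  obtain ⟨p, hp, E, hEZ, hEc, hEe, hE⟩ := H41.exists_elementary_of_not_rankLE hZ
  haveI := Fact.mk hp
  have hEN : ∀ Q ∈ Cfsg.maxInvSubgroups ⊤ A {q}, E ≤ Subgroup.normalizer (Q : Set G) := fun Q hQ =>
    (hEZ.trans inf_le_left).trans hQ.1.2.2
  have hAC : ∀ e ∈ E, A ≤ Subgroup.centralizer ({e} : Set G) := fun e he a ha =>
    Subgroup.mem_centralizer_singleton_iff.2 (Subgroup.mem_centralizer_iff.1 (hEZ he).2 a ha)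
  have hCtop : ∀ e ∈ E, e ≠ 1 → Subgroup.centralizer ({e} : Set G) ≠ ⊤ := by
    intro e he he1 h
    haveI := hG.2.1
    have hz : e ∈ Subgroup.center G := Subgroup.mem_center_iff.2 fun g =>
      Subgroup.mem_centralizer_singleton_iff.1 (h ▸ Subgroup.mem_top g)
    rcases (inferInstance : (Subgroup.center G).Normal).eq_bot_or_eq_top with h0 | h0
    · rw [h0, Subgroup.mem_bot] at hz; exact he1 hz
    · exact hG.2.2.1 ⟨⟨fun a b => (Subgroup.mem_center_iff.1 (h0 ▸ Subgroup.mem_top b) a)⟩⟩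
  obtain ⟨c, hc⟩ := exists_prime_orderOf_dvd_card' (G := Subgroup.centralizer (A : Set G)) q hqC
  set C := Subgroup.zpowers (c : G) with hC
  have hCinv : C ∈ Cfsg.invSubgroups ⊤ A {q} := by
    refine ⟨le_top, ?_, ?_⟩
    · intro r hr hd
      rw [hC, Nat.card_zpowers, orderOf_submonoid, hc] at hd
      exact (Nat.prime_dvd_prime_iff_eq hr hq).1 hd
    · intro a ha
      rw [Subgroup.mem_normalizer_iff_map_conj_eq, hC, MonoidHom.map_zpowers]
      congr 1
      show a * (c : G) * a⁻¹ = c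
      rw [Subgroup.mem_centralizer_iff.1 c.2 a ha, mul_inv_cancel_right]
  obtain ⟨Q₀, h₀, hC0⟩ := H41.exists_maxInvSubgroups_ge hCinv
  have hc1 : (c : G) ≠ 1 := fun h => hq.ne_one (by rw [← hc, orderOf_eq_one_iff]; exact Subtype.ext h)
  have key : ∀ Q ∈ Cfsg.maxInvSubgroups ⊤ A {q}, ∃ k ∈ H41.transK A,
      Q = Q₀.map (MulAut.conj k).toMonoidHom := by
    intro Q hQ
    have hQne : Q ≠ ⊥ := fun h => hc1 (by
      have h' := hQ.2 C hCinv (h ▸ bot_le)
      rw [h, hC, Subgroup.zpowers_eq_bot] at h'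
      exact h')
    obtain ⟨e, he, he1, hne⟩ := H41.exists_centralizer_inf_ne_bot hE
      (H41.not_isCyclic_of_card_sq hE hEe) (H41.isPGroup_of_invSubgroups hq hQ.1) hQne (hEN Q hQ)
    refine H41.transitivity_of_common hG.2 hA hq hqA h₀ hQ (hCtop e he he1) (hAC e he) ?_
      (inf_comm Q _ ▸ hne)
    intro h
    have hmem : (c : G) ∈ Subgroup.centralizer ({e} : Set G) ⊓ Q₀ :=
      ⟨Subgroup.mem_centralizer_singleton_iff.2
        (Subgroup.mem_centralizer_iff.1 c.2 e (hEZ he).1).symm, hC0 (Subgroup.mem_zpowers _)⟩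
    rw [h, Subgroup.mem_bot] at hmem
    exact hc1 hmem
  intro Q₁ h₁ Q₂ h₂
  obtain ⟨k₁, hk₁, rfl⟩ := key Q₁ h₁
  obtain ⟨k₂, hk₂, rfl⟩ := key Q₂ h₂
  refine ⟨k₂ * k₁⁻¹, mul_mem hk₂ (inv_mem hk₁), ?_⟩
  rw [Coprime.map_conj_map_conj, inv_mul_cancel_right]

end Cfsg.Agent.S1394
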