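import Cfsg.Statements.S1354
import Cfsg.Agent.OddOrder.BG14.Facts

set_option autoImplicit false
open Cfsg

namespace Cfsg.Agent.S1354

/-- Let G be a minimal simple group of odd order, M a maximal subgroup and K a cyclic Hall κ(M)-subgroup of M, and put K* = M_σ ∩ C_G(K). Then K* ≠ 1, and if K ≠ 1 then for every non-identity k ∈ K the centralizer C_M(k) is the subgroup generated by K and K* (an internal direct product, as K ∩ M_σ = 1 and K* centralizes K). -/
theorem result {G : Type*} [Group G] [Finite G] (hG : Cfsg.IsMinSimpleOddOrder G)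
    (M : Subgroup G) (hM : IsCoatom M) (K : Subgroup G)
    (hKc : IsCyclic K) (hK : Cfsg.IsPiHallOf (Cfsg.kappa M) K M) :
    Cfsg.sigmaCore M ⊓ Subgroup.centralizer (K : Set G) ≠ ⊥ ∧
      (K ≠ ⊥ → ∀ k ∈ K, k ≠ 1 →
        M ⊓ Subgroup.centralizer ({k} : Set G) = K ⊔ (Cfsg.sigmaCore M ⊓ Subgroup.centralizer (K : Set G))) := by
  have h := OddOrder.BG13.hyp hG
  have R := OddOrder.BG14.results13 hG
  refine ⟨OddOrder.BG14.kappaStar_ne_bot h R hM hK, fun hK1 k hk hk1 => ?_⟩
  refine le_antisymm ?_ (sup_le (le_inf hK.1 ?_) (le_inf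
    (inf_le_left.trans (OddOrder.sigmaCore_le M))
    (inf_le_right.trans (Subgroup.centralizer_le (Set.singleton_subset_iff.mpr hk)))))
  · obtain ⟨z, hz, hzp⟩ := OddOrder.BG14.exists_prime_elem
      (X := Subgroup.zpowers k) (by simpa using hk1)
    rw [← OddOrder.BG14.inf_normalizer_eq h R hM hK hK1
      (X := Subgroup.zpowers z) (Subgroup.zpowers_le.mpr ((Subgroup.zpowers_le.mpr hk) hz))
      (by rwa [Nat.card_zpowers])]
    refine inf_le_inf_left _ (le_trans ?_ (H41.centralizer_le_normalizer _))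
    rw [← OddOrder.BG13.centralizer_zpowers k]
    exact Subgroup.centralizer_le (Subgroup.zpowers_le.mpr hz)
  · intro c hc
    have := hKc
    let _ := IsCyclic.commGroup (α := K)
    exact Subgroup.mem_centralizer_singleton_iff.mpr
      (congrArg Subtype.val (mul_comm (⟨c, hc⟩ : K) ⟨k, hk⟩))

end Cfsg.Agent.S1354
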