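import Cfsg.Statements.S1514
import Cfsg.Agent.H43.Isometry

set_option autoImplicit false
open Cfsg

namespace Cfsg.Agent.S1514

/-- Let S be a nonempty set of irreducible characters of the finite group L, closed under complex conjugation and containing no real-valued member, and τ a linear isometry on the integer combinations of S vanishing at 1, with values virtual characters of G vanishing at 1. Then there is a choice R making (S, τ, R) a coherence system. -/
theorem result {L : Type*} [Group L] [Fintype L] {G : Type*} [Group G] [Fintype G] (S : Set (L → ℂ)) (hS : S.Nonempty) (hirr : ∀ χ ∈ S, Cfsg.IsIrrCharacter L χ) (hconj : ∀ χ ∈ S, Cfsg.conjFun χ ∈ S ∧ Cfsg.conjFun χ ≠ χ) (τ : (L → ℂ) → (G → ℂ)) (hτ : Cfsg.IsLinearIsometryOn (Cfsg.zspanOn S {1}ᶜ) τ) (hτ1 : ∀ α ∈ Cfsg.zspanOn S {1}ᶜ, τ α 1 = 0) : ∃ R : (L → ℂ) → Finset (G → ℂ), Cfsg.IsCoherenceSystem S τ R := by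
  classical
  have hdiff : ∀ χ ∈ S, χ - Cfsg.conjFun χ ∈ Cfsg.zspanOn S ({1}ᶜ : Set L) := by
    intro χ hχ
    rw [H43.zspanOn_compl_one]
    refine ⟨H43.zspan_sub (H43.zspan_mem hχ) (H43.zspan_mem (hconj χ hχ).1), ?_⟩
    obtain ⟨a, -, ha⟩ := CharBasic.IsIrr.exists_degree (hirr χ hχ)
    simp [Cfsg.conjFun, ha]
  have horth : ∀ χ ∈ S, ∀ φ ∈ S, χ ≠ φ → Cfsg.classInner χ φ = 0 :=
    fun χ hχ φ hφ => CharBasic.classInner_irr_of_ne (hirr χ hχ) (hirr φ hφ)
  have hpair : ∀ χ ∈ S, ∃ μ ν : G → ℂ, H43.Signed μ ∧ H43.Signed ν ∧ Cfsg.classInner μ ν = 0 ∧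
      τ (χ - Cfsg.conjFun χ) = μ + ν ∧ μ 1 = (-ν) 1 := by
    intro χ hχ
    have hn : Cfsg.classInner (χ - Cfsg.conjFun χ) (χ - Cfsg.conjFun χ) = 2 := by
      have hc := (hconj χ hχ)
      simp only [CharBasic.classInner_sub_left, CharBasic.classInner_sub_right,
        horth χ hχ _ hc.1 hc.2.symm, horth _ hc.1 χ hχ hc.2,
        CharBasic.classInner_irr_self (hirr χ hχ), CharBasic.classInner_irr_self (hirr _ hc.1)]
      norm_num
    obtain ⟨μ, ν, hμ, hν, hmn, he⟩ := H43.signed_pair_of_norm_two (H43.iso_gen hτ (hdiff χ hχ))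
      (by rw [H43.iso_inner hτ (hdiff χ hχ) (hdiff χ hχ), hn])
    refine ⟨μ, ν, hμ, hν, hmn, he, ?_⟩
    have h := hτ1 _ (hdiff χ hχ)
    rw [he, Pi.add_apply] at h
    rw [Pi.neg_apply]; exact eq_neg_of_add_eq_zero_left h
  choose μ ν hμ hν hmn he h1 using hpair
  refine ⟨fun χ => if h : χ ∈ S then {μ χ h, ν χ h} else ∅, hS, fun χ hχ => CharBasic.IsIrr.isCharacter (hirr χ hχ),
    fun χ hχ => (hconj χ hχ).1, fun χ hχ => (hconj χ hχ).2, hτ, hτ1, horth, ?_, ?_, ?_, ?_⟩
  · intro χ hχ α hα β hβ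
    simp only [dif_pos hχ, Finset.mem_insert, Finset.mem_singleton] at hα hβ
    have hnm : Cfsg.classInner (ν χ hχ) (μ χ hχ) = 0 := by
      rw [← CharBasic.classInner_conj_symm, hmn, map_zero]
    have hne : μ χ hχ ≠ ν χ hχ := fun e => by
      have := hmn χ hχ
      rw [e, (hν χ hχ).inner_self] at this
      exact one_ne_zero this
    rcases hα with rfl | rfl <;> rcases hβ with rfl | rfl
    · rw [if_pos rfl, (hμ χ hχ).inner_self]
    · rw [if_neg hne, hmn]
    · rw [if_neg hne.symm, hnm]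
    · rw [if_pos rfl, (hν χ hχ).inner_self]
  · intro χ hχ α hα
    simp only [dif_pos hχ, Finset.mem_insert, Finset.mem_singleton] at hα
    rcases hα with rfl | rfl
    · exact (hμ χ hχ).gen
    · exact (hν χ hχ).gen
  · intro χ hχ
    have hne : μ χ hχ ≠ ν χ hχ := fun e => by
      have := hmn χ hχ
      rw [e, (hν χ hχ).inner_self] at this
      exact one_ne_zero this
    simp only [dif_pos hχ]
    rw [Finset.sum_pair hne, he χ hχ]
  · intro χ hχ φ hφ hzero hzero' α hα β hβ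
    simp only [dif_pos hχ, dif_pos hφ, Finset.mem_insert, Finset.mem_singleton] at hα hβ
    have hzz : Cfsg.classInner (φ - Cfsg.conjFun φ) (χ - Cfsg.conjFun χ) = 0 := by
      have e1 : Cfsg.classInner (Cfsg.conjFun φ) (Cfsg.conjFun χ) = 0 := by
        rw [H43.classInner_conjFun, hzero, map_zero]
      have e2 : Cfsg.classInner (Cfsg.conjFun φ) χ = 0 := by
        have hcc : Cfsg.conjFun (Cfsg.conjFun χ) = χ := funext fun g => by simp [Cfsg.conjFun]
        conv_lhs => rw [← hcc]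
        rw [H43.classInner_conjFun, hzero', map_zero]
      simp [CharBasic.classInner_sub_left, CharBasic.classInner_sub_right, hzero, hzero', e1, e2]
    have hmix : Cfsg.classInner (μ φ hφ - -ν φ hφ)
        (((1 : ℝ) : ℂ) • μ χ hχ - ((1 : ℝ) : ℂ) • -ν χ hχ) = 0 := by
      rw [Complex.ofReal_one, one_smul, one_smul, sub_neg_eq_add, sub_neg_eq_add, ← he φ hφ,
        ← he χ hχ, H43.iso_inner hτ (hdiff φ hφ) (hdiff χ hχ), hzz]
    obtain ⟨o1, o2, o3, o4⟩ := H43.signed_orth (hμ φ hφ) (hν φ hφ).neg (hμ χ hχ) (hν χ hχ).neg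
      one_ne_zero one_ne_zero (by rw [CharBasic.classInner_neg_right, hmn, neg_zero])
      (by rw [CharBasic.classInner_neg_right, hmn, neg_zero]) hmix (h1 φ hφ) (by simpa using h1 χ hχ)
    simp only [CharBasic.classInner_neg_left, CharBasic.classInner_neg_right, neg_neg, neg_eq_zero] at o1 o2 o3 o4
    rcases hα with rfl | rfl <;> rcases hβ with rfl | rfl <;> assumption

end Cfsg.Agent.S1514
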