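import Cfsg.Statements.S1386
import Cfsg.Agent.H41.Basic
-- import your own Cfsg.Agent.* helpers here

set_option autoImplicit false
open Cfsg

namespace Cfsg.Agent.S1386

/-- Let G be a finite group, W₁, W₂ subgroups forming a self-normalizing cyclic pair, S a subgroup with W₂ ≤ S and W₁ a complement to S' in S, and (W₁, U, W₂') type-P data for S. Then W₂' = W₂ (that is, C_{S'}(W₁) = W₂). -/
theorem result {G : Type*} [Group G] [Finite G] (W₁ W₂ S U W₂' : Subgroup G) (hW : Cfsg.IsSelfNormalizingCyclic W₁ W₂)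
    (hSW : Cfsg.IsComplIn ⁅S, S⁆ W₁ S) (hW₂S : W₂ ≤ S) (hP : Cfsg.IsTypePWith S W₁ U W₂') :
    W₂' = W₂ := by
  obtain ⟨h1, h2, hint, hcomm, hcyc, hN⟩ := hW
  have hP' := hP.selfNormalizing
  obtain ⟨h1', h2', hint', hcomm', hcyc', hN'⟩ := hP'
  have hle : W₁ ⊔ W₂ ≤ W₁ ⊔ W₂' := by
    refine sup_le le_sup_left (fun w hw => ?_)
    obtain ⟨a, ha, b, hb, rfl⟩ := hSW.2.2.2 w (hW₂S hw)
    have hbc : ∀ x ∈ W₁, x * b = b * x := by
      intro x hx
      haveI := hP.W₁_cyclic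
      letI : CommGroup W₁ := IsCyclic.commGroup
      exact congrArg Subtype.val (mul_comm (⟨x, hx⟩ : W₁) ⟨b, hb⟩)
    obtain ⟨x, hx, hx1⟩ := H41.exists_ne_one h1
    have hax : a ∈ W₂' := by
      rw [← hP.W₂_centralizer x hx hx1]
      refine ⟨ha, Subgroup.mem_centralizer_singleton_iff.2 ?_⟩
      have e1 := hcomm x hx _ hw
      have e2 := hbc x hx
      have : a * x * b = x * a * b := by
        rw [mul_assoc, e2, ← mul_assoc, ← e1, mul_assoc]
      exact mul_right_cancel this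
    exact Subgroup.mul_mem _ (le_sup_right (a := W₁) hax) (le_sup_left (b := W₂') hb)
  obtain ⟨b, hb, hb1⟩ := H41.exists_ne_one h1
  obtain ⟨c, hc, hc1⟩ := H41.exists_ne_one h2
  have hmem : b * c ∈ W₁ ⊔ W₂ := Subgroup.mul_mem_sup hb hc
  have hnot : b * c ∉ (W₁ : Set G) ∪ W₂ := by
    rintro (h | h)
    · have : c ∈ W₁ ⊓ W₂ := ⟨by simpa using W₁.mul_mem (W₁.inv_mem hb) h, hc⟩
      exact hc1 (by simpa [hint] using this)
    · have : b ∈ W₁ ⊓ W₂ := ⟨hb, by simpa using W₂.mul_mem h (W₂.inv_mem hc)⟩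
      exact hb1 (by simpa [hint] using this)
  have hNX := hN {b * c} (Set.singleton_subset_iff.2 ⟨hmem, hnot⟩) (Set.singleton_nonempty _)
  have hge : W₁ ⊔ W₂' ≤ W₁ ⊔ W₂ := by
    intro w hw
    rw [← hNX, Subgroup.mem_set_normalizer_iff]
    intro y
    haveI := hcyc'
    letI : CommGroup (W₁ ⊔ W₂' : Subgroup G) := IsCyclic.commGroup
    have e : w * (b * c) = (b * c) * w :=
      congrArg Subtype.val (mul_comm (⟨w, hw⟩ : (W₁ ⊔ W₂' : Subgroup G)) ⟨_, hle hmem⟩)
    simp only [Set.mem_singleton_iff]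
    constructor
    · rintro rfl
      rw [e, mul_inv_cancel_right]
    · intro h
      have h' : w * y = w * (b * c) := by
        rw [e, ← h, inv_mul_cancel_right]
      exact mul_left_cancel h'
  have heq : W₁ ⊔ W₂' = W₁ ⊔ W₂ := le_antisymm hge hle
  have hcard : Nat.card W₂' = Nat.card W₂ := by
    have e1 := H41.card_sup_of_commute W₁ W₂ hcomm hint
    have e2 := H41.card_sup_of_commute W₁ W₂' hcomm' hint'
    rw [heq, e1] at e2
    exact (Nat.eq_of_mul_eq_mul_left Nat.card_pos e2).symm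
  exact H41.eq_of_card_eq_of_le_cyclic hcyc (heq ▸ le_sup_right) le_sup_right hcard

end Cfsg.Agent.S1386
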