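import Cfsg.Statements.S1546
-- import your own Cfsg.Agent.* helpers here

set_option autoImplicit false
open Cfsg

namespace Cfsg.Agent.S1546

/-- Let p and q be odd primes and N = (p ^ q − 1) / (p − 1) = 1 + p + ⋯ + p^(q−1). Then N is odd; if p ≡ 1 (mod q) then q ∣ N; and if p is not ≡ 1 (mod q) then N is coprime to p − 1 and every divisor of N is ≡ 1 (mod q). -/
theorem result (p q : ℕ) (hp : p.Prime) (hq : q.Prime) (hp2 : p ≠ 2) (hq2 : q ≠ 2) : Odd ((p ^ q - 1) / (p - 1)) ∧ (p % q = 1 → q ∣ (p ^ q - 1) / (p - 1)) ∧ (p % q ≠ 1 → Nat.Coprime ((p ^ q - 1) / (p - 1)) (p - 1) ∧ ∀ x : ℕ, x ∣ (p ^ q - 1) / (p - 1) → x % q = 1) := by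
  haveI := Fact.mk hq
  have hp1 : 2 ≤ p := hp.two_le
  rw [← Nat.geomSum_eq hp1]
  have hpodd : Odd p := hp.odd_of_ne_two hp2
  have hqodd : Odd q := hq.odd_of_ne_two hq2
  refine ⟨?_, ?_, ?_⟩
  · rw [← ZMod.natCast_eq_one_iff_odd]
    push_cast
    have : (p : ZMod 2) = 1 := ZMod.natCast_eq_one_iff_odd.mpr hpodd
    simp [this, ZMod.natCast_eq_one_iff_odd.mpr hqodd]
  · intro h
    rw [← ZMod.natCast_eq_zero_iff]
    push_cast
    have : (p : ZMod q) = 1 := by
      rw [← ZMod.natCast_mod, h, Nat.cast_one]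
    simp [this]
  · intro h
    have hcop : Nat.Coprime (∑ i ∈ Finset.range q, p ^ i) (p - 1) := by
      refine Nat.coprime_of_dvd fun r hr hrN hrp => ?_
      haveI := Fact.mk hr
      rw [← ZMod.natCast_eq_zero_iff] at hrN
      have hpr : (p : ZMod r) = 1 := by
        rw [← ZMod.natCast_eq_zero_iff, Nat.cast_sub (by omega), Nat.cast_one, sub_eq_zero] at hrp
        exact hrp
      push_cast at hrN
      simp [hpr, ZMod.natCast_eq_zero_iff] at hrN
      have hrq : r = q := (Nat.prime_dvd_prime_iff_eq hr hq).mp hrN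
      subst hrq
      apply h
      have h1 : ((p : ℕ) : ZMod r) = ((1 : ℕ) : ZMod r) := by simpa using hpr
      rw [ZMod.natCast_eq_natCast_iff'] at h1
      rw [h1, Nat.one_mod_eq_one.mpr hr.ne_one]
    refine ⟨hcop, ?_⟩
    intro x
    induction x using Nat.recOnMul with
    | zero =>
      intro hx
      exfalso
      have : 0 < ∑ i ∈ Finset.range q, p ^ i :=
        Finset.sum_pos (fun i _ => pow_pos hp.pos i) ⟨0, by simp [hq.pos]⟩
      rw [zero_dvd_iff] at hx
      omega
    | one => intro _; exact Nat.one_mod_eq_one.mpr hq.ne_one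
    | prime r hr =>
      intro hrN
      haveI := Fact.mk hr
      have hne : (p : ZMod r) ≠ 1 := by
        intro h1
        have : r ∣ p - 1 := by
          rw [← ZMod.natCast_eq_zero_iff, Nat.cast_sub (by omega), h1]; simp
        exact hr.not_dvd_one (hcop ▸ Nat.dvd_gcd hrN this)
      rw [← ZMod.natCast_eq_zero_iff] at hrN
      push_cast at hrN
      have hpow : (p : ZMod r) ^ q = 1 := by
        have := geom_sum_mul (p : ZMod r) q
        rw [hrN, zero_mul] at this
        exact (sub_eq_zero.mp this.symm)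
      have ho : orderOf (p : ZMod r) = q := orderOf_eq_prime hpow hne
      have hne0 : (p : ZMod r) ≠ 0 := by
        intro h0; rw [h0, zero_pow hq.ne_zero] at hpow; exact zero_ne_one hpow
      have hd : q ∣ r - 1 := by
        rw [← ho]; exact orderOf_dvd_of_pow_eq_one (ZMod.pow_card_sub_one_eq_one hne0)
      have : r ≡ 1 [MOD q] := ((Nat.modEq_iff_dvd' hr.one_lt.le).mpr hd).symm
      rw [Nat.ModEq] at this
      rw [this, Nat.one_mod_eq_one.mpr hq.ne_one]
    | mul a b iha ihb =>
      intro hab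
      rw [Nat.mul_mod, iha (dvd_of_mul_right_dvd hab), ihb (dvd_of_mul_left_dvd hab), mul_one,
        Nat.one_mod_eq_one.mpr hq.ne_one]

end Cfsg.Agent.S1546
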