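import Mathlib
import Cfsg.Statements.S1510

set_option autoImplicit false
open Cfsg

namespace Cfsg.Agent.S1510

/-- Let L be a finite group with a normal subgroup K and a nontrivial cyclic subgroup W₁ of order coprime to its index, K ⊓ W₁ = ⊥ and K ⊔ W₁ = ⊤; let W₂ ≠ ⊥ be a cyclic subgroup of K with K ⊓ C_L(x) = W₂ for every non-identity x ∈ W₁, and suppose W₁ ⊔ W₂ has odd order. Then (W₁, W₂) is a self-normalising cyclic pair in L. -/
theorem result {L : Type*} [Group L] [Fintype L] (K W₁ W₂ : Subgroup L) [hK : K.Normal] (hKW₁ : K ⊓ W₁ = ⊥) (hKW₁' : K ⊔ W₁ = ⊤) (hW₁ : W₁ ≠ ⊥) (hW₁c : IsCyclic W₁) (hHall : Nat.Coprime (Nat.card W₁) W₁.index) (hW₂ : W₂ ≠ ⊥) (hW₂c : IsCyclic W₂) (hW₂K : W₂ ≤ K) (hC : ∀ x ∈ W₁, x ≠ 1 → K ⊓ Subgroup.centralizer ({x} : Set L) = W₂) (hodd : Odd (Nat.card ↥(W₁ ⊔ W₂))) : Cfsg.IsSelfNormalizingCyclic W₁ W₂ := by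
  classical
  have hcompl : Subgroup.IsComplement' K W₁ := by
    apply Subgroup.isComplement'_of_disjoint_and_mul_eq_univ
    · exact disjoint_iff.mpr hKW₁
    · rw [← Subgroup.normal_mul, hKW₁', Subgroup.coe_top]
  have hcop : Nat.Coprime (Nat.card W₁) (Nat.card W₂) := by
    rw [hcompl.index_eq_card] at hHall
    exact hHall.coprime_dvd_right (Subgroup.card_dvd_of_le hW₂K)
  have hcomm : ∀ a ∈ W₁, ∀ b ∈ W₂, a * b = b * a := by
    intro a ha b hb
    by_cases h1 : a = 1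
    · simp [h1]
    have := hC a ha h1 ▸ hb
    exact ((Subgroup.mem_centralizer_singleton_iff).mp this.2).symm
  have hdisj : W₁ ⊓ W₂ = ⊥ := by
    rw [eq_bot_iff, ← hKW₁]
    exact le_inf (inf_le_right.trans hW₂K) inf_le_left
  have hle : W₁ ≤ Subgroup.normalizer (W₂ : Set L) := by
    intro a ha
    rw [Subgroup.mem_normalizer_iff]
    intro b
    constructor
    · intro hb
      rw [hcomm a ha b hb, mul_inv_cancel_right]; exact hb
    · intro hb
      have := hcomm a⁻¹ (inv_mem ha) _ hb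
      have e : b = a⁻¹ * (a * b * a⁻¹) * a := by group
      rw [e, this, inv_mul_cancel_right]; exact hb
  have hmem : ∀ w, w ∈ W₁ ⊔ W₂ → ∃ a ∈ W₁, ∃ b ∈ W₂, w = a * b := by
    intro w hw
    rw [← SetLike.mem_coe, Subgroup.coe_mul_of_left_le_normalizer_right W₁ W₂ hle] at hw
    obtain ⟨a, ha, b, hb, rfl⟩ := Set.mem_mul.mp hw
    exact ⟨a, ha, b, hb, rfl⟩
  obtain ⟨k, hk1, hk2⟩ := Nat.chineseRemainder hcop 1 0
  obtain ⟨k', hk1', hk2'⟩ := Nat.chineseRemainder hcop 0 1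
  have hpow : ∀ a ∈ W₁, ∀ b ∈ W₂, (a * b) ^ k = a ∧ (a * b) ^ k' = b := by
    intro a ha b hb
    have hoa : orderOf a ∣ Nat.card W₁ := by
      simpa [Subgroup.orderOf_mk] using orderOf_dvd_natCard (⟨a, ha⟩ : W₁)
    have hob : orderOf b ∣ Nat.card W₂ := by
      simpa [Subgroup.orderOf_mk] using orderOf_dvd_natCard (⟨b, hb⟩ : W₂)
    have e1 : a ^ k = a := by
      simpa using pow_eq_pow_iff_modEq.mpr (hk1.of_dvd hoa)
    have e2 : b ^ k = 1 := by
      simpa using pow_eq_pow_iff_modEq.mpr (hk2.of_dvd hob)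
    have e3 : a ^ k' = 1 := by
      simpa using pow_eq_pow_iff_modEq.mpr (hk1'.of_dvd hoa)
    have e4 : b ^ k' = b := by
      simpa using pow_eq_pow_iff_modEq.mpr (hk2'.of_dvd hob)
    have hc : Commute a b := hcomm a ha b hb
    exact ⟨by rw [hc.mul_pow, e1, e2, mul_one], by rw [hc.mul_pow, e3, e4, one_mul]⟩
  have hcyc : IsCyclic ↥(W₁ ⊔ W₂) := by
    obtain ⟨a, ha⟩ := hW₁c.exists_generator
    obtain ⟨b, hb⟩ := hW₂c.exists_generator
    have hab : (a : L) * b ∈ W₁ ⊔ W₂ :=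
      mul_mem (Subgroup.mem_sup_left a.2) (Subgroup.mem_sup_right b.2)
    suffices hz : Subgroup.zpowers ((a : L) * b) = W₁ ⊔ W₂ by
      rw [← hz]; infer_instance
    refine le_antisymm ?_ ?_
    · exact Subgroup.zpowers_le.mpr hab
    · refine sup_le ?_ ?_
      · intro c hc
        obtain ⟨z, hz⟩ := Subgroup.mem_zpowers_iff.mp (ha ⟨c, hc⟩)
        have : c = (a : L) ^ z := by simpa using (congrArg Subtype.val hz).symm
        rw [this]
        refine zpow_mem ?_ z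
        have h := Subgroup.npow_mem_zpowers ((a : L) * b) k
        have e := (hpow a a.2 b b.2).1
        generalize (a : L) * b = u at h e ⊢
        rwa [e] at h
      · intro c hc
        obtain ⟨z, hz⟩ := Subgroup.mem_zpowers_iff.mp (hb ⟨c, hc⟩)
        have : c = (b : L) ^ z := by simpa using (congrArg Subtype.val hz).symm
        rw [this]
        refine zpow_mem ?_ z
        have h := Subgroup.npow_mem_zpowers ((a : L) * b) k'
        have e := (hpow a a.2 b b.2).2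
        generalize (a : L) * b = u at h e ⊢
        rwa [e] at h
  refine ⟨hW₁, hW₂, hdisj, hcomm, hcyc, fun X hX hne => ?_⟩
  have habel : ∀ u ∈ W₁ ⊔ W₂, ∀ v ∈ W₁ ⊔ W₂, u * v = v * u := by
    intro u hu v hv
    letI := hcyc.commGroup
    exact congrArg Subtype.val (mul_comm (⟨u, hu⟩ : ↥(W₁ ⊔ W₂)) ⟨v, hv⟩)
  apply le_antisymm
  · intro g hg
    obtain ⟨v, hv⟩ := hne
    obtain ⟨hvW, hv12⟩ := hX hv
    obtain ⟨a, ha, b, hb, rfl⟩ := hmem v hvW
    have ha1 : a ≠ 1 := by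
      rintro rfl
      exact hv12 (Or.inr (by simpa using hb))
    have hv' := (Subgroup.mem_set_normalizer_iff.mp hg (a * b)).mp hv
    obtain ⟨a', ha', b', hb', he⟩ := hmem _ (hX hv').1
    have hga : g * a * g⁻¹ = a' := by
      calc g * a * g⁻¹ = g * (a * b) ^ k * g⁻¹ := by rw [(hpow a ha b hb).1]
        _ = (g * (a * b) * g⁻¹) ^ k := (conj_pow).symm
        _ = a' := by rw [he, (hpow a' ha' b' hb').1]
    have hgm : g ∈ ((K ⊔ W₁ : Subgroup L) : Set L) := by rw [hKW₁']; trivial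
    rw [Subgroup.normal_mul] at hgm
    obtain ⟨c, hc, w, hw, rfl⟩ := Set.mem_mul.mp hgm
    letI := hW₁c.commGroup
    have hwa : w * a * w⁻¹ = a := by
      rw [congrArg Subtype.val (mul_comm (⟨w, hw⟩ : W₁) ⟨a, ha⟩) |> fun h => (h : w * a = a * w),
        mul_inv_cancel_right]
    have hca : c * a * c⁻¹ = a' := by
      rw [← hga, show c * w * a * (c * w)⁻¹ = c * (w * a * w⁻¹) * c⁻¹ by group, hwa]
    have hK1 : a⁻¹ * a' ∈ K ⊓ W₁ := by
      refine Subgroup.mem_inf.mpr ⟨?_, mul_mem (inv_mem ha) ha'⟩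
      rw [← hca, show a⁻¹ * (c * a * c⁻¹) = (a⁻¹ * c * (a⁻¹)⁻¹) * c⁻¹ by group]
      exact mul_mem (hK.conj_mem c hc _) (inv_mem hc)
    rw [hKW₁, Subgroup.mem_bot, inv_mul_eq_one] at hK1
    rw [← hK1] at hca
    have hcW : c ∈ W₂ := by
      rw [← hC a ha ha1]
      exact Subgroup.mem_inf.mpr ⟨hc, Subgroup.mem_centralizer_singleton_iff.mpr (mul_inv_eq_iff_eq_mul.mp hca)⟩
    exact mul_mem (Subgroup.mem_sup_right hcW) (Subgroup.mem_sup_left hw)
  · intro g hg
    rw [Subgroup.mem_set_normalizer_iff]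
    intro v
    constructor
    · intro hv
      rw [habel g hg v (hX hv).1, mul_inv_cancel_right]; exact hv
    · intro hv
      have := habel g⁻¹ (inv_mem hg) _ (hX hv).1
      have e : v = g⁻¹ * (g * v * g⁻¹) * g := by group
      rw [e, this, inv_mul_cancel_right]; exact hv

end Cfsg.Agent.S1510
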