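import Mathlib
import Cfsg.Statements.S1512

set_option autoImplicit false
open Cfsg

namespace Cfsg.Agent.S1512

/-- Let K be a normal subgroup of the finite group L and x a non-identity element whose order is coprime to the order of K, such that K ⊓ C_L(y) = W₂ for every non-identity element y of the cyclic group generated by x. Then the number of conjugacy classes of K mapped to themselves by conjugation by x is at most Nat.card W₂. -/
theorem result {L : Type*} [Group L] [Finite L] (K W₂ : Subgroup L) [hK : K.Normal] (x : L) (hx1 : x ≠ 1) (hx : Nat.Coprime (orderOf x) (Nat.card K)) (hC : ∀ y ∈ Subgroup.zpowers x, y ≠ 1 → K ⊓ Subgroup.centralizer ({y} : Set L) = W₂) : Nat.card {C : ConjClasses K // ConjClasses.map (MulEquiv.toMonoidHom ((MulAut.conjNormal x : MulAut K))) C = C} ≤ Nat.card W₂ := by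
  classical
  haveI : Fintype L := Fintype.ofFinite L
  have hn : orderOf x ≠ 1 := by simp [orderOf_eq_one_iff, hx1]
  obtain ⟨q, hq, hqn⟩ := Nat.exists_prime_and_dvd hn
  haveI := Fact.mk hq
  set y := x ^ (orderOf x / q) with hy
  have hyo : orderOf y = q := orderOf_pow_orderOf_div (orderOf_pos x).ne' hqn
  have hy1 : y ≠ 1 := by rw [← orderOf_eq_one_iff.ne, hyo]; exact hq.ne_one
  have hyz : y ∈ Subgroup.zpowers x := Subgroup.npow_mem_zpowers x _
  have hqK : ¬ q ∣ Nat.card K := fun h =>
    hq.not_dvd_one (Nat.Coprime.gcd_eq_one hx ▸ Nat.dvd_gcd hqn h)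
  let f : MulAut K := MulAut.conjNormal x
  let F : MulAut K := MulAut.conjNormal y
  have hF : F = f ^ (orderOf x / q) := map_pow MulAut.conjNormal x _
  have key : ∀ C : {C : ConjClasses K // ConjClasses.map f.toMonoidHom C = C},
      ∃ w : K, (w : L) ∈ W₂ ∧ ConjClasses.mk w = C.1 := by
    rintro ⟨C, hCf⟩
    have hmem : ∀ k : K, k ∈ C.carrier → f k ∈ C.carrier := by
      intro k hk
      rw [ConjClasses.mem_carrier_iff_mk_eq] at hk ⊢
      rw [← hk] at hCf
      exact hCf.trans hk
    have hmemF : ∀ k : K, k ∈ C.carrier → F k ∈ C.carrier := by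
      rw [hF]
      generalize orderOf x / q = j
      induction j with
      | zero => intro k hk; simpa using hk
      | succ j ih => intro k hk; rw [pow_succ]; exact ih _ (hmem k hk)
    have hiff : ∀ k : K, k ∈ C.carrier ↔ (F.toEquiv : Equiv.Perm K) k ∈ C.carrier := by
      intro k
      refine ⟨hmemF k, fun hk => ?_⟩
      have hinj : Set.MapsTo F C.carrier C.carrier := hmemF
      obtain ⟨k', hk', he⟩ :=
        ((C.carrier.toFinite.injOn_iff_bijOn_of_mapsTo hinj).1 F.injective.injOn).surjOn hk
      rwa [F.injective he] at hk'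
    let σ : Equiv.Perm C.carrier := Equiv.Perm.subtypePerm (F.toEquiv : Equiv.Perm K) (fun k => (hiff k).symm)
    have hσ : σ ^ q ^ 1 = 1 := by
      rw [pow_one]
      ext k
      have hFq : F ^ q = 1 := by
        show (MulAut.conjNormal y : MulAut K) ^ q = 1
        rw [← map_pow, ← hyo, pow_orderOf_eq_one, map_one]
      have hj : ∀ j : ℕ, ((σ ^ j) k : K) = (F ^ j) (k : K) := by
        intro j
        induction j with
        | zero => simp
        | succ j ih =>
          rw [pow_succ', pow_succ']
          show F (((σ ^ j) k : K)) = F ((F ^ j) (k : K))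
          rw [ih]
      rw [hj q, hFq]; rfl
    have hcard : ¬ q ∣ Fintype.card C.carrier := by
      intro h
      apply hqK
      obtain ⟨g, rfl⟩ := ConjClasses.exists_rep C
      refine h.trans ?_
      rw [← Nat.card_eq_fintype_card, ← ConjAct.orbit_eq_carrier_conjClasses,
        Nat.card_congr (MulAction.orbitEquivQuotientStabilizer (ConjAct K) g)]
      exact Subgroup.index_dvd_card _
    obtain ⟨w, hw⟩ := Equiv.Perm.exists_fixed_point_of_prime (n := 1) hcard hσ
    refine ⟨w.1, ?_, ConjClasses.mem_carrier_iff_mk_eq.mp w.2⟩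
    have hw' : y * ((w : K) : L) * y⁻¹ = ((w : K) : L) := by
      have := congrArg (fun k : C.carrier => ((k : K) : L)) hw
      simpa [σ, F] using this
    rw [← hC y hyz hy1]
    refine Subgroup.mem_inf.mpr ⟨(w : K).2, ?_⟩
    rw [Subgroup.mem_centralizer_singleton_iff]
    exact (mul_inv_eq_iff_eq_mul.mp hw').symm
  choose w hw1 hw2 using key
  refine Nat.card_le_card_of_injective (fun C => (⟨(w C : L), hw1 C⟩ : W₂)) ?_
  intro C D h
  apply Subtype.ext
  rw [← hw2 C, ← hw2 D]
  congr 1
  exact Subtype.ext (congrArg Subtype.val h :)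

end Cfsg.Agent.S1512
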