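import Cfsg.Statements.S0735
import Mathlib

set_option autoImplicit false
open Cfsg

namespace Cfsg.Agent.S0735

open MulAction Pointwise

/-- A 2-homogeneous permutation group (transitive on 2-subsets) of even order is doubly transitive; a non-trivial 2-homogeneous group is primitive. -/
theorem result {α : Type*} [Fintype α] [DecidableEq α] (G : Subgroup (Equiv.Perm α)) (h2 : MulAction.IsPretransitive G (Set.powersetCard α 2)) (hα : 3 ≤ Fintype.card α) : (Even (Nat.card G) → MulAction.IsMultiplyPretransitive G α 2) ∧ (G ≠ ⊥ → MulAction.IsPreprimitive G α) := by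
  have hmap : ∀ a b c d : α, a ≠ b → c ≠ d →
      ∃ g : G, (g • a = c ∧ g • b = d) ∨ (g • a = d ∧ g • b = c) := by
    intro a b c d hab hcd
    obtain ⟨g, hg⟩ := exists_smul_eq G (Set.powersetCard.ofCard (Finset.card_pair hab))
      (Set.powersetCard.ofCard (Finset.card_pair hcd))
    have e : g • ({a, b} : Finset α) = {c, d} := congrArg Subtype.val hg
    rw [Finset.smul_finset_insert, Finset.smul_finset_singleton] at e
    refine ⟨g, Set.pair_eq_pair_iff.mp ?_⟩
    have := congrArg (fun s : Finset α => (s : Set α)) e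
    simpa using this
  refine ⟨fun heven => ?_, fun _ => ?_⟩
  · have : Fact (Nat.Prime 2) := ⟨Nat.prime_two⟩
    obtain ⟨u, hu⟩ := exists_prime_orderOf_dvd_card' 2 (even_iff_two_dvd.mp heven)
    obtain ⟨x, hx⟩ : ∃ x : α, u • x ≠ x := by
      by_contra h
      push Not at h
      have : u = 1 := Subtype.ext (Equiv.ext fun x => h x)
      simp [this] at hu
    have huu : u • u • x = x := by rw [smul_smul, ← pow_two, ← hu, pow_orderOf_eq_one, one_smul]
    have hswap : ∀ c d : α, c ≠ d → ∃ s : G, s • c = d ∧ s • d = c := by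
      intro c d hcd
      obtain ⟨k, ⟨h1, h2⟩ | ⟨h1, h2⟩⟩ := hmap x (u • x) c d (Ne.symm hx) hcd
      · exact ⟨k * u * k⁻¹, by rw [mul_smul, mul_smul, inv_smul_eq_iff.mpr h1.symm, h2],
          by rw [mul_smul, mul_smul, inv_smul_eq_iff.mpr h2.symm, huu, h1]⟩
      · exact ⟨k * u * k⁻¹, by rw [mul_smul, mul_smul, inv_smul_eq_iff.mpr h2.symm, huu, h1],
          by rw [mul_smul, mul_smul, inv_smul_eq_iff.mpr h1.symm, h2]⟩
    rw [is_two_pretransitive_iff]
    intro a b c d hab hcd
    obtain ⟨g, h | ⟨h1, h2⟩⟩ := hmap a b c d hab hcd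
    · exact ⟨g, h⟩
    · obtain ⟨s, hs1, hs2⟩ := hswap c d hcd
      exact ⟨s * g, by rw [mul_smul, h1, hs2], by rw [mul_smul, h2, hs1]⟩
  · have hthird : ∀ a b : α, ∃ c, c ≠ a ∧ c ≠ b := by
      intro a b
      by_contra h
      push Not at h
      have hsub : (Finset.univ : Finset α) ⊆ {a, b} := fun x _ => by
        rcases eq_or_ne x a with rfl | hx
        · simp
        · simp [h x hx]
      have := (Finset.card_le_card hsub).trans Finset.card_le_two
      simp at this; omega
    have : IsPretransitive G α := by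
      refine ⟨fun a b => ?_⟩
      rcases eq_or_ne a b with rfl | hab
      · exact ⟨1, one_smul _ _⟩
      obtain ⟨c, hca, hcb⟩ := hthird a b
      obtain ⟨g, ⟨-, h⟩ | ⟨-, h⟩⟩ := hmap a b a c hab hca.symm
      · -- `b ↦ c`
        obtain ⟨k, ⟨h', -⟩ | ⟨h', -⟩⟩ := hmap a b b c hab hcb.symm
        · exact ⟨k, h'⟩
        · exact ⟨g⁻¹ * k, by rw [mul_smul, h', inv_smul_eq_iff, h]⟩
      · exact ⟨g⁻¹, by rw [inv_smul_eq_iff, h]⟩
    refine ⟨fun {B} hB => ?_⟩
    rcases B.subsingleton_or_nontrivial with h | ⟨a, ha, b, hb, hab⟩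
    · exact Or.inl h
    · refine Or.inr (Set.eq_univ_of_forall fun z => ?_)
      rcases eq_or_ne a z with rfl | haz
      · exact ha
      obtain ⟨g, ⟨h1, h2⟩ | ⟨h1, h2⟩⟩ := hmap a b a z hab haz
      · rw [← hB.smul_eq_of_mem ha (show g • a ∈ B by rwa [h1]), ← h2]
        exact Set.smul_mem_smul_set hb
      · rw [← hB.smul_eq_of_mem hb (show g • b ∈ B by rwa [h2]), ← h1]
        exact Set.smul_mem_smul_set ha

end Cfsg.Agent.S0735
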