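import Cfsg.Statements.S0695
import Cfsg.Agent.Perm.RegularNormal
import Mathlib.GroupTheory.GroupAction.MultiplePrimitivity

set_option autoImplicit false
open Cfsg

namespace Cfsg.Agent.S0695

open MulAction in
/-- In a doubly primitive group with a regular normal subgroup, the subgroup has exponent two
unless the degree is three. -/
theorem exp_two {G : Type*} [Group G] {X : Type*} [Fintype X] [MulAction G X]
    (hX : 2 ≤ Fintype.card X) (h2 : IsMultiplyPreprimitive G X 2) (N : Subgroup G) [hN : N.Normal]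
    (ht : IsPretransitive N X) (hf : ∀ x : X, stabilizer N x = ⊥) :
    Fintype.card X = 3 ∨ ∀ n ∈ N, n ^ 2 = 1 := by
  classical
  refine or_iff_not_imp_right.mpr fun hcon => ?_
  push Not at hcon
  obtain ⟨n, hn, hn2⟩ := hcon
  obtain ⟨a⟩ : Nonempty X := by
    by_contra he
    rw [not_nonempty_iff] at he
    exact absurd hX (by simp)
  have hfree := Cfsg.Agent.Perm.free_iff.mp hf
  have hn1 : n ≠ 1 := fun h => hn2 (by rw [h, one_pow])
  have hne : n • a ≠ a := fun h => hn1 (hfree n hn a h)
  have hne' : n⁻¹ • a ≠ a := fun h => hne (inv_smul_eq_iff.mp h).symm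
  have hnn : n • a ≠ n⁻¹ • a := by
    intro h
    have := Cfsg.Agent.Perm.eq_of_smul_eq_of_free hf hn (N.inv_mem hn) a h
    exact hn2 (by rw [pow_two, mul_eq_one_iff_eq_inv]; exact this)
  haveI := h2.isPreprimitive_ofFixingSubgroup (s := ({a} : Set X)) (by simp; norm_num)
  let B : Set (SubMulAction.ofFixingSubgroup G ({a} : Set X)) :=
    {x | (x : X) = n • a ∨ (x : X) = n⁻¹ • a}
  have hB : IsBlock (fixingSubgroup G ({a} : Set X)) B := by
    rw [isBlock_iff_smul_eq_or_disjoint]
    intro g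
    have hga : (g : G) • a = a := (mem_fixingSubgroup_iff G).mp g.2 a rfl
    have hgi : (g : G)⁻¹ • a = a := by rw [inv_smul_eq_iff, hga]
    rcases em (∃ x ∈ B, g • x ∈ B) with ⟨x, hx, hgx⟩ | hd
    · left
      have e1 : (g : G) • n • a = ((g : G) * n * (g : G)⁻¹) • a :=
        Cfsg.Agent.Perm.smul_conj_smul hga n
      have e2 : (g : G) • n⁻¹ • a = ((g : G) * n⁻¹ * (g : G)⁻¹) • a :=
        Cfsg.Agent.Perm.smul_conj_smul hga n⁻¹
      have hm : (g : G) * n * (g : G)⁻¹ ∈ N := hN.conj_mem n hn g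
      have hinv : (g : G) * n⁻¹ * (g : G)⁻¹ = ((g : G) * n * (g : G)⁻¹)⁻¹ := by group
      have hcase : (g : G) * n * (g : G)⁻¹ = n ∨ (g : G) * n * (g : G)⁻¹ = n⁻¹ := by
        rcases hx with hx | hx <;> rcases hgx with hgx | hgx
        all_goals rw [SubMulAction.val_smul, hx, Subgroup.smul_def] at hgx
        · exact .inl (Cfsg.Agent.Perm.eq_of_smul_eq_of_free hf hm hn a (e1.symm.trans hgx))
        · exact .inr (Cfsg.Agent.Perm.eq_of_smul_eq_of_free hf hm (N.inv_mem hn) a
            (e1.symm.trans hgx))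
        · rw [e2, hinv] at hgx
          exact .inr (inv_eq_iff_eq_inv.mp
            (Cfsg.Agent.Perm.eq_of_smul_eq_of_free hf (N.inv_mem hm) hn a hgx))
        · rw [e2, hinv] at hgx
          exact .inl (inv_inj.mp
            (Cfsg.Agent.Perm.eq_of_smul_eq_of_free hf (N.inv_mem hm) (N.inv_mem hn) a hgx))
      ext y
      rw [Set.mem_smul_set_iff_inv_smul_mem]
      show ((g⁻¹ • y : SubMulAction.ofFixingSubgroup G ({a} : Set X)) : X) = _ ∨ _ = _ ↔ _
      rw [SubMulAction.val_smul, Subgroup.smul_def, Subgroup.coe_inv, inv_smul_eq_iff,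
        inv_smul_eq_iff, e1, e2, hinv]
      rcases hcase with h | h <;> rw [h]
      · exact Iff.rfl
      · rw [inv_inv]; exact or_comm
    · right
      rw [Set.disjoint_left]
      rintro y ⟨x, hx, rfl⟩ hy
      exact hd ⟨x, hx, hy⟩
  have hmem : ∀ m : G, m • a ≠ a → m • a ∈ SubMulAction.ofFixingSubgroup G ({a} : Set X) := by
    intro m hm
    rw [SubMulAction.mem_ofFixingSubgroup_iff]
    simpa using hm
  rcases IsPreprimitive.isTrivialBlock_of_isBlock hB with h | h
  · exact absurd (congrArg Subtype.val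
      (h (x := ⟨n • a, hmem n hne⟩) (.inl rfl) (y := ⟨n⁻¹ • a, hmem n⁻¹ hne'⟩) (.inr rfl))) hnn
  · have huniv : (Finset.univ : Finset X) = {a, n • a, n⁻¹ • a} := by
      ext y
      simp only [Finset.mem_univ, Finset.mem_insert, Finset.mem_singleton, true_iff]
      by_cases hy : y = a
      · exact .inl hy
      · have hy' : (⟨y, by rw [SubMulAction.mem_ofFixingSubgroup_iff]; simpa using hy⟩ :
            SubMulAction.ofFixingSubgroup G ({a} : Set X)) ∈ B := by rw [h]; trivial
        exact .inr hy'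
    rw [← Finset.card_univ, huniv]
    simp [Finset.card_insert_of_notMem, hne.symm, hne'.symm, hnn]

/-- A regular normal subgroup of a doubly primitive group of finite degree at least 2 is an elementary abelian 2-group (and the degree is a power of 2), unless the degree is 3. -/
theorem result {G : Type*} [Group G] {X : Type*} [Fintype X] [MulAction G X] (hX : 2 ≤ Fintype.card X) (h2 : MulAction.IsMultiplyPreprimitive G X 2) (N : Subgroup G) [N.Normal] (htrans : MulAction.IsPretransitive N X) (hreg : ∀ x : X, MulAction.stabilizer N x = ⊥) : Fintype.card X = 3 ∨ (IsMulCommutative N ∧ (∀ n ∈ N, n ^ 2 = 1) ∧ ∃ m : ℕ, Fintype.card X = 2 ^ m) := by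
  refine (exp_two hX h2 N htrans hreg).imp id fun h => ?_
  haveI : Finite N := by
    obtain ⟨a⟩ : Nonempty X := Fintype.card_pos_iff.mp (by omega)
    exact Finite.of_equiv X (Cfsg.Agent.Perm.regularEquiv htrans hreg a).symm
  refine ⟨?_, h, ?_⟩
  · refine Cfsg.Agent.Perm.isMulCommutative_iff_comm.mpr fun x hx y hy => ?_
    have sq : ∀ z ∈ N, z⁻¹ = z := fun z hz => by
      rw [inv_eq_iff_mul_eq_one, ← pow_two]; exact h z hz
    calc x * y = (x * y)⁻¹ := (sq _ (N.mul_mem hx hy)).symm
      _ = y⁻¹ * x⁻¹ := mul_inv_rev x y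
      _ = y * x := by rw [sq x hx, sq y hy]
  · obtain ⟨m, hm⟩ := Cfsg.Agent.Perm.card_prime_pow_of_exp Nat.prime_two h
    obtain ⟨a⟩ : Nonempty X := Fintype.card_pos_iff.mp (by omega)
    exact ⟨m, by rw [← Nat.card_eq_fintype_card, ← Cfsg.Agent.Perm.card_eq_of_regular htrans hreg a, hm]⟩
end Cfsg.Agent.S0695
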