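import Cfsg.Statements.S0696
import Cfsg.Agent.S0695

set_option autoImplicit false
open Cfsg

namespace Cfsg.Agent.S0696

/-- A triply primitive group of degree at least 3 having a regular normal subgroup has degree 3 or 4. -/
theorem result {G : Type*} [Group G] {X : Type*} [Fintype X] [MulAction G X] (hX : 3 ≤ Fintype.card X) (h3 : MulAction.IsMultiplyPreprimitive G X 3) (N : Subgroup G) [N.Normal] (htrans : MulAction.IsPretransitive N X) (hreg : ∀ x : X, MulAction.stabilizer N x = ⊥) : Fintype.card X = 3 ∨ Fintype.card X = 4 := by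
  classical
  have hE : ((3 : ℕ) : ℕ∞) ≤ ENat.card X := by
    rw [ENat.card_eq_coe_fintype_card]; exact_mod_cast hX
  have h2 : MulAction.IsMultiplyPreprimitive G X 2 :=
    MulAction.isMultiplyPreprimitive_of_le G X h3 (by norm_num) hE
  rcases Cfsg.Agent.S0695.exp_two (by omega) h2 N htrans hreg with h | hexp
  · exact .inl h
  refine .inr ?_
  have hfree := Cfsg.Agent.Perm.free_iff.mp hreg
  obtain ⟨a, b, x, hab, hax, hbx⟩ := Fintype.two_lt_card_iff.mp (by omega : 2 < Fintype.card X)
  obtain ⟨n, hn, rfl⟩ := Cfsg.Agent.Perm.exists_mem_smul_eq htrans a b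
  have hnn : ∀ y : X, n • n • y = y := fun y => by
    rw [← mul_smul, ← pow_two, hexp n hn, one_smul]
  have hn1 : n ≠ 1 := by rintro rfl; exact hab (one_smul G a).symm
  haveI := h3.isPreprimitive_ofFixingSubgroup (s := ({a, n • a} : Set X))
    (by rw [Set.encard_pair hab]; norm_num)
  have hnx : n • x ∉ ({a, n • a} : Set X) := by
    simp only [Set.mem_insert_iff, Set.mem_singleton_iff]
    rintro (h | h)
    · exact hbx (by rw [← h, hnn])
    · exact hax ((MulAction.injective n) h).symm
  have hx' : x ∉ ({a, n • a} : Set X) := by simp [Ne.symm hax, Ne.symm hbx]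
  let B : Set (SubMulAction.ofFixingSubgroup G ({a, n • a} : Set X)) :=
    {y | (y : X) = x ∨ (y : X) = n • x}
  have hB : MulAction.IsBlock (fixingSubgroup G ({a, n • a} : Set X)) B := by
    rw [MulAction.isBlock_iff_smul_eq_or_disjoint]
    intro g
    have hga : (g : G) • a = a := (mem_fixingSubgroup_iff G).mp g.2 a (by simp)
    have hgb : (g : G) • n • a = n • a := (mem_fixingSubgroup_iff G).mp g.2 _ (by simp)
    have hconj : (g : G) * n * (g : G)⁻¹ = n :=
      Cfsg.Agent.Perm.eq_of_smul_eq_of_free hreg (Subgroup.Normal.conj_mem ‹_› n hn _) hn a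
        (by rw [← Cfsg.Agent.Perm.smul_conj_smul hga, hgb])
    have hcomm : ∀ y : X, (g : G) • n • y = n • (g : G) • y := fun y => by
      rw [← mul_smul, ← mul_smul, mul_inv_eq_iff_eq_mul.mp hconj]
    rcases em (∃ y ∈ B, g • y ∈ B) with ⟨y, hy, hgy⟩ | hd
    · left
      have hgx : (g : G) • x = x ∨ (g : G) • x = n • x := by
        rcases hy with hy | hy <;> rcases hgy with hgy | hgy
        all_goals rw [SubMulAction.val_smul, hy, Subgroup.smul_def] at hgy
        · exact .inl hgy
        · exact .inr hgy
        · rw [hcomm] at hgy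
          exact .inr (by rw [← hnn ((g : G) • x), hgy])
        · rw [hcomm] at hgy
          exact .inl (MulAction.injective n hgy)
      ext z
      rw [Set.mem_smul_set_iff_inv_smul_mem]
      show ((g⁻¹ • z : SubMulAction.ofFixingSubgroup G ({a, n • a} : Set X)) : X) = _ ∨ _ = _ ↔ _
      rw [SubMulAction.val_smul, Subgroup.smul_def, Subgroup.coe_inv, inv_smul_eq_iff,
        inv_smul_eq_iff, hcomm]
      rcases hgx with h | h <;> rw [h]
      · exact Iff.rfl
      · rw [hnn]; exact or_comm
    · right
      rw [Set.disjoint_left]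
      rintro z ⟨y, hy, rfl⟩ hz
      exact hd ⟨y, hy, hz⟩
  rcases MulAction.IsPreprimitive.isTrivialBlock_of_isBlock hB with h | h
  · exact absurd (hfree n hn x (congrArg Subtype.val
      (h (x := ⟨n • x, hnx⟩) (.inr rfl) (y := ⟨x, hx'⟩) (.inl rfl)))) hn1
  · have huniv : (Finset.univ : Finset X) = {a, n • a, x, n • x} := by
      ext y
      simp only [Finset.mem_univ, Finset.mem_insert, Finset.mem_singleton, true_iff]
      by_cases hy : y ∈ ({a, n • a} : Set X)
      · rcases hy with hy | hy
        · exact .inl hy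
        · exact .inr (.inl hy)
      · have hy' : (⟨y, hy⟩ : SubMulAction.ofFixingSubgroup G ({a, n • a} : Set X)) ∈ B := by
          rw [h]; trivial
        exact .inr (.inr hy')
    have hnxx : n • x ≠ x := fun e => hn1 (hfree n hn x e)
    simp only [Set.mem_insert_iff, Set.mem_singleton_iff, not_or] at hnx
    rw [← Finset.card_univ, huniv]
    simp [Finset.card_insert_of_notMem, hab, hax, hbx, Ne.symm hnxx, Ne.symm hnx.1, Ne.symm hnx.2]
end Cfsg.Agent.S0696
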