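import Cfsg.Statements.S0011

set_option autoImplicit false
open Cfsg

namespace Cfsg.Agent.S0011

/-- If the Frattini quotient of a finite group is nilpotent then the group is nilpotent. -/
theorem result {G : Type*} [Group G] [Finite G]
    (h : Group.IsNilpotent (G ⧸ frattini G)) : Group.IsNilpotent G := by
  have h4 := (Group.isNilpotent_of_finite_tfae (G := G ⧸ frattini G)).out 0 3
  apply ((Group.isNilpotent_of_finite_tfae (G := G)).out 0 3).2
  intro p hp P
  have := hp
  have hn := (h4.1 h) p hp (P.mapSurjective (QuotientGroup.mk'_surjective (frattini G)))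
  rw [Sylow.coe_mapSurjective] at hn
  let N : Subgroup G := ((P : Subgroup G).map (QuotientGroup.mk' (frattini G))).comap (QuotientGroup.mk' (frattini G))
  have hN : N = (P : Subgroup G) ⊔ frattini G := by
    simp [N, Subgroup.comap_map_eq, QuotientGroup.ker_mk']
  have : N.Normal := hn.comap _
  have hPN : (P : Subgroup G) ≤ N := hN ▸ le_sup_left
  have key := Sylow.normalizer_sup_eq_top' P hPN
  have : Subgroup.normalizer ((P : Subgroup G) : Set G) ⊔ frattini G = ⊤ := by
    apply top_le_iff.1
    rw [← key, hN]
    exact sup_le le_sup_left (sup_le (le_trans Subgroup.le_normalizer le_sup_left) le_sup_right)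
  exact Subgroup.normalizer_eq_top_iff.1 (frattini_nongenerating this)

end Cfsg.Agent.S0011
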