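import Cfsg.Statements.S0012

set_option autoImplicit false
open Cfsg

namespace Cfsg.Agent.S0012

/-- In a finite p-group every commutator and every p-th power lies in the Frattini subgroup, so the Frattini quotient is elementary abelian. -/
theorem result {G : Type*} [Group G] [Finite G] (p : ℕ) [Fact p.Prime]
    (hG : IsPGroup p G) : commutator G ≤ frattini G ∧ ∀ x : G, x ^ p ∈ frattini G := by
  have hnil : Group.IsNilpotent G := hG.isNilpotent
  have key : ∀ M : Subgroup G, IsCoatom M → commutator G ≤ M ∧ ∀ x : G, x ^ p ∈ M := by
    intro M hM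
    have h2 : Group.IsNilpotent G ↔ ∀ H : Subgroup G, IsCoatom H → H.Normal :=
      (Group.isNilpotent_of_finite_tfae (G := G)).out 0 2
    have hMn : M.Normal := h2.1 hnil M hM
    have hnt : Nontrivial (G ⧸ M) := QuotientGroup.nontrivial_iff.2 hM.1
    have hQ : IsPGroup p (G ⧸ M) := hG.to_quotient M
    obtain ⟨z, hz⟩ := exists_prime_orderOf_dvd_card' p
      ((hQ.card_eq_or_dvd).resolve_left (Nat.ne_of_gt Finite.one_lt_card))
    have htop : Subgroup.zpowers z = ⊤ := by
      have hle : M ≤ (Subgroup.zpowers z).comap (QuotientGroup.mk' M) := fun m hm => by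
        simp [(QuotientGroup.eq_one_iff m).2 hm]
      rcases hM.le_iff.1 hle with h | h
      · have h' := congrArg (Subgroup.map (QuotientGroup.mk' M)) h
        rwa [Subgroup.map_comap_eq_self_of_surjective (QuotientGroup.mk'_surjective M),
          Subgroup.map_top_of_surjective _ (QuotientGroup.mk'_surjective M)] at h'
      · exfalso
        have h' := congrArg (Subgroup.map (QuotientGroup.mk' M)) h
        rw [Subgroup.map_comap_eq_self_of_surjective (QuotientGroup.mk'_surjective M)] at h'
        have : z = 1 := by
          have hz' : z ∈ M.map (QuotientGroup.mk' M) := h' ▸ Subgroup.mem_zpowers z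
          obtain ⟨m, hm, rfl⟩ := hz'
          simpa using hm
        rw [this, orderOf_one] at hz
        exact (Fact.out : p.Prime).one_lt.ne hz
    have hcard : Nat.card (G ⧸ M) = p := by
      rw [← Subgroup.card_top (G := G ⧸ M), ← htop, Nat.card_zpowers, hz]
    have : IsCyclic (G ⧸ M) := isCyclic_of_prime_card hcard
    refine ⟨?_, fun x => ?_⟩
    · rw [commutator_def, Subgroup.commutator_le]
      intro a _ b _
      rw [← QuotientGroup.eq_one_iff]
      simp only [commutatorElement_def, QuotientGroup.mk_mul, QuotientGroup.mk_inv]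
      have hc : (a : G ⧸ M) * b = b * a :=
        Std.Commutative.comm (self := (IsCyclic.isMulCommutative : IsMulCommutative (G ⧸ M)).is_comm) _ _
      rw [hc]; group
    · rw [← QuotientGroup.eq_one_iff, QuotientGroup.mk_pow, ← hcard, pow_card_eq_one']
  refine ⟨?_, fun x => ?_⟩
  · simp only [frattini, Order.radical, le_iInf_iff]
    exact fun M hM => (key M hM).1
  · simp only [frattini, Order.radical, Subgroup.mem_iInf]
    exact fun M hM => (key M hM).2 x

end Cfsg.Agent.S0012
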