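import Cfsg.Statements.S0018
import Cfsg.Agent.S0017
import Cfsg.Agent.Cores.PCore

set_option autoImplicit false
open Cfsg

namespace Cfsg.Agent.S0018

/-- A finite solvable group whose Sylow p-subgroups are abelian has p-length one: a Sylow p-subgroup together with the largest normal subgroup of order prime to p generates a normal subgroup. -/
theorem result {G : Type*} [Group G] [Finite G] [Group.IsSolvable G]
    (p : ℕ) [Fact p.Prime] (P : Sylow p G) (hP : IsMulCommutative P) :
    ((P : Subgroup G) ⊔ Cfsg.pPrimeCore p G).Normal := by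
  let O := Cfsg.pPrimeCore p G
  let Q := Cfsg.pCore p (G ⧸ O)
  have hC := Cfsg.Agent.S0017.result (G := G ⧸ O) p (Cfsg.Agent.Cores.pPrimeCore_quotient_pPrimeCore)
  let P' := P.mapSurjective (QuotientGroup.mk'_surjective O)
  have hQP : Q ≤ (P' : Subgroup (G ⧸ O)) := Cfsg.Agent.Cores.pCore_le_sylow P'
  have hle : (P' : Subgroup (G ⧸ O)) ≤ Q := by
    refine le_trans ?_ hC
    intro x hx
    rw [Subgroup.mem_centralizer_iff]
    intro y hy
    have hy' := hQP hy
    rw [Sylow.coe_mapSurjective] at hx hy'
    obtain ⟨a, ha, rfl⟩ := hx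
    obtain ⟨b, hb, rfl⟩ := hy'
    rw [← map_mul, ← map_mul, Subgroup.mem_centralizer_iff.1 (Subgroup.le_centralizer (P : Subgroup G) ha) b hb]
  have hn : (P' : Subgroup (G ⧸ O)).Normal := by
    rw [le_antisymm hle hQP]; infer_instance
  have h2 := hn.comap (QuotientGroup.mk' O)
  rwa [Sylow.coe_mapSurjective, Subgroup.comap_map_eq, QuotientGroup.ker_mk'] at h2

end Cfsg.Agent.S0018
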