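import Cfsg.Statements.S0020
import Cfsg.Agent.Hall.CardForms
import Cfsg.Agent.H24.Basic

set_option autoImplicit false
open Pointwise
open Cfsg

namespace Cfsg.Agent.S0020

theorem index_inf_finset {G : Type*} [Group G] [Finite G] (H : ℕ → Subgroup G) :
    ∀ T : Finset ℕ, (∀ r ∈ T, r.Prime) → (∀ r ∈ T, (H r).index = r ^ (Nat.card G).factorization r) →
      (T.inf H).index = ∏ r ∈ T, r ^ (Nat.card G).factorization r := by
  intro T
  induction T using Finset.induction_on with
  | empty => simp
  | @insert a T ha ih =>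
    intro hp hidx
    have ih' := ih (fun r hr => hp r (Finset.mem_insert_of_mem hr))
      (fun r hr => hidx r (Finset.mem_insert_of_mem hr))
    rw [Finset.inf_insert, Finset.prod_insert ha]
    have hcop : (H a).index.Coprime (T.inf H).index := by
      rw [hidx a (Finset.mem_insert_self a T), ih']
      refine Nat.Coprime.prod_right fun r hr => (Nat.Coprime.pow _ _ ?_)
      exact (Nat.coprime_primes (hp a (Finset.mem_insert_self a T)) (hp r (Finset.mem_insert_of_mem hr))).2
        fun h => ha (h ▸ hr)
    have h1 : (H a ⊓ T.inf H).relIndex (T.inf H) * (T.inf H).index = (H a ⊓ T.inf H).index :=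
      Subgroup.relIndex_mul_index inf_le_right
    rw [Subgroup.inf_relIndex_right, Cfsg.Agent.H24.relIndex_eq_index_of_coprime _ _ hcop] at h1
    rw [← h1, ih', hidx a (Finset.mem_insert_self a T)]

/-- A finite solvable group admits a Sylow system: Sylow subgroups, one for each prime, that pairwise permute as sets. -/
theorem result {G : Type*} [Group G] [Finite G] [Group.IsSolvable G] :
    ∃ S : (p : Nat.Primes) → Sylow (p : ℕ) G,
      ∀ p q : Nat.Primes, (S p : Set G) * (S q : Set G) = (S q : Set G) * (S p : Set G) := by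
  classical
  let f := (Nat.card G).factorization
  let P := (Nat.card G).primeFactors
  have hex : ∀ r : ℕ, ∃ H : Subgroup G, r.Prime → H.index = r ^ f r := fun r => by
    by_cases hr : r.Prime
    · have hd : r ^ f r ∣ Nat.card G := Nat.ordProj_dvd _ _
      obtain ⟨H, hH⟩ := Cfsg.Agent.Hall.exists_subgroup_card (G := G) (m := Nat.card G / r ^ f r)
        (n := r ^ f r) (Nat.div_mul_cancel hd).symm
        (((Nat.coprime_ordCompl hr Nat.card_pos.ne').pow_left _).symm)
      refine ⟨H, fun _ => ?_⟩
      have h := H.card_mul_index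
      rw [hH] at h
      exact Nat.eq_of_mul_eq_mul_left
        (Nat.pos_of_ne_zero (fun h0 => Nat.card_pos.ne' (hH.trans h0))) (h.trans (Nat.div_mul_cancel hd).symm)
    · exact ⟨⊤, fun h => absurd h hr⟩
  choose H hH using hex
  let W : Finset ℕ → Subgroup G := fun T => (P \ T).inf H
  have hprod : ∏ r ∈ P, r ^ f r = Nat.card G :=
    Nat.prod_factorization_pow_eq_self (n := Nat.card G) Nat.card_pos.ne'
  have hW : ∀ T : Finset ℕ, Nat.card (W T) = ∏ r ∈ P ∩ T, r ^ f r := by
    intro T
    have hi := index_inf_finset H (P \ T) (fun r hr => Nat.prime_of_mem_primeFactors (Finset.mem_sdiff.1 hr).1)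
      (fun r hr => hH r (Nat.prime_of_mem_primeFactors (Finset.mem_sdiff.1 hr).1))
    have hpos : 0 < ∏ r ∈ P \ T, r ^ f r :=
      Finset.prod_pos fun r hr => pow_pos (Nat.prime_of_mem_primeFactors (Finset.mem_sdiff.1 hr).1).pos _
    refine Nat.eq_of_mul_eq_mul_right hpos ?_
    show Nat.card ((P \ T).inf H : Subgroup G) * _ = _
    rw [← hi, Subgroup.card_mul_index, hi, mul_comm, mul_comm, Finset.prod_inter_mul_prod_diff, hprod]
  have hsingle : ∀ p : ℕ, ∏ r ∈ P ∩ {p}, r ^ f r = p ^ f p := by
    intro p
    by_cases hp : p ∈ P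
    · rw [Finset.inter_singleton_of_mem hp, Finset.prod_singleton]
    · rw [Finset.inter_singleton_of_notMem hp, Finset.prod_empty]
      have : f p = 0 := Finsupp.notMem_support_iff.1 (by simpa [f, P, Nat.support_factorization] using hp)
      rw [this, pow_zero]
  refine ⟨fun p => haveI : Fact p.1.Prime := ⟨p.2⟩; Sylow.ofCard (W {p.1}) ((hW _).trans (hsingle _)), fun p q => ?_⟩
  show (W {p.1} : Set G) * (W {q.1} : Set G) = (W {q.1} : Set G) * (W {p.1} : Set G)
  by_cases hpq : p = q
  · rw [hpq]
  have hne : p.1 ≠ q.1 := fun h => hpq (Subtype.ext h)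
  have main : ∀ a b : ℕ, a.Prime → b.Prime → a ≠ b →
      (W {a} : Set G) * (W {b} : Set G) = (W {a, b} : Set G) := by
    intro a b ha hb hab
    have hsub : ∀ c ∈ ({a, b} : Finset ℕ), W {c} ≤ W {a, b} := fun c hc =>
      Finset.inf_mono (Finset.sdiff_subset_sdiff le_rfl (Finset.singleton_subset_iff.2 hc))
    have hle : (W {a} : Set G) * (W {b} : Set G) ⊆ (W {a, b} : Set G) := by
      rintro _ ⟨x, hx, y, hy, rfl⟩
      exact mul_mem (hsub a (by simp) hx) (hsub b (by simp) hy)
    refine Set.eq_of_subset_of_ncard_le hle ?_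
    have hcop : (Nat.card (W {a})).Coprime (Nat.card (W {b})) := by
      rw [hW, hW, hsingle, hsingle]; exact ((Nat.coprime_primes ha hb).2 hab).pow _ _
    have hinj := Subgroup.mul_injective_of_disjoint (Subgroup.disjoint_of_coprime_natCard hcop)
    have hcard : Nat.card (W {a, b}) = Nat.card (W {a}) * Nat.card (W {b}) := by
      rw [hW, hW, hW, hsingle, hsingle]
      rw [show ({a, b} : Finset ℕ) = {a} ∪ {b} from rfl, Finset.inter_union_distrib_left,
        Finset.prod_union (Finset.disjoint_of_subset_left Finset.inter_subset_right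
          (Finset.disjoint_of_subset_right Finset.inter_subset_right (by simpa using hab))),
        hsingle, hsingle]
    rw [← Nat.card_coe_set_eq, ← Nat.card_coe_set_eq]
    show Nat.card (W {a, b}) ≤ _
    rw [hcard, ← Nat.card_prod]
    refine Nat.card_le_card_of_injective
      (fun g : W {a} × W {b} => (⟨g.1.1 * g.2.1, Set.mul_mem_mul g.1.2 g.2.2⟩ :
        ((W {a} : Set G) * (W {b} : Set G) : Set G))) fun g g' h => hinj (congrArg Subtype.val h)
  rw [main p q p.2 q.2 hne, main q p q.2 p.2 hne.symm, Finset.pair_comm]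

end Cfsg.Agent.S0020
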