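import Cfsg.Statements.S0046
import Cfsg.Agent.Frobenius.KernelTheorem
import Mathlib.GroupTheory.Nilpotent

set_option autoImplicit false
open Cfsg

namespace Cfsg.Agent.S0046

theorem false_of_simple {G : Type*} [Group G] [Finite G] [IsSimpleGroup G]
    (hns : ¬ Group.IsSolvable G) (h : ∀ M : Subgroup G, IsCoatom M → Group.IsNilpotent M) : False := by
  have hlt : ∀ M : Subgroup G, IsCoatom M → ∀ D : Subgroup G, D < M →
      ∃ y ∈ M ⊓ Subgroup.normalizer (D : Set G), y ∉ D := by
    intro M hM D hD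
    have := h M hM
    have hne : D.subgroupOf M ≠ ⊤ := fun e => hD.not_ge (Subgroup.subgroupOf_eq_top.1 e)
    obtain ⟨y, hy, hyD⟩ := SetLike.exists_of_lt
      (normalizerCondition_of_isNilpotent (G := M) _ hne.lt_top)
    refine ⟨y, Subgroup.mem_inf.2 ⟨y.2, Subgroup.mem_normalizer_iff.2 fun d => ⟨fun hd => ?_, fun hd => ?_⟩⟩, hyD⟩
    · exact (Subgroup.mem_normalizer_iff.1 hy ⟨d, hD.le hd⟩).1 hd
    · have hdM : d ∈ M := by
        have := mul_mem (mul_mem (inv_mem y.2) (hD.le hd)) y.2
        simpa [mul_assoc] using this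
      exact (Subgroup.mem_normalizer_iff.1 hy ⟨d, hdM⟩).2 hd
  -- distinct maximal subgroups meet trivially
  have hTI : ∀ M₁ M₂ : Subgroup G, IsCoatom M₁ → IsCoatom M₂ → M₁ ≠ M₂ → M₁ ⊓ M₂ = ⊥ := by
    by_contra hc
    push Not at hc
    obtain ⟨A, B, hA, hB, hAB, hne⟩ := hc
    obtain ⟨D, hD⟩ := (Set.toFinite {D : Subgroup G | D ≠ ⊥ ∧ ∃ A B : Subgroup G,
      IsCoatom A ∧ IsCoatom B ∧ A ≠ B ∧ A ⊓ B = D}).exists_maximal ⟨_, hne, A, B, hA, hB, hAB, rfl⟩
    obtain ⟨hDb, M₁, M₂, h1, h2, h12, he⟩ := hD.1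
    have hN : Subgroup.normalizer (D : Set G) ≠ ⊤ := fun e => by
      rcases IsSimpleGroup.eq_bot_or_eq_top_of_normal D (Subgroup.normalizer_eq_top_iff.1 e) with h' | h'
      · exact hDb h'
      · exact h1.1 (top_le_iff.1 (h' ▸ he ▸ inf_le_left))
    obtain ⟨M₃, h3, hNM⟩ := (eq_top_or_exists_le_coatom _).resolve_left hN
    have key : ∀ A B : Subgroup G, IsCoatom A → IsCoatom B → A ≠ B → A ⊓ B = D → A = M₃ := by
      intro A B hA hB hAB he'
      by_contra hne3
      have hDA : D ≤ A := he' ▸ inf_le_left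
      have hDA' : D < A := lt_of_le_of_ne hDA fun e => by
        have : A ≤ B := e ▸ he' ▸ inf_le_right
        exact hAB ((hA.le_iff.1 this).resolve_left hB.1).symm
      obtain ⟨y, hy, hyD⟩ := hlt A hA D hDA'
      have hle : D ≤ A ⊓ M₃ := le_inf hDA (Subgroup.le_normalizer.trans hNM)
      exact hyD (hD.2 ⟨fun e => hDb (le_bot_iff.1 (e ▸ hle)), A, M₃, hA, h3, hne3, rfl⟩ hle
        ⟨hy.1, hNM hy.2⟩)
    exact h12 ((key M₁ M₂ h1 h2 h12 he).trans (key M₂ M₁ h2 h1 h12.symm (by rw [inf_comm, he])).symm)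
  -- a maximal subgroup is a Frobenius complement
  have hbot : (⊥ : Subgroup G) ≠ ⊤ := bot_ne_top
  obtain ⟨M, hM, -⟩ := (eq_top_or_exists_le_coatom (⊥ : Subgroup G)).resolve_left hbot
  have hMb : M ≠ ⊥ := by
    rintro rfl
    apply hns
    obtain ⟨g, hg⟩ := exists_ne (1 : G)
    have htop : Subgroup.zpowers g = ⊤ := hM.2 _ (bot_lt_iff_ne_bot.2 (by simpa using hg))
    have : IsCyclic G := ⟨⟨g, fun x => Subgroup.mem_zpowers_iff.1 (htop ▸ Subgroup.mem_top x : x ∈ Subgroup.zpowers g)⟩⟩
    exact Group.isSolvable_of_comm (IsCyclic.isMulCommutative (α := G)).is_comm.comm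
  have hF : Cfsg.IsFrobeniusComplement M := by
    refine ⟨hMb, hM.1, fun g hg => hTI M _ hM ?_ fun e => hg ?_⟩
    · exact (OrderIso.isCoatom_iff (MulEquiv.mapSubgroup (MulAut.conj g)) M).2 hM
    · have hgn : g ∈ Subgroup.normalizer (M : Set G) := Subgroup.mem_normalizer_iff_map_conj_eq.2 e.symm
      have hnM : Subgroup.normalizer (M : Set G) ≠ ⊤ := fun e' => by
        rcases IsSimpleGroup.eq_bot_or_eq_top_of_normal M (Subgroup.normalizer_eq_top_iff.1 e') with h' | h'
        · exact hMb h'
        · exact hM.1 h'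
      exact ((hM.le_iff.1 Subgroup.le_normalizer).resolve_left hnM) ▸ hgn
  obtain ⟨N, -, hN, hc⟩ := Cfsg.Agent.Frobenius.exists_kernel hF
  rcases IsSimpleGroup.eq_bot_or_eq_top_of_normal N hN with rfl | rfl
  · exact hM.1 (Subgroup.isComplement'_bot_left.1 hc)
  · exact hMb (Subgroup.isComplement'_top_left.1 hc)

theorem schmidt : ∀ (n : ℕ) (G : Type*) [Group G] [Finite G], Nat.card G = n →
    (∀ M : Subgroup G, IsCoatom M → Group.IsNilpotent M) → Group.IsSolvable G := by
  intro n
  induction n using Nat.strong_induction_on with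
  | _ n ih =>
    intro G _ _ hn h
    by_cases hns : Group.IsSolvable G
    · exact hns
    have : Nontrivial G := by
      by_contra h'
      rw [not_nontrivial_iff_subsingleton] at h'
      exact hns inferInstance
    by_cases hsimple : ∀ N : Subgroup G, N.Normal → N = ⊥ ∨ N = ⊤
    · exact (@false_of_simple G _ _ { eq_bot_or_eq_top_of_normal := hsimple } hns h).elim
    · push Not at hsimple
      obtain ⟨N, hN, hNb, hNt⟩ := hsimple
      obtain ⟨M, hM, hNM⟩ := (eq_top_or_exists_le_coatom N).resolve_left hNt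
      have hMn := h M hM
      have hNs : Group.IsSolvable N :=
        Group.isSolvable_of_isSolvable_injective (Subgroup.inclusion_injective hNM)
      have hQ : Group.IsSolvable (G ⧸ N) := by
        refine ih _ ?_ (G ⧸ N) rfl fun L hL => ?_
        · have := (Subgroup.nontrivial_iff_ne_bot N).2 hNb
          rw [← hn, Subgroup.card_eq_card_quotient_mul_card_subgroup N]
          exact lt_mul_of_one_lt_right Nat.card_pos Finite.one_lt_card
        · let π := QuotientGroup.mk' N
          have hπ : Function.Surjective π := QuotientGroup.mk'_surjective N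
          have hne : L.comap π ≠ ⊤ := fun e => hL.1 (by
            rw [← Subgroup.map_comap_eq_self_of_surjective hπ L, e, Subgroup.map_top_of_surjective _ hπ])
          obtain ⟨K, hK, hLK⟩ := (eq_top_or_exists_le_coatom _).resolve_left hne
          have := h K hK
          have hnil : Group.IsNilpotent (L.comap π) :=
            Group.nilpotent_of_mulEquiv (Subgroup.subgroupOfEquivOfLe hLK)
          exact Group.nilpotent_of_surjective (π.subgroupComap L) fun ⟨y, hy⟩ => by
            obtain ⟨x, rfl⟩ := hπ y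
            exact ⟨⟨x, hy⟩, rfl⟩
      exact Group.isSolvable_of_ker_le_range N.subtype (QuotientGroup.mk' N) (by simp)

/-- Schmidt's Theorem on minimal non-nilpotent groups: a finite group in which every maximal subgroup is nilpotent is solvable. -/
theorem result {G : Type*} [Group G] [Finite G]
    (h : ∀ M : Subgroup G, IsCoatom M → Group.IsNilpotent M) : Group.IsSolvable G := by
  exact schmidt _ G rfl h

end Cfsg.Agent.S0046
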