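import Cfsg.Statements.S0047
import Mathlib.Tactic.Group

set_option autoImplicit false
open Cfsg
open scoped commutatorElement

namespace Cfsg.Agent.S0047

theorem ito {G : Type*} [Group G] (A B : Subgroup G) [IsMulCommutative A] [IsMulCommutative B]
    (hAB : ∀ g : G, ∃ a ∈ A, ∃ b ∈ B, g = a * b) : Group.IsSolvable G := by
  have hA : ∀ x ∈ A, ∀ y ∈ A, x * y = y * x := fun x hx y hy =>
    Subgroup.mem_centralizer_iff.1 (Subgroup.le_centralizer A hy) x hx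
  have hB : ∀ x ∈ B, ∀ y ∈ B, x * y = y * x := fun x hx y hy =>
    Subgroup.mem_centralizer_iff.1 (Subgroup.le_centralizer B hy) x hx
  have hBA : ∀ g : G, ∃ b ∈ B, ∃ a ∈ A, g = b * a := fun g => by
    obtain ⟨a, ha, b, hb, h⟩ := hAB g⁻¹
    exact ⟨b⁻¹, inv_mem hb, a⁻¹, inv_mem ha, by rw [← mul_inv_rev, ← h, inv_inv]⟩
  -- conjugating a generator by an element of `A` keeps the left entry
  have keyA : ∀ a ∈ A, ∀ b ∈ B, ∀ a₁ ∈ A, ∀ b₂ ∈ B, ∀ a₂ ∈ A, a₁ * b * a₁⁻¹ = b₂ * a₂ →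
      a₁ * ⁅a, b⁆ * a₁⁻¹ = ⁅a, b₂⁆ := by
    intro a ha b _ a₁ ha₁ b₂ _ a₂ ha₂ he
    have e1 : a₁ * a * a₁⁻¹ = a := by rw [hA a₁ ha₁ a ha, mul_inv_cancel_right]
    have e2 : a₂ * a⁻¹ * a₂⁻¹ = a⁻¹ := by rw [hA a₂ ha₂ a⁻¹ (inv_mem ha), mul_inv_cancel_right]
    calc a₁ * ⁅a, b⁆ * a₁⁻¹
        = (a₁ * a * a₁⁻¹) * (a₁ * b * a₁⁻¹) * (a₁ * a * a₁⁻¹)⁻¹ * (a₁ * b * a₁⁻¹)⁻¹ := by
          simp only [commutatorElement_def]; group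
      _ = a * b₂ * (a₂ * a⁻¹ * a₂⁻¹) * b₂⁻¹ := by rw [e1, he]; group
      _ = ⁅a, b₂⁆ := by rw [e2, commutatorElement_def]
  have keyB : ∀ a ∈ A, ∀ b ∈ B, ∀ b₁ ∈ B, ∀ a₃ ∈ A, ∀ b₃ ∈ B, b₁ * a * b₁⁻¹ = a₃ * b₃ →
      b₁ * ⁅a, b⁆ * b₁⁻¹ = ⁅a₃, b⁆ := by
    intro a _ b hb b₁ hb₁ a₃ _ b₃ hb₃ he
    have e1 : b₁ * b * b₁⁻¹ = b := by rw [hB b₁ hb₁ b hb, mul_inv_cancel_right]
    have e2 : b₃ * b * b₃⁻¹ = b := by rw [hB b₃ hb₃ b hb, mul_inv_cancel_right]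
    calc b₁ * ⁅a, b⁆ * b₁⁻¹
        = (b₁ * a * b₁⁻¹) * (b₁ * b * b₁⁻¹) * (b₁ * a * b₁⁻¹)⁻¹ * (b₁ * b * b₁⁻¹)⁻¹ := by
          simp only [commutatorElement_def]; group
      _ = a₃ * (b₃ * b * b₃⁻¹) * a₃⁻¹ * b⁻¹ := by rw [e1, he]; group
      _ = ⁅a₃, b⁆ := by rw [e2, commutatorElement_def]
  let S : Set G := {x | ∃ a ∈ A, ∃ b ∈ B, ⁅a, b⁆ = x}
  have hconj : ∀ g : G, ∀ x ∈ S, g * x * g⁻¹ ∈ S := by
    rintro g _ ⟨a, ha, b, hb, rfl⟩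
    obtain ⟨a₁, ha₁, b₁, hb₁, rfl⟩ := hAB g
    obtain ⟨a₃, ha₃, b₃, hb₃, h3⟩ := hAB (b₁ * a * b₁⁻¹)
    obtain ⟨b₂, hb₂, a₂, ha₂, h2⟩ := hBA (a₁ * b * a₁⁻¹)
    refine ⟨a₃, ha₃, b₂, hb₂, ?_⟩
    calc ⁅a₃, b₂⁆ = a₁ * ⁅a₃, b⁆ * a₁⁻¹ := (keyA a₃ ha₃ b hb a₁ ha₁ b₂ hb₂ a₂ ha₂ h2).symm
      _ = a₁ * (b₁ * ⁅a, b⁆ * b₁⁻¹) * a₁⁻¹ := by rw [keyB a ha b hb b₁ hb₁ a₃ ha₃ b₃ hb₃ h3]
      _ = a₁ * b₁ * ⁅a, b⁆ * (a₁ * b₁)⁻¹ := by group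
  have hcomm : ∀ x ∈ S, ∀ y ∈ S, x * y = y * x := by
    rintro _ ⟨a, ha, b, hb, rfl⟩ _ ⟨u, hu, v, hv, rfl⟩
    have ha₁ : u⁻¹ ∈ A := inv_mem hu
    have hb₁ : v⁻¹ ∈ B := inv_mem hv
    obtain ⟨a₃, ha₃, b₃, hb₃, h3⟩ := hAB (v⁻¹ * a * (v⁻¹)⁻¹)
    obtain ⟨b₂, hb₂, a₂, ha₂, h2⟩ := hBA (u⁻¹ * b * (u⁻¹)⁻¹)
    have e1 : u⁻¹ * (v⁻¹ * ⁅a, b⁆ * (v⁻¹)⁻¹) * (u⁻¹)⁻¹ = ⁅a₃, b₂⁆ := by
      rw [keyB a ha b hb _ hb₁ a₃ ha₃ b₃ hb₃ h3, keyA a₃ ha₃ b hb _ ha₁ b₂ hb₂ a₂ ha₂ h2]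
    have e2 : v⁻¹ * (u⁻¹ * ⁅a, b⁆ * (u⁻¹)⁻¹) * (v⁻¹)⁻¹ = ⁅a₃, b₂⁆ := by
      rw [keyA a ha b hb _ ha₁ b₂ hb₂ a₂ ha₂ h2, keyB a ha b₂ hb₂ _ hb₁ a₃ ha₃ b₃ hb₃ h3]
    have hy : ⁅u, v⁆ * ⁅a, b⁆ * ⁅u, v⁆⁻¹ = ⁅a, b⁆ := by
      calc ⁅u, v⁆ * ⁅a, b⁆ * ⁅u, v⁆⁻¹
          = u * v * (u⁻¹ * (v⁻¹ * ⁅a, b⁆ * (v⁻¹)⁻¹) * (u⁻¹)⁻¹) * (v⁻¹ * u⁻¹) := by
            simp only [commutatorElement_def]; group
        _ = u * v * (v⁻¹ * (u⁻¹ * ⁅a, b⁆ * (u⁻¹)⁻¹) * (v⁻¹)⁻¹) * (v⁻¹ * u⁻¹) := by rw [e1, e2]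
        _ = ⁅a, b⁆ := by group
    exact (mul_inv_eq_iff_eq_mul.1 hy).symm
  let C : Subgroup G := Subgroup.closure S
  have hCn : C.Normal := ⟨fun x hx g => by
    induction hx using Subgroup.closure_induction with
    | mem x hx => exact Subgroup.subset_closure (hconj g x hx)
    | one => simp
    | mul x y _ _ hx hy => rw [← conj_mul]; exact mul_mem hx hy
    | inv x _ hx => rw [← conj_inv]; exact inv_mem hx⟩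
  have : IsMulCommutative C := Subgroup.isMulCommutative_closure hcomm
  have hCs : Group.IsSolvable C := Group.isSolvable_of_comm fun x y =>
    Subtype.ext (Subgroup.mem_centralizer_iff.1 (Subgroup.le_centralizer C y.2) x x.2)
  have hQ : ∀ x y : G ⧸ C, x * y = y * x := by
    have h1 : ∀ a ∈ A, ∀ b ∈ B, (a : G ⧸ C) * b = b * a := fun a ha b hb => by
      have hm : ⁅a, b⁆ ∈ C := Subgroup.subset_closure ⟨a, ha, b, hb, rfl⟩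
      rw [← QuotientGroup.eq_one_iff] at hm
      simp only [commutatorElement_def, QuotientGroup.mk_mul, QuotientGroup.mk_inv] at hm
      rwa [mul_inv_eq_one, mul_inv_eq_iff_eq_mul] at hm
    intro x y
    induction x using QuotientGroup.induction_on with | H g => ?_
    induction y using QuotientGroup.induction_on with | H g' => ?_
    obtain ⟨a, ha, b, hb, rfl⟩ := hAB g
    obtain ⟨a', ha', b', hb', rfl⟩ := hAB g'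
    have ca : Commute (a : G ⧸ C) a' := by
      show (a : G ⧸ C) * a' = a' * a
      rw [← QuotientGroup.mk_mul, hA a ha a' ha', QuotientGroup.mk_mul]
    have cb : Commute (b : G ⧸ C) b' := by
      show (b : G ⧸ C) * b' = b' * b
      rw [← QuotientGroup.mk_mul, hB b hb b' hb', QuotientGroup.mk_mul]
    have c1 : Commute (a : G ⧸ C) b' := h1 a ha b' hb'
    have c2 : Commute (b : G ⧸ C) a' := (h1 a' ha' b hb).symm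
    simp only [QuotientGroup.mk_mul]
    exact ((ca.mul_right c1).mul_left (c2.mul_right cb)).eq
  have : Group.IsSolvable (G ⧸ C) := Group.isSolvable_of_comm hQ
  exact Group.isSolvable_of_ker_le_range C.subtype (QuotientGroup.mk' C) (by simp)

/-- A finite group which is the product AB of two abelian subgroups A and B is solvable. -/
theorem result {G : Type*} [Group G] [Finite G] (A B : Subgroup G)
    [IsMulCommutative A] [IsMulCommutative B] (hAB : ∀ g : G, ∃ a ∈ A, ∃ b ∈ B, g = a * b) :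
    Group.IsSolvable G := by
  exact ito A B hAB

end Cfsg.Agent.S0047
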