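import Cfsg.Statements.S0048
import Cfsg.Agent.H24.Solv

set_option autoImplicit false
open Cfsg

namespace Cfsg.Agent.S0048

/-- In a finite solvable group every maximal subgroup has index a prime power. -/
theorem result {G : Type*} [Group G] [Finite G] [Group.IsSolvable G]
    (M : Subgroup G) (hM : IsCoatom M) : IsPrimePow M.index := by
  induction hn : Nat.card G using Nat.strong_induction_on generalizing G with
  | _ n ih =>
    have hnt : (⊤ : Subgroup G) ≠ ⊥ := fun h => hM.1 (eq_top_iff.2 (h ▸ bot_le))
    obtain ⟨N, -, hN, hNb, hmin⟩ := Cfsg.Agent.H24.exists_minimal_normal (⊤ : Subgroup G) inferInstance hnt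
    by_cases hle : N ≤ M
    · have hcoat : IsCoatom (M.map (QuotientGroup.mk' N)) := by
        have hcm : (M.map (QuotientGroup.mk' N)).comap (QuotientGroup.mk' N) = M :=
          Subgroup.comap_map_eq_self (by rwa [QuotientGroup.ker_mk'])
        refine ⟨fun h => hM.1 (by rw [← hcm, h, Subgroup.comap_top]), fun L hL => ?_⟩
        have h1 : M < L.comap (QuotientGroup.mk' N) := by
          rw [← hcm]
          exact (Subgroup.comap_lt_comap_of_surjective (QuotientGroup.mk'_surjective N)).2 hL
        have h2 := congrArg (Subgroup.map (QuotientGroup.mk' N)) (hM.2 _ h1)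
        rwa [Subgroup.map_comap_eq_self_of_surjective (QuotientGroup.mk'_surjective N),
          Subgroup.map_top_of_surjective _ (QuotientGroup.mk'_surjective N)] at h2
      have hlt : Nat.card (G ⧸ N) < n := by
        have h1 := Subgroup.card_eq_card_quotient_mul_card_subgroup N
        have h2 : 1 < Nat.card N := by
          have := (Subgroup.nontrivial_iff_ne_bot N).2 hNb
          exact Finite.one_lt_card
        rw [← hn, h1]
        exact lt_mul_of_one_lt_right Nat.card_pos h2
      have := ih _ hlt (M.map (QuotientGroup.mk' N)) hcoat rfl
      rwa [Subgroup.index_map_eq _ (QuotientGroup.mk'_surjective N) (by rwa [QuotientGroup.ker_mk'])] at this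
    · have htop : M ⊔ N = ⊤ := hM.2 _ (lt_of_le_of_ne le_sup_left fun h => hle (h ▸ le_sup_right))
      obtain ⟨-, p, hp, hpow⟩ := Cfsg.Agent.H24.minimal_normal_elementary N hNb hmin
      have := Fact.mk hp
      have hidx : M.index = M.relIndex N := by
        refine ((Subgroup.relIndex_top_right M).symm.trans ?_)
        have : M.relIndex (N : Subgroup G) = M.index := by
          apply le_antisymm
          · rw [← Subgroup.relIndex_top_right M]
            exact Subgroup.relIndex_le_of_le_right le_top (by
              rw [Subgroup.relIndex_top_right]; exact Subgroup.index_ne_zero_of_finite)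
          · have hh : M.index * Nat.card M = Nat.card G := Subgroup.index_mul_card M
            let f : N ⧸ M.subgroupOf N → G ⧸ M :=
              Quotient.map' (fun k : N => (k : G)) (by
                intro a b hab
                rw [QuotientGroup.leftRel_apply] at hab ⊢
                simpa [Subgroup.mem_subgroupOf] using hab)
            have hsurj : Function.Surjective f := by
              intro q
              induction q using QuotientGroup.induction_on with | H g => ?_
              have hg : g ∈ N ⊔ M := by rw [sup_comm, htop]; exact Subgroup.mem_top g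
              obtain ⟨a, ha, b, hb, rfl⟩ := Subgroup.mem_sup_of_normal_left.1 hg
              exact ⟨QuotientGroup.mk ⟨a, ha⟩, (QuotientGroup.eq.2 (by simpa using hb))⟩
            exact Nat.card_le_card_of_surjective f hsurj
        rw [Subgroup.relIndex_top_right, this]
      have hpg : IsPGroup p N := fun x => ⟨1, by rw [pow_one]; exact Subtype.ext (by simpa using hpow x x.2)⟩
      obtain ⟨k, hk⟩ := hpg.index (M.subgroupOf N)
      rw [hidx, Subgroup.relIndex, hk]
      refine (Prime.isPrimePow hp.prime).pow ?_
      rintro rfl
      apply hle
      rw [← Subgroup.relIndex_eq_one, Subgroup.relIndex, hk, pow_zero]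

end Cfsg.Agent.S0048
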