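import Cfsg.Statements.S0049
import Mathlib.GroupTheory.SchurZassenhaus

set_option autoImplicit false
open Cfsg

namespace Cfsg.Agent.S0049

/-- A prime divisor of the order of a finite group also divides the index of the Frattini subgroup. -/
theorem result {G : Type*} [Group G] [Finite G] (p : ℕ) (hp : p.Prime) (hdvd : p ∣ Nat.card G) :
    p ∣ (frattini G).index := by
  have := Fact.mk hp
  by_contra hnd
  let Φ := frattini G
  obtain ⟨P⟩ : Nonempty (Sylow p G) := inferInstance
  have hPΦ : (P : Subgroup G) ≤ Φ := by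
    intro x hx
    rw [← QuotientGroup.eq_one_iff (N := Φ)]
    obtain ⟨k, hk⟩ := IsPGroup.iff_orderOf.1 P.2 ⟨x, hx⟩
    rw [Subgroup.orderOf_mk] at hk
    have h1 : orderOf (x : G ⧸ Φ) ∣ p ^ k := hk ▸ orderOf_map_dvd (QuotientGroup.mk' Φ) x
    have h2 : orderOf (x : G ⧸ Φ) ∣ Φ.index := orderOf_dvd_natCard _
    have h3 : Nat.Coprime (p ^ k) Φ.index := ((hp.coprime_iff_not_dvd).2 hnd).pow_left k
    exact orderOf_eq_one_iff.1 (Nat.eq_one_of_dvd_coprimes h3 h1 h2)
  have hnil : Group.IsNilpotent Φ := frattini_nilpotent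
  have hPn : (P : Subgroup G).Normal := by
    have hsub : ((P.subtype hPΦ : Sylow p Φ) : Subgroup Φ).Normal := inferInstance
    have key := Sylow.normalizer_sup_eq_top' P hPΦ
    exact Subgroup.normalizer_eq_top_iff.1 (frattini_nongenerating key)
  obtain ⟨H, hH⟩ := Subgroup.exists_right_complement'_of_coprime (N := (P : Subgroup G)) P.card_coprime_index
  have hHtop : H = ⊤ := frattini_nongenerating (top_le_iff.1 (hH.sup_eq_top ▸ sup_le (le_trans hPΦ le_sup_right) le_sup_left))
  exact P.ne_bot_of_dvd_card hdvd (Subgroup.isComplement'_top_right.1 (hHtop ▸ hH))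

end Cfsg.Agent.S0049
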