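import Cfsg.Statements.S0052
import Cfsg.Agent.H24.Gaschuetz

set_option autoImplicit false
open Pointwise
open Cfsg

namespace Cfsg.Agent.S0052

/-- Gaschütz's Theorem, conjugacy: for an abelian normal subgroup K ≤ U with the order of K coprime to the index of U, two complements of K in G having the same intersection with U are conjugate. -/
theorem result {G : Type*} [Group G] [Finite G] (K U : Subgroup G) [K.Normal] [IsMulCommutative K]
    (hKU : K ≤ U) (hcop : (Nat.card K).Coprime U.index)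
    (H₀ H₁ : Subgroup G) (h₀ : Subgroup.IsComplement' K H₀) (h₁ : Subgroup.IsComplement' K H₁) (hU : H₀ ⊓ U = H₁ ⊓ U) :
    ∃ g : G, MulAut.conj g • H₀ = H₁ := by
  have hsup : K ⊔ (H₀ ⊓ U) = U := by
    refine le_antisymm (sup_le hKU inf_le_right) fun u hu => ?_
    obtain ⟨⟨⟨k, hk⟩, ⟨h, hh⟩⟩, rfl⟩ := h₀.2 u
    refine mul_mem (Subgroup.mem_sup_left hk) (Subgroup.mem_sup_right ⟨hh, ?_⟩)
    simpa using mul_mem (inv_mem (hKU hk)) hu
  have hinf : H₀ ⊓ U ⊓ K = ⊥ := by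
    rw [eq_bot_iff, ← h₀.disjoint.eq_bot]
    exact fun x hx => ⟨hx.2, hx.1.1⟩
  obtain ⟨g, -, hg⟩ := Cfsg.Agent.H24.Gaschuetz.exists_conj
    (S := (⟨inferInstance, inferInstance, hKU, inf_le_right, hinf, hsup⟩ :
      Cfsg.Agent.H24.Gaschuetz.Setup K U (H₀ ⊓ U))) hcop h₀ h₁ rfl hU.symm
  exact ⟨g, hg⟩

end Cfsg.Agent.S0052
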