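import Cfsg.Statements.S0053

set_option autoImplicit false
open Cfsg

namespace Cfsg.Agent.S0053

/-- An abelian minimal normal subgroup N of a finite group is complemented exactly when N is not inside the Frattini subgroup. -/
theorem result {G : Type*} [Group G] [Finite G]
    (N : Subgroup G) [N.Normal] [IsMulCommutative N] (hN : N ≠ ⊥)
    (hmin : ∀ M : Subgroup G, M.Normal → M ≤ N → M = ⊥ ∨ M = N) :
    (∃ H : Subgroup G, Subgroup.IsComplement' N H) ↔ ¬ N ≤ frattini G := by
  constructor
  · rintro ⟨H, hH⟩ hle
    have : H = ⊤ := frattini_nongenerating (top_le_iff.1 (hH.sup_eq_top ▸ sup_le (le_trans hle le_sup_right) le_sup_left))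
    exact hN (Subgroup.isComplement'_top_right.1 (this ▸ hH))
  · intro hle
    obtain ⟨M, hM, hNM⟩ : ∃ M : Subgroup G, IsCoatom M ∧ ¬ N ≤ M := by
      by_contra h
      push Not at h
      exact hle (le_iInf₂ h)
    have htop : M ⊔ N = ⊤ := hM.2 _ (lt_of_le_of_ne le_sup_left fun h => hNM (h ▸ le_sup_right))
    have hn : (N ⊓ M).Normal := by
      rw [← Subgroup.normalizer_eq_top_iff, eq_top_iff, ← htop]
      refine sup_le (fun m hm => ?_) (fun n hn => ?_)
      · rw [Subgroup.mem_normalizer_iff]
        intro x
        refine and_congr ?_ ?_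
        · exact ⟨fun h => (inferInstance : N.Normal).conj_mem x h m,
            fun h => by simpa [mul_assoc] using (inferInstance : N.Normal).conj_mem _ h m⁻¹⟩
        · simp [Subgroup.mul_mem_cancel_right, Subgroup.mul_mem_cancel_left, hm]
      · rw [Subgroup.mem_normalizer_iff]
        intro x
        constructor
        · intro hx
          rw [show n * x * n⁻¹ = x by
            rw [← Subgroup.mem_centralizer_iff.1 (Subgroup.le_centralizer N hn) x hx.1, mul_inv_cancel_right]]
          exact hx
        · intro hx
          have h1 : x ∈ N := by simpa [mul_assoc] using (inferInstance : N.Normal).conj_mem _ hx.1 n⁻¹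
          rwa [show n * x * n⁻¹ = x by
            rw [← Subgroup.mem_centralizer_iff.1 (Subgroup.le_centralizer N hn) x h1, mul_inv_cancel_right]] at hx
    rcases hmin _ hn inf_le_left with h | h
    · refine ⟨M, Subgroup.isComplement'_of_disjoint_and_mul_eq_univ (disjoint_iff.2 h) ?_⟩
      rw [← Subgroup.normal_mul, sup_comm, htop, Subgroup.coe_top]
    · exact absurd (h ▸ inf_le_right) hNM

end Cfsg.Agent.S0053
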