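import Cfsg.Statements.S0054
import Mathlib.Tactic.Group
import Mathlib.GroupTheory.Sylow

set_option autoImplicit false
open Cfsg

namespace Cfsg.Agent.S0054

/-- A regular normal subgroup of a finite 2-transitive group is elementary abelian: it is commutative and all its elements have order dividing one prime. -/
theorem result {G : Type*} [Group G] [Finite G]
    {X : Type*} [Nonempty X] [MulAction G X] (h2 : MulAction.IsMultiplyPretransitive G X 2)
    (N : Subgroup G) [N.Normal] (htrans : MulAction.IsPretransitive N X) (hreg : ∀ x : X, MulAction.stabilizer N x = ⊥) :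
    IsMulCommutative N ∧ ∃ p : ℕ, p.Prime ∧ ∀ n ∈ N, n ^ p = 1 := by
  classical
  have hreg' : ∀ (n : G), n ∈ N → ∀ x : X, n • x = x → n = 1 := fun n hn x hx => by
    have : (⟨n, hn⟩ : N) ∈ MulAction.stabilizer N x := hx
    rw [hreg x, Subgroup.mem_bot, Subgroup.mk_eq_one] at this
    exact this
  obtain ⟨x⟩ := (inferInstance : Nonempty X)
  have hconj : ∀ a ∈ N, ∀ b ∈ N, a ≠ 1 → b ≠ 1 → ∃ g : G, g * a * g⁻¹ = b := by
    intro a ha b hb ha1 hb1
    have ha' : a • x ≠ x := fun h => ha1 (hreg' a ha x h)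
    have hb' : b • x ≠ x := fun h => hb1 (hreg' b hb x h)
    obtain ⟨g, hg1, hg2⟩ := MulAction.is_two_pretransitive_iff.1 h2 ha'.symm hb'.symm
    refine ⟨g, ?_⟩
    have hm : b⁻¹ * (g * a * g⁻¹) ∈ N := mul_mem (inv_mem hb) ((inferInstance : N.Normal).conj_mem a ha g)
    have hfix : (b⁻¹ * (g * a * g⁻¹)) • x = x := by
      rw [mul_smul, mul_smul, mul_smul, inv_smul_eq_iff.2 hg1.symm, hg2, inv_smul_smul]
    exact (inv_mul_eq_one.1 (hreg' _ hm x hfix)).symm
  rcases eq_or_ne N ⊥ with hb | hb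
  · subst hb
    exact ⟨inferInstance, 2, Nat.prime_two, fun n hn => by simp [Subgroup.mem_bot.1 hn]⟩
  have : Nontrivial N := (Subgroup.nontrivial_iff_ne_bot N).2 hb
  obtain ⟨p, hp, hdvd⟩ := Nat.exists_prime_and_dvd (Nat.ne_of_gt (Finite.one_lt_card (α := N)))
  have := Fact.mk hp
  obtain ⟨z, hz⟩ := exists_prime_orderOf_dvd_card' p hdvd
  have hz1 : (z : G) ≠ 1 := fun h => by
    rw [← Subgroup.orderOf_coe, h, orderOf_one] at hz; exact hp.one_lt.ne hz
  have hpow : ∀ n ∈ N, n ^ p = 1 := by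
    intro n hn
    by_cases h1 : n = 1
    · rw [h1, one_pow]
    · obtain ⟨g, hg⟩ := hconj z z.2 n hn hz1 h1
      rw [← hg, conj_pow, ← Subgroup.coe_pow, ← hz, pow_orderOf_eq_one, Subgroup.coe_one, mul_one, mul_inv_cancel]
  refine ⟨?_, p, hp, hpow⟩
  have hpg : IsPGroup p N := fun n => ⟨1, by rw [pow_one]; exact Subtype.ext (by simpa using hpow n n.2)⟩
  have := hpg.center_nontrivial
  obtain ⟨⟨c, hc⟩, hc1⟩ := exists_ne (1 : Subgroup.center N)
  have hc1' : (c : G) ≠ 1 := by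
    intro h; apply hc1; ext; exact h
  refine ⟨⟨fun a b => Subtype.ext ?_⟩⟩
  by_cases hb1 : (b : G) = 1
  · simp [hb1]
  obtain ⟨g, hg⟩ := hconj c c.2 b b.2 hc1' hb1
  have ha' : g⁻¹ * a * g ∈ N := by
    simpa using (inferInstance : N.Normal).conj_mem a a.2 g⁻¹
  have hh := congrArg Subtype.val (Subgroup.mem_center_iff.1 hc ⟨_, ha'⟩)
  simp only [Subgroup.coe_mul] at hh ⊢
  rw [← hg]
  calc (a : G) * (g * c * g⁻¹) = g * ((g⁻¹ * a * g) * c) * g⁻¹ := by group
    _ = g * ((c : G) * (g⁻¹ * a * g)) * g⁻¹ := by rw [hh]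
    _ = g * c * g⁻¹ * a := by group

end Cfsg.Agent.S0054
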