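import Cfsg.Statements.S0060
import Cfsg.Agent.Cores.PCore

set_option autoImplicit false
open Pointwise
open Cfsg

namespace Cfsg.Agent.S0060

/-- Brodkey's Theorem: in a finite group with abelian Sylow p-subgroups and no nontrivial normal p-subgroup, some conjugate of a Sylow p-subgroup meets it trivially. -/
theorem result {G : Type*} [Group G] [Finite G] (p : ℕ) [Fact p.Prime]
    (S : Sylow p G) (hS : IsMulCommutative S) (hOp : Cfsg.pCore p G = ⊥) :
    ∃ g : G, (S : Subgroup G) ⊓ MulAut.conj g • (S : Subgroup G) = ⊥ := by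
  classical
  obtain ⟨D, hD⟩ := (Set.toFinite {D : Subgroup G | ∃ P Q : Sylow p G, (P : Subgroup G) ⊓ Q = D}).exists_minimal
    ⟨_, S, S, rfl⟩
  obtain ⟨P, Q, hPQ⟩ := hD.1
  have hcomm : ∀ R : Sylow p G, (R : Subgroup G) ≤ Subgroup.centralizer (R : Set G) := by
    intro R
    obtain ⟨g, rfl⟩ := MulAction.exists_smul_eq G S R
    intro y hy
    rw [Subgroup.mem_centralizer_iff]
    intro z hz
    rw [Sylow.coe_subgroup_smul, Subgroup.mem_pointwise_smul_iff_inv_smul_mem, MulAut.smul_def,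
      MulAut.conj_inv_apply] at hy
    rw [SetLike.mem_coe, ← SetLike.mem_coe, Sylow.coe_smul, Set.mem_smul_set_iff_inv_smul_mem,
      MulAut.smul_def, MulAut.conj_inv_apply] at hz
    have hc := Subgroup.mem_centralizer_iff.1 (Subgroup.le_centralizer (S : Subgroup G) hy) _ hz
    calc z * y = g * ((g⁻¹ * z * g) * (g⁻¹ * y * g)) * g⁻¹ := by group
      _ = g * ((g⁻¹ * y * g) * (g⁻¹ * z * g)) * g⁻¹ := by rw [hc]
      _ = y * z := by group
  let N := Subgroup.normalizer (D : Set G)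
  have hPN : (P : Subgroup G) ≤ N := by
    have hDP : D ≤ (P : Subgroup G) := hPQ ▸ inf_le_left
    exact (hcomm P).trans ((Subgroup.centralizer_le hDP).trans (Subgroup.centralizer_le_normalizer _))
  have hQN : (Q : Subgroup G) ≤ N := by
    have hDQ : D ≤ (Q : Subgroup G) := hPQ ▸ inf_le_right
    exact (hcomm Q).trans ((Subgroup.centralizer_le hDQ).trans (Subgroup.centralizer_le_normalizer _))
  have hall : ∀ R : Sylow p G, D ≤ (R : Subgroup G) := by
    intro R
    obtain ⟨T, hT⟩ := (R.2.comap_subtype (K := N)).exists_le_sylow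
    obtain ⟨x, hx⟩ := MulAction.exists_smul_eq N T (P.subtype hPN)
    let R' := (x : G) • R
    have hle : ((R' : Sylow p G) : Subgroup G) ⊓ Q ≤ D := by
      rintro y ⟨hyR, hyQ⟩
      rw [← hPQ]
      refine ⟨?_, hyQ⟩
      replace hyR : y ∈ ((R' : Sylow p G) : Subgroup G) := hyR
      rw [Sylow.coe_subgroup_smul, Subgroup.mem_pointwise_smul_iff_inv_smul_mem,
        MulAut.smul_def, MulAut.conj_inv_apply] at hyR
      have hy' : x⁻¹ * (⟨y, hQN hyQ⟩ : N) * x ∈ (T : Subgroup N) := hT (Subgroup.mem_comap.2 (by simpa using hyR))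
      have : (⟨y, hQN hyQ⟩ : N) ∈ ((P.subtype hPN : Sylow p N) : Subgroup N) := by
        rw [← hx, Sylow.coe_subgroup_smul, Subgroup.mem_pointwise_smul_iff_inv_smul_mem,
          MulAut.smul_def, MulAut.conj_inv_apply]
        exact hy'
      exact this
    have hge : D ≤ ((R' : Sylow p G) : Subgroup G) ⊓ Q := hD.2 ⟨R', Q, rfl⟩ hle
    intro d hd
    have h1 : (x : G) * d * (x : G)⁻¹ ∈ D := (Subgroup.mem_normalizer_iff.1 x.2 d).1 hd
    have h2 : (x : G) * d * (x : G)⁻¹ ∈ ((R' : Sylow p G) : Subgroup G) := (hge h1).1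
    rw [Sylow.coe_subgroup_smul, Subgroup.mem_pointwise_smul_iff_inv_smul_mem,
      MulAut.smul_def, MulAut.conj_inv_apply] at h2
    simpa [mul_assoc] using h2
  have hD1 : D = ⊥ := le_bot_iff.1 (hOp ▸ Cfsg.Agent.Cores.pCore_eq_iInf_sylow (p := p) (G := G) ▸ le_iInf hall)
  obtain ⟨a, ha⟩ := MulAction.exists_smul_eq G P S
  obtain ⟨b, hb⟩ := MulAction.exists_smul_eq G S (a • Q)
  refine ⟨b, ?_⟩
  rw [← Sylow.coe_subgroup_smul, hb, ← ha, Sylow.coe_subgroup_smul, Sylow.coe_subgroup_smul,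
    ← Subgroup.smul_inf, hPQ, hD1, Subgroup.smul_bot]

end Cfsg.Agent.S0060
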