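import Cfsg.Statements.S0061
import Cfsg.Agent.H24.Basic
import Mathlib.GroupTheory.Nilpotent
import Mathlib.GroupTheory.Sylow
import Mathlib.Data.Set.Card

set_option autoImplicit false
open Cfsg

namespace Cfsg.Agent.S0061

theorem solvable_of_pGroup {K : Type*} [Group K] [Finite K] {p : ℕ} [Fact p.Prime]
    (h : IsPGroup p K) : Group.IsSolvable K := by
  have := h.isNilpotent
  infer_instance

theorem solvable_of_ext {G : Type*} [Group G] (K : Subgroup G) [K.Normal]
    (h1 : Group.IsSolvable K) (h2 : Group.IsSolvable (G ⧸ K)) : Group.IsSolvable G :=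
  Group.isSolvable_of_ker_le_range K.subtype (QuotientGroup.mk' K) (by simp)

theorem aux (p q : ℕ) (hp : p.Prime) (hq : q.Prime) : ∀ (m : ℕ) (G : Type*) [Group G] [Finite G],
    Nat.card G = p ^ m * q → Group.IsSolvable G := by
  have := Fact.mk hp
  have := Fact.mk hq
  intro m
  induction m using Nat.strong_induction_on with
  | _ m ih =>
    intro G _ _ hG
    classical
    rcases eq_or_ne p q with rfl | hne
    · exact solvable_of_pGroup (IsPGroup.of_card (p := p) (n := m + 1) (by rw [hG, pow_succ]))
    have hquot : ∀ K : Subgroup G, K.Normal → IsPGroup p K → K ≠ ⊥ → Group.IsSolvable G := by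
      intro K hK hKp hKb
      obtain ⟨k, hk⟩ := IsPGroup.iff_card.1 hKp
      have hk0 : k ≠ 0 := fun h => hKb (Subgroup.card_eq_one.1 (by rw [hk, h, pow_zero]))
      have hkm : p ^ k ∣ p ^ m :=
        (((Nat.coprime_primes hp hq).2 hne).pow_left k).dvd_of_dvd_mul_right
          (hG ▸ hk ▸ K.card_subgroup_dvd_card)
      have hle : k ≤ m := (Nat.pow_dvd_pow_iff_le_right hp.one_lt).1 hkm
      have hc := Subgroup.card_eq_card_quotient_mul_card_subgroup K
      rw [hG, hk] at hc
      have hQ : Nat.card (G ⧸ K) = p ^ (m - k) * q := by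
        refine Nat.eq_of_mul_eq_mul_right (pow_pos hp.pos k) (hc.symm.trans ?_)
        rw [mul_right_comm, ← pow_add, Nat.sub_add_cancel hle]
      exact solvable_of_ext K (solvable_of_pGroup hKp) (ih (m - k) (by omega) _ hQ)
    obtain ⟨P⟩ : Nonempty (Sylow p G) := inferInstance
    obtain ⟨Z⟩ : Nonempty (Sylow q G) := inferInstance
    have hPc : ∀ R : Sylow p G, Nat.card (R : Subgroup G) = p ^ m := by
      intro R
      rw [R.card_eq_multiplicity, hG, Nat.factorization_mul (pow_ne_zero _ hp.ne_zero) hq.ne_zero]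
      simp [hp.factorization_pow, hq.factorization, hne.symm]
    have hZc : Nat.card (Z : Subgroup G) = q := by
      rw [Z.card_eq_multiplicity, hG, Nat.factorization_mul (pow_ne_zero _ hp.ne_zero) hq.ne_zero]
      simp [hp.factorization_pow, hq.factorization, hne]
    have hPi : ∀ R : Sylow p G, (R : Subgroup G).index = q := by
      intro R
      have h := (R : Subgroup G).card_mul_index
      rw [hPc R, hG] at h
      exact Nat.eq_of_mul_eq_mul_left (pow_pos hp.pos m) h
    rcases m.eq_zero_or_pos with rfl | hm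
    · exact solvable_of_pGroup (IsPGroup.of_card (p := q) (n := 1) (by simpa using hG))
    rcases (Nat.dvd_prime hq).1 ((hPi P) ▸ P.card_dvd_index) with h1 | hnq
    · have : Subsingleton (Sylow p G) := (Nat.card_eq_one_iff_unique.1 h1).1
      exact hquot (P : Subgroup G) P.normal_of_subsingleton P.2
        (P.ne_bot_of_dvd_card (hG ▸ dvd_mul_of_dvd_left (dvd_pow_self p hm.ne') q))
    obtain ⟨A, B, hAB⟩ : ∃ A B : Sylow p G, A ≠ B := by
      have : Nontrivial (Sylow p G) := Finite.one_lt_card_iff_nontrivial.1 (hnq ▸ hq.one_lt)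
      exact exists_pair_ne _
    obtain ⟨D, hD⟩ := (Set.toFinite {D : Subgroup G | ∃ A B : Sylow p G, A ≠ B ∧ (A : Subgroup G) ⊓ B = D}).exists_maximal
      ⟨_, A, B, hAB, rfl⟩
    obtain ⟨P₁, P₂, hne12, hPQ⟩ := hD.1
    rcases eq_or_ne D ⊥ with hDb | hDb
    · -- count the elements of `p`-power order
      have hdis : ∀ R S : Sylow p G, R ≠ S → (R : Subgroup G) ⊓ S = ⊥ := fun R S h =>
        le_bot_iff.1 (hDb ▸ hD.2 ⟨R, S, h, rfl⟩ (hDb ▸ bot_le))
      let f : (Σ R : Sylow p G, {x : (R : Subgroup G) // x ≠ 1}) → G := fun s => (s.2.1 : G)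
      have hinj : Function.Injective f := by
        rintro ⟨R, ⟨x, hx⟩, hx1⟩ ⟨S, ⟨y, hy⟩, hy1⟩ (h : x = y)
        subst h
        by_cases hRS : R = S
        · subst hRS; rfl
        · exact absurd (Subtype.ext (Subgroup.mem_bot.1 (hdis R S hRS ▸ Subgroup.mem_inf.2 ⟨hx, hy⟩))) hx1
      have hZdis : ∀ z : G, z ∈ (Z : Subgroup G) → z ∉ Set.range f := by
        rintro z hz ⟨⟨R, ⟨x, hx⟩, hx1⟩, rfl⟩
        have h' := Subgroup.inf_eq_bot_of_coprime (H := (R : Subgroup G)) (K := (Z : Subgroup G))
          (by rw [hPc R, hZc]; exact ((Nat.coprime_primes hp hq).2 hne).pow_left m)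
        exact hx1 (Subtype.ext (Subgroup.mem_bot.1 (h' ▸ Subgroup.mem_inf.2 ⟨hx, hz⟩)))
      have := Fintype.ofFinite G
      have := Fintype.ofFinite (Sylow p G)
      have hcard : Nat.card (Σ R : Sylow p G, {x : (R : Subgroup G) // x ≠ 1}) = q * (p ^ m - 1) := by
        rw [Nat.card_sigma, Finset.sum_congr rfl (fun (R : Sylow p G) _ => show
          Nat.card {x : (R : Subgroup G) // x ≠ 1} = p ^ m - 1 by
            rw [← hPc R, Nat.card_eq_fintype_card, Nat.card_eq_fintype_card, Fintype.card_subtype_compl,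
              Fintype.card_subtype_eq]), Finset.sum_const, Finset.card_univ, ← Nat.card_eq_fintype_card, hnq, smul_eq_mul]
      have heq : ((Z : Subgroup G) : Set G) = (Set.range f)ᶜ := by
        refine Set.eq_of_subset_of_ncard_le hZdis ?_
        rw [Set.ncard_compl, Set.ncard_range_of_injective hinj, hcard, hG, ← Nat.card_coe_set_eq]
        rw [show Nat.card ((Z : Subgroup G) : Set G) = q from hZc, Nat.mul_sub, mul_one, mul_comm q]
        omega
      have hZn : (Z : Subgroup G).Normal := by
        refine ⟨fun z hz g => ?_⟩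
        rw [← SetLike.mem_coe, heq] at hz ⊢
        rintro ⟨⟨R, ⟨x, hx⟩, hx1⟩, he⟩
        apply hz
        refine ⟨⟨g⁻¹ • R, ⟨⟨z, ?_⟩, ?_⟩⟩, rfl⟩
        · rw [Sylow.coe_subgroup_smul, Subgroup.mem_pointwise_smul_iff_inv_smul_mem, MulAut.smul_def,
            MulAut.conj_inv_apply, inv_inv]
          exact (show x = g * z * g⁻¹ from he) ▸ hx
        · intro h1
          apply hx1
          have hz1 : z = 1 := congrArg Subtype.val h1
          exact Subtype.ext (show x = 1 by rw [show x = g * z * g⁻¹ from he, hz1]; simp)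
      refine solvable_of_ext (Z : Subgroup G) (solvable_of_pGroup Z.2) (solvable_of_pGroup
        (IsPGroup.of_card (p := p) (n := m) ?_))
      have hc := Subgroup.card_eq_card_quotient_mul_card_subgroup (Z : Subgroup G)
      rw [hG, hZc] at hc
      exact (Nat.eq_of_mul_eq_mul_right hq.pos hc).symm
    · let N := Subgroup.normalizer (D : Set G)
      have hgrow : ∀ R S : Sylow p G, R ≠ S → (R : Subgroup G) ⊓ S = D → D < (R : Subgroup G) ⊓ N := by
        intro R S hRS hRSD
        have hDR : D ≤ (R : Subgroup G) := hRSD ▸ inf_le_left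
        have hne' : D.subgroupOf (R : Subgroup G) ≠ ⊤ := by
          rw [Ne, Subgroup.subgroupOf_eq_top]
          intro h
          exact hRS (Sylow.ext ((R.3 S.2 (h.trans (hRSD ▸ inf_le_right))).symm))
        have hnil : Group.IsNilpotent (R : Subgroup G) := R.2.isNilpotent
        have hlt := normalizerCondition_of_isNilpotent (G := (R : Subgroup G)) _ hne'.lt_top
        obtain ⟨y, hy, hyD⟩ := SetLike.exists_of_lt hlt
        refine lt_of_le_of_ne (le_inf hDR Subgroup.le_normalizer) fun h => hyD ?_
        rw [Subgroup.mem_subgroupOf, h]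
        refine ⟨y.2, ?_⟩
        show (y : G) ∈ Subgroup.normalizer (D : Set G)
        rw [Subgroup.mem_normalizer_iff]
        intro d
        constructor
        · intro hd
          exact (Subgroup.mem_normalizer_iff.1 hy ⟨d, hDR hd⟩).1 hd
        · intro hd
          have hdR : d ∈ (R : Subgroup G) := by
            have := mul_mem (mul_mem (inv_mem y.2) (hDR hd)) y.2
            simpa [mul_assoc] using this
          exact (Subgroup.mem_normalizer_iff.1 hy ⟨d, hdR⟩).2 hd
      have hNq : q ∣ Nat.card N := by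
        by_contra hq'
        have hNp : IsPGroup p N := by
          refine IsPGroup.of_card_dvd_pow (n := m) ?_
          exact ((hq.coprime_iff_not_dvd).2 hq').symm.dvd_of_dvd_mul_right (hG ▸ N.card_subgroup_dvd_card)
        obtain ⟨R, hR⟩ := hNp.exists_le_sylow
        have hsame : ∀ S T : Sylow p G, S ≠ T → (S : Subgroup G) ⊓ T = D → R = S := by
          intro S T hST h
          by_contra hRS
          have h1 := hgrow S T hST h
          exact h1.not_ge (le_trans (le_inf (inf_le_right.trans hR) inf_le_left)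
            (hD.2 ⟨R, S, hRS, rfl⟩ (le_trans h1.le (le_inf (inf_le_right.trans hR) inf_le_left))))
        exact hne12 ((hsame P₁ P₂ hne12 hPQ).symm.trans (hsame P₂ P₁ hne12.symm (by rw [inf_comm, hPQ])))
      obtain ⟨c, hc⟩ := exists_prime_orderOf_dvd_card' q hNq
      rw [← Subgroup.orderOf_coe] at hc
      have hCi : (Subgroup.zpowers (c : G)).index = p ^ m := by
        have h := (Subgroup.zpowers (c : G)).card_mul_index
        rw [Nat.card_zpowers, hc, hG, mul_comm (p ^ m)] at h
        exact Nat.eq_of_mul_eq_mul_left hq.pos h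
      have hfac := Cfsg.Agent.H24.exists_mul_of_coprime_index (Subgroup.zpowers (c : G)) (P₁ : Subgroup G)
        (by rw [hCi, hPi]; exact ((Nat.coprime_primes hp hq).2 hne).pow_left m)
      have hcore : D ≤ (P₁ : Subgroup G).normalCore := by
        intro d hd g
        obtain ⟨a, ha, b, hb, hab⟩ := hfac g⁻¹
        have haN : a ∈ N := Subgroup.zpowers_le.2 c.2 ha
        have h1 : a⁻¹ * d * a ∈ D := by
          simpa using (Subgroup.mem_normalizer_iff.1 (inv_mem haN) d).1 hd
        have e : g * d * g⁻¹ = b⁻¹ * (a⁻¹ * d * a) * b := by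
          have : g = b⁻¹ * a⁻¹ := by rw [← mul_inv_rev, ← hab, inv_inv]
          subst this; group
        rw [e]
        exact mul_mem (mul_mem (inv_mem hb) ((hPQ ▸ inf_le_left : D ≤ (P₁ : Subgroup G)) h1)) hb
      exact hquot _ (Subgroup.normalCore_normal _) (P₁.2.to_le (Subgroup.normalCore_le _))
        (fun h => hDb (le_bot_iff.1 (h ▸ hcore)))

/-- A finite group whose order is a prime power times a prime is solvable. -/
theorem result {G : Type*} [Group G] [Finite G] (p q m : ℕ) (hp : p.Prime) (hq : q.Prime)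
    (hG : Nat.card G = p ^ m * q) : Group.IsSolvable G := by
  exact aux p q hp hq m G hG

end Cfsg.Agent.S0061
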