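import Cfsg.Statements.S0062
import Mathlib.GroupTheory.Transfer
import Mathlib.GroupTheory.Nilpotent
import Mathlib.Tactic.Ring

set_option autoImplicit false
open Cfsg

namespace Cfsg.Agent.S0062

theorem aux {G : Type*} [Group G] [Finite G] (p q : ℕ) (hp : p.Prime) (hq : q.Prime) (hqp : q < p)
    (hG : Nat.card G = p ^ 2 * q ^ 2) : Group.IsSolvable G := by
  have := Fact.mk hp
  have := Fact.mk hq
  obtain ⟨P⟩ : Nonempty (Sylow p G) := inferInstance
  have hPc : Nat.card P = p ^ 2 := by
    rw [P.card_eq_multiplicity, hG,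
      Nat.factorization_mul (pow_ne_zero _ hp.ne_zero) (pow_ne_zero _ hq.ne_zero)]
    simp [hp.factorization_pow, hq.factorization_pow, hqp.ne]
  have hidx : (P : Subgroup G).index = q ^ 2 := by
    have h := (P : Subgroup G).card_mul_index
    rw [hG] at h
    have hPc' : Nat.card (P : Subgroup G) = p ^ 2 := hPc
    rw [hPc'] at h
    exact Nat.eq_of_mul_eq_mul_left (pow_pos hp.pos 2) h
  have hPcomm : IsMulCommutative (P : Subgroup G) := IsPGroup.isMulCommutative_of_card_eq_prime_sq hPc
  have hPle : (P : Subgroup G) ≤ Subgroup.centralizer (P : Set G) := Subgroup.le_centralizer (P : Subgroup G)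
  have hPs : Group.IsSolvable (P : Subgroup G) := Group.isSolvable_of_comm hPcomm.is_comm.comm
  have hmod := card_sylow_modEq_one p G
  have hdvd : Nat.card (Sylow p G) ∣ q ^ 2 := hidx ▸ P.card_dvd_index
  obtain ⟨k, hk, hkc⟩ := (Nat.dvd_prime_pow hq).1 hdvd
  rw [hkc] at hmod
  interval_cases k
  · -- one Sylow subgroup
    have : Subsingleton (Sylow p G) := (Nat.card_eq_one_iff_unique.1 (by simpa using hkc)).1
    have : (P : Subgroup G).Normal := P.normal_of_subsingleton
    have : Group.IsSolvable (G ⧸ (P : Subgroup G)) := Group.isSolvable_of_comm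
      (IsPGroup.commutative_of_card_eq_prime_sq (p := q) ((Subgroup.index_eq_card _).symm.trans hidx))
    exact Group.isSolvable_of_ker_le_range (P : Subgroup G).subtype (QuotientGroup.mk' (P : Subgroup G)) (by simp)
  · exfalso
    rw [pow_one, Nat.ModEq, Nat.mod_eq_of_lt hqp, Nat.mod_eq_of_lt hp.one_lt] at hmod
    exact hq.one_lt.ne' hmod
  · -- the normaliser is `P`
    have hN : (Subgroup.normalizer (P : Set G)).index = q ^ 2 := P.card_eq_index_normalizer.symm.trans hkc
    have hNP : Subgroup.normalizer (P : Set G) = (P : Subgroup G) := by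
      refine (Subgroup.eq_of_le_of_card_ge Subgroup.le_normalizer ?_).symm
      have h := (Subgroup.normalizer (P : Set G)).card_mul_index
      rw [hN, ← (P : Subgroup G).card_mul_index, hidx] at h
      exact (Nat.eq_of_mul_eq_mul_right (pow_pos hq.pos 2) h).le
    have hc : Subgroup.normalizer (P : Set G) ≤ Subgroup.centralizer (P : Set G) := hNP ▸ hPle
    have hK := MonoidHom.ker_transferSylow_isComplement' P hc
    let K := (MonoidHom.transferSylow P hc).ker
    have hKc : Nat.card K = q ^ 2 := by
      rw [← hK.index_eq_card]; exact hidx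
    have : Group.IsSolvable K := Group.isSolvable_of_comm (IsPGroup.commutative_of_card_eq_prime_sq hKc)
    exact Group.isSolvable_of_ker_le_range K.subtype (MonoidHom.transferSylow P hc) (by simp [K])

/-- A finite group of order p^2 * q^2 with p and q prime is solvable. -/
theorem result {G : Type*} [Group G] [Finite G] (p q : ℕ) (hp : p.Prime) (hq : q.Prime)
    (hG : Nat.card G = p ^ 2 * q ^ 2) : Group.IsSolvable G := by
  rcases lt_trichotomy q p with h | rfl | h
  · exact aux p q hp hq h hG
  · have := Fact.mk hp
    have : Group.IsNilpotent G := (IsPGroup.of_card (p := q) (n := 4) (by rw [hG]; ring)).isNilpotent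
    infer_instance
  · exact aux q p hq hp h (by rw [hG]; ring)

end Cfsg.Agent.S0062
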