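import Cfsg.Statements.S0063
import Mathlib.GroupTheory.SpecificGroups.Cyclic

set_option autoImplicit false
open Cfsg

namespace Cfsg.Agent.S0063

theorem class_le {p : ℕ} (hp : Fact p.Prime) : ∀ (m : ℕ) (G : Type*) [Group G] [Finite G],
    Nat.card G = p ^ m → Group.nilpotencyClass G ≤ max 1 (m - 1) := by
  intro m
  induction m using Nat.strong_induction_on with
  | _ m ih =>
    intro G _ _ hG
    have hpg : IsPGroup p G := IsPGroup.of_card hG
    have hnil : Group.IsNilpotent G := hpg.isNilpotent
    by_cases hcomm : ∀ a b : G, a * b = b * a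
    · exact le_max_of_le_left ((Group.IsNilpotent.nilpotencyClass_le_one_iff).2 ⟨⟨hcomm⟩⟩)
    have hnt : Nontrivial G := by
      by_contra h
      rw [not_nontrivial_iff_subsingleton] at h
      exact hcomm fun a b => Subsingleton.elim _ _
    obtain ⟨k, hk⟩ := IsPGroup.iff_card.1 (hpg.to_quotient (Subgroup.center G))
    have hk2 : 2 ≤ k := by
      by_contra h
      have hcyc : IsCyclic (G ⧸ Subgroup.center G) := by
        interval_cases k
        · have : Subsingleton (G ⧸ Subgroup.center G) := (Nat.card_eq_one_iff_unique.1 (by simpa using hk)).1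
          exact isCyclic_of_subsingleton
        · exact isCyclic_of_prime_card (hk.trans (pow_one p))
      exact hcomm (isMulCommutative_of_isCyclic_quotient_center_self G).is_comm.comm
    have hkm : k < m := by
      have h1 := Subgroup.card_eq_card_quotient_mul_card_subgroup (Subgroup.center G)
      rw [hG, hk] at h1
      have h2 : 1 < Nat.card (Subgroup.center G) := by
        have := hpg.center_nontrivial
        exact Finite.one_lt_card
      have h3 : p ^ k < p ^ m := h1 ▸ lt_mul_of_one_lt_right (pow_pos hp.out.pos k) h2
      exact (Nat.pow_lt_pow_iff_right hp.out.one_lt).1 h3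
    have hq := ih k hkm (G ⧸ Subgroup.center G) hk
    rw [Group.nilpotencyClass_eq_quotient_center_plus_one]
    omega

/-- A finite group of prime-power order p ^ m with m > 1 is nilpotent of class at most m - 1. -/
theorem result {G : Type*} [Group G] [Finite G] (p m : ℕ) [Fact p.Prime]
    (hG : Nat.card G = p ^ m) (hm : 1 < m) : Group.nilpotencyClass G ≤ m - 1 := by
  have := class_le ‹_› m G hG
  omega

end Cfsg.Agent.S0063
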