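import Cfsg.Statements.S0064

set_option autoImplicit false
open Cfsg

namespace Cfsg.Agent.S0064

/-- A finite group is nilpotent exactly when each of its subgroups is subnormal. -/
theorem result {G : Type*} [Group G] [Finite G] :
    Group.IsNilpotent G ↔ ∀ H : Subgroup G, H.IsSubnormal := by
  constructor
  · intro h H
    induction hk : H.index using Nat.strong_induction_on generalizing H with
    | _ n ih =>
      rcases eq_or_ne H ⊤ with rfl | hH
      · exact .top
      · have hlt : H < Subgroup.normalizer (H : Set G) :=
          normalizerCondition_of_isNilpotent (G := G) H hH.lt_top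
        exact .step H _ hlt.le (ih _ (hk ▸ Subgroup.index_strictAnti hlt) _ rfl) Subgroup.normal_in_normalizer
  · intro h
    have h2 : Group.IsNilpotent G ↔ ∀ H : Subgroup G, IsCoatom H → H.Normal :=
      (Group.isNilpotent_of_finite_tfae (G := G)).out 0 2
    refine h2.2 fun M hM => ?_
    obtain ⟨K, hKn, hMK, hK⟩ := ((h M).lt_normal).resolve_left hM.1
    rcases hM.le_iff.1 hMK with h' | h'
    · exact absurd h' hK.ne
    · exact h' ▸ hKn

end Cfsg.Agent.S0064
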