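import Cfsg.Statements.S0070
import Cfsg.Agent.Cores.Fitting
import Mathlib.GroupTheory.Frattini

set_option autoImplicit false
open Cfsg

namespace Cfsg.Agent.S0070

theorem isNilpotent_comap {G : Type*} [Group G] [Finite G] (F : Subgroup (G ⧸ frattini G)) [F.Normal]
    [Group.IsNilpotent F] : Group.IsNilpotent (F.comap (QuotientGroup.mk' (frattini G))) := by
  let π := QuotientGroup.mk' (frattini G)
  let L := F.comap π
  have hsurj : Function.Surjective π := QuotientGroup.mk'_surjective _
  have hΦL : frattini G ≤ L := fun x hx => by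
    rw [Subgroup.mem_comap]
    have : π x = 1 := (QuotientGroup.eq_one_iff x).2 hx
    rw [this]; exact one_mem F
  let f : L →* F := π.subgroupComap F
  have hf : Function.Surjective f := fun ⟨y, hy⟩ => by
    obtain ⟨x, rfl⟩ := hsurj y
    exact ⟨⟨x, hy⟩, rfl⟩
  apply ((Group.isNilpotent_of_finite_tfae (G := L)).out 0 3).2
  intro p hp P
  have := hp
  have hPn : ((P.mapSurjective hf : Sylow p F) : Subgroup F).Normal := inferInstance
  have hPc := Sylow.characteristic_of_normal (P.mapSurjective hf) hPn
  have hQn : (((P.mapSurjective hf : Sylow p F) : Subgroup F).map F.subtype).Normal := inferInstance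
  let N : Subgroup G := ((P : Subgroup L).map L.subtype) ⊔ frattini G
  have hN : N = ((((P.mapSurjective hf : Sylow p F) : Subgroup F)).map F.subtype).comap π := by
    rw [Sylow.coe_mapSurjective, Subgroup.map_map,
      show F.subtype.comp f = π.comp L.subtype from rfl, ← Subgroup.map_map,
      Subgroup.comap_map_eq, QuotientGroup.ker_mk']
  have hNn : N.Normal := hN ▸ hQn.comap π
  obtain ⟨R, hR⟩ := ((P.2.map L.subtype)).exists_le_sylow
  have hRL : (R : Subgroup G) ⊓ L = (P : Subgroup L).map L.subtype := by
    refine le_antisymm ?_ (le_inf hR (Subgroup.map_subtype_le _))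
    have h1 : (P : Subgroup L) ≤ (R : Subgroup G).subgroupOf L :=
      fun x hx => hR (Subgroup.mem_map_of_mem _ hx)
    have h2 := P.3 (R.2.comap_subtype) h1
    intro x hx
    refine ⟨⟨x, hx.2⟩, ?_, rfl⟩
    rw [SetLike.mem_coe, ← h2]
    exact hx.1
  have hNL : N ≤ L := sup_le (Subgroup.map_subtype_le _) hΦL
  have hPN : (P : Subgroup L).map L.subtype ≤ N := le_sup_left
  obtain ⟨S, hS⟩ := ((P.2.map L.subtype).comap_subtype (K := N)).exists_le_sylow
  have hSP : (S : Subgroup N).map N.subtype = (P : Subgroup L).map L.subtype := by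
    refine le_antisymm ?_ fun x hx => ⟨⟨x, hPN hx⟩, hS hx, rfl⟩
    have h1 : (P : Subgroup L) ≤ ((S : Subgroup N).map N.subtype).subgroupOf L :=
      fun x hx => ⟨⟨x, hPN (Subgroup.mem_map_of_mem _ hx)⟩, hS (Subgroup.mem_map_of_mem L.subtype hx), rfl⟩
    have h2 := P.3 ((S.2.map N.subtype).comap_subtype) h1
    rintro x ⟨y, hy, rfl⟩
    refine ⟨⟨y, hNL y.2⟩, ?_, rfl⟩
    rw [SetLike.mem_coe, ← h2]
    exact ⟨y, hy, rfl⟩
  have key := Sylow.normalizer_sup_eq_top S
  rw [hSP] at key
  have htop : Subgroup.normalizer (((P : Subgroup L).map L.subtype : Subgroup G) : Set G) ⊔ frattini G = ⊤ := by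
    apply top_le_iff.1
    rw [← key]
    exact sup_le le_sup_left (sup_le (Subgroup.le_normalizer.trans le_sup_left) le_sup_right)
  exact (Subgroup.normalizer_eq_top_iff.1 (frattini_nongenerating htop)).of_map_subtype

/-- The Fitting subgroup commutes with passing to the Frattini quotient: the Fitting subgroup of G modulo its Frattini subgroup is the image of the Fitting subgroup of G. -/
theorem result {G : Type*} [Group G] [Finite G] :
    Cfsg.fittingSubgroup (G ⧸ frattini G) = (Cfsg.fittingSubgroup G).map (QuotientGroup.mk' (frattini G)) := by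
  have := Cfsg.Agent.Cores.fittingSubgroup_isNilpotent (G := G ⧸ frattini G)
  have hnil := isNilpotent_comap (Cfsg.fittingSubgroup (G ⧸ frattini G))
  refine le_antisymm ?_ (Cfsg.Agent.Cores.fittingSubgroup_map_le (QuotientGroup.mk'_surjective _))
  calc Cfsg.fittingSubgroup (G ⧸ frattini G)
      = ((Cfsg.fittingSubgroup (G ⧸ frattini G)).comap (QuotientGroup.mk' (frattini G))).map
          (QuotientGroup.mk' (frattini G)) :=
        (Subgroup.map_comap_eq_self_of_surjective (QuotientGroup.mk'_surjective _) _).symm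
    _ ≤ _ := Subgroup.map_mono (Cfsg.Agent.Cores.le_fittingSubgroup hnil)

end Cfsg.Agent.S0070
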