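import Cfsg.Statements.S0078
import Cfsg.Agent.Fusion.Tate
import Cfsg.Agent.Fusion.Alperin

set_option autoImplicit false
open Cfsg

namespace Cfsg.Agent.S0078

/-- In a p-normal group, a Sylow p-subgroup P meets O^p(G) exactly where it meets O^p(V), for any subgroup V containing the normalizer of the centre of P. -/
theorem result {G : Type*} [Group G] [Finite G] {p : ℕ} [Fact p.Prime] (P : Sylow p G) (hn : ∀ Q : Sylow p G, (P : Subgroup G) ⊓ Subgroup.centralizer (P : Set G) ≤ (Q : Subgroup G) → (Q : Subgroup G) ⊓ Subgroup.centralizer (Q : Set G) = (P : Subgroup G) ⊓ Subgroup.centralizer (P : Set G)) (V : Subgroup G) (hV : Subgroup.normalizer (((P : Subgroup G) ⊓ Subgroup.centralizer (P : Set G) : Subgroup G) : Set G) ≤ V) : (P : Subgroup G) ⊓ Cfsg.pResidual p G = (P : Subgroup G) ⊓ (Cfsg.pResidual p V).map V.subtype := by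
  set Z : Subgroup G := (P : Subgroup G) ⊓ Subgroup.centralizer (P : Set G) with hZdef
  have hW : Cfsg.IsWeaklyClosed Z P := by
    refine ⟨inf_le_left, fun g hg => ?_⟩
    have h1 := hn (g⁻¹ • P) fun z hz => by
      change z ∈ (g⁻¹ • P : Sylow p G)
      rw [Agent.Fusion.mem_sylow_smul]
      change g⁻¹⁻¹ * z * g⁻¹ ∈ (P : Subgroup G)
      simpa [MulAut.conj_apply] using hg ⟨z, hz, rfl⟩
    refine Subgroup.eq_of_le_of_card_ge (fun y hy => ?_)
      (Subgroup.card_map_of_injective (MulAut.conj g).injective).ge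
    obtain ⟨z, hz, rfl⟩ := hy
    have hz' := hz
    rw [SetLike.mem_coe, ← h1] at hz'
    obtain ⟨hz1, hz2⟩ := hz'
    simp only [MulEquiv.coe_toMonoidHom, MulAut.conj_apply]
    refine ⟨?_, Subgroup.mem_centralizer_iff.mpr fun w hw => ?_⟩
    · simpa using Agent.Fusion.mem_sylow_smul.mp hz1
    · have hw' : g⁻¹ * w * g ∈ ((g⁻¹ • P : Sylow p G) : Set G) :=
        Agent.Fusion.mem_sylow_smul.mpr (by simpa [mul_assoc] using hw)
      have hcomm := Subgroup.mem_centralizer_iff.mp hz2 _ hw'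
      calc w * (g * z * g⁻¹) = g * (g⁻¹ * w * g * z) * g⁻¹ := by group
        _ = g * (z * (g⁻¹ * w * g)) * g⁻¹ := by rw [hcomm]
        _ = g * z * g⁻¹ * w := by group
  have hPV : (P : Subgroup G) ≤ V := (Agent.Fusion.le_normalizer_of_weaklyClosed hW).trans hV
  have hc : Agent.Fusion.ControlsElementFusion V (P : Subgroup G) := fun x hx g hg =>
    let ⟨k, hk, h⟩ := Agent.Fusion.controls_of_weaklyClosed_central P inf_le_right hW x hx g hg
    ⟨k, hV hk, h⟩
  rw [← Agent.Fusion.tate_of_controls P hPV hc, Subgroup.subgroupOf_map_subtype,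
    inf_comm (Cfsg.pResidual p G) V, ← inf_assoc, inf_eq_left.mpr hPV]

end Cfsg.Agent.S0078
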