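import Cfsg.Statements.S0079
import Cfsg.Agent.H25.Transfer
import Cfsg.Agent.Fusion.Tate
import Mathlib.RingTheory.Coprime.Lemmas

set_option autoImplicit false
open Cfsg

namespace Cfsg.Agent.S0079


/-- A nilpotent Hall subgroup has a normal complement exactly when elements of it that are conjugate in the whole group are already conjugate inside it. -/
theorem result {G : Type*} [Group G] [Finite G] (H : Subgroup G) (hH : Group.IsNilpotent H) (hHall : Nat.Coprime (Nat.card H) H.index) : (∃ N : Subgroup G, N.Normal ∧ N.IsComplement' H) ↔ ∀ x ∈ H, ∀ y ∈ H, (∃ g : G, g * x * g⁻¹ = y) → ∃ h ∈ H, h * x * h⁻¹ = y := by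
  constructor
  · rintro ⟨N, hN, hc⟩ x hx y hy ⟨g, rfl⟩
    have hg : g ∈ (N ⊔ H : Subgroup G) := by rw [hc.sup_eq_top]; trivial
    have := hN
    rw [← SetLike.mem_coe, Subgroup.normal_mul] at hg
    obtain ⟨n, hn, h, hh, rfl⟩ := Set.mem_mul.mp hg
    refine ⟨h, hh, ?_⟩
    have h1 : (h * x * h⁻¹)⁻¹ * (n * h * x * (n * h)⁻¹) ∈ N := by
      have : (h * x * h⁻¹)⁻¹ * n * (h * x * h⁻¹) * n⁻¹ ∈ N :=
        mul_mem (hN.conj_mem' n hn _) (inv_mem hn)
      convert this using 1; group
    have h2 : (h * x * h⁻¹)⁻¹ * (n * h * x * (n * h)⁻¹) ∈ H :=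
      mul_mem (inv_mem (mul_mem (mul_mem hh hx) (inv_mem hh))) hy
    exact inv_mul_eq_one.mp (Subgroup.disjoint_def.mp hc.disjoint h1 h2)
  · intro h
    refine H25.exists_normal_complement_of_forall_prime H hHall fun p hp hpd => ?_
    have := Fact.mk hp
    let P₀ : Sylow p H := default
    have hpi : (Nat.card G).factorization p = (Nat.card H).factorization p := by
      rw [← H.card_mul_index, Nat.factorization_mul Nat.card_pos.ne'
        Subgroup.index_ne_zero_of_finite, Finsupp.add_apply,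
        Nat.factorization_eq_zero_of_not_dvd (n := H.index) fun hd => hp.not_dvd_one
          (hHall.gcd_eq_one ▸ Nat.dvd_gcd hpd hd), add_zero]
    let P : Sylow p G := Sylow.ofCard ((P₀ : Subgroup H).map H.subtype)
      (by rw [Subgroup.card_map_of_injective H.subtype_injective, hpi]
          exact P₀.card_eq_multiplicity)
    have hP : Fusion.ControlsElementFusion (P : Subgroup G) (P : Subgroup G) := by
      rintro _ ⟨x, hx, rfl⟩ g ⟨y, hy, hgy⟩
      change x ∈ (P₀ : Subgroup H) at hx
      rw [← hgy]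
      obtain ⟨k, hk, hk'⟩ := h x x.2 y y.2 ⟨g, hgy.symm⟩
      have := hH
      obtain ⟨u, hu⟩ : ∃ u : ℕ, u = (orderOf (⟨k, hk⟩ : H)).factorization p := ⟨_, rfl⟩
      set w : H := ⟨k, hk⟩ with hw
      set m := orderOf w / p ^ u with hm
      have hdvd : p ^ u ∣ orderOf w := hu ▸ Nat.ordProj_dvd _ _
      have hcop : Nat.Coprime m (p ^ u) := by
        rw [hm, hu]
        exact ((Nat.coprime_ordCompl hp (orderOf_pos w).ne').pow_left _).symm
      obtain ⟨a, b, hab⟩ := Nat.isCoprime_iff_coprime.mpr hcop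
      have hmp : m * p ^ u = orderOf w := Nat.div_mul_cancel hdvd
      have hwm : w ^ m ∈ (P₀ : Subgroup H) := by
        have hz : IsPGroup p (Subgroup.zpowers (w ^ m)) := by
          have hd : orderOf (w ^ m) ∣ p ^ u := orderOf_dvd_of_pow_eq_one (by
            rw [← pow_mul, hmp, pow_orderOf_eq_one])
          rw [← Nat.card_zpowers] at hd
          obtain ⟨j, -, hj⟩ := (Nat.dvd_prime_pow hp).mp hd
          exact IsPGroup.of_card hj
        obtain ⟨Q, hQ⟩ := hz.exists_le_sylow
        have := Sylow.unique_of_normal P₀ inferInstance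
        rw [Subsingleton.elim P₀ Q]
        exact hQ (Subgroup.mem_zpowers _)
      refine ⟨((w ^ m) ^ a : H), ⟨_, zpow_mem hwm a, rfl⟩, ?_⟩
      have hcm : (w ^ p ^ u) * x = x * (w ^ p ^ u) := by
        refine H25.commute_of_coprime_orderOf _ _ ?_
        obtain ⟨j, hj⟩ := IsPGroup.iff_orderOf.mp P₀.isPGroup' ⟨x, hx⟩
        rw [Subgroup.orderOf_mk] at hj
        rw [hj]
        refine Nat.Coprime.pow_right j ?_
        refine Nat.Coprime.coprime_dvd_left (orderOf_dvd_of_pow_eq_one
          (by rw [← pow_mul, mul_comm, hmp, pow_orderOf_eq_one]) :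
            orderOf (w ^ p ^ u) ∣ m) ?_
        rw [hm, hu]
        exact (Nat.coprime_ordCompl hp (orderOf_pos w).ne').symm
      have hdec : (w ^ m) ^ a * (w ^ p ^ u) ^ b = w := by
        rw [← zpow_natCast, ← zpow_natCast w (p ^ u), ← zpow_mul, ← zpow_mul, ← zpow_add,
          mul_comm (m : ℤ), mul_comm ((p ^ u : ℕ) : ℤ), hab, zpow_one]
      have h3 : w * x * w⁻¹ = (w ^ m) ^ a * x * ((w ^ m) ^ a)⁻¹ := by
        have hcb : (w ^ p ^ u) ^ b * x = x * (w ^ p ^ u) ^ b :=
          (Commute.zpow_left (show Commute (w ^ p ^ u) x from hcm) b).eq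
        conv_lhs => rw [← hdec]
        rw [mul_inv_rev, mul_assoc ((w ^ m) ^ a) _ x, hcb]
        group
      have h4 := congrArg (Subtype.val : H → G) h3
      simp only [Subgroup.coe_mul, Subgroup.coe_inv] at h4
      simp only [Subgroup.coe_subtype]
      rw [← h4]
      exact hk'
    have hc := Fusion.hasNormalPComplement_of_self_controls P hP
    exact ⟨_, inferInstance, Fusion.hasNormalPComplement_iff_pResidual.mp hc,
      Fusion.index_pResidual⟩

end Cfsg.Agent.S0079
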