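import Cfsg.Statements.S0080
import Cfsg.Agent.Fusion.Basic

set_option autoImplicit false
open Cfsg

namespace Cfsg.Agent.S0080

/-- When the index of H is prime to the order of H/H', the focal subgroup of H is G' ∩ H, and H/(G' ∩ H) has a normal complement. -/
theorem result {G : Type*} [Group G] [Finite G] (H : Subgroup G) (h : Nat.Coprime H.index (⁅H, H⁆.relIndex H)) : Subgroup.focalSubgroup H = commutator G ⊓ H ∧ ∃ N : Subgroup G, N.Normal ∧ N ⊓ H = commutator G ⊓ H ∧ N ⊔ H = ⊤ := by
  classical
  open scoped IsMulCommutative in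
  let V : G →* H ⧸ Subgroup.focalSubgroupOf H := Subgroup.transferFocal H
  have hcop : (Nat.card (H ⧸ Subgroup.focalSubgroupOf H)).Coprime H.index := by
    refine (h.coprime_dvd_right ?_).symm
    rw [← Subgroup.index_eq_card, Subgroup.focalSubgroupOf_def]
    exact Subgroup.relIndex_dvd_of_le_left H (Subgroup.commutator_le_focalSubgroup H)
  have hV : ∀ x : H, V x = (powCoprime hcop) x := fun x => Subgroup.transferFocal_eq_pow H x
  have hker : V.ker ⊓ H = Subgroup.focalSubgroup H := by
    ext x
    constructor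
    · rintro ⟨hx1, hx2⟩
      have h1 : powCoprime hcop ((⟨x, hx2⟩ : H) : H ⧸ Subgroup.focalSubgroupOf H) =
          powCoprime hcop 1 := by
        rw [powCoprime_one, ← hV ⟨x, hx2⟩]; exact hx1
      exact Subgroup.mem_subgroupOf.mp
        ((QuotientGroup.eq_one_iff (N := Subgroup.focalSubgroupOf H) (⟨x, hx2⟩ : H)).mp ((powCoprime hcop).injective h1))
    · intro hx
      have hxH := Subgroup.focalSubgroup_le H hx
      refine ⟨?_, hxH⟩
      change V x = 1
      rw [show V x = V ((⟨x, hxH⟩ : H) : G) from rfl, hV ⟨x, hxH⟩,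
        (QuotientGroup.eq_one_iff (⟨x, hxH⟩ : H)).mpr hx, powCoprime_one]
  have hfoc : Subgroup.focalSubgroup H = commutator G ⊓ H := by
    refine le_antisymm (le_inf (Subgroup.focalSubgroup_le_commutator H) (Subgroup.focalSubgroup_le H)) ?_
    rw [← hker]
    open scoped IsMulCommutative in
    exact inf_le_inf_right _ (Abelianization.commutator_subset_ker V)
  refine ⟨hfoc, V.ker, inferInstance, hker.trans hfoc, ?_⟩
  rw [Subgroup.eq_top_iff']
  intro g
  obtain ⟨a, ha⟩ := (powCoprime hcop).surjective (V g)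
  obtain ⟨x, rfl⟩ := QuotientGroup.mk'_surjective _ a
  have hgx : g * (x : G)⁻¹ ∈ V.ker := by
    rw [MonoidHom.mem_ker, map_mul, map_inv, hV x]
    exact mul_inv_eq_one.mpr ha.symm
  simpa using Subgroup.mul_mem_sup hgx x.2

end Cfsg.Agent.S0080
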