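import Cfsg.Statements.S0082
import Cfsg.Agent.Fusion.Tate
import Cfsg.Agent.S0081

set_option autoImplicit false
open Cfsg

namespace Cfsg.Agent.S0082

/-- With a cyclic Sylow p-subgroup, either there is a normal p-complement or the elements of order prime to p generate the whole group. -/
theorem result {G : Type*} [Group G] [Finite G] {p : ℕ} [Fact p.Prime] (P : Sylow p G) (hP : IsCyclic P) : Cfsg.HasNormalPComplement p G ∨ Cfsg.pResidual p G = ⊤ := by
  classical
  by_cases hle : (P : Subgroup G) ≤ Cfsg.pResidual p G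
  · right
    rw [← Agent.Fusion.sylow_sup_pResidual P, sup_eq_right.mpr hle]
  left
  have hp : p.Prime := Fact.out
  set M := Cfsg.pResidual p G with hM
  have h1 : M ⊓ (P : Subgroup G) ≤ (frattini (P : Subgroup G)).map (P : Subgroup G).subtype := by
    intro x hx
    refine ⟨⟨x, hx.2⟩, ?_, rfl⟩
    obtain ⟨g, hg⟩ := hP.exists_generator
    obtain ⟨k, hk⟩ := hg ⟨x, hx.2⟩
    simp only at hk
    have hgM : (g : G) ∉ M := fun h => hle fun y hy => by
      obtain ⟨j, hj⟩ := hg ⟨y, hy⟩
      have : ((g ^ j : (P : Subgroup G)) : G) = y := congrArg Subtype.val hj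
      rw [← this, Subgroup.coe_zpow]; exact zpow_mem h j
    have hpk : (p : ℤ) ∣ k := by
      by_contra hndvd
      apply hgM
      obtain ⟨n, hn⟩ := IsPGroup.iff_card.mp P.isPGroup'
      have hord : (g : G) ^ ((p : ℤ) ^ n) = 1 := by
        have := pow_card_eq_one' (x := g)
        rw [hn] at this
        have h2 := congrArg Subtype.val this
        simpa [← zpow_natCast] using h2
      have hco : ∃ a b : ℤ, a * k + b * ((p : ℤ) ^ n) = 1 := by
        refine ⟨Int.gcdA k ((p : ℤ) ^ n), Int.gcdB k ((p : ℤ) ^ n), ?_⟩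
        have h3 : Int.gcd k ((p : ℤ) ^ n) = 1 := by
          rw [Int.gcd_def, Int.natAbs_pow, Int.natAbs_natCast]
          exact Nat.Coprime.pow_right n
            ((hp.coprime_iff_not_dvd.mpr fun h => hndvd (Int.natCast_dvd.mpr h)).symm)
        have h4 := Int.gcd_eq_gcd_ab k ((p : ℤ) ^ n)
        rw [h3, Nat.cast_one] at h4
        rw [h4]; ring
      obtain ⟨a, b, hab⟩ := hco
      have hxk : (g : G) ^ k = x := by rw [← Subgroup.coe_zpow, hk]
      have : (g : G) = x ^ a := by
        rw [← hxk, ← zpow_mul, mul_comm k a]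
        conv_lhs => rw [← zpow_one (g : G), ← hab, zpow_add, mul_comm b, zpow_mul _ ((p : ℤ) ^ n), hord,
          one_zpow, mul_one]
      rw [this]; exact zpow_mem (show x ∈ M from hx.1) a
    obtain ⟨j, rfl⟩ := hpk
    refine Subgroup.mem_iInf.mpr fun K => Subgroup.mem_iInf.mpr fun hK => ?_
    haveI := P.isPGroup'.isNilpotent
    haveI : K.Normal := Subgroup.NormalizerCondition.normal_of_coatom K
      Group.normalizerCondition_of_isNilpotent hK
    obtain ⟨n, hn⟩ := IsPGroup.iff_card.mp (P.isPGroup'.to_subgroup K)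
    obtain ⟨m, hm⟩ := IsPGroup.iff_card.mp P.isPGroup'
    have hidx : K.index = p := by
      have hKm := K.card_mul_index
      rw [hn, hm] at hKm
      have hlt : n < m := by
        rcases Nat.lt_or_ge n m with h | h
        · exact h
        · exfalso
          refine hK.1 (Subgroup.eq_top_of_card_eq _ ?_)
          rw [hn, hm]
          have h5 : p ^ n ∣ p ^ m := ⟨_, hKm.symm⟩
          rw [le_antisymm ((Nat.pow_dvd_pow_iff_le_right hp.one_lt).mp h5) h]
      obtain ⟨L, hL, hKL⟩ := Sylow.exists_subgroup_card_pow_succ (G := (P : Subgroup G)) (p := p)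
        (by rw [hm]; exact pow_dvd_pow p hlt) hn
      have hLtop : L = ⊤ := hK.2 L (lt_of_le_of_ne hKL fun h => by
        subst h
        exact absurd (Nat.pow_right_injective hp.two_le (hn.symm.trans hL)) (by omega))
      rw [hLtop, Subgroup.card_top, hm] at hL
      rw [Nat.pow_right_injective hp.two_le hL, pow_succ] at hKm
      exact Nat.eq_of_mul_eq_mul_left (pow_pos hp.pos _) hKm
    rw [← hk, mul_comm, zpow_mul, zpow_natCast]
    have hpm := Subgroup.pow_index_mem K (g ^ j)
    rwa [hidx] at hpm
  have h2 := Agent.S0081.result P M h1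
  rw [Agent.Fusion.hasNormalPComplement_iff_pResidual, hM, Agent.Fusion.pResidual_pResidual_eq_top,
    Subgroup.card_top] at h2
  exact Agent.Fusion.hasNormalPComplement_iff_pResidual.mpr h2

end Cfsg.Agent.S0082
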