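import Cfsg.Statements.S0083
import Cfsg.Agent.Fusion.PComplement

set_option autoImplicit false
open Cfsg

namespace Cfsg.Agent.S0083

/-- For an abelian Sylow p-subgroup P, a normal p-complement exists exactly when the normalizer of P is an internal direct product of P with some subgroup. -/
theorem result {G : Type*} [Group G] [Finite G] {p : ℕ} [Fact p.Prime] (P : Sylow p G) (hP : IsMulCommutative P) : Cfsg.HasNormalPComplement p G ↔ ∃ Q : Subgroup G, Q ≤ Subgroup.centralizer (P : Set G) ∧ Q ⊓ (P : Subgroup G) = ⊥ ∧ Q ⊔ (P : Subgroup G) = Subgroup.normalizer (P : Set G) := by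
  constructor
  · intro h
    set N := Subgroup.normalizer ((P : Subgroup G) : Set G) with hN
    have hNc := Agent.Fusion.hasNormalPComplement_subgroup h N
    have hPN : (P : Subgroup G) ≤ N := Subgroup.le_normalizer
    refine ⟨(Cfsg.pResidual p N).map N.subtype, ?_, ?_, ?_⟩
    · rintro _ ⟨g, hg, rfl⟩
      refine Subgroup.mem_centralizer_iff.mpr fun x hx => ?_
      haveI : ((P : Subgroup G).subgroupOf N).Normal := Subgroup.normal_in_normalizer
      have := Agent.Fusion.commute_of_hasNormalPComplement hNc (Q := (P : Subgroup G).subgroupOf N)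
        (hQ := (P.isPGroup').comap_subtype)
        ((Agent.Fusion.mem_pResidual_iff_of_hasNormalPComplement hNc).mp hg)
        (x := ⟨x, hPN hx⟩) hx
      exact (congrArg Subtype.val this).symm
    · rw [eq_bot_iff]
      rintro _ ⟨⟨g, hg, rfl⟩, hgP⟩
      have h1 := (Agent.Fusion.isComplement'_pResidual hNc (P.subtype hPN)).disjoint.le_bot ⟨hg, hgP⟩
      exact Subgroup.mem_bot.mpr (congrArg Subtype.val (Subgroup.mem_bot.mp h1))
    · have h1 := (Agent.Fusion.isComplement'_pResidual hNc (P.subtype hPN)).sup_eq_top
      apply_fun Subgroup.map N.subtype at h1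
      rw [Subgroup.map_sup, ← MonoidHom.range_eq_map, Subgroup.range_subtype, Sylow.coe_subtype,
        Subgroup.map_subgroupOf_eq_of_le hPN] at h1
      exact h1
  · rintro ⟨Q, hQ, -, hsup⟩
    refine Agent.Fusion.hasNormalPComplement_of_normalizer_le_centralizer P ?_
    refine le_of_eq_of_le (show _ = Q ⊔ (P : Subgroup G) from hsup.symm) ?_
    exact sup_le hQ (Subgroup.le_centralizer_iff_isMulCommutative.mpr hP)

end Cfsg.Agent.S0083
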