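import Cfsg.Statements.S0085
import Cfsg.Agent.H25.SmallSylow

set_option autoImplicit false
open Cfsg

namespace Cfsg.Agent.S0085


/-- A group whose Sylow 2-subgroups are elementary abelian of order 8 and whose order is prime to 3 and to 7 has a normal 2-complement. -/
theorem result {G : Type*} [Group G] [Finite G] (T : Sylow 2 G) (h8 : Nat.card T = 8) (he : ∀ x : T, x * x = 1) (h3 : ¬ 3 ∣ Nat.card G) (h7 : ¬ 7 ∣ Nat.card G) : Cfsg.HasNormalPComplement 2 G := by
  have hc : IsMulCommutative (T : Subgroup G) := by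
    refine ⟨⟨fun a b => ?_⟩⟩
    have h1 : ∀ x : (T : Subgroup G), x⁻¹ = x := fun x => inv_eq_of_mul_eq_one_right (he x)
    calc a * b = (a * b)⁻¹ := (h1 _).symm
      _ = b * a := by rw [mul_inv_rev, h1, h1]
  refine H25.hasNormalPComplement_of_counting T hc fun r hr hrG hr2 d hd hlt hrd => ?_
  rw [show Nat.card (T : Subgroup G) = 8 from h8] at hd hlt hrd
  have h3r : r ≠ 3 := fun e => h3 (e ▸ hrG)
  have h7r : r ≠ 7 := fun e => h7 (e ▸ hrG)
  interval_cases d <;> first | (norm_num at hd; done) | norm_num at hrd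
  · exact h7r ((Nat.prime_dvd_prime_iff_eq hr (by decide)).mp hrd)
  · rcases (hr.dvd_mul.mp (show r ∣ 2 * 3 from hrd)) with h | h
    · exact hr2 ((Nat.prime_dvd_prime_iff_eq hr Nat.prime_two).mp h)
    · exact h3r ((Nat.prime_dvd_prime_iff_eq hr Nat.prime_three).mp h)
  · exact hr2 ((Nat.prime_dvd_prime_iff_eq hr Nat.prime_two).mp
      (hr.dvd_of_dvd_pow (show r ∣ 2 ^ 2 from hrd)))

end Cfsg.Agent.S0085
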