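import Cfsg.Statements.S0090
import Cfsg.Agent.H25.Transfer
import Cfsg.Agent.Coprime.Abelian
import Mathlib.GroupTheory.SchurZassenhaus

set_option autoImplicit false
open Cfsg

namespace Cfsg.Agent.S0090

open scoped commutatorElement IsMulCommutative


/-- An abelian normal Hall subgroup A splits as the internal direct product of G' ∩ A and Z(G) ∩ A, and [A, G] = G' ∩ A. -/
theorem result {G : Type*} [Group G] [Finite G] (A : Subgroup G) [A.Normal] (hc : IsMulCommutative A) (hHall : Nat.Coprime (Nat.card A) A.index) : ⁅A, (⊤ : Subgroup G)⁆ = commutator G ⊓ A ∧ (commutator G ⊓ A) ⊓ (Subgroup.center G ⊓ A) = ⊥ ∧ (commutator G ⊓ A) ⊔ (Subgroup.center G ⊓ A) = A := by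
  have h1 : ⁅A, (⊤ : Subgroup G)⁆ = commutator G ⊓ A := by
    refine le_antisymm (le_inf ?_ ?_) ?_
    · rw [commutator_def]; exact Subgroup.commutator_mono le_top le_rfl
    · exact Subgroup.commutator_le_left A ⊤
    · refine (inf_le_inf_right A (Abelianization.commutator_subset_ker A.transferFocal)).trans ?_
      rw [(H25.transferFocal_ker A
        (hHall.symm.coprime_dvd_right (Subgroup.relIndex_dvd_card _ _))).1,
        Subgroup.focalSubgroup_def, Subgroup.closure_le]
      rintro _ ⟨-, x, hx, u, rfl⟩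
      exact Subgroup.commutator_mem_commutator hx (Subgroup.mem_top u)
  obtain ⟨B, hB⟩ := Subgroup.exists_right_complement'_of_coprime hHall
  have hBN : B ≤ Subgroup.normalizer (A : Set G) := by
    rw [Subgroup.normalizer_eq_top]; exact le_top
  have hcop : (Nat.card B).Coprime (Nat.card A) := by
    rw [← hB.symm.index_eq_card]; exact hHall.symm
  have hAC : A ≤ Subgroup.centralizer (A : Set G) := Subgroup.le_centralizer A
  have hdec : ∀ g : G, ∃ a ∈ A, ∃ b ∈ B, a * b = g := fun g => by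
    obtain ⟨⟨⟨a, ha⟩, ⟨b, hb⟩⟩, hab⟩ := hB.2 g
    exact ⟨a, ha, b, hb, hab⟩
  have h2 : ⁅A, (⊤ : Subgroup G)⁆ = ⁅A, B⁆ := by
    refine le_antisymm (Subgroup.commutator_le.mpr fun a ha g _ => ?_)
      (Subgroup.commutator_mono le_rfl le_top)
    obtain ⟨a', ha', b, hb, rfl⟩ := hdec g
    have hin : ⁅a, b⁆ ∈ A := Subgroup.commutator_le_left A ⊤
      (Subgroup.commutator_mem_commutator ha (Subgroup.mem_top b))
    have e : ⁅a, a' * b⁆ = ⁅a, b⁆ := by
      have c1 : a * a' = a' * a := Subgroup.mem_centralizer_iff.mp (hAC ha') a ha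
      have c2 : ⁅a, b⁆ * a'⁻¹ = a'⁻¹ * ⁅a, b⁆ :=
        Subgroup.mem_centralizer_iff.mp (hAC (inv_mem ha')) _ hin
      calc ⁅a, a' * b⁆ = a * a' * a⁻¹ * (⁅a, b⁆ * a'⁻¹) := by group
        _ = _ := by rw [c2, c1]; group
    rw [e]
    exact Subgroup.commutator_mem_commutator ha hb
  have h3 : A ⊓ Subgroup.centralizer (B : Set G) = Subgroup.center G ⊓ A := by
    refine le_antisymm (fun z hz => ⟨Subgroup.mem_center_iff.mpr fun g => ?_, hz.1⟩)
      (le_inf inf_le_right (inf_le_left.trans (Subgroup.center_le_centralizer _)))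
    obtain ⟨a', ha', b, hb, rfl⟩ := hdec g
    have c1 : a' * z = z * a' := Subgroup.mem_centralizer_iff.mp (hAC hz.1) a' ha'
    have c2 : b * z = z * b := Subgroup.mem_centralizer_iff.mp hz.2 b hb
    rw [mul_assoc, c2, ← mul_assoc, c1, mul_assoc]
  have hab := Coprime.abelian_decomposition hBN hcop
  refine ⟨h1, ?_, ?_⟩
  · rw [← h1, h2, ← h3, inf_comm]; exact hab.1
  · rw [← h1, h2, ← h3, sup_comm]; exact hab.2

end Cfsg.Agent.S0090
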