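import Cfsg.Statements.S0092
import Cfsg.Agent.Fusion.Basic
import Cfsg.Agent.Coprime.Abelian
import Cfsg.Agent.Coprime.SchurZassenhaus
import Mathlib.GroupTheory.SchurZassenhaus

set_option autoImplicit false
open Cfsg

namespace Cfsg.Agent.S0092

open scoped commutatorElement


/-- If the Sylow p-subgroups of O^p(G) are abelian then G splits over O^p(G). -/
theorem result {G : Type*} [Group G] [Finite G] {p : ℕ} [Fact p.Prime] (h : ∀ Q : Sylow p (Cfsg.pResidual p G), IsMulCommutative Q) : ∃ K : Subgroup G, K.IsComplement' (Cfsg.pResidual p G) := by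
  set K := Cfsg.pResidual p G with hK
  let Q₀ : Sylow p K := default
  have hQc := h Q₀
  let Q : Subgroup G := (Q₀ : Subgroup K).map K.subtype
  have hQK : Q ≤ K := Subgroup.map_subtype_le _
  let N := Subgroup.normalizer (Q : Set G)
  let M := N ⊓ K
  have hMN : M ≤ N := inf_le_left
  have hQM : Q ≤ M := le_inf Subgroup.le_normalizer hQK
  have hNK : N ⊔ K = ⊤ := Sylow.normalizer_sup_eq_top Q₀
  have hQabel : IsMulCommutative Q := Subgroup.le_centralizer_iff_isMulCommutative.mp (by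
    rintro _ ⟨a, ha, rfl⟩ _ ⟨b, hb, rfl⟩
    exact congrArg K.subtype (congrArg Subtype.val
      (hQc.is_comm.comm (⟨b, hb⟩ : (Q₀ : Subgroup K)) ⟨a, ha⟩)))
  -- a `p'`-complement of `Q` in `M`
  have : (Q.subgroupOf M).Normal := Subgroup.normal_subgroupOf_of_le_normalizer hMN
  have hQcard : Nat.card (Q.subgroupOf M) = Nat.card Q₀ := by
    rw [Nat.card_congr (Subgroup.subgroupOfEquivOfLe hQM).toEquiv,
      Subgroup.card_map_of_injective K.subtype_injective]
  have hcopM : Nat.Coprime (Nat.card (Q.subgroupOf M)) (Q.subgroupOf M).index := by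
    refine Nat.Coprime.coprime_dvd_right ?_ (hQcard ▸ Q₀.card_coprime_index)
    have h1 : Q.relIndex M ∣ Q.relIndex K :=
      ⟨M.relIndex K, (Subgroup.relIndex_mul_relIndex Q M K hQM inf_le_right).symm⟩
    have h2 : Q.relIndex K = (Q₀ : Subgroup K).index := by
      rw [Subgroup.relIndex, Subgroup.subgroupOf, Subgroup.comap_map_eq_self_of_injective
        K.subtype_injective]
    exact h2 ▸ h1
  obtain ⟨L₀, hL₀⟩ := Subgroup.exists_right_complement'_of_coprime hcopM
  let L : Subgroup G := L₀.map M.subtype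
  have hLM : L ≤ M := Subgroup.map_subtype_le _
  have hLcard : Nat.card L = (Q.subgroupOf M).index := by
    rw [Subgroup.card_map_of_injective M.subtype_injective, ← hL₀.symm.index_eq_card]
  have hcop : (Nat.card L).Coprime (Nat.card Q) := by
    rw [hLcard, ← Nat.card_congr (Subgroup.subgroupOfEquivOfLe hQM).toEquiv]
    exact hcopM.symm
  have hLp : Nat.Coprime p (Nat.card L) := by
    refine (Fact.out : p.Prime).coprime_iff_not_dvd.mpr fun hd => Q₀.not_dvd_index ?_
    rw [hLcard] at hd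
    refine hd.trans ?_
    have h1 : Q.relIndex M ∣ Q.relIndex K :=
      ⟨M.relIndex K, (Subgroup.relIndex_mul_relIndex Q M K hQM inf_le_right).symm⟩
    have h2 : Q.relIndex K = (Q₀ : Subgroup K).index := by
      rw [Subgroup.relIndex, Subgroup.subgroupOf, Subgroup.comap_map_eq_self_of_injective
        K.subtype_injective]
    exact h2 ▸ h1
  have hdecM : ∀ m ∈ M, ∃ q ∈ Q, ∃ l ∈ L, q * l = m := fun m hm => by
    obtain ⟨⟨⟨a, ha⟩, ⟨b, hb⟩⟩, hab⟩ := hL₀.2 ⟨m, hm⟩
    exact ⟨a, ha, b, ⟨b, hb, rfl⟩, congrArg Subtype.val hab⟩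
  have hLQ : L ≤ Subgroup.normalizer (Q : Set G) := hLM.trans hMN
  -- `Q = [Q, L]`
  have hQL : Q ≤ ⁅Q, L⁆ := by
    have htop : Cfsg.pResidual p K = ⊤ := Fusion.pResidual_pResidual_eq_top
    intro q hq
    obtain ⟨x, hx, rfl⟩ := hq
    have h1 : x ∈ commutator K ⊓ (Q₀ : Subgroup K) :=
      Fusion.pResidual_inf_le_commutator Q₀ ⟨htop ▸ Subgroup.mem_top x, hx⟩
    rw [Subgroup.commutator_inf_eq_focalSubgroup] at h1
    have hfoc : (Q₀ : Subgroup K).focalSubgroup ≤ (⁅Q, L⁆).comap K.subtype := by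
      rw [Subgroup.focalSubgroup_def, Subgroup.closure_le]
      rintro g ⟨hg, y, hy, u, rfl⟩
      have h2 : u * y⁻¹ * u⁻¹ ∈ (Q₀ : Subgroup K) := by
        have := mul_mem (inv_mem hy) hg
        simpa [commutatorElement_def, mul_assoc] using this
      obtain ⟨k, hk, hk'⟩ := Fusion.controlsElementFusion_normalizer_of_commutative Q₀ hQc y⁻¹
        (inv_mem hy) u h2
      have h3 : ⁅y, u⁆ = ⁅y, k⁆ := by
        calc ⁅y, u⁆ = y * (u * y⁻¹ * u⁻¹) := by group
          _ = ⁅y, k⁆ := by rw [← hk']; group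
      have hkM : (k : G) ∈ M := by
        refine ⟨Subgroup.mem_normalizer_iff.mpr fun g => ⟨?_, ?_⟩, k.2⟩
        · rintro ⟨z, hz, rfl⟩
          exact ⟨k * z * k⁻¹, (Subgroup.mem_normalizer_iff.mp hk z).mp hz, by simp⟩
        · rintro ⟨z, hz, e⟩
          refine ⟨k⁻¹ * z * k, (Subgroup.mem_normalizer_iff''.mp hk z).mp hz, ?_⟩
          rw [map_mul, map_mul, map_inv, e, Subgroup.coe_subtype]
          group
      obtain ⟨a, ha, b, hb, hab⟩ := hdecM _ hkM
      rw [SetLike.mem_coe, Subgroup.mem_comap, h3, map_commutatorElement]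
      simp only [Subgroup.coe_subtype]
      rw [← hab]
      have hyQ : (y : G) ∈ Q := ⟨y, hy, rfl⟩
      have e : ⁅(y : G), a * b⁆ = a * ⁅(y : G), b⁆ * a⁻¹ := by
        have c : (y : G) * a = a * y :=
          Subgroup.mem_centralizer_iff.mp (Subgroup.le_centralizer Q ha) y hyQ
        calc ⁅(y : G), a * b⁆ = ((y : G) * a) * b * (y : G)⁻¹ * b⁻¹ * a⁻¹ := by group
          _ = a * ⁅(y : G), b⁆ * a⁻¹ := by rw [c]; group
      rw [e]
      have hin : ⁅(y : G), b⁆ ∈ Q :=
        Coprime.commutator_le_left_of_normalizer hLQ (Subgroup.commutator_mem_commutator hyQ hb)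
      have c2 : a * ⁅(y : G), b⁆ = ⁅(y : G), b⁆ * a :=
        (Subgroup.mem_centralizer_iff.mp (Subgroup.le_centralizer Q hin) a ha)
      rw [c2, mul_inv_cancel_right]
      exact Subgroup.commutator_mem_commutator hyQ hb
    exact hfoc h1
  have hCQ : Q ⊓ Subgroup.centralizer (L : Set G) = ⊥ := by
    rw [eq_bot_iff, ← (Coprime.abelian_decomposition hLQ hcop).1]
    exact le_inf le_rfl (inf_le_left.trans hQL)
  -- Frattini argument for `L`
  let R := N ⊓ Subgroup.normalizer (L : Set G)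
  have hRK : R ⊔ K = ⊤ := by
    rw [eq_top_iff, ← hNK]
    refine sup_le (fun g hg => ?_) le_sup_right
    have hle : L.map (MulAut.conj g).toMonoidHom ≤ Q ⊔ L := by
      rintro _ ⟨l, hl, rfl⟩
      have hm : g * l * g⁻¹ ∈ M := Subgroup.mem_inf.mpr
        ⟨mul_mem (mul_mem hg (hMN (hLM hl))) (inv_mem hg),
          Fusion.pResidual_normal.conj_mem l (hLM hl).2 g⟩
      obtain ⟨q, hq, l', hl', e⟩ := hdecM _ hm
      show g * l * g⁻¹ ∈ Q ⊔ L
      rw [← e]
      exact mul_mem (Subgroup.mem_sup_left hq) (Subgroup.mem_sup_right hl')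
    obtain ⟨n, hn, he⟩ := Coprime.exists_conj_of_le_sup_comm hLQ hle
      (Subgroup.card_map_of_injective (MulAut.conj g).injective) hcop
    have hr : n⁻¹ * g ∈ R := by
      refine Subgroup.mem_inf.mpr ⟨mul_mem (inv_mem (Subgroup.le_normalizer hn)) hg, ?_⟩
      rw [Subgroup.mem_normalizer_iff_map_conj_eq]
      have := congrArg (Subgroup.map (MulAut.conj n⁻¹).toMonoidHom) he
      rw [Coprime.map_conj_map_conj, Coprime.map_conj_map_conj, inv_mul_cancel,
        Coprime.map_conj_one] at this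
      exact this
    have h5 := mul_mem (Subgroup.mem_sup_right (S := R) (hQK hn)) (Subgroup.mem_sup_left hr)
    rwa [mul_inv_cancel_left] at h5
  have hRK' : R ⊓ K ≤ L := by
    intro m hm'
    obtain ⟨hmR, hmK⟩ := Subgroup.mem_inf.mp hm'
    obtain ⟨hmN, hmL⟩ := Subgroup.mem_inf.mp hmR
    obtain ⟨q, hq, l, hl, rfl⟩ := hdecM m (Subgroup.mem_inf.mpr ⟨hmN, hmK⟩)
    have hqL : q ∈ Subgroup.normalizer (L : Set G) := by
      have := mul_mem hmL (inv_mem (Subgroup.le_normalizer hl))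
      rwa [mul_inv_cancel_right] at this
    have hq1 : q ∈ Q ⊓ Subgroup.centralizer (L : Set G) :=
      ⟨hq, Coprime.mem_centralizer_of_mem_normalizer hLQ (Coprime.inf_eq_bot hcop) hq hqL⟩
    rw [hCQ, Subgroup.mem_bot] at hq1
    rw [hq1, one_mul]
    exact hl
  -- a Sylow subgroup of `R` is a complement
  let S₀ : Sylow p R := default
  let S : Subgroup G := (S₀ : Subgroup R).map R.subtype
  have hS : IsPGroup p S := S₀.isPGroup'.map _
  refine ⟨S, ?_⟩
  have hdisj : Disjoint S K := by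
    rw [disjoint_iff, eq_bot_iff]
    intro x hx
    have hxL : x ∈ L := hRK' ⟨Subgroup.map_subtype_le _ hx.1, hx.2⟩
    obtain ⟨k, hk⟩ := IsPGroup.iff_card.mp hS
    have h1 := Subgroup.orderOf_dvd_natCard S hx.1
    rw [hk] at h1
    exact Subgroup.mem_bot.mpr (orderOf_eq_one_iff.mp
      (Nat.eq_one_of_dvd_coprimes (hLp.pow_left k) h1 (Subgroup.orderOf_dvd_natCard L hxL)))
  refine Subgroup.isComplement'_of_disjoint_and_mul_eq_univ hdisj ?_
  rw [← Subgroup.mul_normal, ← Subgroup.coe_top, SetLike.coe_set_eq]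
  have hf : Function.Surjective ((QuotientGroup.mk' K).comp R.subtype) := by
    intro y
    obtain ⟨g, rfl⟩ := QuotientGroup.mk'_surjective K y
    have hg : g ∈ (R ⊔ K : Subgroup G) := hRK ▸ Subgroup.mem_top g
    rw [← SetLike.mem_coe, Subgroup.mul_normal] at hg
    obtain ⟨r, hr, k, hk, rfl⟩ := Set.mem_mul.mp hg
    refine ⟨⟨r, hr⟩, ?_⟩
    simp [(QuotientGroup.eq_one_iff k).mpr hk]
  have htop2 : ((S₀.mapSurjective hf : Sylow p (G ⧸ K)) : Subgroup (G ⧸ K)) = ⊤ := by
    set T := (S₀.mapSurjective hf : Sylow p (G ⧸ K))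
    exact (T.is_maximal' ((Fusion.isPGroup_quotient_pResidual (G := G)).to_subgroup ⊤)
      le_top).symm
  rw [Sylow.coe_mapSurjective, ← Subgroup.map_map] at htop2
  have := congrArg (Subgroup.comap (QuotientGroup.mk' K)) htop2
  rw [Subgroup.comap_map_eq, Subgroup.comap_top, QuotientGroup.ker_mk'] at this
  exact this

end Cfsg.Agent.S0092
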