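import Cfsg.Statements.S0097
import Cfsg.Agent.PGroups.Extraspecial
-- import your own Cfsg.Agent.* helpers here

set_option autoImplicit false
open Cfsg

namespace Cfsg.Agent.S0097

open Subgroup

/-- For odd p and E extraspecial, the subgroup generated by the elements of order dividing p has exponent dividing p and index at most p. -/
theorem result {E : Type*} [Group E] [Finite E] {p : ℕ} [Fact p.Prime] (hp : p ≠ 2) (h : Cfsg.IsExtraspecial p E) : (Subgroup.closure {x : E | x ^ p = 1}).index ≤ p ∧ ∀ g ∈ Subgroup.closure {x : E | x ^ p = 1}, g ^ p = 1 := by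
  have hs : PGroups.SmallClass p E := Or.inl ⟨hp, PGroups.isSpecial_commutator_le h.1⟩
  refine ⟨?_, fun g hg => hs.pow_eq_one_of_mem_closure hg⟩
  have hexp : ∀ x ∈ commutator E, x ^ p = 1 := fun x hx => PGroups.pow_eq_one_of_mem_commutator
    (PGroups.isSpecial_commutator_le h.1) (PGroups.isSpecial_pow_mem_center h.1) hx
  let f : E →* center E := MonoidHom.mk' (fun x => ⟨x ^ p, PGroups.isSpecial_pow_mem_center h.1 x⟩)
    fun a b => Subtype.ext ((hs.mul_pow a b).1 hexp)
  have hker : Subgroup.closure {x : E | x ^ p = 1} = f.ker := by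
    refine le_antisymm ((Subgroup.closure_le _).mpr fun x hx => ?_) fun x hx => Subgroup.subset_closure ?_
    · exact MonoidHom.mem_ker.mpr (Subtype.ext hx)
    · exact congrArg Subtype.val (MonoidHom.mem_ker.mp hx)
  rw [hker, Subgroup.index_ker]
  exact (Subgroup.card_le_card_group _).trans h.2.le

end Cfsg.Agent.S0097
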