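import Cfsg.Statements.S0098
import Cfsg.Agent.H25.ExtraspecialIso

set_option autoImplicit false
open Cfsg

namespace Cfsg.Agent.S0098


/-- For odd p, extraspecial p-groups of exponent p are determined up to isomorphism by their order. -/
theorem result {E₁ : Type*} {E₂ : Type*} [Group E₁] [Group E₂] [Finite E₁] [Finite E₂] {p : ℕ} [Fact p.Prime] (hp : p ≠ 2) (h₁ : Cfsg.IsExtraspecial p E₁) (h₂ : Cfsg.IsExtraspecial p E₂) (he₁ : Monoid.exponent E₁ = p) (he₂ : Monoid.exponent E₂ = p) (hc : Nat.card E₁ = Nat.card E₂) : Nonempty (E₁ ≃* E₂) := by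
  have e1 : ∀ x : E₁, x ^ p = 1 := fun x => he₁ ▸ Monoid.pow_exponent_eq_one x
  have e2 : ∀ x : E₂, x ^ p = 1 := fun x => he₂ ▸ Monoid.pow_exponent_eq_one x
  have hne1 : Subgroup.center E₁ ≠ ⊥ := fun e => by
    have := h₁.2
    rw [e, Subgroup.card_bot] at this
    exact (Fact.out : p.Prime).ne_one this.symm
  obtain ⟨⟨z, hz⟩, hz1⟩ := Subgroup.ne_bot_iff_exists_ne_one.mp hne1
  have hne2 : Subgroup.center E₂ ≠ ⊥ := fun e => by
    have := h₂.2
    rw [e, Subgroup.card_bot] at this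
    exact (Fact.out : p.Prime).ne_one this.symm
  obtain ⟨⟨w, hw⟩, hw1⟩ := Subgroup.ne_bot_iff_exists_ne_one.mp hne2
  obtain ⟨e, -⟩ := H25.exists_equiv_exponent _ E₁ E₂ le_rfl hc (H25.extraLike_of_extraspecial h₁)
    (H25.extraLike_of_extraspecial h₂) e1 e2 z hz (fun e => hz1 (Subtype.ext e)) w hw (fun e => hw1 (Subtype.ext e))
  exact ⟨e⟩

end Cfsg.Agent.S0098
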