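import Cfsg.Statements.S0100
import Cfsg.Agent.H41.NormalElementary

set_option autoImplicit false
open Cfsg

namespace Cfsg.Agent.S0100

/-- For odd p, a p-group without normal elementary abelian subgroups of order p^3 has p-rank at most 2. -/
theorem result {P : Type*} [Group P] [Finite P] {p : ℕ} [Fact p.Prime] (hp : p ≠ 2) (hP : IsPGroup p P) (h : ∀ A : Subgroup P, A.Normal → IsMulCommutative A → (∀ a ∈ A, a ^ p = 1) → Nat.card A ≠ p ^ 3) (E : Subgroup P) (hE : IsMulCommutative E) (hEe : ∀ e ∈ E, e ^ p = 1) : Nat.card E ≤ p ^ 2 := by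
  refine Cfsg.Agent.H41.card_le_sq_of_no_normal hp hP (fun A hA hAc hAe => ?_) E hE hEe
  by_contra hlt
  push Not at hlt
  haveI := hA
  obtain ⟨M, hMn, -, hMA, hM⟩ := PGroups.exists_normal_card_pow_mul hP ⊥ A bot_le 3
    (by rw [Subgroup.card_eq_one.mpr rfl, mul_one]; exact hlt)
  exact h M hMn (PGroups.isMulCommutative_of_comm fun x hx y hy =>
    PGroups.comm_of_isMulCommutative hAc (hMA hx) (hMA hy)) (fun x hx => hAe x (hMA hx))
    (by rw [hM, Subgroup.card_eq_one.mpr rfl, mul_one])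

end Cfsg.Agent.S0100
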