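import Cfsg.Statements.S0101
import Mathlib.GroupTheory.Transfer
import Cfsg.Agent.PGroups.Basic

set_option autoImplicit false
open Cfsg

namespace Cfsg.Agent.S0101


/-- In a perfect central extension, the kernel meets each Sylow p-subgroup P inside the Frattini subgroup of P. -/
theorem result {H : Type*} {G : Type*} [Group H] [Group G] [Finite H] (σ : H →* G) (hσ : Function.Surjective σ) (hc : σ.ker ≤ Subgroup.center H) (hH : commutator H = ⊤) {p : ℕ} [Fact p.Prime] (P : Sylow p H) : σ.ker ⊓ (P : Subgroup H) ≤ (frattini P).map (P : Subgroup H).subtype := by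
  intro z hz
  obtain ⟨hzk, hzP⟩ := hz
  refine ⟨⟨z, hzP⟩, ?_, rfl⟩
  show (⟨z, hzP⟩ : (P : Subgroup H)) ∈ Order.radical (Subgroup (P : Subgroup H))
  rw [Order.radical, Subgroup.mem_iInf]
  intro M
  rw [Subgroup.mem_iInf]
  intro hM
  have : M.Normal := PGroups.normal_of_isCoatom P.isPGroup' hM
  have hMi : Nat.card ((P : Subgroup H) ⧸ M) = p :=
    (Subgroup.index_eq_card M).symm.trans (PGroups.index_eq_of_isCoatom P.isPGroup' hM)
  have : IsCyclic ((P : Subgroup H) ⧸ M) := isCyclic_of_prime_card hMi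
  let _ : CommGroup ((P : Subgroup H) ⧸ M) := IsCyclic.commGroup
  have hzc := hc hzk
  have key : ∀ (k : ℕ) (g₀ : H), g₀⁻¹ * z ^ k * g₀ ∈ (P : Subgroup H) →
      g₀⁻¹ * z ^ k * g₀ = z ^ k := by
    intro k g₀ _
    rw [mul_assoc, ← Subgroup.mem_center_iff.mp (pow_mem hzc k) g₀, inv_mul_cancel_left]
  have h1 := MonoidHom.transfer_eq_pow (QuotientGroup.mk' M) z key
  have h2 : MonoidHom.transfer (QuotientGroup.mk' M) z = 1 :=
    Abelianization.commutator_subset_ker _ (by rw [hH]; trivial)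
  rw [h2] at h1
  have h3 : QuotientGroup.mk' M ⟨z, hzP⟩ ^ (P : Subgroup H).index = 1 := by
    rw [← map_pow]; exact h1.symm
  have h4 : QuotientGroup.mk' M ⟨z, hzP⟩ ^ p = 1 := by
    have := pow_card_eq_one' (x := QuotientGroup.mk' M ⟨z, hzP⟩)
    rwa [hMi] at this
  have h5 := (pow_gcd_eq_one (a := QuotientGroup.mk' M ⟨z, hzP⟩)).mpr ⟨h4, h3⟩
  rw [((Fact.out : p.Prime).coprime_iff_not_dvd.mpr P.not_dvd_index).gcd_eq_one, pow_one] at h5
  exact (QuotientGroup.eq_one_iff _).mp h5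

end Cfsg.Agent.S0101
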