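import Cfsg.Statements.S0102
import Cfsg.Agent.H25.Transfer
import Mathlib.GroupTheory.SpecificGroups.Cyclic

set_option autoImplicit false
open Cfsg

namespace Cfsg.Agent.S0102


/-- A finite perfect group with cyclic Sylow p-subgroups has no perfect central extension whose kernel has order divisible by p. -/
theorem result {G : Type*} {H : Type*} [Group G] [Group H] [Finite G] [Finite H] (hG : commutator G = ⊤) {p : ℕ} [Fact p.Prime] (hcyc : ∀ P : Sylow p G, IsCyclic P) (σ : H →* G) (hσ : Function.Surjective σ) (hz : σ.ker ≤ Subgroup.center H) (hH : commutator H = ⊤) : ¬ p ∣ Nat.card σ.ker := by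
  intro hd
  obtain ⟨z, hzo⟩ := exists_prime_orderOf_dvd_card' p hd
  have hzo' : orderOf (z : H) = p := by rw [Subgroup.orderOf_coe, hzo]
  obtain ⟨P, hP⟩ := (IsPGroup.of_card (n := 1) (G := Subgroup.zpowers (z : H))
    (by rw [Nat.card_zpowers, hzo', pow_one])).exists_le_sylow
  have hPc : IsMulCommutative (P : Subgroup H) := by
    let f : (P : Subgroup H) →* ((P.mapSurjective hσ : Sylow p G) : Subgroup G) :=
      σ.subgroupMap (P : Subgroup H)
    have : IsCyclic ((P.mapSurjective hσ : Sylow p G) : Subgroup G) := hcyc _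
    refine ⟨⟨fun a b => commutative_of_cyclic_center_quotient f (fun x hx => ?_) a b⟩⟩
    rw [Subgroup.mem_center_iff]
    intro y
    exact Subtype.ext (Subgroup.mem_center_iff.mp
      (hz (congrArg (Subtype.val : _ → G) (MonoidHom.mem_ker.mp hx))) y)
  have h1 := H25.eq_one_of_mem_commutator_of_mem_center (P : Subgroup H) hPc P.card_coprime_index
    (hP (Subgroup.mem_zpowers _)) (hz z.2) (by rw [hH]; trivial)
  rw [h1, orderOf_one] at hzo'
  exact (Fact.out : p.Prime).ne_one hzo'.symm

end Cfsg.Agent.S0102
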