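import Cfsg.Statements.S0104
import Cfsg.Agent.Fusion.Basic

set_option autoImplicit false
open Cfsg

namespace Cfsg.Agent.S0104

/-- A subgroup Z of a Sylow p-subgroup P that is normalized by N_G(P) is weakly closed in P exactly when it is normal in every Sylow p-subgroup containing it. -/
theorem result {G : Type*} [Group G] [Finite G] {p : ℕ} [Fact p.Prime] (P : Sylow p G) (Z : Subgroup G) (hZP : Z ≤ (P : Subgroup G)) (hZN : Subgroup.normalizer (P : Set G) ≤ Subgroup.normalizer (Z : Set G)) : Cfsg.IsWeaklyClosed Z P ↔ ∀ R : Sylow p G, Z ≤ (R : Subgroup G) → (R : Subgroup G) ≤ Subgroup.normalizer (Z : Set G) := by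
  have hPN : (P : Subgroup G) ≤ Subgroup.normalizer (Z : Set G) := Subgroup.le_normalizer.trans hZN
  constructor
  · intro hW R hR
    obtain ⟨g, hg⟩ := MulAction.exists_smul_eq G R P
    have h1 : Z.map (MulAut.conj g).toMonoidHom = Z := hW.2 g (hg ▸ Subgroup.map_mono hR)
    have hgN := Subgroup.mem_normalizer_iff_map_conj_eq.mpr h1
    intro r hr
    have h2 : (MulAut.conj g).toMonoidHom r ∈ ((g • R : Sylow p G) : Subgroup G) := ⟨r, hr, rfl⟩
    rw [hg] at h2
    simpa [MulAut.conj_apply, mul_assoc] using mul_mem (mul_mem (inv_mem hgN) (hPN h2)) hgN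
  · intro h
    refine ⟨hZP, fun g hg => ?_⟩
    have hZR : Z ≤ ((g⁻¹ • P : Sylow p G) : Subgroup G) := fun z hz =>
      ⟨_, hg ⟨z, hz, rfl⟩, by simp [MulAut.conj_apply, MulAut.smul_def, mul_assoc]⟩
    have hR := h _ hZR
    obtain ⟨n, hn⟩ := MulAction.exists_smul_eq (Subgroup.normalizer (Z : Set G))
      (P.subtype hPN) ((g⁻¹ • P : Sylow p G).subtype hR)
    rw [Sylow.smul_subtype] at hn
    have hn' : (n : G) • P = g⁻¹ • P := Sylow.subtype_injective hn
    have hgn : g * n ∈ Subgroup.normalizer (Z : Set G) :=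
      hZN (Sylow.smul_eq_iff_mem_normalizer.mp (by rw [mul_smul, hn', smul_inv_smul]))
    refine Subgroup.mem_normalizer_iff_map_conj_eq.mp ?_
    simpa using mul_mem hgn (inv_mem n.2)

end Cfsg.Agent.S0104
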