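import Cfsg.Statements.S0105
import Cfsg.Agent.Fusion.Basic

set_option autoImplicit false
open Cfsg

namespace Cfsg.Agent.S0105

/-- With an abelian Sylow p-subgroup P, some quotient of G is isomorphic to the part of P central in N_G(P). -/
theorem result {G : Type*} [Group G] [Finite G] {p : ℕ} [Fact p.Prime] (P : Sylow p G) (hP : IsMulCommutative P) : ∃ (N : Subgroup G) (hN : N.Normal), Nonempty (G ⧸ N ≃* ((P : Subgroup G) ⊓ Subgroup.centralizer (Subgroup.normalizer (P : Set G) : Set G) : Subgroup G)) := by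
  have hp : p.Prime := Fact.out
  set N := Subgroup.normalizer (P : Set G) with hN
  set Z := (P : Subgroup G) ⊓ Subgroup.centralizer (N : Set G) with hZ
  have hPc : ∀ a ∈ (P : Subgroup G), ∀ b ∈ (P : Subgroup G), a * b = b * a := fun a ha b hb =>
    congrArg Subtype.val (mul_comm' (⟨a, ha⟩ : (P : Subgroup G)) ⟨b, hb⟩)
  letI : CommGroup (P : Subgroup G) :=
    { (inferInstance : Group (P : Subgroup G)) with mul_comm := fun a b => mul_comm' a b }
  letI : Fintype (N ⧸ (P : Subgroup G).subgroupOf N) := Fintype.ofFinite _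
  have hconjP : ∀ n ∈ N, ∀ x ∈ (P : Subgroup G), n * x * n⁻¹ ∈ (P : Subgroup G) := fun n hn x hx =>
    (Subgroup.mem_normalizer_iff.mp hn x).mp hx
  let cj : N ⧸ (P : Subgroup G).subgroupOf N → ((P : Subgroup G) →* (P : Subgroup G)) := fun q =>
    { toFun := fun x => ⟨(q.out : G) * x * (q.out : G)⁻¹, hconjP _ q.out.2 x x.2⟩
      map_one' := Subtype.ext (by simp)
      map_mul' := fun x y => Subtype.ext (by simp) }
  let μ : (P : Subgroup G) →* (P : Subgroup G) := ∏ q, cj q
  have hμ : ∀ x, μ x = ∏ q, cj q x := fun x => MonoidHom.finsetProd_apply _ _ _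
  have hμZ : ∀ x, ((μ x : (P : Subgroup G)) : G) ∈ Z := by
    intro x
    refine ⟨(μ x).2, Subgroup.mem_centralizer_iff.mpr fun n hn => ?_⟩
    let c : (P : Subgroup G) →* (P : Subgroup G) :=
      { toFun := fun x => ⟨n * x * n⁻¹, hconjP n hn x x.2⟩
        map_one' := Subtype.ext (by simp)
        map_mul' := fun x y => Subtype.ext (by simp) }
    have h1 : ∀ q : N ⧸ (P : Subgroup G).subgroupOf N,
        c (cj q x) = cj ((⟨n, hn⟩ : N) • q) x := by
      intro q
      have h2 : (⟨n, hn⟩ : N) • q =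
          (((⟨n, hn⟩ : N) * q.out : N) : N ⧸ (P : Subgroup G).subgroupOf N) := by
        conv_lhs => rw [← QuotientGroup.out_eq' q]
        rfl
      obtain ⟨m, hm⟩ := QuotientGroup.mk_out_eq_mul ((P : Subgroup G).subgroupOf N)
        ((⟨n, hn⟩ : N) * q.out)
      apply Subtype.ext
      change n * ((q.out : G) * x * (q.out : G)⁻¹) * n⁻¹ =
        ((((⟨n, hn⟩ : N) • q).out : N) : G) * x * ((((⟨n, hn⟩ : N) • q).out : N) : G)⁻¹
      rw [h2, hm]
      have h3 : ((m : N) : G) * (x : G) * ((m : N) : G)⁻¹ = (x : G) := by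
        rw [hPc ((m : N) : G) m.2 (x : G) x.2, mul_inv_cancel_right]
      push_cast
      calc n * ((q.out : G) * (x : G) * (q.out : G)⁻¹) * n⁻¹
          = n * (q.out : G) * (x : G) * (n * (q.out : G))⁻¹ := by group
        _ = n * (q.out : G) * (((m : N) : G) * (x : G) * ((m : N) : G)⁻¹) *
              (n * (q.out : G))⁻¹ := by rw [h3]
        _ = _ := by group
    have h4 : c (μ x) = μ x := by
      rw [hμ, map_prod]
      simp only [h1]
      exact Fintype.prod_equiv (MulAction.toPerm (⟨n, hn⟩ : N)) _ _ fun q => rfl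
    have h5 := congrArg Subtype.val h4
    exact mul_inv_eq_iff_eq_mul.mp h5
  let v : G →* (P : Subgroup G) := MonoidHom.transfer (MonoidHom.id (P : Subgroup G))
  let ψ : G →* Z :=
    (((P : Subgroup G).subtype.comp μ).comp v).codRestrict Z fun g => hμZ (v g)
  have hcopZ : ∀ k : ℕ, ¬ p ∣ k → (Nat.card Z).Coprime k := by
    intro k hk
    obtain ⟨j, hj⟩ := IsPGroup.iff_card.mp (P.isPGroup'.to_le (inf_le_left : Z ≤ P))
    rw [hj]
    exact (hp.coprime_iff_not_dvd.mpr hk).pow_left j
  have hidx : ¬ p ∣ (P : Subgroup G).index := P.not_dvd_index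
  have hidxN : ¬ p ∣ Fintype.card (N ⧸ (P : Subgroup G).subgroupOf N) := by
    rw [← Nat.card_eq_fintype_card, ← Subgroup.index_eq_card]
    exact fun hd => hidx (hd.trans (Subgroup.relIndex_dvd_index_of_le Subgroup.le_normalizer))
  have hψ : Function.Surjective ψ := by
    intro z
    obtain ⟨w, hw⟩ := (Nat.Coprime.pow_left_bijective (hcopZ _
      (fun hd => (hp.dvd_mul.mp hd).elim hidx hidxN) :
        (Nat.card Z).Coprime ((P : Subgroup G).index *
          Fintype.card (N ⧸ (P : Subgroup G).subgroupOf N)))).2 z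
    refine ⟨w, ?_⟩
    rw [← hw]
    apply Subtype.ext
    change ((μ (v w) : (P : Subgroup G)) : G) = _
    have hwP : (w : G) ∈ (P : Subgroup G) := w.2.1
    have key : ∀ (k : ℕ) (g₀ : G), g₀⁻¹ * (w : G) ^ k * g₀ ∈ (P : Subgroup G) →
        g₀⁻¹ * (w : G) ^ k * g₀ = (w : G) ^ k := by
      intro k g₀ hg₀
      obtain ⟨m, hm, he⟩ := Fusion.controlsElementFusion_normalizer_of_commutative P hP
        _ (pow_mem hwP k) g₀⁻¹ (by simpa using hg₀)
      rw [inv_inv] at he
      rw [← he]
      rw [Subgroup.mem_centralizer_iff.mp (pow_mem w.2.2 k) m hm, mul_inv_cancel_right]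
    have hvw : v w = (⟨w, hwP⟩ : (P : Subgroup G)) ^ (P : Subgroup G).index := by
      apply Subtype.ext
      rw [show v w = _ from MonoidHom.transfer_eq_pow _ _ key]
      simp
    have hcw : ∀ q, cj q (v w) = v w := by
      intro q
      rw [hvw, map_pow]
      congr 1
      apply Subtype.ext
      change (q.out : G) * (w : G) * (q.out : G)⁻¹ = (w : G)
      rw [Subgroup.mem_centralizer_iff.mp w.2.2 _ q.out.2, mul_inv_cancel_right]
    rw [hμ, Finset.prod_congr rfl fun q _ => hcw q, Finset.prod_const, Finset.card_univ, hvw,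
      ← pow_mul]
    simp
  exact ⟨ψ.ker, MonoidHom.normal_ker ψ, ⟨QuotientGroup.quotientKerEquivOfSurjective ψ hψ⟩⟩

end Cfsg.Agent.S0105
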