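import Cfsg.Statements.S0109
import Cfsg.Agent.Thompson.Factorization
-- import your own Cfsg.Agent.* helpers here

set_option autoImplicit false
open Cfsg

namespace Cfsg.Agent.S0109

/-- The Thompson factorization Theorem for solvable groups states that, with p odd (and abelian Sylow 2-subgroups when p = 3) and no nontrivial normal subgroup of order prime to p, every element of G is a product of an element normalizing J(P) and an element centralizing the elements of order dividing p in the centre of P. -/
theorem result {G : Type*} [Group G] [Finite G] {p : ℕ} [Fact p.Prime] (hp : p ≠ 2) (hs : Group.IsSolvable G) (h3 : p = 3 → ∀ T : Sylow 2 G, IsMulCommutative T) (hF : ∀ N : Subgroup G, N.Normal → Nat.Coprime (Nat.card N) p → N = ⊥) (P : Sylow p G) (g : G) : ∃ a ∈ Subgroup.normalizer (Cfsg.thompsonSubgroupOf p (P : Subgroup G) : Set G), ∃ c ∈ Subgroup.centralizer {x : G | x ∈ (P : Subgroup G) ∧ (∀ y ∈ (P : Subgroup G), x * y = y * x) ∧ x ^ p = 1}, g = a * c := by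
  have : Group.IsSolvable G := hs
  have hO : Cfsg.pPrimeCore p G = ⊥ := hF _ inferInstance Cores.coprime_card_pPrimeCore
  have hfree : ¬ Thompson.HasSection (Matrix.SpecialLinearGroup (Fin 2) (ZMod p)) G := by
    by_cases h5 : p = 3
    · exact Thompson.not_hasSection_SL2_of_abelian hp default (h3 h5 default)
    · have h2 := (Fact.out : p.Prime).two_le
      have h4 : p ≠ 4 := fun h => absurd (h ▸ (Fact.out : p.Prime)) (by norm_num)
      exact Thompson.not_hasSection_sl2_of_isPSolvable (by omega) Cores.isPSolvable_of_isSolvable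
  obtain ⟨a, ha, c, hc, rfl⟩ := Thompson.thompson_factorization hp
    (Cores.centralizer_pCore_le Cores.isPSolvable_of_isSolvable hO) (Thompson.stableOnNormal_of_sl2_free hp hfree) P g
  rw [← Thompson.thompsonSubgroupOf_eq] at ha
  refine ⟨a, ha, c, Subgroup.mem_centralizer_iff.mpr fun x hx => ?_, rfl⟩
  exact Subgroup.mem_centralizer_iff.mp hc x
    ⟨hx.1, Subgroup.mem_centralizer_iff.mpr fun y hy => (hx.2.1 y hy).symm, hx.2.2⟩

end Cfsg.Agent.S0109
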