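import Cfsg.Statements.S0113
import Cfsg.Agent.PGroups.Taussky
-- import your own Cfsg.Agent.* helpers here

set_option autoImplicit false
open Cfsg

namespace Cfsg.Agent.S0113

open Subgroup

/-- A 2-group of maximal class contains a cyclic subgroup of index 2. -/
theorem result {X : Type*} [Group X] [Finite X] (n : ℕ) (hn : 3 ≤ n) (hX : Nat.card X = 2 ^ n) (hc : Group.nilpotencyClass X = n - 1) : ∃ C : Subgroup X, IsCyclic C ∧ C.index = 2 := by
  haveI : Fact (Nat.Prime 2) := ⟨Nat.prime_two⟩
  obtain ⟨c, hk⟩ := PGroups.exists_cyclic_index_two n X hn hX hc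
  refine ⟨zpowers c, inferInstance, ?_⟩
  have h1 := (zpowers c).card_mul_index
  rw [Nat.card_zpowers, hk, hX] at h1
  nth_rw 2 [show n = (n - 1) + 1 by omega] at h1
  rw [pow_succ] at h1
  exact Nat.eq_of_mul_eq_mul_left (by positivity) h1

end Cfsg.Agent.S0113
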