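import Cfsg.Statements.S0115
import Cfsg.Agent.PGroups.Taussky
-- import your own Cfsg.Agent.* helpers here

set_option autoImplicit false
open Cfsg

namespace Cfsg.Agent.S0115

open Subgroup

/-- A 2-group of order 2^n, n ≥ 3, is of maximal class exactly when its commutator quotient is a Klein four-group. -/
theorem result {X : Type*} [Group X] [Finite X] (n : ℕ) (hn : 3 ≤ n) (hX : Nat.card X = 2 ^ n) : Group.nilpotencyClass X = n - 1 ↔ IsKleinFour (X ⧸ commutator X) := by
  haveI : Fact (Nat.Prime 2) := ⟨Nat.prime_two⟩
  constructor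
  · intro hc
    have hidx := PGroups.index_commutator_of_maxClass hn hX hc
    have h4 : Nat.card (X ⧸ commutator X) = 4 := by rw [← Subgroup.index_eq_card, hidx]
    have hXp := IsPGroup.of_card hX
    obtain ⟨hZ, -, -⟩ := PGroups.card_center_of_maxClass hn hX hc
    have hnc : ¬ IsCyclic X := fun h => by
      haveI := h
      haveI : IsMulCommutative X := inferInstance
      have : center X = ⊤ := eq_top_iff.mpr fun x _ =>
        Subgroup.mem_center_iff.mpr fun y => this.is_comm.comm y x
      rw [this, Subgroup.card_top, hX] at hZ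
      exact absurd (Nat.pow_right_injective le_rfl (hZ.trans (pow_one 2).symm)) (by omega)
    have hncq : ¬ IsCyclic (X ⧸ commutator X) := fun h => by
      haveI := h
      haveI : IsCyclic (X ⧸ frattini X) := isCyclic_of_surjective
        (QuotientGroup.map _ _ (MonoidHom.id X) (PGroups.commutator_le_frattini hXp))
        (fun q => QuotientGroup.induction_on q fun x => ⟨(x : X ⧸ commutator X), rfl⟩)
      exact hnc PGroups.isCyclic_of_frattini
    refine ⟨h4, Nat.dvd_antisymm (Monoid.exponent_dvd_of_forall_pow_eq_one fun q => ?_) ?_⟩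
    · obtain ⟨j, hj, hqj⟩ := (Nat.dvd_prime_pow Nat.prime_two).mp ((orderOf_dvd_natCard q).trans (dvd_of_eq (h4.trans (by norm_num : 4 = 2 ^ 2))))
      have hj2 : j ≠ 2 := fun h => hncq (isCyclic_of_orderOf_eq_card q (by rw [hqj, h, h4]; norm_num))
      rw [← orderOf_dvd_iff_pow_eq_one, hqj]
      exact Nat.pow_dvd_pow 2 (by omega : j ≤ 1) |>.trans (by norm_num)
    · obtain ⟨g, hg⟩ := exists_prime_orderOf_dvd_card' 2 (by rw [h4]; norm_num)
      exact hg ▸ Monoid.order_dvd_exponent g
  · intro h
    exact PGroups.maxClass_of_index_commutator n X hn hX (by rw [Subgroup.index_eq_card]; exact h.card_four)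

end Cfsg.Agent.S0115
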