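import Cfsg.Statements.S0119
import Cfsg.Agent.PGroups.Commutator
import Cfsg.Agent.PGroups.Basic
import Cfsg.Agent.H24.Nilp

set_option autoImplicit false
open Cfsg

namespace Cfsg.Agent.S0119

open scoped commutatorElement IsMulCommutative


/-- If a p'-group A of automorphisms of a p-group G satisfies G = [G, A] and acts trivially on every characteristic abelian subgroup, then G is special with centre equal to the fixed points of A. -/
theorem result {G : Type*} [Group G] [Finite G] {p : ℕ} [Fact p.Prime] (hG : IsPGroup p G) (A : Subgroup (MulAut G)) (hA : Nat.Coprime (Nat.card A) p) (hGA : Subgroup.closure {x : G | ∃ g : G, ∃ a ∈ A, x = g⁻¹ * a g} = ⊤) (hchar : ∀ H : Subgroup G, H.Characteristic → IsMulCommutative H → ∀ a ∈ A, ∀ h ∈ H, a h = h) : Cfsg.IsSpecial p G ∧ (∀ g : G, (g ∈ Subgroup.center G ↔ ∀ a ∈ A, a g = g)) := by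
  classical
  have hcent : ∀ H : Subgroup G, H.Characteristic → IsMulCommutative H → H ≤ Subgroup.center G := by
    intro H hH hc h hh
    have := hH
    have hle : (⊤ : Subgroup G) ≤ Subgroup.centralizer ({h} : Set G) := by
      rw [← hGA, Subgroup.closure_le]
      rintro _ ⟨g, b, hb, rfl⟩
      rw [SetLike.mem_coe, Subgroup.mem_centralizer_singleton_iff]
      have h1 : g * h * g⁻¹ ∈ H := (inferInstance : H.Normal).conj_mem h hh g
      have h2 := hchar H hH hc b hb _ h1
      rw [map_mul, map_mul, map_inv, hchar H hH hc b hb h hh] at h2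
      calc g⁻¹ * b g * h = g⁻¹ * (b g * h * (b g)⁻¹) * b g := by group
        _ = g⁻¹ * (g * h * g⁻¹) * b g := by rw [h2]
        _ = h * (g⁻¹ * b g) := by group
    exact Subgroup.mem_center_iff.mpr fun g =>
      Subgroup.mem_centralizer_singleton_iff.mp (hle (Subgroup.mem_top g))
  have hfix : ∀ z ∈ Subgroup.center G, ∀ b ∈ A, b z = z := fun z hz b hb =>
    hchar (Subgroup.center G) inferInstance
      (Subgroup.le_centralizer_iff_isMulCommutative.mp (Subgroup.center_le_centralizer _)) b hb z hz
  have hnil : Group.IsNilpotent G := hG.isNilpotent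
  have hcl2 : commutator G ≤ Subgroup.center G := by
    by_contra hne
    set q := QuotientGroup.mk' (Subgroup.center G) with hq
    have hmapne : (commutator G).map q ≠ ⊥ := by
      intro h0
      rw [Subgroup.map_eq_bot_iff, QuotientGroup.ker_mk'] at h0
      exact hne h0
    have : ((commutator G).map q).Normal :=
      Subgroup.Normal.map inferInstance _ (QuotientGroup.mk'_surjective _)
    obtain ⟨⟨z, hz⟩, hz1⟩ := Subgroup.ne_bot_iff_exists_ne_one.1
      (Cfsg.Agent.H24.inf_center_ne_bot _ hmapne)
    rw [Ne, Subgroup.mk_eq_one] at hz1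
    obtain ⟨d, hd, rfl⟩ := hz.1
    let W : Subgroup G := Subgroup.upperCentralSeries G 2 ⊓ commutator G
    have hW2 : ∀ w ∈ Subgroup.upperCentralSeries G 2, ∀ g : G, ⁅w, g⁆ ∈ Subgroup.center G := by
      intro w hw g
      have := (Subgroup.mem_upperCentralSeries_succ_iff (n := 1)).mp hw g
      rwa [Subgroup.upperCentralSeries_one] at this
    have hWc : IsMulCommutative W := by
      have hW : W ≤ Subgroup.centralizer (W : Set G) := by
        intro w hw v hv
        let φ : G →* Subgroup.center G := MonoidHom.mk' (fun g => ⟨⁅w, g⁆, hW2 w hw.1 g⟩)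
          (fun g g' => Subtype.ext
            (PGroups.commutatorElement_mul_right_of_mem_center (hW2 w hw.1 g')))
        have : v ∈ φ.ker := Abelianization.commutator_subset_ker φ hv.2
        have h1 := congrArg (Subtype.val : Subgroup.center G → G) this
        exact (commutatorElement_eq_one_iff_mul_comm.mp h1).symm
      exact Subgroup.le_centralizer_iff_isMulCommutative.mp hW
    have hWchar : W.Characteristic := by
      rw [Subgroup.characteristic_iff_le_comap]
      intro φ w hw
      exact ⟨(Subgroup.characteristic_iff_le_comap.mp inferInstance φ) hw.1,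
        (Subgroup.characteristic_iff_le_comap.mp inferInstance φ) hw.2⟩
    refine hz1 ((QuotientGroup.eq_one_iff d).mpr (hcent W hWchar hWc ⟨?_, hd⟩))
    refine (Subgroup.mem_upperCentralSeries_succ_iff (n := 1)).mpr fun g => ?_
    rw [Subgroup.upperCentralSeries_one, ← QuotientGroup.eq_one_iff]
    have := Subgroup.mem_center_iff.mp hz.2 (q g)
    rw [← commutatorElement_eq_one_iff_mul_comm] at this
    rw [← QuotientGroup.mk'_apply, map_commutatorElement, ← commutatorElement_inv, this, inv_one]
  have := Fintype.ofFinite A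
  let ab : G →* Abelianization G := Abelianization.of
  let ν : G →* Abelianization G := ∏ b : A, ab.comp (b : MulAut G).toMonoidHom
  have hν : ∀ g, ν g = ∏ b : A, ab ((b : MulAut G) g) := fun g => by simp [ν]
  have hν1 : ∀ g, ν g = 1 := by
    intro g
    have hle : (⊤ : Subgroup G) ≤ ν.ker := by
      rw [← hGA, Subgroup.closure_le]
      rintro _ ⟨g, b, hb, rfl⟩
      rw [SetLike.mem_coe, MonoidHom.mem_ker, map_mul, map_inv, inv_mul_eq_one, hν, hν]
      exact (Fintype.prod_equiv (Equiv.mulRight (⟨b, hb⟩ : A)) _ _ fun _ => rfl).symm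
    exact hle (Subgroup.mem_top g)
  have hCA : ∀ g : G, (∀ b ∈ A, b g = g) → g ∈ commutator G := by
    intro g hg
    have h1 : (ab g) ^ Nat.card A = 1 := by
      rw [← hν1 g, hν, Finset.prod_eq_pow_card (b := ab g) fun b _ => by rw [hg _ b.2],
        Finset.card_univ, Nat.card_eq_fintype_card]
    obtain ⟨k, hk⟩ := hG g
    have h2 : (ab g) ^ p ^ k = 1 := by rw [← map_pow, hk, map_one]
    have h3 := pow_gcd_eq_one.mpr ⟨h1, h2⟩
    rw [(hA.pow_right k).gcd_eq_one, pow_one] at h3
    rw [← Abelianization.ker_of G]
    exact h3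
  have hZ : commutator G = Subgroup.center G :=
    le_antisymm hcl2 fun z hz => hCA z (hfix z hz)
  have hc' : ∀ x y : G, ⁅x, y⁆ ∈ Subgroup.center G := fun x y =>
    hcl2 (Subgroup.commutator_mem_commutator (Subgroup.mem_top x) (Subgroup.mem_top y))
  have hexp : ∀ e : ℕ, (∀ x y : G, ⁅x, y⁆ ^ p ^ e = 1) → ∀ x y : G, ⁅x, y⁆ ^ p = 1 := by
    intro e
    induction e with
    | zero =>
      intro h x y
      have := h x y
      rw [pow_zero, pow_one] at this
      rw [this, one_pow]
    | succ e ih =>
      intro h
      rcases Nat.eq_zero_or_pos e with rfl | he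
      · intro x y; simpa using h x y
      refine ih fun x y => ?_
      let S : Set G := Set.range (fun g : G => g ^ p ^ e)
      have hScomm : ∀ s ∈ S, ∀ t ∈ S, s * t = t * s := by
        rintro _ ⟨u, rfl⟩ _ ⟨v, rfl⟩
        rw [← commutatorElement_eq_one_iff_mul_comm,
          PGroups.commutatorElement_pow_left_of_mem_center (hc' _ _),
          PGroups.commutatorElement_pow_right_of_mem_center (hc' _ _), ← pow_mul, ← pow_add]
        rw [show e + e = e + 1 + (e - 1) by omega, pow_add _ (e + 1), pow_mul, h, one_pow]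
      have hSc : IsMulCommutative (Subgroup.closure S) :=
        Subgroup.isMulCommutative_closure hScomm
      have hSchar : (Subgroup.closure S).Characteristic := by
        rw [Subgroup.characteristic_iff_le_comap]
        intro φ
        rw [Subgroup.closure_le]
        rintro _ ⟨u, rfl⟩
        exact Subgroup.subset_closure ⟨φ u, (map_pow φ u _).symm⟩
      have h1 := hcent _ hSchar hSc (Subgroup.subset_closure ⟨x, rfl⟩)
      rw [← PGroups.commutatorElement_pow_left_of_mem_center (hc' x y),
        commutatorElement_eq_one_iff_mul_comm]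
      exact (Subgroup.mem_center_iff.mp h1 y).symm
  obtain ⟨m, hm⟩ := IsPGroup.iff_card.mp hG
  have hp1 := hexp m fun x y => by rw [← hm]; exact pow_card_eq_one'
  have hpow : ∀ x : G, x ^ p ∈ Subgroup.center G := fun x => Subgroup.mem_center_iff.mpr fun y => by
    refine (commutatorElement_eq_one_iff_mul_comm.mp ?_).symm
    rw [PGroups.commutatorElement_pow_left_of_mem_center (hc' x y), hp1]
  refine ⟨⟨hG, le_antisymm ?_ (hZ.ge.trans (PGroups.commutator_le_frattini hG)), hZ⟩,
    fun g => ⟨fun hg => hfix g hg, fun hg => hcl2 (hCA g hg)⟩⟩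
  exact PGroups.frattini_le_of_commutator_le (p := p) (Subgroup.center G) hcl2 hpow

end Cfsg.Agent.S0119
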