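import Cfsg.Statements.S0125
import Cfsg.Agent.Fusion.PComplement

set_option autoImplicit false
open Cfsg

namespace Cfsg.Agent.S0125

/-- The centralizer of a self-centralizing normal subgroup A of a Sylow p-subgroup is the direct product of A with a normal p'-subgroup. -/
theorem result {G : Type*} [Group G] [Finite G] {p : ℕ} [Fact p.Prime] (R : Sylow p G) (A : Subgroup G) (hAR : A ≤ (R : Subgroup G)) (hAn : (R : Subgroup G) ≤ Subgroup.normalizer (A : Set G)) (hC : (R : Subgroup G) ⊓ Subgroup.centralizer (A : Set G) = A) : ∃ H : Subgroup G, H ≤ Subgroup.centralizer (A : Set G) ∧ Nat.Coprime (Nat.card H) p ∧ Subgroup.centralizer (A : Set G) ≤ Subgroup.normalizer (H : Set G) ∧ H ⊓ A = ⊥ ∧ H ⊔ A = Subgroup.centralizer (A : Set G) := by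
  set C := Subgroup.centralizer (A : Set G) with hCdef
  have hAC : A ≤ C := hC.ge.trans inf_le_right
  set N := Subgroup.normalizer (A : Set G) with hNdef
  have hCN : C ≤ N := Subgroup.centralizer_le_normalizer _
  have hRidx : ¬ p ∣ ((A.subgroupOf C)).index := by
    have := Fact.out (p := p.Prime)
    let Q : Sylow p C := default
    suffices h : (Q : Subgroup C) ≤ A.subgroupOf C from
      fun hd => Q.not_dvd_index (hd.trans (Subgroup.index_dvd_of_le h))
    obtain ⟨T, hT⟩ := (Q.isPGroup'.map (Subgroup.inclusion hCN)).exists_le_sylow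
    obtain ⟨n, hn⟩ := MulAction.exists_smul_eq N T (R.subtype hAn)
    intro x hx
    have h1 : n * (Subgroup.inclusion hCN x) * n⁻¹ ∈ (R.subtype hAn : Subgroup N) := by
      rw [← hn]
      exact ⟨_, hT ⟨x, hx, rfl⟩, rfl⟩
    have h1' : (n : G) * (x : G) * (n : G)⁻¹ ∈ (R : Subgroup G) := h1
    have h2 : (n : G) * (x : G) * (n : G)⁻¹ ∈ C := by
      show _ ∈ Subgroup.centralizer (A : Set G)
      rw [Subgroup.mem_centralizer_iff]
      intro a ha
      have h3 := Subgroup.mem_centralizer_iff.mp x.2 ((n : G)⁻¹ * a * n)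
        (by simpa using (Subgroup.mem_normalizer_iff.mp (inv_mem n.2) a).mp ha)
      calc a * ((n : G) * x * (n : G)⁻¹) = n * (((n : G)⁻¹ * a * n) * x) * (n : G)⁻¹ := by group
        _ = _ := by rw [h3]; group
    have h4 : (n : G) * (x : G) * (n : G)⁻¹ ∈ A := hC.le ⟨h1', h2⟩
    exact (Subgroup.mem_normalizer_iff.mp n.2 _).mpr h4
  let S : Sylow p C :=
    (((R.isPGroup'.to_le hAR).comap_subtype (K := C))).toSylow hRidx
  have hS : (S : Subgroup C) = A.subgroupOf C := rfl
  have hNC : Subgroup.normalizer ((S : Subgroup C) : Set C) ≤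
      Subgroup.centralizer ((S : Subgroup C) : Set C) := by
    intro x _ a ha
    rw [hS] at ha
    exact Subtype.ext (x.2 _ ha)
  have hc := Fusion.hasNormalPComplement_of_normalizer_le_centralizer S hNC
  have hcomp := Fusion.isComplement'_pResidual hc S
  refine ⟨(Cfsg.pResidual p C).map C.subtype, Subgroup.map_subtype_le _, ?_, ?_, ?_, ?_⟩
  · rw [Subgroup.card_map_of_injective C.subtype_injective, Nat.coprime_comm]
    exact (Fact.out : p.Prime).coprime_iff_not_dvd.mpr
      (Fusion.hasNormalPComplement_iff_pResidual.mp hc)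
  · exact Subgroup.normal_subgroupOf_iff_le_normalizer (Subgroup.map_subtype_le _) |>.mp (by
      rw [Subgroup.subgroupOf, Subgroup.comap_map_eq_self_of_injective C.subtype_injective]
      infer_instance)
  · rw [← Subgroup.map_subgroupOf_eq_of_le hAC, ← Subgroup.map_inf _ _ _ C.subtype_injective,
      ← hS, hcomp.disjoint.eq_bot, Subgroup.map_bot]
  · rw [← Subgroup.map_subgroupOf_eq_of_le hAC, ← Subgroup.map_sup, ← hS, hcomp.sup_eq_top,
      ← MonoidHom.range_eq_map, Subgroup.range_subtype]

end Cfsg.Agent.S0125
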