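import Cfsg.Statements.S0162
import Cfsg.Agent.CharBasic.Complete
import Cfsg.Agent.CharBasic.Integral
import Cfsg.Agent.CharInduce.Ops
import Cfsg.Agent.CharInduce.Twist
import Mathlib.Data.ZMod.Basic

set_option autoImplicit false
open Cfsg

namespace Cfsg.Agent.S0162

/-- If a finite group has odd order, its order is congruent to its number of conjugacy classes modulo 16. -/
theorem result {G : Type*} [Group G] [Finite G] (hodd : Odd (Nat.card G)) : Nat.card G ≡ Nat.card (ConjClasses G) [MOD 16] := by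
  classical
  have : Fintype G := Fintype.ofFinite G
  have hdeg : ∀ χ : Cfsg.IrrCharacter G, ∃ d : ℕ, (χ : G → ℂ) 1 = d ∧ Odd d := by
    rintro ⟨χ, n, ρ, hρ, rfl⟩
    refine ⟨Module.finrank ℂ (Fin n → ℂ), Representation.char_one ρ, ?_⟩
    exact Odd.of_dvd_nat hodd (CharBasic.finrank_dvd_card ρ)
  choose d hd hdodd using hdeg
  have hsum : ∑ χ : Cfsg.IrrCharacter G, d χ ^ 2 = Nat.card G := by
    have h := CharBasic.sum_sq_degree (G := G)
    simp only [hd] at h
    exact_mod_cast h
  let τ : Cfsg.IrrCharacter G → Cfsg.IrrCharacter G := fun χ =>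
    ⟨fun g => starRingEnd ℂ ((χ : G → ℂ) g), CharInduce.IsIrr.conj χ.2⟩
  let f : Cfsg.IrrCharacter G → ZMod 16 := fun χ => (d χ ^ 2 : ℕ) - 1
  have hτd : ∀ χ, d (τ χ) = d χ := by
    intro χ
    have h1 : ((d (τ χ) : ℕ) : ℂ) = starRingEnd ℂ ((χ : G → ℂ) 1) := (hd (τ χ)).symm
    rw [hd χ, map_natCast] at h1
    exact_mod_cast h1
  have hzero : ∑ χ : Cfsg.IrrCharacter G, f χ = 0 := by
    refine Finset.sum_involution (fun χ _ => τ χ) ?_ ?_ (fun χ _ => Finset.mem_univ _) ?_
    · intro χ _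
      obtain ⟨j, hj⟩ := hdodd χ
      obtain ⟨r, hr⟩ := Nat.even_mul_succ_self j
      have h8 : d χ ^ 2 = 8 * r + 1 := by
        have : j * (j + 1) = r + r := hr
        rw [hj]; nlinarith
      show (((d χ ^ 2 : ℕ) : ZMod 16) - 1) + (((d (τ χ) ^ 2 : ℕ) : ZMod 16) - 1) = 0
      rw [hτd, h8]
      push_cast
      have : (16 : ZMod 16) = 0 := rfl
      linear_combination (r : ZMod 16) * this
    · intro χ _ hf hfix
      apply hf
      have h1 : (χ : G → ℂ) = fun _ => 1 := CharInduce.eq_one_of_real_of_odd hodd χ.2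
        (fun g => congrFun (congrArg Subtype.val hfix) g)
      have : ((d χ : ℕ) : ℂ) = 1 := (hd χ).symm.trans (congrFun h1 1)
      have hd1 : d χ = 1 := by exact_mod_cast this
      show ((d χ ^ 2 : ℕ) : ZMod 16) - 1 = 0
      simp [hd1]
    · intro χ _
      apply Subtype.ext
      funext g
      exact Complex.conj_conj _
  simp only [f, Finset.sum_sub_distrib, Finset.sum_const, nsmul_eq_mul, mul_one, ← Nat.cast_sum,
    hsum, Finset.card_univ] at hzero
  rw [sub_eq_zero, ← Nat.card_eq_fintype_card, CharBasic.card_irrCharacter] at hzero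
  exact (ZMod.natCast_eq_natCast_iff _ _ _).1 hzero

end Cfsg.Agent.S0162
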