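import Cfsg.Statements.S0167
import Cfsg.Agent.CharBasic.Complete

set_option autoImplicit false
open Cfsg

namespace Cfsg.Agent.S0167

/-- An element g of a finite group is a commutator if and only if the sum over the irreducible characters χ of χ g / χ 1 is nonzero. -/
theorem result {G : Type*} [Group G] [Finite G] (g : G) : (∃ a b : G, g = a * b * a⁻¹ * b⁻¹) ↔ ∑ᶠ χ : Cfsg.IrrCharacter G, (χ : G → ℂ) g / (χ : G → ℂ) 1 ≠ 0 := by
  classical
  have : Fintype G := Fintype.ofFinite G
  rw [finsum_eq_sum_of_fintype]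
  let f : G → ℂ := fun y => ∑ a : G, ∑ b : G, if a * b * a⁻¹ * b⁻¹ = y then (1 : ℂ) else 0
  have hf : Cfsg.IsClassFunction G f := by
    intro y c
    refine Fintype.sum_equiv (MulAut.conj c⁻¹).toEquiv _ _ fun a => ?_
    refine Fintype.sum_equiv (MulAut.conj c⁻¹).toEquiv _ _ fun b => ?_
    have he : a * b * a⁻¹ * b⁻¹ = c * y * c⁻¹ ↔
        c⁻¹ * a * c⁻¹⁻¹ * (c⁻¹ * b * c⁻¹⁻¹) * (c⁻¹ * a * c⁻¹⁻¹)⁻¹ * (c⁻¹ * b * c⁻¹⁻¹)⁻¹ = y := by
      constructor
      · intro h
        calc _ = c⁻¹ * (a * b * a⁻¹ * b⁻¹) * c := by group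
          _ = y := by rw [h]; group
      · intro h
        rw [← h]; group
    simp only [MulEquiv.toEquiv_eq_coe, MulEquiv.coe_toEquiv, MulAut.conj_apply, he]
    congr
  have hcoef : ∀ χ : Cfsg.IrrCharacter G,
      Cfsg.classInner f (χ : G → ℂ) = (Nat.card G : ℂ) / (χ : G → ℂ) 1 := by
    intro χ
    obtain ⟨χ, n, ρ, hρ, rfl⟩ := χ
    have hd0 : (ρ.character 1) ≠ 0 := CharBasic.IsIrr.one_ne_zero ⟨n, ρ, hρ, rfl⟩
    have hinner : ∀ a : G, ∑ b : G, ρ.character (a * b * a⁻¹ * b⁻¹) =
        (Nat.card G : ℂ) / ρ.character 1 * (ρ.character a * starRingEnd ℂ (ρ.character a)) := by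
      intro a
      let T : Module.End ℂ (Fin n → ℂ) := ∑ b : G, ρ (b * a⁻¹ * b⁻¹)
      have hT : ∀ x, T * ρ x = ρ x * T := by
        intro x
        simp only [T, Finset.sum_mul, Finset.mul_sum, ← map_mul]
        refine Fintype.sum_equiv (Equiv.mulLeft x⁻¹) _ _ fun b => ?_
        simp [mul_assoc]
      obtain ⟨c, hc⟩ := CharBasic.schur_scalar ρ T hT
      have h1 : (Nat.card G : ℂ) * ρ.character a⁻¹ = c * ρ.character 1 := by
        have := congrArg (LinearMap.trace ℂ (Fin n → ℂ)) hc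
        rw [map_smul, LinearMap.trace_id, smul_eq_mul, ← Representation.char_one ρ] at this
        rw [← this, map_sum]
        show _ = ∑ b : G, ρ.character (b * a⁻¹ * b⁻¹)
        simp [Representation.char_conj, Nat.card_eq_fintype_card]
      have h2 : ∑ b : G, ρ.character (a * b * a⁻¹ * b⁻¹) = c * ρ.character a := by
        have : ∑ b : G, ρ.character (a * b * a⁻¹ * b⁻¹) = LinearMap.trace ℂ _ (ρ a * T) := by
          simp only [T, Finset.mul_sum, ← map_mul, map_sum, ← mul_assoc]
          rfl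
        rw [this, hc, mul_smul_comm, map_smul, smul_eq_mul]
        rfl
      rw [h2, ← CharBasic.character_inv]
      field_simp
      linear_combination -(ρ.character a) * h1
    have hnorm := CharBasic.classInner_irr_self (G := G) ⟨n, ρ, hρ, rfl⟩
    rw [CharBasic.classInner_def] at hnorm ⊢
    have hne : (Nat.card G : ℂ) ≠ 0 := Nat.cast_ne_zero.2 Nat.card_pos.ne'
    have htot : ∑ y : G, f y * starRingEnd ℂ (ρ.character y) =
        (Nat.card G : ℂ) / ρ.character 1 * ∑ a : G, ρ.character a * starRingEnd ℂ (ρ.character a) := by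
      rw [Finset.mul_sum]
      simp only [f, Finset.sum_mul]
      rw [Finset.sum_comm]
      refine Finset.sum_congr rfl fun a _ => ?_
      rw [Finset.sum_comm]
      simp only [ite_mul, one_mul, zero_mul, Finset.sum_ite_eq, Finset.mem_univ, if_true]
      rw [← map_sum, hinner a]
      obtain ⟨m, hm⟩ := CharBasic.IsIrr.exists_degree (G := G) ⟨n, ρ, hρ, rfl⟩
      simp only [map_mul, map_div₀, map_natCast, hm.2, Complex.conj_conj]
      ring
    rw [htot, mul_left_comm, hnorm, mul_one]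
  have hexp := congrFun (CharBasic.classFunction_expansion hf) g
  simp only [hcoef, Finset.sum_apply, Pi.smul_apply, smul_eq_mul] at hexp
  have hsum : (∑ χ : Cfsg.IrrCharacter G, (Nat.card G : ℂ) / (χ : G → ℂ) 1 * (χ : G → ℂ) g) =
      (Nat.card G : ℂ) * ∑ χ : Cfsg.IrrCharacter G, (χ : G → ℂ) g / (χ : G → ℂ) 1 := by
    rw [Finset.mul_sum]; exact Finset.sum_congr rfl fun χ _ => by ring
  rw [hsum] at hexp
  constructor
  · rintro ⟨a, b, rfl⟩ h0
    rw [h0, mul_zero] at hexp
    simp only [f, ← Fintype.sum_prod_type'] at hexp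
    rw [Finset.sum_boole, Nat.cast_eq_zero, Finset.card_eq_zero, Finset.filter_eq_empty_iff] at hexp
    exact hexp (Finset.mem_univ (a, b)) rfl
  · intro h
    by_contra hc
    push Not at hc
    have : f g = 0 := Finset.sum_eq_zero fun a _ => Finset.sum_eq_zero fun b _ =>
      if_neg fun e => hc a b e.symm
    rw [this] at hexp
    rcases mul_eq_zero.1 hexp.symm with h' | h'
    · exact Nat.card_pos.ne' (Nat.cast_eq_zero.1 h')
    · exact h h' 

end Cfsg.Agent.S0167
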