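import Cfsg.Statements.S0168
import Cfsg.Agent.CharBasic.Complete
import Mathlib.Algebra.Polynomial.BigOperators
import Mathlib.Algebra.Polynomial.Degree.Lemmas

set_option autoImplicit false
open Cfsg

namespace Cfsg.Agent.S0168

/-- The Burnside–Brauer Theorem. Let χ be the character of a faithful complex representation of a finite group, taking m distinct values. Then every irreducible character has nonzero inner product with χ ^ i for some i < m. -/
theorem result {G : Type*} [Group G] [Fintype G] {V : Type*} [AddCommGroup V] [Module ℂ V] [FiniteDimensional ℂ V] (ρ : Representation ℂ G V) (hfaithful : Function.Injective ρ) (ψ : G → ℂ) (hψ : Cfsg.IsIrrCharacter G ψ) : ∃ i : ℕ, i < Nat.card (Set.range ρ.character) ∧ Cfsg.classInner (fun g => ρ.character g ^ i) ψ ≠ 0 := by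
  classical
  by_contra hcon
  push Not at hcon
  have hne : (Nat.card G : ℂ) ≠ 0 := Nat.cast_ne_zero.2 Nat.card_pos.ne'
  let S : Finset ℂ := Finset.univ.image ρ.character
  have hcard : Nat.card (Set.range ρ.character) = S.card := by
    rw [← Set.image_univ, ← Finset.coe_univ, ← Finset.coe_image, Nat.card_coe_set_eq,
      Set.ncard_coe_finset]
  set v0 := ρ.character 1 with hv0
  let P : Polynomial ℂ := ∏ v ∈ S.erase v0, (Polynomial.X - Polynomial.C v)
  have hdeg : P.natDegree < S.card := by
    rw [Polynomial.natDegree_prod _ _ (fun v _ => Polynomial.X_sub_C_ne_zero v)]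
    simp only [Polynomial.natDegree_X_sub_C, Finset.sum_const, smul_eq_mul, mul_one]
    exact Finset.card_erase_lt_of_mem (Finset.mem_image.2 ⟨1, Finset.mem_univ _, rfl⟩)
  have hfix : ∀ g : G, ρ.character g = v0 → g = 1 := by
    intro g hg
    rw [hv0, Representation.char_one, CharBasic.character_eq_finrank_iff] at hg
    apply hfaithful
    rw [hg, map_one]; rfl
  have hP0 : P.eval v0 ≠ 0 := by
    simp only [P, Polynomial.eval_prod, Polynomial.eval_sub, Polynomial.eval_X, Polynomial.eval_C]
    exact Finset.prod_ne_zero_iff.2 fun v hv => sub_ne_zero.2 (Finset.ne_of_mem_erase hv).symm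
  have hPz : ∀ g : G, g ≠ 1 → P.eval (ρ.character g) = 0 := by
    intro g hg
    simp only [P, Polynomial.eval_prod, Polynomial.eval_sub, Polynomial.eval_X, Polynomial.eval_C]
    refine Finset.prod_eq_zero (i := ρ.character g) ?_ (sub_self _)
    exact Finset.mem_erase.2 ⟨fun h => hg (hfix g h), Finset.mem_image.2 ⟨g, Finset.mem_univ _, rfl⟩⟩
  have h1 : ∑ g : G, P.eval (ρ.character g) * starRingEnd ℂ (ψ g) = 0 := by
    simp only [Polynomial.eval_eq_sum_range, Finset.sum_mul]
    rw [Finset.sum_comm]
    refine Finset.sum_eq_zero fun i hi => ?_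
    have hlt : i < Nat.card (Set.range ρ.character) := by
      rw [Finset.mem_range] at hi; omega
    have h := hcon i hlt
    rw [CharBasic.classInner_def, mul_eq_zero] at h
    replace h := h.resolve_left (inv_ne_zero hne)
    simp only [mul_assoc, ← Finset.mul_sum]
    rw [h, mul_zero]
  rw [Finset.sum_eq_single 1 (fun g _ hg => by rw [hPz g hg, zero_mul]) (by simp)] at h1
  rcases mul_eq_zero.1 h1 with h | h
  · exact hP0 h
  · exact CharBasic.IsIrr.one_ne_zero hψ ((map_eq_zero _).1 h)

end Cfsg.Agent.S0168
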