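import Cfsg.Statements.S0171
import Cfsg.Agent.CharInduce.Induce
import Cfsg.Agent.CharInduce.Twist
-- import your own Cfsg.Agent.* helpers here

set_option autoImplicit false
open Cfsg

namespace Cfsg.Agent.S0171

open Pointwise in
theorem eq_one_of_commute {G : Type*} [Group G] [Finite G] (K H : Subgroup G) [hN : K.Normal]
    (hKH : K ⊓ H = ⊥) (hKH' : K ⊔ H = ⊤)
    (hfpf : ∀ h ∈ H, h ≠ 1 → ∀ k ∈ K, h * k = k * h → k = 1) {y : G} (hy : y ∉ K) {k : G}
    (hk : k ∈ K) (hc : y * k = k * y) : k = 1 := by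
  obtain ⟨a₀, ha₀, h, hh, rfl⟩ : y ∈ (K : Set G) * (H : Set G) := by
    rw [← Subgroup.normal_mul, hKH']; trivial
  have hh1 : h ≠ 1 := fun e => hy (by simpa [e] using ha₀)
  let φ : K → K := fun a => ⟨(a : G)⁻¹ * (h * a * h⁻¹),
    K.mul_mem (K.inv_mem a.2) (hN.conj_mem _ a.2 h)⟩
  have hinj : Function.Injective φ := by
    intro a b hab
    have e : (a : G)⁻¹ * (h * a * h⁻¹) = (b : G)⁻¹ * (h * b * h⁻¹) := congrArg Subtype.val hab
    have h1 : h * ((a : G) * (b : G)⁻¹) = ((a : G) * (b : G)⁻¹) * h :=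
      calc h * ((a : G) * (b : G)⁻¹)
          = a * ((a : G)⁻¹ * (h * a * h⁻¹)) * h * (b : G)⁻¹ := by group
        _ = a * ((b : G)⁻¹ * (h * b * h⁻¹)) * h * (b : G)⁻¹ := by rw [e]
        _ = ((a : G) * (b : G)⁻¹) * h := by group
    exact Subtype.ext (mul_inv_eq_one.1
      (hfpf h hh hh1 _ (K.mul_mem a.2 (K.inv_mem b.2)) h1))
  obtain ⟨a, ha⟩ := (Finite.injective_iff_surjective.1 hinj) ⟨a₀, ha₀⟩
  have ha' : (a : G)⁻¹ * (h * a * h⁻¹) = a₀ := congrArg Subtype.val ha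
  have h2 : h * ((a : G) * k * (a : G)⁻¹) = ((a : G) * k * (a : G)⁻¹) * h :=
    calc h * ((a : G) * k * (a : G)⁻¹)
        = a * ((((a : G)⁻¹ * (h * a * h⁻¹)) * h) * k) * (a : G)⁻¹ := by group
      _ = a * (k * (((a : G)⁻¹ * (h * a * h⁻¹)) * h)) * (a : G)⁻¹ := by rw [ha']; simp only at hc; rw [hc]
      _ = ((a : G) * k * (a : G)⁻¹) * h := by group
  exact conj_eq_one_iff.1 (hfpf h hh hh1 _ (hN.conj_mem _ hk a) h2)

theorem eq_one_of_conjFun_eq {G : Type*} [Group G] [Finite G] (K H : Subgroup G) [hN : K.Normal]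
    (hKH : K ⊓ H = ⊥) (hKH' : K ⊔ H = ⊤)
    (hfpf : ∀ h ∈ H, h ≠ 1 → ∀ k ∈ K, h * k = k * h → k = 1)
    {τ : K → ℂ} (hτ : Cfsg.IsIrrCharacter K τ) {g : G}
    (hg : CharInduce.conjFun K τ g = τ) (hgK : g ∉ K) : τ = fun _ => 1 := by
  have hcount := CharInduce.card_fixed_irr_mul (G := K) (MulAut.conjNormal g : K ≃* K)
    (CharInduce.isIrr_comp_mulEquiv _)
  have hpairs : Nat.card {p : K × K // p.2 * p.1 * p.2⁻¹ = (MulAut.conjNormal g : K ≃* K) p.1}
      = Nat.card K := by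
    refine Nat.card_congr ⟨fun p => p.1.2, fun x => ⟨(1, x), by simp⟩, ?_, fun x => rfl⟩
    rintro ⟨⟨k, x⟩, hx⟩
    have hx' : (x : G) * k * (x : G)⁻¹ = g * k * g⁻¹ := congrArg Subtype.val hx
    have hnot : (x : G)⁻¹ * g ∉ K := fun hm => hgK (by simpa using K.mul_mem x.2 hm)
    have hk1 : (k : G) = 1 := by
      refine eq_one_of_commute K H hKH hKH' hfpf hnot k.2 ?_
      calc (x : G)⁻¹ * g * k = (x : G)⁻¹ * (g * k * g⁻¹) * g := by group
        _ = (x : G)⁻¹ * ((x : G) * k * (x : G)⁻¹) * g := by rw [hx']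
        _ = (k : G) * ((x : G)⁻¹ * g) := by group
    obtain rfl : k = 1 := Subtype.ext hk1
    rfl
  rw [hpairs, Nat.mul_eq_right Nat.card_pos.ne'] at hcount
  obtain ⟨hsub, -⟩ := Nat.card_eq_one_iff_unique.1 hcount
  have h1 : (τ ∘ (MulAut.conjNormal g : K ≃* K)) = τ := by
    conv_rhs => rw [← hg, CharInduce.conjFun_eq_comp]
    rfl
  let a : {φ : Cfsg.IrrCharacter K //
      (φ : K → ℂ) ∘ (MulAut.conjNormal g : K ≃* K) = φ} := ⟨⟨τ, hτ⟩, h1⟩
  let b : {φ : Cfsg.IrrCharacter K //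
      (φ : K → ℂ) ∘ (MulAut.conjNormal g : K ≃* K) = φ} :=
    ⟨⟨_, CharBasic.isIrrCharacter_one⟩, rfl⟩
  exact congrArg (fun c => ((c.1 : Cfsg.IrrCharacter K) : K → ℂ)) (Subsingleton.elim a b)

/-- Let G = K H with K normal, K ⊓ H trivial, and no non-identity element of H commuting with a non-identity element of K (a Frobenius group with kernel K and complement H). Then every non-principal irreducible character of K induces to an irreducible character of G. -/
theorem result {G : Type*} [Group G] [Fintype G] (K H : Subgroup G) [K.Normal] (hKH : K ⊓ H = ⊥) (hKH' : K ⊔ H = ⊤) (hfpf : ∀ h ∈ H, h ≠ 1 → ∀ k ∈ K, h * k = k * h → k = 1) (τ : K → ℂ) (hτ : Cfsg.IsIrrCharacter K τ) (hτ1 : τ ≠ fun _ => 1) : Cfsg.IsIrrCharacter G (Cfsg.indFun K τ) := by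
  classical
  haveI := Fintype.ofFinite K
  refine CharInduce.isIrr_of_norm_one (CharInduce.IsChar.ind K (CharBasic.IsIrr.isCharacter hτ)) ?_
  have hin : ∀ x : G, CharInduce.conjFun K τ x = τ ↔ x ∈ K := fun x =>
    ⟨fun h => by_contra fun hx => hτ1 (eq_one_of_conjFun_eq K H hKH hKH' hfpf hτ h hx),
      fun h => CharInduce.le_inertia K (CharBasic.IsIrr.isClassFunction hτ) h⟩
  rw [CharInduce.classInner_indFun_left K τ _ (CharInduce.isClassFunction_indFun K τ),
    CharInduce.indFun_res_normal, CharBasic.classInner_smul_right, CharBasic.classInner_sum_right]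
  simp only [CharBasic.classInner_irr hτ (CharInduce.isIrrCharacter_conjFun K hτ _), map_inv₀,
    map_natCast, Finset.sum_boole]
  rw [show (Finset.univ.filter fun x : G => τ = CharInduce.conjFun K τ x)
      = Finset.univ.filter (fun x : G => x ∈ K) from
    Finset.filter_congr fun x _ => by rw [eq_comm, hin x], ← Fintype.card_subtype,
    ← Nat.card_eq_fintype_card, inv_mul_cancel₀ (CharInduce.card_ne_zero_complex K)]

end Cfsg.Agent.S0171
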