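import Cfsg.Statements.S0172
import Mathlib.GroupTheory.GroupAction.CardCommute
import Mathlib.Tactic

import Mathlib.GroupTheory.Complement
set_option autoImplicit false
open Cfsg

namespace Cfsg.Agent.S0172

/-- Class number of a Frobenius group: if G = K H with K normal, K ⊓ H trivial and no non-identity element of H commuting with a non-identity element of K, then |H| * k(G) + 1 = |H| * k(H) + k(K), where k denotes the number of conjugacy classes. -/
theorem result {G : Type*} [Group G] [Finite G] (K H : Subgroup G) [K.Normal] (hKH : K ⊓ H = ⊥) (hKH' : K ⊔ H = ⊤) (hfpf : ∀ h ∈ H, h ≠ 1 → ∀ k ∈ K, h * k = k * h → k = 1) : Nat.card H * Nat.card (ConjClasses G) + 1 = Nat.card H * Nat.card (ConjClasses H) + Nat.card (ConjClasses K) := by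
  classical
  have : Fintype G := Fintype.ofFinite G
  have hsum : ∀ (M : Type _) [Group M] [Fintype M],
      ∑ m : M, Nat.card {y : M // Commute m y} = Nat.card (ConjClasses M) * Nat.card M := by
    intro M _ _
    rw [← card_comm_eq_card_conjClasses_mul_card, ← Nat.card_sigma]
    exact Nat.card_congr ((Equiv.subtypeProdEquivSigmaSubtype (fun a b : M => Commute a b)).symm)
  have hcompl : Subgroup.IsComplement' K H :=
    Subgroup.isComplement'_of_disjoint_and_mul_eq_univ (disjoint_iff.2 hKH) (by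
      rw [← Subgroup.normal_mul, hKH', Subgroup.coe_top])
  have hdec : ∀ g : G, ∃ k ∈ K, ∃ h ∈ H, g = k * h := by
    intro g
    obtain ⟨⟨⟨k, hk⟩, ⟨h, hh⟩⟩, he⟩ := hcompl.2 g
    exact ⟨k, hk, h, hh, he.symm⟩
  have huniq : ∀ a ∈ H, ∀ b ∈ H, a * b⁻¹ ∈ K → a = b := by
    intro a ha b hb hab
    have : a * b⁻¹ ∈ K ⊓ H := Subgroup.mem_inf.2 ⟨hab, mul_mem ha (inv_mem hb)⟩
    rw [hKH, Subgroup.mem_bot] at this
    exact mul_inv_eq_one.1 this
  have hconjK : ∀ k ∈ K, ∀ g : G, g * k * g⁻¹ ∈ K := fun k hk g =>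
    ‹K.Normal›.conj_mem k hk g
  -- centralizers of complement elements
  have hCH : ∀ h ∈ H, h ≠ 1 → ∀ g : G, Commute h g → g ∈ H := by
    intro h hh h1 g hc
    obtain ⟨k, hk, h', hh', rfl⟩ := hdec g
    have he : k * (h' * h * h'⁻¹) * k⁻¹ = h := by
      have : (k * h') * h = h * (k * h') := hc.eq.symm
      calc k * (h' * h * h'⁻¹) * k⁻¹ = (k * h') * h * (k * h')⁻¹ := by group
        _ = h := by rw [this]; group
    have hm : h' * h * h'⁻¹ ∈ H := mul_mem (mul_mem hh' hh) (inv_mem hh')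
    have heq : h' * h * h'⁻¹ = h := by
      refine huniq _ hm _ hh ?_
      nth_rewrite 2 [← he]
      have : h' * h * h'⁻¹ * (k * (h' * h * h'⁻¹) * k⁻¹)⁻¹ =
          ((h' * h * h'⁻¹) * k * (h' * h * h'⁻¹)⁻¹) * k⁻¹ := by group
      rw [this]
      exact mul_mem (hconjK k hk _) (inv_mem hk)
    rw [heq] at he
    have hk1 : k = 1 := hfpf h hh h1 k hk (by
      calc h * k = k * h * k⁻¹ * k := by rw [he]
        _ = k * h := by group)
    rw [hk1, one_mul]; exact hh'
  -- the complement of K is covered by conjugates of nontrivial elements of H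
  let X := K × {h : H // (h : G) ≠ 1}
  let φ : X → {g : G // ¬ g ∈ K} := fun p => ⟨(p.1 : G) * (p.2.1 : G) * (p.1 : G)⁻¹, fun hc => p.2.2 (by
    have := hconjK _ hc (p.1 : G)⁻¹
    have h2 : (p.2.1 : G) ∈ K ⊓ H := ⟨by simpa [mul_assoc] using this, p.2.1.2⟩
    rwa [hKH, Subgroup.mem_bot] at h2)⟩
  have hφinj : Function.Injective φ := by
    rintro ⟨k₁, h₁⟩ ⟨k₂, h₂⟩ he
    have he' : (k₁ : G) * (h₁.1 : G) * (k₁ : G)⁻¹ = (k₂ : G) * (h₂.1 : G) * (k₂ : G)⁻¹ :=
      congrArg Subtype.val he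
    set c := (k₂ : G)⁻¹ * (k₁ : G) with hc
    have hcK : c ∈ K := mul_mem (inv_mem k₂.2) k₁.2
    have he2 : c * (h₁.1 : G) * c⁻¹ = h₂.1 := by
      calc c * (h₁.1 : G) * c⁻¹ = (k₂ : G)⁻¹ * ((k₁ : G) * (h₁.1 : G) * (k₁ : G)⁻¹) * k₂ := by
            rw [hc]; group
        _ = _ := by rw [he']; group
    have heq : (h₁.1 : G) = h₂.1 := by
      refine huniq _ h₁.1.2 _ h₂.1.2 ?_
      rw [← he2]
      have : (h₁.1 : G) * (c * (h₁.1 : G) * c⁻¹)⁻¹ = ((h₁.1 : G) * c * (h₁.1 : G)⁻¹) * c⁻¹ := by group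
      rw [this]
      exact mul_mem (hconjK c hcK _) (inv_mem hcK)
    rw [← heq] at he2
    have : c = 1 := hfpf _ h₁.1.2 h₁.2 c hcK (by
      calc (h₁.1 : G) * c = c * (h₁.1 : G) * c⁻¹ * c := by rw [he2]
        _ = c * (h₁.1 : G) := by group)
    rw [hc, inv_mul_eq_one] at this
    refine Prod.ext (Subtype.ext this.symm) (Subtype.ext (Subtype.ext heq))
  have hGKH : Nat.card G = Nat.card K * Nat.card H := hcompl.card_mul.symm
  have hXcard : Nat.card X + Nat.card K = Nat.card G := by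
    have e : {h : H // (h : G) ≠ 1} ≃ {h : H // ¬ h = 1} :=
      Equiv.subtypeEquivRight fun h => by simp
    rw [Nat.card_prod, Nat.card_congr e, Nat.card_eq_fintype_card (α := {h : H // ¬ h = 1}),
      Fintype.card_subtype_compl, Fintype.card_subtype_eq, hGKH, Nat.card_eq_fintype_card (α := H)]
    obtain ⟨m, hm⟩ := Nat.exists_eq_add_of_le' (Fintype.card_pos : 0 < Fintype.card H)
    rw [hm]; simp [Nat.mul_succ]
  have hφ : Function.Bijective φ := by
    rw [Fintype.bijective_iff_injective_and_card]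
    refine ⟨hφinj, ?_⟩
    have h1 : Fintype.card {g : G // ¬ g ∈ K} = Fintype.card G - Fintype.card K := by
      rw [Fintype.card_subtype_compl]
    rw [Nat.card_eq_fintype_card, Nat.card_eq_fintype_card, Nat.card_eq_fintype_card] at hXcard
    omega
  have hCK : ∀ k ∈ K, k ≠ 1 → ∀ g : G, Commute k g → g ∈ K := by
    intro k hk k1 g hc
    by_contra hg
    obtain ⟨⟨k', h⟩, he⟩ := hφ.2 ⟨g, hg⟩
    have he' : (k' : G) * (h.1 : G) * (k' : G)⁻¹ = g := congrArg Subtype.val he
    have hmem : (k' : G)⁻¹ * k * k' ∈ K := mul_mem (mul_mem (inv_mem k'.2) hk) k'.2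
    have := hfpf _ h.1.2 h.2 _ hmem (by
      calc (h.1 : G) * ((k' : G)⁻¹ * k * k') = (k' : G)⁻¹ * (g * k) * k' := by rw [← he']; group
        _ = (k' : G)⁻¹ * (k * g) * k' := by rw [hc.eq]
        _ = ((k' : G)⁻¹ * k * k') * (h.1 : G) := by rw [← he']; group)
    apply k1
    calc k = (k' : G) * ((k' : G)⁻¹ * k * k') * (k' : G)⁻¹ := by group
      _ = 1 := by rw [this]; group
  -- counting
  let c : G → ℕ := fun g => Nat.card {y : G // Commute g y}
  have hc1 : c 1 = Nat.card G := Nat.card_congr (Equiv.subtypeUnivEquiv fun y => Commute.one_left y)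
  have hcK : ∀ k : K, k ≠ 1 → c k = Nat.card {y : K // Commute k y} := fun k hk =>
    Nat.card_congr
      { toFun := fun y => ⟨⟨y.1, hCK k k.2 (fun h => hk (Subtype.ext h)) y.1 y.2⟩, Subtype.ext y.2.eq⟩
        invFun := fun y => ⟨y.1.1, congrArg Subtype.val y.2.eq⟩
        left_inv := fun y => rfl
        right_inv := fun y => rfl }
  have hcH : ∀ h : H, h ≠ 1 → c h = Nat.card {y : H // Commute h y} := fun h hh =>
    Nat.card_congr
      { toFun := fun y => ⟨⟨y.1, hCH h h.2 (fun e => hh (Subtype.ext e)) y.1 y.2⟩, Subtype.ext y.2.eq⟩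
        invFun := fun y => ⟨y.1.1, congrArg Subtype.val y.2.eq⟩
        left_inv := fun y => rfl
        right_inv := fun y => rfl }
  have hcconj : ∀ a g : G, c (a * g * a⁻¹) = c g := fun a g => by
    refine (Nat.card_congr ?_).symm
    refine Equiv.subtypeEquiv (MulAut.conj a).toEquiv fun y => ?_
    constructor
    · intro h
      exact (show Commute ((MulAut.conj a) g) ((MulAut.conj a) y) from h.map (MulAut.conj a))
    · intro h
      exact (show Commute g y from Commute.of_map (MulEquiv.injective (MulAut.conj a)) (h : Commute ((MulAut.conj a) g) ((MulAut.conj a) y)))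
  have hsplit : ∑ g : G, c g = (∑ k : K, c k) + ∑ g : {g : G // ¬ g ∈ K}, c g.1 :=
    (Fintype.sum_subtype_add_sum_subtype (fun g => g ∈ K) c).symm
  have hsK : (∑ k : K, c k) + Nat.card K = Nat.card (ConjClasses K) * Nat.card K + Nat.card G := by
    rw [← hsum K, ← Finset.add_sum_erase _ _ (Finset.mem_univ (1 : K)),
      ← Finset.add_sum_erase _ (fun m : K => Nat.card {y : K // Commute m y}) (Finset.mem_univ (1 : K))]
    rw [Finset.sum_congr rfl (fun k hk => hcK k (Finset.ne_of_mem_erase hk))]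
    rw [show c ((1 : K) : G) = Nat.card G from hc1,
      Nat.card_congr (Equiv.subtypeUnivEquiv fun y : K => Commute.one_left y)]
    ring
  have hsH : (∑ g : {g : G // ¬ g ∈ K}, c g.1) + Nat.card G =
      Nat.card K * (Nat.card (ConjClasses H) * Nat.card H) := by
    rw [← Equiv.sum_comp (Equiv.ofBijective φ hφ)]
    show (∑ p : K × {h : H // (h : G) ≠ 1}, c ((p.1 : G) * (p.2.1 : G) * (p.1 : G)⁻¹)) + _ = _
    simp only [hcconj]
    rw [Fintype.sum_prod_type]
    simp only [Finset.sum_const, Finset.card_univ, smul_eq_mul]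
    rw [← Nat.card_eq_fintype_card, hGKH, ← Nat.mul_add]
    congr 1
    rw [← hsum H, ← Finset.add_sum_erase _ _ (Finset.mem_univ (1 : H)),
      Nat.card_congr (Equiv.subtypeUnivEquiv fun y : H => Commute.one_left y), add_comm]
    congr 1
    refine Eq.trans ?_ (Finset.sum_congr rfl fun h hh => hcH h (Finset.ne_of_mem_erase hh))
    rw [← Finset.sum_subtype ((Finset.univ : Finset H).erase 1) (p := fun h : H => (h : G) ≠ 1)
      (fun h => by simp) (fun h : H => c h)]
  have htot := hsum G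
  show _ = _
  have h0 : ∑ g : G, c g = Nat.card (ConjClasses G) * Nat.card G := htot
  have hKpos : 0 < Nat.card K := Nat.card_pos
  apply Nat.eq_of_mul_eq_mul_left hKpos
  rw [hGKH] at h0 hsK hsH
  linarith

end Cfsg.Agent.S0172
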