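import Cfsg.Statements.S0173
import Cfsg.Agent.CharInduce.Twist
-- import your own Cfsg.Agent.* helpers here

set_option autoImplicit false
open Cfsg

namespace Cfsg.Agent.S0173

/-- Brauer's permutation lemma for a single automorphism: the number of conjugacy classes mapped to themselves equals the number of irreducible complex characters χ with χ ∘ α = χ. -/
theorem result {G : Type*} [Group G] [Finite G] (α : G ≃* G) : Nat.card {C : ConjClasses G // ConjClasses.map α.toMonoidHom C = C} = Nat.card {χ : Cfsg.IrrCharacter G // (χ : G → ℂ) ∘ α = (χ : G → ℂ)} := by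
  rw [CharInduce.card_fixed_irr_eq_card_fixed_classes (α : G → G) (CharInduce.isIrr_comp_mulEquiv α)]
  refine Nat.card_congr (Equiv.subtypeEquivRight fun C => ?_)
  constructor
  · rintro h g rfl
    exact (ConjClasses.mk_eq_mk_iff_isConj.1 h).symm
  · intro h
    obtain ⟨g, rfl⟩ := ConjClasses.exists_rep C
    exact ConjClasses.mk_eq_mk_iff_isConj.2 (h g rfl).symm

end Cfsg.Agent.S0173
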