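import Cfsg.Statements.S0175
import Cfsg.Agent.CharInduce.Induce
-- import your own Cfsg.Agent.* helpers here

set_option autoImplicit false
open Cfsg

namespace Cfsg.Agent.S0175

/-- Taketa's Theorem on M-groups: if every irreducible complex character of a finite group is induced from a linear character (a homomorphism to ℂˣ) of some subgroup, the group is solvable. -/
theorem result {G : Type*} [Group G] [Fintype G] (hM : ∀ χ : G → ℂ, Cfsg.IsIrrCharacter G χ → ∃ (H : Subgroup G) (lam : H →* ℂˣ), χ = Cfsg.indFun H (fun h => (lam h : ℂ))) : Group.IsSolvable G := by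
  classical
  -- the last term of the derived series
  set n₀ := Function.argmin (fun n => Nat.card (derivedSeries G n)) with hn₀
  set D := derivedSeries G n₀ with hD
  have hperf : ⁅D, D⁆ = D := by
    have hle : derivedSeries G (n₀ + 1) ≤ D := derivedSeries_antitone G (Nat.le_succ n₀)
    have h := Subgroup.eq_of_le_of_card_ge hle
      (Function.argmin_le (fun n => Nat.card (derivedSeries G n)) (n₀ + 1))
    rw [derivedSeries_succ] at h
    exact h
  haveI : D.Normal := derivedSeries_normal G n₀
  have key : ∀ (d : ℕ) (χ : G → ℂ), Cfsg.IsIrrCharacter G χ → χ 1 = d →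
      ∀ g ∈ D, χ g = χ 1 := by
    intro d
    induction d using Nat.strong_induction_on with
    | _ d ih =>
      intro χ hχ hd g hg
      obtain ⟨H, lam, rfl⟩ := hM χ hχ
      rw [CharInduce.indFun_one, map_one, Units.val_one, mul_one, Nat.cast_inj] at hd
      -- `D` lies in `H`
      have hDH : D ≤ H := by
        haveI := Fintype.ofFinite H
        set θ : G → ℂ := Cfsg.indFun H (fun _ => 1) with hθ
        have hθc : Cfsg.IsCharacter G θ := CharInduce.IsChar.ind H CharInduce.IsChar.one
        have hθ1 : Cfsg.classInner θ (fun _ : G => (1 : ℂ)) = 1 := by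
          rw [hθ, CharInduce.classInner_indFun_left H _ _ (fun _ _ => rfl)]
          exact CharBasic.classInner_irr_self CharBasic.isIrrCharacter_one
        obtain ⟨r, hr, her⟩ := CharInduce.IsChar.exists_eq_add hθc CharBasic.isIrrCharacter_one
          (by rw [hθ1]; exact one_ne_zero)
        intro x hx
        have hker : θ x = θ 1 := by
          rw [her, Pi.add_apply, Pi.add_apply]
          congr 1
          rw [CharBasic.classFunction_expansion (CharBasic.IsChar.isClassFunction hr)]
          simp only [Finset.sum_apply, Pi.smul_apply]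
          refine Finset.sum_congr rfl fun ψ _ => ?_
          by_cases h0 : Cfsg.classInner r (ψ : G → ℂ) = 0
          · simp [h0]
          obtain ⟨a, -, ha⟩ := CharBasic.IsIrr.exists_degree ψ.2
          obtain ⟨b, hb⟩ := CharBasic.IsChar.exists_degree hr
          have hab := CharInduce.IsChar.degree_le_of_constituent hr ψ.2 h0 ha hb
          have hdb : d = 1 + b := by
            have h1 := congrFun her 1
            rw [hθ, CharInduce.indFun_one, Pi.add_apply, hb, mul_one, hd] at h1
            exact_mod_cast h1
          rw [ih a (by omega) ψ ψ.2 ha x hx]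
        -- a kernel element fixes every coset, in particular the base one
        by_contra hxH
        rw [hθ, CharInduce.indFun_one, mul_one] at hker
        have h0 : ∀ y : G, Cfsg.extendByZero H (fun _ => (1 : ℂ)) (y⁻¹ * x * y) =
            if y⁻¹ * x * y ∈ H then 1 else 0 := fun y => by
          split_ifs with hy
          · rw [CharInduce.extendByZero_of_mem _ hy]
          · rw [CharInduce.extendByZero_of_not_mem _ hy]
        rw [CharInduce.indFun_apply, Finset.sum_congr rfl (fun y _ => h0 y), Finset.sum_boole,
          inv_mul_eq_iff_eq_mul₀ (CharInduce.card_ne_zero_complex H), ← Nat.cast_mul,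
          H.card_mul_index, Nat.cast_inj, Nat.card_eq_fintype_card] at hker
        have := Finset.eq_univ_of_card _ hker ▸ Finset.mem_univ (1 : G)
        exact hxH (by simpa using this)
      have hlam : ∀ x (hx : x ∈ D), lam ⟨x, hDH hx⟩ = 1 := by
        intro x hx
        have hle : ⁅D, D⁆ ≤ (lam.ker).map H.subtype := by
          rw [Subgroup.commutator_le]
          intro a ha b hb
          refine ⟨(⟨a, hDH ha⟩ : H) * ⟨b, hDH hb⟩ * (⟨a, hDH ha⟩ : H)⁻¹ * (⟨b, hDH hb⟩ : H)⁻¹, ?_, rfl⟩
          rw [SetLike.mem_coe, MonoidHom.mem_ker]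
          rw [map_mul, map_mul, map_mul, map_inv, map_inv, mul_comm (lam ⟨a, hDH ha⟩), mul_inv_cancel_right, mul_inv_cancel]
        rw [hperf] at hle
        obtain ⟨y, hy, hyx⟩ := hle hx
        rw [show (⟨x, hDH hx⟩ : H) = y from Subtype.ext hyx.symm]
        exact hy
      have hx : ∀ y : G, Cfsg.extendByZero H (fun h => (lam h : ℂ)) (y⁻¹ * g * y) = 1 := by
        intro y
        have hmem : y⁻¹ * g * y ∈ D := by
          simpa using Subgroup.Normal.conj_mem (inferInstance : D.Normal) g hg y⁻¹
        rw [CharInduce.extendByZero_of_mem _ (hDH hmem)]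
        exact congrArg Units.val (hlam _ hmem)
      rw [CharInduce.indFun_one, map_one, Units.val_one, mul_one, CharInduce.indFun_apply,
        Finset.sum_congr rfl (fun y _ => hx y), Finset.sum_const, Finset.card_univ, nsmul_eq_mul,
        mul_one, ← Nat.card_eq_fintype_card, ← H.card_mul_index, Nat.cast_mul, ← mul_assoc,
        inv_mul_cancel₀ (CharInduce.card_ne_zero_complex H), one_mul]
  refine (Group.isSolvable_def G).2 ⟨n₀, (Subgroup.eq_bot_iff_forall _).2 fun g hg => ?_⟩
  have hc : IsConj g 1 := (CharBasic.isConj_iff_forall_irr g 1).2 fun χ => by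
    obtain ⟨a, -, ha⟩ := CharBasic.IsIrr.exists_degree χ.2
    exact key a χ χ.2 ha g hg
  exact isConj_one_left.1 hc

end Cfsg.Agent.S0175
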