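import Cfsg.Statements.S0180
import Cfsg.Agent.H26.RationalValue

set_option autoImplicit false
open Cfsg

namespace Cfsg.Agent.S0180

/-- Every irreducible complex character of a finite group takes only rational values if and only if g is conjugate to g ^ m for every element g and every m coprime to the group order. -/
theorem result {G : Type*} [Group G] [Finite G] : (∀ χ : Cfsg.IrrCharacter G, ∀ g : G, ∃ q : ℚ, (χ : G → ℂ) g = (q : ℂ)) ↔ ∀ m : ℕ, m.Coprime (Nat.card G) → ∀ g : G, IsConj g (g ^ m) := by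
  classical
  have : Fintype G := Fintype.ofFinite G
  have : NeZero (Nat.card G) := ⟨Nat.card_pos.ne'⟩
  constructor
  · intro h m hm g
    rw [CharBasic.isConj_iff_forall_irr]
    intro χ
    obtain ⟨l, ζ, e, hζ, hval⟩ := H81.exists_exponents (CharBasic.IsIrr.isCharacter χ.2) g
    have : NeZero (orderOf g) := ⟨(orderOf_pos g).ne'⟩
    obtain ⟨q, hq⟩ := h χ g
    have h1 := hval 1
    simp only [pow_one] at h1
    have := (H26.rootsum_rational_iff hζ e).1 ⟨q, h1 ▸ hq⟩ m
      (Nat.Coprime.coprime_dvd_right (orderOf_dvd_natCard g) hm)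
    rw [← hval, ← h1] at this
    exact this.symm
  · intro h χ g
    obtain ⟨l, ζ, e, hζ, hval⟩ := H81.exists_exponents (CharBasic.IsIrr.isCharacter χ.2) g
    have : NeZero (orderOf g) := ⟨(orderOf_pos g).ne'⟩
    have h1 := hval 1
    simp only [pow_one] at h1
    rw [h1]
    refine (H26.rootsum_rational_iff hζ e).2 fun k hk => ?_
    obtain ⟨k', hk', hmod⟩ := H26.exists_coprime_lift (orderOf_dvd_natCard g) hk
    obtain ⟨c, hc⟩ := isConj_iff.1 (h k' hk' g)
    rw [← hval, ← h1, ← (pow_eq_pow_iff_modEq (x := g)).2 hmod, ← hc]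
    exact CharBasic.IsIrr.isClassFunction χ.2 g c

end Cfsg.Agent.S0180
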