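import Cfsg.Statements.S0184
import Cfsg.Agent.CharBasic.Complete
import Cfsg.Agent.PGroups.Basic
import Mathlib.RingTheory.IntegralDomain

set_option autoImplicit false
open Cfsg

namespace Cfsg.Agent.S0184

/-- A finite p-group admits a faithful irreducible complex representation if and only if its centre is cyclic. -/
theorem result {G : Type*} [Group G] [Finite G] (p : ℕ) [Fact p.Prime] (hG : IsPGroup p G) : (∃ (n : ℕ) (ρ : Representation ℂ G (Fin n → ℂ)), ρ.IsIrreducible ∧ Function.Injective ρ) ↔ IsCyclic (Subgroup.center G) := by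
  classical
  have : Fintype G := Fintype.ofFinite G
  constructor
  · rintro ⟨n, ρ, hρ, hinj⟩
    have hsc : ∀ z : Subgroup.center G, ∃ c : ℂ, ρ (z : G) = c • LinearMap.id := fun z =>
      CharBasic.schur_scalar ρ _ fun g => by rw [← map_mul, ← map_mul, Subgroup.mem_center_iff.1 z.2 g]
    have hn : 0 < Module.finrank ℂ (Fin n → ℂ) := CharBasic.finrank_pos_of_isIrreducible ρ
    have hd : (ρ.character 1) ≠ 0 := CharBasic.IsIrr.one_ne_zero ⟨n, ρ, hρ, rfl⟩
    have hval : ∀ (z : Subgroup.center G) (c : ℂ), ρ (z : G) = c • LinearMap.id →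
        ρ.character (z : G) / ρ.character 1 = c := by
      intro z c hc
      rw [div_eq_iff hd, Representation.char_one]
      show LinearMap.trace ℂ _ (ρ (z : G)) = _
      rw [hc, map_smul, LinearMap.trace_id, smul_eq_mul]
    let f : Subgroup.center G →* ℂ :=
      { toFun := fun z => ρ.character (z : G) / ρ.character 1
        map_one' := by
          show ρ.character ((1 : Subgroup.center G) : G) / ρ.character 1 = 1
          rw [Subgroup.coe_one, div_self hd]
        map_mul' := fun z w => by
          obtain ⟨c, hc⟩ := hsc z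
          obtain ⟨e, he⟩ := hsc w
          rw [hval z c hc, hval w e he, hval (z * w) (c * e)]
          rw [Subgroup.coe_mul, map_mul, hc, he, smul_mul_smul_comm]
          rfl }
    refine isCyclic_of_subgroup_isDomain f fun z w h => ?_
    obtain ⟨c, hc⟩ := hsc z
    obtain ⟨e, he⟩ := hsc w
    have hce : c = e := by rw [← hval z c hc, ← hval w e he]; exact h
    exact Subtype.ext (hinj (by rw [hc, he, hce]))
  · intro hcyc
    by_cases hG1 : Nat.card G = 1
    · have : Subsingleton G := (Nat.card_eq_one_iff_unique.1 hG1).1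
      obtain ⟨n, ρ, hρ, -⟩ := (CharBasic.isIrrCharacter_one (G := G))
      exact ⟨n, ρ, hρ, fun a b _ => Subsingleton.elim a b⟩
    have : Nontrivial G := Finite.one_lt_card_iff_nontrivial.1 (by
      have : 0 < Nat.card G := Nat.card_pos
      omega)
    obtain ⟨z, hzc, -, hzo⟩ : ∃ z : G, z ∈ Subgroup.center G ∧ True ∧ orderOf z = p := by
      have : Nontrivial (Subgroup.center G) := hG.center_nontrivial
      obtain ⟨k, hk, hcard⟩ := (hG.to_subgroup (Subgroup.center G)).nontrivial_iff_card.1 this
      obtain ⟨z, hz⟩ := exists_prime_orderOf_dvd_card' (G := Subgroup.center G) p (hcard ▸ dvd_pow_self p hk.ne')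
      exact ⟨z, z.2, trivial, by rw [Subgroup.orderOf_coe, hz]⟩
    have hz1 : z ≠ 1 := fun h => by
      rw [h, orderOf_one] at hzo; exact (Fact.out : p.Prime).ne_one hzo.symm
    have : Fintype (Cfsg.IrrCharacter G) := Fintype.ofFinite _
    have hnc : ¬ IsConj z 1 := fun h => hz1 (isConj_one_left.1 h)
    rw [CharBasic.isConj_iff_forall_irr] at hnc
    push Not at hnc
    obtain ⟨⟨χ, n, ρ, hρ, rfl⟩, hne⟩ := hnc
    refine ⟨n, ρ, hρ, (MonoidHom.ker_eq_bot_iff ρ).1 ?_⟩
    by_contra hker
    have hinf := PGroups.inf_center_ne_bot hG (MonoidHom.ker ρ) hker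
    obtain ⟨y, hy, hyo⟩ := PGroups.exists_orderOf_eq hG hinf
    apply hne
    have hzK : z ∈ MonoidHom.ker ρ := by
      have hz' : orderOf (⟨z, hzc⟩ : Subgroup.center G) = p := by rw [Subgroup.orderOf_mk, hzo]
      have hy' : orderOf (⟨y, (Subgroup.mem_inf.1 hy).2⟩ : Subgroup.center G) = p := by
        rw [Subgroup.orderOf_mk, hyo]
      set w : Subgroup.center G := ⟨y, (Subgroup.mem_inf.1 hy).2⟩ with hw
      have hcard : (Subgroup.zpowers w : Set (Subgroup.center G)).toFinset =
          Finset.univ.filter (fun a : Subgroup.center G => a ^ p = 1) := by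
        refine Finset.eq_of_subset_of_card_le (fun a ha => ?_) ?_
        · obtain ⟨k, rfl⟩ := Set.mem_toFinset.1 ha
          refine Finset.mem_filter.2 ⟨Finset.mem_univ _, ?_⟩
          show (w ^ k) ^ p = 1
          rw [← zpow_natCast, ← zpow_mul, mul_comm, zpow_mul, zpow_natCast, ← hy', pow_orderOf_eq_one,
            one_zpow]
        · refine (IsCyclic.card_pow_eq_one_le (Fact.out : p.Prime).pos).trans ?_
          rw [Set.toFinset_card, ← Nat.card_eq_fintype_card]
          show p ≤ Nat.card (Subgroup.zpowers w)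
          rw [Nat.card_zpowers, hy']
      have hzmem : (⟨z, hzc⟩ : Subgroup.center G) ∈ (Subgroup.zpowers w : Set (Subgroup.center G)).toFinset := by
        rw [hcard]
        exact Finset.mem_filter.2 ⟨Finset.mem_univ _, by rw [← hz', pow_orderOf_eq_one]⟩
      obtain ⟨k, hk⟩ := Set.mem_toFinset.1 hzmem
      have hk' : y ^ k = z := congrArg Subtype.val hk
      rw [← hk']
      exact zpow_mem (Subgroup.mem_inf.1 hy).1 k
    show LinearMap.trace ℂ _ (ρ z) = LinearMap.trace ℂ _ (ρ 1)
    rw [show ρ z = 1 from MonoidHom.mem_ker.1 hzK, show ρ 1 = 1 from MonoidHom.map_one ρ]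

end Cfsg.Agent.S0184
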