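import Cfsg.Statements.S0186
import Cfsg.Agent.CharBasic.Complete
import Cfsg.Agent.H26.SmallDegree
import Mathlib.GroupTheory.Subgroup.Simple

set_option autoImplicit false
open Cfsg

namespace Cfsg.Agent.S0186

/-- Let G be a finite simple group of order n and p a prime dividing n. If G has more than n / p^2 conjugacy classes, then every Sylow p-subgroup of G is abelian. -/
theorem result {G : Type*} [Group G] [Finite G] [IsSimpleGroup G] (p : ℕ) [Fact p.Prime] (hp : p ∣ Nat.card G) (hmany : Nat.card G < p ^ 2 * Nat.card (ConjClasses G)) (P : Sylow p G) (a b : G) (ha : a ∈ P) (hb : b ∈ P) : a * b = b * a := by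
  classical
  have : Fintype G := Fintype.ofFinite G
  by_contra hab
  -- the Sylow subgroup is not abelian, so p^2 divides the order
  have hp2 : p ^ 2 ∣ Nat.card G := by
    obtain ⟨k, hk⟩ := P.2.exists_card_eq
    refine dvd_trans ?_ (Subgroup.card_subgroup_dvd_card (P : Subgroup G))
    rw [hk]
    rcases Nat.lt_or_ge k 2 with h | h
    · exfalso
      apply hab
      have hcyc : IsCyclic (P : Subgroup G) := by
        interval_cases k
        · have : Subsingleton (P : Subgroup G) := (Nat.card_eq_one_iff_unique.1 (by simpa using hk)).1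
          infer_instance
        · exact isCyclic_of_prime_card (p := p) (by simpa using hk)
      have := (IsCyclic.isMulCommutative (α := (P : Subgroup G)))
      exact congrArg Subtype.val (mul_comm' (a := (⟨a, ha⟩ : (P : Subgroup G))) (b := ⟨b, hb⟩))
    · exact pow_dvd_pow p h
  -- every nonprincipal irreducible character has degree at least p
  have hdeg : ∀ χ : Cfsg.IrrCharacter G, ∃ d : ℕ, (χ : G → ℂ) 1 = d ∧
      ((χ : G → ℂ) ≠ (fun _ => 1) → p ≤ d) := by
    rintro ⟨χ, n, ρ, hρ, rfl⟩
    refine ⟨Module.finrank ℂ (Fin n → ℂ), Representation.char_one ρ, fun hne => ?_⟩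
    by_contra hlt
    push Not at hlt
    rcases Subgroup.Normal.eq_bot_or_eq_top (MonoidHom.normal_ker ρ) with hker | hker
    · apply hab
      have hinj : Function.Injective ρ := (MonoidHom.ker_eq_bot_iff ρ).1 hker
      have hc := H26.commute_of_small_degree (ρ.comp (P : Subgroup G).subtype) (fun q hq hdvd => ?_)
        ⟨a, ha⟩ ⟨b, hb⟩
      · exact hinj (by rw [map_mul, map_mul]; exact hc)
      · obtain ⟨k, hk⟩ := P.2.exists_card_eq
        rw [hk] at hdvd
        rw [(Nat.prime_dvd_prime_iff_eq hq Fact.out).1 (hq.dvd_of_dvd_pow hdvd)]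
        exact hlt
    · have htriv : ∀ g, ρ g = LinearMap.id := fun g =>
        (MonoidHom.mem_ker.1 (hker ▸ Subgroup.mem_top g : g ∈ MonoidHom.ker ρ))
      apply hne
      have h1 := H26.finrank_eq_one_of_trivial ρ htriv
      funext g
      show LinearMap.trace ℂ _ (ρ g) = 1
      rw [htriv, LinearMap.trace_id, h1, Nat.cast_one]
  choose d hd hdp using hdeg
  have hsum : ∑ χ : Cfsg.IrrCharacter G, d χ ^ 2 = Nat.card G := by
    have h := CharBasic.sum_sq_degree (G := G)
    simp only [hd] at h
    exact_mod_cast h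
  let one : Cfsg.IrrCharacter G := ⟨fun _ => 1, CharBasic.isIrrCharacter_one⟩
  have hd1 : d one = 1 := by
    have : ((d one : ℕ) : ℂ) = 1 := (hd one).symm
    exact_mod_cast this
  have hle : (Finset.univ.erase one).card * p ^ 2 + 1 ≤ Nat.card G := by
    rw [← hsum, ← Finset.add_sum_erase _ _ (Finset.mem_univ one), hd1, add_comm, one_pow]
    refine Nat.add_le_add_left ?_ 1
    rw [← smul_eq_mul]
    refine Finset.card_nsmul_le_sum _ _ _ fun χ hχ => Nat.pow_le_pow_left (hdp χ fun h => ?_) 2
    exact Finset.ne_of_mem_erase hχ (Subtype.ext h)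
  rw [Finset.card_erase_of_mem (Finset.mem_univ _), Finset.card_univ, ← Nat.card_eq_fintype_card,
    CharBasic.card_irrCharacter] at hle
  obtain ⟨q, hq⟩ := hp2
  obtain ⟨m, hm⟩ : ∃ m, Nat.card (ConjClasses G) = m + 1 := by
    have : Finite (ConjClasses G) := Finite.of_surjective _ ConjClasses.mk_surjective
    exact ⟨_, (Nat.succ_pred_eq_of_pos Nat.card_pos).symm⟩
  rw [hm, Nat.add_sub_cancel, hq] at hle
  rw [hm, hq] at hmany
  have hqm : q < m + 1 := Nat.lt_of_mul_lt_mul_left hmany
  have : q * p ^ 2 ≤ m * p ^ 2 := Nat.mul_le_mul_right _ (by omega)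
  linarith

end Cfsg.Agent.S0186
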