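import Cfsg.Statements.S0191
import Cfsg.Agent.H81.GaloisSum
import Cfsg.Agent.CharBasic.Complete

set_option autoImplicit false
open Cfsg

namespace Cfsg.Agent.S0191

/-- An irreducible complex representation of a finite group of degree greater than 1 has a character that vanishes somewhere. -/
theorem result {G : Type*} [Group G] [Finite G] {V : Type*} [AddCommGroup V] [Module ℂ V] [FiniteDimensional ℂ V] (ρ : Representation ℂ G V) [ρ.IsIrreducible] (hdeg : 1 < Module.finrank ℂ V) : ∃ g : G, ρ.character g = 0 := by
  classical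
  have : Fintype G := Fintype.ofFinite G
  by_contra hcon
  push Not at hcon
  have hirr := CharBasic.isIrrCharacter_character ρ
  have hA := H81.card_le_sum_norm_sq_of_closed (CharBasic.IsIrr.isCharacter hirr)
    ((Finset.univ : Finset G).erase 1) (fun g _ => hcon g) (fun g hg k hk => by
      refine Finset.mem_erase.2 ⟨fun h1 => ?_, Finset.mem_univ _⟩
      have ho := hk.symm.orderOf_pow
      rw [h1, orderOf_one] at ho
      exact Finset.ne_of_mem_erase hg (orderOf_eq_one_iff.1 ho.symm))
  rw [Finset.card_erase_of_mem (Finset.mem_univ _), Finset.card_univ] at hA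
  have hnorm := CharBasic.classInner_irr_self (G := G) hirr
  rw [CharBasic.classInner_self_eq, Complex.ofReal_eq_one] at hnorm
  have hne : (Nat.card G : ℝ) ≠ 0 := Nat.cast_ne_zero.2 Nat.card_pos.ne'
  have hsum : ∑ g : G, ‖ρ.character g‖ ^ 2 = (Nat.card G : ℝ) := by
    field_simp at hnorm
    linarith
  rw [← Finset.add_sum_erase _ _ (Finset.mem_univ (1 : G)), Representation.char_one,
    Complex.norm_natCast, Nat.card_eq_fintype_card] at hsum
  rw [Nat.cast_sub Fintype.card_pos, Nat.cast_one] at hA
  have h2 : (2 : ℝ) ≤ (Module.finrank ℂ V : ℝ) := by exact_mod_cast hdeg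
  nlinarith

end Cfsg.Agent.S0191
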