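import Cfsg.Statements.S0192
import Cfsg.Agent.H26.RepBasic

set_option autoImplicit false
open Cfsg

namespace Cfsg.Agent.S0192

/-- Brauer's generation criterion. Let G be a finite simple group, H₁ and H₂ subgroups, and χ a non-principal irreducible character. If the multiplicity of the principal character in χ restricted to H₁ ⊓ H₂ is less than the sum of the corresponding multiplicities for H₁ and H₂, then H₁ and H₂ do not generate G. -/
theorem result {G : Type*} [Group G] [Fintype G] [IsSimpleGroup G] (H₁ H₂ : Subgroup G) [Fintype H₁] [Fintype H₂] [Fintype ↥(H₁ ⊓ H₂)] (χ : G → ℂ) (hχ : Cfsg.IsIrrCharacter G χ) (hχ1 : χ ≠ fun _ => 1) (hlt : (Cfsg.classInner (fun x : ↥(H₁ ⊓ H₂) => χ x) (fun _ => 1)).re < (Cfsg.classInner (fun x : H₁ => χ x) (fun _ => 1)).re + (Cfsg.classInner (fun x : H₂ => χ x) (fun _ => 1)).re) : H₁ ⊔ H₂ ≠ ⊤ := by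
  classical
  obtain ⟨n, ρ, hirr, rfl⟩ := hχ
  intro htop
  have key : ∀ (K : Subgroup G) [Fintype K],
      (Cfsg.classInner (fun x : K => ρ.character x) (fun _ => 1)).re =
        Module.finrank ℂ (Representation.invariants (ρ.comp K.subtype)) := by
    intro K _
    have : Invertible (Nat.card K : ℂ) := invertibleOfNonzero (Nat.cast_ne_zero.2 Nat.card_pos.ne')
    have h : Cfsg.classInner (fun x : K => ρ.character x) (fun _ => 1) =
        (Module.finrank ℂ (Representation.invariants (ρ.comp K.subtype)) : ℂ) := by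
      rw [← Representation.card_inv_mul_sum_char_eq_finrank]
      simp [Cfsg.classInner, Representation.character]
    rw [h, Complex.natCast_re]
  rw [key, key, key] at hlt
  set W₁ := Representation.invariants (ρ.comp H₁.subtype)
  set W₂ := Representation.invariants (ρ.comp H₂.subtype)
  set W₀ := Representation.invariants (ρ.comp (H₁ ⊓ H₂).subtype)
  have hlt' : Module.finrank ℂ W₀ < Module.finrank ℂ W₁ + Module.finrank ℂ W₂ := by exact_mod_cast hlt
  have hle : W₁ ⊔ W₂ ≤ W₀ :=
    sup_le (fun v hv x => hv ⟨x, x.2.1⟩) (fun v hv x => hv ⟨x, x.2.2⟩)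
  have h1 := Submodule.finrank_mono hle
  have h2 := Submodule.finrank_sup_add_finrank_inf_eq W₁ W₂
  have hne : W₁ ⊓ W₂ ≠ ⊥ := by
    intro h
    rw [h, finrank_bot] at h2
    omega
  obtain ⟨v, ⟨hv1, hv2⟩, hv0⟩ := (Submodule.ne_bot_iff _).1 hne
  have hfix : ∀ g : G, ρ g v = v := by
    intro g
    have hg : g ∈ H₁ ⊔ H₂ := by rw [htop]; exact Subgroup.mem_top g
    rw [Subgroup.sup_eq_closure] at hg
    induction hg using Subgroup.closure_induction with
    | mem a ha => rcases ha with ha | ha
                  · exact hv1 ⟨a, ha⟩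
                  · exact hv2 ⟨a, ha⟩
    | one => simp
    | mul a b _ _ iha ihb => rw [map_mul, Module.End.mul_apply, ihb, iha]
    | inv a _ iha =>
      conv_lhs => rw [← iha]
      rw [← Module.End.mul_apply, ← map_mul, inv_mul_cancel, map_one, Module.End.one_apply]
  rcases H26.invariant_submodule_eq_bot_or_top ρ (ℂ ∙ v) (fun g u hu => by
    obtain ⟨c, rfl⟩ := Submodule.mem_span_singleton.1 hu
    rw [map_smul, hfix]; exact hu) with h | h
  · exact hv0 (by simpa using h)
  · apply hχ1
    funext g
    have hid : ρ g = LinearMap.id := by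
      refine LinearMap.ext fun u => ?_
      have hu : u ∈ ℂ ∙ v := by rw [h]; exact Submodule.mem_top
      obtain ⟨c, rfl⟩ := Submodule.mem_span_singleton.1 hu
      simp [hfix]
    have hdim : Module.finrank ℂ (Fin n → ℂ) = 1 := by
      rw [← finrank_top, ← h, finrank_span_singleton hv0]
    show LinearMap.trace ℂ _ (ρ g) = 1
    rw [hid, LinearMap.trace_id, hdim, Nat.cast_one]

end Cfsg.Agent.S0192
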