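import Cfsg.Statements.S0193
import Cfsg.Agent.CharInduce.Induce
-- import your own Cfsg.Agent.* helpers here

set_option autoImplicit false
open Cfsg

namespace Cfsg.Agent.S0193

/-- Let H be a normal subgroup of a finite group G and θ an irreducible character of H. Then |H| times the inner product of the induced function of θ with itself equals the number of g in G with θ(g h g⁻¹) = θ(h) for all h in H; in particular the induced character is irreducible when only elements of H stabilise θ. -/
theorem result {G : Type*} [Group G] [Fintype G] (H : Subgroup G) [hN : H.Normal] (θ : H → ℂ) (hθ : Cfsg.IsIrrCharacter H θ) : (Nat.card H : ℂ) * Cfsg.classInner (Cfsg.indFun H θ) (Cfsg.indFun H θ) = (Nat.card {g : G // ∀ h : H, θ ⟨g * h * g⁻¹, hN.conj_mem h h.2 g⟩ = θ h} : ℂ) := by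
  classical
  haveI := Fintype.ofFinite H
  rw [CharInduce.classInner_indFun_left H θ _ (CharInduce.isClassFunction_indFun H θ),
    CharInduce.indFun_res_normal, CharBasic.classInner_smul_right, CharBasic.classInner_sum_right]
  simp only [CharBasic.classInner_irr hθ (CharInduce.isIrrCharacter_conjFun H hθ _), map_inv₀,
    map_natCast, Finset.sum_boole]
  rw [← mul_assoc, mul_inv_cancel₀ (CharInduce.card_ne_zero_complex H), one_mul,
    Nat.card_eq_fintype_card (α := {g : G // _}), Fintype.card_subtype]
  norm_cast
  congr 1
  refine Finset.filter_congr fun g _ => ?_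
  rw [eq_comm, funext_iff]
  rfl

end Cfsg.Agent.S0193
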