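import Cfsg.Statements.S0194
import Cfsg.Agent.CharInduce.Induce
import Cfsg.Agent.CharInduce.Twist
-- import your own Cfsg.Agent.* helpers here

set_option autoImplicit false
open scoped ComplexConjugate
open Cfsg

namespace Cfsg.Agent.S0194

/-- Let G have odd order, H be a normal subgroup and θ a non-principal irreducible character of H. Then the function induced from θ is orthogonal to its complex conjugate. -/
theorem result {G : Type*} [Group G] [Fintype G] (hodd : Odd (Nat.card G)) (H : Subgroup G) [H.Normal] (θ : H → ℂ) (hθ : Cfsg.IsIrrCharacter H θ) (hθ1 : θ ≠ fun _ => 1) : Cfsg.classInner (fun g => conj (Cfsg.indFun H θ g)) (Cfsg.indFun H θ) = 0 := by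
  classical
  haveI := Fintype.ofFinite H
  have hodd' : Odd (Nat.card H) := Odd.of_dvd_nat hodd H.card_subgroup_dvd_card
  rw [show (fun g => conj (Cfsg.indFun H θ g)) = Cfsg.indFun H (fun h => conj (θ h)) from
    funext fun g => CharInduce.conj_indFun H θ g,
    CharInduce.classInner_indFun_left H _ _ (CharInduce.isClassFunction_indFun H θ),
    CharInduce.indFun_res_normal, CharBasic.classInner_smul_right, CharBasic.classInner_sum_right]
  refine mul_eq_zero_of_right _ (Finset.sum_eq_zero fun x _ => ?_)
  refine CharBasic.classInner_irr_of_ne (CharInduce.IsIrr.conj hθ)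
    (CharInduce.isIrrCharacter_conjFun H hθ x) fun e => hθ1 ?_
  refine CharInduce.eq_one_of_real_of_odd hodd' hθ fun h => ?_
  have hx2 : x ^ 2 ∈ CharInduce.inertia H θ := by
    rw [CharInduce.mem_inertia, pow_two, ← CharInduce.conjFun_mul, ← e]
    funext n
    show conj (CharInduce.conjFun H θ x n) = θ n
    rw [← e]
    exact Complex.conj_conj _
  obtain ⟨m, hm⟩ : Odd (orderOf x) := Odd.of_dvd_nat hodd (orderOf_dvd_natCard x)
  have hx : x ∈ CharInduce.inertia H θ := by
    have := (CharInduce.inertia H θ).pow_mem hx2 (m + 1)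
    rwa [← pow_mul, show 2 * (m + 1) = orderOf x + 1 by omega, pow_succ, pow_orderOf_eq_one,
      one_mul] at this
  rw [CharInduce.mem_inertia] at hx
  rw [hx] at e
  exact congrFun e h

end Cfsg.Agent.S0194
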