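import Cfsg.Statements.S0196
import Mathlib.GroupTheory.GroupAction.Quotient

import Mathlib.Tactic
set_option autoImplicit false
open Cfsg

namespace Cfsg.Agent.S0196

/-- Let A be a subgroup of a finite group G that equals the centralizer of each of its non-identity elements, and let N be its normalizer. Then the index of A in N divides |A| − 1 (N/A permutes the non-identity elements of A in orbits of full length). -/
theorem result {G : Type*} [Group G] [Finite G] (A : Subgroup G) (hA : ∀ x ∈ A, x ≠ 1 → Subgroup.centralizer ({x} : Set G) = A) : (A.subgroupOf (Subgroup.normalizer (A : Set G))).index ∣ Nat.card A - 1 := by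
  classical
  set N := Subgroup.normalizer (A : Set G) with hNdef
  have hmem : ∀ (n : N) (a : G), a ∈ A → (n : G) * a * (n : G)⁻¹ ∈ A := fun n a ha =>
    (Subgroup.mem_normalizer_iff.1 n.2 a).1 ha
  let X := {a : G // a ∈ A ∧ a ≠ 1}
  letI : MulAction N X :=
    { smul := fun n a => ⟨(n : G) * a.1 * (n : G)⁻¹, hmem n a.1 a.2.1, fun h => a.2.2 (by simpa using h)⟩
      one_smul := fun a => Subtype.ext (show (1 : G) * a.1 * (1 : G)⁻¹ = a.1 by simp)
      mul_smul := fun m n a => Subtype.ext (show ((m : G) * n) * a.1 * ((m : G) * n)⁻¹ =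
        (m : G) * ((n : G) * a.1 * (n : G)⁻¹) * (m : G)⁻¹ by group) }
  have hstab : ∀ a : X, MulAction.stabilizer N a = A.subgroupOf N := by
    intro a
    ext n
    rw [MulAction.mem_stabilizer_iff, Subgroup.mem_subgroupOf, Subtype.ext_iff]
    show (n : G) * a.1 * (n : G)⁻¹ = a.1 ↔ (n : G) ∈ A
    conv_rhs => rw [← hA a.1 a.2.1 a.2.2]
    rw [Subgroup.mem_centralizer_singleton_iff, mul_inv_eq_iff_eq_mul]
  have horb : ∀ a : X, Nat.card (MulAction.orbit N a) = (A.subgroupOf N).index := by
    intro a
    rw [Nat.card_congr (MulAction.orbitEquivQuotientStabilizer N a), ← hstab a, Subgroup.index]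
  have hcard : Nat.card X = Nat.card A - 1 := by
    have e : X ≃ {a : A // ¬ a = 1} :=
      { toFun := fun a => ⟨⟨a.1, a.2.1⟩, fun h => a.2.2 (congrArg Subtype.val h)⟩
        invFun := fun a => ⟨a.1.1, a.1.2, fun h => a.2 (Subtype.ext h)⟩
        left_inv := fun a => rfl
        right_inv := fun a => rfl }
    have : Fintype A := Fintype.ofFinite A
    rw [Nat.card_congr e, Nat.card_eq_fintype_card, Nat.card_eq_fintype_card,
      Fintype.card_subtype_compl, Fintype.card_subtype_eq]
  have : Fintype (MulAction.orbitRel.Quotient N X) := Fintype.ofFinite _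
  rw [← hcard, Nat.card_congr (MulAction.selfEquivSigmaOrbits N X), Nat.card_sigma]
  exact Finset.dvd_sum fun q _ => (horb _).symm ▸ dvd_rfl

end Cfsg.Agent.S0196
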