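import Cfsg.Statements.S0200
import Cfsg.Agent.Thompson.BaerSuzuki
import Cfsg.Agent.H26.Invol

set_option autoImplicit false
open Cfsg

namespace Cfsg.Agent.S0200

/-- An involution lying in no normal 2-subgroup of a finite group inverts a nontrivial element of odd order (a consequence of the Baer–Suzuki Theorem). -/
theorem result {G : Type*} [Group G] [Finite G] (t : G) (ht : orderOf t = 2) (hO : ∀ N : Subgroup G, N.Normal → IsPGroup 2 N → t ∉ N) : ∃ h : G, h ≠ 1 ∧ Odd (orderOf h) ∧ t * h * t⁻¹ = h⁻¹ := by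
  have : Fact (Nat.Prime 2) := ⟨Nat.prime_two⟩
  by_contra hcon
  push Not at hcon
  have ht' := H26.mul_self_of_orderOf_two ht
  obtain ⟨N, hN1, hN2, htN⟩ := Thompson.baer_suzuki (p := 2) (x := t) fun g => by
    set v := g * t * g⁻¹ with hv
    have hv' : v * v = 1 := by
      rw [hv]; simp only [mul_assoc, inv_mul_cancel_left]
      rw [← mul_assoc t t, ht', one_mul, mul_inv_cancel]
    obtain ⟨a, m, hm, hord⟩ := Nat.exists_eq_two_pow_mul_odd (orderOf_pos (t * v)).ne'
    refine H26.isPGroup_closure_pair ht' hv' (a := a) ?_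
    by_contra hne
    apply hcon _ hne
    · refine Odd.of_dvd_nat hm (orderOf_dvd_of_pow_eq_one ?_)
      rw [← pow_mul, ← hord, pow_orderOf_eq_one]
    · rw [H26.inv_eq_self_of_orderOf_two ht, ← zpow_natCast, H26.conj_zpow_mul ht' hv', zpow_neg]
  exact hO N hN1 hN2 htN

end Cfsg.Agent.S0200
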