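import Cfsg.Statements.S0211
import Cfsg.Agent.H26.Invol

set_option autoImplicit false
open Cfsg

namespace Cfsg.Agent.S0211

/-- Let x, y be involutions with xy of even order n and z = (xy)^(n/2). Then xz is conjugate to x by an element of the subgroup generated by x, y if and only if 4 divides n. -/
theorem result {G : Type*} [Group G] [Finite G] (x y : G) (hx : orderOf x = 2) (hy : orderOf y = 2) (heven : Even (orderOf (x * y))) : (∃ d ∈ Subgroup.closure ({x, y} : Set G), d * x * d⁻¹ = x * (x * y) ^ (orderOf (x * y) / 2)) ↔ 4 ∣ orderOf (x * y) := by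
  have hx' := H26.mul_self_of_orderOf_two hx
  have hy' := H26.mul_self_of_orderOf_two hy
  have hpos : 0 < orderOf (x * y) := orderOf_pos _
  obtain ⟨s, hs⟩ := heven
  have hs' : orderOf (x * y) / 2 = s := by omega
  rw [hs']
  have hmem := fun k : ℤ => (H26.mem_closure_pair_iff hx' hy' (d := (x * y) ^ k)).2 ⟨k, Or.inl rfl⟩
  have key : ∀ k : ℤ, x * (x * y) ^ (2 * k) = x * (x * y) ^ s →
      4 ∣ orderOf (x * y) := by
    intro k h
    have h1 := mul_left_cancel h
    rw [← zpow_natCast, zpow_eq_zpow_iff_modEq, hs] at h1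
    obtain ⟨t, ht⟩ := Int.modEq_iff_dvd.1 h1
    have : (s : ℤ) = 2 * (k + (s : ℤ) * t) := by push_cast at ht; linarith
    omega
  constructor
  · rintro ⟨d, hd, he⟩
    obtain ⟨k, rfl | rfl⟩ := (H26.mem_closure_pair_iff hx' hy').1 hd
    · rw [H26.zpow_conj_fst hx' hy'] at he
      exact key (-k) (by rw [← he]; congr 2; ring)
    · refine key k ?_
      rw [← he, mul_inv_rev, H26.inv_eq_self_of_orderOf_two hx, H26.conj_zpow_mul hx' hy',
        ← zpow_neg, ← mul_assoc, ← zpow_add, H26.mul_zpow_mul_comm hx' hy']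
      congr 2; ring
  · rintro ⟨r, hr⟩
    refine ⟨_, hmem (-(r : ℤ)), ?_⟩
    rw [H26.zpow_conj_fst hx' hy', ← zpow_natCast]
    congr 2
    omega

end Cfsg.Agent.S0211
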