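import Cfsg.Statements.S0212
import Cfsg.Agent.H26.BrauerFowler
import Cfsg.Agent.H36.Basic
import Mathlib.Tactic

set_option autoImplicit false
open Cfsg

namespace Cfsg.Agent.S0212

/-- The Brauer–Fowler bound: if G is a finite simple group and t an involution of G whose centralizer has order n, then |G| ≤ (2n^2)!. -/
theorem result {G : Type*} [Group G] [Finite G] [IsSimpleGroup G] (t : G) (ht : orderOf t = 2) : Nat.card G ≤ Nat.factorial (2 * (Nat.card (Subgroup.centralizer ({t} : Set G))) ^ 2) := by
  classical
  set c := Nat.card (Subgroup.centralizer ({t} : Set G)) with hc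
  have hc2 : 2 ≤ c := by
    have h1 := orderOf_dvd_natCard (⟨t, Subgroup.mem_centralizer_singleton_iff.2 rfl⟩ :
      Subgroup.centralizer ({t} : Set G))
    rw [Subgroup.orderOf_mk, ht] at h1
    exact Nat.le_of_dvd Nat.card_pos h1
  by_cases hcomm : IsMulCommutative G
  · have htop : Subgroup.centralizer ({t} : Set G) = ⊤ := by
      rw [eq_top_iff]; intro g _
      exact Subgroup.mem_centralizer_singleton_iff.2 (mul_comm' (a := g) (b := t))
    have hcG : c = Nat.card G := by rw [hc, htop, Subgroup.card_top]
    rw [← hcG]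
    refine le_trans ?_ (Nat.self_le_factorial _)
    nlinarith
  have hZ : Subgroup.center G = ⊥ := H36.center_eq_bot_of_simple hcomm
  have heven : Even (Nat.card G) := even_iff_two_dvd.2 (ht ▸ orderOf_dvd_natCard t)
  have h2 : ∀ H : Subgroup G, H.index ≠ 2 := by
    intro H hH
    have := Subgroup.normal_of_index_eq_two hH
    rcases Subgroup.Normal.eq_bot_or_eq_top this with h | h
    · subst h
      rw [Subgroup.index_bot] at hH
      have : Fact (Nat.Prime 2) := ⟨Nat.prime_two⟩
      have := isCyclic_of_prime_card hH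
      exact hcomm (IsCyclic.isMulCommutative (α := G))
    · simp [h] at hH
  have hZ' : ∀ x : G, orderOf x = 2 → x ∉ Subgroup.center G := by
    intro x hx h
    rw [hZ, Subgroup.mem_bot] at h
    exact H26.ne_one_of_orderOf_two hx h
  obtain ⟨H, hH, hlt⟩ := H26.brauer_fowler_index heven hZ' h2
  set n := H26.invCount G with hn
  have hnc : Nat.card G ≤ n * c := by
    rw [← H26.card_conj_mul_card_centralizer t]
    refine Nat.mul_le_mul_right _ ?_
    exact Nat.card_le_card_of_injective
      (fun g : {g : G // IsConj t g} => (⟨g.1, (H26.isConj_orderOf g.2).symm.trans ht⟩ : {t : G // orderOf t = 2}))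
      (fun a b h => Subtype.ext (by simpa using congrArg Subtype.val h))
  have hnpos : 0 < n := H26.invCount_pos heven
  have hidx : H.index ≤ 2 * c ^ 2 := by
    by_contra hcon
    push Not at hcon
    have h1 : Nat.card G * (Nat.card G + n) ≤ n * c * (n * c + n) :=
      Nat.mul_le_mul hnc (Nat.add_le_add_right hnc n)
    have h3 : 2 * (2 * c ^ 2) * n ^ 2 ≤ 2 * H.index * n ^ 2 := by gcongr
    have h4 : c * (c + 1) ≤ 4 * c ^ 2 := by nlinarith
    have h5 := Nat.mul_le_mul_right (n ^ 2) h4
    nlinarith
  exact (Nat.le_of_dvd (Nat.factorial_pos _) (H36.card_dvd_factorial hH)).trans (Nat.factorial_le hidx)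

end Cfsg.Agent.S0212
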