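import Cfsg.Statements.S0214
import Cfsg.Agent.H26.StronglyEmbedded
import Mathlib.GroupTheory.Sylow
import Mathlib.GroupTheory.Nilpotent

set_option autoImplicit false
open Cfsg

namespace Cfsg.Agent.S0214

theorem mem_normalizer_of_le {G : Type*} [Group G] [Finite G] {K : Subgroup G} {g : G}
    (h : ∀ x ∈ K, g * x * g⁻¹ ∈ K) : g ∈ Subgroup.normalizer (K : Set G) := by
  have hinj : Function.Injective (fun x : K => (⟨g * x * g⁻¹, h x x.2⟩ : K)) := fun a b hab =>
    Subtype.ext (mul_left_cancel (mul_right_cancel (congrArg Subtype.val hab)))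
  rw [Subgroup.mem_normalizer_iff]
  refine fun x => ⟨h x, fun hx => ?_⟩
  obtain ⟨y, hy⟩ := (Finite.injective_iff_surjective.1 hinj) ⟨_, hx⟩
  have : g * (y : G) * g⁻¹ = g * x * g⁻¹ := congrArg Subtype.val hy
  rw [← mul_left_cancel (mul_right_cancel this)]
  exact y.2

/-- Let H be a proper subgroup of the finite group G and P a nontrivial Sylow 2-subgroup of H. Then H is strongly embedded in G if and only if N_G(X) ≤ H for every nontrivial subgroup X of P. -/
theorem result {G : Type*} [Group G] [Finite G] (H : Subgroup G) (hH : H ≠ ⊤) (P : Sylow 2 ↥H) (hP : (P : Subgroup ↥H) ≠ ⊥) : Cfsg.IsStronglyEmbedded H ↔ (∀ X : Subgroup ↥H, X ≤ (P : Subgroup ↥H) → X ≠ ⊥ → Subgroup.normalizer ((X.map H.subtype : Subgroup G) : Set G) ≤ H) := by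
  classical
  have : Fact (Nat.Prime 2) := ⟨Nat.prime_two⟩
  have heven : Even (Nat.card H) := by
    have : Nontrivial (P : Subgroup H) := (Subgroup.nontrivial_iff_ne_bot _).2 hP
    obtain ⟨k, hk, hcard⟩ := P.2.nontrivial_iff_card.1 this
    exact even_iff_two_dvd.2 ((hcard ▸ dvd_pow_self 2 hk.ne').trans (Subgroup.card_subgroup_dvd_card _))
  rw [H26.isStronglyEmbedded_iff_involution H hH heven]
  set P' : Subgroup G := (P : Subgroup H).map H.subtype with hP'
  have hP'H : P' ≤ H := Subgroup.map_subtype_le _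
  constructor
  · intro h X hX hXne g hg
    have hXp : IsPGroup 2 X := P.2.to_le hX
    have : Nontrivial X := (Subgroup.nontrivial_iff_ne_bot _).2 hXne
    obtain ⟨k, hk, hcard⟩ := hXp.nontrivial_iff_card.1 this
    obtain ⟨x, hx⟩ := exists_prime_orderOf_dvd_card' 2 (hcard ▸ dvd_pow_self 2 hk.ne' : 2 ∣ Nat.card X)
    have hxG : orderOf ((x : H) : G) = 2 := by rw [Subgroup.orderOf_coe, Subgroup.orderOf_coe, hx]
    refine h _ (x : H).2 hxG g ?_
    exact Subgroup.map_subtype_le _ ((Subgroup.mem_normalizer_iff.1 hg _).1 ⟨x, x.2, rfl⟩)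
  · intro h
    have hnorm : ∀ X : Subgroup G, X ≤ P' → X ≠ ⊥ → Subgroup.normalizer (X : Set G) ≤ H := by
      intro X hX hne
      have he : (X.subgroupOf H).map H.subtype = X := by
        rw [Subgroup.subgroupOf_map_subtype, inf_eq_left.2 (hX.trans hP'H)]
      have := h (X.subgroupOf H) (fun a ha => by
        obtain ⟨b, hb, hba⟩ := hX ha
        exact (Subtype.ext hba : b = a) ▸ hb) (fun hb => hne (by rw [← he, hb, Subgroup.map_bot]))
      rwa [he] at this
    have hnormH : ∀ X : Subgroup G, X ≤ H → IsPGroup 2 X → X ≠ ⊥ →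
        Subgroup.normalizer (X : Set G) ≤ H := by
      intro X hXH hXp hne g hg
      obtain ⟨Q, hQ⟩ := (hXp.comap_subtype (K := H)).exists_le_sylow
      obtain ⟨a, ha⟩ := MulAction.exists_smul_eq H Q P
      set Y := X.map (MulAut.conj (a : G)).toMonoidHom
      have hY : Y ≤ P' := by
        rintro y ⟨x, hx, rfl⟩
        refine ⟨a * ⟨x, hXH hx⟩ * a⁻¹, ?_, rfl⟩
        rw [← ha, Sylow.coe_subgroup_smul]
        exact ⟨⟨x, hXH hx⟩, hQ hx, rfl⟩
      have hYne : Y ≠ ⊥ := by
        rw [Ne, Subgroup.map_eq_bot_iff_of_injective _ (MulEquiv.injective _)]; exact hne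
      have hga : (a : G) * g * (a : G)⁻¹ ∈ Subgroup.normalizer (Y : Set G) := by
        rw [Subgroup.mem_normalizer_iff]
        intro y
        have key : ∀ z, z ∈ Y ↔ (a : G)⁻¹ * z * a ∈ X := by
          intro z
          constructor
          · rintro ⟨x, hx, rfl⟩; simpa [mul_assoc] using hx
          · intro hz; exact ⟨_, hz, by simp [mul_assoc]⟩
        rw [key, key, Subgroup.mem_normalizer_iff.1 hg ((a : G)⁻¹ * y * a)]
        constructor <;> intro hh <;> simpa [mul_assoc] using hh
      have := hnorm Y hY hYne hga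
      simpa [mul_assoc] using mul_mem (mul_mem (inv_mem a.2) this) a.2
    have hSyl : ∀ Q : Subgroup G, IsPGroup 2 Q → Q ⊓ H ≠ ⊥ → Q ≤ H := by
      intro Q hQ hne
      have : Group.IsNilpotent Q := hQ.isNilpotent
      by_contra hle
      have hlt : (Q ⊓ H).subgroupOf Q < ⊤ := by
        rw [lt_top_iff_ne_top, Ne, Subgroup.subgroupOf_eq_top]
        exact fun h' => hle (h'.trans inf_le_right)
      have := normalizerCondition_of_isNilpotent (G := Q) _ hlt
      apply this.not_ge
      intro q hq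
      have hqH : (q : G) ∈ H := hnormH _ inf_le_right (hQ.to_le inf_le_left) hne (by
        rw [Subgroup.mem_normalizer_iff]
        intro y
        constructor
        · intro hy
          exact (Subgroup.mem_normalizer_iff.1 hq ⟨y, hy.1⟩).1 hy
        · intro hy
          have hyQ : y ∈ Q := by
            have := mul_mem (mul_mem (inv_mem q.2) hy.1) q.2
            simpa [mul_assoc] using this
          exact (Subgroup.mem_normalizer_iff.1 hq ⟨y, hyQ⟩).2 hy)
      exact ⟨q.2, hqH⟩
    intro t ht ht2 g hg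
    -- move t and its conjugate into conjugates of the Sylow subgroup
    obtain ⟨Q, hQ⟩ := (IsPGroup.of_card (p := 2) (G := Subgroup.zpowers (⟨t, ht⟩ : H)) (n := 1) (by
      rw [Nat.card_zpowers, Subgroup.orderOf_mk, ht2, pow_one])).exists_le_sylow
    obtain ⟨b, hb⟩ := MulAction.exists_smul_eq H Q P
    have htP : (b : G) * t * (b : G)⁻¹ ∈ P' := by
      refine ⟨b * ⟨t, ht⟩ * b⁻¹, ?_, rfl⟩
      rw [← hb, Sylow.coe_subgroup_smul]
      exact ⟨⟨t, ht⟩, hQ (Subgroup.mem_zpowers _), rfl⟩
    set k := g * (b : G)⁻¹ with hk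
    set T := P'.map (MulAut.conj k).toMonoidHom with hT
    have hTp : IsPGroup 2 T := (P.2.map _).map _
    have hmem : g * t * g⁻¹ ∈ T := ⟨_, htP, by simp [hk, mul_assoc]⟩
    have hTH : T ≤ H := hSyl T hTp (fun hbot => by
      have h1 : g * t * g⁻¹ ∈ T ⊓ H := ⟨hmem, hg⟩
      rw [hbot, Subgroup.mem_bot] at h1
      exact H26.ne_one_of_orderOf_two ht2 (by simpa using h1))
    obtain ⟨R, hR⟩ := (hTp.comap_subtype (K := H)).exists_le_sylow
    obtain ⟨c, hc⟩ := MulAction.exists_smul_eq H R P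
    have hck : (c : G) * k ∈ Subgroup.normalizer (P' : Set G) := by
      have hle : ∀ x ∈ P', (c : G) * k * x * ((c : G) * k)⁻¹ ∈ P' := by
        intro x hx
        have hxT : k * x * k⁻¹ ∈ T := ⟨x, hx, rfl⟩
        refine ⟨c * ⟨_, hTH hxT⟩ * c⁻¹, ?_, by simp [mul_assoc]⟩
        rw [← hc, Sylow.coe_subgroup_smul]
        exact ⟨⟨_, hTH hxT⟩, hR hxT, rfl⟩
      exact mem_normalizer_of_le hle
    have hP'ne : P' ≠ ⊥ := by
      rw [hP', Ne, Subgroup.map_eq_bot_iff_of_injective _ H.subtype_injective]; exact hP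
    have := hnormH P' hP'H (P.2.map _) hP'ne hck
    have hkH : k ∈ H := by simpa using mul_mem (inv_mem c.2) this
    simpa [hk] using mul_mem hkH b.2

end Cfsg.Agent.S0214
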