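import Cfsg.Statements.S0216
import Cfsg.Agent.H26.Invol

set_option autoImplicit false
open Cfsg

namespace Cfsg.Agent.S0216

/-- For an involution u in a Sylow 2-subgroup P of a finite group G, the following are equivalent: no G-conjugate of u other than u lies in P; every commutator of u with an element of G has odd order. -/
theorem result {G : Type*} [Group G] [Finite G] (P : Sylow 2 G) (u : G) (hu : orderOf u = 2) (huP : u ∈ P) : (∀ g : G, g * u * g⁻¹ ∈ P → g * u * g⁻¹ = u) ↔ (∀ g : G, Odd (orderOf (u * g * u⁻¹ * g⁻¹))) := by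
  have hu' := H26.mul_self_of_orderOf_two hu
  have hconj : ∀ g : G, (g * u * g⁻¹) * (g * u * g⁻¹) = 1 := by
    intro g; simp only [mul_assoc, inv_mul_cancel_left]; rw [← mul_assoc u u, hu', one_mul,
      mul_inv_cancel]
  have hc : ∀ g : G, u * g * u⁻¹ * g⁻¹ = u * (g * u * g⁻¹) := by
    intro g; rw [H26.inv_eq_self_of_orderOf_two hu]; simp [mul_assoc]
  constructor
  · intro h g
    rw [hc]
    have : Fact (Nat.Prime 2) := ⟨Nat.prime_two⟩
    obtain ⟨w, hvw, -, hpg, hodd⟩ := H26.exists_conj_two_group hu' (hconj g)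
    obtain ⟨Q, hQ⟩ := hpg.exists_le_sylow
    have huw : IsConj u w := (isConj_iff.2 ⟨g, rfl⟩).trans hvw
    exact hodd (H26.isolated_in_every_sylow P h Q (hQ (Subgroup.subset_closure (by simp))) huw
      (hQ (Subgroup.subset_closure (by simp)))).symm
  · intro h g hg
    have hmem : u * g * u⁻¹ * g⁻¹ ∈ (P : Subgroup G) := by rw [hc]; exact mul_mem huP hg
    obtain ⟨k, hk⟩ := P.2 ⟨_, hmem⟩
    have hk' : (u * g * u⁻¹ * g⁻¹) ^ 2 ^ k = 1 := congrArg Subtype.val hk
    have h1 : orderOf (u * g * u⁻¹ * g⁻¹) = 1 :=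
      Nat.eq_one_of_dvd_coprimes ((h g).coprime_two_right.pow_right k) dvd_rfl
        (orderOf_dvd_of_pow_eq_one hk')
    rw [orderOf_eq_one_iff, hc] at h1
    calc g * u * g⁻¹ = u * (u * (g * u * g⁻¹)) := by rw [← mul_assoc u u, hu', one_mul]
      _ = u := by rw [h1, mul_one]

end Cfsg.Agent.S0216
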