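import Cfsg.Statements.S0220
import Cfsg.Agent.H26.Invol
import Cfsg.Agent.S0219

set_option autoImplicit false
open Cfsg

namespace Cfsg.Agent.S0220

theorem aux {G : Type*} [Group G] [Finite G] (x : G) (hx : orderOf x = 2) (C : Subgroup G)
    (hC : C = Subgroup.centralizer ({x} : Set G)) (S : Sylow 2 ↥C)
    (hS : IsCyclic (S : Subgroup ↥C)) : ∃ H : Subgroup G, H.index = 2 := by
  have : Fact (Nat.Prime 2) := ⟨Nat.prime_two⟩
  have hxC : x ∈ C := by rw [hC]; exact Subgroup.mem_centralizer_singleton_iff.2 rfl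
  obtain ⟨T, hT⟩ := (S.2.map C.subtype).exists_le_sylow
  have hTC : (T : Subgroup G).subgroupOf C = (S : Subgroup C) := by
    refine S.3 (T.2.comap_of_injective C.subtype C.subtype_injective) ?_
    exact fun a ha => hT ⟨a, ha, rfl⟩
  have hone : ∀ a b : C, a ∈ (S : Subgroup C) → b ∈ (S : Subgroup C) → orderOf a = 2 →
      orderOf b = 2 → a = b := by
    intro a b ha hb hoa hob
    classical
    have : Fintype (S : Subgroup C) := Fintype.ofFinite _
    have hd : 2 ∣ Fintype.card (S : Subgroup C) := by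
      rw [← Nat.card_eq_fintype_card]
      have h2 : orderOf (⟨a, ha⟩ : (S : Subgroup C)) = 2 := by rw [Subgroup.orderOf_mk, hoa]
      have h3 := orderOf_dvd_natCard (⟨a, ha⟩ : (S : Subgroup C))
      rwa [h2] at h3
    have hc := IsCyclic.card_orderOf_eq_totient (α := (S : Subgroup C)) hd
    rw [Nat.totient_two, Finset.card_eq_one] at hc
    obtain ⟨c, hc⟩ := hc
    have hmem : ∀ (e : C) (he : e ∈ (S : Subgroup C)), orderOf e = 2 →
        (⟨e, he⟩ : (S : Subgroup C)) = c := by
      intro e he hoe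
      have : (⟨e, he⟩ : (S : Subgroup C)) ∈ ({c} : Finset _) := by
        rw [← hc]; simp [Subgroup.orderOf_mk, hoe]
      simpa using this
    exact congrArg Subtype.val ((hmem a ha hoa).trans (hmem b hb hob).symm)
  have hxS : (⟨x, hxC⟩ : C) ∈ (S : Subgroup C) := by
    have hord : orderOf (⟨x, hxC⟩ : C) = 2 := by rw [Subgroup.orderOf_mk, hx]
    have hp : IsPGroup 2 (Subgroup.zpowers (⟨x, hxC⟩ : C)) :=
      IsPGroup.of_card (n := 1) (by rw [Nat.card_zpowers, hord, pow_one])
    obtain ⟨Q, hQ⟩ := hp.exists_le_sylow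
    obtain ⟨g, hg⟩ := MulAction.exists_smul_eq C Q S
    have h1 : (MulAut.conj g) (⟨x, hxC⟩ : C) = ⟨x, hxC⟩ := by
      apply Subtype.ext
      show (g : G) * x * (g : G)⁻¹ = x
      rw [Subgroup.mem_centralizer_singleton_iff.1 (hC ▸ g.2 : (g : G) ∈ Subgroup.centralizer {x}), mul_inv_cancel_right]
    rw [← hg, Sylow.coe_subgroup_smul, ← h1]
    exact ⟨_, hQ (Subgroup.mem_zpowers _), rfl⟩
  have hxT : x ∈ (T : Subgroup G) := by
    have := hxS; rw [← hTC] at this; exact this
  have : Nontrivial (T : Subgroup G) :=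
    ⟨⟨x, hxT⟩, 1, fun h => H26.ne_one_of_orderOf_two hx (congrArg Subtype.val h)⟩
  have := T.2.center_nontrivial
  have hdvd : 2 ∣ Nat.card (Subgroup.center (T : Subgroup G)) := by
    obtain ⟨k, hk, hcard⟩ := (T.2.to_subgroup (Subgroup.center (T : Subgroup G))).nontrivial_iff_card.1 this
    rw [hcard]; exact dvd_pow_self 2 hk.ne'
  obtain ⟨z, hz⟩ := exists_prime_orderOf_dvd_card' 2 hdvd
  have hzG : orderOf ((z : (T : Subgroup G)) : G) = 2 := by
    rw [Subgroup.orderOf_coe, Subgroup.orderOf_coe, hz]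
  have hzcomm : ∀ a : G, a ∈ (T : Subgroup G) → a * ((z : (T : Subgroup G)) : G) =
      ((z : (T : Subgroup G)) : G) * a := fun a ha =>
    congrArg Subtype.val (Subgroup.mem_center_iff.1 z.2 ⟨a, ha⟩)
  have hzC : ((z : (T : Subgroup G)) : G) ∈ C := hC ▸
    Subgroup.mem_centralizer_singleton_iff.2 (hzcomm x hxT).symm
  have hzS : (⟨_, hzC⟩ : C) ∈ (S : Subgroup C) := by
    rw [← hTC]; exact z.1.2
  have hzx : ((z : (T : Subgroup G)) : G) = x := congrArg Subtype.val
    (hone _ _ hzS hxS (by rw [Subgroup.orderOf_mk, hzG]) (by rw [Subgroup.orderOf_mk, hx]))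
  have hTle : (T : Subgroup G) ≤ C := by
    intro a ha
    rw [hC, Subgroup.mem_centralizer_singleton_iff]
    simpa [hzx] using hzcomm a ha
  have hTcyc : IsCyclic (T : Subgroup G) := by
    rw [← (Subgroup.subgroupOfEquivOfLe hTle).isCyclic, hTC]
    exact hS
  have heven : Even (Nat.card G) := even_iff_two_dvd.2 (hx ▸ orderOf_dvd_natCard x)
  exact S0219.result heven T hTcyc

/-- If x is an involution of a finite group G and a Sylow 2-subgroup of the centralizer of x is cyclic, then G has a subgroup of index 2; in particular G is not simple unless it has order 2. -/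
theorem result {G : Type*} [Group G] [Finite G] (x : G) (hx : orderOf x = 2) (S : Sylow 2 ↥(Subgroup.centralizer ({x} : Set G))) (hS : IsCyclic (S : Subgroup ↥(Subgroup.centralizer ({x} : Set G)))) : ∃ H : Subgroup G, H.index = 2 := by
  exact aux x hx _ rfl S hS

end Cfsg.Agent.S0220
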