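import Cfsg.Statements.S0224
import Cfsg.Agent.H26.StronglyEmbedded
import Mathlib.GroupTheory.GroupAction.Quotient

set_option autoImplicit false
open Cfsg

namespace Cfsg.Agent.S0224

/-- Let H be a proper subgroup of even order of the finite group G. Then H is strongly embedded if and only if each involution of H fixes exactly one point (namely the coset H) in the action of G on the cosets of H. -/
theorem result {G : Type*} [Group G] [Finite G] (H : Subgroup G) (hH : H ≠ ⊤) (heven : Even (Nat.card H)) : Cfsg.IsStronglyEmbedded H ↔ ∀ t ∈ H, orderOf t = 2 → Nat.card {c : G ⧸ H // t • c = c} = 1 := by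
  rw [H26.isStronglyEmbedded_iff_involution H hH heven]
  have hfix : ∀ t g : G, t • (g : G ⧸ H) = g ↔ g⁻¹ * t * g ∈ H := by
    intro t g
    rw [MulAction.Quotient.smul_coe, eq_comm, QuotientGroup.eq, smul_eq_mul, mul_assoc]
  constructor
  · intro h t ht ht2
    rw [Nat.card_eq_one_iff_unique]
    refine ⟨⟨?_⟩, ⟨⟨((1 : G) : G ⧸ H), (hfix t 1).2 (by simpa using ht)⟩⟩⟩
    have hall : ∀ c : G ⧸ H, t • c = c → c = ((1 : G) : G ⧸ H) := by
      intro c hc
      induction c using QuotientGroup.induction_on with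
      | H g =>
        rw [QuotientGroup.eq]
        simpa using h t ht ht2 g⁻¹ (by simpa using (hfix t g).1 hc)
    exact fun a b => Subtype.ext ((hall _ a.2).trans (hall _ b.2).symm)
  · intro h t ht ht2 g hg
    obtain ⟨hsub, -⟩ := Nat.card_eq_one_iff_unique.1 (h t ht ht2)
    have h1 : t • ((g⁻¹ : G) : G ⧸ H) = ((g⁻¹ : G) : G ⧸ H) := (hfix t g⁻¹).2 (by simpa using hg)
    have h2 : t • ((1 : G) : G ⧸ H) = ((1 : G) : G ⧸ H) := (hfix t 1).2 (by simpa using ht)
    have h3 := congrArg Subtype.val (hsub.elim ⟨_, h1⟩ ⟨_, h2⟩)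
    rw [QuotientGroup.eq] at h3
    simpa using h3

end Cfsg.Agent.S0224
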