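import Cfsg.Statements.S0226
import Cfsg.Agent.H26.Invol
import Mathlib.GroupTheory.Perm.Cycle.Type

set_option autoImplicit false
open Cfsg

namespace Cfsg.Agent.S0226

/-- A finite group of even order has an odd number of involutions. -/
theorem result {G : Type*} [Group G] [Finite G] (heven : Even (Nat.card G)) : Odd (Nat.card {t : G // orderOf t = 2}) := by
  classical
  have : Fintype G := Fintype.ofFinite G
  have : Fact (Nat.Prime 2) := ⟨Nat.prime_two⟩
  let f : Equiv.Perm G := Equiv.inv G
  have hf : f ^ (2 ^ 1) = 1 := by
    rw [pow_one, pow_two]; ext g; simp [f]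
  have h := Equiv.Perm.card_compl_support_modEq (n := 1) hf
  have hset : f.supportᶜ = insert (1 : G) (Finset.univ.filter fun t => orderOf t = 2) := by
    ext g
    simp only [Finset.mem_compl, Equiv.Perm.mem_support, not_not, Finset.mem_insert,
      Finset.mem_filter, Finset.mem_univ, true_and, H26.orderOf_two_iff]
    show g⁻¹ = g ↔ _
    rw [inv_eq_iff_mul_eq_one]
    constructor
    · intro hg; by_cases h1 : g = 1
      · exact Or.inl h1
      · exact Or.inr ⟨hg, h1⟩
    · rintro (rfl | hg)
      · simp
      · exact hg.1
  rw [hset, Finset.card_insert_of_notMem (by simp), ← Nat.card_eq_fintype_card (α := G)] at h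
  rw [Nat.card_eq_fintype_card, Fintype.card_subtype, Nat.odd_iff]
  rw [Nat.even_iff] at heven
  unfold Nat.ModEq at h
  omega

end Cfsg.Agent.S0226
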