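import Cfsg.Statements.S0229
import Cfsg.Agent.H26.Invol

set_option autoImplicit false
open Cfsg

namespace Cfsg.Agent.S0229

/-- Let t be an involution of a Sylow 2-subgroup S of a finite group G, conjugate in G to no other element of S, and let s be an involution of G not conjugate to t. Then the order of st is twice an odd number. -/
theorem result {G : Type*} [Group G] [Finite G] (S : Sylow 2 G) (t : G) (ht : orderOf t = 2) (htS : t ∈ S) (hiso : ∀ g : G, g * t * g⁻¹ ∈ S → g * t * g⁻¹ = t) (s : G) (hs : orderOf s = 2) (hns : ¬ IsConj s t) : orderOf (s * t) % 4 = 2 := by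
  have : Fact (Nat.Prime 2) := ⟨Nat.prime_two⟩
  have hs' := H26.mul_self_of_orderOf_two hs
  have ht' := H26.mul_self_of_orderOf_two ht
  have heven := H26.even_orderOf_of_not_isConj hs' ht' hns
  have hord : orderOf (t * s) = orderOf (s * t) := by
    rw [← H26.orderOf_conj_eq t (s * t), ← mul_assoc, mul_assoc (t * s) t t⁻¹, mul_inv_cancel,
      mul_one]
  have h4 : ¬ 4 ∣ orderOf (s * t) := by
    intro h4
    have heven' : Even (orderOf (t * s)) := by rw [hord]; exact heven
    obtain ⟨hz, hzt, -⟩ := H26.central_involution ht' hs' heven'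
    set z := (t * s) ^ (orderOf (t * s) / 2) with hzdef
    obtain ⟨r, hr⟩ := h4
    have hconj : IsConj t (t * z) := by
      refine isConj_iff.2 ⟨(t * s) ^ (-(r : ℤ)), ?_⟩
      rw [H26.zpow_conj_fst ht' hs', hzdef, ← zpow_natCast]
      congr 2
      omega
    have hw' : (t * z) * (t * z) = 1 := by
      rw [mul_assoc, ← mul_assoc z t z, hzt.eq, mul_assoc t z z,
        H26.mul_self_of_orderOf_two hz, mul_one, ht']
    have hpg : IsPGroup 2 (Subgroup.closure ({t, t * z} : Set G)) :=
      H26.isPGroup_closure_pair ht' hw' (a := 1) (by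
        rw [← mul_assoc, ht', one_mul, pow_one, pow_two, H26.mul_self_of_orderOf_two hz])
    obtain ⟨Q, hQ⟩ := hpg.exists_le_sylow
    have := H26.isolated_in_every_sylow S hiso Q (hQ (Subgroup.subset_closure (by simp))) hconj
      (hQ (Subgroup.subset_closure (by simp)))
    exact H26.ne_one_of_orderOf_two hz (mul_eq_left.1 this)
  rw [Nat.even_iff] at heven
  omega

end Cfsg.Agent.S0229
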