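import Cfsg.Statements.S0230
import Cfsg.Agent.H26.Invol

set_option autoImplicit false
open Cfsg

namespace Cfsg.Agent.S0230

/-- Let G be a finite group with two non-conjugate involutions, and let t be an involution whose centralizer has maximal order among centralizers of involutions. Then |G| < |C_G(t)|^3. -/
theorem result {G : Type*} [Group G] [Finite G] (s t : G) (hs : orderOf s = 2) (ht : orderOf t = 2) (hnc : ¬ IsConj s t) (hmax : ∀ u : G, orderOf u = 2 → Nat.card (Subgroup.centralizer ({u} : Set G)) ≤ Nat.card (Subgroup.centralizer ({t} : Set G))) : Nat.card G < Nat.card (Subgroup.centralizer ({t} : Set G)) ^ 3 := by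
  classical
  have : Fintype G := Fintype.ofFinite G
  have hs' := H26.mul_self_of_orderOf_two hs
  have hv : ∀ v : {g : G // IsConj t g}, (v : G) * v = 1 ∧ Even (orderOf (s * v.1)) := fun v => by
    have h1 : (v : G) * v = 1 :=
      H26.mul_self_of_orderOf_two ((H26.isConj_orderOf v.2).symm.trans ht)
    exact ⟨h1, H26.even_orderOf_of_not_isConj hs' h1 fun h => hnc (h.trans v.2.symm)⟩
  let Z := {z : G // orderOf z = 2 ∧ Commute z s}
  let F : {g : G // IsConj t g} → Σ z : Z, Subgroup.centralizer ({z.1} : Set G) := fun v =>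
    ⟨⟨(s * v.1) ^ (orderOf (s * v.1) / 2),
      (H26.central_involution hs' (hv v).1 (hv v).2).1,
      (H26.central_involution hs' (hv v).1 (hv v).2).2.1⟩,
     ⟨v.1, Subgroup.mem_centralizer_singleton_iff.2
      (H26.central_involution hs' (hv v).1 (hv v).2).2.2.eq.symm⟩⟩
  have hF : Function.Injective F := fun a b h =>
    Subtype.ext (congrArg (fun p : Σ z : Z, Subgroup.centralizer ({z.1} : Set G) => p.2.1) h)
  have h1 : Nat.card {g : G // IsConj t g} ≤
      Nat.card Z * Nat.card (Subgroup.centralizer ({t} : Set G)) := by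
    refine (Nat.card_le_card_of_injective F hF).trans ?_
    rw [Nat.card_sigma, Nat.card_eq_fintype_card (α := Z), ← smul_eq_mul, ← Finset.card_univ]
    exact Finset.sum_le_card_nsmul _ _ _ fun z _ => hmax z.1 z.2.1
  have h2 : Nat.card Z < Nat.card (Subgroup.centralizer ({t} : Set G)) := by
    refine lt_of_lt_of_le ?_ (hmax s hs)
    let i : Z → Subgroup.centralizer ({s} : Set G) := fun z =>
      ⟨z.1, Subgroup.mem_centralizer_singleton_iff.2 z.2.2.eq⟩
    have hi : Function.Injective i := fun a b h => Subtype.ext (congrArg Subtype.val h :)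
    simp only [Nat.card_eq_fintype_card]
    refine Fintype.card_lt_of_injective_of_notMem i hi (b := 1) ?_
    rintro ⟨z, hz⟩
    exact H26.ne_one_of_orderOf_two z.2.1 (congrArg Subtype.val hz)
  have h3 := H26.card_conj_mul_card_centralizer t
  have hpos : 0 < Nat.card (Subgroup.centralizer ({t} : Set G)) := Nat.card_pos
  calc Nat.card G ≤ Nat.card Z * Nat.card (Subgroup.centralizer ({t} : Set G)) *
        Nat.card (Subgroup.centralizer ({t} : Set G)) := h3 ▸ Nat.mul_le_mul_right _ h1
    _ < Nat.card (Subgroup.centralizer ({t} : Set G)) * Nat.card (Subgroup.centralizer ({t} : Set G)) *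
        Nat.card (Subgroup.centralizer ({t} : Set G)) := by gcongr
    _ = _ := by ring

end Cfsg.Agent.S0230
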