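import Cfsg.Statements.S0231
import Cfsg.Agent.H26.Invol

set_option autoImplicit false
open scoped Pointwise
open Cfsg

namespace Cfsg.Agent.S0231

/-- Let T be a Sylow 2-subgroup of the finite group G which is not normal and which intersects every other Sylow 2-subgroup trivially. Then G has a single conjugacy class of involutions. -/
theorem result {G : Type*} [Group G] [Finite G] (T : Sylow 2 G) (hnn : ¬ (T : Subgroup G).Normal) (hTI : ∀ g : G, MulAut.conj g • (T : Subgroup G) ≠ T → MulAut.conj g • (T : Subgroup G) ⊓ T = ⊥) (s t : G) (hs : orderOf s = 2) (ht : orderOf t = 2) : IsConj s t := by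
  have : Fact (Nat.Prime 2) := ⟨Nat.prime_two⟩
  by_contra hnc
  have hTI' : ∀ Q₁ Q₂ : Sylow 2 G, ∀ z : G, z ≠ 1 → z ∈ Q₁ → z ∈ Q₂ → Q₁ = Q₂ := by
    intro Q₁ Q₂ z hz h1 h2
    obtain ⟨g₁, rfl⟩ := MulAction.exists_smul_eq G T Q₁
    obtain ⟨g₂, rfl⟩ := MulAction.exists_smul_eq G T Q₂
    by_contra hne
    have hne' : MulAut.conj (g₁⁻¹ * g₂) • (T : Subgroup G) ≠ T := by
      intro he
      apply hne
      have : ((g₁⁻¹ * g₂) • T : Sylow 2 G) = T := Sylow.ext (by rw [Sylow.coe_subgroup_smul]; exact he)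
      rw [mul_smul, inv_smul_eq_iff] at this
      exact this.symm
    have hbot := hTI _ hne'
    obtain ⟨a, ha, rfl⟩ : z ∈ MulAut.conj g₁ • (T : Subgroup G) := h1
    obtain ⟨b, hb, hab⟩ : (MulAut.conj g₁) a ∈ MulAut.conj g₂ • (T : Subgroup G) := h2
    have hab' : g₂ * b * g₂⁻¹ = g₁ * a * g₁⁻¹ := hab
    have : a ∈ MulAut.conj (g₁⁻¹ * g₂) • (T : Subgroup G) ⊓ T := by
      refine Subgroup.mem_inf.2 ⟨⟨b, hb, ?_⟩, ha⟩
      show g₁⁻¹ * g₂ * b * (g₁⁻¹ * g₂)⁻¹ = a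
      calc g₁⁻¹ * g₂ * b * (g₁⁻¹ * g₂)⁻¹ = g₁⁻¹ * (g₂ * b * g₂⁻¹) * g₁ := by group
        _ = a := by rw [hab']; group
    rw [hbot, Subgroup.mem_bot] at this
    exact hz (by simp [this])
  have hpair : ∀ {u v : G}, orderOf u = 2 → orderOf v = 2 → Commute u v →
      ∃ Q : Sylow 2 G, u ∈ Q ∧ v ∈ Q := by
    intro u v hu hv huv
    have hu' := H26.mul_self_of_orderOf_two hu
    have hv' := H26.mul_self_of_orderOf_two hv
    obtain ⟨Q, hQ⟩ := (H26.isPGroup_closure_pair hu' hv' (a := 1) (by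
      rw [pow_one, huv.mul_pow, pow_two, pow_two, hu', hv', one_mul])).exists_le_sylow
    exact ⟨Q, hQ (Subgroup.subset_closure (by simp)), hQ (Subgroup.subset_closure (by simp))⟩
  obtain ⟨Q, hsQ, -⟩ := hpair hs hs (Commute.refl s)
  have hall : ∀ v : G, IsConj t v → v ∈ Q := by
    intro v hv
    have hv2 : orderOf v = 2 := (H26.isConj_orderOf hv).symm.trans ht
    have hs' := H26.mul_self_of_orderOf_two hs
    have hv' := H26.mul_self_of_orderOf_two hv2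
    obtain ⟨hz, hzs, hzv⟩ := H26.central_involution hs' hv'
      (H26.even_orderOf_of_not_isConj hs' hv' fun h => hnc (h.trans hv.symm))
    obtain ⟨Q₁, hz1, hs1⟩ := hpair hz hs hzs
    obtain ⟨Q₂, hz2, hv2'⟩ := hpair hz hv2 hzv
    have h12 : Q₁ = Q₂ := hTI' Q₁ Q₂ _ (H26.ne_one_of_orderOf_two hz) hz1 hz2
    have h1Q : Q₁ = Q := hTI' Q₁ Q s (H26.ne_one_of_orderOf_two hs) hs1 hsQ
    exact h1Q ▸ h12 ▸ hv2'
  have hstab : ∀ g : G, g • Q = Q := by
    intro g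
    have h0 : g * t * g⁻¹ ≠ 1 := by
      simpa using H26.ne_one_of_orderOf_two ht
    refine hTI' _ _ _ h0 ?_ (hall _ (isConj_iff.2 ⟨g, rfl⟩))
    exact ⟨t, hall t (IsConj.refl t), rfl⟩
  obtain ⟨g, hg⟩ := MulAction.exists_smul_eq G Q T
  refine hnn ⟨fun n hn k => ?_⟩
  rw [hstab g] at hg
  subst hg
  conv => rw [← hstab k]
  exact ⟨n, hn, rfl⟩

end Cfsg.Agent.S0231
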