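import Cfsg.Statements.S0232
import Cfsg.Agent.H26.BrauerFowler
import Cfsg.Agent.S0219
import Mathlib.GroupTheory.QuotientGroup.Basic

set_option autoImplicit false
open Cfsg

namespace Cfsg.Agent.S0232

universe u

theorem aux : ∀ (N : ℕ) {G : Type u} [Group G] [Finite G], Nat.card G = N → Even (Nat.card G) →
    2 < Nat.card G → ∃ H : Subgroup G, H ≠ ⊤ ∧ Nat.card G < (Nat.card H) ^ 3 := by
  intro N
  induction N using Nat.strong_induction_on with
  | _ N ih =>
  intro G _ _ hN heven hgt
  classical
  by_cases hZ : ∀ x : G, orderOf x = 2 → x ∉ Subgroup.center G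
  · by_contra hcon
    push Not at hcon
    let S : Finset ℕ := ((Set.finite_range fun H : {H : Subgroup G // H ≠ ⊤} => Nat.card H.1)).toFinset
    have hS : S.Nonempty := by
      have hbt : (⊥ : Subgroup G) ≠ ⊤ := by
        intro h
        have := congrArg (fun H : Subgroup G => Nat.card H) h
        simp only [Subgroup.card_bot, Subgroup.card_top] at this
        omega
      exact ⟨_, (Set.Finite.mem_toFinset _).2 ⟨⟨⊥, hbt⟩, rfl⟩⟩
    obtain ⟨⟨H, hH⟩, hc⟩ := (Set.Finite.mem_toFinset _).1 (S.max'_mem hS)
    have hb := H26.brauer_fowler_bound hZ heven (c := S.max' hS) (fun K hK =>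
      S.le_max' _ ((Set.Finite.mem_toFinset _).2 ⟨⟨K, hK⟩, rfl⟩))
    have := hcon H hH
    rw [← hc, pow_two] at hb
    have := Nat.lt_of_mul_lt_mul_right hb
    simp only at this
    omega
  push Not at hZ
  obtain ⟨z, hz, hzc⟩ := hZ
  set Z := Subgroup.zpowers z with hZdef
  have : Z.Normal := ⟨fun a ha g => by
    obtain ⟨k, rfl⟩ := Subgroup.mem_zpowers_iff.1 ha
    rw [Subgroup.mem_center_iff.1 (zpow_mem hzc k) g, mul_inv_cancel_right]
    exact zpow_mem (Subgroup.mem_zpowers z) k⟩
  have hZcard : Nat.card Z = 2 := by rw [hZdef, Nat.card_zpowers, hz]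
  have hmul : Nat.card G = Nat.card (G ⧸ Z) * 2 := by rw [Z.card_eq_card_quotient_mul_card_subgroup, hZcard]
  rcases Nat.even_or_odd (Nat.card (G ⧸ Z)) with he | ho
  · by_cases h2 : 2 < Nat.card (G ⧸ Z)
    · obtain ⟨H, hH, hlt⟩ := ih _ (by omega) (G := G ⧸ Z) rfl he h2
      refine ⟨H.comap (QuotientGroup.mk' Z), fun h => hH ?_, ?_⟩
      · rw [← Subgroup.map_comap_eq_self_of_surjective (QuotientGroup.mk'_surjective Z) H, h,
          Subgroup.map_top_of_surjective _ (QuotientGroup.mk'_surjective Z)]
      · have hidx : (H.comap (QuotientGroup.mk' Z)).index = H.index :=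
          Subgroup.index_comap_of_surjective _ (QuotientGroup.mk'_surjective Z)
        have h1 := (H.comap (QuotientGroup.mk' Z)).card_mul_index
        rw [hidx] at h1
        have h2' := H.card_mul_index
        have hpos : 0 < H.index := Nat.pos_of_ne_zero H.index_ne_zero_of_finite
        have hcard : Nat.card (H.comap (QuotientGroup.mk' Z)) = 2 * Nat.card H := by
          refine Nat.eq_of_mul_eq_mul_right hpos ?_
          rw [h1, hmul, ← h2']; ring
        rw [hcard, mul_pow]
        omega
    · refine ⟨Z, fun h => ?_, ?_⟩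
      · have := Subgroup.card_top (G := G); rw [← h, hZcard] at this; omega
      · rw [hZcard]; omega
  · have : Fact (Nat.Prime 2) := ⟨Nat.prime_two⟩
    obtain ⟨T⟩ := Sylow.nonempty (p := 2) (G := G)
    have hT : Nat.card T = 2 := by
      rw [T.card_eq_multiplicity, hmul, mul_comm, Nat.factorization_mul (by norm_num) (Nat.card_pos.ne'),
        Finsupp.add_apply, Nat.Prime.factorization_self Nat.prime_two,
        Nat.factorization_eq_zero_of_not_dvd (fun h => (Nat.not_even_iff_odd.2 ho) (even_iff_two_dvd.2 h))]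
      rfl
    have hcyc : IsCyclic (T : Subgroup G) := isCyclic_of_prime_card hT
    obtain ⟨H, hH⟩ := S0219.result heven T hcyc
    refine ⟨H, fun h => by simp [h] at hH, ?_⟩
    have h1 := H.card_mul_index
    rw [hH] at h1
    obtain ⟨j, hj⟩ := ho
    have h3 : 3 ≤ Nat.card H := by omega
    calc Nat.card G = 2 * Nat.card H := by omega
      _ < 3 * 3 * Nat.card H := by omega
      _ ≤ Nat.card H * Nat.card H * Nat.card H := by gcongr
      _ = _ := by ring

/-- A finite group G of even order greater than 2 has a proper subgroup H with |G| < |H|^3. -/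
theorem result {G : Type*} [Group G] [Finite G] (heven : Even (Nat.card G)) (hgt : 2 < Nat.card G) : ∃ H : Subgroup G, H ≠ ⊤ ∧ Nat.card G < (Nat.card H) ^ 3 := by
  exact aux _ rfl heven hgt

end Cfsg.Agent.S0232
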