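import Cfsg.Statements.S0234
import Cfsg.Agent.H26.BrauerFowler
import Cfsg.Agent.H36.Basic
import Mathlib.Tactic
import Mathlib.GroupTheory.SpecificGroups.Alternating.Simple

set_option autoImplicit false
open Cfsg

namespace Cfsg.Agent.S0234

/-- In a finite simple group G of even order greater than 2, the number n of involutions satisfies 3n < |G|. -/
theorem result {G : Type*} [Group G] [Finite G] [IsSimpleGroup G] (heven : Even (Nat.card G)) (hgt : 2 < Nat.card G) : 3 * Nat.card {t : G // orderOf t = 2} < Nat.card G := by
  classical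
  show 3 * H26.invCount G < Nat.card G
  have hcomm : ¬ IsMulCommutative G := by
    refine H36.not_comm_of_simple fun hp => ?_
    obtain ⟨k, hk⟩ := heven
    rcases hp.eq_one_or_self_of_dvd 2 ⟨k, by omega⟩ with h' | h' <;> omega
  have hZ : Subgroup.center G = ⊥ := H36.center_eq_bot_of_simple hcomm
  have hZ' : ∀ x : G, orderOf x = 2 → x ∉ Subgroup.center G := by
    intro x hx h
    rw [hZ, Subgroup.mem_bot] at h
    exact H26.ne_one_of_orderOf_two hx h
  have h2 : ∀ H : Subgroup G, H.index ≠ 2 := by
    intro H hH
    have := Subgroup.normal_of_index_eq_two hH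
    rcases Subgroup.Normal.eq_bot_or_eq_top this with h | h
    · subst h; rw [Subgroup.index_bot] at hH; omega
    · simp [h] at hH
  obtain ⟨H, hH, hlt⟩ := H26.brauer_fowler_index heven hZ' h2
  by_contra hcon
  push Not at hcon
  set n := H26.invCount G with hn
  have hnpos : 0 < n := H26.invCount_pos heven
  have hidx : H.index < 6 := by
    by_contra h6
    push Not at h6
    have h3 : 2 * 6 * n ^ 2 ≤ 2 * H.index * n ^ 2 := by gcongr
    have h4 : Nat.card G * (Nat.card G + n) ≤ 3 * n * (3 * n + n) :=
      Nat.mul_le_mul hcon (Nat.add_le_add_right hcon n)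
    nlinarith
  obtain ⟨f, hf⟩ := H36.exists_hom_alternating hcomm hH
  have h60 : ∀ i : ℕ, i ≤ 5 → Nat.card G ∣ i.factorial → Nat.card G ∣ (5 : ℕ).factorial :=
    fun i hi h => h.trans (Nat.factorial_dvd_factorial hi)
  have hdiv := H36.two_mul_card_dvd_factorial hcomm hH
  have h12 : 2 * Nat.card G ∣ 120 := hdiv.trans (Nat.factorial_dvd_factorial (show H.index ≤ 5 by omega))
  have h60' : Nat.card G ∣ 60 := (Nat.mul_dvd_mul_iff_left two_pos).1 (h12 : 2 * Nat.card G ∣ 2 * 60)
  by_cases hG60 : Nat.card G = 60
  · have hi5 : H.index = 5 := by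
      by_contra h5
      have h := Nat.le_of_dvd (Nat.factorial_pos _) hdiv
      have := h.trans (Nat.factorial_le (show H.index ≤ 4 by omega))
      rw [hG60] at this
      norm_num [Nat.factorial] at this
    obtain ⟨f, hf⟩ : ∃ f : G →* alternatingGroup (Fin 5), Function.Injective f :=
      hi5 ▸ H36.exists_hom_alternating hcomm hH
    have hle : n ≤ Nat.card {t : alternatingGroup (Fin 5) // t * t = 1 ∧ t ≠ 1} := by
      rw [hn, H26.invCount]
      refine Nat.card_le_card_of_injective (fun t : {t : G // orderOf t = 2} =>
        (⟨f t.1, ?_, ?_⟩ : {t : alternatingGroup (Fin 5) // t * t = 1 ∧ t ≠ 1})) ?_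
      · rw [← map_mul, H26.mul_self_of_orderOf_two t.2, map_one]
      · exact fun h => H26.ne_one_of_orderOf_two t.2 (hf (h.trans (map_one f).symm))
      · intro a b h; exact Subtype.ext (hf (congrArg Subtype.val h))
    rw [Nat.card_eq_fintype_card (α := {t : alternatingGroup (Fin 5) // t * t = 1 ∧ t ≠ 1})] at hle
    have h15 : Fintype.card {t : alternatingGroup (Fin 5) // t * t = 1 ∧ t ≠ 1} ≤ 15 := by decide +kernel
    omega
  -- no simple group of smaller order
  have hsub : ∀ p : ℕ, p.Prime → p ∣ Nat.card G → p ≠ Nat.card G →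
      Nat.card G ∣ (Nat.card G / p).factorial := by
    intro p hp hdvd hne
    have : Fact p.Prime := ⟨hp⟩
    obtain ⟨g, hg⟩ := exists_prime_orderOf_dvd_card' p hdvd
    exact H36.card_dvd_factorial_of_card rfl (H := Subgroup.zpowers g) (by rw [Nat.card_zpowers, hg]) hne
  have hsyl2 : Nat.card G = 12 → False := by
    intro h
    have : Fact (Nat.Prime 2) := ⟨Nat.prime_two⟩
    obtain ⟨P⟩ := Sylow.nonempty (p := 2) (G := G)
    have := H36.card_dvd_factorial_of_card h (H36.card_sylow_eq (a := 2) (m := 3) h P (by norm_num) (by norm_num))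
      (by norm_num)
    norm_num [Nat.factorial] at this
  have hcases : Nat.card G ∈ Nat.divisors 60 := Nat.mem_divisors.2 ⟨h60', by norm_num⟩
  have hlist : Nat.divisors 60 = {1, 2, 3, 4, 5, 6, 10, 12, 15, 20, 30, 60} := by decide
  rw [hlist] at hcases
  simp only [Finset.mem_insert, Finset.mem_singleton] at hcases
  rcases hcases with h | h | h | h | h | h | h | h | h | h | h | h
  all_goals first
    | omega
    | exact hsyl2 h
    | (obtain ⟨k, hk⟩ := heven; omega)
    | (have := hsub 2 Nat.prime_two (by omega) (by omega); rw [h] at this; norm_num [Nat.factorial] at this; done)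
    | (have := hsub 3 Nat.prime_three (by omega) (by omega); rw [h] at this; norm_num [Nat.factorial] at this; done)
    | (have := hsub 5 Nat.prime_five (by omega) (by omega); rw [h] at this; norm_num [Nat.factorial] at this; done)
    | skip
  -- order 30 is index two in the alternating group of degree five
  have hi5 : H.index = 5 := by
    by_contra h5
    have hd := hdiv.trans (Nat.factorial_dvd_factorial (show H.index ≤ 4 by omega))
    rw [h] at hd
    norm_num [Nat.factorial] at hd
  obtain ⟨f, hf⟩ : ∃ f : G →* alternatingGroup (Fin 5), Function.Injective f :=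
    hi5 ▸ H36.exists_hom_alternating hcomm hH
  have hA : Nat.card (alternatingGroup (Fin 5)) = 60 := by
    rw [Nat.card_eq_fintype_card]; decide +kernel
  have hr : Nat.card f.range = 30 := (Nat.card_congr (MonoidHom.ofInjective hf).toEquiv).symm.trans h
  have hri : f.range.index = 2 := by
    have := f.range.card_mul_index
    rw [hr, hA] at this; omega
  have hrn := Subgroup.normal_of_index_eq_two hri
  have := alternatingGroup.isSimpleGroup_five
  rcases Subgroup.Normal.eq_bot_or_eq_top hrn with h' | h'
  · rw [h', Subgroup.card_bot] at hr; omega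
  · rw [h', Subgroup.card_top, hA] at hr; omega

end Cfsg.Agent.S0234
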