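import Cfsg.Statements.S0235
import Cfsg.Agent.H26.Invol

set_option autoImplicit false
open Cfsg

namespace Cfsg.Agent.S0235

/-- If x² ≠ 1, the ordered pairs (u, v) of involutions with uv = x correspond bijectively to the involutions t with t x t⁻¹ = x⁻¹ (via (u, v) ↦ u), so the two counts agree. -/
theorem result {G : Type*} [Group G] [Finite G] (x : G) (hx : x ^ 2 ≠ 1) : Nat.card {p : G × G // orderOf p.1 = 2 ∧ orderOf p.2 = 2 ∧ p.1 * p.2 = x} = Nat.card {t : G // orderOf t = 2 ∧ t * x * t⁻¹ = x⁻¹} := by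
  refine Nat.card_congr
    { toFun := fun p => ⟨p.1.1, p.2.1, ?_⟩
      invFun := fun t => ⟨(t.1, t.1 * x), t.2.1, ?_, ?_⟩
      left_inv := ?_
      right_inv := ?_ }
  · obtain ⟨⟨u, v⟩, hu, hv, huv⟩ := p
    dsimp at hu hv huv ⊢
    rw [← huv, mul_inv_rev, H26.inv_eq_self_of_orderOf_two hu, H26.inv_eq_self_of_orderOf_two hv,
      ← mul_assoc u u, H26.mul_self_of_orderOf_two hu, one_mul]
  · obtain ⟨t, ht, htx⟩ := t
    dsimp only
    refine H26.orderOf_two_of_mul_self ?_ fun h => hx ?_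
    · rw [H26.inv_eq_self_of_orderOf_two ht] at htx
      rw [← mul_assoc, htx, inv_mul_cancel]
    · rw [← inv_eq_of_mul_eq_one_right h, inv_pow, pow_two, H26.mul_self_of_orderOf_two ht, inv_one]
  · dsimp only
    rw [← mul_assoc, H26.mul_self_of_orderOf_two t.2.1, one_mul]
  · rintro ⟨⟨u, v⟩, hu, hv, huv⟩
    dsimp at hu huv ⊢
    subst huv
    simp [← mul_assoc, H26.mul_self_of_orderOf_two hu]
  · exact fun t => rfl

end Cfsg.Agent.S0235
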