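import Cfsg.Statements.S0236
import Cfsg.Agent.H26.Invol

set_option autoImplicit false
open Cfsg

namespace Cfsg.Agent.S0236

/-- If x is an involution, the number of ordered pairs (u, v) of involutions with uv = x, plus one, equals the number of involutions in the centralizer of x. -/
theorem result {G : Type*} [Group G] [Finite G] (x : G) (hx : orderOf x = 2) : Nat.card {p : G × G // orderOf p.1 = 2 ∧ orderOf p.2 = 2 ∧ p.1 * p.2 = x} + 1 = Nat.card {t : G // orderOf t = 2 ∧ Commute t x} := by
  classical
  have : Fintype G := Fintype.ofFinite G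
  have hxx := H26.mul_self_of_orderOf_two hx
  have e : {p : G × G // orderOf p.1 = 2 ∧ orderOf p.2 = 2 ∧ p.1 * p.2 = x} ≃
      {t : {t : G // orderOf t = 2 ∧ Commute t x} // t.1 ≠ x} :=
    { toFun := fun p => ⟨⟨p.1.1, p.2.1, by
        obtain ⟨⟨u, v⟩, hu, hv, huv⟩ := p
        dsimp at hu hv huv ⊢
        have h := inv_eq_of_mul_eq_one_right hxx
        rw [← huv, mul_inv_rev, H26.inv_eq_self_of_orderOf_two hu,
          H26.inv_eq_self_of_orderOf_two hv] at h
        rw [← huv]
        show u * (u * v) = u * v * u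
        rw [mul_assoc u v u, h]⟩, fun h => H26.ne_one_of_orderOf_two p.2.2.1
          (mul_eq_left.1 (p.2.2.2.trans h.symm))⟩
      invFun := fun t => ⟨(t.1.1, t.1.1 * x), t.1.2.1,
        H26.orderOf_two_of_mul_self (by
          rw [← mul_assoc, mul_assoc t.1.1 x, t.1.2.2.symm.eq, ← mul_assoc,
            H26.mul_self_of_orderOf_two t.1.2.1, one_mul, hxx]) (fun h => t.2 (by
          rw [← H26.inv_eq_self_of_orderOf_two t.1.2.1]
          exact inv_eq_of_mul_eq_one_right h)),
        by dsimp only; rw [← mul_assoc, H26.mul_self_of_orderOf_two t.1.2.1, one_mul]⟩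
      left_inv := by
        rintro ⟨⟨u, v⟩, hu, hv, huv⟩
        dsimp at hu huv ⊢
        subst huv
        simp [← mul_assoc, H26.mul_self_of_orderOf_two hu]
      right_inv := fun t => rfl }
  have : Nonempty {t : G // orderOf t = 2 ∧ Commute t x} := ⟨⟨x, hx, Commute.refl x⟩⟩
  rw [Nat.card_congr e, Nat.card_eq_fintype_card, Nat.card_eq_fintype_card]
  have hcong : ∀ t : {t : G // orderOf t = 2 ∧ Commute t x},
      t.1 ≠ x ↔ ¬ t = ⟨x, hx, Commute.refl x⟩ := fun t => by simp [Subtype.ext_iff]
  rw [Fintype.card_congr (Equiv.subtypeEquivRight hcong), Fintype.card_subtype_compl,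
    Fintype.card_subtype_eq]
  have : 0 < Fintype.card {t : G // orderOf t = 2 ∧ Commute t x} := Fintype.card_pos
  omega

end Cfsg.Agent.S0236
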