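import Cfsg.Statements.S0238
import Cfsg.Agent.H27.RealElements
-- import your own Cfsg.Agent.* helpers here

set_option autoImplicit false
open Cfsg

namespace Cfsg.Agent.S0238

/-- For every x in a finite group G, the number c of ordered pairs (u, v) of involutions with uv = x is at most |C_G(x)|; c = 0 when x is not conjugate to x⁻¹; and c + 2 ≤ |C_G(x)| when x is an involution. -/
theorem result {G : Type*} [Group G] [Finite G] (x : G) : Nat.card {p : G × G // orderOf p.1 = 2 ∧ orderOf p.2 = 2 ∧ p.1 * p.2 = x} ≤ Nat.card (Subgroup.centralizer ({x} : Set G)) ∧ (¬ IsConj x x⁻¹ → Nat.card {p : G × G // orderOf p.1 = 2 ∧ orderOf p.2 = 2 ∧ p.1 * p.2 = x} = 0) ∧ (orderOf x = 2 → Nat.card {p : G × G // orderOf p.1 = 2 ∧ orderOf p.2 = 2 ∧ p.1 * p.2 = x} + 2 ≤ Nat.card (Subgroup.centralizer ({x} : Set G))) := by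
  classical
  let f : {p : G × G // orderOf p.1 = 2 ∧ orderOf p.2 = 2 ∧ p.1 * p.2 = x} →
      {g : G // g * x * g⁻¹ = x⁻¹} := fun p =>
    ⟨p.1.1, Cfsg.Agent.H27.RealElements.pair_inverts p.2.1 p.2.2.1 p.2.2.2⟩
  have hf : Function.Injective f := by
    rintro ⟨⟨u, v⟩, hu, hv, h⟩ ⟨⟨u', v'⟩, hu', hv', h'⟩ he
    simp only [f, Subtype.mk.injEq] at he
    subst he
    simp only at h h'
    have : v = v' := mul_left_cancel (h.trans h'.symm)
    subst this
    rfl
  refine ⟨?_, ?_, ?_⟩
  · by_cases hr : Nonempty {g : G // g * x * g⁻¹ = x⁻¹}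
    · obtain ⟨⟨g, hg⟩⟩ := hr
      rw [← Cfsg.Agent.H27.RealElements.card_inverting x g hg]
      exact Nat.card_le_card_of_injective f hf
    · have : IsEmpty {p : G × G // orderOf p.1 = 2 ∧ orderOf p.2 = 2 ∧ p.1 * p.2 = x} :=
        ⟨fun p => hr ⟨f p⟩⟩
      simp [Nat.card_of_isEmpty]
  · intro hn
    have : IsEmpty {p : G × G // orderOf p.1 = 2 ∧ orderOf p.2 = 2 ∧ p.1 * p.2 = x} :=
      ⟨fun p => hn (isConj_iff.2 ⟨(f p).1, (f p).2⟩)⟩
    exact Nat.card_of_isEmpty
  · intro hx
    have hxi : x⁻¹ = x := Cfsg.Agent.H27.RealElements.inv_of_orderOf hx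
    have hx1 : x ≠ 1 := Cfsg.Agent.H27.RealElements.ne_one_of_orderOf hx
    let e : {p : G × G // orderOf p.1 = 2 ∧ orderOf p.2 = 2 ∧ p.1 * p.2 = x} ⊕ Fin 2 →
        Subgroup.centralizer ({x} : Set G) := Sum.elim
      (fun p => ⟨p.1.1, by
        rw [Subgroup.mem_centralizer_singleton_iff]
        have : p.1.1 * x * p.1.1⁻¹ = x⁻¹ := (f p).2
        rw [hxi, mul_inv_eq_iff_eq_mul] at this
        exact this⟩)
      ![⟨1, one_mem _⟩, ⟨x, Subgroup.mem_centralizer_singleton_iff.2 rfl⟩]
    have he : Function.Injective e := by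
      have aux : ∀ (p : {p : G × G // orderOf p.1 = 2 ∧ orderOf p.2 = 2 ∧ p.1 * p.2 = x}) (i : Fin 2),
          e (Sum.inl p) ≠ e (Sum.inr i) := by
        rintro ⟨⟨u, v⟩, hu, hv, h⟩ i hc
        have hc' := congrArg Subtype.val hc
        fin_cases i
        · exact Cfsg.Agent.H27.RealElements.ne_one_of_orderOf hu (by simpa [e] using hc')
        · have hux : u = x := by simpa [e] using hc'
          subst hux
          exact Cfsg.Agent.H27.RealElements.ne_one_of_orderOf hv (by simpa using h)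
      rintro (p | i) (p' | i') h
      · exact congrArg _ (hf (Subtype.ext (by simpa [e, f] using congrArg Subtype.val h)))
      · exact absurd h (aux p i')
      · exact absurd h.symm (aux p' i)
      · fin_cases i <;> fin_cases i' <;> simp_all [e, Subtype.ext_iff]
    have := Nat.card_le_card_of_injective e he
    simpa [Nat.card_sum] using this

end Cfsg.Agent.S0238
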