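import Cfsg.Statements.S0239
import Cfsg.Agent.H27.RealElements
-- import your own Cfsg.Agent.* helpers here

set_option autoImplicit false
open Cfsg

namespace Cfsg.Agent.S0239

/-- If some nontrivial element x of a finite group G is conjugate to x⁻¹, then |G| is even. -/
theorem result {G : Type*} [Group G] [Finite G] (x : G) (hx : x ≠ 1) (hreal : IsConj x x⁻¹) : Even (Nat.card G) := by
  obtain ⟨g, hg⟩ := Cfsg.Agent.H27.RealElements.exists_inverter hreal
  by_contra hne
  rw [Nat.not_even_iff_odd] at hne
  have hinv := Cfsg.Agent.H27.RealElements.pow_inverts hg hne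
  rw [pow_card_eq_one', one_mul, inv_one, mul_one] at hinv
  have h2 : x ^ 2 = 1 := by
    rw [pow_two]
    nth_rewrite 2 [hinv]
    exact mul_inv_cancel x
  have h3 : orderOf x = 2 := orderOf_eq_prime h2 hx
  have h4 := orderOf_dvd_natCard x
  rw [h3] at h4
  exact Nat.not_even_iff_odd.2 hne (even_iff_two_dvd.2 h4)

end Cfsg.Agent.S0239
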