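import Cfsg.Statements.S0240
import Cfsg.Agent.H27.RealElements
-- import your own Cfsg.Agent.* helpers here

set_option autoImplicit false
open Cfsg

namespace Cfsg.Agent.S0240

/-- Let G be a finite group with n involutions and H a subgroup with |H|·(n+1) > |G|. Then some nontrivial h ∈ H is strongly real in G: an involution t of G satisfies t h t⁻¹ = h⁻¹. -/
theorem result {G : Type*} [Group G] [Finite G] (H : Subgroup G) (hH : Nat.card G < Nat.card H * (Nat.card {t : G // orderOf t = 2} + 1)) : ∃ h : G, h ∈ H ∧ h ≠ 1 ∧ ∃ t : G, orderOf t = 2 ∧ t * h * t⁻¹ = h⁻¹ := by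
  classical
  let f : Option {t : G // orderOf t = 2} → G ⧸ H := fun o => ((o.elim 1 (·.1) : G) : G ⧸ H)
  have hni : ¬ Function.Injective f := by
    intro hf
    have h1 := Nat.card_le_card_of_injective f hf
    have h2 : Nat.card (Option {t : G // orderOf t = 2}) = Nat.card {t : G // orderOf t = 2} + 1 :=
      Finite.card_option
    rw [H.card_eq_card_quotient_mul_card_subgroup, mul_comm (Nat.card H)] at hH
    have h3 := Nat.lt_of_mul_lt_mul_right hH
    omega
  simp only [Function.Injective, not_forall] at hni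
  obtain ⟨o, o', he, hne⟩ := hni
  simp only [f, QuotientGroup.eq] at he
  have key : ∀ t u : {t : G // orderOf t = 2}, t ≠ u → t.1⁻¹ * u.1 ∈ H →
      ∃ h : G, h ∈ H ∧ h ≠ 1 ∧ ∃ t : G, orderOf t = 2 ∧ t * h * t⁻¹ = h⁻¹ := by
    intro t u htu hm
    refine ⟨_, hm, fun h => htu (Subtype.ext (inv_mul_eq_one.1 h)), t.1, t.2, ?_⟩
    rw [mul_inv_rev, inv_inv, Cfsg.Agent.H27.RealElements.inv_of_orderOf t.2,
      Cfsg.Agent.H27.RealElements.inv_of_orderOf u.2, ← mul_assoc,
      Cfsg.Agent.H27.RealElements.sq_eq_one_of_orderOf t.2, one_mul]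
  have key1 : ∀ t : {t : G // orderOf t = 2}, t.1 ∈ H →
      ∃ h : G, h ∈ H ∧ h ≠ 1 ∧ ∃ t : G, orderOf t = 2 ∧ t * h * t⁻¹ = h⁻¹ := by
    intro t ht
    refine ⟨t.1, ht, Cfsg.Agent.H27.RealElements.ne_one_of_orderOf t.2, t.1, t.2, ?_⟩
    rw [mul_inv_cancel_right, Cfsg.Agent.H27.RealElements.inv_of_orderOf t.2]
  match o, o', he, hne with
  | none, none, _, hne => exact absurd rfl hne
  | some t, some u, he, hne => exact key t u (fun h => hne (congrArg some h)) he
  | none, some t, he, _ => exact key1 t (by simpa using he)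
  | some t, none, he, _ => exact key1 t (by simpa using he)

end Cfsg.Agent.S0240
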