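import Cfsg.Statements.S0241
import Cfsg.Agent.H27.RealElements
-- import your own Cfsg.Agent.* helpers here

set_option autoImplicit false
open Cfsg

namespace Cfsg.Agent.S0241

/-- If x ≠ 1 is conjugate to x⁻¹ in a finite group G and |C_G(x)| is odd, then some involution t satisfies t x t⁻¹ = x⁻¹. -/
theorem result {G : Type*} [Group G] [Finite G] (x : G) (hx : x ≠ 1) (hreal : IsConj x x⁻¹) (hodd : Odd (Nat.card (Subgroup.centralizer ({x} : Set G)))) : ∃ t : G, orderOf t = 2 ∧ t * x * t⁻¹ = x⁻¹ := by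
  obtain ⟨g, hg⟩ := Cfsg.Agent.H27.RealElements.exists_inverter hreal
  set C := Subgroup.centralizer ({x} : Set G) with hC
  have hm : g * g ∈ C :=
    Subgroup.mem_centralizer_singleton_iff.2 (Cfsg.Agent.H27.RealElements.sq_commute hg).eq
  have hinv := Cfsg.Agent.H27.RealElements.pow_inverts hg hodd
  refine ⟨g ^ Nat.card C, orderOf_eq_prime ?_ ?_, hinv⟩
  · rw [← pow_mul, mul_comm, pow_mul, pow_two]
    have h1 : (⟨g * g, hm⟩ : C) ^ Nat.card C = 1 := pow_card_eq_one'
    exact congrArg Subtype.val h1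
  · intro h1
    rw [h1, one_mul, inv_one, mul_one] at hinv
    have h2 : x ^ 2 = 1 := by
      rw [pow_two]
      nth_rewrite 2 [hinv]
      exact mul_inv_cancel x
    have hxC : x ∈ C := Subgroup.mem_centralizer_singleton_iff.2 rfl
    have h4 := orderOf_dvd_natCard (⟨x, hxC⟩ : C)
    rw [Subgroup.orderOf_mk, orderOf_eq_prime h2 hx] at h4
    exact Nat.not_even_iff_odd.2 hodd (even_iff_two_dvd.2 h4)

end Cfsg.Agent.S0241
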