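import Cfsg.Statements.S0268
import Cfsg.Agent.H27.GLTwo
-- import your own Cfsg.Agent.* helpers here

set_option autoImplicit false
open Cfsg

namespace Cfsg.Agent.S0268

/-- For q odd, -1 is the unique involution of SL_2(q). -/
theorem result {F : Type*} [Field F] [Fintype F] (hF : Odd (Fintype.card F)) (g : Matrix.SpecialLinearGroup (Fin 2) F) (h1 : g ≠ 1) (h2 : g * g = 1) : (g : Matrix (Fin 2) (Fin 2) F) = -1 := by
  have h2' : (2 : F) ≠ 0 := by
    refine Ring.two_ne_zero ?_
    intro hc
    have := FiniteField.even_card_of_char_two (F := F) hc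
    rw [Nat.odd_iff] at hF
    omega
  have hinv : g⁻¹ = g := inv_eq_of_mul_eq_one_right h2
  have hadj : Matrix.adjugate (g : Matrix (Fin 2) (Fin 2) F) = (g : Matrix (Fin 2) (Fin 2) F) := by
    rw [← Matrix.SpecialLinearGroup.coe_inv, hinv]
  rw [Matrix.adjugate_fin_two] at hadj
  have h00 := congrFun (congrFun hadj 0) 0
  have h01 := congrFun (congrFun hadj 0) 1
  have h10 := congrFun (congrFun hadj 1) 0
  simp at h00 h01 h10
  have e01 : (g : Matrix (Fin 2) (Fin 2) F) 0 1 = 0 :=
    (mul_eq_zero.1 (show (2 : F) * (g : Matrix (Fin 2) (Fin 2) F) 0 1 = 0 by linear_combination -h01)).resolve_left h2'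
  have e10 : (g : Matrix (Fin 2) (Fin 2) F) 1 0 = 0 :=
    (mul_eq_zero.1 (show (2 : F) * (g : Matrix (Fin 2) (Fin 2) F) 1 0 = 0 by linear_combination -h10)).resolve_left h2'
  have hd : (g : Matrix (Fin 2) (Fin 2) F).det = 1 := g.2
  rw [Matrix.det_fin_two, e01, h00] at hd
  rcases mul_self_eq_one_iff.1 (show (g : Matrix (Fin 2) (Fin 2) F) 0 0 * (g : Matrix (Fin 2) (Fin 2) F) 0 0 = 1 by linear_combination hd) with h | h
  · exfalso
    apply h1
    apply Matrix.SpecialLinearGroup.ext
    intro i j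
    fin_cases i <;> fin_cases j <;> simp [e01, e10, h00, h]
  · ext i j
    fin_cases i <;> fin_cases j <;> simp [e01, e10, h00, h]

end Cfsg.Agent.S0268
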