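import Cfsg.Statements.S0290
import Cfsg.Agent.H27.QuadCount
-- import your own Cfsg.Agent.* helpers here

set_option autoImplicit false
open Cfsg

namespace Cfsg.Agent.S0290

/-- The minus-type quadratic form on F^(2m), m at least 1, has q^(2m-1) + q^(m-1) - q^m zeros (that is, (q^m + 1)(q^(m-1) - 1) non-zero isotropic vectors). -/
theorem result {F : Type*} [Field F] [Fintype F] {q : ℕ} (hF : Fintype.card F = q) (m : ℕ) (hm : 1 ≤ m) (a b : F) (hab : ∀ z₁ z₂ : F, z₁ ^ 2 + a * z₁ * z₂ + b * z₂ ^ 2 = 0 → z₁ = 0 ∧ z₂ = 0) : Nat.card {v : (Fin (m - 1) ⊕ Fin (m - 1)) ⊕ Fin 2 → F // Cfsg.quadFormMinus (m - 1) F a b v = 0} = q ^ (2 * m - 1) + q ^ (m - 1) - q ^ m := by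
  classical
  subst hF
  obtain ⟨k, rfl⟩ : ∃ k, m = k + 1 := ⟨m - 1, by omega⟩
  have hB : ∀ z : F × F, z.1 ^ 2 + a * z.1 * z.2 + b * z.2 ^ 2 = 0 ↔ z = 0 := by
    intro z
    constructor
    · intro h
      exact Prod.ext (hab _ _ h).1 (hab _ _ h).2
    · rintro rfl; simp
  have h := Cfsg.Agent.H27.QuadCount.q_mul_card_sum k (fun z : F × F => z.1 ^ 2 + a * z.1 * z.2 + b * z.2 ^ 2) 0 hB
  rw [Fintype.card_prod] at h
  have e : Nat.card {v : (Fin (k + 1 - 1) ⊕ Fin (k + 1 - 1)) ⊕ Fin 2 → F //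
      Cfsg.quadFormMinus (k + 1 - 1) F a b v = 0} = Nat.card {p : (F × F) × (Fin k ⊕ Fin k → F) //
      Cfsg.quadFormPlus k F p.2 + (p.1.1 ^ 2 + a * p.1.1 * p.1.2 + b * p.1.2 ^ 2) = 0} :=
    Nat.card_congr
      { toFun := fun v => ⟨((v.1 (Sum.inr 0), v.1 (Sum.inr 1)), fun i => v.1 (Sum.inl i)), v.2⟩
        invFun := fun p => ⟨Sum.elim p.1.2 ![p.1.1.1, p.1.1.2], p.2⟩
        left_inv := fun v => by
          ext (i | i)
          · rfl
          · fin_cases i <;> rfl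
        right_inv := fun p => rfl }
  rw [e]
  have hq : (Fintype.card F : ℤ) ≠ 0 := by exact_mod_cast Fintype.card_ne_zero
  have e1 : 2 * (k + 1) - 1 = 2 * k + 1 := by omega
  rw [e1, Nat.add_sub_cancel]
  have hle : Fintype.card F ^ (k + 1) ≤ Fintype.card F ^ (2 * k + 1) + Fintype.card F ^ k :=
    le_add_right (Nat.pow_le_pow_right Fintype.card_pos (by omega))
  apply Int.ofNat_inj.1
  rw [Nat.cast_sub hle]
  push_cast at h ⊢
  apply mul_left_cancel₀ hq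
  rw [h]
  ring

end Cfsg.Agent.S0290
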