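import Cfsg.Statements.S0291
import Cfsg.Agent.H27.QuadCount
-- import your own Cfsg.Agent.* helpers here

set_option autoImplicit false
open Cfsg

namespace Cfsg.Agent.S0291

/-- For q odd, the form x_0^2 + sum_{i<m} x_i y_i on F^(2m+1) has exactly q^(2m) zeros. -/
theorem result {F : Type*} [Field F] [Fintype F] {q : ℕ} (hF : Fintype.card F = q) (hodd : Odd q) (m : ℕ) : Nat.card {v : Unit ⊕ (Fin m ⊕ Fin m) → F // Cfsg.quadFormOdd m F v = 0} = q ^ (2 * m) := by
  subst hF
  have h := Cfsg.Agent.H27.QuadCount.q_mul_card_sum m (fun z : F => z ^ 2) 0 (fun z => by simp)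
  have e : Nat.card {v : Unit ⊕ (Fin m ⊕ Fin m) → F // Cfsg.quadFormOdd m F v = 0}
      = Nat.card {p : F × (Fin m ⊕ Fin m → F) // Cfsg.quadFormPlus m F p.2 + p.1 ^ 2 = 0} :=
    Nat.card_congr
      { toFun := fun v => ⟨(v.1 (Sum.inl ()), fun i => v.1 (Sum.inr i)), by
          rw [add_comm]; exact v.2⟩
        invFun := fun p => ⟨Sum.elim (fun _ => p.1.1) p.1.2, by
          have := p.2; rw [add_comm] at this; exact this⟩
        left_inv := fun v => by
          ext (i | i) <;> rfl
        right_inv := fun p => rfl }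
  rw [e]
  have hq : (Fintype.card F : ℤ) ≠ 0 := by exact_mod_cast Fintype.card_ne_zero
  apply Int.ofNat_inj.1
  push_cast
  apply mul_left_cancel₀ hq
  rw [h]
  ring

end Cfsg.Agent.S0291
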