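import Cfsg.Statements.S0307
import Cfsg.Agent.Linear.Order
-- import your own Cfsg.Agent.* helpers here

set_option autoImplicit false
open Cfsg

namespace Cfsg.Agent.S0307

/-- PSL_n(q) is normal in PGL_n(q) with cyclic quotient of order gcd(n, q-1): the image of the natural map PSL_n → PGL_n is the kernel of a surjective homomorphism onto the cyclic group of that order. -/
theorem result {F : Type*} [Field F] [Fintype F] {q : ℕ} (hF : Fintype.card F = q) (n : ℕ) (hn : 1 ≤ n) : ∃ g : Matrix.ProjGenLinGroup (Fin n) F →* Multiplicative (ZMod (Nat.gcd n (q - 1))), Function.Surjective g ∧ g.ker = (Matrix.ProjectiveSpecialLinearGroup.toPGL : Matrix.ProjectiveSpecialLinearGroup (Fin n) F →* Matrix.ProjGenLinGroup (Fin n) F).range := by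
  subst hF
  have : Nonempty (Fin n) := ⟨⟨0, hn⟩⟩
  let R : Subgroup Fˣ := (powMonoidHom n : Fˣ →* Fˣ).range
  have : IsCyclic (Fˣ ⧸ R) := isCyclic_of_surjective _ (QuotientGroup.mk'_surjective R)
  have hcard : Nat.card (Fˣ ⧸ R) = Nat.gcd n (Fintype.card F - 1) := by
    rw [← Subgroup.index_eq_card, IsCyclic.index_powMonoidHom_range, Cfsg.Agent.Linear.card_units',
      Nat.gcd_comm]
  let e : Fˣ ⧸ R ≃* Multiplicative (ZMod (Nat.gcd n (Fintype.card F - 1))) :=
    hcard ▸ (zmodCyclicMulEquiv inferInstance).symm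
  let d : Matrix.GeneralLinearGroup (Fin n) F →* Fˣ ⧸ R :=
    (QuotientGroup.mk' R).comp Matrix.GeneralLinearGroup.det
  have hd : d.comp (Matrix.GeneralLinearGroup.scalar (Fin n)) = 1 := by
    ext u
    refine (QuotientGroup.eq_one_iff _).mpr ⟨u, Units.ext ?_⟩
    simp [Matrix.scalar_apply, Matrix.det_diagonal]
  refine ⟨e.toMonoidHom.comp (Matrix.ProjGenLinGroup.lift d hd),
    e.surjective.comp fun x => ?_, ?_⟩
  · obtain ⟨a, rfl⟩ := QuotientGroup.mk'_surjective R x
    obtain ⟨A, rfl⟩ := Matrix.GeneralLinearGroup.det_surjective (n := Fin n) a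
    exact ⟨Matrix.ProjGenLinGroup.mk A, Matrix.ProjGenLinGroup.lift_mk hd A⟩
  ext x
  induction x using Matrix.ProjGenLinGroup.induction_on with | mk A =>
  have h1 : Matrix.ProjGenLinGroup.mk A ∈
      (e.toMonoidHom.comp (Matrix.ProjGenLinGroup.lift d hd)).ker ↔
      Matrix.GeneralLinearGroup.det A ∈ R := by
    rw [MonoidHom.mem_ker, MonoidHom.comp_apply, MulEquiv.coe_toMonoidHom, map_eq_one_iff _ e.injective,
      Matrix.ProjGenLinGroup.lift_mk]
    exact QuotientGroup.eq_one_iff _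
  rw [h1]
  constructor
  · rintro ⟨u, hu⟩
    rw [powMonoidHom_apply] at hu
    have hA : A * Matrix.GeneralLinearGroup.scalar (Fin n) u⁻¹
        ∈ (Matrix.GeneralLinearGroup.det : Matrix.GeneralLinearGroup (Fin n) F →* Fˣ).ker := by
      rw [MonoidHom.mem_ker, map_mul, ← hu]
      refine Units.ext ?_
      simp [Matrix.scalar_apply, Matrix.det_diagonal]
    rw [← Cfsg.Agent.Linear.range_toGL] at hA
    obtain ⟨s, hs⟩ := hA
    refine ⟨QuotientGroup.mk s, ?_⟩
    rw [Matrix.ProjectiveSpecialLinearGroup.toPGL_mk, hs, map_mul, Matrix.ProjGenLinGroup.mk_scalar,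
      mul_one]
  · rintro ⟨y, hy⟩
    obtain ⟨s, rfl⟩ := QuotientGroup.mk_surjective y
    rw [Matrix.ProjectiveSpecialLinearGroup.toPGL_mk, Matrix.ProjGenLinGroup.mk_eq_mk_iff] at hy
    obtain ⟨u, hu⟩ := hy
    refine ⟨u, ?_⟩
    rw [← hu, map_mul]
    refine Units.ext ?_
    simp [Matrix.scalar_apply, Matrix.det_diagonal]

end Cfsg.Agent.S0307
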