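import Cfsg.Statements.S0316
import Cfsg.Agent.H28.BNBasic

set_option autoImplicit false
open Cfsg

namespace Cfsg.Agent.S0316

/-- The map `J ↦ P_J` is a lattice isomorphism from the power set of the set of distinguished generators onto the
subgroups containing `B`. -/
theorem result {G : Type*} [Group G] (P : Cfsg.BNPair G) :
    ∃ e : Set P.S ≃o {M : Subgroup G // P.B ≤ M},
      ∀ J : Set P.S, ((e J : {M : Subgroup G // P.B ≤ M}) : Subgroup G) = P.parabolic (Subtype.val '' J) := by
  classical
  refine ⟨{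
    toFun := fun J => ⟨P.parabolic (Subtype.val '' J), le_sup_left⟩
    invFun := fun M => {s : P.S | (s : G) ∈ (M : Subgroup G)}
    left_inv := ?_
    right_inv := ?_
    map_rel_iff' := ?_ }, fun J => rfl⟩
  · intro J
    ext ⟨s, hs⟩
    constructor
    · intro h
      obtain ⟨x, hx, rfl⟩ := H28.mem_of_mem_parabolic (by rintro _ ⟨x, -, rfl⟩; exact x.2) hs h
      exact hx
    · intro h
      exact Subgroup.mem_sup_right (Subgroup.subset_closure ⟨_, h, rfl⟩)
  · rintro ⟨M, hM⟩
    apply Subtype.ext
    show P.parabolic (Subtype.val '' {s : P.S | (s : G) ∈ M}) = M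
    refine Eq.trans ?_ (H28.eq_parabolic hM).symm
    congr 1
    ext s
    constructor
    · rintro ⟨⟨x, hx⟩, hxM, rfl⟩
      exact ⟨hx, hxM⟩
    · rintro ⟨hs, hsM⟩
      exact ⟨⟨s, hs⟩, hsM, rfl⟩
  · intro J J'
    constructor
    · intro h s hs
      have h' : (s : G) ∈ P.parabolic (Subtype.val '' J') :=
        h (Subgroup.mem_sup_right (Subgroup.subset_closure ⟨_, hs, rfl⟩))
      obtain ⟨x, hx, hxe⟩ := H28.mem_of_mem_parabolic (by rintro _ ⟨x, -, rfl⟩; exact x.2) s.2 h'
      rwa [← Subtype.ext hxe]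
    · intro h
      exact sup_le_sup_left (Subgroup.closure_mono (Set.image_mono h)) _

end Cfsg.Agent.S0316
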