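import Cfsg.Statements.S0318
import Cfsg.Agent.H28.BNBasic

set_option autoImplicit false
open Cfsg

namespace Cfsg.Agent.S0318

/-- For `n ∈ N`, the subgroup generated by `B` and `n` coincides with the subgroup generated by `B` and the
conjugate `n B n⁻¹`. -/
theorem result {G : Type*} [Group G] (P : Cfsg.BNPair G) {n : G}
    (hn : n ∈ P.N) :
    P.B ⊔ Subgroup.closure {n} = P.B ⊔ P.B.map (MulAut.conj n).toMonoidHom := by
  refine le_antisymm (sup_le le_sup_left ((Subgroup.closure_le _).2 ?_)) (sup_le le_sup_left ?_)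
  · rintro x rfl
    obtain ⟨L, hL, hl⟩ := H28.exists_red (P := P) hn
    set H := P.B ⊔ P.B.map (MulAut.conj x).toMonoidHom with hH
    have hLH := H28.mem_of_reduced hn hL hl (H := H) le_sup_left
      (fun y hy => Subgroup.mem_sup_right ⟨y, hy, rfl⟩)
    have e : x = L.prod * (L.prod⁻¹ * x) := by group
    show x ∈ H
    rw [e]
    exact mul_mem (list_prod_mem hLH) (Subgroup.mem_sup_left hL.2)
  · rintro _ ⟨y, hy, rfl⟩
    have h1 : n ∈ P.B ⊔ Subgroup.closure {n} :=
      Subgroup.mem_sup_right (Subgroup.subset_closure rfl)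
    exact mul_mem (mul_mem h1 (Subgroup.mem_sup_left hy)) (inv_mem h1)

end Cfsg.Agent.S0318
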