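import Cfsg.Statements.S0320
import Cfsg.Agent.H28.BNBasic
import Cfsg.Agent.H28.CoxeterExchange

set_option autoImplicit false
open Cfsg

namespace Cfsg.Agent.S0320


/-- The Weyl group `W = N / (B ⊓ N)` of a (B,N)-pair, with its distinguished involutions, is a Coxeter system. -/
theorem result {G : Type*} [Group G] (P : Cfsg.BNPair G)
    [hN : ((P.B ⊓ P.N).subgroupOf P.N).Normal] :
    ∃ (M : CoxeterMatrix P.S) (cs : CoxeterSystem M (P.N ⧸ (P.B ⊓ P.N).subgroupOf P.N)),
      ∀ s : P.S, cs.simple s = QuotientGroup.mk (⟨(s : G), P.subset s.2⟩ : P.N) := by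
  classical
  let f : P.S → P.N ⧸ (P.B ⊓ P.N).subgroupOf P.N :=
    fun s => QuotientGroup.mk (⟨(s : G), P.subset s.2⟩ : P.N)
  have hmk : ∀ a b : P.N, (QuotientGroup.mk a : P.N ⧸ (P.B ⊓ P.N).subgroupOf P.N) =
      QuotientGroup.mk b ↔ (a : G)⁻¹ * b ∈ P.B := by
    intro a b
    rw [QuotientGroup.eq, Subgroup.mem_subgroupOf, Subgroup.mem_inf]
    simp only [Subgroup.coe_mul, Subgroup.coe_inv]
    exact and_iff_left (mul_mem (inv_mem a.2) b.2)
  have hmem : ∀ L : List P.S, ∀ x ∈ L.map (Subtype.val : P.S → G), x ∈ P.S := by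
    intro L x hx
    obtain ⟨y, -, rfl⟩ := List.mem_map.1 hx
    exact y.2
  have hprod : ∀ L : List P.S, ∀ h : (L.map (Subtype.val : P.S → G)).prod ∈ P.N,
      H28.wprod f L = QuotientGroup.mk (⟨_, h⟩ : P.N) := by
    intro L
    induction L with
    | nil => intro h; rfl
    | cons s L ih =>
      intro h
      rw [H28.wprod_cons, ih (H28.prod_mem_N (hmem L))]
      rfl
  have heq : ∀ L L' : List P.S, H28.wprod f L = H28.wprod f L' ↔
      ((L.map (Subtype.val : P.S → G)).prod)⁻¹ * (L'.map (Subtype.val : P.S → G)).prod ∈ P.B := by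
    intro L L'
    rw [hprod L (H28.prod_mem_N (hmem L)), hprod L' (H28.prod_mem_N (hmem L')), hmk]
  have hlift : ∀ R : List G, (∀ x ∈ R, x ∈ P.S) →
      ∃ R' : List P.S, R'.map (Subtype.val : P.S → G) = R := fun R hR =>
    ⟨R.attach.map fun x => ⟨x.1, hR x.1 x.2⟩, by simp [List.map_map, Function.comp_def]⟩
  have hgen : ∀ w, ∃ L, H28.wprod f L = w := by
    intro w
    obtain ⟨⟨n, hn⟩, rfl⟩ := QuotientGroup.mk_surjective w
    obtain ⟨R, hR⟩ := H28.exists_rep (P := P) hn
    obtain ⟨L, hL⟩ := hlift R hR.1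
    refine ⟨L, ?_⟩
    rw [hprod L (H28.prod_mem_N (hmem L)), hmk]
    show ((L.map (Subtype.val : P.S → G)).prod)⁻¹ * n ∈ P.B
    rw [hL]; exact hR.2
  have hrep : ∀ L : List P.S, H28.Rep P (L.map (Subtype.val : P.S → G))
      (L.map (Subtype.val : P.S → G)).prod := fun L => ⟨hmem L, by simp⟩
  have hex : H28.ExchangeCond f := by
    intro L i hL hiL
    set n := (L.map (Subtype.val : P.S → G)).prod with hn
    have hnN : n ∈ P.N := H28.prod_mem_N (hmem L)
    have hlen : (L.map (Subtype.val : P.S → G)).length = H28.len P n := by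
      obtain ⟨R, hR, hRl⟩ := H28.exists_red hnN
      obtain ⟨R', hR'⟩ := hlift R hR.1
      refine le_antisymm ?_ (H28.len_le (hrep L))
      rw [List.length_map, ← hRl, ← hR', List.length_map]
      exact hL R' ((heq R' L).2 (by rw [hR']; exact hR.2))
    have hlt : H28.len P ((i : G) * n) < H28.len P n := by
      rcases H28.len_cases i.2 hnN with h | h
      · refine absurd ?_ hiL
        intro M hM
        have h1 := H28.len_le ((hrep M).congr ((heq M (i :: L)).1 hM))
        simp only [List.map_cons, List.prod_cons, List.length_map] at h1 hlen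
        rw [← hn] at h1
        simp only [List.length_cons]
        omega
      · omega
    obtain ⟨R, hsub, hRl, hR⟩ := H28.exchange i.2 hnN (hrep L) hlen hlt
    obtain ⟨R', hR', rfl⟩ := List.sublist_map_iff.1 hsub
    refine ⟨R', hR', by simpa using hRl, ?_⟩
    rw [← H28.wprod_cons, heq]
    simpa [hn] using hR.2
  refine H28.exists_coxeterSystem_of_exchange f (fun s => ?_) (fun s t hst => ?_) hgen hex
  · refine (QuotientGroup.eq_one_iff _).2 ?_
    exact Subgroup.mem_inf.2 ⟨P.sq_mem s s.2, mul_mem (P.subset s.2) (P.subset s.2)⟩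
  · exact Subtype.ext (P.inj s s.2 t t.2 ((hmk _ _).1 hst))

end Cfsg.Agent.S0320
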