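import Cfsg.Statements.S0323


set_option autoImplicit false
open scoped Pointwise
open Cfsg
open scoped Pointwise

namespace Cfsg.Agent.S0323


/-- A doubly transitive action on a set with at least three points yields a (B,N)-pair of rank one:
`B` is the stabiliser of a point `x`, `N` the setwise stabiliser of a pair `{x, y}`. -/
theorem result {G Ω : Type*} [Group G] [MulAction G Ω]
    (h2 : MulAction.IsMultiplyPretransitive G Ω 2) {x y z : Ω} (hxy : x ≠ y) (hyz : y ≠ z) (hxz : x ≠ z) :
    ∃ P : Cfsg.BNPair G, P.B = MulAction.stabilizer G x ∧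
      P.N = MulAction.stabilizer G ({x, y} : Set Ω) ∧ P.rank = 1 := by
  classical
  rw [MulAction.is_two_pretransitive_iff] at h2
  obtain ⟨s, hsx, hsy⟩ := h2 hxy hxy.symm
  set B := MulAction.stabilizer G x with hBdef
  set N := MulAction.stabilizer G ({x, y} : Set Ω) with hNdef
  have memB : ∀ g : G, g ∈ B ↔ g • x = x := fun g => Iff.rfl
  have memN : ∀ g : G, g ∈ N → (g • x = x ∧ g • y = y) ∨ (g • x = y ∧ g • y = x) := by
    intro g hg
    have h : g • ({x, y} : Set Ω) = {x, y} := hg
    rw [Set.smul_set_insert, Set.smul_set_singleton] at h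
    exact Set.pair_eq_pair_iff.1 h
  have hsN : s ∈ N := by
    show s • ({x, y} : Set Ω) = {x, y}
    rw [Set.smul_set_insert, Set.smul_set_singleton, hsx, hsy, Set.pair_comm]
  have hss : s * s ∈ B := by rw [memB, mul_smul, hsx, hsy]
  have hsinvx : s⁻¹ • y = x := by rw [inv_smul_eq_iff, hsx]
  -- `G = B ∪ B s B`
  have hG : ∀ g : G, g ∈ B ∨ g ∈ DoubleCoset.doubleCoset s (B : Set G) B := by
    intro g
    by_cases hg : g • x = x
    · exact Or.inl hg
    · right
      obtain ⟨b, hbx, hby⟩ := h2 hxy (c := x) (d := g • x) (Ne.symm hg)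
      refine DoubleCoset.mem_doubleCoset.2 ⟨b, hbx, (b * s)⁻¹ * g, ?_, by group⟩
      show ((b * s)⁻¹ * g) • x = x
      rw [mul_smul, inv_smul_eq_iff, mul_smul, hsx, hby]
  have dcB : ∀ {n g : G}, n ∈ B → g ∈ B → g ∈ DoubleCoset.doubleCoset n (B : Set G) B := by
    intro n g hn hg
    exact DoubleCoset.mem_doubleCoset.2 ⟨g * n⁻¹, mul_mem hg (inv_mem hn), 1, one_mem _, by group⟩
  have dcS : ∀ {n : G}, s⁻¹ * n ∈ B → DoubleCoset.doubleCoset n (B : Set G) B =
      DoubleCoset.doubleCoset s (B : Set G) B := by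
    intro n hn
    exact DoubleCoset.doubleCoset_eq_of_mem
      (DoubleCoset.mem_doubleCoset.2 ⟨1, one_mem _, s⁻¹ * n, hn, by group⟩)
  have splitN : ∀ {n : G}, n ∈ N → n ∈ B ∨ s⁻¹ * n ∈ B := by
    intro n hn
    rcases memN n hn with ⟨h1, -⟩ | ⟨h1, -⟩
    · exact Or.inl h1
    · right
      rw [memB, mul_smul, h1, hsinvx]
  refine ⟨{
    B := B
    N := N
    S := {s}
    sup_eq_top := ?_
    conj_mem := ?_
    subset := by simpa using hsN
    sq_mem := by simpa using hss
    inj := by rintro a rfl b rfl -; rfl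
    closure_sup := ?_
    mul_mem_union := ?_
    conj_ne := ?_ }, rfl, rfl, ?_⟩
  · rw [eq_top_iff]
    intro g _
    rcases hG g with hg | hg
    · exact Subgroup.mem_sup_left hg
    · obtain ⟨a, ha, b, hb, rfl⟩ := DoubleCoset.mem_doubleCoset.1 hg
      exact mul_mem (mul_mem (Subgroup.mem_sup_left ha) (Subgroup.mem_sup_right hsN))
        (Subgroup.mem_sup_left hb)
  · intro n hn t ht
    obtain ⟨htB, htN⟩ := Subgroup.mem_inf.1 ht
    have htx : t • x = x := htB
    have hty : t • y = y := by
      rcases memN t htN with ⟨-, h⟩ | ⟨h, -⟩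
      · exact h
      · exact absurd (htx.symm.trans h) hxy
    rw [memB, mul_smul, mul_smul]
    rcases memN n hn with ⟨h1, h2'⟩ | ⟨h1, h2'⟩
    · rw [inv_smul_eq_iff.2 h1.symm, htx, h1]
    · rw [inv_smul_eq_iff.2 h2'.symm, hty, h2']
  · refine le_antisymm (sup_le ((Subgroup.closure_le _).2 (by simpa using hsN)) inf_le_right) ?_
    intro n hn
    rcases splitN hn with h | h
    · exact Subgroup.mem_sup_right (Subgroup.mem_inf.2 ⟨h, hn⟩)
    · have e : n = s * (s⁻¹ * n) := by group
      rw [e]
      exact mul_mem (Subgroup.mem_sup_left (Subgroup.subset_closure rfl))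
        (Subgroup.mem_sup_right (Subgroup.mem_inf.2 ⟨h, mul_mem (inv_mem hsN) hn⟩))
  · rintro a rfl n hn b hb
    rcases splitN hn with h | h
    · have hh : a⁻¹ * (a * n) ∈ B := by simpa using h
      rcases hG (a * b * n) with hg | hg
      · exact Or.inr (dcB h hg)
      · exact Or.inl (by rw [dcS hh]; exact hg)
    · have hh : a * n ∈ B := by
        have e : a * n = (a * a) * (a⁻¹ * n) := by group
        rw [e]; exact mul_mem hss h
      rcases hG (a * b * n) with hg | hg
      · exact Or.inl (dcB hh hg)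
      · exact Or.inr (by rw [dcS h]; exact hg)
  · rintro a rfl himg
    obtain ⟨b, hbx, hby⟩ := h2 hxy hxz
    have hmem : a * b * a ∈ (B : Set G) := himg ▸ ⟨b, hbx, rfl⟩
    have h : (a * b * a) • x = x := hmem
    rw [mul_smul, mul_smul, hsx, hby] at h
    exact hyz (MulAction.injective a (h.trans hsy.symm)).symm
  · show Nat.card ({s} : Set G) = 1
    simp

end Cfsg.Agent.S0323
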