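import Cfsg.Statements.S0328
import Cfsg.Agent.Suzuki.Structure

set_option autoImplicit false
open Cfsg

namespace Cfsg.Agent.S0328

/-- The stabiliser in the Suzuki group of the two ovoid points spanned by `(1,0,0,0)` and `(0,0,0,1)` is
isomorphic to the multiplicative group of the field (cyclic of order `q - 1`). -/
theorem result {F : Type*} [Field F] [Fintype F] {m : ℕ} (hm : 1 ≤ m)
    (hF : Fintype.card F = 2 ^ (2 * m + 1)) :
    Nonempty (↥(MulAction.stabilizer (Cfsg.Sz F m) (Cfsg.suzukiPointInfinity F) ⊓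
        MulAction.stabilizer (Cfsg.Sz F m) (Cfsg.suzukiPointZero F)) ≃* Fˣ) := by
  have : Cfsg.Agent.Suzuki.SzField F m := ⟨hF, hm⟩
  refine ⟨((MonoidHom.ofInjective (Cfsg.Agent.Suzuki.t_injective (F := F) m)).trans
    (MulEquiv.subgroupCongr ?_)).symm⟩
  ext g
  simp only [Subgroup.mem_inf, MulAction.mem_stabilizer_iff, MonoidHom.mem_range]
  constructor
  · rintro ⟨s, rfl⟩
    refine ⟨congrArg Subtype.val (Cfsg.Agent.Suzuki.t_smul_oInf m s), ?_⟩
    rw [Cfsg.Agent.Suzuki.pointZero_eq m]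
    exact (congrArg Subtype.val (Cfsg.Agent.Suzuki.t_smul_oPt m s 0 0)).trans
      (by simp [Cfsg.Agent.Suzuki.oPt])
  · rintro ⟨h1, h2⟩
    rw [Cfsg.Agent.Suzuki.pointZero_eq m] at h2
    obtain ⟨s, hs⟩ := Cfsg.Agent.Suzuki.exists_t_of_fixed m (g := g) (Subtype.ext h1) (Subtype.ext h2)
    exact ⟨s, hs.symm⟩

end Cfsg.Agent.S0328
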