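import Cfsg.Statements.S0345
import Cfsg.Agent.H28.ZassApps

open Cfsg.Agent.H28.Zass

set_option autoImplicit false
open Cfsg

namespace Cfsg.Agent.S0345

/-- In a finite simple Zassenhaus group the stabiliser `H` of two points `a ≠ b` is cyclic, and some involution
interchanging `a` and `b` inverts every element of `H`. -/
theorem result {G Ω : Type*} [Group G] [Finite G] [MulAction G Ω] [Finite Ω]
    (hZ : Cfsg.IsZassenhausGroup G Ω) [IsSimpleGroup G]
    {a b : Ω} (hab : a ≠ b) :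
    IsCyclic ↥(MulAction.stabilizer G a ⊓ MulAction.stabilizer G b) ∧
      ∃ v : G, orderOf v = 2 ∧ v • a = b ∧ v • b = a ∧ ∀ h ∈ MulAction.stabilizer G a ⊓ MulAction.stabilizer G b, v * h * v⁻¹ = h⁻¹ := by
  obtain ⟨s, hsa, hsb⟩ := H33.zas_map_pair hZ hab hab.symm
  rcases Nat.even_or_odd (Nat.card ↥(MulAction.stabilizer G a ⊓ MulAction.stabilizer G b)) with
    he | ho
  · obtain ⟨H, hH, -⟩ := exists_ker hZ a
    have hcomm := even_comm hH hZ hab he
    have hhalf := even_simple_half hH hZ hab he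
    obtain ⟨-, hinv, hord⟩ := half_inverted hH hZ hab hcomm hhalf
    exact ⟨half_cyclic hH hZ hab hcomm hhalf, s, hord s hsa hsb, hsa, hsb, hinv s hsa hsb⟩
  · obtain ⟨hcyc, -, hinv⟩ := inverted_of_simple hZ hab ho
    exact ⟨hcyc, s, swap_orderOf hab ho hinv hsa hsb, hsa, hsb, hinv s hsa hsb⟩

end Cfsg.Agent.S0345
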