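import Cfsg.Statements.S0353
import Cfsg.Agent.H28.Steiner

set_option autoImplicit false
open Cfsg

namespace Cfsg.Agent.S0353

/-- In an S(5, 8, 24), the symmetric difference of two blocks meeting in four points is a block. -/
theorem result {α : Type*} [Fintype α] [DecidableEq α] (hα : Fintype.card α = 24) {B : Set (Finset α)} (hB : Cfsg.IsSteinerSystem 5 8 B) {b c : Finset α} (hb : b ∈ B) (hc : c ∈ B) (h4 : (b ∩ c).card = 4) : symmDiff b c ∈ B := by
  have hcard : (symmDiff b c).card = 8 := by
    have h1 := Finset.card_sdiff_add_card_inter b c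
    have h2 := Finset.card_sdiff_add_card_inter c b
    have h3 := hB.1 b hb
    have h5 := hB.1 c hc
    rw [Finset.inter_comm c b] at h2
    rw [symmDiff_def, Finset.sup_eq_union, Finset.card_union_of_disjoint disjoint_sdiff_sdiff]
    omega
  refine H28.mem_of_even_inter hB hα hcard fun e he => ?_
  have hev : ∀ x ∈ B, Even (e ∩ x).card := by
    intro x hx
    rcases eq_or_ne e x with rfl | hne
    · rw [Finset.inter_self, hB.1 e he]; decide
    · rcases H28.inter_mem_5_8_24 hB hα he hx hne with h | h | h <;> rw [h] <;> decide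
  have hd : e ∩ symmDiff b c = ((e ∩ b) \ (e ∩ c)) ∪ ((e ∩ c) \ (e ∩ b)) := by
    ext x; simp [Finset.mem_symmDiff]; tauto
  rw [hd, Finset.card_union_of_disjoint disjoint_sdiff_sdiff]
  have h1 := Finset.card_sdiff_add_card_inter (e ∩ b) (e ∩ c)
  have h2 := Finset.card_sdiff_add_card_inter (e ∩ c) (e ∩ b)
  rw [Finset.inter_comm (e ∩ c) (e ∩ b)] at h2
  obtain ⟨r, hr⟩ := hev b hb
  obtain ⟨q, hq⟩ := hev c hc
  rw [Nat.even_iff]
  omega

end Cfsg.Agent.S0353
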