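import Cfsg.Statements.S0354
import Cfsg.Agent.H28.Steiner

set_option autoImplicit false
open Cfsg

namespace Cfsg.Agent.S0354

/-- In an S(5, 8, 24), each block is disjoint from exactly 30 blocks. -/
theorem result {α : Type*} [Fintype α] [DecidableEq α] (hα : Fintype.card α = 24) {B : Set (Finset α)} (hB : Cfsg.IsSteinerSystem 5 8 B) {b : Finset α} (hb : b ∈ B) : {c : Finset α | c ∈ B ∧ Disjoint b c}.ncard = 30 := by
  have h := (H28.interNum_5_8_24 hB hα hb).1
  rw [← h, H28.interNum, ← Set.ncard_coe_finset]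
  congr 1
  ext c
  simp only [Set.mem_setOf_eq, Finset.coe_filter, Finset.mem_erase, H28.mem_blocks,
    Finset.card_eq_zero]
  constructor
  · rintro ⟨hc, hd⟩
    refine ⟨⟨?_, hc⟩, by rw [Finset.inter_comm]; exact Finset.disjoint_iff_inter_eq_empty.1 hd⟩
    rintro rfl
    have h8 := hB.1 c hc
    rw [disjoint_self.1 hd] at h8
    simp at h8
  · rintro ⟨⟨-, hc⟩, hd⟩
    exact ⟨hc, Finset.disjoint_iff_inter_eq_empty.2 (by rw [Finset.inter_comm]; exact hd)⟩

end Cfsg.Agent.S0354
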