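import Cfsg.Statements.S0357
import Cfsg.Agent.H28.Steiner

set_option autoImplicit false
open Cfsg

namespace Cfsg.Agent.S0357

/-- In a Steiner system S(5, 6, 12), the complement of every block is again a block. -/
theorem result {α : Type*} [Fintype α] [DecidableEq α] (hα : Fintype.card α = 12) {B : Set (Finset α)} (hB : Cfsg.IsSteinerSystem 5 6 B) {b : Finset α} (hb : b ∈ B) : bᶜ ∈ B := by
  have h := (H28.interNum_5_6_12 hB hα hb).1
  obtain ⟨c, hc⟩ : (((H28.blocks B).erase b).filter fun c => (c ∩ b).card = 0).Nonempty := by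
    rw [← Finset.card_pos]
    show 0 < H28.interNum B b 0
    omega
  simp only [Finset.mem_filter, Finset.mem_erase, H28.mem_blocks, Finset.card_eq_zero] at hc
  have : c = bᶜ := Finset.eq_of_subset_of_card_le
    (Finset.subset_compl_iff_disjoint_right.2 (Finset.disjoint_iff_inter_eq_empty.2 hc.2))
    (by rw [Finset.card_compl, hB.1 b hb, hB.1 c hc.1.2, hα])
  exact this ▸ hc.1.2

end Cfsg.Agent.S0357
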