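import Cfsg.Statements.S0437
import Cfsg.Agent.H29.ThreeTransp

set_option autoImplicit false
open Cfsg

namespace Cfsg.Agent.S0437

/-- For three distinct, pairwise commuting members a, b, c of a set of 3-transpositions E, a member e of E centralises a * b * c if and only if it centralises each of a, b and c. -/
theorem result {G : Type*} [Group G] {E : Set G} (hE : Cfsg.IsThreeTranspositionSet E) {a b c e : G} (ha : a ∈ E) (hb : b ∈ E) (hc : c ∈ E) (he : e ∈ E) (hab : a ≠ b) (hac : a ≠ c) (hbc : b ≠ c) (h₁ : Commute a b) (h₂ : Commute a c) (h₃ : Commute b c) : Commute e (a * b * c) ↔ (Commute e a ∧ Commute e b ∧ Commute e c) := by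
  refine ⟨fun h => ?_, fun h => (h.1.mul_right h.2.1).mul_right h.2.2⟩
  by_cases hec : Commute e c
  · have h' := h.mul_right hec.inv_right
    rw [mul_inv_cancel_right] at h'
    have h'' := H29.tt_commute_pair hE ha hb he hab h'
    exact ⟨h''.1, h''.2, hec⟩
  · by_cases hea : Commute e a
    · have h' := hea.inv_right.mul_right h
      rw [mul_assoc, inv_mul_cancel_left] at h'
      exact absurd (H29.tt_commute_pair hE hb hc he hbc h').2 hec
    · have heb : ¬ Commute e b := by
        intro heb
        have h' := heb.inv_right.mul_right h
        rw [h₁.eq, mul_assoc, inv_mul_cancel_left] at h'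
        exact hea (H29.tt_commute_pair hE ha hc he hac h').1
      exfalso
      have e1 := H29.tt_braid hE he ha hea
      have e2 := H29.tt_braid hE he hb heb
      have e3 := H29.tt_braid hE he hc hec
      have ee := H29.tt_sq hE he
      have key : (a * e * a) * (b * e * b) * (c * e * c) = a * b * c := by
        rw [← e1, ← e2, ← e3,
          show (e * a * e) * (e * b * e) * (e * c * e) = e * (a * ((e * e) * (b * ((e * e) * c)))) * e by group,
          ee, one_mul, one_mul, ← mul_assoc a b c, h.eq, mul_assoc, ee, mul_one]
      have k1 : e * a * b * e * b * c * e = b := by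
        have k : a * (e * a * b * e * b * c * e) * c = a * b * c :=
          (by group : _ = (a * e * a) * (b * e * b) * (c * e * c)).trans key
        exact mul_left_cancel (mul_right_cancel k)
      have k2 : a * b * e * b * c = b * e * b := by
        have k : e * (e * a * b * e * b * c * e) * e = e * b * e := by rw [k1]
        rw [show e * (e * a * b * e * b * c * e) * e = (e * e) * (a * b * e * b * c) * (e * e) by group,
          ee, one_mul, mul_one, e2] at k
        exact k
      have k3 : a * e * b * c = e * b := by
        rw [h₁.eq] at k2
        have k : b * (a * e * b * c) = b * (e * b) := by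
          rw [show b * (a * e * b * c) = b * a * e * b * c by group, k2, mul_assoc]
        exact mul_left_cancel k
      have k4 : c = b * (a * e * a) * b := by
        have k : c = b⁻¹ * e⁻¹ * a⁻¹ * (e * b) := by rw [← k3]; group
        rw [k, H29.tt_inv hE he, H29.tt_inv hE ha, H29.tt_inv hE hb, ← e1]
        group
      have k5 : a * b * c = e * (a * b) := by
        rw [k4, show a * b * (b * (a * e * a) * b) = a * ((b * b) * (a * (e * (a * b)))) by group,
          H29.tt_sq hE hb, one_mul, ← mul_assoc a a, H29.tt_sq hE ha, one_mul]
      have hcab : Commute (a * b) c := h₂.mul_left h₃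
      apply hec
      have k6 : e = c := by
        have k : c * (a * b) = e * (a * b) := by rw [← k5, hcab.eq]
        exact (mul_right_cancel k).symm
      rw [k6]

end Cfsg.Agent.S0437
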