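import Cfsg.Statements.S0441
import Cfsg.Agent.H29.FischerRankThree
import Cfsg.Agent.H29.FischerCommuting
import Cfsg.Agent.S0215

set_option autoImplicit false
open Cfsg

namespace Cfsg.Agent.S0441

/-- Fischer's rank-three property. Let a finite group be generated by a conjugacy class D of 3-transpositions, with non-abelian simple commutator subgroup. Then for a in D there are members of D other than a commuting with a and members not commuting with a, and the centraliser of a acts transitively on each of these two sets. -/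
theorem result {G : Type*} [Group G] [Finite G] {D : Set G} (hD : Cfsg.IsThreeTranspositionClass D) (hsimple : IsSimpleGroup (commutator G)) (hnonab : ∃ x y : commutator G, x * y ≠ y * x) {a : G} (ha : a ∈ D) : (∃ b ∈ D, b ≠ a ∧ Commute a b) ∧ (∃ c ∈ D, ¬ Commute a c) ∧ (∀ b ∈ D, ∀ b' ∈ D, b ≠ a → b' ≠ a → Commute a b → Commute a b' → ∃ g : G, Commute g a ∧ g * b * g⁻¹ = b') ∧ (∀ c ∈ D, ∀ c' ∈ D, ¬ Commute a c → ¬ Commute a c' → ∃ g : G, Commute g a ∧ g * c * g⁻¹ = c') := by
  obtain ⟨b, hb, hba, hab⟩ := H29.exists_commute hD hsimple hnonab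
    (fun P u h1 h2 h3 => S0215.result P u h1 h2 h3) ha
  refine ⟨⟨b, hb, hba, hab⟩, H29.exists_noncommute hD hsimple hnonab ha, fun p hp q hq hpa hqa hap haq =>
    H29.conj_of_commute hD hsimple hnonab ha hp hq hpa hqa hap haq, fun c hc c' hc' hac hac' => ?_⟩
  obtain ⟨g, hga, hgc⟩ := H29.sameColour_of_noncommute hD hsimple ha hb hba hab hc hc' hac hac'
  exact ⟨g, mul_inv_eq_iff_eq_mul.1 hga, hgc⟩

end Cfsg.Agent.S0441
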