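import Cfsg.Statements.S0442
import Mathlib


set_option autoImplicit false
open Cfsg

namespace Cfsg.Agent.S0442

/-- A standard trick for producing elements of an involution centraliser: for an involution a and an element g, let b be the conjugate g⁻¹ * a * g. If a * b has odd order 2m + 1 then g * (a * b) ^ m commutes with a; if a * b has even order 2m then (a * b) ^ m and (a * (g * a * g⁻¹)) ^ m commute with a. -/
theorem result {G : Type*} [Group G] (a g : G) (ha : orderOf a = 2) : (∀ m : ℕ, orderOf (a * (g⁻¹ * a * g)) = 2 * m + 1 → Commute (g * (a * (g⁻¹ * a * g)) ^ m) a) ∧ (∀ m : ℕ, orderOf (a * (g⁻¹ * a * g)) = 2 * m → Commute ((a * (g⁻¹ * a * g)) ^ m) a ∧ Commute ((a * (g * a * g⁻¹)) ^ m) a) := by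
  have ha2 : a * a = 1 := by
    have h := pow_orderOf_eq_one a
    rwa [ha, pow_two] at h
  have hai : a⁻¹ = a := inv_eq_of_mul_eq_one_left ha2
  set b := g⁻¹ * a * g with hb
  have hbi : b⁻¹ = b := by rw [hb]; simp [mul_inv_rev, hai, mul_assoc]
  have hflip : ∀ c : G, c⁻¹ = c → ∀ m : ℕ, a * (a * c) ^ m = ((a * c)⁻¹) ^ m * a := by
    intro c hc m
    apply SemiconjBy.eq
    apply SemiconjBy.pow_right
    show a * (a * c) = (a * c)⁻¹ * a
    rw [mul_inv_rev, hc, hai, mul_assoc, ha2, mul_one, ← mul_assoc, ha2, one_mul]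
  have hinvol : ∀ c : G, c⁻¹ = c → ∀ m : ℕ, (a * c) ^ (2 * m) = 1 → Commute ((a * c) ^ m) a := by
    intro c hc m h1
    show (a * c) ^ m * a = a * (a * c) ^ m
    rw [hflip c hc m, inv_pow]
    congr 1
    symm
    apply inv_eq_of_mul_eq_one_right
    rw [← pow_add, show m + m = 2 * m by omega, h1]
  constructor
  · intro m hm
    have h1 : (a * b) ^ (2 * m + 1) = 1 := by rw [← hm]; exact pow_orderOf_eq_one _
    have h2 : ((a * b)⁻¹) ^ m = (a * b) ^ (m + 1) := by
      rw [inv_pow]
      apply inv_eq_of_mul_eq_one_right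
      rw [← pow_add, show m + (m + 1) = 2 * m + 1 by omega, h1]
    have h3 := hflip b hbi m
    rw [h2, pow_succ'] at h3
    have h4 : b * (a * b) ^ m * a = (a * b) ^ m := by
      have h5 : a * ((a * b) ^ m) = a * (b * (a * b) ^ m * a) := by rw [h3]; group
      exact (mul_left_cancel h5).symm
    show g * (a * b) ^ m * a = a * (g * (a * b) ^ m)
    calc g * (a * b) ^ m * a = g * (b⁻¹ * (b * (a * b) ^ m * a)) := by group
      _ = g * (b * (a * b) ^ m) := by rw [h4, hbi]
      _ = a * (g * (a * b) ^ m) := by rw [hb]; group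
  · intro m hm
    have h1 : (a * b) ^ (2 * m) = 1 := by rw [← hm]; exact pow_orderOf_eq_one _
    refine ⟨hinvol b hbi m h1, ?_⟩
    apply hinvol
    · simp [mul_inv_rev, hai, mul_assoc]
    · have hv : a * (g * a * g⁻¹) = g * (a * b)⁻¹ * g⁻¹ := by
        rw [mul_inv_rev, hbi, hai, hb]; group
      rw [hv, conj_pow, inv_pow, h1, inv_one, mul_one, mul_inv_cancel]

end Cfsg.Agent.S0442
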