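import Cfsg.Statements.S0443


set_option autoImplicit false
open Cfsg

namespace Cfsg.Agent.S0443

/-- Two definitions of a 2-central involution agree: an element t of order 2 of a finite group lies in the centre of some Sylow 2-subgroup if and only if its centraliser contains some Sylow 2-subgroup. -/
theorem result {G : Type*} [Group G] [Finite G] (t : G) (ht : orderOf t = 2) : Cfsg.IsTwoCentralInvolution t ↔ ∃ P : Sylow 2 G, (P : Subgroup G) ≤ Subgroup.centralizer ({t} : Set G) := by
  constructor
  · rintro ⟨_, P, _, hcomm⟩
    exact ⟨P, fun x hx => Subgroup.mem_centralizer_singleton_iff.2 (hcomm x hx)⟩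
  · rintro ⟨P, hP⟩
    have hcomm : ∀ x ∈ (P : Subgroup G), x * t = t * x :=
      fun x hx => Subgroup.mem_centralizer_singleton_iff.1 (hP hx)
    refine ⟨ht, P, ?_, hcomm⟩
    have h2 : IsPGroup 2 (Subgroup.zpowers t) := by
      apply IsPGroup.of_card (n := 1)
      rw [Nat.card_zpowers, ht, pow_one]
    have hle : Subgroup.zpowers t ≤ Subgroup.normalizer ((P : Subgroup G) : Set G) := by
      rw [Subgroup.zpowers_le, Subgroup.mem_normalizer_iff]
      intro n
      constructor
      · intro hn
        rw [← hcomm n hn, mul_inv_cancel_right]; exact hn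
      · intro hn
        have h3 := hcomm _ hn
        have h4 : n = t * n * t⁻¹ := by
          rw [← mul_assoc t (t * n), inv_mul_cancel_right, mul_assoc t (t * n) t⁻¹] at h3
          exact mul_left_cancel h3
        rw [h4]; exact hn
    have h5 : IsPGroup 2 ((Subgroup.zpowers t ⊔ (P : Subgroup G) : Subgroup G)) :=
      IsPGroup.to_sup_of_normal_right' h2 P.isPGroup' hle
    have h6 : Subgroup.zpowers t ≤ (P : Subgroup G) := le_trans le_sup_left (P.is_maximal' h5 le_sup_right).le
    exact h6 (Subgroup.mem_zpowers t)

end Cfsg.Agent.S0443
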