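import Cfsg.Statements.S0444
import Cfsg.Agent.H29.ThreeTransp

set_option autoImplicit false
open Cfsg

namespace Cfsg.Agent.S0444

/-- Two members of a set of 3-transpositions which do not commute generate a subgroup isomorphic to the symmetric group on three letters. -/
theorem result {G : Type*} [Group G] {E : Set G} (hE : Cfsg.IsThreeTranspositionSet E) {d e : G} (hd : d ∈ E) (he : e ∈ E) (h : ¬ Commute d e) : Nonempty (Subgroup.closure ({d, e} : Set G) ≃* Equiv.Perm (Fin 3)) := by
  classical
  have hdd := H29.tt_sq hE hd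
  have hbr := H29.tt_braid hE hd he h
  have hde : d ≠ e := fun hh => h (hh ▸ Commute.refl d)
  set x := d * e with hx
  have hflip : d * x * d = x⁻¹ := by
    rw [hx, mul_inv_rev, H29.tt_inv hE hd, H29.tt_inv hE he, ← mul_assoc d d e, hdd, one_mul]
  have hx3 : x ^ 3 = 1 := by
    rcases hE.2 d hd e he with h2 | h3
    · exfalso
      apply h
      have h4 : x = x⁻¹ := by rw [eq_inv_iff_mul_eq_one, ← pow_two, h2]
      rw [hx, mul_inv_rev, H29.tt_inv hE hd, H29.tt_inv hE he] at h4
      exact h4
    · exact h3
  have hx1 : x ≠ 1 := fun hh => hde (by rw [eq_inv_of_mul_eq_one_left hh, H29.tt_inv hE he])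
  have hord : orderOf x = 3 := orderOf_eq_prime hx3 hx1
  have hadd : ∀ i j : ZMod 3, x ^ (i + j).val = x ^ i.val * x ^ j.val := by
    intro i j
    rw [← pow_add, ZMod.val_add]
    conv_rhs => rw [← pow_mod_orderOf, hord]
  have hneg : ∀ i : ZMod 3, x ^ (-i).val = (x ^ i.val)⁻¹ := by
    intro i
    apply eq_inv_of_mul_eq_one_left
    rw [← hadd, neg_add_cancel, ZMod.val_zero, pow_zero]
  have hdconj : ∀ i : ℕ, x ^ i * d = d * (x ^ i)⁻¹ := by
    intro i
    have hh : SemiconjBy d x (x⁻¹) := by
      show d * x = x⁻¹ * d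
      rw [← hflip, mul_assoc, hdd, mul_one]
    have h2 : d * x ^ i = (x⁻¹) ^ i * d := (hh.pow_right i).eq
    rw [inv_pow] at h2
    calc x ^ i * d = d * (d * x ^ i) * d := by rw [← mul_assoc d d, hdd, one_mul]
      _ = d * (x ^ i)⁻¹ := by rw [h2, mul_assoc, mul_assoc, hdd, mul_one]
  let f : DihedralGroup 3 → G := fun y => match y with
    | .r i => x ^ i.val
    | .sr i => d * x ^ i.val
  let φ : DihedralGroup 3 →* G := MonoidHom.mk' f (by
    rintro (i | i) (j | j)
    · simp only [f, DihedralGroup.r_mul_r]; exact hadd i j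
    · simp only [f, DihedralGroup.r_mul_sr]
      rw [sub_eq_neg_add, hadd, hneg, ← mul_assoc (x ^ i.val), hdconj, mul_assoc]
    · simp only [f, DihedralGroup.sr_mul_r]; rw [hadd, mul_assoc]
    · simp only [f, DihedralGroup.sr_mul_sr]
      rw [sub_eq_neg_add, hadd, hneg, show d * x ^ i.val * (d * x ^ j.val) = d * (x ^ i.val * d) * x ^ j.val by group,
        hdconj, ← mul_assoc, hdd, one_mul])
  have hinj : Function.Injective φ := by
    rw [injective_iff_map_eq_one]
    rintro (i | i) hy
    · have hy' : x ^ i.val = 1 := hy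
      have h0 := orderOf_dvd_of_pow_eq_one hy'
      rw [hord] at h0
      have hlt := ZMod.val_lt i
      have : i.val = 0 := by omega
      rw [DihedralGroup.one_def, (ZMod.val_eq_zero i).1 this]
    · exfalso
      have hy' : d * x ^ i.val = 1 := hy
      have hdx : d = (x ^ i.val)⁻¹ := eq_inv_of_mul_eq_one_left hy'
      have hc : Commute d x := by rw [hdx]; exact ((Commute.refl x).pow_left _).inv_left
      apply h
      have h' := (Commute.refl d).inv_right.mul_right hc
      rwa [hx, inv_mul_cancel_left] at h'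
  have hr : φ.range = Subgroup.closure ({d, e} : Set G) := by
    apply le_antisymm
    · rintro _ ⟨y, rfl⟩
      have dH : d ∈ Subgroup.closure ({d, e} : Set G) := Subgroup.subset_closure (by simp)
      have xH : x ∈ Subgroup.closure ({d, e} : Set G) := mul_mem dH (Subgroup.subset_closure (by simp))
      rcases y with i | i
      · exact pow_mem xH _
      · exact mul_mem dH (pow_mem xH _)
    · rw [Subgroup.closure_le]
      rintro y (rfl | rfl)
      · exact ⟨.sr 0, by show y * x ^ (0 : ZMod 3).val = y; simp⟩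
      · refine ⟨.sr 1, ?_⟩
        show d * x ^ (1 : ZMod 3).val = y
        rw [ZMod.val_one, pow_one, hx, ← mul_assoc, hdd, one_mul]
  let ψf : DihedralGroup 3 → Equiv.Perm (Fin 3) := fun y => match y with
    | .r i => (finRotate 3) ^ i.val
    | .sr i => Equiv.swap 0 1 * (finRotate 3) ^ i.val
  let ψ : DihedralGroup 3 →* Equiv.Perm (Fin 3) := MonoidHom.mk' ψf (by decide)
  have hψ : Function.Bijective ψ := by
    rw [Fintype.bijective_iff_injective_and_card]
    exact ⟨by show Function.Injective ψf; decide, by rw [Fintype.card_perm, DihedralGroup.card]; rfl⟩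
  exact ⟨((MulEquiv.subgroupCongr hr.symm).trans (MonoidHom.ofInjective hinj).symm).trans (MulEquiv.ofBijective ψ hψ)⟩

end Cfsg.Agent.S0444
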