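import Cfsg.Statements.S0449
import Cfsg.Agent.Coprime.J1.Uniq.Iso

set_option autoImplicit false
open Cfsg

namespace Cfsg.Agent.S0449

/-- Uniqueness of Janko's first group: two finite simple groups, each with a 2-central involution whose centraliser is isomorphic to (cyclic of order 2) × (alternating group of degree 5), are isomorphic. -/
theorem result {G H : Type*} [Group G] [Finite G] [IsSimpleGroup G] [Group H] [Finite H] [IsSimpleGroup H] (t : G) (u : H) (ht : Cfsg.IsTwoCentralInvolution t) (hu : Cfsg.IsTwoCentralInvolution u) (e : Subgroup.centralizer ({t} : Set G) ≃* Multiplicative (ZMod 2) × alternatingGroup (Fin 5)) (f : Subgroup.centralizer ({u} : Set H) ≃* Multiplicative (ZMod 2) × alternatingGroup (Fin 5)) : Nonempty (G ≃* H) := by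
  obtain ⟨hto, P, -, hP⟩ := ht
  obtain ⟨huo, Q, -, hQ⟩ := hu
  exact Cfsg.Agent.Coprime.J1.Uniq.iso
    { t := t, ht := hto, e := e,
      sylow_card := Cfsg.Agent.Coprime.J1.Uniq.sylow_card_of_central e hP }
    { t := u, ht := huo, e := f,
      sylow_card := Cfsg.Agent.Coprime.J1.Uniq.sylow_card_of_central f hQ }

end Cfsg.Agent.S0449
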