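import Cfsg.Statements.S0459
import Cfsg.Agent.PGroups.RuPermGroup
-- import your own Cfsg.Agent.* helpers here

set_option autoImplicit false
open Cfsg

namespace Cfsg.Agent.S0459

set_option maxRecDepth 20000

/-- The Rudvalis group exists as a transitive permutation group of degree 4060: simple of order 145926144000, with point stabiliser of order 35942400 containing a simple subgroup of order 17971200 (the order of the Tits group). -/
theorem result : ∃ H : Subgroup (Equiv.Perm (Fin 4060)), Cfsg.IsRu H ∧ MulAction.IsPretransitive H (Fin 4060) ∧ Nat.card (MulAction.stabilizer H (0 : Fin 4060)) = 35942400 ∧ ∃ T : Subgroup (MulAction.stabilizer H (0 : Fin 4060)), Cfsg.IsTits T := by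
  open Cfsg.Agent.PGroups.Ru in
  classical
  refine ⟨autGrp, ⟨aut_isSimple, card_aut⟩, aut_pretransitive, ?_, ?_⟩
  · have h := (MulAction.stabilizer autGrp (0 : Fin 4060)).card_mul_index
    haveI := aut_pretransitive
    rw [MulAction.index_stabilizer, MulAction.orbit_eq_univ, Set.ncard_univ,
      Nat.card_eq_fintype_card (α := Fin 4060), Fintype.card_fin, card_aut] at h
    omega
  · let f : MulAction.stabilizer autGrp (0 : Fin 4060) →* Equiv.Perm (Fin 4060) :=
      autGrp.subtype.comp (MulAction.stabilizer autGrp (0 : Fin 4060)).subtype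
    have hf : Function.Injective f := Subtype.val_injective.comp Subtype.val_injective
    have hle : tGrp ≤ f.range := fun σ hσ =>
      ⟨⟨⟨σ, (tGrp_le_fix1 hσ).1⟩, (tGrp_le_fix1 hσ).2⟩, rfl⟩
    have e : ↥(tGrp.comap f) ≃* ↥tGrp :=
      (Subgroup.equivMapOfInjective _ f hf).trans
        (MulEquiv.subgroupCongr (Subgroup.map_comap_eq_self hle))
    haveI := tGrp_isSimple
    haveI : Nontrivial ↥(tGrp.comap f) := e.toEquiv.nontrivial
    exact ⟨tGrp.comap f, IsSimpleGroup.isSimpleGroup_of_surjective e.symm.toMonoidHom e.symm.surjective,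
      by rw [Nat.card_congr e.toEquiv, card_tGrp]⟩

end Cfsg.Agent.S0459
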