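import Cfsg.Statements.S0462
import Cfsg.Agent.H59.HeSp4

set_option autoImplicit false
open Cfsg

namespace Cfsg.Agent.S0462

/-- The Held group exists as a transitive permutation group of degree 2058: simple of order 4030387200, with point stabiliser containing, with index 2, a copy of the 4-dimensional symplectic group over the field with four elements. -/
theorem result : ∃ H : Subgroup (Equiv.Perm (Fin 2058)), Cfsg.IsHe H ∧ MulAction.IsPretransitive H (Fin 2058) ∧ ∃ (F : Type) (_ : Field F) (_ : Fintype F), Fintype.card F = 4 ∧ ∃ N : Subgroup (MulAction.stabilizer H (0 : Fin 2058)), N.index = 2 ∧ Nonempty (N ≃* Matrix.symplecticGroup (Fin 2) F) := by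
  obtain ⟨hfin, hcard, φ, -, hinj, F, hF0, hF⟩ := Cfsg.Agent.H45.HeMain.order_facts
  have := hfin
  let e := MonoidHom.ofInjective hinj
  refine ⟨φ.range, ⟨?_, by rw [← hcard]; exact (Nat.card_congr e.toEquiv).symm⟩, ?_, ?_⟩
  · have := Cfsg.Agent.H45.HeMain.isSimple
    have : Nontrivial φ.range := e.toEquiv.symm.nontrivial
    exact IsSimpleGroup.isSimpleGroup_of_surjective (H := φ.range) (f := e.toMonoidHom) e.surjective
  · refine ⟨fun x y => ?_⟩
    obtain ⟨a, rfl⟩ := F.surjective x
    obtain ⟨b, rfl⟩ := F.surjective y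
    obtain ⟨g, rfl⟩ := MulAction.exists_smul_eq Cfsg.Agent.H45.HePres.pres.Gp a b
    exact ⟨⟨φ g, g, rfl⟩, (hF g a).symm⟩
  · obtain ⟨N, -, hidx, ⟨f⟩⟩ := Cfsg.Agent.H59.HeSp4.exists_sp4
    have hst : Cfsg.Agent.H45.HeMain.H.map e.toMonoidHom =
        MulAction.stabilizer φ.range (0 : Fin 2058) := by
      ext x
      obtain ⟨g, rfl⟩ := e.surjective x
      rw [Subgroup.mem_map_equiv, MulEquiv.symm_apply_apply, MulAction.mem_stabilizer_iff]
      show g ∈ _ ↔ φ g 0 = 0
      rw [← hF0, ← hF, F.apply_eq_iff_eq, MulAction.Quotient.smul_coe, smul_eq_mul, mul_one,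
        QuotientGroup.eq, mul_one, Subgroup.inv_mem_iff]
    let ψ := (Cfsg.Agent.H45.HeMain.H.equivMapOfInjective e.toMonoidHom e.injective).trans
      (MulEquiv.subgroupCongr hst)
    refine ⟨Cfsg.Agent.H59.HeSp4.F4, inferInstance, inferInstance,
      Cfsg.Agent.H59.HeSp4.card_F4, N.map ψ.toMonoidHom, ?_,
      ⟨(N.equivMapOfInjective ψ.toMonoidHom ψ.injective).symm.trans f⟩⟩
    exact (Subgroup.index_map_equiv N ψ).trans hidx

end Cfsg.Agent.S0462
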