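import Cfsg.Statements.S0471
import Cfsg.Agent.H87.Fi22.Transpositions

set_option autoImplicit false
open Cfsg

namespace Cfsg.Agent.S0471

/-- The Fischer group of order 64561751654400 exists as a 3-transposition group: a simple group of that order generated by a conjugacy class of 3510 3-transpositions, the centraliser of each being a non-split double cover of PSU(6, 2). -/
theorem result : ∃ (G : Type) (_ : Group G) (_ : Finite G), Cfsg.IsFi22 G ∧ ∃ D : Set G, Cfsg.IsThreeTranspositionClass D ∧ Nat.card D = 3510 ∧ ∀ d ∈ D, ∃ (F : Type) (_ : Field F) (_ : Fintype F), Fintype.card F = 4 ∧ Cfsg.IsNonsplitDoubleCover (Subgroup.centralizer ({d} : Set G)) (Cfsg.PSU 6 F 2) := by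
  obtain ⟨hfin, hcard, -⟩ := Cfsg.Agent.H45.Fi22Top.order_facts
  refine ⟨Cfsg.Agent.H87.Fi22.Transp.G, inferInstance, hfin,
    ⟨Cfsg.Agent.H45.Fi22Top.isSimple, hcard⟩, conjugatesOf Cfsg.Agent.H87.Fi22.Transp.t,
    Cfsg.Agent.H87.Fi22.Transp.three_transpositions, Cfsg.Agent.H87.Fi22.Transp.card_class, ?_⟩
  intro d hd
  obtain ⟨g, rfl⟩ := isConj_iff.mp hd
  letI : Fintype (GaloisField 2 2) := Fintype.ofFinite _
  have hc : Fintype.card (GaloisField 2 2) = 4 := by
    rw [← Nat.card_eq_fintype_card, GaloisField.card 2 2 (by norm_num)]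
    norm_num
  refine ⟨GaloisField 2 2, inferInstance, inferInstance, hc, ?_⟩
  let c := MulAut.conj g
  let t := Cfsg.Agent.H87.Fi22.Transp.t
  have hmap : (Subgroup.centralizer ({t} : Set Cfsg.Agent.H87.Fi22.Transp.G)).map c.toMonoidHom =
      Subgroup.centralizer ({g * t * g⁻¹} : Set Cfsg.Agent.H87.Fi22.Transp.G) := by
    ext y
    constructor
    · rintro ⟨x, hx, rfl⟩
      rw [Subgroup.mem_centralizer_singleton_iff]
      exact (map_mul c x t).symm.trans
        ((congrArg c (Subgroup.mem_centralizer_singleton_iff.mp hx)).trans (map_mul c t x))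
    · intro hy
      refine ⟨c.symm y, Subgroup.mem_centralizer_singleton_iff.mpr (c.injective ?_), c.apply_symm_apply y⟩
      rw [map_mul, map_mul, MulEquiv.apply_symm_apply]
      exact Subgroup.mem_centralizer_singleton_iff.mp hy
  refine Cfsg.Agent.H87.Fi22.Transp.nonsplit_congr ?_ (Cfsg.Agent.H27.Fi22U6.nonsplit hc)
  exact ((MulEquiv.subgroupCongr Cfsg.Agent.H87.Fi22.Transp.centralizer_eq.symm).trans
    (c.subgroupMap _)).trans (MulEquiv.subgroupCongr hmap)

end Cfsg.Agent.S0471
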