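import Cfsg.Statements.S0473
import Cfsg.Agent.H25.Fi24.He

set_option autoImplicit false
open Cfsg

namespace Cfsg.Agent.S0473

open Cfsg.Agent.H25.Fi24

theorem subgroup_transfer {G : Type} [Group G] {L M : Subgroup G} (h : L ≤ M) (n : ℕ)
    (hs : IsSimpleGroup L) (hc : Nat.card L = n) :
    IsSimpleGroup (L.subgroupOf M) ∧ Nat.card (L.subgroupOf M) = n :=
  ⟨(Subgroup.subgroupOfEquivOfLe h).isSimpleGroup,
    (Nat.card_congr (Subgroup.subgroupOfEquivOfLe h).toEquiv).trans hc⟩

/-- The largest Fischer 3-transposition group: a group of order 2 · 1255205709190661721292800 generated by a conjugacy class of 306936 3-transpositions, in which a transposition centraliser has order 2 · 4089470473293004800 and contains a simple subgroup of order 4089470473293004800; its subgroup of index 2 is simple and contains simple subgroups of orders 4089470473293004800 and 4030387200. -/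
theorem result : ∃ (G : Type) (_ : Group G) (_ : Finite G), Nat.card G = 2 * 1255205709190661721292800 ∧ ∃ D : Set G, Cfsg.IsThreeTranspositionClass D ∧ Nat.card D = 306936 ∧ (∀ d ∈ D, Nat.card (Subgroup.centralizer ({d} : Set G)) = 2 * 4089470473293004800 ∧ ∃ K : Subgroup G, K ≤ Subgroup.centralizer ({d} : Set G) ∧ Cfsg.IsFi23 K) ∧ ∃ H : Subgroup G, H.index = 2 ∧ Cfsg.IsFi24' H ∧ (∃ K : Subgroup H, Cfsg.IsFi23 K) ∧ (∃ K : Subgroup H, Cfsg.IsHe K) := by
  obtain ⟨hD, hcard⟩ := three_transposition_class
  obtain ⟨L, hL, -, hHe⟩ := exists_he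
  exact ⟨X, inferInstance, finite_X, card_X, _, hD, hcard, fun d hd => centralizer_facts hd,
    commutator X, commutator_index, isFi24',
    ⟨K.subgroupOf (commutator X), subgroup_transfer K_le_commutator _ K_simple card_K⟩,
    ⟨L.subgroupOf (commutator X), subgroup_transfer hL _ hHe.1 hHe.2⟩⟩

end Cfsg.Agent.S0473
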