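import Cfsg.Statements.S0481


set_option autoImplicit false
open Cfsg

namespace Cfsg.Agent.S0481

open Subgroup

universe u

theorem large_two_central {G : Type u} [Group G] [Finite G] (z : G) (hz : orderOf z = 2)
    (Q : Subgroup G) (hQC : Q ≤ centralizer ({z} : Set G)) (hQ2 : IsPGroup 2 Q)
    (hZ : Nat.card (center Q) = 2) (hlarge : centralizer (Q : Set G) ≤ Q) :
    (∃ P : Sylow 2 G, (P : Subgroup G) ≤ centralizer ({z} : Set G)) ∧
      ∀ u : G, orderOf u = 2 →
        (∃ P : Sylow 2 G, (P : Subgroup G) ≤ centralizer ({u} : Set G)) → IsConj z u := by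
  have := Fact.mk Nat.prime_two
  -- `z` is the only nontrivial element of the centralizer of `Q`
  have hzC : z ∈ centralizer (Q : Set G) := mem_centralizer_iff.2 fun q hq =>
    (mem_centralizer_singleton_iff.1 (hQC hq))
  have hz1 : z ≠ 1 := fun h => by rw [h, orderOf_one] at hz; omega
  have huniq : ∀ x ∈ centralizer (Q : Set G), x ≠ 1 → x = z := by
    intro x hx hx1
    have hc : ∀ y, y ∈ centralizer (Q : Set G) → ∃ h : y ∈ Q, (⟨y, h⟩ : Q) ∈ center Q := fun y hy =>
      ⟨hlarge hy, mem_center_iff.2 fun q => Subtype.ext (mem_centralizer_iff.1 hy q q.2)⟩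
    obtain ⟨h1, h1'⟩ := hc x hx
    obtain ⟨h2, h2'⟩ := hc z hzC
    obtain ⟨a, b, hab, huniv⟩ := Nat.card_eq_two_iff.1 hZ
    have hall : ∀ c : center Q, c = a ∨ c = b := fun c => by
      have : c ∈ ({a, b} : Set (center Q)) := huniv ▸ Set.mem_univ c
      simpa using this
    have h3 := hall ⟨⟨x, h1⟩, h1'⟩
    have h4 := hall ⟨⟨z, h2⟩, h2'⟩
    have h5 := hall 1
    rcases h3 with h3 | h3 <;> rcases h4 with h4 | h4 <;> rcases h5 with h5 | h5
    all_goals first
      | (have e := congrArg (fun c : center Q => ((c : Q) : G)) (h3.trans h4.symm); exact e)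
      | (have e := congrArg (fun c : center Q => ((c : Q) : G)) (h3.trans h5.symm);
         exact absurd e hx1)
      | (have e := congrArg (fun c : center Q => ((c : Q) : G)) (h4.trans h5.symm);
         exact absurd e hz1)
  -- take a maximal `2`-subgroup of the centralizer containing `Q`
  obtain ⟨T, hT⟩ := (Set.toFinite {T : Subgroup G | Q ≤ T ∧ T ≤ centralizer ({z} : Set G) ∧
    IsPGroup 2 T}).exists_maximal ⟨Q, le_rfl, hQC, hQ2⟩
  obtain ⟨⟨hQT, hTC, hT2⟩, hmax⟩ := hT
  have hTnt : Nontrivial T :=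
    (T.nontrivial_iff_ne_bot).2 fun h => hz1 (mem_bot.1 (h ▸ hQT (hlarge hzC)))
  have hZnt := hT2.center_nontrivial
  obtain ⟨c, hc⟩ := exists_ne (1 : center T)
  have hcz : ((c : T) : G) = z := by
    refine huniq _ (mem_centralizer_iff.2 fun q hq => ?_) ?_
    · exact congrArg Subtype.val (mem_center_iff.1 c.2 ⟨q, hQT hq⟩)
    · exact fun h => hc (Subtype.ext (Subtype.ext h))
  have hN : normalizer (T : Set G) ≤ centralizer ({z} : Set G) := by
    intro n hn
    rw [mem_centralizer_singleton_iff]
    have h1 : n * z * n⁻¹ ≠ 1 := fun h => hz1 (by simpa using h)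
    have h2 : n * z * n⁻¹ ∈ centralizer (Q : Set G) := by
      refine mem_centralizer_iff.2 fun q hq => ?_
      have hq' : n⁻¹ * q * n ∈ T := (mem_normalizer_iff''.1 hn q).1 (hQT hq)
      have h3 : (n⁻¹ * q * n) * z = z * (n⁻¹ * q * n) := by
        have := congrArg Subtype.val (mem_center_iff.1 c.2 ⟨_, hq'⟩)
        simpa [← hcz] using this
      calc q * (n * z * n⁻¹) = n * ((n⁻¹ * q * n) * z) * n⁻¹ := by group
        _ = n * (z * (n⁻¹ * q * n)) * n⁻¹ := by rw [h3]
        _ = n * z * n⁻¹ * q := by group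
    have h4 := huniq _ h2 h1
    rwa [mul_inv_eq_iff_eq_mul] at h4
  obtain ⟨P, hTP⟩ := IsPGroup.exists_le_sylow hT2
  have hPT : (P : Subgroup G) = T := by
    by_contra hne
    have hlt : T < P := lt_of_le_of_ne hTP (Ne.symm hne)
    have hnc : NormalizerCondition P :=
      Group.normalizerCondition_of_isNilpotent (h := P.isPGroup'.isNilpotent)
    have h1 : T.subgroupOf P < ⊤ := lt_top_iff_ne_top.2 fun h => hlt.not_ge (subgroupOf_eq_top.1 h)
    obtain ⟨n, hn, hnT⟩ := SetLike.exists_of_lt (hnc _ h1)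
    have hn' : (n : G) ∈ normalizer (T : Set G) := by
      refine mem_normalizer_iff.2 fun x => ?_
      constructor
      · intro hx
        exact (mem_normalizer_iff.1 hn ⟨x, hTP hx⟩).1 hx
      · intro hx
        have hxP : x ∈ (P : Subgroup G) := by
          have := mul_mem (mul_mem (inv_mem n.2) (hTP hx)) n.2
          simpa [mul_assoc] using this
        exact (mem_normalizer_iff.1 hn ⟨x, hxP⟩).2 hx
    have hle : T ⊔ zpowers (n : G) ≤ P := sup_le hTP (zpowers_le.2 n.2)
    have hmem := hmax (show T ⊔ zpowers (n : G) ∈ _ from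
      ⟨hQT.trans le_sup_left, sup_le hTC (zpowers_le.2 (hN hn')), P.isPGroup'.to_le hle⟩) le_sup_left
    exact hnT (hmem (mem_sup_right (mem_zpowers (n : G))))
  refine ⟨⟨P, hPT ▸ hTC⟩, ?_⟩
  rintro u hu ⟨P', hP'⟩
  obtain ⟨g, hg⟩ := MulAction.exists_smul_eq G P' P
  have huP' : u ∈ (P' : Subgroup G) := by
    have h1 : zpowers u ≤ normalizer ((P' : Subgroup G) : Set G) := by
      rw [zpowers_le]
      refine mem_normalizer_iff.2 fun x => ⟨fun hx => ?_, fun hx => ?_⟩
      · have := mem_centralizer_singleton_iff.1 (hP' hx)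
        rwa [← this, mul_inv_cancel_right]
      · have h2 := mem_centralizer_singleton_iff.1 (hP' hx)
        have : x = u * x * u⁻¹ := by
          have h3 : u * (u * x * u⁻¹) = (u * x * u⁻¹) * u := h2.symm
          simp [mul_assoc] at h3
          calc x = u⁻¹ * (u * x * u⁻¹) * u := by group
            _ = u⁻¹ * (u * (u * x * u⁻¹)) := by rw [mul_assoc u⁻¹, h2]
            _ = u * x * u⁻¹ := by group
        rw [this]; exact hx
    have h2 : IsPGroup 2 ↥(zpowers u) := IsPGroup.of_card (n := 1) (by rw [Nat.card_zpowers, hu, pow_one])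
    have h3 := P'.is_maximal' (h2.to_sup_of_normal_right' P'.isPGroup' h1) le_sup_right
    have := mem_sup_left (T := (P' : Subgroup G)) (mem_zpowers u)
    rwa [h3] at this
  have hgu : g * u * g⁻¹ = z := by
    refine huniq _ (mem_centralizer_iff.2 fun q hq => ?_) (fun h => ?_)
    · have hqP : q ∈ (P : Subgroup G) := hPT ▸ hQT hq
      rw [← hg] at hqP
      obtain ⟨q', hq', rfl⟩ := hqP
      have := mem_centralizer_singleton_iff.1 (hP' hq')
      simp only [MulDistribMulAction.toMonoidEnd_apply, MulDistribMulAction.toMonoidHom_apply,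
        MulAut.smul_def, MulAut.conj_apply]
      calc g * q' * g⁻¹ * (g * u * g⁻¹) = g * (q' * u) * g⁻¹ := by group
        _ = g * (u * q') * g⁻¹ := by rw [this]
        _ = g * u * g⁻¹ * (g * q' * g⁻¹) := by group
    · have : u = 1 := by simpa using h
      rw [this, orderOf_one] at hu; omega
  exact (isConj_iff.2 ⟨g, hgu⟩).symm

/-- Large extraspecial subgroups: let z be an involution of a finite group G whose centraliser C contains a normal 2-subgroup Q with centre of order 2 and all squares central, such that every element of G centralising Q lies in Q. Then C contains a Sylow 2-subgroup of G, and any involution of G whose centraliser contains a Sylow 2-subgroup of G is conjugate to z. -/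
theorem result {G : Type*} [Group G] [Finite G] (z : G) (hz : orderOf z = 2) (Q : Subgroup G) (hQC : Q ≤ Subgroup.centralizer ({z} : Set G)) (hQn : ∀ g ∈ Subgroup.centralizer ({z} : Set G), ∀ q ∈ Q, g * q * g⁻¹ ∈ Q) (hQ2 : IsPGroup 2 Q) (hZ : Nat.card (Subgroup.center Q) = 2) (hsq : ∀ x : Q, x ^ 2 ∈ Subgroup.center Q) (hlarge : Subgroup.centralizer (Q : Set G) ≤ Q) : (∃ P : Sylow 2 G, (P : Subgroup G) ≤ Subgroup.centralizer ({z} : Set G)) ∧ ∀ u : G, orderOf u = 2 → (∃ P : Sylow 2 G, (P : Subgroup G) ≤ Subgroup.centralizer ({u} : Set G)) → IsConj z u := by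
  exact large_two_central z hz Q hQC hQ2 hZ hlarge

end Cfsg.Agent.S0481
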