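import Cfsg.Statements.S0518
import Cfsg.Agent.H57.ZN.Core

set_option autoImplicit false
open Cfsg

namespace Cfsg.Agent.S0518

/-- The two pieces stay distinct in `O²(G)`. -/
theorem ne_of_subgroupOf {G : Type*} [Group G] [Finite G] {T P P' F F' : Subgroup G} {c c' z f f' : G}
    (C : H57.ZN.Config T P P' F F' c c' z f f') (hc : c ∈ Cfsg.pResidual 2 G → c = 1) :
    P.subgroupOf (Cfsg.pResidual 2 G) ≠ P'.subgroupOf (Cfsg.pResidual 2 G) := by
  intro h
  refine C.not_normalizes hc fun x hx => ?_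
  have hx' : x ∈ P' := (SetLike.ext_iff.1 h ⟨x, hx.2⟩).1 hx.1
  rw [H39.mem_normalizer_iff_map_conj, Subgroup.map_sup,
    H39.mem_normalizer_iff_map_conj.1 (C.left.nor hx.1),
    H39.mem_normalizer_iff_map_conj.1 (C.right.nor hx')]

/-- Let G be a finite group of characteristic 2 type with trivial 2-core in which every 2-local subgroup is solvable
and, for every Sylow 2-subgroup S, the centralizer of the set of central involutions of S lies in the normalizer of S.
Then either G has a strongly embedded subgroup, or the subgroup generated by the elements of odd order has two distinct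
maximal 2-local subgroups, each isomorphic to the symmetric group of degree 4, whose intersection has order 8. -/
theorem result {G : Type*} [Group G] [Finite G]
    (hL : Cfsg.IsCharacteristicTwoType G) (hO : Cfsg.pCore 2 G = ⊥)
    (hN : ∀ N : Subgroup G, Cfsg.IsTwoLocal N → Group.IsSolvable N)
    (hZ : ∀ S : Sylow 2 G,
      Subgroup.centralizer {z : G | z ∈ (S : Subgroup G) ∧ z ^ 2 = 1 ∧ ∀ s ∈ (S : Subgroup G), s * z = z * s} ≤
        Subgroup.normalizer ((S : Subgroup G) : Set G))
    (H : Subgroup G) (hH : H = Subgroup.closure {g : G | Odd (orderOf g)}) :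
    (∃ K : Subgroup G, Cfsg.IsStronglyEmbedded K) ∨
      ∃ M₁ M₂ : Subgroup H, M₁ ≠ M₂ ∧ Cfsg.IsMaximalTwoLocal M₁ ∧ Cfsg.IsMaximalTwoLocal M₂ ∧
        Nonempty (M₁ ≃* Equiv.Perm (Fin 4)) ∧ Nonempty (M₂ ≃* Equiv.Perm (Fin 4)) ∧ Nat.card ↥(M₁ ⊓ M₂) = 8 := by
  subst hH
  have hcl : Subgroup.closure {g : G | Odd (orderOf g)} = Cfsg.pResidual 2 G := by
    simp only [Cfsg.pResidual, Nat.coprime_two_right]
  rw [hcl]
  have hZ' : ∀ S : Sylow 2 G, Subgroup.centralizer (Cfsg.omegaCenterOf (S : Subgroup G) : Set G) ≤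
      Subgroup.normalizer ((S : Subgroup G) : Set G) := fun S => by
    refine le_trans (le_of_eq ?_) (hZ S)
    refine congrArg Subgroup.centralizer (Set.ext fun x => ?_)
    rw [SetLike.mem_coe, Cfsg.omegaCenterOf, H57.ZC.mem_omega_center]
    exact ⟨fun h => ⟨h.1.1, h.2, fun s hs => H57.ZC.commute_of_inf_centralizer h.1 hs⟩,
      fun h => ⟨⟨h.1, Subgroup.mem_centralizer_iff.2 h.2.2⟩, h.2.1⟩⟩
  rcases H57.ZN.core hL hN hZ' hO with h | ⟨T, P, P', F, F', c, c', z, f, f', C, hc, hc'⟩
  · exact Or.inl h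
  refine Or.inr ⟨P.subgroupOf _, P'.subgroupOf _, ?_, C.maximal_residual hc,
    C.symm.maximal_residual hc', ?_, ?_, ?_⟩
  rotate_left
  · obtain ⟨_, -, e, -⟩ := C.residual_iso hc
    exact ⟨e⟩
  · obtain ⟨_, -, e, -⟩ := C.symm.residual_iso hc'
    exact ⟨e⟩
  rotate_right
  · exact ne_of_subgroupOf C hc
  · set H := Cfsg.pResidual 2 G with hH
    set K := P.subgroupOf H ⊓ P'.subgroupOf H with hK
    have h24 : Nat.card K ∣ 24 := C.card_residual hc ▸ Subgroup.card_dvd_of_le inf_le_left
    have h8 : 8 ∣ Nat.card K := by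
      rw [← C.card_dihedral,
        ← Nat.card_congr (Subgroup.subgroupOfEquivOfLe C.dihedral_le.2.2.2).toEquiv]
      exact Subgroup.card_dvd_of_le fun x hx =>
        Subgroup.mem_inf.2 ⟨C.dihedral_le.2.1 hx, C.symm.dihedral_le.2.1 (by rwa [sup_comm] at hx)⟩
    have hne : Nat.card K ≠ 24 := fun h => ne_of_subgroupOf C hc <| by
      have h1 : K = P.subgroupOf H :=
        Subgroup.eq_of_le_of_card_ge inf_le_left (by rw [C.card_residual hc, h])
      have h2 : K = P'.subgroupOf H :=
        Subgroup.eq_of_le_of_card_ge inf_le_right (by rw [C.symm.card_residual hc', h])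
      exact h1.symm.trans h2
    obtain ⟨k, hk⟩ := h8
    rw [hk] at h24 hne ⊢
    have h3 : k ∣ 3 := Nat.dvd_of_mul_dvd_mul_left (by norm_num : 0 < 8) h24
    rcases (Nat.dvd_prime Nat.prime_three).1 h3 with rfl | rfl <;> omega

end Cfsg.Agent.S0518
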