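import Cfsg.Statements.S0519
import Cfsg.Agent.PGroups.TwoGroups
-- import your own Cfsg.Agent.* helpers here

set_option autoImplicit false
open Cfsg

namespace Cfsg.Agent.S0519

open Subgroup

/-- Let P be a finite p-group in which every abelian normal subgroup is cyclic, but which has a non-cyclic abelian
subgroup. Then p = 2 and P is generalized quaternion, dihedral of order at least 16, or quasi-dihedral. -/
theorem result {P : Type*} [Group P] [Finite P] (p : ℕ) [Fact p.Prime]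
    (hP : IsPGroup p P) (hn : ∀ A : Subgroup P, A.Normal → IsMulCommutative A → IsCyclic A)
    (hm : ∃ B : Subgroup P, IsMulCommutative B ∧ ¬ IsCyclic B) :
    p = 2 ∧ ((∃ n : ℕ, Nonempty (P ≃* QuaternionGroup n)) ∨ (∃ n : ℕ, 8 ≤ n ∧ Nonempty (P ≃* DihedralGroup n)) ∨
      Cfsg.IsQuasiDihedral P) := by
  obtain ⟨B, hB, hBc⟩ := hm
  have hnc : ¬ IsCyclic P := fun h => hBc inferInstance
  have hp2 : p = 2 := by
    by_contra hp
    obtain ⟨A, hAn, hA, hAe, hAc⟩ := PGroups.exists_normal_elementary_sq hP hp hnc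
    obtain ⟨g, hg⟩ := IsCyclic.exists_ofOrder_eq_natCard (α := A) (h := hn A hAn hA)
    have h1 : orderOf g ∣ p := orderOf_dvd_of_pow_eq_one (Subtype.ext (hAe g g.2))
    rw [hg, hAc, sq] at h1
    exact absurd (Nat.le_of_dvd (Fact.out : p.Prime).pos h1) (by nlinarith [(Fact.out : p.Prime).two_le])
  subst hp2
  refine ⟨rfl, ?_⟩
  rcases PGroups.isQuaternion_or_isDihedral_or_isQuasiDihedral hP hnc hn with ⟨n, -, h⟩ | ⟨n, hn3, h⟩ | h
  · exact Or.inl ⟨_, h⟩
  · exact Or.inr (Or.inl ⟨2 ^ n, by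
      calc 8 = 2 ^ 3 := rfl
        _ ≤ 2 ^ n := Nat.pow_le_pow_right two_pos hn3, h⟩)
  · exact Or.inr (Or.inr h)

end Cfsg.Agent.S0519
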