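import Cfsg.Statements.S0520
import Cfsg.Agent.Hall.Basic

set_option autoImplicit false
open Cfsg

namespace Cfsg.Agent.S0520

open Subgroup
open scoped Pointwise

universe u

variable {G : Type u} [Group G]

/-- The commuting relation on four-subgroups. -/
def Adj (A B : Subgroup G) : Prop :=
  IsKleinFour A ∧ IsKleinFour B ∧ ∀ a ∈ A, ∀ b ∈ B, a * b = b * a

theorem adj_symm {A B : Subgroup G} (h : Adj A B) : Adj B A :=
  ⟨h.2.1, h.1, fun b hb a ha => (h.2.2 a ha b hb).symm⟩

theorem conn_symm {A B : Subgroup G} (h : Relation.ReflTransGen Adj A B) :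
    Relation.ReflTransGen Adj B A := by
  induction h with
  | refl => exact .refl
  | tail _ h2 ih => exact Relation.ReflTransGen.head (adj_symm h2) ih

theorem klein_of_mulEquiv {A B : Type*} [Group A] [Group B] (e : A ≃* B) (h : IsKleinFour A) :
    IsKleinFour B :=
  ⟨(Nat.card_congr e.toEquiv).symm.trans h.card_four,
    (Monoid.exponent_eq_of_mulEquiv e).symm.trans h.exponent_two⟩

theorem klein_smul {A : Subgroup G} (g : G) (h : IsKleinFour A) :
    IsKleinFour (MulAut.conj g • A : Subgroup G) :=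
  klein_of_mulEquiv (Subgroup.equivSMul (MulAut.conj g) A) h

theorem adj_smul {A B : Subgroup G} (g : G) (h : Adj A B) :
    Adj (MulAut.conj g • A) (MulAut.conj g • B) := by
  refine ⟨klein_smul g h.1, klein_smul g h.2.1, fun a ha b hb => ?_⟩
  rw [Hall.mem_conj_smul] at ha hb
  have h1 := h.2.2 _ ha _ hb
  calc a * b = g * ((g⁻¹ * a * g) * (g⁻¹ * b * g)) * g⁻¹ := by group
    _ = g * ((g⁻¹ * b * g) * (g⁻¹ * a * g)) * g⁻¹ := by rw [h1]
    _ = b * a := by group

theorem conn_smul {A B : Subgroup G} (g : G) (h : Relation.ReflTransGen Adj A B) :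
    Relation.ReflTransGen Adj (MulAut.conj g • A) (MulAut.conj g • B) :=
  Relation.ReflTransGen.lift (fun X : Subgroup G => MulAut.conj g • X)
    (fun _ _ h => adj_smul g h) _ _ h

theorem klein_isPGroup {U : Subgroup G} (h : IsKleinFour U) : IsPGroup 2 U :=
  IsPGroup.of_card (n := 2) h.card_four

theorem not_rank_of_klein {Q U : Subgroup G} (hU : IsKleinFour U) (hUQ : U ≤ Q) :
    ¬ Cfsg.PRankLE 2 1 Q := by
  intro h
  have hU' : IsKleinFour (U.subgroupOf Q) := klein_of_mulEquiv (subgroupOfEquivOfLe hUQ).symm hU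
  have h1 := h (U.subgroupOf Q) IsKleinFour.isMulCommutative (fun a ha => by
    have := IsKleinFour.mul_self (⟨a, ha⟩ : U.subgroupOf Q)
    rw [pow_two]; exact congrArg Subtype.val this)
  rw [hU'.card_four] at h1
  omega

theorem exists_klein_of_not_rank [Finite G] (h : ¬ Cfsg.PRankLE 2 1 G) :
    ∃ U : Subgroup G, IsKleinFour U := by
  rw [Cfsg.PRankLE] at h
  push Not at h
  obtain ⟨A, hA, hA2, hc⟩ := h
  have : Fact (Nat.Prime 2) := ⟨Nat.prime_two⟩
  have hAp : IsPGroup 2 A := fun a => ⟨1, by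
    rw [pow_one]; exact Subtype.ext (hA2 a a.2)⟩
  obtain ⟨k, hk⟩ := hAp.exists_card_eq
  have hd : 2 ^ 2 ∣ Nat.card A := by
    rw [hk]; refine pow_dvd_pow 2 ?_
    by_contra hlt
    have : 2 ^ k ≤ 2 ^ 1 := Nat.pow_le_pow_right two_pos (by omega)
    rw [hk] at hc; omega
  obtain ⟨B, hB⟩ := Sylow.exists_subgroup_card_pow_prime 2 hd
  refine ⟨B.map A.subtype, ?_, ?_⟩
  · rw [card_map_of_injective A.subtype_injective, hB]; norm_num
  · have hdvd : Monoid.exponent (B.map A.subtype) ∣ 2 :=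
      Monoid.exponent_dvd_of_forall_pow_eq_one fun x => Subtype.ext (by
        obtain ⟨y, hy, hyx⟩ := x.2
        rw [SubmonoidClass.coe_pow, ← hyx]
        exact hA2 _ y.2)
    rcases (Nat.dvd_prime Nat.prime_two).1 hdvd with h1 | h1
    · have := Monoid.exp_eq_one_iff.1 h1
      have h4 : Nat.card (B.map A.subtype) = 1 := Nat.card_unique
      rw [card_map_of_injective A.subtype_injective, hB] at h4
      norm_num at h4
    · exact h1

theorem sylow_conj_le [Finite G] {Γ : Subgroup G} (S : Sylow 2 G) (hS : (S : Subgroup G) ≤ Γ)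
    {T : Subgroup G} (hT : IsPGroup 2 T) (hTΓ : T ≤ Γ) :
    ∃ y ∈ Γ, MulAut.conj y • T ≤ (S : Subgroup G) := by
  have : Fact (Nat.Prime 2) := ⟨Nat.prime_two⟩
  obtain ⟨R, hR⟩ :=
    IsPGroup.exists_le_sylow (hT.comap_of_injective Γ.subtype Γ.subtype_injective)
  obtain ⟨y, hy⟩ := MulAction.exists_smul_eq Γ R (S.subtype hS)
  refine ⟨y, y.2, fun x hx => ?_⟩
  rw [Hall.mem_conj_smul] at hx
  have h1 : (⟨_, hTΓ hx⟩ : Γ) ∈ (R : Subgroup Γ) := hR hx
  have h2 : y * (⟨_, hTΓ hx⟩ : Γ) * y⁻¹ ∈ ((y • R : Sylow 2 Γ) : Subgroup Γ) := ⟨_, h1, rfl⟩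
  rw [hy] at h2
  have h3 : (y : G) * ((y : G)⁻¹ * x * y) * (y : G)⁻¹ ∈ (S : Subgroup G) := h2
  have e : (y : G) * ((y : G)⁻¹ * x * y) * (y : G)⁻¹ = x := by group
  rwa [e] at h3

theorem extend [Finite G] {Γ : Subgroup G} (S : Sylow 2 G) (hS : (S : Subgroup G) ≤ Γ)
    (hΓ : ∀ D U : Subgroup G, D ≤ (S : Subgroup G) → IsKleinFour U → U ≤ D →
      normalizer (D : Set G) ≤ Γ) :
    ∀ (n : ℕ) (T U : Subgroup G), Nat.card G - Nat.card ↥(T ⊓ (S : Subgroup G)) ≤ n →
      IsPGroup 2 T → IsKleinFour U → U ≤ T ⊓ (S : Subgroup G) →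
      ∃ x ∈ Γ, MulAut.conj x • T ≤ (S : Subgroup G) := by
  intro n
  induction n with
  | zero =>
    intro T U hc _ _ _
    refine ⟨1, one_mem Γ, ?_⟩
    have h1 : Nat.card ↥(T ⊓ (S : Subgroup G)) ≤ Nat.card G :=
      Nat.le_of_dvd Nat.card_pos (card_subgroup_dvd_card _)
    have h2 : T ⊓ (S : Subgroup G) = ⊤ := eq_top_of_card_eq _ (by omega)
    simpa using le_top.trans (h2.ge.trans inf_le_right)
  | succ n ih =>
    intro T U hc hT hU hUD
    set D := T ⊓ (S : Subgroup G) with hD
    by_cases hle : T ≤ (S : Subgroup G)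
    · exact ⟨1, one_mem Γ, by simpa using hle⟩
    have : Fact (Nat.Prime 2) := ⟨Nat.prime_two⟩
    have hlt : D < T := lt_of_le_of_ne inf_le_left fun h => hle (inf_eq_left.1 h)
    set T' := T ⊓ normalizer (D : Set G) with hT'
    have hDT' : D < T' := by
      refine lt_of_le_of_ne (le_inf inf_le_left le_normalizer) fun heq => ?_
      have hnc : NormalizerCondition T :=
        Group.normalizerCondition_of_isNilpotent (h := hT.isNilpotent)
      have h1 : D.subgroupOf T < ⊤ :=
        lt_top_iff_ne_top.2 fun h => hlt.not_ge (subgroupOf_eq_top.1 h)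
      obtain ⟨m, hm, hmD⟩ := SetLike.exists_of_lt (hnc _ h1)
      apply hmD
      show (m : G) ∈ D
      rw [heq]
      refine ⟨m.2, mem_normalizer_iff.2 fun x => ?_⟩
      constructor
      · intro hx
        exact (mem_normalizer_iff.1 hm ⟨x, hlt.le hx⟩).1 hx
      · intro hx
        have hxT : x ∈ T := by
          have := mul_mem (mul_mem (inv_mem m.2) (hlt.le hx)) m.2
          simpa [mul_assoc] using this
        exact (mem_normalizer_iff.1 hm ⟨x, hxT⟩).2 hx
    have hT'Γ : T' ≤ Γ := inf_le_right.trans (hΓ D U inf_le_right hU hUD)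
    obtain ⟨y, hy, hyS⟩ := sylow_conj_le S hS (hT.to_le inf_le_left) hT'Γ
    have hle' : MulAut.conj y • T' ≤ MulAut.conj y • T ⊓ (S : Subgroup G) :=
      le_inf (Hall.conj_smul_mono y inf_le_left) hyS
    have hlt' : Nat.card D < Nat.card ↥(MulAut.conj y • T ⊓ (S : Subgroup G)) := by
      have h1 : Nat.card D < Nat.card T' := by
        by_contra h
        exact hDT'.ne (eq_of_le_of_card_ge hDT'.le (not_lt.1 h))
      refine h1.trans_le ?_
      rw [← Hall.card_conj_smul y T']
      exact card_le_of_le hle'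
    obtain ⟨x, hx, hxS⟩ := ih (MulAut.conj y • T) (MulAut.conj y • U) (by
        have := Nat.le_of_dvd Nat.card_pos (card_subgroup_dvd_card (T ⊓ (S : Subgroup G)))
        have := Nat.le_of_dvd Nat.card_pos (card_subgroup_dvd_card (MulAut.conj y • T ⊓ (S : Subgroup G)))
        omega) (hT.of_equiv (Subgroup.equivSMul (MulAut.conj y) T))
      (klein_smul y hU) ((Hall.conj_smul_mono y (hUD.trans hDT'.le)).trans hle')
    exact ⟨x * y, mul_mem hx hy, by rwa [Hall.conj_mul_smul]⟩

theorem core_iff [Finite G] (h2 : ¬ Cfsg.PRankLE 2 1 G) (S : Sylow 2 G)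
    (hS : Cfsg.IsFourConnected (S : Subgroup G)) :
    ¬ Cfsg.IsFourConnected G ↔
      (⨆ Q : {Q : Subgroup G // Q ≤ (S : Subgroup G) ∧ ¬ Cfsg.PRankLE 2 1 Q},
        normalizer ((Q : Subgroup G) : Set G)) ≠ ⊤ := by
  have : Fact (Nat.Prime 2) := ⟨Nat.prime_two⟩
  set Γ := ⨆ Q : {Q : Subgroup G // Q ≤ (S : Subgroup G) ∧ ¬ Cfsg.PRankLE 2 1 Q},
    normalizer ((Q : Subgroup G) : Set G) with hΓdef
  have hΓ : ∀ D U : Subgroup G, D ≤ (S : Subgroup G) → IsKleinFour U → U ≤ D →
      normalizer (D : Set G) ≤ Γ := fun D U hD hU hUD =>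
    le_iSup_of_le ⟨D, hD, not_rank_of_klein hU hUD⟩ le_rfl
  have hconj : ∀ U : Subgroup G, IsKleinFour U →
      ∃ g : G, MulAut.conj g • U ≤ (S : Subgroup G) := by
    intro U hU
    obtain ⟨y, -, hy⟩ := sylow_conj_le (Γ := ⊤) S le_top (klein_isPGroup hU) le_top
    exact ⟨y, hy⟩
  obtain ⟨U, hU⟩ := exists_klein_of_not_rank h2
  obtain ⟨g₀, hg₀⟩ := hconj U hU
  obtain ⟨U₀, hU₀, hU₀S⟩ : ∃ U₀ : Subgroup G, IsKleinFour U₀ ∧ U₀ ≤ (S : Subgroup G) :=
    ⟨_, klein_smul g₀ hU, hg₀⟩
  have hSΓ : (S : Subgroup G) ≤ Γ := le_normalizer.trans (hΓ S U₀ le_rfl hU₀ hU₀S)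
  have hinS : ∀ V : Subgroup G, IsKleinFour V → V ≤ (S : Subgroup G) →
      Relation.ReflTransGen Adj U₀ V := by
    intro V hV hVS
    have h1 := hS (U₀.subgroupOf (S : Subgroup G)) (V.subgroupOf (S : Subgroup G))
      (klein_of_mulEquiv (subgroupOfEquivOfLe hU₀S).symm hU₀)
      (klein_of_mulEquiv (subgroupOfEquivOfLe hVS).symm hV)
    have h2 := Relation.ReflTransGen.lift (p := Adj)
      (fun X : Subgroup (S : Subgroup G) => X.map (S : Subgroup G).subtype) (fun X Y hXY => by
        have hi := (S : Subgroup G).subtype_injective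
        refine ⟨klein_of_mulEquiv (X.equivMapOfInjective _ hi) hXY.1,
          klein_of_mulEquiv (Y.equivMapOfInjective _ hi) hXY.2.1, ?_⟩
        rintro _ ⟨a, ha, rfl⟩ _ ⟨b, hb, rfl⟩
        exact congrArg Subtype.val (hXY.2.2 a ha b hb)) _ _ h1
    simp only [Function.onFun] at h2
    rwa [subgroupOf_map_subtype, subgroupOf_map_subtype, inf_eq_left.2 hU₀S, inf_eq_left.2 hVS] at h2
  constructor
  · intro hnc htop
    apply hnc
    let St : Subgroup G :=
      { carrier := {g | Relation.ReflTransGen Adj U₀ (MulAut.conj g • U₀)}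
        one_mem' := by
          show Relation.ReflTransGen Adj U₀ (MulAut.conj (1 : G) • U₀)
          rw [map_one, one_smul]
        mul_mem' := fun {a b} ha hb => by
          show Relation.ReflTransGen Adj U₀ (MulAut.conj (a * b) • U₀)
          rw [Hall.conj_mul_smul]
          exact ha.trans (conn_smul a hb)
        inv_mem' := fun {a} ha => by
          show Relation.ReflTransGen Adj U₀ (MulAut.conj a⁻¹ • U₀)
          have h1 := conn_smul a⁻¹ (conn_symm ha)
          rwa [Hall.conj_inv_smul_conj_smul] at h1 }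
    have hle : Γ ≤ St := by
      refine iSup_le fun ⟨Q, hQS, hQ⟩ => ?_
      intro g hg
      obtain ⟨V, hV⟩ := exists_klein_of_not_rank hQ
      have hV' : IsKleinFour (V.map Q.subtype) :=
        klein_of_mulEquiv (V.equivMapOfInjective _ Q.subtype_injective) hV
      have hgV : MulAut.conj g • (V.map Q.subtype) ≤ (S : Subgroup G) := by
        intro x hx
        rw [Hall.mem_conj_smul] at hx
        have h1 := (mem_normalizer_iff.1 hg _).1 (map_subtype_le _ hx)
        have e : g * (g⁻¹ * x * g) * g⁻¹ = x := by group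
        rw [e] at h1
        exact hQS h1
      exact (hinS _ (klein_smul g hV') hgV).trans
        (conn_smul g (conn_symm (hinS _ hV' ((map_subtype_le _).trans hQS))))
    intro A B hA hB
    have key : ∀ X : Subgroup G, IsKleinFour X → Relation.ReflTransGen Adj U₀ X := by
      intro X hX
      obtain ⟨g, hg⟩ := hconj X hX
      have h1 := conn_smul g⁻¹ (hinS _ (klein_smul g hX) hg)
      rw [Hall.conj_inv_smul_conj_smul] at h1
      have h2 : g⁻¹ ∈ St := hle (htop ▸ mem_top _)
      exact Relation.ReflTransGen.trans h2 h1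
    exact (conn_symm (key A hA)).trans (key B hB)
  · intro hne hconn
    apply hne
    have key : ∀ X : Subgroup G, Relation.ReflTransGen Adj U₀ X →
        ∃ m ∈ Γ, MulAut.conj m • X ≤ (S : Subgroup G) := by
      intro X hX
      induction hX with
      | refl => exact ⟨1, one_mem Γ, by simpa using hU₀S⟩
      | @tail A B _ hAB ih =>
        obtain ⟨m, hm, hmA⟩ := ih
        have hE : IsPGroup 2 ↥(A ⊔ B) :=
          (klein_isPGroup hAB.1).to_sup_of_normal_right' (klein_isPGroup hAB.2.1) (fun a ha =>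
            centralizer_le_normalizer _ (mem_centralizer_iff.2 fun b hb => (hAB.2.2 a ha b hb).symm))
        obtain ⟨x, hx, hxS⟩ := extend S hSΓ hΓ _ (MulAut.conj m • (A ⊔ B)) (MulAut.conj m • A) le_rfl
          (hE.of_equiv (Subgroup.equivSMul (MulAut.conj m) _)) (klein_smul m hAB.1)
          (le_inf (Hall.conj_smul_mono m le_sup_left) hmA)
        refine ⟨x * m, mul_mem hx hm, ?_⟩
        rw [Hall.conj_mul_smul]
        exact (Hall.conj_smul_mono x (Hall.conj_smul_mono m le_sup_right)).trans hxS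
    rw [eq_top_iff]
    intro g _
    obtain ⟨m, hm, hmg⟩ := key _ (hconn _ _ hU₀ (klein_smul g hU₀))
    rw [← Hall.conj_mul_smul] at hmg
    obtain ⟨x, hx, hxS⟩ := extend S hSΓ hΓ _ (MulAut.conj (m * g) • (S : Subgroup G))
      (MulAut.conj (m * g) • U₀) le_rfl
      (S.isPGroup'.of_equiv (Subgroup.equivSMul (MulAut.conj (m * g)) _)) (klein_smul _ hU₀)
      (le_inf (Hall.conj_smul_mono _ hU₀S) hmg)
    rw [← Hall.conj_mul_smul] at hxS
    have hN : x * (m * g) ∈ normalizer ((S : Subgroup G) : Set G) := by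
      have heq : MulAut.conj (x * (m * g)) • (S : Subgroup G) = S :=
        eq_of_le_of_card_ge hxS (Hall.card_conj_smul _ _).ge
      rw [mem_normalizer_iff'']
      intro y
      conv_lhs => rw [← heq]
      exact Hall.mem_conj_smul
    have h1 := hΓ S U₀ le_rfl hU₀ hU₀S hN
    have h2 := mul_mem (inv_mem (mul_mem hx hm)) h1
    rwa [show (x * m)⁻¹ * (x * (m * g)) = g by group] at h2

/-- Let G be a finite group of 2-rank at least 2 and S a Sylow 2-subgroup whose commuting graph of Klein four-subgroups is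
connected. Then the commuting graph of Klein four-subgroups of G is disconnected if and only if the 2-generated core — the
subgroup generated by the normalizers N_G(Q) of the subgroups Q of S that contain a Klein four-group — is a proper
subgroup of G. -/
theorem result {G : Type*} [Group G] [Finite G] (h2 : ¬ Cfsg.PRankLE 2 1 G)
    (S : Sylow 2 G) (hS : Cfsg.IsFourConnected (S : Subgroup G)) :
    ¬ Cfsg.IsFourConnected G ↔
      (⨆ Q : {Q : Subgroup G // Q ≤ (S : Subgroup G) ∧ ¬ Cfsg.PRankLE 2 1 Q},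
          Subgroup.normalizer ((Q : Subgroup G) : Set G)) ≠ ⊤ := by
  exact core_iff h2 S hS

end Cfsg.Agent.S0520
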