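import Cfsg.Statements.S0521
import Cfsg.Agent.Thompson.Section
import Cfsg.Agent.Thompson.BaerSuzuki
import Cfsg.Agent.Cores.Constrained
import Cfsg.Agent.Cores.PSolvable
import Cfsg.Agent.Cores.PCore
import Cfsg.Agent.Coprime.Centralize
import Cfsg.Agent.PGroups.Burnside

set_option autoImplicit false
open Cfsg

namespace Cfsg.Agent.S0521

open Subgroup

universe u

theorem eq_bot_of_commutator_le {G : Type u} [Group G] [Finite G] {p : ℕ} [Fact p.Prime]
    {C : Subgroup G} (hC : IsPGroup p C) (hcard : Nat.card C ∣ p) {P : Subgroup G}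
    (hP : IsPGroup p P) (hn : P ≤ normalizer (C : Set G)) : ⁅C, P⁆ = ⊥ := by
  by_cases hC0 : C = ⊥
  · rw [hC0, commutator_bot_left]
  have hlt := Coprime.commutator_lt_of_isPGroup hC hP hn hC0
  rcases (Nat.dvd_prime (Fact.out : p.Prime)).1 ((card_dvd_of_le hlt.le).trans hcard) with h | h
  · exact card_eq_one.1 h
  · exact absurd (eq_of_le_of_card_ge hlt.le
      ((Nat.le_of_dvd (Fact.out : p.Prime).pos hcard).trans h.ge)) hlt.ne

theorem length_one {X : Type u} [Group X] [Finite X] [Group.IsSolvable X] (hX : Odd (Nat.card X))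
    (p : ℕ) [Fact p.Prime] (S : Sylow p X) (hS : IsCyclic (_root_.commutator (S : Subgroup X))) :
    (Cfsg.pPrimeCore p X ⊔ (S : Subgroup X)).Normal := by
  have hp : p.Prime := Fact.out
  set O := Cfsg.pPrimeCore p X with hO
  have hOn : O.Normal := Cfsg.pPrimeCore_normal p X
  have : Group.IsSolvable (X ⧸ O) :=
    Group.isSolvable_of_surjective (QuotientGroup.mk'_surjective O)
  let π := QuotientGroup.mk' O
  set R := Cfsg.pCore p (X ⧸ O) with hR
  have hRp : IsPGroup p R := Cores.pCore_isPGroup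
  have hRn : R.Normal := Cfsg.pCore_normal p (X ⧸ O)
  have hcore : Cfsg.pPrimeCore p (X ⧸ O) = ⊥ := Cores.pPrimeCore_quotient_pPrimeCore
  have hCR : centralizer (R : Set (X ⧸ O)) ≤ R :=
    Cores.centralizer_pCore_le Cores.isPSolvable_of_isSolvable hcore
  set T := (S : Subgroup X).map π with hT
  suffices hle : T ≤ R by
    have hTR : T = R := by
      refine le_antisymm hle ?_
      have hd : ¬ p ∣ T.index := fun h =>
        S.not_dvd_index (h.trans (index_map_dvd _ (QuotientGroup.mk'_surjective O)))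
      exact ((S.isPGroup'.map π).toSylow hd).is_maximal' hRp hle |>.le
    have heq : O ⊔ (S : Subgroup X) = R.comap π := by
      rw [← hTR, hT, comap_map_eq, QuotientGroup.ker_mk', sup_comm]
    rw [heq]; exact hRn.comap π
  by_cases hp2 : p = 2
  · subst hp2
    intro x hx
    have hS1 : T = ⊥ := by
      obtain ⟨k, hk⟩ := (S.isPGroup'.map π : IsPGroup 2 T).exists_card_eq
      rcases k with _ | k
      · exact card_eq_one.1 (hk.trans (pow_zero _))
      · exfalso
        have h2 : 2 ∣ Nat.card X := by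
          refine (dvd_trans ⟨2 ^ k, by rw [pow_succ']⟩ (hk ▸ card_map_dvd (S : Subgroup X) π)).trans ?_
          exact card_subgroup_dvd_card _
        exact Nat.not_even_iff_odd.2 hX (even_iff_two_dvd.2 h2)
    rw [hS1, mem_bot] at hx
    rw [hx]; exact one_mem R
  -- pass to the quotient by the Frattini subgroup of `R`
  set F := (frattini R).map R.subtype with hF
  have hFn : F.Normal := inferInstance
  have hFR : F ≤ R := map_subtype_le _
  let ρ := QuotientGroup.mk' F
  set V := R.map ρ with hV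
  have hVn : V.Normal := hRn.map ρ (QuotientGroup.mk'_surjective F)
  have hcen : ∀ h : X ⧸ O, ρ h ∈ centralizer (V : Set ((X ⧸ O) ⧸ F)) → ∃ n, h ^ p ^ n = 1 := by
    intro h hh
    set Cc := (centralizer (V : Set ((X ⧸ O) ⧸ F))).comap ρ with hCc
    have hpC : IsPGroup p Cc := by
      refine IsPGroup.of_card (n := (Nat.card Cc).primeFactorsList.length) ?_
      refine Nat.eq_prime_pow_of_unique_prime_dvd Nat.card_pos.ne' fun {q} hq hqd => ?_
      by_contra hne
      have := Fact.mk hq
      obtain ⟨a, ha⟩ := exists_prime_orderOf_dvd_card' q hqd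
      have hA : zpowers (a : X ⧸ O) ≤ centralizer (R : Set (X ⧸ O)) := by
        refine Coprime.le_centralizer_of_frattini ?_ ?_ ?_
        · rw [normalizer_eq_top_iff.2 hRn]; exact le_top
        · rw [Nat.card_zpowers, Subgroup.orderOf_coe, ha]
          obtain ⟨k, hk⟩ := (hRp.to_subgroup (frattini R)).exists_card_eq
          rw [hk]
          exact ((Nat.coprime_primes hq hp).2 hne).pow_right k
        · intro b hb k hk
          show b * k * b⁻¹ * k⁻¹ ∈ F
          rw [← QuotientGroup.eq_one_iff]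
          obtain ⟨j, rfl⟩ := mem_zpowers_iff.1 hb
          have hb' : ρ ((a : X ⧸ O) ^ j) ∈ centralizer (V : Set ((X ⧸ O) ⧸ F)) := by
            rw [map_zpow]; exact zpow_mem a.2 j
          have h1 := mem_centralizer_iff.1 hb' (ρ k) (mem_map_of_mem ρ hk)
          show ρ ((a : X ⧸ O) ^ j * k * ((a : X ⧸ O) ^ j)⁻¹ * k⁻¹) = 1
          rw [map_mul, map_mul, map_mul, map_inv, map_inv, ← h1]
          group
      have haR : (a : X ⧸ O) ∈ R := hCR (hA (mem_zpowers _))
      obtain ⟨n, hn⟩ := hRp ⟨_, haR⟩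
      have h1 : q ∣ p ^ n := by
        rw [← ha, ← Subgroup.orderOf_coe, orderOf_dvd_iff_pow_eq_one]
        exact congrArg Subtype.val hn
      exact hne ((Nat.prime_dvd_prime_iff_eq hq hp).1 (hq.dvd_of_dvd_pow h1))
    obtain ⟨n, hn⟩ := hpC ⟨h, hh⟩
    exact ⟨n, congrArg Subtype.val hn⟩
  have hVab : IsMulCommutative V := by
    refine ⟨⟨?_⟩⟩
    rintro ⟨_, a, ha, rfl⟩ ⟨_, b, hb, rfl⟩
    apply Subtype.ext
    show ρ a * ρ b = ρ b * ρ a
    rw [← map_mul, ← map_mul]
    refine QuotientGroup.eq.2 ?_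
    have := PGroups.commutator_le_frattini hRp
      (commutator_mem_commutator (mem_top (⟨b, hb⟩⁻¹ : R)) (mem_top (⟨a, ha⟩⁻¹ : R)))
    refine ⟨_, this, ?_⟩
    simp [commutatorElement_def, mul_assoc]
  have hVp : ∀ v ∈ V, v ^ p = 1 := by
    rintro _ ⟨a, ha, rfl⟩
    rw [← map_pow]
    exact (QuotientGroup.eq_one_iff _).2 ⟨_, PGroups.pow_mem_frattini hRp ⟨a, ha⟩, rfl⟩
  intro x hx
  have hquad : ∀ y ∈ T, ⁅⁅V, zpowers (ρ y)⁆, zpowers (ρ y)⁆ = ⊥ := by
    intro y hy
    set D := (_root_.commutator (S : Subgroup X)).map ((π.comp (S : Subgroup X).subtype)) with hD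
    have hRT : R ≤ T := by
      have hd : ¬ p ∣ T.index := fun h =>
        S.not_dvd_index (h.trans (index_map_dvd _ (QuotientGroup.mk'_surjective O)))
      exact Cores.pCore_le_sylow ((S.isPGroup'.map π).toSylow hd)
    set C := (D ⊓ R).map ρ with hC
    have hCD : IsCyclic C := by
      have hDc : IsCyclic D := isCyclic_of_surjective _ ((π.comp (S : Subgroup X).subtype).subgroupMap_surjective _)
      have : IsCyclic (D ⊓ R : Subgroup (X ⧸ O)) := isCyclic_of_le inf_le_left
      exact isCyclic_of_surjective _ (ρ.subgroupMap_surjective _)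
    have hCV : C ≤ V := map_mono inf_le_right
    have hcard : Nat.card C ∣ p := by
      obtain ⟨g, hg⟩ := Subgroup.isCyclic_iff_exists_zpowers_eq_top C |>.1 hCD
      rw [← hg, Nat.card_zpowers]
      exact orderOf_dvd_of_pow_eq_one (hVp g (hCV (hg ▸ mem_zpowers g)))
    have hDT : D = ⁅T, T⁆ := by
      rw [hD, _root_.commutator_def, map_commutator, ← MonoidHom.range_eq_map, MonoidHom.range_comp,
        range_subtype]
    have h1 : ⁅V, zpowers (ρ y)⁆ ≤ C := by
      rw [hV, ← MonoidHom.map_zpowers, ← map_commutator]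
      refine map_mono (le_inf ?_ (commutator_le_left _ _))
      rw [hDT]
      exact commutator_mono hRT (zpowers_le.2 hy)
    refine eq_bot_iff.2 ((commutator_mono h1 le_rfl).trans (le_of_eq ?_))
    have hyp : IsPGroup p ↥(zpowers (ρ y)) := by
      refine ((S.isPGroup'.map π).map ρ).to_le (zpowers_le.2 ?_)
      exact mem_map_of_mem ρ hy
    refine eq_bot_of_commutator_le (((S.isPGroup'.map π).map ρ).to_le ?_) hcard hyp ?_
    · exact map_mono (inf_le_right.trans hRT)
    · rw [hC, ← MonoidHom.map_zpowers]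
      refine (map_mono ?_).trans (le_normalizer_map ρ)
      rw [zpowers_le, hDT]
      rw [mem_normalizer_iff_map_conj_eq]
      refine eq_of_le_of_card_ge ?_ (le_of_eq (card_map_of_injective (MulEquiv.injective _)).symm)
      refine le_trans (map_inf_le _ _ _) (inf_le_inf ?_ ?_)
      · rw [map_commutator]
        have hle : T.map (MulAut.conj y).toMonoidHom ≤ T := by
          rintro _ ⟨t, ht, rfl⟩
          exact mul_mem (mul_mem hy ht) (inv_mem hy)
        exact commutator_mono hle hle
      · rintro _ ⟨t, ht, rfl⟩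
        exact hRn.conj_mem t ht y
  have hbs : ∀ g : X ⧸ O, IsPGroup p (closure ({x, g * x * g⁻¹} : Set (X ⧸ O))) := by
    intro g
    by_contra hnot
    have hq2 : ⁅⁅V, zpowers (ρ (g * x * g⁻¹))⁆, zpowers (ρ (g * x * g⁻¹))⁆ = ⊥ := by
      have h1 := congrArg (Subgroup.map (MulAut.conj (ρ g)).toMonoidHom) (hquad x hx)
      rw [Subgroup.map_bot, map_commutator, map_commutator, MonoidHom.map_zpowers,
        show V.map (MulAut.conj (ρ g)).toMonoidHom = V from
          mem_normalizer_iff_map_conj_eq.1 (show ρ g ∈ normalizer (V : Set ((X ⧸ O) ⧸ F)) by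
            rw [normalizer_eq_top_iff.2 hVn]; exact mem_top _)] at h1
      simpa using h1
    have hN : ∀ z, ρ z ∈ normalizer (V : Set ((X ⧸ O) ⧸ F)) := fun z => by
      rw [normalizer_eq_top_iff.2 hVn]; exact mem_top _
    have hnp : ¬ ∀ h ∈ closure ({ρ x, ρ (g * x * g⁻¹)} : Set ((X ⧸ O) ⧸ F)),
        ∃ n : ℕ, h ^ p ^ n ∈ centralizer (V : Set ((X ⧸ O) ⧸ F)) := by
      intro hall
      apply hnot
      rintro ⟨h, hh⟩
      have hmem : ρ h ∈ closure ({ρ x, ρ (g * x * g⁻¹)} : Set ((X ⧸ O) ⧸ F)) := by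
        rw [← Set.image_pair, ← MonoidHom.map_closure]
        exact mem_map_of_mem ρ hh
      obtain ⟨n, hn⟩ := hall _ hmem
      rw [← map_pow] at hn
      obtain ⟨m, hm⟩ := hcen _ hn
      exact ⟨n + m, Subtype.ext (by simp [pow_add, pow_mul, hm])⟩
    obtain ⟨M, φ, -, -, hφ, -, -, -⟩ :=
      Thompson.exists_natural_section hp2 hVab hVp (hN x) (hN _) (hquad x hx) hq2 hnp
    obtain ⟨m, hm⟩ := hφ (-1)
    have hno : (-1 : Matrix.SpecialLinearGroup (Fin 2) (ZMod p)) ≠ 1 := by
      intro h
      have h1 := congrArg (fun A : Matrix.SpecialLinearGroup (Fin 2) (ZMod p) =>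
        (A : Matrix (Fin 2) (Fin 2) (ZMod p)) 0 0) h
      simp at h1
      have : NeZero p := ⟨hp.ne_zero⟩
      have h2 : ((2 : ℕ) : ZMod p) = 0 := by
        push_cast
        linear_combination -h1
      exact hp2 ((Nat.prime_dvd_prime_iff_eq hp Nat.prime_two).1
        ((ZMod.natCast_eq_zero_iff 2 p).1 h2))
    have ho : orderOf (φ m) = 2 := by
      rw [hm]
      exact orderOf_eq_prime (by simp) hno
    have h2d : 2 ∣ Nat.card X := by
      have h1 : orderOf (φ m) ∣ Nat.card M := (orderOf_map_dvd φ m).trans (orderOf_dvd_natCard m)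
      rw [ho] at h1
      exact h1.trans ((card_subgroup_dvd_card M).trans
        ((card_quotient_dvd_card F).trans (card_quotient_dvd_card O)))
    exact Nat.not_even_iff_odd.2 hX (even_iff_two_dvd.2 h2d)
  obtain ⟨N, hNn, hNp, hxN⟩ := Thompson.baer_suzuki hbs
  exact Cores.le_pCore hNp hxN

/-- Let X be a finite solvable group of odd order, p a prime and S a Sylow p-subgroup of X whose commutator subgroup is
cyclic. Then the product of the largest normal subgroup of X of order prime to p with S is a normal subgroup of X. -/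
theorem result {X : Type*} [Group X] [Finite X] [Group.IsSolvable X]
    (hX : Odd (Nat.card X)) (p : ℕ) [Fact p.Prime] (S : Sylow p X) (hS : IsCyclic (commutator (S : Subgroup X))) :
    (Cfsg.pPrimeCore p X ⊔ (S : Subgroup X)).Normal := by
  exact length_one hX p S hS

end Cfsg.Agent.S0521
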