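import Cfsg.Statements.S0522
import Cfsg.Agent.H42.Transitivity

set_option autoImplicit false
open Cfsg

namespace Cfsg.Agent.S0522

/-- Transitivity Theorem (odd-order setting). Let X be a finite group of odd order in which the normalizer of every
nontrivial p-subgroup is solvable, P a Sylow p-subgroup, and B an abelian subgroup of P, normalized by P, with
C_P(B) = B and containing an elementary abelian subgroup of order p^3. Then for every prime q ≠ p, any two q-subgroups
that are maximal among the q-subgroups normalized by B are conjugate by an element of the centralizer of B. -/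
theorem result {X : Type*} [Group X] [Finite X] (hX : Odd (Nat.card X)) (p : ℕ)
    [Fact p.Prime] (hloc : ∀ T : Subgroup X, IsPGroup p T → T ≠ ⊥ → Group.IsSolvable (Subgroup.normalizer (T : Set X)))
    (P : Sylow p X) (B : Subgroup X) (hBP : B ≤ (P : Subgroup X))
    (hBn : ∀ x ∈ (P : Subgroup X), ∀ b ∈ B, x * b * x⁻¹ ∈ B) (hBa : IsMulCommutative B)
    (hBc : (P : Subgroup X) ⊓ Subgroup.centralizer (B : Set X) = B)
    (hB3 : ∃ E : Subgroup X, E ≤ B ∧ (∀ e ∈ E, e ^ p = 1) ∧ p ^ 3 ≤ Nat.card E)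
    (q : ℕ) [Fact q.Prime] (hqp : q ≠ p) (Q₁ Q₂ : Subgroup X)
    (h₁ : IsPGroup q Q₁ ∧ B ≤ Subgroup.normalizer (Q₁ : Set X) ∧
      ∀ R : Subgroup X, IsPGroup q R → B ≤ Subgroup.normalizer (R : Set X) → Q₁ ≤ R → R = Q₁)
    (h₂ : IsPGroup q Q₂ ∧ B ≤ Subgroup.normalizer (Q₂ : Set X) ∧
      ∀ R : Subgroup X, IsPGroup q R → B ≤ Subgroup.normalizer (R : Set X) → Q₂ ≤ R → R = Q₂) :
    ∃ c ∈ Subgroup.centralizer (B : Set X), Q₂ = Q₁.map (MulAut.conj c).toMonoidHom := by
  haveI := hBa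
  obtain ⟨E, hEB, hEe, hE3⟩ := hB3
  have hBp : IsPGroup p B := P.isPGroup'.to_le hBP
  have hp2 : p ≠ 2 := by
    intro h2
    subst h2
    obtain ⟨n, hn⟩ := IsPGroup.iff_card.mp (hBp.to_le hEB)
    have hn0 : n ≠ 0 := by rintro rfl; rw [hn] at hE3; norm_num at hE3
    have : 2 ∣ Nat.card X := (dvd_pow_self 2 hn0).trans (hn ▸ Subgroup.card_subgroup_dvd_card E)
    exact Nat.not_even_iff_odd.mpr hX (even_iff_two_dvd.mpr this)
  -- every `p`-element centralizing `B` lies in `B`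
  have hfull : ∀ x ∈ Subgroup.centralizer (B : Set X), IsPGroup p (Subgroup.zpowers x) → x ∈ B := by
    intro x hx hxp
    set N := Subgroup.normalizer (B : Set X) with hN
    have hPN : (P : Subgroup X) ≤ N := fun y hy n => ⟨fun hn => hBn y hy n hn, fun hn => by
      have := hBn y⁻¹ (inv_mem hy) _ hn
      simpa [mul_assoc] using this⟩
    have hxN : x ∈ N := Subgroup.centralizer_le_normalizer _ hx
    obtain ⟨S, hS⟩ := (hxp.comap_of_injective N.subtype N.subtype_injective).exists_le_sylow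
    obtain ⟨g, hg⟩ := MulAction.exists_smul_eq N S (P.subtype hPN)
    have hmem : MulAut.conj g • (⟨x, hxN⟩ : N) ∈ (P.subtype hPN : Subgroup N) := by
      rw [← hg, Sylow.coe_subgroup_smul]
      exact Subgroup.smul_mem_pointwise_smul _ _ _ (hS (Subgroup.mem_zpowers x))
    rw [Sylow.coe_subtype, Subgroup.mem_subgroupOf] at hmem
    have hgx : (g : X) * x * (g : X)⁻¹ ∈ (P : Subgroup X) := hmem
    have hgc : (g : X) * x * (g : X)⁻¹ ∈ Subgroup.centralizer (B : Set X) := by
      intro b hb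
      have hb' : (g : X)⁻¹ * b * g ∈ B := ((Subgroup.mem_normalizer_iff''.mp g.2) b).mp hb
      have h1 := hx _ hb'
      calc b * (g * x * (g : X)⁻¹) = g * ((g : X)⁻¹ * b * g * x) * (g : X)⁻¹ := by group
        _ = g * (x * ((g : X)⁻¹ * b * g)) * (g : X)⁻¹ := by rw [h1]
        _ = g * x * (g : X)⁻¹ * b := by group
    have hB' : (g : X) * x * (g : X)⁻¹ ∈ B := hBc.le ⟨hgx, hgc⟩
    have := ((Subgroup.mem_normalizer_iff''.mp g.2) _).mp hB'
    simpa [mul_assoc] using this
  have hconv : ∀ {Q : Subgroup X}, (IsPGroup q Q ∧ B ≤ Subgroup.normalizer (Q : Set X) ∧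
      ∀ R : Subgroup X, IsPGroup q R → B ≤ Subgroup.normalizer (R : Set X) → Q ≤ R → R = Q) →
      Maximal (fun R : Subgroup X => IsPGroup q R ∧ B ≤ Subgroup.normalizer (R : Set X)) Q :=
    fun h => ⟨⟨h.1, h.2.1⟩, fun R hR hle => (h.2.2 R hR.1 hR.2 hle).le⟩
  refine Cfsg.Agent.H42.transitivity hqp B hBp hBa
    ⟨E, hEB, ⟨Subgroup.le_centralizer_iff_isMulCommutative.mp fun u hu v hv =>
      congrArg Subtype.val (mul_comm' (⟨v, hEB hv⟩ : B) ⟨u, hEB hu⟩), hEe⟩, hE3⟩
    _ le_rfl (fun V hV _ => hV) ?_ Q₁ Q₂ (hconv h₁) (hconv h₂)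
  intro a haB ha Y hYa hY hBY
  have hCN : Subgroup.centralizer ({a} : Set X) ≤ Subgroup.normalizer (Subgroup.zpowers a : Set X) := by
    rw [← Cfsg.Agent.H42.centralizer_zpowers']; exact Subgroup.centralizer_le_normalizer _
  have hs := hloc _ (hBp.to_le (Subgroup.zpowers_le.mpr haB)) (Subgroup.zpowers_ne_bot.mpr ha)
  refine Cfsg.Agent.H42.invariant_le_core hqp B hBp hfull (fun h => absurd h hp2) _
    (Cfsg.Agent.Cores.isPConstrained_of_isPSolvable Cfsg.Agent.Cores.isPSolvable_of_isSolvable)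
    (fun w hw => hCN ?_) Y (hYa.trans hCN) hY hBY
  rw [Subgroup.mem_centralizer_singleton_iff]
  exact congrArg Subtype.val (mul_comm' (⟨w, hw⟩ : B) ⟨a, haB⟩)

end Cfsg.Agent.S0522
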