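import Cfsg.Statements.S0525
import Cfsg.Agent.H30.Supersolvable

set_option autoImplicit false
open Cfsg

namespace Cfsg.Agent.S0525

open Subgroup in
theorem prod_aux.{u, v} {G : Type u} {H : Type v} [Group G] [Group H] [Finite G]
    (hG : Cfsg.IsSupersolvable G) (hH : Cfsg.IsSupersolvable H) : Cfsg.IsSupersolvable (G × H) := by
  refine H30.supersolvable_induction (P := fun X _ => Cfsg.IsSupersolvable (X × H)) ?_ ?_ hG
  · intro X _ _
    let f : H →* X × H := MonoidHom.inr X H
    refine H30.isSupersolvable_of_surjective hH f ?_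
    rintro ⟨x, h⟩
    exact ⟨h, Prod.ext (Subsingleton.elim _ _) rfl⟩
  · intro X _ _ N _ _ hp ih
    let f : X × H →* (X ⧸ N) × H := (QuotientGroup.mk' N).prodMap (MonoidHom.id H)
    have hf : Function.Surjective f := by
      rintro ⟨x, h⟩
      obtain ⟨y, rfl⟩ := QuotientGroup.mk'_surjective N x
      exact ⟨(y, h), rfl⟩
    have hc : IsCyclic f.ker := by
      have he : f.ker = N.map (MonoidHom.inl X H) := by
        ext ⟨x, h⟩
        simp only [f, MonoidHom.mem_ker, Prod.ext_iff, Subgroup.mem_map, MonoidHom.coe_prodMap,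
          Prod.map_apply, MonoidHom.id_apply, Prod.fst_one, Prod.snd_one, MonoidHom.inl_apply,
          QuotientGroup.mk'_apply, QuotientGroup.eq_one_iff]
        exact ⟨fun ⟨h1, h2⟩ => ⟨x, h1, rfl, h2.symm⟩, fun ⟨y, hy, e1, e2⟩ => ⟨e1 ▸ hy, e2.symm⟩⟩
      have := H30.isCyclic_of_prime_card' hp
      have e := N.equivMapOfInjective (MonoidHom.inl X H) (fun a b h => (Prod.ext_iff.1 h).1)
      rw [he]
      exact isCyclic_of_surjective e.toMonoidHom e.surjective
    exact H30.isSupersolvable_of_quotient_cyclic f.ker hc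
      (H30.isSupersolvable_congr (QuotientGroup.quotientKerEquivOfSurjective f hf).symm ih)

/-- A direct product of two finite supersolvable groups is supersolvable. -/
theorem result {G H : Type*} [Group G] [Group H] [Finite G] [Finite H] (hG : Cfsg.IsSupersolvable G) (hH : Cfsg.IsSupersolvable H) : Cfsg.IsSupersolvable (G × H) := by
  exact prod_aux hG hH

end Cfsg.Agent.S0525
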