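import Cfsg.Statements.S0527
import Cfsg.Agent.H30.Supersolvable

set_option autoImplicit false
open Cfsg

namespace Cfsg.Agent.S0527

open Subgroup in
theorem maximal_aux.{u} {G : Type u} [Group G] [Finite G]
    (hG : Cfsg.IsSupersolvable G) (M : Subgroup G) (hM : IsCoatom M) : M.index.Prime := by
  revert M
  refine H30.supersolvable_induction (P := fun X _ => ∀ M : Subgroup X, IsCoatom M → M.index.Prime)
    ?_ ?_ hG
  · intro X _ _ M hM
    exact absurd (Subsingleton.elim M ⊤) hM.1
  · intro X _ _ N _ _ hp ih M hM
    have hf := QuotientGroup.mk'_surjective N
    by_cases hle : N ≤ M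
    · have hker : (QuotientGroup.mk' N).ker ≤ M := by rwa [QuotientGroup.ker_mk']
      have hidx : (M.map (QuotientGroup.mk' N)).index = M.index := by
        rw [← index_comap_of_surjective _ hf, comap_map_eq_self hker]
      rw [← hidx]
      apply ih
      constructor
      · intro h
        apply hM.1
        rw [← comap_map_eq_self hker, h, comap_top]
      · intro b hb
        have : M < b.comap (QuotientGroup.mk' N) := by
          rw [← comap_map_eq_self hker]
          exact (comap_lt_comap_of_surjective hf).2 hb
        rw [← map_comap_eq_self_of_surjective hf b, hM.2 _ this, map_top_of_surjective _ hf]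
    · have htop : M ⊔ N = ⊤ := hM.2 _ (left_lt_sup.2 hle)
      have h1 : M.index = M.relIndex N := by
        have e1 := relIndex_mul_index (inf_le_left (a := M) (b := N))
        have e2 := relIndex_mul_index (inf_le_right (a := M) (b := N))
        rw [inf_relIndex_left] at e1
        rw [inf_relIndex_right] at e2
        have e3 : N.relIndex M = N.index := by
          rw [← relIndex_sup_right (H := M) (K := N), htop, relIndex_top_right]
        rw [e3, ← e2, mul_comm] at e1
        exact Nat.eq_of_mul_eq_mul_right (Nat.pos_of_ne_zero index_ne_zero_of_finite) e1
      have h2 : M.relIndex N ∣ Nat.card N := relIndex_dvd_card M N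
      rcases (Nat.dvd_prime hp).1 h2 with h3 | h3
      · exact absurd (relIndex_eq_one.1 h3) hle
      · rw [h1, h3]; exact hp

/-- In a finite supersolvable group the index of any maximal subgroup is a prime number. -/
theorem result {G : Type*} [Group G] [Finite G] (hG : Cfsg.IsSupersolvable G) (M : Subgroup G) (hM : IsCoatom M) : M.index.Prime := by
  exact maximal_aux hG M hM

end Cfsg.Agent.S0527
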