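import Cfsg.Statements.S0529
import Cfsg.Agent.H30.Supersolvable

set_option autoImplicit false
open Cfsg

namespace Cfsg.Agent.S0529

open Subgroup

universe u

theorem exists_max {G : Type u} [Group G] [Finite G] (hG : Cfsg.IsSupersolvable G) :
    ∀ p : ℕ, p.Prime → p ∣ Nat.card G → (∀ r : ℕ, r.Prime → r ∣ Nat.card G → r ≤ p) →
      ∃ M : Subgroup G, M.Normal ∧ Nat.card M = p := by
  refine H30.supersolvable_induction (P := fun X _ => ∀ p : ℕ, p.Prime → p ∣ Nat.card X →
    (∀ r : ℕ, r.Prime → r ∣ Nat.card X → r ≤ p) → ∃ M : Subgroup X, M.Normal ∧ Nat.card M = p)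
    ?_ ?_ hG
  · intro X _ _ p hp hd _
    rw [Nat.card_unique] at hd
    exact absurd (Nat.eq_one_of_dvd_one hd) hp.ne_one
  · intro X _ _ N _ _ hq ih p hp hd hmax
    have hcard := card_eq_card_quotient_mul_card_subgroup N
    by_cases hqp : Nat.card N = p
    · exact ⟨N, inferInstance, hqp⟩
    have hlt : Nat.card N < p :=
      lt_of_le_of_ne (hmax _ hq (card_subgroup_dvd_card N)) hqp
    have hd' : p ∣ Nat.card (X ⧸ N) := by
      rw [hcard] at hd
      rcases hp.dvd_mul.1 hd with h | h
      · exact h
      · exact absurd ((Nat.prime_dvd_prime_iff_eq hp hq).1 h).symm hqp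
    obtain ⟨M, hM, hMc⟩ := ih p hp hd' fun r hr hrd => hmax r hr (hcard ▸ hrd.mul_right _)
    have hL : (M.comap (QuotientGroup.mk' N)).Normal := hM.comap _
    set L := M.comap (QuotientGroup.mk' N) with hLdef
    have hNL : N ≤ L := by
      intro x hx
      rw [hLdef, mem_comap, QuotientGroup.mk'_apply, (QuotientGroup.eq_one_iff x).2 hx]
      exact one_mem M
    have hLc : Nat.card L = p * Nat.card N := by
      have h1 := card_mul_index L
      have h2 := card_mul_index M
      have h3 : L.index = M.index :=
        index_comap_of_surjective M (QuotientGroup.mk'_surjective N)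
      have hne : L.index ≠ 0 := index_ne_zero_of_finite
      apply Nat.eq_of_mul_eq_mul_right (Nat.pos_of_ne_zero hne)
      rw [h1, h3, hcard, ← h2, hMc]
      ring
    have := Fact.mk hp
    let P : Sylow p L := default
    have hPc : Nat.card P = p := by
      rw [P.card_eq_multiplicity, hLc,
        Nat.factorization_mul hp.ne_zero hq.ne_zero, Finsupp.add_apply, hp.factorization_self,
        Nat.factorization_eq_zero_of_not_dvd (fun h => hqp ((Nat.prime_dvd_prime_iff_eq hp hq).1 h).symm),
        add_zero, pow_one]
    have hPi : (P : Subgroup L).index = (Nat.card L).minFac := by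
      have h1 := card_mul_index (P : Subgroup L)
      have h2 : (P : Subgroup L).index = Nat.card N := by
        apply Nat.eq_of_mul_eq_mul_left hp.pos
        rw [hPc] at h1
        rw [h1, hLc]
      rw [h2, hLc]
      symm
      have hm := Nat.minFac_prime (n := p * Nat.card N) (by
        intro h; exact hp.ne_one (Nat.eq_one_of_mul_eq_one_right h))
      have hmd := Nat.minFac_dvd (p * Nat.card N)
      rcases hm.dvd_mul.1 hmd with h | h
      · have := (Nat.prime_dvd_prime_iff_eq hm hp).1 h
        have h' := Nat.minFac_le_of_dvd hq.two_le (dvd_mul_left (Nat.card N) p)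
        omega
      · exact (Nat.prime_dvd_prime_iff_eq hm hq).1 h
    have := normal_of_index_eq_minFac_card hPi
    have := P.characteristic_of_normal this
    refine ⟨(P : Subgroup L).map L.subtype, inferInstance, ?_⟩
    rw [card_map_of_injective L.subtype_injective]
    exact hPc

theorem chain_aux {G : Type u} [Group G] [Finite G] (hG : Cfsg.IsSupersolvable G) :
    ∃ (n : ℕ) (H : Fin (n + 1) → Subgroup G), H 0 = ⊥ ∧ H (Fin.last n) = ⊤ ∧ (∀ i, (H i).Normal) ∧
      (∀ i : Fin n, H i.castSucc ≤ H i.succ ∧ ((H i.castSucc).relIndex (H i.succ)).Prime) ∧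
      ∀ i j : Fin n, i ≤ j →
        (H j.castSucc).relIndex (H j.succ) ≤ (H i.castSucc).relIndex (H i.succ) := by
  have main : ∀ (n : ℕ) (X : Type u) [Group X] [Finite X], Nat.card X ≤ n → Cfsg.IsSupersolvable X →
      ∃ (n : ℕ) (H : Fin (n + 1) → Subgroup X), H 0 = ⊥ ∧ H (Fin.last n) = ⊤ ∧ (∀ i, (H i).Normal) ∧
      (∀ i : Fin n, H i.castSucc ≤ H i.succ ∧ ((H i.castSucc).relIndex (H i.succ)).Prime) ∧
      ∀ i j : Fin n, i ≤ j →
        (H j.castSucc).relIndex (H j.succ) ≤ (H i.castSucc).relIndex (H i.succ) := by
    intro n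
    induction n with
    | zero => intro X _ _ h; exact absurd h (Nat.not_le.2 Nat.card_pos)
    | succ n ih =>
      intro X _ _ hc hX
      cases subsingleton_or_nontrivial X
      · exact ⟨0, fun _ => ⊥, rfl, Subsingleton.elim _ _, fun _ => normal_bot,
          fun i => i.elim0, fun i => i.elim0⟩
      have hne : (Nat.card X).primeFactors.Nonempty := Nat.nonempty_primeFactors.2 Finite.one_lt_card
      obtain ⟨p, hpm, hmax⟩ := (Nat.card X).primeFactors.exists_max_image id hne
      rw [Nat.mem_primeFactors] at hpm
      have hmax' : ∀ r : ℕ, r.Prime → r ∣ Nat.card X → r ≤ p := fun r hr hrd =>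
        hmax r (Nat.mem_primeFactors.2 ⟨hr, hrd, hpm.2.2⟩)
      obtain ⟨N, hN, hNc⟩ := exists_max hX p hpm.1 hpm.2.1 hmax'
      have hlt := H30.card_quotient_lt N (H30.ne_bot_of_prime_card (hNc ▸ hpm.1))
      obtain ⟨m, H, h0, h1, hn, hs, ho⟩ :=
        ih (X ⧸ N) (by omega) (H30.isSupersolvable_quotient hX N)
      have hf := QuotientGroup.mk'_surjective N
      have hrel : ∀ j : Fin m,
          ((H j.castSucc).comap (QuotientGroup.mk' N)).relIndex ((H j.succ).comap (QuotientGroup.mk' N))
            = (H j.castSucc).relIndex (H j.succ) := fun j => by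
        rw [relIndex_comap, map_comap_eq_self_of_surjective hf]
      have hle : ∀ j : Fin m, (H j.castSucc).relIndex (H j.succ) ≤ p := fun j =>
        hmax' _ (hs j).2 ((relIndex_dvd_card _ _).trans
          ((card_subgroup_dvd_card _).trans (card_quotient_dvd_card N)))
      have h00 : (⊥ : Subgroup X).relIndex ((H 0).comap (QuotientGroup.mk' N)) = p := by
        rw [relIndex_bot_left, h0, MonoidHom.comap_bot, QuotientGroup.ker_mk', hNc]
      refine ⟨m + 1, Fin.cons ⊥ (fun i => (H i).comap (QuotientGroup.mk' N)), rfl, ?_, ?_, ?_, ?_⟩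
      · rw [← Fin.succ_last, Fin.cons_succ, h1, comap_top]
      · intro i
        induction i using Fin.cases with
        | zero => simpa using normal_bot
        | succ j => simp only [Fin.cons_succ]; exact (hn j).comap _
      · intro i
        induction i using Fin.cases with
        | zero =>
          simp only [Fin.castSucc_zero, Fin.cons_zero, Fin.cons_succ, h00]
          exact ⟨bot_le, hpm.1⟩
        | succ j =>
          simp only [Fin.castSucc_succ, Fin.cons_succ, hrel]
          exact ⟨comap_mono (hs j).1, (hs j).2⟩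
      · intro i j hij
        induction j using Fin.cases with
        | zero =>
          obtain rfl := Fin.le_zero_iff.1 hij
          exact le_rfl
        | succ j =>
          induction i using Fin.cases with
          | zero =>
            simp only [Fin.castSucc_zero, Fin.castSucc_succ, Fin.cons_zero, Fin.cons_succ, h00, hrel]
            exact hle j
          | succ i =>
            simp only [Fin.castSucc_succ, Fin.cons_succ, hrel]
            exact ho i j (Fin.succ_le_succ_iff.1 hij)
  exact main _ G le_rfl hG

/-- A finite supersolvable group has a chain of normal subgroups, from the trivial subgroup to the whole group, in which every step has prime index and the primes occurring are non-increasing as one goes up the chain. -/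
theorem result {G : Type*} [Group G] [Finite G] (hG : Cfsg.IsSupersolvable G) : ∃ (n : ℕ) (H : Fin (n + 1) → Subgroup G), H 0 = ⊥ ∧ H (Fin.last n) = ⊤ ∧ (∀ i, (H i).Normal) ∧ (∀ i : Fin n, H i.castSucc ≤ H i.succ ∧ ((H i.castSucc).relIndex (H i.succ)).Prime) ∧ ∀ i j : Fin n, i ≤ j → (H j.castSucc).relIndex (H j.succ) ≤ (H i.castSucc).relIndex (H i.succ) := by
  obtain ⟨n, C, h0, h1, hN, hs, ho⟩ := chain_aux hG
  exact ⟨n, C, h0, h1, hN, hs, ho⟩

end Cfsg.Agent.S0529
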