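import Cfsg.Statements.S0530
import Cfsg.Agent.H30.Supersolvable

set_option autoImplicit false
open Cfsg

namespace Cfsg.Agent.S0530

open Subgroup

universe u

theorem two_pow {p : ℕ} (hp : p.Prime) (n : ℕ) :
    ∀ {G : Type u} [Group G] [Finite G], Nat.card G = 2 * p ^ n → Cfsg.IsSupersolvable G := by
  have := Fact.mk hp
  rcases hp.eq_two_or_odd' with rfl | hodd
  · intro G _ _ hc
    exact H30.isSupersolvable_isPGroup (IsPGroup.of_card (n := n + 1) (by rw [hc, pow_succ']))
  induction n with
  | zero =>
    intro G _ _ hc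
    rw [pow_zero, mul_one] at hc
    have := Fact.mk Nat.prime_two
    exact H30.isSupersolvable_isPGroup (p := 2) (IsPGroup.of_card (n := 1) (by rw [hc, pow_one]))
  | succ n ih =>
    intro G _ _ hc
    let P : Sylow p G := default
    have h2p : ¬ p ∣ 2 := fun h => by
      have := (Nat.prime_dvd_prime_iff_eq hp Nat.prime_two).1 h
      subst this
      exact absurd hodd (by decide)
    have hPc : Nat.card P = p ^ (n + 1) := by
      rw [P.card_eq_multiplicity, hc, Nat.factorization_mul (by norm_num) (pow_ne_zero _ hp.ne_zero),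
        Finsupp.add_apply, Nat.factorization_eq_zero_of_not_dvd h2p, zero_add, hp.factorization_pow,
        Finsupp.single_eq_same]
    have hPi : (P : Subgroup G).index = 2 := by
      have h1 := card_mul_index (P : Subgroup G)
      rw [hc, hPc, mul_comm 2] at h1
      exact Nat.eq_of_mul_eq_mul_left (pow_pos hp.pos _) h1
    have hPn : (P : Subgroup G).Normal := normal_of_index_eq_two hPi
    obtain ⟨t, ht⟩ : ∃ t, t ∉ (P : Subgroup G) := by
      by_contra h
      push Not at h
      have : (P : Subgroup G) = ⊤ := eq_top_iff.2 fun x _ => h x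
      rw [this, index_top] at hPi
      omega
    have hPnt : Nontrivial (P : Subgroup G) := Finite.one_lt_card_iff_nontrivial.1
      (by rw [hPc]; exact Nat.one_lt_pow (by omega) hp.one_lt)
    have hZnt := P.isPGroup'.center_nontrivial
    have hd : p ∣ Nat.card (center (P : Subgroup G)) := by
      obtain ⟨k, hk⟩ := (P.isPGroup'.to_subgroup (center _)).exists_card_eq
      rw [hk]
      refine dvd_pow_self p ?_
      rintro rfl
      simpa [hk] using Finite.one_lt_card (α := center (P : Subgroup G))
    obtain ⟨z, hz⟩ := exists_prime_orderOf_dvd_card' p hd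
    obtain ⟨a, ha⟩ : ∃ a : G, a = ((z : (P : Subgroup G)) : G) := ⟨_, rfl⟩
    have haP : a ∈ (P : Subgroup G) := ha ▸ SetLike.coe_mem _
    have hac : ∀ x ∈ (P : Subgroup G), x * a = a * x := fun x hx => by
      have := congrArg Subtype.val (mem_center_iff.1 z.2 ⟨x, hx⟩)
      rw [ha]; exact this
    have hao : orderOf a = p := by rw [ha, Subgroup.orderOf_coe, Subgroup.orderOf_coe, hz]
    have ht2 : t * t ∈ (P : Subgroup G) := by
      rw [mul_mem_iff_of_index_two hPi]
    have hbP : t * a * t⁻¹ ∈ (P : Subgroup G) := hPn.conj_mem a haP t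
    have hbc : ∀ x ∈ (P : Subgroup G), x * (t * a * t⁻¹) = (t * a * t⁻¹) * x := fun x hx => by
      have hx' : t⁻¹ * x * t ∈ (P : Subgroup G) := by simpa using hPn.conj_mem x hx t⁻¹
      calc x * (t * a * t⁻¹) = t * ((t⁻¹ * x * t) * a) * t⁻¹ := by group
        _ = t * (a * (t⁻¹ * x * t)) * t⁻¹ := by rw [hac _ hx']
        _ = (t * a * t⁻¹) * x := by group
    have htb : t * (t * a * t⁻¹) * t⁻¹ = a :=
      calc t * (t * a * t⁻¹) * t⁻¹ = (t * t) * a * (t * t)⁻¹ := by group
        _ = a := by rw [hac _ ht2, mul_inv_cancel_right]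
    -- find an element of order `p` generating a normal subgroup
    obtain ⟨c, hc1, hcn⟩ : ∃ c : G, orderOf c = p ∧ (zpowers c).Normal := by
      have mkn : ∀ c : G, c ∈ (P : Subgroup G) → (∀ x ∈ (P : Subgroup G), x * c = c * x) →
          t * c * t⁻¹ ∈ zpowers c → (zpowers c).Normal := by
        intro c hcP hcc htc
        refine ⟨fun y hy g => ?_⟩
        obtain ⟨k, rfl⟩ := mem_zpowers_iff.1 hy
        rw [← conj_zpow]
        refine zpow_mem ?_ k
        by_cases hg : g ∈ (P : Subgroup G)
        · rw [hcc g hg, mul_inv_cancel_right]; exact mem_zpowers c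
        · obtain ⟨x, hx, rfl⟩ : ∃ x ∈ (P : Subgroup G), g = t * x := by
            refine ⟨t⁻¹ * g, ?_, by group⟩
            rw [mul_mem_iff_of_index_two hPi, inv_mem_iff]
            exact iff_of_false ht hg
          have : t * x * c * (t * x)⁻¹ = t * c * t⁻¹ := by
            calc t * x * c * (t * x)⁻¹ = t * (x * c) * x⁻¹ * t⁻¹ := by group
              _ = t * (c * x) * x⁻¹ * t⁻¹ := by rw [hcc x hx]
              _ = t * c * t⁻¹ := by group
          rw [this]; exact htc
      by_cases h : a * (t * a * t⁻¹) = 1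
      · exact ⟨a, hao, mkn a haP hac (by
          rw [← inv_eq_of_mul_eq_one_right h]; exact inv_mem (mem_zpowers a))⟩
      · refine ⟨a * (t * a * t⁻¹), ?_, mkn _ (mul_mem haP hbP) ?_ ?_⟩
        · refine orderOf_eq_prime ?_ h
          have hcm : Commute a (t * a * t⁻¹) := (hbc a haP)
          rw [hcm.mul_pow, conj_pow, ← hao, pow_orderOf_eq_one]
          simp
        · intro x hx
          calc x * (a * (t * a * t⁻¹)) = (x * a) * (t * a * t⁻¹) := by group
            _ = a * (x * (t * a * t⁻¹)) := by rw [hac x hx]; group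
            _ = a * (t * a * t⁻¹) * x := by rw [hbc x hx]; group
        · have : t * (a * (t * a * t⁻¹)) * t⁻¹ = a * (t * a * t⁻¹) :=
            calc t * (a * (t * a * t⁻¹)) * t⁻¹ = (t * a * t⁻¹) * (t * (t * a * t⁻¹) * t⁻¹) := by group
              _ = (t * a * t⁻¹) * a := by rw [htb]
              _ = a * (t * a * t⁻¹) := (hbc a haP).symm
          rw [this]; exact mem_zpowers _
    refine H30.isSupersolvable_of_quotient_cyclic (zpowers c) inferInstance (ih ?_)
    have h1 := card_eq_card_quotient_mul_card_subgroup (zpowers c)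
    rw [hc, Nat.card_zpowers, hc1, pow_succ, ← mul_assoc] at h1
    exact (Nat.eq_of_mul_eq_mul_right hp.pos h1).symm

/-- A finite group whose order is twice a prime power is supersolvable. -/
theorem result {G : Type*} [Group G] [Finite G] (p n : ℕ) (hp : p.Prime) (hG : Nat.card G = 2 * p ^ n) : Cfsg.IsSupersolvable G := by
  exact two_pow hp n hG

end Cfsg.Agent.S0530
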