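import Cfsg.Statements.S0531
import Cfsg.Agent.H30.Supersolvable

set_option autoImplicit false
open Cfsg

namespace Cfsg.Agent.S0531

open Subgroup

universe u

theorem clt_aux {G : Type u} [Group G] [Finite G] (hG : Cfsg.IsSupersolvable G) :
    Cfsg.HasSubgroupOfEveryOrder G := by
  refine H30.supersolvable_induction (P := fun X _ => Cfsg.HasSubgroupOfEveryOrder X) ?_ ?_ hG
  · intro X _ _ d hd
    rw [Nat.card_unique] at hd
    exact ⟨⊤, by rw [card_top, Nat.card_unique, Nat.eq_one_of_dvd_one hd]⟩
  · intro X _ _ N _ _ hp ih d hd
    have hcard := card_eq_card_quotient_mul_card_subgroup N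
    have key : ∀ M : Subgroup (X ⧸ N),
        Nat.card (M.comap (QuotientGroup.mk' N)) = Nat.card M * Nat.card N := by
      intro M
      have h1 := card_mul_index (M.comap (QuotientGroup.mk' N))
      rw [index_comap_of_surjective M (QuotientGroup.mk'_surjective N), hcard, ← card_mul_index M] at h1
      apply Nat.eq_of_mul_eq_mul_right (Nat.pos_of_ne_zero (index_ne_zero_of_finite (H := M)))
      rw [h1]; ring
    by_cases hpd : Nat.card N ∣ d
    · obtain ⟨e, rfl⟩ := hpd
      obtain ⟨M, hM⟩ := ih e (by
        rw [hcard, mul_comm (Nat.card (X ⧸ N))] at hd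
        exact Nat.dvd_of_mul_dvd_mul_left hp.pos hd)
      exact ⟨M.comap (QuotientGroup.mk' N), by rw [key, hM, mul_comm]⟩
    · have hcop : Nat.Coprime d (Nat.card N) := (hp.coprime_iff_not_dvd.2 hpd).symm
      obtain ⟨M, hM⟩ := ih d (hcop.dvd_of_dvd_mul_right (hcard ▸ hd))
      have hNL : N ≤ M.comap (QuotientGroup.mk' N) := by
        intro x hx
        rw [mem_comap, QuotientGroup.mk'_apply, (QuotientGroup.eq_one_iff x).2 hx]
        exact one_mem M
      set L := M.comap (QuotientGroup.mk' N) with hL
      have hLc : Nat.card L = d * Nat.card N := by rw [hL, key, hM]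
      have hc' : Nat.card (N.subgroupOf L) = Nat.card N :=
        Nat.card_congr (subgroupOfEquivOfLe hNL).toEquiv
      have hi : (N.subgroupOf L).index = d := by
        have := card_mul_index (N.subgroupOf L)
        rw [hc', hLc, mul_comm d] at this
        exact Nat.eq_of_mul_eq_mul_left hp.pos this
      obtain ⟨K, hK⟩ := exists_right_complement'_of_coprime (N := N.subgroupOf L)
        (by rw [hc', hi]; exact hcop.symm)
      refine ⟨K.map L.subtype, ?_⟩
      rw [card_map_of_injective L.subtype_injective, ← hi]
      exact hK.symm.index_eq_card.symm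

/-- A finite supersolvable group has a subgroup of each order dividing its order. -/
theorem result {G : Type*} [Group G] [Finite G] (hG : Cfsg.IsSupersolvable G) : Cfsg.HasSubgroupOfEveryOrder G := by
  exact clt_aux hG

end Cfsg.Agent.S0531
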