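import Cfsg.Statements.S0534
import Cfsg.Agent.H30.Abelian
import Cfsg.Agent.Hall.CardForms
import Cfsg.Agent.S0531

set_option autoImplicit false
open Cfsg

namespace Cfsg.Agent.S0534

open Subgroup

universe u v

theorem prod_clt {G : Type u} {A : Type v} [Group G] [CommGroup A] [Finite G] [Finite A]
    [Group.IsSolvable G] (hA : ∀ p : ℕ, p.Prime → p ∣ Nat.card A → p ∣ Nat.card G)
    (hexp : ∀ p : ℕ, p.Prime → p ∣ Nat.card G →
      (Nat.card A).factorization p + 1 = (Nat.card G).factorization p) :
    Cfsg.HasSubgroupOfEveryOrder (G × A) := by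
  classical
  intro d hd
  rw [Nat.card_prod] at hd
  have hG0 : Nat.card G ≠ 0 := Nat.card_pos.ne'
  have hA0 : Nat.card A ≠ 0 := Nat.card_pos.ne'
  have hd0 : d ≠ 0 := fun h => mul_ne_zero hG0 hA0 (Nat.eq_zero_of_zero_dvd (h ▸ hd))
  have hde : ∀ p, d.factorization p ≤ (Nat.card G).factorization p + (Nat.card A).factorization p := by
    intro p
    have := (Nat.factorization_le_iff_dvd hd0 (mul_ne_zero hG0 hA0)).2 hd p
    rwa [Nat.factorization_mul hG0 hA0, Finsupp.add_apply] at this
  set f := (Nat.card G).factorization.filter
    (fun p => (Nat.card G).factorization p ≤ d.factorization p) with hf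
  set m := f.prod (fun p k => p ^ k) with hm
  have hfp : ∀ p ∈ f.support, p.Prime := fun p hp => by
    rw [hf, Finsupp.support_filter, Finset.mem_filter] at hp
    exact Nat.prime_of_mem_primeFactors (Nat.support_factorization _ ▸ hp.1)
  have hmf : m.factorization = f := Nat.prod_pow_factorization_eq_self hfp
  have hm0 : m ≠ 0 := by
    rw [hm, Finsupp.prod]
    exact Finset.prod_ne_zero_iff.2 fun p hp => pow_ne_zero _ (hfp p hp).ne_zero
  have hfapp : ∀ p, f p = if (Nat.card G).factorization p ≤ d.factorization p
      then (Nat.card G).factorization p else 0 := fun p => Finsupp.filter_apply _ _ _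
  have hmG : m ∣ Nat.card G := by
    rw [← Nat.factorization_le_iff_dvd hm0 hG0, hmf]
    intro p; rw [hfapp]; split_ifs <;> omega
  have hmd : m ∣ d := by
    rw [← Nat.factorization_le_iff_dvd hm0 hd0, hmf]
    intro p; rw [hfapp]; split_ifs with h <;> omega
  obtain ⟨k, hk⟩ := hmG
  have hcop : m.Coprime k := by
    refine Nat.coprime_of_dvd fun p hp hpm hpk => ?_
    have hk0 : k ≠ 0 := fun h => hG0 (by rw [hk, h, mul_zero])
    have h1 := hp.factorization_pos_of_dvd hm0 hpm
    have h2 := hp.factorization_pos_of_dvd hk0 hpk
    have h3 : (Nat.card G).factorization p = m.factorization p + k.factorization p := by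
      rw [hk, Nat.factorization_mul hm0 hk0, Finsupp.add_apply]
    rw [hmf, hfapp] at h1 h3
    split_ifs at h1 h3 <;> omega
  obtain ⟨H, hH⟩ := Hall.exists_subgroup_card hk hcop
  obtain ⟨e, hde'⟩ := hmd
  have he0 : e ≠ 0 := fun h => hd0 (by rw [hde', h, mul_zero])
  have heA : e ∣ Nat.card A := by
    rw [← Nat.factorization_le_iff_dvd he0 hA0]
    intro p
    by_cases hp : p.Prime
    swap
    · simp [Nat.factorization_eq_zero_of_not_prime _ hp]
    have h1 : (m * e).factorization p = m.factorization p + e.factorization p := by
      rw [Nat.factorization_mul hm0 he0, Finsupp.add_apply]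
    have h2 := hde p
    rw [hde'] at h2
    have hfa := hfapp p
    rw [hde'] at hfa
    by_cases hpG : p ∣ Nat.card G
    · have := hexp p hp hpG
      rw [hmf, hfa] at h1
      split_ifs at h1 <;> omega
    · have h3 := Nat.factorization_eq_zero_of_not_dvd hpG
      have h4 := Nat.factorization_eq_zero_of_not_dvd (fun h => hpG (hA p hp h))
      omega
  obtain ⟨B, hB⟩ := S0531.clt_aux (H30.isSupersolvable_abelian _ (le_refl (Nat.card A))) e heA
  refine ⟨H.prod B, ?_⟩
  rw [Nat.card_congr (Subgroup.prodEquiv H B).toEquiv, Nat.card_prod, hH, hB, ← hde']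

/-- Let G be a finite solvable group and A a finite abelian group such that every prime dividing the order of A divides the order of G and, for each prime p dividing the order of G, the exponent of p in the order of A is one less than its exponent in the order of G. Then G × A has a subgroup of every order dividing its order. -/
theorem result {G A : Type*} [Group G] [CommGroup A] [Finite G] [Finite A] [Group.IsSolvable G] (hA : ∀ p : ℕ, p.Prime → p ∣ Nat.card A → p ∣ Nat.card G) (hexp : ∀ p : ℕ, p.Prime → p ∣ Nat.card G → (Nat.card A).factorization p + 1 = (Nat.card G).factorization p) : Cfsg.HasSubgroupOfEveryOrder (G × A) := by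
  exact prod_clt hA hexp

end Cfsg.Agent.S0534
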