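import Cfsg.Statements.S0535
import Cfsg.Agent.S0144
import Cfsg.Agent.Hall.CardForms
import Cfsg.Agent.Hall.MinimalNormal
import Cfsg.Agent.H30.ComplementSystem

set_option autoImplicit false
open Cfsg

namespace Cfsg.Agent.S0535

open Subgroup
open scoped Pointwise

universe u

/-- Wielandt: three solvable subgroups with pairwise coprime indices. -/
theorem three_solvable : ∀ (n : ℕ) (G : Type u) [Group G] [Finite G], Nat.card G ≤ n →
    ∀ H₁ H₂ H₃ : Subgroup G, Group.IsSolvable H₁ → Group.IsSolvable H₂ → Group.IsSolvable H₃ →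
      H₁.index.Coprime H₂.index → H₁.index.Coprime H₃.index → H₂.index.Coprime H₃.index →
      Group.IsSolvable G := by
  intro n
  induction n with
  | zero => intro G _ _ h; exact absurd h (Nat.not_le.2 Nat.card_pos)
  | succ n ih =>
    intro G _ _ hc H₁ H₂ H₃ s₁ s₂ s₃ h12 h13 h23
    rcases subsingleton_or_nontrivial H₁ with hs | hn
    · have h1 : H₁.index = Nat.card G := by
        rw [H₁.eq_bot_of_subsingleton, index_bot]
      rw [h1] at h12
      have h2 : H₂.index = 1 :=
        Nat.eq_one_of_dvd_coprimes h12 H₂.index_dvd_card dvd_rfl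
      rw [index_eq_one] at h2
      subst h2
      exact Group.isSolvable_of_surjective (G := (⊤ : Subgroup G)) (G' := G)
        (f := (Subgroup.topEquiv : (⊤ : Subgroup G) ≃* G).toMonoidHom) (MulEquiv.surjective _)
    obtain ⟨N, p, hNn, hN0, hp, hNp, hNab, -⟩ := Hall.exists_minimal_normal_pgroup (G := H₁)
    have := Fact.mk hp
    -- `p` misses one of the two other indices
    have key : ∀ K : Subgroup G, Group.IsSolvable K → H₁.index.Coprime K.index →
        ¬ p ∣ K.index → Group.IsSolvable G := by
      intro K sK hK hpK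
      obtain ⟨P, hP⟩ : ∃ P : Sylow p G, (P : Subgroup G) ≤ K := by
        let Q : Sylow p K := default
        have hQ : IsPGroup p ((Q : Subgroup K).map K.subtype) := Q.isPGroup'.map _
        refine ⟨hQ.toSylow ?_, map_subtype_le _⟩
        rw [index_map_of_injective _ K.subtype_injective, range_subtype]
        exact fun h => (hp.dvd_mul.1 h).elim Q.not_dvd_index hpK
      obtain ⟨P', hP'⟩ := IsPGroup.exists_le_sylow (hNp.map H₁.subtype)
      obtain ⟨g, hg⟩ := MulAction.exists_smul_eq G P' P
      obtain ⟨k, hk, h, hh, he⟩ := H30.exists_mul_of_coprime_index hK.symm g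
      set N' := N.map H₁.subtype with hN'
      have hN'n : ∀ x ∈ H₁, ∀ y ∈ N', x * y * x⁻¹ ∈ N' := by
        rintro x hx _ ⟨y, hy, rfl⟩
        exact ⟨⟨x, hx⟩ * y * ⟨x, hx⟩⁻¹, hNn.conj_mem y hy _, rfl⟩
      have hN'K : N' ≤ K := by
        intro y hy
        have hy' : h⁻¹ * y * h ∈ N' := by simpa using hN'n _ (inv_mem hh) y hy
        have h1 : g * (h⁻¹ * y * h) * g⁻¹ ∈ K := hP (hg ▸ ⟨_, hP' hy', rfl⟩)
        rw [← he] at h1
        have h2 := mul_mem (mul_mem (inv_mem hk) h1) hk
        have e : k⁻¹ * (k * h * (h⁻¹ * y * h) * (k * h)⁻¹) * k = y := by group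
        rwa [e] at h2
      set M := normalClosure (N' : Set G) with hM
      have hMK : M ≤ K := by
        refine (closure_le K).2 fun x hx => ?_
        obtain ⟨y, hy, hxy⟩ := Group.mem_conjugatesOfSet_iff.1 hx
        obtain ⟨c, rfl⟩ := isConj_iff.1 hxy
        obtain ⟨a, ha, b, hb, rfl⟩ := H30.exists_mul_of_coprime_index hK.symm c
        have : a * (b * y * b⁻¹) * a⁻¹ ∈ K := mul_mem (mul_mem ha (hN'K (hN'n b hb y hy))) (inv_mem ha)
        have e : a * b * y * (a * b)⁻¹ = a * (b * y * b⁻¹) * a⁻¹ := by group
        rwa [e]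
      have hM0 : M ≠ ⊥ := fun h0 => hN0 (by
        have : N' = ⊥ := eq_bot_iff.2 (h0 ▸ subset_normalClosure)
        exact (map_eq_bot_iff_of_injective N H₁.subtype_injective).1 this)
      have hMs : Group.IsSolvable M :=
        Group.isSolvable_of_isSolvable_injective (f := inclusion hMK) (inclusion_injective hMK)
      have hlt : Nat.card (G ⧸ M) < Nat.card G := by
        rw [card_eq_card_quotient_mul_card_subgroup M]
        exact lt_mul_of_one_lt_right Nat.card_pos (M.one_lt_card_iff_ne_bot.2 hM0)
      have hf := QuotientGroup.mk'_surjective M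
      have hsol : ∀ W : Subgroup G, Group.IsSolvable W →
          Group.IsSolvable (W.map (QuotientGroup.mk' M)) := fun W hW =>
        Group.isSolvable_of_surjective ((QuotientGroup.mk' M).subgroupMap_surjective W)
      have hd : ∀ W : Subgroup G, (W.map (QuotientGroup.mk' M)).index ∣ W.index :=
        fun W => index_map_dvd W hf
      have := ih (G ⧸ M) (by omega) _ _ _ (hsol _ s₁) (hsol _ s₂) (hsol _ s₃)
        ((h12.coprime_dvd_left (hd _)).coprime_dvd_right (hd _))
        ((h13.coprime_dvd_left (hd _)).coprime_dvd_right (hd _))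
        ((h23.coprime_dvd_left (hd _)).coprime_dvd_right (hd _))
      exact (Group.isSolvable_iff_subgroup_quotient M).2 ⟨hMs, this⟩
    by_cases hp2 : p ∣ H₂.index
    · exact key H₃ s₃ h13 fun h => hp.ne_one (Nat.eq_one_of_dvd_coprimes h23 hp2 h)
    · exact key H₂ s₂ h12 hp2

theorem hereditary_solvable (G : Type u) [Group G] [Finite G]
    (h : ∀ H : Subgroup G, H ≠ ⊥ → ∀ p : ℕ, p.Prime → p ∣ Nat.card H →
      ∃ K : Subgroup H, K ≠ ⊤ ∧ ∃ k : ℕ, K.index = p ^ k) : Group.IsSolvable G := by
  suffices main : ∀ (n : ℕ) (H : Subgroup G), Nat.card H ≤ n → Group.IsSolvable H by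
    have := main _ ⊤ le_rfl
    exact Group.isSolvable_of_surjective (G := (⊤ : Subgroup G)) (G' := G)
      (f := (Subgroup.topEquiv : (⊤ : Subgroup G) ≃* G).toMonoidHom) (MulEquiv.surjective _)
  intro n
  induction n with
  | zero => intro H h; exact absurd h (Nat.not_le.2 Nat.card_pos)
  | succ n ih =>
    intro H hc
    by_cases hb : H = ⊥
    · subst hb; infer_instance
    by_cases h3 : (Nat.card H).primeFactors.card ≤ 2
    · have hne : Nat.card H ≠ 0 := Nat.card_pos.ne'
      have hprod := Nat.prod_factorization_pow_eq_self hne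
      rw [Finsupp.prod, Nat.support_factorization] at hprod
      interval_cases hcd : (Nat.card H).primeFactors.card
      · rw [Finset.card_eq_zero.1 hcd] at hprod
        simp at hprod
        exact absurd (card_eq_one.1 hprod.symm) hb
      · obtain ⟨p, hp⟩ := Finset.card_eq_one.1 hcd
        rw [hp, Finset.prod_singleton] at hprod
        have hpp : p.Prime := Nat.prime_of_mem_primeFactors (hp ▸ Finset.mem_singleton_self p)
        exact Hall.isSolvable_of_card_prime_pow hpp hprod.symm
      · obtain ⟨p, q, hpq, hpe⟩ := Finset.card_eq_two.1 hcd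
        rw [hpe, Finset.prod_pair hpq] at hprod
        have hpp : p.Prime := Nat.prime_of_mem_primeFactors (hpe ▸ Finset.mem_insert_self p _)
        have hqq : q.Prime :=
          Nat.prime_of_mem_primeFactors (hpe ▸ Finset.mem_insert_of_mem (Finset.mem_singleton_self q))
        exact S0144.burnside p q hpp hqq _ H le_rfl _ _ hprod.symm
    obtain ⟨s, hs, hs3⟩ := Finset.exists_subset_card_eq (n := 3) (s := (Nat.card H).primeFactors)
      (by omega)
    obtain ⟨a, b, c, hab, hac, hbc, rfl⟩ := Finset.card_eq_three.1 hs3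
    have key : ∀ p ∈ ({a, b, c} : Finset ℕ),
        ∃ K : Subgroup H, Group.IsSolvable K ∧ ∃ k : ℕ, K.index = p ^ k := by
      intro p hp
      obtain ⟨hpp, hpd, -⟩ := Nat.mem_primeFactors.1 (hs hp)
      obtain ⟨K, hK, k, hk⟩ := h H hb p hpp hpd
      refine ⟨K, ?_, k, hk⟩
      have hlt : Nat.card K < Nat.card H := by
        refine lt_of_le_of_ne (Nat.le_of_dvd Nat.card_pos (card_subgroup_dvd_card K)) fun e => hK ?_
        exact eq_top_of_card_eq K e
      have := ih (K.map H.subtype) (by rw [card_map_of_injective H.subtype_injective]; omega)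
      exact Group.isSolvable_of_isSolvable_injective
        (f := (K.equivMapOfInjective H.subtype H.subtype_injective).toMonoidHom)
        (MulEquiv.injective _)
    obtain ⟨A, sA, i, hi⟩ := key a (by simp)
    obtain ⟨B, sB, j, hj⟩ := key b (by simp)
    obtain ⟨C, sC, l, hl⟩ := key c (by simp)
    have pa : a.Prime := Nat.prime_of_mem_primeFactors (hs (by simp))
    have pb : b.Prime := Nat.prime_of_mem_primeFactors (hs (by simp))
    have pc : c.Prime := Nat.prime_of_mem_primeFactors (hs (by simp))
    exact three_solvable _ H le_rfl A B C sA sB sC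
      (by rw [hi, hj]; exact Nat.coprime_pow_primes _ _ pa pb hab)
      (by rw [hi, hl]; exact Nat.coprime_pow_primes _ _ pa pc hac)
      (by rw [hj, hl]; exact Nat.coprime_pow_primes _ _ pb pc hbc)

/-- Suppose that for every nontrivial subgroup H of a finite group and every prime p dividing the order of H there is a proper subgroup of H whose index in H is a power of p. Then the group is solvable. -/
theorem result {G : Type*} [Group G] [Finite G] (h : ∀ H : Subgroup G, H ≠ ⊥ → ∀ p : ℕ, p.Prime → p ∣ Nat.card H → ∃ K : Subgroup H, K ≠ ⊤ ∧ ∃ k : ℕ, K.index = p ^ k) : Group.IsSolvable G := by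
  exact hereditary_solvable G h

end Cfsg.Agent.S0535
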