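import Cfsg.Statements.S0540
import Cfsg.Agent.H30.Subnormal

set_option autoImplicit false
open Pointwise
open Cfsg

namespace Cfsg.Agent.S0540

open Subgroup

universe u

theorem zipper {G : Type u} [Group G] [Finite G] (A : Subgroup G) (U : Set (Subgroup G))
    (hU : U.Nonempty) (S : Subgroup G → Set (Subgroup G))
    (hS : ∀ V B : Subgroup G, B ∈ S V ↔
      (∃ g : G, B = MulAut.conj g • A) ∧ B ≤ V ∧ (B.subgroupOf V).IsSubnormal)
    (h1 : ∀ V ∈ U, A ∈ S V) (h2 : ∀ V ∈ U, ∀ W ∈ U, ∀ B ∈ S W, B ≤ V → B ∈ S V)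
    (h3 : ∀ V ∈ U, ∀ W ∈ U,
      ∃ X ∈ U, Subgroup.normalizer ((sSup (S V ∩ S W) : Subgroup G) : Set G) ≤ X) :
    ∃ M ∈ U, ∀ V ∈ U, V ≤ M := by
  classical
  obtain ⟨M, hM⟩ := (Set.toFinite U).exists_maximal hU
  refine ⟨M, hM.1, ?_⟩
  by_contra hne
  push Not at hne
  obtain ⟨V₀, hV₀, hV₀M⟩ := hne
  obtain ⟨M', hVM', hM'⟩ := (Set.toFinite U).exists_le_maximal hV₀
  let P : Set (Subgroup G × Subgroup G) :=
    {x | Maximal (· ∈ U) x.1 ∧ Maximal (· ∈ U) x.2 ∧ x.1 ≠ x.2}
  have hP : P.Nonempty := ⟨(M, M'), hM, hM', fun h => hV₀M (le_of_le_of_eq hVM' h.symm)⟩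
  obtain ⟨⟨V, W⟩, ⟨hV, hW, hVW⟩, hmax⟩ :=
    (Set.toFinite P).exists_maximalFor (fun x => S x.1 ∩ S x.2) P hP
  -- if the intersection is a proper subfamily of `S V`, the normalizer lies in `V`
  have step : ∀ V W : Subgroup G, Maximal (· ∈ U) V → W ∈ U →
      (S V ∩ S W) ⊂ S V → ∀ X ∈ U, normalizer ((sSup (S V ∩ S W) : Subgroup G) : Set G) ≤ X →
      ∀ X' : Subgroup G, Maximal (· ∈ U) X' → X ≤ X' → (S V ∩ S W) ⊂ S V ∩ S X' := by
    intro V W hV hWU hss X hXU hX X' hX' hXX'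
    let emb : Subgroup G → Subgroup V := fun B => B.subgroupOf V
    have hinj : ∀ B ∈ S V, (emb B).map V.subtype = B := fun B hB => by
      simp only [emb, subgroupOf_map_subtype, inf_eq_left.2 ((hS V B).1 hB).2.1]
    have hsSup : (sSup (emb '' (S V ∩ S W))).map V.subtype = sSup (S V ∩ S W) := by
      rw [sSup_image, Subgroup.map_iSup]
      simp only [Subgroup.map_iSup, sSup_eq_iSup]
      refine iSup_congr fun B => iSup_congr fun hB => ?_
      exact hinj B hB.1
    obtain ⟨Y, hY, hY0, hYn⟩ := H30.exists_normalizes_sSup (emb '' S V) (emb '' (S V ∩ S W)) (by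
        rintro _ ⟨B, hB, rfl⟩
        exact ((hS V B).1 hB).2.2) (by
        rintro _ ⟨B, hB, rfl⟩ g
        obtain ⟨⟨h, rfl⟩, hBV, hsn⟩ := (hS V B).1 hB
        have e : MulAut.conj g • emb (MulAut.conj h • A) =
            emb (MulAut.conj ((g : G) * h) • A) := by
          ext x
          simp only [emb, mem_pointwise_smul_iff_inv_smul_mem, mem_subgroupOf]
          simp [MulAut.smul_def, mul_assoc]
        refine ⟨_, (hS V _).2 ⟨⟨(g : G) * h, rfl⟩, ?_, ?_⟩, e.symm⟩
        · rw [map_mul, mul_smul]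
          rintro _ ⟨x, hx, rfl⟩
          exact mul_mem (mul_mem g.2 (hBV hx)) (inv_mem g.2)
        · have := hsn.smul (MulAut.conj g)
          change (MulAut.conj g • emb (MulAut.conj h • A)).IsSubnormal at this
          rw [e] at this
          exact this) (by
        refine ⟨Set.image_mono hss.subset, fun hsub => hss.not_subset fun B hB => ?_⟩
        obtain ⟨B', hB', e⟩ := hsub ⟨B, hB, rfl⟩
        rwa [← hinj B hB, ← e, hinj B' hB'.1])
    obtain ⟨B, hB, rfl⟩ := hY
    have hBX : B ≤ X := by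
      refine le_trans ?_ hX
      rw [← hsSup, ← hinj B hB]
      exact (map_mono hYn).trans (le_normalizer_map _)
    have hsub : ∀ C ∈ S V ∩ S W, C ∈ S X' := fun C hC => by
      refine h2 X' hX'.1 V hV.1 C hC.1 ?_
      exact ((le_sSup hC).trans (le_normalizer.trans hX)).trans hXX'
    refine ⟨fun C hC => ⟨hC.1, hsub C hC⟩, fun hc => hY0 ⟨B, ?_, rfl⟩⟩
    exact hc ⟨hB, h2 X' hX'.1 V hV.1 B hB (hBX.trans hXX')⟩
  obtain ⟨X, hXU, hX⟩ := h3 V hV.1 W hW.1
  obtain ⟨X', hXX', hX'⟩ := (Set.toFinite U).exists_le_maximal hXU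
  have hnorm : ∀ V ∈ U, V ≤ normalizer ((sSup (S V) : Subgroup G) : Set G) := by
    intro V _ v hv
    rw [mem_normalizer_iff_map_conj_eq]
    refine eq_of_le_of_card_ge ?_ (le_of_eq (card_map_of_injective (MulEquiv.injective _)).symm)
    rw [map_le_iff_le_comap]
    refine sSup_le fun B hB => ?_
    intro x hx
    obtain ⟨⟨h, rfl⟩, hBV, hsn⟩ := (hS V B).1 hB
    have hBV' : MulAut.conj (v * h) • A ≤ V := by
      rw [map_mul, mul_smul]
      rintro _ ⟨y, hy, rfl⟩
      exact mul_mem (mul_mem hv (hBV hy)) (inv_mem hv)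
    have hmem : MulAut.conj (v * h) • A ∈ S V := by
      refine (hS V _).2 ⟨⟨_, rfl⟩, hBV', ?_⟩
      have e : (MulAut.conj (v * h) • A).subgroupOf V =
          MulAut.conj (⟨v, hv⟩ : V) • (MulAut.conj h • A).subgroupOf V := by
        ext x
        simp only [mem_pointwise_smul_iff_inv_smul_mem, mem_subgroupOf]
        simp [MulAut.smul_def, mul_assoc]
      rw [e]; exact hsn.smul _
    apply le_sSup hmem
    rw [map_mul, mul_smul]
    exact ⟨x, hx, rfl⟩
  by_cases hc1 : S V ∩ S W = S V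
  · -- `V` normalizes the join, hence `V = X'`
    have hVX : V ≤ X' := ((hnorm V hV.1).trans_eq (by rw [hc1])).trans (hX.trans hXX')
    have hVX' : V = X' := hV.eq_of_le hX'.1 hVX
    by_cases hc2 : S V ∩ S W = S W
    · exact hVW (hVX'.trans (hW.eq_of_le hX'.1
        (((hnorm W hW.1).trans_eq (by rw [hc2])).trans (hX.trans hXX'))).symm)
    · have hss : S W ∩ S V ⊂ S W :=
        ⟨Set.inter_subset_left, fun h => hc2 (Set.inter_eq_right.2 (fun B hB => (h hB).2))⟩
      have hlt := step W V hW hV.1 hss X hXU (by rwa [Set.inter_comm]) X' hX' hXX'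
      rw [← hVX', Set.inter_comm] at hlt
      exact hlt.ne rfl
  · have hss : S V ∩ S W ⊂ S V := ⟨Set.inter_subset_left, fun h => hc1 (Set.inter_eq_left.2 (fun B hB => (h hB).2))⟩
    have hlt := step V W hV hW.1 hss X hXU hX X' hX' hXX'
    have hVX' : V = X' := by
      by_contra hne
      exact hlt.2 (hmax (j := (V, X')) ⟨hV, hX', hne⟩ hlt.1)
    by_cases hc2 : S V ∩ S W = S W
    · exact hVW (hVX'.trans (hW.eq_of_le hX'.1
        (((hnorm W hW.1).trans_eq (by rw [hc2])).trans (hX.trans hXX'))).symm)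
    · have hss' : S W ∩ S V ⊂ S W :=
        ⟨Set.inter_subset_left, fun h => hc2 (Set.inter_eq_right.2 (fun B hB => (h hB).2))⟩
      have hlt' := step W V hW hV.1 hss' X hXU (by rwa [Set.inter_comm]) X' hX' hXX'
      rw [← hVX'] at hlt'
      exact hlt'.ne rfl

/-- A uniqueness lemma of zipper type. Let A be a subgroup of a finite group G and U a nonempty family of subgroups. For V in U write S(V) for the set of conjugates of A that lie in V and are subnormal in V. Assume: A belongs to S(V) for every V in U; a member of some S(W) that lies in V belongs to S(V); and for all V, W in U the normalizer of the join of S(V) ∩ S(W) lies in some member of U. Then U has a greatest element. -/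
theorem result {G : Type*} [Group G] [Finite G] (A : Subgroup G) (U : Set (Subgroup G)) (hU : U.Nonempty) (S : Subgroup G → Set (Subgroup G)) (hS : ∀ V B : Subgroup G, B ∈ S V ↔ (∃ g : G, B = MulAut.conj g • A) ∧ B ≤ V ∧ (B.subgroupOf V).IsSubnormal) (h1 : ∀ V ∈ U, A ∈ S V) (h2 : ∀ V ∈ U, ∀ W ∈ U, ∀ B ∈ S W, B ≤ V → B ∈ S V) (h3 : ∀ V ∈ U, ∀ W ∈ U, ∃ X ∈ U, Subgroup.normalizer ((sSup (S V ∩ S W) : Subgroup G) : Set G) ≤ X) : ∃ M ∈ U, ∀ V ∈ U, V ≤ M := by
  exact zipper A U hU S hS h1 h2 h3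

end Cfsg.Agent.S0540
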