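import Cfsg.Statements.S0541
import Cfsg.Agent.H30.Subnormal

set_option autoImplicit false
open Pointwise
open Cfsg

namespace Cfsg.Agent.S0541

open Subgroup
open scoped Pointwise

universe u

theorem matsuyama {G : Type u} [Group G] [Finite G] (p : ℕ) [Fact p.Prime] (Z Y : Subgroup G)
    (h : ∀ g : G, IsPGroup p ↥(⨆ y ∈ Y, MulAut.conj (y * g) • Z)) :
    ∃ P : Sylow p G, Y ≤ normalizer ((⨆ g ∈ {g : G | MulAut.conj g • Z ≤ (P : Subgroup G)},
      MulAut.conj g • Z : Subgroup G) : Set G) := by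
  let 𝒜 : Set (Set G) := {D | (∀ g ∈ D, ∀ y ∈ Y, y * g ∈ D) ∧
    IsPGroup p ↥(⨆ g ∈ D, MulAut.conj g • Z)}
  have hne : 𝒜.Nonempty := ⟨∅, by simp, by
    rw [show (⨆ g ∈ (∅ : Set G), MulAut.conj g • Z) = ⊥ from iSup_emptyset]
    exact IsPGroup.of_bot⟩
  obtain ⟨D, hD⟩ := (Set.toFinite 𝒜).exists_maximal hne
  set W := ⨆ g ∈ D, MulAut.conj g • Z with hW
  obtain ⟨P, hP⟩ := IsPGroup.exists_le_sylow hD.1.2
  refine ⟨P, ?_⟩
  have hYW : Y ≤ normalizer (W : Set G) := by
    intro y hy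
    rw [mem_normalizer_iff_map_conj_eq]
    refine eq_of_le_of_card_ge ?_ (le_of_eq (card_map_of_injective (MulEquiv.injective _)).symm)
    rw [hW, Subgroup.map_iSup]
    refine iSup_le fun g => ?_
    rw [Subgroup.map_iSup]
    refine iSup_le fun hg => le_iSup₂_of_le (y * g) (hD.1.1 g hg y hy) ?_
    rw [map_mul, mul_smul]
    rintro _ ⟨x, hx, rfl⟩
    exact ⟨x, hx, rfl⟩
  suffices heq : (⨆ g ∈ {g : G | MulAut.conj g • Z ≤ (P : Subgroup G)}, MulAut.conj g • Z) = W by
    rw [heq]; exact hYW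
  apply le_antisymm
  swap
  · exact iSup₂_le fun g hg => le_iSup₂_of_le g ((le_iSup₂_of_le g hg le_rfl).trans hP) le_rfl
  by_contra hnot
  rw [iSup₂_le_iff] at hnot
  push Not at hnot
  obtain ⟨g₀, hg₀, hg₀W⟩ := hnot
  -- a conjugate inside `P`, not inside `W`, normalizing `W`
  obtain ⟨g₁, hg₁W, hg₁n⟩ : ∃ g₁ : G, ¬ MulAut.conj g₁ • Z ≤ W ∧
      MulAut.conj g₁ • Z ≤ normalizer (W : Set G) := by
    let S : Set (Subgroup P) := {U | ∃ g : G, MulAut.conj g • Z ≤ (P : Subgroup G) ∧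
      U = (MulAut.conj g • Z).subgroupOf P}
    let S₀ : Set (Subgroup P) := {U | U ∈ S ∧ U ≤ W.subgroupOf P}
    have hnc : NormalizerCondition P :=
      Group.normalizerCondition_of_isNilpotent (h := P.isPGroup'.isNilpotent)
    have hsn : ∀ U : Subgroup P, U.IsSubnormal := by
      intro U
      induction U using (wellFounded_gt (α := Subgroup P)).induction with
      | h U ih =>
        by_cases hU : U = ⊤
        · subst hU; exact Subgroup.IsSubnormal.top
        · exact Subgroup.IsSubnormal.step U (normalizer (U : Set P)) le_normalizer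
            (ih _ (hnc U (lt_top_iff_ne_top.2 hU))) normal_in_normalizer
    obtain ⟨X, hXS, hX0, hXn⟩ := H30.exists_normalizes_sSup S S₀ (fun U _ => hsn U) (by
      rintro _ ⟨g, hg, rfl⟩ x
      refine ⟨(x : G) * g, ?_, ?_⟩
      · rw [map_mul, mul_smul]
        rintro _ ⟨z, hz, rfl⟩
        exact mul_mem (mul_mem x.2 (hg hz)) (inv_mem x.2)
      · ext w
        simp only [mem_pointwise_smul_iff_inv_smul_mem, mem_subgroupOf]
        simp [MulAut.smul_def, mul_assoc]) (by
      refine ⟨fun U hU => hU.1, fun hsub => hg₀W ?_⟩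
      have := (hsub ⟨g₀, hg₀, rfl⟩).2
      intro z hz
      exact this (show (⟨z, hg₀ hz⟩ : P) ∈ (MulAut.conj g₀ • Z).subgroupOf P from hz))
    obtain ⟨g₁, hg₁, rfl⟩ := hXS
    have hsup : sSup S₀ = W.subgroupOf P := by
      refine le_antisymm (sSup_le fun U hU => hU.2) ?_
      intro w hw
      have hle : W ≤ (sSup S₀).map (P : Subgroup G).subtype := by
        refine iSup₂_le fun g hg => ?_
        have hgW : MulAut.conj g • Z ≤ W := le_iSup₂_of_le g hg le_rfl
        have hgP := hgW.trans hP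
        rw [← inf_eq_left.2 hgP, ← subgroupOf_map_subtype]
        exact map_mono (le_sSup ⟨⟨g, hgP, rfl⟩, fun x hx => hgW hx⟩)
      obtain ⟨w', hw', e⟩ := hle hw
      rwa [show w = w' from Subtype.ext e.symm]
    rw [hsup] at hXn
    refine ⟨g₁, fun hle => hX0 ⟨⟨g₁, hg₁, rfl⟩, fun x hx => hle hx⟩, ?_⟩
    have := (map_mono hXn).trans (le_normalizer_map (P : Subgroup G).subtype)
    rwa [subgroupOf_map_subtype, subgroupOf_map_subtype, inf_eq_left.2 hg₁, inf_eq_left.2 hP] at this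
  set V := ⨆ y ∈ Y, MulAut.conj (y * g₁) • Z with hV
  have hVN : V ≤ normalizer (W : Set G) := by
    refine iSup₂_le fun y hy => ?_
    rw [map_mul, mul_smul]
    rintro _ ⟨z, hz, rfl⟩
    exact mul_mem (mul_mem (hYW hy) (hg₁n hz)) (inv_mem (hYW hy))
  have hpV : IsPGroup p ↥(V ⊔ W) := (h g₁).to_sup_of_normal_right' hD.1.2 hVN
  have hD' : D ∪ {g | ∃ y ∈ Y, g = y * g₁} ∈ 𝒜 := by
    refine ⟨?_, hpV.to_le ?_⟩
    · rintro g (hg | ⟨y', hy', rfl⟩) y hy
      · exact Or.inl (hD.1.1 g hg y hy)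
      · exact Or.inr ⟨y * y', mul_mem hy hy', by group⟩
    · refine iSup₂_le fun g hg => ?_
      rcases hg with hg | ⟨y, hy, rfl⟩
      · exact le_sup_of_le_right (le_iSup₂_of_le g hg le_rfl)
      · exact le_sup_of_le_left (le_iSup₂_of_le y hy le_rfl)
  refine hg₁W (le_iSup₂_of_le g₁ (hD.2 hD' Set.subset_union_left ?_) le_rfl)
  exact Or.inr ⟨1, one_mem Y, (one_mul g₁).symm⟩

/-- Let Z and Y be subgroups of a finite group G and p a prime. Suppose that for every g in G the subgroup generated by the conjugates of g Z g⁻¹ under Y is a p-group. Then there is a Sylow p-subgroup P of G such that Y normalizes the subgroup generated by all conjugates of Z contained in P. -/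
theorem result {G : Type*} [Group G] [Finite G] (p : ℕ) [Fact p.Prime] (Z Y : Subgroup G) (h : ∀ g : G, IsPGroup p ↥(⨆ y ∈ Y, MulAut.conj (y * g) • Z)) : ∃ P : Sylow p G, Y ≤ Subgroup.normalizer ((⨆ g ∈ {g : G | MulAut.conj g • Z ≤ (P : Subgroup G)}, MulAut.conj g • Z : Subgroup G) : Set G) := by
  exact matsuyama p Z Y h

end Cfsg.Agent.S0541
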