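import Cfsg.Statements.S0547
import Cfsg.Agent.Perm.RegularNormal

set_option autoImplicit false
open Cfsg

namespace Cfsg.Agent.S0547

/-- Let a finite solvable group G act faithfully and primitively on a set, and let M be a minimal normal subgroup of G. Then M is transitive with trivial point stabilizers, and the number of points equals the order of M, which is a prime power p ^ d with d ≥ 1. -/
theorem result {G : Type*} [Group G] [Finite G] [Group.IsSolvable G] {Ω : Type*} [Nonempty Ω] [MulAction G Ω] [FaithfulSMul G Ω] (hprim : MulAction.IsPreprimitive G Ω) (M : Subgroup G) [M.Normal] (hM : M ≠ ⊥) (hmin : ∀ K : Subgroup G, K.Normal → K ≤ M → K = ⊥ ∨ K = M) : MulAction.IsPretransitive M Ω ∧ (∀ ω : Ω, MulAction.stabilizer M ω = ⊥) ∧ ∃ p d : ℕ, p.Prime ∧ 0 < d ∧ Nat.card Ω = p ^ d ∧ Nat.card M = p ^ d := by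
  haveI := hprim
  have ht := Cfsg.Agent.Perm.transitive_of_normal (X := Ω) hM
  have hab := Cfsg.Agent.Perm.minimal_solvable_abelian hmin
  have hfree := Cfsg.Agent.Perm.abelian_transitive_free hab ht
  obtain ⟨p, hp, hexp⟩ := Cfsg.Agent.Perm.minimal_abelian_exp hM hmin hab
  obtain ⟨d, hd⟩ := Cfsg.Agent.Perm.card_prime_pow_of_exp hp hexp
  obtain ⟨a⟩ := ‹Nonempty Ω›
  refine ⟨ht, hfree, p, d, hp, ?_, ?_, hd⟩
  · rcases Nat.eq_zero_or_pos d with h | h
    · rw [h, pow_zero] at hd
      exact absurd (Subgroup.eq_bot_of_card_eq M hd) hM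
    · exact h
  · rw [← Cfsg.Agent.Perm.card_eq_of_regular ht hfree a, hd]
end Cfsg.Agent.S0547
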