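import Cfsg.Statements.S0548
import Cfsg.Agent.Perm.RegularNormal

set_option autoImplicit false
open Cfsg

namespace Cfsg.Agent.S0548

/-- Let a finite solvable group G act faithfully and primitively on a set, let M be a minimal normal subgroup and H the stabilizer of a point. Then H is a complement to M, no non-identity element of H centralizes M, and the only subgroups of M normalized by H are the trivial subgroup and M. -/
theorem result {G : Type*} [Group G] [Finite G] [Group.IsSolvable G] {Ω : Type*} [MulAction G Ω] [FaithfulSMul G Ω] (hprim : MulAction.IsPreprimitive G Ω) (M : Subgroup G) [M.Normal] (hM : M ≠ ⊥) (hmin : ∀ K : Subgroup G, K.Normal → K ≤ M → K = ⊥ ∨ K = M) (ω : Ω) : Subgroup.IsComplement' M (MulAction.stabilizer G ω) ∧ MulAction.stabilizer G ω ⊓ Subgroup.centralizer (M : Set G) = ⊥ ∧ ∀ K : Subgroup G, K ≤ M → MulAction.stabilizer G ω ≤ Subgroup.normalizer (K : Set G) → K = ⊥ ∨ K = M := by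
  haveI := hprim
  have ht := Cfsg.Agent.Perm.transitive_of_normal (X := Ω) hM
  have hab := Cfsg.Agent.Perm.minimal_solvable_abelian hmin
  have hfree := Cfsg.Agent.Perm.abelian_transitive_free hab ht
  have hdisj : ∀ g ∈ M, g ∈ MulAction.stabilizer G ω → g = 1 :=
    fun g hg hgs => Cfsg.Agent.Perm.free_iff.mp hfree g hg ω hgs
  refine ⟨?_, ?_, fun K hK hn => ?_⟩
  · apply Subgroup.isComplement'_of_disjoint_and_mul_eq_univ
    · rw [Subgroup.disjoint_def]
      exact fun h1 h2 => hdisj _ h1 h2
    · rw [Set.eq_univ_iff_forall]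
      intro g
      obtain ⟨n, hn, s, hs, rfl⟩ := Cfsg.Agent.Perm.exists_mul_stabilizer ht ω g
      exact Set.mul_mem_mul hn hs
  · rw [Cfsg.Agent.Perm.centralizer_eq_self hab ht, eq_bot_iff]
    exact fun g hg => Subgroup.mem_bot.mpr (hdisj g hg.2 hg.1)
  · refine hmin K ?_ hK
    constructor
    intro k hk g
    obtain ⟨n, hn', s, hs, rfl⟩ := Cfsg.Agent.Perm.exists_mul_stabilizer ht ω g
    have h1 : s * k * s⁻¹ ∈ K := (Subgroup.mem_normalizer_iff.mp (hn hs) k).mp hk
    have h2 : n * (s * k * s⁻¹) = (s * k * s⁻¹) * n :=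
      Cfsg.Agent.Perm.isMulCommutative_iff_comm.mp hab n hn' _ (hK h1)
    have h3 : n * s * k * (n * s)⁻¹ = s * k * s⁻¹ := by
      calc n * s * k * (n * s)⁻¹ = (n * (s * k * s⁻¹)) * n⁻¹ := by group
        _ = s * k * s⁻¹ := by rw [h2, mul_inv_cancel_right]
    rw [h3]; exact h1
end Cfsg.Agent.S0548
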