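import Cfsg.Statements.S0552
import Cfsg.Agent.Cores.Fitting

set_option autoImplicit false
open Cfsg

namespace Cfsg.Agent.S0552

open Subgroup

universe u

theorem aut_fix {G : Type u} [Group G] [Finite G] [Group.IsSolvable G] (σ : G ≃* G)
    (hσ : ∀ x ∈ Cfsg.fittingSubgroup G, σ x = x) (hne : σ ≠ MulEquiv.refl G) :
    ¬ (orderOf σ).Coprime (Nat.card G) := by
  intro hcop
  set F := Cfsg.fittingSubgroup G
  have hFn : F.Normal := Subgroup.sSup_normal _ fun _ h => h.1
  apply hne
  ext x
  set c := x⁻¹ * σ x with hc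
  have hcF : c ∈ F := by
    apply Cores.centralizer_fittingSubgroup_le
    refine mem_centralizer_iff.2 fun f hf => ?_
    have h1 := hσ _ (hFn.conj_mem f hf x)
    rw [map_mul, map_mul, map_inv, hσ f hf] at h1
    calc f * c = x⁻¹ * (x * f * x⁻¹) * σ x := by rw [hc]; group
      _ = x⁻¹ * (σ x * f * (σ x)⁻¹) * σ x := by rw [h1]
      _ = c * f := by rw [hc]; group
  have hpow : ∀ n : ℕ, (σ ^ n) x = x * c ^ n := by
    intro n
    induction n with
    | zero => simp
    | succ n ih =>
      have hx : σ x = x * c := by rw [hc]; group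
      rw [pow_succ', MulAut.mul_apply, ih, map_mul, hσ _ (pow_mem hcF n), hx, mul_assoc, ← pow_succ']
  have h1 : c ^ orderOf σ = 1 := by
    have := hpow (orderOf σ)
    rw [pow_orderOf_eq_one] at this
    simpa using this.symm
  have h2 : orderOf c = 1 :=
    Nat.eq_one_of_dvd_coprimes hcop (orderOf_dvd_of_pow_eq_one h1) (orderOf_dvd_natCard c)
  rw [orderOf_eq_one_iff, hc, inv_mul_eq_one] at h2
  exact h2.symm

/-- Let σ be an automorphism of a finite solvable group G fixing every element of the Fitting subgroup. If σ is not the identity then the order of σ and the order of G have a common prime factor. -/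
theorem result {G : Type*} [Group G] [Finite G] [Group.IsSolvable G] (σ : G ≃* G) (hσ : ∀ x ∈ Cfsg.fittingSubgroup G, σ x = x) (hne : σ ≠ MulEquiv.refl G) : ¬ (orderOf σ).Coprime (Nat.card G) := by
  exact aut_fix σ hσ hne

end Cfsg.Agent.S0552
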