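import Cfsg.Statements.S0553
import Cfsg.Agent.H31.Basic

set_option autoImplicit false
open Cfsg

namespace Cfsg.Agent.S0553

universe u

theorem aux : ∀ n : ℕ, ∀ (G : Type u) [Group G] [Finite G] [Group.IsSolvable G] [Nontrivial G],
    Nat.card G ≤ n → (∀ M : Subgroup G, IsCoatom M → (Nat.card M).Coprime M.index) →
      ∃ p : ℕ, p.Prime ∧ p ∣ Nat.card G ∧
        ∃ P : Subgroup G, P.Normal ∧ IsPGroup p P ∧ ¬ p ∣ P.index := by
  intro n
  induction n with
  | zero =>
    intro G _ _ _ _ hn _
    exact absurd hn (Nat.not_le.mpr Nat.card_pos)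
  | succ n ih =>
    intro G _ _ _ _ hn h
    obtain ⟨N, -, hN, hNne, hNmin, hNc, p, hp, -, hNp, hpN⟩ :=
      Cfsg.Agent.H31.exists_minNormal_elementary
        (inferInstance : (⊤ : Subgroup G).Normal) (bot_ne_top.symm)
    haveI := hN
    haveI := Fact.mk hp
    have hpG : p ∣ Nat.card G := hpN.trans N.card_subgroup_dvd_card
    by_cases hidx : p ∣ N.index
    swap
    · exact ⟨p, hp, hpG, N, hN, hNp, hidx⟩
    set π := QuotientGroup.mk' N with hπ
    have hsurj : Function.Surjective π := QuotientGroup.mk'_surjective N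
    haveI : Nontrivial (G ⧸ N) := QuotientGroup.nontrivial_iff.mpr fun e => by
      rw [e, Subgroup.index_top] at hidx; exact hp.ne_one (Nat.dvd_one.mp hidx)
    have hcardQ : Nat.card (G ⧸ N) < Nat.card G := by
      rw [N.card_eq_card_quotient_mul_card_subgroup]
      exact lt_mul_of_one_lt_right Nat.card_pos ((Subgroup.one_lt_card_iff_ne_bot N).mpr hNne)
    have hcomap : ∀ M : Subgroup (G ⧸ N), Nat.card (M.comap π) = Nat.card M * Nat.card N := by
      intro M
      have h1 := (M.comap π).card_mul_index
      rw [Subgroup.index_comap_of_surjective M hsurj,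
        N.card_eq_card_quotient_mul_card_subgroup, ← M.card_mul_index] at h1
      refine Nat.eq_of_mul_eq_mul_right (Nat.pos_of_ne_zero (Subgroup.index_ne_zero_of_finite (H := M))) ?_
      rw [h1]; ring
    obtain ⟨q, hq, hqQ, Qb, hQbn, hQbp, hQbi⟩ := ih (G ⧸ N) (by omega) fun M hM => by
      have h1 := h _ (Subgroup.isCoatom_comap_of_surjective hsurj hM)
      rw [Subgroup.index_comap_of_surjective M hsurj, hcomap] at h1
      exact Nat.Coprime.coprime_dvd_left (dvd_mul_right _ _) h1
    haveI := Fact.mk hq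
    have hqG : q ∣ Nat.card G := hqQ.trans N.card_quotient_dvd_card
    set K := Qb.comap π with hK
    haveI : K.Normal := hQbn.comap π
    have hKi : ¬ q ∣ K.index := by rwa [hK, Subgroup.index_comap_of_surjective _ hsurj]
    have hNK : N ≤ K := by
      intro x hx
      rw [hK, Subgroup.mem_comap]
      show (QuotientGroup.mk x : G ⧸ N) ∈ Qb
      rw [(QuotientGroup.eq_one_iff x).mpr hx]
      exact one_mem _
    by_cases hqp : q = p
    · subst hqp
      exact ⟨q, hp, hpG, K, inferInstance,
        hQbp.comap_of_ker_isPGroup π (by rwa [hπ, QuotientGroup.ker_mk']), hKi⟩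
    obtain ⟨P⟩ : Nonempty (Sylow q K) := inferInstance
    set P₁ := (P : Subgroup K).map K.subtype with hP1
    have hP1K : P₁ ≤ K := Subgroup.map_subtype_le _
    have hfr : Subgroup.normalizer (P₁ : Set G) ⊔ K = ⊤ := Sylow.normalizer_sup_eq_top P
    have hP1rel : P₁.relIndex K = (P : Subgroup K).index := by
      rw [Subgroup.relIndex, Subgroup.subgroupOf, hP1,
        Subgroup.comap_map_eq_self_of_injective K.subtype_injective]
    have hKsup : K ≤ P₁ ⊔ N := by
      rw [← Subgroup.relIndex_eq_one]
      refine Nat.eq_one_of_dvd_coprimes (a := (P : Subgroup K).index) (b := Nat.card Qb) ?_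
        (hP1rel ▸ Subgroup.relIndex_dvd_of_le_left K le_sup_left) ?_
      · obtain ⟨k, hk⟩ := IsPGroup.iff_card.mp hQbp
        rw [hk]
        exact ((Nat.Prime.coprime_iff_not_dvd hq).mpr P.not_dvd_index).symm.pow_right k
      · refine (Subgroup.relIndex_dvd_of_le_left K le_sup_right).trans (dvd_of_eq ?_)
        have h1 := Subgroup.relIndex_mul_relIndex ⊥ N K bot_le hNK
        rw [Subgroup.relIndex_bot_left, Subgroup.relIndex_bot_left, hcomap, mul_comm (Nat.card Qb)] at h1
        exact Nat.eq_of_mul_eq_mul_left Nat.card_pos h1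
    by_cases htop : Subgroup.normalizer (P₁ : Set G) = ⊤
    · refine ⟨q, hq, hqG, P₁, Subgroup.normalizer_eq_top_iff.mp htop, P.isPGroup'.map _, ?_⟩
      rw [← Subgroup.relIndex_mul_index hP1K, hP1rel]
      exact fun hd => (hq.dvd_mul.mp hd).elim P.not_dvd_index hKi
    exfalso
    obtain ⟨M, hM, hle⟩ := (eq_top_or_exists_le_coatom _).resolve_left htop
    have hsup : N ⊔ M = ⊤ := by
      rw [eq_top_iff, ← hfr]
      exact sup_le (hle.trans le_sup_right) (hKsup.trans (sup_le
        (Subgroup.le_normalizer.trans (hle.trans le_sup_right)) le_sup_left))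
    haveI := Cfsg.Agent.H31.inf_normal_of_supplement hNc hsup
    rcases hNmin (N ⊓ M) inferInstance inf_le_left with h0 | h0
    · have hc : Subgroup.IsComplement' N M := Subgroup.isComplement'_of_disjoint_and_mul_eq_univ
        (disjoint_iff.mpr h0) (by rw [← Subgroup.normal_mul, hsup, Subgroup.coe_top])
      have hco := h M hM
      rw [hc.index_eq_card, ← hc.symm.index_eq_card] at hco
      exact Nat.not_coprime_of_dvd_of_dvd hp.one_lt hidx hpN hco
    · have : N ≤ M := inf_eq_left.mp h0
      rw [sup_of_le_right this] at hsup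
      exact hM.1 hsup

/-- Let G be a nontrivial finite solvable group in which every maximal subgroup has order coprime to its index. Then for some prime p dividing the order of G the Sylow p-subgroups of G are normal. -/
theorem result {G : Type*} [Group G] [Finite G] [Group.IsSolvable G] [Nontrivial G] (h : ∀ M : Subgroup G, IsCoatom M → (Nat.card M).Coprime M.index) : ∃ p : ℕ, p.Prime ∧ p ∣ Nat.card G ∧ ∀ P : Sylow p G, (P : Subgroup G).Normal := by
  obtain ⟨p, hp, hpd, P, hPn, hPp, hPi⟩ := aux (Nat.card G) G le_rfl h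
  haveI := Fact.mk hp
  refine ⟨p, hp, hpd, fun Q => ?_⟩
  haveI : ((hPp.toSylow hPi : Sylow p G) : Subgroup G).Normal := by
    rw [IsPGroup.toSylow_coe]; exact hPn
  haveI := Sylow.unique_of_normal (hPp.toSylow hPi) inferInstance
  rw [Subsingleton.elim Q (hPp.toSylow hPi)]
  infer_instance

end Cfsg.Agent.S0553
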