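import Cfsg.Statements.S0554
import Cfsg.Agent.H31.Basic

set_option autoImplicit false
open Cfsg

namespace Cfsg.Agent.S0554

universe u

/-- An element of a normal subgroup can be moved into any chosen factor of a product. -/
theorem absorb {G : Type*} [Group G] (N : Subgroup G) [hN : N.Normal] :
    ∀ (t : ℕ) (s : Fin t → G) (j : Fin t) (n : G), n ∈ N →
      ∃ n' ∈ N, (List.ofFn s).prod * n = (List.ofFn (Function.update s j (s j * n'))).prod := by
  intro t
  induction t with
  | zero => exact fun s j => j.elim0
  | succ t ih =>
    intro s j n hn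
    induction j using Fin.cases with
    | zero =>
      set r := (List.ofFn fun i : Fin t => s i.succ).prod with hr
      refine ⟨r * n * r⁻¹, hN.conj_mem n hn r, ?_⟩
      rw [List.ofFn_succ, List.ofFn_succ, List.prod_cons, List.prod_cons, Function.update_self]
      have : (fun i : Fin t => Function.update s 0 (s 0 * (r * n * r⁻¹)) i.succ)
          = fun i : Fin t => s i.succ := by
        funext i
        exact Function.update_of_ne (Fin.succ_ne_zero i) _ _
      rw [this, ← hr]
      group
    | succ j =>
      obtain ⟨n', hn', he⟩ := ih (fun i => s i.succ) j n hn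
      refine ⟨n', hn', ?_⟩
      rw [List.ofFn_succ, List.ofFn_succ, List.prod_cons, List.prod_cons, mul_assoc, he]
      have h0 : Function.update s j.succ (s j.succ * n') 0 = s 0 :=
        Function.update_of_ne (Fin.succ_ne_zero j).symm _ _
      have h1 : (fun i : Fin t => Function.update s j.succ (s j.succ * n') i.succ)
          = Function.update (fun i : Fin t => s i.succ) j (s j.succ * n') :=
        Function.update_comp_eq_of_injective s (Fin.succ_injective t) j _
      rw [h0, h1]

theorem aux : ∀ n : ℕ, ∀ (G : Type u) [Group G] [Finite G] [Group.IsSolvable G],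
    Nat.card G ≤ n → ∀ (t : ℕ) (p : Fin t → ℕ), (∀ i, (p i).Prime) →
      (∀ q : ℕ, q.Prime → q ∣ Nat.card G → ∃ i, p i = q) →
      ∀ S : (i : Fin t) → Sylow (p i) G, ∀ g : G,
        ∃ s : (i : Fin t) → G, (∀ i, s i ∈ (S i : Subgroup G)) ∧ g = (List.ofFn s).prod := by
  intro n
  induction n with
  | zero =>
    intro G _ _ _ hn
    exact absurd hn (Nat.not_le.mpr Nat.card_pos)
  | succ n ih =>
    intro G _ _ _ hn t p hp hall S g
    cases subsingleton_or_nontrivial G with
    | inl hs => exact ⟨fun _ => 1, fun i => one_mem _, Subsingleton.elim _ _⟩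
    | inr hnt =>
      obtain ⟨N, -, hN, hNne, -, -, q, hq, -, hNp, hqN⟩ :=
        Cfsg.Agent.H31.exists_minNormal_elementary
          (inferInstance : (⊤ : Subgroup G).Normal) (bot_ne_top.symm)
      haveI := hN
      haveI hpf : ∀ i, Fact (p i).Prime := fun i => ⟨hp i⟩
      obtain ⟨j, rfl⟩ := hall q hq (hqN.trans N.card_subgroup_dvd_card)
      set π := QuotientGroup.mk' N with hπ
      have hsurj : Function.Surjective π := QuotientGroup.mk'_surjective N
      have hcardQ : Nat.card (G ⧸ N) < Nat.card G := by
        rw [N.card_eq_card_quotient_mul_card_subgroup]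
        exact lt_mul_of_one_lt_right Nat.card_pos ((Subgroup.one_lt_card_iff_ne_bot N).mpr hNne)
      obtain ⟨sb, hsb, hgb⟩ := ih (G ⧸ N) (by omega) t p hp
        (fun r hr hd => hall r hr (hd.trans N.card_quotient_dvd_card))
        (fun i => (S i).mapSurjective hsurj) (π g)
      have hpre : ∀ i, ∃ s : G, s ∈ (S i : Subgroup G) ∧ π s = sb i := fun i => by
        have h1 : sb i ∈ (S i : Subgroup G).map π := hsb i
        obtain ⟨s, hs, he⟩ := h1
        exact ⟨s, hs, he⟩
      choose s hs hsπ using hpre
      have hg : π (List.ofFn s).prod = π g := by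
        rw [map_list_prod, List.map_ofFn, hgb]
        exact congrArg (fun f => (List.ofFn f).prod) (funext hsπ)
      have hn' : (List.ofFn s).prod⁻¹ * g ∈ N := QuotientGroup.eq.mp hg
      obtain ⟨m, hm, he⟩ := absorb N t s j _ hn'
      refine ⟨Function.update s j (s j * m), fun i => ?_, ?_⟩
      · by_cases hij : i = j
        · subst hij
          rw [Function.update_self]
          exact mul_mem (hs i) (hNp.le_sylow_of_normal (S i) hm)
        · rw [Function.update_of_ne hij]
          exact hs i
      · rw [← he, mul_inv_cancel_left]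

/-- Let G be a finite solvable group and let S assign to each of t distinct primes, including every prime divisor of the order of G, a Sylow subgroup of G. Then every element of G is a product s_0 s_1 ⋯ s_(t-1) with s_i in S i, the factors taken in the given order. -/
theorem result {G : Type*} [Group G] [Finite G] [Group.IsSolvable G] (t : ℕ) (p : Fin t → ℕ) (hp : ∀ i, (p i).Prime) (hinj : Function.Injective p) (hall : ∀ q : ℕ, q.Prime → q ∣ Nat.card G → ∃ i, p i = q) (S : (i : Fin t) → Sylow (p i) G) : ∀ g : G, ∃ s : (i : Fin t) → G, (∀ i, s i ∈ (S i : Subgroup G)) ∧ g = (List.ofFn s).prod := by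
  exact fun g => aux (Nat.card G) G le_rfl t p hp hall S g

end Cfsg.Agent.S0554
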