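import Cfsg.Statements.S0555
import Cfsg.Agent.H31.Basic

set_option autoImplicit false
open Cfsg

namespace Cfsg.Agent.S0555

/-- Let i ≥ 1. If in the derived series of a group the quotient of the i-th term by the (i+1)-st and the quotient of the (i+1)-st by the (i+2)-nd are both cyclic, then the (i+1)-st and (i+2)-nd terms coincide. -/
theorem result {G : Type*} [Group G] (i : ℕ) (hi : 1 ≤ i) (h₁ : IsCyclic (↥(derivedSeries G i) ⧸ (derivedSeries G (i + 1)).subgroupOf (derivedSeries G i))) (h₂ : IsCyclic (↥(derivedSeries G (i + 1)) ⧸ (derivedSeries G (i + 2)).subgroupOf (derivedSeries G (i + 1)))) : derivedSeries G (i + 1) = derivedSeries G (i + 2) := by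
  set A := derivedSeries G (i + 1) with hA
  set C := derivedSeries G (i + 2) with hC
  set D := derivedSeries G i with hD
  haveI : C.Normal := derivedSeries_normal G _
  have hCA : C ≤ A := derivedSeries_antitone G (by omega)
  have hAD : A ≤ D := derivedSeries_antitone G (by omega)
  have hD1 : D ≤ commutator G := by
    rw [hD, ← derivedSeries_one]; exact derivedSeries_antitone G hi
  refine le_antisymm ?_ hCA
  rw [hA, derivedSeries_succ, Subgroup.commutator_le]
  intro x hx y hy
  set π := QuotientGroup.mk' C with hπ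
  haveI hAn : (A.map π).Normal :=
    (derivedSeries_normal G _).map π (QuotientGroup.mk'_surjective C)
  haveI : IsCyclic (A.map π) := by
    haveI := h₂
    refine isCyclic_of_surjective (QuotientGroup.lift (C.subgroupOf A)
      (π.subgroupMap A) ?_) ?_
    · intro z hz
      rw [MonoidHom.mem_ker]
      ext
      exact (QuotientGroup.eq_one_iff (z : G)).mpr hz
    · intro w
      obtain ⟨z, rfl⟩ := π.subgroupMap_surjective A w
      exact ⟨QuotientGroup.mk z, rfl⟩
  have hker : ∀ d ∈ D, ∀ a ∈ A, π d * π a = π a * π d := by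
    intro d hd a ha
    have hle : commutator G ≤ ((MulAut.conjNormal (H := A.map π)).comp π).ker := by
      rw [commutator_def, Subgroup.commutator_le]
      intro u _ v _
      rw [MonoidHom.mem_ker, map_commutatorElement, commutatorElement_eq_one_iff_mul_comm]
      obtain ⟨m, hm⟩ := MonoidHom.map_cyclic
        (((MulAut.conjNormal (H := A.map π)).comp π) u).toMonoidHom
      obtain ⟨n, hn⟩ := MonoidHom.map_cyclic
        (((MulAut.conjNormal (H := A.map π)).comp π) v).toMonoidHom
      ext1 g
      simp only [MulEquiv.coe_toMonoidHom] at hm hn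
      simp only [MulAut.mul_apply]
      rw [hn, map_zpow, hm, map_zpow, hn, ← zpow_mul, ← zpow_mul, mul_comm]
    have := DFunLike.congr_fun (MonoidHom.mem_ker.mp (hle (hD1 hd))) ⟨π a, a, ha, rfl⟩
    simp only [MonoidHom.comp_apply, MulAut.one_apply] at this
    have h' := congrArg Subtype.val this
    rw [MulAut.conjNormal_apply] at h'
    exact mul_inv_eq_iff_eq_mul.mp h'
  haveI := h₁
  haveI : (A.subgroupOf D).Normal := (derivedSeries_normal G _).comap _
  obtain ⟨g, hg⟩ := IsCyclic.exists_generator (α := D ⧸ A.subgroupOf D)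
  obtain ⟨g, rfl⟩ := QuotientGroup.mk_surjective g
  have key : ∀ z : D, ∃ n : ℤ, ∃ a ∈ A, (z : G) = (g : G) ^ n * a := by
    intro z
    obtain ⟨n, hn⟩ := Subgroup.mem_zpowers_iff.mp (hg (QuotientGroup.mk z))
    rw [← QuotientGroup.mk_zpow, QuotientGroup.eq, Subgroup.mem_subgroupOf] at hn
    exact ⟨n, _, hn, by simp⟩
  obtain ⟨m, a, ha, rfl⟩ : ∃ n : ℤ, ∃ a ∈ A, x = (g : G) ^ n * a := key ⟨x, hx⟩
  obtain ⟨n, b, hb, rfl⟩ : ∃ n : ℤ, ∃ a ∈ A, y = (g : G) ^ n * a := key ⟨y, hy⟩
  show _ ∈ C
  rw [← QuotientGroup.eq_one_iff]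
  show π _ = 1
  rw [map_commutatorElement, commutatorElement_eq_one_iff_mul_comm, map_mul, map_mul,
    map_zpow, map_zpow]
  have c1 : Commute (π g) (π a) := hker g g.2 a ha
  have c2 : Commute (π g) (π b) := hker g g.2 b hb
  have c3 : Commute (π a) (π b) := hker a (hAD ha) b hb
  have e1 : Commute ((π g) ^ m * π a) ((π g) ^ n * π b) :=
    Commute.mul_left (Commute.mul_right (Commute.zpow_zpow_self _ _ _) (c2.zpow_left m))
      (Commute.mul_right (c1.symm.zpow_right n) c3)
  exact e1.eq

end Cfsg.Agent.S0555
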