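import Cfsg.Statements.S0556
import Cfsg.Agent.H31.AbelianTI

set_option autoImplicit false
open Cfsg

namespace Cfsg.Agent.S0556

open scoped commutatorElement

/-- If a finite group has a maximal subgroup that is abelian, then the third term of its derived series is trivial (so the group is solvable of derived length at most three). -/
theorem result {G : Type*} [Group G] [Finite G] (A : Subgroup G) (hA : IsCoatom A) [IsMulCommutative A] : derivedSeries G 3 = ⊥ := by
  have hc : ∀ x ∈ A, ∀ y ∈ A, x * y = y * x := fun x hx y hy =>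
    congrArg Subtype.val (mul_comm' (⟨x, hx⟩ : A) ⟨y, hy⟩)
  suffices h : ∀ u v w z : G, ⁅⁅u, v⁆, ⁅w, z⁆⁆ ∈ Subgroup.center G by
    have h2 : derivedSeries G 2 ≤ Subgroup.center G := by
      rw [show (2 : ℕ) = 1 + 1 from rfl, derivedSeries_succ, derivedSeries_one, commutator_def,
        Subgroup.commutator_le]
      intro x hx y hy
      rw [← QuotientGroup.eq_one_iff]
      show QuotientGroup.mk' (Subgroup.center G) _ = 1
      rw [map_commutatorElement, commutatorElement_eq_one_iff_mul_comm]
      set π := QuotientGroup.mk' (Subgroup.center G) with hπ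
      have hgen : ∀ u v w z : G, π ⁅u, v⁆ * π ⁅w, z⁆ = π ⁅w, z⁆ * π ⁅u, v⁆ := fun u v w z => by
        rw [← commutatorElement_eq_one_iff_mul_comm, ← map_commutatorElement]
        exact (QuotientGroup.eq_one_iff _).mpr (h u v w z)
      rw [Subgroup.commutator_def] at hx hy
      have h3 : ∀ u v : G, π y * π ⁅u, v⁆ = π ⁅u, v⁆ * π y := by
        intro u v
        clear hx
        induction hy using Subgroup.closure_induction with
        | mem t ht =>
          obtain ⟨w, -, z, -, rfl⟩ := ht
          exact hgen w z u v
        | one => simp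
        | mul a b _ _ ha hb => rw [map_mul, mul_assoc, hb, ← mul_assoc, ha, mul_assoc]
        | inv a _ ha => rw [map_inv]; exact ((Commute.inv_left ha : Commute (π a)⁻¹ (π ⁅u, v⁆))).eq
      induction hx using Subgroup.closure_induction with
      | mem t ht =>
        obtain ⟨u, -, v, -, rfl⟩ := ht
        exact (h3 u v).symm
      | one => simp
      | mul a b _ _ ha hb => rw [map_mul, mul_assoc, hb, ← mul_assoc, ha, mul_assoc]
      | inv a _ ha => rw [map_inv]; exact ((Commute.inv_left ha : Commute (π a)⁻¹ (π y))).eq
    rw [eq_bot_iff]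
    calc derivedSeries G 3 = ⁅derivedSeries G 2, derivedSeries G 2⁆ := derivedSeries_succ G 2
      _ ≤ ⁅Subgroup.center G, Subgroup.center G⁆ := Subgroup.commutator_mono h2 h2
      _ ≤ ⊥ := by
        rw [Subgroup.commutator_le]
        intro a ha b _
        rw [Subgroup.mem_bot, commutatorElement_eq_one_iff_mul_comm]
        exact (Subgroup.mem_center_iff.mp ha b).symm
  intro u v w z
  by_cases hn : A.Normal
  · haveI := hn
    have hA : ∀ u v : G, ⁅u, v⁆ ∈ A := fun u v =>
      Cfsg.Agent.H31.commutator_le_of_isCoatom hA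
        (Subgroup.commutator_mem_commutator (Subgroup.mem_top u) (Subgroup.mem_top v))
    rw [commutatorElement_eq_one_iff_mul_comm.mpr (hc _ (hA u v) _ (hA w z))]
    exact one_mem _
  set Z := Subgroup.center G with hZ
  have hN : Subgroup.normalizer (A : Set G) = A := by
    rcases hA.le_iff.mp (Subgroup.le_normalizer : A ≤ _) with h | h
    · exact absurd (Subgroup.normalizer_eq_top_iff.mp h) hn
    · exact h
  have hZA : Z ≤ A := fun z hz => by
    rw [← hN, Subgroup.mem_normalizer_iff]
    intro a
    rw [← Subgroup.mem_center_iff.mp hz a, mul_inv_cancel_right]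
  set π := QuotientGroup.mk' Z with hπ
  have hsurj : Function.Surjective π := QuotientGroup.mk'_surjective Z
  have hcm : (A.map π).comap π = A :=
    Subgroup.comap_map_eq_self (by rw [hπ, QuotientGroup.ker_mk']; exact hZA)
  have hco : IsCoatom (A.map π) := by
    refine ⟨fun h => hA.1 ?_, fun B hB => ?_⟩
    · rw [← hcm, h, Subgroup.comap_top]
    · have : A < B.comap π := by
        rw [← hcm]
        refine lt_of_le_of_ne (Subgroup.comap_mono hB.le) fun e => hB.ne ?_
        exact Subgroup.comap_injective hsurj e
      rw [← Subgroup.map_comap_eq_self_of_surjective hsurj B, hA.2 _ this,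
        Subgroup.map_top_of_surjective π hsurj]
  have hmem : ∀ {x : G}, π x ∈ A.map π ↔ x ∈ A := fun {x} => by
    conv_rhs => rw [← hcm]
    exact Iff.rfl
  have hbne : A.map π ≠ ⊥ := by
    intro e
    apply hn
    have hAZ : A ≤ Z := by rw [← hcm, e, MonoidHom.comap_bot, hπ, QuotientGroup.ker_mk']
    rw [le_antisymm hAZ hZA]
    infer_instance
  have key := Cfsg.Agent.H31.metabelian_of_abelian_TI_coatom hco
    (by rintro _ ⟨x, hx, rfl⟩ _ ⟨y, hy, rfl⟩; rw [← map_mul, ← map_mul, hc x hx y hy]) hbne
    (fun g hg x hx hgx => by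
      obtain ⟨g, rfl⟩ := hsurj g
      obtain ⟨x, hxA, rfl⟩ := hx
      rw [← map_inv, ← map_mul, ← map_mul, hmem] at hgx
      rw [hmem] at hg
      refine (QuotientGroup.eq_one_iff x).mpr ?_
      rw [hZ, Subgroup.mem_center_iff]
      intro y
      -- `x` commutes with `A` and with `g A g⁻¹`
      set A' := A.map (MulAut.conj g).toMonoidHom with hA'
      have hxA' : x ∈ A' := ⟨g⁻¹ * x * g, hgx, by simp [mul_assoc]⟩
      have hA'ne : ¬ A' ≤ A := by
        intro hle
        apply hg
        rw [← hN]
        exact Cfsg.Agent.H31.mem_normalizer_of_map_conj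
          (Subgroup.eq_of_le_of_card_ge hle (le_of_eq (Subgroup.card_map_of_injective (MulAut.conj g).injective).symm))
      have hle : A ⊔ A' ≤ Subgroup.centralizer {x} := by
        refine sup_le (fun a ha => ?_) ?_
        · rw [Subgroup.mem_centralizer_iff]
          rintro t rfl
          exact hc _ hxA a ha
        · rintro _ ⟨a, ha, rfl⟩
          rw [Subgroup.mem_centralizer_iff]
          intro t ht
          obtain ⟨x', hx', he⟩ := hxA'
          rw [Set.mem_singleton_iff.mp ht, ← he, ← map_mul, ← map_mul, hc x' hx' a ha]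
      rw [hA.2 _ (left_lt_sup.mpr hA'ne)] at hle
      exact (Subgroup.mem_centralizer_iff.mp (hle (Subgroup.mem_top y)) x rfl).symm)
    (π u) (π v) (π w) (π z)
  rw [← map_commutatorElement, ← map_commutatorElement, ← map_commutatorElement] at key
  exact (QuotientGroup.eq_one_iff _).mp key

end Cfsg.Agent.S0556
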