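import Cfsg.Statements.S0558
import Cfsg.Agent.Hall.FocalIterate
import Cfsg.Agent.H31.Basic

set_option autoImplicit false
open Cfsg

namespace Cfsg.Agent.S0558

open scoped Pointwise commutatorElement

section

variable {G : Type*} [Group G] [Finite G] (H : Subgroup G)
  (hnorm : ∀ p : ℕ, p.Prime → p ∣ Nat.card H → ∀ P : Sylow p H,
    Subgroup.normalizer (((P : Subgroup H).map H.subtype : Subgroup G) : Set G) = H)

include hnorm

theorem exists_sylow_eq {p : ℕ} [Fact p.Prime] (hp : p ∣ Nat.card H) (P : Sylow p H) :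
    ∃ S : Sylow p G, (S : Subgroup G) = (P : Subgroup H).map H.subtype := by
  obtain ⟨S, hS⟩ := (P.2.map H.subtype).exists_le_sylow
  refine ⟨S, le_antisymm ?_ hS⟩
  by_contra hne
  set Pm := (P : Subgroup H).map H.subtype
  have : Group.IsNilpotent (S : Subgroup G) := S.2.isNilpotent
  have hlt : Pm.subgroupOf (S : Subgroup G) < ⊤ := lt_top_iff_ne_top.mpr fun h =>
    hne (Subgroup.subgroupOf_eq_top.mp h)
  have hgt := Group.normalizerCondition_of_isNilpotent (Pm.subgroupOf (S : Subgroup G)) hlt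
  obtain ⟨x, hx, hxn⟩ := SetLike.exists_of_lt hgt
  rw [← Subgroup.subgroupOf_normalizer_eq hS, Subgroup.mem_subgroupOf,
    hnorm p Fact.out hp P] at hx
  refine hxn (Subgroup.mem_subgroupOf.mpr ⟨⟨(x : G), hx⟩, ?_, rfl⟩)
  have hle : (P : Subgroup H) ≤ (S : Subgroup G).subgroupOf H := fun y hy =>
    hS ⟨y, hy, rfl⟩
  have heq := P.3 (S.2.comap_of_injective H.subtype H.subtype_injective) hle
  rw [SetLike.mem_coe, ← heq]
  exact x.2

theorem isNilpotent_H : Group.IsNilpotent H := by
  apply (Group.isNilpotent_of_finite_tfae.out 0 3 rfl rfl).mpr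
  intro p hp P
  by_cases hd : p ∣ Nat.card H
  · have h := hnorm p hp.out hd P
    refine ⟨fun y hy g => ?_⟩
    have hg : (g : G) ∈ Subgroup.normalizer (((P : Subgroup H).map H.subtype : Subgroup G) : Set G) :=
      h.symm ▸ g.2
    obtain ⟨z, hz, hze⟩ := (Subgroup.mem_normalizer_iff.mp hg (y : G)).mp ⟨y, hy, rfl⟩
    have : z = g * y * g⁻¹ := Subtype.ext hze
    exact this ▸ hz
  · have : (P : Subgroup H) = ⊥ := by
      rw [← Subgroup.card_eq_one, P.card_eq_multiplicity, Nat.factorization_eq_zero_of_not_dvd hd,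
        pow_zero]
    rw [this]; infer_instance

theorem coprime_index : (Nat.card H).Coprime H.index := by
  refine Nat.coprime_of_dvd fun p hp hpc hpi => ?_
  have : Fact p.Prime := ⟨hp⟩
  obtain ⟨P⟩ := (inferInstance : Nonempty (Sylow p H))
  obtain ⟨S, hS⟩ := exists_sylow_eq H hnorm hpc P
  exact S.not_dvd_index
    (hpi.trans (Subgroup.index_dvd_of_le (hS ▸ Subgroup.map_subtype_le (P : Subgroup H))))

theorem exists_conj_pelement (hne : ∀ p : ℕ, p.Prime → ∀ P : Sylow p G, (P : Subgroup G) ≠ H)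
    {p k : ℕ} (hp : p.Prime) {x : G} (hx : x ∈ H) (hxp : x ^ p ^ k = 1) {u : G}
    (hux : u * x * u⁻¹ ∈ H) : ∃ h ∈ H, h * x * h⁻¹ = u * x * u⁻¹ := by
  have : Fact p.Prime := ⟨hp⟩
  have hnil := isNilpotent_H H hnorm
  obtain ⟨q, hq, hqd, hqp⟩ : ∃ q : ℕ, q.Prime ∧ q ∣ Nat.card H ∧ q ≠ p := by
    by_contra hno
    have hH : IsPGroup p H := by
      refine IsPGroup.of_card (n := (Nat.card H).primeFactorsList.length) ?_
      exact Nat.eq_prime_pow_of_unique_prime_dvd Nat.card_pos.ne' fun {d} hd hdd =>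
        by_contra fun hne' => hno ⟨d, hd, hdd, hne'⟩
    by_cases hpd : p ∣ Nat.card H
    · obtain ⟨P⟩ := (inferInstance : Nonempty (Sylow p H))
      obtain ⟨S, hS⟩ := exists_sylow_eq H hnorm hpd P
      refine hne p hp S (hS.trans ?_)
      have hP : (P : Subgroup H) = ⊤ :=
        (P.3 (hH.of_equiv Subgroup.topEquiv.symm) le_top).symm
      rw [hP, ← MonoidHom.range_eq_map, Subgroup.range_subtype]
    · obtain ⟨m, hm, hmp⟩ := Nat.exists_infinite_primes (Nat.card G + 1)
      have : Fact m.Prime := ⟨hmp⟩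
      obtain ⟨P⟩ := (inferInstance : Nonempty (Sylow m G))
      have hmG : ¬ m ∣ Nat.card G := fun h => by
        have := Nat.le_of_dvd Nat.card_pos h; omega
      have hP1 : Nat.card P = 1 := by
        rw [P.card_eq_multiplicity, Nat.factorization_eq_zero_of_not_dvd hmG, pow_zero]
      have hH1 : Nat.card H = 1 := by
        obtain ⟨j, hj⟩ := IsPGroup.iff_card.mp hH
        rcases j with _ | j
        · simpa using hj
        · exact absurd (hj ▸ dvd_pow_self p j.succ_ne_zero) hpd
      exact hne m hmp P ((Subgroup.card_eq_one.mp hP1).trans (Subgroup.card_eq_one.mp hH1).symm)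
  have : Fact q.Prime := ⟨hq⟩
  obtain ⟨Q⟩ := (inferInstance : Nonempty (Sylow q H))
  obtain ⟨S, hS⟩ := exists_sylow_eq H hnorm hqd Q
  have hcomm : ∀ z : G, z ∈ H → z ^ p ^ k = 1 → ∀ w ∈ (S : Subgroup G), z * w = w * z := by
    intro z hz hzp w hw
    rw [hS] at hw
    obtain ⟨w', hw', rfl⟩ := hw
    obtain ⟨j, hj⟩ := Q.2 ⟨w', hw'⟩
    have hj' : w' ^ q ^ j = 1 := by simpa using congrArg Subtype.val hj
    refine congrArg Subtype.val (H31.commute_of_coprime_orderOf (x := (⟨z, hz⟩ : H)) (y := w') ?_)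
    have h1 : orderOf (⟨z, hz⟩ : H) ∣ p ^ k := orderOf_dvd_of_pow_eq_one (Subtype.ext (by simpa using hzp))
    exact Nat.Coprime.coprime_dvd_left h1
      ((Nat.coprime_pow_primes k j hp hq hqp.symm).coprime_dvd_right (orderOf_dvd_of_pow_eq_one hj'))
  set y := u * x * u⁻¹ with hy
  set C := Subgroup.centralizer ({y} : Set G) with hC
  have hyp : y ^ p ^ k = 1 := by rw [hy, conj_pow, hxp, mul_one, mul_inv_cancel]
  have h1 : (S : Subgroup G) ≤ C := fun w hw => by
    rw [hC, Subgroup.mem_centralizer_singleton_iff]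
    exact (hcomm y hux hyp w hw).symm
  have h2 : ((u • S : Sylow q G) : Subgroup G) ≤ C := by
    intro w hw
    change w ∈ MulAut.conj u • (S : Subgroup G) at hw
    rw [Hall.mem_conj_smul] at hw
    have h := hcomm x hx hxp _ hw
    rw [hC, Subgroup.mem_centralizer_singleton_iff, hy]
    calc w * (u * x * u⁻¹) = u * ((u⁻¹ * w * u) * x) * u⁻¹ := by group
      _ = u * (x * (u⁻¹ * w * u)) * u⁻¹ := by rw [h]
      _ = u * x * u⁻¹ * w := by group
  obtain ⟨c, hc⟩ := MulAction.exists_smul_eq C ((u • S).subtype h2) (S.subtype h1)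
  rw [Sylow.smul_subtype] at hc
  have hc' : (c : G) • u • S = S := Sylow.subtype_injective hc
  rw [← mul_smul] at hc'
  have hN := Sylow.smul_eq_iff_mem_normalizer.mp hc'
  rw [← Sylow.coe_coe, hS, hnorm q hq hqd Q] at hN
  refine ⟨(c : G) * u, hN, ?_⟩
  have hcy : (c : G) * y = y * c := Subgroup.mem_centralizer_singleton_iff.mp c.2
  calc (c : G) * u * x * ((c : G) * u)⁻¹ = (c : G) * y * (c : G)⁻¹ := by rw [hy]; group
    _ = y := by rw [hcy, mul_inv_cancel_right]

theorem inv_mul_conj_mem (hne : ∀ p : ℕ, p.Prime → ∀ P : Sylow p G, (P : Subgroup G) ≠ H)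
    (i : ℕ) {x u : G} (hxK : x ∈ H.lowerCentralSeries i) (hux : u * x * u⁻¹ ∈ H) :
    x⁻¹ * (u * x * u⁻¹) ∈ H.lowerCentralSeries (i + 1) := by
  have hxH : x ∈ H := H.lowerCentralSeries_antitone (Nat.zero_le i) hxK
  set L := H.lowerCentralSeries (i + 1)
  have hLH : L ≤ H := H.lowerCentralSeries_antitone (Nat.zero_le _)
  set D := L.subgroupOf H with hD
  have : D.Normal := (Subgroup.normal_subgroupOf_iff_le_normalizer hLH).mpr
    (H.self_le_normalizer_lowerCentralSeries _)
  set a : H ⧸ D := ((⟨x, hxH⟩ : H) : H ⧸ D) with ha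
  set b : H ⧸ D := ((⟨u * x * u⁻¹, hux⟩ : H) : H ⧸ D) with hb
  have hcen : ∀ z : H ⧸ D, z * a = a * z := by
    intro z
    induction z using QuotientGroup.induction_on with
    | _ h =>
      have hmem : ⁅x, (h : G)⁆ ∈ L := Subgroup.commutator_mem_commutator hxK h.2
      have h1 : QuotientGroup.mk' D ⁅(⟨x, hxH⟩ : H), h⁆ = 1 :=
        (QuotientGroup.eq_one_iff _).mpr hmem
      rw [map_commutatorElement, commutatorElement_eq_one_iff_mul_comm] at h1
      exact h1.symm
  have hpow : ∀ (p k m : ℕ), p.Prime → m * p ^ k = orderOf x → b ^ m = a ^ m := by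
    intro p k m hp hm
    have hxm : (x ^ m) ^ p ^ k = 1 := by rw [← pow_mul, hm, pow_orderOf_eq_one]
    obtain ⟨h, hh, he⟩ := exists_conj_pelement H hnorm hne hp (H.pow_mem hxH m) hxm (u := u)
      (by rw [← conj_pow]; exact H.pow_mem hux m)
    rw [hb, ha, ← QuotientGroup.mk_pow, ← QuotientGroup.mk_pow]
    have e : (⟨u * x * u⁻¹, hux⟩ : H) ^ m = ⟨h, hh⟩ * (⟨x, hxH⟩ : H) ^ m * (⟨h, hh⟩ : H)⁻¹ :=
      Subtype.ext (by simp [conj_pow, he])
    have hc := Commute.pow_right (show Commute ((⟨h, hh⟩ : H) : H ⧸ D) a from hcen _) m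
    rw [e, QuotientGroup.mk_mul, QuotientGroup.mk_mul, QuotientGroup.mk_inv,
      QuotientGroup.mk_pow, ← ha, hc.eq, mul_inv_cancel_right]
  set ξ := a⁻¹ * b with hξ
  have hξpow : ∀ m : ℕ, ξ ^ m = (a ^ m)⁻¹ * b ^ m := fun m => by
    have hc : Commute a b := (hcen b).symm
    rw [hξ, hc.inv_left.mul_pow, inv_pow]
  have hn : ξ ^ orderOf x = 1 := by
    have h1 : a ^ orderOf x = 1 := by
      rw [ha, ← QuotientGroup.mk_pow, QuotientGroup.eq_one_iff]
      convert D.one_mem
      exact Subtype.ext (by simp [pow_orderOf_eq_one])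
    have h2 : b ^ orderOf x = 1 := by
      rw [hb, ← QuotientGroup.mk_pow, QuotientGroup.eq_one_iff]
      convert D.one_mem
      exact Subtype.ext (by simp [conj_pow, pow_orderOf_eq_one])
    rw [hξpow, h1, h2, inv_one, mul_one]
  have hone : ξ = 1 := by
    by_contra hne1
    obtain ⟨p, hp, hpd⟩ := Nat.exists_prime_and_dvd (orderOf_eq_one_iff.not.mpr hne1)
    have hn0 : orderOf x ≠ 0 := (orderOf_pos x).ne'
    set k := (orderOf x).factorization p
    have hm : orderOf x / p ^ k * p ^ k = orderOf x := Nat.div_mul_cancel (Nat.ordProj_dvd _ p)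
    have h1 : ξ ^ (orderOf x / p ^ k) = 1 := by
      rw [hξpow, hpow p k _ hp hm, inv_mul_cancel]
    exact Nat.not_dvd_ordCompl hp hn0 (hpd.trans (orderOf_dvd_of_pow_eq_one h1))
  rw [hξ, ha, hb, ← QuotientGroup.mk_inv, ← QuotientGroup.mk_mul, QuotientGroup.eq_one_iff] at hone
  exact hone

theorem exists_complement (hne : ∀ p : ℕ, p.Prime → ∀ P : Sylow p G, (P : Subgroup G) ≠ H) :
    ∃ N : Subgroup G, N.Normal ∧ Subgroup.IsComplement' N H := by
  obtain ⟨n, hn⟩ := (Subgroup.isNilpotent_iff_lowerCentralSeries (S := H)).mp (isNilpotent_H H hnorm)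
  refine Hall.exists_normal_complement_of_focal H (coprime_index H hnorm) n (le_bot_iff.mp ?_)
  rw [← hn]
  clear hn
  induction n with
  | zero => exact le_rfl
  | succ i ih =>
    rw [Function.iterate_succ_apply']
    refine (Hall.focalSubgroup_mono ih).trans ?_
    rw [Subgroup.focalSubgroup_def, Subgroup.closure_le]
    rintro g ⟨hg, x, hx, u, rfl⟩
    have hxH : x ∈ H := H.lowerCentralSeries_antitone (Nat.zero_le i) hx
    have hgH : ⁅x, u⁆ ∈ H := H.lowerCentralSeries_antitone (Nat.zero_le i) hg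
    have hux : u * x⁻¹ * u⁻¹ ∈ H := by
      have := H.mul_mem (H.inv_mem hxH) hgH
      simpa [commutatorElement_def, mul_assoc] using this
    have := inv_mul_conj_mem H hnorm hne i (Subgroup.inv_mem _ hx) hux
    simpa [commutatorElement_def, mul_assoc] using this

end

/-- Let H be a subgroup of a finite group G that is not a Sylow subgroup of G for any prime, and suppose that for every prime p dividing the order of H and every Sylow p-subgroup P of H the normalizer of P in G is exactly H. Then some normal subgroup of G is a complement to H. -/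
theorem result {G : Type*} [Group G] [Finite G] (H : Subgroup G) (hnot : ∀ p : ℕ, p.Prime → ∀ P : Sylow p G, (P : Subgroup G) ≠ H) (hnorm : ∀ p : ℕ, p.Prime → p ∣ Nat.card H → ∀ P : Sylow p H, Subgroup.normalizer (((P : Subgroup H).map H.subtype : Subgroup G) : Set G) = H) : ∃ N : Subgroup G, N.Normal ∧ Subgroup.IsComplement' N H := by
  exact exists_complement H hnorm hnot

end Cfsg.Agent.S0558
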