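import Cfsg.Statements.S0560
import Cfsg.Agent.H31.Product

set_option autoImplicit false
open Pointwise
open Cfsg

namespace Cfsg.Agent.S0560

open scoped Pointwise

/-- A `p`-subgroup whose order is at least the `p`-part is a Sylow subgroup. -/
theorem exists_sylow_eq {G : Type*} [Group G] [Finite G] {p : ℕ} [hp : Fact p.Prime] {X : Subgroup G}
    (hX : IsPGroup p X) {P : Sylow p G} (h : Nat.card (P : Subgroup G) ≤ Nat.card X) :
    ∃ P' : Sylow p G, (P' : Subgroup G) = X := by
  obtain ⟨S, hS⟩ := hX.exists_le_sylow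
  exact ⟨S, (Subgroup.eq_of_le_of_card_ge hS
    (le_of_eq_of_le (S.card_eq_multiplicity.trans P.card_eq_multiplicity.symm) h)).symm⟩

/-- Let the finite group G be the product HK of two subgroups and p a prime. Then there are Sylow p-subgroups P of H and Q of K and a Sylow p-subgroup R of G whose underlying set is the product set of P and Q. -/
theorem result {G : Type*} [Group G] [Finite G] (H K : Subgroup G) (hHK : ∀ g : G, ∃ h ∈ H, ∃ k ∈ K, g = h * k) (p : ℕ) [Fact p.Prime] : ∃ (P : Sylow p H) (Q : Sylow p K) (R : Sylow p G), ((R : Subgroup G) : Set G) = (((P : Subgroup H).map H.subtype : Subgroup G) : Set G) * (((Q : Subgroup K).map K.subtype : Subgroup G) : Set G) := by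
  have hp : p.Prime := Fact.out
  obtain ⟨P₀⟩ : Nonempty (Sylow p H) := inferInstance
  obtain ⟨Q₀⟩ : Nonempty (Sylow p K) := inferInstance
  set P₁ := (P₀ : Subgroup H).map H.subtype with hP1
  set Q₁ := (Q₀ : Subgroup K).map K.subtype with hQ1
  have hcP : Nat.card P₁ = Nat.card (P₀ : Subgroup H) :=
    Subgroup.card_map_of_injective H.subtype_injective
  have hcQ : Nat.card Q₁ = Nat.card (Q₀ : Subgroup K) :=
    Subgroup.card_map_of_injective K.subtype_injective
  have hP1p : IsPGroup p P₁ := P₀.isPGroup'.map _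
  have hQ1p : IsPGroup p Q₁ := Q₀.isPGroup'.map _
  obtain ⟨R₁, hR₁⟩ := hP1p.exists_le_sylow
  obtain ⟨R₂, hR₂⟩ := hQ1p.exists_le_sylow
  obtain ⟨g, hg⟩ := MulAction.exists_smul_eq G R₁ R₂
  obtain ⟨h₀, hh₀, k₀, hk₀, hg'⟩ := hHK g⁻¹
  have hgk : g = k₀⁻¹ * h₀⁻¹ := by rw [← mul_inv_rev, ← hg', inv_inv]
  set R := h₀⁻¹ • R₁ with hR
  have hRR₂ : R = k₀ • R₂ := by rw [hR, ← hg, hgk, smul_smul, mul_inv_cancel_left]
  have hRH : Nat.card (P₀ : Subgroup H) ≤ Nat.card ((R : Subgroup G).subgroupOf H) := by
    have hle : MulAut.conj h₀⁻¹ • P₁ ≤ (R : Subgroup G) ⊓ H := by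
      refine le_inf ?_ ?_
      · rw [hR, Sylow.coe_subgroup_smul]
        exact Subgroup.pointwise_smul_le_pointwise_smul_iff.mpr hR₁
      · calc MulAut.conj h₀⁻¹ • P₁ ≤ MulAut.conj h₀⁻¹ • H :=
              Subgroup.pointwise_smul_le_pointwise_smul_iff.mpr (Subgroup.map_subtype_le _)
          _ = H := Subgroup.conj_smul_eq_self_of_mem (inv_mem hh₀)
    have hc := Subgroup.card_le_of_le hle
    rw [← Nat.card_congr (Subgroup.equivSMul _ P₁).toEquiv, hcP,
      ← Subgroup.subgroupOf_map_subtype,
      Subgroup.card_map_of_injective H.subtype_injective] at hc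
    exact hc
  have hRK : Nat.card (Q₀ : Subgroup K) ≤ Nat.card ((R : Subgroup G).subgroupOf K) := by
    have hle : MulAut.conj k₀ • Q₁ ≤ (R : Subgroup G) ⊓ K := by
      refine le_inf ?_ ?_
      · rw [hRR₂, Sylow.coe_subgroup_smul]
        exact Subgroup.pointwise_smul_le_pointwise_smul_iff.mpr hR₂
      · calc MulAut.conj k₀ • Q₁ ≤ MulAut.conj k₀ • K :=
              Subgroup.pointwise_smul_le_pointwise_smul_iff.mpr (Subgroup.map_subtype_le _)
          _ = K := Subgroup.conj_smul_eq_self_of_mem hk₀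
    have hc := Subgroup.card_le_of_le hle
    rw [← Nat.card_congr (Subgroup.equivSMul _ Q₁).toEquiv, hcQ,
      ← Subgroup.subgroupOf_map_subtype,
      Subgroup.card_map_of_injective K.subtype_injective] at hc
    exact hc
  have hpR : ∀ L : Subgroup G, IsPGroup p ((R : Subgroup G).subgroupOf L) := fun L =>
    R.isPGroup'.comap_of_injective L.subtype L.subtype_injective
  obtain ⟨P, hP⟩ := exists_sylow_eq (hpR H) hRH
  obtain ⟨Q, hQ⟩ := exists_sylow_eq (hpR K) hRK
  refine ⟨P, Q, R, ?_⟩
  rw [hP, hQ, Subgroup.subgroupOf_map_subtype, Subgroup.subgroupOf_map_subtype]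
  set A := (R : Subgroup G) ⊓ H with hA
  set B := (R : Subgroup G) ⊓ K with hB
  apply Cfsg.Agent.H31.mul_eq_of_relIndex inf_le_left inf_le_left
  have hcA : Nat.card A = p ^ (Nat.card H).factorization p := by
    rw [hA, ← Subgroup.subgroupOf_map_subtype, Subgroup.card_map_of_injective H.subtype_injective,
      ← hP, P.card_eq_multiplicity]
  have hcB : Nat.card B = p ^ (Nat.card K).factorization p := by
    rw [hB, ← Subgroup.subgroupOf_map_subtype, Subgroup.card_map_of_injective K.subtype_injective,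
      ← hQ, Q.card_eq_multiplicity]
  have hcAB : Nat.card (A ⊓ B : Subgroup G) ≤ p ^ (Nat.card (H ⊓ K : Subgroup G)).factorization p := by
    have hp' : IsPGroup p (A ⊓ B : Subgroup G) :=
      R.isPGroup'.to_le (inf_le_left.trans inf_le_left)
    obtain ⟨n, hn⟩ := IsPGroup.iff_card.mp hp'
    rw [hn]
    apply Nat.pow_le_pow_right hp.pos
    rw [← hp.pow_dvd_iff_le_factorization Nat.card_pos.ne', ← hn]
    exact Subgroup.card_dvd_of_le (inf_le_inf inf_le_right inf_le_right)
  have hprod := congrArg (fun n => Nat.factorization n p) (Cfsg.Agent.H31.card_factorized hHK)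
  simp only [Nat.factorization_mul Nat.card_pos.ne' Nat.card_pos.ne', Finsupp.add_apply] at hprod
  have h1 : B.relIndex (R : Subgroup G) * Nat.card B = p ^ (Nat.card G).factorization p := by
    rw [← R.card_eq_multiplicity]
    have := Cfsg.Agent.H31.relIndex_mul_card_inf (R : Subgroup G) B
    rwa [inf_of_le_right (show B ≤ (R : Subgroup G) from inf_le_left)] at this
  have h2 := Cfsg.Agent.H31.relIndex_mul_card_inf A B
  set e := (Nat.card (H ⊓ K : Subgroup G)).factorization p
  have h3 : B.relIndex (R : Subgroup G) * (Nat.card B * p ^ e) ≤ B.relIndex A * (Nat.card B * p ^ e) := by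
    calc B.relIndex (R : Subgroup G) * (Nat.card B * p ^ e)
        = Nat.card A * Nat.card B := by
          rw [← mul_assoc, h1, hcA, hcB, ← pow_add, ← pow_add, hprod]
      _ ≤ B.relIndex A * p ^ e * Nat.card B := by
          apply Nat.mul_le_mul_right
          rw [← h2]
          exact Nat.mul_le_mul_left _ hcAB
      _ = _ := by ring
  exact Nat.le_of_mul_le_mul_right h3 (Nat.mul_pos Nat.card_pos (pow_pos hp.pos _))

end Cfsg.Agent.S0560
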