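import Cfsg.Statements.S0567
import Cfsg.Agent.H31.Basic

set_option autoImplicit false
open Cfsg

namespace Cfsg.Agent.S0567

open scoped commutatorElement

theorem forward {G : Type*} [Group G] {H : Subgroup G} (h : H.IsSubnormal) :
    ∀ L : Subgroup G, L ≤ H → ∃ m : ℕ, (fun K : Subgroup G => ⁅K, L⁆)^[m] ⊤ ≤ H := by
  induction h with
  | top => exact fun L _ => ⟨0, le_top⟩
  | step H K hle _ hn ih =>
    intro L hL
    obtain ⟨m, hm⟩ := ih L (hL.trans hle)
    refine ⟨m + 1, ?_⟩
    rw [Function.iterate_succ_apply']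
    refine le_trans (Subgroup.commutator_mono hm hL) ?_
    rw [Subgroup.commutator_le]
    intro k hk x hx
    rw [commutatorElement_def]
    exact mul_mem ((Subgroup.normal_subgroupOf_iff hle).mp hn x k hx hk) (inv_mem hx)

/-- A subgroup H of a group G is subnormal exactly when, for some m, the subgroup obtained from G by taking the commutator with H m times in succession is contained in H. -/
theorem result {G : Type*} [Group G] (H : Subgroup G) : H.IsSubnormal ↔ ∃ m : ℕ, (fun K : Subgroup G => ⁅K, H⁆)^[m] ⊤ ≤ H := by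
  constructor
  · exact fun h => forward h H le_rfl
  rintro ⟨m, hm⟩
  set K : ℕ → Subgroup G := fun j => (fun K : Subgroup G => ⁅K, H⁆)^[j] ⊤ with hK
  have hK0 : K 0 = ⊤ := rfl
  have hKs : ∀ j, K (j + 1) = ⁅K j, H⁆ := fun j => Function.iterate_succ_apply' _ j ⊤
  have hHN : ∀ j, ∀ h ∈ H, ∀ x ∈ K j, h * x * h⁻¹ ∈ K j := by
    intro j
    induction j with
    | zero => intro h _ x _; rw [hK0]; trivial
    | succ j ih =>
      intro h hh x hx
      rw [hKs] at hx ⊢
      rw [Subgroup.commutator_def] at hx
      induction hx using Subgroup.closure_induction with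
      | mem z hz =>
        obtain ⟨u, hu, v, hv, rfl⟩ := hz
        have e : h * ⁅u, v⁆ * h⁻¹ = ⁅h * u * h⁻¹, h * v * h⁻¹⁆ := by
          simp only [commutatorElement_def]; group
        rw [e]
        exact Subgroup.commutator_mem_commutator (ih h hh u hu) (mul_mem (mul_mem hh hv) (inv_mem hh))
      | one => simp
      | mul a b _ _ h1 h2 => simpa [mul_assoc] using mul_mem h1 h2
      | inv a _ h1 => simpa [mul_assoc] using inv_mem h1
  have hanti : ∀ j, K (j + 1) ≤ K j := by
    intro j
    rw [hKs, Subgroup.commutator_le]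
    intro u hu v hv
    rw [commutatorElement_def]
    have := mul_mem hu (hHN j v hv _ (inv_mem hu))
    simpa [mul_assoc] using this
  have hKN : ∀ j, ∀ k ∈ K j, ∀ x ∈ K (j + 1), k * x * k⁻¹ ∈ K (j + 1) := by
    intro j k hk x hx
    rw [hKs] at hx ⊢
    rw [Subgroup.commutator_def] at hx
    induction hx using Subgroup.closure_induction with
    | mem z hz =>
      obtain ⟨u, hu, v, hv, rfl⟩ := hz
      have e : k * ⁅u, v⁆ * k⁻¹ = ⁅k * u, v⁆ * ⁅k, v⁆⁻¹ := by
        simp only [commutatorElement_def]; group
      rw [e]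
      exact mul_mem (Subgroup.commutator_mem_commutator (mul_mem hk hu) hv)
        (inv_mem (Subgroup.commutator_mem_commutator hk hv))
    | one => simp
    | mul a b _ _ h1 h2 => simpa [mul_assoc] using mul_mem h1 h2
    | inv a _ h1 => simpa [mul_assoc] using inv_mem h1
  have hstep : ∀ j, ((H ⊔ K (j + 1)).subgroupOf (H ⊔ K j)).Normal := by
    intro j
    have hle : H ⊔ K (j + 1) ≤ H ⊔ K j := sup_le_sup_left (hanti j) H
    rw [Subgroup.normal_subgroupOf_iff_le_normalizer hle]
    refine sup_le (le_sup_left.trans Subgroup.le_normalizer) ?_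
    have key : ∀ k ∈ K j, ∀ x ∈ H ⊔ K (j + 1), k * x * k⁻¹ ∈ H ⊔ K (j + 1) := by
      intro k hk x hx
      rw [Subgroup.sup_eq_closure] at hx
      induction hx using Subgroup.closure_induction with
      | mem z hz =>
        rcases hz with hz | hz
        · have e : k * z * k⁻¹ = ⁅k, z⁆ * z := by rw [commutatorElement_def]; group
          rw [e]
          exact mul_mem (Subgroup.mem_sup_right (hKs j ▸ Subgroup.commutator_mem_commutator hk hz))
            (Subgroup.mem_sup_left hz)
        · exact Subgroup.mem_sup_right (hKN j k hk z hz)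
      | one => simp
      | mul a b _ _ h1 h2 => simpa [mul_assoc] using mul_mem h1 h2
      | inv a _ h1 => simpa [mul_assoc] using inv_mem h1
    intro k hk
    rw [Subgroup.mem_normalizer_iff]
    refine fun x => ⟨key k hk x, fun h => ?_⟩
    simpa [mul_assoc] using key k⁻¹ (inv_mem hk) _ h
  have hall : ∀ j, (H ⊔ K j).IsSubnormal := by
    intro j
    induction j with
    | zero => rw [hK0, sup_top_eq]; exact Subgroup.IsSubnormal.top
    | succ j ih => exact Subgroup.IsSubnormal.step _ _ (sup_le_sup_left (hanti j) H) ih (hstep j)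
  have := hall m
  rwa [sup_of_le_left (show K m ≤ H from hm)] at this

end Cfsg.Agent.S0567
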