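import Cfsg.Statements.S0568
import Cfsg.Agent.Hall.Systems

set_option autoImplicit false
open Cfsg

namespace Cfsg.Agent.S0568

open scoped commutatorElement

/-- Let D be the system normalizer of a Hall complement system of a finite solvable group G, and let A < B be normal subgroups with no normal subgroup of G strictly between them (a chief factor). If G centralizes B modulo A then B ≤ A ⊔ D (D covers the factor); otherwise B ∩ D ≤ A (D avoids it). -/
theorem result {G : Type*} [Group G] [Finite G] [Group.IsSolvable G] (K : Nat.Primes → Subgroup G) (hK : Cfsg.IsComplementSystem K) (A B : Subgroup G) [A.Normal] [B.Normal] (hAB : A < B) (hchief : ∀ N : Subgroup G, N.Normal → A ≤ N → N ≤ B → N = A ∨ N = B) : (⁅B, (⊤ : Subgroup G)⁆ ≤ A → B ≤ A ⊔ Cfsg.systemNormalizer K) ∧ (¬ ⁅B, (⊤ : Subgroup G)⁆ ≤ A → B ⊓ Cfsg.systemNormalizer K ≤ A) := by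
  refine ⟨fun h => Hall.le_sup_systemNormalizer hK A B h, fun hnc => ?_⟩
  set f := QuotientGroup.mk' A with hf
  have hsurj : Function.Surjective f := QuotientGroup.mk'_surjective A
  have hBn : (B.map f).Normal := Subgroup.Normal.map inferInstance f hsurj
  have hcomap : (B.map f).comap f = B := by rw [Hall.comap_map_mk', sup_eq_right.mpr hAB.le]
  have hne : B.map f ≠ ⊥ := by
    rw [Ne, Subgroup.map_eq_bot_iff, QuotientGroup.ker_mk']
    exact not_le_of_gt hAB
  have hmin : ∀ N : Subgroup (G ⧸ A), N.Normal → N ≤ B.map f → N = ⊥ ∨ N = B.map f := by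
    intro N hN hNB
    rcases hchief (N.comap f) (hN.comap f) (fun a ha => by
      rw [Subgroup.mem_comap]
      convert N.one_mem
      exact (QuotientGroup.eq_one_iff a).mpr ha) (hcomap ▸ Subgroup.comap_mono hNB) with h | h
    · left
      rw [← Subgroup.map_comap_eq_self_of_surjective hsurj N, h]
      exact QuotientGroup.map_mk'_self A
    · right
      rw [← Subgroup.map_comap_eq_self_of_surjective hsurj N, h]
  obtain ⟨hc, q, hq, hBq, -⟩ := Hall.minimal_normal_of_solvable hne hmin
  have hnc' : ¬ B.map f ≤ Subgroup.center (G ⧸ A) := by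
    intro h
    apply hnc
    rw [Subgroup.commutator_le]
    intro b hb g _
    have h1 := Subgroup.mem_center_iff.mp (h (Subgroup.mem_map_of_mem f hb)) (f g)
    rw [← QuotientGroup.eq_one_iff]
    change f ⁅b, g⁆ = 1
    rw [map_commutatorElement, commutatorElement_eq_one_iff_mul_comm]
    exact h1.symm
  have hD := Hall.inf_normalizer_eq_bot hmin hq hBq
    (Hall.IsPiHall.map hsurj (Hall.complementSystem_isPiHall hK ⟨q, hq⟩)) hnc'
  intro d hd
  obtain ⟨hdB, hdD⟩ := hd
  rw [← QuotientGroup.eq_one_iff]
  change f d = 1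
  rw [← Subgroup.mem_bot, ← hD]
  exact ⟨Subgroup.mem_map_of_mem f hdB,
    Subgroup.le_normalizer_map f
      (Subgroup.mem_map_of_mem f ((Subgroup.mem_iInf.mp hdD) ⟨q, hq⟩))⟩

end Cfsg.Agent.S0568
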