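import Cfsg.Statements.S0572
import Cfsg.Agent.H31.Basic

set_option autoImplicit false
open Cfsg

namespace Cfsg.Agent.S0572

open scoped commutatorElement

theorem exists_swap {G : Type*} [Group G] {A B : Subgroup G}
    (hAB : ∀ g : G, ∃ a ∈ A, ∃ b ∈ B, g = a * b) (g : G) : ∃ b ∈ B, ∃ a ∈ A, g = b * a := by
  obtain ⟨a, ha, b, hb, hg⟩ := hAB g⁻¹
  exact ⟨b⁻¹, inv_mem hb, a⁻¹, inv_mem ha, by rw [← mul_inv_rev, ← hg, inv_inv]⟩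

/-- Itô's Theorem: if a group G is the product AB of two abelian subgroups, then the commutator subgroup of G is abelian, i.e. the second term of the derived series is trivial. -/
theorem result {G : Type*} [Group G] (A B : Subgroup G) [IsMulCommutative A] [IsMulCommutative B] (hAB : ∀ g : G, ∃ a ∈ A, ∃ b ∈ B, g = a * b) : derivedSeries G 2 = ⊥ := by
  have hA : ∀ x ∈ A, ∀ y ∈ A, x * y = y * x := fun x hx y hy =>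
    congrArg Subtype.val (mul_comm' (⟨x, hx⟩ : A) ⟨y, hy⟩)
  have hB : ∀ x ∈ B, ∀ y ∈ B, x * y = y * x := fun x hx y hy =>
    congrArg Subtype.val (mul_comm' (⟨x, hx⟩ : B) ⟨y, hy⟩)
  set S : Set G := {z | ∃ a ∈ A, ∃ b ∈ B, ⁅a, b⁆ = z} with hS
  -- conjugation of a generator by an element of `A`
  have conjA : ∀ a ∈ A, ∀ b ∈ B, ∀ a₁ ∈ A, ∀ b₂ ∈ B, ∀ a₂ ∈ A, a₁ * b * a₁⁻¹ = b₂ * a₂ →
      a₁ * ⁅a, b⁆ * a₁⁻¹ = ⁅a, b₂⁆ := by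
    intro a ha b _ a₁ ha₁ b₂ _ a₂ ha₂ he
    have h1 : a₁ * a * a₁⁻¹ = a := by rw [hA a₁ ha₁ a ha]; group
    calc a₁ * ⁅a, b⁆ * a₁⁻¹
        = ⁅a₁ * a * a₁⁻¹, a₁ * b * a₁⁻¹⁆ := by simp only [commutatorElement_def]; group
      _ = ⁅a, b₂ * a₂⁆ := by rw [h1, he]
      _ = ⁅a, b₂⁆ * (b₂ * ((a * a₂) * a⁻¹ * a₂⁻¹) * b₂⁻¹) := by
          simp only [commutatorElement_def]; group
      _ = ⁅a, b₂⁆ := by rw [hA a ha a₂ ha₂]; group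
  have conjB : ∀ a ∈ A, ∀ b ∈ B, ∀ b₁ ∈ B, ∀ a₃ ∈ A, ∀ b₃ ∈ B, b₁ * a * b₁⁻¹ = a₃ * b₃ →
      b₁ * ⁅a, b⁆ * b₁⁻¹ = ⁅a₃, b⁆ := by
    intro a _ b hb b₁ hb₁ a₃ _ b₃ hb₃ he
    have h1 : b₁ * b * b₁⁻¹ = b := by rw [hB b₁ hb₁ b hb]; group
    calc b₁ * ⁅a, b⁆ * b₁⁻¹
        = ⁅b₁ * a * b₁⁻¹, b₁ * b * b₁⁻¹⁆ := by simp only [commutatorElement_def]; group
      _ = ⁅a₃ * b₃, b⁆ := by rw [h1, he]
      _ = a₃ * ((b₃ * b) * b₃⁻¹) * a₃⁻¹ * b⁻¹ := by simp only [commutatorElement_def]; group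
      _ = ⁅a₃, b⁆ := by rw [hB b₃ hb₃ b hb, commutatorElement_def]; group
  have hcomm : ∀ x ∈ S, ∀ y ∈ S, x * y = y * x := by
    rintro _ ⟨a, ha, b, hb, rfl⟩ _ ⟨a₀, ha₀, b₀, hb₀, rfl⟩
    obtain ⟨b₂, hb₂, a₂, ha₂, e2⟩ := exists_swap hAB (a₀⁻¹ * b * a₀⁻¹⁻¹)
    obtain ⟨a₃, ha₃, b₃, hb₃, e3⟩ := hAB (b₀⁻¹ * a * b₀⁻¹⁻¹)
    have i1 := conjA a ha b hb a₀⁻¹ (inv_mem ha₀) b₂ hb₂ a₂ ha₂ e2
    have i2 := conjB a ha b hb b₀⁻¹ (inv_mem hb₀) a₃ ha₃ b₃ hb₃ e3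
    have i3 := conjA a₃ ha₃ b hb a₀⁻¹ (inv_mem ha₀) b₂ hb₂ a₂ ha₂ e2
    have i4 := conjB a ha b₂ hb₂ b₀⁻¹ (inv_mem hb₀) a₃ ha₃ b₃ hb₃ e3
    have hz : (a₀⁻¹ * b₀⁻¹) * ⁅a, b⁆ * (a₀⁻¹ * b₀⁻¹)⁻¹
        = (b₀⁻¹ * a₀⁻¹) * ⁅a, b⁆ * (b₀⁻¹ * a₀⁻¹)⁻¹ := by
      calc (a₀⁻¹ * b₀⁻¹) * ⁅a, b⁆ * (a₀⁻¹ * b₀⁻¹)⁻¹
          = a₀⁻¹ * (b₀⁻¹ * ⁅a, b⁆ * b₀⁻¹⁻¹) * a₀⁻¹⁻¹ := by group
        _ = ⁅a₃, b₂⁆ := by rw [i2, i3]
        _ = b₀⁻¹ * (a₀⁻¹ * ⁅a, b⁆ * a₀⁻¹⁻¹) * b₀⁻¹⁻¹ := by rw [i1, i4]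
        _ = _ := by group
    calc ⁅a, b⁆ * ⁅a₀, b₀⁆
        = ⁅a₀, b₀⁆ * (a₀⁻¹ * b₀⁻¹)⁻¹ * ((b₀⁻¹ * a₀⁻¹) * ⁅a, b⁆ * (b₀⁻¹ * a₀⁻¹)⁻¹)
            * (a₀⁻¹ * b₀⁻¹) := by simp only [commutatorElement_def]; group
      _ = ⁅a₀, b₀⁆ * (a₀⁻¹ * b₀⁻¹)⁻¹ * ((a₀⁻¹ * b₀⁻¹) * ⁅a, b⁆ * (a₀⁻¹ * b₀⁻¹)⁻¹)
            * (a₀⁻¹ * b₀⁻¹) := by rw [hz]
      _ = ⁅a₀, b₀⁆ * ⁅a, b⁆ := by group
  set X := Subgroup.closure S with hX
  haveI hXc : IsMulCommutative X := Subgroup.isMulCommutative_closure hcomm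
  haveI hXn : X.Normal := by
    rw [← Subgroup.normalizer_eq_top_iff, eq_top_iff]
    intro g _
    have key : ∀ u : G, (∀ z ∈ S, u * z * u⁻¹ ∈ X) → ∀ x ∈ X, u * x * u⁻¹ ∈ X := by
      intro u hu x hx
      induction hx using Subgroup.closure_induction with
      | mem z hz => exact hu z hz
      | one => simp
      | mul x y _ _ h1 h2 => simpa [mul_assoc] using mul_mem h1 h2
      | inv x _ h1 => simpa [mul_assoc] using inv_mem h1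
    have kA : ∀ u ∈ A, ∀ z ∈ S, u * z * u⁻¹ ∈ X := by
      rintro u hu _ ⟨a, ha, b, hb, rfl⟩
      obtain ⟨b₂, hb₂, a₂, ha₂, e⟩ := exists_swap hAB (u * b * u⁻¹)
      rw [conjA a ha b hb u hu b₂ hb₂ a₂ ha₂ e]
      exact Subgroup.subset_closure ⟨a, ha, b₂, hb₂, rfl⟩
    have kB : ∀ u ∈ B, ∀ z ∈ S, u * z * u⁻¹ ∈ X := by
      rintro u hu _ ⟨a, ha, b, hb, rfl⟩
      obtain ⟨a₃, ha₃, b₃, hb₃, e⟩ := hAB (u * a * u⁻¹)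
      rw [conjB a ha b hb u hu a₃ ha₃ b₃ hb₃ e]
      exact Subgroup.subset_closure ⟨a₃, ha₃, b, hb, rfl⟩
    have memN : ∀ u : G, (∀ z ∈ S, u * z * u⁻¹ ∈ X) → (∀ z ∈ S, u⁻¹ * z * u⁻¹⁻¹ ∈ X) →
        u ∈ Subgroup.normalizer (X : Set G) := by
      intro u h1 h2
      rw [Subgroup.mem_normalizer_iff]
      refine fun x => ⟨key u h1 x, fun h => ?_⟩
      simpa [mul_assoc] using key u⁻¹ h2 _ h
    obtain ⟨a, ha, b, hb, rfl⟩ := hAB g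
    exact mul_mem (memN a (kA a ha) (kA a⁻¹ (inv_mem ha)))
      (memN b (kB b hb) (kB b⁻¹ (inv_mem hb)))
  have hD : derivedSeries G 1 ≤ X := by
    rw [derivedSeries_one, commutator_def, Subgroup.commutator_le]
    intro g _ h _
    rw [← QuotientGroup.eq_one_iff]
    show QuotientGroup.mk' X _ = 1
    have hab : ∀ a ∈ A, ∀ b ∈ B,
        Commute (QuotientGroup.mk' X a) (QuotientGroup.mk' X b) := by
      intro a ha b hb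
      refine commutatorElement_eq_one_iff_mul_comm.mp ?_
      rw [← map_commutatorElement]
      exact (QuotientGroup.eq_one_iff _).mpr (Subgroup.subset_closure ⟨a, ha, b, hb, rfl⟩)
    obtain ⟨a, ha, b, hb, rfl⟩ := hAB g
    obtain ⟨a', ha', b', hb', rfl⟩ := hAB h
    rw [map_commutatorElement, commutatorElement_eq_one_iff_mul_comm, map_mul, map_mul]
    have c1 : Commute (QuotientGroup.mk' X a) (QuotientGroup.mk' X a') :=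
      Commute.map (show Commute a a' from hA a ha a' ha') _
    have c2 : Commute (QuotientGroup.mk' X b) (QuotientGroup.mk' X b') :=
      Commute.map (show Commute b b' from hB b hb b' hb') _
    exact (Commute.mul_left (c1.mul_right (hab a ha b' hb'))
      ((hab a' ha' b hb).symm.mul_right c2)).eq
  rw [show (2 : ℕ) = 1 + 1 from rfl, derivedSeries_succ, eq_bot_iff]
  refine le_trans (Subgroup.commutator_mono hD hD) ?_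
  rw [le_bot_iff, Subgroup.commutator_eq_bot_iff_le_centralizer]
  exact Subgroup.le_centralizer X

end Cfsg.Agent.S0572
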