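import Cfsg.Statements.S0573
import Cfsg.Agent.H31.Basic
import Cfsg.Agent.H31.ItoCore
import Cfsg.Agent.S0572

set_option autoImplicit false
open Cfsg

namespace Cfsg.Agent.S0573

open scoped commutatorElement

universe u

/-- The inductive step when `A G' ≠ G`. -/
theorem step {G : Type u} [Group G] [Finite G] (A B : Subgroup G)
    (hA : ∀ x ∈ A, ∀ y ∈ A, x * y = y * x) (hB : ∀ x ∈ B, ∀ y ∈ B, x * y = y * x)
    (hW : ∀ x ∈ commutator G, ∀ y ∈ commutator G, x * y = y * x)
    (hAB : ∀ g : G, ∃ a ∈ A, ∃ b ∈ B, g = a * b) (hZ : Subgroup.center G = ⊥)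
    (hne : commutator G ≠ ⊥)
    (ih : ∀ (C D : Subgroup ↥(A ⊔ commutator G)), (∀ x ∈ C, ∀ y ∈ C, x * y = y * x) →
      (∀ x ∈ D, ∀ y ∈ D, x * y = y * x) → (∀ g, ∃ a ∈ C, ∃ b ∈ D, g = a * b) →
      ∃ N : Subgroup ↥(A ⊔ commutator G), N.Normal ∧ N ≠ ⊥ ∧ (N ≤ C ∨ N ≤ D)) :
    ∃ N : Subgroup G, N.Normal ∧ N ≠ ⊥ ∧ (N ≤ A ∨ N ≤ B) := by
  set H := A ⊔ commutator G with hH
  haveI hHn : H.Normal := by
    constructor
    intro x hx g
    have e : g * x * g⁻¹ = ⁅g, x⁆ * x := by rw [commutatorElement_def]; group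
    rw [e]
    exact mul_mem (Subgroup.mem_sup_right
      (Subgroup.commutator_mem_commutator (Subgroup.mem_top g) (Subgroup.mem_top x))) hx
  -- the centre of `H`
  set Zc := H ⊓ Subgroup.centralizer (H : Set G) with hZc
  by_cases hZc0 : Zc = ⊥
  swap
  · refine ⟨Zc, inferInstance, hZc0, Or.inl fun z hz => ?_⟩
    obtain ⟨a, ha, b, hb, rfl⟩ := hAB z
    have haH : a ∈ H := Subgroup.mem_sup_left ha
    have hzc := (Subgroup.mem_inf.mp hz).2
    have hbA : ∀ a' ∈ A, a' * b = b * a' := by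
      intro a' ha'
      have h1 := Subgroup.mem_centralizer_iff.mp hzc a' (Subgroup.mem_sup_left ha')
      have h2 := hA a' ha' a ha
      calc a' * b = a⁻¹ * (a * a') * b := by group
        _ = a⁻¹ * (a' * a) * b := by rw [h2]
        _ = a⁻¹ * (a' * (a * b)) := by group
        _ = a⁻¹ * (a * b * a') := by rw [h1]
        _ = b * a' := by group
    have hbc : b ∈ Subgroup.center G := by
      rw [Subgroup.mem_center_iff]
      intro g
      obtain ⟨a', ha', b', hb', rfl⟩ := hAB g
      calc a' * b' * b = a' * (b * b') := by rw [mul_assoc, hB b' hb' b hb]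
        _ = (a' * b) * b' := by group
        _ = b * (a' * b') := by rw [hbA a' ha']; group
    rw [hZ, Subgroup.mem_bot] at hbc
    rw [hbc, mul_one]
    exact ha
  obtain ⟨N₀, hN₀, hN₀ne, hN₀le⟩ := ih (A.subgroupOf H) (B.subgroupOf H)
    (fun x hx y hy => Subtype.ext (hA x hx y hy)) (fun x hx y hy => Subtype.ext (hB x hx y hy))
    (fun g => by
      obtain ⟨a, ha, b, hb, hg⟩ := hAB (g : G)
      have hbH : b ∈ H := by
        have : b = a⁻¹ * g := by rw [hg, inv_mul_cancel_left]
        rw [this]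
        exact mul_mem (inv_mem (Subgroup.mem_sup_left ha)) g.2
      exact ⟨⟨a, Subgroup.mem_sup_left ha⟩, ha, ⟨b, hbH⟩, hb, Subtype.ext hg⟩)
  set M₀ := N₀.map H.subtype with hM₀
  have hM₀ne : M₀ ≠ ⊥ := by
    rwa [hM₀, Ne, Subgroup.map_eq_bot_iff_of_injective _ H.subtype_injective]
  have hM₀conj : ∀ h ∈ H, ∀ x ∈ M₀, h * x * h⁻¹ ∈ M₀ := by
    rintro h hh _ ⟨x, hx, rfl⟩
    exact ⟨⟨h, hh⟩ * x * ⟨h, hh⟩⁻¹, hN₀.conj_mem x hx _, rfl⟩
  rcases hN₀le with hle | hle
  · exfalso
    apply hM₀ne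
    rw [eq_bot_iff, ← hZc0]
    rintro _ ⟨n, hn, rfl⟩
    have hnA : (n : G) ∈ A := hle hn
    refine ⟨n.2, ?_⟩
    show (n : G) ∈ Subgroup.centralizer (H : Set G)
    have hgen : H ≤ Subgroup.centralizer {(n : G)} := by
      refine sup_le (fun a ha => ?_) (fun g hg => ?_)
      · rw [Subgroup.mem_centralizer_iff]
        intro t ht
        rw [Set.mem_singleton_iff.mp ht]
        exact hA _ hnA a ha
      · rw [Subgroup.mem_centralizer_iff]
        intro t ht
        rw [Set.mem_singleton_iff.mp ht]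
        refine commutatorElement_eq_one_iff_mul_comm.mp ?_
        have hd1 : ⁅(n : G), g⁆ ∈ commutator G :=
          Subgroup.commutator_mem_commutator (Subgroup.mem_top _) (Subgroup.mem_top _)
        have hd2 : ⁅(n : G), g⁆ ∈ A := by
          obtain ⟨m, hm, hme⟩ := hM₀conj g (Subgroup.mem_sup_right hg) _
            (Subgroup.mem_map_of_mem H.subtype (inv_mem hn))
          have e : ⁅(n : G), g⁆ = (n : G) * (g * (n : G)⁻¹ * g⁻¹) := by
            rw [commutatorElement_def]; group
          rw [e]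
          refine mul_mem hnA ?_
          have : (m : G) = g * (n : G)⁻¹ * g⁻¹ := hme
          rw [← this]
          exact hle hm
        have hd3 : ⁅(n : G), g⁆ ∈ Zc := by
          refine ⟨Subgroup.mem_sup_left hd2, ?_⟩
          show ⁅(n : G), g⁆ ∈ Subgroup.centralizer (H : Set G)
          have h5 : H ≤ Subgroup.centralizer {⁅(n : G), g⁆} := by
            refine sup_le (fun a ha => ?_) (fun w hw => ?_)
            · rw [Subgroup.mem_centralizer_iff]
              intro t ht
              rw [Set.mem_singleton_iff.mp ht]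
              exact hA _ hd2 a ha
            · rw [Subgroup.mem_centralizer_iff]
              intro t ht
              rw [Set.mem_singleton_iff.mp ht]
              exact hW _ hd1 w hw
          rw [Subgroup.mem_centralizer_iff]
          exact fun h hh => (Subgroup.mem_centralizer_iff.mp (h5 hh) _ rfl).symm
        rw [hZc0, Subgroup.mem_bot] at hd3
        exact hd3
    rw [Subgroup.mem_centralizer_iff]
    exact fun h hh => (Subgroup.mem_centralizer_iff.mp (hgen hh) _ rfl).symm
  · refine ⟨Subgroup.normalClosure (M₀ : Set G), Subgroup.normalClosure_normal,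
      fun h => hM₀ne (eq_bot_iff.mpr (h ▸ Subgroup.le_normalClosure)), Or.inr ?_⟩
    rw [Subgroup.normalClosure, Subgroup.closure_le]
    intro z hz
    obtain ⟨x, hx, hc⟩ := Group.mem_conjugatesOfSet_iff.mp hz
    obtain ⟨g, rfl⟩ := isConj_iff.mp hc
    obtain ⟨a, ha, b, hb, hg⟩ := hAB g⁻¹
    have hg' : g = b⁻¹ * a⁻¹ := by rw [← mul_inv_rev, ← hg, inv_inv]
    obtain ⟨m, hm, hme⟩ := hM₀conj a⁻¹ (Subgroup.mem_sup_left (inv_mem ha)) x hx
    have hmB : (m : G) ∈ B := hle hm
    have e : g * x * g⁻¹ = b⁻¹ * (m : G) * b⁻¹⁻¹ := by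
      rw [show (m : G) = a⁻¹ * x * a⁻¹⁻¹ from hme, hg']; group
    rw [SetLike.mem_coe, e]
    exact mul_mem (mul_mem (inv_mem hb) hmB) (inv_mem (inv_mem hb))

theorem aux : ∀ n : ℕ, ∀ (G : Type u) [Group G] [Finite G] [Nontrivial G], Nat.card G ≤ n →
    ∀ (A B : Subgroup G), (∀ x ∈ A, ∀ y ∈ A, x * y = y * x) → (∀ x ∈ B, ∀ y ∈ B, x * y = y * x) →
      (∀ g : G, ∃ a ∈ A, ∃ b ∈ B, g = a * b) →
      ∃ N : Subgroup G, N.Normal ∧ N ≠ ⊥ ∧ (N ≤ A ∨ N ≤ B) := by
  intro n
  induction n with
  | zero =>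
    intro G _ _ _ hn
    exact absurd hn (Nat.not_le.mpr Nat.card_pos)
  | succ n ih =>
    intro G _ _ _ hn A B hA hB hAB
    haveI : IsMulCommutative A := ⟨⟨fun a b => Subtype.ext (hA a a.2 b b.2)⟩⟩
    haveI : IsMulCommutative B := ⟨⟨fun a b => Subtype.ext (hB a a.2 b b.2)⟩⟩
    by_cases hZ : Subgroup.center G = ⊥
    swap
    · obtain ⟨z, hz, hz1⟩ := (Subgroup.ne_bot_iff_exists_ne_one.mp hZ : ∃ z : Subgroup.center G, z ≠ 1) |>
        fun ⟨z, hz⟩ => (⟨z.1, z.2, fun e => hz (Subtype.ext e)⟩ : ∃ z : G, z ∈ Subgroup.center G ∧ z ≠ 1)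
      obtain ⟨a, ha, b, hb, rfl⟩ := hAB z
      have hzc := Subgroup.mem_center_iff.mp hz
      have hac : a ∈ Subgroup.center G := by
        rw [Subgroup.mem_center_iff]
        intro g
        obtain ⟨a', ha', b', hb', rfl⟩ := hAB g
        have e1 : b' * a = a * b' := by
          calc b' * a = b' * (a * b) * b⁻¹ := by group
            _ = (a * b) * b' * b⁻¹ := by rw [hzc b']
            _ = a * (b * b') * b⁻¹ := by group
            _ = a * (b' * b) * b⁻¹ := by rw [hB b hb b' hb']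
            _ = a * b' := by group
        calc a' * b' * a = a' * (a * b') := by rw [mul_assoc, e1]
          _ = (a' * a) * b' := by group
          _ = a * (a' * b') := by rw [hA a' ha' a ha]; group
      have key : ∀ x ∈ Subgroup.center G, (Subgroup.zpowers x).Normal := by
        intro x hx
        constructor
        intro y hy g
        rw [Subgroup.mem_center_iff.mp (Subgroup.zpowers_le.mpr hx hy) g, mul_inv_cancel_right]
        exact hy
      by_cases ha1 : a = 1
      · subst ha1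
        rw [one_mul] at hz hz1
        exact ⟨_, key b hz, fun h => hz1 (Subgroup.zpowers_eq_bot.mp h), Or.inr (Subgroup.zpowers_le.mpr hb)⟩
      · exact ⟨_, key a hac, fun h => ha1 (Subgroup.zpowers_eq_bot.mp h), Or.inl (Subgroup.zpowers_le.mpr ha)⟩
    have hW : ∀ x ∈ commutator G, ∀ y ∈ commutator G, x * y = y * x := by
      intro x hx y hy
      have h2 : ⁅derivedSeries G 1, derivedSeries G 1⁆ = ⊥ := Cfsg.Agent.S0572.result A B hAB
      rw [derivedSeries_one] at h2
      rw [← commutatorElement_eq_one_iff_mul_comm, ← Subgroup.mem_bot, ← h2]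
      exact Subgroup.commutator_mem_commutator hx hy
    have hne : commutator G ≠ ⊥ := by
      intro h0
      have hcomm : ∀ x y : G, x * y = y * x := fun x y => by
        rw [← commutatorElement_eq_one_iff_mul_comm, ← Subgroup.mem_bot, ← h0]
        exact Subgroup.commutator_mem_commutator (Subgroup.mem_top x) (Subgroup.mem_top y)
      obtain ⟨x, hx⟩ := exists_ne (1 : G)
      have : x ∈ Subgroup.center G := Subgroup.mem_center_iff.mpr fun g => hcomm g x
      rw [hZ, Subgroup.mem_bot] at this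
      exact hx this
    have hBA : ∀ g : G, ∃ b ∈ B, ∃ a ∈ A, g = b * a := fun g => by
      obtain ⟨a, ha, b, hb, hg⟩ := hAB g⁻¹
      exact ⟨b⁻¹, inv_mem hb, a⁻¹, inv_mem ha, by rw [← mul_inv_rev, ← hg, inv_inv]⟩
    have hrec : ∀ H : Subgroup G, H ≠ ⊥ → H ≠ ⊤ →
        ∀ (C D : Subgroup H), (∀ x ∈ C, ∀ y ∈ C, x * y = y * x) →
          (∀ x ∈ D, ∀ y ∈ D, x * y = y * x) → (∀ g, ∃ a ∈ C, ∃ b ∈ D, g = a * b) →
          ∃ N : Subgroup H, N.Normal ∧ N ≠ ⊥ ∧ (N ≤ C ∨ N ≤ D) := by
      intro H hH0 hH1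
      haveI : Nontrivial H := (Subgroup.nontrivial_iff_ne_bot H).mpr hH0
      have hlt : Nat.card H < Nat.card G := lt_of_le_of_ne H.card_le_card_group
        (fun e => hH1 ((Subgroup.card_eq_iff_eq_top H).mp e))
      exact ih H (by omega)
    by_cases h1 : A ⊔ commutator G = ⊤
    swap
    · exact step A B hA hB hW hAB hZ hne
        (hrec _ (ne_bot_of_le_ne_bot hne le_sup_right) h1)
    by_cases h2 : B ⊔ commutator G = ⊤
    swap
    · obtain ⟨N, hN, hN0, hor⟩ := step B A hB hA hW hBA hZ hne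
        (hrec _ (ne_bot_of_le_ne_bot hne le_sup_right) h2)
      exact ⟨N, hN, hN0, hor.symm⟩
    exfalso
    have hdisj : B ⊓ commutator G = ⊥ := by
      rw [eq_bot_iff, ← hZ]
      intro d hd
      rw [Subgroup.mem_center_iff]
      intro g
      have hle : B ⊔ commutator G ≤ Subgroup.centralizer {d} := by
        refine sup_le (fun b hb => ?_) (fun w hw => ?_)
        · rw [Subgroup.mem_centralizer_iff]
          intro t ht
          rw [Set.mem_singleton_iff.mp ht]
          exact hB d hd.1 b hb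
        · rw [Subgroup.mem_centralizer_iff]
          intro t ht
          rw [Set.mem_singleton_iff.mp ht]
          exact hW d hd.2 w hw
      have := h2 ▸ hle
      exact (Subgroup.mem_centralizer_iff.mp (this (Subgroup.mem_top g)) d rfl).symm
    exact Cfsg.Agent.H31.center_ne_bot_of_two_complements hW hA h1 h2 hdisj hBA hne hZ

/-- If a nontrivial finite group G is the product AB of abelian subgroups A and B, then some nontrivial normal subgroup of G is contained in A or in B. -/
theorem result {G : Type*} [Group G] [Finite G] [Nontrivial G] (A B : Subgroup G) [IsMulCommutative A] [IsMulCommutative B] (hAB : ∀ g : G, ∃ a ∈ A, ∃ b ∈ B, g = a * b) : ∃ N : Subgroup G, N.Normal ∧ N ≠ ⊥ ∧ (N ≤ A ∨ N ≤ B) := by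
  haveI := (inferInstance : IsMulCommutative A)
  refine aux (Nat.card G) G le_rfl A B (fun x hx y hy => ?_) (fun x hx y hy => ?_) hAB
  · exact congrArg Subtype.val (mul_comm' (⟨x, hx⟩ : A) ⟨y, hy⟩)
  · exact congrArg Subtype.val (mul_comm' (⟨x, hx⟩ : B) ⟨y, hy⟩)

end Cfsg.Agent.S0573
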