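import Cfsg.Statements.S0571
import Cfsg.Agent.S0573

set_option autoImplicit false
open Cfsg

namespace Cfsg.Agent.S0571

universe u

theorem aux : ∀ n : ℕ, ∀ (G : Type u) [Group G] [Finite G], Nat.card G ≤ n →
    ∀ (A B : Subgroup G), IsCyclic A → IsCyclic B → (∀ g : G, ∃ a ∈ A, ∃ b ∈ B, g = a * b) →
      Cfsg.IsSupersolvable G := by
  intro n
  induction n with
  | zero =>
    intro G _ _ hn
    exact absurd hn (Nat.not_le.mpr Nat.card_pos)
  | succ n ih =>
    intro G _ _ hn A B hA hB hAB
    cases subsingleton_or_nontrivial G with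
    | inl hs =>
      exact ⟨0, fun _ => ⊥, rfl, Subsingleton.elim _ _, fun _ => inferInstance, fun i => i.elim0⟩
    | inr hnt =>
      haveI := hA
      haveI := hB
      haveI : IsMulCommutative A := ⟨⟨fun a b => by letI := IsCyclic.commGroup (α := A); exact mul_comm a b⟩⟩
      haveI : IsMulCommutative B := ⟨⟨fun a b => by letI := IsCyclic.commGroup (α := B); exact mul_comm a b⟩⟩
      obtain ⟨N, hN, hNne, hor⟩ := Cfsg.Agent.S0573.result A B hAB
      haveI := hN
      obtain ⟨g₀, hg₀⟩ : ∃ g₀ : G, N = Subgroup.zpowers g₀ := by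
        have : IsCyclic N := by
          rcases hor with h | h
          · exact isCyclic_of_injective (Subgroup.inclusion h) (Subgroup.inclusion_injective h)
          · exact isCyclic_of_injective (Subgroup.inclusion h) (Subgroup.inclusion_injective h)
        obtain ⟨g, hg⟩ := (Subgroup.isCyclic_iff_exists_zpowers_eq_top N).mp this
        exact ⟨g, hg.symm⟩
      set π := QuotientGroup.mk' N with hπ
      have hsurj : Function.Surjective π := QuotientGroup.mk'_surjective N
      have hlt : Nat.card (G ⧸ N) < Nat.card G := by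
        rw [N.card_eq_card_quotient_mul_card_subgroup]
        exact lt_mul_of_one_lt_right Nat.card_pos ((Subgroup.one_lt_card_iff_ne_bot N).mpr hNne)
      obtain ⟨m, H, h0, hl, hnorm, hstep⟩ := ih (G ⧸ N) (by omega) (A.map π) (B.map π)
        (isCyclic_of_surjective (π.subgroupMap A) (π.subgroupMap_surjective A))
        (isCyclic_of_surjective (π.subgroupMap B) (π.subgroupMap_surjective B))
        (fun q => by
          obtain ⟨g, rfl⟩ := hsurj q
          obtain ⟨a, ha, b, hb, rfl⟩ := hAB g
          exact ⟨π a, Subgroup.mem_map_of_mem π ha, π b, Subgroup.mem_map_of_mem π hb, map_mul π a b⟩)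
      refine ⟨m + 1, Fin.cons ⊥ (fun i => (H i).comap π), rfl, ?_, ?_, ?_⟩
      · rw [← Fin.succ_last, Fin.cons_succ, hl, Subgroup.comap_top]
      · refine Fin.cases ?_ (fun i => ?_)
        · rw [Fin.cons_zero]; infer_instance
        · rw [Fin.cons_succ]; exact (hnorm i).comap π
      · refine Fin.cases ?_ (fun i => ?_)
        · refine ⟨g₀, ?_⟩
          rw [Fin.castSucc_zero, Fin.cons_succ, Fin.cons_zero, bot_sup_eq, h0, ← hg₀,
            MonoidHom.comap_bot, hπ, QuotientGroup.ker_mk']
        · obtain ⟨q, hq⟩ := hstep i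
          obtain ⟨g, rfl⟩ := hsurj q
          refine ⟨g, ?_⟩
          rw [Fin.castSucc_succ, Fin.cons_succ, Fin.cons_succ, hq]
          have hker : π.ker ≤ (H i.castSucc).comap π := Subgroup.ker_le_comap π _
          have h5 : H i.castSucc ⊔ Subgroup.zpowers (π g)
              = ((H i.castSucc).comap π ⊔ Subgroup.zpowers g).map π := by
            rw [Subgroup.map_sup, Subgroup.map_comap_eq_self_of_surjective hsurj, MonoidHom.map_zpowers]
          rw [h5, Subgroup.comap_map_eq_self (hker.trans le_sup_left)]

/-- If a finite group G is the product AB of two cyclic subgroups (every element is a product ab), then G is supersolvable. -/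
theorem result {G : Type*} [Group G] [Finite G] (A B : Subgroup G) [IsCyclic A] [IsCyclic B] (hAB : ∀ g : G, ∃ a ∈ A, ∃ b ∈ B, g = a * b) : Cfsg.IsSupersolvable G := by
  exact aux (Nat.card G) G le_rfl A B inferInstance inferInstance hAB

end Cfsg.Agent.S0571
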