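import Cfsg.Statements.S0574
import Cfsg.Agent.S0564
import Cfsg.Agent.S0572
import Cfsg.Agent.H31.Basic
import Cfsg.Agent.Coprime.Centralize

set_option autoImplicit false
open Cfsg

namespace Cfsg.Agent.S0574

universe u

open Subgroup
open scoped commutatorElement Pointwise

theorem commutator_pow_left {G : Type*} [Group G] {x y : G} (h : Commute ⁅x, y⁆ x) :
    ∀ k : ℕ, ⁅x ^ k, y⁆ = ⁅x, y⁆ ^ k
  | 0 => by simp
  | k + 1 => by
    calc ⁅x ^ (k + 1), y⁆ = x * ⁅x ^ k, y⁆ * x⁻¹ * ⁅x, y⁆ := by
          rw [pow_succ', commutatorElement_def, commutatorElement_def, commutatorElement_def]; group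
      _ = ⁅x, y⁆ ^ k * ⁅x, y⁆ := by
          rw [commutator_pow_left h k, ← (h.pow_left k).eq, mul_inv_cancel_right]
      _ = _ := (pow_succ _ _).symm

/-- A `p`-element `x ^ k` with `k ≡ 1 (mod p)`. -/
theorem exists_p_part {G : Type*} [Group G] [Finite G] (p : ℕ) [hp : Fact p.Prime] (x : G) :
    ∃ k m : ℕ, k ≡ 1 [MOD p] ∧ (x ^ k) ^ p ^ m = 1 := by
  obtain ⟨m, r, hr, he⟩ := Nat.exists_eq_pow_mul_and_not_dvd (orderOf_pos x).ne' p hp.out.ne_one
  obtain ⟨s, -, hs⟩ := Nat.exists_mul_mod_eq_one_of_coprime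
    ((hp.out.coprime_iff_not_dvd.mpr hr).symm) hp.out.one_lt
  refine ⟨r * s, m, by rw [Nat.ModEq, Nat.one_mod_eq_one.mpr hp.out.ne_one]; exact hs, ?_⟩
  rw [← pow_mul, show r * s * p ^ m = p ^ m * r * s by ring, ← he, pow_mul, pow_orderOf_eq_one,
    one_pow]

/-- If `G = ⟨A, B'⟩` then `B` is abelian. -/
theorem comm_of_sup_eq_top : ∀ n : ℕ, ∀ (G : Type u) [Group G] [Finite G], Nat.card G ≤ n →
    ∀ A B : Subgroup G, (∀ x ∈ A, ∀ y ∈ A, x * y = y * x) →
      (∀ x ∈ B, ∀ y ∈ B, ∀ z ∈ B, ⁅x, y⁆ * z = z * ⁅x, y⁆) →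
      (∀ g : G, ∃ a ∈ A, ∃ b ∈ B, g = a * b) → A ⊔ ⁅B, B⁆ = ⊤ →
      ∀ x ∈ B, ∀ y ∈ B, x * y = y * x := by
  intro n
  induction n with
  | zero =>
    intro G _ _ hn
    exact absurd hn (Nat.not_le.mpr Nat.card_pos)
  | succ n ih =>
    intro G _ _ hn A B hA hB hAB hsup x hx y hy
    rcases subsingleton_or_nontrivial G with hs | hnt
    · exact Subsingleton.elim _ _
    haveI : IsMulCommutative A := ⟨⟨fun a b => Subtype.ext (hA a a.2 b b.2)⟩⟩
    have hAnil : Group.IsNilpotent A :=
      letI : CommGroup A := { mul_comm := fun a b => Subtype.ext (hA a a.2 b b.2) }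
      inferInstance
    have hBnil : Group.IsNilpotent B := by
      rw [Subgroup.nilpotent_iff_lowerCentralSeries]
      refine ⟨2, ?_⟩
      rw [eq_bot_iff]
      show ⁅⁅(⊤ : Subgroup B), ⊤⁆, ⊤⁆ ≤ ⊥
      rw [le_bot_iff, commutator_eq_bot_iff_le_centralizer, commutator_le]
      exact fun u _ v _ => mem_centralizer_iff.mpr fun z _ =>
        Subtype.ext (hB u u.2 v v.2 z z.2).symm
    haveI : Group.IsSolvable G := S0564.result A B hAnil hBnil hAB
    obtain ⟨N, -, hN, hNne, hmin, hNc, p, hp, hNexp, hNp, -⟩ :=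
      H31.exists_minNormal_elementary (K := (⊤ : Subgroup G)) inferInstance top_ne_bot
    haveI := hN
    haveI := Fact.mk hp
    set π := QuotientGroup.mk' N with hπ
    have hsurj : Function.Surjective π := QuotientGroup.mk'_surjective N
    have hBN : ⁅B, B⁆ ≤ N := by
      rw [commutator_le]
      intro u hu v hv
      have hlt : Nat.card (G ⧸ N) ≤ n := by
        have h1 := N.card_eq_card_quotient_mul_card_subgroup
        have h2 := (Subgroup.one_lt_card_iff_ne_bot N).mpr hNne
        have h3 := lt_mul_of_one_lt_right (Nat.card_pos (α := G ⧸ N)) h2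
        omega
      have h1 := ih (G ⧸ N) hlt (A.map π) (B.map π)
        (by rintro _ ⟨a, ha, rfl⟩ _ ⟨b, hb, rfl⟩; rw [← map_mul, ← map_mul, hA a ha b hb])
        (by rintro _ ⟨a, ha, rfl⟩ _ ⟨b, hb, rfl⟩ _ ⟨c, hc, rfl⟩
            rw [← map_commutatorElement, ← map_mul, ← map_mul, hB a ha b hb c hc])
        (fun g => by
          obtain ⟨g, rfl⟩ := hsurj g
          obtain ⟨a, ha, b, hb, rfl⟩ := hAB g
          exact ⟨π a, mem_map_of_mem _ ha, π b, mem_map_of_mem _ hb, map_mul π a b⟩)
        (by rw [← map_commutator, ← Subgroup.map_sup, hsup, map_top_of_surjective π hsurj])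
        (π u) (mem_map_of_mem _ hu) (π v) (mem_map_of_mem _ hv)
      rw [← commutatorElement_eq_one_iff_mul_comm, ← map_commutatorElement, hπ,
        QuotientGroup.mk'_apply, QuotientGroup.eq_one_iff] at h1
      exact h1
    have hAN : A ⊔ N = ⊤ := top_le_iff.mp (hsup ▸ sup_le_sup_left hBN A)
    have hNA : N ⊓ A = ⊥ ∨ A = ⊤ := by
      rcases hmin (N ⊓ A) (H31.inf_normal_of_supplement hNc (by rw [sup_comm]; exact hAN)) inf_le_left
        with e | e
      · exact Or.inl e
      · rw [inf_eq_left] at e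
        exact Or.inr (by rwa [sup_of_le_left e] at hAN)
    rcases hNA with hNA | hAtop
    swap
    · exact hA x (hAtop ▸ mem_top x) y (hAtop ▸ mem_top y)
    -- `p`-elements lie in `N Z(G)`
    have hdec : ∀ g : G, ∀ m : ℕ, g ^ p ^ m = 1 → ∃ u ∈ N, ∃ c ∈ center G, g = u * c := by
      intro g m hg
      have hgm : g ∈ (↑(N ⊔ A) : Set G) := by rw [sup_comm, hAN]; trivial
      rw [normal_mul] at hgm
      obtain ⟨u, hu, a, ha, rfl⟩ := hgm
      refine ⟨u, hu, a, ?_, rfl⟩
      have hap : a ^ p ^ m = 1 := by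
        have h1 : a ^ p ^ m ∈ N := by
          rw [← QuotientGroup.eq_one_iff, ← QuotientGroup.mk'_apply, map_pow]
          have h2 : π (u * a) = π a := by
            rw [map_mul, show π u = 1 from (QuotientGroup.eq_one_iff u).mpr hu, one_mul]
          rw [show QuotientGroup.mk' N a = π a from rfl, ← h2, ← map_pow, hg, map_one]
        exact (eq_bot_iff_forall _).mp hNA _ ⟨h1, pow_mem ha _⟩
      have hz : IsPGroup p (zpowers a) := fun z => ⟨m, Subtype.ext (by
        obtain ⟨i, hi⟩ := mem_zpowers_iff.mp z.2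
        rw [Subgroup.coe_pow, ← hi, ← zpow_natCast, zpow_comm, zpow_natCast, hap, one_zpow,
          OneMemClass.coe_one])⟩
      have haN : zpowers a ≤ normalizer (N : Set G) := by rw [normalizer_eq_top]; exact le_top
      have hlt := Coprime.commutator_lt_of_isPGroup hNp hz haN hNne
      have hMn : (⁅N, zpowers a⁆ : Subgroup G).Normal := by
        rw [← normalizer_eq_top_iff, eq_top_iff, ← hAN]
        refine sup_le (fun b hb => ?_) ?_
        · refine Coprime.mem_normalizer_of_map_conj ?_
          rw [map_commutator, Coprime.map_conj_eq (by rw [normalizer_eq_top]; trivial),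
            Coprime.map_conj_eq]
          exact centralizer_le_normalizer _ (mem_centralizer_iff.mpr fun z hz' =>
            hA z ((zpowers_le.mpr ha) hz') b hb)
        · exact (fun w hw => centralizer_le_normalizer _ (mem_centralizer_iff.mpr fun z hz' =>
            hNc z (hlt.le hz') w hw))
      have hbot : ⁅N, zpowers a⁆ = ⊥ :=
        (hmin _ hMn hlt.le).resolve_right hlt.ne
      rw [commutator_eq_bot_iff_le_centralizer] at hbot
      have hall : A ⊔ N ≤ centralizer ({a} : Set G) :=
        sup_le (fun b hb => mem_centralizer_singleton_iff.mpr (hA b hb a ha))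
          fun w hw => mem_centralizer_singleton_iff.mpr
            ((mem_centralizer_iff.mp (hbot hw) a (mem_zpowers a)).symm)
      rw [hAN] at hall
      exact mem_center_iff.mpr fun w => mem_centralizer_singleton_iff.mp (hall (mem_top w))
    obtain ⟨k, m, hk, hkx⟩ := exists_p_part p x
    obtain ⟨l, m', hl, hly⟩ := exists_p_part p y
    obtain ⟨u, hu, c, hc, hxe⟩ := hdec _ m hkx
    obtain ⟨v, hv, d, hd, hye⟩ := hdec _ m' hly
    have h1 : ⁅x ^ k, y ^ l⁆ = 1 := by
      rw [commutatorElement_eq_one_iff_mul_comm, hxe, hye]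
      have hc' := mem_center_iff.mp hc
      have hd' := mem_center_iff.mp hd
      calc u * c * (v * d) = u * v * (c * d) := by
            rw [mul_assoc, ← mul_assoc c, ← hc' v]; group
        _ = v * u * (c * d) := by rw [hNc u hu v hv]
        _ = v * u * (d * c) := by rw [hd' c]
        _ = v * d * (u * c) := by rw [mul_assoc v d, ← mul_assoc d, ← hd' u]; group
    have hcom : ∀ u ∈ B, ∀ v ∈ B, ⁅u, v⁆ ^ p = 1 := fun u hu v hv =>
      hNexp _ (hBN (commutator_mem_commutator hu hv))
    have hpow : ∀ u ∈ B, ∀ v ∈ B, ∀ j : ℕ, j ≡ 1 [MOD p] → ⁅u ^ j, v⁆ = ⁅u, v⁆ := by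
      intro u hu v hv j hj
      rw [commutator_pow_left (hB u hu v hv u hu) j]
      conv_rhs => rw [← pow_one ⁅u, v⁆]
      exact pow_eq_pow_iff_modEq.mpr (hj.of_dvd (orderOf_dvd_of_pow_eq_one (hcom u hu v hv)))
    rw [hpow x hx _ (pow_mem hy l) k hk] at h1
    have h2 : ⁅y ^ l, x⁆ = 1 := by rw [← commutatorElement_inv, h1, inv_one]
    rw [hpow y hy x hx l hl, commutatorElement_eq_one_iff_mul_comm] at h2
    exact h2.symm

theorem aux : ∀ n : ℕ, ∀ (G : Type u) [Group G] [Finite G] (A B : Subgroup G),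
    (∀ x ∈ A, ∀ y ∈ A, x * y = y * x) → (∀ x ∈ B, ∀ y ∈ B, ∀ z ∈ B, ⁅x, y⁆ * z = z * ⁅x, y⁆) →
    (∀ g : G, ∃ a ∈ A, ∃ b ∈ B, g = a * b) →
    (Nat.card ↥⁅B, B⁆).primeFactorsList.length ≤ n → derivedSeries G (2 * (1 + n)) = ⊥ := by
  intro n
  induction n with
  | zero =>
    intro G _ _ A B hA hB hAB hn
    haveI : IsMulCommutative A := ⟨⟨fun a b => Subtype.ext (hA a a.2 b b.2)⟩⟩
    have h1 : ⁅B, B⁆ = ⊥ := by
      rw [← Subgroup.card_eq_one]
      have := List.length_eq_zero_iff.mp (Nat.le_zero.mp hn)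
      exact ((Nat.primeFactorsList_eq_nil _).mp this).resolve_left Nat.card_pos.ne'
    haveI : IsMulCommutative B := ⟨⟨fun a b => Subtype.ext (commutatorElement_eq_one_iff_mul_comm.mp
      ((eq_bot_iff_forall _).mp h1 _ (commutator_mem_commutator a.2 b.2)))⟩⟩
    exact S0572.result A B hAB
  | succ n ih =>
    intro G _ _ A B hA hB hAB hn
    set Z := ⁅B, B⁆ with hZ
    set X := A ⊔ Z with hX
    set B1 := B ⊓ X with hB1
    have hZB : Z ≤ B := commutator_le.mpr fun u hu v hv => by
      rw [commutatorElement_def]; exact mul_mem (mul_mem (mul_mem hu hv) (inv_mem hu)) (inv_mem hv)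
    have hABX : ∀ g : X, ∃ a ∈ A.subgroupOf X, ∃ b ∈ B1.subgroupOf X, g = a * b := by
      intro g
      obtain ⟨a, ha, b, hb, he⟩ := hAB g
      have hbX : b ∈ X := by
        have : b = a⁻¹ * g := by rw [he, inv_mul_cancel_left]
        rw [this]; exact mul_mem (inv_mem (mem_sup_left ha)) g.2
      exact ⟨⟨a, mem_sup_left ha⟩, ha, ⟨b, hbX⟩, ⟨hb, hbX⟩, Subtype.ext he⟩
    have hA' : ∀ x ∈ A.subgroupOf X, ∀ y ∈ A.subgroupOf X, x * y = y * x :=
      fun x hx y hy => Subtype.ext (hA _ hx _ hy)
    have hB' : ∀ x ∈ B1.subgroupOf X, ∀ y ∈ B1.subgroupOf X, ∀ z ∈ B1.subgroupOf X,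
        ⁅x, y⁆ * z = z * ⁅x, y⁆ := fun x hx y hy z hz =>
      Subtype.ext (hB _ hx.1 _ hy.1 _ hz.1)
    have hcard : Nat.card ↥⁅B1.subgroupOf X, B1.subgroupOf X⁆ = Nat.card ↥⁅B1, B1⁆ := by
      rw [← card_map_of_injective X.subtype_injective, map_commutator,
        map_subgroupOf_eq_of_le inf_le_right]
    have hder : derivedSeries G 2 ≤ X := by
      set N := normalClosure (Z : Set G) with hN
      have hNX : N ≤ X := by
        rw [hN, normalClosure, closure_le]
        intro w hw
        obtain ⟨z, hz, hw⟩ := Group.mem_conjugatesOfSet_iff.mp hw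
        obtain ⟨g, rfl⟩ := isConj_iff.mp hw
        obtain ⟨a, ha, b, hb, rfl⟩ := hAB g
        have hzb : b * z * b⁻¹ = z := by
          have hc : Z ≤ centralizer (B : Set G) := commutator_le.mpr fun u hu v hv =>
            mem_centralizer_iff.mpr fun w hw => (hB u hu v hv w hw).symm
          rw [mem_centralizer_iff.mp (hc hz) b hb, mul_inv_cancel_right]
        have e : a * b * z * (a * b)⁻¹ = a * (b * z * b⁻¹) * a⁻¹ := by group
        rw [e, hzb]
        exact mul_mem (mul_mem (mem_sup_left ha) (mem_sup_right hz)) (inv_mem (mem_sup_left ha))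
      refine le_trans ?_ hNX
      set π := QuotientGroup.mk' N with hπ
      haveI : IsMulCommutative (A.map π) := ⟨⟨by
        rintro ⟨_, a, ha, rfl⟩ ⟨_, b, hb, rfl⟩
        exact Subtype.ext (show π a * π b = π b * π a by rw [← map_mul, ← map_mul, hA a ha b hb])⟩⟩
      haveI : IsMulCommutative (B.map π) := ⟨⟨by
        rintro ⟨_, a, ha, rfl⟩ ⟨_, b, hb, rfl⟩
        refine Subtype.ext (show π a * π b = π b * π a from ?_)
        rw [← commutatorElement_eq_one_iff_mul_comm, ← map_commutatorElement, hπ,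
          QuotientGroup.mk'_apply, QuotientGroup.eq_one_iff]
        exact subset_normalClosure (commutator_mem_commutator ha hb)⟩⟩
      have h2 := S0572.result (A.map π) (B.map π) fun g => by
        obtain ⟨g, rfl⟩ := QuotientGroup.mk'_surjective N g
        obtain ⟨a, ha, b, hb, rfl⟩ := hAB g
        exact ⟨π a, mem_map_of_mem _ ha, π b, mem_map_of_mem _ hb, map_mul π a b⟩
      rw [← map_derivedSeries_eq (QuotientGroup.mk'_surjective N), Subgroup.map_eq_bot_iff,
        QuotientGroup.ker_mk'] at h2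
      exact h2
    -- the derived subgroup of `B` drops
    have hlt : (Nat.card ↥⁅B1, B1⁆).primeFactorsList.length ≤ n := by
      have hle : ⁅B1, B1⁆ ≤ Z := commutator_mono inf_le_left inf_le_left
      rcases hle.eq_or_lt with heq | hlt
      · have hcomm := comm_of_sup_eq_top (Nat.card X) X le_rfl (A.subgroupOf X) (B1.subgroupOf X)
          hA' hB' hABX (by
            refine map_injective X.subtype_injective ?_
            rw [Subgroup.map_sup, map_commutator, map_subgroupOf_eq_of_le inf_le_right,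
              map_subgroupOf_eq_of_le le_sup_left, heq, ← MonoidHom.range_eq_map, range_subtype])
        have h0 : ⁅B1, B1⁆ = ⊥ := by
          rw [eq_bot_iff, commutator_le]
          intro u hu v hv
          rw [mem_bot, commutatorElement_eq_one_iff_mul_comm]
          exact congrArg Subtype.val (hcomm ⟨u, hu.2⟩ hu ⟨v, hv.2⟩ hv)
        rw [h0, Subgroup.card_bot, Nat.primeFactorsList_one]; simp
      · obtain ⟨m, hm⟩ := Subgroup.card_dvd_of_le hlt.le
        have hm1 : m ≠ 1 := fun e => hlt.ne
          (Subgroup.eq_of_le_of_card_ge hlt.le (by rw [hm, e, mul_one]))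
        have hm0 : m ≠ 0 := fun e => by
          rw [e, mul_zero] at hm; exact Nat.card_pos.ne' hm
        have hpos : 0 < m.primeFactorsList.length := List.length_pos_of_ne_nil fun e =>
          ((Nat.primeFactorsList_eq_nil m).mp e).elim hm0 hm1
        have hperm := (Nat.perm_primeFactorsList_mul (Nat.card_pos (α := ↥⁅B1, B1⁆)).ne' hm0).length_eq
        rw [← hm, List.length_append] at hperm
        omega
    have hX2 := ih X (A.subgroupOf X) (B1.subgroupOf X) hA' hB' hABX (by rw [hcard]; exact hlt)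
    -- the derived series passes into `X`
    have key : ∀ j : ℕ, derivedSeries G (2 + j) ≤ (derivedSeries X j).map X.subtype := by
      intro j
      induction j with
      | zero =>
        rw [derivedSeries_zero, ← MonoidHom.range_eq_map, range_subtype]; exact hder
      | succ j ihj =>
        rw [← add_assoc, derivedSeries_succ, derivedSeries_succ, map_commutator]
        exact commutator_mono ihj ihj
    have := key (2 * (1 + n))
    rw [hX2, Subgroup.map_bot, le_bot_iff] at this
    rw [← this]; congr 1; ring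

/-- Let the finite group G be the product AB of an abelian subgroup A and a subgroup B of nilpotency class at most two, and let Ω be the number of prime factors, with multiplicity, of the order of the commutator subgroup of B. Then the term of index 2(1 + Ω) of the derived series of G is trivial. -/
theorem result {G : Type*} [Group G] [Finite G] (A B : Subgroup G) [IsMulCommutative A] (hB : commutator ↥B ≤ Subgroup.center ↥B) (hAB : ∀ g : G, ∃ a ∈ A, ∃ b ∈ B, g = a * b) : derivedSeries G (2 * (1 + (Nat.card ↥(commutator ↥B)).primeFactorsList.length)) = ⊥ := by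
  have h1 : (commutator ↥B).map B.subtype = ⁅B, B⁆ := by
    rw [commutator_def, map_commutator, ← MonoidHom.range_eq_map, range_subtype]
  have h2 : Nat.card ↥(commutator ↥B) = Nat.card ↥⁅B, B⁆ := by
    rw [← h1, Subgroup.card_map_of_injective B.subtype_injective]
  rw [h2]
  refine aux _ G A B (fun x hx y hy => congrArg Subtype.val (mul_comm' (⟨x, hx⟩ : A) ⟨y, hy⟩))
    (fun x hx y hy z hz => ?_) hAB le_rfl
  exact (congrArg Subtype.val (mem_center_iff.mp
    (hB (commutator_mem_commutator (mem_top (⟨x, hx⟩ : B)) (mem_top ⟨y, hy⟩))) ⟨z, hz⟩)).symm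

end Cfsg.Agent.S0574
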