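import Cfsg.Statements.S0576
import Cfsg.Agent.H31.Basic

set_option autoImplicit false
open Cfsg

namespace Cfsg.Agent.S0576

/-- Let H be a normal subgroup of a finite group G with H contained in the Frattini subgroup of G. Then the group of inner automorphisms of H is contained in the Frattini subgroup of the automorphism group of H. -/
theorem result {G : Type*} [Group G] [Finite G] (H : Subgroup G) [H.Normal] (hH : H ≤ frattini G) : (MulAut.conj : ↥H →* MulAut ↥H).range ≤ frattini (MulAut ↥H) := by
  set c : G →* MulAut H := MulAut.conjNormal with hc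
  set I := (MulAut.conj : ↥H →* MulAut ↥H).range with hI
  haveI : I.Normal := by
    constructor
    rintro _ ⟨h, rfl⟩ φ
    exact ⟨φ h, by ext x; simp⟩
  have hcI : ∀ h : H, c (h : G) = MulAut.conj h := fun h => by
    ext x; simp [hc]
  refine le_iInf₂ fun M hM => ?_
  by_contra hIM
  have htop : M ⊔ I = ⊤ := hM.2 _ (left_lt_sup.mpr hIM)
  apply hIM
  have hL : M.comap c = ⊤ := by
    apply frattini_nongenerating
    refine top_le_iff.mp fun g _ => ?_
    have hg : c g ∈ (↑(M ⊔ I) : Set (MulAut H)) := by rw [htop]; trivial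
    rw [Subgroup.mul_normal] at hg
    obtain ⟨m, hm, i, ⟨h, rfl⟩, hmi⟩ := hg
    have : g = (g * (h : G)⁻¹) * h := by group
    rw [this]
    refine mul_mem (Subgroup.mem_sup_left ?_) (Subgroup.mem_sup_right (hH h.2))
    rw [Subgroup.mem_comap, map_mul, map_inv, hcI, ← hmi]
    simpa using hm
  rintro _ ⟨h, rfl⟩
  rw [← hcI]
  exact Subgroup.mem_comap.mp (hL ▸ Subgroup.mem_top (h : G))

end Cfsg.Agent.S0576
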