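import Cfsg.Statements.S0577
import Cfsg.Agent.H31.Basic
import Cfsg.Agent.S0575
import Mathlib.GroupTheory.NoncommCoprod

set_option autoImplicit false
open Cfsg

namespace Cfsg.Agent.S0577

open scoped commutatorElement

variable {G : Type*} [Group G]

/-- A `q`-part / `q'`-part power: some power of `x` of order prime to `q` with exponent a `q`-power. -/
theorem exists_qprime_power [Finite G] {q : ℕ} (hq : q.Prime) (x : G) :
    ∃ a : ℕ, (orderOf (x ^ q ^ a)).Coprime q := by
  refine ⟨(orderOf x).factorization q, ?_⟩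
  rw [orderOf_pow' _ (pow_ne_zero _ hq.ne_zero), Nat.gcd_eq_right (Nat.ordProj_dvd _ _)]
  exact (Nat.coprime_ordCompl hq (orderOf_pos x).ne').symm

theorem map_nilpotent_normal_complement [Finite G] {Q C : Subgroup G} (hQC : Q.IsComplement' C)
    (hc : ∀ x ∈ Q, ∀ y ∈ C, x * y = y * x) (hQ : Group.IsNilpotent Q) (hC : Group.IsNilpotent C) :
    Group.IsNilpotent G := by
  have hcomm : ∀ (a : Q) (b : C), Commute (Q.subtype a) (C.subtype b) :=
    fun a b => hc a a.2 b b.2
  haveI := hQ; haveI := hC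
  refine Group.nilpotent_of_surjective (G := Q × C) (Q.subtype.noncommCoprod C.subtype hcomm) ?_
  intro g
  obtain ⟨⟨a, b⟩, hab⟩ := hQC.2 g
  exact ⟨(a, b), by simpa using hab⟩

/-- Let G be a finite minimal non-nilpotent group and Q a normal Sylow q-subgroup of G, and let D be the commutator subgroup of Q regarded in G (a normal subgroup). Then G modulo D is non-abelian and all its proper subgroups are abelian. -/
theorem result {G : Type*} [Group G] [Finite G] (hG : Cfsg.IsMinimalNonNilpotent G) (q : ℕ) [Fact q.Prime] (hq : q ∣ Nat.card G) (Q : Sylow q G) (hQ : (Q : Subgroup G).Normal) (D : Subgroup G) [D.Normal] (hD : D = (commutator ↥(Q : Subgroup G)).map (Q : Subgroup G).subtype) : ¬ IsMulCommutative (G ⧸ D) ∧ ∀ K : Subgroup (G ⧸ D), K ≠ ⊤ → IsMulCommutative K := by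
  haveI := hQ
  haveI hQc : (Q : Subgroup G).Normal := hQ
  set S := (Q : Subgroup G) with hS
  have hSne : S ≠ ⊥ := Q.ne_bot_of_dvd_card hq
  have hDS : D ≤ S := hD ▸ Subgroup.map_subtype_le _
  have hDΦ : D ≤ frattini G := by
    rw [hD]
    refine le_trans (Subgroup.map_mono ?_) ?_ (b := (frattini S).map S.subtype)
    · haveI : Group.IsNilpotent S := Q.isPGroup'.isNilpotent
      refine le_iInf₂ fun M hM => ?_
      haveI : M.Normal :=
        Subgroup.NormalizerCondition.normal_of_coatom (H := M) Group.normalizerCondition_of_isNilpotent hM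
      exact Cfsg.Agent.H31.commutator_le_of_isCoatom hM
    · exact Cfsg.Agent.S0575.result S
  constructor
  · intro hcomm
    apply hG.1
    refine ((Group.isNilpotent_of_finite_tfae (G := G)).out 0 2).mpr fun M hM => ?_
    have hGD : commutator G ≤ M := by
      refine le_trans ?_ (hDΦ.trans (frattini_le_coatom hM))
      rw [commutator_def, Subgroup.commutator_le]
      intro u _ v _
      rw [← QuotientGroup.eq_one_iff]
      show QuotientGroup.mk' D _ = 1
      rw [map_commutatorElement, commutatorElement_eq_one_iff_mul_comm]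
      exact mul_comm' _ _
    constructor
    intro x hx g
    have : g * x * g⁻¹ = ⁅g, x⁆ * x := by rw [commutatorElement_def]; group
    rw [this]
    exact mul_mem (hGD (Subgroup.commutator_mem_commutator (Subgroup.mem_top _) (Subgroup.mem_top _))) hx
  obtain ⟨C, hC⟩ := Subgroup.exists_right_complement'_of_coprime Q.card_coprime_index
  have hCtop : C ≠ ⊤ := by
    intro e
    apply hSne
    have := hC.disjoint.le_bot
    rwa [e, inf_top_eq, le_bot_iff] at this
  obtain ⟨c, hcC, hcgen⟩ : ∃ c ∈ C, S ⊔ Subgroup.zpowers c = ⊤ := by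
    by_contra hno
    push Not at hno
    apply hG.1
    refine map_nilpotent_normal_complement hC ?_ Q.isPGroup'.isNilpotent (hG.2 C hCtop)
    intro x hx y hy
    have hnil := hG.2 _ (hno y hy)
    haveI := hnil
    have hcop : (orderOf x).Coprime (orderOf y) := by
      refine Nat.Coprime.coprime_dvd_left (S.orderOf_dvd_natCard hx) ?_
      refine Nat.Coprime.coprime_dvd_right (C.orderOf_dvd_natCard hy) ?_
      rw [← hC.symm.index_eq_card]
      exact Q.card_coprime_index
    have := Cfsg.Agent.H31.commute_of_coprime_orderOf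
      (G := (S ⊔ Subgroup.zpowers y : Subgroup G))
      (x := ⟨x, Subgroup.mem_sup_left hx⟩) (y := ⟨y, Subgroup.mem_sup_right (Subgroup.mem_zpowers y)⟩)
      (by simpa [Subgroup.orderOf_mk] using hcop)
    exact congrArg Subtype.val this
  have hgen : ∀ g : G, ∃ n : ℤ, ∃ s ∈ S, g = s * c ^ n := by
    intro g
    have hg : g ∈ (↑(S ⊔ Subgroup.zpowers c) : Set G) := by rw [hcgen]; trivial
    rw [Subgroup.normal_mul] at hg
    obtain ⟨s, hs, t, ⟨n, rfl⟩, rfl⟩ := hg
    exact ⟨n, s, hs, rfl⟩
  intro K hK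
  set π := QuotientGroup.mk' D with hπ
  have hsurj : Function.Surjective π := QuotientGroup.mk'_surjective D
  set H := K.comap π with hH
  have hHtop : H ≠ ⊤ := fun e => hK (by
    rw [← Subgroup.map_comap_eq_self_of_surjective hsurj K, ← hH, e,
      Subgroup.map_top_of_surjective _ hsurj])
  haveI := hG.2 H hHtop
  -- the image of `H` in `G / S` is cyclic
  haveI : IsCyclic (G ⧸ S) := by
    refine ⟨⟨QuotientGroup.mk c, fun z => ?_⟩⟩
    obtain ⟨g, rfl⟩ := QuotientGroup.mk_surjective z
    obtain ⟨n, s, hs, rfl⟩ := hgen g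
    exact ⟨n, by
      show (QuotientGroup.mk' S c) ^ n = QuotientGroup.mk' S (s * c ^ n)
      rw [map_mul, map_zpow]
      rw [show QuotientGroup.mk' S s = 1 from (QuotientGroup.eq_one_iff s).mpr hs, one_mul]⟩
  obtain ⟨w, hw⟩ := IsCyclic.exists_generator (α := H.map (QuotientGroup.mk' S))
  obtain ⟨h₀, hh₀, hw₀⟩ := w.2
  obtain ⟨a, ha⟩ := exists_qprime_power (Fact.out : q.Prime) h₀
  set h := h₀ ^ q ^ a with hh
  have hhH : h ∈ H := pow_mem hh₀ _
  have hcop : (Nat.card (H.map (QuotientGroup.mk' S))).Coprime (q ^ a) := by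
    refine Nat.Coprime.pow_right _ (Nat.Coprime.coprime_dvd_left (Subgroup.card_subgroup_dvd_card _) ?_)
    rw [← Subgroup.index_eq_card]
    exact ((Nat.Prime.coprime_iff_not_dvd Fact.out).mpr Q.not_dvd_index).symm
  -- every element of `H` is a product of an element of `S ∩ H` and a power of `h`
  have hdec : ∀ x ∈ H, ∃ s ∈ S, ∃ n : ℤ, s ∈ H ∧ x = s * h ^ n := by
    intro x hx
    obtain ⟨n, hn⟩ := hw ((powCoprime hcop).symm ⟨QuotientGroup.mk' S x, x, hx, rfl⟩)
    have e := congrArg (fun z => (powCoprime hcop) z) hn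
    simp only [Equiv.apply_symm_apply, powCoprime_apply] at e
    have e' := congrArg Subtype.val e
    simp only [SubmonoidClass.coe_pow, SubgroupClass.coe_zpow] at e'
    rw [← hw₀, ← map_zpow, ← map_pow] at e'
    refine ⟨x * (h ^ n)⁻¹, ?_, n, mul_mem hx (inv_mem (zpow_mem hhH n)), by group⟩
    rw [← QuotientGroup.eq_one_iff]
    show QuotientGroup.mk' S (x * (h ^ n)⁻¹) = 1
    rw [map_mul, map_inv, mul_inv_eq_one, ← e']
    congr 1
    rw [hh, ← zpow_natCast, ← zpow_mul, ← zpow_natCast, ← zpow_mul, mul_comm]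
  have hSmod : ∀ s ∈ S, ∀ t ∈ S, Commute (π s) (π t) := by
    intro s hs t ht
    refine commutatorElement_eq_one_iff_mul_comm.mp ?_
    rw [← map_commutatorElement]
    refine (QuotientGroup.eq_one_iff _).mpr ?_
    rw [hD]
    exact ⟨⁅(⟨s, hs⟩ : S), ⟨t, ht⟩⁆,
      Subgroup.commutator_mem_commutator (Subgroup.mem_top _) (Subgroup.mem_top _), rfl⟩
  have hSh : ∀ s ∈ S, s ∈ H → Commute (π s) (π h) := by
    intro s hs hsH
    refine Commute.map (show Commute s h from ?_) π
    have hc2 : (orderOf s).Coprime (orderOf h) := by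
      obtain ⟨k, hk⟩ := (IsPGroup.iff_orderOf).mp Q.isPGroup' ⟨s, hs⟩
      rw [Subgroup.orderOf_mk] at hk
      rw [hk]
      exact (ha.symm).pow_left k
    have := Cfsg.Agent.H31.commute_of_coprime_orderOf (G := H) (x := ⟨s, hsH⟩) (y := ⟨h, hhH⟩)
      (by simpa [Subgroup.orderOf_mk] using hc2)
    exact congrArg Subtype.val this
  refine ⟨⟨fun x y => Subtype.ext ?_⟩⟩
  obtain ⟨u, hu⟩ := hsurj (x : G ⧸ D)
  obtain ⟨v, hv⟩ := hsurj (y : G ⧸ D)
  show (x : G ⧸ D) * (y : G ⧸ D) = (y : G ⧸ D) * (x : G ⧸ D)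
  rw [← hu, ← hv]
  have huH : u ∈ H := by rw [hH, Subgroup.mem_comap, hu]; exact x.2
  have hvH : v ∈ H := by rw [hH, Subgroup.mem_comap, hv]; exact y.2
  obtain ⟨s, hs, m, hsH, rfl⟩ := hdec u huH
  obtain ⟨t, ht, n, htH, rfl⟩ := hdec v hvH
  rw [map_mul, map_mul, map_zpow, map_zpow]
  exact (Commute.mul_left ((hSmod s hs t ht).mul_right ((hSh s hs hsH).zpow_right n))
    (((hSh t ht htH).symm.zpow_left m).mul_right (Commute.zpow_zpow_self _ _ _))).eq

end Cfsg.Agent.S0577
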