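import Cfsg.Statements.S0578
import Cfsg.Agent.H31.Basic
import Mathlib.GroupTheory.Transfer

set_option autoImplicit false
open Cfsg

namespace Cfsg.Agent.S0578

open scoped commutatorElement

theorem sylow_comm {G : Type*} [Group G] [Finite G] {p : ℕ} [Fact p.Prime]
    (h : ∀ A : Subgroup G, IsMulCommutative A →
      Subgroup.normalizer (A : Set G) = Subgroup.centralizer (A : Set G))
    (P : Sylow p G) : IsMulCommutative (P : Subgroup G) := by
  set Z := Subgroup.center (P : Subgroup G) with hZ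
  by_cases htop : Z = ⊤
  · refine ⟨⟨fun x y => ?_⟩⟩
    have hx : x ∈ Z := htop ▸ Subgroup.mem_top x
    exact (Subgroup.mem_center_iff.mp hx y).symm
  exfalso
  haveI : Nontrivial ((P : Subgroup G) ⧸ Z) := QuotientGroup.nontrivial_iff.mpr htop
  haveI := (P.isPGroup'.to_quotient Z).center_nontrivial
  obtain ⟨w, hw⟩ := exists_ne (1 : Subgroup.center ((P : Subgroup G) ⧸ Z))
  obtain ⟨x, hx⟩ := QuotientGroup.mk_surjective (w : (P : Subgroup G) ⧸ Z)
  have hxZ : x ∉ Z := by
    intro hm
    apply hw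
    apply Subtype.ext
    rw [← hx]
    exact (QuotientGroup.eq_one_iff x).mpr hm
  set A₀ := Z ⊔ Subgroup.zpowers x with hA0
  have hA0c : A₀ ≤ Subgroup.centralizer (A₀ : Set (P : Subgroup G)) := by
    refine sup_le (Subgroup.center_le_centralizer _) ?_
    rw [Subgroup.le_centralizer_iff]
    refine sup_le (fun z hz => ?_) (Subgroup.le_centralizer _)
    rw [Subgroup.mem_centralizer_iff]
    intro t _
    exact (Subgroup.mem_center_iff.mp hz t)
  have hA0n : A₀.Normal := by
    have h1 : A₀ = (Subgroup.zpowers (w : (P : Subgroup G) ⧸ Z)).comap (QuotientGroup.mk' Z) := by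
      rw [show (w : (P : Subgroup G) ⧸ Z) = QuotientGroup.mk' Z x from hx.symm,
        ← MonoidHom.map_zpowers]
      rw [Subgroup.comap_map_eq, QuotientGroup.ker_mk', hA0, sup_comm]
    rw [h1]
    have : (Subgroup.zpowers (w : (P : Subgroup G) ⧸ Z)).Normal := by
      constructor
      intro y hy g
      have hyc : y ∈ Subgroup.center ((P : Subgroup G) ⧸ Z) :=
        (Subgroup.zpowers_le.mpr w.2) hy
      rw [Subgroup.mem_center_iff.mp hyc g, mul_inv_cancel_right]
      exact hy
    exact this.comap _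
  set A := A₀.map (P : Subgroup G).subtype with hA
  haveI hAc : IsMulCommutative A := by
    haveI : IsMulCommutative A₀ :=
      ⟨⟨fun a b => Subtype.ext (Subgroup.mem_centralizer_iff.mp (hA0c b.2) a a.2)⟩⟩
    exact Subgroup.map_isMulCommutative A₀ _
  have hPA : (P : Subgroup G) ≤ Subgroup.centralizer (A : Set G) := by
    rw [← h A hAc]
    intro g hg
    rw [Subgroup.mem_normalizer_iff]
    intro a
    constructor
    · rintro ⟨a₀, ha₀, rfl⟩
      exact ⟨⟨g, hg⟩ * a₀ * ⟨g, hg⟩⁻¹, hA0n.conj_mem a₀ ha₀ _, rfl⟩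
    · rintro ⟨a₀, ha₀, he⟩
      refine ⟨⟨g, hg⟩⁻¹ * a₀ * ⟨g, hg⟩⁻¹⁻¹, hA0n.conj_mem a₀ ha₀ _, ?_⟩
      simp only [map_mul, map_inv, he]
      simp [mul_assoc]
  apply hxZ
  rw [hZ, Subgroup.mem_center_iff]
  intro g
  apply Subtype.ext
  exact (Subgroup.mem_centralizer_iff.mp (hPA g.2) x
    ⟨x, Subgroup.mem_sup_right (Subgroup.mem_zpowers x), rfl⟩).symm

/-- If in a finite group the normalizer of each abelian subgroup coincides with its centralizer, then the group is abelian. -/
theorem result {G : Type*} [Group G] [Finite G] (h : ∀ A : Subgroup G, IsMulCommutative A → Subgroup.normalizer (A : Set G) = Subgroup.centralizer (A : Set G)) : IsMulCommutative G := by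
  refine ⟨⟨fun x y => ?_⟩⟩
  rw [← commutatorElement_eq_one_iff_mul_comm]
  set z := ⁅x, y⁆ with hz
  have key : ∀ p : ℕ, p.Prime → ¬ p ∣ orderOf z := by
    intro p hp hd
    haveI := Fact.mk hp
    obtain ⟨P⟩ : Nonempty (Sylow p G) := inferInstance
    haveI hPc := sylow_comm h P
    have hP : Subgroup.normalizer (P : Set G) ≤ Subgroup.centralizer (P : Set G) :=
      (h (P : Subgroup G) hPc).le
    have hzk : z ∈ (MonoidHom.transferSylow P hP).ker := by
      rw [MonoidHom.mem_ker, hz, map_commutatorElement, commutatorElement_eq_one_iff_mul_comm]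
      exact mul_comm' _ _
    apply MonoidHom.not_dvd_card_ker_transferSylow P hP
    exact hd.trans (by rw [← Nat.card_zpowers]; exact Subgroup.card_dvd_of_le (Subgroup.zpowers_le.mpr hzk))
  rw [← orderOf_eq_one_iff]
  by_contra hne
  obtain ⟨p, hp, hd⟩ := Nat.exists_prime_and_dvd hne
  exact key p hp hd

end Cfsg.Agent.S0578
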