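import Cfsg.Statements.S0580
import Cfsg.Agent.H31.Basic

set_option autoImplicit false
open Cfsg

namespace Cfsg.Agent.S0580

universe u

/-- If every maximal subgroup has prime index, the Sylow subgroup of the largest prime is normal. -/
theorem sylow_max_normal {G : Type*} [Group G] [Finite G]
    (h : ∀ M : Subgroup G, IsCoatom M → M.index.Prime) {p : ℕ} [Fact p.Prime]
    (hmax : ∀ r : ℕ, r.Prime → r ∣ Nat.card G → r ≤ p) (P : Sylow p G) :
    (P : Subgroup G).Normal := by
  by_contra hn
  have hne : Subgroup.normalizer (P : Set G) ≠ ⊤ := fun e => hn (Subgroup.normalizer_eq_top_iff.mp e)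
  obtain ⟨M, hM, hle⟩ := (eq_top_or_exists_le_coatom (Subgroup.normalizer (P : Set G))).resolve_left hne
  have hr := h M hM
  have hPM : (P : Subgroup G) ≤ M := Subgroup.le_normalizer.trans hle
  have h1 : (Subgroup.normalizer (P : Set G)).index ≡ 1 [MOD p] :=
    P.card_eq_index_normalizer ▸ card_sylow_modEq_one p G
  have h2 : (Subgroup.normalizer (P : Set G)).relIndex M ≡ 1 [MOD p] := by
    have := card_sylow_modEq_one p M
    rw [(P.subtype hPM).card_eq_index_normalizer] at this
    have e : ((P.subtype hPM : Sylow p M) : Set M) = (((P : Subgroup G).subgroupOf M : Subgroup M) : Set M) := rfl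
    rwa [e, ← Subgroup.subgroupOf_normalizer_eq hPM] at this
  rw [← Subgroup.relIndex_mul_index hle] at h1
  have h3 : M.index ≡ 1 [MOD p] := by
    have := (h2.mul_right M.index).symm.trans h1
    simpa using this
  have hp1 : p ∣ M.index - 1 := (Nat.modEq_iff_dvd' hr.one_le).mp h3.symm
  have := hmax M.index hr M.index_dvd_card
  have h4 := Nat.le_of_dvd (by have := hr.two_le; omega) hp1
  have := hr.two_le
  omega

theorem aux : ∀ n : ℕ, ∀ (G : Type u) [Group G] [Finite G], Nat.card G ≤ n →
    (∀ M : Subgroup G, IsCoatom M → M.index.Prime) → Group.IsSolvable G := by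
  intro n
  induction n with
  | zero =>
    intro G _ _ hn _
    exact absurd hn (Nat.not_le.mpr Nat.card_pos)
  | succ n ih =>
    intro G _ _ hn h
    cases subsingleton_or_nontrivial G with
    | inl hs => infer_instance
    | inr hnt =>
      have hne : (Nat.card G).primeFactors.Nonempty :=
        Nat.nonempty_primeFactors.mpr Finite.one_lt_card
      set p := (Nat.card G).primeFactors.max' hne with hpdef
      have hpm := Finset.max'_mem _ hne
      rw [← hpdef, Nat.mem_primeFactors] at hpm
      haveI := Fact.mk hpm.1
      obtain ⟨P⟩ : Nonempty (Sylow p G) := inferInstance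
      haveI := sylow_max_normal h (fun r hr hrd => Finset.le_max' _ r
        (Nat.mem_primeFactors.mpr ⟨hr, hrd, Nat.card_pos.ne'⟩)) P
      have hPne : (P : Subgroup G) ≠ ⊥ := P.ne_bot_of_dvd_card hpm.2.1
      haveI : Group.IsNilpotent (P : Subgroup G) := P.isPGroup'.isNilpotent
      haveI hq : Group.IsSolvable (G ⧸ (P : Subgroup G)) := by
        apply ih
        · have := (P : Subgroup G).card_eq_card_quotient_mul_card_subgroup
          have h1 := (Subgroup.one_lt_card_iff_ne_bot _).mpr hPne
          have h2 := lt_mul_of_one_lt_right (Nat.card_pos (α := G ⧸ (P : Subgroup G))) h1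
          omega
        · intro M hM
          rw [← Subgroup.index_comap_of_surjective M (QuotientGroup.mk'_surjective (P : Subgroup G))]
          exact h _ (Subgroup.isCoatom_comap_of_surjective (QuotientGroup.mk'_surjective _) hM)
      exact solvable_of_ker_le_range (P : Subgroup G).subtype (QuotientGroup.mk' (P : Subgroup G)) (by simp)

/-- If every maximal subgroup of a finite group has prime index, then the group is solvable. -/
theorem result {G : Type*} [Group G] [Finite G] (h : ∀ M : Subgroup G, IsCoatom M → M.index.Prime) : Group.IsSolvable G := by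
  exact aux (Nat.card G) G le_rfl h

end Cfsg.Agent.S0580
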