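import Cfsg.Statements.S0579
import Cfsg.Agent.H62.TameAction
import Cfsg.Agent.H31.Basic
import Cfsg.Agent.S0580
import Cfsg.Agent.S0051

set_option autoImplicit false
open Cfsg

namespace Cfsg.Agent.S0579

universe u

open Subgroup
open scoped commutatorElement Pointwise

theorem tame_of_supersolvable {p : ℕ} [Fact p.Prime] {G : Type u} [Group G] [Finite G]
    (hG : Cfsg.IsSupersolvable G) :
    ∀ (P : Subgroup G), P.Normal → IsPGroup p P → H62.TameCentralizes p P := by
  refine H30.supersolvable_induction (P := fun X _ => ∀ (P : Subgroup X), P.Normal → IsPGroup p P →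
    H62.TameCentralizes p P) ?_ ?_ hG
  · intro X _ _ P _ _ h _ _ x _
    exact Subsingleton.elim _ _
  · intro X _ _ N hN _ hNp ih P hP hPp h hh hc
    haveI := hP
    set π := QuotientGroup.mk' N with hπ
    have hmap : ∀ x ∈ P, π (h * x * h⁻¹) = π x := fun x hx => by
      rw [map_mul, map_mul, map_inv]
      exact ih (P.map π) (hP.map π (QuotientGroup.mk'_surjective N)) (hPp.map π) (π h)
        (H62.tameSub_map_le π ⟨h, hh, rfl⟩) (hc.coprime_dvd_left (orderOf_map_dvd π h)) (π x)
        ⟨x, hx, rfl⟩
    have hPN : zpowers h ≤ centralizer ((P ⊓ N : Subgroup X) : Set X) := by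
      haveI : IsCyclic N := H30.isCyclic_of_prime_card' hNp
      haveI : IsCyclic (P ⊓ N : Subgroup X) := Subgroup.isCyclic_of_le inf_le_right
      obtain ⟨k, hk⟩ := IsPGroup.iff_card.mp (hPp.to_le (inf_le_left : P ⊓ N ≤ P))
      refine zpowers_le.mpr (mem_centralizer_iff.mpr fun x hx => ?_)
      have := H62.tame_cyclic (P ⊓ N) hk hh hc hx
      calc x * h = (h * x * h⁻¹) * h := by rw [this]
        _ = h * x := by group
    have hnorm : zpowers h ≤ normalizer (P : Set X) := by rw [normalizer_eq_top]; exact le_top
    have hcop : (Nat.card (zpowers h)).Coprime (Nat.card P) := by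
      obtain ⟨k, hk⟩ := IsPGroup.iff_card.mp hPp
      rw [Nat.card_zpowers, hk]
      exact hc.pow_right k
    have hle : ⁅P, zpowers h⁆ ≤ P ⊓ N := by
      refine le_inf (commutator_le_left P _) (commutator_le.mpr fun x hx y hy => ?_)
      rw [← QuotientGroup.eq_one_iff, ← QuotientGroup.mk'_apply, ← hπ, map_commutatorElement,
        commutatorElement_eq_one_iff_mul_comm]
      obtain ⟨i, rfl⟩ := mem_zpowers_iff.mp hy
      rw [map_zpow]
      have hcm : Commute (π x) (π h) := by
        have := hmap x hx
        rw [map_mul, map_mul, map_inv, mul_inv_eq_iff_eq_mul] at this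
        exact this.symm
      exact hcm.zpow_right i
    intro x hx
    have h1 := Coprime.le_centralizer_of_commutator_le hnorm hcop hle hPN (mem_zpowers h)
    rw [← mem_centralizer_iff.mp h1 x hx, mul_inv_cancel_right]

theorem aux : ∀ n : ℕ, ∀ (G : Type u) [Group G] [Finite G], Nat.card G ≤ n →
    (∀ M : Subgroup G, IsCoatom M → M.index.Prime) → Cfsg.IsSupersolvable G := by
  intro n
  induction n with
  | zero =>
    intro G _ _ hn _
    exact absurd hn (Nat.not_le.mpr Nat.card_pos)
  | succ n ih =>
    intro G _ _ hn h
    rcases subsingleton_or_nontrivial G with hs | hnt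
    · exact H30.isSupersolvable_of_subsingleton
    have hquot : ∀ N : Subgroup G, [N.Normal] → N ≠ ⊥ → Cfsg.IsSupersolvable (G ⧸ N) := by
      intro N _ hN
      refine ih _ (by have := H30.card_quotient_lt N hN; omega) fun M hM => ?_
      rw [← Subgroup.index_comap_of_surjective M (QuotientGroup.mk'_surjective N)]
      exact h _ (Subgroup.isCoatom_comap_of_surjective (QuotientGroup.mk'_surjective _) hM)
    have hne : (Nat.card G).primeFactors.Nonempty :=
      Nat.nonempty_primeFactors.mpr Finite.one_lt_card
    set p := (Nat.card G).primeFactors.max' hne with hpdef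
    have hpm := Finset.max'_mem _ hne
    rw [← hpdef, Nat.mem_primeFactors] at hpm
    haveI := Fact.mk hpm.1
    obtain ⟨P⟩ : Nonempty (Sylow p G) := inferInstance
    haveI := S0580.sylow_max_normal h (fun r hr hrd => Finset.le_max' _ r
      (Nat.mem_primeFactors.mpr ⟨hr, hrd, Nat.card_pos.ne'⟩)) P
    have hPne : (P : Subgroup G) ≠ ⊥ := P.ne_bot_of_dvd_card hpm.2.1
    set F := (frattini (P : Subgroup G)).map (P : Subgroup G).subtype with hF
    haveI : F.Normal :=
      inferInstanceAs ((frattini (P : Subgroup G)).map (P : Subgroup G).subtype).Normal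
    by_cases hFb : F = ⊥
    · -- the Sylow subgroup is elementary abelian
      have hfr : frattini (P : Subgroup G) = ⊥ :=
        (Subgroup.map_eq_bot_iff_of_injective _ (subtype_injective _)).mp hFb
      have hcomm : ∀ x ∈ (P : Subgroup G), ∀ y ∈ (P : Subgroup G), x * y = y * x := by
        intro x hx y hy
        have h1 := PGroups.commutator_le_frattini P.isPGroup'
          (commutator_mem_commutator (mem_top (⟨x, hx⟩ : (P : Subgroup G))) (mem_top ⟨y, hy⟩))
        rw [hfr, mem_bot, commutatorElement_eq_one_iff_mul_comm] at h1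
        exact congrArg Subtype.val h1
      have hexp : ∀ x ∈ (P : Subgroup G), x ^ p = 1 := by
        intro x hx
        have h1 := PGroups.pow_mem_frattini P.isPGroup' ⟨x, hx⟩
        rw [hfr, mem_bot] at h1
        exact congrArg Subtype.val h1
      obtain ⟨N, hNP, hN, hNne, hmin⟩ :=
        H31.exists_minNormal (inferInstance : (P : Subgroup G).Normal) hPne
      haveI := hN
      obtain ⟨L, -, hLmax⟩ := Finite.exists_le_maximal
        (p := fun L : Subgroup G => L ≤ P ∧ L ⊓ N = ⊥) (a := ⊥) ⟨bot_le, by simp⟩
      have hNL : N ⊔ L = P := by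
        refine le_antisymm (sup_le hNP hLmax.prop.1) fun x hx => ?_
        by_contra hxn
        have hcc : zpowers x ≤ normalizer (L : Set G) := zpowers_le.mpr
          (centralizer_le_normalizer _ (mem_centralizer_iff.mpr fun y hy =>
            hcomm y (hLmax.prop.1 hy) x hx))
        have h2 : (L ⊔ zpowers x) ⊓ N = ⊥ := by
          refine (eq_bot_iff_forall _).mpr fun z hz => ?_
          have hz' : z ∈ (L : Set G) * (zpowers x : Set G) := by
            rw [← Subgroup.coe_mul_of_right_le_normalizer_left _ _ hcc]; exact hz.1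
          obtain ⟨l, hl, w, hw, rfl⟩ := hz'
          by_cases hw1 : w = 1
          · exact (eq_bot_iff_forall _).mp hLmax.prop.2 _ ⟨mul_mem hl (hw1 ▸ one_mem L), hz.2⟩
          refine absurd ?_ hxn
          have hwNL : w ∈ N ⊔ L := by
            have h3 := mul_mem (mem_sup_right (S := N) (inv_mem hl)) (mem_sup_left (T := L) hz.2)
            simpa using h3
          have hxo : orderOf x = p := orderOf_eq_prime (hexp x hx) (by
            rintro rfl; exact hw1 (by simpa using hw))
          have hwo : orderOf w = p := orderOf_eq_prime (hexp w (by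
            have := zpowers_le.mpr hx hw; exact this)) hw1
          have heq : zpowers w = zpowers x := Subgroup.eq_of_le_of_card_ge (zpowers_le.mpr hw)
            (by rw [Nat.card_zpowers, Nat.card_zpowers, hxo, hwo])
          exact zpowers_le.mpr hwNL (heq.symm ▸ mem_zpowers x)
        have h3 := hLmax.le_of_ge (y := L ⊔ zpowers x)
          ⟨sup_le hLmax.prop.1 (zpowers_le.mpr hx), h2⟩ le_sup_left
        exact hxn (mem_sup_right (h3 (mem_sup_right (mem_zpowers x))))
      haveI : IsMulCommutative N :=
        ⟨⟨fun a b => Subtype.ext (hcomm a (hNP a.2) b (hNP b.2))⟩⟩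
      obtain ⟨K, hK⟩ := S0051.result N (P : Subgroup G) hNP (by
        obtain ⟨k, hk⟩ := IsPGroup.iff_card.mp (P.isPGroup'.to_le hNP)
        rw [hk]
        exact Nat.Coprime.pow_left k (hpm.1.coprime_iff_not_dvd.mpr P.not_dvd_index)) L hLmax.prop.1
        hLmax.prop.2 hNL
      have hKne : K ≠ ⊤ := by
        rintro rfl
        exact hNne (Subgroup.isComplement'_top_right.mp hK)
      obtain ⟨M, hM, hKM⟩ := (eq_top_or_exists_le_coatom K).resolve_left hKne
      have hsup : N ⊔ M = ⊤ := top_le_iff.mp (hK.sup_eq_top ▸ sup_le_sup_left hKM N)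
      have hinf : N ⊓ M = ⊥ := by
        rcases hmin (N ⊓ M) (H31.inf_normal_of_supplement
          (fun x hx y hy => hcomm x (hNP hx) y (hNP hy)) hsup) inf_le_left with e | e
        · exact e
        · exfalso
          rw [inf_eq_left] at e
          rw [sup_of_le_right e] at hsup
          exact hM.1 hsup
      have hcomp : Subgroup.IsComplement' N M := Subgroup.isComplement'_of_disjoint_and_mul_eq_univ
        (disjoint_iff.mpr hinf) (by rw [← Subgroup.normal_mul, hsup, coe_top])
      have hidx : (Nat.card N).Prime := hcomp.index_eq_card ▸ h M hM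
      exact H30.isSupersolvable_of_quotient_cyclic N (H30.isCyclic_of_prime_card' hidx) (hquot N hNne)
    · refine H62.supersolvable_of_tame (P : Subgroup G) P.isPGroup' ?_ (hquot _ hPne)
      intro h₀ hh hc x hx
      set π := QuotientGroup.mk' F with hπ
      have htriv : ∀ a ∈ zpowers h₀, ∀ k ∈ (P : Subgroup G), a * k * a⁻¹ * k⁻¹ ∈ F := by
        intro a ha k hk
        obtain ⟨i, rfl⟩ := mem_zpowers_iff.mp ha
        rw [← QuotientGroup.eq_one_iff, ← QuotientGroup.mk'_apply, ← hπ, map_mul, map_mul, map_mul,
          map_inv, map_inv, map_zpow]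
        have h1 := tame_of_supersolvable (hquot F hFb) ((P : Subgroup G).map π)
          ((inferInstance : (P : Subgroup G).Normal).map π (QuotientGroup.mk'_surjective F))
          (P.isPGroup'.map π) (π h₀) (H62.tameSub_map_le π ⟨h₀, hh, rfl⟩)
          (hc.coprime_dvd_left (orderOf_map_dvd π h₀)) (π k) ⟨k, hk, rfl⟩
        rw [mul_inv_eq_iff_eq_mul] at h1
        have hcm : Commute (π h₀) (π k) := h1
        rw [(hcm.zpow_left i).eq, mul_inv_cancel_right, mul_inv_cancel]
      have hcop : (Nat.card (zpowers h₀)).Coprime (Nat.card (frattini (P : Subgroup G))) := by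
        obtain ⟨k, hk⟩ := IsPGroup.iff_card.mp (P.isPGroup'.to_subgroup (frattini (P : Subgroup G)))
        rw [Nat.card_zpowers, hk]
        exact hc.pow_right k
      have h2 := Coprime.le_centralizer_of_frattini
        (by rw [normalizer_eq_top]; exact le_top) hcop htriv (mem_zpowers h₀)
      rw [← mem_centralizer_iff.mp h2 x hx, mul_inv_cancel_right]

/-- Huppert's supersolvability criterion: if every maximal subgroup of a finite group has prime index, then the group is supersolvable. -/
theorem result {G : Type*} [Group G] [Finite G] (h : ∀ M : Subgroup G, IsCoatom M → M.index.Prime) : Cfsg.IsSupersolvable G := by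
  exact aux (Nat.card G) G le_rfl h

end Cfsg.Agent.S0579
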