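import Cfsg.Statements.S0583
import Cfsg.Agent.H31.Basic
import Cfsg.Agent.Cores.Fitting

set_option autoImplicit false
open Cfsg

namespace Cfsg.Agent.S0583

/-- In a finite group the Fitting subgroup is contained in the centralizer of each minimal normal subgroup. -/
theorem result {G : Type*} [Group G] [Finite G] (M : Subgroup G) [M.Normal] (hM : M ≠ ⊥) (hmin : ∀ K : Subgroup G, K.Normal → K ≤ M → K = ⊥ ∨ K = M) : Cfsg.fittingSubgroup G ≤ Subgroup.centralizer (M : Set G) := by
  haveI : (Cfsg.fittingSubgroup G).Normal := inferInstance
  set F := Cfsg.fittingSubgroup G with hF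
  rcases hmin ⁅M, F⁆ inferInstance (Subgroup.commutator_le_left M F) with h | h
  · rw [Subgroup.commutator_comm] at h
    exact Subgroup.commutator_eq_bot_iff_le_centralizer.mp h
  · exfalso
    haveI : Group.IsNilpotent F := Cfsg.Agent.Cores.fittingSubgroup_isNilpotent
    obtain ⟨n, hn⟩ := Subgroup.nilpotent_iff_lowerCentralSeries.mp (inferInstance : Group.IsNilpotent F)
    have key : ∀ k, M ≤ ((⊤ : Subgroup F).lowerCentralSeries k).map F.subtype := by
      intro k
      induction k with
      | zero =>
        rw [Subgroup.lowerCentralSeries_zero, ← MonoidHom.range_eq_map, Subgroup.range_subtype,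
          ← h]
        exact Subgroup.commutator_le_right M F
      | succ k ih =>
        rw [← h, Subgroup.lowerCentralSeries_succ, Subgroup.map_commutator,
          ← MonoidHom.range_eq_map, Subgroup.range_subtype]
        exact Subgroup.commutator_mono ih le_rfl
    exact hM (eq_bot_iff.mpr ((key n).trans (by rw [hn, Subgroup.map_bot])))

end Cfsg.Agent.S0583
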