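import Cfsg.Statements.S0584
import Cfsg.Agent.H31.Basic

set_option autoImplicit false
open Cfsg

namespace Cfsg.Agent.S0584

/-- Let B ≤ A be normal subgroups of a finite group G with B contained in the Frattini subgroup of G. If A modulo B is nilpotent then A is nilpotent. -/
theorem result {G : Type*} [Group G] [Finite G] (A B : Subgroup G) [A.Normal] [B.Normal] (hBA : B ≤ A) (hB : B ≤ frattini G) (h : Group.IsNilpotent (↥A ⧸ B.subgroupOf A)) : Group.IsNilpotent A := by
  haveI hAB : (B.subgroupOf A).Normal := inferInstance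
  refine ((Group.isNilpotent_of_finite_tfae (G := A)).out 0 3).mpr ?_
  intro q hq Q
  set π := QuotientGroup.mk' (B.subgroupOf A) with hπ
  haveI := h
  set Qbar : Sylow q (A ⧸ B.subgroupOf A) := Q.mapSurjective (QuotientGroup.mk'_surjective _)
  haveI hQbar : (Qbar : Subgroup (A ⧸ B.subgroupOf A)).Normal := inferInstance
  haveI : Subsingleton (Sylow q (A ⧸ B.subgroupOf A)) :=
    (Sylow.unique_of_normal Qbar hQbar).instSubsingleton
  set K₀ : Subgroup A := (Q : Subgroup A) ⊔ B.subgroupOf A with hK0
  set X : Subgroup G := (Q : Subgroup A).map A.subtype ⊔ B with hX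
  have hXeq : K₀.map A.subtype = X := by
    rw [hK0, Subgroup.map_sup, Subgroup.map_subgroupOf_eq_of_le hBA]
  haveI hXn : X.Normal := by
    constructor
    intro x hx g
    rw [← hXeq] at hx ⊢
    obtain ⟨k, hk, rfl⟩ := hx
    refine ⟨MulAut.conjNormal g k, ?_, by simp⟩
    have hkπ : π k ∈ (Qbar : Subgroup (A ⧸ B.subgroupOf A)) := by
      have : (Qbar : Subgroup (A ⧸ B.subgroupOf A)) = K₀.map π := by
        rw [hK0, Subgroup.map_sup, hπ, QuotientGroup.map_mk'_self, sup_bot_eq]
        rfl
      rw [this]; exact ⟨k, hk, rfl⟩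
    set Q' : Sylow q A := (MulAut.conjNormal g : MulAut A) • Q with hQ'
    have hB' : ∀ b ∈ B.subgroupOf A, MulAut.conjNormal g b ∈ B.subgroupOf A := by
      intro b hb
      rw [Subgroup.mem_subgroupOf, MulAut.conjNormal_apply]
      exact (inferInstance : B.Normal).conj_mem _ hb g
    have e : K₀.map (MulAut.conjNormal (H := A) g).toMonoidHom ≤ K₀ := by
      have hQQ : (Q' : Subgroup A).map π = (Q : Subgroup A).map π := by
        have := congrArg Sylow.toSubgroup
          (Subsingleton.elim (Q'.mapSurjective (QuotientGroup.mk'_surjective (B.subgroupOf A)))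
            (Q.mapSurjective (QuotientGroup.mk'_surjective (B.subgroupOf A))))
        simpa using this
      have hQ'K : (Q' : Subgroup A) ≤ K₀ := by
        have := congrArg (Subgroup.comap π) hQQ
        rw [Subgroup.comap_map_eq, Subgroup.comap_map_eq, hπ, QuotientGroup.ker_mk'] at this
        rw [hK0, ← this]; exact le_sup_left
      rw [hK0, Subgroup.map_sup]
      refine sup_le (le_trans ?_ hQ'K) ?_
      · exact le_of_eq rfl
      · rintro _ ⟨b, hb, rfl⟩
        exact Subgroup.mem_sup_right (hB' b hb)
    exact e ⟨k, hk, rfl⟩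
  have hQX : ((Q : Subgroup A).map A.subtype) ≤ X := le_sup_left
  set N := Subgroup.normalizer (((Q : Subgroup A).map A.subtype : Subgroup G) : Set G) with hN
  have hQmap : (Q : Subgroup A).map A.subtype ≤ A := Subgroup.map_subtype_le _
  have hXA : X ≤ A := sup_le hQmap hBA
  have hS : IsPGroup q ((Q : Subgroup A).map A.subtype) := Q.isPGroup'.map _
  have hidx : ¬ q ∣ (((Q : Subgroup A).map A.subtype).subgroupOf X).index := by
    intro hd
    apply Q.not_dvd_index
    have : ((Q : Subgroup A).map A.subtype).relIndex X * X.relIndex A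
        = ((Q : Subgroup A).map A.subtype).relIndex A := Subgroup.relIndex_mul_relIndex _ _ _ hQX hXA
    have h2 : ((Q : Subgroup A).map A.subtype).relIndex A = (Q : Subgroup A).index := by
      rw [Subgroup.relIndex, Subgroup.subgroupOf,
        Subgroup.comap_map_eq_self_of_injective A.subtype_injective]
    rw [← h2, ← this]
    exact Dvd.dvd.mul_right hd _
  have hS' : IsPGroup q (((Q : Subgroup A).map A.subtype).subgroupOf X) :=
    hS.comap_of_injective X.subtype X.subtype_injective
  have hfr := Sylow.normalizer_sup_eq_top (hS'.toSylow hidx)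
  rw [IsPGroup.toSylow_coe, Subgroup.map_subgroupOf_eq_of_le hQX] at hfr
  have hNtop : N = ⊤ := by
    apply frattini_nongenerating
    rw [eq_top_iff, ← hfr]
    refine sup_le le_sup_left (sup_le (Subgroup.le_normalizer.trans le_sup_left) (hB.trans le_sup_right))
  constructor
  intro n hn a
  have ha : (a : G) ∈ N := hNtop ▸ Subgroup.mem_top _
  have := (Subgroup.mem_normalizer_iff.mp ha (n : G)).mp ⟨n, hn, rfl⟩
  obtain ⟨m, hm, hme⟩ := this
  have : m = a * n * a⁻¹ := Subtype.ext (by simpa using hme)
  rwa [← this]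

end Cfsg.Agent.S0584
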