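import Cfsg.Statements.S0585
import Cfsg.Agent.H31.Basic

set_option autoImplicit false
open Cfsg

namespace Cfsg.Agent.S0585

/-- If the Frattini subgroup of a finite group G is trivial, then every abelian normal subgroup of G has a complement in G. -/
theorem result {G : Type*} [Group G] [Finite G] (hΦ : frattini G = ⊥) (A : Subgroup G) [A.Normal] [IsMulCommutative A] : ∃ H : Subgroup G, Subgroup.IsComplement' A H := by
  obtain ⟨H, -, hmin⟩ := Finite.exists_le_minimal
    (p := fun K : Subgroup G => A ⊔ K = ⊤) (show A ⊔ ⊤ = ⊤ from sup_top_eq _)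
  have hsup : A ⊔ H = ⊤ := hmin.prop
  have hcomm : ∀ x ∈ A, ∀ y ∈ A, x * y = y * x := fun x hx y hy =>
    congrArg Subtype.val (mul_comm' (⟨x, hx⟩ : A) ⟨y, hy⟩)
  haveI hD : (A ⊓ H).Normal := Cfsg.Agent.H31.inf_normal_of_supplement hcomm hsup
  have hDbot : A ⊓ H = ⊥ := by
    rw [eq_bot_iff, ← hΦ]
    refine le_iInf₂ fun M hM => ?_
    by_contra hDM
    have htop : M ⊔ (A ⊓ H) = ⊤ := hM.2 _ (left_lt_sup.mpr hDM)
    have h2 : A ⊔ H ⊓ M = ⊤ := by
      rw [eq_top_iff, ← hsup, sup_le_iff]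
      refine ⟨le_sup_left, fun x hx => ?_⟩
      have hx' : x ∈ (↑(M ⊔ A ⊓ H) : Set G) := by rw [htop]; trivial
      rw [Subgroup.mul_normal] at hx'
      obtain ⟨m, hm, d, hd, rfl⟩ := hx'
      have hd' : d ∈ A ∧ d ∈ H := hd
      have hmH : m ∈ H := by
        have := mul_mem hx (inv_mem hd'.2)
        rwa [mul_inv_cancel_right] at this
      exact mul_mem (Subgroup.mem_sup_right ⟨hmH, hm⟩) (Subgroup.mem_sup_left hd'.1)
    exact hDM (inf_le_right.trans ((hmin.le_of_le h2 inf_le_left).trans inf_le_right))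
  refine ⟨H, Subgroup.isComplement'_of_disjoint_and_mul_eq_univ (disjoint_iff.mpr hDbot) ?_⟩
  rw [← Subgroup.normal_mul, hsup, Subgroup.coe_top]

end Cfsg.Agent.S0585
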