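import Cfsg.Statements.S0586
import Cfsg.Agent.H31.Basic
import Cfsg.Agent.Cores.Fitting
import Cfsg.Agent.S0575
import Cfsg.Agent.S0585

set_option autoImplicit false
open Cfsg

namespace Cfsg.Agent.S0586

open scoped commutatorElement

/-- If the Frattini subgroup of a finite group G is trivial, then the Fitting subgroup of G equals the join of all abelian minimal normal subgroups of G. -/
theorem result {G : Type*} [Group G] [Finite G] (hΦ : frattini G = ⊥) : Cfsg.fittingSubgroup G = sSup {N : Subgroup G | N.Normal ∧ N ≠ ⊥ ∧ IsMulCommutative N ∧ ∀ K : Subgroup G, K.Normal → K ≤ N → K = ⊥ ∨ K = N} := by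
  set F := Cfsg.fittingSubgroup G with hF
  haveI : F.Normal := inferInstance
  haveI : Group.IsNilpotent F := Cfsg.Agent.Cores.fittingSubgroup_isNilpotent
  have hcomm : ∀ x ∈ F, ∀ y ∈ F, x * y = y * x := by
    intro x hx y hy
    have hc : commutator F ≤ frattini F := by
      refine le_iInf₂ fun M hM => ?_
      haveI : M.Normal := Subgroup.NormalizerCondition.normal_of_coatom (H := M) Group.normalizerCondition_of_isNilpotent hM
      have hsimp : IsSimpleGroup (F ⧸ M) := by
        haveI : Nontrivial (F ⧸ M) := QuotientGroup.nontrivial_iff.mpr hM.1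
        refine ⟨fun K hK => ?_⟩
        rcases hM.le_iff.mp (show M ≤ K.comap (QuotientGroup.mk' M) from
          fun m hm => by rw [Subgroup.mem_comap, QuotientGroup.mk'_apply,
            (QuotientGroup.eq_one_iff m).mpr hm]; exact one_mem K) with h | h
        · right
          rw [← Subgroup.map_comap_eq_self_of_surjective (QuotientGroup.mk'_surjective M) K, h,
            Subgroup.map_top_of_surjective _ (QuotientGroup.mk'_surjective M)]
        · left
          rw [← Subgroup.map_comap_eq_self_of_surjective (QuotientGroup.mk'_surjective M) K, h,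
            QuotientGroup.map_mk'_self]
      rw [commutator_def, Subgroup.commutator_le]
      intro u _ v _
      rw [← QuotientGroup.eq_one_iff]
      show QuotientGroup.mk' M _ = 1
      rw [map_commutatorElement, commutatorElement_eq_one_iff_mul_comm]
      exact mul_comm _ _
    have h2 : (frattini F).map F.subtype ≤ ⊥ := hΦ ▸ Cfsg.Agent.S0575.result F
    rw [← commutatorElement_eq_one_iff_mul_comm, ← Subgroup.mem_bot]
    exact h2 ⟨⁅(⟨x, hx⟩ : F), ⟨y, hy⟩⁆,
      hc (Subgroup.commutator_mem_commutator (Subgroup.mem_top _) (Subgroup.mem_top _)), rfl⟩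
  set Ms : Set (Subgroup G) := {N : Subgroup G | N.Normal ∧ N ≠ ⊥ ∧ IsMulCommutative N ∧ ∀ K : Subgroup G, K.Normal → K ≤ N → K = ⊥ ∨ K = N} with hMs
  set S := sSup Ms with hS
  have hSF : S ≤ F := by
    refine sSup_le fun N hN => ?_
    haveI := hN.1; haveI := hN.2.2.1
    exact Cfsg.Agent.Cores.le_fittingSubgroup (by letI : CommGroup N := { mul_comm := mul_comm' }; infer_instance)
  haveI hSc : IsMulCommutative S :=
    ⟨⟨fun a b => Subtype.ext (hcomm a (hSF a.2) b (hSF b.2))⟩⟩
  haveI hSn : S.Normal := by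
    constructor
    intro x hx g
    have : S ≤ S.comap (MulAut.conj g).toMonoidHom := by
      refine sSup_le fun N hN y hy => ?_
      exact le_sSup hN (hN.1.conj_mem y hy g)
    exact this hx
  refine le_antisymm ?_ hSF
  obtain ⟨H, hH⟩ := Cfsg.Agent.S0585.result hΦ S
  haveI hD : (F ⊓ H).Normal := by
    refine Cfsg.Agent.H31.inf_normal_of_supplement hcomm (top_le_iff.mp ?_)
    rw [← hH.sup_eq_top]
    exact sup_le_sup_right hSF H
  have hD0 : F ⊓ H = ⊥ := by
    by_contra hne
    obtain ⟨L, hL, hLn, hLne, hmin⟩ := Cfsg.Agent.H31.exists_minNormal hD hne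
    have hLc : IsMulCommutative L :=
      ⟨⟨fun a b => Subtype.ext (hcomm a (hL a.2).1 b (hL b.2).1)⟩⟩
    exact hLne (eq_bot_iff.mpr (le_trans
      (le_inf (le_sSup (s := Ms) ⟨hLn, hLne, hLc, hmin⟩) (hL.trans inf_le_right))
      hH.disjoint.le_bot))
  intro x hx
  have hx' : x ∈ (↑(S ⊔ H) : Set G) := by rw [hH.sup_eq_top]; trivial
  rw [Subgroup.normal_mul] at hx'
  obtain ⟨s, hs, t, ht, rfl⟩ := hx'
  have hst : t ∈ F ⊓ H := by
    refine ⟨?_, ht⟩
    have := mul_mem (inv_mem (hSF hs)) hx
    rwa [inv_mul_cancel_left] at this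
  rw [hD0, Subgroup.mem_bot] at hst
  simpa [hst] using hs

end Cfsg.Agent.S0586
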