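import Cfsg.Statements.S0590
import Cfsg.Agent.Thompson.Quadratic
-- import your own Cfsg.Agent.* helpers here

set_option autoImplicit false
open Cfsg
open scoped commutatorElement

namespace Cfsg.Agent.S0590

/-- Quadratic action on an elementary abelian p-group forces the acting group modulo the kernel of the action to be elementary abelian. -/
theorem result {G : Type*} [Group G] [Finite G] {p : ℕ} [Fact p.Prime] (V H : Subgroup G) (hV : Cfsg.IsElementaryAbelian p V) (hHV : H ≤ Subgroup.normalizer (V : Set G)) (hq : ⁅⁅V, H⁆, H⁆ = ⊥) : ⁅H, H⁆ ≤ Subgroup.centralizer (V : Set G) ∧ ∀ a ∈ H, a ^ p ∈ Subgroup.centralizer (V : Set G) := by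
  refine ⟨Subgroup.commutator_eq_bot_iff_le_centralizer.mp ?_, fun a ha => Subgroup.mem_centralizer_iff.mpr fun v hv => ?_⟩
  · refine Subgroup.commutator_commutator_eq_bot_of_rotate ?_ hq
    rw [Subgroup.commutator_comm H V]
    exact hq
  · have hcV : ⁅a, v⁆ ∈ V := by
      rw [commutatorElement_def]
      exact mul_mem ((Subgroup.mem_normalizer_iff.mp (hHV ha) v).mp hv) (V.inv_mem hv)
    rw [Thompson.pow_conj_of_quadratic (Thompson.quadratic_of_le (Subgroup.zpowers_le.mpr ha) hq) hv p,
      hV.2 _ hcV, one_mul]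

end Cfsg.Agent.S0590
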