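import Cfsg.Statements.S0591
import Cfsg.Agent.Thompson.Quadratic
-- import your own Cfsg.Agent.* helpers here

set_option autoImplicit false
open Cfsg
open scoped commutatorElement

namespace Cfsg.Agent.S0591

/-- For a quadratically acting element a on an elementary abelian p-group V, the fixed points C_V(a) have order at least the square root of the order of V. -/
theorem result {G : Type*} [Group G] [Finite G] {p : ℕ} [Fact p.Prime] (V : Subgroup G) (hV : Cfsg.IsElementaryAbelian p V) (a : G) (ha : a ∈ Subgroup.normalizer (V : Set G)) (hq : ⁅⁅V, Subgroup.zpowers a⁆, Subgroup.zpowers a⁆ = ⊥) : Nat.card V ≤ Nat.card ↥(V ⊓ Subgroup.centralizer (Subgroup.zpowers a : Set G)) ^ 2 := by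
  have hVc := hV.1
  have hcV : ∀ v ∈ V, ⁅a, v⁆ ∈ V := fun v hv => by
    rw [commutatorElement_def]
    exact mul_mem ((Subgroup.mem_normalizer_iff.mp ha v).mp hv) (V.inv_mem hv)
  set C := V ⊓ Subgroup.centralizer (Subgroup.zpowers a : Set G) with hC
  have hmem : ∀ x ∈ V, Commute a x → x ∈ C := fun x hx h => ⟨hx, Subgroup.mem_centralizer_iff.mpr fun y hy => by
    obtain ⟨n, rfl⟩ := Subgroup.mem_zpowers_iff.mp hy
    exact (h.zpow_left n).eq⟩
  let f : V →* V := MonoidHom.mk' (fun v => ⟨⁅a, (v : G)⁆, hcV v v.2⟩) fun x y => Subtype.ext (by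
    show ⁅a, (x : G) * y⁆ = ⁅a, (x : G)⁆ * ⁅a, (y : G)⁆
    have hxy : (x : G) * ⁅a, (y : G)⁆ * (x : G)⁻¹ = ⁅a, (y : G)⁆ := by
      rw [Subgroup.mul_comm_of_mem_isMulCommutative V x.2 (hcV y y.2), mul_inv_cancel_right]
    calc ⁅a, (x : G) * y⁆ = ⁅a, (x : G)⁆ * ((x : G) * ⁅a, (y : G)⁆ * (x : G)⁻¹) := by
          simp only [commutatorElement_def]; group
      _ = _ := by rw [hxy])
  have hk : ∀ v ∈ f.ker, (v : G) ∈ C := fun v hv => hmem _ v.2
    (commutatorElement_eq_one_iff_commute.mp (congrArg Subtype.val (MonoidHom.mem_ker.mp hv)))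
  have hr : ∀ v ∈ f.range, (v : G) ∈ C := fun v hv => by
    obtain ⟨w, rfl⟩ := hv
    exact hmem _ (hcV w w.2) (Thompson.commutator_quadratic_apply hq w.2).symm
  calc Nat.card V = Nat.card f.range * Nat.card f.ker := by
        rw [← f.ker.card_mul_index, Subgroup.index_ker, mul_comm]
    _ ≤ Nat.card C * Nat.card C := by
        refine Nat.mul_le_mul ?_ ?_
        · exact Nat.card_le_card_of_injective (fun v => (⟨_, hr v.1 v.2⟩ : C))
            (fun v w h => Subtype.ext (Subtype.ext (congrArg (fun z : C => (z : G)) h)))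
        · exact Nat.card_le_card_of_injective (fun v => (⟨_, hk v.1 v.2⟩ : C))
            (fun v w h => Subtype.ext (Subtype.ext (congrArg (fun z : C => (z : G)) h)))
    _ = _ := (sq _).symm

end Cfsg.Agent.S0591
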