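import Cfsg.Statements.S0592
import Cfsg.Agent.H31.QuadPair

set_option autoImplicit false
open Cfsg

namespace Cfsg.Agent.S0592

/-- Two quadratically acting generators of a linear group that is not a p-group, with the p'-part of the order of their product dividing q - 1, give a homomorphism onto a subgroup of SL(2, q) that is not a p-group. -/
theorem result {K : Type*} [Field K] [Fintype K] {p : ℕ} [Fact p.Prime] [CharP K p] {W : Type*} [AddCommGroup W] [Module K W] [FiniteDimensional K W] [Finite W] [Nontrivial W] (H : Subgroup (W ≃ₗ[K] W)) (a b : W ≃ₗ[K] W) (hH : H = Subgroup.closure {a, b}) (ha : ∀ w : W, a (a w - w) = a w - w) (hb : ∀ w : W, b (b w - w) = b w - w) (hnp : ¬ IsPGroup p H) (hk : ∃ e k : ℕ, orderOf (a * b) = p ^ e * k ∧ k ∣ Fintype.card K - 1) : ∃ φ : H →* Matrix.SpecialLinearGroup (Fin 2) K, ¬ IsPGroup p φ.range := by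
  classical
  subst hH
  set a' : ↥(Subgroup.closure ({a, b} : Set (W ≃ₗ[K] W))) := ⟨a, Subgroup.subset_closure (by simp)⟩ with ha'
  set b' : ↥(Subgroup.closure ({a, b} : Set (W ≃ₗ[K] W))) := ⟨b, Subgroup.subset_closure (by simp)⟩ with hb'
  obtain ⟨e, k, hord, hkdvd⟩ := hk
  have hgen : Subgroup.closure ({a', b'} : Set ↥(Subgroup.closure ({a, b} : Set (W ≃ₗ[K] W)))) = ⊤ := by
    rw [← Subgroup.closure_closure_coe_preimage (k := ({a, b} : Set (W ≃ₗ[K] W)))]
    congr 1
    ext x
    simp [ha', hb', Subtype.ext_iff]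
  refine Cfsg.Agent.H31.QuadPair.aux (p := p) a' b' hgen e (Module.finrank K W) W le_rfl
    (Subgroup.subtype _) ha hb ?_ ?_
  · show (a * b) ^ (p ^ e * Fintype.card K) = (a * b) ^ p ^ e
    obtain ⟨m, hm⟩ := hkdvd
    have hq : Fintype.card K = k * m + 1 := by
      have := Fintype.card_pos (α := K); omega
    have e1 : p ^ e * Fintype.card K = orderOf (a * b) * m + p ^ e := by rw [hord, hq]; ring
    rw [e1, pow_add, pow_mul, pow_orderOf_eq_one, one_pow, one_mul]
  · intro h
    refine hnp fun x => ?_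
    obtain ⟨i, hi⟩ := h x
    exact ⟨i, Subtype.ext hi⟩

end Cfsg.Agent.S0592
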