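import Cfsg.Statements.S0594
import Cfsg.Agent.Thompson.Quadratic
-- import your own Cfsg.Agent.* helpers here

set_option autoImplicit false
open Cfsg

namespace Cfsg.Agent.S0594

/-- For odd p, two quadratic generators of a faithful group that is not a p-group, one of which acts nontrivially on a normal subgroup of order prime to p, force p = 3 and a section isomorphic to SL(2,3). -/
theorem result {G : Type*} [Group G] [Finite G] {p : ℕ} [Fact p.Prime] (hp : p ≠ 2) (V H : Subgroup G) (hV : Cfsg.IsElementaryAbelian p V) (hHV : H ≤ Subgroup.normalizer (V : Set G)) (hf : H ⊓ Subgroup.centralizer (V : Set G) = ⊥) (a b : G) (hab : H = Subgroup.closure {a, b}) (ha : ⁅⁅V, Subgroup.zpowers a⁆, Subgroup.zpowers a⁆ = ⊥) (hb : ⁅⁅V, Subgroup.zpowers b⁆, Subgroup.zpowers b⁆ = ⊥) (hnp : ¬ IsPGroup p H) (Q : Subgroup G) (hQH : Q ≤ H) (hQn : H ≤ Subgroup.normalizer (Q : Set G)) (hQ : (Nat.card Q).Coprime p) (hQa : ⁅Q, Subgroup.zpowers a⁆ ≠ ⊥) : p = 3 ∧ ∃ (K L : Subgroup G)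 (hL : (L.subgroupOf K).Normal), K ≤ H ∧ Nonempty ((K ⧸ L.subgroupOf K) ≃* Matrix.SpecialLinearGroup (Fin 2) (ZMod 3)) := by
  have haH : a ∈ H := hab ▸ Subgroup.subset_closure (Set.mem_insert _ _)
  have hap := Thompson.pow_prime_eq_one_of_quadratic hV.2 hHV hf haH ha
  set K := Q ⊔ Subgroup.zpowers a with hK
  have hKH : K ≤ H := sup_le hQH (Subgroup.zpowers_le.mpr haH)
  have hn : (Q.subgroupOf K).Normal := Subgroup.normal_subgroupOf_of_le_normalizer (hKH.trans hQn)
  have hf' : K ⊓ Subgroup.centralizer (V : Set G) = ⊥ := le_bot_iff.mp (hf ▸ inf_le_inf_right _ hKH)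
  have hsol : Cfsg.IsPSolvable p K := by
    refine Cores.isPSolvable_of_normal_of_quotient (Q.subgroupOf K) (Cores.isPSolvable_of_coprime ?_)
      (Cores.isPSolvable_of_isPGroup ?_)
    · rwa [Nat.card_congr (Subgroup.subgroupOfEquivOfLe (show Q ≤ K from le_sup_left)).toEquiv]
    · intro z
      obtain ⟨⟨x, hx⟩, rfl⟩ := QuotientGroup.mk'_surjective _ z
      have hx' : x ∈ ((Subgroup.zpowers a ⊔ Q : Subgroup G) : Set G) := by rw [sup_comm]; exact hx
      rw [Subgroup.coe_mul_of_left_le_normalizer_right _ _ ((Subgroup.zpowers_le.mpr haH).trans hQn)] at hx'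
      obtain ⟨c, hc, q, hq', rfl⟩ := hx'
      refine ⟨1, ?_⟩
      have he : (⟨c * q, hx⟩ : K) = ⟨c, le_sup_right (a := Q) hc⟩ * ⟨q, le_sup_left (b := Subgroup.zpowers a) hq'⟩ := rfl
      rw [pow_one, he, map_mul, show QuotientGroup.mk' (Q.subgroupOf K) ⟨q, le_sup_left (b := Subgroup.zpowers a) hq'⟩ = 1 from
        (QuotientGroup.eq_one_iff _).mpr hq', mul_one, ← map_pow]
      obtain ⟨n, rfl⟩ := Subgroup.mem_zpowers_iff.mp hc
      have : (⟨a ^ n, le_sup_right (a := Q) hc⟩ : K) ^ p = 1 := Subtype.ext (by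
        show (a ^ n) ^ p = 1
        rw [← zpow_natCast, ← zpow_mul, mul_comm, zpow_mul, zpow_natCast, hap, one_zpow])
      rw [this, map_one]
  have hna : a ∉ (Cfsg.pCore p K).map K.subtype := by
    rintro ⟨a', ha', hae⟩
    apply hQa
    have hd : Disjoint (Cfsg.pCore p K) (Q.subgroupOf K) := by
      obtain ⟨n, hn'⟩ := IsPGroup.iff_card.mp (Cores.pCore_isPGroup (p := p) (G := K))
      exact disjoint_iff.mpr (Subgroup.inf_eq_bot_of_coprime (by
        rw [hn', Nat.card_congr (Subgroup.subgroupOfEquivOfLe (show Q ≤ K from le_sup_left)).toEquiv]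
        exact hQ.symm.pow_left n))
    have hc := fun q hq => Subgroup.commute_of_normal_of_disjoint _ _ inferInstance hn hd a' (⟨q, le_sup_left (b := Subgroup.zpowers a) hq⟩ : K) ha' hq
    rw [Subgroup.commutator_comm, Subgroup.commutator_eq_bot_iff_le_centralizer, Subgroup.zpowers_le]
    exact Subgroup.mem_centralizer_iff.mpr fun q hq => by
      rw [← hae]; exact (congrArg Subtype.val (hc q hq).eq).symm
  obtain ⟨h3, K', L, hL, hK', he⟩ := Thompson.eq_three_and_section_of_not_mem_pCore hp hV.1 hV.2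
    (hKH.trans hHV) hf' (le_sup_right (a := Q) (Subgroup.mem_zpowers a)) ha hna hsol
  exact ⟨h3, K', L, hL, hK'.trans hKH, he⟩

end Cfsg.Agent.S0594
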