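import Cfsg.Statements.S0599
import Cfsg.Agent.H31.Offender

set_option autoImplicit false
open Cfsg

namespace Cfsg.Agent.S0599

open scoped commutatorElement

/-- The Timmesfeld replacement Theorem: replacing a best offender A by C_A([U, A]) gives a best offender with fixed points [U, A]C_V(A), still nontrivial on V if A was. -/
theorem result {G : Type*} [Group G] [Finite G] {p : ℕ} [Fact p.Prime] (V A : Subgroup G) (hV : Cfsg.IsElementaryAbelian p V) (hAV : A ≤ Subgroup.normalizer (V : Set G)) (hA : Cfsg.IsBestOffenderOn p V A) (U : Subgroup G) (hU : U ≤ V) : Cfsg.IsBestOffenderOn p V (A ⊓ Subgroup.centralizer ((⁅U, A⁆ : Subgroup G) : Set G)) ∧ V ⊓ Subgroup.centralizer ((A ⊓ Subgroup.centralizer ((⁅U, A⁆ : Subgroup G) : Set G) : Subgroup G) : Set G) = ⁅U, A⁆ ⊔ (V ⊓ Subgroup.centralizer (A : Set G)) ∧ (⁅V, A⁆ ≠ ⊥ → ⁅V, A ⊓ Subgroup.centralizer ((⁅U, A⁆ : Subgroup G) : Set G)⁆ ≠ ⊥) := by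
  obtain ⟨hmax, hab, hpow⟩ := hA
  have hVc : ∀ x ∈ V, ∀ y ∈ V, x * y = y * x := fun x hx y hy => by
    haveI := hV.1
    exact congrArg Subtype.val (mul_comm' (⟨x, hx⟩ : V) ⟨y, hy⟩)
  obtain ⟨h1, h2⟩ := Cfsg.Agent.H31.replacement hAV hVc hab hmax hU
  refine ⟨⟨fun B hB => ?_, (Subgroup.commutator_mono inf_le_left inf_le_left).trans hab,
    fun a ha => hpow a ha.1⟩, h1, fun hne hbot => hne ?_⟩
  · exact (hmax B (hB.trans inf_le_left)).trans_eq h2.symm
  rw [Subgroup.commutator_eq_bot_iff_le_centralizer] at hbot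
  have hVp : IsPGroup p V := fun x => ⟨1, by rw [pow_one]; exact Subtype.ext (hV.2 x x.2)⟩
  refine Cfsg.Agent.H31.trivial_of_sup_eq hVp hAV hVc hab hpow (le_antisymm
    (sup_le (Cfsg.Agent.H31.commutator_le_of_le hAV le_rfl) inf_le_left) ?_)
  rw [inf_eq_left.mpr hbot] at h1
  conv_lhs => rw [h1]
  exact sup_le_sup_right (Subgroup.commutator_mono hU le_rfl) _

end Cfsg.Agent.S0599
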