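import Cfsg.Statements.S0605
import Cfsg.Agent.H31.JSub

set_option autoImplicit false
open Cfsg

namespace Cfsg.Agent.S0605

/-- Elements of order p in the centralizer of the Thompson subgroup belong to the Thompson subgroup (so to its centre). -/
theorem result {G : Type*} [Group G] [Finite G] {p : ℕ} [Fact p.Prime] (x : G) (hx : x ∈ Subgroup.centralizer (Cfsg.thompsonSubgroup p G : Set G)) (ho : orderOf x = p) : x ∈ Cfsg.thompsonSubgroup p G := by
  rw [← Cfsg.Agent.H31.thompsonSubgroupOf_top] at hx ⊢
  obtain ⟨A, hA⟩ := Cfsg.Agent.H31.exists_maxIn p (⊤ : Subgroup G)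
  have hAJ := Cfsg.Agent.H31.le_thompsonSubgroupOf hA
  have hel : Cfsg.IsElementaryAbelian p (Subgroup.closure (insert x (A : Set G))) := by
    refine Cfsg.Agent.H31.elem_closure ?_ ?_
    · rintro z (rfl | hz) w (rfl | hw)
      · rfl
      · exact (Subgroup.mem_centralizer_iff.mp hx w (hAJ hw)).symm
      · exact Subgroup.mem_centralizer_iff.mp hx z (hAJ hz)
      · exact Cfsg.Agent.H31.elem_comm hA.2.1 hz hw
    · rintro z (rfl | hz)
      · rw [← ho, pow_orderOf_eq_one]
      · exact hA.2.1.2 z hz
  have hle : A ≤ Subgroup.closure (insert x (A : Set G)) :=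
    fun a ha => Subgroup.subset_closure (Set.mem_insert_of_mem x ha)
  have := Subgroup.eq_of_le_of_card_ge hle (hA.2.2 _ le_top hel)
  exact hAJ (this ▸ Subgroup.subset_closure (Set.mem_insert x (A : Set G)))

end Cfsg.Agent.S0605
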