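import Cfsg.Statements.S0607
import Cfsg.Agent.H31.Offender
import Cfsg.Agent.S0599
import Cfsg.Agent.S0606

set_option autoImplicit false
open Cfsg

namespace Cfsg.Agent.S0607

open scoped commutatorElement

/-- The replacement Theorem for the Thompson subgroup: from A of maximal order among elementary abelian p-subgroups one obtains A₀ = [V, A] C_A([V, A]) of the same kind, quadratic on V and nontrivial on V when A is. -/
theorem result {G : Type*} [Group G] [Finite G] {p : ℕ} [Fact p.Prime] (V : Subgroup G) [V.Normal] (hV : Cfsg.IsElementaryAbelian p V) (A : Subgroup G) (hA : A ∈ Cfsg.maxElementaryAbelianSubgroups p G) : (⁅V, A⁆ ⊔ (A ⊓ Subgroup.centralizer ((⁅V, A⁆ : Subgroup G) : Set G))) ∈ Cfsg.maxElementaryAbelianSubgroups p G ∧ ⁅⁅V, ⁅V, A⁆ ⊔ (A ⊓ Subgroup.centralizer ((⁅V, A⁆ : Subgroup G) : Set G))⁆, ⁅V, A⁆ ⊔ (A ⊓ Subgroup.centralizer ((⁅V, A⁆ : Subgroup G) : Set G))⁆ = ⊥ ∧ (⁅V, A⁆ ≠ ⊥ → ⁅V, ⁅V, A⁆ ⊔ (A ⊓ Subgroup.centralizer ((⁅V, A⁆ : Subgroup G) : Set G))⁆ ≠ ⊥) := by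
  haveI := hA.1.1
  haveI := hV.1
  have hAc : ∀ x ∈ A, ∀ y ∈ A, x * y = y * x := fun x hx y hy =>
    congrArg Subtype.val (mul_comm' (⟨x, hx⟩ : A) ⟨y, hy⟩)
  have hVc : ∀ x ∈ V, ∀ y ∈ V, x * y = y * x := fun x hx y hy =>
    congrArg Subtype.val (mul_comm' (⟨x, hx⟩ : V) ⟨y, hy⟩)
  have hAV : A ≤ Subgroup.normalizer (V : Set G) := by
    rw [Subgroup.normalizer_eq_top]; exact le_top
  have hbest := Cfsg.Agent.S0606.result V hV A hA
  obtain ⟨-, hVB, hnt⟩ := Cfsg.Agent.S0599.result V A hV hAV hbest V le_rfl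
  have hm := (Cfsg.Agent.H31.replacement hAV hVc hbest.2.1 hbest.1 (le_refl V)).2
  set X := ⁅V, A⁆ with hX
  set B := A ⊓ Subgroup.centralizer (X : Set G) with hB
  set C := V ⊓ Subgroup.centralizer (A : Set G) with hC
  have hXV : X ≤ V := Cfsg.Agent.H31.commutator_le_of_le hAV le_rfl
  have hCA : C ≤ A := by
    by_contra hCA
    obtain ⟨c, hc, hcA⟩ := SetLike.not_le_iff_exists.mp hCA
    have hcc : ∀ z ∈ insert c (A : Set G), ∀ w ∈ insert c (A : Set G), z * w = w * z := by
      rintro z (rfl | hz) w (rfl | hw)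
      · rfl
      · exact (Subgroup.mem_centralizer_iff.mp hc.2 w hw).symm
      · exact Subgroup.mem_centralizer_iff.mp hc.2 z hz
      · exact hAc z hz w hw
    haveI := Subgroup.isMulCommutative_closure hcc
    have hel : Cfsg.IsElementaryAbelian p (Subgroup.closure (insert c (A : Set G))) := by
      refine ⟨inferInstance, fun x hx => ?_⟩
      induction hx using Subgroup.closure_induction with
      | mem z hz =>
        rcases hz with rfl | hz
        · exact hV.2 z hc.1
        · exact hA.1.2 z hz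
      | one => exact one_pow p
      | mul a b ha hb h1 h2 =>
        rw [Commute.mul_pow (show Commute a b from
          congrArg Subtype.val (mul_comm' (⟨a, ha⟩ : Subgroup.closure (insert c (A : Set G))) ⟨b, hb⟩)),
          h1, h2, one_mul]
      | inv a _ h1 => rw [inv_pow, h1, inv_one]
    have hlt : A ≤ Subgroup.closure (insert c (A : Set G)) :=
      fun a ha => Subgroup.subset_closure (Set.mem_insert_of_mem c ha)
    have := Subgroup.eq_of_le_of_card_ge hlt (hA.2 _ hel)
    exact hcA (this ▸ Subgroup.subset_closure (Set.mem_insert c (A : Set G)))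
  set A₀ := X ⊔ B with hA₀
  have hXB : ∀ z ∈ (X : Set G) ∪ (B : Set G), ∀ w ∈ (X : Set G) ∪ (B : Set G), z * w = w * z := by
    rintro z (hz | hz) w (hw | hw)
    · exact hVc z (hXV hz) w (hXV hw)
    · exact Subgroup.mem_centralizer_iff.mp (Subgroup.mem_inf.mp hw).2 z hz
    · exact (Subgroup.mem_centralizer_iff.mp (Subgroup.mem_inf.mp hz).2 w hw).symm
    · exact hAc z (Subgroup.mem_inf.mp hz).1 w (Subgroup.mem_inf.mp hw).1
  haveI hA₀c : IsMulCommutative A₀ := by
    rw [hA₀, Subgroup.sup_eq_closure]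
    exact Subgroup.isMulCommutative_closure hXB
  have hel : Cfsg.IsElementaryAbelian p A₀ := by
    refine ⟨inferInstance, fun x hx => ?_⟩
    rw [hA₀, Subgroup.sup_eq_closure] at hx
    induction hx using Subgroup.closure_induction with
    | mem z hz =>
      rcases hz with hz | hz
      · exact hV.2 z (hXV hz)
      · exact hA.1.2 z (Subgroup.mem_inf.mp hz).1
    | one => exact one_pow p
    | mul a b ha hb h1 h2 =>
      rw [← Subgroup.sup_eq_closure] at ha hb
      rw [Commute.mul_pow (show Commute a b from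
        congrArg Subtype.val (mul_comm' (⟨a, ha⟩ : A₀) ⟨b, hb⟩)), h1, h2, one_mul]
    | inv a _ h1 => rw [inv_pow, h1, inv_one]
  have hCB : C ≤ B := by
    refine le_inf hCA fun c hc => ?_
    rw [Subgroup.mem_centralizer_iff]
    exact fun x hx => hVc x (hXV hx) c (Subgroup.mem_inf.mp hc).1
  have hcard : Nat.card A ≤ Nat.card A₀ := by
    have h1 := Cfsg.Agent.H31.card_mul_card_le (X ⊔ C) B
    have h2 : Nat.card ((X ⊔ C) ⊓ B : Subgroup G) ≤ Nat.card C := by
      refine Subgroup.card_le_of_le (le_inf (inf_le_left.trans (sup_le hXV inf_le_left)) ?_)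
      refine inf_le_right.trans (inf_le_left.trans fun a ha => ?_)
      rw [Subgroup.mem_centralizer_iff]
      exact fun z hz => hAc z hz a ha
    have h3 : X ⊔ C ⊔ B = A₀ := by rw [sup_assoc, sup_of_le_right hCB]
    rw [h3] at h1
    have h4 : Nat.card A * Nat.card C = Nat.card B * Nat.card (X ⊔ C : Subgroup G) := by
      have : Nat.card B * Nat.card (V ⊓ Subgroup.centralizer (B : Set G) : Subgroup G)
          = Nat.card A * Nat.card C := hm
      rw [hVB] at this
      exact this.symm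
    refine Nat.le_of_mul_le_mul_right ?_ (Nat.card_pos (α := C))
    calc Nat.card A * Nat.card C = Nat.card (X ⊔ C : Subgroup G) * Nat.card B := by rw [h4, mul_comm]
      _ ≤ Nat.card A₀ * Nat.card ((X ⊔ C) ⊓ B : Subgroup G) := h1
      _ ≤ Nat.card A₀ * Nat.card C := Nat.mul_le_mul_left _ h2
  refine ⟨⟨hel, fun D hD => (hA.2 D hD).trans hcard⟩, ?_, fun hne h0 => ?_⟩
  · rw [Subgroup.commutator_eq_bot_iff_le_centralizer]
    refine (Subgroup.commutator_le.mpr fun v hv a ha => ?_).trans ?_ (b := X)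
    · rw [hA₀, Subgroup.sup_eq_closure] at ha
      induction ha using Subgroup.closure_induction with
      | mem z hz =>
        rcases hz with hz | hz
        · rw [commutatorElement_eq_one_iff_mul_comm.mpr (hVc v hv z (hXV hz))]
          exact one_mem X
        · exact Subgroup.commutator_mem_commutator hv (Subgroup.mem_inf.mp hz).1
      | one => rw [commutatorElement_one_right]; exact one_mem X
      | mul a b ha hb h1 h2 =>
        have e : ⁅v, a * b⁆ = ⁅v, a⁆ * (a * ⁅v, b⁆ * a⁻¹) := by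
          simp only [commutatorElement_def]; group
        rw [← Subgroup.sup_eq_closure] at ha
        have h5 : a * ⁅v, b⁆ = ⁅v, b⁆ * a :=
          congrArg Subtype.val (mul_comm' (⟨a, ha⟩ : A₀) ⟨_, Subgroup.mem_sup_left h2⟩)
        rw [e, h5, mul_inv_cancel_right]
        exact mul_mem h1 h2
      | inv a ha h1 =>
        have e : ⁅v, a⁻¹⁆ = a⁻¹ * ⁅v, a⁆⁻¹ * a := by
          simp only [commutatorElement_def]; group
        rw [← Subgroup.sup_eq_closure] at ha
        have h5 : a⁻¹ * ⁅v, a⁆⁻¹ = ⁅v, a⁆⁻¹ * a⁻¹ :=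
          congrArg Subtype.val (mul_comm' (⟨a⁻¹, inv_mem ha⟩ : A₀)
            ⟨_, Subgroup.mem_sup_left (inv_mem h1)⟩)
        rw [e, h5, inv_mul_cancel_right]
        exact inv_mem h1
    · intro x hx
      rw [Subgroup.mem_centralizer_iff]
      exact fun z hz => congrArg Subtype.val
        (mul_comm' (⟨z, hz⟩ : A₀) ⟨x, Subgroup.mem_sup_left hx⟩)
  · exact hnt hne (eq_bot_iff.mpr ((Subgroup.commutator_mono le_rfl le_sup_right).trans h0.le))

end Cfsg.Agent.S0607
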