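import Cfsg.Statements.S0609
import Cfsg.Agent.H31.VSub
import Cfsg.Agent.Coprime.SchurZassenhaus

set_option autoImplicit false
open Cfsg

namespace Cfsg.Agent.S0609

open scoped Pointwise commutatorElement

variable {G : Type*} [Group G]

/-- Normalizers of `p`-subgroups lift through a normal `p'`-subgroup. -/
theorem lift_normalizer [Finite G] {p : ℕ} [Fact p.Prime] (K X : Subgroup G) [K.Normal]
    (hK : (Nat.card K).Coprime p) (hX : IsPGroup p X) {g : G}
    (hg : QuotientGroup.mk' K g ∈ Subgroup.normalizer (X.map (QuotientGroup.mk' K) : Set (G ⧸ K))) :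
    ∃ k ∈ K, k⁻¹ * g ∈ Subgroup.normalizer (X : Set G) := by
  haveI : Group.IsNilpotent X := hX.isNilpotent
  have hle : X.map (MulAut.conj g).toMonoidHom ≤ K ⊔ X := by
    rintro _ ⟨x, hx, rfl⟩
    have h1 : QuotientGroup.mk' K ((MulAut.conj g).toMonoidHom x) ∈ X.map (QuotientGroup.mk' K) := by
      simp only [MulEquiv.coe_toMonoidHom, MulAut.conj_apply, map_mul, map_inv]
      exact (Subgroup.mem_normalizer_iff.mp hg _).mp (Subgroup.mem_map_of_mem _ hx)
    rw [← Subgroup.mem_comap, Subgroup.comap_map_eq, QuotientGroup.ker_mk', sup_comm] at h1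
    exact h1
  obtain ⟨n, hn⟩ := IsPGroup.iff_card.mp hX
  obtain ⟨k, hk, he⟩ := Cfsg.Agent.Coprime.exists_conj_of_le_sup
    (N := K) (H₁ := X) (H₂ := X.map (MulAut.conj g).toMonoidHom)
    (fun x _ => by rw [Subgroup.normalizer_eq_top]; trivial) hle
    (Subgroup.card_map_of_injective (MulAut.conj g).injective)
    (by rw [hn]; exact (hK.symm.pow_left n)) (Or.inl inferInstance)
  refine ⟨k, hk, Cfsg.Agent.H31.mem_normalizer_of_map_conj ?_⟩
  have e1 : (MulAut.conj (k⁻¹ * g)).toMonoidHom
      = (MulAut.conj k⁻¹).toMonoidHom.comp (MulAut.conj g).toMonoidHom := by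
    rw [map_mul]; rfl
  have e2 : (MulAut.conj k⁻¹).toMonoidHom.comp (MulAut.conj k).toMonoidHom = MonoidHom.id G := by
    ext x; simp [mul_assoc]
  rw [e1, ← Subgroup.map_map, he, Subgroup.map_map, e2, Subgroup.map_id]

/-- Thompson factorizability passes to and from the quotient by the largest normal subgroup of order prime to p. -/
theorem result {G : Type*} [Group G] [Finite G] {p : ℕ} [Fact p.Prime] : Cfsg.IsThompsonFactorizable p G ↔ Cfsg.IsThompsonFactorizable p (G ⧸ Cfsg.pPrimeCore p G) := by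
  set K := Cfsg.pPrimeCore p G with hK
  haveI : K.Normal := inferInstance
  have hKp : (Nat.card K).Coprime p := Cfsg.Agent.Cores.coprime_card_pPrimeCore
  set π := QuotientGroup.mk' K with hπ
  have hsurj : Function.Surjective π := QuotientGroup.mk'_surjective K
  have hbar : Cfsg.pPrimeCore p (G ⧸ K) = ⊥ := Cfsg.Agent.Cores.pPrimeCore_quotient_pPrimeCore
  have hinj : ∀ S : Sylow p G, Function.Injective (π.comp (S : Subgroup G).subtype) := by
    intro S
    rw [← MonoidHom.ker_eq_bot_iff, eq_bot_iff]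
    intro x hx
    rw [MonoidHom.mem_ker] at hx
    have hxK : (x : G) ∈ K := (QuotientGroup.eq_one_iff (x : G)).mp hx
    have h0 : (x : G) ∈ (S : Subgroup G) ⊓ K := ⟨x.2, hxK⟩
    rw [Cfsg.Agent.Cores.disjoint_of_isPGroup_of_coprime S.isPGroup' hKp,
      Subgroup.mem_bot] at h0
    exact Subgroup.mem_bot.mpr (Subtype.ext h0)
  have hrange : ∀ S : Sylow p G, (π.comp (S : Subgroup G).subtype).range = (S : Subgroup G).map π := by
    intro S
    rw [MonoidHom.range_comp, Subgroup.range_subtype]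
  have hJ : ∀ S : Sylow p G,
      Cfsg.thompsonSubgroupOf p ((S.mapSurjective hsurj : Sylow p (G ⧸ K)) : Subgroup (G ⧸ K)) =
        (Cfsg.thompsonSubgroupOf p (S : Subgroup G)).map π := by
    intro S
    show Cfsg.thompsonSubgroupOf p ((S : Subgroup G).map π) = _
    rw [← hrange, ← Cfsg.Agent.H31.thompsonSubgroup_map (hinj S), ← Subgroup.map_map]
    rfl
  have hZ : ∀ S : Sylow p G,
      Cfsg.Agent.H31.omegaZ p ((S.mapSurjective hsurj : Sylow p (G ⧸ K)) : Subgroup (G ⧸ K)) =
        (Cfsg.Agent.H31.omegaZ p (S : Subgroup G)).map π := by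
    intro S
    show Cfsg.Agent.H31.omegaZ p ((S : Subgroup G).map π) = _
    have h1 : Cfsg.Agent.H31.omegaZ p (π.comp (S : Subgroup G).subtype).range
        = (Cfsg.omegaOne p (Subgroup.center ↥(S : Subgroup G))).map (π.comp (S : Subgroup G).subtype) := by
      have h := Cfsg.Agent.H31.map_inf_centralizer (K := (⊤ : Subgroup ↥(S : Subgroup G))) (hinj S)
      rw [top_inf_eq, Subgroup.coe_top, Subgroup.centralizer_univ, ← MonoidHom.range_eq_map] at h
      rw [Cfsg.Agent.H31.omegaOne_map (hinj S), h]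
    rw [← hrange, h1, ← Subgroup.map_map, Cfsg.Agent.H31.omegaOne_center_map_subtype]
  constructor
  · intro h Sb gb
    obtain ⟨S, rfl⟩ := Sylow.mapSurjective_surjective hsurj p Sb
    obtain ⟨g, rfl⟩ := hsurj gb
    obtain ⟨x, hx, c, hc, n, hn, rfl⟩ := h S g
    refine ⟨1, one_mem _, π c, ?_, π n, ?_, ?_⟩
    · change π c ∈ Subgroup.centralizer
        (Cfsg.Agent.H31.omegaZ p ((S.mapSurjective hsurj : Sylow p (G ⧸ K)) : Subgroup (G ⧸ K)) : Set (G ⧸ K))
      rw [hZ, Subgroup.mem_centralizer_iff]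
      rintro _ ⟨z, hz, rfl⟩
      rw [← map_mul, ← map_mul, Subgroup.mem_centralizer_iff.mp hc z hz]
    · rw [hJ]
      exact Subgroup.le_normalizer_map π ⟨n, hn, rfl⟩
    · rw [map_mul, map_mul, show π x = 1 from (QuotientGroup.eq_one_iff x).mpr hx]
  · intro h S g
    obtain ⟨xb, hxb, cb, hcb, nb, hnb, he⟩ := h (S.mapSurjective hsurj) (π g)
    rw [hbar, Subgroup.mem_bot] at hxb
    subst hxb
    obtain ⟨c, rfl⟩ := hsurj cb
    obtain ⟨n, rfl⟩ := hsurj nb
    rw [hJ] at hnb
    change π c ∈ Subgroup.centralizer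
        (Cfsg.Agent.H31.omegaZ p ((S.mapSurjective hsurj : Sylow p (G ⧸ K)) : Subgroup (G ⧸ K)) : Set (G ⧸ K)) at hcb
    rw [hZ] at hcb
    set J := Cfsg.thompsonSubgroupOf p (S : Subgroup G) with hJdef
    set Z := Cfsg.Agent.H31.omegaZ p (S : Subgroup G) with hZdef
    have hJp : IsPGroup p J := S.isPGroup'.to_le (Cfsg.Agent.H31.thompsonSubgroupOf_le p _)
    have hZp : IsPGroup p Z :=
      S.isPGroup'.to_le ((Cfsg.Agent.H31.omegaOne_le p _).trans inf_le_left)
    obtain ⟨k₂, hk₂, hm⟩ := lift_normalizer K J hKp hJp hnb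
    have hcn : π c ∈ Subgroup.normalizer (Z.map π : Set (G ⧸ K)) := by
      rw [Subgroup.mem_normalizer_iff]
      intro z
      constructor
      · intro hz
        rw [← Subgroup.mem_centralizer_iff.mp hcb z hz, mul_inv_cancel_right]
        exact hz
      · intro hz
        have := Subgroup.mem_centralizer_iff.mp hcb _ hz
        have e : z = π c * z * (π c)⁻¹ := by
          calc z = (π c)⁻¹ * (π c * z * (π c)⁻¹ * π c) := by group
            _ = (π c)⁻¹ * (π c * (π c * z * (π c)⁻¹)) := by rw [this]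
            _ = π c * z * (π c)⁻¹ := by group
        rw [e]; exact hz
    obtain ⟨k₁, hk₁, hd⟩ := lift_normalizer K Z hKp hZp hcn
    set d := k₁⁻¹ * c with hdd
    have hdπ : π d = π c := by
      rw [hdd, map_mul, map_inv, show π k₁ = 1 from (QuotientGroup.eq_one_iff k₁).mpr hk₁, inv_one, one_mul]
    have hdc : d ∈ Subgroup.centralizer (Z : Set G) := by
      rw [Subgroup.mem_centralizer_iff]
      intro z hz
      have h0 : ⁅z, d⁆ ∈ Z ⊓ K := by
        refine ⟨?_, ?_⟩
        · have e : ⁅z, d⁆ = z * (d * z⁻¹ * d⁻¹) := by rw [commutatorElement_def]; group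
          rw [e]
          exact mul_mem hz ((Subgroup.mem_normalizer_iff.mp hd _).mp (inv_mem hz))
        · show ⁅z, d⁆ ∈ K
          rw [← QuotientGroup.eq_one_iff]
          show π ⁅z, d⁆ = 1
          rw [map_commutatorElement, hdπ, commutatorElement_eq_one_iff_mul_comm]
          exact Subgroup.mem_centralizer_iff.mp hcb _ (Subgroup.mem_map_of_mem π hz)
      rw [Cfsg.Agent.Cores.disjoint_of_isPGroup_of_coprime hZp hKp,
        Subgroup.mem_bot, commutatorElement_eq_one_iff_mul_comm] at h0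
      exact h0
    set m := k₂⁻¹ * n with hmm
    have hmπ : π m = π n := by
      rw [hmm, map_mul, map_inv, show π k₂ = 1 from (QuotientGroup.eq_one_iff k₂).mpr hk₂, inv_one, one_mul]
    refine ⟨g * (d * m)⁻¹, ?_, d, hdc, m, hm, by group⟩
    rw [← QuotientGroup.eq_one_iff]
    show π (g * (d * m)⁻¹) = 1
    rw [map_mul, map_inv, map_mul, hdπ, hmπ, he, one_mul, mul_inv_cancel]

end Cfsg.Agent.S0609
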