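import Cfsg.Statements.S0612
import Cfsg.Agent.H31.FFBlock

set_option autoImplicit false
open Cfsg

namespace Cfsg.Agent.S0612

/-- In such a faithful group every nontrivial best offender decomposes as a direct product of minimal nontrivially-acting best offenders. -/
theorem result {G : Type*} [Group G] [Finite G] {p : ℕ} [Fact p.Prime] (V H : Subgroup G) (hV : Cfsg.IsElementaryAbelian p V) (hHV : H ≤ Subgroup.normalizer (V : Set G)) (hf : H ⊓ Subgroup.centralizer (V : Set G) = ⊥) (hS1 : Subgroup.centralizer (Cfsg.pPrimeCore p ↥H : Set ↥H) ≤ Cfsg.pPrimeCore p ↥H) (hS3 : H = ⨆ A : {A : Subgroup G // A ≤ H ∧ Cfsg.IsBestOffenderOn p V A}, (A : Subgroup G)) (hH1 : H ≠ ⊥) (A : Subgroup G) (hAH : A ≤ H) (hA : Cfsg.IsBestOffenderOn p V A) (hA1 : A ≠ ⊥) : ∃ (k : ℕ) (B : Fin k → Subgroup G), (∀ i, B i ≤ A ∧ Cfsg.IsBestOffenderOn p V (B i) ∧ ⁅V, B i⁆ ≠ ⊥ ∧ ∀ C : Subgroup G, C ≤ B i → Cfsg.IsBestOffenderOn p V C → ⁅V, C⁆ ≠ ⊥ → C = B i) ∧ iSupIndep B ∧ ⨆ i, B i = A :=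 by
  classical
  have hs : Cfsg.Agent.H31.FF.Setting p V H := ⟨⟨hV, hHV, hf⟩, hS1⟩
  set T : Set G := {a | a ∈ A ∧ Cfsg.Agent.H31.FF.IsTv p V H a} with hT
  have hTgen : Subgroup.closure T = A :=
    le_antisymm ((Subgroup.closure_le A).mpr fun _ h => h.1) (hs.le_closure_tv _ A le_rfl hAH hA)
  haveI := Fintype.ofFinite G
  set S : Finset (Finset G) :=
    Finset.univ.filter fun s : Finset G => (s : Set G) ⊆ T ∧ Subgroup.closure (s : Set G) = A with hSdef
  have hne : S.Nonempty := ⟨T.toFinset, by simp [hSdef, hTgen]⟩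
  obtain ⟨s, hs', hmin⟩ := Finset.exists_min_image S Finset.card hne
  obtain ⟨hsT, hsA⟩ : (s : Set G) ⊆ T ∧ Subgroup.closure (s : Set G) = A := by
    simpa [hSdef] using hs'
  refine ⟨s.card, fun i => Subgroup.zpowers ((s.equivFin.symm i : s) : G), fun i => ?_, ?_, ?_⟩
  · obtain ⟨hiA, hit⟩ := hsT (s.equivFin.symm i).2
    obtain ⟨h1, h2, hc, -, -⟩ := hs.tv_offender hit
    refine ⟨Subgroup.zpowers_le.mpr hiA, h1, h2, fun C hC _ hne => ?_⟩
    rcases (Nat.dvd_prime Fact.out).mp (hc ▸ Subgroup.card_dvd_of_le hC) with e | e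
    · exact absurd (by rw [Subgroup.card_eq_one.mp e, Subgroup.commutator_bot_right]) hne
    · exact Subgroup.eq_of_le_of_card_ge hC (by rw [hc, e])
  · intro i
    set a := ((s.equivFin.symm i : s) : G) with ha
    obtain ⟨-, hat⟩ := hsT (s.equivFin.symm i).2
    rw [disjoint_iff, Subgroup.eq_bot_iff_forall]
    intro x hx
    by_contra hx1
    have hsup : (⨆ (j : Fin s.card) (_ : j ≠ i), Subgroup.zpowers ((s.equivFin.symm j : s) : G)) ≤
        Subgroup.closure ((s.erase a : Finset G) : Set G) := by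
      refine iSup₂_le fun j hj => Subgroup.zpowers_le.mpr (Subgroup.subset_closure ?_)
      refine Finset.mem_erase.mpr ⟨fun e => hj ?_, (s.equivFin.symm j).2⟩
      exact s.equivFin.symm.injective (Subtype.ext e)
    obtain ⟨k, hk : a ^ k = x⟩ := mem_powers_iff_mem_zpowers.mpr hx.1
    have hcop : k.Coprime (orderOf a) := by
      rw [hat.2.1]
      refine ((Nat.Prime.coprime_iff_not_dvd Fact.out).mpr fun ⟨l, hl⟩ => hx1 ?_).symm
      rw [← hk, hl, pow_mul, ← hat.2.1, pow_orderOf_eq_one, one_pow]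
    obtain ⟨m, hm⟩ := exists_pow_eq_self_of_coprime hcop
    have hain : a ∈ Subgroup.closure ((s.erase a : Finset G) : Set G) := by
      have h9 : (a ^ k) ^ m ∈ Subgroup.closure ((s.erase a : Finset G) : Set G) :=
        pow_mem (hk.symm ▸ hsup hx.2) m
      rwa [hm] at h9
    have hmem : s.erase a ∈ S := by
      simp only [hSdef, Finset.mem_filter, Finset.mem_univ, true_and]
      refine ⟨fun y hy => hsT (Finset.mem_of_mem_erase hy), le_antisymm ?_ ?_⟩
      · rw [← hsA]
        exact Subgroup.closure_mono fun y hy => Finset.mem_of_mem_erase hy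
      · rw [← hsA, Subgroup.closure_le]
        intro y hy
        by_cases hya : y = a
        · subst hya; exact hain
        · exact Subgroup.subset_closure (Finset.mem_erase.mpr ⟨hya, hy⟩)
    exact absurd (hmin _ hmem) (not_le.mpr (Finset.card_erase_lt_of_mem (s.equivFin.symm i).2))
  · refine le_antisymm (iSup_le fun i => Subgroup.zpowers_le.mpr (hsT (s.equivFin.symm i).2).1) ?_
    conv_lhs => rw [← hsA]
    refine (Subgroup.closure_le _).mpr fun y hy => ?_
    refine Subgroup.mem_iSup_of_mem (s.equivFin ⟨y, hy⟩) ?_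
    simp

end Cfsg.Agent.S0612
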