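import Cfsg.Statements.S0617
import Cfsg.Agent.H31.FFStructure

set_option autoImplicit false
open Cfsg

namespace Cfsg.Agent.S0617

open scoped Pointwise

open Cfsg.Agent.H31 in
theorem structure_aux {G : Type*} [Group G] [Finite G] {p : ℕ} [Fact p.Prime] {V H : Subgroup G}
    (hs : FF.Setting p V H)
    (hS3 : H = ⨆ A : {A : Subgroup G // A ≤ H ∧ Cfsg.IsBestOffenderOn p V A}, (A : Subgroup G))
    {ι : Type*} [Finite ι] (a : ι → G) (E : ι → Subgroup G) (ha : ∀ i, FF.IsTv p V H (a i))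
    (hE : ∀ i, E i = FF.Setting.blk p H (a i)) (hinj : Function.Injective E)
    (hcover : ∀ b, FF.IsTv p V H b → ∃ i, b ∈ E i) :
    iSupIndep E ∧ (⨆ i, E i) = H ∧
      iSupIndep (fun o : Option ι => o.elim (V ⊓ Subgroup.centralizer (H : Set G)) (fun i => ⁅V, E i⁆)) ∧
      (V ⊓ Subgroup.centralizer (H : Set G)) ⊔ (⨆ i, ⁅V, E i⁆) = V := by
  classical
  haveI := Fintype.ofFinite ι
  have hW : ∀ i, ⁅V, E i⁆ = FF.bW p V H (a i) := fun i => by rw [hE i]
  have hne : ∀ i j, i ≠ j → FF.bW p V H (a i) ≤ FF.bC p V H (a j) := by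
    intro i j hij
    rcases hs.dichotomy (ha i) (ha j) with e | ⟨-, -, -, e⟩
    · exact absurd (hinj (by rw [hE, hE, e])) hij
    · exact e
  have hsup : (⨆ i, E i) = H := by
    refine le_antisymm (iSup_le fun i => (hE i).le.trans (FF.Setting.blk_le (ha i)))
      ((hs.le_closure hS3).trans ((Subgroup.closure_le _).mpr fun b hb => ?_))
    obtain ⟨i, hi⟩ := hcover b hb
    exact Subgroup.mem_iSup_of_mem i hi
  have hCH : ∀ i, V ⊓ Subgroup.centralizer (H : Set G) ≤ FF.bC p V H (a i) := fun i =>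
    inf_le_inf_left V (Subgroup.centralizer_le (SetLike.coe_subset_coe.mpr (FF.Setting.blk_le (ha i))))
  have hdisj : ∀ i (s : Finset ι), i ∉ s →
      (⨆ j ∈ s, FF.bW p V H (a j)) ≤ FF.bC p V H (a i) := fun i s hi =>
    iSup₂_le fun j hj => hne j i (fun e => hi (e ▸ hj))
  -- decomposition of elements centralized by no block of a given set
  have hsplit : ∀ s : Finset ι, ∀ v ∈ V, ∃ w ∈ (⨆ j ∈ s, FF.bW p V H (a j)),
      ∃ c ∈ V, (∀ j ∈ s, c ∈ FF.bC p V H (a j)) ∧ v = w * c := by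
    intro s
    induction s using Finset.induction with
    | empty => exact fun v hv => ⟨1, one_mem _, v, hv, by simp, by simp⟩
    | @insert i s hi ih =>
      intro v hv
      obtain ⟨w, hw, c, hc, hcs, rfl⟩ := ih v hv
      obtain ⟨-, -, hWV, -, hsupi, -⟩ := hs.blk_facts (ha i)
      have hc' : c ∈ (FF.bW p V H (a i) : Set G) * (FF.bC p V H (a i) : Set G) := by
        rw [← Subgroup.coe_mul_of_right_le_normalizer_left, hsupi]
        · exact hc
        · exact fun d hd => Subgroup.centralizer_le_normalizer _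
            (Subgroup.mem_centralizer_iff.mpr fun z hz => hs.comm (hWV hz) hd.1)
      obtain ⟨w', hw', c', hc'', rfl⟩ := hc'
      refine ⟨w * w', mul_mem ?_ ?_, c', hc''.1, fun j hj => ?_, by group⟩
      · exact SetLike.le_def.mp (iSup₂_le fun j hj =>
          le_biSup (fun j => FF.bW p V H (a j)) (Finset.mem_insert_of_mem hj) :
          (⨆ j ∈ s, FF.bW p V H (a j)) ≤ ⨆ j ∈ insert i s, FF.bW p V H (a j)) hw
      · exact Subgroup.mem_iSup_of_mem i
          (Subgroup.mem_iSup_of_mem (Finset.mem_insert_self i s) hw')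
      · rcases Finset.mem_insert.mp hj with rfl | hjs
        · exact hc''
        · have h1 := hcs j hjs
          have h2 := hne i j (fun e => hi (e ▸ hjs)) hw'
          simpa using mul_mem (inv_mem h2) h1
  have hfix : ∀ s : Finset ι, ∀ x ∈ (⨆ j ∈ s, FF.bW p V H (a j)),
      (∀ j ∈ s, x ∈ FF.bC p V H (a j)) → x = 1 := by
    intro s
    induction s using Finset.induction with
    | empty => intro x hx _; simpa using hx
    | @insert i s hi ih =>
      intro x hx hxs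
      obtain ⟨-, -, hWV, hWC, -, -⟩ := hs.blk_facts (ha i)
      rw [Finset.iSup_insert, ← SetLike.mem_coe, Subgroup.coe_mul_of_right_le_normalizer_left] at hx
      · obtain ⟨w, hw, y, hy, rfl⟩ := hx
        have hyC := hdisj i s hi hy
        have hxi := hxs i (Finset.mem_insert_self i s)
        have hwC : w ∈ FF.bC p V H (a i) := by simpa using mul_mem hxi (inv_mem hyC)
        have hw1 : w = 1 := by
          have h3 : w ∈ FF.bW p V H (a i) ⊓ FF.bC p V H (a i) := ⟨hw, hwC⟩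
          rwa [hWC, Subgroup.mem_bot] at h3
        subst hw1
        simp only [one_mul] at hxs ⊢
        exact ih y hy fun j hj => hxs j (Finset.mem_insert_of_mem hj)
      · intro y hy
        exact Subgroup.centralizer_le_normalizer _
          (Subgroup.mem_centralizer_iff.mpr fun z hz => hs.comm (hWV hz) (hdisj i s hi hy).1)
  refine ⟨fun i => ?_, hsup, fun o => ?_, ?_⟩
  · rw [disjoint_iff, eq_bot_iff]
    refine (inf_le_inf_left _ (iSup₂_le fun j hj => ?_ :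
      (⨆ (j : ι) (_ : j ≠ i), E j) ≤ Subgroup.centralizer (FF.bW p V H (a i) : Set G))).trans ?_
    · rw [hE j, Subgroup.le_centralizer_iff]
      exact (hne i j (Ne.symm hj)).trans inf_le_right
    · rw [hE i]; exact (hs.blk_facts (ha i)).2.2.2.2.2.le
  · rw [disjoint_iff, eq_bot_iff]
    cases o with
    | none =>
      intro x hx
      have h1 : (⨆ (o : Option ι) (_ : o ≠ none),
          o.elim (V ⊓ Subgroup.centralizer (H : Set G)) (fun i => ⁅V, E i⁆)) ≤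
          ⨆ j ∈ (Finset.univ : Finset ι), FF.bW p V H (a j) := by
        refine iSup₂_le fun o ho => ?_
        cases o with
        | none => exact absurd rfl ho
        | some j =>
          show ⁅V, E j⁆ ≤ _
          rw [hW j]
          exact le_biSup (fun j => FF.bW p V H (a j)) (Finset.mem_univ j)
      exact Subgroup.mem_bot.mpr (hfix _ x (h1 hx.2) fun j _ => hCH j hx.1)
    | some i =>
      have h1 : (⨆ (o : Option ι) (_ : o ≠ some i),
          o.elim (V ⊓ Subgroup.centralizer (H : Set G)) (fun i => ⁅V, E i⁆)) ≤ FF.bC p V H (a i) := by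
        refine iSup₂_le fun o ho => ?_
        cases o with
        | none => exact hCH i
        | some j =>
          show ⁅V, E j⁆ ≤ _
          rw [hW j]
          exact hne j i (fun e => ho (congrArg some e))
      refine (inf_le_inf_left _ h1).trans ?_
      show ⁅V, E i⁆ ⊓ _ ≤ ⊥
      rw [hW i]; exact (hs.blk_facts (ha i)).2.2.2.1.le
  · refine le_antisymm (sup_le inf_le_left (iSup_le fun i => ?_)) fun v hv => ?_
    · rw [hW i]; exact (hs.blk_facts (ha i)).2.2.1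
    · obtain ⟨w, hw, c, hc, hcs, rfl⟩ := hsplit Finset.univ v hv
      refine mul_mem (Subgroup.mem_sup_right ?_) (Subgroup.mem_sup_left ⟨hc, ?_⟩)
      · exact (iSup₂_le fun j _ => (hW j).ge.trans (le_iSup (fun i => ⁅V, E i⁆) j)) hw
      · have h4 : H ≤ Subgroup.centralizer ({c} : Set G) := by
          rw [← hsup]
          refine iSup_le fun j => ?_
          rw [hE j]
          intro e he
          rw [Subgroup.mem_centralizer_singleton_iff]
          exact Subgroup.mem_centralizer_iff.mp (hcs j (Finset.mem_univ j)).2 e he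
        exact Subgroup.mem_centralizer_iff.mpr fun z hz => Subgroup.mem_centralizer_singleton_iff.mp (h4 hz)

/-- Structure Theorem for failure of factorization: a faithful group generated by best offenders, with self-centralizing p'-core, is a direct product of copies of SL(2, p) (p = 2 or 3), each acting on its own plane in V, which is the direct product of these planes and C_V(H). -/
theorem result {G : Type*} [Group G] [Finite G] {p : ℕ} [Fact p.Prime] (V H : Subgroup G) (hV : Cfsg.IsElementaryAbelian p V) (hHV : H ≤ Subgroup.normalizer (V : Set G)) (hf : H ⊓ Subgroup.centralizer (V : Set G) = ⊥) (hS1 : Subgroup.centralizer (Cfsg.pPrimeCore p ↥H : Set ↥H) ≤ Cfsg.pPrimeCore p ↥H) (hS3 : H = ⨆ A : {A : Subgroup G // A ≤ H ∧ Cfsg.IsBestOffenderOn p V A}, (A : Subgroup G)) (hH1 : H ≠ ⊥) : (p = 2 ∨ p = 3) ∧ (∀ E : {E : Subgroup G // ∃ A : Subgroup G, A ≤ H ∧ Cfsg.IsBestOffenderOn p V A ∧ ⁅V, A⁆ ≠ ⊥ ∧ (∀ B : Subgroup G,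 B ≤ A → Cfsg.IsBestOffenderOn p V B → ⁅V, B⁆ ≠ ⊥ → B = A) ∧ E = ⁅((Cfsg.pPrimeCore p ↥H).map H.subtype), A⁆ ⊔ A}, H ≤ Subgroup.normalizer ((E : Subgroup G) : Set G) ∧ Nonempty (↥(E : Subgroup G) ≃* Matrix.SpecialLinearGroup (Fin 2) (ZMod p)) ∧ Nat.card ↥(⁅V, (E : Subgroup G)⁆) = p ^ 2) ∧ iSupIndep (fun E : {E : Subgroup G // ∃ A : Subgroup G, A ≤ H ∧ Cfsg.IsBestOffenderOn p V A ∧ ⁅V, A⁆ ≠ ⊥ ∧ (∀ B : Subgroup G, B ≤ A → Cfsg.IsBestOffenderOn p V B → ⁅V, B⁆ ≠ ⊥ → B = A) ∧ E = ⁅((Cfsg.pPrimeCore p ↥H).map H.subtype), A⁆ ⊔ A} => (E : Subgroup G)) ∧ (⨆ E : {E : Subgroup G // ∃ A : Subgroup G, A ≤ H ∧ Cfsg.IsBestOffenderOn p V A ∧ ⁅V, A⁆ ≠ ⊥ ∧ (∀ B : Subgroup G, B ≤ A → Cfsg.IsBestOffenderOn p V B → ⁅V, B⁆ ≠ ⊥ → B = A) ∧ E = ⁅((Cfsg.pPrimeCore p ↥H).map H.subtype), A⁆ ⊔ A}, (E : Subgroup G)) = H ∧ iSupIndep (fun o : Option {E : Subgroup G // ∃ A : Subgroup G, A ≤ H ∧ Cfsg.IsBestOffenderOn p V A ∧ ⁅V, A⁆ ≠ ⊥ ∧ (∀ B : Subgroup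 G, B ≤ A → Cfsg.IsBestOffenderOn p V B → ⁅V, B⁆ ≠ ⊥ → B = A) ∧ E = ⁅((Cfsg.pPrimeCore p ↥H).map H.subtype), A⁆ ⊔ A} => o.elim (V ⊓ Subgroup.centralizer (H : Set G)) (fun E => ⁅V, (E : Subgroup G)⁆)) ∧ (V ⊓ Subgroup.centralizer (H : Set G)) ⊔ (⨆ E : {E : Subgroup G // ∃ A : Subgroup G, A ≤ H ∧ Cfsg.IsBestOffenderOn p V A ∧ ⁅V, A⁆ ≠ ⊥ ∧ (∀ B : Subgroup G, B ≤ A → Cfsg.IsBestOffenderOn p V B → ⁅V, B⁆ ≠ ⊥ → B = A) ∧ E = ⁅((Cfsg.pPrimeCore p ↥H).map H.subtype), A⁆ ⊔ A}, ⁅V, (E : Subgroup G)⁆) = V := by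
  have hs : Cfsg.Agent.H31.FF.Setting p V H := ⟨⟨hV, hHV, hf⟩, hS1⟩
  have hblk : ∀ a, Cfsg.Agent.H31.FF.IsTv p V H a → ∃ A : Subgroup G, A ≤ H ∧
      Cfsg.IsBestOffenderOn p V A ∧ ⁅V, A⁆ ≠ ⊥ ∧
      (∀ B : Subgroup G, B ≤ A → Cfsg.IsBestOffenderOn p V B → ⁅V, B⁆ ≠ ⊥ → B = A) ∧
      Cfsg.Agent.H31.FF.Setting.blk p H a = ⁅((Cfsg.pPrimeCore p ↥H).map H.subtype), A⁆ ⊔ A := by
    intro a ha
    obtain ⟨h1, h2, hc, -, -⟩ := hs.tv_offender ha
    refine ⟨Subgroup.zpowers a, Subgroup.zpowers_le.mpr ha.mem, h1, h2, fun B hB _ hne => ?_, rfl⟩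
    rcases (Nat.dvd_prime Fact.out).mp (hc ▸ Subgroup.card_dvd_of_le hB) with e | e
    · exact absurd (by rw [Subgroup.card_eq_one.mp e, Subgroup.commutator_bot_right]) hne
    · exact Subgroup.eq_of_le_of_card_ge hB (by rw [hc, e])
  have hex : ∀ E : {E : Subgroup G // ∃ A : Subgroup G, A ≤ H ∧ Cfsg.IsBestOffenderOn p V A ∧ ⁅V, A⁆ ≠ ⊥ ∧ (∀ B : Subgroup G, B ≤ A → Cfsg.IsBestOffenderOn p V B → ⁅V, B⁆ ≠ ⊥ → B = A) ∧ E = ⁅((Cfsg.pPrimeCore p ↥H).map H.subtype), A⁆ ⊔ A},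
      ∃ a, Cfsg.Agent.H31.FF.IsTv p V H a ∧ (E : Subgroup G) = Cfsg.Agent.H31.FF.Setting.blk p H a := by
    rintro ⟨E, A, hAH, hA, hAV, hmin, rfl⟩
    obtain ⟨a, ha, rfl⟩ := hs.exists_eq_zpowers hAH hA hAV hmin
    exact ⟨a, ha, rfl⟩
  choose a ha hE using hex
  obtain ⟨h1, h2, h3, h4⟩ := structure_aux hs hS3 a (fun E => (E : Subgroup G)) ha hE
    Subtype.val_injective (fun b hb => by
      obtain ⟨A, r1, r2, r3, r4, r5⟩ := hblk b hb
      exact ⟨⟨_, A, r1, r2, r3, r4, r5⟩, Subgroup.mem_sup_right (Subgroup.mem_zpowers b)⟩)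
  refine ⟨?_, fun E => ⟨?_, ?_, ?_⟩, h1, h2, h3, h4⟩
  · by_contra hp
    refine hH1 (le_bot_iff.mp ((hs.le_closure hS3).trans ((Subgroup.closure_le _).mpr fun b hb => ?_)))
    exact absurd (hs.prime_two_or_three hb) hp
  · rw [hE E]; exact hs.le_normalizer_blk hS3 (ha E)
  · rw [hE E]; exact (hs.blk_facts (ha E)).1
  · rw [hE E]; exact (hs.blk_facts (ha E)).2.1

end Cfsg.Agent.S0617
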