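import Cfsg.Statements.S0619
import Cfsg.Agent.H31.FFAmbient
import Cfsg.Agent.S0606

set_option autoImplicit false
open Cfsg

namespace Cfsg.Agent.S0619

/-- For a p-separable group and a normal elementary abelian p-subgroup V with no nontrivial normal p-subgroup modulo its centralizer C, the Thompson subgroup J(G) moves Ω₁(Z(J(C))) only inside V. -/
theorem result {G : Type*} [Group G] [Finite G] {p : ℕ} [Fact p.Prime] (hsep : Cfsg.IsPSolvable p G) (V : Subgroup G) [V.Normal] (hV : Cfsg.IsElementaryAbelian p V) (hO : Cfsg.pCore p (G ⧸ Subgroup.centralizer (V : Set G)) = ⊥) : ⁅Cfsg.omegaOne p (Cfsg.centerThompsonOf p (Subgroup.centralizer (V : Set G))), Cfsg.thompsonSubgroup p G⁆ ≤ V := by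
  classical
  set C := Subgroup.centralizer (V : Set G) with hC
  set U := Cfsg.omegaOne p (Cfsg.centerThompsonOf p C) with hU
  have hUle : U ≤ C := (Cfsg.Agent.H31.omegaOne_le p _).trans
    (inf_le_left.trans (Cfsg.Agent.H31.thompsonSubgroupOf_le p C))
  have hUel : Cfsg.IsElementaryAbelian p U :=
    Cfsg.Agent.H31.elem_closure
      (fun x hx y hy => Subgroup.mem_centralizer_iff.mp hy.1.2 x hx.1.1) (fun x hx => hx.2)
  -- it is enough to treat one maximal elementary abelian subgroup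
  let K : Subgroup G := (Subgroup.centralizer ((U.map (QuotientGroup.mk' V) : Subgroup (G ⧸ V)) : Set (G ⧸ V))).comap (QuotientGroup.mk' V)
  suffices hK : Cfsg.thompsonSubgroup p G ≤ K by
    rw [Subgroup.commutator_le]
    intro u hu a ha
    have h1 := Subgroup.mem_centralizer_iff.mp (hK ha) _ (Subgroup.mem_map_of_mem _ hu)
    rw [← QuotientGroup.eq_one_iff, ← QuotientGroup.mk'_apply, commutatorElement_def]
    rw [map_mul, map_mul, map_mul, map_inv, map_inv, h1, mul_inv_cancel_right, mul_inv_cancel]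
  refine sSup_le fun A hA => ?_
  have hoff := Cfsg.Agent.S0606.result V hV A hA
  have hTop : Cfsg.pCore p ↥((⊤ : Subgroup G).map (QuotientGroup.mk' C)) = ⊥ := by
    rw [Subgroup.map_top_of_surjective _ (QuotientGroup.mk'_surjective C),
      ← Cfsg.Agent.Cores.pCore_map_mulEquiv Subgroup.topEquiv.symm, hO, Subgroup.map_bot]
  have hw := Cfsg.Agent.H31.FFAmb.weight V hV ⊤ (Cfsg.Agent.Cores.isPSolvable_subgroup hsep ⊤) hTop A le_top hoff
  set A0 := A ⊓ C with hA0
  have hcomm : ∀ x ∈ V, ∀ y ∈ A0, x * y = y * x := fun x hx y hy =>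
    Subgroup.mem_centralizer_iff.mp hy.2 x hx
  have hel : Cfsg.IsElementaryAbelian p (V ⊔ A0) := by
    rw [Subgroup.sup_eq_closure]
    refine Cfsg.Agent.H31.elem_closure ?_ ?_
    · rintro x (hx | hx) y (hy | hy)
      · exact Cfsg.Agent.H31.elem_comm hV hx hy
      · exact hcomm x hx y hy
      · exact (hcomm y hy x hx).symm
      · exact Cfsg.Agent.H31.elem_comm hA.1 hx.1 hy.1
    · rintro x (hx | hx)
      · exact hV.2 x hx
      · exact hA.1.2 x hx.1
  have hcard : Nat.card A ≤ Nat.card (V ⊔ A0 : Subgroup G) := by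
    have h1 := Cfsg.Agent.H31.card_mul_card_le V A0
    have h2 : Nat.card ↥(V ⊓ A0) ≤ Nat.card ↥(V ⊓ Subgroup.centralizer (A : Set G)) := by
      refine Subgroup.card_le_of_le (inf_le_inf_left V fun x hx => ?_)
      exact Subgroup.mem_centralizer_iff.mpr fun y hy => Cfsg.Agent.H31.elem_comm hA.1 hy hx.1
    refine Nat.le_of_mul_le_mul_right ?_ (Nat.card_pos (α := ↥(V ⊓ Subgroup.centralizer (A : Set G))))
    rw [hw]
    exact h1.trans (Nat.mul_le_mul_left _ h2)
  have hVC : V ≤ C := fun x hx =>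
    Subgroup.mem_centralizer_iff.mpr fun y hy => Cfsg.Agent.H31.elem_comm hV hy hx
  have hmax : Cfsg.Agent.H31.MaxIn p C (V ⊔ A0) :=
    ⟨sup_le hVC inf_le_right, hel, fun B _ hB => (hA.2 B hB).trans hcard⟩
  have hUc : ∀ x ∈ V ⊔ A0, ∀ u ∈ U, x * u = u * x := fun x hx u hu =>
    Subgroup.mem_centralizer_iff.mp (Cfsg.Agent.H31.omegaOne_le p _ hu).2 x
      (Cfsg.Agent.H31.le_thompsonSubgroupOf hmax hx)
  have hbig : Cfsg.IsElementaryAbelian p (U ⊔ (V ⊔ A0)) := by
    rw [Subgroup.sup_eq_closure]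
    refine Cfsg.Agent.H31.elem_closure ?_ ?_
    · rintro x (hx | hx) y (hy | hy)
      · exact Cfsg.Agent.H31.elem_comm hUel hx hy
      · exact (hUc y hy x hx).symm
      · exact hUc x hx y hy
      · exact Cfsg.Agent.H31.elem_comm hel hx hy
    · rintro x (hx | hx)
      · exact hUel.2 x hx
      · exact hel.2 x hx
  have hUsub : U ≤ V ⊔ A0 := by
    have heq : V ⊔ A0 = U ⊔ (V ⊔ A0) := Subgroup.eq_of_le_of_card_ge le_sup_right
      (hmax.2.2 _ (sup_le hUle (sup_le hVC inf_le_right)) hbig)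
    rw [heq]; exact le_sup_left
  intro a ha
  refine Subgroup.mem_centralizer_iff.mpr ?_
  rintro _ ⟨u, hu, rfl⟩
  obtain ⟨v, hv, b, hb, rfl⟩ := Subgroup.mem_sup_of_normal_left.mp (hUsub hu)
  have hv1 : QuotientGroup.mk' V v = 1 := (QuotientGroup.eq_one_iff v).mpr hv
  rw [map_mul, hv1, one_mul, ← map_mul, ← map_mul, Cfsg.Agent.H31.elem_comm hA.1 hb.1 ha]

end Cfsg.Agent.S0619
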