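import Cfsg.Statements.S0620
import Cfsg.Agent.H31.FFCoprime

set_option autoImplicit false
open Cfsg

namespace Cfsg.Agent.S0620

/-- Under coprime action of an elementary abelian q-group X on a p-separable group K with trivial p'-core, K is generated by the normalizer of J(S), the centralizer of Ω₁(Z(S)) and the fixed points of X. -/
theorem result {G : Type*} [Group G] [Finite G] {p : ℕ} [Fact p.Prime] {q : ℕ} [Fact q.Prime] (K X : Subgroup G) (hXK : X ≤ Subgroup.normalizer (K : Set G)) (hX : Cfsg.IsElementaryAbelian q X) (hq : ¬ q ∣ Nat.card K) (hsep : Cfsg.IsPSolvable p ↥K) (hO : Cfsg.pPrimeCore p ↥K = ⊥) (S : Sylow p ↥K) : (Subgroup.normalizer (Cfsg.thompsonSubgroupOf p (S : Subgroup ↥K) : Set ↥K) ⊔ Subgroup.centralizer (Cfsg.omegaOne p ((S : Subgroup ↥K) ⊓ Subgroup.centralizer ((S : Subgroup ↥K) : Set ↥K)) : Set ↥K) ⊔ (Subgroup.centralizer (X : Set G)).subgroupOf K) = ⊤ := by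
  obtain ⟨hXc, hXq⟩ := hX
  set N := Subgroup.normalizer (K : Set G) with hN
  have hKN : K ≤ N := Subgroup.le_normalizer
  set K' := K.subgroupOf N with hK'
  haveI : K'.Normal := Subgroup.normal_in_normalizer
  let e : K' ≃* K := Subgroup.subgroupOfEquivOfLe hKN
  have hs' : Cfsg.IsPSolvable p K' :=
    Cfsg.Agent.Cores.isPSolvable_of_surjective hsep e.symm.toMonoidHom e.symm.surjective
  have hO' : Cfsg.pPrimeCore p K' = ⊥ := by
    rw [← Cfsg.Agent.Cores.pPrimeCore_map_mulEquiv e.symm, hO, Subgroup.map_bot]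
  have hq' : ¬ q ∣ Nat.card K' := by rwa [Nat.card_congr e.toEquiv]
  let S' : Sylow p K' := S.mapSurjective (f := e.symm.toMonoidHom) e.symm.surjective
  set M := Subgroup.normalizer (Cfsg.thompsonSubgroupOf p (S : Subgroup ↥K) : Set ↥K) ⊔
    Subgroup.centralizer (Cfsg.omegaOne p ((S : Subgroup ↥K) ⊓
      Subgroup.centralizer ((S : Subgroup ↥K) : Set ↥K)) : Set ↥K) ⊔
    (Subgroup.centralizer (X : Set G)).subgroupOf K with hM
  let M' : Subgroup N := (M.map e.symm.toMonoidHom).map K'.subtype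
  have hinj : Function.Injective e.symm.toMonoidHom := e.symm.injective
  have hJ : Cfsg.thompsonSubgroupOf p (S' : Subgroup K') =
      (Cfsg.thompsonSubgroupOf p (S : Subgroup ↥K)).map e.symm.toMonoidHom :=
    (Cfsg.Agent.H31.thompsonSubgroupOf_map hinj).symm
  have hZ : Cfsg.Agent.H31.omegaZ p (S' : Subgroup K') =
      (Cfsg.Agent.H31.omegaZ p (S : Subgroup ↥K)).map e.symm.toMonoidHom := by
    show Cfsg.omegaOne p _ = _
    rw [Cfsg.Agent.H31.omegaOne_map hinj, Cfsg.Agent.H31.map_inf_centralizer hinj]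
    rfl
  have hgen := Cfsg.Agent.H31.FFAmb.generation hs' hO' (X := X.subgroupOf N)
    (fun x hx => Subtype.ext (hXq _ hx)) hq' S' (M := M') ?_ ?_ ?_
  · refine eq_top_iff.mpr fun k _ => ?_
    obtain ⟨_, ⟨m, hm, rfl⟩, hmk⟩ := hgen (show (⟨(k : G), hKN k.2⟩ : N) ∈ K' from k.2)
    have h1 := congrArg Subtype.val hmk
    exact (Subtype.ext h1 : m = k) ▸ hm
  · refine Subgroup.map_mono ?_
    rw [hJ, ← Subgroup.map_equiv_normalizer_eq]
    exact Subgroup.map_mono (le_sup_left.trans le_sup_left)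
  · refine Subgroup.map_mono ?_
    rw [hZ]
    intro k hk
    refine ⟨e k, Subgroup.mem_sup_left (Subgroup.mem_sup_right ?_), e.symm_apply_apply k⟩
    rw [Subgroup.mem_centralizer_iff]
    intro z hz
    have := Subgroup.mem_centralizer_iff.mp hk _ (Subgroup.mem_map_of_mem e.symm.toMonoidHom hz)
    simpa using congrArg e this
  · rintro ⟨k, hk⟩ ⟨hkK, hkX⟩
    refine ⟨⟨⟨k, hk⟩, hkK⟩, ⟨⟨k, hkK⟩, Subgroup.mem_sup_right ?_, rfl⟩, rfl⟩
    refine Subgroup.mem_centralizer_iff.mpr fun x hx => ?_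
    exact congrArg Subtype.val (Subgroup.mem_centralizer_iff.mp hkX ⟨x, hXK hx⟩ hx)

end Cfsg.Agent.S0620
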