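import Cfsg.Statements.S0621
import Cfsg.Agent.H31.FFCoprime
import Cfsg.Agent.S0608

set_option autoImplicit false
open Cfsg

namespace Cfsg.Agent.S0621

/-- Let K be p-separable with O_p'(K) = 1, normalized by an elementary abelian q-group X for a prime q not dividing the order of K. If the Thompson factorization fails in K, then p is 2 or 3 and the fixed points of X contain a plane W of order p² and a subgroup inducing SL(2, p) on it. -/
theorem result {G : Type*} [Group G] [Finite G] {p : ℕ} [Fact p.Prime] {q : ℕ} [Fact q.Prime] (K X : Subgroup G) (hXK : X ≤ Subgroup.normalizer (K : Set G)) (hX : Cfsg.IsElementaryAbelian q X) (hq : ¬ q ∣ Nat.card K) (hsep : Cfsg.IsPSolvable p ↥K) (hO : Cfsg.pPrimeCore p ↥K = ⊥) (hnf : ¬ Cfsg.IsThompsonFactorizable p ↥K) : (p = 2 ∨ p = 3) ∧ ∃ W D : Subgroup G, W ≤ K ⊓ Subgroup.centralizer (X : Set G) ∧ D ≤ K ⊓ Subgroup.centralizer (X : Set G) ∧ Cfsg.IsElementaryAbelian p W ∧ Nat.card W = p ^ 2 ∧ D ≤ Subgroup.normalizer (W : Set G) ∧ ∃ hn : ((Subgroup.centralizer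 (W : Set G)).subgroupOf D).Normal, Nonempty ((↥D ⧸ (Subgroup.centralizer (W : Set G)).subgroupOf D) ≃* Matrix.SpecialLinearGroup (Fin 2) (ZMod p)) := by
  obtain ⟨hXc, hXq⟩ := hX
  set N := Subgroup.normalizer (K : Set G) with hN
  have hKN : K ≤ N := Subgroup.le_normalizer
  set K' := K.subgroupOf N with hK'
  haveI : K'.Normal := Subgroup.normal_in_normalizer
  let e : K' ≃* K := Subgroup.subgroupOfEquivOfLe hKN
  have hs' : Cfsg.IsPSolvable p K' :=
    Cfsg.Agent.Cores.isPSolvable_of_surjective hsep e.symm.toMonoidHom e.symm.surjective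
  have hO' : Cfsg.pPrimeCore p K' = ⊥ := by
    rw [← Cfsg.Agent.Cores.pPrimeCore_map_mulEquiv e.symm, hO, Subgroup.map_bot]
  have hq' : ¬ q ∣ Nat.card K' := by rwa [Nat.card_congr e.toEquiv]
  have hJ : ¬ Cfsg.Agent.H31.FFAmb.KJ p K' ≤
      Subgroup.centralizer (Cfsg.Agent.H31.FFAmb.KV p K' : Set N) := by
    intro hle
    refine hnf ((Cfsg.Agent.S0608.result hO).mpr ?_)
    intro j hj
    have h1 : (e.symm j : K') ∈ Cfsg.thompsonSubgroup p K' := by
      rw [← Cfsg.Agent.H31.thompsonSubgroupOf_top,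
        ← Subgroup.map_top_of_surjective e.symm.toMonoidHom e.symm.surjective,
        ← Cfsg.Agent.H31.thompsonSubgroupOf_map (show Function.Injective e.symm.toMonoidHom from e.symm.injective),
        Cfsg.Agent.H31.thompsonSubgroupOf_top]
      exact Subgroup.mem_map_of_mem _ hj
    have h2 : (e.symm j : K') ∈ (Subgroup.centralizer
        (Cfsg.Agent.H31.FFAmb.KV p K' : Set N)).subgroupOf K' := hle (Subgroup.mem_map_of_mem _ h1)
    rw [Cfsg.Agent.H31.FFAmb.centralizer_KV_subgroupOf] at h2
    refine (Subgroup.le_centralizer_iff.mp ?_) (Subgroup.mem_zpowers j)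
    refine iSup_le fun S => ?_
    rw [Subgroup.le_centralizer_iff, Subgroup.zpowers_le]
    refine Subgroup.mem_centralizer_iff.mpr fun z hz => ?_
    have hz' : e.symm z ∈ Cfsg.Agent.H31.omegaZ p
        ((S.mapSurjective (f := e.symm.toMonoidHom) e.symm.surjective : Sylow p K') : Subgroup K') := by
      show _ ∈ Cfsg.omegaOne p _
      show _ ∈ Cfsg.omegaOne p ((S : Subgroup K).map e.symm.toMonoidHom ⊓
        Subgroup.centralizer (((S : Subgroup K).map e.symm.toMonoidHom : Subgroup K') : Set K'))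
      rw [← Cfsg.Agent.H31.map_inf_centralizer (show Function.Injective e.symm.toMonoidHom from e.symm.injective),
        ← Cfsg.Agent.H31.omegaOne_map (show Function.Injective e.symm.toMonoidHom from e.symm.injective)]
      exact Subgroup.mem_map_of_mem _ hz
    have h3 := Subgroup.mem_centralizer_iff.mp h2 _
      (Subgroup.mem_iSup_of_mem (S.mapSurjective (f := e.symm.toMonoidHom) e.symm.surjective) hz')
    rw [← map_mul, ← map_mul] at h3
    exact e.symm.injective h3
  obtain ⟨hp23, W, D, hW, hD, hWel, hWc, hDW, θ, hθ, hker⟩ :=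
    Cfsg.Agent.H31.FFAmb.fixed_plane hs' hO' (X := X.subgroupOf N)
      (fun x hx => Subtype.ext (hXq _ hx)) hq' hJ
  have hfix : ∀ U : Subgroup N, U ≤ K' ⊓ Subgroup.centralizer (X.subgroupOf N : Set N) →
      U.map N.subtype ≤ K ⊓ Subgroup.centralizer (X : Set G) := by
    rintro U hU _ ⟨u, hu, rfl⟩
    exact ⟨(hU hu).1, Subgroup.mem_centralizer_iff.mpr fun x hx =>
      congrArg Subtype.val (Subgroup.mem_centralizer_iff.mp (hU hu).2 ⟨x, hXK hx⟩ hx)⟩
  have hmem : ∀ d : D, (d : N) ∈ Subgroup.centralizer (W : Set N) ↔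
      ((d : N) : G) ∈ Subgroup.centralizer (W.map N.subtype : Set G) := by
    intro d
    constructor
    · intro h
      refine Subgroup.mem_centralizer_iff.mpr ?_
      rintro _ ⟨w, hw, rfl⟩
      exact congrArg Subtype.val (Subgroup.mem_centralizer_iff.mp h w hw)
    · exact fun h => Subgroup.mem_centralizer_iff.mpr fun w hw =>
        Subtype.ext (Subgroup.mem_centralizer_iff.mp h _ (Subgroup.mem_map_of_mem _ hw))
  let ε := D.equivMapOfInjective N.subtype N.subtype_injective
  set θ' := θ.comp ε.symm.toMonoidHom with hθ'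
  have hk : θ'.ker = (Subgroup.centralizer ((W.map N.subtype : Subgroup G) : Set G)).subgroupOf
      (D.map N.subtype) := by
    rw [hθ', ← MonoidHom.comap_ker, hker]
    ext d
    obtain ⟨d, rfl⟩ := ε.surjective d
    simpa [Subgroup.mem_subgroupOf, ε] using hmem d
  refine ⟨hp23, W.map N.subtype, D.map N.subtype, hfix W hW, hfix D hD,
    (Cfsg.Agent.H31.elem_map_iff N.subtype_injective).mpr hWel,
    by rw [Subgroup.card_map_of_injective N.subtype_injective, hWc],
    (Subgroup.map_mono hDW).trans (Subgroup.le_normalizer_map _), hk ▸ θ'.normal_ker, ?_⟩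
  haveI : ((Subgroup.centralizer ((W.map N.subtype : Subgroup G) : Set G)).subgroupOf
      (D.map N.subtype)).Normal := hk ▸ θ'.normal_ker
  exact ⟨(QuotientGroup.quotientMulEquivOfEq hk.symm).trans
    (QuotientGroup.quotientKerEquivOfSurjective θ' (hθ.comp ε.symm.surjective))⟩

end Cfsg.Agent.S0621
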