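import Cfsg.Statements.S0624
import Cfsg.Agent.H31.Stable
import Cfsg.Agent.S0607
import Cfsg.Agent.Coprime.Centralize

set_option autoImplicit false
open Cfsg

namespace Cfsg.Agent.S0624

open scoped commutatorElement Pointwise

variable {G : Type*} [Group G]

/-- Congruent elements modulo `C_G(V)` act alike on `V`. -/
theorem commutator_zpowers_le {V U : Subgroup G} [V.Normal] (hU : U ≤ V) {a c s : G}
    (hc : c ∈ Subgroup.centralizer (V : Set G)) (ha : a = c * s) :
    ⁅U, Subgroup.zpowers s⁆ ≤ ⁅U, Subgroup.zpowers a⁆ := by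
  refine Subgroup.commutator_le.mpr fun u hu t ht => ?_
  obtain ⟨n, rfl⟩ := Subgroup.mem_zpowers_iff.mp ht
  have hmk : (QuotientGroup.mk' (Subgroup.centralizer (V : Set G))) a
      = (QuotientGroup.mk' (Subgroup.centralizer (V : Set G))) s := by
    rw [ha, map_mul, show (QuotientGroup.mk' (Subgroup.centralizer (V : Set G))) c = 1 from
      (QuotientGroup.eq_one_iff c).mpr hc, one_mul]
  have hd : a ^ n * (s ^ n)⁻¹ ∈ Subgroup.centralizer (V : Set G) := by
    rw [← QuotientGroup.eq_one_iff]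
    show (QuotientGroup.mk' (Subgroup.centralizer (V : Set G))) _ = 1
    rw [map_mul, map_inv, map_zpow, map_zpow, hmk, mul_inv_cancel]
  set d := a ^ n * (s ^ n)⁻¹ with hdd
  have h1 : ⁅u, d⁆ = 1 :=
    commutatorElement_eq_one_iff_mul_comm.mpr (Subgroup.mem_centralizer_iff.mp hd u (hU hu))
  have hsV : ⁅u, s ^ n⁆ ∈ V := by
    have e : ⁅u, s ^ n⁆ = u * (s ^ n * u⁻¹ * (s ^ n)⁻¹) := by rw [commutatorElement_def]; group
    rw [e]
    exact mul_mem (hU hu) ((inferInstance : V.Normal).conj_mem _ (inv_mem (hU hu)) _)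
  have e2 : ⁅u, a ^ n⁆ = ⁅u, d⁆ * (d * ⁅u, s ^ n⁆ * d⁻¹) := by
    rw [hdd]; simp only [commutatorElement_def]; group
  rw [h1, one_mul, ← Subgroup.mem_centralizer_iff.mp hd _ hsV, mul_inv_cancel_right] at e2
  rw [← e2]
  exact Subgroup.commutator_mem_commutator hu (Subgroup.zpow_mem_zpowers a n)

theorem normal_le_normalizer (X : Subgroup G) [X.Normal] (g : G) :
    g ∈ Subgroup.normalizer (X : Set G) := by
  rw [Subgroup.normalizer_eq_top]; trivial

/-- The analogue of the ZJ-Theorem: in an action-p-stable group whose largest normal p-subgroup contains its centralizer, the characteristic subgroup W(S) of a Sylow p-subgroup S is normal. -/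
theorem result {G : Type*} [Group G] [Finite G] {p : ℕ} [Fact p.Prime] (hst : Cfsg.IsActionPStable p G) (hc : Subgroup.centralizer (Cfsg.pCore p G : Set G) ≤ Cfsg.pCore p G) (S : Sylow p G) : (((Cfsg.stableNormalClosure p ↥(S : Subgroup G)).map (S : Subgroup G).subtype)).Normal := by
  set J := Cfsg.thompsonSubgroupOf p (S : Subgroup G) with hJ
  set N := Subgroup.normalizer (J : Set G) with hN
  set Q := Cfsg.pCore p G with hQ
  haveI hQn : Q.Normal := inferInstance
  have hQS : Q ≤ (S : Subgroup G) := Cfsg.Agent.Cores.pCore_le_sylow S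
  have hQp : IsPGroup p Q := Cfsg.Agent.Cores.pCore_isPGroup
  set W := Cfsg.stableNormalClosure p ↥(S : Subgroup G) with hW
  set W₁ := W.map (S : Subgroup G).subtype with hW₁
  have hW₁S : W₁ ≤ (S : Subgroup G) := Subgroup.map_subtype_le _
  have hWel : Cfsg.IsElementaryAbelian p W₁ :=
    (Cfsg.Agent.H31.elem_map_iff (S : Subgroup G).subtype_injective).mpr
      Cfsg.Agent.H31.elem_stableNormalClosure
  have hSN : (S : Subgroup G) ≤ N := Subgroup.le_normalizer.trans
    (Cfsg.Agent.H31.normalizer_le_normalizer_thompsonSubgroupOf p _)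
  -- `W₁` is normal in `N`
  have hNW : N ≤ Subgroup.normalizer (W₁ : Set G) := by
    set τ := Subgroup.inclusion hSN with hτ
    have hτr : τ.range = ((S : Subgroup G).subgroupOf N) := Subgroup.inclusion_range hSN
    have hsub : N.subtype.comp τ = (S : Subgroup G).subtype := Subgroup.subtype_comp_inclusion hSN
    have hst' : Cfsg.IsStableEmbedding p τ := by
      refine ⟨Subgroup.inclusion_injective hSN, inferInstance, ⟨S.subtype hSN, hτr ▸ rfl⟩, ?_, ?_, ?_⟩
      · intro x hx
        have hQN : Q ≤ N := hQS.trans hSN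
        have hQle : Q.subgroupOf N ≤ Cfsg.pCore p N :=
          Cfsg.Agent.Cores.le_pCore (hQp.comap_of_injective N.subtype N.subtype_injective)
        apply hQle
        rw [Subgroup.mem_subgroupOf]
        apply hc
        rw [Subgroup.mem_centralizer_iff]
        intro q hq
        exact congrArg Subtype.val (Subgroup.mem_centralizer_iff.mp hx ⟨q, hQN hq⟩
          (hQle (Subgroup.mem_subgroupOf.mpr hq)))
      · have : (Cfsg.thompsonSubgroup p ↥(S : Subgroup G)).map τ = J.subgroupOf N := by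
          apply Subgroup.map_injective N.subtype_injective
          rw [Subgroup.map_map, hsub, Subgroup.map_subgroupOf_eq_of_le
            ((Cfsg.Agent.H31.thompsonSubgroupOf_le p _).trans hSN)]
          rfl
        rw [this]
        infer_instance
      · intro V hV hle
        refine hst.2.2 S V ?_
        have := Subgroup.map_mono (f := N.subtype) hle
        rwa [Subgroup.map_map, hsub] at this
    have hnorm := Cfsg.Agent.H31.stableNormalClosure_map_normal hst'
    intro n hn
    have key : ∀ m : N, ∀ w ∈ W₁, (m : G) * w * (m : G)⁻¹ ∈ W₁ := by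
      rintro m _ ⟨w, hw, rfl⟩
      have hmem : m * τ w * m⁻¹ ∈ W.map τ := hnorm.conj_mem _ ⟨w, hw, rfl⟩ m
      obtain ⟨w', hw', he⟩ := hmem
      refine ⟨w', hw', ?_⟩
      simpa [hτ] using congrArg Subtype.val he
    rw [Subgroup.mem_normalizer_iff]
    refine fun w => ⟨key ⟨n, hn⟩ w, fun hw => ?_⟩
    simpa [mul_assoc] using key ⟨n, hn⟩⁻¹ _ hw
  have hQW : Q ≤ Subgroup.normalizer (W₁ : Set G) := hQS.trans (hSN.trans hNW)
  -- `W₁ ≤ O_p(G)`
  have hWQ : W₁ ≤ Q := by
    intro a ha
    have hquad : ⁅⁅Q, Subgroup.zpowers a⁆, Subgroup.zpowers a⁆ ≤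
        (frattini ↥(Cfsg.pCore p G)).map (Cfsg.pCore p G).subtype := by
      refine le_trans ?_ bot_le
      rw [le_bot_iff, Subgroup.commutator_eq_bot_iff_le_centralizer]
      refine (Subgroup.commutator_mono le_rfl (Subgroup.zpowers_le.mpr ha)).trans ?_
      refine (Subgroup.commutator_le.mpr fun q hq w hw => ?_).trans ?_ (b := W₁)
      · have e : ⁅q, w⁆ = q * w * q⁻¹ * w⁻¹ := commutatorElement_def q w
        rw [e]
        exact mul_mem ((Subgroup.mem_normalizer_iff.mp (hQW hq) w).mp hw) (inv_mem hw)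
      · intro w hw
        rw [Subgroup.mem_centralizer_iff]
        rintro z hz
        exact Cfsg.Agent.H31.elem_comm hWel (Subgroup.zpowers_le.mpr ha hz) hw
    haveI : ((frattini ↥(Cfsg.pCore p G)).map (Cfsg.pCore p G).subtype).Normal := inferInstance
    obtain ⟨D, hDn, hKD, ⟨k, hk⟩, haD⟩ := hst.2.1 a hquad
    haveI := hDn
    set K := Cfsg.sectionKernel (Cfsg.pCore p G) ((frattini ↥(Cfsg.pCore p G)).map (Cfsg.pCore p G).subtype) with hK
    have hKp : IsPGroup p K := by
      intro g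
      obtain ⟨e, he⟩ : ∃ e : ℕ, (orderOf ((g : G) ^ p ^ e)).Coprime p := by
        refine ⟨(orderOf (g : G)).factorization p, ?_⟩
        rw [orderOf_pow' _ (pow_ne_zero _ (Fact.out : p.Prime).ne_zero),
          Nat.gcd_eq_right (Nat.ordProj_dvd _ _)]
        exact (Nat.coprime_ordCompl Fact.out (orderOf_pos (g : G)).ne').symm
      refine ⟨e, Subtype.ext ?_⟩
      set t := (g : G) ^ p ^ e with htdef
      have htK : t ∈ K := pow_mem g.2 _
      have hΦp : ∃ m, Nat.card (frattini Q) = p ^ m := IsPGroup.iff_card.mp (hQp.to_subgroup _)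
      obtain ⟨m, hm⟩ := hΦp
      have hcent : Subgroup.zpowers t ≤ Subgroup.centralizer (Q : Set G) := by
        refine Cfsg.Agent.Coprime.le_centralizer_of_frattini ?_ ?_ ?_
        · exact fun x _ => normal_le_normalizer Q x
        · rw [Nat.card_zpowers, hm]
          exact he.pow_right m
        · intro x hx q hq
          have hxK : x ∈ K := Subgroup.zpowers_le.mpr htK hx
          rw [hK, Cfsg.sectionKernel, Subgroup.mem_comap] at hxK
          have h1 := Subgroup.mem_centralizer_iff.mp hxK _ (Subgroup.mem_map_of_mem _ hq)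
          rw [← QuotientGroup.eq_one_iff]
          show QuotientGroup.mk' _ (x * q * x⁻¹ * q⁻¹) = 1
          rw [map_mul, map_mul, map_mul, ← h1, map_inv, map_inv, mul_inv_cancel_right]
          exact mul_inv_cancel _
      have htQ : t ∈ Q := hc (hcent (Subgroup.mem_zpowers t))
      obtain ⟨j, hj⟩ := IsPGroup.iff_orderOf.mp hQp ⟨t, htQ⟩
      rw [Subgroup.orderOf_mk] at hj
      have h1 : orderOf t = 1 := Nat.Coprime.eq_one_of_dvd (he.pow_right j) (hj ▸ dvd_rfl)
      show (g : G) ^ p ^ e = 1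
      exact orderOf_eq_one_iff.mp h1
    obtain ⟨l, hl⟩ := IsPGroup.iff_card.mp hKp
    have hDp : IsPGroup p D := by
      refine IsPGroup.of_card (n := l + k) ?_
      have h1 := Subgroup.relIndex_mul_relIndex ⊥ K D bot_le hKD
      rw [Subgroup.relIndex_bot_left, Subgroup.relIndex_bot_left, hl, hk] at h1
      rw [← h1, pow_add]
    exact Cfsg.Agent.Cores.le_pCore hDp haD
  -- pull quadratic elements of `S` back into `S`
  have hpull : ∀ s ∈ (S : Subgroup G), ⁅⁅W₁, Subgroup.zpowers s⁆, Subgroup.zpowers s⁆ = ⊥ →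
      ∀ w ∈ W₁, w * s = s * w := by
    intro s hs hq
    have hq' : ⁅⁅W, Subgroup.zpowers (⟨s, hs⟩ : (S : Subgroup G))⁆,
        Subgroup.zpowers (⟨s, hs⟩ : (S : Subgroup G))⁆ = ⊥ := by
      apply Subgroup.map_injective (S : Subgroup G).subtype_injective
      rw [Subgroup.map_bot, Subgroup.map_commutator, Subgroup.map_commutator, MonoidHom.map_zpowers]
      exact hq
    have h := Cfsg.Agent.H31.centralize_of_quadratic _ hq'
    rintro _ ⟨w, hw, rfl⟩
    exact congrArg Subtype.val (Subgroup.mem_centralizer_iff.mp h w hw)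
  -- conjugates of `W₁` commute
  have hcomm : ∀ h : G, ∀ x ∈ W₁, ∀ w ∈ W₁, w * (h * x * h⁻¹) = (h * x * h⁻¹) * w := by
    intro h x hx
    set x' := h * x * h⁻¹ with hx'
    set Wh := W₁.map (MulAut.conj h).toMonoidHom with hWh
    have hWhQ : Wh ≤ Q := by
      rintro _ ⟨y, hy, rfl⟩
      exact hQn.conj_mem y (hWQ hy) h
    have hx'Wh : x' ∈ Wh := ⟨x, hx, rfl⟩
    refine hpull x' (hQS (hWhQ hx'Wh)) ?_
    have hWhN : ∀ q ∈ Q, ∀ y ∈ Wh, q * y * q⁻¹ ∈ Wh := by
      rintro q hq _ ⟨y, hy, rfl⟩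
      have hq' : h⁻¹ * q * h ∈ Q := by simpa using hQn.conj_mem q hq h⁻¹
      refine ⟨h⁻¹ * q * h * y * (h⁻¹ * q * h)⁻¹,
        (Subgroup.mem_normalizer_iff.mp (hQW hq') y).mp hy, ?_⟩
      simp only [MulEquiv.coe_toMonoidHom, MulAut.conj_apply]
      group
    refine le_bot_iff.mp (le_trans (Subgroup.commutator_mono
      (Subgroup.commutator_mono le_rfl (Subgroup.zpowers_le.mpr hx'Wh)) (Subgroup.zpowers_le.mpr hx'Wh)) ?_)
    rw [le_bot_iff, Subgroup.commutator_eq_bot_iff_le_centralizer]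
    refine (Subgroup.commutator_le.mpr fun w hw y hy => ?_).trans ?_ (b := Wh)
    · rw [commutatorElement_def]
      exact mul_mem (hWhN w (hWQ hw) y hy) (inv_mem hy)
    · intro y hy
      rw [Subgroup.mem_centralizer_iff]
      exact fun z hz => Cfsg.Agent.H31.elem_comm
        ((Cfsg.Agent.H31.elem_map_iff (MulAut.conj h).injective).mpr hWel) hz hy
  -- the normal closure of `W₁`
  set V := Subgroup.normalClosure (W₁ : Set G) with hV
  haveI hVn : V.Normal := Subgroup.normalClosure_normal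
  have hW₁V : W₁ ≤ V := Subgroup.le_normalClosure
  have hVQ : V ≤ Q := Subgroup.normalClosure_le_normal hWQ
  have hgen : ∀ z ∈ Group.conjugatesOfSet (W₁ : Set G), ∃ g : G, ∃ w ∈ W₁, z = g * w * g⁻¹ := by
    intro z hz
    obtain ⟨w, hw, hc'⟩ := Group.mem_conjugatesOfSet_iff.mp hz
    obtain ⟨g, rfl⟩ := isConj_iff.mp hc'
    exact ⟨g, w, hw, rfl⟩
  have hVel : Cfsg.IsElementaryAbelian p V := by
    refine Cfsg.Agent.H31.elem_closure (fun z hz z' hz' => ?_) (fun z hz => ?_)
    · obtain ⟨g, w, hw, rfl⟩ := hgen z hz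
      obtain ⟨g', w', hw', rfl⟩ := hgen z' hz'
      have := hcomm (g⁻¹ * g') w' hw' w hw
      calc g * w * g⁻¹ * (g' * w' * g'⁻¹) = g * (w * (g⁻¹ * g' * w' * (g⁻¹ * g')⁻¹)) * g⁻¹ := by group
        _ = g * ((g⁻¹ * g' * w' * (g⁻¹ * g')⁻¹) * w) * g⁻¹ := by rw [this]
        _ = _ := by group
    · obtain ⟨g, w, hw, rfl⟩ := hgen z hz
      rw [conj_pow, hWel.2 w hw, mul_one, mul_inv_cancel]
  set C := Subgroup.centralizer (V : Set G) with hC
  haveI : C.Normal := inferInstance
  set D := (Cfsg.pCore p (G ⧸ C)).comap (QuotientGroup.mk' C) with hD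
  haveI : (Cfsg.pCore p (G ⧸ C)).Normal := inferInstance
  haveI : D.Normal := Subgroup.Normal.comap inferInstance _
  obtain ⟨k, hk⟩ := Cfsg.Agent.H31.exists_relIndex_comap_pCore (p := p) C
  -- `J(S)` centralizes `V`
  have hJC : J ≤ C := by
    rw [hJ, Cfsg.Agent.H31.thompsonSubgroupOf_eq]
    refine sSup_le fun A hA => ?_
    have hAmax : A ∈ Cfsg.maxElementaryAbelianSubgroups p G :=
      Cfsg.Agent.H31.maxIn_top_iff.mpr ((Cfsg.Agent.H31.maxIn_sylow_iff S).mp hA).2
    obtain ⟨-, hquad, hnt⟩ := Cfsg.Agent.S0607.result V hVel A hAmax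
    set A₀ := ⁅V, A⁆ ⊔ (A ⊓ Subgroup.centralizer ((⁅V, A⁆ : Subgroup G) : Set G)) with hA₀
    have hA₀C : A₀ ≤ C := by
      intro a ha
      have haz : Subgroup.zpowers a ≤ A₀ := Subgroup.zpowers_le.mpr ha
      have hqa : ⁅⁅V, Subgroup.zpowers a⁆, Subgroup.zpowers a⁆ = ⊥ := le_bot_iff.mp
        (le_trans (Subgroup.commutator_mono (Subgroup.commutator_mono le_rfl haz) haz) hquad.le)
      have haD : a ∈ D := by
        rw [hD, Subgroup.mem_comap]
        exact hst.1 V hVel a hqa
      suffices hs : Group.conjugatesOfSet (W₁ : Set G) ⊆ (Subgroup.centralizer ({a} : Set G) : Set G) by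
        rw [hC, Subgroup.mem_centralizer_iff]
        intro v hv
        exact (Subgroup.mem_centralizer_iff.mp ((Subgroup.closure_le _).mpr hs hv) a rfl).symm
      intro z hz
      obtain ⟨g, w, hw, rfl⟩ := hgen z hz
      rw [SetLike.mem_coe, Subgroup.mem_centralizer_iff]
      intro t ht
      rw [Set.mem_singleton_iff] at ht
      rw [ht]
      set T := g • S with hT
      have ha2 : a ∈ (↑(C ⊔ ((T : Subgroup G) ⊓ D)) : Set G) :=
        Cfsg.Agent.H31.le_sup_sylow_inf T (Cfsg.Agent.H31.le_comap_mk' C _) hk haD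
      rw [Subgroup.normal_mul] at ha2
      obtain ⟨c, hcC, s, hs, rfl⟩ := ha2
      have hsT : s ∈ (T : Subgroup G) := (Subgroup.mem_inf.mp hs).1
      rw [hT, Sylow.coe_subgroup_smul, Subgroup.pointwise_smul_def] at hsT
      obtain ⟨s', hs', rfl⟩ := hsT
      have hs'' : s' ∈ (S : Subgroup G) := hs'
      change g * w * g⁻¹ ∈ _ at hz
      simp only [MulDistribMulAction.toMonoidEnd_apply, MulDistribMulAction.toMonoidHom_apply,
        MulAut.smul_def, MulAut.conj_apply] at hqa hcC ⊢
      have hzV : g * w * g⁻¹ ∈ V := hVn.conj_mem _ (hW₁V hw) g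
      have hq2 : ⁅⁅V, Subgroup.zpowers (g * s' * g⁻¹)⁆, Subgroup.zpowers (g * s' * g⁻¹)⁆ = ⊥ := by
        refine le_bot_iff.mp (le_trans ?_ hqa.le)
        have hle : ⁅V, Subgroup.zpowers (g * s' * g⁻¹)⁆ ≤ V := Subgroup.commutator_le_left _ _
        refine le_trans (commutator_zpowers_le hle hcC rfl) ?_
        exact Subgroup.commutator_mono (commutator_zpowers_le le_rfl hcC rfl) le_rfl
      have hq3 : ⁅⁅W₁, Subgroup.zpowers s'⁆, Subgroup.zpowers s'⁆ = ⊥ := by
        apply Subgroup.map_injective (f := (MulAut.conj g).toMonoidHom) (MulAut.conj g).injective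
        rw [Subgroup.map_bot, Subgroup.map_commutator, Subgroup.map_commutator, MonoidHom.map_zpowers]
        refine le_bot_iff.mp (le_trans (Subgroup.commutator_mono (Subgroup.commutator_mono ?_ le_rfl) le_rfl) hq2.le)
        rintro _ ⟨y, hy, rfl⟩
        exact hVn.conj_mem _ (hW₁V hy) g
      have hsw := hpull s' hs'' hq3 w hw
      calc c * (g * s' * g⁻¹) * (g * w * g⁻¹) = c * (g * (s' * w) * g⁻¹) := by group
        _ = (c * (g * w * g⁻¹)) * (g * s' * g⁻¹) := by rw [← hsw]; group
        _ = (g * w * g⁻¹) * c * (g * s' * g⁻¹) := by rw [Subgroup.mem_centralizer_iff.mp hcC _ hzV]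
        _ = g * w * g⁻¹ * (c * (g * s' * g⁻¹)) := by group
    have h0 : ⁅V, A₀⁆ = ⊥ :=
      Subgroup.commutator_eq_bot_iff_le_centralizer.mpr (Subgroup.le_centralizer_iff.mp hA₀C)
    have h1 : ⁅V, A⁆ = ⊥ := not_not.mp fun hne => hnt hne h0
    exact Subgroup.le_centralizer_iff.mp (Subgroup.commutator_eq_bot_iff_le_centralizer.mp h1)
  -- Frattini argument
  have htop : Subgroup.normalizer (W₁ : Set G) = ⊤ := by
    rw [eq_top_iff, ← Cfsg.Agent.H31.normalizer_sylow_inf_sup S C]
    refine sup_le ?_ ?_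
    · refine le_trans ?_ hNW
      have hJP := Cfsg.Agent.H31.thompsonSubgroupOf_eq_of_le
        (le_inf (Cfsg.Agent.H31.thompsonSubgroupOf_le p _) hJC : J ≤ (S : Subgroup G) ⊓ C) inf_le_left
      rw [hN, hJ, ← hJP]
      exact Cfsg.Agent.H31.normalizer_le_normalizer_thompsonSubgroupOf p _
    · intro c hc
      rw [Subgroup.mem_normalizer_iff]
      intro w
      have key : ∀ c ∈ C, ∀ w ∈ W₁, c * w * c⁻¹ = w := fun c hc w hw => by
        rw [← Subgroup.mem_centralizer_iff.mp hc w (hW₁V hw), mul_inv_cancel_right]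
      refine ⟨fun hw => by rw [key c hc w hw]; exact hw, fun hw => ?_⟩
      have := key c⁻¹ (inv_mem hc) _ hw
      have e : c⁻¹ * (c * w * c⁻¹) * c⁻¹⁻¹ = w := by group
      rw [e] at this
      rwa [this]
  exact Subgroup.normalizer_eq_top_iff.mp htop

end Cfsg.Agent.S0624
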