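import Cfsg.Statements.S0627
import Cfsg.Agent.Thompson.Factorization
import Cfsg.Agent.S0624
import Cfsg.Agent.H31.Stable
-- import your own Cfsg.Agent.* helpers here

set_option autoImplicit false
open Cfsg

namespace Cfsg.Agent.S0627

/-- In a p-separable group with p at least 5, the normalizer of W(S) supplements the largest normal subgroup of order prime to p. -/
theorem result {G : Type*} [Group G] [Finite G] {p : ℕ} [Fact p.Prime] (hp : 5 ≤ p) (hsep : Cfsg.IsPSolvable p G) (S : Sylow p G) : Cfsg.pPrimeCore p G ⊔ Subgroup.normalizer (((Cfsg.stableNormalClosure p ↥(S : Subgroup G)).map (S : Subgroup G).subtype) : Set G) = ⊤ := by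
  have hq : Cfsg.IsPSolvable p (G ⧸ Cfsg.pPrimeCore p G) := Cores.isPSolvable_quotient hsep _
  have hst : Cfsg.IsActionPStable p (G ⧸ Cfsg.pPrimeCore p G) :=
    Thompson.isActionPStable_of_sl2_free (by omega) (Thompson.not_hasSection_sl2_of_isPSolvable hp hq)
  set π := QuotientGroup.mk' (Cfsg.pPrimeCore p G) with hπ
  have hsur : Function.Surjective π := QuotientGroup.mk'_surjective _
  refine Thompson.sup_normalizer_of_map_normal (S.isPGroup'.to_le (Subgroup.map_subtype_le _)) ?_
  have hn := S0624.result hst (Cores.centralizer_pCore_le hq Cores.pPrimeCore_quotient_pPrimeCore) (S.mapSurjective hsur)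
  let e : ↥(S : Subgroup G) ≃* ↥((S.mapSurjective hsur : Sylow p (G ⧸ Cfsg.pPrimeCore p G)) : Subgroup (G ⧸ Cfsg.pPrimeCore p G)) :=
    MulEquiv.ofBijective (π.subgroupMap (S : Subgroup G)) ⟨(injective_iff_map_eq_one _).mpr fun x hx =>
      Subtype.ext (Subgroup.mem_bot.mp ((Cores.disjoint_of_isPGroup_of_coprime S.isPGroup'
        Cores.coprime_card_pPrimeCore).le ⟨x.2, (QuotientGroup.eq_one_iff _).mp (congrArg Subtype.val hx)⟩)),
      MonoidHom.subgroupMap_surjective π _⟩
  have he := H31.stableNormalClosure_map (p := p) e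
  rw [← he, Subgroup.map_map] at hn
  rw [Subgroup.map_map]
  exact hn

end Cfsg.Agent.S0627
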