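import Cfsg.Statements.S0628
import Cfsg.Agent.Thompson.Factorization
import Cfsg.Agent.S0624
import Cfsg.Agent.H31.Stable
import Cfsg.Agent.H25.ThompsonApps
-- import your own Cfsg.Agent.* helpers here

set_option autoImplicit false
open Cfsg

namespace Cfsg.Agent.S0628

/-- The normal p-complement Theorem of Thompson in the form with W(S): for odd p, G has a normal p-complement as soon as the normalizer of the characteristic subgroup W(S) of a Sylow p-subgroup S has one. -/
theorem result {G : Type*} [Group G] [Finite G] {p : ℕ} [Fact p.Prime] (hp : p ≠ 2) (S : Sylow p G) (hN : Cfsg.HasNormalPComplement p ↥(Subgroup.normalizer (((Cfsg.stableNormalClosure p ↥(S : Subgroup G)).map (S : Subgroup G).subtype) : Set G))) : Cfsg.HasNormalPComplement p G := by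
  refine H25.thompson_criterion (W := fun Q _ => Cfsg.stableNormalClosure p Q)
    ⟨fun Q _ _ hQ hne => H31.stableNormalClosure_ne_bot hQ, fun Q R _ _ _ _ φ => H31.stableNormalClosure_map φ⟩ S hN ?_
  intro X _ _ _ hC _ hPA T _
  exact S0624.result (Thompson.isActionPStable_of_sl2_free hp
    (Thompson.not_hasSection_SL2_of_abelian hp default (Thompson.isMulCommutative_of_isPAbelianP hp hPA default))) hC T

end Cfsg.Agent.S0628
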