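import Cfsg.Statements.S0631
import Cfsg.Agent.Components.PLocalMore
-- import your own Cfsg.Agent.* helpers here

set_option autoImplicit false
open Cfsg
open Cfsg.Agent Cfsg.Agent.Components

namespace Cfsg.Agent.S0631

set_option linter.unusedSectionVars false

open Cfsg.Agent.Components in
/-- The centralizer version of `pLayer_normalizer_eq_bot`. -/
theorem pLayer_centralizer_eq_bot {G : Type*} [Group G] [Finite G] {p : ℕ} [Fact p.Prime]
    (hL : Cfsg.pLayer p G = ⊥) {P : Subgroup G} (hP : IsPGroup p P) :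
    Cfsg.pLayer p (Subgroup.centralizer (P : Set G)) = ⊥ := by
  set C := Subgroup.centralizer (P : Set G)
  set R := Cfsg.pPrimeCore p G
  have hFQ : Cfsg.generalizedFittingSubgroup (G ⧸ R) = Cfsg.pCore p (G ⧸ R) :=
    genFitting_eq_pCore_iff_cores.mpr
      ⟨pLayer_eq_bot_iff.mp hL, pPrimeCore_quotient_eq_bot⟩
  set W : Subgroup (G ⧸ R) := P.map (qmap p G)
  set M := Subgroup.centralizer (W : Set (G ⧸ R))
  set N := Subgroup.normalizer (W : Set (G ⧸ R))
  have hMN : M ≤ N := Subgroup.centralizer_le_normalizer _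
  have hn' : (M.subgroupOf N).Normal :=
    Subgroup.normal_subgroupOf_of_le_normalizer (normalizer_le_normalizer_centralizer W)
  have h1 := genFitting_eq_pCore_of_isSubnormal (Subgroup.Normal.isSubnormal hn')
    (genFitting_normalizer hFQ (hP.map (qmap p G)))
  have hMF := genFitting_eq_pCore_iff_cores.mp
    ((genFitting_eq_pCore_congr (Subgroup.subgroupOfEquivOfLe hMN)).mp h1)
  have hmap : C.map (qmap p G) = M :=
    Cores.map_centralizer_of_coprime R Cores.coprime_card_pPrimeCore hP
  let f : C →* M := ((qmap p G).comp C.subtype).codRestrict M fun x =>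
    hmap.le ⟨x, x.2, rfl⟩
  have hf : Function.Surjective f := fun y => by
    obtain ⟨x, hx, hxy⟩ := hmap.ge y.2
    exact ⟨⟨x, hx⟩, Subtype.ext hxy⟩
  have hle : f.ker = Cfsg.pPrimeCore p C := by
    refine le_antisymm ?_ ?_
    · refine le_trans ?_ (Cores.subgroupOf_pPrimeCore_le C)
      intro x hx
      rw [MonoidHom.mem_ker, Subtype.ext_iff] at hx
      exact (QuotientGroup.eq_one_iff (x : G)).mp hx
    · rw [← Subgroup.map_eq_bot_iff, ← le_bot_iff, ← hMF.2]
      exact Cores.pPrimeCore_map_le hf
  refine pLayer_eq_bot_iff.mpr ?_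
  let e : C ⧸ Cfsg.pPrimeCore p C ≃* M :=
    (QuotientGroup.quotientMulEquivOfEq hle.symm).trans
      (QuotientGroup.quotientKerEquivOfSurjective f hf)
  have := map_layer_equiv e
  rw [hMF.1, Subgroup.map_eq_bot_iff_of_injective] at this
  exacts [this, e.injective]

/-- In a p-constrained group the normalizer and the centralizer of any p-subgroup are again p-constrained. -/
theorem result {G : Type*} [Group G] [Finite G] {p : ℕ} [Fact p.Prime] (hG : Cfsg.IsPConstrained p G) (P : Subgroup G) (hP : IsPGroup p P) : Cfsg.IsPConstrained p ↥(Subgroup.normalizer (P : Set G)) ∧ Cfsg.IsPConstrained p ↥(Subgroup.centralizer (P : Set G)) := by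
  have hL := isPConstrained_iff_pLayer.mp hG
  refine ⟨isPConstrained_iff_pLayer.mpr (pLayer_normalizer_eq_bot hL hP).1,
    isPConstrained_iff_pLayer.mpr (pLayer_centralizer_eq_bot hL hP)⟩

end Cfsg.Agent.S0631
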