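import Cfsg.Statements.S0632
import Cfsg.Agent.Cores.Constrained

set_option autoImplicit false
open Cfsg

namespace Cfsg.Agent.S0632

open Subgroup

private theorem map_le_pCore_iff {M M' : Type*} [Group M] [Group M'] {p : ℕ} (φ : M →* M')
    (hφ : Function.Surjective φ) {C : Subgroup M} [C.Normal] (hC : φ.ker = C) (A : Subgroup M) :
    A.map (QuotientGroup.mk' C) ≤ Cfsg.pCore p (M ⧸ C) ↔ A.map φ ≤ Cfsg.pCore p M' := by
  subst hC
  let e := QuotientGroup.quotientKerEquivOfSurjective φ hφ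
  rw [← Cfsg.Agent.Cores.pCore_map_mulEquiv e,
    show A.map φ = (A.map (QuotientGroup.mk' φ.ker)).map e.toMonoidHom by
      rw [Subgroup.map_map]; rfl,
    Subgroup.map_le_map_iff_of_injective (f := e.toMonoidHom) e.injective]

/-- The two conjugation actions agree. -/
private theorem action_iff {G : Type*} [Group G] [Finite G] {p : ℕ} [Fact p.Prime]
    (A P : Subgroup G) (hP : IsPGroup p P) (hA : A ≤ Subgroup.normalizer (P : Set G))
    (hn : (Cfsg.pPrimeCore p G ⊔ P).Normal) :
    (A.subgroupOf (Subgroup.normalizer (P : Set G))).map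
          (QuotientGroup.mk' ((Subgroup.centralizer (P : Set G)).subgroupOf
            (Subgroup.normalizer (P : Set G)))) ≤ Cfsg.pCore p _ ↔
      ((A.map (QuotientGroup.mk' (Cfsg.pPrimeCore p G))).subgroupOf
            (Subgroup.normalizer ((P.map (QuotientGroup.mk' (Cfsg.pPrimeCore p G)) :
              Subgroup (G ⧸ Cfsg.pPrimeCore p G)) : Set (G ⧸ Cfsg.pPrimeCore p G)))).map
          (QuotientGroup.mk' ((Subgroup.centralizer ((P.map (QuotientGroup.mk' (Cfsg.pPrimeCore p G)) :
              Subgroup (G ⧸ Cfsg.pPrimeCore p G)) : Set (G ⧸ Cfsg.pPrimeCore p G))).subgroupOf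
            (Subgroup.normalizer ((P.map (QuotientGroup.mk' (Cfsg.pPrimeCore p G)) :
              Subgroup (G ⧸ Cfsg.pPrimeCore p G)) : Set (G ⧸ Cfsg.pPrimeCore p G))))) ≤
        Cfsg.pCore p _ := by
  set K := Cfsg.pPrimeCore p G with hK
  set π := QuotientGroup.mk' K with hπ
  set L := K ⊔ P with hL
  haveI := hn
  have hπK : ∀ k ∈ K, π k = 1 := fun k hk => (QuotientGroup.eq_one_iff k).mpr hk
  have hdisj : ∀ (R : Subgroup G), IsPGroup p R → ∀ r ∈ R, π r = 1 → r = 1 := by
    intro R hR r hr h1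
    have hm : r ∈ R ⊓ K := ⟨hr, (QuotientGroup.eq_one_iff r).mp h1⟩
    rw [Cfsg.Agent.Cores.disjoint_of_isPGroup_of_coprime hR
      Cfsg.Agent.Cores.coprime_card_pPrimeCore] at hm
    exact Subgroup.mem_bot.mp hm
  -- `P` is a Sylow subgroup of `L`, so by Frattini its normalizer covers `G` modulo `K`
  obtain ⟨S, hS⟩ := (hP.comap_subtype (K := L)).exists_le_sylow
  have hSP : (S : Subgroup L).map L.subtype = P := by
    refine le_antisymm ?_ fun x hx => ⟨⟨x, (le_sup_right : P ≤ L) hx⟩, hS hx, rfl⟩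
    rintro _ ⟨s, hs, rfl⟩
    obtain ⟨k, hk, x, hx, he⟩ := Subgroup.mem_sup_of_normal_left.mp s.2
    have hxs : (⟨x, (le_sup_right : P ≤ L) hx⟩ : L) ∈ (S : Subgroup L) := hS hx
    have h1 := hdisj ((S : Subgroup L).map L.subtype) (S.2.map _) ((s : G) * x⁻¹)
      ⟨s * (⟨x, (le_sup_right : P ≤ L) hx⟩ : L)⁻¹,
        (S : Subgroup L).mul_mem hs ((S : Subgroup L).inv_mem hxs), rfl⟩
      (by rw [← he, mul_inv_cancel_right, hπK k hk])
    rw [mul_inv_eq_one] at h1
    rw [L.subtype_apply, h1]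
    exact hx
  have hfr := Sylow.normalizer_sup_eq_top (N := L) S
  rw [hSP] at hfr
  set N' := Subgroup.normalizer ((P.map π : Subgroup (G ⧸ K)) : Set (G ⧸ K)) with hN'
  let r : Subgroup.normalizer (P : Set G) →* N' :=
    ((π.comp (Subgroup.normalizer (P : Set G)).subtype)).codRestrict N' fun u =>
      Subgroup.le_normalizer_map π ⟨u, u.2, rfl⟩
  let φ := (QuotientGroup.mk' ((Subgroup.centralizer ((P.map π : Subgroup (G ⧸ K)) :
    Set (G ⧸ K))).subgroupOf N')).comp r
  have hr : Function.Surjective r := by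
    rintro ⟨z, hz⟩
    obtain ⟨g, rfl⟩ := QuotientGroup.mk'_surjective K z
    have hg : g ∈ Subgroup.normalizer (P : Set G) ⊔ L := hfr ▸ Subgroup.mem_top g
    have hg' : g ∈ Subgroup.normalizer (P : Set G) ⊔ K := by
      have hle : Subgroup.normalizer (P : Set G) ⊔ L ≤ Subgroup.normalizer (P : Set G) ⊔ K :=
        sup_le le_sup_left (sup_le le_sup_right (Subgroup.le_normalizer.trans le_sup_left))
      exact hle hg
    obtain ⟨u, hu, k, hk, rfl⟩ := Subgroup.mem_sup_of_normal_right.mp hg'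
    exact ⟨⟨u, hu⟩, Subtype.ext (by simp [r, ← hπ, hπK k hk])⟩
  have hφ : Function.Surjective φ := (QuotientGroup.mk'_surjective _).comp hr
  have hker : φ.ker = (Subgroup.centralizer (P : Set G)).subgroupOf (Subgroup.normalizer (P : Set G)) := by
    rw [← MonoidHom.comap_ker, QuotientGroup.ker_mk']
    ext u
    simp only [Subgroup.mem_comap, Subgroup.mem_subgroupOf]
    constructor
    · intro h x hx
      have h1 : π (x * u) = π (u * x) := by
        rw [map_mul, map_mul]; exact h _ ⟨x, hx, rfl⟩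
      have hmem : ((u : G) * x)⁻¹ * (x * u) ∈ P := by
        have h2 : (u : G)⁻¹ * x * u ∈ P := by
          have := (Subgroup.mem_normalizer_iff.mp ((Subgroup.normalizer (P : Set G)).inv_mem u.2) x).mp hx
          simpa using this
        have := P.mul_mem (P.inv_mem hx) h2
        simpa [mul_assoc] using this
      have h2 := hdisj P hP _ hmem (by rw [map_mul, map_inv, h1, inv_mul_cancel])
      rw [inv_mul_eq_one] at h2
      exact h2.symm
    · rintro h _ ⟨x, hx, rfl⟩
      show π x * π u = π u * π x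
      rw [← map_mul, ← map_mul, h x hx]
  rw [map_le_pCore_iff φ hφ hker]
  have himage : (A.subgroupOf (Subgroup.normalizer (P : Set G))).map φ =
      ((A.map π).subgroupOf N').map (QuotientGroup.mk' _) := by
    rw [← Subgroup.map_map]
    congr 1
    apply le_antisymm
    · rintro _ ⟨u, hu, rfl⟩
      exact ⟨(u : G), hu, rfl⟩
    · rintro ⟨z, hz⟩ ⟨a, ha, rfl⟩
      exact ⟨⟨a, hA ha⟩, ha, rfl⟩
  rw [himage]

/-- For a group with a nontrivial normal p-subgroup, p-stability passes to and from the quotient by the largest normal subgroup of order prime to p. -/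
theorem result {G : Type*} [Group G] [Finite G] {p : ℕ} [Fact p.Prime] (hO : Cfsg.pCore p G ≠ ⊥) : Cfsg.IsPStable p G ↔ Cfsg.IsPStable p (G ⧸ Cfsg.pPrimeCore p G) := by
  set K := Cfsg.pPrimeCore p G with hK
  set π := QuotientGroup.mk' K with hπ
  have hπK : ∀ k ∈ K, π k = 1 := fun k hk => (QuotientGroup.eq_one_iff k).mpr hk
  have hKc : (Nat.card K).Coprime p := Cfsg.Agent.Cores.coprime_card_pPrimeCore
  have hbarK : Cfsg.pPrimeCore p (G ⧸ K) = ⊥ := Cfsg.Agent.Cores.pPrimeCore_quotient_pPrimeCore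
  have hbarO : Cfsg.pCore p (G ⧸ K) ≠ ⊥ := by
    intro h
    apply hO
    have h1 := Cfsg.Agent.Cores.pCore_map_le (p := p) (f := π) (QuotientGroup.mk'_surjective _)
    rw [h, le_bot_iff, Subgroup.map_eq_bot_iff, hπ, QuotientGroup.ker_mk'] at h1
    exact eq_bot_iff.mpr ((le_inf le_rfl h1).trans (Cfsg.Agent.Cores.pCore_inf_pPrimeCore).le)
  constructor
  · rintro ⟨hp, -, hst⟩
    refine ⟨hp, hbarO, fun A' P' hA' hP' hconj _ hn' hquad => ?_⟩
    rw [hbarK, bot_sup_eq] at hn'
    set L := P'.comap π with hL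
    haveI : L.Normal := hn'.comap π
    obtain ⟨S⟩ : Nonempty (Sylow p L) := inferInstance
    set P := (S : Subgroup L).map L.subtype with hPdef
    have hPp : IsPGroup p P := S.2.map _
    have hmapP : P.map π = P' := by
      refine le_antisymm ?_ ?_
      · rintro _ ⟨_, ⟨s, _, rfl⟩, rfl⟩
        exact s.2
      · let f : L →* P' := π.subgroupComap P'
        have hf : Function.Surjective f := fun ⟨y, hy⟩ => by
          obtain ⟨g, rfl⟩ := QuotientGroup.mk'_surjective K y
          exact ⟨⟨g, hy⟩, rfl⟩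
        have hS' := (S.mapSurjective hf).3 (IsPGroup.to_subgroup hP' ⊤) le_top
        intro y hy
        have hy' : (⟨y, hy⟩ : P') ∈ (S.mapSurjective hf : Subgroup P') := hS' ▸ Subgroup.mem_top _
        obtain ⟨s, hs, hsy⟩ := hy'
        exact ⟨(s : G), ⟨s, hs, rfl⟩, congrArg Subtype.val hsy⟩
    have hKP : K ⊔ P = L := by
      refine le_antisymm (sup_le ?_ (Subgroup.map_subtype_le _)) ?_
      · intro k hk
        rw [hL, Subgroup.mem_comap, hπK k hk]
        exact P'.one_mem
      · intro g hg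
        have hg' : π g ∈ P.map π := by rw [hmapP]; exact hg
        obtain ⟨x, hx, hxe⟩ := hg'
        have h1 : g * x⁻¹ ∈ K := (QuotientGroup.eq_one_iff _).mp (by
          show π (g * x⁻¹) = 1
          rw [map_mul, map_inv, hxe, mul_inv_cancel])
        have := Subgroup.mul_mem_sup h1 hx
        rwa [inv_mul_cancel_right] at this
    -- lift `A'` to a `p`-subgroup normalising `P`
    set N := Subgroup.normalizer (P : Set G) with hN
    have hA'N : A' ≤ N.map π := by
      intro z _
      have hfr := Sylow.normalizer_sup_eq_top (N := L) S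
      obtain ⟨g, rfl⟩ := QuotientGroup.mk'_surjective K z
      have hg : g ∈ N ⊔ L := hfr ▸ Subgroup.mem_top g
      have hg' : g ∈ N ⊔ K := by
        rw [← hKP] at hg
        have hle : N ⊔ (K ⊔ P) ≤ N ⊔ K :=
          sup_le le_sup_left (sup_le le_sup_right (Subgroup.le_normalizer.trans le_sup_left))
        exact hle hg
      obtain ⟨u, hu, k, hk, rfl⟩ := Subgroup.mem_sup_of_normal_right.mp hg'
      exact ⟨u, hu, by rw [map_mul, hπK k hk, mul_one]⟩
    set M := A'.comap π ⊓ N with hM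
    let fM : M →* A' := (π.subgroupComap A').comp (Subgroup.inclusion inf_le_left)
    have hfM : Function.Surjective fM := fun ⟨y, hy⟩ => by
      obtain ⟨u, hu, rfl⟩ := hA'N hy
      exact ⟨⟨u, hy, hu⟩, rfl⟩
    obtain ⟨T⟩ : Nonempty (Sylow p M) := inferInstance
    set A := (T : Subgroup M).map M.subtype with hAdef
    have hAN : A ≤ N := (Subgroup.map_subtype_le _).trans inf_le_right
    have hmapA : A.map π = A' := by
      refine le_antisymm ?_ ?_
      · rintro _ ⟨_, ⟨s, _, rfl⟩, rfl⟩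
        exact s.2.1
      · have hT' := (T.mapSurjective hfM).3 (IsPGroup.to_subgroup hA' ⊤) le_top
        intro y hy
        have hy' : (⟨y, hy⟩ : A') ∈ (T.mapSurjective hfM : Subgroup A') := hT' ▸ Subgroup.mem_top _
        obtain ⟨s, hs, hsy⟩ := hy'
        exact ⟨(s : G), ⟨s, hs, rfl⟩, congrArg Subtype.val hsy⟩
    have hnKP : (K ⊔ P).Normal := hKP ▸ inferInstance
    have hPpp : P ≤ Cfsg.pPrimePCore p G := by
      rw [Cfsg.pPrimePCore, ← Subgroup.map_le_iff_le_comap]
      show P.map π ≤ _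
      rw [hmapP]
      exact Cfsg.Agent.Cores.le_pCore (hN := hn') hP'
    have hconjA : ∀ a ∈ A, ∀ x ∈ P, a * x * a⁻¹ ∈ P := fun a ha x hx =>
      (Subgroup.mem_normalizer_iff.mp (hAN ha) x).mp hx
    have hquadA : ⁅⁅P, A⁆, A⁆ = ⊥ := by
      have h1 : ⁅⁅P, A⁆, A⁆.map π = ⊥ := by
        rw [Subgroup.map_commutator, Subgroup.map_commutator, hmapP, hmapA, hquad]
      rw [Subgroup.map_eq_bot_iff, hπ, QuotientGroup.ker_mk'] at h1
      have h2 : ⁅⁅P, A⁆, A⁆ ≤ P :=
        (Subgroup.commutator_mono (Subgroup.le_normalizer_iff_commutator_le_left.mp hAN) le_rfl).trans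
          (Subgroup.le_normalizer_iff_commutator_le_left.mp hAN)
      exact le_bot_iff.mp ((le_inf h2 h1).trans
        (Cfsg.Agent.Cores.disjoint_of_isPGroup_of_coprime hPp hKc).le)
    have h3 := (action_iff A P hPp hAN hnKP).mp
      (hst A P (T.2.map _) hPp hconjA hPpp hnKP hquadA)
    change ((A.map π).subgroupOf (Subgroup.normalizer ((P.map π : Subgroup (G ⧸ K)) : Set (G ⧸ K)))).map
      (QuotientGroup.mk' ((Subgroup.centralizer ((P.map π : Subgroup (G ⧸ K)) : Set (G ⧸ K))).subgroupOf _)) ≤ _ at h3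
    revert h3
    rw [hmapA, hmapP]
    exact id
  · rintro ⟨hp, -, hst⟩
    refine ⟨hp, hO, fun A P hA hP hconj _ hn hquad => ?_⟩
    have hAN : A ≤ Subgroup.normalizer (P : Set G) := fun a ha => by
      rw [Subgroup.mem_normalizer_iff]
      exact fun x => ⟨hconj a ha x, fun h => by simpa [mul_assoc] using hconj a⁻¹ (A.inv_mem ha) _ h⟩
    rw [action_iff A P hP hAN hn]
    have hn' : (P.map π).Normal := by
      have h1 : (Cfsg.pPrimeCore p G ⊔ P).map π = P.map π := by
        rw [Subgroup.map_sup]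
        show K.map π ⊔ _ = _
        rw [QuotientGroup.map_mk'_self, bot_sup_eq]
      exact h1 ▸ hn.map π (QuotientGroup.mk'_surjective _)
    refine hst _ _ (hA.map π) (hP.map π) ?_ ?_ (by rw [hbarK, bot_sup_eq]; exact hn') ?_
    · rintro _ ⟨a, ha, rfl⟩ _ ⟨x, hx, rfl⟩
      exact ⟨_, hconj a ha x hx, by simp⟩
    · exact (Cfsg.Agent.Cores.le_pCore (hN := hn') (hP.map π)).trans
        Cfsg.Agent.Cores.pCore_le_pPrimePCore
    · rw [← Subgroup.map_commutator, ← Subgroup.map_commutator, hquad, Subgroup.map_bot]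

end Cfsg.Agent.S0632
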