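import Cfsg.Statements.S0633
import Cfsg.Agent.H71.HallHigmanExact
import Cfsg.Agent.H31.FFAmbient
import Cfsg.Agent.Coprime.Generation
import Cfsg.Agent.Coprime.Action

set_option autoImplicit false
set_option linter.style.haveILetI false
open Cfsg

namespace Cfsg.Agent.S0633

open Subgroup

/-- Theorem B of Hall and Higman on the minimal polynomial of a p-element of order p^n in a p-solvable linear group on a nonzero vector space in characteristic p with no nontrivial normal p-subgroup: its degree is p^n, except when some p^n₀ - 1 (n₀ ≤ n) is a power of a prime q for which the Sylow q-subgroups are non-abelian, in which case the degree is at least p^(n-n₀)(p^n₀ - 1). -/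
theorem result {F : Type*} [Field F] {p : ℕ} [Fact p.Prime] [CharP F p] {V : Type*} [AddCommGroup V] [Module F V] [FiniteDimensional F V] [Nontrivial V] (H : Subgroup (V ≃ₗ[F] V)) [Finite H] (hsol : Cfsg.IsPSolvable p H) (hOp : Cfsg.pCore p H = ⊥) (x : V ≃ₗ[F] V) (hx : x ∈ H) (n : ℕ) (hn : orderOf x = p ^ n) (r : ℕ) (hr : minpoly F (x : Module.End F V) = (Polynomial.X - 1) ^ r) : r = p ^ n ∨ ∃ n₀ q m : ℕ, 1 ≤ n₀ ∧ n₀ ≤ n ∧ q.Prime ∧ 1 ≤ m ∧ p ^ n₀ - 1 = q ^ m ∧ (∀ Q : Sylow q H, ¬ IsMulCommutative Q) ∧ p ^ (n - n₀) * (p ^ n₀ - 1) ≤ r := by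
  classical
  have hp : p.Prime := Fact.out
  have hp1 := hp.two_le
  set T : Module.End F V := (x : Module.End F V) with hT
  have hT1 : (T - 1) ^ r = 0 := by
    have h := minpoly.aeval F T
    rw [hr] at h
    simpa using h
  have hdeg : (minpoly F T).natDegree = r := by
    rw [hr, Polynomial.natDegree_pow, ← map_one Polynomial.C, Polynomial.natDegree_X_sub_C, mul_one]
  have hTn : T ^ p ^ n = 1 := by
    have h : x ^ p ^ n = 1 := hn ▸ pow_orderOf_eq_one x
    have h2 := congrArg (LinearEquiv.automorphismGroup.toLinearMapMonoidHom) h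
    rw [map_pow, map_one] at h2
    exact h2
  have hrle : r ≤ p ^ n := by
    have hdvd : minpoly F T ∣ (Polynomial.X - Polynomial.C 1) ^ p ^ n := by
      refine minpoly.dvd F T ?_
      rw [map_one, sub_pow_char_pow, one_pow]
      simp [hTn]
    have := Polynomial.natDegree_le_of_dvd hdvd (pow_ne_zero _ (Polynomial.X_sub_C_ne_zero 1))
    rwa [hdeg, Polynomial.natDegree_pow, Polynomial.natDegree_X_sub_C, mul_one] at this
  rcases hrle.lt_or_eq with hrlt | hreq
  swap
  · exact Or.inl hreq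
  rcases Nat.eq_zero_or_pos n with rfl | hn0
  · left
    have := minpoly.natDegree_pos (Algebra.IsIntegral.isIntegral (R := F) T)
    rw [hdeg] at this
    rw [pow_zero] at hrlt
    omega
  right
  let K := AlgebraicClosure F
  let b := Module.finBasis F V
  let ρ : H →* Module.End K (Fin (Module.finrank F V) → K) :=
    (Matrix.toLinAlgEquiv' (R := K)).toMonoidHom.comp
      (((algebraMap F K).mapMatrix : _ →+* _).toMonoidHom.comp
        ((LinearMap.toMatrixAlgEquiv b).toMonoidHom.comp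
          (LinearEquiv.automorphismGroup.toLinearMapMonoidHom.comp H.subtype)))
  have hmapinj : Function.Injective
      ((algebraMap F K).mapMatrix : Matrix (Fin (Module.finrank F V)) (Fin (Module.finrank F V)) F →+* _) :=
    Matrix.map_injective (algebraMap F K).injective
  have hinj : Function.Injective ρ := by
    intro a c hac
    have h1 := (LinearMap.toMatrixAlgEquiv b).injective (hmapinj ((Matrix.toLinAlgEquiv' (R := K)).injective hac))
    exact Subtype.ext (LinearEquiv.toLinearMap_injective h1)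
  let x' : H := ⟨x, hx⟩
  have hrho : (ρ x' - 1) ^ r = 0 := by
    let φ : Module.End F V →+* Module.End K (Fin (Module.finrank F V) → K) :=
      (Matrix.toLinAlgEquiv' (R := K)).toRingHom.comp ((algebraMap F K).mapMatrix.comp
        (LinearMap.toMatrixAlgEquiv b).toRingHom)
    have hφ : ρ x' = φ T := rfl
    rw [hφ, ← map_one φ, ← map_sub, ← map_pow, hT1, map_zero]
  have hordx : orderOf x' = p ^ n := by rw [← hn]; exact (Subgroup.orderOf_coe x').symm
  haveI : CharP K p := charP_of_injective_algebraMap (algebraMap F K).injective p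
  set Fc := Cfsg.pPrimeCore p H with hFc
  set A := zpowers x' with hA
  have hFcop : (Nat.card Fc).Coprime p := Cores.coprime_card_pPrimeCore
  have hAK : A ≤ normalizer (Fc : Set H) := le_normalizer_of_normal
  have hcop : (Nat.card A).Coprime (Nat.card Fc) := by
    rw [Nat.card_zpowers, hordx]
    exact hFcop.symm.pow_left n
  have hsolv : Group.IsSolvable A ∨ Group.IsSolvable Fc := Or.inl (Coprime.isSolvable_zpowers _)
  obtain ⟨q, hq, R, hR, hxR, hnc⟩ : ∃ (q : ℕ) (_ : q.Prime) (R : Subgroup H),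
      (R ≤ Fc ∧ IsPGroup q R) ∧ x' ∈ normalizer (R : Set H) ∧
      ¬ zpowers (x' ^ p ^ (n - 1)) ≤ centralizer (R : Set H) := by
    by_contra hno
    push Not at hno
    have hle : Fc ≤ centralizer ({x' ^ p ^ (n - 1)} : Set H) := by
      refine Coprime.le_of_exists_sylow_le fun q hq => ?_
      haveI : Fact q.Prime := ⟨hq⟩
      obtain ⟨P, hP⟩ := Coprime.exists_invariant_sylow hAK hcop hsolv q
      refine ⟨P, fun v hv => mem_centralizer_singleton_iff.mpr ?_⟩
      exact mem_centralizer_iff.mp (hno q hq _ ⟨map_subtype_le _, P.isPGroup'.map _⟩ (hP (mem_zpowers _))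
        (mem_zpowers _)) v hv
    have hyF : x' ^ p ^ (n - 1) ∈ Fc := H31.FFAmb.centralizer_pPrimeCore_le hsol hOp
      (mem_centralizer_iff.mpr fun v hv => mem_centralizer_singleton_iff.mp (hle hv))
    have hy : orderOf (x' ^ p ^ (n - 1)) = p := by
      rw [orderOf_pow_of_dvd (pow_ne_zero _ hp.ne_zero) (hordx ▸ Nat.pow_dvd_pow p (Nat.sub_le n 1)), hordx,
        Nat.pow_div (Nat.sub_le n 1) hp.pos, show n - (n - 1) = 1 by omega, pow_one]
    have hd := Subgroup.orderOf_dvd_natCard Fc hyF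
    rw [hy] at hd
    exact (hp.coprime_iff_not_dvd.mp hFcop.symm) hd
  haveI : Fact q.Prime := ⟨hq⟩
  have hRbot : R ≠ ⊥ := by
    rintro rfl
    refine hnc fun v _ => mem_centralizer_iff.mpr fun w hw => ?_
    rw [SetLike.mem_coe, mem_bot] at hw
    rw [hw, one_mul, mul_one]
  have hqp : q ≠ p := by
    rintro rfl
    refine hRbot ((Subgroup.eq_bot_iff_forall _).mpr fun v hv => ?_)
    obtain ⟨j, hj⟩ := IsPGroup.iff_orderOf.mp hR.2 ⟨v, hv⟩
    rw [Subgroup.orderOf_mk] at hj
    rw [← orderOf_eq_one_iff]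
    exact Nat.eq_one_of_dvd_coprimes (hFcop.symm.pow_left j) (hj ▸ dvd_rfl)
      (Subgroup.orderOf_dvd_natCard Fc (hR.1 hv))
  have hsk : ((q : ℕ) : K) ≠ 0 := fun h => hqp
    ((Nat.prime_dvd_prime_iff_eq hp hq).mp ((CharP.cast_eq_zero_iff K p q).mp h)).symm
  have hexc : (∃ a ∈ R, ∃ c ∈ R, ¬ Commute a c) ∧
      ∃ n₀ m, 0 < n₀ ∧ n₀ ≤ n ∧ 0 < m ∧ p ^ n₀ = q ^ m + 1 ∧ p ^ (n - n₀) * q ^ m ≤ r := by
    by_contra hne
    refine hnc (H71.Exact.hall_higman_B_exact hqp (CharP.cast_eq_zero K p) hsk hinj hn0 R hR.2 x' hxR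
      (hordx ▸ pow_orderOf_eq_one x') hrho hrlt ?_)
    by_cases hab : ∀ a ∈ R, ∀ c ∈ R, Commute a c
    · exact Or.inr hab
    · push Not at hab
      refine Or.inl fun n₀ m h1 h2 h3 h4 => ?_
      by_contra h5
      exact hne ⟨hab, n₀, m, h1, h2, h3, h4, not_lt.mp h5⟩
  obtain ⟨⟨a, ha, c, hc, hac⟩, n₀, m, h1, h2, h3, h4, h5⟩ := hexc
  refine ⟨n₀, q, m, h1, h2, hq, h3, by omega, fun Q hQ => hac ?_, by rw [h4, Nat.add_sub_cancel]; exact h5⟩
  obtain ⟨S, hS⟩ := hR.2.exists_le_sylow
  obtain ⟨g, hg⟩ := MulAction.exists_smul_eq H S Q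
  have hmem : ∀ z ∈ R, g * z * g⁻¹ ∈ (Q : Subgroup H) := fun z hz => by
    rw [← hg]
    exact ⟨z, hS hz, rfl⟩
  have hcomm : MulAut.conj g a * MulAut.conj g c = MulAut.conj g c * MulAut.conj g a :=
    congrArg Subtype.val (hQ.is_comm.comm (⟨_, hmem a ha⟩ : (Q : Subgroup H)) ⟨_, hmem c hc⟩)
  rw [← map_mul, ← map_mul] at hcomm
  exact (MulAut.conj g).injective hcomm

end Cfsg.Agent.S0633
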