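import Cfsg.Statements.S0641

set_option autoImplicit false
open Cfsg

namespace Cfsg.Agent.S0641

/-- Regularity of a p-group passes to quotient groups. -/
theorem result {G : Type*} [Group G] {p : ℕ} [Fact p.Prime] (hG : Cfsg.IsRegularPGroup p G) (N : Subgroup G) [N.Normal] : Cfsg.IsRegularPGroup p (G ⧸ N) := by
  refine ⟨hG.1.to_quotient N, fun a b n => ?_⟩
  obtain ⟨a, rfl⟩ := QuotientGroup.mk'_surjective N a
  obtain ⟨b, rfl⟩ := QuotientGroup.mk'_surjective N b
  obtain ⟨c, hc, he⟩ := hG.2 a b n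
  refine ⟨QuotientGroup.mk' N c, ?_, ?_⟩
  · have h1 := Subgroup.mem_map_of_mem (QuotientGroup.mk' N) hc
    unfold Cfsg.powerClosure at h1 ⊢
    rw [MonoidHom.map_closure] at h1
    refine Subgroup.closure_mono ?_ h1
    rintro _ ⟨_, ⟨x, hx, rfl⟩, rfl⟩
    refine ⟨QuotientGroup.mk' N x, ?_, map_pow _ _ _⟩
    have h2 := Subgroup.mem_map_of_mem (QuotientGroup.mk' N) hx
    rw [Subgroup.map_commutator, MonoidHom.map_closure, Set.image_pair] at h2
    exact h2
  · simp only [← map_mul, ← map_pow, he]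

end Cfsg.Agent.S0641
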