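import Cfsg.Statements.S0642

set_option autoImplicit false
open Cfsg

namespace Cfsg.Agent.S0642

open scoped commutatorElement

/-- Among finite 2-groups the regular ones are exactly the abelian ones. -/
theorem result {G : Type*} [Group G] [Finite G] (hG : IsPGroup 2 G) : Cfsg.IsRegularPGroup 2 G ↔ ∀ a b : G, a * b = b * a := by
  refine ⟨fun h a b => ?_, fun h => ⟨hG, fun a b n => ⟨1, one_mem _, by
    rw [mul_one, Commute.mul_pow (h a b)]⟩⟩⟩
  haveI : Fact (Nat.Prime 2) := ⟨Nat.prime_two⟩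
  set H := Subgroup.closure ({a, b} : Set G) with hH
  set D := ⁅H, H⁆ with hD
  set E := Cfsg.powerClosure 2 1 D with hE
  have haH : a ∈ H := Subgroup.subset_closure (by simp)
  have hbH : b ∈ H := Subgroup.subset_closure (by simp)
  have hDH : D ≤ H := Subgroup.commutator_le.mpr fun x hx y hy =>
    H.mul_mem (H.mul_mem (H.mul_mem hx hy) (H.inv_mem hx)) (H.inv_mem hy)
  have hDn : ∀ g ∈ H, ∀ x ∈ D, g * x * g⁻¹ ∈ D := by
    intro g hg x hx
    have h3 := Subgroup.commutator_mem_commutator hg (hDH hx)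
    rw [commutatorElement_def] at h3
    have h4 := D.mul_mem h3 hx
    simpa [mul_assoc] using h4
  have hEn : ∀ g ∈ H, ∀ x ∈ E, g * x * g⁻¹ ∈ E := by
    intro g hg x hx
    have h1 := Subgroup.mem_map_of_mem (MulAut.conj g).toMonoidHom hx
    rw [hE] at h1 ⊢
    unfold Cfsg.powerClosure at h1 ⊢
    rw [MonoidHom.map_closure] at h1
    refine Subgroup.closure_mono ?_ h1
    rintro _ ⟨_, ⟨y, hy, rfl⟩, rfl⟩
    refine ⟨g * y * g⁻¹, hDn g hg y hy, ?_⟩
    simp [conj_pow]
  obtain ⟨c, hc, he⟩ := h.2 a b 1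
  rw [← hH, ← hD, ← hE] at hc
  simp only [pow_one] at he
  have hcomm : ⁅b, a⁆ ∈ E := by
    have e1 : ⁅b, a⁆ = (a * b ^ 2) * c * (a * b ^ 2)⁻¹ := by
      have h5 : b * a * b = a * (b ^ 2 * c) := by
        apply mul_left_cancel (a := a)
        calc a * (b * a * b) = (a * b) ^ 2 := by simp [pow_two, mul_assoc]
          _ = a ^ 2 * b ^ 2 * c := he
          _ = a * (a * (b ^ 2 * c)) := by simp [pow_two, mul_assoc]
      rw [commutatorElement_def]
      calc b * a * b⁻¹ * a⁻¹ = (b * a * b) * (b ^ 2)⁻¹ * a⁻¹ := by simp [pow_two, mul_assoc]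
        _ = _ := by rw [h5]; simp [mul_assoc]
    rw [e1]
    exact hEn _ (H.mul_mem haH (H.pow_mem hbH 2)) _ hc
  -- hence `D ≤ E`
  have hDE : D ≤ E := by
    haveI : (E.subgroupOf H).Normal := ⟨fun x hx g => by
      rw [Subgroup.mem_subgroupOf] at hx ⊢
      exact hEn g g.2 x hx⟩
    set π := QuotientGroup.mk' (E.subgroupOf H) with hπ
    have hgen : ∀ x : H, Commute (π x) (π ⟨a, haH⟩) ∧ Commute (π x) (π ⟨b, hbH⟩) := by
      have hab : Commute (π ⟨b, hbH⟩) (π ⟨a, haH⟩) := by
        rw [← commutatorElement_eq_one_iff_commute, ← map_commutatorElement, ← MonoidHom.mem_ker,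
          hπ, QuotientGroup.ker_mk', Subgroup.mem_subgroupOf]
        exact hcomm
      rintro ⟨x, hx⟩
      induction hx using Subgroup.closure_induction with
      | mem y hy =>
        rcases hy with rfl | rfl
        · exact ⟨Commute.refl _, hab.symm⟩
        · exact ⟨hab, Commute.refl _⟩
      | one =>
        exact ⟨(map_one π).symm ▸ Commute.one_left _, (map_one π).symm ▸ Commute.one_left _⟩
      | mul y z hy hz ihy ihz =>
        have : π ⟨y * z, H.mul_mem hy hz⟩ = π ⟨y, hy⟩ * π ⟨z, hz⟩ := map_mul π ⟨y, hy⟩ ⟨z, hz⟩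
        rw [this]
        exact ⟨ihy.1.mul_left ihz.1, ihy.2.mul_left ihz.2⟩
      | inv y hy ihy =>
        have : π ⟨y⁻¹, H.inv_mem hy⟩ = (π ⟨y, hy⟩)⁻¹ := map_inv π ⟨y, hy⟩
        rw [this]
        exact ⟨ihy.1.inv_left, ihy.2.inv_left⟩
    refine Subgroup.commutator_le.mpr fun x hx y hy => ?_
    have hxy : ∀ (y : G) (hy : y ∈ H), Commute (π ⟨x, hx⟩) (π ⟨y, hy⟩) := by
      intro y hy
      induction hy using Subgroup.closure_induction with
      | mem y hy =>
        rcases hy with rfl | rfl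
        · exact (hgen _).1
        · exact (hgen _).2
      | one => exact (map_one π).symm ▸ Commute.one_right _
      | mul y z hy hz ihy ihz =>
        have : π ⟨y * z, H.mul_mem hy hz⟩ = π ⟨y, hy⟩ * π ⟨z, hz⟩ := map_mul π ⟨y, hy⟩ ⟨z, hz⟩
        rw [this]
        exact ihy.mul_right ihz
      | inv y hy ihy =>
        have : π ⟨y⁻¹, H.inv_mem hy⟩ = (π ⟨y, hy⟩)⁻¹ := map_inv π ⟨y, hy⟩
        rw [this]
        exact ihy.inv_right
    have h6 := hxy y hy
    rw [← commutatorElement_eq_one_iff_commute, ← map_commutatorElement, ← MonoidHom.mem_ker,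
      hπ, QuotientGroup.ker_mk', Subgroup.mem_subgroupOf] at h6
    exact h6
  -- hence `D = ⊥`, since squares lie in the Frattini subgroup
  have hDbot : D = ⊥ := by
    by_contra hne
    haveI : Nontrivial ↥D := (Subgroup.nontrivial_iff_ne_bot D).mpr hne
    obtain ⟨M, hM, -⟩ := (eq_top_or_exists_le_coatom (⊥ : Subgroup ↥D)).resolve_left bot_ne_top
    have hp2 : IsPGroup 2 ↥D := hG.to_subgroup D
    have hsq : ∀ x : ↥D, x ^ 2 ∈ M := by
      have hidx : M.index = 2 := by
        obtain ⟨i, hi⟩ := IsPGroup.iff_card.mp (hp2.to_subgroup M)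
        obtain ⟨j, hj⟩ := IsPGroup.iff_card.mp hp2
        have hij : i < j := by
          have hlt : Nat.card M < Nat.card ↥D :=
            (M.card_le_card_group).lt_of_ne fun h => hM.1 (Subgroup.card_eq_iff_eq_top M |>.mp h)
          rw [hi, hj] at hlt
          exact (Nat.pow_lt_pow_iff_right (by norm_num)).mp hlt
        obtain ⟨K, hK, hMK⟩ := Sylow.exists_subgroup_card_pow_succ
          (show 2 ^ (i + 1) ∣ Nat.card ↥D from hj ▸ pow_dvd_pow 2 hij) hi
        have hKt : K = ⊤ := hM.2 K (lt_of_le_of_ne hMK fun h => by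
          rw [← h, hi] at hK
          have := Nat.pow_right_injective (le_refl 2) hK
          omega)
        rw [hKt, Subgroup.card_top] at hK
        have := M.card_mul_index
        rw [hi, hK, pow_succ] at this
        exact Nat.eq_of_mul_eq_mul_left (by positivity) this
      intro x
      exact Subgroup.sq_mem_of_index_two hidx x
    apply hM.1
    rw [eq_top_iff]
    intro x _
    have hx : (x : G) ∈ E := hDE x.2
    have hEM : E ≤ M.map D.subtype := by
      rw [hE]
      refine (Subgroup.closure_le _).mpr ?_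
      rintro _ ⟨y, hy, rfl⟩
      refine ⟨⟨y, hy⟩ ^ 2, hsq _, ?_⟩
      simp
    obtain ⟨y, hy, hyx⟩ := hEM hx
    have : y = x := Subtype.ext hyx
    exact this ▸ hy
  have h7 : ⁅a, b⁆ ∈ D := Subgroup.commutator_mem_commutator haH hbH
  rw [hDbot] at h7
  rw [Subgroup.mem_bot, commutatorElement_eq_one_iff_commute] at h7
  exact h7.eq

end Cfsg.Agent.S0642
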