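import Cfsg.Statements.S0645
import Cfsg.Agent.PGroups.CyclicMaximal
-- import your own Cfsg.Agent.* helpers here

set_option autoImplicit false
open Cfsg

namespace Cfsg.Agent.S0645

open Subgroup
open scoped commutatorElement

theorem commutatorElement_pow_left_of_mem_center' {G : Type*} [Group G] {a b : G} (h : ⁅a, b⁆ ∈ center G)
    {n : ℕ} : ⁅a ^ n, b⁆ = ⁅a, b⁆ ^ n :=
  PGroups.commutatorElement_pow_left_of_mem_center h n

/-- Classification of p-groups with a cyclic maximal subgroup, odd p: a non-abelian one of order p^n has generators a of order p^(n-1) and b of order p, b outside the cyclic subgroup generated by a, with b a b⁻¹ = a^(1 + p^(n-2)). -/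
theorem result {G : Type*} [Group G] [Finite G] {p : ℕ} [Fact p.Prime] (hp : p ≠ 2) (n : ℕ) (hn : 3 ≤ n) (hG : Nat.card G = p ^ n) (C : Subgroup G) (hC : IsCyclic C) (hCi : C.index = p) (hna : ∃ x y : G, x * y ≠ y * x) : ∃ a b : G, orderOf a = p ^ (n - 1) ∧ orderOf b = p ∧ b ∉ Subgroup.zpowers a ∧ b * a * b⁻¹ = a ^ (1 + p ^ (n - 2)) := by
  have hGp := IsPGroup.of_card hG
  obtain ⟨a, ha⟩ := C.isCyclic_iff_exists_zpowers_eq_top.mp hC
  haveI := PGroups.normal_of_index_eq hGp hCi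
  have hak : orderOf a = p ^ (n - 1) := by
    have h1 := C.card_mul_index
    rw [hCi, ← ha, Nat.card_zpowers, hG] at h1
    nth_rw 1 [show n = n - 1 + 1 by omega] at h1
    rw [pow_succ] at h1
    exact Nat.eq_of_mul_eq_mul_right (Fact.out : p.Prime).pos h1
  have hnc : ¬ IsCyclic G := fun h => by
    haveI := h
    obtain ⟨x, y, hxy⟩ := hna
    haveI : IsMulCommutative G := inferInstance
    exact hxy (this.is_comm.comm x y)
  obtain ⟨-, hcard, hexp⟩ := PGroups.omega_of_cyclic_max hGp hp hnc hC hCi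
  set W := Subgroup.closure {x : G | x ^ p = 1} with hW
  obtain ⟨b, hbW, hbC⟩ : ∃ b ∈ W, b ∉ C := by
    by_contra hall
    push Not at hall
    have hWC : W ≤ C := hall
    haveI : IsCyclic W := Subgroup.isCyclic_of_le hWC
    obtain ⟨g, hg⟩ := IsCyclic.exists_ofOrder_eq_natCard (α := W)
    have h1 : orderOf g ∣ p := orderOf_dvd_of_pow_eq_one (Subtype.ext (hexp g g.2))
    rw [hg, hcard] at h1
    have h2 := Nat.le_of_dvd (Fact.out : p.Prime).pos h1
    nlinarith [(Fact.out : p.Prime).two_le]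
  have hbp := hexp b hbW
  have hbo : orderOf b = p := orderOf_eq_prime hbp fun h => hbC (h ▸ one_mem _)
  obtain ⟨r, hr⟩ := PGroups.exists_conj_eq_zpow (c := a) (by rw [ha]; infer_instance) b
  have hrp := PGroups.conj_pow_of_conj_eq_zpow hr p
  rw [hbp, one_mul, inv_one, mul_one] at hrp
  have hrp1 : a ^ (1 : ℤ) = a ^ (r ^ p) := by rw [zpow_one]; exact hrp
  rw [PGroups.zpow_eq_zpow_iff_dvd hak] at hrp1
  obtain ⟨-, hd⟩ := PGroups.pow_dvd_sub_one (Fact.out : p.Prime) hp (by omega : 1 ≤ n - 1) hrp1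
  rw [show n - 1 - 1 = n - 2 by omega] at hd
  obtain ⟨u, hu⟩ := hd
  have hpu : ¬ (p : ℤ) ∣ u := by
    rintro ⟨t, rfl⟩
    have hcomm : b * a * b⁻¹ = a := by
      rw [hr]
      refine Eq.trans ?_ (zpow_one a)
      rw [PGroups.zpow_eq_zpow_iff_dvd hak]
      refine ⟨-t, ?_⟩
      push_cast
      rw [show n - 1 = n - 2 + 1 by omega, pow_succ]
      push_cast at hu
      linear_combination -hu
    have hgen := PGroups.sup_zpowers_eq_top hGp hCi hbC
    rw [← ha] at hgen
    have hab := PGroups.isMulCommutative_sup_zpowers (inferInstance : IsMulCommutative (zpowers a)) (x := b) (by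
      refine Subgroup.mem_centralizer_iff.mpr ?_
      rintro _ ⟨i, rfl⟩
      exact ((show Commute a b from (mul_inv_eq_iff_eq_mul.mp hcomm).symm).zpow_left i).eq)
    rw [hgen] at hab
    obtain ⟨x, y, hxy⟩ := hna
    exact hxy (PGroups.comm_of_isMulCommutative hab (mem_top x) (mem_top y))
  obtain ⟨s, v, hsv⟩ := ((Nat.prime_iff_prime_int.mp (Fact.out : p.Prime)).coprime_iff_not_dvd.mpr hpu)
  have hcen := (PGroups.commutator_le_center_of_cyclic_max hGp hp hC hCi).1
  have hd1 : ⁅b, a⁆ ∈ center G := hcen (commutator_mem_commutator (mem_top b) (mem_top a))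
  obtain ⟨w, hw, hwp⟩ : ∃ w : ℕ, (p : ℤ) ∣ (w : ℤ) * u - 1 ∧ ¬ p ∣ w := by
    refine ⟨(v % p).toNat, ?_, ?_⟩
    · rw [Int.toNat_of_nonneg (Int.emod_nonneg _ (by exact_mod_cast (Fact.out : p.Prime).ne_zero)),
        Int.emod_def]
      exact ⟨-s - v / p * u, by linear_combination hsv⟩
    · intro hd
      have hd' : (p : ℤ) ∣ ((v % p).toNat : ℤ) := Int.natCast_dvd_natCast.mpr hd
      rw [Int.toNat_of_nonneg (Int.emod_nonneg _ (by exact_mod_cast (Fact.out : p.Prime).ne_zero)),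
        Int.emod_def] at hd'
      have hv : (p : ℤ) ∣ v := by simpa using dvd_add hd' (dvd_mul_right (p : ℤ) (v / p))
      have h1 : (p : ℤ) ∣ 1 := hsv ▸ dvd_add (dvd_mul_left _ s) (dvd_mul_of_dvd_left hv u)
      exact (Fact.out : p.Prime).one_lt.ne' (Nat.dvd_one.mp (Int.natCast_dvd_natCast.mp (by simpa using h1)))
  refine ⟨a, b ^ w, hak, ?_, ?_, ?_⟩
  · rw [Nat.Coprime.orderOf_pow (by
      rw [hbo]; exact ((Fact.out : p.Prime).coprime_iff_not_dvd.mpr hwp)), hbo]
  · intro hbw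
    apply hbC
    rw [← ha]
    have hcop : Nat.Coprime (orderOf b) w := by
      rw [hbo]; exact ((Fact.out : p.Prime).coprime_iff_not_dvd.mpr hwp)
    obtain ⟨m, hm⟩ := exists_pow_eq_self_of_coprime hcop.symm
    rw [← hm]; exact pow_mem hbw m
  · have he : b ^ w * a * (b ^ w)⁻¹ = ⁅b, a⁆ ^ w * a := by
      rw [← commutatorElement_pow_left_of_mem_center' hd1, commutatorElement_def]; group
    rw [he, show ⁅b, a⁆ = a ^ (r - 1) by rw [commutatorElement_def, hr, zpow_sub_one],
      ← zpow_natCast (a ^ (r - 1)) w, ← zpow_mul, ← zpow_add_one, ← zpow_natCast,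
      PGroups.zpow_eq_zpow_iff_dvd hak]
    obtain ⟨t, ht⟩ := hw
    refine ⟨-t, ?_⟩
    push_cast
    rw [show n - 1 = n - 2 + 1 by omega, pow_succ]
    push_cast at hu
    linear_combination (-(w : ℤ)) * hu - (p : ℤ) ^ (n - 2) * ht

end Cfsg.Agent.S0645
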