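import Cfsg.Statements.S0646
import Cfsg.Agent.PGroups.TwoGroups
-- import your own Cfsg.Agent.* helpers here

set_option autoImplicit false
open Cfsg

namespace Cfsg.Agent.S0646

open Subgroup

/-- Classification of non-abelian 2-groups with a cyclic maximal subgroup: dihedral, generalized quaternion, and for order at least 16 the modular group and the semidihedral group, each given by generators a (of index 2) and b with the stated relations. -/
theorem result {G : Type*} [Group G] [Finite G] (n : ℕ) (hn : 3 ≤ n) (hG : Nat.card G = 2 ^ n) (C : Subgroup G) (hC : IsCyclic C) (hCi : C.index = 2) (hna : ∃ x y : G, x * y ≠ y * x) : ∃ a b : G, orderOf a = 2 ^ (n - 1) ∧ b ∉ Subgroup.zpowers a ∧ ((b ^ 2 = 1 ∧ b * a * b⁻¹ = a⁻¹) ∨ (b ^ 2 = a ^ (2 ^ (n - 2)) ∧ b * a * b⁻¹ = a⁻¹) ∨ (4 ≤ n ∧ b ^ 2 = 1 ∧ b * a * b⁻¹ = a ^ (1 + 2 ^ (n - 2))) ∨ (4 ≤ n ∧ b ^ 2 = 1 ∧ b * a * b⁻¹ = a ^ (2 ^ (n - 2) - 1))) := by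
  haveI : Fact (Nat.Prime 2) := ⟨Nat.prime_two⟩
  have hGp := IsPGroup.of_card hG
  obtain ⟨a, ha⟩ := C.isCyclic_iff_exists_zpowers_eq_top.mp hC
  haveI := PGroups.normal_of_index_eq hGp hCi
  have hak : orderOf a = 2 ^ (n - 1) := by
    have h1 := C.card_mul_index
    rw [hCi, ← ha, Nat.card_zpowers, hG] at h1
    nth_rw 1 [show n = n - 1 + 1 by omega] at h1
    rw [pow_succ] at h1
    exact Nat.eq_of_mul_eq_mul_right two_pos h1
  obtain ⟨x, hx⟩ : ∃ x, x ∉ C := by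
    by_contra hall
    push Not at hall
    rw [(eq_top_iff.mpr fun y _ => hall y : C = ⊤), Subgroup.index_top] at hCi
    omega
  have hgen := PGroups.sup_zpowers_eq_top hGp hCi hx
  have hne : x * a * x⁻¹ ≠ a := fun h => by
    have hab := PGroups.isMulCommutative_sup_zpowers (inferInstance : IsMulCommutative (zpowers a)) (x := x) (by
      refine Subgroup.mem_centralizer_iff.mpr ?_
      rintro _ ⟨i, rfl⟩
      exact ((show Commute a x from (mul_inv_eq_iff_eq_mul.mp h).symm).zpow_left i).eq)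
    rw [ha, hgen] at hab
    obtain ⟨u, v, huv⟩ := hna
    exact huv (PGroups.comm_of_isMulCommutative hab (mem_top u) (mem_top v))
  obtain ⟨r, hr⟩ := PGroups.exists_conj_eq_zpow (c := a) (by rw [ha]; infer_instance) x
  have hx2 : x ^ 2 ∈ zpowers a := by rw [ha]; exact hCi ▸ C.pow_index_mem x
  have hy : ∀ i : ℤ, x * a ^ i ∉ zpowers a := fun i h => hx (by
    rw [← ha]; exact (mul_mem_cancel_right (zpow_mem_zpowers a i)).mp h)
  have hyc : ∀ i : ℤ, x * a ^ i * a * (x * a ^ i)⁻¹ = x * a * x⁻¹ := fun i => by group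
  have hk' : ((2 ^ (n - 1) : ℕ) : ℤ) = (2 : ℤ) ^ (n - 1) := by push_cast; rfl
  obtain ⟨-, hcases⟩ := PGroups.standard_generator hak hx2 hr hne
  rw [show n - 1 - 1 = n - 2 by omega] at hcases
  rcases hcases with ⟨h1, i, h2 | h2⟩ | ⟨h3, h1, i, h2⟩ | ⟨h3, h1, i, h2⟩
  · exact ⟨a, x * a ^ i, hak, hy i, Or.inl ⟨h2, (hyc i).trans h1⟩⟩
  · exact ⟨a, x * a ^ i, hak, hy i, Or.inr (Or.inl ⟨h2, (hyc i).trans h1⟩)⟩
  · refine ⟨a, x * a ^ i, hak, hy i, Or.inr (Or.inr (Or.inr ⟨by omega, h2, ?_⟩))⟩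
    rw [hyc i, hr, ← zpow_natCast, PGroups.zpow_eq_zpow_iff_dvd hak, hk', Nat.cast_sub Nat.one_le_two_pow]
    push_cast
    rw [show (2 : ℤ) ^ (n - 2) - 1 - r = -(r + 1 - 2 ^ (n - 2)) by ring, dvd_neg]
    exact h1
  · refine ⟨a, x * a ^ i, hak, hy i, Or.inr (Or.inr (Or.inl ⟨by omega, h2, ?_⟩))⟩
    rw [hyc i, hr, ← zpow_natCast, PGroups.zpow_eq_zpow_iff_dvd hak, hk']
    push_cast
    rw [show 1 + (2 : ℤ) ^ (n - 2) - r = -(r - 1 - 2 ^ (n - 2)) by ring, dvd_neg]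
    exact h1

end Cfsg.Agent.S0646
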