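import Cfsg.Statements.S0647

set_option autoImplicit false
open Cfsg

namespace Cfsg.Agent.S0647

/-- For a nonempty family of maximal abelian subgroups of a finite group, the intersection of the family is the centre of the subgroup it generates, which is also the full centralizer of that subgroup. -/
theorem result {S : Type*} [Group S] [Finite S] (𝒜 : Set (Subgroup S)) (hne : 𝒜.Nonempty) (hab : ∀ A ∈ 𝒜, IsMulCommutative A) (hmax : ∀ A ∈ 𝒜, ∀ B : Subgroup S, IsMulCommutative B → A ≤ B → B = A) : sInf 𝒜 = sSup 𝒜 ⊓ Subgroup.centralizer ((sSup 𝒜 : Subgroup S) : Set S) ∧ sInf 𝒜 = Subgroup.centralizer ((sSup 𝒜 : Subgroup S) : Set S) := by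
  classical
  have hC : ∀ A ∈ 𝒜, Subgroup.centralizer (A : Set S) = A := by
    intro A hA
    refine le_antisymm ?_ (Subgroup.le_centralizer_iff_isMulCommutative.mpr (hab A hA))
    intro x hx
    have hcomm : IsMulCommutative (Subgroup.closure (insert x (A : Set S))) := by
      apply Subgroup.isMulCommutative_closure
      intro a ha b hb
      rcases ha with rfl | ha <;> rcases hb with rfl | hb
      · rfl
      · exact (Subgroup.mem_centralizer_iff.mp hx b hb).symm
      · exact Subgroup.mem_centralizer_iff.mp hx a ha
      · exact Subgroup.mem_centralizer_iff.mp (Subgroup.le_centralizer_iff_isMulCommutative.mpr (hab A hA) hb) a ha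
    have h1 : A ≤ Subgroup.closure (insert x (A : Set S)) :=
      fun a ha => Subgroup.subset_closure (Set.mem_insert_of_mem x ha)
    rw [← hmax A hA _ hcomm h1]
    exact Subgroup.subset_closure (Set.mem_insert x _)
  have key : Subgroup.centralizer ((sSup 𝒜 : Subgroup S) : Set S) = sInf 𝒜 := by
    apply le_antisymm
    · refine le_sInf fun A hA => ?_
      conv_rhs => rw [← hC A hA]
      exact Subgroup.centralizer_le (fun a ha => (le_sSup hA : A ≤ sSup 𝒜) ha)
    · rw [Subgroup.le_centralizer_iff]
      refine sSup_le fun A hA => ?_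
      rw [Subgroup.le_centralizer_iff, hC A hA]
      exact sInf_le hA
  obtain ⟨A, hA⟩ := hne
  refine ⟨?_, key.symm⟩
  rw [key]
  exact (inf_eq_right.mpr ((sInf_le hA).trans (le_sSup hA))).symm

end Cfsg.Agent.S0647
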