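import Cfsg.Statements.S0648
import Mathlib

set_option autoImplicit false
open Cfsg

namespace Cfsg.Agent.S0648

open scoped commutatorElement

set_option maxHeartbeats 1000000

private theorem comm_mul_left {G : Type*} [Group G] (u v s : G) :
    ⁅u * v, s⁆ = u * ⁅v, s⁆ * u⁻¹ * ⁅u, s⁆ := by
  simp [commutatorElement_def, mul_assoc]

private theorem comm_mul_right {G : Type*} [Group G] (u s t : G) :
    ⁅u, s * t⁆ = ⁅u, s⁆ * (s * ⁅u, t⁆ * s⁻¹) := by
  simp [commutatorElement_def, mul_assoc]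

private theorem comm_key {M : Type*} [CommGroup M] (p1 p2 q1 q2 t : M)
    (h : p1 * p2 * t⁻¹ * (q1 * t * (t * q2)) * ((p1 * q1)⁻¹ * (p2 * q2)⁻¹) = 1) : t = 1 := by
  rw [← h]
  apply Additive.ofMul.injective
  simp only [ofMul_mul, ofMul_inv]
  abel

/-- If A acts on B centralizing [B, B], then [B, A] has derived subgroup central in B, and for abelian A and b ∈ B with [[b, A], A, A] = 1 the derived subgroup of the subgroup [b, A] generated by the commutators of b with A has exponent dividing 2. -/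
theorem result {G : Type*} [Group G] [Finite G] (A B : Subgroup G) (hAB : A ≤ Subgroup.normalizer (B : Set G)) (hc : ⁅⁅B, B⁆, A⁆ = ⊥) : ⁅⁅B, A⁆, ⁅B, A⁆⁆ ≤ B ⊓ Subgroup.centralizer (B : Set G) ∧ (IsMulCommutative A → ∀ b ∈ B, ⁅⁅(Subgroup.closure {g : G | ∃ a ∈ A, g = b⁻¹ * a * b * a⁻¹}), A⁆, A⁆ = ⊥ → ∀ w ∈ ⁅(Subgroup.closure {g : G | ∃ a ∈ A, g = b⁻¹ * a * b * a⁻¹}), (Subgroup.closure {g : G | ∃ a ∈ A, g = b⁻¹ * a * b * a⁻¹})⁆, w ^ 2 = 1) := by
  set B' := ⁅B, B⁆ with hB'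
  set X := ⁅B, A⁆ with hX
  have hXB : X ≤ B := Subgroup.commutator_le.mpr fun x hx a ha => by
    rw [commutatorElement_def]
    have h : a * x⁻¹ * a⁻¹ ∈ B :=
      (Subgroup.mem_normalizer_iff.mp (hAB ha) _).mp (B.inv_mem hx)
    have := B.mul_mem hx h
    simpa [mul_assoc] using this
  have hXB' : ⁅B', X⁆ = ⊥ := by
    have h1 : ⁅⁅A, B'⁆, B⁆ = ⊥ := by
      rw [Subgroup.commutator_comm A B', hc, Subgroup.commutator_bot_left]
    have hB'B : B' ≤ B := Subgroup.commutator_le_self B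
    have h2 : ⁅⁅B', B⁆, A⁆ = ⊥ :=
      eq_bot_iff.mpr ((Subgroup.commutator_mono (Subgroup.commutator_mono hB'B le_rfl) le_rfl).trans_eq hc)
    rw [Subgroup.commutator_comm, hX]
    exact Subgroup.commutator_commutator_eq_bot_of_rotate h1 h2
  have hX'B : ⁅⁅X, X⁆, B⁆ = ⊥ := by
    have h1 : ⁅⁅X, B⁆, X⁆ = ⊥ :=
      eq_bot_iff.mpr ((Subgroup.commutator_mono (Subgroup.commutator_mono hXB le_rfl) le_rfl).trans_eq hXB')
    exact Subgroup.commutator_commutator_eq_bot_of_rotate h1 (by rwa [Subgroup.commutator_comm B X])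
  refine ⟨le_inf ?_ (Subgroup.commutator_eq_bot_iff_le_centralizer.mp hX'B), ?_⟩
  · exact ((Subgroup.commutator_mono hXB hXB).trans (Subgroup.commutator_le_self B))
  intro hA b hb hCAA w hw
  have hAc : ∀ x ∈ A, ∀ y ∈ A, x * y = y * x := fun x hx y hy =>
    congrArg Subtype.val (hA.is_comm.comm (⟨x, hx⟩ : A) ⟨y, hy⟩)
  set C := Subgroup.closure {g : G | ∃ a ∈ A, g = b⁻¹ * a * b * a⁻¹} with hC
  let c : G → G := fun a => b⁻¹ * a * b * a⁻¹
  have hcC : ∀ a ∈ A, c a ∈ C := fun a ha => Subgroup.subset_closure ⟨a, ha, rfl⟩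
  have hcX : ∀ a ∈ A, c a ∈ X := fun a ha => by
    have h := Subgroup.commutator_mem_commutator (B.inv_mem hb) ha
    rw [commutatorElement_def, inv_inv] at h
    exact h
  have hCX : C ≤ X := (Subgroup.closure_le _).mpr (by rintro _ ⟨a, ha, rfl⟩; exact hcX a ha)
  -- `A` centralises `B'`, `X` centralises `B'`, `X'` is central in `B`
  have hAB' : ∀ a ∈ A, ∀ u ∈ B', a * u = u * a := fun a ha u hu =>
    (Subgroup.mem_centralizer_iff.mp (Subgroup.commutator_eq_bot_iff_le_centralizer.mp hc hu) a ha)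
  have hXc : ∀ x ∈ X, ∀ u ∈ B', x * u = u * x := fun x hx u hu =>
    (Subgroup.mem_centralizer_iff.mp (Subgroup.commutator_eq_bot_iff_le_centralizer.mp hXB' hu) x hx)
  have hBz : ∀ v ∈ B, ∀ z ∈ ⁅X, X⁆, v * z = z * v := fun v hv z hz =>
    (Subgroup.mem_centralizer_iff.mp (Subgroup.commutator_eq_bot_iff_le_centralizer.mp hX'B hz) v hv)
  have conjB' : ∀ x ∈ X, ∀ u ∈ B', x * u * x⁻¹ = u := fun x hx u hu => by
    rw [hXc x hx u hu, mul_inv_cancel_right]
  have memB' : ∀ x ∈ B, ∀ y ∈ B, ⁅x, y⁆ ∈ B' := fun x hx y hy =>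
    Subgroup.commutator_mem_commutator hx hy
  let d : G → G → G := fun a y => (c y)⁻¹ * (a * c y * a⁻¹)
  have hdCA : ∀ a ∈ A, ∀ y ∈ A, d a y ∈ ⁅C, A⁆ := fun a ha y hy => by
    have h := Subgroup.commutator_mem_commutator (C.inv_mem (hcC y hy)) ha
    rw [commutatorElement_def, inv_inv] at h
    simpa [d, mul_assoc] using h
  have hdX : ∀ a ∈ A, ∀ y ∈ A, d a y ∈ X := fun a ha y hy => by
    have h : ⁅C, A⁆ ≤ X :=
      Subgroup.commutator_mono (hCX.trans hXB) le_rfl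
    exact h (hdCA a ha y hy)
  have hdA : ∀ a ∈ A, ∀ y ∈ A, ∀ e ∈ A, e * d a y * e⁻¹ = d a y := fun a ha y hy e he => by
    rw [(Subgroup.mem_centralizer_iff.mp
      (Subgroup.commutator_eq_bot_iff_le_centralizer.mp hCAA (hdCA a ha y hy)) e he), mul_inv_cancel_right]
  -- conjugation fixes commutators
  have hfix : ∀ a ∈ A, ∀ x ∈ B, ∀ y ∈ B, ⁅a * x * a⁻¹, a * y * a⁻¹⁆ = ⁅x, y⁆ := by
    intro a ha x hx y hy
    have h1 : a * ⁅x, y⁆ * a⁻¹ = ⁅x, y⁆ := by
      rw [hAB' a ha _ (memB' x hx y hy), mul_inv_cancel_right]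
    have h2 : a * ⁅x, y⁆ * a⁻¹ = ⁅a * x * a⁻¹, a * y * a⁻¹⁆ := by
      simp [commutatorElement_def, mul_assoc]
    rw [← h2, h1]
  -- bilinearity on `X`
  have mul_l : ∀ u ∈ X, ∀ v ∈ X, ∀ s ∈ X, ⁅u * v, s⁆ = ⁅u, s⁆ * ⁅v, s⁆ := by
    intro u hu v hv s hs
    have hvs := memB' v (hXB hv) s (hXB hs)
    rw [comm_mul_left, conjB' u hu _ hvs,
      hBz _ (hXB (Subgroup.commutator_le_self X (Subgroup.commutator_mem_commutator hv hs))) _
        (Subgroup.commutator_mem_commutator hu hs)]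
  have mul_r : ∀ u ∈ X, ∀ v ∈ X, ∀ s ∈ X, ⁅u, v * s⁆ = ⁅u, v⁆ * ⁅u, s⁆ := by
    intro u hu v hv s hs
    rw [comm_mul_right, conjB' v hv _ (memB' u (hXB hu) s (hXB hs))]
  have hdd : ∀ a ∈ A, ∀ x ∈ A, ∀ e ∈ A, ∀ y ∈ A, ⁅d a x, d e y⁆ = 1 := by
    intro a ha x hx e he y hy
    have h := hfix e he _ (hXB (hdX a ha x hx)) _ (hXB (hcX y hy))
    rw [hdA a ha x hx e he, show e * c y * e⁻¹ = c y * d e y by simp [d],
      mul_r _ (hdX a ha x hx) _ (hcX y hy) _ (hdX e he y hy)] at h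
    exact mul_eq_left.mp h
  have hswap0 : ∀ a ∈ A, ∀ x ∈ A, ∀ y ∈ A, ⁅c x, d a y⁆ = ⁅c y, d a x⁆ := by
    intro a ha x hx y hy
    have h := hfix a ha _ (hXB (hcX x hx)) _ (hXB (hcX y hy))
    have hx1 := hcX x hx
    have hy1 := hcX y hy
    have hx2 := hdX a ha x hx
    have hy2 := hdX a ha y hy
    rw [show a * c x * a⁻¹ = c x * d a x by simp [d], show a * c y * a⁻¹ = c y * d a y by simp [d],
      mul_l _ hx1 _ hx2 _ (X.mul_mem hy1 hy2), mul_r _ hx1 _ hy1 _ hy2, mul_r _ hx2 _ hy1 _ hy2,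
      hdd a ha x hx a ha y hy, mul_one, mul_assoc] at h
    have h' := mul_eq_left.mp h
    rw [eq_inv_of_mul_eq_one_left h', commutatorElement_inv]
  have hcmul : ∀ a ∈ A, ∀ e ∈ A, c (a * e) = c a * c e * d a e := by
    intro a ha e he
    simp only [c, d, mul_assoc, mul_inv_rev, inv_inv, inv_mul_cancel_left, mul_inv_cancel_left]
  have hz : ∀ a ∈ A, ∀ e ∈ A, ⁅c a, c e⁆ ∈ ⁅X, X⁆ := fun a ha e he =>
    Subgroup.commutator_mem_commutator (hcX a ha) (hcX e he)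
  have hdeq : ∀ a ∈ A, ∀ e ∈ A, d e a = ⁅c a, c e⁆ * d a e := by
    intro a ha e he
    have h := hcmul e he a ha
    rw [← hAc a ha e he, hcmul a ha e he] at h
    have h1 : c a * c e = c e * c a * ⁅c a, c e⁆ := by
      rw [hBz _ (B.mul_mem (hXB (hcX e he)) (hXB (hcX a ha))) _ (hz a ha e he)]
      simp [commutatorElement_def, mul_assoc]
    rw [h1, mul_assoc] at h
    exact (mul_left_cancel h).symm
  have hswap1 : ∀ x ∈ A, ∀ a ∈ A, ∀ e ∈ A, ⁅c x, d e a⁆ = ⁅c x, d a e⁆ := by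
    intro x hx a ha e he
    have hzX : ⁅c a, c e⁆ ∈ X := Subgroup.commutator_le_self X (hz a ha e he)
    rw [hdeq a ha e he, mul_r _ (hcX x hx) _ hzX _ (hdX a ha e he),
      commutatorElement_eq_one_iff_mul_comm.mpr (hBz _ (hXB (hcX x hx)) _ (hz a ha e he)), one_mul]
  -- the relation coming from the action on `b`
  have hrel : ∀ a ∈ A, ∀ y ∈ A, ⁅c a, c y⁆ * ⁅c a, d a y⁆ * ⁅b, d a y⁆ = 1 := by
    intro a ha y hy
    have h := hfix a ha b hb _ (hXB (hcX y hy))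
    have hy1 := hcX y hy
    have hy2 := hdX a ha y hy
    have hzz : ⁅c a, c y * d a y⁆ ∈ ⁅X, X⁆ :=
      Subgroup.commutator_mem_commutator (hcX a ha) (X.mul_mem hy1 hy2)
    rw [show a * b * a⁻¹ = b * c a by simp [c, mul_assoc], show a * c y * a⁻¹ = c y * d a y by simp [d],
      comm_mul_left, hBz b hb _ hzz, mul_inv_cancel_right, comm_mul_right b,
      conjB' _ hy1 _ (memB' b hb _ (hXB hy2)), mul_r _ (hcX a ha) _ hy1 _ hy2] at h
    -- move the central factor to the right of `⁅b, c y⁆`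
    have hzc : ⁅c a, c y⁆ * ⁅c a, d a y⁆ ∈ ⁅X, X⁆ :=
      mul_mem (hz a ha y hy) (Subgroup.commutator_mem_commutator (hcX a ha) hy2)
    rw [← mul_assoc, ← hBz _ (Subgroup.commutator_le_self B (memB' b hb _ (hXB hy1))) _ hzc,
      mul_assoc] at h
    exact mul_eq_left.mp h
  have hlin : ∀ a ∈ A, ∀ e ∈ A, ∀ y ∈ A, d (a * e) y = d a y * d e y := by
    intro a ha e he y hy
    have h1 : a * (c y * d e y) * a⁻¹ = c y * (d a y * d e y) := by
      calc a * (c y * d e y) * a⁻¹ = (a * c y * a⁻¹) * (a * d e y * a⁻¹) := by simp [mul_assoc]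
        _ = _ := by rw [hdA e he y hy a ha]; simp [d, mul_assoc]
    show (c y)⁻¹ * (a * e * c y * (a * e)⁻¹) = _
    have h2 : a * e * c y * (a * e)⁻¹ = a * (c y * d e y) * a⁻¹ := by simp [d, mul_assoc]
    rw [h2, h1, inv_mul_cancel_left]
  -- elements of `⁅X, X⁆` commute with everything in `B`
  have hT : ∀ a ∈ A, ∀ e ∈ A, ∀ y ∈ A, ⁅c a, d e y⁆ = 1 := by
    intro a ha e he y hy
    have hae := A.mul_mem ha he
    have r1 := hrel a ha y hy
    have r2 := hrel e he y hy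
    have r3 := hrel (a * e) hae y hy
    have ca := hcX a ha
    have ce := hcX e he
    have cy := hcX y hy
    have day := hdX a ha y hy
    have dey := hdX e he y hy
    have dae := hdX a ha e he
    have hb_hom : ⁅b, d (a * e) y⁆ = ⁅b, d a y⁆ * ⁅b, d e y⁆ := by
      rw [hlin a ha e he y hy, comm_mul_right, conjB' _ day _ (memB' b hb _ (hXB dey))]
    have hz3 : ⁅c (a * e), c y⁆ = ⁅c a, c y⁆ * ⁅c e, c y⁆ * ⁅c a, d e y⁆⁻¹ := by
      rw [hcmul a ha e he, mul_l _ (X.mul_mem ca ce) _ dae _ cy, mul_l _ ca _ ce _ cy,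
        ← commutatorElement_inv (c y) (d a e), hswap0 a ha y hy e he, hswap1 e he y hy a ha,
        hswap0 y hy e he a ha, hswap1 a ha e he y hy]
    have hT3 : ⁅c (a * e), d (a * e) y⁆ =
        ⁅c a, d a y⁆ * ⁅c a, d e y⁆ * (⁅c a, d e y⁆ * ⁅c e, d e y⁆) := by
      rw [hcmul a ha e he, hlin a ha e he y hy, mul_l _ (X.mul_mem ca ce) _ dae _ (X.mul_mem day dey),
        mul_l _ ca _ ce _ (X.mul_mem day dey), mul_r _ ca _ day _ dey, mul_r _ ce _ day _ dey,
        mul_r _ dae _ day _ dey, hdd a ha e he a ha y hy, hdd a ha e he e he y hy, mul_one, mul_one,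
        hswap1 e he y hy a ha, hswap0 y hy e he a ha, hswap1 a ha e he y hy]
    have zc : ∀ z ∈ ⁅X, X⁆, ∀ v ∈ B, Commute z v := fun z hz v hv => (hBz v hv z hz).symm
    have X'B : ∀ {z}, z ∈ ⁅X, X⁆ → z ∈ B := fun hz => hXB (Subgroup.commutator_le_self X hz)
    rw [hz3, hT3, hb_hom] at r3
    set p1 := ⁅c a, c y⁆ with hp1
    set p2 := ⁅c e, c y⁆ with hp2
    set q1 := ⁅c a, d a y⁆ with hq1
    set q2 := ⁅c e, d e y⁆ with hq2
    set t := ⁅c a, d e y⁆ with ht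
    set s1 := ⁅b, d a y⁆
    set s2 := ⁅b, d e y⁆
    have mp1 : p1 ∈ ⁅X, X⁆ := Subgroup.commutator_mem_commutator ca cy
    have mp2 : p2 ∈ ⁅X, X⁆ := Subgroup.commutator_mem_commutator ce cy
    have mq1 : q1 ∈ ⁅X, X⁆ := Subgroup.commutator_mem_commutator ca day
    have mq2 : q2 ∈ ⁅X, X⁆ := Subgroup.commutator_mem_commutator ce dey
    have mt : t ∈ ⁅X, X⁆ := Subgroup.commutator_mem_commutator ca dey
    have e1 : s1 = (p1 * q1)⁻¹ := eq_inv_of_mul_eq_one_right r1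
    have e2 : s2 = (p2 * q2)⁻¹ := eq_inv_of_mul_eq_one_right r2
    rw [e1, e2] at r3
    haveI : IsMulCommutative (⁅X, X⁆ : Subgroup G) :=
      ⟨⟨fun u v => Subtype.ext (zc u u.2 v (X'B v.2))⟩⟩
    open scoped IsMulCommutative in
    have key : (⟨t, mt⟩ : (⁅X, X⁆ : Subgroup G)) = 1 :=
      comm_key ⟨p1, mp1⟩ ⟨p2, mp2⟩ ⟨q1, mq1⟩ ⟨q2, mq2⟩ ⟨t, mt⟩ (Subtype.ext r3)
    exact congrArg Subtype.val key
  have hsq : ∀ a ∈ A, ∀ e ∈ A, ⁅c a, c e⁆ ^ 2 = 1 := by
    intro a ha e he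
    have r1 := hrel a ha e he
    have r2 := hrel e he a ha
    rw [hT a ha a ha e he, mul_one] at r1
    rw [hT e he e he a ha, mul_one, hdeq a ha e he, ← commutatorElement_inv] at r2
    have hzX : ⁅c a, c e⁆ ∈ X := Subgroup.commutator_le_self X (hz a ha e he)
    rw [comm_mul_right b, commutatorElement_eq_one_iff_mul_comm.mpr (hBz b hb _ (hz a ha e he)),
      one_mul, conjB' _ hzX _ (memB' b hb _ (hXB (hdX a ha e he)))] at r2
    rw [eq_inv_of_mul_eq_one_right r1] at r2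
    rw [pow_two]
    rw [← mul_inv_rev, inv_eq_one] at r2
    exact r2
  let Z : Subgroup G :=
    { carrier := {z | z ∈ ⁅X, X⁆ ∧ z ^ 2 = 1}
      one_mem' := ⟨one_mem _, one_pow 2⟩
      mul_mem' := fun {u v} hu hv => ⟨mul_mem hu.1 hv.1, by
        rw [Commute.mul_pow (hBz u (hXB (Subgroup.commutator_le_self X hu.1)) v hv.1), hu.2, hv.2, one_mul]⟩
      inv_mem' := fun {u} hu => ⟨inv_mem hu.1, by rw [inv_pow, hu.2, inv_one]⟩ }
  have hgen : ∀ v ∈ C, ∀ a ∈ A, ⁅v, c a⁆ ∈ Z := by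
    intro v hv a ha
    induction hv using Subgroup.closure_induction with
    | mem g hg => obtain ⟨e, he, rfl⟩ := hg; exact ⟨hz e he a ha, hsq e he a ha⟩
    | one => rw [commutatorElement_one_left]; exact one_mem Z
    | mul g h hg hh ihg ihh =>
      rw [mul_l _ (hCX hg) _ (hCX hh) _ (hcX a ha)]
      exact Z.mul_mem ihg ihh
    | inv g hg ihg =>
      have := mul_l _ (X.inv_mem (hCX hg)) _ (hCX hg) _ (hcX a ha)
      rw [inv_mul_cancel, commutatorElement_one_left] at this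
      rw [eq_inv_of_mul_eq_one_left this.symm]
      exact Z.inv_mem ihg
  have hall : ⁅C, C⁆ ≤ Z := Subgroup.commutator_le.mpr fun v hv u hu => by
    induction hu using Subgroup.closure_induction with
    | mem g hg => obtain ⟨e, he, rfl⟩ := hg; exact hgen v hv e he
    | one => rw [commutatorElement_one_right]; exact one_mem Z
    | mul g h hg hh ihg ihh =>
      rw [mul_r _ (hCX hv) _ (hCX hg) _ (hCX hh)]
      exact Z.mul_mem ihg ihh
    | inv g hg ihg =>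
      have := mul_r _ (hCX hv) _ (X.inv_mem (hCX hg)) _ (hCX hg)
      rw [inv_mul_cancel, commutatorElement_one_right] at this
      rw [eq_inv_of_mul_eq_one_left this.symm]
      exact Z.inv_mem ihg
  exact (hall hw).2

end Cfsg.Agent.S0648
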