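import Cfsg.Statements.S0649

set_option autoImplicit false
open Cfsg

namespace Cfsg.Agent.S0649

/-- In the Glauberman replacement situation, if B does not normalize A then some element of B normalizes N_S(A) without normalizing A. -/
theorem result {S : Type*} [Group S] [Finite S] {p : ℕ} [Fact p.Prime] (hS : IsPGroup p S) (B : Subgroup S) [B.Normal] (hB2 : p = 2 → IsMulCommutative B) (A : Subgroup S) (hA : IsMulCommutative A) (hBA : ⁅B, B⁆ ≤ A) (hnot : ¬ B ≤ Subgroup.normalizer (A : Set S)) : ∃ b ∈ B, b ∈ Subgroup.normalizer ((Subgroup.normalizer (A : Set S)) : Set S) ∧ b ∉ Subgroup.normalizer (A : Set S) := by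
  set N := Subgroup.normalizer (A : Set S) with hN
  set M := N ⊔ B with hM
  haveI : Group.IsNilpotent ↥M := (hS.to_subgroup M).isNilpotent
  have hlt : N.subgroupOf M < ⊤ := by
    rw [lt_top_iff_ne_top]
    intro h
    rw [Subgroup.subgroupOf_eq_top] at h
    exact hnot (le_sup_right.trans h)
  obtain ⟨x, hx1, hx2⟩ := SetLike.exists_of_lt
    (Group.normalizerCondition_of_isNilpotent (G := ↥M) _ hlt)
  have hxN : (x : S) ∈ Subgroup.normalizer (N : Set S) := by
    rw [Subgroup.mem_normalizer_iff]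
    intro h
    rw [Subgroup.mem_normalizer_iff] at hx1
    have hNM : N ≤ M := le_sup_left
    constructor
    · intro hh
      have h5 := (hx1 ⟨h, hNM hh⟩).mp (by simpa [Subgroup.mem_subgroupOf] using hh)
      simpa [Subgroup.mem_subgroupOf] using h5
    · intro hh
      have h4 : (x : S)⁻¹ * ((x : S) * h * (x : S)⁻¹) * x ∈ M :=
        M.mul_mem (M.mul_mem (M.inv_mem x.2) (hNM hh)) x.2
      have h5 : h ∈ M := by simpa [mul_assoc] using h4
      have h6 := (hx1 ⟨h, h5⟩).mpr (by simpa [Subgroup.mem_subgroupOf] using hh)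
      simpa [Subgroup.mem_subgroupOf] using h6
  obtain ⟨n, hn, b, hb, hxe⟩ := Subgroup.mem_sup_of_normal_right.mp (x.2 : (x : S) ∈ N ⊔ B)
  refine ⟨b, hb, ?_, fun hbN => hx2 ?_⟩
  · have : b = n⁻¹ * (x : S) := by rw [← hxe]; simp
    rw [this]
    exact (Subgroup.normalizer (N : Set S)).mul_mem
      ((Subgroup.normalizer (N : Set S)).inv_mem (Subgroup.le_normalizer hn)) hxN
  · rw [Subgroup.mem_subgroupOf, ← hxe]
    exact N.mul_mem hn hbN

end Cfsg.Agent.S0649
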