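import Cfsg.Statements.S0650
import Cfsg.Agent.Thompson.Replacement
import Mathlib

set_option autoImplicit false
open Cfsg

namespace Cfsg.Agent.S0650


section
open Subgroup
open Cfsg.Agent.Thompson
open scoped commutatorElement

/-- The explicit replacement subgroup of an element `b` normalising `N(A)` but not `A`. -/
private theorem replacement_explicit {G : Type*} [Group G] [Finite G] {p : ℕ} [Fact p.Prime]
    (hS : IsPGroup p G) {B A : Subgroup G} (hBn : B.Normal) (hp : p ≠ 2 ∨ IsMulCommutative B)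
    (hA : IsMulCommutative A) (hBA : ⁅B, B⁆ ≤ A) {b : G} (hbB : b ∈ B)
    (hbN : b ∈ normalizer ((normalizer (A : Set G)) : Set G)) (hbA : b ∉ normalizer (A : Set G)) :
    ∃ A' : Subgroup G,
      A' = (A ⊓ A.map (MulAut.conj b).toMonoidHom) ⊔ closure {g | ∃ a ∈ A, g = a * b * a⁻¹ * b⁻¹} ∧
      IsMulCommutative A' ∧ Nat.card A' = Nat.card A ∧ ⁅B, B⁆ ≤ A' ∧ A ⊓ B < A' ⊓ B ∧ A' ⊓ B < B ∧
      A' ≤ normalizer (A : Set G) ∧ b ∈ normalizer (A' : Set G) ∧
      normalizer (A : Set G) ≤ normalizer (A' : Set G) ∧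
      ∀ e : ℕ, Odd e → (∀ x ∈ A, x ^ e = 1) → ∀ x ∈ A', x ^ e = 1 := by
  haveI := hBn
  have hcA : ∀ {x y}, x ∈ A → y ∈ A → x * y = y * x := fun hx hy =>
    isMulCommutative_iff_forall.mp hA _ hx _ hy
  set φ : G ≃* G := MulAut.conj b with hφdef
  have hφ : ∀ x, φ x = b * x * b⁻¹ := fun x => rfl
  set A1 := A.map φ.toMonoidHom with hA1
  set N := normalizer (A : Set G) with hN
  have hAN : A ≤ N := le_normalizer
  have hφN : N.map φ.toMonoidHom = N := map_conj_of_mem_normalizer hbN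
  have hA1N : A1 ≤ N := (map_mono hAN).trans hφN.le
  have hφA : ∀ {a}, a ∈ A → φ a ∈ A1 := fun ha => ⟨_, ha, rfl⟩
  have hcA1 : ∀ {x y}, x ∈ A1 → y ∈ A1 → x * y = y * x := by
    rintro _ _ ⟨x, hx, rfl⟩ ⟨y, hy, rfl⟩
    rw [← map_mul, ← map_mul, hcA hx hy]
  have hNA1 : N ≤ normalizer (A1 : Set G) := by
    rw [← hφN]
    refine le_trans ?_ (le_normalizer_map _)
    exact le_rfl
  set W := A ⊓ A1 with hW
  have hκW : ∀ {a c}, a ∈ A → c ∈ A → ⁅a, φ c⁆ ∈ W := by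
    intro a c ha hc
    rw [commutatorElement_def]
    refine ⟨?_, ?_⟩
    · rw [mul_assoc a, mul_assoc a]
      exact mul_mem ha ((Subgroup.mem_normalizer_iff.mp (hA1N (hφA hc)) _).mp (A.inv_mem ha))
    · exact mul_mem ((Subgroup.mem_normalizer_iff.mp (hNA1 (hAN ha)) _).mp (hφA hc)) (A1.inv_mem (hφA hc))
  have hWA : ∀ {w a}, w ∈ W → a ∈ A → Commute w a := fun hw ha => hcA hw.1 ha
  have hWA1 : ∀ {w a}, w ∈ W → a ∈ A1 → Commute w a := fun hw ha => hcA1 hw.2 ha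
  let u : G → G := fun a => a⁻¹ * φ a
  have huB : ∀ {a}, a ∈ A → u a ∈ B := fun {a} ha => by
    show a⁻¹ * φ a ∈ B
    rw [hφ]
    have : a⁻¹ * b * a⁻¹⁻¹ ∈ B :=
      hBn.conj_mem b hbB a⁻¹
    rw [inv_inv] at this
    simpa [mul_assoc] using mul_mem this (inv_mem hbB)
  have hsplit : ∀ {a c}, a ∈ A → c ∈ A → u a * u c = ⁅φ a, c⁻¹⁆ * u (a * c) := by
    intro a c ha hc
    have hk : Commute ⁅φ a, c⁻¹⁆ a⁻¹ := by
      refine hWA ?_ (inv_mem ha)
      rw [← commutatorElement_inv c⁻¹ (φ a)]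
      exact inv_mem (hκW (inv_mem hc) ha)
    have hac : a * c = c * a := hcA ha hc
    show a⁻¹ * φ a * (c⁻¹ * φ c) = _ * ((a * c)⁻¹ * φ (a * c))
    calc a⁻¹ * φ a * (c⁻¹ * φ c) = a⁻¹ * (⁅φ a, c⁻¹⁆ * (c⁻¹ * (φ a * φ c))) := by
          rw [commutatorElement_def]; group
      _ = ⁅φ a, c⁻¹⁆ * (a⁻¹ * (c⁻¹ * (φ a * φ c))) := by rw [← mul_assoc, ← hk.eq, mul_assoc]
      _ = _ := by rw [map_mul, hac, mul_inv_rev, mul_assoc a⁻¹]
  have hκ' : ∀ {a c}, a ∈ A → c ∈ A → ⁅φ a, c⁻¹⁆ = ⁅c, φ a⁆ := by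
    intro a c ha hc
    have h1 : Commute ⁅c, φ a⁆ c⁻¹ := hWA (hκW hc ha) (inv_mem hc)
    calc ⁅φ a, c⁻¹⁆ = c⁻¹ * ⁅c, φ a⁆ * c := by rw [commutatorElement_def, commutatorElement_def]; group
      _ = ⁅c, φ a⁆ := by rw [← h1.eq, mul_assoc, inv_mul_cancel, mul_one]
  -- symmetry of `(a, c) ↦ ⁅a, φ c⁆`
  have hswap : ∀ {a c}, a ∈ A → c ∈ A → φ ⁅a, φ c⁆ = ⁅c, φ a⁆ := by
    intro a c ha hc
    set z := ⁅b, u c⁆ with hz
    have hzB' : z ∈ ⁅B, B⁆ := commutator_mem_commutator hbB (huB hc)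
    have hzW : z ∈ W := by
      refine ⟨hBA hzB', b⁻¹ * z * b, hBA ?_, by show φ _ = z; rw [hφ]; group⟩
      have := (Subgroup.commutator_normal B B).conj_mem z hzB' b⁻¹
      simpa using this
    have hφc' : φ (φ c) = φ c * (z * u c) := by
      have hzu : φ (u c) = z * u c := by rw [hφ, hz, commutatorElement_def]; group
      calc φ (φ c) = φ (c * u c) := by rw [show c * u c = φ c from mul_inv_cancel_left c _]
        _ = φ c * (z * u c) := by rw [map_mul, hzu]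
    have hz_a : Commute z (φ a) := hWA1 hzW (hφA ha)
    calc φ ⁅a, φ c⁆ = ⁅φ a, φ c * (z * u c)⁆ := by rw [map_commutatorElement, hφc']
      _ = φ c * ⁅φ a, z * u c⁆ * (φ c)⁻¹ := by
          have : Commute (φ a) (φ c) := hcA1 (hφA ha) (hφA hc)
          simp only [commutatorElement_def, mul_inv_rev]
          rw [show φ a * (φ c * (z * u c)) = φ c * (φ a * (z * u c)) by rw [← mul_assoc, this.eq, mul_assoc]]
          group
      _ = φ c * ⁅φ a, c⁻¹⁆ * (φ c)⁻¹ := by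
          congr 2
          simp only [commutatorElement_def, u, mul_inv_rev, inv_inv]
          have h2 : Commute (φ a) (φ c) := hcA1 (hφA ha) (hφA hc)
          calc φ a * (z * (c⁻¹ * φ c)) * (φ a)⁻¹ * ((φ c)⁻¹ * c * z⁻¹)
              = (φ a * z) * (c⁻¹ * (φ c * (φ a)⁻¹ * (φ c)⁻¹)) * c * z⁻¹ := by group
            _ = (z * φ a) * (c⁻¹ * (φ a)⁻¹) * c * z⁻¹ := by
                rw [hz_a.symm.eq, h2.symm.inv_right.eq, mul_inv_cancel_right]
            _ = z * (φ a * c⁻¹ * (φ a)⁻¹ * c) * z⁻¹ := by group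
            _ = φ a * c⁻¹ * (φ a)⁻¹ * c := by
                have : Commute z (φ a * c⁻¹ * (φ a)⁻¹ * c) :=
                  (((hz_a.mul_right (hWA hzW (inv_mem hc))).mul_right hz_a.inv_right).mul_right (hWA hzW hc))
                rw [this.eq, mul_inv_cancel_right]
      _ = ⁅c, φ a⁆ := by
          rw [hκ' ha hc, ← (hWA1 (hκW hc ha) (hφA hc)).eq, mul_inv_cancel_right]
  have hsym : ∀ {a c}, a ∈ A → c ∈ A → ⁅a, φ c⁆ = ⁅c, φ a⁆ := by
    intro a c ha hc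
    rcases hp with hp | hB
    · have h2 : φ (φ ⁅a, φ c⁆) = ⁅a, φ c⁆ := by rw [hswap ha hc, hswap hc ha]
      have hc2 : Commute (b ^ 2) ⁅a, φ c⁆ := by
        rw [hφ, hφ] at h2
        show b ^ 2 * _ = _ * b ^ 2
        have := congrArg (· * (b * b)) h2
        simpa [mul_assoc, pow_two] using this
      obtain ⟨k, hk⟩ : ∃ k : ℕ, orderOf b = 2 * k + 1 := by
        obtain ⟨n, hn⟩ := IsPGroup.iff_orderOf.mp hS b
        exact (hn ▸ ((Fact.out : p.Prime).odd_of_ne_two hp).pow : Odd (orderOf b))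
      have hb : b = (b ^ 2) ^ (k + 1) := by
        rw [← pow_mul, show 2 * (k + 1) = orderOf b + 1 by omega, pow_succ, pow_orderOf_eq_one, one_mul]
      have hcb : Commute b ⁅a, φ c⁆ := hb ▸ hc2.pow_left (k + 1)
      rw [← hswap ha hc]
      show _ = b * _ * b⁻¹
      rw [hcb.eq, mul_inv_cancel_right]
    · have h := isMulCommutative_iff_forall.mp hB _ (huB ha) _ (huB hc)
      rw [hsplit ha hc, hsplit hc ha, hκ' ha hc, hκ' hc ha, hcA ha hc] at h
      exact (mul_right_cancel h).symm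
  -- the new subgroup
  have hsplit' : ∀ {a c}, a ∈ A → c ∈ A → u a * u c = ⁅c, φ a⁆ * u (a * c) := fun ha hc => by
    rw [hsplit ha hc, hκ' ha hc]
  have hucomm : ∀ {a c}, a ∈ A → c ∈ A → Commute (u a) (u c) := by
    intro a c ha hc
    show u a * u c = u c * u a
    rw [hsplit' ha hc, hsplit' hc ha, hsym hc ha, hcA ha hc]
  have huW : ∀ {a w}, a ∈ A → w ∈ W → Commute w (u a) := fun ha hw =>
    (hWA hw (inv_mem ha)).mul_right (hWA1 hw (hφA ha))
  have huN : ∀ {a}, a ∈ A → u a ∈ N := fun ha => mul_mem (inv_mem (hAN ha)) (hA1N (hφA ha))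
  let A' : Subgroup G :=
    { carrier := {x | ∃ w ∈ W, ∃ a ∈ A, x = w * u a}
      one_mem' := ⟨1, one_mem _, 1, one_mem _, by simp [u]⟩
      mul_mem' := by
        rintro _ _ ⟨w, hw, a, ha, rfl⟩ ⟨w', hw', a', ha', rfl⟩
        refine ⟨w * w' * ⁅a', φ a⁆, mul_mem (mul_mem hw hw') (hκW ha' ha), a * a', mul_mem ha ha', ?_⟩
        rw [mul_assoc (w * w'), ← hsplit' ha ha', (huW ha hw').symm.mul_mul_mul_comm w (u a')]
      inv_mem' := by
        rintro _ ⟨w, hw, a, ha, rfl⟩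
        refine ⟨w⁻¹ * ⁅a⁻¹, φ a⁆⁻¹, mul_mem (inv_mem hw) (inv_mem (hκW (inv_mem ha) ha)), a⁻¹, inv_mem ha, ?_⟩
        have h := hsplit' ha (inv_mem ha)
        rw [mul_inv_cancel, show u 1 = 1 by simp [u], mul_one] at h
        have hcm : Commute w⁻¹ (u a)⁻¹ := (huW ha hw).inv_inv
        have hcm' : Commute (u a)⁻¹ (u a⁻¹) := (hucomm ha (inv_mem ha)).inv_left
        rw [← h]
        calc (w * u a)⁻¹ = w⁻¹ * (u a)⁻¹ := by rw [mul_inv_rev, hcm.eq]
          _ = w⁻¹ * ((u a⁻¹)⁻¹ * ((u a)⁻¹ * u a⁻¹)) := by rw [hcm'.eq, inv_mul_cancel_left]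
          _ = _ := by simp only [mul_inv_rev, mul_assoc] }
  have hA'comm : IsMulCommutative A' := isMulCommutative_iff_forall.mpr (by
    rintro _ ⟨w, hw, a, ha, rfl⟩ _ ⟨w', hw', a', ha', rfl⟩
    exact ((Commute.mul_right (hWA hw hw'.1) (huW ha' hw)).mul_left
      ((huW ha hw').symm.mul_right (hucomm ha ha'))).eq)
  have huexp : ∀ {e : ℕ}, Odd e → (∀ x ∈ A, x ^ e = 1) → ∀ {a}, a ∈ A → u a ^ e = 1 := by
    intro e he hAe a ha
    obtain ⟨m, hm⟩ := he
    set d := ⁅φ a, a⁻¹⁆ with hd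
    have hdW : d ∈ W := by rw [hd, hκ' ha ha]; exact hκW ha ha
    have hdx : Commute d a⁻¹ := hWA hdW (inv_mem ha)
    have hdy : Commute d (φ a) := hWA1 hdW (hφA ha)
    have hde : d ^ e = 1 := hAe d hdW.1
    show (a⁻¹ * φ a) ^ e = 1
    rw [mul_pow_class_two hdx hdy, hAe _ (inv_mem ha), ← map_pow, hAe a ha, map_one, one_mul,
      mul_one, ← hd, show e.choose 2 = m * e by
        rw [Nat.choose_two_right, show e - 1 = m * 2 by omega, ← mul_assoc, Nat.mul_div_cancel _ two_pos, mul_comm],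
      pow_mul', hde, one_pow]
  have hkey : ∀ {a}, a ∈ A ⊓ B → a ∈ A1 := by
    intro a ha
    refine ⟨b⁻¹ * a * b, ?_, by show φ _ = a; rw [hφ]; group⟩
    have := mul_mem ha.1 (hBA (commutator_mem_commutator (inv_mem ha.2) (inv_mem hbB)))
    rw [commutatorElement_def] at this
    simpa [mul_assoc] using this
  have hcard : Nat.card A' = Nat.card A := by
    have hWA' : W ≤ A' := fun w hw => ⟨w, hw, 1, one_mem _, by simp [u]⟩
    have huA' : ∀ {a}, a ∈ A → u a ∈ A' := fun {a} ha => ⟨1, one_mem _, a, ha, by simp⟩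
    have := hA'comm
    let Wn : Subgroup A' := W.subgroupOf A'
    let f : A →* A' ⧸ Wn :=
      MonoidHom.mk' (fun a => QuotientGroup.mk ⟨u a, huA' a.2⟩) fun a c => by
        rw [← QuotientGroup.mk_mul, QuotientGroup.eq, mem_subgroupOf]
        show (u (a * c : A).1)⁻¹ * (u a.1 * u c.1) ∈ W
        rw [hsplit' a.2 c.2, Subgroup.coe_mul, ← mul_assoc,
          ← ((huW (mul_mem a.2 c.2) (hκW c.2 a.2)).inv_right).eq, inv_mul_cancel_right]
        exact hκW c.2 a.2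
    have hsur : Function.Surjective f := by
      intro y
      obtain ⟨⟨_, w, hw, a, ha, rfl⟩, rfl⟩ := QuotientGroup.mk_surjective y
      refine ⟨⟨a, ha⟩, QuotientGroup.eq.mpr ?_⟩
      show (u a)⁻¹ * (w * u a) ∈ W
      rw [(huW ha hw).eq, inv_mul_cancel_left]
      exact hw
    have hker : f.ker = (A.map φ.symm.toMonoidHom).subgroupOf A := by
      ext ⟨a, ha⟩
      rw [MonoidHom.mem_ker, MonoidHom.mk'_apply, QuotientGroup.eq_one_iff, mem_subgroupOf, mem_subgroupOf]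
      constructor
      · intro h
        exact ⟨φ a, by simpa [u] using mul_mem ha h.1, by simp⟩
      · rintro ⟨c, hc, hca⟩
        have hφa : φ a ∈ A := by simp only [MulEquiv.coe_toMonoidHom] at hca; rw [← hca]; simpa using hc
        exact ⟨mul_mem (A.inv_mem ha) hφa, hkey ⟨mul_mem (A.inv_mem ha) hφa, huB ha⟩⟩
    have hindex : Wn.index = f.ker.index := by
      rw [Subgroup.index_eq_card, Subgroup.index_eq_card]
      exact Nat.card_congr (QuotientGroup.quotientKerEquivOfSurjective f hsur).symm.toEquiv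
    have hcardW : Nat.card Wn = Nat.card f.ker := by
      rw [hker, Nat.card_congr (subgroupOfEquivOfLe hWA').toEquiv]
      rw [← inf_subgroupOf_right, Nat.card_congr (subgroupOfEquivOfLe (inf_le_right)).toEquiv]
      have : W = (A.map φ.symm.toMonoidHom ⊓ A).map φ.toMonoidHom := by
        rw [map_inf _ _ _ φ.injective, Subgroup.map_map,
          show φ.toMonoidHom.comp φ.symm.toMonoidHom = MonoidHom.id G from MonoidHom.ext φ.apply_symm_apply,
          Subgroup.map_id]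
      rw [this, card_map_of_injective φ.injective]
    rw [← Wn.card_mul_index, hindex, hcardW, Subgroup.card_mul_index]
  have hWA' : W ≤ A' := fun w hw => ⟨w, hw, 1, one_mem _, by simp [u]⟩
  have huA' : ∀ {a}, a ∈ A → u a ∈ A' := fun {a} ha => ⟨1, one_mem _, a, ha, by simp⟩
  have hBW : ⁅B, B⁆ ≤ W := fun x hx => ⟨hBA hx, hkey ⟨hBA hx, Subgroup.commutator_le_self B hx⟩⟩
  have hA'N : A' ≤ N := by
    rintro _ ⟨w, hw, a, ha, rfl⟩; exact mul_mem (le_normalizer hw.1) (huN ha)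
  have hclos : W ⊔ closure {g | ∃ a ∈ A, g = a * b * a⁻¹ * b⁻¹} = A' := by
    have hu : ∀ a, a * b * a⁻¹ * b⁻¹ = u a⁻¹ := fun a => by
      show _ = a⁻¹⁻¹ * φ a⁻¹
      rw [hφ]; group
    refine le_antisymm (sup_le hWA' ((closure_le _).mpr ?_)) ?_
    · rintro _ ⟨a, ha, rfl⟩
      rw [hu]; exact huA' (inv_mem ha)
    · rintro _ ⟨w, hw, a, ha, rfl⟩
      exact mul_mem (mem_sup_left hw) (mem_sup_right (subset_closure
        ⟨a⁻¹, inv_mem ha, by rw [hu, inv_inv]⟩))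
  have hφA' : A'.map φ.toMonoidHom = A' := by
    refine Subgroup.eq_of_le_of_card_ge ?_ (card_map_of_injective φ.injective).ge
    rintro _ ⟨_, ⟨w, hw, a, ha, rfl⟩, rfl⟩
    show φ (w * u a) ∈ A'
    rw [map_mul]
    refine mul_mem ?_ ?_
    · rw [show φ w = w * u w from (mul_inv_cancel_left w _).symm]
      exact mul_mem (hWA' hw) (huA' hw.1)
    · rw [show φ (u a) = ⁅b, u a⁆ * u a by rw [hφ, commutatorElement_def]; group]
      exact mul_mem (hWA' (hBW (commutator_mem_commutator hbB (huB ha)))) (huA' ha)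
  have hbA' : b ∈ normalizer (A' : Set G) := mem_normalizer_of_map_conj hφA'
  have hNA' : N ≤ normalizer (A' : Set G) := by
    have step : ∀ g ∈ N, ∀ x ∈ A', g * x * g⁻¹ ∈ A' := by
      rintro g hg _ ⟨w, hw, a, ha, rfl⟩
      have hgW : ∀ y ∈ W, g * y * g⁻¹ ∈ W := fun y hy =>
        ⟨(Subgroup.mem_normalizer_iff.mp hg _).mp hy.1, (Subgroup.mem_normalizer_iff.mp (hNA1 hg) _).mp hy.2⟩
      obtain ⟨g', hg', hgg⟩ : ∃ g' ∈ N, φ g' = g := by
        have h : g ∈ N.map φ.toMonoidHom := by rw [hφN]; exact hg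
        exact h
      set a1 := g * a * g⁻¹ with ha1
      set a2 := g' * a * g'⁻¹ with ha2
      have ha1A : a1 ∈ A := (Subgroup.mem_normalizer_iff.mp hg _).mp ha
      have ha2A : a2 ∈ A := (Subgroup.mem_normalizer_iff.mp hg' _).mp ha
      have hB : a1⁻¹ * a2 ∈ B := by
        have hβ : g⁻¹ * g' ∈ B := by
          have h2 : (g'⁻¹ * b * g') * b⁻¹ ∈ B := mul_mem (by simpa using hBn.conj_mem b hbB g'⁻¹) (inv_mem hbB)
          rw [show g⁻¹ * g' = ((g'⁻¹ * b * g') * b⁻¹)⁻¹ by rw [← hgg, hφ]; group]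
          exact inv_mem h2
        set β := g⁻¹ * g' with hβdef
        rw [show a1⁻¹ * a2 = g * (a⁻¹ * β * a * β⁻¹) * g⁻¹ by rw [ha1, ha2, hβdef]; group]
        exact hBn.conj_mem _ (mul_mem (by simpa using hBn.conj_mem β hβ a⁻¹) (inv_mem hβ)) g
      have hW1 : a1⁻¹ * a2 ∈ W :=
        ⟨A.mul_mem (A.inv_mem ha1A) ha2A, hkey ⟨A.mul_mem (A.inv_mem ha1A) ha2A, hB⟩⟩
      have e1 : g * u a * g⁻¹ = a1⁻¹ * a2 * u a2 := by
        have : φ a2 = g * φ a * g⁻¹ := by rw [ha2, map_mul, map_mul, map_inv, hgg]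
        show g * (a⁻¹ * φ a) * g⁻¹ = a1⁻¹ * a2 * (a2⁻¹ * φ a2)
        rw [this, ha1]; group
      rw [show g * (w * u a) * g⁻¹ = (g * w * g⁻¹) * (g * u a * g⁻¹) by group, e1]
      exact mul_mem (hWA' (hgW w hw)) (mul_mem (hWA' hW1) (huA' ha2A))
    intro g hg
    refine Subgroup.mem_normalizer_iff.mpr fun x => ⟨step g hg x, fun hx => ?_⟩
    have := step g⁻¹ (inv_mem hg) _ hx
    simpa [mul_assoc] using this
  refine ⟨A', hclos.symm, hA'comm, hcard, fun x hx => hWA' (hBW hx), ?_, ?_, hA'N, hbA', hNA', ?_⟩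
  · refine lt_of_le_not_ge (fun x hx => ⟨hWA' ⟨hx.1, hkey hx⟩, hx.2⟩) fun hle => ?_
    refine hbA (mem_normalizer_of_map_conj (Subgroup.eq_of_le_of_card_ge ?_ ?_))
    · rintro _ ⟨a, ha, rfl⟩
      have : u a ∈ A := (hle ⟨huA' ha, huB ha⟩).1
      simpa [u, hφdef] using mul_mem ha this
    · exact (card_map_of_injective φ.injective).ge
  · exact lt_of_le_not_ge inf_le_right fun h => hbA (hA'N (h hbB).1)
  · intro e he hAe
    rintro _ ⟨w, hw, a, ha, rfl⟩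
    rw [(huW ha hw).mul_pow, hAe w hw.1, huexp he hAe ha, one_mul]

end

/-- The Glauberman replacement Theorem: from an abelian A ⊇ [B, B] not normalized by the normal subgroup B and a suitable b ∈ B one gets the abelian subgroup A* = (A ∩ b⁻¹Ab)[A, b] of the same order, containing [B, B], meeting B strictly more than A does but not containing B, mutually normalizing with A, with strictly larger normalizer containing b, and (p odd) of no larger exponent. -/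
theorem result {S : Type*} [Group S] [Finite S] {p : ℕ} [Fact p.Prime] (hS : IsPGroup p S) (B : Subgroup S) [B.Normal] (hB2 : p = 2 → IsMulCommutative B) (A : Subgroup S) (hA : IsMulCommutative A) (hBA : ⁅B, B⁆ ≤ A) (hnot : ¬ B ≤ Subgroup.normalizer (A : Set S)) (b : S) (hb : b ∈ B) (hbN : b ∈ Subgroup.normalizer ((Subgroup.normalizer (A : Set S)) : Set S)) (hbA : b ∉ Subgroup.normalizer (A : Set S)) : Nat.card ↥((A ⊓ A.map (MulAut.conj (b⁻¹)).toMonoidHom) ⊔ Subgroup.closure {g : S | ∃ a ∈ A, g = a * b⁻¹ * a⁻¹ * b}) = Nat.card A ∧ IsMulCommutative ↥((A ⊓ A.map (MulAut.conj (b⁻¹)).toMonoidHom) ⊔ Subgroup.closure {g : S | ∃ a ∈ A, g = a * b⁻¹ * a⁻¹ * b}) ∧ ⁅B, B⁆ ≤ ((A ⊓ A.map (MulAut.conj (b⁻¹)).toMonoidHom) ⊔ Subgroup.closure {g : S | ∃ a ∈ A, g = a * b⁻¹ * a⁻¹ * b}) ∧ A ⊓ B < ((A ⊓ A.map (MulAut.conj (b⁻¹)).toMonoidHom) ⊔ Subgroup.closure {g : S | ∃ a ∈ A, g = a * b⁻¹ * a⁻¹ * b}) ⊓ B ∧ ((A ⊓ A.map (MulAut.conj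 (b⁻¹)).toMonoidHom) ⊔ Subgroup.closure {g : S | ∃ a ∈ A, g = a * b⁻¹ * a⁻¹ * b}) ⊓ B < B ∧ A ≤ Subgroup.normalizer (((A ⊓ A.map (MulAut.conj (b⁻¹)).toMonoidHom) ⊔ Subgroup.closure {g : S | ∃ a ∈ A, g = a * b⁻¹ * a⁻¹ * b} : Subgroup S) : Set S) ∧ ((A ⊓ A.map (MulAut.conj (b⁻¹)).toMonoidHom) ⊔ Subgroup.closure {g : S | ∃ a ∈ A, g = a * b⁻¹ * a⁻¹ * b}) ≤ Subgroup.normalizer (A : Set S) ∧ b ∈ Subgroup.normalizer (((A ⊓ A.map (MulAut.conj (b⁻¹)).toMonoidHom) ⊔ Subgroup.closure {g : S | ∃ a ∈ A, g = a * b⁻¹ * a⁻¹ * b} : Subgroup S) : Set S) ∧ Subgroup.normalizer (A : Set S) < Subgroup.normalizer (((A ⊓ A.map (MulAut.conj (b⁻¹)).toMonoidHom) ⊔ Subgroup.closure {g : S | ∃ a ∈ A, g = a * b⁻¹ * a⁻¹ * b} : Subgroup S) : Set S) ∧ (p ≠ 2 → Monoid.exponent ↥((A ⊓ A.map (MulAut.conj (b⁻¹)).toMonoidHom) ⊔ Subgroup.closure {g : S | ∃ a ∈ A, g = a * b⁻¹ * a⁻¹ * b}) ∣ Monoid.exponent A) := by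
  have hbN' : b⁻¹ ∈ Subgroup.normalizer ((Subgroup.normalizer (A : Set S)) : Set S) := inv_mem hbN
  have hbA' : b⁻¹ ∉ Subgroup.normalizer (A : Set S) := fun h => hbA (by simpa using inv_mem h)
  obtain ⟨A', hA', hcomm, hcard, hB', hlt, hlt', hN, hbn, hNN, hexp⟩ :=
    replacement_explicit hS (B := B) (b := b⁻¹) inferInstance
      (by by_cases h : p = 2; exacts [Or.inr (hB2 h), Or.inl h]) hA hBA (inv_mem hb) hbN' hbA'
  rw [inv_inv] at hA'
  rw [← hA']
  have hbn' : b ∈ Subgroup.normalizer (A' : Set S) := by simpa using inv_mem hbn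
  refine ⟨hcard, hcomm, hB', hlt, hlt', Subgroup.le_normalizer.trans hNN, hN, hbn',
    lt_of_le_not_ge hNN fun h => hbA (h hbn'), fun hp => ?_⟩
  have hpow : ∀ x ∈ A, x ^ Monoid.exponent A = 1 := fun x hx => by
    have := congrArg Subtype.val (Monoid.pow_exponent_eq_one (⟨x, hx⟩ : A))
    simpa using this
  obtain ⟨k, hk⟩ := IsPGroup.iff_card.mp (hS.to_subgroup A)
  obtain ⟨i, -, hi⟩ := (Nat.dvd_prime_pow Fact.out).mp (hk ▸ Group.exponent_dvd_nat_card (G := A))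
  have hodd : Odd (Monoid.exponent A) := hi ▸ ((Fact.out : p.Prime).odd_of_ne_two hp).pow
  exact Monoid.exponent_dvd_of_forall_pow_eq_one fun x =>
    Subtype.ext (by simpa using hexp _ hodd hpow x x.2)

end Cfsg.Agent.S0650
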