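import Cfsg.Statements.S0655

set_option autoImplicit false
open Cfsg

namespace Cfsg.Agent.S0655

/-- In a p-group the intersection of all elementary abelian subgroups of largest order is the subgroup generated by the elements of order dividing p in the centre (equivalently the centralizer) of the elementary-version Thompson subgroup. -/
theorem result {S : Type*} [Group S] [Finite S] {p : ℕ} [Fact p.Prime] (hS : IsPGroup p S) : sInf (Cfsg.maxElementaryAbelianSubgroups p S) = Cfsg.omegaCenterThompson p S ∧ Cfsg.omegaCenterThompson p S = Cfsg.omegaOne p (Subgroup.centralizer (Cfsg.thompsonSubgroup p S : Set S)) := by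
  classical
  set 𝒜 := Cfsg.maxElementaryAbelianSubgroups p S with h𝒜
  have hne : 𝒜.Nonempty := by
    haveI : Fintype (Subgroup S) := Fintype.ofFinite _
    obtain ⟨A, hA, hmax⟩ := ((Finset.univ : Finset (Subgroup S)).filter fun A => Cfsg.IsElementaryAbelian p A).exists_max_image
      (fun A => Nat.card A) ⟨⊥, by
        simp only [Finset.mem_filter, Finset.mem_univ, true_and]
        refine ⟨Subgroup.le_centralizer_iff_isMulCommutative.mp bot_le, ?_⟩
        intro a ha
        rw [Subgroup.mem_bot] at ha
        simp [ha]⟩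
    simp only [Finset.mem_filter, Finset.mem_univ, true_and] at hA hmax
    exact ⟨A, hA, hmax⟩
  have hJ : Cfsg.thompsonSubgroup p S = sSup 𝒜 := rfl
  have h1 : ∀ x ∈ Subgroup.centralizer (Cfsg.thompsonSubgroup p S : Set S), x ^ p = 1 → x ∈ sInf 𝒜 := by
    intro x hx hxp
    rw [Subgroup.mem_sInf]
    intro A hA
    have hxA : ∀ a ∈ A, a * x = x * a := fun a ha =>
      Subgroup.mem_centralizer_iff.mp hx a ((le_sSup hA : A ≤ sSup 𝒜) ha)
    have hAc : ∀ a ∈ A, ∀ b ∈ A, a * b = b * a := fun a ha b hb =>
      Subgroup.mem_centralizer_iff.mp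
        (Subgroup.le_centralizer_iff_isMulCommutative.mpr hA.1.1 hb) a ha
    set B := Subgroup.closure (insert x (A : Set S)) with hB
    have hBc : IsMulCommutative B := by
      apply Subgroup.isMulCommutative_closure
      intro a ha b hb
      rcases ha with rfl | ha <;> rcases hb with rfl | hb
      · rfl
      · exact (hxA b hb).symm
      · exact hxA a ha
      · exact hAc a ha b hb
    have hBe : Cfsg.IsElementaryAbelian p B := by
      refine ⟨hBc, fun b hb => ?_⟩
      induction hb using Subgroup.closure_induction with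
      | mem y hy =>
        rcases hy with rfl | hy
        · exact hxp
        · exact hA.1.2 y hy
      | one => exact one_pow p
      | mul y z hy hz ihy ihz =>
        have hc : Commute y z :=
          Subgroup.mem_centralizer_iff.mp (Subgroup.le_centralizer_iff_isMulCommutative.mpr hBc hz) y hy
        rw [hc.mul_pow, ihy, ihz, one_mul]
      | inv y _ ihy => rw [inv_pow, ihy, inv_one]
    have hle : A ≤ B := fun a ha => Subgroup.subset_closure (Set.mem_insert_of_mem x ha)
    have : A = B := Subgroup.eq_of_le_of_card_ge hle (hA.2 B hBe)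
    rw [this]
    exact Subgroup.subset_closure (Set.mem_insert x _)
  obtain ⟨A₀, hA₀⟩ := hne
  have h2 : sInf 𝒜 ≤ Cfsg.thompsonSubgroup p S ⊓
      Subgroup.centralizer (Cfsg.thompsonSubgroup p S : Set S) := by
    refine le_inf ((sInf_le hA₀).trans (le_sSup hA₀)) ?_
    rw [Subgroup.le_centralizer_iff, hJ]
    refine sSup_le fun A hA => ?_
    exact (Subgroup.le_centralizer_iff_isMulCommutative.mpr hA.1.1).trans
      (Subgroup.centralizer_le (fun a ha => (sInf_le hA : sInf 𝒜 ≤ A) ha))
  have e1 : sInf 𝒜 = Cfsg.omegaCenterThompson p S := by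
    apply le_antisymm
    · intro x hx
      exact Subgroup.subset_closure ⟨h2 hx, hA₀.1.2 x ((sInf_le hA₀ : sInf 𝒜 ≤ A₀) hx)⟩
    · exact (Subgroup.closure_le _).mpr fun x hx => h1 x hx.1.2 hx.2
  have e2 : sInf 𝒜 = Cfsg.omegaOne p (Subgroup.centralizer (Cfsg.thompsonSubgroup p S : Set S)) := by
    apply le_antisymm
    · intro x hx
      exact Subgroup.subset_closure ⟨(h2 hx).2, hA₀.1.2 x ((sInf_le hA₀ : sInf 𝒜 ≤ A₀) hx)⟩
    · exact (Subgroup.closure_le _).mpr fun x hx => h1 x hx.1 hx.2
  exact ⟨e1, e1.symm.trans e2⟩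

end Cfsg.Agent.S0655
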