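import Cfsg.Statements.S0657
import Cfsg.Agent.Thompson.Quadratic
import Cfsg.Agent.Thompson.Forms
-- import your own Cfsg.Agent.* helpers here

set_option autoImplicit false
open Cfsg

namespace Cfsg.Agent.S0657

/-- For odd p, a group that fails to be p-stable modulo its largest normal subgroup of order prime to p, and whose upper p-series does not stop there, has a section isomorphic to SL(2, p). -/
theorem result {G : Type*} [Group G] [Finite G] {p : ℕ} [Fact p.Prime] (hp : p ≠ 2) (hO : Cfsg.pPrimeCore p G < Cfsg.pPrimePCore p G) (hns : ¬ Cfsg.IsPStable p (G ⧸ Cfsg.pPrimeCore p G)) : ∃ (K L : Subgroup G) (hL : (L.subgroupOf K).Normal), K ≤ ⊤ ∧ Nonempty ((K ⧸ L.subgroupOf K) ≃* Matrix.SpecialLinearGroup (Fin 2) (ZMod p)) := by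
  set K := Cfsg.pPrimeCore p G
  by_contra hno
  have hfree : ¬ Thompson.HasSection (Matrix.SpecialLinearGroup (Fin 2) (ZMod p)) (G ⧸ K) := by
    intro h
    obtain ⟨K', R, hR, he⟩ := Thompson.hasSection_iff.mp (h.of_surjective (QuotientGroup.mk'_surjective K))
    exact hno ⟨K', R, hR, le_top, he⟩
  refine hns ⟨(Fact.out : p.Prime).odd_of_ne_two hp, ?_, ?_⟩
  · intro h
    refine hO.ne ?_
    rw [Cfsg.pPrimePCore, h, MonoidHom.comap_bot, QuotientGroup.ker_mk']
  · rintro A P _ hP - - - hq _ ⟨a, ha, rfl⟩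
    exact Thompson.isNormalizerPStable_of_stable (fun N => Thompson.stableOnNormal_of_sl2_free hp
      fun h => hfree (h.of_injective N.subtype_injective)) P hP a.2
      (Thompson.quadratic_of_le (Subgroup.zpowers_le.mpr ha) hq)

end Cfsg.Agent.S0657
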