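import Cfsg.Statements.S0658
import Cfsg.Agent.Thompson.Forms
import Mathlib

set_option autoImplicit false
open Cfsg

namespace Cfsg.Agent.S0658


open Subgroup Cfsg.Agent.Thompson
open scoped Pointwise

/-- In a `p`-stable, `p`-constrained group without normal `p'`-subgroup, `Z(J(S))` is normal. -/
private theorem zjay_normal_of_local {G : Type*} [Group G] [Finite G] {p : ℕ} [Fact p.Prime] (hp : p ≠ 2)
    (h0 : Cfsg.pPrimeCore p G = ⊥) (hc : Cfsg.IsPConstrained p G) (hs : Cfsg.IsPStable p G)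
    (S : Sylow p G) : (zjay 0 (S : Subgroup G)).Normal := by
  haveI : (Cfsg.pPrimeCore p G).Normal := by rw [h0]; infer_instance
  have hinj : Function.Injective (QuotientGroup.mk' (Cfsg.pPrimeCore p G)) := by
    rw [← MonoidHom.ker_eq_bot_iff, QuotientGroup.ker_mk', h0]
  have hn := zjay_zero_normal hp (centralizer_pCore_quotient_le hc)
    (stableOnNormal_quotient_of_isPStable hs) (S.mapSurjective (QuotientGroup.mk'_surjective _))
  rw [Sylow.coe_mapSurjective, zjay_map _ hinj] at hn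
  rw [← Subgroup.comap_map_eq_self_of_injective hinj (zjay 0 (S : Subgroup G))]
  exact Subgroup.Normal.comap hn _

/-- In a group of characteristic p type all of whose p-locals are p-stable (p odd), the normalizer of Z(J(P)) contains the normalizer of every nontrivial subgroup of the Sylow p-subgroup P. -/
theorem result {G : Type*} [Group G] [Finite G] {p : ℕ} [Fact p.Prime] (hp : p ≠ 2) (hloc : ∀ Q : Subgroup G, IsPGroup p Q → Q ≠ ⊥ → Cfsg.pPrimeCore p ↥(Subgroup.normalizer (Q : Set G)) = ⊥ ∧ Cfsg.IsPConstrained p ↥(Subgroup.normalizer (Q : Set G)) ∧ Cfsg.IsPStable p ↥(Subgroup.normalizer (Q : Set G))) (P : Sylow p G) (Q : Subgroup G) (hQP : Q ≤ (P : Subgroup G)) (hQ1 : Q ≠ ⊥) : Subgroup.normalizer (Q : Set G) ≤ Subgroup.normalizer (Cfsg.centerThompsonAOf ((P : Subgroup G)) : Set G) := by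
  classical
  rw [centerThompsonAOf_eq]
  set M := Subgroup.normalizer (zjay 0 (P : Subgroup G) : Set G) with hM
  have hPM : (P : Subgroup G) ≤ M := le_normalizer_zjay 0 _
  suffices H : ∀ (k : ℕ) (Q : Subgroup G), Q ≤ (P : Subgroup G) → Q ≠ ⊥ →
      Nat.card (P : Subgroup G) - Nat.card ((P : Subgroup G) ⊓ Subgroup.normalizer (Q : Set G) : Subgroup G) = k →
      Subgroup.normalizer (Q : Set G) ≤ M from H _ Q hQP hQ1 rfl
  intro k
  induction k using Nat.strong_induction_on with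
  | _ k ih =>
  clear hQP hQ1 Q
  intro Q hQP hQ1 hk
  set N := Subgroup.normalizer (Q : Set G) with hN
  set T := (P : Subgroup G) ⊓ N with hT
  have hTp : IsPGroup p T := P.2.to_le inf_le_left
  have hQT : Q ≤ T := le_inf hQP Subgroup.le_normalizer
  -- larger normalisers are handled by induction
  have bigger : ∀ Q' : Subgroup G, Q' ≤ (P : Subgroup G) → Q' ≠ ⊥ →
      Nat.card T < Nat.card ((P : Subgroup G) ⊓ Subgroup.normalizer (Q' : Set G) : Subgroup G) →
      Subgroup.normalizer (Q' : Set G) ≤ M := by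
    intro Q' h1 h2 h3
    refine ih _ ?_ Q' h1 h2 rfl
    have := Subgroup.card_le_of_le (inf_le_left : (P : Subgroup G) ⊓ Subgroup.normalizer (Q' : Set G) ≤ (P : Subgroup G))
    omega
  obtain ⟨h0, hcN, hsN⟩ := hloc Q (P.2.to_le hQP) hQ1
  obtain ⟨S, hS⟩ := (hTp.comap_subtype (K := N) : IsPGroup p (T.subgroupOf N)).exists_le_sylow
  set S' : Subgroup G := (S : Subgroup N).map N.subtype with hS'
  have hS'p : IsPGroup p S' := S.2.map N.subtype
  have hTS : T ≤ S' := by
    rw [hS']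
    calc T = (T.subgroupOf N).map N.subtype := (Subgroup.map_subgroupOf_eq_of_le inf_le_right).symm
      _ ≤ _ := Subgroup.map_mono hS
  have hNS : N ≤ Subgroup.normalizer (zjay 0 S' : Set G) := by
    rw [hS', zjay_map _ N.subtype_injective]
    have hn := zjay_normal_of_local hp h0 hcN hsN S
    intro g hg
    refine Subgroup.mem_normalizer_iff.mpr fun x => ⟨?_, ?_⟩
    · rintro ⟨y, hy, rfl⟩
      exact ⟨_, hn.conj_mem y hy ⟨g, hg⟩, rfl⟩
    · rintro ⟨y, hy, hye⟩
      refine ⟨_, hn.conj_mem y hy ⟨g, hg⟩⁻¹, ?_⟩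
      simp only [map_mul, map_inv, Subgroup.coe_subtype] at hye ⊢
      rw [hye]; group
  by_cases hTP : T = (P : Subgroup G)
  · have hSP : S' = (P : Subgroup G) := by
      have h1 : (P : Subgroup G) ≤ S' := by rw [← hTP]; exact hTS
      exact P.3 hS'p h1
    rwa [hSP] at hNS
  have hlt : T < (P : Subgroup G) := lt_of_le_of_ne inf_le_left hTP
  -- `T` is normalised by a larger subgroup of `P`
  have hTne : T ≠ ⊥ := fun h => hQ1 (le_bot_iff.mp (h ▸ hQT))
  obtain ⟨x, hxP, hxn, hxT⟩ : ∃ x ∈ (P : Subgroup G), x ∈ Subgroup.normalizer (T : Set G) ∧ x ∉ T := by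
    haveI := P.2.isNilpotent
    have h1 : T.subgroupOf (P : Subgroup G) < ⊤ := by
      rw [lt_top_iff_ne_top, Ne, Subgroup.subgroupOf_eq_top]
      exact fun h => hTP (le_antisymm inf_le_left h)
    obtain ⟨x, hx, hx'⟩ := SetLike.exists_of_lt (Group.normalizerCondition_of_isNilpotent _ h1)
    refine ⟨x, x.2, Subgroup.mem_normalizer_iff.mpr fun y => ⟨fun hy => ?_, fun hy => ?_⟩,
      fun h => hx' (Subgroup.mem_subgroupOf.mpr h)⟩
    · have := (Subgroup.mem_normalizer_iff.mp hx ⟨y, hy.1⟩).mp (Subgroup.mem_subgroupOf.mpr hy)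
      exact Subgroup.mem_subgroupOf.mp this
    · have hyP : y ∈ (P : Subgroup G) := by
        have := (P : Subgroup G).mul_mem ((P : Subgroup G).mul_mem ((P : Subgroup G).inv_mem x.2) hy.1) x.2
        simpa [mul_assoc] using this
      exact Subgroup.mem_subgroupOf.mp ((Subgroup.mem_normalizer_iff.mp hx ⟨y, hyP⟩).mpr (Subgroup.mem_subgroupOf.mpr hy))
  have hcardlt : ∀ K : Subgroup G, T ≤ K → (∃ y ∈ K, y ∉ T) → Nat.card T < Nat.card K := by
    rintro K hle ⟨y, hy, hy'⟩
    by_contra h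
    exact hy' ((Subgroup.eq_of_le_of_card_ge hle (not_lt.mp h)).symm ▸ hy)
  have hTnorm : Subgroup.normalizer (T : Set G) ≤ M :=
    bigger T inf_le_left hTne (hcardlt _ (le_inf inf_le_left Subgroup.le_normalizer) ⟨x, ⟨hxP, hxn⟩, hxT⟩)
  by_cases hST : S' = T
  · rw [hST] at hNS
    have hzne : zjay 0 T ≠ ⊥ := zjay_ne_bot hTp hTne (Or.inl rfl)
    refine hNS.trans (bigger _ (zjay_le.trans inf_le_left) hzne (hcardlt _
      (le_inf inf_le_left (le_normalizer_zjay 0 T)) ⟨x, ⟨hxP, ?_⟩, hxT⟩))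
    exact (normalizer_le_normalizer_jay 0 T).trans (normalizer_jay_le_normalizer_zjay 0 T) hxn
  -- conjugate the Sylow subgroup of the local into `P`
  obtain ⟨y, hyS, hyn, hyT⟩ : ∃ y ∈ S', y ∈ Subgroup.normalizer (T : Set G) ∧ y ∉ T := by
    haveI := hS'p.isNilpotent
    have h1 : T.subgroupOf S' < ⊤ := by
      rw [lt_top_iff_ne_top, Ne, Subgroup.subgroupOf_eq_top]
      exact fun h => hST (le_antisymm h hTS)
    obtain ⟨x, hx, hx'⟩ := SetLike.exists_of_lt (Group.normalizerCondition_of_isNilpotent _ h1)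
    refine ⟨x, x.2, Subgroup.mem_normalizer_iff.mpr fun y => ⟨fun hy => ?_, fun hy => ?_⟩,
      fun h => hx' (Subgroup.mem_subgroupOf.mpr h)⟩
    · exact Subgroup.mem_subgroupOf.mp
        ((Subgroup.mem_normalizer_iff.mp hx ⟨y, hTS hy⟩).mp (Subgroup.mem_subgroupOf.mpr hy))
    · have hyP : y ∈ S' := by
        have := S'.mul_mem (S'.mul_mem (S'.inv_mem x.2) (hTS hy)) x.2
        simpa [mul_assoc] using this
      exact Subgroup.mem_subgroupOf.mp ((Subgroup.mem_normalizer_iff.mp hx ⟨y, hyP⟩).mpr (Subgroup.mem_subgroupOf.mpr hy))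
  set R := S' ⊓ M with hR
  have hRp : IsPGroup p R := hS'p.to_le inf_le_left
  obtain ⟨S₁, hS₁⟩ := (hRp.comap_subtype (K := M) : IsPGroup p (R.subgroupOf M)).exists_le_sylow
  obtain ⟨m, hm⟩ := MulAction.exists_smul_eq M S₁ (P.subtype hPM)
  set c : MulAut G := MulAut.conj (m : G) with hc
  have hmap : R.map c.toMonoidHom ≤ (P : Subgroup G) := by
    rintro _ ⟨r, hr, rfl⟩
    have h1 : MulAut.conj m ⟨r, hr.2⟩ ∈ (S₁.1).map (MulAut.conj m).toMonoidHom := ⟨⟨r, hr.2⟩, hS₁ hr, rfl⟩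
    have h2 : MulAut.conj m • (S₁ : Subgroup M) = (P : Subgroup G).subgroupOf M := by
      rw [show MulAut.conj m • (S₁ : Subgroup M) = ((m • S₁ : Sylow p M) : Subgroup M) from Sylow.coe_subgroup_smul.symm, hm, Sylow.coe_subtype]
    exact Subgroup.mem_subgroupOf.mp (h2.le h1)
  have hQ' : Q.map c.toMonoidHom ≠ ⊥ :=
    (Subgroup.map_eq_bot_iff_of_injective _ c.injective).not.mpr hQ1
  have hTR : T ≤ R := le_inf hTS (inf_le_left.trans hPM)
  have hQ'P : Q.map c.toMonoidHom ≤ (P : Subgroup G) := (Subgroup.map_mono (hQT.trans hTR)).trans hmap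
  have hRn : R.map c.toMonoidHom ≤ Subgroup.normalizer ((Q.map c.toMonoidHom : Subgroup G) : Set G) := by
    refine le_trans (Subgroup.map_mono (?_ : R ≤ N)) (Subgroup.le_normalizer_map _)
    exact inf_le_left.trans (Subgroup.map_subtype_le _)
  have hbig := bigger _ hQ'P hQ' (lt_of_lt_of_le (hcardlt R hTR ⟨y, ⟨hyS, hTnorm hyn⟩, hyT⟩)
    ((Subgroup.card_map_of_injective (K := R) (f := c.toMonoidHom) c.injective).symm.le.trans
      (Subgroup.card_le_of_le (le_inf hmap hRn))))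
  intro g hg
  have h2 : c g ∈ Subgroup.normalizer ((Q.map c.toMonoidHom : Subgroup G) : Set G) :=
    Subgroup.le_normalizer_map _ ⟨g, hg, rfl⟩
  have h3 := hbig h2
  rw [hc, MulAut.conj_apply] at h3
  have := M.mul_mem (M.mul_mem (M.inv_mem m.2) h3) m.2
  simpa [mul_assoc] using this

end Cfsg.Agent.S0658
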