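import Cfsg.Statements.S0661
import Cfsg.Agent.Cores.Constrained
import Cfsg.Agent.Coprime.Centralize

set_option autoImplicit false
open Cfsg

namespace Cfsg.Agent.S0661

open Subgroup
open scoped commutatorElement

/-- If, modulo the largest normal subgroup of order prime to p, the largest normal p-subgroup contains its centralizer, then for every p-subgroup P the p'-core of N_G(P) is just O_p'(G) ∩ N_G(P). -/
theorem result {G : Type*} [Group G] [Finite G] {p : ℕ} [Fact p.Prime] (hc : Subgroup.centralizer (Cfsg.pCore p (G ⧸ Cfsg.pPrimeCore p G) : Set (G ⧸ Cfsg.pPrimeCore p G)) ≤ Cfsg.pCore p (G ⧸ Cfsg.pPrimeCore p G)) (P : Subgroup G) (hP : IsPGroup p P) : (Cfsg.pPrimeCore p ↥(Subgroup.normalizer (P : Set G))).map (Subgroup.normalizer (P : Set G)).subtype = Cfsg.pPrimeCore p G ⊓ Subgroup.normalizer (P : Set G) := by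
  set K := Cfsg.pPrimeCore p G with hK
  set N := Subgroup.normalizer (P : Set G) with hN
  apply le_antisymm
  · refine le_inf ?_ (Subgroup.map_subtype_le _)
    set Q := (Cfsg.pPrimeCore p N).map N.subtype with hQ
    have hQc : (Nat.card Q).Coprime p := by
      rw [hQ, Subgroup.card_map_of_injective N.subtype_injective]
      exact Cfsg.Agent.Cores.coprime_card_pPrimeCore
    have hQN : Q ≤ N := Subgroup.map_subtype_le _
    have hQn : ∀ u ∈ N, ∀ q ∈ Q, u * q * u⁻¹ ∈ Q := by
      rintro u hu _ ⟨q, hq, rfl⟩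
      exact ⟨(⟨u, hu⟩ : N) * q * (⟨u, hu⟩ : N)⁻¹, (inferInstance : (Cfsg.pPrimeCore p N).Normal).conj_mem q hq _, rfl⟩
    have hPQ : ∀ x ∈ P, ∀ q ∈ Q, x * q = q * x := by
      intro x hx q hq
      have h1 : x * q * x⁻¹ * q⁻¹ ∈ P ⊓ Q := by
        refine ⟨?_, Q.mul_mem (hQn x (Subgroup.le_normalizer hx) q hq) (Q.inv_mem hq)⟩
        have := P.mul_mem hx ((Subgroup.mem_normalizer_iff.mp (hQN hq) _).mp (P.inv_mem hx))
        simpa [mul_assoc] using this
      rw [Cfsg.Agent.Cores.disjoint_of_isPGroup_of_coprime hP hQc, Subgroup.mem_bot,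
        mul_inv_eq_one, mul_inv_eq_iff_eq_mul] at h1
      exact h1
    set π := QuotientGroup.mk' K with hπ
    set U := Cfsg.pCore p (G ⧸ K) with hU
    have hQ'c : (Nat.card (Q.map π)).Coprime p :=
      Nat.Coprime.coprime_dvd_left (Subgroup.card_map_dvd (H := Q) π) hQc
    have hUp : IsPGroup p U := Cfsg.Agent.Cores.pCore_isPGroup
    have hall : ∀ S : Subgroup (G ⧸ K), S ≤ Subgroup.normalizer (U : Set (G ⧸ K)) := fun S => by
      rw [Subgroup.normalizer_eq_top_iff.mpr (inferInstance : U.Normal)]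
      exact le_top
    have hfix : U ⊓ Subgroup.centralizer ((P.map π : Subgroup (G ⧸ K)) : Set (G ⧸ K)) ≤
        Subgroup.centralizer ((Q.map π : Subgroup (G ⧸ K)) : Set (G ⧸ K)) := by
      rintro v ⟨hv, hvP⟩
      have h1 : v ∈ (Subgroup.centralizer (P : Set G)).map π := by
        have he : (Subgroup.centralizer (P : Set G)).map π =
            Subgroup.centralizer ((P.map π : Subgroup (G ⧸ K)) : Set (G ⧸ K)) :=
          Cfsg.Agent.Cores.map_centralizer_of_coprime _ Cfsg.Agent.Cores.coprime_card_pPrimeCore hP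
        rw [he]
        exact hvP
      obtain ⟨x, hx, rfl⟩ := h1
      rintro _ ⟨q, hq, rfl⟩
      have hxN : x ∈ N := Subgroup.centralizer_le_normalizer _ hx
      have h2 : π (x * q * x⁻¹ * q⁻¹) ∈ U ⊓ Q.map π := by
        refine ⟨?_, ⟨_, Q.mul_mem (hQn x hxN q hq) (Q.inv_mem hq), rfl⟩⟩
        simp only [map_mul, map_inv]
        rw [mul_assoc, mul_assoc, ← mul_assoc (π q)]
        exact U.mul_mem hv ((inferInstance : U.Normal).conj_mem _ (U.inv_mem hv) (π q))
      rw [Cfsg.Agent.Cores.disjoint_of_isPGroup_of_coprime hUp hQ'c, Subgroup.mem_bot,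
        map_mul, map_inv, mul_inv_eq_one, map_mul, map_inv, mul_inv_eq_iff_eq_mul, map_mul] at h2
      exact h2.symm
    have hPQ' : P.map π ≤ Subgroup.centralizer ((Q.map π : Subgroup (G ⧸ K)) : Set (G ⧸ K)) := by
      rintro _ ⟨x, hx, rfl⟩ _ ⟨q, hq, rfl⟩
      rw [← map_mul, ← map_mul, hPQ x hx q hq]
    have hQU := Cfsg.Agent.Coprime.thompson_AxB (hP.map π) hQ'c hPQ' U hUp (hall _) (hall _) hfix
    have hbot : Q.map π = ⊥ := by
      rw [← Cfsg.Agent.Cores.disjoint_of_isPGroup_of_coprime hUp hQ'c, eq_comm, inf_eq_right]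
      exact hQU.trans hc
    rw [Subgroup.map_eq_bot_iff, hπ, QuotientGroup.ker_mk'] at hbot
    exact hbot
  · intro x hx
    refine ⟨⟨x, hx.2⟩, ?_, rfl⟩
    haveI : ((K ⊓ N).subgroupOf N).Normal := by
      rw [Subgroup.inf_subgroupOf_right]
      infer_instance
    refine Cfsg.Agent.Cores.le_pPrimeCore (N := (K ⊓ N).subgroupOf N) ?_ hx
    rw [Nat.card_congr (Subgroup.subgroupOfEquivOfLe inf_le_right).toEquiv]
    exact Nat.Coprime.coprime_dvd_left (Subgroup.card_dvd_of_le inf_le_left)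
      Cfsg.Agent.Cores.coprime_card_pPrimeCore

end Cfsg.Agent.S0661
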