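import Cfsg.Statements.S0662
import Cfsg.Agent.PGroups.MaxClass

set_option autoImplicit false
open Cfsg

namespace Cfsg.Agent.S0662

open Subgroup

/-- A non-cyclic group of order `p ^ 2` has `p + 1` subgroups of order `p`. -/
private theorem card_subgroups_prime {C : Type*} [Group C] [Finite C] {p : ℕ} [hp : Fact p.Prime]
    (hC : Nat.card C = p ^ 2) (hexp : ∀ x : C, x ^ p = 1) :
    Nat.card {K : Subgroup C // Nat.card K = p} = p + 1 := by
  classical
  cases nonempty_fintype C
  let e : (Σ K : {K : Subgroup C // Nat.card K = p}, {x : K.1 // x ≠ 1}) → {x : C // x ≠ 1} :=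
    fun x => ⟨(x.2.1 : C), fun h => x.2.2 (Subtype.ext h)⟩
  have hz : ∀ (K : Subgroup C) (x : C), Nat.card K = p → x ∈ K → x ≠ 1 → K = zpowers x := by
    intro K x hK hx hx1
    refine (eq_of_le_of_card_ge (zpowers_le.mpr hx) ?_).symm
    rw [hK, Nat.card_zpowers, orderOf_eq_prime (hexp x) hx1]
  have he : Function.Bijective e := by
    refine ⟨?_, ?_⟩
    · rintro ⟨⟨K, hK⟩, ⟨x, hx⟩, hx1⟩ ⟨⟨K', hK'⟩, ⟨x', hx'⟩, hx1'⟩ h
      obtain rfl : x = x' := congrArg Subtype.val h
      have hne : x ≠ 1 := fun h => hx1 (Subtype.ext h)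
      obtain rfl : K = K' := (hz K x hK hx hne).trans (hz K' x hK' hx' hne).symm
      rfl
    · rintro ⟨x, hx⟩
      exact ⟨⟨⟨zpowers x, by rw [Nat.card_zpowers, orderOf_eq_prime (hexp x) hx]⟩,
        ⟨⟨x, mem_zpowers x⟩, fun h => hx (congrArg Subtype.val h)⟩⟩, rfl⟩
  have h := Nat.card_congr (Equiv.ofBijective e he)
  rw [Nat.card_sigma] at h
  have hD : ∀ K : {K : Subgroup C // Nat.card K = p}, Nat.card {x : K.1 // x ≠ 1} = p - 1 :=
    fun K => by
      rw [Nat.card_eq_fintype_card, Fintype.card_subtype_compl, ← Nat.card_eq_fintype_card, K.2]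
      simp
  simp only [hD, Finset.sum_const, Finset.card_univ, smul_eq_mul] at h
  rw [Nat.card_eq_fintype_card (α := {x : C // x ≠ 1}), Fintype.card_subtype_compl,
    ← Nat.card_eq_fintype_card (α := C), hC, Fintype.card_subtype_eq,
    ← Nat.card_eq_fintype_card] at h
  have h2 := hp.out.two_le
  obtain ⟨q, rfl⟩ : ∃ q, p = q + 2 := ⟨p - 2, by omega⟩
  have h3 : (q + 2) ^ 2 - 1 = (q + 3) * (q + 1) := by
    have : (q + 2) ^ 2 = (q + 3) * (q + 1) + 1 := by ring
    omega
  rw [h3, show q + 2 - 1 = q + 1 from by omega] at h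
  exact Nat.eq_of_mul_eq_mul_right (Nat.succ_pos q) h

/-- In a p-group of maximal class of order at least p³ the normal subgroups of index at least p² are exactly the terms of the lower central series, and there are exactly p + 1 normal subgroups of index p. -/
theorem result {G : Type*} [Group G] [Finite G] {p : ℕ} [Fact p.Prime] (n : ℕ) (hG : Nat.card G = p ^ n) (hcl : Group.nilpotencyClass G = n - 1) (hn : 3 ≤ n) : (∀ (N : Subgroup G) [N.Normal] (r : ℕ), 2 ≤ r → N.index = p ^ r → N = (⊤ : Subgroup G).lowerCentralSeries (r - 1)) ∧ Nat.card {N : Subgroup G // N.Normal ∧ N.index = p} = p + 1 := by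
  classical
  have hp := (Fact.out : p.Prime)
  have hGp := IsPGroup.of_card hG
  haveI := hGp.isNilpotent
  have hna : Subgroup.center G ≠ ⊤ := fun h => by
    have : Group.nilpotencyClass G ≤ 1 := by
      rw [← Subgroup.upperCentralSeries_eq_top_iff_nilpotencyClass_le, Subgroup.upperCentralSeries_one, h]
    omega
  -- the index of the derived subgroup is at least `p ^ 2`
  have hΦ : Nat.card (frattini G) * p ^ 2 ≤ p ^ n := by
    obtain ⟨a, ha⟩ := IsPGroup.iff_card.mp (hGp.to_quotient (frattini G))
    have ha2 : 2 ≤ a := by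
      by_contra h
      haveI : IsCyclic (G ⧸ frattini G) := by
        rcases Nat.le_one_iff_eq_zero_or_eq_one.mp (by omega : a ≤ 1) with rfl | rfl
        · haveI : Subsingleton (G ⧸ frattini G) :=
            (Nat.card_eq_one_iff_unique.mp (by simpa using ha)).1
          infer_instance
        · exact isCyclic_of_prime_card (p := p) (by simpa using ha)
      haveI : IsCyclic G := PGroups.isCyclic_of_frattini
      exact hna (Subgroup.eq_top_iff' _ |>.mpr fun x => Subgroup.mem_center_iff.mpr fun y => mul_comm' y x)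
    rw [← hG, ← Subgroup.card_mul_index (frattini G), Subgroup.index_eq_card, ha]
    exact Nat.mul_le_mul_left _ (Nat.pow_le_pow_right hp.pos ha2)
  have hfr : (⊤ : Subgroup G).lowerCentralSeries 1 ≤ frattini G := by
    rw [Subgroup.top_lowerCentralSeries_one]; exact PGroups.commutator_le_frattini hGp
  set γ := (⊤ : Subgroup G).lowerCentralSeries with hγ
  have hne : ∀ i, i < n - 1 → γ i ≠ ⊥ := fun i hi h => by
    rw [hγ, Subgroup.lowerCentralSeries_eq_bot_iff_nilpotencyClass_le] at h
    omega
  have hanti : Antitone γ := Subgroup.lowerCentralSeries_antitone _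
  have hstrict : ∀ i, i < n - 1 → Nat.card (γ (i + 1)) * p ≤ Nat.card (γ i) := by
    intro i hi
    obtain ⟨a, ha⟩ := IsPGroup.iff_card.mp (hGp.to_subgroup (γ i))
    obtain ⟨b, hb⟩ := IsPGroup.iff_card.mp (hGp.to_subgroup (γ (i + 1)))
    have hlt : Nat.card (γ (i + 1)) < Nat.card (γ i) := by
      by_contra hc
      have heq : γ (i + 1) = γ i :=
        Subgroup.eq_of_le_of_card_ge (hanti (Nat.le_succ i)) (not_lt.mp hc)
      have hall : ∀ k, γ (i + k) = γ i := by
        intro k
        induction k with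
        | zero => rfl
        | succ k ih => rw [← add_assoc, hγ, Subgroup.lowerCentralSeries_succ, ← hγ, ih]; exact heq
      have h1 := hall (n - 1 - i)
      rw [show i + (n - 1 - i) = n - 1 by omega] at h1
      refine hne i hi (h1 ▸ ?_)
      rw [hγ, Subgroup.lowerCentralSeries_eq_bot_iff_nilpotencyClass_le]
      omega
    rw [ha, hb] at hlt ⊢
    rw [← pow_succ]
    exact Nat.pow_le_pow_right hp.pos ((Nat.pow_lt_pow_iff_right hp.one_lt).mp hlt)
  have down : ∀ j, j + 2 ≤ n → Nat.card (γ (j + 1)) * p ^ (j + 2) ≤ p ^ n := by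
    intro j hj
    induction j with
    | zero => exact le_trans (Nat.mul_le_mul_right _ (Subgroup.card_le_of_le hfr)) hΦ
    | succ j ih =>
      refine le_trans ?_ (ih (by omega))
      rw [pow_succ' p (j + 2), ← mul_assoc]
      exact Nat.mul_le_mul_right _ (hstrict (j + 1) (by omega))
  have up : ∀ j, j ≤ n - 1 → p ^ j ≤ Nat.card (γ (n - 1 - j)) := by
    intro j hj
    induction j with
    | zero => rw [pow_zero]; exact Nat.card_pos
    | succ j ih =>
      have h1 := hstrict (n - 1 - (j + 1)) (by omega)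
      rw [show n - 1 - (j + 1) + 1 = n - 1 - j by omega] at h1
      rw [pow_succ]
      exact le_trans (Nat.mul_le_mul_right _ (ih (by omega))) h1
  have hcard : ∀ r, 2 ≤ r → r ≤ n → Nat.card (γ (r - 1)) = p ^ (n - r) := by
    intro r hr hrn
    refine le_antisymm (Nat.le_of_mul_le_mul_right ?_ (pow_pos hp.pos r)) ?_
    · have := down (r - 2) (by omega)
      rw [show r - 2 + 1 = r - 1 by omega, show r - 2 + 2 = r by omega] at this
      rw [← pow_add, Nat.sub_add_cancel hrn]; exact this
    · have := up (n - r) (by omega)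
      rwa [show n - 1 - (n - r) = r - 1 by omega] at this
  refine ⟨fun N _ r hr hidx => ?_, ?_⟩
  · have hrn : r ≤ n := by
      have h1 := N.index_dvd_card
      rw [hidx, hG, Nat.pow_dvd_pow_iff_le_right hp.one_lt] at h1
      exact h1
    have hle : γ (r - 1) ≤ N := by
      have hQ : Nat.card (G ⧸ N) = p ^ r := by rw [← Subgroup.index_eq_card, hidx]
      haveI := (IsPGroup.of_card hQ).isNilpotent
      have hbot := (Subgroup.lowerCentralSeries_eq_bot_iff_nilpotencyClass_le (G := G ⧸ N)).mpr
        (PGroups.nilpotencyClass_le r (G ⧸ N) hr hQ)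
      have h1 := Subgroup.map_lowerCentralSeries (S := (⊤ : Subgroup G)) (QuotientGroup.mk' N) (r - 1)
      rw [Subgroup.map_top_of_surjective _ (QuotientGroup.mk'_surjective N), hbot,
        Subgroup.map_eq_bot_iff, QuotientGroup.ker_mk'] at h1
      exact h1
    refine (Subgroup.eq_of_le_of_card_ge hle ?_).symm
    rw [hcard r hr hrn]
    have h1 := N.card_mul_index
    rw [hidx, hG, show n = (n - r) + r by omega, pow_add] at h1
    exact (Nat.eq_of_mul_eq_mul_right (pow_pos hp.pos r) h1).le
  · have hc1 : Nat.card (γ 1) = p ^ (n - 2) := hcard 2 le_rfl (by omega)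
    haveI : (γ 1).Normal := by rw [hγ, Subgroup.top_lowerCentralSeries_one]; infer_instance
    have hΦeq : γ 1 = frattini G := by
      refine Subgroup.eq_of_le_of_card_ge hfr (Nat.le_of_mul_le_mul_right ?_ (pow_pos hp.pos 2))
      rw [hc1, ← pow_add, show n - 2 + 2 = n by omega]
      exact hΦ
    have hQ : Nat.card (G ⧸ γ 1) = p ^ 2 := by
      have h1 := (γ 1).card_mul_index
      rw [hc1, hG, show n = (n - 2) + 2 by omega, pow_add, Nat.add_sub_cancel] at h1
      rw [← Subgroup.index_eq_card]
      exact Nat.eq_of_mul_eq_mul_left (pow_pos hp.pos _) h1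
    have hexp : ∀ x : G ⧸ γ 1, x ^ p = 1 := by
      intro x
      induction x using QuotientGroup.induction_on with
      | H g => rw [← QuotientGroup.mk_pow, QuotientGroup.eq_one_iff, hΦeq]; exact PGroups.pow_mem_frattini hGp g
    rw [← card_subgroups_prime hQ hexp]
    have hidxK : ∀ K : Subgroup (G ⧸ γ 1), Nat.card K = p ↔ K.index = p := by
      intro K
      have h1 := K.card_mul_index
      rw [hQ, sq] at h1
      constructor <;> intro h <;> rw [h] at h1
      · exact Nat.eq_of_mul_eq_mul_left hp.pos h1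
      · exact Nat.eq_of_mul_eq_mul_right hp.pos h1
    have hker : ∀ N : Subgroup G, N.Normal → N.index = p → γ 1 ≤ N := fun N hN hi => by
      rw [hγ, Subgroup.top_lowerCentralSeries_one]
      exact PGroups.commutator_le_of_index_dvd_sq (p := p) N (by rw [hi]; exact dvd_pow_self p two_ne_zero)
    symm
    refine Nat.card_congr (Equiv.ofBijective (fun K => ⟨K.1.comap (QuotientGroup.mk' (γ 1)), ?_, ?_⟩)
      ⟨?_, ?_⟩)
    · exact PGroups.normal_of_index_eq hGp (by
        rw [Subgroup.index_comap_of_surjective _ (QuotientGroup.mk'_surjective _)]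
        exact (hidxK K.1).mp K.2)
    · rw [Subgroup.index_comap_of_surjective _ (QuotientGroup.mk'_surjective _)]
      exact (hidxK K.1).mp K.2
    · intro K K' h
      exact Subtype.ext (Subgroup.comap_injective (QuotientGroup.mk'_surjective _) (congrArg Subtype.val h))
    · rintro ⟨N, hN, hi⟩
      have hk : (QuotientGroup.mk' (γ 1)).ker ≤ N := by rw [QuotientGroup.ker_mk']; exact hker N hN hi
      refine ⟨⟨N.map (QuotientGroup.mk' (γ 1)), (hidxK _).mpr ?_⟩, Subtype.ext (Subgroup.comap_map_eq_self hk)⟩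
      rw [Subgroup.index_map_eq _ (QuotientGroup.mk'_surjective _) hk, hi]

end Cfsg.Agent.S0662
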