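import Cfsg.Statements.S0663

set_option autoImplicit false
open Cfsg

namespace Cfsg.Agent.S0663

section Uniserial

open Subgroup
open scoped commutatorElement

variable {L : Type*} [Group L] [Finite L] {p : ℕ} [Fact p.Prime]

/-- A subgroup of a `p`-group equal to its commutator with another one is trivial. -/
private theorem eq_bot_of_commutator_eq {P H Q : Subgroup L} (hP : IsPGroup p P) (hH : H ≤ P)
    (hQ : Q ≤ P) (h : ⁅H, Q⁆ = H) : H = ⊥ := by
  haveI := hP.isNilpotent
  have key : ∀ k, H ≤ Subgroup.map P.subtype ((⊤ : Subgroup P).lowerCentralSeries k) := by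
    intro k
    induction k with
    | zero => rw [Subgroup.lowerCentralSeries_zero, ← MonoidHom.range_eq_map, Subgroup.range_subtype]; exact hH
    | succ k ih =>
      rw [Subgroup.lowerCentralSeries_succ, Subgroup.map_commutator, ← MonoidHom.range_eq_map,
        Subgroup.range_subtype]
      calc H = ⁅H, Q⁆ := h.symm
        _ ≤ _ := commutator_mono ih hQ
  have := key (Group.nilpotencyClass P)
  rwa [Subgroup.lowerCentralSeries_nilpotencyClass, Subgroup.map_bot, le_bot_iff] at this

/-- An invariant subgroup properly contains its commutator with the acting group. -/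
private theorem card_commutator_mul_le {P H Q : Subgroup L} (hP : IsPGroup p P) (hH : H ≤ P)
    (hQ : Q ≤ P) (hn : Q ≤ normalizer (H : Set L)) (hne : H ≠ ⊥) :
    Nat.card (⁅H, Q⁆ : Subgroup L) * p ≤ Nat.card H := by
  have hle : ⁅H, Q⁆ ≤ H := le_normalizer_iff_commutator_le_left.mp hn
  have hlt : ⁅H, Q⁆ ≠ H := fun h => hne (eq_bot_of_commutator_eq hP hH hQ h)
  obtain ⟨a, ha⟩ := IsPGroup.iff_card.mp (hP.to_le hH)
  obtain ⟨b, hb⟩ := IsPGroup.iff_card.mp (hP.to_le (hle.trans hH))
  have hlt' : Nat.card (⁅H, Q⁆ : Subgroup L) < Nat.card H := by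
    by_contra hc
    exact hlt (eq_of_le_of_card_ge hle (not_lt.mp hc))
  rw [ha, hb] at hlt' ⊢
  have hba : b < a := (Nat.pow_lt_pow_iff_right (Fact.out : p.Prime).one_lt).mp hlt'
  rw [← pow_succ]
  exact Nat.pow_le_pow_right (Fact.out : p.Prime).pos hba

variable {N Q P : Subgroup L}

private theorem chain_props (hNP : N ≤ P) (hQn : Q ≤ normalizer (N : Set L)) :
    ∀ i, Cfsg.iterCommutator N Q i ≤ N ∧ Q ≤ normalizer (Cfsg.iterCommutator N Q i : Set L) ∧
      Cfsg.iterCommutator N Q i ≤ P ∧ Cfsg.iterCommutator N Q (i + 1) ≤ Cfsg.iterCommutator N Q i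
  | 0 => ⟨le_rfl, hQn, hNP, le_normalizer_iff_commutator_le_left.mp hQn⟩
  | i + 1 => by
    obtain ⟨h1, h2, h3, h4⟩ := chain_props hNP hQn i
    have hn : Q ≤ normalizer (Cfsg.iterCommutator N Q (i + 1) : Set L) :=
      normalizer_commutator_ge_right _ _
    exact ⟨h4.trans h1, hn, h4.trans h3, le_normalizer_iff_commutator_le_left.mp hn⟩

private theorem chain_card (hP : IsPGroup p P) (hNP : N ≤ P) (hQ : Q ≤ P)
    (hQn : Q ≤ normalizer (N : Set L)) {n : ℕ} (hn : Nat.card N = p ^ n)
    (hlast : n = 0 ∨ Cfsg.iterCommutator N Q (n - 1) ≠ ⊥) :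
    ∀ i ≤ n, Nat.card (Cfsg.iterCommutator N Q i) = p ^ (n - i) := by
  rcases Nat.eq_zero_or_pos n with rfl | hn0
  · intro i hi
    rw [Nat.le_zero.mp hi]
    exact hn
  have hlast' : Cfsg.iterCommutator N Q (n - 1) ≠ ⊥ := hlast.resolve_left (by omega)
  have anti : Antitone (Cfsg.iterCommutator N Q) :=
    antitone_nat_of_succ_le fun i => (chain_props hNP hQn i).2.2.2
  have hne : ∀ i ≤ n - 1, Cfsg.iterCommutator N Q i ≠ ⊥ := fun i hi h =>
    hlast' (le_bot_iff.mp (h ▸ anti hi))
  have step : ∀ i ≤ n - 1, Nat.card (Cfsg.iterCommutator N Q (i + 1)) * p ≤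
      Nat.card (Cfsg.iterCommutator N Q i) := fun i hi =>
    card_commutator_mul_le hP (chain_props hNP hQn i).2.2.1 hQ (chain_props hNP hQn i).2.1 (hne i hi)
  have hp1 : 0 < p := (Fact.out : p.Prime).pos
  have down : ∀ i ≤ n, Nat.card (Cfsg.iterCommutator N Q i) * p ^ i ≤ p ^ n := by
    intro i hi
    induction i with
    | zero => rw [pow_zero, mul_one, ← hn]; exact le_rfl
    | succ i ih =>
      refine le_trans ?_ (ih (by omega))
      rw [pow_succ', ← mul_assoc]
      exact Nat.mul_le_mul_right _ (step i (by omega))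
  have up : ∀ j ≤ n, p ^ j ≤ Nat.card (Cfsg.iterCommutator N Q (n - j)) := by
    intro j hj
    induction j with
    | zero => rw [pow_zero]; exact Nat.card_pos
    | succ j ih =>
      have h1 := step (n - (j + 1)) (by omega)
      rw [show n - (j + 1) + 1 = n - j by omega] at h1
      rw [pow_succ]
      exact le_trans (Nat.mul_le_mul_right _ (ih (by omega))) h1
  intro i hi
  refine le_antisymm (Nat.le_of_mul_le_mul_right ?_ (pow_pos hp1 i)) ?_
  · rw [← pow_add, Nat.sub_add_cancel hi]; exact down i hi
  · have := up (n - i) (Nat.sub_le n i)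
    rwa [Nat.sub_sub_self hi] at this

end Uniserial

/-- A p-group acts uniserially on a p-group N of order p^n exactly when the iterated commutator chain from N has length n; in that case the chain terms are all the invariant subgroups of N and they are normal in N. -/
theorem result {L : Type*} [Group L] [Finite L] {p : ℕ} [Fact p.Prime] (N G : Subgroup L) (hN : IsPGroup p N) (hG : IsPGroup p G) (hGN : G ≤ Subgroup.normalizer (N : Set L)) (n : ℕ) (hn : Nat.card N = p ^ n) : ((∀ H : Subgroup L, H ≤ N → G ≤ Subgroup.normalizer (H : Set L) → H ≠ ⊥ → (⁅H, G⁆).relIndex H = p) ↔ Cfsg.iterCommutator N G (n - 1) ≠ ⊥ ∨ n = 0) ∧ ((∀ H : Subgroup L, H ≤ N → G ≤ Subgroup.normalizer (H : Set L) → H ≠ ⊥ → (⁅H, G⁆).relIndex H = p) → ∀ H : Subgroup L, H ≤ N → G ≤ Subgroup.normalizer (H : Set L) → (∃ i ≤ n, H = Cfsg.iterCommutator N G i) ∧ N ≤ Subgroup.normalizer (H : Set L)) := by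
  open Subgroup in
  open scoped commutatorElement in
  have main : ((∀ H : Subgroup L, H ≤ N → G ≤ Subgroup.normalizer (H : Set L) → H ≠ ⊥ →
      (⁅H, G⁆).relIndex H = p) → (Cfsg.iterCommutator N G (n - 1) ≠ ⊥ ∨ n = 0)) ∧
      ((Cfsg.iterCommutator N G (n - 1) ≠ ⊥ ∨ n = 0) → ∀ H : Subgroup L, H ≤ N →
        G ≤ Subgroup.normalizer (H : Set L) →
        (∃ i ≤ n, H = Cfsg.iterCommutator N G i) ∧ N ≤ Subgroup.normalizer (H : Set L) ∧
          (H ≠ ⊥ → (⁅H, G⁆).relIndex H = p)) := by
    have hp := (Fact.out : p.Prime)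
    have hP : IsPGroup p (N ⊔ G : Subgroup L) := IsPGroup.to_sup_of_normal_left' hN hG hGN
    have props := chain_props (P := N ⊔ G) le_sup_left hGN
    have anti : Antitone (Cfsg.iterCommutator N G) :=
      antitone_nat_of_succ_le fun i => (props i).2.2.2
    refine ⟨fun hU => ?_, fun hlast => ?_⟩
    · by_cases hn0 : n = 0
      · exact Or.inr hn0
      refine Or.inl ?_
      have hc : ∀ i ≤ n, Nat.card (Cfsg.iterCommutator N G i) = p ^ (n - i) := by
        intro i hi
        induction i with
        | zero => exact hn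
        | succ i ih =>
          have hi' := ih (by omega)
          have hne : Cfsg.iterCommutator N G i ≠ ⊥ := fun h => by
            have h2 : 1 < p ^ (n - i) := Nat.one_lt_pow (by omega) hp.one_lt
            rw [← hi', h, Subgroup.card_bot] at h2
            exact absurd h2 (lt_irrefl _)
          have h1 := hU _ (props i).1 (props i).2.1 hne
          have h2 : Nat.card (Cfsg.iterCommutator N G (i + 1)) *
              (Cfsg.iterCommutator N G (i + 1)).relIndex (Cfsg.iterCommutator N G i) =
              Nat.card (Cfsg.iterCommutator N G i) := by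
            rw [← Subgroup.relIndex_bot_left, ← Subgroup.relIndex_bot_left]
            exact Subgroup.relIndex_mul_relIndex ⊥ _ _ bot_le (props i).2.2.2
          change ⁅Cfsg.iterCommutator N G i, G⁆.relIndex _ = p at h1
          have h1' : (Cfsg.iterCommutator N G (i + 1)).relIndex (Cfsg.iterCommutator N G i) = p := h1
          rw [h1', hi', show n - i = (n - (i + 1)) + 1 by omega, pow_succ] at h2
          exact Nat.eq_of_mul_eq_mul_right hp.pos h2
      intro h
      have h2 := hc (n - 1) (by omega)
      rw [h, Subgroup.card_bot, show n - (n - 1) = 1 by omega, pow_one] at h2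
      exact hp.ne_one h2.symm
    have hlast' := hlast.symm
    have hc := chain_card hP le_sup_left le_sup_right hGN hn hlast'
    -- the chain of the big group is the same
    have hPn : N ⊔ G ≤ normalizer (N : Set L) := sup_le le_normalizer hGN
    have propsD := chain_props (P := N ⊔ G) le_sup_left hPn
    have hle : ∀ i, Cfsg.iterCommutator N G i ≤ Cfsg.iterCommutator N (N ⊔ G) i := by
      intro i
      induction i with
      | zero => exact le_rfl
      | succ i ih => exact commutator_mono ih le_sup_right
    have hcD := chain_card hP le_sup_left le_rfl hPn hn (hlast'.imp id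
      fun h h' => h (le_bot_iff.mp (h' ▸ hle (n - 1))))
    have hNn : ∀ i ≤ n, N ≤ normalizer (Cfsg.iterCommutator N G i : Set L) := by
      intro i hi
      rw [eq_of_le_of_card_ge (hle i) (by rw [hc i hi, hcD i hi])]
      exact le_sup_left.trans (propsD i).2.1
    have hbot : Cfsg.iterCommutator N G n = ⊥ := by
      rw [← Subgroup.card_eq_one, hc n le_rfl, Nat.sub_self, pow_zero]
    have hall : ∀ H : Subgroup L, H ≤ N → G ≤ normalizer (H : Set L) →
        ∃ i ≤ n, H = Cfsg.iterCommutator N G i := by
      classical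
      intro H hHN hHn
      have hex : ∃ i, H ≤ Cfsg.iterCommutator N G i ∧ (i = n ∨ ¬H ≤ Cfsg.iterCommutator N G (i + 1)) := by
        by_cases hb : H ≤ Cfsg.iterCommutator N G n
        · exact ⟨n, hb, Or.inl rfl⟩
        · have hex' : ∃ i, ¬H ≤ Cfsg.iterCommutator N G i := ⟨n, hb⟩
          have h1 := Nat.find_spec hex'
          rcases h2 : Nat.find hex' with _ | i
          · rw [h2] at h1; exact absurd hHN h1
          · rw [h2] at h1
            exact ⟨i, not_not.mp (Nat.find_min hex' (by omega)), Or.inr h1⟩
      obtain ⟨i, hHi, hi'⟩ := hex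
      by_cases hin : n ≤ i
      · refine ⟨n, le_rfl, ?_⟩
        rw [hbot, ← le_bot_iff, ← hbot]
        exact hHi.trans (anti hin)
      have hnot := hi'.resolve_left (by omega)
      refine ⟨i, by omega, le_antisymm hHi ?_⟩
      -- every chain term below is absorbed
      have hmem : ∀ j, i ≤ j → j < n →
          Cfsg.iterCommutator N G j ≤ H ⊔ Cfsg.iterCommutator N G (j + 1) := by
        intro j hij hjn
        induction j, hij using Nat.le_induction with
        | base =>
          set K := H ⊔ Cfsg.iterCommutator N G (i + 1) with hK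
          have hKle : K ≤ Cfsg.iterCommutator N G i := sup_le hHi (props i).2.2.2
          refine le_of_eq (eq_of_le_of_card_ge hKle ?_).symm
          obtain ⟨a, ha⟩ := IsPGroup.iff_card.mp (hP.to_le (hKle.trans (props i).2.2.1))
          have hgt : Nat.card (Cfsg.iterCommutator N G (i + 1)) < Nat.card K := by
            by_contra hc'
            have := eq_of_le_of_card_ge (le_sup_right : Cfsg.iterCommutator N G (i + 1) ≤ K)
              (not_lt.mp hc')
            exact hnot (this ▸ le_sup_left)
          rw [ha, hc (i + 1) (by omega), Nat.pow_lt_pow_iff_right hp.one_lt] at hgt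
          rw [ha, hc i (by omega)]
          exact Nat.pow_le_pow_right hp.pos (by omega)
        | succ j hij ih =>
          have ih' := ih (by omega)
          have hHC : ∀ k ≤ n, H ≤ normalizer (Cfsg.iterCommutator N G k : Set L) :=
            fun k hk => hHN.trans (hNn k hk)
          change ⁅Cfsg.iterCommutator N G j, G⁆ ≤ _
          rw [commutator_le]
          intro c hc' g hg
          have hc2 := ih' hc'
          rw [← SetLike.mem_coe, coe_mul_of_left_le_normalizer_right _ _ (hHC (j + 1) (by omega))] at hc2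
          obtain ⟨x, hx, y, hy, rfl⟩ := hc2
          have e : ⁅x * y, g⁆ = (x * ⁅y, g⁆ * x⁻¹) * ⁅x, g⁆ := by
            simp only [commutatorElement_def]; group
          rw [e]
          refine mul_mem (mem_sup_right ?_) (mem_sup_left ?_)
          · exact (mem_normalizer_iff.mp (hHC (j + 1 + 1) (by omega) hx) _).mp
              (commutator_mem_commutator hy hg)
          · exact le_normalizer_iff_commutator_le_left.mp hHn (commutator_mem_commutator hx hg)
      have habs : ∀ j, i ≤ j → j ≤ n →
          Cfsg.iterCommutator N G i ≤ H ⊔ Cfsg.iterCommutator N G j := by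
        intro j hij hjn
        induction j, hij using Nat.le_induction with
        | base => exact le_sup_right
        | succ j hij ih => exact (ih (by omega)).trans (sup_le le_sup_left (hmem j hij (by omega)))
      have h1 := habs n (by omega) le_rfl
      rwa [hbot, sup_bot_eq] at h1
    intro H hHN hHn
    obtain ⟨i, hi, rfl⟩ := hall H hHN hHn
    refine ⟨⟨i, hi, rfl⟩, hNn i hi, fun hne => ?_⟩
    have hin : i < n := lt_of_le_of_ne hi fun h => hne (h ▸ hbot)
    change (Cfsg.iterCommutator N G (i + 1)).relIndex (Cfsg.iterCommutator N G i) = p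
    have h2 : Nat.card (Cfsg.iterCommutator N G (i + 1)) *
        (Cfsg.iterCommutator N G (i + 1)).relIndex (Cfsg.iterCommutator N G i) =
        Nat.card (Cfsg.iterCommutator N G i) := by
      rw [← Subgroup.relIndex_bot_left, ← Subgroup.relIndex_bot_left]
      exact Subgroup.relIndex_mul_relIndex ⊥ _ _ bot_le (props i).2.2.2
    rw [hc (i + 1) (by omega), hc i (by omega), show n - i = (n - (i + 1)) + 1 by omega, pow_succ] at h2
    exact Nat.eq_of_mul_eq_mul_left (pow_pos hp.pos _) h2
  exact ⟨⟨main.1, fun h H h1 h2 h3 => (main.2 h H h1 h2).2.2 h3⟩, fun hU H h1 h2 =>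
    ⟨(main.2 (main.1 hU) H h1 h2).1, (main.2 (main.1 hU) H h1 h2).2.1⟩⟩

end Cfsg.Agent.S0663
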