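import Cfsg.Statements.S0666
import Cfsg.Agent.Frobenius.KernelTheorem

set_option autoImplicit false
open Cfsg

namespace Cfsg.Agent.S0666

open Pointwise

/-- If the kernel of a Frobenius group has no fixed point on a coprime module, a complement has one. -/
private theorem exists_fixed {F : Type*} [Group F] [Finite F] {V : Type*} [CommGroup V] [Finite V]
    (c : F →* MulAut V) {H : Subgroup F} (hH : Cfsg.IsFrobeniusComplement H)
    (hcop : (Nat.card V).Coprime (Nat.card (Cfsg.frobeniusKernel H)))
    (hK : ∀ v, (∀ k ∈ Cfsg.frobeniusKernel H, c k v = v) → v = 1)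
    (hfix : ∀ v, (∀ h ∈ H, c h v = v) → v = 1) (v : V) : v = 1 := by
  classical
  cases nonempty_fintype F
  set K := Frobenius.kernel hH with hKdef
  have hKc : (K : Set F) = Cfsg.frobeniusKernel H := Frobenius.coe_kernel hH
  haveI := Frobenius.kernel_normal hH
  have hcompl : Subgroup.IsComplement' K H := Frobenius.kernel_isComplement hH
  have hdisj : ∀ x, x ∈ K → x ∈ H → x = 1 := fun x hx hx' =>
    Subgroup.disjoint_def.mp hcompl.disjoint hx hx'
  have hA : ∏ f : F, c f v = 1 := by
    refine hK _ fun k _ => ?_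
    rw [map_prod]
    exact Fintype.prod_bijective _ (Group.mulLeft_bijective k) _ _ fun f => by simp
  have hPK : ∏ f : K, c f v = 1 := by
    refine hK _ fun k hk => ?_
    rw [map_prod]
    have hk' : k ∈ K := by rw [← SetLike.mem_coe, hKc]; exact hk
    exact Fintype.prod_bijective _ (Group.mulLeft_bijective (⟨k, hk'⟩ : K)) _ _ fun f => by simp
  have hPH : ∀ w, ∏ h : H, c h w = 1 := fun w => by
    refine hfix _ fun k hk => ?_
    rw [map_prod]
    exact Fintype.prod_bijective _ (Group.mulLeft_bijective (⟨k, hk⟩ : H)) _ _ fun f => by simp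
  have hPk : ∀ k : K, ∏ h : {h : H // h ≠ 1}, c ((k : F) * (h.1 : F) * (k : F)⁻¹) v = v⁻¹ := by
    intro k
    have h0 : ∏ h : H, c ((k : F) * (h : F) * (k : F)⁻¹) v = 1 := by
      simp only [map_mul, MulAut.mul_apply]
      rw [← map_prod, hPH, map_one]
    rw [← Finset.mul_prod_erase _ _ (Finset.mem_univ (1 : H))] at h0
    simp only [OneMemClass.coe_one, mul_one, mul_inv_cancel, map_one, MulAut.one_apply] at h0
    have h2 : ∏ h : {h : H // h ≠ 1}, c ((k : F) * (h.1 : F) * (k : F)⁻¹) v =
        ∏ h ∈ Finset.univ.erase (1 : H), c ((k : F) * (h : F) * (k : F)⁻¹) v :=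
      (Finset.prod_subtype (p := fun h : H => h ≠ 1) (Finset.univ.erase 1) (fun x => by simp)
        (fun h : H => c ((k : F) * (h : F) * (k : F)⁻¹) v)).symm
    rw [h2]
    exact eq_inv_of_mul_eq_one_right h0
  let e : K × {h : H // h ≠ 1} → {f : F // f ∉ K} := fun x =>
    ⟨(x.1 : F) * (x.2.1 : F) * (x.1 : F)⁻¹, fun hm => x.2.2 <| Subtype.ext <| hdisj _ (by
      have := K.mul_mem (K.mul_mem (K.inv_mem x.1.2) hm) x.1.2
      simpa [mul_assoc] using this) x.2.1.2⟩
  have he : Function.Bijective e := by
    refine ⟨?_, ?_⟩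
    · rintro ⟨k, h, hh⟩ ⟨k', h', hh'⟩ he
      have he' := congrArg Subtype.val he
      simp only [e] at he'
      have hkk : (k : F)⁻¹ * k' ∈ H := by
        refine Frobenius.mem_of_conj_mem hH h.2 (fun a => hh (Subtype.ext a)) ?_
        have : ((k : F)⁻¹ * k')⁻¹ * h * ((k : F)⁻¹ * k') = h' := by
          calc ((k : F)⁻¹ * k')⁻¹ * h * ((k : F)⁻¹ * k')
              = (k' : F)⁻¹ * ((k : F) * h * (k : F)⁻¹) * k' := by group
            _ = (h' : F) := by rw [he']; group
        rw [this]; exact h'.2
      have h1 := hdisj _ (K.mul_mem (K.inv_mem k.2) k'.2) hkk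
      have hk' : k = k' := Subtype.ext (inv_mul_eq_one.mp h1)
      subst hk'
      have h3 : h = h' := Subtype.ext (by simpa using he')
      subst h3
      rfl
    · rintro ⟨f, hf⟩
      have hf' : f ∉ Cfsg.frobeniusKernel H := by rw [← hKc]; exact hf
      simp only [Cfsg.frobeniusKernel, Set.mem_setOf_eq, not_or, not_forall, not_not] at hf'
      obtain ⟨hf1, g, hg⟩ := hf'
      rw [Frobenius.mem_conj_iff] at hg
      obtain ⟨⟨⟨k, hk⟩, ⟨h0, hh0⟩⟩, hkh, -⟩ := hcompl.existsUnique g
      have hm : k⁻¹ * f * k ∈ H := by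
        have := H.mul_mem (H.mul_mem hh0 hg) (H.inv_mem hh0)
        convert this using 1
        simp only at hkh
        rw [← hkh]; group
      refine ⟨(⟨k, hk⟩, ⟨⟨_, hm⟩, fun a => hf1 ?_⟩), Subtype.ext (by simp [e, mul_assoc])⟩
      have := congrArg Subtype.val a
      simp only [OneMemClass.coe_one] at this
      calc f = k * (k⁻¹ * f * k) * k⁻¹ := by group
        _ = 1 := by rw [this]; group
  have hsplit := Fintype.prod_subtype_mul_prod_subtype (fun f : F => f ∈ K) (fun f : F => c f v)
  rw [hA, ← Fintype.prod_bijective e he _ (fun f => c (f : F) v) (fun _ => rfl),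
    Fintype.prod_prod_type] at hsplit
  simp only [hPk, Finset.prod_const, Finset.card_univ, e] at hsplit
  have hPK' : ∏ f : {f : F // f ∈ K}, c (f : F) v = 1 := hPK
  rw [hPK', one_mul, inv_pow, inv_eq_one] at hsplit
  have hcard : (Nat.card V).Coprime (Fintype.card K) := by
    rw [← Nat.card_eq_fintype_card]
    have : Nat.card K = Nat.card (Cfsg.frobeniusKernel H) := by rw [← hKc]; rfl
    rw [this]; exact hcop
  exact (Nat.Coprime.pow_left_bijective hcard).1 (by simpa using hsplit)

/-- A Frobenius group acting on a nontrivial abelian group of order prime to that of its kernel, with the kernel acting without nontrivial fixed points, has a complement with a nontrivial fixed point. -/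
theorem result {G : Type*} [Group G] [Finite G] (V F : Subgroup G) (hVab : IsMulCommutative V) (hV1 : V ≠ ⊥) (hFV : F ≤ Subgroup.normalizer (V : Set G)) (H : Subgroup ↥F) (hH : Cfsg.IsFrobeniusComplement H) (hcop : (Nat.card V).Coprime (Nat.card (Cfsg.frobeniusKernel H))) (hCK : V ⊓ Subgroup.centralizer (Subtype.val '' Cfsg.frobeniusKernel H : Set G) = ⊥) : V ⊓ Subgroup.centralizer ((H.map F.subtype : Subgroup G) : Set G) ≠ ⊥ := by
  intro hbot
  haveI := hVab
  letI : CommGroup V := { (inferInstance : Group V) with mul_comm := fun a b => mul_comm' a b }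
  let c : F →* MulAut V :=
    { toFun := fun f => MulEquiv.mk
        { toFun := fun v => ⟨(f : G) * v * (f : G)⁻¹,
            (Subgroup.mem_normalizer_iff.mp (hFV f.2) v).mp v.2⟩
          invFun := fun v => ⟨(f : G)⁻¹ * v * (f : G),
            (Subgroup.mem_normalizer_iff''.mp (hFV f.2) v).mp v.2⟩
          left_inv := fun v => Subtype.ext (by simp [mul_assoc])
          right_inv := fun v => Subtype.ext (by simp [mul_assoc]) }
        (fun v w => Subtype.ext (by simp [mul_assoc]))
      map_one' := by ext v; simp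
      map_mul' := fun f g => by ext v; simp [mul_assoc] }
  refine hV1 (Subgroup.eq_bot_iff_forall _ |>.mpr fun x hx => ?_)
  have key := exists_fixed c hH hcop ?_ ?_ (⟨x, hx⟩ : V)
  · exact congrArg Subtype.val key
  · intro v hv
    apply Subtype.ext
    have : (v : G) ∈ V ⊓ Subgroup.centralizer (Subtype.val '' Cfsg.frobeniusKernel H : Set G) := by
      refine ⟨v.2, ?_⟩
      rintro _ ⟨k, hk, rfl⟩
      have := congrArg Subtype.val (hv k hk)
      simp only [c] at this
      exact eq_mul_inv_iff_mul_eq.mp this.symm |>.symm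
    rw [hCK] at this
    exact Subgroup.mem_bot.mp this
  · intro v hv
    apply Subtype.ext
    have : (v : G) ∈ V ⊓ Subgroup.centralizer ((H.map F.subtype : Subgroup G) : Set G) := by
      refine ⟨v.2, ?_⟩
      rintro _ ⟨k, hk, rfl⟩
      have := congrArg Subtype.val (hv k hk)
      simp only [c] at this
      exact eq_mul_inv_iff_mul_eq.mp this.symm |>.symm
    rw [hbot] at this
    exact Subgroup.mem_bot.mp this

end Cfsg.Agent.S0666
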