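import Cfsg.Statements.S0668
import Mathlib

set_option autoImplicit false
open Cfsg

namespace Cfsg.Agent.S0668

/-- The equivariant linear maps between the permutation modules of two finite `G`-sets form a space whose dimension is the number of `G`-orbits on the product of the two sets. -/
theorem result {G : Type*} [Group G] {K : Type*} [Field K] {Ω₁ Ω₂ : Type*} [Fintype Ω₁] [Fintype Ω₂] [MulAction G Ω₁] [MulAction G Ω₂] : Module.finrank K ((Cfsg.permRep K G Ω₁).linHom (Cfsg.permRep K G Ω₂)).invariants = Nat.card (MulAction.orbitRel.Quotient G (Ω₁ × Ω₂)) := by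
  classical
  haveI : Fintype (MulAction.orbitRel.Quotient G (Ω₁ × Ω₂)) := Fintype.ofFinite _
  let ρ := (Cfsg.permRep K G Ω₁).linHom (Cfsg.permRep K G Ω₂)
  have hδ : ∀ (g : G) (x : Ω₁), Cfsg.permRep K G Ω₁ g (Pi.single x 1) = Pi.single (g • x) 1 := by
    intro g x
    funext z
    show (Pi.single x 1 : Ω₁ → K) (g⁻¹ • z) = _
    simp [Pi.single_apply, inv_smul_eq_iff]
  have hinv : ∀ f ∈ ρ.invariants, ∀ (g : G) (v : Ω₁ → K),
      f (Cfsg.permRep K G Ω₁ g v) = Cfsg.permRep K G Ω₂ g (f v) := by
    intro f hf g v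
    exact ((Representation.mem_linHom_invariants_iff_isIntertwining f).mp hf).isIntertwining g v
  let toF : ρ.invariants → (MulAction.orbitRel.Quotient G (Ω₁ × Ω₂)) → K := fun f =>
    Quotient.lift (fun z : Ω₁ × Ω₂ => (f : (Ω₁ → K) →ₗ[K] (Ω₂ → K)) (Pi.single z.1 1) z.2) (by
      rintro z w ⟨g, rfl⟩
      show (f : (Ω₁ → K) →ₗ[K] (Ω₂ → K)) (Pi.single (g • w.1) 1) (g • w.2) = _
      rw [← hδ, hinv f f.2]
      show (f : (Ω₁ → K) →ₗ[K] (Ω₂ → K)) (Pi.single w.1 1) (g⁻¹ • g • w.2) = _
      rw [inv_smul_smul])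
  have hval : ∀ (f : ρ.invariants) (x : Ω₁) (y : Ω₂),
      toF f (Quotient.mk _ (x, y)) = (f : (Ω₁ → K) →ₗ[K] (Ω₂ → K)) (Pi.single x 1) y :=
    fun f x y => rfl
  let L : ρ.invariants →ₗ[K] (MulAction.orbitRel.Quotient G (Ω₁ × Ω₂) → K) :=
    { toFun := toF
      map_add' := fun f₁ f₂ => by funext q; induction q using Quotient.inductionOn; rfl
      map_smul' := fun c f => by funext q; induction q using Quotient.inductionOn; rfl }
  have hL : Function.Bijective L := by
    constructor
    · intro f₁ f₂ e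
      apply Subtype.ext
      refine (Pi.basisFun K Ω₁).ext fun x => ?_
      rw [Pi.basisFun_apply]
      funext y
      exact congrFun e (Quotient.mk _ (x, y))
    · intro m
      let F : (Ω₁ → K) →ₗ[K] (Ω₂ → K) :=
        { toFun := fun v y => ∑ x, v x * m (Quotient.mk _ (x, y))
          map_add' := fun u v => by funext y; simp [add_mul, Finset.sum_add_distrib]
          map_smul' := fun c v => by funext y; simp [Finset.mul_sum, mul_assoc] }
      have hF : F ∈ ρ.invariants := by
        refine (Representation.mem_linHom_invariants_iff_isIntertwining F).mpr ?_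
        refine ⟨fun g v => ?_⟩
        funext y
        show ∑ x, v (g⁻¹ • x) * m (Quotient.mk _ (x, y)) = ∑ x, v x * m (Quotient.mk _ (x, g⁻¹ • y))
        refine Fintype.sum_equiv (MulAction.toPerm g⁻¹) _ _ fun x => ?_
        congr 2
        exact Quotient.sound ⟨g, by simp⟩
      refine ⟨⟨F, hF⟩, ?_⟩
      funext q
      induction q using Quotient.inductionOn with
      | h z =>
        show ∑ x, (Pi.single z.1 1 : Ω₁ → K) x * m (Quotient.mk _ (x, z.2)) = _
        simp [Pi.single_apply]
  rw [(LinearEquiv.ofBijective L hL).finrank_eq, Module.finrank_fintype_fun_eq_card,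
    Nat.card_eq_fintype_card]

end Cfsg.Agent.S0668
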