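import Cfsg.Statements.S0669

set_option autoImplicit false
open Cfsg

namespace Cfsg.Agent.S0669

/-- The rank of a transitive action: orbits on ordered pairs correspond to orbits of a point stabiliser. -/
theorem result {G : Type*} [Group G] {Ω : Type*} [Finite Ω] [MulAction G Ω] [MulAction.IsPretransitive G Ω] (a : Ω) : Nat.card (MulAction.orbitRel.Quotient G (Ω × Ω)) = Nat.card (MulAction.orbitRel.Quotient (MulAction.stabilizer G a) Ω) := by
  symm
  refine Nat.card_eq_of_bijective (Quotient.map (fun y => (a, y)) ?_) ⟨?_, ?_⟩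
  · rintro x y ⟨⟨h, hh⟩, rfl⟩
    exact ⟨h, Prod.ext hh rfl⟩
  · rintro ⟨x⟩ ⟨y⟩ e
    obtain ⟨h, hh⟩ := Quotient.exact e
    have h1 : h • a = a := congrArg Prod.fst hh
    exact Quotient.sound ⟨⟨h, h1⟩, congrArg Prod.snd hh⟩
  · rintro ⟨x, y⟩
    obtain ⟨g, hg⟩ := MulAction.exists_smul_eq G x a
    exact ⟨Quotient.mk _ (g • y), Quotient.sound ⟨g, Prod.ext hg rfl⟩⟩

end Cfsg.Agent.S0669
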