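import Cfsg.Statements.S0670
import Mathlib

set_option autoImplicit false
open Cfsg

namespace Cfsg.Agent.S0670

/-- In characteristic `p`, the permutation module of a transitive action of degree `p ^ f` has the line of constant functions as its only irreducible submodule: every non-zero subrepresentation contains it. -/
theorem result {G : Type*} [Group G] [Finite G] {K : Type*} [Field K] {p f : ℕ} [Fact p.Prime] [CharP K p] {Ω : Type*} [Fintype Ω] [MulAction G Ω] [MulAction.IsPretransitive G Ω] (hf : 1 ≤ f) (hcard : Fintype.card Ω = p ^ f) (W : Subrepresentation (Cfsg.permRep K G Ω)) (hW : W.toSubmodule ≠ ⊥) : (Cfsg.permConstants K G Ω).toSubmodule ≤ W.toSubmodule := by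
  classical
  obtain ⟨v, hv, hv0⟩ := (Submodule.ne_bot_iff _).mp hW
  let P : Sylow p G := default
  -- `P` is transitive
  have hPt : ∀ x y : Ω, ∃ g ∈ (P : Subgroup G), g • x = y := by
    intro x y
    have h2 : Nat.card (MulAction.orbit (P : Subgroup G) x) = p ^ f := by
      obtain ⟨i, hi⟩ := (P.2).card_orbit (α := Ω) x
      have hle : Nat.card (MulAction.orbit (P : Subgroup G) x) ≤ p ^ f := by
        rw [← hcard, ← Nat.card_eq_fintype_card]
        exact Nat.card_le_card_of_injective _ Subtype.val_injective
      refine le_antisymm hle ?_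
      have hG : Nat.card (MulAction.stabilizer G x) * p ^ f = Nat.card G := by
        rw [← (MulAction.stabilizer G x).card_mul_index, MulAction.index_stabilizer_of_transitive,
          Nat.card_eq_fintype_card (α := Ω), hcard]
      have hdiv : p ^ f ∣ (P : Subgroup G).index * p ^ i := by
        rw [← hi, ← MulAction.index_stabilizer (G := (P : Subgroup G)) (x := x) |>.trans (Nat.card_coe_set_eq _).symm]
        have e : (MulAction.stabilizer (P : Subgroup G) x).map (P : Subgroup G).subtype ≤ MulAction.stabilizer G x := by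
          rintro _ ⟨g, hg, rfl⟩; exact hg
        have h3 := Subgroup.index_dvd_of_le e
        rw [MulAction.index_stabilizer_of_transitive, Nat.card_eq_fintype_card, hcard,
          Subgroup.index_map_subtype] at h3
        rwa [mul_comm]
      have hcop : Nat.Coprime (p ^ f) (P : Subgroup G).index :=
        ((Nat.Prime.coprime_iff_not_dvd Fact.out).mpr P.not_dvd_index).pow_left f
      rw [hi]
      exact Nat.le_of_dvd (pow_pos (Fact.out : p.Prime).pos i) (hcop.dvd_of_dvd_mul_left hdiv)
    have h3 : MulAction.orbit (P : Subgroup G) x = Set.univ := by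
      apply Set.eq_univ_of_forall
      have hb : Function.Bijective (Subtype.val : MulAction.orbit (P : Subgroup G) x → Ω) :=
        (Fintype.bijective_iff_injective_and_card _).mpr ⟨Subtype.val_injective, by
          rw [← Nat.card_eq_fintype_card, h2, hcard]⟩
      intro z
      obtain ⟨w, rfl⟩ := hb.2 z
      exact w.2
    obtain ⟨g, hg⟩ := (h3 ▸ Set.mem_univ y : y ∈ MulAction.orbit (P : Subgroup G) x)
    exact ⟨g, g.2, hg⟩
  -- the additive span of the orbit of `v` is a finite `p`-group acted on by `P`
  let M : AddSubgroup (Ω → K) := AddSubgroup.closure (Set.range fun g : G => Cfsg.permRep K G Ω g v)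
  have hMW : M ≤ W.toSubmodule.toAddSubgroup :=
    (AddSubgroup.closure_le _).mpr (Set.range_subset_iff.mpr fun g => W.apply_mem_toSubmodule g hv)
  have hMinv : ∀ (g : G), ∀ m ∈ M, Cfsg.permRep K G Ω g m ∈ M := by
    intro g m hm
    induction hm using AddSubgroup.closure_induction with
    | mem y hy =>
      obtain ⟨h, rfl⟩ := hy
      exact AddSubgroup.subset_closure ⟨g * h, by simp⟩
    | zero => rw [map_zero]; exact M.zero_mem
    | add y z _ _ hy hz => rw [map_add]; exact M.add_mem hy hz
    | neg y _ hy => rw [map_neg]; exact M.neg_mem hy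
  haveI : AddGroup.FG M := (AddGroup.fg_iff_addSubgroup_fg M).mpr
    (AddSubgroup.fg_iff _ |>.mpr ⟨_, rfl, Set.finite_range _⟩)
  have hpM : ∀ m : M, p • m = 0 := by
    intro m
    apply Subtype.ext
    funext x
    simp
  haveI : Finite M := AddCommGroup.finite_of_fg_torsion M fun m =>
    isOfFinAddOrder_iff_nsmul_eq_zero.mpr ⟨p, (Fact.out : p.Prime).pos, hpM m⟩
  letI : MulAction (P : Subgroup G) M :=
    { smul := fun g m => ⟨Cfsg.permRep K G Ω g m, hMinv g m m.2⟩
      one_smul := fun m => Subtype.ext (by show Cfsg.permRep K G Ω (1 : G) m = m; simp)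
      mul_smul := fun g h m => Subtype.ext (by
        show Cfsg.permRep K G Ω ((g : G) * h) m = Cfsg.permRep K G Ω g (Cfsg.permRep K G Ω h m)
        simp) }
  have hv' : v ∈ M := AddSubgroup.subset_closure ⟨1, by simp⟩
  have hpdvd : p ∣ Nat.card M := by
    have hne : (⟨v, hv'⟩ : M) ≠ 0 := fun h => hv0 (congrArg Subtype.val h)
    have := addOrderOf_eq_prime (hpM ⟨v, hv'⟩) hne
    exact this ▸ addOrderOf_dvd_natCard _
  obtain ⟨m, hm, hm0⟩ := (P.2).exists_fixed_point_of_prime_dvd_card_of_fixed_point M hpdvd
    (a := 0) (by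
      intro g
      exact Subtype.ext (map_zero (Cfsg.permRep K G Ω (g : G))))
  -- a `P`-fixed function is constant
  have hne : ∃ x, (m : Ω → K) x ≠ 0 := by
    by_contra h
    push_neg at h
    exact hm0 (Subtype.ext (funext fun x => (h x).symm))
  obtain ⟨x, hx⟩ := hne
  have hconst : (m : Ω → K) = (m : Ω → K) x • (fun _ => (1 : K)) := by
    funext z
    obtain ⟨g, hg, hgz⟩ := hPt x z
    have h5 : Cfsg.permRep K G Ω g (m : Ω → K) = m := congrArg Subtype.val (hm ⟨g, hg⟩)
    have h6 := congrFun h5 z
    rw [show Cfsg.permRep K G Ω g (m : Ω → K) z = (m : Ω → K) (g⁻¹ • z) from rfl, ← hgz,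
      inv_smul_smul] at h6
    rw [← hgz, ← h6]
    simp
  show Submodule.span K {fun _ => (1 : K)} ≤ W.toSubmodule
  rw [Submodule.span_singleton_le_iff_mem]
  have h7 : ((m : Ω → K) x)⁻¹ • (m : Ω → K) ∈ W.toSubmodule := W.toSubmodule.smul_mem _ (hMW m.2)
  rwa [hconst, smul_smul, show (fun _ : Ω => (1 : K)) = fun _ => (1 : K) from rfl, Pi.smul_apply,
    smul_eq_mul, mul_one, inv_mul_cancel₀ hx, one_smul] at h7

end Cfsg.Agent.S0670
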