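import Cfsg.Statements.S0677
import Cfsg.Agent.H32.PrimeNormalizer

set_option autoImplicit false
open Cfsg

namespace Cfsg.Agent.S0677

open MulAction Cfsg.Agent.H32
open scoped Pointwise

/-- In a transitive permutation group of prime degree `p` whose Sylow `p`-normaliser has even order, the point stabilisers are the only subgroups of index `p`. -/
theorem result {α : Type*} [Fintype α] [DecidableEq α] {p : ℕ} [Fact p.Prime] (hα : Fintype.card α = p) (G : Subgroup (Equiv.Perm α)) [MulAction.IsPretransitive G α] (P : Sylow p G) (heven : Even (Nat.card (Subgroup.normalizer ((P : Subgroup G) : Set G)))) (H : Subgroup G) (hH : H.index = p) : ∃ a : α, H = MulAction.stabilizer G a := by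
  classical
  have hp : p.Prime := Fact.out
  obtain ⟨C, t, b, hto, hPC, htj⟩ := exists_reflection hα G P heven
  haveI : Nonempty α := ⟨C.coord 0⟩
  -- a subgroup of index `p` with a fixed point is the stabiliser
  have hfix : (∃ a : α, H ≤ stabilizer G a) → ∃ a : α, H = stabilizer G a := by
    rintro ⟨a, ha⟩
    refine ⟨a, Subgroup.eq_of_le_of_card_ge ha (le_of_eq ?_)⟩
    have h1 := (stabilizer G a).card_mul_index
    rw [index_stabilizer_of_transitive, Nat.card_eq_fintype_card (α := α), hα, ← H.card_mul_index,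
      hH] at h1
    exact Nat.eq_of_mul_eq_mul_right hp.pos h1
  apply hfix
  have hP := card_sylow_prime_degree hα G P
  have hndvd : ¬ p ∣ Nat.card H := fun h => by
    have h2 : p ^ 2 ∣ Nat.card G := by
      rw [← H.card_mul_index, hH, pow_two]
      exact Nat.mul_dvd_mul_right h p
    rw [← P.card_mul_index, hP, pow_two] at h2
    exact P.not_dvd_index (Nat.dvd_of_mul_dvd_mul_left hp.pos h2)
  have htwo : p ≠ 2 → (2 : ZMod p) ≠ 0 := fun h h2 => h (by
    rw [show (2 : ZMod p) = ((2 : ℕ) : ZMod p) by norm_num, ZMod.natCast_eq_zero_iff] at h2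
    exact (Nat.prime_dvd_prime_iff_eq hp Nat.prime_two).mp h2)
  rcases C.allAffine_or_two_transitive hα with haff | h2
  · -- affine case
    have hne : ∀ h ∈ H, ∀ a b : ZMod p, (∀ j, h • C.coord j = C.coord (a * j + b)) → a = 1 → h = 1 := by
      intro h hh a c hc ha
      have heq : h = C.gen ^ c.val := by
        refine Subtype.ext (Equiv.ext fun z => ?_)
        obtain ⟨j, rfl⟩ := C.coord.surjective z
        show h • C.coord j = (C.gen ^ c.val) • C.coord j
        rw [hc, C.pow_smul, ZMod.natCast_zmod_val, ha, one_mul]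
      by_contra h1
      apply hndvd
      have hxo : h ^ p = 1 := by
        rw [heq, ← pow_mul, mul_comm, pow_mul]
        have : C.gen ^ p = 1 := by
          refine Subtype.ext (Equiv.ext fun z => ?_)
          obtain ⟨j, rfl⟩ := C.coord.surjective z
          show (C.gen ^ p) • C.coord j = C.coord j
          rw [C.pow_smul, CharP.cast_eq_zero, add_zero]
        rw [this, one_pow]
      rw [← orderOf_eq_prime hxo h1, ← Subgroup.orderOf_mk h hh]
      exact orderOf_dvd_natCard _
    by_cases hbot : H = ⊥
    · exact ⟨C.coord 0, hbot ▸ bot_le⟩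
    obtain ⟨h₀, hh₀, hh1⟩ := Subgroup.ne_bot_iff_exists_ne_one.mp hbot |> fun ⟨x, hx⟩ =>
      (⟨x, x.2, fun e => hx (Subtype.ext e)⟩ : ∃ h ∈ H, h ≠ 1)
    obtain ⟨a₀, b₀, hab₀⟩ := haff h₀
    have ha₀ : a₀ ≠ 1 := fun e => hh1 (hne h₀ hh₀ a₀ b₀ hab₀ e)
    have hsub : (1 : ZMod p) - a₀ ≠ 0 := sub_ne_zero.mpr (Ne.symm ha₀)
    refine ⟨C.coord (b₀ / (1 - a₀)), fun h hh => ?_⟩
    obtain ⟨a, c, hac⟩ := haff h
    -- `h` commutes with `h₀`, the commutator being a translation in `H`
    have hcomm : h * h₀ = h₀ * h := by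
      have hk := H.mul_mem (H.mul_mem hh hh₀) (H.inv_mem (H.mul_mem hh₀ hh))
      have h1 : h * h₀ * (h₀ * h)⁻¹ = 1 := by
        refine hne _ hk 1 (a * b₀ + c - (a₀ * c + b₀)) (fun j => ?_) rfl
        obtain ⟨i, hi⟩ : ∃ i, ((h₀ * h)⁻¹ : G) • C.coord j = C.coord i :=
          ⟨C.coord.symm (((h₀ * h)⁻¹ : G) • C.coord j), (C.coord.apply_symm_apply _).symm⟩
        rw [mul_smul, hi]
        rw [inv_smul_eq_iff, mul_smul, hac, hab₀] at hi
        rw [C.coord.injective hi, mul_smul, hab₀, hac]
        congr 1
        ring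
      exact mul_inv_eq_one.mp h1
    have h0 := congrArg (fun g : G => g • C.coord 0) hcomm
    simp only [mul_smul, hac, hab₀, EmbeddingLike.apply_eq_iff_eq, mul_zero, zero_add] at h0
    rw [mem_stabilizer_iff, hac]
    congr 1
    field_simp
    linear_combination h0
  -- doubly transitive case
  by_cases hp2 : p = 2
  · subst hp2
    have h1 : Nat.card G ∣ 2 := by
      have := Subgroup.card_subgroup_dvd_card G
      rwa [Nat.card_eq_fintype_card (α := Equiv.Perm α), Fintype.card_perm, hα] at this
    refine ⟨C.coord 0, ?_⟩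
    have : Nat.card H = 1 := by
      have h3 := H.card_mul_index
      rw [hH] at h3
      have := Nat.le_of_dvd (by norm_num) h1
      have h4 : 0 < Nat.card H := Nat.card_pos
      omega
    rw [Subgroup.eq_bot_of_card_eq H this]
    exact bot_le
  -- the orbit of `H` through `coord 0`, and its translates
  let D : Set (ZMod p) := {j | C.coord j ∈ orbit H (C.coord 0)}
  have hfac : ∀ g : G, ∃ n : ℕ, ∃ h ∈ H, g = C.gen ^ n * h := by
    intro g
    have hd : Disjoint (P : Subgroup G) H := by
      rw [disjoint_iff]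
      apply Subgroup.inf_eq_bot_of_coprime
      rw [hP]
      exact (Nat.Prime.coprime_iff_not_dvd hp).mpr hndvd
    have hcompl : Subgroup.IsComplement' (P : Subgroup G) H :=
      Subgroup.isComplement'_of_card_mul_and_disjoint
        (by rw [← H.card_mul_index, hH, hP, mul_comm]) hd
    obtain ⟨⟨⟨x, hx⟩, ⟨h, hh⟩⟩, he⟩ := hcompl.2 g
    have hx' : x ∈ Subgroup.zpowers C.gen := hPC ▸ (hx : x ∈ (P : Subgroup G))
    obtain ⟨n, rfl⟩ :=
      IsOfFinOrder.mem_powers_iff_mem_zpowers (isOfFinOrder_of_finite C.gen) |>.mpr hx'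
    exact ⟨n, h, hh, he.symm⟩
  have hinvar : ∀ h ∈ H, ∀ x : α, x ∈ orbit H (C.coord 0) → h • x ∈ orbit H (C.coord 0) := by
    rintro h hh _ ⟨u, rfl⟩
    exact ⟨⟨h, hh⟩ * u, mul_smul _ _ _⟩
  -- images of `D` are translates
  have htrans : ∀ g : G, ∃ d : ZMod p, ∀ j, g • C.coord j ∈ orbit H (C.coord 0) ↔ C.coord j ∈
      (fun i => C.coord (i + d)) '' D := by
    intro g
    obtain ⟨n, h, hh, he⟩ := hfac g⁻¹
    refine ⟨n, fun j => ?_⟩
    have hg : g = h⁻¹ * (C.gen ^ n)⁻¹ := by rw [← mul_inv_rev, ← he, inv_inv]
    have hk : (C.gen ^ n)⁻¹ • C.coord j = C.coord (j - n) := by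
      rw [inv_smul_eq_iff, C.pow_smul, sub_add_cancel]
    rw [hg, mul_smul, hk]
    constructor
    · intro hm
      have := hinvar h hh _ hm
      rw [smul_inv_smul] at this
      exact ⟨j - n, this, by simp⟩
    · rintro ⟨i, hi, hij⟩
      have hij' := C.coord.injective hij
      rw [← hij', add_sub_cancel_right]
      exact hinvar _ (H.inv_mem hh) _ hi
  have h0D : (0 : ZMod p) ∈ D := mem_orbit_self _
  by_cases hsing : ∀ j ∈ D, j = 0
  · refine ⟨C.coord 0, fun h hh => ?_⟩
    have hm : h • C.coord 0 ∈ orbit H (C.coord 0) := ⟨⟨h, hh⟩, rfl⟩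
    have := hsing (C.coord.symm (h • C.coord 0)) (by
      show C.coord (C.coord.symm _) ∈ orbit H (C.coord 0)
      rwa [C.coord.apply_symm_apply])
    rw [mem_stabilizer_iff, ← C.coord.apply_symm_apply (h • C.coord 0), this]
  by_cases htot : ∀ j, j ∈ D
  · exfalso
    apply hndvd
    have horb : orbit H (C.coord 0) = Set.univ := Set.eq_univ_of_forall fun x => by
      have h1 := htot (C.coord.symm x)
      change C.coord (C.coord.symm x) ∈ orbit H (C.coord 0) at h1
      rwa [C.coord.apply_symm_apply] at h1
    have := (stabilizer H (C.coord 0)).index_dvd_card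
    rwa [index_stabilizer, horb, Set.ncard_univ, Nat.card_eq_fintype_card, hα] at this
  push Not at htot
  obtain ⟨jout, hjout⟩ := htot
  -- symmetry of `D` after a translation
  obtain ⟨d, hd⟩ := htrans t
  have hsym : ∀ j, -j + b ∈ D ↔ j - d ∈ D := by
    intro j
    have h1 := hd j
    rw [htj] at h1
    refine h1.trans ⟨?_, fun h => ⟨j - d, h, by simp⟩⟩
    rintro ⟨i, hi, hij⟩
    rw [← C.coord.injective hij, add_sub_cancel_right]
    exact hi
  set s : ZMod p := (b - d) / 2 with hs
  let D' : Set (ZMod p) := {j | j + s ∈ D}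
  have hD' : ∀ j, -j ∈ D' ↔ j ∈ D' := by
    intro j
    show -j + s ∈ D ↔ j + s ∈ D
    have e := hsym (j + s + d)
    rw [add_sub_cancel_right] at e
    rw [← e]
    have : -(j + s + d) + b = -j + s := by
      rw [hs]; field_simp [htwo hp2]; ring
    rw [this]
  -- constancy of the number of differences
  let N : ZMod p → ℕ := fun δ => (Finset.univ.filter fun a => a ∈ D' ∧ a + δ ∈ D').card
  have hNconst : ∀ δ : ZMod p, δ ≠ 0 → N δ = N 1 := by
    intro δ hδ
    -- count translates containing two given points
    let M : ZMod p → ZMod p → ℕ := fun i j =>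
      (Finset.univ.filter fun a : ZMod p => i - a ∈ D ∧ j - a ∈ D).card
    have hM : ∀ i δ, M i (i + δ) = N δ := by
      intro i δ
      refine Finset.card_equiv ((Equiv.subLeft (i - s))) fun a => ?_
      simp only [Finset.mem_filter, Finset.mem_univ, true_and, Equiv.subLeft_apply]
      refine and_congr ?_ ?_
      · show _ ↔ i - s - a + s ∈ D
        rw [show i - s - a + s = i - a by ring]
      · show _ ↔ i - s - a + δ + s ∈ D
        rw [show i - s - a + δ + s = i + δ - a by ring]
    obtain ⟨g, hg0, hg1⟩ := (is_two_pretransitive_iff.mp h2) (show C.coord 0 ≠ C.coord 1 from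
      C.coord.injective.ne zero_ne_one) (show C.coord 0 ≠ C.coord δ from C.coord.injective.ne hδ.symm)
    choose τ hτ using fun a : ZMod p => htrans ((C.gen ^ a.val)⁻¹ * g)
    have key : ∀ a j, C.coord.symm (g • C.coord j) - a ∈ D ↔ j - τ a ∈ D := by
      intro a j
      have h1 := hτ a j
      obtain ⟨i, hi⟩ : ∃ i, g • C.coord j = C.coord i :=
        ⟨C.coord.symm (g • C.coord j), (C.coord.apply_symm_apply _).symm⟩
      rw [mul_smul, hi] at h1
      have hk : (C.gen ^ a.val)⁻¹ • C.coord i = C.coord (i - a) := by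
        rw [inv_smul_eq_iff, C.pow_smul, ZMod.natCast_zmod_val, sub_add_cancel]
      rw [hk] at h1
      rw [hi, Equiv.symm_apply_apply]
      refine h1.trans ⟨?_, fun h => ⟨j - τ a, h, by simp⟩⟩
      rintro ⟨l, hl, hlj⟩
      rw [← C.coord.injective hlj, add_sub_cancel_right]
      exact hl
    have hτinj : Function.Injective τ := by
      intro a a' haa
      -- `D` is not invariant under a non-zero translation
      by_contra hne
      have hper : ∀ j, j ∈ D ↔ j + (a - a') ∈ D := by
        intro j
        have e1 := key a (C.coord.symm (g⁻¹ • C.coord (j + a)))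
        have e2 := key a' (C.coord.symm (g⁻¹ • C.coord (j + a)))
        simp only [Equiv.apply_symm_apply, smul_inv_smul, Equiv.symm_apply_apply] at e1 e2
        rw [add_sub_cancel_right] at e1
        rw [e1, haa, ← e2, add_sub_assoc]
      apply hjout
      have hall : ∀ n : ℕ, (0 : ZMod p) + n * (a - a') ∈ D := by
        intro n
        induction n with
        | zero => simpa using h0D
        | succ n ih =>
          have := (hper _).mp ih
          rwa [Nat.cast_succ, add_mul, one_mul, ← add_assoc]
      have := hall (jout / (a - a')).val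
      rwa [ZMod.natCast_zmod_val, zero_add, div_mul_cancel₀ _ (sub_ne_zero.mpr hne)] at this
    have : M 0 1 = M 0 δ := by
      have hb : Function.Bijective τ := (Finite.injective_iff_bijective).mp hτinj
      refine (Finset.card_equiv (Equiv.ofBijective τ hb) fun a => ?_).symm
      simp only [Finset.mem_filter, Finset.mem_univ, true_and, Equiv.ofBijective_apply]
      have k0 := key a 0
      have k1 := key a 1
      rw [hg0, Equiv.symm_apply_apply] at k0
      rw [hg1, Equiv.symm_apply_apply] at k1
      exact and_congr k0 k1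
    rw [← hM 0 δ, ← hM 0 1, zero_add, zero_add, this]
  -- parity of `N`
  have hpar : ∀ δ : ZMod p, δ ≠ 0 → (-δ / 2 ∈ D' ↔ Odd (N δ)) := by
    intro δ hδ
    set T := Finset.univ.filter fun a => a ∈ D' ∧ a + δ ∈ D' with hT
    have hinv : ∀ a ∈ T, -δ - a ∈ T := by
      intro a ha
      simp only [hT, Finset.mem_filter, Finset.mem_univ, true_and] at ha ⊢
      constructor
      · rw [show -δ - a = -(a + δ) by ring, hD']; exact ha.2
      · rw [show -δ - a + δ = -a by ring, hD']; exact ha.1
    have hfixed : ∀ a, -δ - a = a ↔ a = -δ / 2 := by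
      intro a
      rw [eq_div_iff (htwo hp2)]
      constructor <;> intro h <;> linear_combination -h
    have hev : Even (T.filter fun a => a ≠ -δ / 2).card := by
      rw [even_iff_two_dvd, ← ZMod.natCast_eq_zero_iff, Finset.cast_card]
      refine Finset.sum_involution (fun a _ => -δ - a) (fun _ _ => by decide) ?_ ?_
        (fun a _ => sub_sub_cancel _ _)
      · intro a ha _
        simp only [Finset.mem_filter] at ha
        exact fun h => ha.2 ((hfixed a).mp h)
      · intro a ha
        simp only [Finset.mem_filter] at ha ⊢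
        refine ⟨hinv a ha.1, fun h => ha.2 ?_⟩
        have h' := (hfixed _).mpr h
        rw [sub_sub_cancel] at h'
        rw [h', h]
    have hmid : -δ / 2 ∈ D' → -δ / 2 ∈ T := by
      intro h
      simp only [hT, Finset.mem_filter, Finset.mem_univ, true_and]
      refine ⟨h, ?_⟩
      rw [show -δ / 2 + δ = -(-δ / 2) by field_simp [htwo hp2]; ring, hD']
      exact h
    have hsplit := Finset.card_filter_add_card_filter_not (s := T) (fun a => a ≠ -δ / 2)
    have hN : N δ = T.card := rfl
    rw [hN, ← hsplit, Nat.odd_add', iff_true_right hev]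
    have : (T.filter fun a => ¬ a ≠ -δ / 2) = if -δ / 2 ∈ D' then {-δ / 2} else ∅ := by
      ext a
      simp only [Finset.mem_filter, not_not]
      split_ifs with h
      · simp only [Finset.mem_singleton]
        exact ⟨fun h => h.2, fun h' => ⟨h' ▸ hmid h, h'⟩⟩
      · simp only [Finset.notMem_empty, iff_false, not_and]
        intro h1 h2
        simp only [hT, Finset.mem_filter] at h1
        exact h (h2 ▸ h1.2.1)
    rw [this]
    split_ifs with h <;> simp [h]
  have hall : ∀ j : ZMod p, j ≠ 0 → (j ∈ D' ↔ Odd (N 1)) := by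
    intro j hj
    have hd : -(2 * j) ≠ 0 := neg_ne_zero.mpr (mul_ne_zero (htwo hp2) hj)
    have := hpar (-(2 * j)) hd
    rwa [hNconst _ hd, neg_neg, mul_div_cancel_left₀ _ (htwo hp2)] at this
  push Not at hsing
  obtain ⟨jin, hjin, hjin0⟩ := hsing
  by_cases hodd : Odd (N 1)
  · -- `D'` contains everything but possibly `0`, so `D` has at least `p - 1` elements
    have hD0 : ∀ j, j ≠ s → j ∈ D := fun j hj => by
      have := (hall (j - s) (sub_ne_zero.mpr hj)).mpr hodd
      simpa [D'] using this
    have hs' : s ∉ D := fun h => hjout (if e : jout = s then e ▸ h else hD0 jout e)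
    -- the orbit has `p - 1` points, so the remaining point is fixed by `H`
    have hfixs : H ≤ stabilizer G (C.coord s) := by
      intro h hh
      rw [mem_stabilizer_iff]
      by_contra hne
      apply hs'
      obtain ⟨i, hi⟩ : ∃ i, h • C.coord s = C.coord i :=
        ⟨C.coord.symm (h • C.coord s), (C.coord.apply_symm_apply _).symm⟩
      have hiD : i ∈ D := hD0 i fun e => hne (by rw [hi, e])
      have := hinvar _ (H.inv_mem hh) _ hiD
      rw [← hi, inv_smul_smul] at this
      exact this
    exact ⟨_, hfixs⟩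
  · have h1 : ∀ j ∈ D, j = s := fun j hj => by
      by_contra hne
      exact hodd ((hall (j - s) (sub_ne_zero.mpr hne)).mp (by simpa [D'] using hj))
    exact absurd ((h1 jin hjin).trans (h1 0 h0D).symm) hjin0

end Cfsg.Agent.S0677
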