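import Cfsg.Statements.S0678
import Mathlib
import Cfsg.Agent.S0675
import Cfsg.Agent.H32.PrimeNormalizer
import Cfsg.Agent.H36.PermNormalizer
import Cfsg.Agent.H36.Basic
import Cfsg.Agent.Fusion.PComplement
import Cfsg.Agent.Cores.PCore

set_option autoImplicit false
open Cfsg

namespace Cfsg.Agent.S0678

open MulAction

variable {α : Type*} [Fintype α] [DecidableEq α]

/-- Reflections of `ZMod 7` are odd. -/
private theorem sign_subLeft : ∀ b : ZMod 7, Equiv.Perm.sign (Equiv.subLeft b) = -1 := by decide +kernel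

/-- A characteristic subgroup of a normalised subgroup is normalised. -/
private theorem conj_mem_of_char {G : Type*} [Group G] {T : Subgroup G} (K : Subgroup T)
    [K.Characteristic] {g : G} (hg : g ∈ Subgroup.normalizer (T : Set G)) {x : G}
    (hx : x ∈ K.map T.subtype) : g * x * g⁻¹ ∈ K.map T.subtype := by
  obtain ⟨y, hy, rfl⟩ := hx
  let a : MulAut T := T.normalizerMonoidHom ⟨g, hg⟩
  refine ⟨a y, ?_, rfl⟩
  exact (SetLike.ext_iff.mp ((inferInstance : K.Characteristic).fixed a) y).mpr hy

/-- A group of permutations of 7 points of order divisible by 7 is transitive. -/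
private theorem isPretransitive_of_dvd (hα : Fintype.card α = 7) (T : Subgroup (Equiv.Perm α))
    (h : 7 ∣ Nat.card T) : IsPretransitive T α := by
  haveI : Fact (Nat.Prime 7) := ⟨by norm_num⟩
  obtain ⟨x, hx⟩ := exists_prime_orderOf_dvd_card' (G := T) 7 h
  obtain ⟨C, -⟩ := H32.exists_coords_of_order (p := 7) hα x hx
  refine ⟨fun a b => ?_⟩
  obtain ⟨i, rfl⟩ := C.coord.surjective a
  obtain ⟨j, rfl⟩ := C.coord.surjective b
  exact ⟨C.gen ^ (j - i).val, by rw [C.pow_smul, ZMod.natCast_zmod_val]; congr 1; ring⟩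

/-- A group normalising a subgroup of order 7 is solvable. -/
private theorem solvable_of_normalizes (hα : Fintype.card α = 7) (G Q : Subgroup (Equiv.Perm α))
    (hQ : Nat.card Q = 7) (hQG : Q ≤ G) (hn : G ≤ Subgroup.normalizer (Q : Set (Equiv.Perm α))) :
    Group.IsSolvable G := by
  haveI : Fact (Nat.Prime 7) := ⟨by norm_num⟩
  obtain ⟨x, hx⟩ := exists_prime_orderOf_dvd_card' (G := Q) 7 (by rw [hQ])
  have hxo : orderOf (⟨x, hQG x.2⟩ : G) = 7 := by
    rw [← Subgroup.orderOf_coe] at hx ⊢; exact hx
  obtain ⟨C, hC⟩ := H32.exists_coords_of_order (p := 7) hα (⟨x, hQG x.2⟩ : G) hxo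
  refine C.isSolvable fun g => ?_
  have hQz : Q = Subgroup.zpowers (x : Equiv.Perm α) := by
    refine (Subgroup.eq_of_le_of_card_ge (Subgroup.zpowers_le.mpr x.2) ?_).symm
    rw [hQ, Nat.card_zpowers, Subgroup.orderOf_coe, hx]
  obtain ⟨k, hk⟩ : ∃ k : ℕ, g * C.gen * g⁻¹ = C.gen ^ k := by
    have h1 : g * C.gen * g⁻¹ ∈ Subgroup.zpowers C.gen := by
      have h2 := (Subgroup.mem_normalizer_iff.mp (hn g.2) (x : Equiv.Perm α)).mp x.2
      obtain ⟨m, hm⟩ := Subgroup.mem_zpowers_iff.mp (hQz.le h2)
      rw [hC]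
      exact Subgroup.mem_zpowers_iff.mpr ⟨m, Subtype.ext (by simpa using hm)⟩
    exact (IsOfFinOrder.mem_powers_iff_mem_zpowers (isOfFinOrder_of_finite C.gen) |>.mpr h1).imp
      fun _ h => h.symm
  obtain ⟨b, hb⟩ : ∃ b, g • C.coord 0 = C.coord b :=
    ⟨C.coord.symm (g • C.coord 0), (C.coord.apply_symm_apply _).symm⟩
  refine ⟨(k : ZMod 7), b, fun j => ?_⟩
  have h1 : C.coord j = C.gen ^ j.val • C.coord 0 := by
    rw [C.pow_smul, zero_add, ZMod.natCast_zmod_val]
  have h2 : g * C.gen ^ j.val = C.gen ^ (k * j.val) * g := by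
    rw [pow_mul, ← hk, conj_pow, inv_mul_cancel_right]
  rw [h1, smul_smul, h2, mul_smul, hb, C.pow_smul, Nat.cast_mul, ZMod.natCast_zmod_val, add_comm]

/-- Orders of the non-trivial normalised subgroups of the alternating group. -/
private theorem card_normalised (hα : Fintype.card α = 7) (G : Subgroup (Equiv.Perm α))
    [IsPretransitive G α] (hG : ¬ Group.IsSolvable G) (T : Subgroup (Equiv.Perm α)) (hTG : T ≤ G)
    (hTn : G ≤ Subgroup.normalizer (T : Set (Equiv.Perm α))) (hTA : T ≤ alternatingGroup α)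
    (hT : T ≠ ⊥) : ∃ n, n % 7 = 1 ∧ 8 ≤ n ∧ Nat.card T = n * 21 := by
  classical
  haveI : Fact (Nat.Prime 7) := ⟨by norm_num⟩
  -- non-trivial normalised subgroups have order divisible by 7
  have hdiv : ∀ S : Subgroup (Equiv.Perm α), S ≤ G → G ≤ Subgroup.normalizer (S : Set (Equiv.Perm α)) →
      S ≠ ⊥ → 7 ∣ Nat.card S := by
    intro S hSG hSn hS
    haveI : (S.subgroupOf G).Normal := Subgroup.normal_subgroupOf_of_le_normalizer hSn
    haveI : IsPreprimitive G α :=
      IsPreprimitive.of_prime_card (by rw [Nat.card_eq_fintype_card, hα]; norm_num)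
    haveI := IsPreprimitive.isQuasiPreprimitive (M := G) (α := α)
    have hnt : fixedPoints (S.subgroupOf G) α ≠ Set.univ := by
      intro h
      apply hS
      rw [Subgroup.eq_bot_iff_forall]
      intro s hs
      refine Equiv.ext fun a => ?_
      have := (h ▸ Set.mem_univ a : a ∈ fixedPoints (S.subgroupOf G) α) ⟨⟨s, hSG hs⟩, hs⟩
      exact this
    haveI := IsQuasiPreprimitive.isPretransitive_of_normal (G := G) (X := α) hnt
    obtain ⟨a⟩ : Nonempty α := Fintype.card_pos_iff.mp (by rw [hα]; norm_num)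
    have h1 := (stabilizer (S.subgroupOf G) a).index_dvd_card
    rw [index_stabilizer_of_transitive, Nat.card_eq_fintype_card, hα,
      Nat.card_congr (Subgroup.subgroupOfEquivOfLe hSG).toEquiv] at h1
    exact h1
  have h7 := hdiv T hTG hTn hT
  haveI := isPretransitive_of_dvd hα T h7
  obtain ⟨P⟩ : Nonempty (Sylow 7 T) := inferInstance
  have hP := H32.card_sylow_prime_degree hα T P
  -- the Sylow subgroup is not normal
  have hPn : ¬ (P : Subgroup T).Normal := by
    intro h
    haveI := P.characteristic_of_normal h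
    refine hG (solvable_of_normalizes hα G ((P : Subgroup T).map T.subtype)
      (by rw [Subgroup.card_map_of_injective T.subtype_injective, hP])
      ((Subgroup.map_subtype_le _).trans hTG) fun g hg => ?_)
    refine Subgroup.mem_normalizer_iff.mpr fun x => ⟨fun hx => conj_mem_of_char _ (hTn hg) hx, fun hx => ?_⟩
    have := conj_mem_of_char (P : Subgroup T) (hTn (G.inv_mem hg)) hx
    simpa [mul_assoc] using this
  set N := Subgroup.normalizer ((P : Subgroup T) : Set T) with hN
  have h42 : Nat.card N ∣ 42 := by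
    have hQ : Nat.card ((P : Subgroup T).map T.subtype) = 7 := by
      rw [Subgroup.card_map_of_injective T.subtype_injective, hP]
    have h1 := H36.card_normalizer_of_card_eq (p := 7) (by rw [hα]; norm_num) _ hQ
    rw [hα] at h1
    have h2 := Subgroup.card_dvd_of_le (Subgroup.le_normalizer_map T.subtype (H := (P : Subgroup T)))
    rw [Subgroup.card_map_of_injective T.subtype_injective, h1] at h2
    rwa [show 7 * (7 - 1) * Nat.factorial (7 - 7) = 42 from rfl] at h2
  have hodd : ¬ Even (Nat.card N) := by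
    intro he
    obtain ⟨C, t, b, ht, -, htj⟩ := H32.exists_reflection hα T P he
    have h1 : Equiv.Perm.sign (t : Equiv.Perm α) = 1 := Equiv.Perm.mem_alternatingGroup.mp (hTA t.2)
    have h2 : (t : Equiv.Perm α) = C.coord.permCongr (Equiv.subLeft b) := by
      ext a
      obtain ⟨j, rfl⟩ := C.coord.surjective a
      have := htj j
      rw [Equiv.permCongr_apply, Equiv.symm_apply_apply, Equiv.subLeft_apply]
      rw [show b - j = -j + b by ring]
      exact this
    rw [h2, Equiv.Perm.sign_permCongr, sign_subLeft] at h1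
    exact absurd h1 (by decide)
  have h7N : 7 ∣ Nat.card N := hP ▸ Subgroup.card_dvd_of_le Subgroup.le_normalizer
  have hN7 : Nat.card N ≠ 7 := by
    intro h
    have hPN : (P : Subgroup T) = N := Subgroup.eq_of_le_of_card_ge Subgroup.le_normalizer (by rw [h, hP])
    haveI : IsCyclic (P : Subgroup T) := isCyclic_of_prime_card hP
    obtain ⟨P', K, hK, hKc⟩ : Cfsg.HasNormalPComplement 7 T :=
      Fusion.hasNormalPComplement_of_normalizer_le_centralizer P (fun g hg => by
        have hg' : g ∈ (P : Subgroup T) := by rw [hPN]; exact hg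
        exact Subgroup.mem_centralizer_iff.mpr fun x hx => congrArg Subtype.val
          (mul_comm' (⟨x, hx⟩ : (P : Subgroup T)) ⟨g, hg'⟩))
    haveI := hK
    by_cases hK1 : K = ⊥
    · rw [hK1] at hKc
      have h' : (P' : Subgroup T) = ⊤ := by
        rw [← Subgroup.IsComplement'.sup_eq_top hKc, bot_sup_eq]
      have : (P : Subgroup T) = ⊤ := Subgroup.eq_top_of_card_eq _ (by
        rw [hP, ← H32.card_sylow_prime_degree hα T P', h', Subgroup.card_top])
      exact hPn (this ▸ inferInstance)
    have hcopK : (Nat.card K).Coprime 7 := by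
      rw [Nat.coprime_comm, Nat.Prime.coprime_iff_not_dvd (by norm_num)]
      exact Fusion.not_dvd_card_of_isComplement' P' hKc
    haveI : (Cfsg.pPrimeCore 7 T).Characteristic := Cores.pPrimeCore_characteristic
    have hle : K ≤ Cfsg.pPrimeCore 7 T := Cores.le_pPrimeCore hcopK
    have hne : (Cfsg.pPrimeCore 7 T).map T.subtype ≠ ⊥ := fun h => hK1 (le_bot_iff.mp (hle.trans
      (le_of_eq ((Subgroup.map_eq_bot_iff_of_injective _ T.subtype_injective).mp h))))
    have := hdiv _ ((Subgroup.map_subtype_le _).trans hTG) (fun g hg =>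
      Subgroup.mem_normalizer_iff.mpr fun x => ⟨fun hx => conj_mem_of_char _ (hTn hg) hx, fun hx => by
        have := conj_mem_of_char (Cfsg.pPrimeCore 7 T) (hTn (G.inv_mem hg)) hx
        simpa [mul_assoc] using this⟩) hne
    rw [Subgroup.card_map_of_injective T.subtype_injective] at this
    exact Cores.not_dvd_card_pPrimeCore this
  have hN21 : Nat.card N = 21 := by
    have hle := Nat.le_of_dvd (by norm_num) h42
    obtain ⟨c, hc⟩ := h7N
    rw [Nat.even_iff] at hodd
    rw [hc] at h42 hle hodd hN7 ⊢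
    have hc6 : c ≤ 6 := by omega
    interval_cases c <;> revert h42 hodd hN7 <;> decide
  refine ⟨Nat.card (Sylow 7 T), card_sylow_modEq_one 7 T, ?_, ?_⟩
  · have h1 : Nat.card (Sylow 7 T) % 7 = 1 := card_sylow_modEq_one 7 T
    by_contra h
    have h2 : Nat.card (Sylow 7 T) = 1 := by omega
    haveI : Subsingleton (Sylow 7 T) := (Nat.card_eq_one_iff_unique.mp h2).1
    exact hPn P.normal_of_subsingleton
  · rw [← hN21]
    exact (H36.card_sylow_mul_normalizer P).symm

/-- Point pairs of a doubly transitive group on 7 points. -/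
private theorem card_two_points (hα : Fintype.card α = 7) (T : Subgroup (Equiv.Perm α))
    [IsMultiplyPretransitive T α 2] {a b : α} (hab : a ≠ b) :
    Nat.card T = 42 * Nat.card (stabilizer T ((a, b) : α × α)) := by
  have horb : orbit T ((a, b) : α × α) = {x : α × α | x.1 ≠ x.2} := by
    ext ⟨c, d⟩
    constructor
    · rintro ⟨g, hg⟩
      obtain ⟨rfl, rfl⟩ := Prod.ext_iff.mp hg
      exact fun h => hab (MulAction.injective g h)
    · intro hcd
      obtain ⟨g, hgc, hgd⟩ := (MulAction.is_two_pretransitive_iff (G := T) (α := α)).mp inferInstance hab hcd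
      exact ⟨g, Prod.ext hgc hgd⟩
  have h1 := (stabilizer T ((a, b) : α × α)).index_mul_card
  rw [index_stabilizer, horb] at h1
  rw [← h1]
  congr 1
  rw [Set.ncard_eq_toFinset_card']
  have : ({x : α × α | x.1 ≠ x.2}).toFinset = (Finset.univ : Finset α).offDiag := by
    ext x; simp
  rw [this, Finset.offDiag_card, Finset.card_univ, hα]

/-- A non-solvable transitive permutation group on 7 points that does not contain the alternating group is a simple group of order 168. -/
theorem result {α : Type*} [Fintype α] [DecidableEq α] (hα : Fintype.card α = 7) (G : Subgroup (Equiv.Perm α)) [MulAction.IsPretransitive G α] (hG : ¬ Group.IsSolvable G) (hA : ¬ alternatingGroup α ≤ G) : Nat.card G = 168 ∧ IsSimpleGroup G := by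
  classical
  haveI : Fact (Nat.Prime 7) := ⟨by norm_num⟩
  have hcard7 : Nat.card α = 7 := by rw [Nat.card_eq_fintype_card, hα]
  haveI : Nontrivial α := Fintype.one_lt_card_iff_nontrivial.mp (by omega)
  set E : Subgroup (Equiv.Perm α) := G ⊓ alternatingGroup α with hE
  have hA' : E ≠ alternatingGroup α := fun h => hA (h ▸ inf_le_left)
  have hEG : E ≤ G := inf_le_left
  have hEn : G ≤ Subgroup.normalizer (E : Set (Equiv.Perm α)) := fun g hg =>
    Subgroup.mem_normalizer_iff.mpr fun x => by
      have hA : g * x * g⁻¹ ∈ alternatingGroup α ↔ x ∈ alternatingGroup α := by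
        simp only [Equiv.Perm.mem_alternatingGroup, map_mul, map_inv]
        rw [mul_comm (Equiv.Perm.sign g), mul_inv_cancel_right]
      exact ⟨fun hx => ⟨G.mul_mem (G.mul_mem hg hx.1) (G.inv_mem hg), hA.mpr hx.2⟩, fun hx =>
        ⟨by simpa [mul_assoc] using G.mul_mem (G.mul_mem (G.inv_mem hg) hx.1) hg, hA.mp hx.2⟩⟩
  -- the sign character
  let σ : G →* ℤˣ := Equiv.Perm.sign.comp G.subtype
  have hσ : σ.ker = E.subgroupOf G := by
    ext g
    simp [σ, hE, Subgroup.mem_subgroupOf, Equiv.Perm.mem_alternatingGroup]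
  have hEsol : ¬ Group.IsSolvable E := by
    intro h
    refine hG (Group.isSolvable_of_ker_le_range (Subgroup.inclusion hEG) σ (le_of_eq ?_))
    rw [hσ, Subgroup.inclusion_range]
  have hE1 : E ≠ ⊥ := fun h => hEsol (by rw [h]; infer_instance)
  obtain ⟨n, hn1, hn8, hEcard⟩ := card_normalised hα G hG E hEG hEn inf_le_right hE1
  haveI : IsPretransitive E α := isPretransitive_of_dvd hα E (by rw [hEcard]; omega)
  haveI := (Cfsg.Agent.S0675.result (α := α) (by rw [hα]; norm_num) E).resolve_left hEsol
  obtain ⟨a, b, hab⟩ := exists_pair_ne α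
  have h42 := card_two_points hα E hab
  -- the index in the alternating group is at least 7
  have hAcard : Nat.card (alternatingGroup α) = 2520 := by
    rw [nat_card_alternatingGroup, hcard7]; rfl
  have hEA := hA'
  haveI := alternatingGroup.isSimpleGroup (α := α) (by omega)
  have hidx : 2520 ∣ (E.subgroupOf (alternatingGroup α)).index.factorial := by
    have h1 := H36.card_dvd_factorial (H := E.subgroupOf (alternatingGroup α)) (fun h => hEA
      (le_antisymm inf_le_right (Subgroup.subgroupOf_eq_top.mp h)))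
    rwa [hAcard] at h1
  have hEmul : Nat.card E * (E.subgroupOf (alternatingGroup α)).index = 2520 := by
    rw [← hAcard, ← Nat.card_congr (Subgroup.subgroupOfEquivOfLe (inf_le_right : E ≤ alternatingGroup α)).toEquiv,
      Subgroup.card_mul_index]
  have h7i : 7 ≤ (E.subgroupOf (alternatingGroup α)).index := by
    by_contra h
    have := Nat.le_of_dvd (Nat.factorial_pos _) hidx
    have h2 : (E.subgroupOf (alternatingGroup α)).index.factorial ≤ Nat.factorial 6 :=
      Nat.factorial_le (by omega)
    have h3 : Nat.factorial 6 = 720 := rfl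
    omega
  have hn : n = 8 := by
    have h1 : Nat.card E * 7 ≤ 2520 := hEmul ▸ Nat.mul_le_mul_left _ h7i
    rw [hEcard] at h1 h42
    omega
  subst hn
  -- `G` contains no transposition
  have hpre : IsPreprimitive G α := IsPreprimitive.of_prime_card (by rw [hcard7]; norm_num)
  have hswap : ∀ g ∈ G, ¬ g.IsSwap := fun g hg hs =>
    hA' (by rw [hE, Equiv.Perm.subgroup_eq_top_of_isPreprimitive_of_isSwap_mem hpre g hs hg, top_inf_eq])
  have hrange : Nat.card σ.range ∣ 2 := by
    have h1 := σ.range.card_subgroup_dvd_card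
    rwa [Nat.card_eq_fintype_card (α := ℤˣ), Fintype.card_units_int] at h1
  have hGcard : Nat.card G = 168 * Nat.card σ.range := by
    rw [← σ.ker.card_mul_index, Subgroup.index_ker, hσ,
      Nat.card_congr (Subgroup.subgroupOfEquivOfLe hEG).toEquiv, hEcard]
  have hG168 : Nat.card σ.range = 1 := by
    rcases (Nat.dvd_prime Nat.prime_two).mp hrange with h | h
    · exact h
    exfalso
    haveI : IsMultiplyPretransitive G α 2 :=
      (Cfsg.Agent.S0675.result (α := α) (by rw [hα]; norm_num) G).resolve_left hG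
    set K : Subgroup (Equiv.Perm α) := stabilizer (Equiv.Perm α) ((a, b) : α × α) with hK
    have hK120 : Nat.card K = 120 := by
      haveI : IsMultiplyPretransitive (⊤ : Subgroup (Equiv.Perm α)) α 2 := by
        rw [MulAction.isMultiplyPretransitive_iff]
        intro x y
        obtain ⟨g, hg⟩ := (MulAction.isMultiplyPretransitive_iff.mp
          (Equiv.Perm.isMultiplyPretransitive α 2)) x y
        exact ⟨⟨g, trivial⟩, hg⟩
      have h1 := card_two_points hα ⊤ hab
      rw [Subgroup.card_top, Nat.card_perm, hcard7] at h1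
      have h2 : Nat.card (stabilizer (⊤ : Subgroup (Equiv.Perm α)) ((a, b) : α × α)) = Nat.card K :=
        Nat.card_congr
          { toFun := fun g => ⟨g.1.1, g.2⟩
            invFun := fun g => ⟨⟨g.1, trivial⟩, g.2⟩
            left_inv := fun g => rfl
            right_inv := fun g => rfl }
      have h3 : Nat.factorial 7 = 5040 := rfl
      omega
    have hS8 : Nat.card ((G.subgroupOf K)) = 8 := by
      have h1 := card_two_points hα G hab
      rw [hGcard, h] at h1
      have h2 : Nat.card (G.subgroupOf K) = Nat.card (stabilizer G ((a, b) : α × α)) :=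
        Nat.card_congr
          { toFun := fun g => ⟨⟨g.1.1, g.2⟩, g.1.2⟩
            invFun := fun g => ⟨⟨g.1.1, g.2⟩, g.1.2⟩
            left_inv := fun g => rfl
            right_inv := fun g => rfl }
      omega
    obtain ⟨x, y, hxy, hxa, hxb, hya, hyb⟩ : ∃ x y : α, x ≠ y ∧ x ≠ a ∧ x ≠ b ∧ y ≠ a ∧ y ≠ b := by
      have hc : 1 < (Finset.univ \ {a, b} : Finset α).card := by
        rw [Finset.card_sdiff_of_subset (Finset.subset_univ _), Finset.card_univ, hα,
          Finset.card_pair hab]
        omega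
      obtain ⟨x, hx, y, hy, hxy⟩ := Finset.one_lt_card.mp hc
      simp only [Finset.mem_sdiff, Finset.mem_univ, Finset.mem_insert, Finset.mem_singleton, true_and,
        not_or] at hx hy
      exact ⟨x, y, hxy, hx.1, hx.2, hy.1, hy.2⟩
    have hwK : Equiv.swap x y ∈ K := by
      rw [hK, mem_stabilizer_iff]
      exact Prod.ext (Equiv.swap_apply_of_ne_of_ne hxa.symm hya.symm)
        (Equiv.swap_apply_of_ne_of_ne hxb.symm hyb.symm)
    haveI : Fact (Nat.Prime 2) := ⟨Nat.prime_two⟩
    have hS2 : IsPGroup 2 (G.subgroupOf K) := IsPGroup.of_card (n := 3) (by rw [hS8]; rfl)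
    obtain ⟨Q, hQ⟩ := hS2.exists_le_sylow
    have hQeq : G.subgroupOf K = (Q : Subgroup K) := by
      obtain ⟨i, hi⟩ := IsPGroup.iff_card.mp Q.2
      have h1 := (Q : Subgroup K).card_subgroup_dvd_card
      rw [hK120, hi] at h1
      have hi3 : i ≤ 3 := by
        by_contra hi4
        have : 2 ^ 4 ∣ 120 := (pow_dvd_pow 2 (by omega)).trans h1
        norm_num at this
      refine Subgroup.eq_of_le_of_card_ge hQ ?_
      rw [hS8, hi]
      exact (Nat.pow_le_pow_right (by norm_num) hi3).trans_eq rfl
    have hwo : (⟨Equiv.swap x y, hwK⟩ : K) ^ 2 = 1 := Subtype.ext (by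
      show Equiv.swap x y ^ 2 = 1
      rw [pow_two, Equiv.swap_mul_self])
    have hw2 : IsPGroup 2 (Subgroup.zpowers (⟨Equiv.swap x y, hwK⟩ : K)) := by
      intro u
      obtain ⟨m, hm⟩ := Subgroup.mem_zpowers_iff.mp u.2
      refine ⟨1, Subtype.ext ?_⟩
      rw [pow_one, SubmonoidClass.coe_pow, ← hm, ← zpow_natCast, ← zpow_mul, mul_comm, zpow_mul,
        zpow_natCast, hwo, one_zpow]
      rfl
    obtain ⟨Q', hQ'⟩ := hw2.exists_le_sylow
    obtain ⟨k, hk⟩ := MulAction.exists_smul_eq K Q' Q
    have hmem : MulAut.conj k (⟨Equiv.swap x y, hwK⟩ : K) ∈ G.subgroupOf K := by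
      rw [hQeq, ← hk, Sylow.coe_subgroup_smul]
      exact Subgroup.smul_mem_pointwise_smul _ _ _ (hQ' (Subgroup.mem_zpowers _))
    refine hswap _ (Subgroup.mem_subgroupOf.mp hmem) ?_
    refine ⟨(k : Equiv.Perm α) x, (k : Equiv.Perm α) y, fun h => hxy ((k : Equiv.Perm α).injective h), ?_⟩
    rw [MulAut.conj_apply, Subgroup.coe_mul, Subgroup.coe_mul, Subgroup.coe_inv]
    exact (Equiv.swap_apply_apply _ x y).symm
  rw [hG168, mul_one] at hGcard
  have hGA : G ≤ alternatingGroup α := by
    have : E = G := Subgroup.eq_of_le_of_card_ge hEG (by rw [hGcard, hEcard])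
    rw [← this]; exact inf_le_right
  refine ⟨hGcard, ?_⟩
  haveI : Nontrivial G := Finite.one_lt_card_iff_nontrivial.mp (by omega)
  refine ⟨fun M hM => ?_⟩
  by_cases hM1 : M = ⊥
  · exact Or.inl hM1
  refine Or.inr (Subgroup.eq_top_of_card_eq _ ?_)
  obtain ⟨m, -, hm8, hm⟩ := card_normalised hα G hG (M.map G.subtype) (Subgroup.map_subtype_le _)
    (fun g hg => Subgroup.mem_normalizer_iff.mpr fun x => by
      constructor
      · rintro ⟨z, hz, rfl⟩
        exact ⟨_, hM.conj_mem z hz ⟨g, hg⟩, rfl⟩
      · rintro ⟨z, hz, hze⟩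
        refine ⟨_, hM.conj_mem z hz ⟨g, hg⟩⁻¹, ?_⟩
        simp only [map_mul, map_inv, Subgroup.coe_subtype] at hze ⊢
        rw [hze]; group)
    ((Subgroup.map_subtype_le _).trans hGA) ((Subgroup.map_eq_bot_iff_of_injective _ G.subtype_injective).not.mpr hM1)
  rw [Subgroup.card_map_of_injective G.subtype_injective] at hm
  have h1 := Nat.le_of_dvd (by omega) M.card_subgroup_dvd_card
  rw [hGcard] at h1
  omega

end Cfsg.Agent.S0678
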