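import Cfsg.Statements.S0680
import Cfsg.Agent.H32.SharplyTwo

set_option autoImplicit false
open Cfsg

namespace Cfsg.Agent.S0680

/-- A finite sharply doubly transitive permutation group has degree a prime power `p ^ j`; a Sylow `p`-subgroup is normal, elementary abelian and regular, and consists of the identity together with the elements without fixed points. (Frobenius' Theorem is not needed.) -/
theorem result {α : Type*} [Fintype α] [DecidableEq α] (G : Subgroup (Equiv.Perm α)) [MulAction.IsMultiplyPretransitive G α 2] (hsharp : ∀ x : Fin 2 ↪ α, MulAction.stabilizer G x = ⊥) (h2 : 2 ≤ Fintype.card α) : ∃ p j : ℕ, p.Prime ∧ 1 ≤ j ∧ Fintype.card α = p ^ j ∧ ∀ (hp : Fact p.Prime) (P : Sylow p G), (P : Subgroup G).Normal ∧ IsMulCommutative (P : Subgroup G) ∧ (∀ x ∈ (P : Subgroup G), x ^ p = 1) ∧ MulAction.IsPretransitive (P : Subgroup G) α ∧ (∀ a : α, MulAction.stabilizer (P : Subgroup G) a = ⊥) ∧ ∀ g : G, g ∈ (P : Subgroup G) ↔ g = 1 ∨ ∀ a : α, g • a ≠ a := by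
  classical
  obtain ⟨N, p, j, hN, hp, hj, hcard, hNcard, hab, hexp, htrans, hfree, hmem⟩ :=
    Cfsg.Agent.H32.exists_sharply_two_kernel G hsharp h2
  refine ⟨p, j, hp, hj, hcard, fun _ P => ?_⟩
  have hNp : IsPGroup p N := fun x => ⟨1, Subtype.ext (by simpa using hexp x x.2)⟩
  have hPN : (P : Subgroup G) = N := by
    obtain ⟨k, hk⟩ := IsPGroup.iff_card.mp P.2
    have hdvd := (P : Subgroup G).card_subgroup_dvd_card
    have hle : N ≤ (P : Subgroup G) := by
      haveI := hN
      have := P.3 (P.2.to_sup_of_normal_right hNp) le_sup_left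
      exact (le_sup_right.trans this.le)
    refine (Subgroup.eq_of_le_of_card_ge hle ?_).symm
    rw [hNcard]
    refine Nat.le_of_dvd (pow_pos hp.pos j) ?_
    have hG : Nat.card G = Fintype.card α * (Fintype.card α - 1) := by
      obtain ⟨x⟩ : Nonempty (Fin 2 ↪ α) :=
        Function.Embedding.nonempty_of_card_le (by simpa using h2)
      have hidx := (MulAction.stabilizer G x).card_mul_index
      rw [@MulAction.index_stabilizer_of_transitive G (Fin 2 ↪ α) _ _ x
          ‹MulAction.IsMultiplyPretransitive G α 2›, hsharp x,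
        Subgroup.card_bot, one_mul, Nat.card_eq_fintype_card, Fintype.card_embedding_eq,
        Fintype.card_fin] at hidx
      rw [← hidx]
      simp [Nat.descFactorial_succ, mul_comm]
    rw [hG, hcard, hk] at hdvd
    rw [hk]
    have hcop : Nat.Coprime (p ^ k) (p ^ j - 1) := by
      refine Nat.Coprime.pow_left k ((Nat.Prime.coprime_iff_not_dvd hp).mpr fun h => ?_)
      have h1 : p ∣ p ^ j := dvd_pow_self p (by omega)
      have h3 := Nat.dvd_sub h1 h
      rw [Nat.sub_sub_self (Nat.one_le_pow _ _ hp.pos)] at h3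
      exact hp.one_lt.ne' (Nat.dvd_one.mp h3)
    exact hcop.dvd_of_dvd_mul_right hdvd
  rw [hPN]
  exact ⟨hN, hab, hexp, htrans, hfree, hmem⟩

end Cfsg.Agent.S0680
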