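import Cfsg.Statements.S0681
import Mathlib

set_option autoImplicit false
open Cfsg

namespace Cfsg.Agent.S0681

/-- The affine maps `x ↦ x * a + b`, `a ≠ 0`, of a near-field form a sharply doubly transitive permutation group. -/
theorem result {F : Type*} [Cfsg.NearField F] : ∃ H : Subgroup (Equiv.Perm F), (∀ σ : Equiv.Perm F, σ ∈ H ↔ ∃ a b : F, a ≠ 0 ∧ ∀ x : F, σ x = x * a + b) ∧ MulAction.IsMultiplyPretransitive H F 2 ∧ ∀ x : Fin 2 ↪ F, MulAction.stabilizer H x = ⊥ := by
  have zmul : ∀ c : F, (0 : F) * c = 0 := fun c => by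
    have := Cfsg.NearField.right_distrib (0 : F) 0 c
    rw [add_zero] at this
    simpa using this
  have nmul : ∀ x c : F, (-x) * c = -(x * c) := fun x c => by
    apply eq_neg_of_add_eq_zero_left
    rw [← Cfsg.NearField.right_distrib, neg_add_cancel, zmul]
  have submul : ∀ x y c : F, (x - y) * c = x * c - y * c := fun x y c => by
    rw [sub_eq_add_neg, Cfsg.NearField.right_distrib, nmul, ← sub_eq_add_neg]
  have hnz : ∀ a a' c : F, a * a' = 1 → a' * a = 1 → c ≠ 0 → a * c ≠ 0 := by
    intro a a' c _ h h0 e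
    apply h0
    rw [← one_mul c, ← h, mul_assoc, e, Cfsg.NearField.mul_zero]
  let H : Subgroup (Equiv.Perm F) :=
    { carrier := {σ | ∃ a b : F, a ≠ 0 ∧ ∀ x : F, σ x = x * a + b}
      one_mem' := ⟨1, 0, fun h => Cfsg.NearField.zero_ne_one (F := F) h.symm, fun x => by simp⟩
      mul_mem' := by
        rintro σ τ ⟨a, b, ha, hσ⟩ ⟨c, d, hc, hτ⟩
        obtain ⟨c', hc1, hc2⟩ := Cfsg.NearField.exists_inv c hc
        refine ⟨c * a, d * a + b, hnz c c' a hc1 hc2 ha, fun x => ?_⟩
        rw [Equiv.Perm.mul_apply, hτ, hσ, Cfsg.NearField.right_distrib, mul_assoc, add_assoc]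
      inv_mem' := by
        rintro σ ⟨a, b, ha, hσ⟩
        obtain ⟨a', ha1, ha2⟩ := Cfsg.NearField.exists_inv a ha
        show ∃ a b : F, a ≠ 0 ∧ ∀ x : F, σ⁻¹ x = x * a + b
        refine ⟨a', (-b) * a', fun h => Cfsg.NearField.zero_ne_one (F := F) ?_, fun x => ?_⟩
        · rw [← ha1, h, Cfsg.NearField.mul_zero]
        · apply σ.injective
          rw [Equiv.Perm.inv_def, Equiv.apply_symm_apply, hσ, ← Cfsg.NearField.right_distrib,
            mul_assoc, ha2, mul_one, neg_add_cancel_right] }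
  refine ⟨H, fun σ => Iff.rfl, ?_, ?_⟩
  · rw [MulAction.is_two_pretransitive_iff]
    intro u v c d huv hcd
    obtain ⟨w, hw1, hw2⟩ := Cfsg.NearField.exists_inv (v - u) (sub_ne_zero.mpr (Ne.symm huv))
    have ha : w * (d - c) ≠ 0 := hnz w (v - u) _ hw2 hw1 (sub_ne_zero.mpr (Ne.symm hcd))
    set a := w * (d - c) with ha'
    obtain ⟨a', ha1, ha2⟩ := Cfsg.NearField.exists_inv a ha
    let σ : Equiv.Perm F :=
      { toFun := fun x => x * a + (-(u * a) + c)
        invFun := fun x => (x + -(-(u * a) + c)) * a'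
        left_inv := fun x => by
          show (x * a + (-(u * a) + c) + -(-(u * a) + c)) * a' = x
          rw [add_neg_cancel_right, mul_assoc, ha1, mul_one]
        right_inv := fun x => by
          show (x + -(-(u * a) + c)) * a' * a + (-(u * a) + c) = x
          rw [mul_assoc, ha2, mul_one, neg_add_cancel_right] }
    refine ⟨⟨σ, a, _, ha, fun x => rfl⟩, ?_, ?_⟩
    · show u * a + (-(u * a) + c) = c
      rw [add_neg_cancel_left]
    · show v * a + (-(u * a) + c) = d
      rw [← add_assoc, ← sub_eq_add_neg, ← submul, ha', ← mul_assoc, hw1, one_mul, sub_add_cancel]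
  · intro x
    rw [eq_bot_iff]
    rintro ⟨σ, a, b, ha, hσ⟩ hfix
    rw [Subgroup.mem_bot]
    have h0 : σ (x 0) = x 0 := congrFun (congrArg DFunLike.coe (MulAction.mem_stabilizer_iff.mp hfix)) 0
    have h1 : σ (x 1) = x 1 := congrFun (congrArg DFunLike.coe (MulAction.mem_stabilizer_iff.mp hfix)) 1
    have hne : x 1 - x 0 ≠ 0 := sub_ne_zero.mpr fun h => absurd (x.injective h) (by decide)
    have ha1 : a = 1 := by
      obtain ⟨w, -, hw⟩ := Cfsg.NearField.exists_inv _ hne
      have h2 : (x 1 - x 0) * a = x 1 - x 0 := by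
        rw [submul]
        conv_rhs => rw [← h1, ← h0, hσ, hσ, add_sub_add_right_eq_sub]
      calc a = w * ((x 1 - x 0) * a) := by rw [← mul_assoc, hw, one_mul]
        _ = 1 := by rw [h2, hw]
    have hb : b = 0 := by
      rw [hσ, ha1, mul_one] at h0
      exact add_eq_left.mp h0
    refine Subtype.ext (Equiv.ext fun z => ?_)
    show σ z = z
    rw [hσ, ha1, hb, mul_one, add_zero]

end Cfsg.Agent.S0681
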