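import Cfsg.Statements.S0682
import Mathlib

set_option autoImplicit false
open Cfsg

namespace Cfsg.Agent.S0682

/-- A finite near-field has prime-power order; its additive group is commutative of prime exponent. -/
theorem result {F : Type*} [Cfsg.NearField F] [Finite F] : ∃ p j : ℕ, p.Prime ∧ 1 ≤ j ∧ Nat.card F = p ^ j ∧ (∀ x y : F, x + y = y + x) ∧ ∀ x : F, p • x = 0 := by
  classical
  haveI : Nontrivial F := ⟨0, 1, Cfsg.NearField.zero_ne_one⟩
  have zmul : ∀ c : F, (0 : F) * c = 0 := fun c => by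
    have := Cfsg.NearField.right_distrib (0 : F) 0 c
    rw [add_zero] at this
    simpa using this
  let R : F → F →+ F := fun c =>
    { toFun := fun x => x * c, map_zero' := zmul c, map_add' := fun x y => Cfsg.NearField.right_distrib x y c }
  have hR : ∀ c : F, c ≠ 0 → Function.Bijective (R c) := by
    intro c hc
    obtain ⟨c', h1, h2⟩ := Cfsg.NearField.exists_inv c hc
    refine ⟨fun x y h => ?_, fun y => ⟨y * c', ?_⟩⟩
    · have h' : x * c = y * c := h
      simpa [mul_assoc, h1] using congrArg (· * c') h'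
    · show y * c' * c = y
      rw [mul_assoc, h2, mul_one]
  have hdec : ∀ x y : F, x ≠ 0 → y ≠ 0 → ∃ c : F, c ≠ 0 ∧ R c x = y := by
    intro x y hx hy
    obtain ⟨x', h1, -⟩ := Cfsg.NearField.exists_inv x hx
    refine ⟨x' * y, fun h => hy ?_, ?_⟩
    · rw [← one_mul y, ← h1, mul_assoc, h, Cfsg.NearField.mul_zero]
    · show x * (x' * y) = y
      rw [← mul_assoc, h1, one_mul]
  obtain ⟨x, hx⟩ := exists_ne (0 : F)
  have hord : addOrderOf x ≠ 1 := fun h => hx (AddMonoid.addOrderOf_eq_one_iff.mp h)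
  obtain ⟨p, hp, hdvd⟩ := Nat.exists_prime_and_dvd hord
  obtain ⟨x₀, hx₀⟩ : ∃ x₀ : F, addOrderOf x₀ = p :=
    ⟨(addOrderOf x / p) • x, by
      rw [addOrderOf_nsmul]
      rw [Nat.gcd_eq_right (Nat.div_dvd_of_dvd hdvd), Nat.div_div_self hdvd (isOfFinAddOrder_of_finite x).addOrderOf_pos.ne']⟩
  have hx₀0 : x₀ ≠ 0 := by
    intro h; rw [h, addOrderOf_zero] at hx₀; exact hp.ne_one hx₀.symm
  have hexp : ∀ y : F, p • y = 0 := by
    intro y
    by_cases hy : y = 0
    · rw [hy, nsmul_zero]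
    · obtain ⟨c, -, rfl⟩ := hdec x₀ y hx₀0 hy
      rw [← map_nsmul, ← hx₀, addOrderOf_nsmul_eq_zero, map_zero]
  haveI : Fact p.Prime := ⟨hp⟩
  have hpg : IsPGroup p (Multiplicative F) := fun y => ⟨1, by
    rw [pow_one]; exact Multiplicative.toAdd.injective (by simpa using hexp y.toAdd)⟩
  haveI := hpg.center_nontrivial
  obtain ⟨⟨z, hz⟩, hz0⟩ := exists_ne (1 : Subgroup.center (Multiplicative F))
  have hz0' : z.toAdd ≠ 0 := fun h => hz0 (Subtype.ext (Multiplicative.toAdd.injective h))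
  have hzc : ∀ u : F, u + z.toAdd = z.toAdd + u := fun u =>
    congrArg Multiplicative.toAdd (Subgroup.mem_center_iff.mp hz (Multiplicative.ofAdd u))
  have hcomm : ∀ u v : F, u + v = v + u := by
    intro u v
    by_cases hv : v = 0
    · rw [hv, add_zero, zero_add]
    · obtain ⟨c, hc, rfl⟩ := hdec z.toAdd v hz0' hv
      obtain ⟨w, rfl⟩ := (hR c hc).2 u
      rw [← map_add, hzc, map_add]
  obtain ⟨j, hj⟩ := IsPGroup.iff_card.mp hpg
  rw [Nat.card_congr Multiplicative.toAdd] at hj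
  refine ⟨p, j, hp, ?_, hj, hcomm, hexp⟩
  rcases Nat.eq_zero_or_pos j with h | h
  · rw [h, pow_zero] at hj
    exact absurd hj Finite.one_lt_card.ne'
  · exact h

end Cfsg.Agent.S0682
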