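import Cfsg.Statements.S0683
import Cfsg.Agent.H32.SharplyTwo

set_option autoImplicit false
open Cfsg

namespace Cfsg.Agent.S0683

/-- A finite sharply doubly transitive permutation group is the affine group of a near-field: the permuted set carries a near-field structure for which the group consists exactly of the maps `x ↦ x * a + b` with `a ≠ 0`. -/
theorem result {α : Type*} [Fintype α] [DecidableEq α] (H : Subgroup (Equiv.Perm α)) [MulAction.IsMultiplyPretransitive H α 2] (hsharp : ∀ x : Fin 2 ↪ α, MulAction.stabilizer H x = ⊥) (h2 : 2 ≤ Fintype.card α) : ∃ _ : Cfsg.NearField α, ∀ σ : Equiv.Perm α, σ ∈ H ↔ ∃ a b : α, a ≠ 0 ∧ ∀ x : α, σ x = x * a + b := by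
  classical
  obtain ⟨N, p, j, hN, hp, hj, hcard, hNcard, hab, hexp, htrans, hfree, -⟩ :=
    Cfsg.Agent.H32.exists_sharply_two_kernel H hsharp h2
  haveI : Nontrivial α := Fintype.one_lt_card_iff_nontrivial.mp (by omega)
  obtain ⟨o, e, hoe⟩ := exists_pair_ne α
  have hNc : ∀ m ∈ N, ∀ n ∈ N, m * n = n * m := Cfsg.Agent.Perm.isMulCommutative_iff_comm.mp hab
  -- translations
  choose nt hnt using fun a : α => MulAction.exists_smul_eq N o a
  have hntu : ∀ (n : N) (a : α), n • o = a → n = nt a := by
    intro n a h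
    have : (nt a)⁻¹ * n ∈ MulAction.stabilizer N o := by
      rw [MulAction.mem_stabilizer_iff, mul_smul, h, inv_smul_eq_iff, hnt a]
    rw [hfree o, Subgroup.mem_bot, inv_mul_eq_one] at this
    exact this.symm
  -- dilations
  have h2pt : ∀ {a b c d : α}, a ≠ b → c ≠ d → ∃ g : H, g • a = c ∧ g • b = d :=
    MulAction.is_two_pretransitive_iff.mp ‹MulAction.IsMultiplyPretransitive H α 2›
  have hex : ∀ a : α, ∃ h : H, h • o = o ∧ (a ≠ o → h • e = a) := by
    intro a
    by_cases ha : a = o
    · exact ⟨1, one_smul _ _, fun h => absurd ha h⟩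
    · obtain ⟨h, h1, h3⟩ := h2pt hoe (Ne.symm ha)
      exact ⟨h, h1, fun _ => h3⟩
  choose hd hdo hde using hex
  have hdu : ∀ (h : H) (a : α), a ≠ o → h • o = o → h • e = a → h = hd a := by
    intro h a ha h1 h3
    let x : Fin 2 ↪ α := ⟨![o, e], by
      intro i j h
      fin_cases i <;> fin_cases j <;>
        first | rfl | exact absurd h hoe | exact absurd h.symm hoe⟩
    have hx : (hd a)⁻¹ * h ∈ MulAction.stabilizer H x := by
      rw [MulAction.mem_stabilizer_iff]
      apply Function.Embedding.ext
      intro i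
      fin_cases i
      · show ((hd a)⁻¹ * h) • o = o
        rw [mul_smul, h1, inv_smul_eq_iff, hdo]
      · show ((hd a)⁻¹ * h) • e = e
        rw [mul_smul, h3, inv_smul_eq_iff, hde a ha]
    rw [hsharp x, Subgroup.mem_bot, inv_mul_eq_one] at hx
    exact hx.symm
  have hd_ne : ∀ a b : α, a ≠ o → hd b • a ≠ o := fun a b ha h =>
    ha (smul_left_cancel (hd b) (h.trans (hdo b).symm))
  let add : α → α → α := fun x y => (nt y * nt x) • o
  have hnt_add : ∀ x y, nt (add x y) = nt y * nt x := fun x y => (hntu _ _ rfl).symm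
  let mul : α → α → α := fun x a => if a = o then o else hd a • x
  have hmulne : ∀ x a, a ≠ o → mul x a = hd a • x := fun x a ha => if_neg ha
  letI iA : Add α := ⟨add⟩
  letI iZ : Zero α := ⟨o⟩
  letI iN : Neg α := ⟨fun x => (nt x)⁻¹ • o⟩
  letI : AddGroup α :=
    { add := add
      zero := o
      neg := fun x => (nt x)⁻¹ • o
      nsmul := nsmulRec
      zsmul := zsmulRec
      add_assoc := fun x y z => by
        show (nt z * nt (add x y)) • o = (nt (add y z) * nt x) • o
        rw [hnt_add, hnt_add, mul_assoc]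
      zero_add := fun x => by
        show (nt x * nt o) • o = x
        rw [← hntu 1 o (one_smul _ _), mul_one, hnt]
      add_zero := fun x => by
        show (nt o * nt x) • o = x
        rw [← hntu 1 o (one_smul _ _), one_mul, hnt]
      neg_add_cancel := fun x => by
        show (nt x * nt ((nt x)⁻¹ • o)) • o = o
        rw [← hntu ((nt x)⁻¹) _ rfl, mul_inv_cancel, one_smul] }
  letI : Monoid α :=
    { mul := mul
      one := e
      mul_assoc := fun x a b => by
        show mul (mul x a) b = mul x (mul a b)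
        by_cases hb : b = o
        · simp [mul, hb]
        by_cases ha : a = o
        · simp [mul, hb, ha, hdo]
        have hab' : hd b • a ≠ o := hd_ne a b ha
        rw [hmulne _ _ hb, hmulne _ _ ha, hmulne _ _ hb, hmulne _ _ hab', ← mul_smul]
        congr 1
        exact hdu _ _ hab' (by rw [mul_smul, hdo, hdo]) (by rw [mul_smul, hde a ha])
      one_mul := fun a => by
        show mul e a = a
        by_cases ha : a = o
        · simp [mul, ha]
        · rw [hmulne _ _ ha, hde a ha]
      mul_one := fun x => by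
        show mul x e = x
        rw [hmulne _ _ (Ne.symm hoe), ← hdu 1 e (Ne.symm hoe) (one_smul _ _) (one_smul _ _), one_smul] }
  refine ⟨{
    right_distrib := fun x y a => ?_
    mul_zero := fun x => if_pos rfl
    zero_ne_one := hoe
    exists_inv := fun a ha => ?_ }, fun σ => ?_⟩
  · show mul (add x y) a = add (mul x a) (mul y a)
    by_cases ha : a = o
    · simp [mul, ha, add, ← hntu 1 o (one_smul _ _)]
    · rw [hmulne _ _ ha, hmulne _ _ ha, hmulne _ _ ha]
      have hc : ∀ z : α, (nt (hd a • z) : H) = hd a * (nt z : H) * (hd a)⁻¹ := by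
        intro z
        have := hntu ⟨hd a * (nt z : H) * (hd a)⁻¹, hN.conj_mem _ (nt z).2 _⟩ (hd a • z) (by
          show (hd a * (nt z : H) * (hd a)⁻¹) • o = hd a • z
          rw [mul_smul, mul_smul, show (hd a)⁻¹ • o = o by rw [inv_smul_eq_iff, hdo]]
          exact congrArg _ (hnt z))
        rw [← this]
      show hd a • ((nt y * nt x : N) : H) • o = ((nt (hd a • y) * nt (hd a • x) : N) : H) • o
      rw [Subgroup.coe_mul, Subgroup.coe_mul, hc, hc, mul_smul, mul_smul, mul_smul, mul_smul, mul_smul,
        mul_smul, show (hd a)⁻¹ • o = o by rw [inv_smul_eq_iff, hdo], inv_smul_smul]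
  · have ha' : a ≠ o := ha
    have hb : (hd a)⁻¹ • e ≠ o := fun h => hoe (by rw [inv_smul_eq_iff, hdo] at h; exact h.symm)
    refine ⟨(hd a)⁻¹ • e, ?_, ?_⟩
    · show mul a ((hd a)⁻¹ • e) = e
      rw [hmulne _ _ hb, ← hdu ((hd a)⁻¹) _ hb (by rw [inv_smul_eq_iff, hdo]) rfl, inv_smul_eq_iff,
        hde a ha']
    · show mul ((hd a)⁻¹ • e) a = e
      rw [hmulne _ _ ha', smul_inv_smul]
  · have key : ∀ b z : α, add z b = (nt b : H) • z := by
      intro b z
      show ((nt b * nt z : N) : H) • o = _
      rw [Subgroup.coe_mul, mul_smul]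
      exact congrArg _ (hnt z)
    constructor
    · intro hσ
      set b := (⟨σ, hσ⟩ : H) • o with hb
      set h : H := ((nt b : H))⁻¹ * ⟨σ, hσ⟩ with hh
      have h1 : h • o = o := by
        rw [hh, mul_smul, ← hb, inv_smul_eq_iff]
        exact (hnt b).symm
      have ha : h • e ≠ o := fun k => hoe.symm (smul_left_cancel h (k.trans h1.symm))
      refine ⟨h • e, b, ha, fun x => ?_⟩
      show σ x = add (mul x (h • e)) b
      rw [hmulne _ _ ha, ← hdu h _ ha h1 rfl, key, hh, ← mul_smul, mul_inv_cancel_left]
      rfl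
    · rintro ⟨a, b, ha, hσ⟩
      have : σ = (((nt b : H) * hd a : H) : Equiv.Perm α) := by
        refine Equiv.ext fun x => ?_
        rw [hσ x]
        show add (mul x a) b = ((nt b : H) * hd a) • x
        rw [hmulne _ _ ha, key, mul_smul]
      rw [this]
      exact SetLike.coe_mem _

end Cfsg.Agent.S0683
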