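import Cfsg.Statements.S0686
import Cfsg.Agent.H78.Zass.Theorem
import Cfsg.Agent.Frobenius.Construct
import Cfsg.Agent.Frobenius.Sylow

set_option autoImplicit false
open Cfsg

namespace Cfsg.Agent.S0686

/-- A quaternion 2-group of class at most two has order at most eight. -/
theorem quaternion_class_two {k : ℕ}
    (h : ∀ a b c : QuaternionGroup (2 ^ k), (a * b * a⁻¹ * b⁻¹) * c = c * (a * b * a⁻¹ * b⁻¹)) : k ≤ 1 := by
  by_contra hk
  have h1 := h (QuaternionGroup.xa 0) (QuaternionGroup.a 1) (QuaternionGroup.xa 0)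
  have hi : (QuaternionGroup.a 1 : QuaternionGroup (2 ^ k))⁻¹ = QuaternionGroup.a (-1) :=
    inv_eq_of_mul_eq_one_right (by rw [QuaternionGroup.a_mul_a, add_neg_cancel]; rfl)
  have hj : (QuaternionGroup.xa 0 : QuaternionGroup (2 ^ k))⁻¹ = QuaternionGroup.xa ((2 ^ k : ℕ) : ZMod (2 * 2 ^ k)) :=
    inv_eq_of_mul_eq_one_right (by
      rw [QuaternionGroup.xa_mul_xa, sub_zero, ← Nat.cast_add, ← two_mul, ZMod.natCast_self]; rfl)
  rw [hi, hj] at h1
  simp only [QuaternionGroup.xa_mul_a, QuaternionGroup.xa_mul_xa, QuaternionGroup.a_mul_a,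
    QuaternionGroup.a_mul_xa, zero_add, add_zero, zero_sub, sub_zero, QuaternionGroup.xa.injEq] at h1
  have e2 : ((2 ^ k : ℕ) : ZMod (2 * 2 ^ k)) + ((2 ^ k : ℕ) : ZMod (2 * 2 ^ k)) = 0 := by
    rw [← Nat.cast_add, ← two_mul, ZMod.natCast_self]
  have h4 : ((4 : ℕ) : ZMod (2 * 2 ^ k)) = 0 := by
    push_cast at h1 e2 ⊢
    first
      | linear_combination h1
      | linear_combination -h1
      | linear_combination h1 + e2
      | linear_combination -h1 + e2
      | linear_combination h1 + 2 * e2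
      | linear_combination -h1 + 2 * e2
      | linear_combination h1 - e2
      | linear_combination -h1 - e2
  rw [ZMod.natCast_eq_zero_iff] at h4
  have h2 : 2 ^ 2 ≤ 2 ^ k := Nat.pow_le_pow_right two_pos (by omega)
  have := Nat.le_of_dvd (by norm_num) h4
  omega

/-- In a linear group over the prime field that is regular on non-zero vectors and has no irreducible cyclic normal subgroup, let `A` be a maximal normal abelian subgroup and `N` a normal subgroup centralising `A` that is minimal among non-abelian normal subgroups centralising `A`. Then `N` is quaternion of order 8 or isomorphic to `SL(2,5)`. -/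
theorem result {p : ℕ} [Fact p.Prime] {V : Type*} [AddCommGroup V] [Module (ZMod p) V] [Finite V] (H : Subgroup (V ≃ₗ[ZMod p] V)) (hreg : ∀ v w : V, v ≠ 0 → w ≠ 0 → ∃! h : H, (h : V ≃ₗ[ZMod p] V) v = w) (hI : ∀ A : Subgroup H, A.Normal → IsCyclic A → ∃ W : Submodule (ZMod p) V, W ≠ ⊥ ∧ W ≠ ⊤ ∧ ∀ a ∈ A, ∀ v ∈ W, ((a : H) : V ≃ₗ[ZMod p] V) v ∈ W) (A : Subgroup H) (hAn : A.Normal) (hAc : IsMulCommutative A) (hAmax : ∀ B : Subgroup H, B.Normal → IsMulCommutative B → A ≤ B → B = A) (N : Subgroup H) (hNn : N.Normal) (hNle : N ≤ Subgroup.centralizer (A : Set H)) (hNna : ¬ IsMulCommutative N) (hNmin : ∀ M : Subgroup H, M.Normal → M ≤ N → ¬ IsMulCommutative M → M = N) : Nonempty (N ≃* QuaternionGroup 2) ∨ Nonempty (N ≃* Matrix.SpecialLinearGroup (Fin 2) (ZMod 5)) := by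
  rcases subsingleton_or_nontrivial V with hV | hV
  · exfalso
    obtain ⟨W, hW0, -, -⟩ := hI ⊥ inferInstance inferInstance
    exact hW0 (Subsingleton.elim _ _)
  haveI := hNn
  haveI := hAn
  haveI : Finite (V ≃ₗ[ZMod p] V) := Finite.of_injective _ DFunLike.coe_injective
  haveI : Nontrivial N := by
    by_contra h
    rw [not_nontrivial_iff_subsingleton] at h
    exact hNna ⟨⟨fun a b => Subsingleton.elim _ _⟩⟩
  let ρ : N →* AddMonoid.End V :=
    { toFun := fun n => (((n : H) : V ≃ₗ[ZMod p] V) : V →ₗ[ZMod p] V).toAddMonoidHom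
      map_one' := rfl
      map_mul' := fun a b => rfl }
  obtain ⟨L, _, _, K, hK, ⟨e⟩⟩ := Cfsg.Agent.Frobenius.exists_of_module ρ fun c hc m hm => by
    by_contra hm0
    exact hc (Subtype.ext ((hreg m m hm0 hm0).unique (y₁ := (c : H)) (y₂ := 1) hm rfl))
  by_cases hD : IsMulCommutative ↥(⁅N, N⁆ : Subgroup H)
  swap
  · right
    have hperf := hNmin ⁅N, N⁆ inferInstance (Subgroup.commutator_le_self N) hD
    refine Cfsg.Agent.H78.Zass.perfect_complement_iso hK e.toMonoidHom e.injective ?_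
    rw [← (Subgroup.map_injective N.subtype_injective).eq_iff, Subgroup.map_subtype_commutator, hperf,
      ← MonoidHom.range_eq_map, Subgroup.range_subtype]
  left
  have hDA : (⁅N, N⁆ : Subgroup H) ≤ A := by
    have hAA : A ≤ Subgroup.centralizer (A : Set H) := (Subgroup.le_centralizer_iff_isMulCommutative).2 hAc
    have hDD : (⁅N, N⁆ : Subgroup H) ≤ Subgroup.centralizer ((⁅N, N⁆ : Subgroup H) : Set H) :=
      (Subgroup.le_centralizer_iff_isMulCommutative).2 hD
    have hDA' : (⁅N, N⁆ : Subgroup H) ≤ Subgroup.centralizer (A : Set H) := (Subgroup.commutator_le_self N).trans hNle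
    have hB : IsMulCommutative ↥(A ⊔ ⁅N, N⁆) := (Subgroup.le_centralizer_iff_isMulCommutative).1
      (sup_le (Subgroup.le_centralizer_iff.1 (sup_le hAA hDA'))
        (Subgroup.le_centralizer_iff.1 (sup_le (Subgroup.le_centralizer_iff.1 hDA') hDD)))
    exact le_sup_right.trans (hAmax _ inferInstance hB le_sup_left).le
  -- `N` has class at most two
  have hcl : ∀ a b c : N, (a * b * a⁻¹ * b⁻¹) * c = c * (a * b * a⁻¹ * b⁻¹) := fun a b c =>
    Subtype.ext (Subgroup.mem_centralizer_iff.1 (hNle c.2) _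
      (hDA (Subgroup.commutator_mem_commutator a.2 b.2)))
  haveI hnil : Group.IsNilpotent N := by
    refine (Subgroup.nilpotent_iff_lowerCentralSeries).2 ⟨2, ?_⟩
    rw [Subgroup.lowerCentralSeries_succ, Subgroup.commutator_eq_bot_iff_le_centralizer,
      Subgroup.lowerCentralSeries_succ, Subgroup.lowerCentralSeries_zero, Subgroup.commutator_le]
    exact fun a _ b _ => Subgroup.mem_centralizer_iff.2 fun c _ => (hcl a b c).symm
  obtain ⟨q, hq, P, hP⟩ : ∃ q : ℕ, q.Prime ∧ ∃ P : Sylow q N, ¬ IsMulCommutative (P : Subgroup N) := by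
    by_contra h
    push Not at h
    obtain ⟨ι⟩ := ((Group.isNilpotent_of_finite_tfae (G := N)).out 0 4).1 hnil
    refine hNna ⟨⟨fun a b => ι.symm.injective ?_⟩⟩
    rw [map_mul, map_mul]
    funext r Q
    exact (h r (Nat.prime_of_mem_primeFactors r.2) Q).is_comm.comm _ _
  haveI : Fact q.Prime := ⟨hq⟩
  have h03 := ((Group.isNilpotent_of_finite_tfae (G := N)).out 0 3).1 hnil
  haveI hPn : (P : Subgroup N).Normal := h03 q inferInstance P
  haveI : (P : Subgroup N).Characteristic := Sylow.characteristic_of_normal P hPn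
  have hPN := hNmin ((P : Subgroup N).map N.subtype) inferInstance (Subgroup.map_subtype_le _) fun h => hP
    ⟨⟨fun a b => Subtype.ext (Subtype.ext (congrArg (fun z => ((z : ↥((P : Subgroup N).map N.subtype)) : H))
      (h.is_comm.comm ⟨_, Subgroup.mem_map_of_mem N.subtype a.2⟩ ⟨_, Subgroup.mem_map_of_mem N.subtype b.2⟩)))⟩⟩
  have hPtop : (P : Subgroup N) = ⊤ := Subgroup.map_injective N.subtype_injective
    (by rw [hPN, ← MonoidHom.range_eq_map, Subgroup.range_subtype])
  have hNp : IsPGroup q N := fun x => by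
    obtain ⟨k, hk⟩ := P.2 ⟨x, by rw [hPtop]; exact Subgroup.mem_top x⟩
    exact ⟨k, congrArg Subtype.val hk⟩
  obtain ⟨P'⟩ := (inferInstance : Nonempty (Sylow q K))
  have hP' : (P' : Subgroup K) = ⊤ :=
    (P'.3 ((hNp.of_equiv e).of_equiv Subgroup.topEquiv.symm) le_top).symm
  let e' : N ≃* (P' : Subgroup K) := e.trans (Subgroup.topEquiv.symm.trans (MulEquiv.subgroupCongr hP'.symm))
  rcases Cfsg.Agent.Frobenius.sylow_cyclic_or_quaternion hK q P' with hc | ⟨-, k, ⟨eQ⟩⟩
  · exfalso
    haveI := hc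
    exact hNna ⟨⟨fun a b => e'.injective (by
      rw [map_mul, map_mul]
      obtain ⟨g, hg⟩ := IsCyclic.exists_generator (α := (P' : Subgroup K))
      obtain ⟨i, hi⟩ := Subgroup.mem_zpowers_iff.1 (hg (e' a))
      obtain ⟨j, hj⟩ := Subgroup.mem_zpowers_iff.1 (hg (e' b))
      rw [← hi, ← hj, ← zpow_add, ← zpow_add, add_comm])⟩⟩
  let ε := e'.trans eQ
  have hk : k ≤ 1 := quaternion_class_two fun a b c => by
    simpa using congrArg ε (hcl (ε.symm a) (ε.symm b) (ε.symm c))
  interval_cases k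
  · exfalso
    exact hNna ⟨⟨fun a b => ε.injective (by
      rw [map_mul, map_mul]
      exact (by decide : ∀ x y : QuaternionGroup 1, x * y = y * x) _ _)⟩⟩
  · exact ⟨ε⟩

end Cfsg.Agent.S0686
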