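import Cfsg.Statements.S0688
import Cfsg.Agent.H88.NRegular

set_option autoImplicit false
open Cfsg

namespace Cfsg.Agent.S0688

/-- A semilinear regular group has an irreducible cyclic normal subgroup. -/
theorem exists_cyclic_of_semilinear {q : ℕ} [Fact q.Prime] {V : Type*} [AddCommGroup V] [Module (ZMod q) V]
    [Finite V] [Nontrivial V] {G : Type*} [Group G] [Finite G] {ρ : G →* (V ≃ₗ[ZMod q] V)}
    (hρ : Function.Injective ρ) (hcard : Nat.card G = Nat.card V - 1) (h : H88.Semilinear ρ) :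
    ∃ A : Subgroup G, A.Normal ∧ IsCyclic A ∧
      ∀ W : Submodule (ZMod q) V, W ≠ ⊥ → W ≠ ⊤ → ¬ ∀ g ∈ A, ∀ v ∈ W, ρ g v ∈ W := by
  obtain ⟨F, _, _, e, he⟩ := h
  choose a σ hσ using he
  have hone : ∀ g, e (ρ g (e.symm 1)) = a g := fun g => by
    rw [hσ, e.apply_symm_apply, map_one, mul_one]
  have ha : ∀ g, a g ≠ 0 := by
    intro g hg
    rw [← hone, map_eq_zero_iff e e.injective, LinearEquiv.map_eq_zero_iff,
      map_eq_zero_iff e.symm e.symm.injective] at hg
    exact one_ne_zero hg
  have hmul : ∀ g h, a (g * h) = a g * σ g (a h) ∧ ∀ x, σ (g * h) x = σ g (σ h x) := by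
    intro g h
    have key : ∀ x, a (g * h) * σ (g * h) x = a g * σ g (a h) * σ g (σ h x) := by
      intro x
      have h1 := hσ (g * h) (e.symm x)
      rw [map_mul, LinearEquiv.mul_apply, hσ, hσ, e.apply_symm_apply, map_mul] at h1
      rw [← h1, mul_assoc]
    have h1 : a (g * h) = a g * σ g (a h) := by simpa only [map_one, mul_one] using key 1
    refine ⟨h1, fun x => ?_⟩
    have h3 := key x
    rw [← h1] at h3
    exact mul_left_cancel₀ (ha _) h3
  let θ : G →* (F ≃+* F) := MonoidHom.mk' σ fun g h => RingEquiv.ext fun x => (hmul g h).2 x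
  have hA : ∀ g ∈ θ.ker, ∀ v, e (ρ g v) = a g * e v := fun g hg v => by
    rw [hσ, show σ g = 1 from hg]; rfl
  have hinj : ∀ g ∈ θ.ker, ∀ g' ∈ θ.ker, a g = a g' → g = g' := fun g hg g' hg' hgg =>
    hρ (LinearEquiv.ext fun v => e.injective (by rw [hA g hg, hA g' hg', hgg]))
  refine ⟨θ.ker, θ.normal_ker, ?_, fun W hW0 hW1 hinv => ?_⟩
  · refine isCyclic_of_injective_ringHom (R := F) (G := θ.ker)
      { toFun := fun g => a g
        map_one' := by rw [← hone, OneMemClass.coe_one, map_one]; simp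
        map_mul' := fun g g' => by
          rw [Subgroup.coe_mul, (hmul _ _).1, show σ (g : G) = 1 from g.2]; rfl } fun g g' hgg =>
      Subtype.ext (hinj g g.2 g' g'.2 hgg)
  let S : Subring F :=
    { carrier := {x | ∀ v ∈ W, e.symm (x * e v) ∈ W}
      mul_mem' := fun {x y} hx hy v hv => by
        have := hx _ (hy v hv)
        rwa [e.apply_symm_apply, ← mul_assoc] at this
      one_mem' := fun v hv => by rw [one_mul, e.symm_apply_apply]; exact hv
      add_mem' := fun {x y} hx hy v hv => by rw [add_mul, map_add]; exact W.add_mem (hx v hv) (hy v hv)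
      zero_mem' := fun v _ => by rw [zero_mul, map_zero]; exact W.zero_mem
      neg_mem' := fun {x} hx v hv => by rw [neg_mul, map_neg]; exact W.neg_mem (hx v hv) }
  let K : Subfield F :=
    { S with
      inv_mem' := fun x hx => by
        rcases eq_or_ne x 0 with rfl | h0
        · rw [_root_.inv_zero]; exact hx
        have hc : x ^ (Fintype.card F - 1 - 1) * x = 1 := by
          rw [← pow_succ, Nat.sub_add_cancel (by have := Fintype.one_lt_card (α := F); omega),
            FiniteField.pow_card_sub_one_eq_one x h0]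
        rw [← eq_inv_of_mul_eq_one_left hc]
        exact S.pow_mem hx _ }
  have hqp : (q : F) = 0 := by
    have h1 : ((q : ℕ) : ZMod q) • e.symm 1 = 0 := by rw [ZMod.natCast_self, zero_smul]
    rw [Nat.cast_smul_eq_nsmul, ← map_nsmul, map_eq_zero_iff e.symm e.symm.injective, nsmul_one] at h1
    exact h1
  haveI : CharP F q := (CharP.charP_iff_prime_eq_zero Fact.out).2 hqp
  letI := ZMod.algebra F q
  haveI : FiniteDimensional (ZMod q) F := Module.Finite.of_finite
  let Φ : (F ≃+* F) → (F ≃ₐ[ZMod q] F) := fun s =>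
    { s with commutes' := fun c => RingHom.congr_fun (Subsingleton.elim
        (s.toRingHom.comp (algebraMap (ZMod q) F)) (algebraMap (ZMod q) F)) c }
  have hΦ : Function.Injective Φ := fun s t hst => RingEquiv.ext fun x =>
    congrArg (fun f : F ≃ₐ[ZMod q] F => f x) hst
  have hrange : Nat.card θ.range ≤ Module.finrank (ZMod q) F := by
    calc Nat.card θ.range ≤ Nat.card (F ≃ₐ[ZMod q] F) :=
          Nat.card_le_card_of_injective (fun s => Φ s) (hΦ.comp Subtype.val_injective)
      _ = Module.finrank (ZMod q) F := IsGalois.card_aut_eq_finrank (ZMod q) F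
  classical
  haveI : Fintype K := Fintype.ofFinite K
  obtain ⟨⟨j, hj0⟩, -, hK⟩ := FiniteField.card K q
  have hFK : Fintype.card F = Fintype.card K ^ Module.finrank K F := Module.card_eq_pow_finrank
  have hd : 2 ≤ Module.finrank K F := by
    by_contra hlt
    have hpos : 0 < Module.finrank K F := Module.finrank_pos
    rw [show Module.finrank K F = 1 by omega, pow_one] at hFK
    obtain ⟨w, hw, hw0⟩ := (Submodule.ne_bot_iff _).1 hW0
    refine hW1 (eq_top_iff.2 fun v _ => ?_)
    have hew : e w ≠ 0 := (map_ne_zero_iff e e.injective).2 hw0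
    obtain ⟨⟨x, hx⟩, hxe⟩ := ((Fintype.bijective_iff_injective_and_card (Subtype.val : K → F)).2
      ⟨Subtype.val_injective, hFK.symm⟩).2 (e v / e w)
    have hx' := hx w hw
    rwa [show x = e v / e w from hxe, div_mul_cancel₀ _ hew, e.symm_apply_apply] at hx'
  have hker : Nat.card θ.ker ≤ Fintype.card K - 1 := by
    rw [← Fintype.card_units, ← Nat.card_eq_fintype_card]
    refine Nat.card_le_card_of_injective (fun g : θ.ker => Units.mk0 (⟨a g, fun v hv => ?_⟩ : K) ?_) fun g g' hgg => ?_
    · rw [← hA g g.2 v, e.symm_apply_apply]; exact hinv g g.2 v hv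
    · exact fun h0 => ha g (congrArg Subtype.val h0)
    · exact Subtype.ext (hinj g g.2 g' g'.2 (congrArg (fun z : Kˣ => ((z : K) : F)) hgg))
  have hq2 : 2 ≤ q := (Fact.out : q.Prime).two_le
  have hn : Module.finrank (ZMod q) F = j * Module.finrank K F := by
    have h1 : Fintype.card F = q ^ Module.finrank (ZMod q) F := by
      rw [Module.card_eq_pow_finrank (K := ZMod q), ZMod.card]
    rw [h1, hK, PNat.mk_coe, ← pow_mul] at hFK
    exact Nat.pow_right_injective hq2 hFK
  have hG : Nat.card G + 1 = Fintype.card K ^ Module.finrank K F := by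
    rw [← hFK, hcard, Nat.card_congr e.toEquiv, Nat.card_eq_fintype_card]
    exact Nat.sub_add_cancel Fintype.card_pos
  have hprod : Nat.card G = Nat.card θ.ker * Nat.card θ.range := by
    rw [← Subgroup.index_ker, Subgroup.card_mul_index]
  obtain ⟨d, hd'⟩ : ∃ d, Module.finrank K F = d + 2 := ⟨_, (Nat.sub_add_cancel hd).symm⟩
  set m := Fintype.card K with hm
  have hm2 : 2 ≤ m := Fintype.one_lt_card
  have h1 : Nat.card G ≤ (m - 1) * (j * (d + 2)) := by
    rw [hprod, ← hd', ← hn]; exact Nat.mul_le_mul hker hrange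
  have h2 : (m - 1) * (m ^ (d + 1) + 1) + 1 ≤ m ^ (d + 2) := by
    obtain ⟨c, hc⟩ : ∃ c, m = c + 1 := ⟨m - 1, by omega⟩
    rw [hc, pow_succ _ (d + 1), Nat.add_sub_cancel]
    have : c + 1 ≤ (c + 1) ^ (d + 1) := Nat.le_self_pow (by omega) _
    nlinarith
  have h3 : j * (d + 2) < m ^ (d + 1) + 1 := by
    have h4 : 2 ^ (j * (d + 1)) ≤ m ^ (d + 1) := by
      rw [hK, PNat.mk_coe, ← pow_mul]; exact Nat.pow_le_pow_left hq2 _
    have h5 : 2 * (j * (d + 1)) ≤ 2 ^ (j * (d + 1)) := by
      rcases Nat.exists_eq_succ_of_ne_zero (show j * (d + 1) ≠ 0 by positivity) with ⟨k, hk⟩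
      rw [hk, pow_succ']
      exact Nat.mul_le_mul_left 2 (Nat.lt_two_pow_self)
    nlinarith
  have h6 : (m - 1) * (j * (d + 2)) < (m - 1) * (m ^ (d + 1) + 1) := Nat.mul_lt_mul_of_pos_left h3 (by omega)
  rw [hd'] at hG
  omega

/-- Degrees of the soluble exceptional sharply doubly transitive groups: if a solvable linear group over the prime field is regular on the non-zero vectors of `V` and has no irreducible cyclic normal subgroup, then `V` has 25, 49, 121 or 529 elements. -/
theorem result {p : ℕ} [Fact p.Prime] {V : Type*} [AddCommGroup V] [Module (ZMod p) V] [Finite V] (H : Subgroup (V ≃ₗ[ZMod p] V)) (hreg : ∀ v w : V, v ≠ 0 → w ≠ 0 → ∃! h : H, (h : V ≃ₗ[ZMod p] V) v = w) (hI : ∀ A : Subgroup H, A.Normal → IsCyclic A → ∃ W : Submodule (ZMod p) V, W ≠ ⊥ ∧ W ≠ ⊤ ∧ ∀ a ∈ A, ∀ v ∈ W, ((a : H) : V ≃ₗ[ZMod p] V) v ∈ W) (hsolv : Group.IsSolvable H) : Nat.card V = 25 ∨ Nat.card V = 49 ∨ Nat.card V = 121 ∨ Nat.card V = 529 := by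
  rcases subsingleton_or_nontrivial V with hV | hV
  · exfalso
    obtain ⟨W, hW0, -, -⟩ := hI ⊥ inferInstance inferInstance
    exact hW0 (Subsingleton.elim _ _)
  haveI : Finite (V ≃ₗ[ZMod p] V) := Finite.of_injective _ DFunLike.coe_injective
  have htrans : ∀ v w : V, v ≠ 0 → w ≠ 0 → ∃ g : H, H.subtype g v = w := fun v w hv hw =>
    (hreg v w hv hw).exists
  have hfree : ∀ v : V, v ≠ 0 → ∀ g : H, H.subtype g v = v → g = 1 := fun v hv g hg =>
    (hreg v v hv hv).unique hg rfl
  rcases (H88.zassenhaus hsolv H.subtype_injective htrans hfree).1 with h | h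
  · exfalso
    obtain ⟨A, hAn, hAc, hA⟩ := exists_cyclic_of_semilinear H.subtype_injective
      (H88.card_regular htrans hfree) h
    obtain ⟨W, hW0, hW1, hW⟩ := hI A hAn hAc
    exact hA W hW0 hW1 hW
  · simpa using h

end Cfsg.Agent.S0688
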