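import Cfsg.Statements.S0691
import Cfsg.Agent.H32.TwoByTwo

set_option autoImplicit false
open Cfsg

namespace Cfsg.Agent.S0691

open Cfsg.Agent.H32

/-- The generators' codes. -/
private def gens : List (Quad 5) := [(2, 0, 0, 3), (0, 4, 1, 0), (1, 2, 1, 3)]

/-- Right-multiplication steps listing the group. -/
private def steps : List (ℕ × ℕ) := [(0, 0), (0, 1), (0, 2), (1, 0), (1, 1), (1, 2), (2, 0), (2, 2), (3, 0), (3, 2), (4, 0), (4, 1), (4, 2), (5, 2), (6, 2), (8, 0), (8, 2), (9, 1), (9, 2), (13, 2), (14, 2), (16, 2), (18, 2)]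

/-- The group's codes. -/
private def codes : List (Quad 5) := [(1, 0, 0, 1), (2, 0, 0, 3), (0, 4, 1, 0), (1, 2, 1, 3), (4, 0, 0, 4), (0, 3, 3, 0), (2, 4, 3, 4), (0, 2, 2, 0), (4, 2, 1, 2), (2, 1, 2, 4), (3, 3, 4, 1), (3, 0, 0, 2), (0, 1, 4, 0), (4, 3, 4, 2), (3, 4, 3, 1), (1, 1, 2, 3), (3, 1, 2, 1), (1, 4, 3, 3), (1, 3, 4, 3), (3, 2, 1, 1), (2, 2, 1, 4), (2, 3, 4, 4), (4, 4, 3, 2), (4, 1, 2, 2)]

private theorem closed_cert : ∀ q ∈ codes, ∀ s ∈ gens,
    quadMul q s ∈ codes := closed_of_check (by decide +kernel)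

private theorem nodup_cert : codes.Nodup := nodup_of_check (by decide +kernel)

private theorem step_cert : stepCheck gens codes steps = true := by decide +kernel

private theorem stab_cert : ∀ k ∈ List.range 1, ∀ q ∈ codes,
    (1 : ZMod 5) ^ k * q.1 = 1 → (1 : ZMod 5) ^ k * q.2.2.1 = 0 → q = quadOne ∧ k = 0 := by
  decide +kernel

private theorem zm_cert : (1 : ZMod 5) ^ 1 = 1 := by decide +kernel

private theorem card_cert : 1 * (codes).length = 5 * 5 - 1 := by
  decide +kernel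

/-- An exceptional sharply doubly transitive group of degree 5^2: the listed matrices generate a subgroup of GL(2,5) of order 24 acting regularly on the non-zero vectors. -/
theorem result (A : Matrix.GeneralLinearGroup (Fin 2) (ZMod 5)) (B : Matrix.GeneralLinearGroup (Fin 2) (ZMod 5)) (C : Matrix.GeneralLinearGroup (Fin 2) (ZMod 5)) (hA : (A : Matrix (Fin 2) (Fin 2) (ZMod 5)) = !![2, 0; 0, -2]) (hB : (B : Matrix (Fin 2) (Fin 2) (ZMod 5)) = !![0, -1; 1, 0]) (hC : (C : Matrix (Fin 2) (Fin 2) (ZMod 5)) = !![1, 2; 1, -2]) : Nat.card (Subgroup.closure ({A, B, C} : Set (Matrix.GeneralLinearGroup (Fin 2) (ZMod 5)))) = 24 ∧ ∀ v w : Fin 2 → ZMod 5, v ≠ 0 → w ≠ 0 → ∃! h : Subgroup.closure ({A, B, C} : Set (Matrix.GeneralLinearGroup (Fin 2) (ZMod 5))), Matrix.mulVec ((h : Matrix.GeneralLinearGroup (Fin 2) (ZMod 5)) : Matrix (Fin 2) (Fin 2) (ZMod 5)) v = w := by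
  have hA' : quadOf A = (2, 0, 0, 3) := by rw [quadOf_eq hA]; rfl
  have hB' : quadOf B = (0, 4, 1, 0) := by rw [quadOf_eq hB]; rfl
  have hC' : quadOf C = (1, 2, 1, 3) := by rw [quadOf_eq hC]; rfl
  have hS : ∀ s ∈ ({A, B, C} : Set (Matrix.GeneralLinearGroup (Fin 2) (ZMod 5))), quadOf s ∈ gens := by
    rintro s (rfl | rfl | rfl)
    · simp [gens, hA']
    · simp [gens, hB']
    · simp [gens, hC']
  have hgens : ∀ q ∈ gens, ∃ s ∈ ({A, B, C} : Set (Matrix.GeneralLinearGroup (Fin 2) (ZMod 5))), quadOf s = q := by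
    intro q hq
    simp only [gens, List.mem_cons, List.not_mem_nil, or_false] at hq
    rcases hq with rfl | rfl | rfl
    · exact ⟨A, by simp, hA'⟩
    · exact ⟨B, by simp, hB'⟩
    · exact ⟨C, by simp, hC'⟩
  haveI : Fact (Nat.Prime 5) := ⟨by norm_num⟩
  obtain ⟨h1, h2⟩ := closure_regular ({A, B, C} : Set (Matrix.GeneralLinearGroup (Fin 2) (ZMod 5))) 1 (1 : ZMod 5) gens codes steps 1 (by norm_num)
    (by rfl) (by rfl) step_cert hS hgens
    (by rw [quadOf_one]; rfl) zm_cert closed_cert nodup_cert stab_cert card_cert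
  rw [Subgroup.closure_union, Subgroup.closure_singleton_one, sup_bot_eq] at h1 h2
  exact ⟨h1, h2⟩

end Cfsg.Agent.S0691
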