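import Cfsg.Statements.S0694
import Cfsg.Agent.Arith.LTE
-- import your own Cfsg.Agent.* helpers here

set_option autoImplicit false
open Cfsg

namespace Cfsg.Agent.S0694

open Cfsg.Agent.Arith

lemma val_two_le {q i : ℕ} (hq : 2 ≤ q) (hi : i ≠ 0) (hev : 2 ∣ i) (hodd : ¬ 2 ∣ q) :
    padicValNat 2 (q - 1) + padicValNat 2 i ≤ padicValNat 2 (q ^ i - 1) := by
  have h := padicValNat_two_pow_sub_one hq hi hev hodd
  have : 1 ≤ padicValNat 2 (q + 1) :=
    one_le_padicValNat_of_dvd (by omega) (by omega)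
  omega

lemma modEq_iff {q N i : ℕ} (hq : 1 ≤ q) : q ^ i ≡ 1 [MOD N] ↔ N ∣ q ^ i - 1 :=
  ⟨fun h => (Nat.modEq_iff_dvd' (Nat.one_le_pow _ _ hq)).1 h.symm,
    fun h => ((Nat.modEq_iff_dvd' (Nat.one_le_pow _ _ hq)).2 h).symm⟩

lemma forward {q n : ℕ} (hq : 2 ≤ q) (hn : 1 < n) (h1 : ∀ r : ℕ, r.Prime → r ∣ n → r ∣ q - 1)
    (h2 : 4 ∣ n → 4 ∣ q - 1) :
    n * (q - 1) ∣ q ^ n - 1 ∧ ∀ i : ℕ, 0 < i → i < n → ¬ n * (q - 1) ∣ q ^ i - 1 := by
  constructor
  · refine dvd_of_forall_padicValNat (Nat.mul_ne_zero (by omega) (by omega))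
      (pow_sub_one_ne_zero hq (by omega)) fun r hr => ?_
    have := Fact.mk hr
    rw [padicValNat.mul (by omega) (by omega)]
    by_cases hrn : r ∣ n
    · by_cases hspec : r = 2 ∧ ¬ 4 ∣ q - 1
      · obtain ⟨rfl, h4⟩ := hspec
        have hqo : ¬ 2 ∣ q := by have := h1 2 hr hrn; omega
        have := val_two_le hq (show n ≠ 0 by omega) hrn hqo
        omega
      · rw [padicValNat_pow_sub_one hr hq (by omega) (h1 r hr hrn) (fun h => Or.inl (by
          by_contra h4; exact hspec ⟨h, h4⟩))]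
        omega
    · rw [padicValNat.eq_zero_of_not_dvd hrn, zero_add]
      have hd : q - 1 ∣ q ^ n - 1 := by simpa using Nat.sub_dvd_pow_sub_pow q 1 n
      exact (padicValNat_dvd_iff_le (pow_sub_one_ne_zero hq (by omega))).1
        (pow_padicValNat_dvd.trans hd)
  · intro i hi hin hd
    suffices n ∣ i from absurd (Nat.le_of_dvd hi this) (by omega)
    refine dvd_of_forall_padicValNat (by omega) (by omega) fun r hr => ?_
    have := Fact.mk hr
    by_cases hrn : r ∣ n
    · have hv : padicValNat r (n * (q - 1)) ≤ padicValNat r (q ^ i - 1) :=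
        (padicValNat_dvd_iff_le (pow_sub_one_ne_zero hq (by omega))).1
          (pow_padicValNat_dvd.trans hd)
      rw [padicValNat.mul (by omega) (by omega)] at hv
      by_cases hspec : r = 2 ∧ ¬ 4 ∣ n
      · obtain ⟨rfl, h4⟩ := hspec
        rw [padicValNat_eq_one_of_mod_four (show n % 4 = 2 by omega)] at hv ⊢
        refine one_le_padicValNat_of_dvd (by omega) ?_
        by_contra hi2
        rw [padicValNat_pow_sub_one hr hq (by omega) (h1 2 hr hrn) (fun _ => Or.inr hi2),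
          padicValNat.eq_zero_of_not_dvd hi2] at hv
        omega
      · rw [padicValNat_pow_sub_one hr hq (by omega) (h1 r hr hrn) (fun h => Or.inl (h2 (by
          by_contra h4; exact hspec ⟨h, h4⟩)))] at hv
        omega
    · rw [padicValNat.eq_zero_of_not_dvd hrn]; exact Nat.zero_le _

/-- `s ^ k ∣ q ^ j - 1` when `gcd (φ (s ^ k)) n ∣ j`. -/
lemma pow_dvd_of_gcd {q n N j : ℕ} (hq : 1 ≤ q) (h : N ∣ q ^ n - 1) (hcop : Nat.Coprime q N)
    (hj : Nat.gcd N.totient n ∣ j) : N ∣ q ^ j - 1 := by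
  rw [dvd_pow_sub_one_iff hq] at h ⊢
  refine (Nat.dvd_gcd ?_ h).trans hj
  have he := congrArg (Units.coeHom (ZMod N)) (ZMod.pow_totient (ZMod.unitOfCoprime q hcop))
  simp only [map_pow, map_one, Units.coeHom_apply, ZMod.coe_unitOfCoprime] at he
  exact orderOf_dvd_iff_pow_eq_one.2 he

lemma bad_absurd {q n : ℕ} (hq : 2 ≤ q) (hn : 1 < n) (h : n * (q - 1) ∣ q ^ n - 1)
    (hmin : ∀ i : ℕ, 0 < i → i < n → ¬ n * (q - 1) ∣ q ^ i - 1)
    {r : ℕ} (hr : r.Prime) (hrn : r ∣ n)
    (hbad : ¬ r ∣ q - 1 ∨ (r = 2 ∧ ¬ 4 ∣ q - 1 ∧ 4 ∣ n))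
    (hmax : ∀ s, s.Prime → s ∣ n → ¬ s ∣ q - 1 → s ≤ r) : False := by
  obtain ⟨j, hj⟩ := hrn
  have hjpos : 0 < j := Nat.pos_of_ne_zero fun h => by simp [h] at hj; omega
  have hjn : j < n := by have := hr.two_le; nlinarith
  apply hmin j hjpos hjn
  refine dvd_of_forall_padicValNat (Nat.mul_ne_zero (by omega) (by omega))
    (pow_sub_one_ne_zero hq (by omega)) fun s hs => ?_
  have := Fact.mk hs
  have := Fact.mk hr
  rw [padicValNat.mul (by omega) (by omega)]
  have hvn : ∀ t : ℕ, t.Prime → padicValNat t n = padicValNat t r + padicValNat t j := by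
    intro t ht
    have := Fact.mk ht
    rw [hj, padicValNat.mul hr.ne_zero (by omega)]
  by_cases hsn : s ∣ n
  · by_cases hsq : s ∣ q - 1
    · by_cases hspec : s = 2 ∧ ¬ 4 ∣ q - 1
      · obtain ⟨rfl, h4⟩ := hspec
        have hqo : ¬ 2 ∣ q := by omega
        have h4q : 2 ≤ padicValNat 2 (q + 1) :=
          two_le_padicValNat_of_four_dvd (by omega) (by omega)
        have hvr : padicValNat 2 r ≤ 1 := by
          by_cases hr2 : r = 2
          · rw [hr2, padicValNat.self (by norm_num)]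
          · rw [padicValNat.eq_zero_of_not_dvd (fun hd =>
              hr2 ((Nat.prime_dvd_prime_iff_eq Nat.prime_two hr).1 hd).symm)]
            omega
        have hjev : 2 ∣ j := by
          by_cases hr2 : r = 2
          · subst hr2
            rcases hbad with hb | ⟨-, -, hb⟩
            · exact absurd hsq hb
            · omega
          · have : 2 ∣ r * j := hj ▸ hsn
            exact (Nat.prime_two.dvd_mul.1 this).resolve_left
              (fun hd => hr2 ((Nat.prime_dvd_prime_iff_eq Nat.prime_two hr).1 hd).symm)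
        have hlte := padicValNat_two_pow_sub_one hq (show j ≠ 0 by omega) hjev hqo
        have := hvn 2 Nat.prime_two
        omega
      · have hsr : s ≠ r := by
          rintro rfl
          rcases hbad with hb | ⟨hb1, hb2, -⟩
          · exact hb hsq
          · exact hspec ⟨hb1, hb2⟩
        rw [padicValNat_pow_sub_one hs hq (by omega) hsq (fun h => Or.inl (by
          by_contra h4; exact hspec ⟨h, h4⟩)), hvn s hs,
          padicValNat.eq_zero_of_not_dvd (fun hd => hsr ((Nat.prime_dvd_prime_iff_eq hs hr).1 hd))]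
        omega
    · rw [padicValNat.eq_zero_of_not_dvd hsq, add_zero,
        ← padicValNat_dvd_iff_le (pow_sub_one_ne_zero hq (by omega))]
      obtain ⟨k, hk⟩ : ∃ k, k = padicValNat s n := ⟨_, rfl⟩
      have hk0 : 1 ≤ k := hk ▸ one_le_padicValNat_of_dvd (by omega) hsn
      rw [← hk]
      have hskn : s ^ k ∣ n := hk ▸ pow_padicValNat_dvd
      have hcop : Nat.Coprime q (s ^ k) := by
        refine Nat.Coprime.pow_right k (Nat.Coprime.symm ((hs.coprime_iff_not_dvd).2 fun hd => ?_))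
        exact ne_zero_of_dvd_pow_sub_one hs (k := n) (by omega) (by omega)
          ((hsn.mul_right _).trans h) ((ZMod.natCast_eq_zero_iff _ _).2 hd)
      refine pow_dvd_of_gcd (n := n) (by omega) ((hskn.mul_right _).trans h) hcop ?_
      obtain ⟨c, hc⟩ := Nat.gcd_dvd_right (s ^ k).totient n
      by_cases hrc : r ∣ c
      · obtain ⟨c', rfl⟩ := hrc
        exact ⟨c', Nat.eq_of_mul_eq_mul_left hr.pos (by rw [← hj]; exact hc.trans (Nat.mul_left_comm _ _ _))⟩
      exfalso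
      have hg0 : Nat.gcd (s ^ k).totient n ≠ 0 := fun h0 => by simp [h0] at hc; omega
      have hc0 : c ≠ 0 := by rintro rfl; exact hrc (dvd_zero r)
      have hvg : padicValNat r n = padicValNat r (Nat.gcd (s ^ k).totient n) := by
        conv_lhs => rw [hc]
        rw [padicValNat.mul hg0 hc0, padicValNat.eq_zero_of_not_dvd hrc, add_zero]
      have hrv : r ^ padicValNat r n ∣ (s ^ k).totient := by
        rw [hvg]; exact pow_padicValNat_dvd.trans (Nat.gcd_dvd_left _ _)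
      rw [Nat.totient_prime_pow hs hk0] at hrv
      have hsr : s ≤ r := hmax s hs hsn hsq
      have hv1 : 1 ≤ padicValNat r n := one_le_padicValNat_of_dvd (by omega) ⟨j, hj⟩
      have hrs1 : ¬ r ∣ s - 1 := fun hd => by
        have := Nat.le_of_dvd (by have := hs.two_le; omega) hd; have := hs.two_le; omega
      rcases eq_or_ne s r with rfl | hne
      · have h1 := (Nat.Coprime.pow_left (padicValNat s n)
          ((hs.coprime_iff_not_dvd).2 hrs1)).dvd_of_dvd_mul_right hrv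
        rw [← hk] at h1
        have := (Nat.pow_dvd_pow_iff_le_right hs.one_lt).1 h1
        omega
      · have h1 : r ∣ s ^ (k - 1) * (s - 1) := (dvd_pow_self r (by omega)).trans hrv
        rcases hr.dvd_mul.1 h1 with h1 | h1
        · exact hne ((Nat.prime_dvd_prime_iff_eq hr hs).1 (hr.dvd_of_dvd_pow h1)).symm
        · exact hrs1 h1
  · rw [padicValNat.eq_zero_of_not_dvd hsn, zero_add]
    have hd : q - 1 ∣ q ^ j - 1 := by simpa using Nat.sub_dvd_pow_sub_pow q 1 j
    exact (padicValNat_dvd_iff_le (pow_sub_one_ne_zero hq (by omega))).1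
      (pow_padicValNat_dvd.trans hd)

lemma backward {q n : ℕ} (hq : 2 ≤ q) (hn : 1 < n) (h : n * (q - 1) ∣ q ^ n - 1)
    (hmin : ∀ i : ℕ, 0 < i → i < n → ¬ n * (q - 1) ∣ q ^ i - 1) :
    (∀ r : ℕ, r.Prime → r ∣ n → r ∣ q - 1) ∧ (4 ∣ n → 4 ∣ q - 1) := by
  have h1 : ∀ r : ℕ, r.Prime → r ∣ n → r ∣ q - 1 := by
    by_contra hc
    push Not at hc
    obtain ⟨r₀, hr₀⟩ := hc
    obtain ⟨r, hr, hmax⟩ := (n.primeFactors.filter (fun s => ¬ s ∣ q - 1)).exists_max_image id
      ⟨r₀, Finset.mem_filter.2 ⟨Nat.mem_primeFactors.2 ⟨hr₀.1, hr₀.2.1, by omega⟩, hr₀.2.2⟩⟩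
    rw [Finset.mem_filter, Nat.mem_primeFactors] at hr
    exact bad_absurd hq hn h hmin hr.1.1 hr.1.2.1 (Or.inl hr.2) (fun s hs hsn hsq =>
      hmax s (Finset.mem_filter.2 ⟨Nat.mem_primeFactors.2 ⟨hs, hsn, by omega⟩, hsq⟩))
  refine ⟨h1, fun h4 => by_contra fun h4' => ?_⟩
  exact bad_absurd hq hn h hmin Nat.prime_two (by omega) (Or.inr ⟨rfl, h4', h4⟩)
    (fun s hs hsn hsq => absurd (h1 s hs hsn) hsq)

lemma iff_pair {q n : ℕ} (hq : 2 ≤ q) (hn : 1 < n) :
    ((∀ r : ℕ, r.Prime → r ∣ n → r ∣ q - 1) ∧ (4 ∣ n → 4 ∣ q - 1)) ↔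
      (q ^ n ≡ 1 [MOD n * (q - 1)] ∧
        ∀ i : ℕ, 0 < i → i < n → ¬ q ^ i ≡ 1 [MOD n * (q - 1)]) := by
  simp only [modEq_iff (show 1 ≤ q by omega)]
  exact ⟨fun h => forward hq hn h.1 h.2, fun h => backward hq hn h.1 h.2⟩

/-- The Dickson pair condition: for a prime power `q` and `n > 1`, (every prime factor of `n` divides `q - 1`, and `4 ∣ n → 4 ∣ q - 1`) holds exactly when `q ^ n ≡ 1` modulo `n * (q - 1)` but `q ^ i` is not, for `0 < i < n`. -/
theorem result (q n : ℕ) (hq : IsPrimePow q) (hn : 1 < n) : ((∀ r : ℕ, r.Prime → r ∣ n → r ∣ q - 1) ∧ (4 ∣ n → 4 ∣ q - 1)) ↔ (q ^ n ≡ 1 [MOD n * (q - 1)] ∧ ∀ i : ℕ, 0 < i → i < n → ¬ q ^ i ≡ 1 [MOD n * (q - 1)]) := by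
  exact iff_pair hq.one_lt hn

end Cfsg.Agent.S0694
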