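import Cfsg.Statements.S0700
import Cfsg.Agent.Perm.MinimalNormalTwo

set_option autoImplicit false
open Cfsg

namespace Cfsg.Agent.S0700

/-- Burnside's Theorem on doubly transitive groups: a minimal normal subgroup of a finite doubly transitive permutation group is elementary abelian and regular, or simple and primitive. -/
theorem result {α : Type*} [Fintype α] [DecidableEq α] (G : Subgroup (Equiv.Perm α)) (hG : MulAction.IsMultiplyPretransitive G α 2) (N : Subgroup G) [N.Normal] (hN : N ≠ ⊥) (hmin : ∀ M : Subgroup G, M.Normal → M ≤ N → M = ⊥ ∨ M = N) : (IsMulCommutative N ∧ (∃ p : ℕ, p.Prime ∧ ∀ n ∈ N, n ^ p = 1) ∧ ∀ a : α, MulAction.stabilizer N a = ⊥) ∨ (IsSimpleGroup N ∧ MulAction.IsPreprimitive N α) := by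
  haveI : Nontrivial α := by
    by_contra h
    rw [not_nontrivial_iff_subsingleton] at h
    exact hN (eq_bot_iff.mpr fun g _ => Subgroup.mem_bot.mpr (Subtype.ext (Subsingleton.elim _ _)))
  by_cases hnr : ∃ a : α, MulAction.stabilizer N a ≠ ⊥
  · exact .inr ⟨Cfsg.Agent.Perm.simple_of_minimal_two hG hN hmin hnr,
      Cfsg.Agent.Perm.preprimitive_of_minimal_two hG hN hmin hnr⟩
  · push Not at hnr
    obtain ⟨hab, hexp⟩ := Cfsg.Agent.Perm.regular_normal_elementary hG N hnr
    exact .inl ⟨hab, hexp, hnr⟩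
end Cfsg.Agent.S0700
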