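import Cfsg.Statements.S0701

set_option autoImplicit false
open Cfsg

namespace Cfsg.Agent.S0701

/-- The centraliser in the full symmetric group of a transitive permutation group `G` is semiregular, and it is transitive if and only if `G` is regular. -/
theorem result {α : Type*} (G : Subgroup (Equiv.Perm α)) [MulAction.IsPretransitive G α] : (∀ c ∈ Subgroup.centralizer (G : Set (Equiv.Perm α)), ∀ a : α, c a = a → c = 1) ∧ (MulAction.IsPretransitive (Subgroup.centralizer (G : Set (Equiv.Perm α))) α ↔ ∀ a : α, MulAction.stabilizer G a = ⊥) := by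
  have hcomm : ∀ c ∈ Subgroup.centralizer (G : Set (Equiv.Perm α)), ∀ g ∈ G, ∀ x : α, g (c x) = c (g x) :=
    fun c hc g hg x => congrArg (fun f : Equiv.Perm α => f x) (Subgroup.mem_centralizer_iff.mp hc g hg)
  refine ⟨fun c hc a ha => ?_, fun ht a => ?_, fun hreg => ⟨fun x y => ?_⟩⟩
  · ext x
    obtain ⟨g, rfl⟩ := MulAction.exists_smul_eq G a x
    show c ((g : Equiv.Perm α) a) = (g : Equiv.Perm α) a
    rw [← hcomm c hc g g.2, ha]
  · rw [eq_bot_iff]
    intro g hg
    rw [Subgroup.mem_bot]
    apply Subtype.ext
    ext x
    obtain ⟨c, hc⟩ := MulAction.exists_smul_eq (Subgroup.centralizer (G : Set (Equiv.Perm α))) a x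
    have hc' : (c : Equiv.Perm α) a = x := hc
    rw [← hc', hcomm c c.2 g g.2]
    have hga : (g : Equiv.Perm α) a = a := hg
    simp [hga]
  · have huniq : ∀ g h : G, (g : Equiv.Perm α) x = (h : Equiv.Perm α) x → g = h := by
      intro g h e
      have : h⁻¹ * g ∈ MulAction.stabilizer G x := by
        rw [MulAction.mem_stabilizer_iff, mul_smul]
        show (h⁻¹ : G) • ((g : Equiv.Perm α) x) = x
        rw [e]
        exact inv_smul_smul h x
      rw [hreg x, Subgroup.mem_bot, inv_mul_eq_one] at this
      exact this.symm
    choose g hg using fun z : α => MulAction.exists_smul_eq G x z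
    choose g' hg' using fun z : α => MulAction.exists_smul_eq G y z
    have huniq' : ∀ u h : G, (u : Equiv.Perm α) y = (h : Equiv.Perm α) y → u = h := by
      intro u h e
      have : h⁻¹ * u ∈ MulAction.stabilizer G y := by
        rw [MulAction.mem_stabilizer_iff, mul_smul]
        show (h⁻¹ : G) • ((u : Equiv.Perm α) y) = y
        rw [e]
        exact inv_smul_smul h y
      rw [hreg y, Subgroup.mem_bot, inv_mul_eq_one] at this
      exact this.symm
    let σ : Equiv.Perm α :=
      { toFun := fun z => g z • y
        invFun := fun z => g' z • x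
        left_inv := fun z => by
          have : g' (g z • y) = g z := huniq' _ _ (hg' (g z • y))
          show g' (g z • y) • x = z
          rw [this]; exact hg z
        right_inv := fun z => by
          have : g (g' z • x) = g' z := huniq _ _ (hg (g' z • x))
          show g (g' z • x) • y = z
          rw [this]; exact hg' z }
    refine ⟨⟨σ, ?_⟩, ?_⟩
    · rw [Subgroup.mem_centralizer_iff]
      intro h hh
      ext z
      have : g (h z) = ⟨h, hh⟩ * g z := huniq _ _ (by
        refine (hg (h z)).trans ?_
        show h z = h ((g z : Equiv.Perm α) x)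
        exact congrArg h (hg z).symm)
      show h ((g z : Equiv.Perm α) y) = (g (h z) : Equiv.Perm α) y
      rw [this]; rfl
    · show g x • y = y
      have : g x = 1 := huniq _ _ (hg x)
      rw [this, one_smul]

end Cfsg.Agent.S0701
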