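import Cfsg.Statements.S0702
import Mathlib.GroupTheory.QuotientGroup.Basic
import Mathlib.Tactic.Group
import Mathlib.GroupTheory.Sylow

set_option autoImplicit false
open Cfsg

namespace Cfsg.Agent.S0702

/-- For a transitive permutation group `G` on a finite set, the centraliser of `G` in the symmetric group is isomorphic to `N_G(G_ω)/G_ω`, and its orbit of `ω` is the set of fixed points of `G_ω`. -/
theorem result {α : Type*} [Finite α] (G : Subgroup (Equiv.Perm α)) [MulAction.IsPretransitive G α] (a : α) : Nonempty (Subgroup.centralizer (G : Set (Equiv.Perm α)) ≃* Subgroup.normalizer ((MulAction.stabilizer G a : Subgroup G) : Set G) ⧸ (MulAction.stabilizer G a).subgroupOf (Subgroup.normalizer ((MulAction.stabilizer G a : Subgroup G) : Set G))) ∧ MulAction.orbit (Subgroup.centralizer (G : Set (Equiv.Perm α))) a = MulAction.fixedPoints (MulAction.stabilizer G a) α := by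
  classical
  haveI : Finite G := Finite.of_injective _ Subtype.val_injective
  set H := MulAction.stabilizer G a with hH
  set C := Subgroup.centralizer (G : Set (Equiv.Perm α)) with hC
  set Nm := Subgroup.normalizer ((H : Subgroup G) : Set G) with hNm
  -- a transversal
  choose r hr using fun y : α => MulAction.exists_smul_eq G a y
  have wd : ∀ (g : G), g ∈ Nm → ∀ x x' : G, x • a = x' • a → (x * g⁻¹) • a = (x' * g⁻¹) • a := by
    intro g hg x x' he
    have h1 : x'⁻¹ * x ∈ H := by
      show (x'⁻¹ * x) • a = a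
      rw [mul_smul, he, inv_smul_smul]
    have h2 : (g * (x'⁻¹ * x) * g⁻¹) • a = a := (Subgroup.mem_normalizer_iff.mp hg _).mp h1
    calc (x * g⁻¹) • a = (x' * g⁻¹ * (g * (x'⁻¹ * x) * g⁻¹)) • a := by congr 1; group
      _ = (x' * g⁻¹) • a := by rw [mul_smul, h2]
  let f : Nm → α → α := fun g y => (r y * (g : G)⁻¹) • a
  have hf : ∀ (g : Nm) (x : G), f g (x • a) = (x * (g : G)⁻¹) • a :=
    fun g x => wd g g.2 _ _ (hr (x • a))
  have hff : ∀ (g g' : Nm) (y : α), f g (f g' y) = f (g * g') y := by
    intro g g' y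
    show f g ((r y * (g' : G)⁻¹) • a) = (r y * ((g * g' : Nm) : G)⁻¹) • a
    rw [hf, Subgroup.coe_mul, mul_inv_rev, mul_assoc]
  have hf1 : ∀ y : α, f 1 y = y := fun y => by simp [f, hr y]
  let cp : Nm →* Equiv.Perm α :=
    { toFun := fun g => ⟨f g, f g⁻¹,
        fun y => by rw [hff, inv_mul_cancel, hf1], fun y => by rw [hff, mul_inv_cancel, hf1]⟩
      map_one' := Equiv.ext hf1
      map_mul' := fun g g' => Equiv.ext fun y => (hff g g' y).symm }
  have hcp : ∀ g y, cp g y = f g y := fun g y => rfl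
  have hmem : ∀ g, cp g ∈ C := by
    intro g
    rw [hC, Subgroup.mem_centralizer_iff]
    intro s hs
    refine Equiv.ext fun y => ?_
    rw [Equiv.Perm.mul_apply, Equiv.Perm.mul_apply, hcp, hcp]
    have e1 : s y = ((⟨s, hs⟩ : G) * r y) • a := by rw [mul_smul, hr]; rfl
    rw [e1, hf, mul_assoc, mul_smul]
    rfl
  let ψ : Nm →* C := cp.codRestrict C hmem
  have hinG : ∀ (c : C) (g : G) (y : α), (c : Equiv.Perm α) (g • y) = g • (c : Equiv.Perm α) y :=
    fun c g y => (Equiv.ext_iff.mp (Subgroup.mem_centralizer_iff.mp c.2 _ g.2) y).symm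
  have hfix : ∀ b : α, b ∈ MulAction.fixedPoints H α → ∃ g : Nm, (g : G)⁻¹ • a = b := by
    intro b hb
    obtain ⟨x, rfl⟩ := MulAction.exists_smul_eq G a b
    have hxn : x⁻¹ ∈ Nm := by
      rw [hNm]
      refine Subgroup.mem_normalizer_fintype fun h hh => ?_
      show x⁻¹ * h * x⁻¹⁻¹ ∈ H
      show (x⁻¹ * h * x⁻¹⁻¹) • a = a
      rw [inv_inv, mul_smul, mul_smul, inv_smul_eq_iff]
      exact hb ⟨h, hh⟩
    exact ⟨⟨x⁻¹, hxn⟩, by simp⟩
  have hsurj : Function.Surjective ψ := by
    intro c
    have hb : (c : Equiv.Perm α) a ∈ MulAction.fixedPoints H α := fun h => by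
      show (h : G) • (c : Equiv.Perm α) a = (c : Equiv.Perm α) a
      rw [← hinG]
      exact congrArg _ h.2
    obtain ⟨g, hg⟩ := hfix _ hb
    refine ⟨g, Subtype.ext (Equiv.ext fun y => ?_)⟩
    show f g y = _
    conv_rhs => rw [← hr y, hinG, ← hg, ← mul_smul]
  have hker : ψ.ker = H.subgroupOf Nm := by
    ext g
    rw [MonoidHom.mem_ker, Subgroup.mem_subgroupOf]
    constructor
    · intro h
      have h' : f g a = a := Equiv.ext_iff.mp (congrArg Subtype.val h) a
      have h1 : f g a = (g : G)⁻¹ • a := by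
        have := hf g 1
        rwa [one_smul, one_mul] at this
      show (g : G) • a = a
      rw [h1, inv_smul_eq_iff] at h'
      exact h'.symm
    · intro h
      refine Subtype.ext (Equiv.ext fun y => ?_)
      show f g y = y
      have hga : (g : G)⁻¹ • a = a := by rw [inv_smul_eq_iff]; exact h.symm
      show (r y * (g : G)⁻¹) • a = y
      rw [mul_smul, hga, hr]
  refine ⟨⟨((QuotientGroup.quotientMulEquivOfEq hker.symm).trans
    (QuotientGroup.quotientKerEquivOfSurjective ψ hsurj)).symm⟩, ?_⟩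
  ext b
  constructor
  · rintro ⟨c, rfl⟩ h
    show (h : G) • (c : Equiv.Perm α) a = (c : Equiv.Perm α) a
    rw [← hinG]
    exact congrArg _ h.2
  · intro hb
    obtain ⟨g, hg⟩ := hfix b hb
    refine ⟨ψ g, ?_⟩
    show f g a = b
    have := hf g 1
    rw [one_smul, one_mul] at this
    rw [this, hg]
end Cfsg.Agent.S0702
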