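import Cfsg.Statements.S0703
import Cfsg.Agent.Perm.RegularNormal

set_option autoImplicit false
open Cfsg

namespace Cfsg.Agent.S0703

/-- An abelian transitive minimal normal subgroup `M` of a permutation group on a finite set is self-centralising in the symmetric group, regular, elementary abelian, and is the unique minimal normal subgroup. -/
theorem result {α : Type*} [Finite α] (G : Subgroup (Equiv.Perm α)) (M : Subgroup G) [M.Normal] (hM : M ≠ ⊥) (hmin : ∀ L : Subgroup G, L.Normal → L ≤ M → L = ⊥ ∨ L = M) (hab : IsMulCommutative M) (htrans : MulAction.IsPretransitive M α) : Subgroup.centralizer ((M.map G.subtype : Subgroup (Equiv.Perm α)) : Set (Equiv.Perm α)) = M.map G.subtype ∧ (∀ a : α, MulAction.stabilizer M a = ⊥) ∧ (∃ p : ℕ, p.Prime ∧ ∀ m ∈ M, m ^ p = 1) ∧ ∀ L : Subgroup G, L.Normal → L ≠ ⊥ → (∀ L' : Subgroup G, L'.Normal → L' ≤ L → L' = ⊥ ∨ L' = L) → L = M := by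
  have hG : Subgroup.centralizer (M : Set G) = M :=
    Cfsg.Agent.Perm.centralizer_eq_self (X := α) hab htrans
  have hmapT : MulAction.IsPretransitive (M.map G.subtype : Subgroup (Equiv.Perm α)) α := by
    refine ⟨fun x y => ?_⟩
    obtain ⟨m, hm, h⟩ := Cfsg.Agent.Perm.exists_mem_smul_eq htrans x y
    exact ⟨⟨(m : Equiv.Perm α), Subgroup.mem_map_of_mem _ hm⟩, h⟩
  have hmapC : IsMulCommutative (M.map G.subtype : Subgroup (Equiv.Perm α)) := by
    rw [Cfsg.Agent.Perm.isMulCommutative_iff_comm]
    rintro _ ⟨x, hx, rfl⟩ _ ⟨y, hy, rfl⟩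
    rw [← map_mul, Cfsg.Agent.Perm.isMulCommutative_iff_comm.mp hab x hx y hy, map_mul]
  refine ⟨Cfsg.Agent.Perm.centralizer_eq_self (X := α) hmapC hmapT,
    Cfsg.Agent.Perm.abelian_transitive_free hab htrans,
    Cfsg.Agent.Perm.minimal_abelian_exp hM hmin hab, fun L hL hL0 hLmin => ?_⟩
  haveI := hL
  by_contra hne
  have hLM : L ⊓ M = ⊥ := by
    rcases hLmin (L ⊓ M) inferInstance inf_le_left with h | h
    · exact h
    · rcases hmin (L ⊓ M) inferInstance inf_le_right with h' | h'
      · exact h'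
      · exact absurd (h.symm.trans h') hne
  have hle : L ≤ M := by
    rw [← hG]
    intro l hl
    rw [Subgroup.mem_centralizer_iff]
    intro m hm
    exact Subgroup.commute_of_normal_of_disjoint M L inferInstance inferInstance
      (disjoint_iff.mpr (by rw [inf_comm]; exact hLM)) m l hm hl
  exact hne ((hmin L hL hle).resolve_left hL0)
end Cfsg.Agent.S0703
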