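import Cfsg.Statements.S0704
import Cfsg.Agent.Perm.RegularNormal

set_option autoImplicit false
open Cfsg

namespace Cfsg.Agent.S0704

/-- Two distinct transitive minimal normal subgroups `M`, `N` of a permutation group are regular, non-abelian, isomorphic, each other's centraliser in the symmetric group, and the only minimal normal subgroups. -/
theorem result {α : Type*} (G : Subgroup (Equiv.Perm α)) (M N : Subgroup G) [M.Normal] [N.Normal] (hM : M ≠ ⊥) (hN : N ≠ ⊥) (hMmin : ∀ L : Subgroup G, L.Normal → L ≤ M → L = ⊥ ∨ L = M) (hNmin : ∀ L : Subgroup G, L.Normal → L ≤ N → L = ⊥ ∨ L = N) (hMN : M ≠ N) (hMt : MulAction.IsPretransitive M α) (hNt : MulAction.IsPretransitive N α) : (∀ a : α, MulAction.stabilizer M a = ⊥) ∧ (∀ a : α, MulAction.stabilizer N a = ⊥) ∧ ¬ IsMulCommutative M ∧ Nonempty (M ≃* N) ∧ Subgroup.centralizer ((M.map G.subtype : Subgroup (Equiv.Perm α)) : Set (Equiv.Perm α)) = N.map G.subtype ∧ Subgroup.centralizer ((N.map G.subtype : Subgroup (Equiv.Perm α)) : Set (Equiv.Perm α)) = M.map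 G.subtype ∧ ∀ L : Subgroup G, L.Normal → L ≠ ⊥ → (∀ L' : Subgroup G, L'.Normal → L' ≤ L → L' = ⊥ ∨ L' = L) → L = M ∨ L = N := by
  have hdist : ∀ A B : Subgroup G, A.Normal → B.Normal →
      (∀ L : Subgroup G, L.Normal → L ≤ A → L = ⊥ ∨ L = A) →
      (∀ L : Subgroup G, L.Normal → L ≤ B → L = ⊥ ∨ L = B) → A ≠ B →
      ∀ a ∈ A, ∀ b ∈ B, a * b = b * a := by
    intro A B hA hB hAm hBm hne a ha b hb
    haveI := hA; haveI := hB
    refine Subgroup.commute_of_normal_of_disjoint A B hA hB ?_ a b ha hb
    rw [disjoint_iff]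
    rcases hAm (A ⊓ B) inferInstance inf_le_left with h | h
    · exact h
    · rcases hBm (A ⊓ B) inferInstance inf_le_right with h' | h'
      · exact h'
      · exact absurd (h.symm.trans h') hne
  have hMNc := hdist M N inferInstance inferInstance hMmin hNmin hMN
  have cfree : ∀ (A B : Subgroup G), MulAction.IsPretransitive A α →
      (∀ a ∈ A, ∀ b ∈ B, a * b = b * a) →
      ∀ x : α, MulAction.stabilizer B x = ⊥ := by
    intro A B hA hc
    rw [Cfsg.Agent.Perm.free_iff]
    intro b hb x hx
    exact Cfsg.Agent.Perm.eq_one_of_commute_of_fixed (S := (A : Set G))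
      (Cfsg.Agent.Perm.exists_mem_smul_eq hA) (fun a ha => hc a ha b hb) hx
  have hNf := cfree M N hMt hMNc
  have hMf := cfree N M hNt (fun a ha b hb => (hMNc b hb a ha).symm)
  have cent : ∀ (A B : Subgroup G), MulAction.IsPretransitive A α →
      MulAction.IsPretransitive B α → (∀ a ∈ A, ∀ b ∈ B, a * b = b * a) →
      Subgroup.centralizer ((A.map G.subtype : Subgroup (Equiv.Perm α)) : Set (Equiv.Perm α)) =
        B.map G.subtype := by
    intro A B hA hB hc
    apply le_antisymm
    · intro c hcm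
      rcases isEmpty_or_nonempty α with hα | ⟨⟨x⟩⟩
      · exact (Subsingleton.elim c 1) ▸ Subgroup.one_mem _
      obtain ⟨b, hb, hbe⟩ := Cfsg.Agent.Perm.exists_mem_smul_eq hB x (c • x)
      have key : ((b : Equiv.Perm α))⁻¹ * c = 1 := by
        refine Cfsg.Agent.Perm.eq_one_of_commute_of_fixed (X := α)
          (S := ((A.map G.subtype : Subgroup (Equiv.Perm α)) : Set (Equiv.Perm α))) ?_ ?_ (a := x) ?_
        · intro u v
          obtain ⟨s, hs, h⟩ := Cfsg.Agent.Perm.exists_mem_smul_eq hA u v
          exact ⟨_, Subgroup.mem_map_of_mem _ hs, h⟩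
        · rintro _ ⟨s, hs, rfl⟩
          have h1 : Commute ((s : G) : Equiv.Perm α) (b : Equiv.Perm α) :=
            congrArg Subtype.val (hc s hs b hb)
          have h2 : Commute ((s : G) : Equiv.Perm α) c :=
            Subgroup.mem_centralizer_iff.mp hcm _ (Subgroup.mem_map_of_mem _ hs)
          exact h1.inv_right.mul_right h2
        · rw [mul_smul, inv_smul_eq_iff]
          exact hbe.symm
      rw [inv_mul_eq_one] at key
      exact ⟨b, hb, key⟩
    · rintro _ ⟨b, hb, rfl⟩
      rw [Subgroup.mem_centralizer_iff]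
      rintro _ ⟨a, ha, rfl⟩
      exact congrArg Subtype.val (hc a ha b hb)
  refine ⟨hMf, hNf, ?_, ?_, cent M N hMt hNt hMNc,
    cent N M hNt hMt (fun a ha b hb => (hMNc b hb a ha).symm), ?_⟩
  · intro hab
    have hc := Cfsg.Agent.Perm.centralizer_eq_self (X := α) hab hMt
    have : N ≤ M := by
      rw [← hc]
      intro n hn
      rw [Subgroup.mem_centralizer_iff]
      exact fun m hm => hMNc m hm n hn
    exact hMN ((hMmin N inferInstance this).resolve_left hN).symm
  · rcases isEmpty_or_nonempty α with hα | ⟨⟨x⟩⟩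
    · exact absurd (eq_bot_iff.mpr fun m _ => Subgroup.mem_bot.mpr (Subsingleton.elim m 1)) hM
    · let em := Cfsg.Agent.Perm.regularEquiv hMt hMf x
      let en := Cfsg.Agent.Perm.regularEquiv hNt hNf x
      let e : M ≃ N := (Equiv.inv M).trans (em.trans en.symm)
      have he : ∀ m : M, ((e m : N) : G) • x = ((m : G))⁻¹ • x := fun m =>
        en.apply_symm_apply (em m⁻¹)
      refine ⟨MulEquiv.mk' e fun a b => ?_⟩
      apply en.injective
      show ((e (a * b) : N) : G) • x = ((e a * e b : N) : G) • x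
      rw [he, Subgroup.coe_mul, Subgroup.coe_mul, mul_inv_rev, mul_smul, mul_smul, he,
        ← mul_smul ((e a : N) : G),
        (hMNc _ (M.inv_mem b.2) _ (e a).2).symm, mul_smul, he]
  · intro L hL hL0 hLmin
    by_contra hcon
    push Not at hcon
    obtain ⟨hLM, hLN⟩ := hcon
    have hc := hdist M L inferInstance hL hMmin hLmin hLM.symm
    have hle : L ≤ N := by
      intro l hl
      have hmem : (l : Equiv.Perm α) ∈ N.map G.subtype := by
        rw [← cent M N hMt hNt hMNc, Subgroup.mem_centralizer_iff]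
        rintro _ ⟨a, ha, rfl⟩
        exact congrArg Subtype.val (hc a ha l hl)
      obtain ⟨n, hn, hne⟩ := hmem
      have : n = l := Subtype.ext hne
      rwa [← this]
    exact hLN ((hNmin L hL hle).resolve_left hL0)
end Cfsg.Agent.S0704
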