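import Cfsg.Statements.S0705

set_option autoImplicit false
open scoped Pointwise
open Cfsg

namespace Cfsg.Agent.S0705

/-- A generously `k`-transitive permutation group (every `(k+1)`-subset has its full symmetric group induced by the setwise stabiliser) of degree greater than `k` is `k`-transitive, and for a `k`-subset the setwise and pointwise stabilisers have the same orbits outside it. -/
theorem result {α : Type*} [Fintype α] [DecidableEq α] (G : Subgroup (Equiv.Perm α)) {k : ℕ} (hk : k < Fintype.card α) (hgen : ∀ s : Finset α, s.card = k + 1 → ∀ σ : Equiv.Perm ↥s, ∃ g ∈ G, ∀ x : ↥s, g (x : α) = σ x) : MulAction.IsMultiplyPretransitive G α k ∧ ∀ s : Finset α, s.card = k → ∀ a b : α, a ∉ s → b ∉ s → (∃ g ∈ G, g • s = s ∧ g a = b) → ∃ g ∈ G, (∀ x ∈ s, g x = x) ∧ g a = b := by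
  classical
  have swapset : ∀ (s : Finset α), s.card ≤ k + 1 → ∀ u v : α, u ∈ s → v ∈ s →
      ∃ g ∈ G, g u = v ∧ ∀ x ∈ s, x ≠ u → x ≠ v → g x = x := by
    intro s hs u v hu hv
    obtain ⟨t, hst, htc⟩ := Finset.exists_superset_card_eq hs (by omega : k + 1 ≤ Fintype.card α)
    obtain ⟨g, hg, hgx⟩ := hgen t htc (Equiv.swap ⟨u, hst hu⟩ ⟨v, hst hv⟩)
    refine ⟨g, hg, ?_, fun x hx hxu hxv => ?_⟩
    · simpa using hgx ⟨u, hst hu⟩
    · have h := hgx ⟨x, hst hx⟩
      rw [Equiv.swap_apply_of_ne_of_ne (by simpa [Subtype.ext_iff] using hxu)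
        (by simpa [Subtype.ext_iff] using hxv)] at h
      exact h
  refine ⟨?_, ?_⟩
  · rw [MulAction.isMultiplyPretransitive_iff]
    suffices H : ∀ (r : ℕ) (x y : Fin k ↪ α),
        (Finset.univ.filter fun i => x i ≠ y i).card ≤ r → ∃ g : G, g • x = y from
      fun x y => H _ x y le_rfl
    intro r
    induction r with
    | zero =>
      intro x y h
      refine ⟨1, ?_⟩
      ext i
      show ((1 : G) : Equiv.Perm α) (x i) = y i
      rw [Subgroup.coe_one, Equiv.Perm.one_apply]
      by_contra hi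
      have : i ∈ Finset.univ.filter fun i => x i ≠ y i := by simp [hi]
      rw [Finset.card_eq_zero.mp (Nat.le_zero.mp h)] at this
      simp at this
    | succ r ih =>
      intro x y h
      by_cases hall : ∀ i, x i = y i
      · exact ⟨1, by ext i; simp [hall i]⟩
      push Not at hall
      obtain ⟨i, hi⟩ := hall
      have hcard : (insert (y i) (Finset.univ.map x)).card ≤ k + 1 :=
        (Finset.card_insert_le _ _).trans (by simp)
      obtain ⟨g, hg, hgi, hgo⟩ := swapset _ hcard (x i) (y i)
        (Finset.mem_insert_of_mem (Finset.mem_map.mpr ⟨i, Finset.mem_univ i, rfl⟩))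
        (Finset.mem_insert_self _ _)
      obtain ⟨g', hg'⟩ := ih ((⟨g, hg⟩ : G) • x) y (by
        have hsub : (Finset.univ.filter fun j => ((⟨g, hg⟩ : G) • x) j ≠ y j) ⊆
            (Finset.univ.filter fun j => x j ≠ y j).erase i := by
          intro j hj
          simp only [Finset.mem_filter, Finset.mem_univ, true_and] at hj
          simp only [Finset.mem_erase, Finset.mem_filter, Finset.mem_univ, true_and]
          have hji : j ≠ i := by
            rintro rfl
            exact hj hgi
          refine ⟨hji, fun hxy => hj ?_⟩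
          show g (x j) = y j
          rw [hgo (x j) (Finset.mem_insert_of_mem (Finset.mem_map.mpr ⟨j, Finset.mem_univ j, rfl⟩))
            (fun e => hji (x.injective e)) (fun e => hji (y.injective (hxy.symm.trans e)))]
          exact hxy
        have h1 := Finset.card_le_card hsub
        rw [Finset.card_erase_of_mem (by simp [hi])] at h1
        omega)
      exact ⟨g' * ⟨g, hg⟩, by ext j; exact DFunLike.congr_fun hg' j⟩
  · intro s hs a b ha hb ⟨g, hg, hgs, hgab⟩
    obtain ⟨t, hst, htc⟩ : ∃ t : Finset α, insert a s = t ∧ t.card = k + 1 :=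
      ⟨_, rfl, by rw [Finset.card_insert_of_notMem ha, hs]⟩
    have hinv : ∀ x, g x ∈ s ↔ x ∈ s := by
      intro x
      conv_lhs => rw [← hgs, ← Equiv.Perm.smul_def]
      exact Finset.smul_mem_smul_finset_iff g
    have hinv' : ∀ x, g⁻¹ x ∈ s ↔ x ∈ s := by
      intro x
      conv_rhs => rw [show x = g (g⁻¹ x) from (g.apply_symm_apply x).symm, hinv]
    let τ : Equiv.Perm α := Equiv.Perm.ofSubtype ((g⁻¹).subtypePerm hinv' : Equiv.Perm {x // x ∈ s})
    have hτt : ∀ x, τ x ∈ t ↔ x ∈ t := by
      intro x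
      by_cases hx : x ∈ s
      · have h1 : τ x = g⁻¹ x := Equiv.Perm.ofSubtype_apply_of_mem _ hx
        rw [← hst]
        exact iff_of_true (Finset.mem_insert_of_mem (h1 ▸ (hinv' x).mpr hx))
          (Finset.mem_insert_of_mem hx)
      · have h1 : τ x = x := Equiv.Perm.ofSubtype_apply_of_not_mem _ hx
        rw [h1]
    obtain ⟨g', hg', hg'x⟩ := hgen t htc (τ.subtypePerm hτt)
    have hg'v : ∀ x ∈ t, g' x = τ x := fun x hx => hg'x ⟨x, hx⟩
    refine ⟨g * g', G.mul_mem hg hg', fun x hx => ?_, ?_⟩
    · have h1 : τ x = g⁻¹ x := Equiv.Perm.ofSubtype_apply_of_mem _ hx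
      rw [Equiv.Perm.mul_apply, hg'v x (hst ▸ Finset.mem_insert_of_mem hx), h1]
      exact g.apply_symm_apply x
    · have h1 : τ a = a := Equiv.Perm.ofSubtype_apply_of_not_mem _ ha
      rw [Equiv.Perm.mul_apply, hg'v a (hst ▸ Finset.mem_insert_self a s), h1, hgab]
end Cfsg.Agent.S0705
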