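import Cfsg.Statements.S0706
import Cfsg.Agent.S0705
import Mathlib

set_option autoImplicit false
open Cfsg

namespace Cfsg.Agent.S0706

open scoped Pointwise

/-- In a generously `k`-transitive permutation group, for a prime `p ≤ k` and a `k`-set `Γ`, there are no `p` points outside `Γ` lying in distinct orbits of the pointwise stabiliser of `Γ` all of length prime to `p` (at most `p - 1` such orbits). -/
theorem result {α : Type*} [Fintype α] [DecidableEq α] (G : Subgroup (Equiv.Perm α)) {k : ℕ} (hk : k < Fintype.card α) (hgen : ∀ s : Finset α, s.card = k + 1 → ∀ σ : Equiv.Perm ↥s, ∃ g ∈ G, ∀ x : ↥s, g (x : α) = σ x) {p : ℕ} (hp : p.Prime) (hpk : p ≤ k) (Γ : Finset α) (hΓ : Γ.card = k) (f : Fin p → α) (hf : ∀ i, f i ∉ Γ) (hdist : ∀ i j, i ≠ j → f j ∉ MulAction.orbit (fixingSubgroup G (Γ : Set α)) (f i)) : ∃ i, p ∣ Nat.card (MulAction.orbit (fixingSubgroup G (Γ : Set α)) (f i)) := by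
  classical
  haveI := Fact.mk hp
  by_contra hcon
  push Not at hcon
  set H : Subgroup G := fixingSubgroup G (Γ : Set α) with hH
  obtain ⟨Γ₀, hΓ₀, hΓ₀c⟩ := Finset.exists_subset_card_eq (hΓ.symm ▸ hpk : p ≤ Γ.card)
  let T : Subgroup G :=
    { carrier := {g | (∀ x, (g : Equiv.Perm α) x ∈ Γ₀ ↔ x ∈ Γ₀) ∧ ∀ x ∈ Γ \ Γ₀, (g : Equiv.Perm α) x = x}
      one_mem' := ⟨fun x => Iff.rfl, fun x _ => rfl⟩
      mul_mem' := fun {g h} hg hh => ⟨fun x => (hg.1 ((h : Equiv.Perm α) x)).trans (hh.1 x), fun x hx =>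
        (congrArg (g : Equiv.Perm α) (hh.2 x hx)).trans (hg.2 x hx)⟩
      inv_mem' := fun {g} hg => ⟨fun x => by
          have := hg.1 ((g : Equiv.Perm α)⁻¹ x)
          rw [show (g : Equiv.Perm α) ((g : Equiv.Perm α)⁻¹ x) = x from Equiv.apply_symm_apply _ _] at this
          exact this.symm, fun x hx => by
          show (g : Equiv.Perm α)⁻¹ x = x
          exact Equiv.Perm.inv_eq_iff_eq.mpr (hg.2 x hx).symm⟩ }
  have hHT : H ≤ T := by
    intro g hg
    rw [hH, mem_fixingSubgroup_iff] at hg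
    refine ⟨fun x => ⟨fun hx => ?_, fun hx => ?_⟩, fun x hx => hg x (Finset.mem_sdiff.mp hx).1⟩
    · have h1 : (g : Equiv.Perm α) x = x :=
        (g : Equiv.Perm α).injective (hg _ (hΓ₀ hx) : (g : Equiv.Perm α) ((g : Equiv.Perm α) x) = _)
      rwa [h1] at hx
    · rwa [show (g : Equiv.Perm α) x = x from hg x (hΓ₀ hx)]
  -- the action on `Γ₀`
  let π : T →* Equiv.Perm {x // x ∈ Γ₀} :=
    { toFun := fun g => ((g : G) : Equiv.Perm α).subtypePerm g.2.1
      map_one' := by ext x; rfl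
      map_mul' := fun g h => by ext x; rfl }
  have hker : π.ker = H.subgroupOf T := by
    ext g
    rw [MonoidHom.mem_ker, Subgroup.mem_subgroupOf, hH, mem_fixingSubgroup_iff]
    constructor
    · intro h x hx
      by_cases hx0 : x ∈ Γ₀
      · exact congrArg Subtype.val (DFunLike.congr_fun h ⟨x, hx0⟩)
      · exact g.2.2 x (Finset.mem_sdiff.mpr ⟨hx, hx0⟩)
    · intro h
      exact Equiv.ext fun x => Subtype.ext (h x.1 (hΓ₀ x.2))
  -- a `p`-cycle on `Γ₀`
  obtain ⟨σ, hσ⟩ := exists_prime_orderOf_dvd_card' (G := Equiv.Perm {x // x ∈ Γ₀}) p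
    (by rw [Nat.card_perm, Nat.card_eq_fintype_card, Fintype.card_coe, hΓ₀c]; exact Nat.dvd_factorial hp.pos le_rfl)
  obtain ⟨a₀, ha₀⟩ : ∃ a, a ∉ Γ := by
    by_contra h
    push Not at h
    rw [Finset.eq_univ_of_forall h, Finset.card_univ] at hΓ
    omega
  set τ : Equiv.Perm α := Equiv.Perm.ofSubtype σ with hτdef
  have hτin : ∀ x (hx : x ∈ Γ₀), τ x = σ ⟨x, hx⟩ := fun x hx => Equiv.Perm.ofSubtype_apply_of_mem σ hx
  have hτout : ∀ x, x ∉ Γ₀ → τ x = x := fun x hx => Equiv.Perm.ofSubtype_apply_of_not_mem σ hx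
  have hτt : ∀ x, τ x ∈ insert a₀ Γ ↔ x ∈ insert a₀ Γ := by
    intro x
    by_cases hx : x ∈ Γ₀
    · rw [hτin x hx]
      exact iff_of_true (Finset.mem_insert_of_mem (hΓ₀ (σ ⟨x, hx⟩).2)) (Finset.mem_insert_of_mem (hΓ₀ hx))
    · rw [hτout x hx]
  obtain ⟨g₀, hg₀, hg₀x⟩ := hgen (insert a₀ Γ)
    (by rw [Finset.card_insert_of_notMem ha₀, hΓ]) (τ.subtypePerm hτt)
  have hg₀v : ∀ x ∈ Γ, g₀ x = τ x := fun x hx => hg₀x ⟨x, Finset.mem_insert_of_mem hx⟩
  have hg₀T : (⟨g₀, hg₀⟩ : G) ∈ T := by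
    have hin : ∀ x ∈ Γ₀, g₀ x ∈ Γ₀ := fun x hx => by
      rw [hg₀v x (hΓ₀ hx), hτin x hx]; exact (σ _).2
    refine ⟨fun x => ⟨fun hx => ?_, hin x⟩, fun x hx => ?_⟩
    · have himg : Γ₀.image g₀ = Γ₀ := Finset.eq_of_subset_of_card_le
        (Finset.image_subset_iff.mpr hin) (Finset.card_image_of_injective _ g₀.injective).ge
      have hx' : g₀ x ∈ Γ₀.image g₀ := by rw [himg]; exact hx
      obtain ⟨y, hy, hye⟩ := Finset.mem_image.mp hx'
      rwa [← g₀.injective hye]
    · obtain ⟨hxΓ, hx0⟩ := Finset.mem_sdiff.mp hx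
      exact (hg₀v x hxΓ).trans (hτout x hx0)
  have hπg : π ⟨⟨g₀, hg₀⟩, hg₀T⟩ = σ :=
    Equiv.ext fun x => Subtype.ext ((hg₀v x.1 (hΓ₀ x.2)).trans (hτin x.1 x.2))
  have hdvdr : p ∣ Nat.card π.range := by
    have h := orderOf_dvd_natCard (⟨σ, _, hπg⟩ : π.range)
    rwa [← Subgroup.orderOf_coe, hσ] at h
  -- orders
  have hcard : Nat.card T = Nat.card H * Nat.card π.range := by
    rw [← Nat.card_congr (Subgroup.subgroupOfEquivOfLe hHT).toEquiv, ← hker,
      ← Subgroup.index_ker, Subgroup.card_mul_index]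
  obtain ⟨Q⟩ : Nonempty (Sylow p T) := inferInstance
  set Q' : Subgroup G := (Q : Subgroup T).map T.subtype with hQ'
  have hQcard : Nat.card Q' = Nat.card Q := Subgroup.card_map_of_injective T.subtype_injective
  have hQp : IsPGroup p Q' := Q.2.map T.subtype
  -- fixed points of `Q` on the orbits
  have hδ : ∀ i, ∃ δ ∈ MulAction.orbit H (f i), ∀ q ∈ Q', q • δ = δ := by
    intro i
    have hinv : ∀ q ∈ Q', ∀ x ∈ MulAction.orbit H (f i), q • x ∈ MulAction.orbit H (f i) := by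
      intro q hq x hx
      obtain ⟨h, rfl⟩ := hx
      set y : α := (q * (h : G) : G) • f i with hy
      have hqhT : q * (h : G) ∈ T := T.mul_mem (Subgroup.map_subtype_le _ hq) (hHT h.2)
      set g : Equiv.Perm α := ((q * (h : G) : G) : Equiv.Perm α) with hgdef
      have hgs : g • Γ = Γ := by
        refine Finset.eq_of_subset_of_card_le (fun x hx => ?_) (Finset.card_smul_finset g Γ).ge
        obtain ⟨z, hz, rfl⟩ := Finset.mem_smul_finset.mp hx
        show g z ∈ Γ
        by_cases hz0 : z ∈ Γ₀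
        · exact hΓ₀ ((hqhT.1 z).mpr hz0)
        · rw [hqhT.2 z (Finset.mem_sdiff.mpr ⟨hz, hz0⟩)]; exact hz
      have hnot : g (f i) ∉ Γ := by
        intro hmem
        rw [← hgs] at hmem
        obtain ⟨z, hz, hze⟩ := Finset.mem_smul_finset.mp hmem
        exact hf i (g.injective hze ▸ hz)
      obtain ⟨g', hg', hg'fix, hg'e⟩ := (Cfsg.Agent.S0705.result G hk hgen).2 Γ hΓ (f i) (g (f i))
        (hf i) hnot ⟨g, (q * (h : G)).2, hgs, rfl⟩
      exact ⟨⟨⟨g', hg'⟩, (mem_fixingSubgroup_iff G).mpr fun x hx => hg'fix x hx⟩, hg'e⟩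
    let X : SubMulAction Q' α := ⟨MulAction.orbit H (f i), fun q x hx => hinv q q.2 x hx⟩
    obtain ⟨δ, hδ⟩ := hQp.nonempty_fixed_point_of_prime_not_dvd_card X (hcon i)
    exact ⟨δ, δ.2, fun q hq => congrArg Subtype.val (hδ ⟨q, hq⟩)⟩
  choose δ hδo hδfix using hδ
  have hδinj : Function.Injective δ := by
    intro i j h
    by_contra hne
    have h1 := MulAction.orbit_eq_iff.mpr (hδo i)
    have h2 := MulAction.orbit_eq_iff.mpr (hδo j)
    exact hdist i j hne (by rw [← h1, h, h2]; exact MulAction.mem_orbit_self _)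
  have hδΓ : ∀ i, δ i ∉ Γ := by
    intro i hmem
    obtain ⟨h, he⟩ := hδo i
    have h1 : ((h : G) : Equiv.Perm α) (δ i) = δ i := (mem_fixingSubgroup_iff G).mp h.2 _ hmem
    have h2 : ((h : G) : Equiv.Perm α) (f i) = δ i := he
    rw [((h : G) : Equiv.Perm α).injective (h1.trans h2.symm)] at hmem
    exact hf i hmem
  set Γ' : Finset α := (Γ \ Γ₀) ∪ Finset.univ.image δ with hΓ'
  have hΓ'c : Γ'.card = k := by
    rw [hΓ', Finset.card_union_of_disjoint, Finset.card_sdiff_of_subset hΓ₀,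
      Finset.card_image_of_injective _ hδinj, Finset.card_univ, Fintype.card_fin, hΓ, hΓ₀c]
    · omega
    · rw [Finset.disjoint_left]
      intro x hx hx'
      obtain ⟨i, -, rfl⟩ := Finset.mem_image.mp hx'
      exact hδΓ i (Finset.mem_sdiff.mp hx).1
  obtain ⟨g, hg⟩ := (MulAction.isMultiplyPretransitive_iff.mp (Cfsg.Agent.S0705.result G hk hgen).1)
    ((Γ.equivFinOfCardEq hΓ).symm.toEmbedding.trans (Function.Embedding.subtype _))
    ((Γ'.equivFinOfCardEq hΓ'c).symm.toEmbedding.trans (Function.Embedding.subtype _))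
  have hgΓ : ∀ x ∈ Γ, g • x ∈ Γ' := by
    intro x hx
    have := DFunLike.congr_fun hg (Γ.equivFinOfCardEq hΓ ⟨x, hx⟩)
    simp only [Function.Embedding.smul_apply, Function.Embedding.trans_apply, Equiv.toEmbedding_apply,
      Equiv.symm_apply_apply, Function.Embedding.subtype_apply] at this
    rw [this]
    exact Subtype.coe_prop _
  have hconj : Q'.map (MulAut.conj g⁻¹).toMonoidHom ≤ H := by
    rintro _ ⟨q, hq, rfl⟩
    rw [hH, mem_fixingSubgroup_iff]
    intro x hx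
    have hfix : q • (g • x) = g • x := by
      rcases Finset.mem_union.mp (hgΓ x hx) with h | h
      · exact (Subgroup.map_subtype_le _ hq).2 _ h
      · obtain ⟨i, -, hi⟩ := Finset.mem_image.mp h
        rw [← hi]
        exact hδfix i q hq
    simp only [MulEquiv.coe_toMonoidHom, MulAut.conj_apply, inv_inv, mul_smul, hfix, inv_smul_smul]
  have hdvd : Nat.card Q ∣ Nat.card H := by
    rw [← hQcard, ← Subgroup.card_map_of_injective (K := Q') (f := (MulAut.conj g⁻¹).toMonoidHom)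
      (MulEquiv.injective _)]
    exact Subgroup.card_dvd_of_le hconj
  rw [Q.card_eq_multiplicity, hp.pow_dvd_iff_le_factorization Nat.card_pos.ne', hcard,
    Nat.factorization_mul Nat.card_pos.ne' Nat.card_pos.ne', Finsupp.add_apply] at hdvd
  have := hp.factorization_pos_of_dvd Nat.card_pos.ne' hdvdr
  omega

end Cfsg.Agent.S0706
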