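import Cfsg.Statements.S0707
import Mathlib

set_option autoImplicit false
open Cfsg

namespace Cfsg.Agent.S0707

/-- In a primitive permutation group, distinct points have distinct stabilisers unless the group is regular of prime degree. -/
theorem result {α : Type*} (G : Subgroup (Equiv.Perm α)) [MulAction.IsPreprimitive G α] (h : ¬ (Nat.card α).Prime ∨ ∃ a : α, MulAction.stabilizer G a ≠ ⊥) {a b : α} (hab : a ≠ b) : MulAction.stabilizer G a ≠ MulAction.stabilizer G b := by
  intro he
  haveI : Nontrivial α := ⟨a, b, hab⟩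
  have hmax : IsCoatom (MulAction.stabilizer G a) :=
    MulAction.IsPreprimitive.isCoatom_stabilizer_of_isPreprimitive G a
  obtain ⟨g, hg⟩ := MulAction.exists_smul_eq G a b
  have hgn : g ∈ Subgroup.normalizer ((MulAction.stabilizer G a : Subgroup G) : Set G) := by
    rw [Subgroup.mem_normalizer_iff]
    intro h
    conv_rhs => rw [he, MulAction.mem_stabilizer_iff, mul_smul, mul_smul, ← hg, inv_smul_smul]
    rw [smul_left_cancel_iff]
    exact MulAction.mem_stabilizer_iff
  have hn : (MulAction.stabilizer G a).Normal := by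
    rw [← Subgroup.normalizer_eq_top_iff]
    refine hmax.2 _ (lt_of_le_of_ne Subgroup.le_normalizer fun e => hab ?_)
    rw [← e] at hgn
    exact (MulAction.mem_stabilizer_iff.mp hgn).symm.trans hg
  have hbot : ∀ x : α, MulAction.stabilizer G x = ⊥ := by
    intro x
    rw [eq_bot_iff]
    intro s hs
    rw [Subgroup.mem_bot]
    apply Subtype.ext
    ext z
    obtain ⟨u, hu⟩ := MulAction.exists_smul_eq G a x
    obtain ⟨v, hv⟩ := MulAction.exists_smul_eq G a z
    have h1 : u⁻¹ * s * u ∈ MulAction.stabilizer G a := by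
      rw [MulAction.mem_stabilizer_iff, mul_smul, mul_smul, hu, MulAction.mem_stabilizer_iff.mp hs,
        ← hu, inv_smul_smul]
    have h2 : v⁻¹ * s * v ∈ MulAction.stabilizer G a := by
      have := hn.conj_mem _ h1 (v⁻¹ * u)
      simpa [mul_assoc] using this
    rw [MulAction.mem_stabilizer_iff, mul_smul, mul_smul, hv, inv_smul_eq_iff, hv] at h2
    exact h2
  rcases h with h | ⟨x, hx⟩
  · apply h
    rw [hbot a] at hmax
    haveI : Nontrivial G := ⟨g, 1, fun e => hab (by rw [← hg, e, one_smul])⟩
    have hz : ∀ s : G, s ≠ 1 → Subgroup.zpowers s = ⊤ := fun s hs =>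
      hmax.2 _ (bot_lt_iff_ne_bot.mpr (Subgroup.zpowers_ne_bot.mpr hs))
    obtain ⟨s, hs⟩ := exists_ne (1 : G)
    haveI : IsCyclic G := ⟨⟨s, fun t => by have ht := Subgroup.mem_top t; rw [← hz s hs] at ht; exact ht⟩⟩
    haveI : IsSimpleGroup G := ⟨fun H _ => (eq_or_ne H ⊥).imp id fun hH => hmax.2 H (bot_lt_iff_ne_bot.mpr hH)⟩
    have hcard : Nat.card α = Nat.card G := by
      refine (Nat.card_eq_of_bijective (fun u : G => u • a) ⟨fun u v e => ?_, fun z => MulAction.exists_smul_eq G a z⟩).symm
      have : v⁻¹ * u ∈ MulAction.stabilizer G a := by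
        rw [MulAction.mem_stabilizer_iff, mul_smul]
        simp only at e
        rw [e, inv_smul_smul]
      rw [hbot a, Subgroup.mem_bot, inv_mul_eq_one] at this
      exact this.symm
    rw [hcard]
    letI : CommGroup G := IsCyclic.commGroup
    exact IsSimpleGroup.prime_card
  · exact hx (hbot x)

end Cfsg.Agent.S0707
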