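import Cfsg.Statements.S0709
import Mathlib

set_option autoImplicit false
open Cfsg

namespace Cfsg.Agent.S0709


/-- A subgroup together with a double coset is a subgroup. -/
private theorem closure_eq_union {α : Type*} [Fintype α] (L : Subgroup (Equiv.Perm α))
    (s : Equiv.Perm α) (hs : s * s ∈ L) (h : ∀ l ∈ L, s * l * s ∈ L ∨ ∃ a ∈ L, ∃ b ∈ L, s * l * s = a * s * b) :
    ∀ g, g ∈ Subgroup.closure ((L : Set (Equiv.Perm α)) ∪ {s}) ↔
      g ∈ L ∨ ∃ a ∈ L, ∃ b ∈ L, g = a * s * b := by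
  intro g
  constructor
  · intro hg
    have hg' : g ∈ Submonoid.closure ((L : Set (Equiv.Perm α)) ∪ {s}) := by
      rw [← Subgroup.closure_toSubmonoid_of_finite]; exact hg
    clear hg
    induction hg' using Submonoid.closure_induction_left with
    | one => exact Or.inl L.one_mem
    | mul_left x hx y _ ih =>
      rcases hx with hx | hx
      · rcases ih with hy | ⟨a, ha, b, hb, rfl⟩
        · exact Or.inl (L.mul_mem hx hy)
        · exact Or.inr ⟨x * a, L.mul_mem hx ha, b, hb, by group⟩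
      · rw [Set.mem_singleton_iff] at hx
        subst x
        rcases ih with hy | ⟨a, ha, b, hb, rfl⟩
        · exact Or.inr ⟨1, L.one_mem, y, hy, by group⟩
        · rcases h a ha with h' | ⟨c, hc, d, hd, h'⟩
          · refine Or.inl ?_
            rw [show s * (a * s * b) = s * a * s * b by group]
            exact L.mul_mem h' hb
          · refine Or.inr ⟨c, hc, d * b, L.mul_mem hd hb, ?_⟩
            rw [show s * (a * s * b) = s * a * s * b by group, h']
            group
  · rintro (hg | ⟨a, ha, b, hb, rfl⟩)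
    · exact Subgroup.subset_closure (Or.inl hg)
    · exact mul_mem (mul_mem (Subgroup.subset_closure (Or.inl ha)) (Subgroup.subset_closure (Or.inr rfl)))
        (Subgroup.subset_closure (Or.inl hb))

/-- The tower of groups of Witt's construction. -/
private def level {α : Type*} (K : Subgroup (Equiv.Perm α)) (s : ℕ → Equiv.Perm α) :
    ℕ → Subgroup (Equiv.Perm α)
  | 0 => K
  | 1 => K
  | j + 2 => Subgroup.closure ((level K s (j + 1) : Set (Equiv.Perm α)) ∪ {s (j + 1)})

/-- Witt's Lemma for constructing transitive extensions. Points `q 1, …, q t` (`t ≥ 2`) of a finite set are given; `G` fixes `q i` for `i ≥ 3` and is doubly transitive on the remaining points; `s 1 ∈ G` swaps `q 1, q 2`; for `2 ≤ i ≤ t-1`, `s i` swaps `q i, q (i+1)` and fixes the other `q j`; with `H` the stabiliser of `q 1, q 2` in `G`: `s i ^ 2 ∈ H`, `(s i * s (i+1)) ^ 3 ∈ H`, `(s i * s j) ^ 2 ∈ H` for `j ≥ i + 2`, and `s i` (`i ≥ 2`) normalises the stabiliser of `q 2` in `G`. Then `G` and the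 `s i` generate a `t`-transitive group whose pointwise stabiliser of the `q`'s is `H`. -/
theorem result {α : Type*} [Fintype α] [DecidableEq α] (t : ℕ) (ht : 2 ≤ t) (q : ℕ → α) (hq : ∀ i j : ℕ, 1 ≤ i → i ≤ t → 1 ≤ j → j ≤ t → q i = q j → i = j) (G : Subgroup (Equiv.Perm α)) (hfix : ∀ g ∈ G, ∀ i : ℕ, 3 ≤ i → i ≤ t → g (q i) = q i) (h2 : ∀ a b c d : α, (∀ i, 3 ≤ i → i ≤ t → a ≠ q i ∧ b ≠ q i ∧ c ≠ q i ∧ d ≠ q i) → a ≠ b → c ≠ d → ∃ g ∈ G, g a = c ∧ g b = d) (s : ℕ → Equiv.Perm α) (hs1 : s 1 ∈ G) (hs1q : s 1 (q 1) = q 2 ∧ s 1 (q 2) = q 1) (hsq : ∀ i : ℕ, 2 ≤ i → i + 1 ≤ t → s i (q i) = q (i + 1) ∧ s i (q (i + 1)) = q i ∧ ∀ j : ℕ, 1 ≤ j → j ≤ t → j ≠ i → j ≠ i + 1 → s i (q j) = q j) (H : Subgroup (Equiv.Perm α)) (hH : H = G ⊓ MulAction.stabilizer (Equiv.Perm α) (q 1) ⊓ MulAction.stabilizer (Equiv.Perm α) (q 2)) (hsq2 : ∀ i : ℕ, 1 ≤ i → i + 1 ≤ t → s i ^ 2 ∈ H) (hbraid : ∀ i : ℕ, 1 ≤ i → i + 2 ≤ t → (s i * s (i + 1)) ^ 3 ∈ H) (hcomm : ∀ i j : ℕ, 1 ≤ i → i + 2 ≤ j → j + 1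 ≤ t → (s i * s j) ^ 2 ∈ H ∧ (s j * s i) ^ 2 ∈ H) (hnorm : ∀ i : ℕ, 2 ≤ i → i + 1 ≤ t → ∀ g ∈ G ⊓ MulAction.stabilizer (Equiv.Perm α) (q 2), s i * g * (s i)⁻¹ ∈ G ⊓ MulAction.stabilizer (Equiv.Perm α) (q 2)) : MulAction.IsMultiplyPretransitive ↥(Subgroup.closure ((G : Set (Equiv.Perm α)) ∪ {x | ∃ i : ℕ, 2 ≤ i ∧ i + 1 ≤ t ∧ x = s i})) α t ∧ Subgroup.closure ((G : Set (Equiv.Perm α)) ∪ {x | ∃ i : ℕ, 2 ≤ i ∧ i + 1 ≤ t ∧ x = s i}) ⊓ fixingSubgroup (Equiv.Perm α) {x | ∃ i : ℕ, 1 ≤ i ∧ i ≤ t ∧ x = q i} = H := by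
  classical
  set K : Subgroup (Equiv.Perm α) := G ⊓ MulAction.stabilizer (Equiv.Perm α) (q 2) with hK
  set L := level K s with hLdef
  have L1 : L 1 = K := rfl
  have Lsucc : ∀ j, 1 ≤ j → L (j + 1) = Subgroup.closure ((L j : Set (Equiv.Perm α)) ∪ {s j}) := by
    intro j hj
    obtain ⟨j, rfl⟩ := Nat.exists_eq_add_of_le' hj
    rfl
  have Lmono : ∀ i j, 1 ≤ i → i ≤ j → L i ≤ L j := by
    intro i j hi hij
    induction j, hij using Nat.le_induction with
    | base => exact le_rfl
    | succ j hij ih =>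
      rw [Lsucc j (by omega)]
      exact ih.trans fun x hx => Subgroup.subset_closure (Or.inl hx)
  have sin : ∀ j, 1 ≤ j → s j ∈ L (j + 1) := fun j hj => by
    rw [Lsucc j hj]; exact Subgroup.subset_closure (Or.inr rfl)
  have hHK : H ≤ K := fun x hx => by
    rw [hH] at hx; exact ⟨hx.1.1, hx.2⟩
  have hHL : ∀ j, 1 ≤ j → H ≤ L j := fun j hj => (L1 ▸ hHK : H ≤ L 1).trans (Lmono 1 j le_rfl hj)
  have sswap : ∀ j, 1 ≤ j → j + 1 ≤ t → s j (q j) = q (j + 1) ∧ s j (q (j + 1)) = q j := by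
    intro j hj hjt
    rcases Nat.lt_or_ge j 2 with h | h
    · obtain rfl : j = 1 := by omega
      exact hs1q
    · exact ⟨(hsq j h hjt).1, (hsq j h hjt).2.1⟩
  have sfix : ∀ j i, 1 ≤ j → j + 1 < i → i ≤ t → s j (q i) = q i := by
    intro j i hj hji hit
    rcases Nat.lt_or_ge j 2 with h | h
    · obtain rfl : j = 1 := by omega
      exact hfix _ hs1 i (by omega) hit
    · exact (hsq j h (by omega)).2.2 i (by omega) hit (by omega) (by omega)
  -- the elements of `L j` fix the later points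
  have afix : ∀ j, 1 ≤ j → ∀ g ∈ L j, ∀ i, j < i → i ≤ t → g (q i) = q i := by
    intro j hj
    induction j, hj using Nat.le_induction with
    | base =>
      intro g hg i hi hit
      rw [L1] at hg
      rcases Nat.lt_or_ge i 3 with h | h
      · obtain rfl : i = 2 := by omega
        exact hg.2
      · exact hfix g hg.1 i h hit
    | succ j hj ih =>
      intro g hg i hi hit
      have hle : L (j + 1) ≤ MulAction.stabilizer (Equiv.Perm α) (q i) := by
        rw [Lsucc j hj, Subgroup.closure_le]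
        rintro x (hx | hx)
        · exact ih x hx i (by omega) hit
        · rw [Set.mem_singleton_iff.mp hx]; exact sfix j i hj (by omega) hit
      exact hle hg
  -- later involutions normalise earlier groups
  have dnorm : ∀ j, 1 ≤ j → ∀ i, j < i → i + 1 ≤ t → ∀ g ∈ L j, s i * g * (s i)⁻¹ ∈ L j := by
    intro j hj
    induction j, hj using Nat.le_induction with
    | base =>
      intro i hi hit g hg
      rw [L1] at hg ⊢
      exact hnorm i (by omega) hit g hg
    | succ j hj ih =>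
      intro i hi hit g hg
      have hle : L (j + 1) ≤ (L (j + 1)).comap (MulAut.conj (s i)).toMonoidHom := by
        conv_lhs => rw [Lsucc j hj]
        rw [Subgroup.closure_le]
        rintro x (hx | hx)
        · exact Lmono j (j + 1) hj (Nat.le_succ j) (ih i (by omega) hit x hx)
        · rw [Set.mem_singleton_iff.mp hx]
          show s i * s j * (s i)⁻¹ ∈ L (j + 1)
          have e : s i * s j * (s i)⁻¹ = (s i * s j) ^ 2 * (s j)⁻¹ * (s i ^ 2)⁻¹ := by
            simp only [pow_two]; group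
          rw [e]
          exact mul_mem (mul_mem (hHL (j + 1) (by omega) (hcomm j i hj (by omega) hit).2)
            (inv_mem (sin j hj))) (inv_mem (hHL (j + 1) (by omega) (hsq2 i (by omega) hit)))
      exact hle hg
  have qne : ∀ i j, 1 ≤ i → i ≤ t → 1 ≤ j → j ≤ t → i ≠ j → q i ≠ q j :=
    fun i j h1 h2 h3 h4 h5 h => h5 (hq i j h1 h2 h3 h4 h)
  have L2G : L 2 ≤ G := by
    rw [Lsucc 1 le_rfl, L1, Subgroup.closure_le]
    rintro x (hx | hx)
    · exact hx.1
    · rw [Set.mem_singleton_iff.mp hx]; exact hs1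
  have Gunion : ∀ g ∈ G, g ∈ K ∨ ∃ a ∈ K, ∃ b ∈ K, g = a * s 1 * b := by
    intro g hg
    by_cases hc : g (q 2) = q 2
    · exact Or.inl ⟨hg, hc⟩
    refine Or.inr ?_
    have hne : ∀ i, 3 ≤ i → i ≤ t → g (q 2) ≠ q i := fun i h3 hit h =>
      qne 2 i (by omega) ht (by omega) hit (by omega) (g.injective (h.trans (hfix g hg i h3 hit).symm))
    obtain ⟨k, hk, hk1, hk2⟩ := h2 (q 1) (q 2) (g (q 2)) (q 2) (fun i h3 hit =>
      ⟨qne 1 i le_rfl (by omega) (by omega) hit (by omega),
        qne 2 i (by omega) ht (by omega) hit (by omega), hne i h3 hit,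
        qne 2 i (by omega) ht (by omega) hit (by omega)⟩)
      (qne 1 2 le_rfl (by omega) (by omega) ht (by omega)) hc
    refine ⟨k, ⟨hk, hk2⟩, (s 1)⁻¹ * k⁻¹ * g, ⟨G.mul_mem (G.mul_mem (G.inv_mem hs1) (G.inv_mem hk)) hg, ?_⟩,
      by group⟩
    show ((s 1)⁻¹ * k⁻¹ * g) (q 2) = q 2
    rw [Equiv.Perm.mul_apply, Equiv.Perm.mul_apply, ← hk1]
    rw [show k⁻¹ (k (q 1)) = q 1 from k.symm_apply_apply _]
    exact Equiv.Perm.inv_eq_iff_eq.mpr hs1q.2.symm
  -- the double coset decomposition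
  have cunion : ∀ j, 1 ≤ j → j + 1 ≤ t → ∀ g, g ∈ L (j + 1) ↔
      g ∈ L j ∨ ∃ a ∈ L j, ∃ b ∈ L j, g = a * s j * b := by
    intro j hj
    induction j, hj using Nat.le_induction with
    | base =>
      intro _ g
      constructor
      · intro hg; rw [L1]; exact Gunion g (L2G hg)
      · rintro (hg | ⟨a, ha, b, hb, rfl⟩)
        · exact Lmono 1 2 le_rfl (by omega) hg
        · exact mul_mem (mul_mem (Lmono 1 2 le_rfl (by omega) ha) (sin 1 le_rfl))
            (Lmono 1 2 le_rfl (by omega) hb)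
    | succ j hj ih =>
      intro hjt g
      have ih' := ih (by omega)
      rw [Lsucc (j + 1) (by omega)]
      have hsj2 : s (j + 1) * s (j + 1) ∈ L j := by
        have := hHL j hj (hsq2 (j + 1) (by omega) hjt)
        rwa [pow_two] at this
      refine closure_eq_union (L (j + 1)) (s (j + 1)) (Lmono j (j + 1) hj (Nat.le_succ j) hsj2) ?_ g
      intro l hl
      rcases (ih' l).mp hl with hk | ⟨a, ha, b, hb, rfl⟩
      · refine Or.inl (Lmono j (j + 1) hj (Nat.le_succ j) ?_)
        rw [show s (j + 1) * l * s (j + 1) =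
          (s (j + 1) * l * (s (j + 1))⁻¹) * (s (j + 1) * s (j + 1)) by group]
        exact mul_mem (dnorm j hj (j + 1) (by omega) hjt l hk) hsj2
      · refine Or.inr ⟨(s (j + 1) * a * (s (j + 1))⁻¹) * ((s j)⁻¹ * (s j * s (j + 1)) ^ 3 *
          (s (j + 1) * s (j + 1))⁻¹), ?_, (s j)⁻¹ * ((s (j + 1) * s (j + 1))⁻¹ *
          (s (j + 1) * b * (s (j + 1))⁻¹) * (s (j + 1) * s (j + 1))), ?_, ?_⟩
        · have hm := fun x hx => Lmono j (j + 1) hj (Nat.le_succ j) (x := x) hx
          exact mul_mem (hm _ (dnorm j hj (j + 1) (by omega) hjt a ha))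
            (mul_mem (mul_mem (inv_mem (sin j hj)) (hHL (j + 1) (by omega) (hbraid j hj hjt)))
              (inv_mem (hm _ hsj2)))
        · exact mul_mem (inv_mem (sin j hj)) (Lmono j (j + 1) hj (Nat.le_succ j)
            (mul_mem (mul_mem (inv_mem hsj2) (dnorm j hj (j + 1) (by omega) hjt b hb)) hsj2))
        · simp only [pow_succ, pow_zero, one_mul]
          group
  -- transitivity of each level
  have btrans : ∀ j, 1 ≤ j → j ≤ t → ∀ x, (∀ i, j < i → i ≤ t → x ≠ q i) →
      ∃ g ∈ L j, g x = q j := by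
    intro j hj
    induction j, hj using Nat.le_induction with
    | base =>
      intro _ x hx
      obtain ⟨g, hg, h1, h2'⟩ := h2 x (q 2) (q 1) (q 2) (fun i h3 hit =>
        ⟨hx i (by omega) hit, qne 2 i (by omega) ht (by omega) hit (by omega),
          qne 1 i le_rfl (by omega) (by omega) hit (by omega),
          qne 2 i (by omega) ht (by omega) hit (by omega)⟩)
        (hx 2 (by omega) ht) (qne 1 2 le_rfl (by omega) (by omega) ht (by omega))
      exact ⟨g, ⟨hg, h2'⟩, h1⟩
    | succ j hj ih =>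
      intro hjt x hx
      by_cases hxj : x = q (j + 1)
      · exact ⟨1, one_mem _, by rw [hxj]; rfl⟩
      obtain ⟨g, hg, hgx⟩ := ih (by omega) x fun i hi hit => by
        rcases Nat.lt_or_ge (j + 1) i with h | h
        · exact hx i h hit
        · obtain rfl : i = j + 1 := by omega
          exact hxj
      exact ⟨s j * g, mul_mem (sin j hj) (Lmono j (j + 1) hj (Nat.le_succ j) hg), by
        rw [Equiv.Perm.mul_apply, hgx, (sswap j hj hjt).1]⟩
  -- multiple transitivity
  have tuple : ∀ j, 1 ≤ j → j ≤ t → ∀ x : ℕ → α, (∀ a b, 1 ≤ a → a ≤ j → 1 ≤ b → b ≤ j → x a = x b → a = b) →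
      (∀ a i, 1 ≤ a → a ≤ j → j < i → i ≤ t → x a ≠ q i) →
      ∃ g ∈ L j, ∀ a, 1 ≤ a → a ≤ j → g (x a) = q a := by
    intro j hj
    induction j, hj using Nat.le_induction with
    | base =>
      intro ht1 x _ hx
      obtain ⟨g, hg, h⟩ := btrans 1 le_rfl ht1 (x 1) (fun i hi hit => hx 1 i le_rfl le_rfl hi hit)
      exact ⟨g, hg, fun a h1 h1' => by obtain rfl : a = 1 := (by omega); exact h⟩
    | succ j hj ih =>
      intro hjt x hinj hx
      obtain ⟨g, hg, hgx⟩ := btrans (j + 1) (by omega) hjt (x (j + 1))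
        (fun i hi hit => hx (j + 1) i (by omega) le_rfl hi hit)
      obtain ⟨g', hg', hgx'⟩ := ih (by omega) (fun a => g (x a))
        (fun a b h1 h2 h3 h4 h => hinj a b h1 (by omega) h3 (by omega) (g.injective h))
        (fun a i h1 h2' hi hit h => by
          rcases Nat.lt_or_ge (j + 1) i with h3 | h3
          · exact hx a i h1 (by omega) h3 hit (g.injective (h.trans (afix (j + 1) (by omega) g hg i h3 hit).symm))
          · obtain rfl : i = j + 1 := by omega
            have := hinj a (j + 1) h1 (by omega) (by omega) le_rfl (g.injective (h.trans hgx.symm))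
            omega)
      refine ⟨g' * g, mul_mem (Lmono j (j + 1) hj (Nat.le_succ j) hg') hg, fun a h1 h2' => ?_⟩
      rw [Equiv.Perm.mul_apply]
      rcases Nat.lt_or_ge a (j + 1) with h3 | h3
      · exact hgx' a h1 (by omega)
      · obtain rfl : a = j + 1 := by omega
        rw [hgx]
        exact afix j hj g' hg' (j + 1) (by omega) hjt
  have hGL : G ≤ L 2 := fun g hg => by
    rcases Gunion g hg with h | ⟨a, ha, b, hb, rfl⟩
    · exact Lmono 1 2 le_rfl (by omega) (L1.symm ▸ h)
    · exact mul_mem (mul_mem (Lmono 1 2 le_rfl (by omega) (L1.symm ▸ ha)) (sin 1 le_rfl))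
        (Lmono 1 2 le_rfl (by omega) (L1.symm ▸ hb))
  set S := Subgroup.closure ((G : Set (Equiv.Perm α)) ∪ {x | ∃ i : ℕ, 2 ≤ i ∧ i + 1 ≤ t ∧ x = s i}) with hS
  have hLS : ∀ j, 1 ≤ j → j ≤ t → L j ≤ S := by
    intro j hj
    induction j, hj using Nat.le_induction with
    | base => intro _ x hx; exact Subgroup.subset_closure (Or.inl hx.1)
    | succ j hj ih =>
      intro hjt
      rw [Lsucc j hj, Subgroup.closure_le]
      rintro x (hx | hx)
      · exact ih (by omega) hx
      · rw [Set.mem_singleton_iff.mp hx]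
        rcases Nat.lt_or_ge j 2 with h | h
        · obtain rfl : j = 1 := by omega
          exact Subgroup.subset_closure (Or.inl hs1)
        · exact Subgroup.subset_closure (Or.inr ⟨j, h, hjt, rfl⟩)
  have hSL : S = L t := by
    refine le_antisymm ((Subgroup.closure_le _).mpr ?_) (hLS t (by omega) le_rfl)
    rintro x (hx | ⟨i, hi, hit, rfl⟩)
    · exact Lmono 2 t (by omega) ht (hGL hx)
    · exact Lmono (i + 1) t (by omega) hit (sin i (by omega))
  rw [hSL]
  refine ⟨?_, ?_⟩
  · rw [MulAction.isMultiplyPretransitive_iff]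
    intro x y
    have key : ∀ z : Fin t ↪ α, ∃ g ∈ L t, ∀ i : Fin t, g (z i) = q ((i : ℕ) + 1) := by
      intro z
      obtain ⟨g, hg, h⟩ := tuple t (by omega) le_rfl
        (fun a => if h : a - 1 < t then z ⟨a - 1, h⟩ else q 1)
        (fun a b h1 h2' h3 h4 h => by
          simp only [dif_pos (show a - 1 < t by omega), dif_pos (show b - 1 < t by omega)] at h
          have := congrArg Fin.val (z.injective h)
          simp only at this
          omega)
        (fun a i _ _ hi hit => absurd hit (by omega))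
      refine ⟨g, hg, fun i => ?_⟩
      have := h ((i : ℕ) + 1) (by omega) (by omega)
      simpa [i.2] using this
    obtain ⟨g, hg, hgx⟩ := key x
    obtain ⟨g', hg', hgy⟩ := key y
    refine ⟨⟨g'⁻¹ * g, mul_mem (inv_mem hg') hg⟩, ?_⟩
    ext i
    show (g'⁻¹ * g) (x i) = y i
    rw [Equiv.Perm.mul_apply, hgx i]
    exact Equiv.Perm.inv_eq_iff_eq.mpr (hgy i).symm
  · refine le_antisymm ?_ (le_inf (hHL t (by omega)) fun h hh => ?_)
    · rintro g ⟨hg, hgf⟩
      replace hgf := (mem_fixingSubgroup_iff _).mp hgf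
      have hq' : ∀ i, 1 ≤ i → i ≤ t → g (q i) = q i := fun i h1 h2' => hgf _ ⟨i, h1, h2', rfl⟩
      have down : ∀ j, 1 ≤ j → j ≤ t → g ∈ L j → g ∈ K := by
        intro j hj
        induction j, hj using Nat.le_induction with
        | base => intro _ h; exact h
        | succ j hj ih =>
          intro hjt hgj
          rcases (cunion j hj hjt g).mp hgj with h | ⟨a, ha, b, hb, rfl⟩
          · exact ih (by omega) h
          · exfalso
            have h1 := hq' (j + 1) (by omega) hjt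
            rw [Equiv.Perm.mul_apply, Equiv.Perm.mul_apply, afix j hj b hb (j + 1) (by omega) hjt,
              (sswap j hj hjt).2] at h1
            exact qne j (j + 1) hj (by omega) (by omega) hjt (by omega)
              (a.injective (h1.trans (afix j hj a ha (j + 1) (by omega) hjt).symm))
      have hgK := down t (by omega) le_rfl hg
      rw [hH]
      exact ⟨⟨hgK.1, hq' 1 le_rfl (by omega)⟩, hgK.2⟩
    · rw [mem_fixingSubgroup_iff]
      rintro _ ⟨i, h1, h2', rfl⟩
      rcases Nat.lt_or_ge i 2 with hi2 | hi2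
      · obtain rfl : i = 1 := by omega
        rw [hH] at hh
        exact hh.1.2
      · exact afix 1 le_rfl h (hHL 1 le_rfl hh) i (by omega) h2'

end Cfsg.Agent.S0709
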