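import Cfsg.Statements.S0710
import Mathlib

set_option autoImplicit false
open Cfsg

namespace Cfsg.Agent.S0710

/-- No transitive permutation group on 13 points has order `13 * 12 * 11 * 10 * 9 * 8`. -/
theorem result {α : Type*} [Fintype α] [DecidableEq α] (hα : Fintype.card α = 13) (G : Subgroup (Equiv.Perm α)) [MulAction.IsPretransitive G α] : Nat.card G ≠ 13 * 12 * 11 * 10 * 9 * 8 := by
  classical
  intro hG
  haveI : Fact (Nat.Prime 13) := ⟨by norm_num⟩
  let P : Sylow 13 G := default
  have hP : Nat.card (P : Subgroup G) = 13 := by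
    rw [Sylow.card_eq_multiplicity, hG]
    have h : (13 * 12 * 11 * 10 * 9 * 8 : ℕ).factorization 13 = 1 := by
      rw [show (13 * 12 * 11 * 10 * 9 * 8 : ℕ) = 13 * 95040 by norm_num,
        Nat.factorization_mul (by norm_num) (by norm_num), Finsupp.add_apply,
        Nat.Prime.factorization_self (by norm_num), Nat.factorization_eq_zero_of_not_dvd (by norm_num)]
    rw [h, pow_one]
  obtain ⟨x, hx⟩ := (P : Subgroup G).ne_bot_iff_exists_ne_one.mp (by
    intro h; rw [h, Subgroup.card_bot] at hP; norm_num at hP)
  -- a nontrivial element of `P` moves every point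
  have hPa : ∀ a : α, MulAction.orbit (P : Subgroup G) a = Set.univ := by
    intro a
    have hne : ∃ b : α, (x : G) • b ≠ b := by
      by_contra h
      push_neg at h
      exact hx (Subtype.ext (Subtype.ext (Equiv.ext h)))
    obtain ⟨b, hb⟩ := hne
    have hb1 : MulAction.orbit (P : Subgroup G) b = Set.univ := by
      obtain ⟨i, hi⟩ := (P.2).card_orbit (α := α) b
      have hle : Nat.card (MulAction.orbit (P : Subgroup G) b) ≤ 13 := by
        refine le_of_le_of_eq ?_ ((Nat.card_eq_fintype_card (α := α)).trans hα)
        exact Nat.card_le_card_of_injective _ Subtype.val_injective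
      have h1 : i ≠ 0 := by
        intro h
        rw [h, pow_zero] at hi
        obtain ⟨hsub, -⟩ := Nat.card_eq_one_iff_unique.mp hi
        exact hb (congrArg Subtype.val (@Subsingleton.elim _ hsub
          ⟨(x : G) • b, ⟨x, rfl⟩⟩ ⟨b, MulAction.mem_orbit_self b⟩))
      have h2 : Nat.card (MulAction.orbit (P : Subgroup G) b) = 13 := by
        refine le_antisymm hle ?_
        rw [hi]
        exact le_self_pow₀ (by norm_num) h1
      have hbij : Function.Bijective (Subtype.val : MulAction.orbit (P : Subgroup G) b → α) :=
        (Fintype.bijective_iff_injective_and_card _).mpr ⟨Subtype.val_injective, by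
          rw [← Nat.card_eq_fintype_card, h2, hα]⟩
      refine Set.eq_univ_of_forall fun z => ?_
      obtain ⟨w, rfl⟩ := hbij.2 z
      exact w.2
    rw [← hb1]
    exact MulAction.orbit_eq_iff.mpr (hb1 ▸ Set.mem_univ a)
  set φ := (P : Subgroup G).normalizerMonoidHom with hφ
  -- the centralizer of `P` is semiregular
  haveI hne : Nonempty α := Fintype.card_pos_iff.mp (by omega)
  obtain ⟨a⟩ := hne
  have hker : Nat.card φ.ker ≤ 13 := by
    refine le_of_le_of_eq ?_ ((Nat.card_eq_fintype_card (α := α)).trans hα)
    refine Nat.card_le_card_of_injective (fun c : φ.ker => ((c : _) : G) • a) ?_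
    intro c d h
    simp only at h
    have hc := c.2
    have hd := d.2
    simp only [hφ, Subgroup.normalizerMonoidHom_ker, Subgroup.mem_subgroupOf] at hc hd
    refine Subtype.ext (Subtype.ext (Subtype.ext (Equiv.ext fun z => ?_)))
    obtain ⟨u, hu⟩ := (hPa a ▸ Set.mem_univ z : z ∈ MulAction.orbit (P : Subgroup G) a)
    have hu' : (u : G) • a = z := hu
    show (c : G) • z = (d : G) • z
    rw [← hu', smul_smul, smul_smul, ← Subgroup.mem_centralizer_iff.mp hc u u.2,
      ← Subgroup.mem_centralizer_iff.mp hd u u.2, mul_smul, mul_smul, h]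
  haveI : IsCyclic (P : Subgroup G) := isCyclic_of_prime_card hP
  have hrange : Nat.card φ.range ∣ 12 := by
    have := Subgroup.card_subgroup_dvd_card φ.range
    rwa [IsCyclic.card_mulAut, hP, Nat.totient_prime (by norm_num)] at this
  have hN : Nat.card (Subgroup.normalizer ((P : Subgroup G) : Set G)) = Nat.card φ.ker * Nat.card φ.range := by
    rw [← Subgroup.index_ker, φ.ker.card_mul_index]
  have h13 : Nat.card (P : Subgroup G) ∣ Nat.card φ.ker := by
    haveI : IsMulCommutative (P : Subgroup G) := IsCyclic.commutative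
    have hle : (P : Subgroup G).subgroupOf (Subgroup.normalizer ((P : Subgroup G) : Set G)) ≤ φ.ker := by
      rw [hφ, Subgroup.normalizerMonoidHom_ker]
      exact Subgroup.comap_mono (Subgroup.le_centralizer_iff_isMulCommutative.mpr inferInstance)
    have := Subgroup.card_dvd_of_le hle
    rwa [Nat.card_congr (Subgroup.subgroupOfEquivOfLe Subgroup.le_normalizer).toEquiv] at this
  have hk : Nat.card φ.ker = 13 :=
    le_antisymm hker (hP.symm.trans_le (Nat.le_of_dvd Nat.card_pos h13))
  rw [hk] at hN
  have hidx := (Subgroup.normalizer ((P : Subgroup G) : Set G)).card_mul_index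
  rw [hN, hG] at hidx
  have hn13 : Nat.card (Sylow 13 G) = (Subgroup.normalizer ((P : Subgroup G) : Set G)).index :=
    P.card_eq_index_normalizer
  rw [← hn13] at hidx
  have hmod := card_sylow_modEq_one 13 G
  have hd : Nat.card φ.range ≤ 12 := Nat.le_of_dvd (by norm_num) hrange
  unfold Nat.ModEq at hmod
  interval_cases h : Nat.card φ.range <;> omega

end Cfsg.Agent.S0710
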