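import Cfsg.Statements.S0711
import Mathlib
import Cfsg.Agent.H33.Trans

set_option autoImplicit false
open Cfsg

namespace Cfsg.Agent.S0711

open Equiv Finset

variable {α : Type*} [Fintype α] [DecidableEq α]

theorem period_eq {g : Perm α} {p : ℕ} (hp : p.Prime) (hgp : orderOf g = p) {x : α}
    (hx : x ∈ g.support) : MulAction.period g x = p := by
  have h := MulAction.period_dvd_orderOf g x
  rw [hgp] at h
  refine (hp.eq_one_or_self_of_dvd _ h).resolve_left fun h1 => ?_
  have := MulAction.pow_smul_eq_iff_period_dvd (n := 1) (m := g) (a := x)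
  rw [pow_one, h1] at this
  exact Perm.mem_support.mp hx (this.mpr dvd_rfl)

theorem seg_injOn {g : Perm α} {p : ℕ} (hp : p.Prime) (hgp : orderOf g = p) {x : α}
    (hx : x ∈ g.support) :
    Set.InjOn (fun i => (g ^ i) x) (range p) := by
  have aux : ∀ i j : ℕ, i ≤ j → j < p → (g ^ i) x = (g ^ j) x → i = j := by
    intro i j hij hj h
    have e : g ^ j = g ^ i * g ^ (j - i) := by rw [← pow_add, Nat.add_sub_cancel' hij]
    rw [e, Perm.mul_apply] at h
    have hd : p ∣ j - i := by
      rw [← period_eq hp hgp hx]
      exact MulAction.pow_smul_eq_iff_period_dvd.mp ((g ^ i).injective h).symm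
    have := Nat.eq_zero_of_dvd_of_lt hd (by omega)
    omega
  intro i hi j hj h
  simp only [coe_range, Set.mem_Iio] at hi hj
  rcases le_total i j with hij | hij
  · exact aux i j hij hj h
  · exact (aux j i hij hi h.symm).symm

/-- `{x, g x, …}`, `j` terms. -/
def seg (g : Perm α) (x : α) (j : ℕ) : Finset α := (range j).image fun i => (g ^ i) x

/-- The elements of `S` mapped out of `S` by `g`. -/
def exits (g : Perm α) (S : Finset α) : Finset α := S.filter fun z => g z ∉ S

theorem seg_exits (g : Perm α) (x : α) (j : ℕ) : (exits g (seg g x j)).card ≤ 1 := by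
  refine le_trans (card_le_card (t := {(g ^ (j - 1)) x}) ?_) (by simp)
  intro z hz
  simp only [exits, seg, mem_filter, mem_image, mem_range] at hz
  obtain ⟨⟨i, hi, rfl⟩, hz⟩ := hz
  rw [mem_singleton]
  by_contra hne
  refine hz ⟨i + 1, ?_, by rw [pow_succ', Perm.mul_apply]⟩
  by_contra h
  exact hne (by rw [show i = j - 1 by omega])

theorem seg_card {g : Perm α} {p : ℕ} (hp : p.Prime) (hgp : orderOf g = p) {x : α}
    (hx : x ∈ g.support) {j : ℕ} (hj : j ≤ p) : (seg g x j).card = j := by
  rw [seg, card_image_of_injOn, card_range]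
  exact (seg_injOn hp hgp hx).mono (by simpa using Set.Iio_subset_Iio hj)

theorem seg_subset_support {g : Perm α} {x : α} (hx : x ∈ g.support) (j : ℕ) :
    seg g x j ⊆ g.support := by
  intro z hz
  obtain ⟨i, -, rfl⟩ := mem_image.mp hz
  exact Perm.pow_apply_mem_support.mpr hx

theorem orbit_closed {g : Perm α} {p : ℕ} (hp : p.Prime) (hgp : orderOf g = p) {x z : α} :
    z ∈ seg g x p ↔ g z ∈ seg g x p := by
  simp only [seg, mem_image, mem_range]
  constructor
  · rintro ⟨i, hi, rfl⟩
    rcases Nat.lt_or_ge (i + 1) p with h | h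
    · exact ⟨i + 1, h, by rw [pow_succ', Perm.mul_apply]⟩
    · refine ⟨0, hp.pos, ?_⟩
      rw [pow_zero, Perm.one_apply, ← Perm.mul_apply, ← pow_succ', show i + 1 = orderOf g by omega,
        pow_orderOf_eq_one, Perm.one_apply]
  · rintro ⟨i, hi, h⟩
    rcases i with _ | i
    · refine ⟨p - 1, by omega, g.injective ?_⟩
      rw [← Perm.mul_apply, ← pow_succ', show p - 1 + 1 = orderOf g by omega, pow_orderOf_eq_one,
        Perm.one_apply, ← h, pow_zero, Perm.one_apply]
    · refine ⟨i, by omega, g.injective ?_⟩
      rw [← Perm.mul_apply, ← pow_succ', h]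

theorem exits_union (g : Perm α) (S T : Finset α) :
    exits g (S ∪ T) ⊆ exits g S ∪ exits g T := by
  intro z hz
  simp only [exits, mem_filter, mem_union] at hz ⊢
  tauto

/-- A subset with few exits of a given size in an invariant set. -/
theorem exists_few_exits {g : Perm α} {p : ℕ} (hp : p.Prime) (hgp : orderOf g = p)
    (U : Finset α) (hU : U ⊆ g.support) (hinv : ∀ z, z ∈ U ↔ g z ∈ U) (t : ℕ) (ht : t ≤ U.card) :
    ∃ S ⊆ U, S.card = t ∧ (exits g S).card ≤ 1 ∧ (p ∣ t → exits g S = ∅) := by
  induction t using Nat.strong_induction_on generalizing U with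
  | h t ih =>
    rcases Nat.eq_zero_or_pos t with rfl | ht0
    · exact ⟨∅, empty_subset _, rfl, by simp [exits], fun _ => rfl⟩
    obtain ⟨x, hx⟩ := card_pos.mp (lt_of_lt_of_le ht0 ht)
    have hsub : ∀ j, seg g x j ⊆ U := by
      intro j z hz
      obtain ⟨i, -, rfl⟩ := mem_image.mp hz
      clear hz
      induction i with
      | zero => simpa using hx
      | succ i ih' =>
        rw [pow_succ', Perm.mul_apply]
        exact (hinv _).mp ih'
    rcases Nat.lt_or_ge t p with htp | htp
    · refine ⟨seg g x t, hsub t, seg_card hp hgp (hU hx) htp.le, seg_exits g x t, fun hd => ?_⟩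
      have := Nat.le_of_dvd ht0 hd
      omega
    · set O := seg g x p with hO
      have hOc : O.card = p := seg_card hp hgp (hU hx) le_rfl
      obtain ⟨S, hS, hSc, hSe, hSd⟩ := ih (t - p) (by have := hp.pos; omega) (U \ O)
        (sdiff_subset.trans hU) (fun z => by
          rw [mem_sdiff, mem_sdiff, ← hinv, hO, ← orbit_closed hp hgp])
        (by rw [card_sdiff_of_subset (hsub p), hOc]; omega)
      have hOe : exits g O = ∅ := by
        rw [exits, filter_eq_empty_iff]
        exact fun z hz => not_not.mpr ((orbit_closed hp hgp).mp hz)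
      have hdisj : Disjoint O S := disjoint_left.mpr fun z hz hz' => (mem_sdiff.mp (hS hz')).2 hz
      refine ⟨O ∪ S, union_subset (hsub p) (hS.trans sdiff_subset),
        by rw [card_union_of_disjoint hdisj, hOc, hSc]; omega, ?_, fun hd => ?_⟩
      · refine le_trans (card_le_card (exits_union g O S)) ?_
        rwa [hOe, empty_union]
      · refine subset_empty.mp ((exits_union g O S).trans ?_)
        rw [hOe, empty_union, hSd (Nat.dvd_sub hd dvd_rfl)]

/-- The core counting step. -/
theorem shrink {G : Subgroup (Perm α)} {k : ℕ} (hG : MulAction.IsMultiplyPretransitive G α k)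
    (hkn : k ≤ Fintype.card α) {g : Perm α} (hg : g ∈ G) {S : Finset α} {c d : α}
    (hS : S ⊆ g.support) (hcS : c ∉ S) (hb : g c ∈ S) (hdc : d ≠ c) (hdS : d ∉ S)
    (hk : S.card + 1 ≤ k) :
    ∃ z ∈ G, z ≠ 1 ∧ z.support.card + (S.card + (if d ∈ g.support then 1 else 0))
      + (S.card - (exits g S).card) ≤ 2 * g.support.card := by
  obtain ⟨t, ht⟩ := Cfsg.Agent.H33.exists_smul_eqOn hG (by rwa [Nat.card_eq_fintype_card])
    (insert c S) (by rw [card_insert_of_notMem hcS]; omega) (fun x => if x = c then d else x) (by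
      intro x hx y hy h
      simp only [coe_insert, Set.mem_insert_iff, mem_coe] at hx hy
      dsimp only at h
      split_ifs at h with h1 h2 h2
      · rw [h1, h2]
      · exact absurd (h ▸ hy.resolve_left h2) hdS
      · exact absurd (h.symm ▸ hx.resolve_left h1) hdS
      · exact h)
  have htc : (t : Perm α) c = d := (ht c (mem_insert_self _ _)).trans (if_pos rfl)
  have htS : ∀ x ∈ S, (t : Perm α) x = x := fun x hx =>
    (ht x (mem_insert_of_mem hx)).trans (if_neg fun h : x = c => hcS (h ▸ hx))
  set g' : Perm α := (t : Perm α) * g * (t : Perm α)⁻¹ with hg'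
  have hg'G : g' ∈ G := G.mul_mem (G.mul_mem t.2 hg) (G.inv_mem t.2)
  have hti : ∀ x, (t : Perm α)⁻¹ ((t : Perm α) x) = x := fun x =>
    (t : Perm α).symm_apply_apply x
  have hgd : g' d = g c := by
    rw [hg', Perm.mul_apply, Perm.mul_apply, ← htc, hti, htS _ hb]
  have hagree : ∀ x ∈ S, g x ∈ S → g' x = g x := by
    intro x hx hgx
    rw [hg', Perm.mul_apply, Perm.mul_apply]
    nth_rewrite 1 [← htS x hx]
    rw [hti, htS _ hgx]
  refine ⟨g'⁻¹ * g, G.mul_mem (G.inv_mem hg'G) hg, fun h => ?_, ?_⟩
  · have h' : g' = g := inv_mul_eq_one.mp h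
    rw [h'] at hgd
    exact hdc (g.injective hgd)
  · set R : Finset α := g'.support ∩ g.support with hR
    have hmapped : g'.support = g.support.map (t : Perm α).toEmbedding := Perm.support_conj ..
    have hSR : S ∪ (if d ∈ g.support then {d} else ∅) ⊆ R := by
      intro x hx
      rw [hR, mem_inter, hmapped, mem_map]
      rcases mem_union.mp hx with hx | hx
      · exact ⟨⟨x, hS hx, htS x hx⟩, hS hx⟩
      · split_ifs at hx with hd
        · rw [mem_singleton] at hx
          subst hx
          refine ⟨⟨c, ?_, htc⟩, hd⟩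
          rw [← Perm.apply_mem_support]
          exact hS hb
        · simp at hx
    have hRc : S.card + (if d ∈ g.support then 1 else 0) ≤ R.card := by
      refine le_trans (le_of_eq ?_) (card_le_card hSR)
      split_ifs with hd
      · rw [card_union_of_disjoint (by simpa using hdS), card_singleton]
      · simp
    have hunion : (g'.support ∪ g.support).card + R.card = 2 * g.support.card := by
      rw [hR, card_union_add_card_inter, hmapped, card_map, two_mul]
    have hsub : (g'⁻¹ * g).support ⊆ (g'.support ∪ g.support) \ (S \ exits g S) := by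
      intro x hx
      rw [mem_sdiff]
      refine ⟨?_, fun hx' => ?_⟩
      · have := Perm.support_mul_le g'⁻¹ g hx
        simpa using this
      · simp only [exits, mem_sdiff, mem_filter, not_and, not_not] at hx'
        rw [Perm.mem_support, Perm.mul_apply, ← hagree x hx'.1 (hx'.2 hx'.1),
          ← Perm.mul_apply, inv_mul_cancel, Perm.one_apply] at hx
        exact hx rfl
    have hsd : S \ exits g S ⊆ g'.support ∪ g.support :=
      sdiff_subset.trans (hS.trans subset_union_right)
    have h1 := card_le_card hsub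
    rw [card_sdiff_of_subset hsd] at h1
    have h2 : (S \ exits g S).card = S.card - (exits g S).card :=
      card_sdiff_of_subset (filter_subset _ _)
    have h3 := card_le_card hsd
    omega

/-- A `k`-transitive permutation group (`k ≥ 3`) with a non-identity element of support smaller than `2k - 2` contains a non-identity element of support at most 3, and therefore contains the alternating group. -/
theorem result {α : Type*} [Fintype α] [DecidableEq α] (G : Subgroup (Equiv.Perm α)) {k : ℕ} (hk : 3 ≤ k) (hkn : k ≤ Fintype.card α) (hG : MulAction.IsMultiplyPretransitive G α k) (g : Equiv.Perm α) (hg : g ∈ G) (hg1 : g ≠ 1) (hsupp : g.support.card < 2 * k - 2) : (∃ h : Equiv.Perm α, h ∈ G ∧ h ≠ 1 ∧ h.support.card ≤ 3) ∧ alternatingGroup α ≤ G := by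
  classical
  have hprim : MulAction.IsPreprimitive G α := by
    apply MulAction.isPreprimitive_of_is_two_pretransitive
    exact MulAction.isMultiplyPretransitive_of_le (n := k) (by omega)
      (by rw [Nat.card_eq_fintype_card]; omega)
  -- a non-identity element of minimal support
  obtain ⟨h, hh, hmin⟩ := Finset.exists_min_image
    (Finset.univ.filter fun x : Equiv.Perm α => x ∈ G ∧ x ≠ 1) (fun x => x.support.card)
    ⟨g, by simp [hg, hg1]⟩
  simp only [Finset.mem_filter, Finset.mem_univ, true_and, and_imp] at hh hmin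
  suffices hsmall : h.support.card ≤ 3 by
    refine ⟨⟨h, hh.1, hh.2, hsmall⟩, ?_⟩
    have h0 : h.support.card ≠ 0 := fun e =>
      hh.2 (Equiv.Perm.support_eq_empty_iff.mp (Finset.card_eq_zero.mp e))
    have h1 := Equiv.Perm.card_support_ne_one h
    rcases (show h.support.card = 2 ∨ h.support.card = 3 by omega) with h2 | h3
    · rw [Equiv.Perm.subgroup_eq_top_of_isPreprimitive_of_isSwap_mem hprim h
        (Equiv.Perm.card_support_eq_two.mp h2) hh.1]
      exact le_top
    · exact Equiv.Perm.alternatingGroup_le_of_isPreprimitive_of_isThreeCycle_mem hprim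
        (card_support_eq_three_iff.mp h3) hh.1
  by_contra hbig
  have hho : orderOf h ≠ 1 := fun e => hh.2 (orderOf_eq_one_iff.mp e)
  obtain ⟨p, hp, hpd⟩ := Nat.exists_prime_and_dvd hho
  set u := h ^ (orderOf h / p) with hu
  have hup : orderOf u = p := orderOf_pow_orderOf_div (orderOf_pos h).ne' hpd
  have huG : u ∈ G := G.pow_mem hh.1 _
  have hu1 : u ≠ 1 := fun e => by rw [e, orderOf_one] at hup; exact hp.ne_one hup.symm
  have hum : u.support.card = h.support.card :=
    le_antisymm (Finset.card_le_card (Equiv.Perm.support_pow_le h _)) (hmin u huG hu1)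
  have hmg : h.support.card ≤ g.support.card := hmin g hg hg1
  set m := h.support.card with hm
  obtain ⟨r, hr⟩ : p ∣ u.support.card := by
    have := Equiv.Perm.sum_cycleType u
    rw [← this]
    refine Multiset.dvd_sum fun n hn => ?_
    have hn2 := Equiv.Perm.two_le_of_mem_cycleType hn
    have hnd : n ∣ p := hup ▸ Equiv.Perm.dvd_of_mem_cycleType hn
    rw [(hp.eq_one_or_self_of_dvd n hnd).resolve_left (by omega)]
  obtain ⟨c, hc⟩ := Finset.card_pos.mp (show 0 < u.support.card by omega)
  set b := u c with hb
  have hbs : b ∈ u.support := Equiv.Perm.apply_mem_support.mpr hc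
  set U := u.support \ seg u b p with hU
  have hUinv : ∀ z, z ∈ U ↔ u z ∈ U := fun z => by
    rw [hU, Finset.mem_sdiff, Finset.mem_sdiff, Equiv.Perm.apply_mem_support,
      ← orbit_closed hp hup]
  have hUc : U.card = m - p := by
    rw [hU, Finset.card_sdiff_of_subset (seg_subset_support hbs p), seg_card hp hup hbs le_rfl, hum]
  have hcb : (u ^ (p - 1)) b = c := by
    rw [hb, ← Equiv.Perm.mul_apply, ← pow_succ, Nat.sub_add_cancel hp.one_le, ← hup,
      pow_orderOf_eq_one, Equiv.Perm.one_apply]
  have hp2 := hp.two_le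
  -- a set of prescribed size containing `b`, not `c`, with few exits
  have hmk : ∀ j t : ℕ, 1 ≤ j → j ≤ p - 1 → t ≤ m - p → ∃ S : Finset α, S ⊆ u.support ∧ c ∉ S ∧
      b ∈ S ∧ S.card = j + t ∧ (exits u S).card ≤ 2 ∧ (p ∣ t → (exits u S).card ≤ 1) := by
    intro j t hj hj' ht
    obtain ⟨T, hT, hTc, hTe, hTd⟩ := exists_few_exits hp hup U Finset.sdiff_subset hUinv t (hUc ▸ ht)
    have hnot : ∀ z ∈ T, z ∉ seg u b p := fun z hz => (Finset.mem_sdiff.mp (hT hz)).2
    refine ⟨seg u b j ∪ T, Finset.union_subset (seg_subset_support hbs j)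
      (hT.trans Finset.sdiff_subset), ?_, ?_, ?_, ?_, fun hd => ?_⟩
    · intro hcm
      rcases Finset.mem_union.mp hcm with hcm | hcm
      · obtain ⟨i, hi, hie⟩ := Finset.mem_image.mp hcm
        rw [Finset.mem_range] at hi
        have := seg_injOn hp hup hbs (Finset.mem_coe.mpr (Finset.mem_range.mpr (by omega : i < p)))
          (Finset.mem_coe.mpr (Finset.mem_range.mpr (by omega : p - 1 < p))) (hie.trans hcb.symm)
        omega
      · exact hnot c hcm (Finset.mem_image.mpr ⟨p - 1, Finset.mem_range.mpr (by omega), hcb⟩)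
    · exact Finset.mem_union_left _ (Finset.mem_image.mpr ⟨0, Finset.mem_range.mpr hj, rfl⟩)
    · rw [Finset.card_union_of_disjoint, seg_card hp hup hbs (by omega), hTc]
      rw [Finset.disjoint_left]
      intro z hz hz'
      obtain ⟨i, hi, rfl⟩ := Finset.mem_image.mp hz
      exact hnot _ hz' (Finset.mem_image.mpr
        ⟨i, Finset.mem_range.mpr (by rw [Finset.mem_range] at hi; omega), rfl⟩)
    · refine (Finset.card_le_card (exits_union u _ _)).trans ((Finset.card_union_le _ _).trans ?_)
      have := seg_exits u b j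
      omega
    · refine (Finset.card_le_card (exits_union u _ _)).trans ?_
      rw [hTd hd, Finset.union_empty]
      exact seg_exits u b j
  rcases Nat.even_or_odd m with hev | hodd
  · obtain ⟨s, hs⟩ := hev
    rcases Nat.lt_or_ge m 6 with hm6 | hm6
    · -- `m = 4`, so `p = 2`
      have hm4 : m = 4 := by omega
      have hp4 : p = 2 := by
        have : p ∣ 2 ^ 2 := ⟨r, by rw [← hr, hum, hm4]; rfl⟩
        exact (Nat.prime_dvd_prime_iff_eq hp Nat.prime_two).mp (hp.dvd_of_dvd_pow this)
      obtain ⟨S, hS, hcS, hbS, hSc, -, he⟩ := hmk 1 2 le_rfl (by omega) (by omega)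
      by_cases hout : ∃ d, d ∉ u.support
      · obtain ⟨d, hd⟩ := hout
        obtain ⟨z, hzG, hz1, hz⟩ := shrink hG hkn huG hS hcS hbS (fun e => hd (by rw [e]; exact hc))
          (fun e => hd (hS e)) (by omega)
        rw [if_neg hd] at hz
        have := hmin z hzG hz1
        have := he (hp4 ▸ dvd_rfl)
        omega
      · push Not at hout
        have hn4 : Fintype.card α = 4 := by
          rw [← Finset.card_univ, ← Finset.eq_univ_of_forall hout, hum, hm4]
        have hk4 : k = 4 := by omega
        obtain ⟨x, -, y, -, hxy⟩ := Finset.one_lt_card.mp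
          (show 1 < u.support.card by omega)
        obtain ⟨w, hw⟩ := Cfsg.Agent.H33.exists_smul_eqOn hG (by rw [Nat.card_eq_fintype_card]; omega)
          Finset.univ (by rw [Finset.card_univ]; omega) (Equiv.swap x y)
          (Equiv.injective _).injOn
        have hwe : (w : Equiv.Perm α) = Equiv.swap x y :=
          Equiv.ext fun z => hw z (Finset.mem_univ z)
        have := hmin (w : Equiv.Perm α) w.2 (by rw [hwe]; simpa using hxy)
        rw [hwe, Equiv.Perm.support_swap hxy, Finset.card_pair hxy] at this
        omega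
    · obtain ⟨S, hS, hcS, hbS, hSc, he, -⟩ :=
        hmk (min (p - 1) (s + 1)) (s + 1 - min (p - 1) (s + 1)) (le_min (by omega) (by omega))
          (min_le_left _ _) (by omega)
      obtain ⟨d, hd, hd'⟩ := Finset.exists_mem_notMem_of_card_lt_card (s := insert c S)
        (t := u.support) (by rw [Finset.card_insert_of_notMem hcS]; omega)
      rw [Finset.mem_insert, not_or] at hd'
      obtain ⟨z, hzG, hz1, hz⟩ := shrink hG hkn huG hS hcS hbS hd'.1 hd'.2 (by omega)
      rw [if_pos hd] at hz
      have := hmin z hzG hz1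
      omega
  · obtain ⟨s, hs⟩ := hodd
    have hrodd : r % 2 = 1 ∧ p % 2 = 1 := by
      have hpr : (p * r) % 2 = 1 := by omega
      rw [Nat.mul_mod] at hpr
      rcases Nat.mod_two_eq_zero_or_one p with h1 | h1 <;>
        rcases Nat.mod_two_eq_zero_or_one r with h2 | h2 <;> rw [h1, h2] at hpr <;> omega
    obtain ⟨r', hr'⟩ : ∃ r', r = 2 * r' + 1 := ⟨r / 2, by omega⟩
    have hmpr : m = 2 * (p * r') + p := by rw [← hum, hr, hr']; ring
    obtain ⟨S, hS, hcS, hbS, hSc, -, he⟩ :=
      hmk ((p + 1) / 2) (p * r') (by omega) (by omega) (by omega)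
    have he' := he (dvd_mul_right p r')
    obtain ⟨d, hd, hd'⟩ := Finset.exists_mem_notMem_of_card_lt_card (s := insert c S)
      (t := u.support) (by rw [Finset.card_insert_of_notMem hcS]; omega)
    rw [Finset.mem_insert, not_or] at hd'
    obtain ⟨z, hzG, hz1, hz⟩ := shrink hG hkn huG hS hcS hbS hd'.1 hd'.2 (by omega)
    rw [if_pos hd] at hz
    have := hmin z hzG hz1
    omega

end Cfsg.Agent.S0711
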