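import Cfsg.Statements.S0712
import Mathlib

set_option autoImplicit false
open Cfsg

namespace Cfsg.Agent.S0712

open MulAction SubMulAction in
theorem succ_two {G α : Type*} [Group G] [MulAction G α] [Finite α] {m : ℕ}
    (hm : IsMultiplyPretransitive G α m) (s : Set α) (hs : s.ncard = m)
    (h2 : IsMultiplyPretransitive (fixingSubgroup G s) (ofFixingSubgroup G s) 2) :
    IsMultiplyPretransitive G α (m + 2) := by
  have hcard : Nat.card s = m := by rw [Nat.card_coe_set_eq, hs]
  let e : Fin m ≃ s := (Finite.equivFinOfCardEq hcard).symm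
  let es : Fin m ↪ α := e.toEmbedding.trans (Function.Embedding.subtype _)
  rw [isMultiplyPretransitive_iff]
  intro x y
  obtain ⟨g₁, h₁⟩ := exists_smul_eq G ((Fin.castAddEmb 2).trans x) es
  obtain ⟨g₂, h₂⟩ := exists_smul_eq G ((Fin.castAddEmb 2).trans y) es
  have key : ∀ (g : G) (z : Fin (m + 2) ↪ α), g • (Fin.castAddEmb 2).trans z = es →
      ∀ j : Fin 2, g • z (Fin.natAdd m j) ∈ ofFixingSubgroup G s := by
    intro g z hz j hmem
    have hi := DFunLike.congr_fun hz (e.symm ⟨_, hmem⟩)
    simp only [Function.Embedding.smul_apply, Function.Embedding.trans_apply, es,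
      Equiv.coe_toEmbedding, Equiv.apply_symm_apply, Function.Embedding.coe_subtype] at hi
    have := congrArg Fin.val (z.injective (MulAction.injective g hi))
    simp at this
    omega
  let x2 : Fin 2 ↪ ofFixingSubgroup G s := ⟨fun j => ⟨_, key g₁ x h₁ j⟩, fun i j h => by
    simpa [Fin.ext_iff] using x.injective (MulAction.injective g₁ (congrArg Subtype.val h))⟩
  let y2 : Fin 2 ↪ ofFixingSubgroup G s := ⟨fun j => ⟨_, key g₂ y h₂ j⟩, fun i j h => by
    simpa [Fin.ext_iff] using y.injective (MulAction.injective g₂ (congrArg Subtype.val h))⟩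
  obtain ⟨h, hh⟩ := exists_smul_eq (fixingSubgroup G s) x2 y2
  refine ⟨g₂⁻¹ * h * g₁, ?_⟩
  ext i
  rw [Function.Embedding.smul_apply, mul_smul, mul_smul, inv_smul_eq_iff]
  refine Fin.addCases (fun i => ?_) (fun j => ?_) i
  · have a1 := DFunLike.congr_fun h₁ i
    have a2 := DFunLike.congr_fun h₂ i
    simp only [Function.Embedding.smul_apply, Function.Embedding.trans_apply] at a1 a2
    rw [show Fin.castAdd 2 i = Fin.castAddEmb 2 i from rfl, a1, a2]
    exact (mem_fixingSubgroup_iff G).mp h.2 _ (e i).2
  · exact congrArg Subtype.val (DFunLike.congr_fun hh j)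

/-- Jordan: a primitive group in which the pointwise stabiliser of a set `s` is doubly transitive on the complement of `s` (which has at least 2 points) is `(|s| + 2)`-transitive. -/
theorem result {α : Type*} [Fintype α] [DecidableEq α] (G : Subgroup (Equiv.Perm α)) (hG : MulAction.IsPreprimitive G α) (s : Set α) {m : ℕ} (hsm : s.ncard = m) (hm : m + 2 ≤ Fintype.card α) (h2 : MulAction.IsMultiplyPretransitive (fixingSubgroup G s) (SubMulAction.ofFixingSubgroup G s) 2) : MulAction.IsMultiplyPretransitive G α (m + 2) := by
  refine succ_two ?_ s hsm h2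
  rcases m with _ | n
  · exact MulAction.is_zero_pretransitive'
  · rcases n with _ | n
    · exact MulAction.is_one_pretransitive_iff.mpr hG.toIsPretransitive
    · have : MulAction.IsPreprimitive (fixingSubgroup G s) (SubMulAction.ofFixingSubgroup G s) :=
        MulAction.isPreprimitive_of_is_two_pretransitive h2
      have h := hG.isMultiplyPreprimitive hsm (by rw [Nat.card_eq_fintype_card]; omega) this
      have h' : MulAction.IsMultiplyPretransitive G α (n + 1 + 2) :=
        h.isMultiplyPretransitive
      exact MulAction.isMultiplyPretransitive_of_le (n := n + 1 + 2) (by omega)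
        (by rw [Nat.card_eq_fintype_card]; omega)

end Cfsg.Agent.S0712
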