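import Cfsg.Statements.S0714
import Mathlib

set_option autoImplicit false
open Cfsg

namespace Cfsg.Agent.S0714

variable {α : Type*} [Fintype α] [DecidableEq α] {K : Type*} [Field K]
  (W : Subrepresentation (Cfsg.permRep K (alternatingGroup α) α))

theorem act_mem (σ : Equiv.Perm α) (hσ : Equiv.Perm.sign σ = 1) {f : α → K}
    (hf : f ∈ W.toSubmodule) : (fun x => f (σ.symm x)) ∈ W.toSubmodule :=
  W.apply_mem_toSubmodule ⟨σ, Equiv.Perm.mem_alternatingGroup.mpr hσ⟩ hf

theorem swaps_sign {a b c d : α} (hab : a ≠ b) (hcd : c ≠ d) :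
    Equiv.Perm.sign (Equiv.swap a b * Equiv.swap c d) = 1 := by
  simp [hab, hcd]

theorem exists_diff_mem (hα : 5 ≤ Fintype.card α) {f : α → K} (hf : f ∈ W.toSubmodule)
    {a b : α} (hne : f a ≠ f b) :
    ∃ p q : α, p ≠ q ∧ Pi.single p (1 : K) - Pi.single q 1 ∈ W.toSubmodule := by
  classical
  have hab : a ≠ b := fun h => hne (by rw [h])
  obtain ⟨c, hc⟩ : ∃ c, c ∉ ({a, b} : Finset α) := by
    by_contra h; push Not at h
    have := (Finset.card_le_card (fun x _ => h x : Finset.univ ⊆ ({a, b} : Finset α))).trans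
      Finset.card_le_two
    simp at this; omega
  simp only [Finset.mem_insert, Finset.mem_singleton, not_or] at hc
  obtain ⟨hca, hcb⟩ := hc
  have hs : Equiv.Perm.sign (Equiv.swap a b * Equiv.swap b c) = 1 := swaps_sign hab (Ne.symm hcb)
  have hv := W.toSubmodule.sub_mem hf (act_mem W _ hs hf)
  set v : α → K := f - fun x => f ((Equiv.swap a b * Equiv.swap b c).symm x) with hvdef
  have hv0 : ∀ x, x ≠ a → x ≠ b → x ≠ c → v x = 0 := by
    intro x h1 h2 h3
    simp [hvdef, Equiv.Perm.mul_def, Equiv.symm_trans_apply, Equiv.swap_apply_of_ne_of_ne, h1, h2, h3]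
  have hvb : v b ≠ 0 := by
    have : v b = f b - f a := by
      simp [hvdef, Equiv.Perm.mul_def, Equiv.symm_trans_apply, Equiv.swap_apply_of_ne_of_ne hab (Ne.symm hca), Equiv.swap_apply_right]
    rw [this]
    exact sub_ne_zero.mpr (Ne.symm hne)
  obtain ⟨d, hd⟩ : ∃ d, d ∉ ({a, b, c} : Finset α) := by
    by_contra h; push Not at h
    have := (Finset.card_le_card (fun x _ => h x : Finset.univ ⊆ ({a, b, c} : Finset α))).trans
      Finset.card_le_three
    simp at this; omega
  obtain ⟨e, he⟩ : ∃ e, e ∉ ({a, b, c, d} : Finset α) := by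
    by_contra h; push Not at h
    have := (Finset.card_le_card (fun x _ => h x : Finset.univ ⊆ ({a, b, c, d} : Finset α))).trans
      Finset.card_le_four
    simp at this; omega
  simp only [Finset.mem_insert, Finset.mem_singleton, not_or] at hd he
  have hd0 : v d = 0 := hv0 d hd.1 hd.2.1 hd.2.2
  have he0 : v e = 0 := hv0 e he.1 he.2.1 he.2.2.1
  by_cases h1 : v a = v b
  · refine ⟨a, d, Ne.symm hd.1, ?_⟩
    have hm := W.toSubmodule.sub_mem hv
      (act_mem W _ (swaps_sign (Ne.symm hd.1) (Ne.symm hcb)) hv)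
    by_cases h2 : v b = v c
    · have heq : (v - fun x => v ((Equiv.swap a d * Equiv.swap b c).symm x))
          = v a • (Pi.single a 1 - Pi.single d 1) := by
        funext x
        simp only [Pi.sub_apply, Pi.smul_apply, smul_eq_mul, Equiv.Perm.mul_def, Equiv.symm_trans_apply,
          Equiv.symm_swap, Pi.single_apply]
        by_cases hxa : x = a
        · subst hxa; simp [Equiv.swap_apply_of_ne_of_ne, hd.2.1, hd.2.2, hd0, Ne.symm hd.1]
        by_cases hxd : x = d
        · subst hxd; simp [Equiv.swap_apply_of_ne_of_ne, hab, Ne.symm hca, hd.1, hd0]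
        by_cases hxb : x = b
        · subst hxb; simp [Equiv.swap_apply_of_ne_of_ne, hxa, hxd, hca, Ne.symm hd.2.2, h2]
        by_cases hxc : x = c
        · subst hxc; simp [Equiv.swap_apply_of_ne_of_ne, hxa, hxd, hab.symm, Ne.symm hd.2.1, h2]
        simp [Equiv.swap_apply_of_ne_of_ne, hxa, hxd, hxb, hxc]
      rw [heq] at hm
      have := W.toSubmodule.smul_mem (v a)⁻¹ hm
      rwa [smul_smul, inv_mul_cancel₀ (h1 ▸ hvb), one_smul] at this
    · have hm' := W.toSubmodule.sub_mem hv
        (act_mem W _ (swaps_sign (Ne.symm hcb) (Ne.symm he.2.2.2)) hv)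
      have heq : (v - fun x => v ((Equiv.swap b c * Equiv.swap d e).symm x))
          = (v b - v c) • (Pi.single b 1 - Pi.single c 1) := by
        funext x
        simp only [Pi.sub_apply, Pi.smul_apply, smul_eq_mul, Equiv.Perm.mul_def, Equiv.symm_trans_apply,
          Equiv.symm_swap, Pi.single_apply]
        by_cases hxb : x = b
        · subst hxb; simp [Equiv.swap_apply_of_ne_of_ne, hcb, Ne.symm hcb, Ne.symm hd.2.2, Ne.symm he.2.2.1]
        by_cases hxc : x = c
        · subst hxc; simp [Equiv.swap_apply_of_ne_of_ne, hcb, Ne.symm hcb, Ne.symm hd.2.1, Ne.symm he.2.1]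
        by_cases hxd : x = d
        · subst hxd; simp [Equiv.swap_apply_of_ne_of_ne, hxb, hxc, hd0, he0]
        by_cases hxe : x = e
        · subst hxe; simp [Equiv.swap_apply_of_ne_of_ne, hxb, hxc, hd0, he0]
        simp [Equiv.swap_apply_of_ne_of_ne, hxb, hxc, hxd, hxe]
      rw [heq] at hm'
      have h3 := W.toSubmodule.smul_mem (v b - v c)⁻¹ hm'
      rw [smul_smul, inv_mul_cancel₀ (sub_ne_zero.mpr h2), one_smul] at h3
      -- move (b, c) to (a, d)
      have h4 := act_mem W _ (swaps_sign hab (Ne.symm hd.2.2 : c ≠ d)) h3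
      have heq2 : (fun x => (Pi.single b (1 : K) - Pi.single c 1 : α → K)
            ((Equiv.swap a b * Equiv.swap c d).symm x))
          = Pi.single a 1 - Pi.single d 1 := by
        funext x
        simp only [Pi.sub_apply, Equiv.Perm.mul_def, Equiv.symm_trans_apply, Equiv.symm_swap,
          Pi.single_apply]
        simp only [Equiv.swap_apply_def]
        grind
      rwa [heq2] at h4
  · refine ⟨a, b, hab, ?_⟩
    have hm := W.toSubmodule.sub_mem hv
      (act_mem W _ (swaps_sign hab (Ne.symm he.2.2.2)) hv)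
    have heq : (v - fun x => v ((Equiv.swap a b * Equiv.swap d e).symm x))
        = (v a - v b) • (Pi.single a 1 - Pi.single b 1) := by
      funext x
      simp only [Pi.sub_apply, Pi.smul_apply, smul_eq_mul, Equiv.Perm.mul_def, Equiv.symm_trans_apply,
        Equiv.symm_swap, Pi.single_apply]
      by_cases hxa : x = a
      · subst hxa; simp [Equiv.swap_apply_of_ne_of_ne, hab, Ne.symm hd.2.1, Ne.symm he.2.1]
      by_cases hxb : x = b
      · subst hxb; simp [Equiv.swap_apply_of_ne_of_ne, hab, Ne.symm hab, Ne.symm hd.1, Ne.symm he.1]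
      by_cases hxd : x = d
      · subst hxd; simp [Equiv.swap_apply_of_ne_of_ne, hxa, hxb, hd0, he0]
      by_cases hxe : x = e
      · subst hxe; simp [Equiv.swap_apply_of_ne_of_ne, hxa, hxb, hd0, he0]
      simp [Equiv.swap_apply_of_ne_of_ne, hxa, hxb, hxd, hxe]
    rw [heq] at hm
    have h3 := W.toSubmodule.smul_mem (v a - v b)⁻¹ hm
    rwa [smul_smul, inv_mul_cancel₀ (sub_ne_zero.mpr h1), one_smul] at h3

/-- Over any field, the permutation module of the alternating group of degree at least 5 has exactly four invariant subspaces: zero, the constant functions, the functions with coordinate sum zero, and everything. -/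
theorem result {α : Type*} [Fintype α] [DecidableEq α] (hα : 5 ≤ Fintype.card α) {K : Type*} [Field K] (W : Subrepresentation (Cfsg.permRep K (alternatingGroup α) α)) : W.toSubmodule = ⊥ ∨ W = Cfsg.permConstants K (alternatingGroup α) α ∨ W = Cfsg.permSumZero K (alternatingGroup α) α ∨ W.toSubmodule = ⊤ := by
  classical
  by_cases hconst : ∀ f ∈ W.toSubmodule, ∀ a b, f a = f b
  · by_cases hbot : W.toSubmodule = ⊥
    · exact Or.inl hbot
    · refine Or.inr (Or.inl (Subrepresentation.toSubmodule_injective ?_))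
      obtain ⟨f, hf, hf0⟩ := Submodule.exists_mem_ne_zero_of_ne_bot hbot
      obtain ⟨a, ha⟩ := Function.ne_iff.mp hf0
      apply le_antisymm
      · intro g hg
        exact Submodule.mem_span_singleton.mpr ⟨g a, funext fun x => by simp [hconst g hg a x]⟩
      · show Submodule.span K {fun _ => (1 : K)} ≤ W.toSubmodule
        rw [Submodule.span_singleton_le_iff_mem]
        have := W.toSubmodule.smul_mem (f a)⁻¹ hf
        convert this using 1
        funext x
        rw [Pi.smul_apply, smul_eq_mul, hconst f hf x a, inv_mul_cancel₀ ha]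
  · push Not at hconst
    obtain ⟨f, hf, a, b, hab⟩ := hconst
    obtain ⟨p, q, hpq, hd⟩ := exists_diff_mem W hα hf hab
    have hall : ∀ x y : α, x ≠ y → Pi.single x (1 : K) - Pi.single y 1 ∈ W.toSubmodule := by
      intro x y hxy
      have hA := alternatingGroup.isMultiplyPretransitive α
      have h2 : MulAction.IsMultiplyPretransitive (alternatingGroup α) α 2 :=
        MulAction.isMultiplyPretransitive_of_le (n := Nat.card α - 2)
          (by rw [Nat.card_eq_fintype_card]; omega) (Nat.sub_le _ _)
      obtain ⟨g, hgp, hgq⟩ := MulAction.is_two_pretransitive_iff.mp h2 hpq hxy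
      have h := W.apply_mem_toSubmodule g hd
      convert h using 1
      funext z
      show _ = (Pi.single p (1 : K) - Pi.single q 1 : α → K) (g⁻¹ • z)
      simp only [Pi.sub_apply, Pi.single_apply, inv_smul_eq_iff, hgp, hgq]
    have hsum : (Cfsg.permSumZero K (alternatingGroup α) α).toSubmodule ≤ W.toSubmodule := by
      intro g hg
      have hg0 : ∑ x, g x = 0 := hg
      obtain ⟨o⟩ : Nonempty α := ⟨a⟩
      have e : g = ∑ x, g x • (Pi.single x (1 : K) - Pi.single o 1) := by
        funext z
        simp only [Finset.sum_apply, Pi.smul_apply, Pi.sub_apply, smul_eq_mul, Pi.single_apply,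
          mul_sub, Finset.sum_sub_distrib]
        rw [← Finset.sum_mul, hg0, zero_mul, sub_zero]
        simp
      rw [e]
      refine Submodule.sum_mem _ fun x _ => ?_
      rcases eq_or_ne x o with rfl | hx
      · simp
      · exact W.toSubmodule.smul_mem _ (hall x o hx)
    by_cases htop : ∀ g ∈ W.toSubmodule, ∑ x, g x = 0
    · exact Or.inr (Or.inr (Or.inl (Subrepresentation.toSubmodule_injective
        (le_antisymm htop hsum))))
    · push Not at htop
      obtain ⟨w, hw, hs⟩ := htop
      refine Or.inr (Or.inr (Or.inr (eq_top_iff.mpr fun g _ => ?_)))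
      have hmem : g - ((∑ x, g x) * (∑ x, w x)⁻¹) • w ∈ W.toSubmodule := hsum (by
        show ∑ x, (g - ((∑ x, g x) * (∑ x, w x)⁻¹) • w) x = 0
        simp only [Pi.sub_apply, Pi.smul_apply, smul_eq_mul, Finset.sum_sub_distrib,
          ← Finset.mul_sum, mul_assoc, inv_mul_cancel₀ hs, mul_one, sub_self])
      simpa using W.toSubmodule.add_mem hmem
        (W.toSubmodule.smul_mem ((∑ x, g x) * (∑ x, w x)⁻¹) hw)

end Cfsg.Agent.S0714
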