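import Cfsg.Statements.S0716
import Cfsg.Agent.H33.Subdegree
import Cfsg.Agent.CharBasic.Complete

set_option autoImplicit false
open Cfsg

namespace Cfsg.Agent.S0716

open Cfsg.Agent Cfsg.Agent.H33 MulAction in
/-- (a): all non-principal constituents of degree `f`. -/
theorem same_degree {G : Type*} [Group G] [Fintype G] {Ω : Type*} [Fintype Ω] [MulAction G Ω]
    [IsPretransitive G Ω] (a : Ω) (f : ℕ)
    (hf : ∀ χ : G → ℂ, Cfsg.IsIrrCharacter G χ → χ ≠ (fun _ => 1) →
      Cfsg.classInner (permChar G Ω) χ ≠ 0 → χ 1 = f) :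
    (∀ χ : G → ℂ, Cfsg.IsIrrCharacter G χ → Cfsg.classInner (permChar G Ω) χ = 0 ∨
      Cfsg.classInner (permChar G Ω) χ = 1) ∧
      ∀ b : Ω, b ≠ a → Nat.card (orbit (stabilizer G a) b) = f := by
  classical
  have : Nonempty Ω := ⟨a⟩
  have hdvd : ∀ b : Ω, b ≠ a → f ∣ Nat.card (orbit (stabilizer G a) b) := fun b hb =>
    subdegree_dvd (fun χ h1 h2 h3 => ⟨1, by rw [hf χ h1 h2 h3]; simp⟩) hb
  choose m hm using fun χ : Cfsg.IrrCharacter G =>
    CharBasic.classInner_isChar_nat (isCharacter_permChar (G := G) (Ω := Ω))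
      (CharBasic.IsIrr.isCharacter χ.2)
  set one : Cfsg.IrrCharacter G := ⟨fun _ => 1, CharBasic.isIrrCharacter_one⟩ with hone
  have hm1 : m one = 1 := by
    have h := hm one
    rw [hone, classInner_permChar_one] at h
    exact_mod_cast h.symm
  set s := Finset.univ.erase one with hs
  have hcl := CharBasic.IsChar.isClassFunction (isCharacter_permChar (G := G) (Ω := Ω))
  have hdeg : Fintype.card Ω = 1 + f * ∑ χ ∈ s, m χ := by
    have h := congrFun (CharBasic.classFunction_expansion hcl) 1
    rw [permChar_one, Finset.sum_apply, ← Finset.add_sum_erase _ _ (Finset.mem_univ one)] at h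
    simp only [Pi.smul_apply, smul_eq_mul, hm, hm1, Nat.cast_one, hone, mul_one] at h
    rw [← hone, ← hs] at h
    have e : ∑ χ ∈ s, (m χ : ℂ) * (χ : G → ℂ) 1 = ∑ χ ∈ s, (m χ : ℂ) * f := by
      refine Finset.sum_congr rfl fun χ hχ => ?_
      rcases Nat.eq_zero_or_pos (m χ) with h0 | h0
      · simp [h0]
      · rw [hf χ χ.2 (fun e => Finset.ne_of_mem_erase hχ (Subtype.ext e))
          (by rw [hm]; exact_mod_cast h0.ne')]
    rw [e, ← Finset.sum_mul, classInner_permChar_one] at h
    have : (Fintype.card Ω : ℂ) = ((1 + f * ∑ χ ∈ s, m χ : ℕ) : ℂ) := by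
      rw [h]; push_cast; ring
    exact_mod_cast this
  have hrank : Nat.card (orbitRel.Quotient (stabilizer G a) Ω) = 1 + ∑ χ ∈ s, m χ * m χ := by
    have h := classInner_permChar_self (G := G) a
    rw [CharBasic.classInner_eq_sum hcl, ← Finset.add_sum_erase _ _ (Finset.mem_univ one)] at h
    simp only [hm, hm1, Complex.conj_natCast] at h
    rw [← hs] at h
    have : ((Nat.card (orbitRel.Quotient (stabilizer G a) Ω) : ℕ) : ℂ)
        = ((1 + ∑ χ ∈ s, m χ * m χ : ℕ) : ℂ) := by rw [← h]; push_cast; ring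
    exact_mod_cast this
  -- orbit sizes
  let Q := orbitRel.Quotient (stabilizer G a) Ω
  have : Fintype Q := Fintype.ofFinite Q
  let sz : Q → ℕ := fun q => Nat.card (orbitRel.Quotient.orbit q)
  have hsz : ∑ q : Q, sz q = Fintype.card Ω := by
    have h := Fintype.card_congr (selfEquivSigmaOrbits' (stabilizer G a) Ω)
    rw [Fintype.card_sigma] at h
    rw [h]
    exact Finset.sum_congr rfl fun q _ => Nat.card_eq_fintype_card
  let qa : Q := Quotient.mk _ a
  have hszb : ∀ b : Ω, sz (Quotient.mk _ b) = Nat.card (orbit (stabilizer G a) b) := fun b => by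
    simp only [sz, orbitRel.Quotient.orbit_mk]
  have hqa : sz qa = 1 := by
    rw [hszb]
    have : orbit (stabilizer G a) a = {a} := by
      ext x
      constructor
      · rintro ⟨g, rfl⟩; exact g.2
      · rintro rfl; exact mem_orbit_self _
    rw [this, Nat.card_eq_fintype_card]; simp
  have hother : ∀ q : Q, q ≠ qa → ∃ b, b ≠ a ∧ q = Quotient.mk _ b := fun q hq => by
    induction q using Quotient.inductionOn with
    | h b => exact ⟨b, fun e => hq (by rw [e]), rfl⟩
  have hszf : ∀ q : Q, q ≠ qa → f ≤ sz q := fun q hq => by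
    obtain ⟨b, hb, rfl⟩ := hother q hq
    rw [hszb]
    refine Nat.le_of_dvd ?_ (hdvd b hb)
    have : Nonempty (orbit (stabilizer G a) b) := ⟨⟨b, mem_orbit_self b⟩⟩
    exact Nat.card_pos
  have hsum : ∑ q ∈ Finset.univ.erase qa, sz q = f * ∑ χ ∈ s, m χ := by
    have := Finset.add_sum_erase _ sz (Finset.mem_univ qa)
    rw [hqa, hsz, hdeg] at this
    omega
  have hcardq : (Finset.univ.erase qa).card = ∑ χ ∈ s, m χ * m χ := by
    rw [Finset.card_erase_of_mem (Finset.mem_univ _), Finset.card_univ, ← Nat.card_eq_fintype_card,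
      hrank]
    omega
  have hge : f * ∑ χ ∈ s, m χ * m χ ≤ f * ∑ χ ∈ s, m χ := by
    rw [← hsum, ← hcardq, mul_comm]
    exact Finset.card_nsmul_le_sum (Finset.univ.erase qa) sz f (fun q hq => hszf q (Finset.ne_of_mem_erase hq))
  have hle1 : ∀ χ ∈ s, m χ ≤ 1 := by
    rcases Nat.eq_zero_or_pos f with rfl | hfp
    · intro χ hχ
      by_contra h
      have h0 := hf χ χ.2 (fun e => Finset.ne_of_mem_erase hχ (Subtype.ext e))
        (by rw [hm]; exact_mod_cast (show m χ ≠ 0 by omega))
      exact CharBasic.IsIrr.one_ne_zero χ.2 (by rw [h0]; simp)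
    · intro χ hχ
      by_contra h
      have : ∑ χ ∈ s, m χ < ∑ χ ∈ s, m χ * m χ :=
        Finset.sum_lt_sum (fun i _ => Nat.le_mul_self _)
          ⟨χ, hχ, by nlinarith⟩
      have := Nat.le_of_mul_le_mul_left hge hfp
      omega
  refine ⟨fun χ hχ => ?_, fun b hb => ?_⟩
  · rcases eq_or_ne (⟨χ, hχ⟩ : Cfsg.IrrCharacter G) one with h | h
    · exact Or.inr (by
        have := congrArg Subtype.val h
        simp only [hone] at this
        rw [this, classInner_permChar_one])
    · have h1 := hle1 ⟨χ, hχ⟩ (Finset.mem_erase.mpr ⟨h, Finset.mem_univ _⟩)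
      rcases Nat.le_one_iff_eq_zero_or_eq_one.mp h1 with h2 | h2
      · exact Or.inl (by rw [show χ = ((⟨χ, hχ⟩ : Cfsg.IrrCharacter G) : G → ℂ) from rfl, hm, h2]; simp)
      · exact Or.inr (by rw [show χ = ((⟨χ, hχ⟩ : Cfsg.IrrCharacter G) : G → ℂ) from rfl, hm, h2]; simp)
  · have hsq : ∑ χ ∈ s, m χ * m χ = ∑ χ ∈ s, m χ := Finset.sum_congr rfl fun χ hχ => by
      rcases Nat.le_one_iff_eq_zero_or_eq_one.mp (hle1 χ hχ) with h | h <;> simp [h]
    have hqb : (Quotient.mk _ b : Q) ≠ qa := fun e => hb (by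
      have : b ∈ orbit (stabilizer G a) a := Quotient.exact e
      obtain ⟨g, rfl⟩ := this
      exact g.2)
    have heq : ∑ q ∈ Finset.univ.erase qa, f = ∑ q ∈ Finset.univ.erase qa, sz q := by
      rw [Finset.sum_const, smul_eq_mul, hcardq, hsq, hsum, mul_comm]
    have := (Finset.sum_eq_sum_iff_of_le (fun q hq => hszf q (Finset.ne_of_mem_erase hq))).mp heq
      _ (Finset.mem_erase.mpr ⟨hqb, Finset.mem_univ _⟩)
    rw [← hszb]
    exact this.symm

/-- (a) If all non-principal irreducible constituents of the permutation character of a transitive group have the same degree `f`, the character is multiplicity-free and all non-trivial subdegrees equal `f`. (b) A transitive group of rank at most 5 has multiplicity-free permutation character. -/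
theorem result {G : Type*} [Group G] [Fintype G] {Ω : Type*} [Fintype Ω] [MulAction G Ω] [MulAction.IsPretransitive G Ω] (a : Ω) : ((f : ℕ) → (∀ χ : G → ℂ, Cfsg.IsIrrCharacter G χ → χ ≠ (fun _ => 1) → Cfsg.classInner (fun g : G => (Nat.card (MulAction.fixedBy Ω g) : ℂ)) χ ≠ 0 → χ 1 = f) → (∀ χ : G → ℂ, Cfsg.IsIrrCharacter G χ → Cfsg.classInner (fun g : G => (Nat.card (MulAction.fixedBy Ω g) : ℂ)) χ = 0 ∨ Cfsg.classInner (fun g : G => (Nat.card (MulAction.fixedBy Ω g) : ℂ)) χ = 1) ∧ ∀ b : Ω, b ≠ a → Nat.card (MulAction.orbit (MulAction.stabilizer G a) b) = f) ∧ (Nat.card (MulAction.orbitRel.Quotient (MulAction.stabilizer G a) Ω) ≤ 5 → ∀ χ : G → ℂ, Cfsg.IsIrrCharacter G χ → Cfsg.classInner (fun g : G => (Nat.card (MulAction.fixedBy Ω g) : ℂ)) χ = 0 ∨ Cfsg.classInner (fun g : G => (Nat.card (MulAction.fixedBy Ω g) : ℂ)) χ = 1) := by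
  classical
  refine ⟨fun f hf => same_degree a f hf, fun hr χ hχ => ?_⟩
  open Cfsg.Agent Cfsg.Agent.H33 in
  have : Nonempty Ω := ⟨a⟩
  open Cfsg.Agent Cfsg.Agent.H33 in
  have key : Cfsg.classInner (permChar G Ω) χ = 0 ∨ Cfsg.classInner (permChar G Ω) χ = 1 := by
    choose m hm using fun χ : Cfsg.IrrCharacter G =>
      CharBasic.classInner_isChar_nat (isCharacter_permChar (G := G) (Ω := Ω))
        (CharBasic.IsIrr.isCharacter χ.2)
    set one : Cfsg.IrrCharacter G := ⟨fun _ => 1, CharBasic.isIrrCharacter_one⟩ with hone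
    have hm1 : m one = 1 := by
      have h := hm one
      rw [hone, classInner_permChar_one] at h
      exact_mod_cast h.symm
    have hcl := CharBasic.IsChar.isClassFunction (isCharacter_permChar (G := G) (Ω := Ω))
    have hrank : ∑ χ : Cfsg.IrrCharacter G, m χ * m χ ≤ 5 := by
      refine le_trans (le_of_eq ?_) hr
      have h := classInner_permChar_self (G := G) a
      rw [CharBasic.classInner_eq_sum hcl] at h
      simp only [hm, Complex.conj_natCast] at h
      exact_mod_cast h
    by_contra hcon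
    push Not at hcon
    set c : Cfsg.IrrCharacter G := ⟨χ, hχ⟩ with hc
    have hmc : 2 ≤ m c := by
      have := hm c
      rw [show (c : G → ℂ) = χ from rfl] at this
      by_contra hlt
      rcases Nat.le_one_iff_eq_zero_or_eq_one.mp (by omega : m c ≤ 1) with h | h
      · exact hcon.1 (by rw [this, h]; simp)
      · exact hcon.2 (by rw [this, h]; simp)
    have hc1 : one ≠ c := fun e => by rw [← e, hm1] at hmc; omega
    have hother : ∀ d : Cfsg.IrrCharacter G, d ≠ one → d ≠ c → m d = 0 := by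
      intro d hd1 hdc
      by_contra hd0
      have hsub := Finset.sum_le_sum_of_subset (f := fun e => m e * m e)
        (Finset.subset_univ ({one, c, d} : Finset (Cfsg.IrrCharacter G)))
      rw [Finset.sum_insert (by simp [hc1, hd1.symm]), Finset.sum_pair hdc.symm, hm1] at hsub
      have : 0 < m d * m d := by positivity
      nlinarith
    obtain ⟨f, -, hfd⟩ := CharBasic.IsIrr.exists_degree hχ
    have h := (same_degree (G := G) a f (fun d hd hd1 hd0 => by
      rcases eq_or_ne (⟨d, hd⟩ : Cfsg.IrrCharacter G) c with e | e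
      · rw [show d = χ from congrArg Subtype.val e]; exact hfd
      · refine absurd ?_ hd0
        have := hm ⟨d, hd⟩
        rw [hother ⟨d, hd⟩ (fun e' => hd1 (congrArg Subtype.val e')) e] at this
        simpa using this)).1 χ hχ
    exact h.elim hcon.1 hcon.2
  exact key

end Cfsg.Agent.S0716
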