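import Cfsg.Statements.S0717
import Cfsg.Agent.H33.Subdegree
import Cfsg.Agent.CharBasic.Complete

set_option autoImplicit false
open Cfsg

namespace Cfsg.Agent.S0717

open Cfsg.Agent Cfsg.Agent.H33 MulAction Module

variable {G : Type*} [Group G] [Fintype G] {Ω : Type*} [Fintype Ω] [MulAction G Ω]

open scoped Classical in
/-- Averaging operator of a function on `G`, as a matrix. -/
noncomputable def avg (c : G → ℂ) : Matrix Ω Ω ℂ :=
  Matrix.of fun x y => ∑ g : G, if g • y = x then c g else 0

theorem toLin'_avg [DecidableEq Ω] (c : G → ℂ) :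
    Matrix.toLin' (avg (Ω := Ω) c) = CharBasic.repSum c (Cfsg.permRep ℂ G Ω) := by
  refine LinearMap.ext fun f => funext fun x => ?_
  rw [Matrix.toLin'_apply]
  simp only [Matrix.mulVec, dotProduct, avg, Matrix.of_apply, CharBasic.repSum, LinearMap.sum_apply,
    Finset.sum_apply, LinearMap.smul_apply, Pi.smul_apply, smul_eq_mul, H32.permRep_apply,
    Finset.sum_mul]
  rw [Finset.sum_comm]
  refine Finset.sum_congr rfl fun g _ => ?_
  simp [eq_inv_smul_iff.symm]

theorem avg_transpose (c : G → ℂ) : (avg (Ω := Ω) c).transpose = avg fun g => c g⁻¹ := by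
  classical
  ext x y
  simp only [avg, Matrix.transpose_apply, Matrix.of_apply]
  refine Fintype.sum_equiv (Equiv.inv G) _ _ fun g => ?_
  simp only [Equiv.inv_apply, inv_inv, inv_smul_eq_iff]
  exact if_congr eq_comm rfl rfl

theorem avg_inv (c : G → ℂ) (hc : Cfsg.IsClassFunction G c) (k : G) (x y : Ω) :
    avg c (k • x) (k • y) = avg c x y := by
  classical
  simp only [avg, Matrix.of_apply]
  refine (Fintype.sum_equiv (MulAut.conj k).toEquiv _ _ fun g => ?_).symm
  show _ = if (k * g * k⁻¹) • k • y = k • x then c (k * g * k⁻¹) else 0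
  rw [hc g k, mul_smul, mul_smul, inv_smul_smul]
  exact if_congr (smul_left_cancel_iff k).symm rfl rfl

/-- All suborbits of a transitive group are self-paired (every pair of points is interchanged by some group element) if and only if the permutation character is multiplicity-free and each of its irreducible constituents is real-valued. -/
theorem result {G : Type*} [Group G] [Fintype G] {Ω : Type*} [Fintype Ω] [MulAction G Ω] [MulAction.IsPretransitive G Ω] : (∀ a b : Ω, ∃ g : G, g • a = b ∧ g • b = a) ↔ ∀ χ : G → ℂ, Cfsg.IsIrrCharacter G χ → Cfsg.classInner (fun g : G => (Nat.card (MulAction.fixedBy Ω g) : ℂ)) χ ≠ 0 → Cfsg.classInner (fun g : G => (Nat.card (MulAction.fixedBy Ω g) : ℂ)) χ = 1 ∧ ∀ g : G, (starRingEnd ℂ) (χ g) = χ g := by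
  classical
  set ρ := Cfsg.permRep ℂ G Ω with hρ
  have hchar : ρ.character = permChar G Ω := permRep_character
  constructor
  · -- all suborbits self-paired
    intro hsp χ hχ hne
    have hsym : ∀ M : Matrix Ω Ω ℂ, (∀ (g : G) x y, M (g • x) (g • y) = M x y) → M.transpose = M := by
      intro M hM
      ext x y
      obtain ⟨g, h1, h2⟩ := hsp x y
      rw [Matrix.transpose_apply, ← hM g x y, h1, h2]
    have hmf := multfree_of_commute ρ (fun S T hS hT => by
      have eS := hsym _ (toMatrix'_invariant hS)
      have eT := hsym _ (toMatrix'_invariant hT)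
      have eST := hsym _ (toMatrix'_invariant (hS.comp hT))
      apply LinearMap.toMatrix'.injective
      rw [LinearMap.toMatrix'_comp, Matrix.transpose_mul, eS, eT] at eST
      rw [LinearMap.toMatrix'_comp, LinearMap.toMatrix'_comp, eST]) χ hχ
    rw [hchar] at hmf
    have hval : Cfsg.classInner (permChar G Ω) χ = 1 := hmf.resolve_left hne
    refine ⟨hval, ?_⟩
    have hcl : Cfsg.IsClassFunction G χ := CharBasic.IsIrr.isClassFunction hχ
    have havg : avg (Ω := Ω) (fun g => (starRingEnd ℂ) (χ g)) = avg χ := by
      rw [← hsym _ (avg_inv χ hcl), avg_transpose]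
      congr 1
      funext g
      rw [CharBasic.IsChar.inv_apply (CharBasic.IsIrr.isCharacter hχ) g]
    obtain ⟨n, σ, hσ, rfl⟩ := hχ
    obtain ⟨u, hu, hu0⟩ := exists_eqv_ne_zero (σ := σ) (ρ := ρ) (by rw [hchar]; exact hne)
    have hinj := eqv_injective hu hu0
    have hpush : ∀ c : G → ℂ, ∀ v, CharBasic.repSum c ρ (u v) = u (CharBasic.repSum c σ v) := by
      intro c v
      simp only [CharBasic.repSum, LinearMap.sum_apply, LinearMap.smul_apply, map_sum, map_smul,
        hu _ v]
    have hrs : CharBasic.repSum (fun g => (starRingEnd ℂ) (σ.character g)) σ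
        = CharBasic.repSum σ.character σ := by
      refine LinearMap.ext fun v => hinj ?_
      rw [← hpush, ← hpush, hρ, ← toLin'_avg, ← toLin'_avg, havg]
    have htr := congrArg (LinearMap.trace ℂ _) hrs
    rw [CharBasic.trace_repSum, CharBasic.trace_repSum] at htr
    have h1 := CharBasic.classInner_irr_self (⟨n, σ, hσ, rfl⟩ : Cfsg.IsIrrCharacter G σ.character)
    set χ := σ.character with hχdef
    set χc : G → ℂ := fun g => (starRingEnd ℂ) (χ g) with hχc
    have a1 : Cfsg.classInner χ χc = 1 := by
      rw [CharBasic.classInner_def] at h1 ⊢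
      rw [← h1]
      congr 1
      simp only [hχc, Complex.conj_conj]
      rw [← htr]
      exact Finset.sum_congr rfl fun g _ => mul_comm _ _
    have a2 : Cfsg.classInner χc χ = 1 := by
      have h := congrArg (starRingEnd ℂ) a1
      rw [CharBasic.classInner_conj_symm, map_one] at h
      exact h
    have a3 : Cfsg.classInner χc χc = 1 := by
      rw [CharBasic.classInner_def] at h1 ⊢
      rw [← h1]
      congr 1
      exact Finset.sum_congr rfl fun g _ => by simp only [hχc, Complex.conj_conj]; ring
    have : Cfsg.classInner (χ - χc) (χ - χc) = 0 := by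
      rw [CharBasic.classInner_sub_left, CharBasic.classInner_sub_right,
        CharBasic.classInner_sub_right, h1, a1, a2, a3]
      ring
    intro g
    exact (sub_eq_zero.mp (congrFun (CharBasic.classInner_self_eq_zero.mp this) g)).symm
  · intro h a b
    have hmf : ∀ χ : G → ℂ, Cfsg.IsIrrCharacter G χ →
        Cfsg.classInner ρ.character χ = 0 ∨ Cfsg.classInner ρ.character χ = 1 := fun χ hχ => by
      rw [hchar]
      exact (em _).imp_right fun h0 => (h χ hχ h0).1
    set M : Matrix Ω Ω ℂ := orbMat ℂ a b G with hM
    have hMi : ∀ (g : G) x y, M (g • x) (g • y) = M x y := orbMat_inv ℂ a b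
    suffices hsym : M.transpose = M by
      have h1 : M a b = 1 := if_pos ⟨1, one_smul _ _, one_smul _ _⟩
      have h2 : M b a = 1 := by rw [← h1, ← Matrix.transpose_apply M, hsym]
      by_contra hne
      exact one_ne_zero (h2.symm.trans (if_neg hne))
    apply Matrix.toLin'.injective
    refine sub_eq_zero.mp (eqv_ext ρ _ fun V _ _ _ σ hσ u hu => ?_)
    rcases eq_or_ne u 0 with rfl | hu0
    · rw [LinearMap.comp_zero]
    have hMt : Eqv ρ ρ (Matrix.toLin' M.transpose) := eqv_toLin' _ fun g x y => hMi g y x
    have hMe : Eqv ρ ρ (Matrix.toLin' M) := eqv_toLin' _ hMi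
    have hne : Cfsg.classInner ρ.character σ.character ≠ 0 := classInner_ne_zero hu hu0
    have hirr := CharBasic.isIrrCharacter_character σ
    obtain ⟨hval, hreal⟩ := h _ hirr (by rw [hchar] at hne; exact hne)
    have hm := hmf _ hirr
    obtain ⟨s, hs⟩ := eqv_unique hm hu hu0 (hMe.comp hu)
    obtain ⟨t, ht⟩ := eqv_unique hm hu hu0 (hMt.comp hu)
    set c : G → ℂ := σ.character with hc
    have hcl : Cfsg.IsClassFunction G c := CharBasic.IsIrr.isClassFunction hirr
    set E : Matrix Ω Ω ℂ := avg c with hE
    have hEt : E.transpose = E := by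
      rw [hE, avg_transpose]
      congr 1
      funext g
      rw [CharBasic.IsChar.inv_apply (CharBasic.IsIrr.isCharacter hirr) g, hreal g]
    have hEe : Eqv ρ ρ (Matrix.toLin' E) := eqv_toLin' _ (avg_inv c hcl)
    -- `E` only sees the constituent `σ`
    have key : ∀ (N : Matrix Ω Ω ℂ) (r : ℂ), Eqv ρ ρ (Matrix.toLin' N) →
        Matrix.toLin' N ∘ₗ u = r • u → N * E = r • E := by
      intro N r hN hr
      apply Matrix.toLin'.injective
      rw [Matrix.toLin'_mul, map_smul]
      refine sub_eq_zero.mp (eqv_ext ρ _ fun V' _ _ _ σ' hσ' u' hu' => ?_)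
      have hEu : Matrix.toLin' E ∘ₗ u' = u' ∘ₗ CharBasic.repSum c σ' := by
        refine LinearMap.ext fun v => ?_
        rw [LinearMap.comp_apply, hE, toLin'_avg]
        simp only [CharBasic.repSum, LinearMap.sum_apply, LinearMap.smul_apply, LinearMap.comp_apply,
          map_sum, map_smul, hu' _ v]
        rfl
      rw [LinearMap.sub_comp, LinearMap.smul_comp, LinearMap.comp_assoc, hEu, ← LinearMap.comp_assoc]
      by_cases heq : σ'.character = c
      · rcases eq_or_ne u' 0 with rfl | hu'0
        · simp
        have : ∃ q : ℂ, Matrix.toLin' N ∘ₗ u' = q • u' :=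
          eqv_unique (by rw [heq]; exact hm) hu' hu'0 (hN.comp hu')
        obtain ⟨q, hq⟩ := this
        suffices q = r by rw [hq, this, LinearMap.smul_comp, sub_self]
        obtain ⟨n, e⟩ : ∃ n, u' = u ∘ₗ n ∧ True := by
          obtain ⟨p, hp, hpu⟩ := eqv_leftInverse hu (eqv_injective hu hu0)
          refine ⟨p ∘ₗ u', ?_, trivial⟩
          refine sub_eq_zero.mp ?_
          have he : Eqv σ' ρ (u' - u ∘ₗ (p ∘ₗ u')) := hu'.sub (hu.comp (hp.comp hu'))
          by_contra hd
          obtain ⟨l, hl⟩ := eqv_unique (by rw [heq]; exact hm) he hd hu'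
          have hz : p ∘ₗ (u' - u ∘ₗ (p ∘ₗ u')) = 0 := by
            rw [LinearMap.comp_sub, ← LinearMap.comp_assoc, hpu, LinearMap.id_comp, sub_self]
          have hpu' : p ∘ₗ u' = 0 := by rw [hl, LinearMap.comp_smul, hz, smul_zero]
          obtain ⟨u₂, hu₂, hu₂0⟩ : ∃ w : V' →ₗ[ℂ] V, Eqv σ' σ w ∧ w ≠ 0 := by
            refine exists_eqv_ne_zero ?_
            rw [heq, CharBasic.classInner_irr_self hirr]
            exact one_ne_zero
          obtain ⟨l', hl'⟩ := eqv_unique (by rw [heq]; exact hm) hu' hu'0 (hu.comp hu₂)
          have h3 : u₂ = p ∘ₗ (u ∘ₗ u₂) := by rw [← LinearMap.comp_assoc, hpu, LinearMap.id_comp]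
          rw [hl', LinearMap.comp_smul, hpu', smul_zero] at h3
          exact hu₂0 h3
        have h1 : q • u' = r • u' := by
          rw [← hq, e.1, ← LinearMap.comp_assoc, hr, LinearMap.smul_comp]
        exact smul_left_injective ℂ hu'0 h1
      · have hz : CharBasic.repSum c σ' = 0 := by
          obtain ⟨z, hz⟩ := CharBasic.schur_scalar σ' (CharBasic.repSum c σ')
            (CharBasic.repSum_comm hcl σ')
          have h0 := congrArg (LinearMap.trace ℂ V') hz
          rw [CharBasic.trace_repSum, map_smul, LinearMap.trace_id, smul_eq_mul] at h0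
          have hinner := CharBasic.classInner_irr_of_ne
            (CharBasic.isIrrCharacter_character σ') hirr heq
          rw [CharBasic.classInner_def, mul_eq_zero] at hinner
          have hsum : ∑ g : G, c g * σ'.character g = 0 := by
            rw [← hinner.resolve_left (by simp)]
            exact Finset.sum_congr rfl fun g _ => by rw [hc] at hreal ⊢; rw [hreal g, mul_comm]
          rw [hsum] at h0
          have hpos := CharBasic.finrank_pos_of_isIrreducible σ'
          rw [hz, (mul_eq_zero.mp h0.symm).resolve_right (by exact_mod_cast hpos.ne'), zero_smul]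
        simp [hz]
    have hst : s = t := by
      have e1 := congrArg Matrix.trace (key M s hMe hs)
      have e2 := congrArg Matrix.trace (key M.transpose t hMt ht)
      rw [Matrix.trace_smul, smul_eq_mul] at e1 e2
      have e3 : (M.transpose * E).trace = (M * E).trace := by
        rw [← Matrix.trace_transpose, Matrix.transpose_mul, Matrix.transpose_transpose, hEt,
          Matrix.trace_mul_comm]
      have hE0 : E.trace ≠ 0 := by
        have : E.trace = (Nat.card G : ℂ) := by
          rw [← Matrix.trace_toLin'_eq, hE, toLin'_avg, CharBasic.trace_repSum, hchar]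
          have := hval
          rw [CharBasic.classInner_def, inv_mul_eq_one₀ (by simp)] at this
          rw [this]
          exact Finset.sum_congr rfl fun g _ => by rw [hreal g, mul_comm]; rfl
        rw [this]
        simp
      rw [e3, e1] at e2
      exact mul_right_cancel₀ hE0 e2
    rw [LinearMap.sub_comp, ht, hs, hst, sub_self]

end Cfsg.Agent.S0717
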