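import Cfsg.Statements.S0718
import Cfsg.Agent.H33.PermCharacter

set_option autoImplicit false
open Cfsg

namespace Cfsg.Agent.S0718

open Cfsg.Agent.H33 in
theorem mem_inv_iff {G Ω : Type*} [Group G] [Fintype Ω] [MulAction G Ω]
    (S : (Ω → ℂ) →ₗ[ℂ] (Ω → ℂ)) :
    S ∈ ((Cfsg.permRep ℂ G Ω).linHom (Cfsg.permRep ℂ G Ω)).invariants ↔
      Eqv (Cfsg.permRep ℂ G Ω) (Cfsg.permRep ℂ G Ω) S := by
  constructor
  · intro h g v
    exact ((Representation.mem_linHom_invariants_iff_isIntertwining S).mp h).isIntertwining g v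
  · intro h
    exact (Representation.mem_linHom_invariants_iff_isIntertwining S).mpr ⟨h⟩

open Cfsg.Agent.H33 in
/-- Multiplicity-freeness of the permutation character is equivalent to commutativity of the centraliser ring, i.e. of the algebra of `G`-equivariant endomorphisms of the complex permutation module. -/
theorem result {G : Type*} [Group G] [Fintype G] {Ω : Type*} [Fintype Ω] [MulAction G Ω] : (∀ χ : G → ℂ, Cfsg.IsIrrCharacter G χ → Cfsg.classInner (fun g : G => (Nat.card (MulAction.fixedBy Ω g) : ℂ)) χ = 0 ∨ Cfsg.classInner (fun g : G => (Nat.card (MulAction.fixedBy Ω g) : ℂ)) χ = 1) ↔ ∀ S T : (Ω → ℂ) →ₗ[ℂ] (Ω → ℂ), S ∈ ((Cfsg.permRep ℂ G Ω).linHom (Cfsg.permRep ℂ G Ω)).invariants → T ∈ ((Cfsg.permRep ℂ G Ω).linHom (Cfsg.permRep ℂ G Ω)).invariants → S ∘ₗ T = T ∘ₗ S := by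
  open Cfsg.Agent.H33 in
  constructor
  · intro hm S T hS hT
    refine eqv_commute _ ?_ ((mem_inv_iff S).mp hS) ((mem_inv_iff T).mp hT)
    rw [permRep_character]
    exact hm
  · intro hc χ hχ
    have := multfree_of_commute (Cfsg.permRep ℂ G Ω)
      (fun S T hS hT => hc S T ((mem_inv_iff S).mpr hS) ((mem_inv_iff T).mpr hT)) χ hχ
    rwa [permRep_character] at this

end Cfsg.Agent.S0718
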