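import Cfsg.Statements.S0719
import Cfsg.Agent.H33.Subdegree
import Cfsg.Agent.CharBasic.Complete
import Mathlib.Tactic

set_option autoImplicit false
open Cfsg

namespace Cfsg.Agent.S0719

open Cfsg.Agent Cfsg.Agent.H33 MulAction Module

variable {G : Type*} [Group G] [Fintype G] {Ω : Type*} [Fintype Ω] [MulAction G Ω]

/-- A suborbit of size one contradicts primitivity in rank three. -/
theorem subdegree_ne_one (hprim : IsPreprimitive G Ω) {m : ℕ} (hm : Fintype.card Ω = 2 * m)
    (hm2 : 2 ≤ m) (a : Ω) (hrank : Nat.card (orbitRel.Quotient (stabilizer G a) Ω) = 3) {b : Ω}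
    (hb : b ≠ a) : Nat.card (orbit (stabilizer G a) b) ≠ 1 := by
  classical
  intro h1
  have hfix : stabilizer G a ≤ stabilizer G b := by
    intro g hg
    have h1' : Subsingleton (orbit (stabilizer G a) b) := (Nat.card_eq_one_iff_unique.mp h1).1
    let g' : stabilizer G a := ⟨g, hg⟩
    let x₁ : orbit (stabilizer G a) b := ⟨g' • b, mem_orbit b g'⟩
    let x₂ : orbit (stabilizer G a) b := ⟨b, mem_orbit_self b⟩
    exact congrArg Subtype.val (h1'.elim x₁ x₂)
  have hconj : ∀ (g : G) (x : Ω), stabilizer G (g • x) = (stabilizer G x).map (MulAut.conj g).toMonoidHom :=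
    fun g x => stabilizer_smul_eq_stabilizer_map_conj g x
  have hcard : ∀ x : Ω, Nat.card (stabilizer G x) = Nat.card (stabilizer G a) := fun x => by
    obtain ⟨g, rfl⟩ := exists_smul_eq G a x
    rw [hconj, Nat.card_congr ((stabilizer G a).equivMapOfInjective (MulAut.conj g).toMonoidHom (MulAut.conj g).injective).toEquiv.symm]
  have heq : stabilizer G b = stabilizer G a :=
    (Subgroup.eq_of_le_of_card_ge hfix (hcard b).le).symm
  set B : Set Ω := {x | stabilizer G x = stabilizer G a} with hB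
  have hBlock : IsBlock G B := by
    rw [isBlock_iff_smul_eq_of_nonempty]
    rintro g ⟨-, ⟨x, hx, rfl⟩, hgx⟩
    have hga : stabilizer G (g • a) = stabilizer G a := by
      rw [← hgx]; show _ = stabilizer G (g • x)
      rw [hconj, hconj, hx]
    ext y
    constructor
    · rintro ⟨z, hz, rfl⟩
      show stabilizer G (g • z) = stabilizer G a
      rw [hconj, hz, ← hconj, hga]
    · intro hy
      refine ⟨g⁻¹ • y, ?_, smul_inv_smul g y⟩
      show stabilizer G (g⁻¹ • y) = stabilizer G a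
      rw [hconj, hy, ← hga, ← hconj, inv_smul_smul]
      exact hga.symm
  rcases IsPreprimitive.isTrivialBlock_of_isBlock hBlock with h | h
  · exact hb (h (show b ∈ B from heq) (show a ∈ B from rfl))
  · have hall : ∀ (g : stabilizer G a) (x : Ω), g • x = x := fun g x => by
      have hx : x ∈ B := h ▸ Set.mem_univ x
      have : (g : G) ∈ stabilizer G x := hx.symm ▸ g.2
      exact this
    have e : Nat.card (orbitRel.Quotient (stabilizer G a) Ω) = Nat.card Ω :=
      (Nat.card_congr (Equiv.ofBijective (Quotient.mk _) ⟨fun x y hxy => by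
        obtain ⟨g, hg⟩ := Quotient.exact hxy
        exact (hg.symm.trans (hall g y)), Quotient.mk_surjective⟩)).symm
    rw [hrank, Nat.card_eq_fintype_card, hm] at e
    omega

/-- The main computation for the smaller suborbit. -/
theorem small_suborbit (hprim : IsPreprimitive G Ω) {m : ℕ} (hm : Fintype.card Ω = 2 * m)
    (hm2 : 2 ≤ m) (a : Ω) (hrank : Nat.card (orbitRel.Quotient (stabilizer G a) Ω) = 3)
    (χ₁ χ₂ : G → ℂ) (h₁ : Cfsg.IsIrrCharacter G χ₁) (h₂ : Cfsg.IsIrrCharacter G χ₂)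
    (hπ : permChar G Ω = fun g => 1 + χ₁ g + χ₂ g) (hd₁ : χ₁ 1 = (m : ℂ) - 1) (hd₂ : χ₂ 1 = m)
    {b c : Ω} (hb : b ≠ a) (hc : c ≠ a)
    (hcov : ∀ y, y ≠ a → y ∈ orbit (stabilizer G a) b ∨ y ∈ orbit (stabilizer G a) c)
    (hbc : c ∉ orbit (stabilizer G a) b)
    (hsum : Nat.card (orbit (stabilizer G a) b) + Nat.card (orbit (stabilizer G a) c) + 1 = 2 * m)
    (hk : Nat.card (orbit (stabilizer G a) b) + 1 ≤ m) :
    ∃ j : ℕ, 0 < j ∧ m = 2 * j ^ 2 + 2 * j + 1 ∧
      Nat.card (orbit (stabilizer G a) b) = j * (2 * j + 1) := by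
  classical
  have : Nonempty Ω := ⟨a⟩
  have hk1 := subdegree_ne_one hprim hm hm2 a hrank hb
  set k := Nat.card (orbit (stabilizer G a) b) with hkdef
  set M : Matrix Ω Ω ℤ := orbMat ℤ a b G with hM
  have hMi : ∀ (g : G) x y, M (g • x) (g • y) = M x y := orbMat_inv ℤ a b
  -- rows at `a`
  have hrowb : ∀ y ∈ orbit (stabilizer G a) b, M a y = 1 := by
    rintro y ⟨⟨g, hg⟩, rfl⟩
    exact if_pos ⟨g, hg, rfl⟩
  have hrowc : ∀ y, y ∉ orbit (stabilizer G a) b → M a y = 0 := by
    intro y hy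
    refine if_neg ?_
    rintro ⟨g, hg, rfl⟩
    exact hy ⟨⟨g, hg⟩, rfl⟩
  have hinvH : ∀ (g : stabilizer G a) (z y : Ω), (∀ (u : G) x w, M (u • x) (u • w) = M x w) →
      M z y = M (g • z) (g • y) := fun g z y h => (h g z y).symm
  -- the suborbit is self-paired
  have hsymm : ∀ x y, M x y = M y x := by
    set S := Finset.univ.filter fun y => M y a = 1 with hS
    have hS01 : ∀ y, M y a = 1 ∨ M y a = 0 := fun y => by
      rw [hM]; unfold orbMat; simp only [Matrix.of_apply]; split_ifs <;> simp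
    have hScard : S.card = k := by
      have h := orbMat_col (G := G) a b a
      rw [← orbMat_map, ← hkdef] at h
      simp only [Matrix.map_apply, ← hM, eq_intCast] at h
      have h' : ∑ y, M y a = (k : ℤ) := by exact_mod_cast h
      rw [← Finset.sum_filter_add_sum_filter_not _ (fun y => M y a = 1)] at h'
      rw [Finset.sum_congr rfl (fun y hy => (Finset.mem_filter.mp hy).2),
        Finset.sum_eq_zero (fun y hy => (hS01 y).resolve_left (Finset.mem_filter.mp hy).2)] at h'
      simp only [Finset.sum_const, nsmul_eq_mul, mul_one, add_zero] at h'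
      exact_mod_cast h'
    have hSinv : ∀ (g : stabilizer G a) y, y ∈ S → g • y ∈ S := by
      intro g y hy
      rw [hS, Finset.mem_filter] at hy ⊢
      refine ⟨Finset.mem_univ _, ?_⟩
      have h := hMi g y a
      rw [show (g : G) • a = a from g.2] at h
      exact h.trans hy.2
    have hSsub : ∀ y ∈ S, y ≠ a := by
      rintro y hy rfl
      rw [hS, Finset.mem_filter, hM, orbMat_diag ℤ hb] at hy
      exact zero_ne_one hy.2
    have hkey : ∀ y ∈ S, y ∈ orbit (stabilizer G a) b := by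
      intro y hy
      refine (hcov y (hSsub y hy)).resolve_right fun hyc => ?_
      have hsub : orbit (stabilizer G a) c ⊆ ↑S := by
        rw [← orbit_eq_iff.mpr hyc]
        rintro _ ⟨g, rfl⟩
        exact hSinv g y hy
      have := Set.ncard_le_ncard hsub
      rw [Set.ncard_coe_finset, hScard, ← Nat.card_coe_set_eq] at this
      omega
    have hSeq : ↑S = orbit (stabilizer G a) b :=
      Set.eq_of_subset_of_ncard_le hkey (by rw [Set.ncard_coe_finset, hScard, ← Nat.card_coe_set_eq])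
    have hrow : ∀ y, M y a = M a y := fun y => by
      by_cases hy : y ∈ orbit (stabilizer G a) b
      · rw [hrowb y hy]
        exact (Finset.mem_filter.mp (hSeq.ge hy : y ∈ S)).2
      · rw [hrowc y hy]
        exact (hS01 y).resolve_left fun h => hy (hSeq.le (Finset.mem_filter.mpr ⟨Finset.mem_univ _, h⟩))
    intro x y
    obtain ⟨g, rfl⟩ := exists_smul_eq G a x
    rw [← smul_inv_smul g y, hMi, hMi, hrow]
  -- the square
  set P : Matrix Ω Ω ℤ := M * M with hP
  have hPi : ∀ (g : G) x y, P (g • x) (g • y) = P x y := by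
    intro g x y
    simp only [hP, Matrix.mul_apply]
    exact (Fintype.sum_equiv (MulAction.toPerm g) _ _ fun z => by
      rw [MulAction.toPerm_apply, hMi, hMi]).symm
  have hdiag : ∀ x, P x x = (k : ℤ) := by
    intro x
    have hr : ∑ y, M x y = (k : ℤ) := orbMat_row ℤ a b x
    rw [← hr, hP, Matrix.mul_apply]
    refine Finset.sum_congr rfl fun z _ => ?_
    rw [hsymm z x, hM]
    unfold orbMat
    simp only [Matrix.of_apply]
    split_ifs <;> simp
  set l1 := P a b with hl1
  set l2 := P a c with hl2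
  have hsq : ∀ x y, P x y = ((k : ℤ) - l2) * (if x = y then 1 else 0) + (l1 - l2) * M x y + l2 := by
    intro x y
    obtain ⟨g, rfl⟩ := exists_smul_eq G a x
    rw [← smul_inv_smul g y, hPi, hMi]
    simp only [smul_left_cancel_iff]
    generalize g⁻¹ • y = z
    rcases eq_or_ne a z with rfl | hz
    · rw [hdiag, hM, orbMat_diag ℤ hb]; simp
    rw [if_neg hz]
    rcases hcov z hz.symm with h | h
    · rw [hrowb z h]
      obtain ⟨h', rfl⟩ := h
      have h2 := hPi h' a b
      rw [show (h' : G) • a = a from h'.2] at h2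
      rw [show P a (h' • b) = l1 from h2]
      ring
    · rw [hrowc z (fun hz' => hbc (orbit_eq_iff.mp ((orbit_eq_iff.mpr h).symm.trans (orbit_eq_iff.mpr hz'))))]
      obtain ⟨h', rfl⟩ := h
      have h2 := hPi h' a c
      rw [show (h' : G) • a = a from h'.2] at h2
      rw [show P a (h' • c) = l2 from h2]
      ring
  -- pass to the permutation module
  set ρ := Cfsg.permRep ℂ G Ω with hρ
  set MC : Matrix Ω Ω ℂ := orbMat ℂ a b G with hMC
  set T : (Ω → ℂ) →ₗ[ℂ] (Ω → ℂ) := Matrix.toLin' MC with hT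
  have hTe : Eqv ρ ρ T := eqv_toLin' _ (orbMat_inv ℂ a b)
  let S : (Ω → ℂ) →ₗ[ℂ] ℂ := ∑ x, LinearMap.proj x
  have hS : ∀ v, S v = ∑ x, v x := fun v => by simp [S]
  have hTT : ∀ v, T (T v) = ((k : ℂ) - (l2 : ℂ)) • v + ((l1 : ℂ) - (l2 : ℂ)) • T v
      + (l2 : ℂ) • (fun _ => S v) := by
    intro v
    funext x
    rw [hT, ← LinearMap.comp_apply, ← Matrix.toLin'_mul]
    simp only [Pi.add_apply, Pi.smul_apply, smul_eq_mul, Matrix.toLin'_apply, Matrix.mulVec,
      dotProduct, hS]
    have e : ∀ z, (MC * MC) x z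
        = ((k : ℂ) - l2) * (if x = z then 1 else 0) + ((l1 : ℂ) - l2) * MC x z + l2 := by
      intro z
      have := congrArg (Int.cast (R := ℂ)) (hsq x z)
      push_cast at this
      rw [hMC, ← orbMat_map, ← Matrix.map_mul, Matrix.map_apply, eq_intCast, ← hM, ← hP]
      rw [this, Matrix.map_apply, eq_intCast]
    simp only [e, add_mul, Finset.sum_add_distrib, mul_assoc, ← Finset.mul_sum, ite_mul, one_mul,
      zero_mul, Finset.sum_ite_eq, Finset.mem_univ, if_true]
  have hchar : ρ.character = permChar G Ω := permRep_character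
  have hone := CharBasic.isIrrCharacter_one (G := G)
  have hinner : ∀ χ : G → ℂ, Cfsg.classInner (permChar G Ω) χ
      = Cfsg.classInner (fun _ => 1) χ + Cfsg.classInner χ₁ χ + Cfsg.classInner χ₂ χ := by
    intro χ
    rw [← CharBasic.classInner_add_left, ← CharBasic.classInner_add_left, hπ]
    rfl
  have h12 : χ₁ ≠ χ₂ := fun h => by
    rw [h, hd₂] at hd₁
    exact one_ne_zero (α := ℂ) (by linear_combination hd₁)
  have hne1 : χ₁ ≠ (fun _ => 1) ∧ χ₂ ≠ (fun _ => 1) := by
    have h := hinner (fun _ => 1)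
    rw [classInner_permChar_one, CharBasic.classInner_irr hone hone, if_pos rfl,
      CharBasic.classInner_irr h₁ hone, CharBasic.classInner_irr h₂ hone] at h
    constructor <;> intro e <;> simp only [e, if_true] at h <;> split_ifs at h <;> norm_num at h
  obtain ⟨n₁, σ₁, hσ₁, rfl⟩ := h₁
  obtain ⟨n₂, σ₂, hσ₂, rfl⟩ := h₂
  have hI₁ : Cfsg.IsIrrCharacter G σ₁.character := ⟨n₁, σ₁, hσ₁, rfl⟩
  have hI₂ : Cfsg.IsIrrCharacter G σ₂.character := ⟨n₂, σ₂, hσ₂, rfl⟩
  have hv₁ : Cfsg.classInner ρ.character σ₁.character = 1 := by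
    rw [hchar, hinner, CharBasic.classInner_irr_of_ne hone hI₁ hne1.1.symm,
      CharBasic.classInner_irr_self hI₁, CharBasic.classInner_irr_of_ne hI₂ hI₁ h12.symm]
    ring
  have hv₂ : Cfsg.classInner ρ.character σ₂.character = 1 := by
    rw [hchar, hinner, CharBasic.classInner_irr_of_ne hone hI₂ hne1.2.symm,
      CharBasic.classInner_irr_self hI₂, CharBasic.classInner_irr_of_ne hI₁ hI₂ h12]
    ring
  obtain ⟨u₁, hu₁, hu₁0⟩ := exists_eqv_ne_zero (σ := σ₁) (ρ := ρ) (by rw [hv₁]; exact one_ne_zero)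
  obtain ⟨u₂, hu₂, hu₂0⟩ := exists_eqv_ne_zero (σ := σ₂) (ρ := ρ) (by rw [hv₂]; exact one_ne_zero)
  have hSρ : Eqv ρ (Representation.trivial ℂ G ℂ) S := by
    intro g v
    show S (ρ g v) = S v
    rw [hS, hS]
    exact Fintype.sum_equiv (MulAction.toPerm g⁻¹) _ _ fun x => rfl
  have htriv : (Representation.trivial ℂ G ℂ).character = fun _ => 1 := by
    funext g
    simp [Representation.character, Representation.trivial]
  have hSu₁ : S ∘ₗ u₁ = 0 := eqv_eq_zero (by
    rw [htriv, CharBasic.classInner_irr_of_ne hone hI₁ hne1.1.symm]) (hSρ.comp hu₁)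
  have hSu₂ : S ∘ₗ u₂ = 0 := eqv_eq_zero (by
    rw [htriv, CharBasic.classInner_irr_of_ne hone hI₂ hne1.2.symm]) (hSρ.comp hu₂)
  obtain ⟨s, hs⟩ := eqv_unique (Or.inr hv₁) hu₁ hu₁0 (hTe.comp hu₁)
  obtain ⟨t, ht⟩ := eqv_unique (Or.inr hv₂) hu₂ hu₂0 (hTe.comp hu₂)
  obtain ⟨p₁, hp₁, hp₁u⟩ := eqv_leftInverse hu₁ (eqv_injective hu₁ hu₁0)
  have hp₁u₂ : p₁ ∘ₗ u₂ = 0 :=
    eqv_eq_zero (CharBasic.classInner_irr_of_ne hI₁ hI₂ h12) (hp₁.comp hu₂)
  let cst : ℂ →ₗ[ℂ] (Ω → ℂ) := LinearMap.pi fun _ => LinearMap.id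
  let L : ℂ × (Fin n₁ → ℂ) × (Fin n₂ → ℂ) →ₗ[ℂ] (Ω → ℂ) := cst.coprod (u₁.coprod u₂)
  have hL : Function.Injective L := by
    rw [← LinearMap.ker_eq_bot, LinearMap.ker_eq_bot']
    rintro ⟨x, y, z⟩ h
    simp only [L, LinearMap.coprod_apply] at h
    have hx : x = 0 := by
      have := congrArg S h
      rw [map_add, map_add, ← LinearMap.comp_apply S u₁, hSu₁, ← LinearMap.comp_apply S u₂, hSu₂,
        map_zero, hS] at this
      simpa [cst, hm, show m ≠ 0 by omega] using this
    subst hx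
    rw [map_zero, zero_add] at h
    have hy : y = 0 := by
      have := congrArg p₁ h
      rw [map_add, ← LinearMap.comp_apply p₁ u₁, hp₁u, ← LinearMap.comp_apply p₁ u₂, hp₁u₂] at this
      simpa using this
    subst hy
    rw [map_zero, zero_add] at h
    rw [eqv_injective hu₂ hu₂0 (h.trans (map_zero u₂).symm)]
    rfl
  have hn₁ : (n₁ : ℂ) = (m : ℂ) - 1 := by
    rw [← hd₁, Representation.char_one, finrank_fin_fun]
  have hn₂ : (n₂ : ℂ) = m := by rw [← hd₂, Representation.char_one, finrank_fin_fun]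
  have hn₂' : n₂ = m := by exact_mod_cast hn₂
  have hn₁' : n₁ + 1 = m := by
    have : ((n₁ + 1 : ℕ) : ℂ) = m := by push_cast; rw [hn₁]; ring
    exact_mod_cast this
  let e := LinearMap.linearEquivOfInjective L hL (by
    simp [Module.finrank_prod, finrank_fin_fun, hm]; omega)
  let D : Module.End ℂ (ℂ × (Fin n₁ → ℂ) × (Fin n₂ → ℂ)) :=
    ((k : ℂ) • LinearMap.id).prodMap ((s • LinearMap.id).prodMap (t • LinearMap.id))
  have hTL : ∀ w, T (L w) = L (D w) := by
    rintro ⟨x, y, z⟩
    simp only [L, D, LinearMap.coprod_apply, LinearMap.prodMap_apply, LinearMap.smul_apply,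
      LinearMap.id_apply, map_add, map_smul]
    rw [← LinearMap.comp_apply T u₁, hs, ← LinearMap.comp_apply T u₂, ht]
    congr 1
    funext w
    simp only [cst, LinearMap.pi_apply, LinearMap.id_apply, hT, Matrix.toLin'_apply, Matrix.mulVec,
      dotProduct, Pi.smul_apply, smul_eq_mul, ← Finset.sum_mul]
    rw [hMC, orbMat_row, ← hkdef]
  have hTconj : T = e.conj D := by
    refine LinearMap.ext fun v => ?_
    obtain ⟨w, rfl⟩ := e.surjective v
    rw [LinearEquiv.conj_apply_apply, LinearEquiv.symm_apply_apply]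
    exact hTL w
  have htr1 : (0 : ℂ) = k + s * n₁ + t * n₂ := by
    have h := congrArg (LinearMap.trace ℂ (Ω → ℂ)) hTconj
    rw [LinearMap.trace_conj', LinearMap.trace_prodMap', LinearMap.trace_prodMap', map_smul,
      map_smul, map_smul, LinearMap.trace_id, LinearMap.trace_id, LinearMap.trace_id,
      Module.finrank_self, finrank_fin_fun, finrank_fin_fun, hT, Matrix.trace_toLin'_eq] at h
    simp only [Matrix.trace, Matrix.diag, hMC, orbMat_diag ℂ hb, Finset.sum_const_zero, smul_eq_mul] at h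
    rw [h]; push_cast; ring
  have htr2 : (2 * m * k : ℂ) = k * k + s * s * n₁ + t * t * n₂ := by
    have h : T ∘ₗ T = e.conj (D ∘ₗ D) := by rw [LinearEquiv.conj_comp, ← hTconj]
    have h' := congrArg (LinearMap.trace ℂ (Ω → ℂ)) h
    rw [LinearMap.trace_conj', hT, ← Matrix.toLin'_mul, Matrix.trace_toLin'_eq] at h'
    simp only [D, LinearMap.prodMap_comp, LinearMap.smul_comp, LinearMap.comp_smul,
      LinearMap.id_comp, smul_smul] at h'
    rw [LinearMap.trace_prodMap', LinearMap.trace_prodMap', map_smul, map_smul, map_smul,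
      LinearMap.trace_id, LinearMap.trace_id, LinearMap.trace_id, Module.finrank_self,
      finrank_fin_fun, finrank_fin_fun] at h'
    have hd : (MC * MC).trace = (2 * m * k : ℂ) := by
      simp only [Matrix.trace, Matrix.diag, hMC, ← orbMat_map, ← Matrix.map_mul, Matrix.map_apply,
        eq_intCast, ← hM, ← hP, hdiag, Int.cast_natCast, Finset.sum_const, Finset.card_univ, hm,
        nsmul_eq_mul]
      push_cast
      ring
    rw [hd] at h'
    rw [h']; simp only [smul_eq_mul]; push_cast; ring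
  have hquad : ∀ {n : ℕ} (u : (Fin n → ℂ) →ₗ[ℂ] (Ω → ℂ)) (r : ℂ), u ≠ 0 → S ∘ₗ u = 0 →
      T ∘ₗ u = r • u → r * r = ((k : ℂ) - l2) + ((l1 : ℂ) - l2) * r := by
    intro n u r hu0 hSu hr
    obtain ⟨y, hy⟩ : ∃ y, u y ≠ 0 := by
      by_contra h
      push Not at h
      exact hu0 (LinearMap.ext h)
    have h := hTT (u y)
    rw [← LinearMap.comp_apply T u, hr, LinearMap.smul_apply, map_smul, ← LinearMap.comp_apply T u,
      hr, ← LinearMap.comp_apply S u, hSu, LinearMap.zero_apply, LinearMap.smul_apply, smul_smul,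
      smul_smul, show (fun _ : Ω => (0 : ℂ)) = 0 from rfl, smul_zero, add_zero, ← add_smul] at h
    exact smul_left_injective ℂ hy h
  have hqs := hquad u₁ s hu₁0 hSu₁ hs
  have hqt := hquad u₂ t hu₂0 hSu₂ ht
  have hst : s ≠ t := by
    rintro rfl
    rw [hn₁, hn₂] at htr1 htr2
    have hcontra : (2 * m * k : ℂ) * k = (2 * m * k : ℂ) * (2 * m - 1) := by
      linear_combination (-(2 * (m : ℂ) - 1)) * htr2
        + (s * (2 * (m : ℂ) - 1) - (k : ℂ)) * htr1
    have hne : (2 * m * k : ℂ) ≠ 0 := by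
      have : 2 * m * k ≠ 0 := by
        have : 0 < k := by
          haveI : Nonempty (orbit (stabilizer G a) b) := ⟨⟨b, mem_orbit_self b⟩⟩
          exact Nat.card_pos
        positivity
      exact_mod_cast this
    have hk' := mul_left_cancel₀ hne hcontra
    have : ((k + 1 : ℕ) : ℂ) = ((2 * m : ℕ) : ℂ) := by push_cast; rw [hk']; ring
    have : k + 1 = 2 * m := by exact_mod_cast this
    omega
  set σ : ℤ := l1 - l2 with hσ
  have hsum' : s + t = (σ : ℂ) := by
    have : (s - t) * (s + t - (σ : ℂ)) = 0 := by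
      rw [hσ]; push_cast; linear_combination hqs - hqt
    exact sub_eq_zero.mp ((mul_eq_zero.mp this).resolve_left (sub_ne_zero.mpr hst))
  set ti : ℤ := -(k : ℤ) - ((m : ℤ) - 1) * σ with hti
  set si : ℤ := σ - ti with hsi
  have htv : t = (ti : ℂ) := by
    rw [hn₁, hn₂] at htr1
    rw [hti]; push_cast
    linear_combination -htr1 + ((m : ℂ) - 1) * (-hsum') + 0 * htr1
  have hsv : s = (si : ℂ) := by rw [hsi]; push_cast; rw [← htv]; linear_combination hsum'
  have hI2 : (2 * m * k : ℤ) = k * k + si * si * ((m : ℤ) - 1) + ti * ti * m := by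
    have h : ((2 * m * k : ℤ) : ℂ) = ((k * k + si * si * ((m : ℤ) - 1) + ti * ti * m : ℤ) : ℂ) := by
      rw [hn₁, hn₂, hsv, htv] at htr2
      push_cast
      exact htr2
    exact_mod_cast h
  have hks : (k : ℤ) - si = -(m : ℤ) * σ := by rw [hsi, hti]; ring
  have hkpos : 2 ≤ k := by
    haveI : Nonempty (orbit (stabilizer G a) b) := ⟨⟨b, mem_orbit_self b⟩⟩
    have : 0 < k := Nat.card_pos
    omega
  have hm' : (2 : ℤ) ≤ m := by exact_mod_cast hm2
  have hk' : (k : ℤ) + 1 ≤ m := by exact_mod_cast hk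
  have hk'' : (2 : ℤ) ≤ k := by exact_mod_cast hkpos
  rcases lt_trichotomy σ 0 with hneg | hz | hpos
  · rcases lt_or_eq_of_le (show σ ≤ -1 by omega) with h | h
    · exfalso
      have h2 : si ≤ (k : ℤ) - 2 * m := by nlinarith
      have h3 : (2 * (m : ℤ) - k) * (2 * m - k) ≤ si * si := by nlinarith
      nlinarith [mul_self_nonneg ti, mul_le_mul_of_nonneg_right h3 (by omega : (0 : ℤ) ≤ m - 1)]
    · have e1 : si = (k : ℤ) - m := by rw [h] at hks; linarith
      have e2 : ti = (m : ℤ) - k - 1 := by rw [hti, h]; ring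
      rw [e1, e2] at hI2
      obtain ⟨j, hj⟩ : ∃ j : ℕ, m = k + 1 + j := ⟨m - (k + 1), by omega⟩
      have hj' : (m : ℤ) = k + 1 + j := by exact_mod_cast hj
      have hmj : (m : ℤ) = 2 * j ^ 2 + 2 * j + 1 := by
        have : (m : ℤ) * (2 * j ^ 2 + 2 * j + 1 - m) = 0 := by
          rw [hj'] at hI2 ⊢; linear_combination -hI2
        rcases mul_eq_zero.mp this with h0 | h0
        · omega
        · linarith
      refine ⟨j, ?_, ?_, ?_⟩
      · rcases Nat.eq_zero_or_pos j with h0 | h0
        · subst h0; push_cast at hmj; omega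
        · exact h0
      · exact_mod_cast hmj
      · have : (k : ℤ) = j * (2 * j + 1) := by linear_combination hmj - hj'
        exact_mod_cast this
  · exfalso
    have e1 : si = k := by rw [hz] at hks; linarith
    have e2 : ti = -(k : ℤ) := by rw [hti, hz]; ring
    rw [e1, e2] at hI2
    have : (2 * m * k : ℤ) * ((k : ℤ) - 1) = 0 := by linear_combination -hI2
    rcases mul_eq_zero.mp this with h0 | h0
    · nlinarith
    · omega
  · exfalso
    have h2 : (k : ℤ) + m ≤ si := by nlinarith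
    have h3 : ((k : ℤ) + m) * (k + m) ≤ si * si := by nlinarith
    nlinarith [mul_self_nonneg ti, mul_le_mul_of_nonneg_right h3 (by omega : (0 : ℤ) ≤ m - 1)]

/-- Groups of Wielandt type: if a primitive group of degree `2m` has rank 3 and permutation character `1 + χ₁ + χ₂` with irreducible `χ₁, χ₂` of degrees `m - 1` and `m`, then `m = 2a² + 2a + 1` for some positive integer `a` and the two non-trivial subdegrees are `a(2a+1)` and `(a+1)(2a+1)`. -/
theorem result {G : Type*} [Group G] [Fintype G] {Ω : Type*} [Fintype Ω] [MulAction G Ω] (hprim : MulAction.IsPreprimitive G Ω) {m : ℕ} (hm : Fintype.card Ω = 2 * m) (a₀ : Ω) (hrank : Nat.card (MulAction.orbitRel.Quotient (MulAction.stabilizer G a₀) Ω) = 3) (χ₁ χ₂ : G → ℂ) (h₁ : Cfsg.IsIrrCharacter G χ₁) (h₂ : Cfsg.IsIrrCharacter G χ₂) (hπ : (fun g : G => (Nat.card (MulAction.fixedBy Ω g) : ℂ)) = fun g => 1 + χ₁ g + χ₂ g) (hd₁ : χ₁ 1 = (m : ℂ) - 1) (hd₂ : χ₂ 1 = m) : ∃ a : ℕ, 0 < a ∧ m = 2 * a ^ 2 + 2 * a + 1 ∧ ∀ b : Ω, b ≠ a₀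 → Nat.card (MulAction.orbit (MulAction.stabilizer G a₀) b) = a * (2 * a + 1) ∨ Nat.card (MulAction.orbit (MulAction.stabilizer G a₀) b) = (a + 1) * (2 * a + 1) := by
  classical
  have h0 : m ≠ 0 := fun h => by
    have : 0 < Fintype.card Ω := Fintype.card_pos_iff.mpr ⟨a₀⟩
    omega
  have hm2 : 2 ≤ m := by
    by_contra h
    have hm1 : m = 1 := by omega
    exact Cfsg.Agent.CharBasic.IsIrr.one_ne_zero h₁ (by rw [hd₁, hm1]; simp)
  let Q := MulAction.orbitRel.Quotient (MulAction.stabilizer G a₀) Ω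
  have : Fintype Q := Fintype.ofFinite Q
  let qa : Q := Quotient.mk _ a₀
  have hcard2 : (Finset.univ.erase qa).card = 2 := by
    rw [Finset.card_erase_of_mem (Finset.mem_univ _), Finset.card_univ,
      ← Nat.card_eq_fintype_card, hrank]
  obtain ⟨q₁, q₂, hq, hQ⟩ := Finset.card_eq_two.mp hcard2
  induction q₁ using Quotient.inductionOn with | _ b => ?_
  induction q₂ using Quotient.inductionOn with | _ c => ?_
  have hmem : ∀ q : Q, q ≠ qa → q = Quotient.mk _ b ∨ q = Quotient.mk _ c := by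
    intro q hq'
    have : q ∈ Finset.univ.erase qa := Finset.mem_erase.mpr ⟨hq', Finset.mem_univ _⟩
    rw [hQ] at this
    simpa using this
  have hb : b ≠ a₀ := fun e => by
    have : (Quotient.mk _ b : Q) ∈ Finset.univ.erase qa := hQ ▸ Finset.mem_insert_self _ _
    exact (Finset.ne_of_mem_erase this) (by rw [e])
  have hc : c ≠ a₀ := fun e => by
    have : (Quotient.mk _ c : Q) ∈ Finset.univ.erase qa :=
      hQ ▸ Finset.mem_insert_of_mem (Finset.mem_singleton_self _)
    exact (Finset.ne_of_mem_erase this) (by rw [e])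
  have hcov : ∀ y, y ≠ a₀ → y ∈ MulAction.orbit (MulAction.stabilizer G a₀) b ∨
      y ∈ MulAction.orbit (MulAction.stabilizer G a₀) c := by
    intro y hy
    refine (hmem (Quotient.mk _ y) fun e => hy ?_).imp Quotient.exact Quotient.exact
    obtain ⟨g, rfl⟩ := (Quotient.exact e : y ∈ MulAction.orbit (MulAction.stabilizer G a₀) a₀)
    exact g.2
  have hbc : c ∉ MulAction.orbit (MulAction.stabilizer G a₀) b := fun h =>
    hq (Quotient.sound h : (Quotient.mk _ c : Q) = Quotient.mk _ b).symm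
  have hsum : Nat.card (MulAction.orbit (MulAction.stabilizer G a₀) b)
      + Nat.card (MulAction.orbit (MulAction.stabilizer G a₀) c) + 1 = 2 * m := by
    have e : MulAction.orbit (MulAction.stabilizer G a₀) b ∪ MulAction.orbit (MulAction.stabilizer G a₀) c
        = {a₀}ᶜ := by
      ext y
      refine ⟨?_, hcov y⟩
      rintro (⟨g, rfl⟩ | ⟨g, rfl⟩) he
      · exact hb (MulAction.injective (g : G) ((he : (g : G) • b = a₀).trans g.2.symm))
      · exact hc (MulAction.injective (g : G) ((he : (g : G) • c = a₀).trans g.2.symm))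
    have hdisj : Disjoint (MulAction.orbit (MulAction.stabilizer G a₀) b)
        (MulAction.orbit (MulAction.stabilizer G a₀) c) := by
      rw [Set.disjoint_left]
      intro y h1 h2
      exact hbc (MulAction.orbit_eq_iff.mp
        ((MulAction.orbit_eq_iff.mpr h2).symm.trans (MulAction.orbit_eq_iff.mpr h1)))
    rw [Nat.card_coe_set_eq, Nat.card_coe_set_eq, ← Set.ncard_union_eq hdisj, e,
      Set.ncard_compl, Set.ncard_singleton, Nat.card_eq_fintype_card, hm]
    omega
  have hall : ∀ d, d ≠ a₀ → Nat.card (MulAction.orbit (MulAction.stabilizer G a₀) d)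
      = Nat.card (MulAction.orbit (MulAction.stabilizer G a₀) b) ∨
      Nat.card (MulAction.orbit (MulAction.stabilizer G a₀) d)
      = Nat.card (MulAction.orbit (MulAction.stabilizer G a₀) c) := fun d hd =>
    (hcov d hd).imp (fun h => by rw [MulAction.orbit_eq_iff.mpr h])
      (fun h => by rw [MulAction.orbit_eq_iff.mpr h])
  rcases Nat.lt_or_ge (Nat.card (MulAction.orbit (MulAction.stabilizer G a₀) b)) m with hk | hk
  · obtain ⟨j, hj, hmj, hkj⟩ := small_suborbit hprim hm hm2 a₀ hrank χ₁ χ₂ h₁ h₂ hπ hd₁ hd₂ hb hc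
      hcov hbc hsum hk
    refine ⟨j, hj, hmj, fun d hd => (hall d hd).imp (fun h => h.trans hkj) fun h => ?_⟩
    rw [h]; rw [hkj] at hsum; nlinarith
  · obtain ⟨j, hj, hmj, hkj⟩ := small_suborbit hprim hm hm2 a₀ hrank χ₁ χ₂ h₁ h₂ hπ hd₁ hd₂ hc hb
      (fun y hy => (hcov y hy).symm)
      (fun h => hbc (MulAction.mem_orbit_symm.mp h)) (by omega) (by omega)
    refine ⟨j, hj, hmj, fun d hd => (hall d hd).symm.imp (fun h => h.trans hkj) fun h => ?_⟩
    rw [h]; rw [hkj] at hsum; nlinarith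

end Cfsg.Agent.S0719
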