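import Cfsg.Statements.S0720
import Cfsg.Statements.S0720
import Mathlib
import Cfsg.Agent.H33.WielandtTwiceP

set_option autoImplicit false
open Cfsg

namespace Cfsg.Agent.S0720

open MulAction in
/-- Two-transitivity from transitivity of the point stabiliser. -/
theorem two_transitive {G α : Type*} [Group G] [MulAction G α] [IsPretransitive G α] (a : α)
    (h : ∀ y z : α, y ≠ a → z ≠ a → ∃ g : G, g • a = a ∧ g • y = z) :
    IsMultiplyPretransitive G α 2 := by
  rw [is_two_pretransitive_iff]
  intro x y z w hxy hzw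
  obtain ⟨s, hs⟩ := exists_smul_eq G x a
  obtain ⟨t, ht⟩ := exists_smul_eq G z a
  obtain ⟨g, hga, hgy⟩ := h (s • y) (t • w) (fun e => hxy (smul_left_cancel s (hs.trans e.symm)))
    (fun e => hzw (smul_left_cancel t (ht.trans e.symm)))
  refine ⟨t⁻¹ * g * s, ?_, ?_⟩
  · rw [mul_smul, mul_smul, hs, hga, ← ht, inv_smul_smul]
  · rw [mul_smul, mul_smul, hgy, inv_smul_smul]

open MulAction Equiv.Perm in
/-- Either a Jordan situation, or coordinates. -/
theorem coord_or_two {α : Type*} [Fintype α] [DecidableEq α] {p : ℕ} [NeZero p] (hp : p.Prime)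
    (hα : Fintype.card α = 2 * p) (G : Subgroup (Equiv.Perm α)) (hG : IsPreprimitive G α) :
    IsMultiplyPretransitive G α 2 ∨ Nonempty (Cfsg.Agent.H33.TwiceP.Coord G α p) := by
  classical
  have := Fact.mk hp
  obtain ⟨a⟩ : Nonempty α := Fintype.card_pos_iff.1 (by rw [hα]; have := hp.pos; omega)
  have htr : IsPretransitive G α := inferInstance
  have hdvd : p ∣ Nat.card G := by
    refine Dvd.dvd.trans ?_ (Subgroup.index_dvd_card (stabilizer G a))
    rw [index_stabilizer_of_transitive, Nat.card_eq_fintype_card, hα]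
    exact dvd_mul_left p 2
  obtain ⟨g, hg⟩ := exists_prime_orderOf_dvd_card' p hdvd
  have hord : orderOf (g : Equiv.Perm α) = p := by rw [Subgroup.orderOf_coe, hg]
  by_cases hfix : ∃ x : α, g • x = x
  · left
    obtain ⟨x, hx⟩ := hfix
    have hcong := card_compl_support_modEq (p := p) (n := 1) (σ := (g : Equiv.Perm α))
      (by rw [pow_one, ← hord]; exact pow_orderOf_eq_one _)
    have hsupp_pos : 0 < (g : Equiv.Perm α).support.card := by
      rw [Finset.card_pos, Finset.nonempty_iff_ne_empty, Ne, support_eq_empty_iff]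
      intro e
      rw [e, orderOf_one] at hord
      exact hp.ne_one hord.symm
    have hxc : x ∈ (g : Equiv.Perm α).supportᶜ := by
      rw [Finset.mem_compl, notMem_support]; exact hx
    have hcpos : 0 < (g : Equiv.Perm α).supportᶜ.card := Finset.card_pos.2 ⟨x, hxc⟩
    have hcs : (g : Equiv.Perm α).supportᶜ.card = 2 * p - (g : Equiv.Perm α).support.card := by
      rw [Finset.card_compl, hα]
    have hcp : (g : Equiv.Perm α).supportᶜ.card = p := by
      rw [hα] at hcong
      obtain ⟨m, hm⟩ : p ∣ (g : Equiv.Perm α).supportᶜ.card :=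
        Nat.modEq_zero_iff_dvd.1 (hcong.trans (Nat.modEq_zero_iff_dvd.2 (dvd_mul_left p 2)))
      have : m < 2 := by
        by_contra hh
        have : p * 2 ≤ p * m := Nat.mul_le_mul_left p (by omega)
        omega
      have : m ≠ 0 := by rintro rfl; omega
      obtain rfl : m = 1 := by omega
      omega
    have hc : (g : Equiv.Perm α).IsCycle := by
      refine isCycle_of_prime_order (by rw [hord]; exact hp) ?_
      rw [hord]; omega
    have := isPretransitive_of_isCycle_mem hc g.2
    refine hG.is_two_pretransitive (s := ((g : Equiv.Perm α).support : Set α)ᶜ) (n := p - 1) ?_ ?_ this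
    · rw [← Finset.coe_compl, Set.ncard_coe_finset, hcp]; have := hp.pos; omega
    · rw [Nat.card_eq_fintype_card, hα]; have := hp.two_le; omega
  · right
    push Not at hfix
    have hfree : ∀ (n : ℕ) (x : α), g ^ n • x = x → (n : ZMod p) = 0 := by
      intro n x hn
      rw [ZMod.natCast_eq_zero_iff]
      by_contra hnd
      have hco : Nat.Coprime n (orderOf g) := by rw [hg]; exact ((hp.coprime_iff_not_dvd).2 hnd).symm
      obtain ⟨m, hm⟩ := exists_pow_eq_self_of_coprime hco
      refine hfix x ?_
      have : g ^ n ∈ stabilizer G x := hn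
      have h2 := pow_mem this m
      rwa [hm] at h2
    obtain ⟨x1, hx1⟩ : ∃ x1, ∀ y : ZMod p, g ^ y.val • a ≠ x1 := by
      by_contra hall
      push Not at hall
      have := Fintype.card_le_of_surjective _ (fun x => hall x : Function.Surjective fun y : ZMod p => g ^ y.val • a)
      rw [hα, ZMod.card] at this
      have := hp.pos
      omega
    let f : Fin 2 × ZMod p → α := fun iy => g ^ iy.2.val • (![a, x1] iy.1)
    have hpow : ∀ (m n : ℕ), (m : ZMod p) = n → g ^ m = g ^ n := fun m n e => by
      rw [pow_eq_pow_iff_modEq, hg]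
      exact (ZMod.natCast_eq_natCast_iff _ _ _).1 e
    have hsub : ∀ (y z : ZMod p) (u v : α), g ^ y.val • u = g ^ z.val • v → g ^ (y - z).val • u = v := by
      intro y z u v e
      refine smul_left_cancel (g ^ z.val) ?_
      rw [← mul_smul, ← pow_add, hpow _ y.val (by push_cast [ZMod.natCast_zmod_val]; ring), e]
    have hinj : Function.Injective f := by
      rintro ⟨i, y⟩ ⟨k, z⟩ e
      have e' := hsub y z _ _ e
      fin_cases i <;> fin_cases k <;> simp at e'
      · have := hfree _ _ e'
        rw [ZMod.natCast_zmod_val, sub_eq_zero] at this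
        exact Prod.ext rfl this
      · exact absurd e' (hx1 _)
      · exact absurd (hsub z y _ _ e.symm) (by simpa using hx1 (z - y))
      · have := hfree _ _ e'
        rw [ZMod.natCast_zmod_val, sub_eq_zero] at this
        exact Prod.ext rfl this
    have hbij : Function.Bijective f := (Fintype.bijective_iff_injective_and_card f).2
      ⟨hinj, by rw [Fintype.card_prod, Fintype.card_fin, ZMod.card, hα]⟩
    refine ⟨⟨g, Equiv.ofBijective f hbij, fun i y => ?_⟩⟩
    show g • (g ^ y.val • (![a, x1] i)) = g ^ (y + 1).val • (![a, x1] i)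
    rw [← mul_smul, ← pow_succ', hpow (y.val + 1) (y + 1).val (by simp)]
/-- Wielandt's Theorem on primitive groups of degree `2p`: such a group is doubly transitive, or it has rank 3, `p = 2a² + 2a + 1`, and subdegrees `a(2a+1)` and `(a+1)(2a+1)`. -/
theorem result {α : Type*} [Fintype α] [DecidableEq α] {p : ℕ} (hp : p.Prime) (hα : Fintype.card α = 2 * p) (G : Subgroup (Equiv.Perm α)) (hG : MulAction.IsPreprimitive G α) (a₀ : α) : MulAction.IsMultiplyPretransitive G α 2 ∨ (Nat.card (MulAction.orbitRel.Quotient (MulAction.stabilizer G a₀) α) = 3 ∧ ∃ a : ℕ, 0 < a ∧ p = 2 * a ^ 2 + 2 * a + 1 ∧ ∀ b : α, b ≠ a₀ → Nat.card (MulAction.orbit (MulAction.stabilizer G a₀) b) = a * (2 * a + 1) ∨ Nat.card (MulAction.orbit (MulAction.stabilizer G a₀) b) = (a + 1) * (2 * a + 1)) := by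
  classical
  have := Fact.mk hp
  haveI : NeZero p := ⟨hp.ne_zero⟩
  rcases coord_or_two hp hα G hG with h | hC
  · exact Or.inl h
  let C := hC.some
  rcases C.main a₀ with h | h
  · exact Or.inl (two_transitive a₀ h)
  · exact Or.inr h

end Cfsg.Agent.S0720
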