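import Cfsg.Statements.S5913
-- import your own Cfsg.Agent.* helpers here

set_option autoImplicit false
open Cfsg

namespace Cfsg.Agent.S5913

/-- Let S be a non-abelian simple group and n a natural number. Every normal subgroup N of the direct power S^n (functions Fin n → S) is a subproduct: there is a set T of coordinates such that N consists exactly of the elements whose coordinates outside T are trivial. In particular the minimal normal subgroups of S^n are its n factors. -/
theorem result {S : Type*} [Group S] [IsSimpleGroup S] (hS : ¬ IsMulCommutative S) (n : ℕ)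
    (N : Subgroup (Fin n → S)) [N.Normal] :
    ∃ T : Finset (Fin n), ∀ x : Fin n → S, x ∈ N ↔ ∀ i, i ∉ T → x i = 1 := by
  classical
  have main : ∀ i, (∃ x ∈ N, x i ≠ 1) → ∀ s : S, Pi.mulSingle i s ∈ N := by
    rintro i ⟨x, hx, hxi⟩
    let D : Subgroup S := N.comap (MonoidHom.mulSingle (fun _ : Fin n => S) i)
    have hD : D.Normal := (inferInstance : N.Normal).comap _
    obtain ⟨s, hs⟩ : ∃ s : S, x i * s ≠ s * x i := by
      by_contra h
      push Not at h
      have hc : x i ∈ Subgroup.center S := Subgroup.mem_center_iff.2 fun g => (h g).symm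
      rcases IsSimpleGroup.eq_bot_or_eq_top_of_normal (Subgroup.center S) inferInstance with hz | hz
      · rw [hz, Subgroup.mem_bot] at hc; exact hxi hc
      · exact hS ⟨⟨fun a b => (Subgroup.mem_center_iff.1 (hz ▸ Subgroup.mem_top b : b ∈ Subgroup.center S) a)⟩⟩
    have hmem : x i * s * (x i)⁻¹ * s⁻¹ ∈ D := by
      show Pi.mulSingle i (x i * s * (x i)⁻¹ * s⁻¹) ∈ N
      have h1 : x * (Pi.mulSingle i s * x⁻¹ * (Pi.mulSingle i s)⁻¹) ∈ N :=
        N.mul_mem hx ((inferInstance : N.Normal).conj_mem _ (N.inv_mem hx) _)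
      convert h1 using 1
      funext j
      rcases eq_or_ne j i with rfl | hj
      · simp [mul_assoc]
      · simp [hj]
    have hne : D ≠ ⊥ := fun h => hs (by
      rw [h, Subgroup.mem_bot, mul_inv_eq_one, mul_inv_eq_iff_eq_mul] at hmem
      exact hmem)
    have htop := (IsSimpleGroup.eq_bot_or_eq_top_of_normal D hD).resolve_left hne
    intro t
    exact (htop ▸ Subgroup.mem_top t : t ∈ D)
  refine ⟨Finset.univ.filter fun i => ∃ x ∈ N, x i ≠ 1, fun x => ⟨fun hx i hi => ?_, fun hx => ?_⟩⟩
  · by_contra h
    exact hi (Finset.mem_filter.2 ⟨Finset.mem_univ _, x, hx, h⟩)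
  · rw [← Finset.noncommProd_mulSingle x]
    refine Subgroup.noncommProd_mem _ _ fun i _ => ?_
    by_cases h : ∃ y ∈ N, y i ≠ 1
    · exact main i h _
    · rw [hx i (by simp only [Finset.mem_filter]; exact fun hh => h hh.2), Pi.mulSingle_one]
      exact N.one_mem

end Cfsg.Agent.S5913
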