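import Cfsg.Statements.S5914
import Cfsg.Agent.S5913

set_option autoImplicit false
open Cfsg

namespace Cfsg.Agent.S5914


theorem pi_char {S : Type} [Group S] [IsSimpleGroup S] (n : ℕ) (H : Subgroup (Fin n → S))
    (hH : H.Characteristic) : H = ⊥ ∨ H = ⊤ := by
  classical
  have := hH
  have hfix : ∀ (e : (Fin n → S) ≃* (Fin n → S)) x, x ∈ H → e x ∈ H := by
    intro e x hx
    have := Subgroup.characteristic_iff_comap_eq.1 hH e
    rw [← this] at hx
    exact hx
  have hswap : ∀ i j s, Pi.mulSingle i s ∈ H → Pi.mulSingle j s ∈ H := by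
    intro i j s hs
    let e : (Fin n → S) ≃* (Fin n → S) :=
      { toFun := fun f k => f (Equiv.swap i j k)
        invFun := fun f k => f (Equiv.swap i j k)
        left_inv := fun f => funext fun k => by simp
        right_inv := fun f => funext fun k => by simp
        map_mul' := fun f g => rfl }
    have := hfix e _ hs
    convert this using 1
    funext k
    show _ = (Pi.mulSingle i s : Fin n → S) (Equiv.swap i j k)
    rcases eq_or_ne k j with rfl | h1
    · simp
    rcases eq_or_ne k i with rfl | h2
    · simp [h1, Ne.symm h1]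
    · rw [Equiv.swap_apply_of_ne_of_ne h2 h1]
      simp [h1, h2]
  by_cases hbot : H = ⊥
  · exact Or.inl hbot
  refine Or.inr ((Subgroup.eq_top_iff' H).2 fun x => ?_)
  obtain ⟨a, ha, ha1⟩ := Subgroup.ne_bot_iff_exists_ne_one.1 hbot |> fun ⟨a, ha⟩ =>
    (⟨a.1, a.2, fun h => ha (Subtype.ext h)⟩ : ∃ a, a ∈ H ∧ a ≠ 1)
  obtain ⟨i, hi⟩ : ∃ i, a i ≠ 1 := by
    by_contra h
    push Not at h
    exact ha1 (funext h)
  suffices key : ∀ s, Pi.mulSingle i s ∈ H by
    rw [← Finset.noncommProd_mulSingle x]
    exact Subgroup.noncommProd_mem _ _ fun j _ => hswap i j _ (key _)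
  intro s
  by_cases hS : IsMulCommutative S
  · letI : CommGroup S := { (inferInstance : Group S) with mul_comm := mul_comm' }
    rcases eq_or_ne n 1 with rfl | hn
    · have : IsSimpleGroup (Fin 1 → S) := by
        have e : S ≃* (Fin 1 → S) :=
          { toFun := fun s _ => s
            invFun := fun f => f 0
            left_inv := fun s => rfl
            right_inv := fun f => funext fun k => by rw [Fin.fin_one_eq_zero k]
            map_mul' := fun _ _ => rfl }
        exact IsSimpleGroup.isSimpleGroup_of_surjective e.toMonoidHom e.surjective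
      rw [(IsSimpleGroup.eq_bot_or_eq_top_of_normal H inferInstance).resolve_left hbot]
      exact Subgroup.mem_top _
    · have : Nontrivial (Fin n) := by
        rcases n with _ | _ | n
        · exact i.elim0
        · exact absurd rfl hn
        · infer_instance
      obtain ⟨j, hj⟩ := exists_ne i
      let e : (Fin n → S) ≃* (Fin n → S) :=
        { toFun := fun f => f * Pi.mulSingle j (f i)
          invFun := fun f => f * Pi.mulSingle j (f i)⁻¹
          left_inv := fun f => by simp [hj.symm, mul_assoc, ← Pi.mulSingle_mul]
          right_inv := fun f => by simp [hj.symm, mul_assoc, ← Pi.mulSingle_mul]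
          map_mul' := fun f g => by
            show f * g * Pi.mulSingle j (f i * g i) = f * Pi.mulSingle j (f i) * (g * Pi.mulSingle j (g i))
            rw [Pi.mulSingle_mul, mul_mul_mul_comm] }
      have h1 : Pi.mulSingle j (a i) ∈ H := by
        have h2 : a * Pi.mulSingle j (a i) ∈ H := hfix e a ha
        exact (H.mul_mem_cancel_left ha).1 h2
      have h2 := hswap j i _ h1
      have htop : Subgroup.zpowers (a i) = ⊤ :=
        (IsSimpleGroup.eq_bot_or_eq_top_of_normal _ inferInstance).resolve_left
          (fun h => hi (Subgroup.zpowers_eq_bot.1 h))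
      obtain ⟨k, hk⟩ := Subgroup.mem_zpowers_iff.1 (htop ▸ Subgroup.mem_top s : s ∈ Subgroup.zpowers (a i))
      rw [← hk]
      have := Subgroup.zpow_mem (H.comap (MonoidHom.mulSingle (fun _ : Fin n => S) i)) h2 k
      exact this
  · obtain ⟨T, hT⟩ := Cfsg.Agent.S5913.result hS n H
    refine (hT _).2 fun j hj => ?_
    by_cases hji : j = i
    · subst hji
      exact absurd ((hT a).1 ha j hj) hi
    · simp [hji]

/-- A non-trivial finite group G is characteristically simple (its only characteristic subgroups are 1 and G) if and only if G is isomorphic to a direct power S^n (n ≥ 1) of some simple group S (possibly cyclic of prime order). -/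
theorem result {G : Type*} [Group G] [Finite G] [Nontrivial G] :
    (∀ H : Subgroup G, H.Characteristic → H = ⊥ ∨ H = ⊤) ↔
    ∃ (S : Type) (_ : Group S) (_ : IsSimpleGroup S) (n : ℕ), 1 ≤ n ∧ Nonempty (G ≃* (Fin n → S)) := by
  classical
  constructor
  · intro hc
    obtain ⟨N, ⟨hNn, hN1⟩, hNmin⟩ : ∃ N : Subgroup G, (N.Normal ∧ N ≠ ⊥) ∧ ∀ L : Subgroup G, (L.Normal ∧ L ≠ ⊥) → L ≤ N → L = N := by
      obtain ⟨N, hN⟩ := (Set.toFinite {N : Subgroup G | N.Normal ∧ N ≠ ⊥}).exists_minimal ⟨⊤, inferInstance, top_ne_bot⟩
      exact ⟨N, hN.prop, fun L hL hle => le_antisymm hle (hN.2 hL hle)⟩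
    let im : (G ≃* G) → Subgroup G := fun e => N.map e.toMonoidHom
    have him : ∀ e, (im e).Normal := fun e => hNn.map _ e.surjective
    have himmin : ∀ (e : G ≃* G) (L : Subgroup G), L.Normal → L ≤ im e → L = ⊥ ∨ L = im e := by
      intro e L hL hle
      by_cases h0 : L.map e.symm.toMonoidHom = ⊥
      · left
        exact (Subgroup.map_eq_bot_iff_of_injective _ e.symm.injective).1 h0
      · right
        have h1 := hNmin _ ⟨hL.map _ e.symm.surjective, h0⟩ (by
          intro x hx
          obtain ⟨y, hy, rfl⟩ := hx
          obtain ⟨z, hz, rfl⟩ := hle hy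
          simpa using hz)
        refine le_antisymm hle ?_
        rintro _ ⟨z, hz, rfl⟩
        rw [← h1] at hz
        obtain ⟨y, hy, rfl⟩ := hz
        simpa using hy
    have hgen : (⨆ e, im e) = ⊤ := by
      refine (hc _ ?_).resolve_left ?_
      · rw [Subgroup.characteristic_iff_map_le]
        intro f
        rw [Subgroup.map_iSup]
        refine iSup_le fun e => ?_
        refine le_trans ?_ (le_iSup im (e.trans f))
        rintro _ ⟨y, ⟨z, hz, rfl⟩, rfl⟩
        exact ⟨z, hz, rfl⟩
      · intro h
        apply hN1
        rw [eq_bot_iff, ← h]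
        exact le_trans (show N ≤ im (MulEquiv.refl G) from fun x hx => ⟨x, hx, rfl⟩) (le_iSup im (MulEquiv.refl G))
    have hcomm : ∀ A B : Subgroup G, A.Normal → B.Normal → A ⊓ B = ⊥ → ∀ a ∈ A, ∀ b ∈ B, Commute a b :=
      fun A B hA hB hd a ha b hb =>
        Subgroup.commute_of_normal_of_disjoint A B hA hB (disjoint_iff.2 hd) a b ha hb
    have hsimple : IsSimpleGroup N := by
      have : Nontrivial N := (Subgroup.nontrivial_iff_ne_bot N).2 hN1
      refine ⟨fun L hL => ?_⟩
      have hLn : (L.map N.subtype).Normal := by
        refine Subgroup.normalizer_eq_top_iff.1 (top_le_iff.1 ?_)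
        rw [← hgen]
        refine iSup_le fun e => ?_
        rcases himmin (MulEquiv.refl G) (im e ⊓ im (MulEquiv.refl G)) (by have := him e; have := him (MulEquiv.refl G); infer_instance) inf_le_right with h | h
        · intro x hx
          rw [Subgroup.mem_normalizer_iff]
          intro y
          have hfix : ∀ z ∈ L.map N.subtype, x * z * x⁻¹ = z := by
            intro z hz
            have hzN : z ∈ im (MulEquiv.refl G) := ⟨z, Subgroup.map_subtype_le L hz, rfl⟩
            rw [(hcomm _ _ (him e) (him _) h x hx z hzN).eq, mul_inv_cancel_right]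
          constructor
          · intro hy; rw [hfix y hy]; exact hy
          · intro hy
            have h2 := hfix _ hy
            have : y = x * y * x⁻¹ := by
              have h3 := congrArg (fun w => x⁻¹ * w * x) h2
              simp [mul_assoc] at h3
              simpa [mul_assoc] using h3.symm
            rw [this]; exact hy
        · intro x hx
          have hle : im (MulEquiv.refl G) ≤ im e := h ▸ inf_le_left
          have heq : im e = N := by
            rcases himmin e _ (him (MulEquiv.refl G)) hle with h0 | h0
            · exfalso; apply hN1; simpa [im] using h0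
            · rw [← h0]; simp [im]
          rw [heq] at hx
          have hLnm := Subgroup.le_normalizer_map N.subtype (H := L)
          exact hLnm (Subgroup.mem_map_of_mem N.subtype (show (⟨x, hx⟩ : N) ∈ Subgroup.normalizer (L : Set N) by rw [Subgroup.normalizer_eq_top_iff.2 hL]; trivial))
      by_cases h0 : L.map N.subtype = ⊥
      · exact Or.inl ((Subgroup.map_eq_bot_iff_of_injective _ N.subtype_injective).1 h0)
      · right
        have h1 := hNmin _ ⟨hLn, h0⟩ (Subgroup.map_subtype_le L)
        apply Subgroup.map_injective N.subtype_injective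
        rw [h1, ← MonoidHom.range_eq_map, Subgroup.range_subtype]
    obtain ⟨M, hM⟩ := (Set.toFinite {M : Subgroup G | M.Normal ∧ ∃ k, Nonempty (M ≃* (Fin k → N))}).exists_maximal
      ⟨⊥, inferInstance, 0, ⟨MulEquiv.ofUnique⟩⟩
    obtain ⟨⟨hMn, k, ⟨eM⟩⟩, hMmax⟩ := hM
    have htop : M = ⊤ := by
      rw [eq_top_iff, ← hgen]
      refine iSup_le fun e => ?_
      have := hMn
      have := him e
      rcases himmin e (im e ⊓ M) inferInstance inf_le_left with h | h
      · refine le_trans le_sup_left (hMmax (⟨inferInstance, k + 1, ?_⟩ : (im e ⊔ M).Normal ∧ _) le_sup_right)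
        have hc' : ∀ (a : im e) (b : M), Commute ((im e).subtype a) (M.subtype b) := fun a b =>
          hcomm _ _ (him e) hMn h a a.2 b b.2
        let φ := (im e).subtype.noncommCoprod M.subtype hc'
        have hφr : φ.range = im e ⊔ M := by
          rw [MonoidHom.noncommCoprod_range, Subgroup.range_subtype, Subgroup.range_subtype]
        have hφi : Function.Injective φ := by
          rw [MonoidHom.noncommCoprod_injective]
          refine ⟨(im e).subtype_injective, M.subtype_injective, ?_⟩
          rw [Subgroup.range_subtype, Subgroup.range_subtype]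
          exact disjoint_iff.2 h
        have eN : im e ≃* N := (N.equivMapOfInjective e.toMonoidHom e.injective).symm
        refine ⟨(MulEquiv.subgroupCongr hφr.symm).trans ((MonoidHom.ofInjective hφi).symm.trans
          ((MulEquiv.prodCongr eN eM).trans ?_))⟩
        exact { Fin.consEquiv (fun _ : Fin (k + 1) => (↥N)) with
          map_mul' := fun a b => by funext i; cases i using Fin.cases <;> rfl }
      · exact h ▸ inf_le_right
    subst htop
    refine ⟨Shrink.{0} N, inferInstance, ?_, k, ?_, ⟨?_⟩⟩
    · exact IsSimpleGroup.isSimpleGroup_of_surjective (Shrink.mulEquiv.symm : N ≃* Shrink.{0} N).toMonoidHom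
        (Shrink.mulEquiv.symm : N ≃* Shrink.{0} N).surjective
    · by_contra h
      have hk : k = 0 := by omega
      subst hk
      have : Subsingleton G := (Subgroup.topEquiv.symm.trans eM).toEquiv.subsingleton
      exact not_subsingleton G this
    · exact (Subgroup.topEquiv.symm.trans eM).trans
        (MulEquiv.piCongrRight fun _ => (Shrink.mulEquiv.symm : N ≃* Shrink.{0} N))
  · rintro ⟨S, _, _, n, hn, ⟨e⟩⟩ H hH
    have hH' : (H.map e.toMonoidHom).Characteristic := by
      rw [Subgroup.characteristic_iff_map_le]
      intro f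
      rintro _ ⟨y, ⟨z, hz, rfl⟩, rfl⟩
      refine ⟨(e.trans f).trans e.symm z, ?_, by simp⟩
      exact Subgroup.characteristic_iff_map_le.1 hH _ ⟨z, hz, rfl⟩
    rcases pi_char n _ hH' with h | h
    · exact Or.inl ((Subgroup.map_eq_bot_iff_of_injective _ e.injective).1 h)
    · right
      apply Subgroup.map_injective (f := e.toMonoidHom) e.injective
      rw [h, Subgroup.map_top_of_surjective _ e.surjective]

end Cfsg.Agent.S5914
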