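import Cfsg.Statements.S0722
import Mathlib

set_option autoImplicit false
open Cfsg

namespace Cfsg.Agent.S0722

/-- In a primitive group `H`, with `N` a minimal normal subgroup and `K` a point stabiliser, `K ⊓ N` is maximal among proper `K`-invariant subgroups of `N`. -/
theorem result {α : Type*} [Finite α] (H : Subgroup (Equiv.Perm α)) [MulAction.IsPreprimitive H α] (N : Subgroup H) [N.Normal] (hN : N ≠ ⊥) (hmin : ∀ M : Subgroup H, M.Normal → M ≤ N → M = ⊥ ∨ M = N) (a : α) (X : Subgroup H) (hX : X ≤ N) (hKX : MulAction.stabilizer H a ⊓ N ≤ X) (hinv : MulAction.stabilizer H a ≤ Subgroup.normalizer (X : Set H)) : X = MulAction.stabilizer H a ⊓ N ∨ X = N := by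
  have : Nontrivial α := by
    rcases subsingleton_or_nontrivial α with h | h
    · exfalso
      apply hN
      rw [eq_bot_iff]
      intro n _
      exact Subtype.ext (Equiv.ext fun x => Subsingleton.elim _ _)
    · exact h
  set K := MulAction.stabilizer H a with hK
  have hco : IsCoatom K :=
    (MulAction.isCoatom_stabilizer_iff_preprimitive (G := H) a).mpr inferInstance
  rcases eq_or_ne (X ⊔ K) K with h | h
  · exact Or.inl (le_antisymm (le_inf ((le_sup_left : X ≤ X ⊔ K).trans_eq h) hX) hKX)
  · have htop : X ⊔ K = ⊤ := hco.2 _ (lt_of_le_of_ne le_sup_right (Ne.symm h))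
    refine Or.inr (le_antisymm hX fun n hn => ?_)
    have hn' : n ∈ (↑(X ⊔ K) : Set H) := by rw [htop]; exact Subgroup.mem_top n
    rw [Subgroup.coe_mul_of_right_le_normalizer_left X K hinv] at hn'
    obtain ⟨x, hx, k, hk, rfl⟩ := hn'
    have hkN : k ∈ N := (Subgroup.mul_mem_cancel_left N (hX hx)).mp hn
    exact X.mul_mem hx (hKX ⟨hk, hkN⟩)

end Cfsg.Agent.S0722
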