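import Cfsg.Statements.S0723
import Cfsg.Agent.S5914
import Cfsg.Agent.S0722
import Cfsg.Agent.Perm.Basic
import Cfsg.Agent.H33.Subdirect

set_option autoImplicit false
open Cfsg

namespace Cfsg.Agent.S0723

open Cfsg.Agent Cfsg.Agent.H33 MulAction

/-- The core of the O'Nan–Scott Theorem. Let `H` be a primitive permutation group on a finite set whose unique minimal normal subgroup `N` is non-abelian, and `K` a point stabiliser. Then there are a non-abelian simple group `T` and an isomorphism `N ≃* T^m` (`m ≥ 1`) under which `K ⊓ N` becomes either a product `∏ K_i` of proper subgroups `K_i < T`, or the set of functions constant on each block of a partition of the index set into blocks of one common size `k ≥ 2`. -/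
theorem result {α : Type*} [Finite α] (H : Subgroup (Equiv.Perm α)) [MulAction.IsPreprimitive H α] (N : Subgroup H) [N.Normal] (hN : N ≠ ⊥) (hmin : ∀ M : Subgroup H, M.Normal → M ≤ N → M = ⊥ ∨ M = N) (huniq : ∀ L : Subgroup H, L.Normal → L ≠ ⊥ → (∀ M : Subgroup H, M.Normal → M ≤ L → M = ⊥ ∨ M = L) → L = N) (hnab : ¬ IsMulCommutative N) (a : α) : ∃ (T : Type) (_ : Group T) (m : ℕ) (e : N ≃* (Fin m → T)), IsSimpleGroup T ∧ ¬ IsMulCommutative T ∧ 0 < m ∧ ((∃ K : Fin m → Subgroup T, (∀ i, K i ≠ ⊤) ∧ ∀ n : N, (n : H) ∈ MulAction.stabilizer H a ↔ ∀ i, e n i ∈ K i) ∨ (∃ (k : ℕ) (c : Fin m → Fin m), 2 ≤ k ∧ (∀ j : Fin m, Nat.card {i : Fin m // c i = j} = k ∨ Nat.card {i : Fin m // c i = j} = 0) ∧ ∀ n : N, (n : H) ∈ MulAction.stabilizer H a ↔ ∀ i j : Fin m, c i = c j → e n i = e n j)) := by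
  classical
  set K := MulAction.stabilizer H a with hK
  have : Nontrivial N := (Subgroup.nontrivial_iff_ne_bot N).mpr hN
  obtain ⟨T, hTg, hTs, m, hm, ⟨e⟩⟩ := (Cfsg.Agent.S5914.result (G := N)).mp (fun C hC => by
    rcases hmin (C.map N.subtype) inferInstance (Subgroup.map_subtype_le C) with h | h
    · exact Or.inl ((Subgroup.map_eq_bot_iff_of_injective _ N.subtype_injective).mp h)
    · right
      apply Subgroup.map_injective N.subtype_injective
      rw [h, ← MonoidHom.range_eq_map, Subgroup.range_subtype])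
  have hTna : ¬ IsMulCommutative T := fun h => hnab ⟨⟨fun x y => e.injective (by
    rw [map_mul, map_mul]; funext i; exact h.is_comm.comm _ _)⟩⟩
  haveI : FaithfulSMul H α := ⟨fun {x y} h => Subtype.ext (Equiv.ext h)⟩
  have htrans : MulAction.IsPretransitive N α := Cfsg.Agent.Perm.transitive_of_normal hN
  have hKtop : N ⊔ K = ⊤ := Cfsg.Agent.Perm.sup_stabilizer_eq_top htrans a
  have hnotle : ¬ N ≤ K := by
    intro h
    apply hN
    rw [eq_bot_iff]
    intro n hn
    refine Subtype.ext (Equiv.ext fun x => ?_)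
    obtain ⟨n', hn', rfl⟩ := Cfsg.Agent.Perm.exists_mem_smul_eq htrans a x
    have h1 : (n'⁻¹ * n * n') • a = a :=
      h (by simpa using Subgroup.Normal.conj_mem ‹_› n hn n'⁻¹)
    rw [mul_smul, mul_smul, inv_smul_eq_iff] at h1
    exact h1
  -- the action of `K` on coordinates
  let φ : K → ((Fin m → T) ≃* (Fin m → T)) := fun k =>
    e.symm.trans ((MulAut.conjNormal (k : H)).trans e)
  have hφ : ∀ (k : K) (x : Fin m → T), ((e.symm (φ k x) : N) : H)
      = (k : H) * (e.symm x : N) * (k : H)⁻¹ := fun k x => by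
    show ((e.symm (e (MulAut.conjNormal (k : H) (e.symm x))) : N) : H) = _
    rw [MulEquiv.symm_apply_apply, MulAut.conjNormal_apply]
  choose σ al hal using fun k : K => pi_aut_factor hTna (φ k)
  -- invariant subgroups of coordinates
  have hinv_all : ∀ J : Finset (Fin m), J.Nonempty → (∀ k i, σ k i ∈ J ↔ i ∈ J) →
      J = Finset.univ := by
    intro J hJ hJinv
    let X0 : Subgroup (Fin m → T) :=
      { carrier := {x | ∀ i ∉ J, x i = 1}
        one_mem' := fun i _ => rfl
        mul_mem' := fun {x y} hx hy i hi => by simp [hx i hi, hy i hi]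
        inv_mem' := fun {x} hx i hi => by simp [hx i hi] }
    set X : Subgroup H := (X0.comap e.toMonoidHom).map N.subtype with hX
    have hnorm : X.Normal := by
      rw [← Subgroup.normalizer_eq_top_iff, eq_top_iff, ← hKtop, sup_le_iff]
      constructor
      · intro n hn
        refine Subgroup.mem_normalizer_iff''.mpr ?_
        have key : ∀ u ∈ N, ∀ y ∈ X, u * y * u⁻¹ ∈ X := by
          rintro u hu _ ⟨y, hy, rfl⟩
          refine ⟨⟨u, hu⟩ * y * ⟨u, hu⟩⁻¹, fun i hi => ?_, rfl⟩
          show e (⟨u, hu⟩ * y * ⟨u, hu⟩⁻¹) i = 1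
          rw [map_mul, map_mul, map_inv, Pi.mul_apply, Pi.mul_apply, Pi.inv_apply,
            show e y i = 1 from hy i hi, mul_one, mul_inv_cancel]
        intro y
        constructor
        · intro hy; simpa using key n⁻¹ (N.inv_mem hn) y hy
        · intro hy; have := key n hn _ hy; simpa [mul_assoc] using this
      · intro k hk
        refine Subgroup.mem_normalizer_iff''.mpr ?_
        have key : ∀ u ∈ K, ∀ y ∈ X, u * y * u⁻¹ ∈ X := by
          rintro u hu _ ⟨y, hy, rfl⟩
          refine ⟨e.symm (φ ⟨u, hu⟩ (e y)), fun i hi => ?_, ?_⟩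
          · show e (e.symm (φ ⟨u, hu⟩ (e y))) i = 1
            rw [MulEquiv.apply_symm_apply, hal, show e y (σ ⟨u, hu⟩ i) = 1 from
              hy _ (fun h => hi ((hJinv _ i).mp h)), map_one]
          · show ((e.symm (φ ⟨u, hu⟩ (e y)) : N) : H) = _
            rw [hφ, MulEquiv.symm_apply_apply]
            rfl
        intro y
        constructor
        · intro hy; simpa using key k⁻¹ (K.inv_mem hk) y hy
        · intro hy; have := key k hk _ hy; simpa [mul_assoc] using this
    rcases hmin X hnorm (Subgroup.map_subtype_le _) with h | h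
    · exfalso
      obtain ⟨j, hj⟩ := hJ
      obtain ⟨t, ht⟩ := exists_ne (1 : T)
      have hmem : ((e.symm (Pi.mulSingle j t) : N) : H) ∈ X := by
        refine ⟨_, fun i hi => ?_, rfl⟩
        show e (e.symm _) i = 1
        rw [MulEquiv.apply_symm_apply, Pi.mulSingle_eq_of_ne (fun h' : i = j => hi (h' ▸ hj))]
      rw [h, Subgroup.mem_bot, OneMemClass.coe_eq_one, map_eq_one_iff _ e.symm.injective,
        Pi.mulSingle_eq_one_iff] at hmem
      exact ht hmem
    · refine Finset.eq_univ_of_forall fun i => ?_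
      by_contra hi
      obtain ⟨t, ht⟩ := exists_ne (1 : T)
      obtain ⟨y, hy, hye⟩ : ((e.symm (Pi.mulSingle i t) : N) : H) ∈ X := h.symm ▸ SetLike.coe_mem _
      rw [Subgroup.subtype_apply] at hye
      rw [Subtype.ext hye] at hy
      have := hy i hi
      simp at this
      exact ht this
  -- the coordinates of `K ⊓ N`
  set D : Subgroup (Fin m → T) := (K.subgroupOf N).map e.toMonoidHom with hD
  have hmemD : ∀ n : N, e n ∈ D ↔ (n : H) ∈ K := fun n => by
    rw [hD]
    exact Subgroup.mem_map_iff_mem e.injective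
  have hDinv : ∀ k : K, ∀ d, φ k d ∈ D ↔ d ∈ D := by
    intro k d
    obtain ⟨n, rfl⟩ := e.surjective d
    obtain ⟨n', hn'⟩ := e.surjective (φ k (e n))
    rw [← hn', hmemD, hmemD]
    have := hφ k (e n)
    rw [← hn', MulEquiv.symm_apply_apply, MulEquiv.symm_apply_apply] at this
    rw [this]
    exact ⟨fun h => by
      have h' := K.mul_mem (K.mul_mem (K.inv_mem k.2) h) k.2
      simpa [mul_assoc] using h', fun h => K.mul_mem (K.mul_mem k.2 h) (K.inv_mem k.2)⟩
  let Dp : Fin m → Subgroup T := fun i => D.map (Pi.evalMonoidHom (fun _ : Fin m => T) i)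
  let P0 : Subgroup (Fin m → T) := Subgroup.pi Set.univ Dp
  set X : Subgroup H := (P0.comap e.toMonoidHom).map N.subtype with hX
  have hXinv : K ≤ Subgroup.normalizer (X : Set H) := by
    intro k hk
    refine Subgroup.mem_normalizer_iff''.mpr ?_
    have key : ∀ u ∈ K, ∀ y ∈ X, u * y * u⁻¹ ∈ X := by
      rintro u hu _ ⟨y, hy, rfl⟩
      refine ⟨e.symm (φ ⟨u, hu⟩ (e y)), ?_, ?_⟩
      · show e (e.symm (φ ⟨u, hu⟩ (e y))) ∈ P0
        rw [MulEquiv.apply_symm_apply, Subgroup.mem_pi]
        intro i _
        rw [hal]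
        obtain ⟨d, hd, hde⟩ := Subgroup.mem_pi _ |>.mp hy (σ ⟨u, hu⟩ i) (Set.mem_univ _)
        refine ⟨φ ⟨u, hu⟩ d, (hDinv _ d).mpr hd, ?_⟩
        show φ ⟨u, hu⟩ d i = _
        rw [hal]
        exact congrArg _ hde
      · show ((e.symm (φ ⟨u, hu⟩ (e y)) : N) : H) = _
        rw [hφ, MulEquiv.symm_apply_apply]
        rfl
    intro y
    constructor
    · intro hy; simpa using key k⁻¹ (K.inv_mem hk) y hy
    · intro hy; have := key k hk _ hy; simpa [mul_assoc] using this
  have hle : K ⊓ N ≤ X := by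
    rintro x ⟨hx, hxN⟩
    refine ⟨⟨x, hxN⟩, ?_, rfl⟩
    show e ⟨x, hxN⟩ ∈ P0
    exact (Subgroup.mem_pi _).mpr fun i _ => ⟨_, (hmemD _).mpr hx, rfl⟩
  rcases Cfsg.Agent.S0722.result H N hN hmin a X (Subgroup.map_subtype_le _) hle hXinv with hXK | hXN
  · -- product of proper subgroups
    have hiff : ∀ n : N, (n : H) ∈ K ↔ ∀ i, e n i ∈ Dp i := by
      intro n
      constructor
      · intro hn i
        exact ⟨_, (hmemD n).mpr hn, rfl⟩
      · intro hn
        have : (n : H) ∈ X := ⟨n, (Subgroup.mem_pi _).mpr fun i _ => hn i, rfl⟩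
        exact (hXK ▸ this : (n : H) ∈ K ⊓ N).1
    refine ⟨T, hTg, m, e, hTs, hTna, hm, Or.inl ⟨Dp, ?_, hiff⟩⟩
    by_contra hex
    push Not at hex
    obtain ⟨i₀, hi₀⟩ := hex
    have hDp : ∀ (k : K) i, Dp (σ k i) = ⊤ ↔ Dp i = ⊤ := by
      intro k i
      simp only [Subgroup.eq_top_iff']
      constructor
      · intro h t
        obtain ⟨d, hd, hde⟩ := h ((al k i).symm t)
        refine ⟨φ k d, (hDinv k d).mpr hd, ?_⟩
        show φ k d i = t
        rw [hal, show d (σ k i) = (al k i).symm t from hde, MulEquiv.apply_symm_apply]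
      · intro h t
        obtain ⟨d, hd, hde⟩ := h (al k i t)
        refine ⟨(φ k).symm d, (hDinv k _).mp (by rwa [MulEquiv.apply_symm_apply]), ?_⟩
        show (φ k).symm d (σ k i) = t
        apply (al k i).injective
        rw [← hal, MulEquiv.apply_symm_apply]
        exact hde
    have hJ := hinv_all (Finset.univ.filter fun i => Dp i = ⊤) ⟨i₀, by simp [hi₀]⟩
      (fun k i => by simp [hDp])
    apply hnotle
    intro n hn
    refine (hiff ⟨n, hn⟩).mpr fun i => ?_
    have : Dp i = ⊤ := (Finset.mem_filter.mp (hJ.ge (Finset.mem_univ i))).2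
    rw [this]
    exact Subgroup.mem_top _
  · -- subdirect: diagonals
    have hsurj : ∀ i, ∀ t : T, ∃ d ∈ D, d i = t := by
      intro i t
      obtain ⟨y, hy, hye⟩ : ((e.symm (Pi.mulSingle i t) : N) : H) ∈ X :=
        hXN.symm ▸ SetLike.coe_mem _
      rw [Subgroup.subtype_apply] at hye
      rw [Subtype.ext hye] at hy
      obtain ⟨d, hd, hde⟩ := (Subgroup.mem_pi _).mp hy i (Set.mem_univ _)
      exact ⟨d, hd, by simpa using hde⟩
    let st : Setoid (Fin m) :=
      ⟨fun i j => ∀ d ∈ D, d i = 1 ↔ d j = 1, fun i d _ => Iff.rfl,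
        fun h d hd => (h d hd).symm, fun h h' d hd => (h d hd).trans (h' d hd)⟩
    let c : Fin m → Fin m := fun i => (Quotient.mk st i).out
    have hc : ∀ i, st.r (c i) i := fun i => Quotient.mk_out (s := st) i
    have hcc : ∀ i j, c i = c j ↔ st.r i j := by
      intro i j
      constructor
      · intro h
        exact st.trans' (st.symm' (hc i)) (h ▸ hc j)
      · intro h
        exact congrArg Quotient.out (Quotient.sound h)
    -- the twisting automorphisms
    have hbeta : ∀ i, ∃ b : T ≃* T, ∀ d ∈ D, b (d i) = d (c i) := by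
      intro i
      choose L hLD hL using hsurj i
      have hdet : ∀ d ∈ D, ∀ d' ∈ D, d i = d' i → d (c i) = d' (c i) := by
        intro d hd d' hd' h
        have h1 := (hc i (d * d'⁻¹) (D.mul_mem hd (D.inv_mem hd'))).mpr
          (by simp [h])
        simpa [mul_inv_eq_one] using h1
      let f : T →* T :=
        { toFun := fun t => L t (c i)
          map_one' := hdet _ (hLD 1) 1 D.one_mem (hL 1)
          map_mul' := fun s t => hdet _ (hLD _) (L s * L t) (D.mul_mem (hLD _) (hLD _))
            (by simp [hL]) }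
      refine ⟨MulEquiv.ofBijective f ⟨?_, ?_⟩, fun d hd => hdet _ (hLD _) d hd (hL _)⟩
      · rw [← MonoidHom.ker_eq_bot_iff, eq_bot_iff]
        intro t ht
        rw [Subgroup.mem_bot, ← hL t]
        exact (hc i _ (hLD t)).mp ht
      · intro t
        obtain ⟨d, hd, rfl⟩ := hsurj (c i) t
        exact ⟨d i, hdet _ (hLD _) d hd (hL _)⟩
    choose b hb using hbeta
    let e' : N ≃* (Fin m → T) := e.trans (MulEquiv.piCongrRight b)
    have hiff : ∀ n : N, (n : H) ∈ K ↔ ∀ i j : Fin m, c i = c j → e' n i = e' n j := by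
      intro n
      rw [← hmemD]
      constructor
      · intro hn i j hij
        show b i (e n i) = b j (e n j)
        rw [hb i _ hn, hb j _ hn, hij]
      · intro hn
        obtain ⟨d, hd, hdv⟩ := subdirect_surjective hTna D hsurj (Finset.univ.image c) (by
          intro i hi j hj h
          obtain ⟨i', -, rfl⟩ := Finset.mem_image.mp hi
          obtain ⟨j', -, rfl⟩ := Finset.mem_image.mp hj
          exact (hcc _ _).mpr (st.trans' (st.symm' (hc i')) (st.trans' h (hc j')))) (e n)
        convert hd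
        funext i
        apply (b i).injective
        rw [hb i d hd, hdv (c i) (Finset.mem_image.mpr ⟨i, Finset.mem_univ _, rfl⟩)]
        have hcci : c (c i) = c i := (hcc _ _).mpr (hc i)
        have h1 := hn i (c i) hcci.symm
        show b i (e n i) = e n (c i)
        have h2 : b (c i) (e n (c i)) = e n (c i) := by
          obtain ⟨d', hd', hd'e⟩ := hsurj (c i) (e n (c i))
          rw [← hd'e, hb _ d' hd', hcci]
        exact h1.trans h2
    have hrel : ∀ (k : K) i j, st.r (σ k i) (σ k j) ↔ st.r i j := by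
      intro k i j
      have hzero : ∀ d l, φ k d l = 1 ↔ d (σ k l) = 1 := fun d l => by
        rw [hal, map_eq_one_iff _ (al k l).injective]
      constructor
      · intro h d hd
        obtain ⟨d', rfl⟩ := (φ k).surjective d
        rw [hzero, hzero]
        exact h d' ((hDinv k d').mp hd)
      · intro h d hd
        rw [← hzero, ← hzero]
        exact h _ ((hDinv k d).mpr hd)
    let cls : Fin m → ℕ := fun i => Nat.card {x : Fin m // c x = c i}
    have hcls : ∀ (k : K) i, cls (σ k i) = cls i := by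
      intro k i
      refine (Nat.card_congr (Equiv.subtypeEquiv (σ k) fun x => ?_)).symm
      rw [hcc, hcc, hrel]
    have hm0 : Nonempty (Fin m) := ⟨⟨0, hm⟩⟩
    obtain ⟨i₀⟩ := hm0
    have hJ := hinv_all (Finset.univ.filter fun i => cls i = cls i₀) ⟨i₀, by simp⟩
      (fun k i => by simp [hcls])
    have hconst : ∀ i, cls i = cls i₀ := fun i =>
      (Finset.mem_filter.mp (hJ.ge (Finset.mem_univ i))).2
    refine ⟨T, hTg, m, e', hTs, hTna, hm, Or.inr ⟨cls i₀, c, ?_, fun j => ?_, hiff⟩⟩
    · by_contra hlt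
      apply hnotle
      intro n hn
      refine (hiff ⟨n, hn⟩).mpr fun i j hij => ?_
      have h1 : cls i ≤ 1 := by rw [hconst i]; omega
      rw [show i = j from congrArg Subtype.val
        ((Finite.card_le_one_iff_subsingleton.mp h1).elim
          (⟨i, rfl⟩ : {x : Fin m // c x = c i}) ⟨j, hij.symm⟩)]
    · by_cases hj : ∃ i, c i = j
      · obtain ⟨i, rfl⟩ := hj
        exact Or.inl (hconst i)
      · right
        push Not at hj
        have : IsEmpty {i : Fin m // c i = j} := ⟨fun x => hj x.1 x.2⟩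
        exact Nat.card_of_isEmpty

end Cfsg.Agent.S0723
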