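import Cfsg.Statements.S0724
import Mathlib

set_option autoImplicit false
open Cfsg

namespace Cfsg.Agent.S0724

open Finset in
theorem sum_fix_pow {G α : Type*} [Group G] [Fintype G] [Fintype α] [MulAction G α] (i : ℕ) :
    (Nat.card G : ℤ) ∣ ∑ g : G, (Nat.card (MulAction.fixedBy α g) : ℤ) ^ i := by
  classical
  have h := MulAction.sum_card_fixedBy_eq_card_orbits_mul_card_group G (Fin i → α)
  have e : ∀ g : G, Fintype.card (MulAction.fixedBy (Fin i → α) g)
      = Nat.card (MulAction.fixedBy α g) ^ i := by
    intro g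
    rw [← Nat.card_eq_fintype_card]
    have eqv : (MulAction.fixedBy (Fin i → α) g) ≃ (Fin i → MulAction.fixedBy α g) :=
      { toFun := fun f j => ⟨f.1 j, congrFun f.2 j⟩
        invFun := fun f => ⟨fun j => (f j).1, funext fun j => (f j).2⟩
        left_inv := fun f => rfl
        right_inv := fun f => rfl }
    rw [Nat.card_congr eqv, Nat.card_fun, Nat.card_eq_fintype_card (α := Fin i), Fintype.card_fin]
  simp only [e] at h
  have hz := congrArg (fun x : ℕ => (x : ℤ)) h
  push_cast at hz
  rw [Nat.card_eq_fintype_card, hz]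
  exact dvd_mul_left _ _

open Polynomial in
theorem sum_fix_eval {G α : Type*} [Group G] [Fintype G] [Fintype α] [MulAction G α] (P : ℤ[X]) :
    (Nat.card G : ℤ) ∣ ∑ g : G, P.eval (Nat.card (MulAction.fixedBy α g) : ℤ) := by
  simp_rw [eval_eq_sum_range (p := P)]
  rw [Finset.sum_comm]
  refine Finset.dvd_sum fun i _ => ?_
  rw [← Finset.mul_sum]
  exact Dvd.dvd.mul_left (sum_fix_pow i) _

/-- Blichfeldt's Theorem: if a finite set `L` of natural numbers contains the number of fixed points of every non-identity element of a permutation group `G` of degree `n`, then the order of `G` divides `∏ (n - l)` over `l ∈ L`. -/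
theorem result {α : Type*} [Fintype α] [DecidableEq α] (G : Subgroup (Equiv.Perm α)) (L : Finset ℕ) (hL : ∀ g ∈ G, g ≠ 1 → Nat.card (MulAction.fixedBy α g) ∈ L) : Nat.card G ∣ ∏ l ∈ L, (Fintype.card α - l) := by
  classical
  by_cases hbig : ∃ l ∈ L, Fintype.card α ≤ l
  · obtain ⟨l, hl, hle⟩ := hbig
    rw [Finset.prod_eq_zero hl (Nat.sub_eq_zero_of_le hle)]
    exact dvd_zero _
  · push Not at hbig
    have h := sum_fix_eval (G := G) (α := α) (∏ l ∈ L, (Polynomial.X - Polynomial.C (l : ℤ)))
    rw [Finset.sum_eq_single 1] at h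
    · have e : Nat.card (MulAction.fixedBy α (1 : G)) = Fintype.card α := by
        rw [MulAction.fixedBy_one_eq_univ]; simp
      rw [e, Polynomial.eval_prod] at h
      simp only [Polynomial.eval_sub, Polynomial.eval_X, Polynomial.eval_C] at h
      rw [← Int.natCast_dvd_natCast, Nat.cast_prod]
      convert h using 1
      exact Finset.prod_congr rfl fun l hl => by rw [Nat.cast_sub (hbig l hl).le]
    · intro g _ hg
      rw [Polynomial.eval_prod]
      refine Finset.prod_eq_zero (hL g g.2 (by simpa using hg)) ?_
      have e : MulAction.fixedBy α (g : Equiv.Perm α) = MulAction.fixedBy α g := rfl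
      rw [e]
      simp
    · simp

end Cfsg.Agent.S0724
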