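import Cfsg.Statements.S0726
import Mathlib

set_option autoImplicit false
open Cfsg

namespace Cfsg.Agent.S0726

/-- The left and right regular permutation representations of a group are each other's centralisers in the symmetric group: the centraliser of the left regular image is the right regular image, and a transitive subgroup centralising the left regular image is the whole right regular image. -/
theorem result {G : Type*} [Group G] : Subgroup.centralizer ((MulAction.toPermHom G G).range : Set (Equiv.Perm G)) = (MulAction.toPermHom Gᵐᵒᵖ G).range ∧ ∀ H : Subgroup (Equiv.Perm G), H ≤ Subgroup.centralizer ((MulAction.toPermHom G G).range : Set (Equiv.Perm G)) → MulAction.IsPretransitive H G → H = (MulAction.toPermHom Gᵐᵒᵖ G).range := by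
  have heq : Subgroup.centralizer ((MulAction.toPermHom G G).range : Set (Equiv.Perm G))
      = (MulAction.toPermHom Gᵐᵒᵖ G).range := by
    ext c
    rw [Subgroup.mem_centralizer_iff]
    constructor
    · intro h
      refine ⟨MulOpposite.op (c 1), Equiv.ext fun x => ?_⟩
      have := congrArg (fun p : Equiv.Perm G => p 1) (h _ ⟨x, rfl⟩)
      simpa using this
    · rintro ⟨k, rfl⟩ _ ⟨g, rfl⟩
      ext x
      simp [mul_assoc]
  refine ⟨heq, fun H hH ht => le_antisymm (hH.trans_eq heq) ?_⟩
  rintro _ ⟨k, rfl⟩
  obtain ⟨h, hh⟩ := MulAction.exists_smul_eq H (1 : G) k.unop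
  obtain ⟨k', hk'⟩ : (h : Equiv.Perm G) ∈ (MulAction.toPermHom Gᵐᵒᵖ G).range := heq ▸ hH h.2
  have : k' = k := by
    have e : (h : Equiv.Perm G) 1 = k.unop := hh
    rw [← hk'] at e
    exact MulOpposite.unop_injective (by simpa using e)
  rw [← this, hk']
  exact h.2

end Cfsg.Agent.S0726
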