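import Cfsg.Statements.S0728
import Mathlib

set_option autoImplicit false
open Cfsg

namespace Cfsg.Agent.S0728

section
variable {α : Type*} [Fintype α] [DecidableEq α] {G : Subgroup (Equiv.Perm α)}

theorem eq_one_of_three (hsharp : ∀ x : Fin 3 ↪ α, MulAction.stabilizer G x = ⊥) {g : G} {x y z : α}
    (hxy : x ≠ y) (hxz : x ≠ z) (hyz : y ≠ z) (hx : g • x = x) (hy : g • y = y) (hz : g • z = z) :
    g = 1 := by
  let e : Fin 3 ↪ α := ⟨![x, y, z], by
    intro i j h
    fin_cases i <;> fin_cases j <;> first | rfl | simp_all⟩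
  have : g ∈ MulAction.stabilizer G e := by
    rw [MulAction.mem_stabilizer_iff]
    ext i
    fin_cases i <;> assumption
  rwa [hsharp e, Subgroup.mem_bot] at this

theorem ext_three (hsharp : ∀ x : Fin 3 ↪ α, MulAction.stabilizer G x = ⊥) {g h : G} {x y z : α}
    (hxy : x ≠ y) (hxz : x ≠ z) (hyz : y ≠ z) (hx : g • x = h • x) (hy : g • y = h • y)
    (hz : g • z = h • z) : g = h := by
  have h1 : h⁻¹ * g = 1 := eq_one_of_three hsharp hxy hxz hyz (by rw [mul_smul, hx, inv_smul_smul])
    (by rw [mul_smul, hy, inv_smul_smul]) (by rw [mul_smul, hz, inv_smul_smul])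
  exact (inv_mul_eq_one.1 h1).symm

theorem smul_sq (g : G) (hg : g ^ 3 = 1) (x : α) : g • g • g • x = x := by
  rw [← mul_smul, ← mul_smul, show g * g * g = g ^ 3 by rw [pow_succ, pow_two], hg, one_smul]

/-- Number of elements of order three fixing two given points. -/
theorem card_fix_pair (h6 : 6 ≤ Fintype.card α) (h3 : MulAction.IsMultiplyPretransitive G α 3)
    (hsharp : ∀ x : Fin 3 ↪ α, MulAction.stabilizer G x = ⊥) {a b : α} (hab : a ≠ b) {t : G}
    (ht1 : t ≠ 1) (ht : t ^ 3 = 1) (hta : t • a = a) (htb : t • b = b) :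
    Nat.card {g : G // (g ≠ 1 ∧ g ^ 3 = 1) ∧ g • a = a ∧ g • b = b} = 2 := by
  classical
  let E := {g : G // g ≠ 1 ∧ g ^ 3 = 1}
  have hmod : ∀ g : G, g ^ 3 = 1 →
      (Finset.univ.filter fun x : α => g • x = x).card ≡ Fintype.card α [MOD 3] := by
    intro g hg
    have : Fact (Nat.Prime 3) := ⟨Nat.prime_three⟩
    have h1 := Equiv.Perm.card_compl_support_modEq (p := 3) (n := 1) (σ := (g : Equiv.Perm α))
      (by rw [pow_one]; exact_mod_cast congrArg Subtype.val hg)
    have h2 : (g : Equiv.Perm α).supportᶜ = Finset.univ.filter fun x : α => g • x = x := by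
      ext x; simp; rfl
    rwa [h2] at h1
  have hle2 : ∀ g : G, g ≠ 1 → (Finset.univ.filter fun x : α => g • x = x).card ≤ 2 := by
    intro g hg
    by_contra hlt
    obtain ⟨x, y, z, hx, hy, hz, hxy, hxz, hyz⟩ := Finset.two_lt_card_iff.1 (not_le.1 hlt)
    simp only [Finset.mem_filter, Finset.mem_univ, true_and] at hx hy hz
    exact hg (eq_one_of_three hsharp hxy hxz hyz hx hy hz)
  have htwo : ∀ g : E, (Finset.univ.filter fun x : α => g.1 • x = x).card = 2 := by
    intro g
    have h0 : ({a, b} : Finset α) ⊆ Finset.univ.filter fun x : α => t • x = x := by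
      intro x hx
      simp only [Finset.mem_insert, Finset.mem_singleton] at hx
      rcases hx with rfl | rfl <;> simp [hta, htb]
    have h1 := Finset.card_le_card h0
    rw [Finset.card_pair hab] at h1
    have h2 := hle2 t ht1
    have h3 := hmod t ht
    have h4 := hle2 g.1 g.2.1
    have h5 := (hmod g.1 g.2.2).trans h3.symm
    unfold Nat.ModEq at h5
    omega
  have hex : ∀ x : Fin 3 ↪ α, ∃ g : G, g • x 0 = x 1 ∧ g • x 1 = x 2 ∧ g • x 2 = x 0 := by
    intro x
    obtain ⟨g, hg⟩ := MulAction.isMultiplyPretransitive_iff.1 h3 x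
      ⟨x ∘ ![1, 2, 0], x.injective.comp (by decide)⟩
    exact ⟨g, congrArg (fun e : Fin 3 ↪ α => e 0) hg, congrArg (fun e : Fin 3 ↪ α => e 1) hg,
      congrArg (fun e : Fin 3 ↪ α => e 2) hg⟩
  have hne : ∀ (x : Fin 3 ↪ α) i j, i ≠ j → x i ≠ x j := fun x i j h => x.injective.ne h
  have hE : Nat.card E = Fintype.card α * (Fintype.card α - 1) := by
    choose γ h0 h1 h2 using hex
    have hγ : ∀ x, γ x ≠ 1 ∧ γ x ^ 3 = 1 := by
      refine fun x => ⟨fun h => hne x 0 1 (by decide) (by rw [← h0 x, h, one_smul]), ?_⟩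
      refine eq_one_of_three hsharp (hne x 0 1 (by decide)) (hne x 0 2 (by decide))
        (hne x 1 2 (by decide)) ?_ ?_ ?_ <;>
        simp [pow_succ, mul_smul, h0, h1, h2]
    have hdist : ∀ (g : E) (x : α), g.1 • x ≠ x → g.1 • g.1 • x ≠ x ∧ g.1 • g.1 • x ≠ g.1 • x := by
      intro g x hx
      refine ⟨fun h => hx ?_, fun h => hx (smul_left_cancel g.1 h)⟩
      have := smul_sq g.1 g.2.2 x
      rw [h] at this
      exact this
    let e : (Σ g : E, {x : α // g.1 • x ≠ x}) ≃ (Fin 3 ↪ α) :=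
      { toFun := fun p => ⟨![p.2.1, p.1.1 • p.2.1, p.1.1 • p.1.1 • p.2.1], by
          obtain ⟨d1, d2⟩ := hdist p.1 p.2.1 p.2.2
          have d0 := p.2.2
          intro i j h
          fin_cases i <;> fin_cases j <;> first | rfl | simp_all [eq_comm]⟩
        invFun := fun x => ⟨⟨γ x, hγ x⟩, ⟨x 0, by
          show γ x • x 0 ≠ x 0
          rw [h0]; exact hne x 1 0 (by decide)⟩⟩
        left_inv := fun p => by
          obtain ⟨⟨g, hg⟩, x, hx⟩ := p
          refine Sigma.subtype_ext (Subtype.ext ?_) rfl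
          obtain ⟨d1, d2⟩ := hdist ⟨g, hg⟩ x hx
          exact ext_three hsharp (Ne.symm hx) (Ne.symm d1) (Ne.symm d2) (h0 _) (h1 _)
            ((h2 _).trans (smul_sq g hg.2 x).symm)
        right_inv := fun x => by
          ext i
          fin_cases i
          · rfl
          · exact h0 x
          · show γ x • γ x • x 0 = x 2
            rw [h0, h1] }
    have hcard := Nat.card_congr e
    rw [Nat.card_sigma] at hcard
    have hm : ∀ g : E, Nat.card {x : α // g.1 • x ≠ x} = Fintype.card α - 2 := by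
      intro g
      rw [Nat.card_eq_fintype_card, Fintype.card_subtype_compl, Fintype.card_subtype, htwo g]
    simp only [hm, Finset.sum_const, Finset.card_univ, smul_eq_mul] at hcard
    rw [Nat.card_eq_fintype_card (α := Fin 3 ↪ α), Fintype.card_embedding_eq, Fintype.card_fin] at hcard
    rw [Nat.card_eq_fintype_card]
    apply Nat.eq_of_mul_eq_mul_right (show 0 < Fintype.card α - 2 by omega)
    rw [hcard]
    simp [Nat.descFactorial_succ]
    ring
  -- double counting over ordered pairs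
  let P := fun x : Fin 2 ↪ α => {g : E // g.1 • x 0 = x 0 ∧ g.1 • x 1 = x 1}
  let x0 : Fin 2 ↪ α := ⟨![a, b], by
    intro i j h
    fin_cases i <;> fin_cases j <;> first | rfl | simp_all⟩
  have htrans : MulAction.IsMultiplyPretransitive G α 2 :=
    MulAction.isMultiplyPretransitive_of_le' (show 2 ≤ 3 by omega)
      (by rw [ENat.card_eq_coe_fintype_card]; exact_mod_cast (show 3 ≤ Fintype.card α by omega))
  have hconst : ∀ x, Nat.card (P x) = Nat.card (P x0) := by
    intro x
    obtain ⟨c, hc⟩ := MulAction.isMultiplyPretransitive_iff.1 htrans x0 x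
    subst hc
    have hiff : ∀ g : G, (g ≠ 1 ∧ g ^ 3 = 1) ↔ (c * g * c⁻¹ ≠ 1 ∧ (c * g * c⁻¹) ^ 3 = 1) := by
      intro g
      simp [conj_pow, conj_eq_one_iff]
    let eE : E ≃ E := ((MulAut.conj c).toEquiv).subtypeEquiv hiff
    refine (Nat.card_congr (eE.subtypeEquiv fun g => ?_)).symm
    show g.1 • x0 0 = x0 0 ∧ g.1 • x0 1 = x0 1 ↔
      (c * g.1 * c⁻¹) • (c • x0 0) = c • x0 0 ∧ (c * g.1 * c⁻¹) • (c • x0 1) = c • x0 1
    simp [mul_smul]
  have hsum : ∑ x : Fin 2 ↪ α, Nat.card (P x) = Nat.card E * 2 := by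
    rw [← Nat.card_sigma]
    let e : (Σ x : Fin 2 ↪ α, P x) ≃ Σ g : E, (Fin 2 ↪ {x : α // g.1 • x = x}) :=
      { toFun := fun p => ⟨p.2.1, ⟨fun i => ⟨p.1 i, by
            fin_cases i
            · exact p.2.2.1
            · exact p.2.2.2⟩, fun i j h => p.1.injective (congrArg Subtype.val h)⟩⟩
        invFun := fun p => ⟨⟨fun i => (p.2 i).1, fun i j h => p.2.injective (Subtype.ext h)⟩,
          ⟨p.1, (p.2 0).2, (p.2 1).2⟩⟩
        left_inv := fun p => rfl
        right_inv := fun p => rfl }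
    rw [Nat.card_congr e, Nat.card_sigma]
    have : ∀ g : E, Nat.card (Fin 2 ↪ {x : α // g.1 • x = x}) = 2 := by
      intro g
      rw [Nat.card_eq_fintype_card, Fintype.card_embedding_eq, Fintype.card_subtype, htwo g,
        Fintype.card_fin]
      rfl
    rw [Finset.sum_congr rfl fun g _ => this g, Finset.sum_const, Finset.card_univ, smul_eq_mul,
      Nat.card_eq_fintype_card]
  simp only [hconst, Finset.sum_const, Finset.card_univ, smul_eq_mul, Fintype.card_embedding_eq,
    Fintype.card_fin, hE] at hsum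
  have hP : Nat.card (P x0) = 2 := by
    apply Nat.eq_of_mul_eq_mul_left (show 0 < Fintype.card α * (Fintype.card α - 1) from
      Nat.mul_pos (by omega) (by omega))
    rw [← hsum]
    simp [Nat.descFactorial_succ, mul_comm]
  rw [← hP]
  exact Nat.card_congr (Equiv.subtypeSubtypeEquivSubtypeInter _
    (fun g : G => g • a = a ∧ g • b = b)).symm

end

/-- In a sharply triply transitive group of even degree at least 6 (degree `q + 1`, `q` odd), a two-point stabiliser has at most one subgroup of order 3. -/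
theorem result {α : Type*} [Fintype α] [DecidableEq α] (heven : Even (Fintype.card α)) (h6 : 6 ≤ Fintype.card α) (G : Subgroup (Equiv.Perm α)) (h3 : MulAction.IsMultiplyPretransitive G α 3) (hsharp : ∀ x : Fin 3 ↪ α, MulAction.stabilizer G x = ⊥) {a b : α} (hab : a ≠ b) (A B : Subgroup G) (hA : A ≤ MulAction.stabilizer G a ⊓ MulAction.stabilizer G b) (hB : B ≤ MulAction.stabilizer G a ⊓ MulAction.stabilizer G b) (hA3 : Nat.card A = 3) (hB3 : Nat.card B = 3) : A = B := by
  classical
  have key : ∀ (C : Subgroup G), C ≤ MulAction.stabilizer G a ⊓ MulAction.stabilizer G b → Nat.card C = 3 →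
      ∀ g : G, g ∈ C ↔ g = 1 ∨ ((g ≠ 1 ∧ g ^ 3 = 1) ∧ g • a = a ∧ g • b = b) := by
    intro C hC hC3 g
    have hmem : ∀ x ∈ C, x ≠ 1 → (x ≠ 1 ∧ x ^ 3 = 1) ∧ x • a = a ∧ x • b = b := by
      intro x hx hx1
      refine ⟨⟨hx1, ?_⟩, (hC hx).1, (hC hx).2⟩
      have h := pow_card_eq_one' (G := C) (x := ⟨x, hx⟩)
      rw [hC3] at h
      exact congrArg Subtype.val h
    refine ⟨fun hg => or_iff_not_imp_left.2 (hmem g hg), fun hg => ?_⟩
    rcases hg with rfl | hg
    · exact C.one_mem
    obtain ⟨⟨t, ht⟩, ht1⟩ := C.ne_bot_iff_exists_ne_one.1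
      (fun h => by rw [h, Subgroup.card_bot] at hC3; omega)
    replace ht1 : t ≠ 1 := fun h => ht1 (Subtype.ext h)
    obtain ⟨⟨-, ht3⟩, hta, htb⟩ := hmem t ht ht1
    have h2 := card_fix_pair h6 h3 hsharp hab ht1 ht3 hta htb
    have hsub : ((C : Set G) \ {1}) ⊆ {x : G | (x ≠ 1 ∧ x ^ 3 = 1) ∧ x • a = a ∧ x • b = b} :=
      fun x hx => hmem x hx.1 hx.2
    have hcard : ((C : Set G) \ {1}).ncard = 2 := by
      rw [Set.ncard_diff_singleton_of_mem (SetLike.mem_coe.2 C.one_mem), ← Nat.card_coe_set_eq]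
      exact (congrArg (· - 1) hC3)
    have heq := Set.eq_of_subset_of_ncard_le hsub (by
      rw [hcard, ← Nat.card_coe_set_eq]; exact le_of_eq h2) (Set.toFinite _)
    have : g ∈ (C : Set G) \ {1} := heq.symm ▸ hg
    exact this.1
  ext g
  rw [key A hA hA3, key B hB hB3]

end Cfsg.Agent.S0728
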