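import Cfsg.Statements.S0729
import Mathlib
import Cfsg.Agent.S0728
import Cfsg.Agent.H33.NearfieldIndexTwo
import Cfsg.Agent.Frobenius.Action
import Cfsg.Agent.Frobenius.KernelTheorem

set_option autoImplicit false
open Cfsg

namespace Cfsg.Agent.S0729

theorem mult_two_sq : ∀ z : Multiplicative (ZMod 2), z ^ 2 = 1 := by decide

/-- A subgroup of index two invariant under an involutive automorphism. -/
theorem exists_invariant_index_two {H : Type*} [Group H] [Finite H] (σ : H →* H)
    (hσ : ∀ x, σ (σ x) = x) (M : Subgroup H) (hM : M.index = 2) :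
    ∃ N : Subgroup H, N.index = 2 ∧ N.Normal ∧ ∀ x ∈ N, σ x ∈ N := by
  classical
  have : M.Normal := M.normal_of_index_eq_two hM
  have : Fact (Nat.Prime 2) := ⟨Nat.prime_two⟩
  let X := H →* Multiplicative (ZMod 2)
  have hcardA : Nat.card (Multiplicative (ZMod 2)) = 2 := by
    rw [Nat.card_congr Multiplicative.toAdd]; simp
  haveI : Finite X := Finite.of_injective (fun f : X => (f : H → Multiplicative (ZMod 2))) DFunLike.coe_injective
  haveI : Fintype X := Fintype.ofFinite _
  have hX2 : IsPGroup 2 X := fun f => ⟨1, MonoidHom.ext fun x => by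
    rw [MonoidHom.pow_apply, pow_one, mult_two_sq]; rfl⟩
  let f0 : X := ((mulEquivOfPrimeCardEq (p := 2) (G := H ⧸ M) (by rw [← Subgroup.index_eq_card, hM]) hcardA).toMonoidHom).comp
    (QuotientGroup.mk' M)
  have hf0 : f0 ≠ 1 := by
    intro h
    have htop : M = ⊤ := by
      rw [eq_top_iff]
      intro x _
      rw [← QuotientGroup.eq_one_iff]
      exact (mulEquivOfPrimeCardEq (p := 2) (G := H ⧸ M) (by rw [← Subgroup.index_eq_card, hM]) hcardA).injective
        ((DFunLike.congr_fun h x).trans (map_one _).symm)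
    rw [htop, Subgroup.index_top] at hM
    omega
  let τ : Equiv.Perm X := ⟨fun f => f.comp σ, fun f => f.comp σ,
    fun f => MonoidHom.ext fun x => congrArg f (hσ x), fun f => MonoidHom.ext fun x => congrArg f (hσ x)⟩
  have hτ : τ ^ 2 ^ 1 = 1 := Equiv.ext fun f => MonoidHom.ext fun x => congrArg f (hσ x)
  have hpar := Equiv.Perm.card_compl_support_modEq (p := 2) hτ
  have heven : 2 ∣ Fintype.card X := by
    have : Nontrivial X := ⟨⟨f0, 1, hf0⟩⟩
    obtain ⟨k, hk⟩ := IsPGroup.iff_card.1 hX2
    rw [Nat.card_eq_fintype_card] at hk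
    have := Fintype.one_lt_card (α := X)
    rw [hk] at this ⊢
    refine dvd_pow_self 2 ?_
    rintro rfl
    simp at this
  obtain ⟨f, hf, hf1⟩ : ∃ f : X, τ f = f ∧ f ≠ 1 := by
    by_contra hcon
    push Not at hcon
    have hs : τ.supportᶜ = {1} := by
      ext f
      simp only [Finset.mem_compl, Equiv.Perm.mem_support, ne_eq, not_not, Finset.mem_singleton]
      exact ⟨hcon f, fun h => by subst h; exact MonoidHom.ext fun x => rfl⟩
    rw [hs, Finset.card_singleton] at hpar
    unfold Nat.ModEq at hpar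
    omega
  refine ⟨f.ker, ?_, inferInstance, fun x hx => ?_⟩
  · rw [Subgroup.index_ker]
    have hne : f.range ≠ ⊥ := fun h => hf1 (MonoidHom.range_eq_bot_iff.1 h)
    rcases (Nat.dvd_prime Nat.prime_two).1 (hcardA ▸ Subgroup.card_subgroup_dvd_card f.range) with h | h
    · exact absurd (Subgroup.eq_bot_of_card_eq _ h) hne
    · exact h
  · rw [MonoidHom.mem_ker] at hx ⊢
    exact (DFunLike.congr_fun hf x).trans hx

/-- In a sharply triply transitive group of even degree at least 6, the two-point stabiliser `H = G_{a,b}` has a normal subgroup of index 2 that is normalised by the element `s` interchanging `a, b` and fixing a third point `c`. -/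
theorem result {α : Type*} [Fintype α] [DecidableEq α] (heven : Even (Fintype.card α)) (h6 : 6 ≤ Fintype.card α) (G : Subgroup (Equiv.Perm α)) (h3 : MulAction.IsMultiplyPretransitive G α 3) (hsharp : ∀ x : Fin 3 ↪ α, MulAction.stabilizer G x = ⊥) {a b c : α} (hab : a ≠ b) (hac : a ≠ c) (hbc : b ≠ c) (s : G) (hsa : s • a = b) (hsb : s • b = a) (hsc : s • c = c) : ∃ N : Subgroup G, N ≤ MulAction.stabilizer G a ⊓ MulAction.stabilizer G b ∧ (N.subgroupOf (MulAction.stabilizer G a ⊓ MulAction.stabilizer G b)).Normal ∧ N.relIndex (MulAction.stabilizer G a ⊓ MulAction.stabilizer G b) = 2 ∧ ∀ n ∈ N, s * n * s⁻¹ ∈ N := by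
  classical
  have hf3 : ∀ (g : G) (x y z : α), x ≠ y → x ≠ z → y ≠ z → g • x = x → g • y = y → g • z = z → g = 1 :=
    fun g x y z h1 h2 h4 hx hy hz => Cfsg.Agent.S0728.eq_one_of_three hsharp h1 h2 h4 hx hy hz
  have htr3 : ∀ x y z x' y' z' : α, x ≠ y → x ≠ z → y ≠ z → x' ≠ y' → x' ≠ z' → y' ≠ z' →
      ∃ g : G, g • x = x' ∧ g • y = y' ∧ g • z = z' := by
    intro x y z x' y' z' h1 h2 h4 h5 h6' h7
    let u : Fin 3 ↪ α := ⟨![x, y, z], by
      intro i j h
      fin_cases i <;> fin_cases j <;> first | rfl | simp_all⟩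
    let v : Fin 3 ↪ α := ⟨![x', y', z'], by
      intro i j h
      fin_cases i <;> fin_cases j <;> first | rfl | simp_all⟩
    obtain ⟨g, hg⟩ := MulAction.isMultiplyPretransitive_iff.1 h3 u v
    exact ⟨g, congrArg (fun e : Fin 3 ↪ α => e 0) hg, congrArg (fun e : Fin 3 ↪ α => e 1) hg,
      congrArg (fun e : Fin 3 ↪ α => e 2) hg⟩
  have hexists : ∀ x y z : α, ∃ w, w ≠ x ∧ w ≠ y ∧ w ≠ z := by
    intro x y z
    obtain ⟨w, hw⟩ := Finset.exists_mem_notMem_of_card_lt_card (s := ({x, y, z} : Finset α)) (t := Finset.univ)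
      (lt_of_le_of_lt Finset.card_le_three (by rw [Finset.card_univ]; omega))
    simp only [Finset.mem_insert, Finset.mem_singleton, not_or] at hw
    exact ⟨w, hw.2⟩
  -- the point stabiliser acting on the other points
  let L := MulAction.stabilizer G a
  let Xa := SubMulAction.ofStabilizer G a
  let bX : Xa := ⟨b, hab.symm⟩
  let cX : Xa := ⟨c, hac.symm⟩
  have hfixX : ∀ g : L, g ≠ 1 → ∀ u v : Xa, g • u = u → g • v = v → u = v := by
    intro g hg u v hu hv
    by_contra huv
    exact hg (Subtype.ext (hf3 g a u v (fun h => u.2 h.symm) (fun h => v.2 h.symm)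
      (fun h => huv (Subtype.ext h)) g.2 (congrArg Subtype.val hu) (congrArg Subtype.val hv)))
  have htrX : ∀ u v : Xa, ∃ g : L, g • u = v := by
    intro u v
    obtain ⟨w, hwa, hwu, -⟩ := hexists a u u
    obtain ⟨w', hwa', hwv, -⟩ := hexists a v v
    obtain ⟨g, g1, g2, -⟩ := htr3 a u w a v w' (fun h => u.2 h.symm) hwa.symm hwu.symm
      (fun h => v.2 h.symm) hwa'.symm hwv.symm
    exact ⟨⟨g, g1⟩, Subtype.ext g2⟩
  have hbot : MulAction.stabilizer L bX ≠ ⊥ := by
    obtain ⟨d, hda, hdb, hdc⟩ := hexists a b c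
    obtain ⟨g, g1, g2, g3⟩ := htr3 a b c a b d hab hac hbc hab hda.symm hdb.symm
    intro h
    have hmem : (⟨g, g1⟩ : L) ∈ MulAction.stabilizer L bX := Subtype.ext g2
    rw [h, Subgroup.mem_bot] at hmem
    have hg1 : g = 1 := congrArg Subtype.val hmem
    rw [hg1, one_smul] at g3
    exact hdc g3.symm
  have htop : MulAction.stabilizer L bX ≠ ⊤ := by
    intro h
    obtain ⟨g, hg⟩ := htrX bX cX
    have : g • bX = bX := (h ▸ Subgroup.mem_top g : g ∈ MulAction.stabilizer L bX)
    exact hbc (congrArg Subtype.val (this.symm.trans hg))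
  have hF := Cfsg.Agent.Frobenius.stabilizer_isFrobeniusComplement hfixX bX hbot htop
  let K := Cfsg.Agent.Frobenius.kernel hF
  haveI hKn : K.Normal := Cfsg.Agent.Frobenius.kernel_normal hF
  have hKmem : ∀ k : L, k ∈ K ↔ k = 1 ∨ ∀ u : Xa, k • u ≠ u := fun k => by
    rw [← SetLike.mem_coe, Cfsg.Agent.Frobenius.coe_kernel hF,
      Cfsg.Agent.Frobenius.kernel_stabilizer_eq htrX]
    rfl
  have hKfree : ∀ k ∈ K, ∀ u : Xa, k • u = u → k = 1 := fun k hk u hu =>
    ((hKmem k).1 hk).resolve_right fun h => h u hu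
  have hXcard : Nat.card Xa = Fintype.card α - 1 := by
    show Nat.card {x : α // x ≠ a} = _
    rw [Nat.card_eq_fintype_card, Fintype.card_subtype_compl, Fintype.card_subtype_eq]
  have hKcard : Nat.card K = Fintype.card α - 1 := by
    haveI : MulAction.IsPretransitive L Xa := ⟨htrX⟩
    rw [← SetLike.coe_sort_coe, Cfsg.Agent.Frobenius.coe_kernel hF, Cfsg.Agent.Frobenius.card_kernel hF,
      MulAction.index_stabilizer_of_transitive, hXcard]
  have hbij : Function.Bijective (fun k : K => (k : L) • bX) := by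
    haveI : Fintype K := Fintype.ofFinite _
    haveI : Fintype Xa := Fintype.ofFinite _
    refine (Fintype.bijective_iff_injective_and_card _).2 ⟨fun k k' e => ?_, ?_⟩
    · have := hKfree ((k' : L)⁻¹ * k) (mul_mem (inv_mem k'.2) k.2) bX
        (by rw [mul_smul, show (k : L) • bX = (k' : L) • bX from e, inv_smul_smul])
      exact Subtype.ext (inv_mul_eq_one.1 this).symm
    · rw [← Nat.card_eq_fintype_card, ← Nat.card_eq_fintype_card, hKcard, hXcard]
  -- the two-point stabiliser acting on the kernel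
  let H : Subgroup G := MulAction.stabilizer G a ⊓ MulAction.stabilizer G b
  let ι : H →* L := Subgroup.inclusion inf_le_left
  let φ : H →* MulAut K := (MulAut.conjNormal (H := K)).comp ι
  have hφ : ∀ (h : H) (k : K), ((φ h k : K) : L) • bX = ι h • ((k : L) • bX) := by
    intro h k
    have hib : (ι h)⁻¹ • bX = bX := by
      rw [inv_smul_eq_iff]; exact (Subtype.ext (show (h : G) • b = b from h.2.2)).symm
    show (ι h * (k : L) * (ι h)⁻¹) • bX = _
    rw [mul_smul, mul_smul, hib]
  have hne : ∀ k : K, k ≠ 1 → (k : L) • bX ≠ bX := fun k hk e =>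
    hk (Subtype.ext (hKfree _ k.2 bX e))
  have htrK : ∀ u v : K, u ≠ 1 → v ≠ 1 → ∃ h, φ h u = v := by
    intro u v hu hv
    obtain ⟨g, g1, g2, g3⟩ := htr3 a b (((u : L) • bX : Xa) : α) a b (((v : L) • bX : Xa) : α)
      hab (fun e' => ((u : L) • bX).2 e'.symm) (fun e' => hne u hu (Subtype.ext e'.symm))
      hab (fun e' => ((v : L) • bX).2 e'.symm) (fun e' => hne v hv (Subtype.ext e'.symm))
    refine ⟨⟨g, g1, g2⟩, hbij.1 ?_⟩
    show ((φ _ u : K) : L) • bX = (v : L) • bX
    rw [hφ]
    exact Subtype.ext g3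
  haveI : Nontrivial K := Finite.one_lt_card_iff_nontrivial.1 (by rw [hKcard]; omega)
  have hcomm : ∀ u v : K, u * v = v * u := by
    obtain ⟨p, hp, hpd⟩ := Nat.exists_prime_and_dvd (n := Nat.card K) (Finite.one_lt_card).ne'
    haveI := Fact.mk hp
    obtain ⟨w, hw⟩ := exists_prime_orderOf_dvd_card' p hpd
    have hw1 : w ≠ 1 := fun e => by rw [e, orderOf_one] at hw; exact hp.ne_one hw.symm
    have hK : IsPGroup p K := fun u => by
      by_cases hu : u = 1
      · exact ⟨0, by rw [hu, one_pow]⟩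
      obtain ⟨h, hh⟩ := htrK w u hw1 hu
      exact ⟨1, by rw [pow_one, ← hh, ← map_pow, ← hw, pow_orderOf_eq_one, map_one]⟩
    have := hK.center_nontrivial
    obtain ⟨⟨z, hz⟩, hz1⟩ := exists_ne (1 : Subgroup.center K)
    have hz1' : z ≠ 1 := fun e => hz1 (Subtype.ext e)
    intro u v
    by_cases hu : u = 1
    · rw [hu, one_mul, mul_one]
    obtain ⟨h, hh⟩ := htrK z u hz1' hu
    have := congrArg (φ h) (Subgroup.mem_center_iff.1 hz ((φ h).symm v))
    rw [map_mul, map_mul, MulEquiv.apply_symm_apply, hh] at this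
    exact this.symm
  letI : CommGroup K := { (inferInstance : Group K) with mul_comm := hcomm }
  have hfpf : Cfsg.Agent.Frobenius.IsFPF φ := by
    intro h hh k hk
    by_contra hk1
    have e : ι h • ((k : L) • bX) = (k : L) • bX := by rw [← hφ, hk]
    exact hh (Subtype.ext (hf3 h a b (((k : L) • bX : Xa) : α) hab (fun e' => ((k : L) • bX).2 e'.symm)
      (fun e' => hne k hk1 (Subtype.ext e'.symm)) h.2.1 h.2.2 (congrArg Subtype.val e)))
  have hHcard : Nat.card H = Fintype.card α - 2 := by
    have hmem : ∀ h : H, (h : G) • c ∈ (Finset.univ.filter fun x : α => x ≠ a ∧ x ≠ b) := by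
      intro h
      simp only [Finset.mem_filter, Finset.mem_univ, true_and]
      exact ⟨fun e => hac (smul_left_cancel (h : G) ((show (h : G) • a = a from h.2.1).trans e.symm)),
        fun e => hbc (smul_left_cancel (h : G) ((show (h : G) • b = b from h.2.2).trans e.symm))⟩
    have hb2 : Function.Bijective (fun h : H => (⟨(h : G) • c, hmem h⟩ :
        (Finset.univ.filter fun x : α => x ≠ a ∧ x ≠ b : Finset α))) := by
      refine ⟨fun h h' e => ?_, fun x => ?_⟩
      · exact Subtype.ext (Cfsg.Agent.S0728.ext_three hsharp hab hac hbc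
          ((show (h : G) • a = a from h.2.1).trans (show (h' : G) • a = a from h'.2.1).symm)
          ((show (h : G) • b = b from h.2.2).trans (show (h' : G) • b = b from h'.2.2).symm)
          (congrArg Subtype.val e))
      · have hx := (Finset.mem_filter.1 x.2).2
        obtain ⟨g, g1, g2, g3⟩ := htr3 a b c a b x hab hac hbc hab hx.1.symm hx.2.symm
        exact ⟨⟨g, g1, g2⟩, Subtype.ext g3⟩
    rw [Nat.card_congr (Equiv.ofBijective _ hb2), Nat.card_eq_fintype_card, Fintype.card_coe,
      show (Finset.univ.filter fun x : α => x ≠ a ∧ x ≠ b) = Finset.univ \ {a, b} by ext; simp,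
      Finset.card_sdiff_of_subset (Finset.subset_univ _), Finset.card_pair hab, Finset.card_univ]
  obtain ⟨j, hj⟩ := heven
  obtain ⟨M, hM⟩ := Cfsg.Agent.H33.Nearfield.exists_index_two hfpf htrK
    ⟨j - 1, by rw [hKcard]; omega⟩ (by rw [hHcard]; omega) (fun A B hA hB => by
      have h := Cfsg.Agent.S0728.result ⟨j, hj⟩ h6 G h3 hsharp hab (A.map H.subtype) (B.map H.subtype)
        (Subgroup.map_subtype_le A) (Subgroup.map_subtype_le B)
        (by rw [Subgroup.card_map_of_injective H.subtype_injective]; exact hA)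
        (by rw [Subgroup.card_map_of_injective H.subtype_injective]; exact hB)
      exact Subgroup.map_injective H.subtype_injective h)
  have hs2 : s * s = 1 := hf3 _ a b c hab hac hbc (by rw [mul_smul, hsa, hsb]) (by rw [mul_smul, hsb, hsa])
    (by rw [mul_smul, hsc, hsc])
  have hsi : s⁻¹ = s := inv_eq_of_mul_eq_one_right hs2
  have hsmem : ∀ h ∈ H, s * h * s⁻¹ ∈ H := by
    intro h hh
    rw [hsi]
    exact ⟨show _ • a = a by rw [mul_smul, mul_smul, hsa, show h • b = b from hh.2, hsb],
      show _ • b = b by rw [mul_smul, mul_smul, hsb, show h • a = a from hh.1, hsa]⟩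
  let σ : H →* H :=
    { toFun := fun h => ⟨s * h * s⁻¹, hsmem h h.2⟩
      map_one' := Subtype.ext (by simp)
      map_mul' := fun x y => Subtype.ext (by simp [mul_assoc]) }
  obtain ⟨N, hN, hNn, hNs⟩ := exists_invariant_index_two σ (fun x => Subtype.ext (by
    show s * (s * x * s⁻¹) * s⁻¹ = x
    rw [hsi]
    calc s * (s * (x : G) * s) * s = (s * s) * x * (s * s) := by simp only [mul_assoc]
      _ = x := by rw [hs2, one_mul, mul_one])) M hM
  have hcomap : (N.map H.subtype).subgroupOf H = N :=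
    Subgroup.comap_map_eq_self_of_injective H.subtype_injective N
  refine ⟨N.map H.subtype, Subgroup.map_subtype_le N, ?_, ?_, ?_⟩
  · show ((N.map H.subtype).subgroupOf H).Normal
    rw [hcomap]; exact hNn
  · show ((N.map H.subtype).subgroupOf H).index = 2
    rw [hcomap]; exact hN
  · rintro _ ⟨x, hx, rfl⟩
    exact ⟨σ x, hNs x hx, rfl⟩

end Cfsg.Agent.S0729
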