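import Cfsg.Statements.S0730
import Cfsg.Statements.S0730
import Mathlib
import Cfsg.Agent.S0728
import Cfsg.Agent.H33.NearfieldAbelian
import Cfsg.Agent.H33.SharplyThreeField
import Cfsg.Agent.Frobenius.Action
import Cfsg.Agent.Frobenius.KernelTheorem

set_option autoImplicit false
open Cfsg

namespace Cfsg.Agent.S0730

set_option maxHeartbeats 1000000 in
theorem exists_data {α : Type*} [Fintype α] [DecidableEq α] {p f : ℕ} (hp : p.Prime) (hp2 : p ≠ 2)
    (hfo : Odd f) (hα : Fintype.card α = p ^ f + 1) (h4 : 4 ≤ Fintype.card α)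
    (G : Subgroup (Equiv.Perm α)) (h3 : MulAction.IsMultiplyPretransitive G α 3)
    (hsharp : ∀ x : Fin 3 ↪ α, MulAction.stabilizer G x = ⊥) {a b c : α} (hab : a ≠ b) (hac : a ≠ c)
    (hbc : b ≠ c) : Nonempty (Cfsg.Agent.H33.SharpField.Data G α) := by
  classical
  have hf3 : ∀ (g : G) (x y z : α), x ≠ y → x ≠ z → y ≠ z → g • x = x → g • y = y → g • z = z → g = 1 :=
    fun g x y z h1 h2 h4 hx hy hz => Cfsg.Agent.S0728.eq_one_of_three hsharp h1 h2 h4 hx hy hz
  have htr3 : ∀ x y z x' y' z' : α, x ≠ y → x ≠ z → y ≠ z → x' ≠ y' → x' ≠ z' → y' ≠ z' →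
      ∃ g : G, g • x = x' ∧ g • y = y' ∧ g • z = z' := by
    intro x y z x' y' z' h1 h2 h4 h5 h6' h7
    let u : Fin 3 ↪ α := ⟨![x, y, z], by
      intro i j h
      fin_cases i <;> fin_cases j <;> first | rfl | simp_all⟩
    let v : Fin 3 ↪ α := ⟨![x', y', z'], by
      intro i j h
      fin_cases i <;> fin_cases j <;> first | rfl | simp_all⟩
    obtain ⟨g, hg⟩ := MulAction.isMultiplyPretransitive_iff.1 h3 u v
    exact ⟨g, congrArg (fun e : Fin 3 ↪ α => e 0) hg, congrArg (fun e : Fin 3 ↪ α => e 1) hg,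
      congrArg (fun e : Fin 3 ↪ α => e 2) hg⟩
  have hexists : ∀ x y z : α, ∃ w, w ≠ x ∧ w ≠ y ∧ w ≠ z := by
    intro x y z
    obtain ⟨w, hw⟩ := Finset.exists_mem_notMem_of_card_lt_card (s := ({x, y, z} : Finset α)) (t := Finset.univ)
      (lt_of_le_of_lt Finset.card_le_three (by rw [Finset.card_univ]; omega))
    simp only [Finset.mem_insert, Finset.mem_singleton, not_or] at hw
    exact ⟨w, hw.2⟩
  -- the point stabiliser acting on the other points
  let L := MulAction.stabilizer G a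
  let Xa := SubMulAction.ofStabilizer G a
  let bX : Xa := ⟨b, hab.symm⟩
  let cX : Xa := ⟨c, hac.symm⟩
  have hfixX : ∀ g : L, g ≠ 1 → ∀ u v : Xa, g • u = u → g • v = v → u = v := by
    intro g hg u v hu hv
    by_contra huv
    exact hg (Subtype.ext (hf3 g a u v (fun h => u.2 h.symm) (fun h => v.2 h.symm)
      (fun h => huv (Subtype.ext h)) g.2 (congrArg Subtype.val hu) (congrArg Subtype.val hv)))
  have htrX : ∀ u v : Xa, ∃ g : L, g • u = v := by
    intro u v
    obtain ⟨w, hwa, hwu, -⟩ := hexists a u u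
    obtain ⟨w', hwa', hwv, -⟩ := hexists a v v
    obtain ⟨g, g1, g2, -⟩ := htr3 a u w a v w' (fun h => u.2 h.symm) hwa.symm hwu.symm
      (fun h => v.2 h.symm) hwa'.symm hwv.symm
    exact ⟨⟨g, g1⟩, Subtype.ext g2⟩
  have hbot : MulAction.stabilizer L bX ≠ ⊥ := by
    obtain ⟨d, hda, hdb, hdc⟩ := hexists a b c
    obtain ⟨g, g1, g2, g3⟩ := htr3 a b c a b d hab hac hbc hab hda.symm hdb.symm
    intro h
    have hmem : (⟨g, g1⟩ : L) ∈ MulAction.stabilizer L bX := Subtype.ext g2
    rw [h, Subgroup.mem_bot] at hmem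
    have hg1 : g = 1 := congrArg Subtype.val hmem
    rw [hg1, one_smul] at g3
    exact hdc g3.symm
  have htop : MulAction.stabilizer L bX ≠ ⊤ := by
    intro h
    obtain ⟨g, hg⟩ := htrX bX cX
    have : g • bX = bX := (h ▸ Subgroup.mem_top g : g ∈ MulAction.stabilizer L bX)
    exact hbc (congrArg Subtype.val (this.symm.trans hg))
  have hF := Cfsg.Agent.Frobenius.stabilizer_isFrobeniusComplement hfixX bX hbot htop
  let K := Cfsg.Agent.Frobenius.kernel hF
  haveI hKn : K.Normal := Cfsg.Agent.Frobenius.kernel_normal hF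
  have hKmem : ∀ k : L, k ∈ K ↔ k = 1 ∨ ∀ u : Xa, k • u ≠ u := fun k => by
    rw [← SetLike.mem_coe, Cfsg.Agent.Frobenius.coe_kernel hF,
      Cfsg.Agent.Frobenius.kernel_stabilizer_eq htrX]
    rfl
  have hKfree : ∀ k ∈ K, ∀ u : Xa, k • u = u → k = 1 := fun k hk u hu =>
    ((hKmem k).1 hk).resolve_right fun h => h u hu
  have hXcard : Nat.card Xa = Fintype.card α - 1 := by
    show Nat.card {x : α // x ≠ a} = _
    rw [Nat.card_eq_fintype_card, Fintype.card_subtype_compl, Fintype.card_subtype_eq]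
  have hKcard : Nat.card K = Fintype.card α - 1 := by
    haveI : MulAction.IsPretransitive L Xa := ⟨htrX⟩
    rw [← SetLike.coe_sort_coe, Cfsg.Agent.Frobenius.coe_kernel hF, Cfsg.Agent.Frobenius.card_kernel hF,
      MulAction.index_stabilizer_of_transitive, hXcard]
  have hbij : Function.Bijective (fun k : K => (k : L) • bX) := by
    haveI : Fintype K := Fintype.ofFinite _
    haveI : Fintype Xa := Fintype.ofFinite _
    refine (Fintype.bijective_iff_injective_and_card _).2 ⟨fun k k' e => ?_, ?_⟩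
    · have := hKfree ((k' : L)⁻¹ * k) (mul_mem (inv_mem k'.2) k.2) bX
        (by rw [mul_smul, show (k : L) • bX = (k' : L) • bX from e, inv_smul_smul])
      exact Subtype.ext (inv_mul_eq_one.1 this).symm
    · rw [← Nat.card_eq_fintype_card, ← Nat.card_eq_fintype_card, hKcard, hXcard]
  -- the two-point stabiliser acting on the kernel
  let H : Subgroup G := MulAction.stabilizer G a ⊓ MulAction.stabilizer G b
  let ι : H →* L := Subgroup.inclusion inf_le_left
  let φ : H →* MulAut K := (MulAut.conjNormal (H := K)).comp ι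
  have hφ : ∀ (h : H) (k : K), ((φ h k : K) : L) • bX = ι h • ((k : L) • bX) := by
    intro h k
    have hib : (ι h)⁻¹ • bX = bX := by
      rw [inv_smul_eq_iff]; exact (Subtype.ext (show (h : G) • b = b from h.2.2)).symm
    show (ι h * (k : L) * (ι h)⁻¹) • bX = _
    rw [mul_smul, mul_smul, hib]
  have hne : ∀ k : K, k ≠ 1 → (k : L) • bX ≠ bX := fun k hk e =>
    hk (Subtype.ext (hKfree _ k.2 bX e))
  have htrK : ∀ u v : K, u ≠ 1 → v ≠ 1 → ∃ h, φ h u = v := by
    intro u v hu hv
    obtain ⟨g, g1, g2, g3⟩ := htr3 a b (((u : L) • bX : Xa) : α) a b (((v : L) • bX : Xa) : α)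
      hab (fun e' => ((u : L) • bX).2 e'.symm) (fun e' => hne u hu (Subtype.ext e'.symm))
      hab (fun e' => ((v : L) • bX).2 e'.symm) (fun e' => hne v hv (Subtype.ext e'.symm))
    refine ⟨⟨g, g1, g2⟩, hbij.1 ?_⟩
    show ((φ _ u : K) : L) • bX = (v : L) • bX
    rw [hφ]
    exact Subtype.ext g3
  haveI : Nontrivial K := Finite.one_lt_card_iff_nontrivial.1 (by rw [hKcard]; omega)
  have hcomm : ∀ u v : K, u * v = v * u := by
    obtain ⟨p, hp, hpd⟩ := Nat.exists_prime_and_dvd (n := Nat.card K) (Finite.one_lt_card).ne'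
    haveI := Fact.mk hp
    obtain ⟨w, hw⟩ := exists_prime_orderOf_dvd_card' p hpd
    have hw1 : w ≠ 1 := fun e => by rw [e, orderOf_one] at hw; exact hp.ne_one hw.symm
    have hK : IsPGroup p K := fun u => by
      by_cases hu : u = 1
      · exact ⟨0, by rw [hu, one_pow]⟩
      obtain ⟨h, hh⟩ := htrK w u hw1 hu
      exact ⟨1, by rw [pow_one, ← hh, ← map_pow, ← hw, pow_orderOf_eq_one, map_one]⟩
    have := hK.center_nontrivial
    obtain ⟨⟨z, hz⟩, hz1⟩ := exists_ne (1 : Subgroup.center K)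
    have hz1' : z ≠ 1 := fun e => hz1 (Subtype.ext e)
    intro u v
    by_cases hu : u = 1
    · rw [hu, one_mul, mul_one]
    obtain ⟨h, hh⟩ := htrK z u hz1' hu
    have := congrArg (φ h) (Subgroup.mem_center_iff.1 hz ((φ h).symm v))
    rw [map_mul, map_mul, MulEquiv.apply_symm_apply, hh] at this
    exact this.symm
  letI : CommGroup K := { (inferInstance : Group K) with mul_comm := hcomm }
  have hfpf : Cfsg.Agent.Frobenius.IsFPF φ := by
    intro h hh k hk
    by_contra hk1
    have e : ι h • ((k : L) • bX) = (k : L) • bX := by rw [← hφ, hk]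
    exact hh (Subtype.ext (hf3 h a b (((k : L) • bX : Xa) : α) hab (fun e' => ((k : L) • bX).2 e'.symm)
      (fun e' => hne k hk1 (Subtype.ext e'.symm)) h.2.1 h.2.2 (congrArg Subtype.val e)))
  obtain ⟨s, hsa, hsb, hsc⟩ := htr3 a b c b a c hab hac hbc hab.symm hbc hac
  have hs1 : s ≠ 1 := fun e => hab (by rw [← hsa, e, one_smul])
  have hs2 : s * s = 1 := hf3 _ a b c hab hac hbc (by rw [mul_smul, hsa, hsb]) (by rw [mul_smul, hsb, hsa])
    (by rw [mul_smul, hsc, hsc])
  have hsmem : ∀ h ∈ H, s * h * s ∈ H := by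
    intro h hh
    exact ⟨show _ • a = a by rw [mul_smul, mul_smul, hsa, show h • b = b from hh.2, hsb],
      show _ • b = b by rw [mul_smul, mul_smul, hsb, show h • a = a from hh.1, hsa]⟩
  have hss : ∀ x : G, s * (s * x * s) * s = x := fun x => by
    calc s * (s * x * s) * s = (s * s) * x * (s * s) := by group
      _ = x := by rw [hs2, one_mul, mul_one]
  let σ : H ≃* H :=
    { toFun := fun h => ⟨s * h * s, hsmem h h.2⟩
      invFun := fun h => ⟨s * h * s, hsmem h h.2⟩
      left_inv := fun h => Subtype.ext (hss h)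
      right_inv := fun h => Subtype.ext (hss h)
      map_mul' := fun x y => Subtype.ext (by
        show s * ((x : G) * y) * s = s * x * s * (s * y * s)
        calc s * ((x : G) * y) * s = s * x * (s * s) * y * s := by rw [hs2, mul_one]; group
          _ = s * x * s * (s * y * s) := by group) }
  have hfix : Nat.card {x : H // σ x = x} ≤ 2 := by
    by_contra hlt
    push Not at hlt
    haveI := Fintype.ofFinite {x : H // σ x = x}
    rw [Nat.card_eq_fintype_card] at hlt
    obtain ⟨x, y, z, hxy, hxz, hyz⟩ := Fintype.two_lt_card_iff.1 hlt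
    have key : ∀ w : {x : H // σ x = x}, s • ((w.1 : G) • c) = (w.1 : G) • c := fun w => by
      have e : s * (w.1 : G) * s = w.1 := congrArg Subtype.val w.2
      calc s • ((w.1 : G) • c) = (s * (w.1 : G) * s) • c := by rw [mul_smul, mul_smul, hsc]
        _ = _ := by rw [e]
    have inj : ∀ w w' : {x : H // σ x = x}, (w.1 : G) • c = (w'.1 : G) • c → w = w' := fun w w' e =>
      Subtype.ext (Subtype.ext (Cfsg.Agent.S0728.ext_three hsharp hab hac hbc
        ((show (w.1 : G) • a = a from w.1.2.1).trans (show (w'.1 : G) • a = a from w'.1.2.1).symm)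
        ((show (w.1 : G) • b = b from w.1.2.2).trans (show (w'.1 : G) • b = b from w'.1.2.2).symm) e))
    exact hs1 (hf3 s _ _ _ (fun e => hxy (inj x y e)) (fun e => hxz (inj x z e))
      (fun e => hyz (inj y z e)) (key x) (key y) (key z))
  have hKp : Nat.card K = p ^ f := by rw [hKcard, hα, Nat.add_sub_cancel]
  have hHc := Cfsg.Agent.H33.Nearfield.commutative_of_fpf hfpf htrK hp hp2 hfo hKp σ
    (fun x => σ.left_inv x) hfix
  have hT : ∀ k ∈ K.map L.subtype, ∃ k' : K, ((k' : L) : G) = k := by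
    rintro _ ⟨k, hk, rfl⟩
    exact ⟨⟨k, hk⟩, rfl⟩
  refine ⟨{
    a := a, b := b, c := c, hab := hab, hac := hac, hbc := hbc, fix3 := hf3, trans3 := htr3
    T := K.map L.subtype
    T_a := fun k hk => by obtain ⟨k', rfl⟩ := hT k hk; exact (k' : L).2
    T_b := fun x hx => by
      obtain ⟨k, hk⟩ := hbij.2 ⟨x, hx⟩
      exact ⟨_, ⟨(k : L), k.2, rfl⟩, congrArg Subtype.val hk⟩
    T_free := fun k hk hkb => by
      obtain ⟨k', rfl⟩ := hT k hk
      exact congrArg Subtype.val (hKfree _ k'.2 bX (Subtype.ext hkb))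
    T_conj := fun g hg k hk => by
      obtain ⟨k', rfl⟩ := hT k hk
      exact ⟨_, hKn.conj_mem _ k'.2 (⟨g, hg⟩ : L), rfl⟩
    T_odd := fun k hk hk2 => by
      obtain ⟨k', rfl⟩ := hT k hk
      have hodd : Odd (Nat.card K) := hKp ▸ (hp.odd_of_ne_two hp2).pow
      have h2 : k' ^ 2 = 1 := Subtype.ext (Subtype.ext (by rw [pow_two]; exact hk2))
      have h1 : orderOf k' ∣ 2 := orderOf_dvd_of_pow_eq_one h2
      have h3 : Nat.Coprime (orderOf k') 2 :=
        (Nat.coprime_two_right.2 hodd).coprime_dvd_left (orderOf_dvd_natCard k')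
      have h4 : orderOf k' = 1 := Nat.eq_one_of_dvd_coprimes h3 dvd_rfl h1
      rw [orderOf_eq_one_iff] at h4
      rw [h4]; rfl
    H_comm := fun g g' ha hb ha' hb' => congrArg Subtype.val (hHc ⟨g, ha, hb⟩ ⟨g', ha', hb'⟩) }⟩
/-- A sharply triply transitive group of degree `p^f + 1`, `p` an odd prime and `f` odd, is isomorphic to the projective general linear group of degree 2 over the field with `p^f` elements (for even `f` there is a second, twisted, group). -/
theorem result {α : Type*} [Fintype α] [DecidableEq α] {p f : ℕ} (hp : p.Prime) (hp2 : p ≠ 2) (hfo : Odd f) (hα : Fintype.card α = p ^ f + 1) (G : Subgroup (Equiv.Perm α)) (h3 : MulAction.IsMultiplyPretransitive G α 3) (hsharp : ∀ x : Fin 3 ↪ α, MulAction.stabilizer G x = ⊥) : ∃ (F : Type) (_ : Field F) (_ : Fintype F), Fintype.card F = p ^ f ∧ Nonempty (G ≃* Matrix.ProjGenLinGroup (Fin 2) F) := by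
  classical
  have h4 : 4 ≤ Fintype.card α := by
    have := Nat.le_self_pow hfo.pos.ne' p
    have := hp.two_le
    omega
  obtain ⟨a, b, c, hab, hac, hbc⟩ := Fintype.two_lt_card_iff.1 (show 2 < Fintype.card α by omega)
  obtain ⟨D⟩ := exists_data hp hp2 hfo hα h4 G h3 hsharp hab hac hbc
  obtain ⟨F, iF, iFt, hF, he⟩ := D.exists_field (q := p ^ f) hα (fun g hg => Subtype.ext (Equiv.ext hg))
  exact ⟨F, iF, iFt, hF, he⟩

end Cfsg.Agent.S0730
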