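import Cfsg.Statements.S0733
import Mathlib

set_option autoImplicit false
open Cfsg

namespace Cfsg.Agent.S0733

open MulAction Pointwise

/-- A permutation group of affine type — generated by the translations of a finite vector space `V` over `ZMod p` together with a group `G₀` of linear automorphisms — is primitive on `V` if and only if `G₀` is irreducible on `V`. -/
theorem result {p : ℕ} [Fact p.Prime] {V : Type*} [AddCommGroup V] [Module (ZMod p) V] [Finite V] [Nontrivial V] (G₀ : Subgroup (V ≃ₗ[ZMod p] V)) (G : Subgroup (Equiv.Perm V)) (hG : ∀ σ : Equiv.Perm V, σ ∈ G ↔ ∃ g ∈ G₀, ∃ b : V, ∀ x : V, σ x = (g : V ≃ₗ[ZMod p] V) x + b) : MulAction.IsPreprimitive G V ↔ ∀ W : Submodule (ZMod p) V, (∀ g ∈ G₀, ∀ v ∈ W, (g : V ≃ₗ[ZMod p] V) v ∈ W) → W = ⊥ ∨ W = ⊤ := by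
  let tr : V → Equiv.Perm V := fun b => Equiv.addRight b
  have htr : ∀ b, tr b ∈ G := fun b => (hG _).mpr ⟨1, G₀.one_mem, b, fun x => rfl⟩
  have hlin : ∀ g ∈ G₀, (g : V ≃ₗ[ZMod p] V).toEquiv ∈ G := fun g hg =>
    (hG _).mpr ⟨g, hg, 0, fun x => by simp⟩
  constructor
  · intro hP W hW
    have hB : IsBlock G (W : Set V) := by
      rw [isBlock_iff_smul_eq_of_nonempty]
      rintro ⟨σ, hσ⟩ ⟨z, ⟨w, hw, rfl⟩, hz⟩
      obtain ⟨g, hg, b, hb⟩ := (hG σ).mp hσ
      have hbW : b ∈ W := by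
        have e : σ w ∈ W := hz
        rw [hb] at e
        exact (W.add_mem_iff_right (hW g hg w hw)).mp e
      ext x
      constructor
      · rintro ⟨u, hu, rfl⟩
        show σ u ∈ W
        rw [hb]
        exact W.add_mem (hW g hg u hu) hbW
      · intro hx
        refine ⟨(g : V ≃ₗ[ZMod p] V).symm (x - b), hW g⁻¹ (G₀.inv_mem hg) _ (W.sub_mem hx hbW), ?_⟩
        show σ _ = x
        rw [hb, LinearEquiv.apply_symm_apply, sub_add_cancel]
    rcases IsPreprimitive.isTrivialBlock_of_isBlock hB with h | h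
    · exact Or.inl ((Submodule.eq_bot_iff W).mpr fun w hw => h hw W.zero_mem)
    · exact Or.inr (SetLike.coe_injective h)
  · intro hirr
    have : IsPretransitive G V := ⟨fun x y => ⟨⟨tr (y - x), htr _⟩, add_sub_cancel x y⟩⟩
    apply IsPreprimitive.of_isTrivialBlock_base (0 : V)
    intro B h0 hB
    have htB : ∀ b ∈ B, ∀ x ∈ B, x + b ∈ B := by
      intro b hb x hx
      have e := hB.smul_eq_of_mem (g := ⟨tr b, htr b⟩) h0
        (show (0 : V) + b ∈ B by rwa [zero_add])
      rw [← e]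
      exact ⟨x, hx, rfl⟩
    have hneg : ∀ b ∈ B, -b ∈ B := by
      intro b hb
      have e := hB.smul_eq_of_mem (g := ⟨tr (-b), htr _⟩) hb
        (show b + -b ∈ B by rwa [add_neg_cancel])
      rw [← e]
      exact ⟨0, h0, zero_add _⟩
    let A : AddSubgroup V :=
      { carrier := B, zero_mem' := h0, add_mem' := fun {x y} hx hy => htB y hy x hx,
        neg_mem' := fun {x} hx => hneg x hx }
    have hinv : ∀ g ∈ G₀, ∀ v ∈ AddSubgroup.toZModSubmodule p A,
        (g : V ≃ₗ[ZMod p] V) v ∈ AddSubgroup.toZModSubmodule p A := by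
      intro g hg v hv
      have e := hB.smul_eq_of_mem (g := ⟨_, hlin g hg⟩) h0
        (show (g : V ≃ₗ[ZMod p] V) 0 ∈ B by rwa [map_zero])
      show (g : V ≃ₗ[ZMod p] V) v ∈ B
      rw [← e]
      exact ⟨v, hv, rfl⟩
    rcases hirr _ hinv with h | h
    · exact Or.inl fun x hx y hy => by
        rw [(Submodule.eq_bot_iff _).mp h x hx, (Submodule.eq_bot_iff _).mp h y hy]
    · refine Or.inr (Set.eq_univ_of_forall fun x => ?_)
      exact (Submodule.eq_top_iff'.mp h x : x ∈ AddSubgroup.toZModSubmodule p A)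

end Cfsg.Agent.S0733
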