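import Cfsg.Statements.S0734
import Mathlib

set_option autoImplicit false
open Cfsg

namespace Cfsg.Agent.S0734

open MulAction Pointwise

/-- Higman's criterion for primitivity: a transitive action on a finite set is primitive if and only if every non-trivial orbital graph (edges = images of a fixed pair of distinct points) is connected. -/
theorem result {G : Type*} [Group G] {Ω : Type*} [Finite Ω] [MulAction G Ω] [MulAction.IsPretransitive G Ω] [Nontrivial Ω] : MulAction.IsPreprimitive G Ω ↔ ∀ a b : Ω, a ≠ b → (SimpleGraph.fromRel fun x y : Ω => ∃ g : G, g • a = x ∧ g • b = y).Connected := by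
  set R : Ω → Ω → (Ω → Ω → Prop) := fun a b x y => ∃ g : G, g • a = x ∧ g • b = y with hR
  constructor
  · intro hP a b hab
    set Γ := SimpleGraph.fromRel (R a b) with hΓ
    have hadj : ∀ (g : G) (x y : Ω), Γ.Adj x y → Γ.Adj (g • x) (g • y) := by
      intro g x y h
      rw [hΓ, SimpleGraph.fromRel_adj] at h ⊢
      obtain ⟨hne, h⟩ := h
      refine ⟨fun e => hne (MulAction.injective g e), ?_⟩
      rcases h with ⟨k, h1, h2⟩ | ⟨k, h1, h2⟩
      · exact Or.inl ⟨g * k, by rw [mul_smul, h1], by rw [mul_smul, h2]⟩
      · exact Or.inr ⟨g * k, by rw [mul_smul, h1], by rw [mul_smul, h2]⟩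
    have hreach : ∀ (g : G) {x y : Ω}, Γ.Reachable x y → Γ.Reachable (g • x) (g • y) :=
      fun g x y h => h.map ⟨fun z => g • z, fun {u v} huv => hadj g u v huv⟩
    have hB : IsBlock G {x | Γ.Reachable a x} := by
      rw [isBlock_iff_smul_eq_of_nonempty]
      rintro g ⟨-, ⟨z, hz, rfl⟩, hgz⟩
      have h1 : Γ.Reachable a (g • a) := hgz.trans (hreach g hz).symm
      ext x
      constructor
      · rintro ⟨w, hw, rfl⟩
        exact h1.trans (hreach g hw)
      · intro hx
        refine ⟨g⁻¹ • x, ?_, smul_inv_smul g x⟩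
        have := hreach g⁻¹ (h1.symm.trans hx)
        rwa [inv_smul_smul] at this
    have hedge : Γ.Adj a b := ⟨hab, Or.inl ⟨1, one_smul _ _, one_smul _ _⟩⟩
    rcases IsPreprimitive.isTrivialBlock_of_isBlock hB with h | h
    · exact absurd (h (show Γ.Reachable a a from .refl a) hedge.reachable) hab
    · exact (SimpleGraph.connected_iff_exists_forall_reachable Γ).mpr
        ⟨a, fun x => (h.symm ▸ Set.mem_univ x : x ∈ {x | Γ.Reachable a x})⟩
  · intro hconn
    refine ⟨fun {B} hB => ?_⟩
    rcases B.subsingleton_or_nontrivial with h | ⟨a, ha, b, hb, hab⟩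
    · exact Or.inl h
    · refine Or.inr (Set.eq_univ_of_forall fun z => ?_)
      have hclosed : ∀ x y : Ω, (SimpleGraph.fromRel (R a b)).Adj x y → x ∈ B → y ∈ B := by
        intro x y h hx
        rw [SimpleGraph.fromRel_adj] at h
        rcases h.2 with ⟨g, h1, h2⟩ | ⟨g, h1, h2⟩
        · rw [← hB.smul_eq_of_mem ha (show g • a ∈ B by rw [h1]; exact hx), ← h2]
          exact Set.smul_mem_smul_set hb
        · rw [← hB.smul_eq_of_mem hb (show g • b ∈ B by rw [h2]; exact hx), ← h1]
          exact Set.smul_mem_smul_set ha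
      have key : ∀ {x y : Ω}, (SimpleGraph.fromRel (R a b)).Walk x y → x ∈ B → y ∈ B := by
        intro x y w
        induction w with
        | nil => exact id
        | cons h _ ih => exact fun hx => ih (hclosed _ _ h hx)
      obtain ⟨w⟩ := (hconn a b hab).preconnected a z
      exact key w ha

end Cfsg.Agent.S0734
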