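import Cfsg.Statements.S0740
import Mathlib
import Cfsg.Agent.H33.Zassenhaus

set_option autoImplicit false
open Cfsg

namespace Cfsg.Agent.S0740

open MulAction Cfsg.Agent.H33

/-- In a finite Zassenhaus group any two points `a ≠ b` are swapped by an involution; every such involution has exactly one fixed point when the degree is odd and 0 or 2 fixed points when the degree is even; and if the two-point stabiliser has even order, some such involution has exactly 2 fixed points. -/
theorem result {G Ω : Type*} [Group G] [Finite G] [MulAction G Ω] [Fintype Ω] (hZ : Cfsg.IsZassenhausGroup G Ω) {a b : Ω} (hab : a ≠ b) : (∃ s : G, orderOf s = 2 ∧ s • a = b ∧ s • b = a) ∧ (∀ s : G, orderOf s = 2 → s • a = b → s • b = a → (Odd (Fintype.card Ω) → Nat.card (MulAction.fixedBy Ω s) = 1) ∧ (Even (Fintype.card Ω) → Nat.card (MulAction.fixedBy Ω s) = 0 ∨ Nat.card (MulAction.fixedBy Ω s) = 2)) ∧ (Even (Fintype.card Ω) → Even (Nat.card ↥(MulAction.stabilizer G a ⊓ MulAction.stabilizer G b)) → ∃ s : G, orderOf s = 2 ∧ s • a = b ∧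 s • b = a ∧ Nat.card (MulAction.fixedBy Ω s) = 2) := by
  classical
  haveI := hZ.1
  haveI : Fact (Nat.Prime 2) := ⟨Nat.prime_two⟩
  have hne1 : ∀ s : G, orderOf s = 2 → s ≠ 1 := fun s hs e => by simp [e] at hs
  refine ⟨zas_exists_swap hZ hab, fun s hs ha hb => ?_, fun hE hH => ?_⟩
  · have hle := zas_ncard_fixedBy_le hZ (hne1 s hs)
    have hinv : Function.Involutive (fun x : Ω => s • x) := fun x => by
      show s • s • x = x
      rw [smul_smul, ← pow_two, ← hs, pow_orderOf_eq_one, one_smul]
    have hmod := Equiv.Perm.card_fixedPoints_modEq (p := 2) (n := 1)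
      (f := fun x : Ω => s • x) (by funext x; exact hinv x)
    have e : Fintype.card (Function.fixedPoints fun x : Ω => s • x)
        = Nat.card (fixedBy Ω s) := by
      rw [← Nat.card_eq_fintype_card]; rfl
    rw [e, Nat.ModEq] at hmod
    simp only [Nat.odd_iff, Nat.even_iff]
    omega
  · obtain ⟨z, hz⟩ := exists_prime_orderOf_dvd_card' (G := ↥(stabilizer G a ⊓ stabilizer G b)) 2
      (even_iff_two_dvd.mp hH)
    rw [← Subgroup.orderOf_coe] at hz
    have hfix := zas_fixed_of_pair hZ (hne1 _ hz) hab z.2.1 z.2.2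
    obtain ⟨x, hx⟩ : ∃ x : Ω, (z : G) • x ≠ x := by
      by_contra h
      push Not at h
      exact hne1 _ hz (eq_of_smul_eq_smul fun x : Ω => by rw [h x, one_smul])
    have hzz : (z : G) • (z : G) • x = x := by
      rw [smul_smul, ← pow_two, ← hz, pow_orderOf_eq_one, one_smul]
    obtain ⟨k, hka, hkb⟩ := zas_map_pair hZ (Ne.symm hx) hab
    refine ⟨k * z * k⁻¹, ?_, ?_, ?_, ?_⟩
    · rw [← hz]; exact (MulAut.conj k).orderOf_eq _
    · rw [mul_smul, mul_smul, inv_smul_eq_iff.mpr hka.symm, hkb]
    · rw [mul_smul, mul_smul, inv_smul_eq_iff.mpr hkb.symm, hzz, hka]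
    · have e : fixedBy Ω (k * z * k⁻¹) = (fun y => k • y) '' fixedBy Ω (z : G) := by
        ext y
        simp only [mem_fixedBy, Set.mem_image]
        constructor
        · intro h
          refine ⟨k⁻¹ • y, ?_, smul_inv_smul k y⟩
          rw [mul_smul, mul_smul] at h
          nth_rewrite 2 [← h]
          rw [inv_smul_smul]
        · rintro ⟨w, hw, rfl⟩
          rw [mul_smul, inv_smul_smul, mul_smul, hw]
      rw [e, Nat.card_coe_set_eq, Set.ncard_image_of_injective _ (MulAction.injective k), hfix,
        Set.ncard_pair hab]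

end Cfsg.Agent.S0740
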