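import Cfsg.Statements.S0743
import Mathlib
import Cfsg.Agent.H33.Trans

set_option autoImplicit false
open Cfsg

namespace Cfsg.Agent.S0743

/-- Gleason's Lemma: let `p` be a prime and `1 ≤ k < n`; if every `k`-subset of the `n` points is exactly the fixed-point set of some `p`-subgroup of `G`, then `G` is `k`-transitive. -/
theorem result {α : Type*} [Fintype α] [DecidableEq α] (G : Subgroup (Equiv.Perm α)) {p k : ℕ} (hp : p.Prime) (hk : 1 ≤ k) (hkn : k < Fintype.card α) (h : ∀ s : Finset α, s.card = k → ∃ P : Subgroup G, IsPGroup p P ∧ MulAction.fixedPoints P α = (s : Set α)) : MulAction.IsMultiplyPretransitive G α k := by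
  refine Cfsg.Agent.H33.pretransitive_of_fixing hkn fun t ht => ?_
  intro x hx y hy
  refine Cfsg.Agent.H33.fixing_transitive t (r := p) hp.two_le (fun z hz => ?_) hx hy
  obtain ⟨P, hP, hfix⟩ := h (insert z t) (by rw [Finset.card_insert_of_notMem hz, ht])
  refine ⟨P, fun g hg => ?_, fun w hw hwz => ?_⟩
  · have hmem : ∀ u ∈ insert z t, g • u = u := fun u hu => by
      have : u ∈ MulAction.fixedPoints P α := by rw [hfix]; exact hu
      exact this ⟨g, hg⟩
    exact ⟨hmem z (Finset.mem_insert_self _ _), fun u hu => hmem u (Finset.mem_insert_of_mem hu)⟩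
  · have : Fact p.Prime := ⟨hp⟩
    obtain ⟨n, hn⟩ := hP.card_orbit w
    rcases n with _ | n
    · exfalso
      have hsing : ∀ g : P, g • w = w := by
        intro g
        have h1 : (MulAction.orbit P w).ncard = 1 := by
          rw [← Nat.card_coe_set_eq, hn, pow_zero]
        obtain ⟨u, hu⟩ := Set.ncard_eq_one.mp h1
        have e1 : g • w ∈ ({u} : Set α) := hu ▸ MulAction.mem_orbit w g
        have e2 : w ∈ ({u} : Set α) := hu ▸ MulAction.mem_orbit_self w
        rw [Set.mem_singleton_iff] at e1 e2
        rw [e1, e2]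
      have : w ∈ ((insert z t : Finset α) : Set α) := hfix ▸ hsing
      simp [hw, hwz] at this
    · rw [← Nat.card_coe_set_eq, hn]
      exact dvd_pow_self p (by omega)

end Cfsg.Agent.S0743
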