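import Cfsg.Statements.S0744
import Mathlib
import Cfsg.Agent.H33.Trans

set_option autoImplicit false
open Cfsg

namespace Cfsg.Agent.S0744

open MulAction in
theorem orbit_size {α : Type*} [Fintype α] [DecidableEq α] (G : Subgroup (Equiv.Perm α))
    (s : Finset α) (y : α) (hy : y ∉ s) :
    (orbit (fixingSubgroup G (s : Set α)) y).ncard
      * Nat.card (fixingSubgroup G ((insert y s : Finset α) : Set α))
      = Nat.card (fixingSubgroup G (s : Set α)) := by
  set P := fixingSubgroup G (s : Set α) with hP
  rw [← (stabilizer P y).index_mul_card, index_stabilizer]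
  congr 1
  refine Nat.card_congr
    { toFun := fun g => ⟨⟨g.1, ?_⟩, ?_⟩
      invFun := fun g => ⟨g.1.1, ?_⟩
      left_inv := fun g => rfl
      right_inv := fun g => rfl }
  · rw [hP, mem_fixingSubgroup_iff]
    intro z hz
    exact (mem_fixingSubgroup_iff G).mp g.2 z (Finset.mem_insert_of_mem hz)
  · exact (mem_fixingSubgroup_iff G).mp g.2 y (Finset.mem_insert_self y s)
  · rw [mem_fixingSubgroup_iff]
    intro z hz
    rcases Finset.mem_insert.mp hz with rfl | hz
    · exact g.2
    · exact (mem_fixingSubgroup_iff G).mp g.1.2 z hz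

/-- If for some `k > 1` the pointwise stabilisers of all `(k-1)`-subsets have the same order `> 1` and those of all `k`-subsets have the same order, then the group is `(k-1)`-transitive. -/
theorem result {α : Type*} [Fintype α] [DecidableEq α] (G : Subgroup (Equiv.Perm α)) {k : ℕ} (hk : 1 < k) (hkn : k ≤ Fintype.card α) (l m : ℕ) (hl : 1 < l) (hkm1 : ∀ s : Finset α, s.card = k - 1 → Nat.card (fixingSubgroup G (s : Set α)) = l) (hkm : ∀ s : Finset α, s.card = k → Nat.card (fixingSubgroup G (s : Set α)) = m) : MulAction.IsMultiplyPretransitive G α (k - 1) := by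
  classical
  have hr2 : ∀ s : Finset α, s.card = k - 1 → ∀ y ∉ s,
      (MulAction.orbit (fixingSubgroup G (s : Set α)) y).ncard * m = l := by
    intro s hs y hy
    have := orbit_size G s y hy
    rwa [hkm (insert y s) (by rw [Finset.card_insert_of_notMem hy, hs]; omega), hkm1 s hs] at this
  obtain ⟨s₀, -, hs₀⟩ := Finset.exists_subset_card_eq (s := (Finset.univ : Finset α)) (n := k - 1)
    (by rw [Finset.card_univ]; omega)
  obtain ⟨y₀, -, hy₀⟩ := Finset.exists_mem_notMem_of_card_lt_card
    (s := s₀) (t := Finset.univ) (by rw [hs₀, Finset.card_univ]; omega)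
  set r := (MulAction.orbit (fixingSubgroup G (s₀ : Set α)) y₀).ncard with hr
  have hlm := hr2 s₀ hs₀ y₀ hy₀
  have hm0 : 0 < m := Nat.pos_of_ne_zero fun h => by rw [h, mul_zero] at hlm; omega
  have horb : ∀ s : Finset α, s.card = k - 1 → ∀ y ∉ s,
      (MulAction.orbit (fixingSubgroup G (s : Set α)) y).ncard = r := fun s hs y hy =>
    Nat.eq_of_mul_eq_mul_right hm0 ((hr2 s hs y hy).trans hlm.symm)
  have hr1 : 2 ≤ r := by
    by_contra hcon
    have hfix : ∀ g : fixingSubgroup G (s₀ : Set α), g = 1 := by
      intro g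
      refine Subtype.ext (Subtype.ext (Equiv.ext fun y => ?_))
      show ((g : G) : Equiv.Perm α) y = y
      rcases Decidable.em (y ∈ s₀) with hy | hy
      · exact (mem_fixingSubgroup_iff G).mp g.2 y hy
      · have hle : (MulAction.orbit (fixingSubgroup G (s₀ : Set α)) y).ncard ≤ 1 := by
          rw [horb s₀ hs₀ y hy]; omega
        exact (Set.ncard_le_one (Set.toFinite _)).mp hle _ (MulAction.mem_orbit y g) _
          (MulAction.mem_orbit_self y)
    have : Subsingleton (fixingSubgroup G (s₀ : Set α)) := ⟨fun a b => by rw [hfix a, hfix b]⟩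
    have := hkm1 s₀ hs₀
    rw [Nat.card_unique] at this
    omega
  refine Cfsg.Agent.H33.pretransitive_of_fixing (by omega) fun t ht x hx y hy => ?_
  refine Cfsg.Agent.H33.fixing_transitive t hr1 (fun z hz => ?_) hx hy
  refine ⟨fixingSubgroup G ((insert z t : Finset α) : Set α), fun g hg => ?_, fun w hw hwz => ?_⟩
  · rw [mem_fixingSubgroup_iff] at hg
    exact ⟨hg z (Finset.mem_insert_self _ _), fun u hu => hg u (Finset.mem_insert_of_mem hu)⟩
  · rw [horb (insert z t) (by rw [Finset.card_insert_of_notMem hz]; omega) w (by simp [hw, hwz])]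

end Cfsg.Agent.S0744
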