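import Cfsg.Statements.S0745
import Cfsg.Agent.Perm.HomogeneousSmall
import Cfsg.Agent.Perm.HomogeneousPairing

set_option autoImplicit false
open Cfsg Cfsg.Agent.Perm

namespace Cfsg.Agent.S0745

/-- Let `G` have degree `n` and `3 ≤ k ≤ n`; suppose `G` is `(k-2)`-transitive but not `(k-1)`-transitive, and is `(k-1)`-homogeneous and `k`-homogeneous. Then `k = n` and `G` is the alternating group, or `n = 5, k = 4, |G| = 20`, or `n = 6, k = 5, |G| = 120`, or `n = 9, k = 5, |G| ∈ {504, 1512}`. -/
theorem result {α : Type*} [Fintype α] [DecidableEq α] (G : Subgroup (Equiv.Perm α)) {k : ℕ} (hk : 3 ≤ k) (hkn : k ≤ Fintype.card α) (ht : MulAction.IsMultiplyPretransitive G α (k - 2)) (hnt : ¬ MulAction.IsMultiplyPretransitive G α (k - 1)) (hh1 : MulAction.IsPretransitive G (Set.powersetCard α (k - 1))) (hh : MulAction.IsPretransitive G (Set.powersetCard α k)) : (k = Fintype.card α ∧ G = alternatingGroup α) ∨ (Fintype.card α = 5 ∧ k = 4 ∧ Nat.card G = 20) ∨ (Fintype.card α = 6 ∧ k = 5 ∧ Nat.card G = 120) ∨ (Fintype.card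 α = 9 ∧ k = 5 ∧ (Nat.card G = 504 ∨ Nat.card G = 1512)) := by
  classical
  have hn' : Nat.card α = Fintype.card α := Nat.card_eq_fintype_card
  rcases eq_or_lt_of_le hkn with hkn' | hlt
  · refine Or.inl ⟨hkn', eq_alternating_of_ne_top ?_ ?_⟩
    · apply IsMultiplyPretransitive.alternatingGroup_le
      rwa [hn', ← hkn']
    · intro htop
      apply hnt
      rw [htop]
      have h := Equiv.Perm.isMultiplyPretransitive α (k - 1)
      refine ⟨fun x y => ?_⟩
      obtain ⟨g, hg⟩ := h.exists_smul_eq x y
      exact ⟨⟨g, Subgroup.mem_top g⟩, hg⟩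
  refine Or.inr ?_
  -- the range `2 k ≤ n` and the range `6 ≤ k` are excluded by the general theorems
  have hbig : Fintype.card α < 2 * k := by
    by_contra h
    exact hnt (transitive_pred_of_homogeneous k (by omega) (by omega) hh)
  have hk6 : k < 6 := by
    by_contra h
    exact hnt (transitive_of_homogeneous (j := k - 1) (by omega) (by omega) hh1 ht)
  have hA := not_alternating_le hnt (by omega)
  interval_cases k
  · obtain ⟨n, hn, h45⟩ : ∃ n, Fintype.card α = n ∧ (n = 4 ∨ n = 5) := ⟨_, rfl, by omega⟩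
    exact absurd (two_transitive_small hn h45 ht hh1) hnt
  · obtain hn | hn | hn : Fintype.card α = 5 ∨ Fintype.card α = 6 ∨ Fintype.card α = 7 := by omega
    · refine Or.inl ⟨hn, rfl, ?_⟩
      rw [card_of_index_ge (by omega) ht (by omega) hA (a := 6) (by rw [hn]; rfl) (by omega), hn]; rfl
    · exact (six_four_false hn ht hnt hh1 hh).elim
    · exact (seven_eight_false (Or.inl rfl) hn ht hnt hh1).elim
  · obtain hn | hn | hn | hn : Fintype.card α = 6 ∨ Fintype.card α = 7 ∨ Fintype.card α = 8 ∨
        Fintype.card α = 9 := by omega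
    · refine Or.inr (Or.inl ⟨hn, rfl, ?_⟩)
      rw [card_of_index_ge (by omega) ht (by omega) hA (a := 6) (by rw [hn]; rfl) (by omega), hn]; rfl
    · exact (seven_five_false hn ht hnt hh1 hh).elim
    · exact (seven_eight_false (Or.inr rfl) hn ht hnt hh1).elim
    · refine Or.inr (Or.inr ⟨hn, rfl, ?_⟩)
      obtain ⟨x⟩ : Nonempty (Fin 3 ↪ α) := Function.Embedding.nonempty_of_card_le (by simp; omega)
      by_cases hev : OddFree G 4
      · have hG := card_eq_descFactorial_mul ht x
        rw [hn, show Nat.descFactorial 9 3 = 504 from rfl] at hG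
        rcases oddFree_nine_card hn ht hnt hev x with h | h <;> rw [h] at hG <;> omega
      · exact (not_oddFree_nine_false hn ht hnt hh1 hh hev).elim

end Cfsg.Agent.S0745
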