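import Cfsg.Statements.S0751
import Cfsg.Agent.H33.Hermitian

set_option autoImplicit false
open Cfsg

namespace Cfsg.Agent.S0751

/-- Witt's Lemma for Hermitian forms. Let σ be a non-identity involutive automorphism of a finite field F and B a non-degenerate σ-sesquilinear form on a finite-dimensional F-space V which is conjugate-symmetric (σ (B x y) = B y x). Then every linear equivalence between subspaces X, Y of V preserving B extends to a B-preserving linear automorphism of V. -/
theorem result {F V : Type*} [Field F] [Finite F] [AddCommGroup V] [Module F V] [FiniteDimensional F V] (σ : F →+* F) (hσ : σ ≠ RingHom.id F) (hσ2 : ∀ a : F, σ (σ a) = a) (B : V →ₛₗ[σ] V →ₗ[F] F) (hS : B.IsSymm) (hB : B.Nondegenerate) (X Y : Submodule F V) (φ : X ≃ₗ[F] Y) (hφ : ∀ x x' : X, B (φ x : V) (φ x' : V) = B (x : V) (x' : V)) : ∃ g : V ≃ₗ[F] V, (∀ u v : V, B (g u) (g v) = B u v) ∧ ∀ x : X, g (x : V) = (φ x : V) := by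
  haveI : Fintype F := Fintype.ofFinite F
  obtain ⟨q, hq, hσq⟩ := Cfsg.Agent.H33.exists_card_eq_sq σ hσ hσ2
  obtain ⟨b, hb⟩ := Cfsg.Agent.H33.exists_orthonormal hσ hσ2 B hS hB
  let T : V ≃ₗ[F] (Fin (Module.finrank F V) → F) := b.equivFun
  have hT : ∀ x y : V, hermForm _ F q (T x) (T y) = B y x := by
    intro x y
    have h1 : ∀ j, B (b j) x = T x j := by
      intro j
      conv_lhs => rw [← b.sum_equivFun x]
      simp only [map_sum, map_smul, hb, T, smul_eq_mul, mul_ite, mul_one, mul_zero, Finset.sum_ite_eq,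
        Finset.mem_univ, if_true]
    conv_rhs => rw [← b.sum_equivFun y]
    simp only [map_sum, map_smulₛₗ, LinearMap.coe_sum, Finset.sum_apply, LinearMap.smul_apply,
      smul_eq_mul, h1, hσq]
    exact Finset.sum_congr rfl fun j _ => mul_comm _ _
  let e := T.submoduleMap X
  let φ' : Submodule.map (T : V →ₗ[F] (Fin (Module.finrank F V) → F)) X →ₗ[F]
      (Fin (Module.finrank F V) → F) :=
    (T : V →ₗ[F] (Fin (Module.finrank F V) → F)).comp
      (Y.subtype.comp ((φ : X →ₗ[F] Y).comp (e.symm : _ →ₗ[F] X)))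
  have hval : ∀ u : Submodule.map (T : V →ₗ[F] (Fin (Module.finrank F V) → F)) X,
      (u : Fin (Module.finrank F V) → F) = T (e.symm u : V) := by
    intro u
    exact (congrArg Subtype.val (e.apply_symm_apply u)).symm
  have hinj : Function.Injective φ' :=
    T.injective.comp (Subtype.val_injective.comp (φ.injective.comp e.symm.injective))
  obtain ⟨g, hg⟩ := Cfsg.Agent.H33.witt_hermForm hq _ φ' hinj (by
    intro u w
    rw [hval u, hval w, hT]
    exact (hT _ _).trans (hφ _ _))
  let G : (Fin (Module.finrank F V) → F) ≃ₗ[F] (Fin (Module.finrank F V) → F) :=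
    LinearEquiv.ofBijective (Matrix.mulVecLin (Cfsg.Agent.Unitary.gmat g))
      ⟨Cfsg.Agent.Unitary.gap_injective g, fun y => ⟨_, Cfsg.Agent.Unitary.gap_gap_inv g y⟩⟩
  have hG : ∀ x, G x = Cfsg.Agent.Unitary.gap g x := fun _ => rfl
  refine ⟨(T.trans G).trans T.symm, fun u v => ?_, fun x => ?_⟩
  · rw [← hT, ← hT v u]
    simp only [LinearEquiv.trans_apply, LinearEquiv.apply_symm_apply, hG, Cfsg.Agent.Unitary.herm_gap]
  · apply T.injective
    simp only [LinearEquiv.trans_apply, LinearEquiv.apply_symm_apply, hG]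
    have h2 := hg (e x)
    have h3 : φ' (e x) = T (φ x : V) := by
      show T (φ (e.symm (e x)) : V) = _
      rw [e.symm_apply_apply]
    rw [← h3, ← h2]
    rfl

end Cfsg.Agent.S0751
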