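import Cfsg.Statements.S0756
import Mathlib

set_option autoImplicit false
open Cfsg

namespace Cfsg.Agent.S0756

open Polynomial in
theorem exists_sq_comb {F : Type*} [Field F] [Fintype F] (h2 : ringChar F ≠ 2) (a b : F) (ha : a ≠ 0)
    (hb : b ≠ 0) : ∃ x y : F, a * x ^ 2 + b * y ^ 2 = 1 := by
  obtain ⟨x, y, h⟩ := FiniteField.exists_root_sum_quadratic
    (f := C a * X ^ 2 + C 0 * X + C (-1)) (g := C b * X ^ 2 + C 0 * X + C 0)
    (degree_quadratic ha) (degree_quadratic hb) (FiniteField.odd_card_of_char_ne_two h2)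
  refine ⟨x, y, ?_⟩
  simp at h
  linear_combination h

theorem core {F V : Type*} [Field F] [Fintype F] (h2 : ringChar F ≠ 2) {α : F} (hα : ¬ IsSquare α)
    [AddCommGroup V] [Module F V] [FiniteDimensional F V] (B : LinearMap.BilinForm F V) (hS : B.IsSymm) :
    ∀ (n : ℕ) (W : Submodule F V), Module.finrank F W = n + 1 →
      (∀ u ∈ W, (∀ v ∈ W, B u v = 0) → u = 0) →
      ∃ f : Fin (n + 1) → V, (∀ i, f i ∈ W) ∧ (∀ i j, i ≠ j → B (f i) (f j) = 0) ∧
        (∀ i, i ≠ Fin.last n → B (f i) (f i) = 1) ∧
        (B (f (Fin.last n)) (f (Fin.last n)) = 1 ∨ B (f (Fin.last n)) (f (Fin.last n)) = α) := by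
  have h2' : (2 : F) ≠ 0 := Ring.two_ne_zero h2
  have hα0 : α ≠ 0 := fun h => hα (h ▸ IsSquare.zero)
  have hsymm : ∀ x y : V, B x y = B y x := fun x y => hS.eq x y
  intro n
  induction n with
  | zero =>
    intro W hd hW
    have hne : W ≠ ⊥ := fun h => by rw [h, finrank_bot] at hd; omega
    obtain ⟨v, hvW, hv0⟩ := W.exists_mem_ne_zero_of_ne_bot hne
    have hline : ∀ w ∈ W, ∃ t : F, t • v = w := by
      intro w hw
      have hle : Submodule.span F {v} ≤ W := (Submodule.span_singleton_le_iff_mem _ _).2 hvW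
      have := Submodule.eq_of_le_of_finrank_le hle (by rw [hd, finrank_span_singleton hv0])
      exact Submodule.mem_span_singleton.1 (this ▸ hw)
    have hc : B v v ≠ 0 := by
      intro hc
      refine hv0 (hW v hvW fun w hw => ?_)
      obtain ⟨t, rfl⟩ := hline w hw
      rw [map_smul, hc, smul_zero]
    have : ∃ t : F, t * t * B v v = 1 ∨ t * t * B v v = α := by
      by_cases hsq : IsSquare (B v v)
      · obtain ⟨s, hs⟩ := hsq
        have hs0 : s ≠ 0 := fun h => hc (by rw [hs, h, mul_zero])
        exact ⟨s⁻¹, Or.inl (by rw [hs]; field_simp)⟩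
      · have hq : IsSquare (α / B v v) := by
          rw [FiniteField.isSquare_iff h2 (div_ne_zero hα0 hc), div_pow]
          have e1 := (FiniteField.pow_dichotomy h2 hα0).resolve_left
            (fun h => hα ((FiniteField.isSquare_iff h2 hα0).2 h))
          have e2 := (FiniteField.pow_dichotomy h2 hc).resolve_left
            (fun h => hsq ((FiniteField.isSquare_iff h2 hc).2 h))
          rw [e1, e2, div_self (neg_ne_zero.2 one_ne_zero)]
        obtain ⟨t, ht⟩ := hq
        exact ⟨t, Or.inr (by rw [← ht, div_mul_cancel₀ α hc])⟩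
    obtain ⟨t, ht⟩ := this
    refine ⟨fun _ => t • v, fun _ => W.smul_mem t hvW, fun i j hij => absurd (Fin.ext (by omega)) hij,
      fun i hi => absurd (Fin.ext (by simp only [Fin.val_last]; omega)) hi, ?_⟩
    simpa [mul_assoc] using ht
  | succ n ih =>
    intro W hd hW
    haveI : Invertible (2 : F) := invertibleOfNonzero h2'
    obtain ⟨e, he⟩ := LinearMap.BilinForm.exists_orthogonal_basis
      (B := (B.restrict W)) ⟨fun x y => hsymm x y⟩
    have hne : ∀ i, B (e i : V) (e i : V) ≠ 0 := by
      intro i hi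
      refine e.ne_zero i (Subtype.ext (hW _ (e i).2 fun w hw => ?_))
      have : ((∑ j, e.repr ⟨w, hw⟩ j • e j : W) : V) = w := congrArg Subtype.val (e.sum_repr ⟨w, hw⟩)
      rw [← this, Submodule.coe_sum, map_sum]
      refine Finset.sum_eq_zero fun j _ => ?_
      rw [Submodule.coe_smul, map_smul]
      by_cases hij : i = j
      · rw [← hij, hi, smul_zero]
      · rw [show B (e i : V) (e j : V) = 0 from he hij, smul_zero]
    obtain ⟨v, hvW, hv⟩ : ∃ v ∈ W, B v v = 1 := by
      let i0 : Fin (Module.finrank F W) := ⟨0, by omega⟩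
      let i1 : Fin (Module.finrank F W) := ⟨1, by omega⟩
      have h01 : i0 ≠ i1 := by simp [i0, i1]
      obtain ⟨x, y, hxy⟩ := exists_sq_comb h2 _ _ (hne i0) (hne i1)
      refine ⟨x • (e i0 : V) + y • (e i1 : V), W.add_mem (W.smul_mem _ (e i0).2) (W.smul_mem _ (e i1).2), ?_⟩
      have a1 : B (e i0 : V) (e i1 : V) = 0 := he h01
      have a2 : B (e i1 : V) (e i0 : V) = 0 := he h01.symm
      simp only [map_add, map_smul, LinearMap.add_apply, LinearMap.smul_apply, smul_eq_mul, a1, a2]
      linear_combination hxy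
    let W' : Submodule F V := W ⊓ LinearMap.ker (B v)
    have hsplit : ∀ x ∈ W, x - B v x • v ∈ W' := fun x hx =>
      ⟨W.sub_mem hx (W.smul_mem _ hvW), show B v (x - B v x • v) = 0 by
        rw [map_sub, map_smul, hv, smul_eq_mul, mul_one, sub_self]⟩
    have hlt : Module.finrank F W' = n + 1 := by
      have hsup : Submodule.span F {v} ⊔ W' = W := by
        refine le_antisymm (sup_le ((Submodule.span_singleton_le_iff_mem _ _).2 hvW) inf_le_left) ?_
        intro x hx
        rw [← add_sub_cancel (B v x • v) x]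
        exact Submodule.add_mem_sup (Submodule.smul_mem _ _ (Submodule.mem_span_singleton_self v))
          (hsplit x hx)
      have hdis : Submodule.span F {v} ⊓ W' = ⊥ := by
        rw [eq_bot_iff]
        rintro x ⟨hx, -, hx'⟩
        obtain ⟨c, rfl⟩ := Submodule.mem_span_singleton.1 hx
        have hx'' : B v (c • v) = 0 := hx'
        rw [map_smul, hv, smul_eq_mul, mul_one] at hx''
        simp [hx'']
      have h1 := Submodule.finrank_sup_add_finrank_inf_eq (Submodule.span F {v}) W'
      have hv0 : v ≠ 0 := fun h0 => by simp [h0] at hv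
      rw [hsup, hd, hdis, finrank_bot, finrank_span_singleton hv0] at h1
      omega
    have hW' : ∀ u ∈ W', (∀ x ∈ W', B u x = 0) → u = 0 := by
      intro u hu h
      refine hW u hu.1 fun x hx => ?_
      have h1 := h _ (hsplit x hx)
      have h3 : B u v = 0 := (hsymm u v).trans hu.2
      rwa [map_sub, map_smul, h3, smul_zero, sub_zero] at h1
    obtain ⟨f, hfW, hf, hf1, hflast⟩ := ih W' hlt hW'
    have hvf : ∀ i, B v (f i) = 0 := fun i => (hfW i).2
    refine ⟨Fin.cons v f, Fin.cases (by simpa using hvW) (fun i => by simpa using (hfW i).1), ?_, ?_, ?_⟩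
    · intro i j
      refine Fin.cases ?_ (fun i => ?_) i <;> refine Fin.cases ?_ (fun j => ?_) j <;> intro hij
      · exact absurd rfl hij
      · simpa using hvf j
      · simpa [hsymm (f i) v] using hvf i
      · simpa using hf i j (fun h => hij (congrArg Fin.succ h))
    · intro i
      refine Fin.cases ?_ (fun i => ?_) i <;> intro hi
      · simpa using hv
      · simpa using hf1 i (fun h => hi (by rw [h, Fin.succ_last]))
    · rw [← Fin.succ_last]
      simpa using hflast

/-- Classification of symmetric bilinear forms over finite fields of odd characteristic: if B is non-degenerate symmetric on V of dimension n + 1 and α is a fixed non-square of F, there is an orthogonal basis b_0, ..., b_n with B(b_i, b_i) = 1 for i < n and B(b_n, b_n) ∈ {1, α}. -/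
theorem result {F V : Type*} [Field F] [Finite F] [AddCommGroup V] [Module F V] [FiniteDimensional F V] (h2 : (2 : F) ≠ 0) (B : LinearMap.BilinForm F V) (hS : B.IsSymm) (hB : B.Nondegenerate) {n : ℕ} (hn : Module.finrank F V = n + 1) (α : F) (hα : ¬ IsSquare α) : ∃ b : Module.Basis (Fin (n + 1)) F V, (∀ i j, i ≠ j → B (b i) (b j) = 0) ∧ (∀ i, i ≠ Fin.last n → B (b i) (b i) = 1) ∧ (B (b (Fin.last n)) (b (Fin.last n)) = 1 ∨ B (b (Fin.last n)) (b (Fin.last n)) = α) := by
  haveI : Fintype F := Fintype.ofFinite F
  have hc : ringChar F ≠ 2 := fun h => h2 (by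
    have := ringChar.Nat.cast_ringChar (R := F)
    rw [h] at this
    exact_mod_cast this)
  obtain ⟨f, -, hf, hf1, hflast⟩ := core hc hα B hS n ⊤ (by rw [finrank_top]; exact hn)
    (fun u _ hu => hB.1 u fun v => hu v trivial)
  have hne : ∀ i, B (f i) (f i) ≠ 0 := by
    intro i
    by_cases hi : i = Fin.last n
    · subst hi
      rcases hflast with h | h <;> rw [h]
      · exact one_ne_zero
      · exact fun h0 => hα (h0 ▸ IsSquare.zero)
    · rw [hf1 i hi]; exact one_ne_zero
  have hind : LinearIndependent F f := by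
    rw [Fintype.linearIndependent_iff]
    intro c hc0 i
    have h1 := congrArg (B (f i)) hc0
    rw [map_sum, map_zero, Finset.sum_eq_single i (fun j _ hj => by rw [map_smul, hf i j hj.symm, smul_zero])
      (by simp), map_smul, smul_eq_mul] at h1
    exact (mul_eq_zero.1 h1).resolve_right (hne i)
  refine ⟨basisOfLinearIndependentOfCardEqFinrank hind (by rw [Fintype.card_fin, hn]), ?_⟩
  simp only [coe_basisOfLinearIndependentOfCardEqFinrank]
  exact ⟨hf, hf1, hflast⟩

end Cfsg.Agent.S0756
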