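import Cfsg.Statements.S0757
import Mathlib

set_option autoImplicit false
open Cfsg

namespace Cfsg.Agent.S0757

/-- The two diagonal forms Σ x_i^2 and Σ_(i<n) x_i^2 + α x_n^2 on F^(n+1), with α a non-square and 2 ≠ 0 in F, are inequivalent quadratic forms (so over a finite field of odd order there are exactly two classes of non-singular symmetric bilinear forms in each dimension). -/
theorem result {F : Type*} [Field F] (h2 : (2 : F) ≠ 0) (n : ℕ) (α : F) (hα : ¬ IsSquare α) : ¬ (QuadraticMap.weightedSumSquares F (fun _ : Fin (n + 1) => (1 : F))).Equivalent (QuadraticMap.weightedSumSquares F (fun i : Fin (n + 1) => if i = Fin.last n then α else (1 : F))) := by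
  intro ⟨e⟩
  set w : Fin (n + 1) → F := fun i => if i = Fin.last n then α else 1 with hw
  let M : Matrix (Fin (n + 1)) (Fin (n + 1)) F := fun i j => e (Pi.single j 1) i
  have hdiag : ∀ j, ∑ i, w i * (M i j * M i j) = 1 := by
    intro j
    have h := e.map_app (Pi.single j (1 : F))
    simp only [QuadraticMap.weightedSumSquares_apply, smul_eq_mul, one_mul] at h
    refine h.trans ?_
    simp [Pi.single_apply]
  have hoff : ∀ j k, j ≠ k → ∑ i, w i * (M i j * M i k) = 0 := by
    intro j k hjk
    have h := e.map_app (Pi.single j (1 : F) + Pi.single k 1)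
    simp only [QuadraticMap.weightedSumSquares_apply, smul_eq_mul, map_add, Pi.add_apply,
      one_mul] at h
    have hr : ∑ i, ((Pi.single j (1 : F) : Fin (n+1) → F) i + (Pi.single k 1 : Fin (n+1) → F) i)
        * ((Pi.single j (1 : F) : Fin (n+1) → F) i + (Pi.single k 1 : Fin (n+1) → F) i) = 1 + 1 := by
      simp only [add_mul, mul_add, Finset.sum_add_distrib, Pi.single_apply, mul_ite, mul_one,
        mul_zero, Finset.sum_ite_eq', Finset.mem_univ, if_true, if_neg hjk, if_neg hjk.symm]
      ring
    rw [hr] at h
    have hl : ∑ i, w i * ((M i j + M i k) * (M i j + M i k)) = 1 + 1 := h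
    simp only [add_mul, mul_add, Finset.sum_add_distrib, hdiag] at hl
    have hsym : ∑ i, w i * (M i k * M i j) = ∑ i, w i * (M i j * M i k) :=
      Finset.sum_congr rfl fun i _ => by ring
    rw [hsym] at hl
    have : (2 : F) * ∑ i, w i * (M i j * M i k) = 0 := by linear_combination hl
    exact (mul_eq_zero.mp this).resolve_left h2
  have hM : M.transpose * (Matrix.diagonal w * M) = 1 := by
    ext j k
    rw [Matrix.mul_apply, Matrix.one_apply]
    simp only [Matrix.transpose_apply, Matrix.diagonal_mul]
    rcases eq_or_ne j k with rfl | hjk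
    · rw [if_pos rfl, ← hdiag j]
      exact Finset.sum_congr rfl fun i _ => by ring
    · rw [if_neg hjk, ← hoff j k hjk]
      exact Finset.sum_congr rfl fun i _ => by ring
  have hdet := congrArg Matrix.det hM
  rw [Matrix.det_mul, Matrix.det_mul, Matrix.det_transpose, Matrix.det_diagonal, Matrix.det_one]
    at hdet
  have hprod : ∏ i, w i = α := by simp [hw]
  rw [hprod] at hdet
  refine hα ⟨M.det⁻¹, ?_⟩
  have hd : M.det ≠ 0 := fun h => by simp [h] at hdet
  field_simp
  linear_combination hdet

end Cfsg.Agent.S0757
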