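import Cfsg.Statements.S0758
import Mathlib

set_option autoImplicit false
open Cfsg

namespace Cfsg.Agent.S0758

/-- For a finite field F of odd order q and a non-square α: the form x² + y² is isotropic iff q ≡ 1 mod 4, and the form x² + α y² is isotropic iff q ≡ 3 mod 4. -/
theorem result {F : Type*} [Field F] [Fintype F] (h2 : (2 : F) ≠ 0) (α : F) (hα : ¬ IsSquare α) : ((∃ x y : F, (x ≠ 0 ∨ y ≠ 0) ∧ x ^ 2 + y ^ 2 = 0) ↔ Fintype.card F % 4 = 1) ∧ ((∃ x y : F, (x ≠ 0 ∨ y ≠ 0) ∧ x ^ 2 + α * y ^ 2 = 0) ↔ Fintype.card F % 4 = 3) := by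
  have hodd : Fintype.card F % 2 = 1 :=
    FiniteField.odd_card_of_char_ne_two fun h => h2 (by
      have := ringChar.of_eq h
      exact CharTwo.two_eq_zero)
  have hchar : ringChar F ≠ 2 := fun h => h2 (by
    have := ringChar.of_eq h
    exact CharTwo.two_eq_zero)
  have hα0 : α ≠ 0 := fun h => hα (h ▸ IsSquare.zero)
  have hiff : ∀ c : F, (∃ x y : F, (x ≠ 0 ∨ y ≠ 0) ∧ x ^ 2 + c * y ^ 2 = 0) ↔ IsSquare (-c) := by
    intro c
    constructor
    · rintro ⟨x, y, hne, h⟩
      have hy : y ≠ 0 := fun hy => by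
        subst hy
        simp at h hne
        exact hne h
      exact ⟨x / y, by field_simp; linear_combination -h⟩
    · rintro ⟨r, hr⟩
      exact ⟨r, 1, Or.inr one_ne_zero, by linear_combination -hr⟩
  have hneg : IsSquare (-α) ↔ ¬ IsSquare (-1 : F) := by
    classical
    rw [← quadraticChar_one_iff_isSquare (neg_ne_zero.mpr hα0),
      ← quadraticChar_one_iff_isSquare (neg_ne_zero.mpr one_ne_zero)]
    have h1 := quadraticChar_neg_one_iff_not_isSquare.mpr hα
    rw [neg_eq_neg_one_mul α, map_mul, h1]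
    rcases quadraticChar_dichotomy (neg_ne_zero.mpr (one_ne_zero : (1 : F) ≠ 0)) with h | h <;>
      rw [h] <;> decide
  constructor
  · have := hiff 1
    simp only [one_mul] at this
    rw [this, FiniteField.isSquare_neg_one_iff]
    omega
  · rw [hiff α, hneg, FiniteField.isSquare_neg_one_iff]
    omega

end Cfsg.Agent.S0758
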