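import Cfsg.Statements.S0759
import Mathlib

set_option autoImplicit false
open Cfsg

namespace Cfsg.Agent.S0759

open Polynomial in
theorem exists_sq_add_sq {F : Type*} [Field F] [Fintype F] (h2 : ringChar F ≠ 2) :
    ∃ a b : F, a ^ 2 + b ^ 2 = -1 := by
  obtain ⟨x, y, h⟩ := FiniteField.exists_root_sum_quadratic
    (f := C (1 : F) * X ^ 2 + C 0 * X + C 1) (g := C (1 : F) * X ^ 2 + C 0 * X + C 0)
    (degree_quadratic one_ne_zero) (degree_quadratic one_ne_zero) (FiniteField.odd_card_of_char_ne_two h2)
  refine ⟨x, y, ?_⟩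
  simp at h
  linear_combination h

open scoped Matrix in
/-- A matrix with `Aᵀ A = -1` gives a totally singular subspace. -/
theorem exists_of_matrix {F : Type*} [Field F] (m : ℕ) (A : Matrix (Fin m) (Fin m) F) (hA : Aᵀ * A = -1) :
    ∃ W : Submodule F (Fin (2 * m) → F), Module.finrank F W = m ∧ ∀ w ∈ W, ∑ i, w i ^ 2 = 0 := by
  let e : Fin m ⊕ Fin m ≃ Fin (2 * m) := finSumFinEquiv.trans (finCongr (two_mul m).symm)
  let L : (Fin m → F) →ₗ[F] (Fin (2 * m) → F) :=
    { toFun := fun x => fun i => Sum.elim x (A *ᵥ x) (e.symm i)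
      map_add' := fun x y => funext fun i => by
        rcases h : e.symm i with j | j <;> simp [h, Matrix.mulVec_add]
      map_smul' := fun c x => funext fun i => by
        rcases h : e.symm i with j | j <;> simp [h, Matrix.mulVec_smul] }
  refine ⟨LinearMap.range L, ?_, ?_⟩
  · rw [LinearMap.finrank_range_of_inj, Module.finrank_fin_fun]
    intro x y hxy
    funext j
    have := congrFun hxy (e (Sum.inl j))
    simpa [L] using this
  · rintro _ ⟨x, rfl⟩
    rw [← e.sum_comp, Fintype.sum_sum_type]
    have h1 : ∀ y : Fin m → F, ∑ j, y j ^ 2 = y ⬝ᵥ y := fun y => by simp [dotProduct, pow_two]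
    simp only [L, LinearMap.coe_mk, AddHom.coe_mk, Equiv.symm_apply_apply, Sum.elim_inl, Sum.elim_inr,
      h1]
    rw [show (A *ᵥ x) ⬝ᵥ (A *ᵥ x) = x ⬝ᵥ ((Aᵀ * A) *ᵥ x) by
      rw [← Matrix.mulVec_mulVec, Matrix.dotProduct_mulVec x, Matrix.vecMul_transpose], hA,
      Matrix.neg_mulVec, Matrix.one_mulVec, dotProduct_neg, add_neg_cancel]

open scoped Matrix in
/-- A totally singular subspace of half dimension makes `(-1) ^ m` a square. -/
theorem isSquare_of_subspace {F : Type*} [Field F] (h2 : (2 : F) ≠ 0) (m : ℕ)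
    (W : Submodule F (Fin (2 * m) → F)) (hd : Module.finrank F W = m)
    (hW : ∀ w ∈ W, ∑ i, w i ^ 2 = 0) : IsSquare ((-1 : F) ^ m) := by
  classical
  let b := Module.finBasisOfFinrankEq F W hd
  let M : Matrix (Fin (2 * m)) (Fin m) F := Matrix.of fun i j => (b j : Fin (2 * m) → F) i
  have horth : ∀ u ∈ W, ∀ v ∈ W, ∑ i, u i * v i = 0 := by
    intro u hu v hv
    have h := hW _ (W.add_mem hu hv)
    simp only [Pi.add_apply, add_sq, Finset.sum_add_distrib, mul_assoc, ← Finset.mul_sum,
      hW u hu, hW v hv, zero_add, add_zero] at h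
    exact (mul_eq_zero.1 h).resolve_left h2
  have hMM : Mᵀ * M = 0 := by
    ext j k
    exact horth _ (b j).2 _ (b k).2
  have hcol : LinearIndependent F M.col := b.linearIndependent.map' W.subtype W.ker_subtype
  have hrk : M.rank = m := by rw [← Matrix.rank_transpose, LinearIndependent.rank_matrix (M := Mᵀ) hcol, Fintype.card_fin]
  obtain ⟨κ, a, ha, hspan, hind⟩ := exists_linearIndependent' F M.row
  haveI : Fintype κ := Fintype.ofInjective a ha
  have hκ : Fintype.card κ = m := by
    rw [← finrank_span_eq_card hind, hspan, ← Matrix.rank_eq_finrank_span_row, hrk]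
  let eκ : Fin m ≃ κ := (Fintype.equivFinOfCardEq hκ).symm
  let f : Fin m → Fin (2 * m) := a ∘ eκ
  have hf : Function.Injective f := ha.comp eκ.injective
  have hcompl : Fintype.card {i // i ∉ Set.range f} = m := by
    rw [Fintype.card_subtype_compl]
    have : Fintype.card {i // i ∈ Set.range f} = m :=
      (Fintype.card_congr (Equiv.ofInjective f hf).symm).trans (Fintype.card_fin m)
    rw [this, Fintype.card_fin]
    omega
  let g : Fin m ≃ {i // i ∉ Set.range f} := (Fintype.equivFinOfCardEq hcompl).symm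
  let e : Fin m ⊕ Fin m → Fin (2 * m) := Sum.elim f fun j => (g j : Fin (2 * m))
  have he : Function.Bijective e := by
    refine (Fintype.bijective_iff_injective_and_card e).2 ⟨?_, by simp [two_mul]⟩
    exact hf.sumElim (Subtype.val_injective.comp g.injective) fun x y h => (g y).2 ⟨x, h⟩
  let S := M.submatrix f id
  let T := M.submatrix (fun j => (g j : Fin (2 * m))) id
  have hST : Sᵀ * S + Tᵀ * T = 0 := by
    rw [← hMM]
    ext j k
    rw [Matrix.add_apply, Matrix.mul_apply, Matrix.mul_apply, Matrix.mul_apply,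
      ← he.sum_comp (fun i => Mᵀ j i * M i k), Fintype.sum_sum_type]
    rfl
  have hS : S.det ≠ 0 := by
    have h1 : LinearIndependent F S.row := hind.comp eκ eκ.injective
    exact ((Matrix.isUnit_iff_isUnit_det S).1 (Matrix.linearIndependent_rows_iff_isUnit.1 h1)).ne_zero
  have hdet : T.det * T.det = (-1) ^ m * (S.det * S.det) := by
    have := congrArg Matrix.det (eq_neg_of_add_eq_zero_right hST)
    rw [Matrix.det_mul, Matrix.det_neg, Matrix.det_mul, Matrix.det_transpose, Matrix.det_transpose,
      Fintype.card_fin] at this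
    exact this
  refine ⟨T.det / S.det, ?_⟩
  rw [div_mul_div_comm, hdet, mul_div_assoc, div_self (mul_ne_zero hS hS), mul_one]

/-- Type of the orthonormal form: over a finite field of odd order q and for m ≥ 1, the quadratic form Σ_(i<2m) x_i² on F^(2m) admits an m-dimensional subspace on which it vanishes identically if and only if it is not the case that q ≡ 3 (mod 4) and m is odd. -/
theorem result {F : Type*} [Field F] [Fintype F] (h2 : (2 : F) ≠ 0) (m : ℕ) (hm : 1 ≤ m) : (∃ W : Submodule F (Fin (2 * m) → F), Module.finrank F W = m ∧ ∀ w ∈ W, ∑ i, w i ^ 2 = 0) ↔ ¬ (Fintype.card F % 4 = 3 ∧ Odd m) := by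
  have hc : ringChar F ≠ 2 := fun h => h2 (by
    have := ringChar.Nat.cast_ringChar (R := F)
    rw [h] at this
    exact_mod_cast this)
  constructor
  · rintro ⟨W, hd, hW⟩ ⟨hq, hodd⟩
    have h := isSquare_of_subspace h2 m W hd hW
    rw [hodd.neg_one_pow, FiniteField.isSquare_neg_one_iff] at h
    exact h hq
  · intro h
    by_cases hq : Fintype.card F % 4 = 3
    · obtain ⟨k, rfl⟩ := (Nat.not_odd_iff_even.1 fun ho => h ⟨hq, ho⟩)
      obtain ⟨a, b, hab⟩ := exists_sq_add_sq hc
      let A0 : Matrix (Fin k ⊕ Fin k) (Fin k ⊕ Fin k) F :=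
        Matrix.fromBlocks (a • (1 : Matrix (Fin k) (Fin k) F)) (-(b • (1 : Matrix (Fin k) (Fin k) F)))
          (b • (1 : Matrix (Fin k) (Fin k) F)) (a • (1 : Matrix (Fin k) (Fin k) F))
      refine exists_of_matrix (k + k) (A0.submatrix finSumFinEquiv.symm finSumFinEquiv.symm) ?_
      have h0 : A0.transpose * A0 = -1 := by
        have e0 : a * a + b * b = -1 := by linear_combination hab
        rw [show (-1 : Matrix (Fin k ⊕ Fin k) (Fin k ⊕ Fin k) F) = Matrix.fromBlocks (-1) 0 0 (-1) by
          rw [← Matrix.fromBlocks_one, Matrix.fromBlocks_neg, neg_zero]]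
        simp only [A0, Matrix.fromBlocks_transpose, Matrix.fromBlocks_multiply,
          Matrix.transpose_smul, Matrix.transpose_one, Matrix.transpose_neg, Matrix.neg_mul, Matrix.mul_neg,
          Matrix.smul_mul, Matrix.mul_smul, Matrix.one_mul, smul_smul, neg_neg, ← add_smul, ← neg_smul]
        rw [show -b * -b + a * a = -1 by linear_combination e0, e0, show -b * a + a * b = 0 by ring,
          show a * -b + b * a = 0 by ring, zero_smul, neg_smul, one_smul]
      rw [Matrix.transpose_submatrix, Matrix.submatrix_mul_equiv, h0, Matrix.submatrix_neg]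
      simp
    · obtain ⟨i, hi⟩ := (FiniteField.isSquare_neg_one_iff (F := F)).2 hq
      refine exists_of_matrix m (i • 1) ?_
      rw [Matrix.transpose_smul, Matrix.transpose_one, Matrix.smul_mul, Matrix.mul_smul, Matrix.one_mul,
        smul_smul, ← hi, neg_smul, one_smul]

end Cfsg.Agent.S0759
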