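import Cfsg.Statements.S0761
-- import your own Cfsg.Agent.* helpers here

set_option autoImplicit false
open Cfsg

namespace Cfsg.Agent.S0761

/-- Hyperbolic partners: let B be a non-degenerate bilinear form on a finite-dimensional space, either alternating, or symmetric with 2 ≠ 0. If Z is a subspace on which B vanishes, x ∉ Z is isotropic and orthogonal to Z, then there is an isotropic y with B x y = 1 which is orthogonal to Z. -/
theorem result {F V : Type*} [Field F] [AddCommGroup V] [Module F V] [FiniteDimensional F V] (B : LinearMap.BilinForm F V) (hB : B.Nondegenerate) (hform : B.IsAlt ∨ (B.IsSymm ∧ (2 : F) ≠ 0)) (x : V) (Z : Submodule F V) (hxZ : x ∉ Z) (hx : B x x = 0) (hxz : ∀ z ∈ Z, B x z = 0) (hZ : ∀ z ∈ Z, ∀ z' ∈ Z, B z z' = 0) : ∃ y : V, B y y = 0 ∧ B x y = 1 ∧ ∀ z ∈ Z, B z y = 0 := by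
  have hrefl : B.IsRefl := hform.elim (fun h => h.isRefl) (fun h => h.1.isRefl)
  have hx' : ¬ ∀ y ∈ B.orthogonal Z, B y x = 0 := by
    intro h
    exact hxZ (LinearMap.BilinForm.orthogonal_orthogonal hB hrefl Z ▸ h)
  push_neg at hx'
  obtain ⟨y₀, hy₀, hne⟩ := hx'
  have hne' : B x y₀ ≠ 0 := fun h => hne (hrefl x y₀ h)
  set y₁ := (B x y₀)⁻¹ • y₀
  have h1 : B x y₁ = 1 := by simp [y₁, hne']
  have hz1 : ∀ z ∈ Z, B z y₁ = 0 := fun z hz => by simp [y₁, show B z y₀ = 0 from hy₀ z hz]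
  rcases hform with h | ⟨h, h2⟩
  · exact ⟨y₁, h.self_eq_zero y₁, h1, hz1⟩
  · refine ⟨y₁ - (B y₁ y₁ / 2) • x, ?_, ?_, ?_⟩
    · have : B y₁ x = 1 := by rw [h.eq, h1]
      simp [hx, h1, this]
      field_simp
      ring
    · simp [hx, h1]
    · intro z hz
      have : B z x = 0 := hrefl x z (hxz z hz)
      simp [hz1 z hz, this]

end Cfsg.Agent.S0761
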