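import Cfsg.Statements.S0762
import Mathlib

set_option autoImplicit false
open Cfsg

namespace Cfsg.Agent.S0762

/-- In characteristic two over a finite field, a quadratic form on a space of dimension at least 3 vanishes on some non-zero vector. -/
theorem result {F V : Type*} [Field F] [Finite F] [CharP F 2] [AddCommGroup V] [Module F V] [FiniteDimensional F V] (Q : QuadraticForm F V) (h3 : 3 ≤ Module.finrank F V) : ∃ v : V, v ≠ 0 ∧ Q v = 0 := by
  classical
  haveI : Fintype F := Fintype.ofFinite F
  have hne : ∃ v : V, v ≠ 0 := by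
    by_contra h
    push_neg at h
    have : Module.finrank F V = 0 := by
      haveI : Subsingleton V := ⟨fun a b => by rw [h a, h b]⟩
      exact Module.finrank_zero_of_subsingleton
    omega
  obtain ⟨v, hv⟩ := hne
  by_cases hQv : Q v = 0
  · exact ⟨v, hv, hQv⟩
  set L : V →ₗ[F] F := QuadraticMap.polarBilin Q v with hL
  have hLv : L v = 0 := by
    simp only [hL, QuadraticMap.polarBilin_apply_apply, QuadraticMap.polar_self]
    simp [CharTwo.two_eq_zero]
  have hrn := L.finrank_range_add_finrank_ker
  have hr : Module.finrank F (LinearMap.range L) ≤ 1 := by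
    simpa using (Submodule.finrank_le (LinearMap.range L))
  have hnot : ¬ LinearMap.ker L ≤ Submodule.span F {v} := by
    intro hle
    have h1 := Submodule.finrank_mono hle
    rw [finrank_span_singleton hv] at h1
    omega
  obtain ⟨w, hw, hwv⟩ := SetLike.not_le_iff_exists.1 hnot
  obtain ⟨t, ht⟩ := (FiniteField.isSquare_of_char_two (ringChar.eq F 2) (Q w / Q v))
  refine ⟨w + t • v, ?_, ?_⟩
  · intro h0
    apply hwv
    rw [Submodule.mem_span_singleton]
    exact ⟨-t, by rw [neg_smul]; exact (eq_neg_of_add_eq_zero_left h0).symm⟩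
  · have hp : QuadraticMap.polar Q w v = 0 := by
      rw [QuadraticMap.polar_comm]
      simpa [hL] using hw
    rw [QuadraticMap.map_add Q, QuadraticMap.map_smul, QuadraticMap.polar_smul_right, hp, ← ht, smul_zero, add_zero, smul_eq_mul,
      div_mul_cancel₀ _ hQv]
    exact CharTwo.add_self_eq_zero (Q w)

end Cfsg.Agent.S0762
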