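import Cfsg.Statements.S0763
import Cfsg.Agent.Orthogonal.Frame
-- import your own Cfsg.Agent.* helpers here

set_option autoImplicit false
open Cfsg

namespace Cfsg.Agent.S0763

/-- Binary quadratic forms in characteristic two over a finite field: if Q is a quadratic form on a 2-dimensional space whose polar form is non-degenerate, then either there are vectors v, w with Q v = Q w = 0 and polar value 1 (Q is xy in these coordinates), or there are v, w and μ with Q v = 1, Q w = μ, polar value 1 and x² + x + μ without roots in F (Q is x² + xy + μy²). -/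
theorem result {F V : Type*} [Field F] [Finite F] [CharP F 2] [AddCommGroup V] [Module F V] (Q : QuadraticForm F V) (h2 : Module.finrank F V = 2) (hQ : (QuadraticMap.polarBilin Q).Nondegenerate) : (∃ v w : V, LinearIndependent F ![v, w] ∧ Q v = 0 ∧ Q w = 0 ∧ QuadraticMap.polar Q v w = 1) ∨ (∃ (v w : V) (μ : F), LinearIndependent F ![v, w] ∧ (∀ x : F, x ^ 2 + x + μ ≠ 0) ∧ Q v = 1 ∧ Q w = μ ∧ QuadraticMap.polar Q v w = 1) := by
  have h := Orthogonal.nondeg_of_polarBilin hQ
  haveI : Module.Finite F V := Module.finite_of_finrank_eq_succ h2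
  by_cases hiso : ∃ u : V, u ≠ 0 ∧ Q u = 0
  · obtain ⟨u, hu0, hu⟩ := hiso
    obtain ⟨f, hf, huf⟩ := h.exists_partner hu0 hu
    exact Or.inl ⟨u, f, Orthogonal.linearIndependent_hyperbolic_pair hu hf huf, hu, hf, huf⟩
  push Not at hiso
  obtain ⟨v, hv⟩ := h.exists_value (le_of_eq h2.symm) 1
  have hv0 : v ≠ 0 := fun h0 => by simp [h0] at hv
  obtain ⟨w, hw⟩ := h.exists_polar_eq hv0 1
  have hli : LinearIndependent F ![v, w] := by
    rw [LinearIndependent.pair_iff]
    intro s t hst
    have h1 := congrArg (QuadraticMap.polar Q v) hst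
    simp only [QuadraticMap.polar_add_right, Orthogonal.polar_smul_right', Orthogonal.polar_self',
      QuadraticMap.polar_zero_right, hv, hw, CharTwo.two_eq_zero, mul_zero, mul_one, zero_mul,
      zero_add] at h1
    subst h1
    rw [zero_smul, add_zero, smul_eq_zero] at hst
    exact ⟨hst.resolve_right hv0, rfl⟩
  refine Or.inr ⟨v, w, Q w, hli, fun x hx => ?_, hv, rfl, hw⟩
  have h0 : x • v + w = 0 := by
    by_contra hne
    refine hiso _ hne ?_
    rw [Orthogonal.map_add_polar, Orthogonal.qmap_smul, Orthogonal.polar_smul_left', hv, hw]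
    linear_combination hx
  have := (LinearIndependent.pair_iff.1 hli x 1 (by rw [one_smul]; exact h0)).2
  exact one_ne_zero this

end Cfsg.Agent.S0763
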