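import Cfsg.Statements.S0768
import Cfsg.Agent.Symplectic.Simple

set_option autoImplicit false
open scoped LinearAlgebra.Projectivization
open Cfsg

namespace Cfsg.Agent.S0768

/-- Primitivity: for m ≥ 1 and F finite, the symplectic group of the form sympForm (as a subgroup of the general linear group) acts primitively on the projective space of F^(2m). -/
theorem result {F : Type*} [Field F] [Finite F] (m : ℕ) (hm : 1 ≤ m) : MulAction.IsPreprimitive ↥(Cfsg.spGL m F) (ℙ F (Fin m ⊕ Fin m → F)) := by
  haveI := Cfsg.Agent.Symplectic.preprimitive m F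
  let u : Matrix.symplecticGroup (Fin m) F → Matrix.GeneralLinearGroup (Fin m ⊕ Fin m) F := fun g =>
    { val := (g : Matrix (Fin m ⊕ Fin m) (Fin m ⊕ Fin m) F)
      inv := ((g⁻¹ : Matrix.symplecticGroup (Fin m) F) : Matrix (Fin m ⊕ Fin m) (Fin m ⊕ Fin m) F)
      val_inv := by rw [← Submonoid.coe_mul, mul_inv_cancel]; rfl
      inv_val := by rw [← Submonoid.coe_mul, inv_mul_cancel]; rfl }
  let φ : Matrix.symplecticGroup (Fin m) F → ↥(Cfsg.spGL m F) := fun g =>
    ⟨u g, fun x y => Cfsg.Agent.Symplectic.sf_invariant g x y⟩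
  exact @MulAction.IsPreprimitive.of_surjective _ _ _ _ _ _ _ _ φ
    { toFun := id
      map_smul' := fun g P => by
        induction P using Projectivization.ind with | _ v hv => rfl } this Function.surjective_id

end Cfsg.Agent.S0768
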