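import Cfsg.Statements.S0770
import Mathlib

set_option autoImplicit false
open Cfsg

namespace Cfsg.Agent.S0770

/-- The subgroup of invertible diagonal matrices, membership form. -/
theorem mem_diag {F : Type*} [Field F] {n : ℕ} {h : Matrix.GeneralLinearGroup (Fin n) F} :
    h ∈ (Units.map (Matrix.diagonalRingHom (Fin n) F).toMonoidHom).range ↔
      ∃ d : (Fin n → F)ˣ, (h : Matrix (Fin n) (Fin n) F) = Matrix.diagonal (d : Fin n → F) := by
  constructor
  · rintro ⟨d, rfl⟩
    exact ⟨d, rfl⟩
  · rintro ⟨d, hd⟩
    exact ⟨d, Units.ext hd.symm⟩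

/-- For a field with at least 3 elements, an invertible matrix normalises the subgroup of invertible diagonal matrices of GL_n if and only if it is monomial (exactly one non-zero entry in each row). -/
theorem result {F : Type*} [Field F] (hF : ∃ a : F, a ≠ 0 ∧ a ≠ 1) (n : ℕ) (g : Matrix.GeneralLinearGroup (Fin n) F) : g ∈ Subgroup.normalizer ((Units.map (Matrix.diagonalRingHom (Fin n) F).toMonoidHom).range : Subgroup (Matrix.GeneralLinearGroup (Fin n) F)) ↔ ∀ i : Fin n, ∃! j : Fin n, (g : Matrix (Fin n) (Fin n) F) i j ≠ 0 := by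
  classical
  set G : Matrix (Fin n) (Fin n) F := (g : Matrix (Fin n) (Fin n) F) with hG
  have hdet : G.det ≠ 0 := by
    rw [hG]
    exact Matrix.GeneralLinearGroup.det_ne_zero g
  constructor
  · intro hg i
    obtain ⟨j, hj⟩ : ∃ j, G i j ≠ 0 := by
      by_contra h
      push Not at h
      exact hdet (Matrix.det_eq_zero_of_row_eq_zero i h)
    refine ⟨j, hj, fun k hk => ?_⟩
    by_contra hkj
    obtain ⟨a, ha0, ha1⟩ := hF
    let d : (Fin n → F)ˣ := MulEquiv.piUnits.symm
      (Function.update (fun _ => (1 : Fˣ)) j (Units.mk0 a ha0))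
    have hdv : ∀ l, (d : Fin n → F) l = if l = j then a else 1 := by
      intro l
      show ((Function.update (fun _ => (1 : Fˣ)) j (Units.mk0 a ha0) l : Fˣ) : F) = _
      by_cases hl : l = j
      · subst hl; simp
      · simp [hl]
    have h1 := (Subgroup.mem_normalizer_iff.1 hg (Units.map (Matrix.diagonalRingHom (Fin n) F).toMonoidHom d)).1 ⟨d, rfl⟩
    obtain ⟨d', hd'⟩ := mem_diag.1 h1
    have hcoe : (g * Units.map (Matrix.diagonalRingHom (Fin n) F).toMonoidHom d : Matrix.GeneralLinearGroup (Fin n) F).val
        = Matrix.diagonal (d' : Fin n → F) * G := by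
      rw [hG, ← hd', ← Units.val_mul, inv_mul_cancel_right]
    have heq : ∀ a b, G a b * (d : Fin n → F) b = (d' : Fin n → F) a * G a b := by
      intro a b
      have h2 := congrFun (congrFun hcoe a) b
      simpa [hG, Matrix.diagonal_mul, Matrix.mul_diagonal] using h2
    have e1 := heq i j
    have e2 := heq i k
    rw [hdv, if_pos rfl, mul_comm] at e1
    rw [hdv, if_neg hkj, mul_one] at e2
    have h3 : (d' : Fin n → F) i = a := (mul_right_cancel₀ hj e1).symm
    have h4 : (d' : Fin n → F) i = 1 := mul_right_cancel₀ hk (e2.symm.trans (one_mul _).symm)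
    exact ha1 (h3.symm.trans h4)
  · intro h
    choose π hπ hπu using h
    have hsurj : Function.Surjective π := by
      intro j
      by_contra hc
      push Not at hc
      refine hdet (Matrix.det_eq_zero_of_column_eq_zero j fun i => ?_)
      by_contra hij
      exact hc i (hπu i j hij).symm
    have hbij : Function.Bijective π := hsurj.bijective_of_finite
    let e : Fin n ≃ Fin n := Equiv.ofBijective π hbij
    have key : ∀ d : Fin n → F, G * Matrix.diagonal d = Matrix.diagonal (d ∘ π) * G := by
      intro d
      ext a b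
      rw [Matrix.mul_diagonal, Matrix.diagonal_mul]
      by_cases hab : G a b = 0
      · simp [hab]
      · rw [hπu a b hab, Function.comp_apply, mul_comm]
    rw [Subgroup.mem_normalizer_iff]
    intro x
    constructor
    · rintro ⟨d, rfl⟩
      let d' : (Fin n → F)ˣ :=
        ⟨(d : Fin n → F) ∘ π, ((d⁻¹ : (Fin n → F)ˣ) : Fin n → F) ∘ π,
          funext fun a => congrFun d.mul_inv (π a), funext fun a => congrFun d.inv_mul (π a)⟩
      refine ⟨d', ?_⟩
      rw [eq_mul_inv_iff_mul_eq]
      exact Units.ext (key (d : Fin n → F)).symm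
    · rintro ⟨c, hc⟩
      let d : (Fin n → F)ˣ :=
        ⟨(c : Fin n → F) ∘ e.symm, ((c⁻¹ : (Fin n → F)ˣ) : Fin n → F) ∘ e.symm,
          funext fun a => congrFun c.mul_inv (e.symm a), funext fun a => congrFun c.inv_mul (e.symm a)⟩
      have hd : (d : Fin n → F) ∘ π = (c : Fin n → F) :=
        funext fun a => congrArg (c : Fin n → F) (e.symm_apply_apply a)
      refine ⟨d, ?_⟩
      have h5 : g * Units.map (Matrix.diagonalRingHom (Fin n) F).toMonoidHom d
          = Units.map (Matrix.diagonalRingHom (Fin n) F).toMonoidHom c * g := by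
        apply Units.ext
        have h6 := key (d : Fin n → F)
        rw [hd] at h6
        exact h6
      rw [eq_mul_inv_iff_mul_eq] at hc
      rw [hc] at h5
      exact mul_left_cancel h5

end Cfsg.Agent.S0770
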