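import Cfsg.Statements.S0773
import Cfsg.Agent.H33.SubspaceStab

set_option autoImplicit false
open Cfsg

namespace Cfsg.Agent.S0773

/-- The stabilisers in GL_n(F), F finite, of the coordinate subspaces of dimensions k and n − k are isomorphic groups, but when 2k ≠ n (and 0 < k < n) no element of GL_n conjugates one onto the other. -/
theorem result {F : Type*} [Field F] [Finite F] (n k : ℕ) (hk0 : 0 < k) (hkn : k < n) (h2 : 2 * k ≠ n) : Nonempty (↥(Cfsg.stabilizing (Cfsg.glToMat (Fin n) F) {v : Fin n → F | ∀ i : Fin n, k ≤ (i : ℕ) → v i = 0}) ≃* ↥(Cfsg.stabilizing (Cfsg.glToMat (Fin n) F) {v : Fin n → F | ∀ i : Fin n, n - k ≤ (i : ℕ) → v i = 0})) ∧ ∀ g : Matrix.GeneralLinearGroup (Fin n) F, (Cfsg.stabilizing (Cfsg.glToMat (Fin n) F) {v : Fin n → F | ∀ i : Fin n, k ≤ (i : ℕ) → v i = 0}).map (MulAut.conj g).toMonoidHom ≠ Cfsg.stabilizing (Cfsg.glToMat (Fin n) F) {v : Fin n → F | ∀ i : Fin n, n - k ≤ (i : ℕ) → v i = 0} := by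
  refine ⟨⟨(Subgroup.equivMapOfInjective _ _ (Cfsg.Agent.H33.dual F n).injective).trans
    (MulEquiv.subgroupCongr (Cfsg.Agent.H33.map_dual hkn.le))⟩, fun g hg => ?_⟩
  set k' := n - k with hk'
  let L := Matrix.mulVecLin (g : Matrix (Fin n) (Fin n) F)
  let U : Submodule F (Fin n → F) := (Cfsg.Agent.H33.coordSub F n k).map L
  have hinj : Function.Injective L := Matrix.mulVec_injective_of_isUnit (Units.isUnit g)
  have hdim : Module.finrank F U = k := by
    rw [← (Submodule.equivMapOfInjective L hinj _).finrank_eq, Cfsg.Agent.H33.finrank_coordSub hkn.le]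
  have hinv : ∀ x ∈ Cfsg.Agent.H33.coordStab F n k', ∀ u ∈ U,
      (x : Matrix (Fin n) (Fin n) F).mulVec u ∈ U := by
    intro x hx u hu
    rw [Cfsg.Agent.H33.coordStab, ← hg] at hx
    obtain ⟨y, hy, rfl⟩ := hx
    obtain ⟨w, hw, rfl⟩ := hu
    refine ⟨(y : Matrix (Fin n) (Fin n) F).mulVec w, (hy w).1 hw, ?_⟩
    simp only [L, Matrix.mulVecLin_apply, MulEquiv.coe_toMonoidHom, MulAut.conj_apply, Units.val_mul,
      ← Matrix.mulVec_mulVec]
    simp [Matrix.mulVec_mulVec, mul_assoc]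
  rcases Cfsg.Agent.H33.invariant_subspace hinv with h | h | h
  · rw [h, finrank_bot] at hdim; omega
  · rw [h, Cfsg.Agent.H33.finrank_coordSub (by omega)] at hdim; omega
  · rw [h, finrank_top, Module.finrank_fin_fun] at hdim; omega

end Cfsg.Agent.S0773
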