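import Cfsg.Statements.S0774
import Mathlib

set_option autoImplicit false
open Cfsg

namespace Cfsg.Agent.S0774

section
open scoped Matrix

variable {F : Type*} [Field F] {m : ℕ}

/-- The `k`-th flag member. -/
def flag (F : Type*) [Field F] (m : ℕ) (k : Fin m) : Submodule F (Fin m ⊕ Fin m → F) where
  carrier := {v | (∀ i : Fin m, (k : ℕ) < (i : ℕ) → v (Sum.inl i) = 0) ∧ ∀ i : Fin m, v (Sum.inr i) = 0}
  add_mem' {a b} ha hb := ⟨fun i hi => by simp [ha.1 i hi, hb.1 i hi], fun i => by simp [ha.2 i, hb.2 i]⟩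
  zero_mem' := ⟨fun _ _ => rfl, fun _ => rfl⟩
  smul_mem' c a ha := ⟨fun i hi => by simp [ha.1 i hi], fun i => by simp [ha.2 i]⟩

theorem stab_of_maps (A : Matrix.symplecticGroup (Fin m) F) (W : Submodule F (Fin m ⊕ Fin m → F))
    (h : ∀ v ∈ W, (A.1).mulVec v ∈ W) : A ∈ Cfsg.stabilizing (Cfsg.spToMat m F) (W : Set (Fin m ⊕ Fin m → F)) := by
  let L := Matrix.mulVecLin A.1
  have hinj : Function.Injective L := by
    intro u v huv
    have h2 := congrArg ((A⁻¹ : Matrix.symplecticGroup (Fin m) F).1.mulVec) (show A.1.mulVec u = A.1.mulVec v from huv)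
    rwa [Matrix.mulVec_mulVec, Matrix.mulVec_mulVec, ← Submonoid.coe_mul, inv_mul_cancel,
      Submonoid.coe_one, Matrix.one_mulVec, Matrix.one_mulVec] at h2
  have heq : W.map L = W := Submodule.eq_of_le_of_finrank_eq (Submodule.map_le_iff_le_comap.2 h)
    (Submodule.equivMapOfInjective L hinj W).finrank_eq.symm
  intro v
  refine ⟨fun hv => h v hv, fun hv => ?_⟩
  obtain ⟨w, hw, hwv⟩ : L v ∈ W.map L := heq.symm ▸ (show L v ∈ W from hv)
  rw [← hinj hwv]
  exact hw

theorem mem_borel (A : Matrix.symplecticGroup (Fin m) F) :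
    A ∈ (⨅ k : Fin m, Cfsg.stabilizing (Cfsg.spToMat m F) {v : Fin m ⊕ Fin m → F |
      (∀ i : Fin m, (k : ℕ) < (i : ℕ) → v (Sum.inl i) = 0) ∧ ∀ i : Fin m, v (Sum.inr i) = 0}) ↔
    A.1.toBlocks₁₁.BlockTriangular id ∧ A.1.toBlocks₂₁ = 0 := by
  rw [Subgroup.mem_iInf]
  constructor
  · intro h
    have hcol : ∀ j : Fin m, (A.1.mulVec (Pi.single (Sum.inl j) 1)) ∈ flag F m j := fun j =>
      (h j _).1 ⟨fun i hi => Pi.single_eq_of_ne (fun e => by rw [Sum.inl.injEq] at e; subst e; omega) 1,
        fun i => Pi.single_eq_of_ne Sum.inr_ne_inl 1⟩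
    refine ⟨fun i j hij => ?_, ?_⟩
    · have := (hcol j).1 i hij
      simpa [Matrix.toBlocks₁₁] using this
    · ext i j
      have := (hcol j).2 i
      simpa [Matrix.toBlocks₂₁] using this
  · rintro ⟨h1, h2⟩ k
    refine stab_of_maps A (flag F m k) fun v hv => ⟨fun i hi => ?_, fun i => ?_⟩
    · simp only [Matrix.mulVec, dotProduct, Fintype.sum_sum_type, hv.2, mul_zero, Finset.sum_const_zero,
        add_zero]
      refine Finset.sum_eq_zero fun j _ => ?_
      by_cases hj : (k : ℕ) < (j : ℕ)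
      · rw [hv.1 j hj, mul_zero]
      · have hji : j < i := Fin.lt_def.2 (by omega)
        have := h1 hji
        simp [Matrix.toBlocks₁₁] at this
        rw [this, zero_mul]
    · simp only [Matrix.mulVec, dotProduct, Fintype.sum_sum_type, hv.2, mul_zero, Finset.sum_const_zero,
        add_zero]
      refine Finset.sum_eq_zero fun j _ => ?_
      have := congrFun (congrFun h2 i) j
      simp [Matrix.toBlocks₂₁] at this
      rw [this, zero_mul]

/-- Invertible upper triangular matrices. -/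
abbrev Tri (F : Type*) [Field F] (m : ℕ) :=
  {a : Matrix (Fin m) (Fin m) F // a.BlockTriangular id ∧ IsUnit a}

/-- Symmetric matrices. -/
abbrev Sym (F : Type*) [Field F] (m : ℕ) := {S : Matrix (Fin m) (Fin m) F // Sᵀ = S}

theorem card_tri [Fintype F] {q : ℕ} (hF : Fintype.card F = q) :
    Nat.card (Tri F m) = q ^ Nat.card {p : Fin m × Fin m // p.1 < p.2} * (q - 1) ^ m := by
  have e : Tri F m ≃ ({p : Fin m × Fin m // p.1 < p.2} → F) × (Fin m → Fˣ) :=
    { toFun := fun a => (fun p => a.1 p.1.1 p.1.2, fun i => Units.mk0 (a.1 i i) (by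
        have h := (Matrix.isUnit_iff_isUnit_det _).1 a.2.2
        rw [Matrix.det_of_upperTriangular a.2.1] at h
        exact Finset.prod_ne_zero_iff.1 h.ne_zero i (Finset.mem_univ i)))
      invFun := fun x => ⟨Matrix.of fun i j => if h : i < j then x.1 ⟨(i, j), h⟩ else if i = j then (x.2 i : F) else 0,
        ⟨fun i j hij => by
          show (if h : i < j then _ else _) = (0 : F)
          have hji : j < i := hij
          rw [dif_neg (lt_asymm hji), if_neg hji.ne'], by
          rw [Matrix.isUnit_iff_isUnit_det, Matrix.det_of_upperTriangular (fun i j hij => by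
            show (if h : i < j then _ else _) = (0 : F)
            have hji : j < i := hij
            rw [dif_neg (lt_asymm hji), if_neg hji.ne'])]
          refine IsUnit.prod_univ_iff.2 fun i => ?_
          simp⟩⟩
      left_inv := fun a => Subtype.ext (Matrix.ext fun i j => by
        rcases lt_trichotomy i j with h | rfl | h
        · simp [h]
        · simp
        · simpa [lt_asymm h, h.ne'] using (a.2.1 h).symm)
      right_inv := fun x => by
        refine Prod.ext (funext fun p => ?_) (funext fun i => Units.ext ?_)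
        · simp [p.2]
        · simp }
  rw [Nat.card_congr e, Nat.card_prod, Nat.card_fun, Nat.card_fun, Nat.card_units,
    Nat.card_eq_fintype_card (α := F), hF, Nat.card_fin]

theorem card_sym [Fintype F] {q : ℕ} (hF : Fintype.card F = q) :
    Nat.card (Sym F m) = q ^ Nat.card {p : Fin m × Fin m // p.1 ≤ p.2} := by
  have e : Sym F m ≃ ({p : Fin m × Fin m // p.1 ≤ p.2} → F) :=
    { toFun := fun S p => S.1 p.1.1 p.1.2
      invFun := fun x => ⟨Matrix.of fun i j => x ⟨(min i j, max i j), min_le_max⟩, Matrix.ext fun i j => by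
        simp [min_comm, max_comm]⟩
      left_inv := fun S => Subtype.ext (Matrix.ext fun i j => by
        rcases le_total i j with h | h
        · simp [h]
        · simpa [h] using congrFun (congrFun S.2 i) j)
      right_inv := fun x => funext fun p => by simp [p.2] }
  rw [Nat.card_congr e, Nat.card_fun, Nat.card_eq_fintype_card (α := F), hF]

theorem pairs_count (m : ℕ) : Nat.card {p : Fin m × Fin m // p.1 < p.2}
    + Nat.card {p : Fin m × Fin m // p.1 ≤ p.2} = m ^ 2 := by
  have e : {p : Fin m × Fin m // p.1 < p.2} ⊕ {p : Fin m × Fin m // p.1 ≤ p.2} ≃ Fin m × Fin m :=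
    ((((Equiv.prodComm _ _).subtypeEquiv (p := fun p : Fin m × Fin m => p.1 < p.2)
      (q := fun p : Fin m × Fin m => ¬ p.1 ≤ p.2) fun p => by simp).sumCongr (Equiv.refl _)).trans
      (Equiv.sumComm _ _)).trans (Equiv.sumCompl fun p : Fin m × Fin m => p.1 ≤ p.2)
  rw [← Nat.card_sum, Nat.card_congr e, Nat.card_prod, Nat.card_fin, pow_two]

theorem blocks_symplectic {a b d : Matrix (Fin m) (Fin m) F} :
    Matrix.fromBlocks a b 0 d ∈ Matrix.symplecticGroup (Fin m) F ↔
      (b * aᵀ)ᵀ = b * aᵀ ∧ d * aᵀ = 1 := by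
  rw [SymplecticGroup.mem_iff, Matrix.J, Matrix.fromBlocks_transpose, Matrix.fromBlocks_multiply,
    Matrix.fromBlocks_multiply, Matrix.fromBlocks_inj]
  simp only [Matrix.mul_zero, Matrix.zero_mul, Matrix.transpose_zero, add_zero, zero_add,
    Matrix.mul_neg, Matrix.mul_one, Matrix.neg_mul, neg_inj, Matrix.transpose_mul, Matrix.transpose_transpose,
    neg_zero, and_true]
  constructor
  · rintro ⟨h1, -, h3⟩
    exact ⟨(eq_of_sub_eq_zero (by rwa [sub_eq_add_neg])).symm, h3⟩
  · rintro ⟨h1, h3⟩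
    refine ⟨by rw [h1, add_neg_cancel], ?_, h3⟩
    have h4 := congrArg Matrix.transpose h3
    rw [Matrix.transpose_mul, Matrix.transpose_transpose, Matrix.transpose_one] at h4
    exact h4

end

/-- Borel subgroup of the symplectic group: the elements of Sp_2m(q) stabilising each of the totally isotropic coordinate subspaces ⟨e_0, ..., e_k⟩ (k < m) form a subgroup of order q^(m²) (q − 1)^m. -/
theorem result {F : Type*} [Field F] [Fintype F] {q : ℕ} (hF : Fintype.card F = q) (m : ℕ) : Nat.card ↥(⨅ k : Fin m, Cfsg.stabilizing (Cfsg.spToMat m F) {v : Fin m ⊕ Fin m → F | (∀ i : Fin m, (k : ℕ) < (i : ℕ) → v (Sum.inl i) = 0) ∧ ∀ i : Fin m, v (Sum.inr i) = 0}) = q ^ (m ^ 2) * (q - 1) ^ m := by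
  classical
  let B := (⨅ k : Fin m, Cfsg.stabilizing (Cfsg.spToMat m F) {v : Fin m ⊕ Fin m → F |
      (∀ i : Fin m, (k : ℕ) < (i : ℕ) → v (Sum.inl i) = 0) ∧ ∀ i : Fin m, v (Sum.inr i) = 0})
  have hdec : ∀ A : B, A.1.1 = Matrix.fromBlocks A.1.1.toBlocks₁₁ A.1.1.toBlocks₁₂ 0 A.1.1.toBlocks₂₂ := by
    intro A
    rw [← ((mem_borel A.1).1 A.2).2, Matrix.fromBlocks_toBlocks]
  have hsp : ∀ A : B, (A.1.1.toBlocks₁₂ * A.1.1.toBlocks₁₁.transpose).transpose
      = A.1.1.toBlocks₁₂ * A.1.1.toBlocks₁₁.transpose ∧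
      A.1.1.toBlocks₂₂ * A.1.1.toBlocks₁₁.transpose = 1 := by
    intro A
    have h := A.1.2
    rw [hdec A] at h
    exact blocks_symplectic.1 h
  have hmk : ∀ x : Tri F m × Sym F m,
      Matrix.fromBlocks x.1.1 (x.2.1 * (x.1.1⁻¹).transpose) 0 (x.1.1⁻¹).transpose ∈
        Matrix.symplecticGroup (Fin m) F := by
    intro x
    have hd := (Matrix.isUnit_iff_isUnit_det _).1 x.1.2.2
    rw [blocks_symplectic, Matrix.mul_assoc, ← Matrix.transpose_mul, Matrix.mul_nonsing_inv _ hd,
      Matrix.transpose_one, Matrix.mul_one]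
    exact ⟨x.2.2, rfl⟩
  let E : B ≃ Tri F m × Sym F m :=
    { toFun := fun A => (⟨A.1.1.toBlocks₁₁, ((mem_borel A.1).1 A.2).1, by
          have h := congrArg Matrix.transpose (hsp A).2
          rw [Matrix.transpose_mul, Matrix.transpose_transpose, Matrix.transpose_one] at h
          rw [Matrix.isUnit_iff_isUnit_det]
          exact Matrix.isUnit_det_of_right_inverse h⟩,
        ⟨A.1.1.toBlocks₁₂ * A.1.1.toBlocks₁₁.transpose, (hsp A).1⟩)
      invFun := fun x => ⟨⟨_, hmk x⟩, (mem_borel _).2 (by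
        simp only [Matrix.toBlocks_fromBlocks₁₁, Matrix.toBlocks_fromBlocks₂₁]
        exact ⟨x.1.2.1, trivial⟩)⟩
      left_inv := fun A => by
        have h2 : (A.1.1.toBlocks₁₁⁻¹).transpose = A.1.1.toBlocks₂₂ := by
          rw [Matrix.transpose_nonsing_inv]
          exact Matrix.inv_eq_left_inv (hsp A).2
        refine Subtype.ext (Subtype.ext ?_)
        show Matrix.fromBlocks _ _ _ _ = _
        conv_rhs => rw [hdec A]
        simp only [h2]
        rw [Matrix.mul_assoc, mul_eq_one_comm.1 (hsp A).2, Matrix.mul_one]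
      right_inv := fun x => by
        have hd := (Matrix.isUnit_iff_isUnit_det _).1 x.1.2.2
        refine Prod.ext (Subtype.ext ?_) (Subtype.ext ?_)
        · simp
        · simp only [Matrix.toBlocks_fromBlocks₁₁, Matrix.toBlocks_fromBlocks₁₂]
          rw [Matrix.mul_assoc, ← Matrix.transpose_mul, Matrix.mul_nonsing_inv _ hd, Matrix.transpose_one,
            Matrix.mul_one] }
  show Nat.card B = _
  rw [Nat.card_congr E, Nat.card_prod, card_tri hF, card_sym hF, ← pairs_count m, pow_add]
  ring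

end Cfsg.Agent.S0774
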