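import Cfsg.Statements.S0775
import Cfsg.Agent.Symplectic.Parabolic

set_option autoImplicit false
open Cfsg

namespace Cfsg.Agent.S0775

/-- Maximal parabolics of the symplectic group: if W is a k-dimensional subspace of F^(2m) on which the symplectic form vanishes identically, its stabiliser in Sp_2m(q) has order q^(k(k+1)/2 + 2k(m−k)) · |Sp_(2m−2k)(q)| · |GL_k(q)|. -/
theorem result {F : Type*} [Field F] [Fintype F] {q : ℕ} (hF : Fintype.card F = q) (m k : ℕ) (hk : k ≤ m) (W : Submodule F (Fin m ⊕ Fin m → F)) (hWk : Module.finrank F W = k) (hW : ∀ u ∈ W, ∀ v ∈ W, Cfsg.sympForm m F u v = 0) : Nat.card ↥(Cfsg.stabilizing (Cfsg.spToMat m F) (W : Set (Fin m ⊕ Fin m → F))) = q ^ (k * (k + 1) / 2 + 2 * k * (m - k)) * (q ^ ((m - k) ^ 2) * ∏ i ∈ Finset.range (m - k), (q ^ (2 * (i + 1)) - 1)) * ∏ i : Fin k, (q ^ k - q ^ (i : ℕ)) := by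
  subst hF
  show Nat.card (Cfsg.Agent.Symplectic.subStab W) = _
  rw [Cfsg.Agent.Symplectic.card_subStab hk W hWk hW]
  obtain ⟨d, rfl⟩ := Nat.exists_eq_add_of_le hk
  rw [Nat.add_sub_cancel_left]
  have hc : k.choose 2 + k * (k + 1) / 2 = k ^ 2 := by
    rw [Nat.choose_two_right]
    rcases k with _ | k
    · simp
    · obtain ⟨r, hr⟩ := (Nat.even_mul_succ_self k).two_dvd
      obtain ⟨s, hs⟩ := (Nat.even_mul_succ_self (k + 1)).two_dvd
      have e1 : (k + 1) * (k + 1 - 1) = 2 * r := by rw [← hr]; simp [mul_comm]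
      rw [e1, hs, Nat.mul_div_cancel_left _ (by norm_num), Nat.mul_div_cancel_left _ (by norm_num)]
      nlinarith
  have he : (k + d) ^ 2 - k.choose 2 = k * (k + 1) / 2 + 2 * k * d + d ^ 2 := by
    apply Nat.sub_eq_of_eq_add
    nlinarith
  rw [he, pow_add]
  ring

end Cfsg.Agent.S0775
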