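import Cfsg.Statements.S0776
import Cfsg.Agent.Symplectic.AltStd

set_option autoImplicit false
open Cfsg

namespace Cfsg.Agent.S0776

/-- If W ≤ F^(2m) is a 2k-dimensional subspace on which the symplectic form is non-degenerate, then the stabiliser of W in Sp_2m(F) is isomorphic to Sp_2k(F) × Sp_(2m−2k)(F). -/
theorem result {F : Type*} [Field F] (m k : ℕ) (hk : k ≤ m) (W : Submodule F (Fin m ⊕ Fin m → F)) (hWk : Module.finrank F W = 2 * k) (hW : ∀ u ∈ W, (∀ v ∈ W, Cfsg.sympForm m F u v = 0) → u = 0) : Nonempty (↥(Cfsg.stabilizing (Cfsg.spToMat m F) (W : Set (Fin m ⊕ Fin m → F))) ≃* Matrix.symplecticGroup (Fin k) F × Matrix.symplecticGroup (Fin (m - k)) F) := by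
  classical
  have hA := Cfsg.Agent.Symplectic.spB_alt m F
  have hB := Cfsg.Agent.Symplectic.spB_nondeg m F
  have hR := hA.isRefl
  have hP : ((Cfsg.Agent.Symplectic.spB m F).restrict W).Nondegenerate := by
    have hR' : ((Cfsg.Agent.Symplectic.spB m F).restrict W).IsRefl := fun x y h => hR _ _ h
    refine hR'.nondegenerate_iff_separatingLeft.mpr ?_
    intro x hx
    exact Subtype.ext (hW x x.2 fun v hv => by
      rw [← Cfsg.Agent.Symplectic.spB_apply]; exact hx ⟨v, hv⟩)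
  let S := (Cfsg.stabilizing (Cfsg.spToMat m F) (W : Set (Fin m ⊕ Fin m → F))).map
    (Cfsg.Agent.Symplectic.spEquiv m F).toMonoidHom
  have hS : ∀ g, g ∈ S ↔ ∀ x, x ∈ W ↔ g.1 x ∈ W := by
    intro g
    obtain ⟨g, rfl⟩ := (Cfsg.Agent.Symplectic.spEquiv m F).surjective g
    rw [show S = Subgroup.map _ _ from rfl, Subgroup.mem_map_equiv, MulEquiv.symm_apply_apply]
    exact Iff.rfl
  obtain ⟨φ⟩ := Cfsg.Agent.Symplectic.exists_stabilizer_mulEquiv hR hB hP S hS
  obtain ⟨φ₁⟩ := Cfsg.Agent.Symplectic.exists_isom_mulEquiv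
    (B := (Cfsg.Agent.Symplectic.spB m F).restrict W) (fun x => hA x.1) hP hWk
  obtain ⟨φ₂⟩ := Cfsg.Agent.Symplectic.exists_isom_mulEquiv
    (B := (Cfsg.Agent.Symplectic.spB m F).restrict ((Cfsg.Agent.Symplectic.spB m F).orthogonal W))
    (fun x => hA x.1) (Cfsg.Agent.Symplectic.restrict_orth_nondeg hR hB hP) (m := m - k) (by
      rw [Cfsg.Agent.Symplectic.finrank_orth hR hB hP, hWk, Module.finrank_pi]
      simp
      omega)
  exact ⟨(((Cfsg.Agent.Symplectic.spEquiv m F).subgroupMap _).trans φ).trans (φ₁.prodCongr φ₂)⟩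

end Cfsg.Agent.S0776
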