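import Cfsg.Statements.S0777
import Mathlib

set_option autoImplicit false
open Cfsg

namespace Cfsg.Agent.S0777

section
open scoped Matrix

variable {F : Type*} [Field F] {m : ℕ}

/-- The torus. -/
abbrev torus (F : Type*) [Field F] (m : ℕ) : Subgroup (Matrix.symplecticGroup (Fin m) F) :=
  ⨅ i : Fin m ⊕ Fin m, Cfsg.stabilizing (Cfsg.spToMat m F)
    ((Submodule.span F {(Pi.single i (1 : F) : Fin m ⊕ Fin m → F)} :
      Submodule F (Fin m ⊕ Fin m → F)) : Set (Fin m ⊕ Fin m → F))

theorem mem_torus (A : Matrix.symplecticGroup (Fin m) F) :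
    A ∈ torus F m ↔ ∀ i j, i ≠ j → A.1 i j = 0 := by
  rw [Subgroup.mem_iInf]
  constructor
  · intro h i j hij
    have h1 := (h j _).1 (Submodule.mem_span_singleton_self _)
    obtain ⟨c, hc⟩ := Submodule.mem_span_singleton.1 h1
    have h2 := congrFun hc i
    simp [hij] at h2
    exact h2.symm
  · intro h j v
    have hdiag : ∀ (v : Fin m ⊕ Fin m → F) i, (A.1 *ᵥ v) i = A.1 i i * v i := by
      intro v i
      rw [Matrix.mulVec, dotProduct, Finset.sum_eq_single i]
      · intro b _ hb; rw [h i b (Ne.symm hb), zero_mul]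
      · simp
    have hmem : ∀ w : Fin m ⊕ Fin m → F,
        w ∈ Submodule.span F {(Pi.single j (1 : F) : Fin m ⊕ Fin m → F)} ↔ ∀ i, i ≠ j → w i = 0 := by
      intro w
      rw [Submodule.mem_span_singleton]
      refine ⟨?_, fun hw => ⟨w j, ?_⟩⟩
      · rintro ⟨c, rfl⟩ i hi; simp [hi]
      · funext i
        by_cases hi : i = j
        · subst hi; simp
        · simp [hi, hw i hi]
    have hne : ∀ i, A.1 i i ≠ 0 := by
      intro i h0
      have h1 : A.1 *ᵥ (Pi.single i 1) = 0 := by
        funext a
        rw [hdiag]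
        by_cases ha : a = i
        · subst ha; simp [h0]
        · simp [ha]
      have h2 := congrArg ((A⁻¹ : Matrix.symplecticGroup (Fin m) F).1.mulVec) h1
      rw [Matrix.mulVec_mulVec, ← Submonoid.coe_mul, inv_mul_cancel, Submonoid.coe_one,
        Matrix.one_mulVec, Matrix.mulVec_zero] at h2
      have h3 : (1 : F) = 0 := by simpa using congrFun h2 i
      exact one_ne_zero h3
    simp only [SetLike.mem_coe, hmem]
    show _ ↔ ∀ i, i ≠ j → (A.1 *ᵥ v) i = 0
    simp only [hdiag, mul_eq_zero, hne, false_or]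

/-- The monomial matrix `e_b ↦ c_b e_(π b)`. -/
def mon (π : Equiv.Perm (Fin m ⊕ Fin m)) (c : Fin m ⊕ Fin m → Fˣ) :
    Matrix (Fin m ⊕ Fin m) (Fin m ⊕ Fin m) F :=
  Matrix.of fun a b => if a = π b then (c b : F) else 0

theorem mon_mem_iff (π : Equiv.Perm (Fin m ⊕ Fin m)) (c : Fin m ⊕ Fin m → Fˣ) :
    mon π c ∈ Matrix.symplecticGroup (Fin m) F ↔
      ∀ i j, (c i : F) * c j * Matrix.J (Fin m) F (π i) (π j) = Matrix.J (Fin m) F i j := by
  have key : ∀ i j, ((mon π c)ᵀ * Matrix.J (Fin m) F * mon π c) i j
      = (c i : F) * c j * Matrix.J (Fin m) F (π i) (π j) := by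
    intro i j
    rw [Matrix.mul_apply, Finset.sum_eq_single (π j)]
    · rw [Matrix.mul_apply, Finset.sum_eq_single (π i)]
      · simp [mon]; ring
      · intro a _ ha; simp [mon, ha]
      · simp
    · intro b _ hb; simp [mon, hb]
    · simp
  rw [SymplecticGroup.mem_iff', ← Matrix.ext_iff]
  simp only [key]

theorem J_swap_ne (i : Fin m ⊕ Fin m) : Matrix.J (Fin m) F i i.swap ≠ 0 := by
  rcases i with i | i <;> simp [Matrix.J]

theorem J_eq_zero {i j : Fin m ⊕ Fin m} (h : j ≠ i.swap) : Matrix.J (Fin m) F i j = 0 := by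
  rcases i with i | i <;> rcases j with j | j <;> simp_all [Matrix.J, Matrix.one_apply, eq_comm]

theorem J_antisymm (i : Fin m ⊕ Fin m) :
    Matrix.J (Fin m) F i.swap i = - Matrix.J (Fin m) F i i.swap := by
  rcases i with i | i <;> simp [Matrix.J]

/-- Parameters of the monomial symplectic matrices. -/
abbrev Param (F : Type*) [Field F] (m : ℕ) :=
  {x : Equiv.Perm (Fin m ⊕ Fin m) × (Fin m ⊕ Fin m → Fˣ) //
    ∀ i j, (x.2 i : F) * x.2 j * Matrix.J (Fin m) F (x.1 i) (x.1 j) = Matrix.J (Fin m) F i j}

theorem param_comm (x : Param F m) (i : Fin m ⊕ Fin m) : x.1.1 i.swap = (x.1.1 i).swap := by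
  by_contra h
  have h1 := x.2 i i.swap
  rw [J_eq_zero h, mul_zero] at h1
  exact J_swap_ne i h1.symm

theorem exists_unit [Fintype F] {q : ℕ} (hF : Fintype.card F = q) (hq : 4 ≤ q) :
    ∃ x : Fˣ, x ≠ x⁻¹ := by
  classical
  by_contra h
  push Not at h
  have hsub : (Finset.univ : Finset F) ⊆ {0, 1, -1} := by
    intro a _
    simp only [Finset.mem_insert, Finset.mem_singleton]
    by_cases ha : a = 0
    · exact Or.inl ha
    right
    have h2 : Units.mk0 a ha * Units.mk0 a ha = 1 := by
      nth_rewrite 2 [h (Units.mk0 a ha)]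
      exact mul_inv_cancel _
    exact mul_self_eq_one_iff.1 (by simpa [Units.ext_iff] using h2)
  have := (Finset.card_le_card hsub).trans Finset.card_le_three
  rw [Finset.card_univ, hF] at this
  omega

theorem card_param [Fintype F] {q : ℕ} (hF : Fintype.card F = q) :
    Nat.card (Param F m) = 2 ^ m * Nat.factorial m * (q - 1) ^ m := by
  classical
  let e : Fin m × Bool ≃ Fin m ⊕ Fin m :=
    { toFun := fun p => if p.2 then Sum.inr p.1 else Sum.inl p.1
      invFun := Sum.elim (fun i => (i, false)) (fun i => (i, true))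
      left_inv := fun p => by rcases p with ⟨i, _ | _⟩ <;> rfl
      right_inv := fun p => by rcases p with i | i <;> rfl }
  have eswap : ∀ p : Fin m × Bool, (e p).swap = e (p.1, !p.2) := fun p => by
    rcases p with ⟨i, _ | _⟩ <;> rfl
  let C := {π : Equiv.Perm (Fin m ⊕ Fin m) // ∀ i, π i.swap = (π i).swap}
  let D := {π : Equiv.Perm (Fin m × Bool) // ∀ i b, π (i, !b) = ((π (i, b)).1, !(π (i, b)).2)}
  have hCD : Nat.card C = Nat.card D := by
    refine (Nat.card_congr ((Equiv.permCongr e).subtypeEquiv fun π => ?_)).symm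
    constructor
    · intro h i
      obtain ⟨⟨j, b⟩, rfl⟩ := e.surjective i
      simp only [Equiv.permCongr_apply, eswap, Equiv.symm_apply_apply, h]
    · intro h i b
      have h1 := h (e (i, b))
      simp only [Equiv.permCongr_apply, eswap, Equiv.symm_apply_apply] at h1
      exact e.injective h1
  have hD : Nat.card D = 2 ^ m * Nat.factorial m := by
    have hsym : ∀ π : D, ∀ i b, π.1.symm (i, !b) = ((π.1.symm (i, b)).1, !(π.1.symm (i, b)).2) := by
      intro π i b
      apply π.1.injective
      rw [Equiv.apply_symm_apply]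
      obtain ⟨⟨j, c⟩, hj⟩ : ∃ y, π.1.symm (i, b) = y := ⟨_, rfl⟩
      rw [hj, π.2 j c]
      rw [Equiv.symm_apply_eq] at hj
      rw [← hj]
    have hfst : ∀ π : D, ∀ i b, (π.1 (i, b)).1 = (π.1 (i, false)).1 := by
      intro π i b
      cases b
      · rfl
      · simpa using congrArg Prod.fst (π.2 i false)
    have hfst' : ∀ π : D, ∀ i b, (π.1.symm (i, b)).1 = (π.1.symm (i, false)).1 := by
      intro π i b
      cases b
      · rfl
      · simpa using congrArg Prod.fst (hsym π i false)
    let E : D ≃ Equiv.Perm (Fin m) × (Fin m → Bool) :=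
      { toFun := fun π => (⟨fun i => (π.1 (i, false)).1, fun i => (π.1.symm (i, false)).1,
            fun i => by
              simp only
              rw [← hfst' π _ (π.1 (i, false)).2, Prod.mk.eta, Equiv.symm_apply_apply],
            fun i => by
              simp only
              rw [← hfst π _ (π.1.symm (i, false)).2, Prod.mk.eta, Equiv.apply_symm_apply]⟩,
          fun i => (π.1 (i, false)).2)
        invFun := fun x => ⟨⟨fun p => (x.1 p.1, xor (x.2 p.1) p.2),
            fun p => (x.1.symm p.1, xor (x.2 (x.1.symm p.1)) p.2),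
            fun p => by simp, fun p => by simp⟩, fun i b => by simp⟩
        left_inv := fun π => by
          apply Subtype.ext
          ext ⟨i, b⟩ : 1
          cases b
          · simp
          · have := π.2 i false
            simp only [Bool.not_false] at this
            simp [this]
        right_inv := fun x => by
          refine Prod.ext (Equiv.ext fun i => ?_) (funext fun i => ?_) <;> simp }
    rw [Nat.card_congr E, Nat.card_prod, Nat.card_perm, Nat.card_fun, Nat.card_fin,
      Nat.card_eq_fintype_card (α := Bool), Fintype.card_bool, mul_comm]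
  let σ : Fin m ⊕ Fin m → Fˣ := fun i => Units.mk0 _ (J_swap_ne i)
  let E : Param F m ≃ C × (Fin m → Fˣ) :=
    { toFun := fun x => (⟨x.1.1, param_comm x⟩, fun i => x.1.2 (Sum.inl i))
      invFun := fun y => ⟨(y.1.1, Sum.elim y.2
          (fun i => σ (Sum.inl i) * (σ (y.1.1 (Sum.inl i)))⁻¹ * (y.2 i)⁻¹)), by
        intro i j
        by_cases hij : j = i.swap
        · subst hij
          simp only [y.1.2]
          rcases i with i | i
          · simp only [Sum.swap_inl, Sum.elim_inl, Sum.elim_inr, σ, Units.val_mul, Units.val_inv_eq_inv_val,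
              Units.val_mk0]
            have := J_swap_ne (F := F) (y.1.1 (Sum.inl i))
            field_simp
          · have h1 := y.1.2 (Sum.inl i)
            rw [Sum.swap_inl] at h1
            simp only [Sum.swap_inr, Sum.elim_inl, Sum.elim_inr, σ, Units.val_mul, Units.val_inv_eq_inv_val,
              Units.val_mk0, h1, Sum.swap_swap, J_antisymm]
            have := J_swap_ne (F := F) (y.1.1 (Sum.inl i))
            have h2 : Matrix.J (Fin m) F (Sum.inr i) (Sum.inl i) = - Matrix.J (Fin m) F (Sum.inl i) (Sum.inr i) :=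
              J_antisymm (Sum.inl i)
            rw [h2]
            field_simp
            simp [Sum.swap_inl]
        · rw [J_eq_zero hij, J_eq_zero (fun e => hij (y.1.1.injective (e.trans (y.1.2 i).symm))), mul_zero]⟩
      left_inv := fun x => by
        refine Subtype.ext (Prod.ext rfl (funext fun i => ?_))
        rcases i with i | i
        · rfl
        · apply Units.ext
          have h1 := x.2 (Sum.inl i) (Sum.inr i)
          have hc := param_comm x (Sum.inl i)
          rw [Sum.swap_inl] at hc
          rw [hc] at h1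
          simp only [Sum.elim_inr, σ, Units.val_mul, Units.val_inv_eq_inv_val, Units.val_mk0, Sum.swap_inl]
          have := J_swap_ne (F := F) (x.1.1 (Sum.inl i))
          have := (x.1.2 (Sum.inl i)).ne_zero
          rw [← h1]
          field_simp
      right_inv := fun y => Prod.ext (Subtype.ext rfl) rfl }
  rw [Nat.card_congr E, Nat.card_prod, hCD, hD, Nat.card_fun, Nat.card_units,
    Nat.card_eq_fintype_card (α := F), hF, Nat.card_fin]

end

/-- Weyl group of type C_m: for q ≥ 4 the diagonal matrices of Sp_2m(q) form a torus T ≅ (C_(q−1))^m (the elements stabilising every coordinate axis), and the normaliser of T in Sp_2m(q) has order 2^m · m! · (q − 1)^m. -/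
theorem result {F : Type*} [Field F] [Fintype F] {q : ℕ} (hF : Fintype.card F = q) (hq : 4 ≤ q) (m : ℕ) : Nat.card ↥(Subgroup.normalizer (⨅ i : Fin m ⊕ Fin m, Cfsg.stabilizing (Cfsg.spToMat m F) ((Submodule.span F {(Pi.single i (1 : F) : Fin m ⊕ Fin m → F)} : Submodule F (Fin m ⊕ Fin m → F)) : Set (Fin m ⊕ Fin m → F)) : Set (Matrix.symplecticGroup (Fin m) F))) = 2 ^ m * Nat.factorial m * (q - 1) ^ m := by
  classical
  rw [show (⨅ i : Fin m ⊕ Fin m, ((Cfsg.stabilizing (Cfsg.spToMat m F)
      ((Submodule.span F {(Pi.single i (1 : F) : Fin m ⊕ Fin m → F)} :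
        Submodule F (Fin m ⊕ Fin m → F)) : Set (Fin m ⊕ Fin m → F))) : Set (Matrix.symplecticGroup (Fin m) F)))
      = ((torus F m : Subgroup _) : Set (Matrix.symplecticGroup (Fin m) F)) from (Subgroup.coe_iInf).symm]
  rw [← card_param (m := m) hF]
  obtain ⟨x, hx⟩ := exists_unit hF hq
  -- monomiality
  have hrows : ∀ g : Matrix.symplecticGroup (Fin m) F,
      g ∈ Subgroup.normalizer (torus F m : Set (Matrix.symplecticGroup (Fin m) F)) →
      ∀ a b b', g.1 a b ≠ 0 → g.1 a b' ≠ 0 → b = b' := by
    intro g hg a b b' hb hb'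
    by_contra hne
    let d : Fin m ⊕ Fin m → Fˣ := fun i => if i = b then x else if i = b.swap then x⁻¹ else 1
    have hsw : b.swap ≠ b := by rcases b with b | b <;> simp
    have hd : ∀ i, d i * d i.swap = 1 := by
      intro i
      by_cases h1 : i = b
      · subst h1; simp [d, hsw]
      by_cases h2 : i = b.swap
      · subst h2; simp [d, hsw]
      · have h3 : i.swap ≠ b := fun e => h2 (by rw [← e, Sum.swap_swap])
        have h4 : i.swap ≠ b.swap := fun e => h1 (by simpa using congrArg Sum.swap e)
        simp [d, h1, h2, h3, h4]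
    have hmem : mon 1 d ∈ Matrix.symplecticGroup (Fin m) F := by
      rw [mon_mem_iff]
      intro i j
      by_cases hij : j = i.swap
      · subst hij
        rw [← Units.val_mul, hd, Units.val_one, one_mul]
        rfl
      · show _ * Matrix.J (Fin m) F i j = _
        rw [J_eq_zero hij, mul_zero]
    let t : Matrix.symplecticGroup (Fin m) F := ⟨mon 1 d, hmem⟩
    have ht : t ∈ torus F m := (mem_torus t).2 fun i j hij => by simp [t, mon, hij]
    have ht' := (Subgroup.mem_normalizer_iff.1 hg t).1 ht
    rw [mem_torus] at ht'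
    set t' := g * t * g⁻¹
    have heq : g.1 * t.1 = t'.1 * g.1 := by
      rw [← Submonoid.coe_mul, ← Submonoid.coe_mul, show t' * g = g * t by simp [t']]
    have hval : ∀ c, g.1 a c * (d c : F) = t'.1 a a * g.1 a c := by
      intro c
      have h := congrFun (congrFun heq a) c
      rw [Matrix.mul_apply, Finset.sum_eq_single c (fun i _ hi => by simp [t, mon, hi]) (by simp),
        Matrix.mul_apply, Finset.sum_eq_single a (fun i _ hi => by rw [ht' a i (Ne.symm hi), zero_mul])
          (by simp)] at h
      simpa [t, mon] using h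
    have e1 : (d b : F) = t'.1 a a := mul_left_cancel₀ hb ((hval b).trans (mul_comm _ _))
    have e2 : (d b' : F) = t'.1 a a := mul_left_cancel₀ hb' ((hval b').trans (mul_comm _ _))
    have e3 : d b = d b' := Units.ext (e1.trans e2.symm)
    by_cases h : b' = b.swap
    · subst h
      simp [d, hsw] at e3
      exact hx e3
    · simp [d, Ne.symm hne, h] at e3
      exact hx (by rw [e3, inv_one])
  have hne_row : ∀ (g : Matrix.symplecticGroup (Fin m) F) a, ∃ b, g.1 a b ≠ 0 := by
    intro g a
    by_contra h
    push Not at h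
    have h1 : (g.1 * (g⁻¹).1) a a = (1 : Matrix (Fin m ⊕ Fin m) (Fin m ⊕ Fin m) F) a a := by
      rw [← Submonoid.coe_mul, mul_inv_cancel]; rfl
    rw [Matrix.mul_apply, Finset.sum_eq_zero (fun i _ => by rw [h i, zero_mul]), Matrix.one_apply_eq] at h1
    exact zero_ne_one h1
  have hne_col : ∀ (g : Matrix.symplecticGroup (Fin m) F) b, ∃ a, g.1 a b ≠ 0 := by
    intro g b
    by_contra h
    push Not at h
    have h1 : ((g⁻¹).1 * g.1) b b = (1 : Matrix (Fin m ⊕ Fin m) (Fin m ⊕ Fin m) F) b b := by
      rw [← Submonoid.coe_mul, inv_mul_cancel]; rfl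
    rw [Matrix.mul_apply, Finset.sum_eq_zero (fun i _ => by rw [h i, mul_zero]), Matrix.one_apply_eq] at h1
    exact zero_ne_one h1
  refine (Nat.card_congr (Equiv.ofBijective (fun p : Param F m =>
    (⟨⟨mon p.1.1 p.1.2, (mon_mem_iff _ _).2 p.2⟩, ?_⟩ :
      ↥(Subgroup.normalizer (torus F m : Set (Matrix.symplecticGroup (Fin m) F))))) ⟨?_, ?_⟩)).symm
  · rw [Subgroup.mem_normalizer_iff]
    intro y
    set g : Matrix.symplecticGroup (Fin m) F := ⟨mon p.1.1 p.1.2, (mon_mem_iff _ _).2 p.2⟩ with hg
    set y' := g * y * g⁻¹ with hy'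
    have heq : g.1 * y.1 = y'.1 * g.1 := by
      rw [← Submonoid.coe_mul, ← Submonoid.coe_mul, show y' * g = g * y by simp [hy']]
    have hval : ∀ i j, (p.1.2 i : F) * y.1 i j = y'.1 (p.1.1 i) (p.1.1 j) * p.1.2 j := by
      intro i j
      have h := congrFun (congrFun heq (p.1.1 i)) j
      rw [Matrix.mul_apply, Finset.sum_eq_single i (fun b _ hb => by simp [hg, mon, Ne.symm hb]) (by simp),
        Matrix.mul_apply, Finset.sum_eq_single (p.1.1 j) (fun b _ hb => by simp [hg, mon, hb]) (by simp)] at h
      simpa [hg, mon] using h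
    rw [mem_torus, mem_torus]
    constructor
    · intro h a b hab
      obtain ⟨i, rfl⟩ := p.1.1.surjective a
      obtain ⟨j, rfl⟩ := p.1.1.surjective b
      have := hval i j
      rw [h i j (fun e => hab (congrArg p.1.1 e)), mul_zero] at this
      exact (mul_eq_zero.1 this.symm).resolve_right (p.1.2 j).ne_zero
    · intro h i j hij
      have := hval i j
      rw [h _ _ (fun e => hij (p.1.1.injective e)), zero_mul] at this
      exact (mul_eq_zero.1 this).resolve_left (p.1.2 i).ne_zero
  · intro p p' h
    have h1 : mon p.1.1 p.1.2 = mon p'.1.1 p'.1.2 :=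
      congrArg (fun z : ↥(Subgroup.normalizer (torus F m : Set (Matrix.symplecticGroup (Fin m) F))) => z.1.1) h
    have hπ : ∀ b, p.1.1 b = p'.1.1 b := by
      intro b
      have := congrFun (congrFun h1 (p.1.1 b)) b
      by_contra hb
      simp [mon, hb] at this
    refine Subtype.ext (Prod.ext (Equiv.ext hπ) (funext fun b => Units.ext ?_))
    have := congrFun (congrFun h1 (p.1.1 b)) b
    simpa [mon, hπ b] using this
  · rintro ⟨g, hg⟩
    choose ρ hρ using hne_col g
    have hρinj : Function.Injective ρ := fun b b' e => hrows g hg (ρ b) b b' (hρ b) (e ▸ hρ b')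
    let π : Equiv.Perm (Fin m ⊕ Fin m) := Equiv.ofBijective ρ (Finite.injective_iff_bijective.1 hρinj)
    have hzero : ∀ a b, a ≠ π b → g.1 a b = 0 := by
      intro a b hab
      by_contra h
      obtain ⟨b0, rfl⟩ := π.surjective a
      exact hab (congrArg π (hrows g hg (π b0) b0 b (hρ b0) h))
    have hmon : g.1 = mon π (fun b => Units.mk0 (g.1 (π b) b) (hρ b)) := by
      ext a b
      by_cases hab : a = π b
      · subst hab
        show _ = if _ then _ else _
        rw [if_pos rfl]
        rfl
      · simp [mon, hab, hzero a b hab]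
    refine ⟨⟨(π, fun b => Units.mk0 (g.1 (π b) b) (hρ b)), (mon_mem_iff _ _).1 (hmon ▸ g.2)⟩, ?_⟩
    exact Subtype.ext (Subtype.ext hmon.symm)

end Cfsg.Agent.S0777
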