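import Cfsg.Statements.S0778
import Mathlib

set_option autoImplicit false
open Cfsg

namespace Cfsg.Agent.S0778

open scoped Matrix in
/-- The block diagonal embedding `X ↦ diag(X, X⁻ᵀ)`. -/
def diagEmb (F : Type*) [Field F] (m : ℕ) :
    Matrix.GeneralLinearGroup (Fin m) F →* Matrix.symplecticGroup (Fin m) F where
  toFun X := ⟨Matrix.fromBlocks (X : Matrix (Fin m) (Fin m) F) 0 0
      (((X⁻¹ : Matrix.GeneralLinearGroup (Fin m) F) : Matrix (Fin m) (Fin m) F))ᵀ, by
    rw [SymplecticGroup.mem_iff, Matrix.J, Matrix.fromBlocks_transpose, Matrix.fromBlocks_multiply,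
      Matrix.fromBlocks_multiply]
    simp only [Matrix.mul_zero, Matrix.zero_mul, Matrix.transpose_zero, Matrix.transpose_transpose,
      add_zero, zero_add, Matrix.mul_neg, Matrix.mul_one, Matrix.neg_mul, neg_zero]
    rw [← Matrix.transpose_mul, Units.mul_inv, Matrix.transpose_one]⟩
  map_one' := Subtype.ext (by simp)
  map_mul' X Y := Subtype.ext (by
    simp [Matrix.fromBlocks_multiply, mul_inv_rev, Matrix.transpose_mul])

theorem diagEmb_injective (F : Type*) [Field F] (m : ℕ) : Function.Injective (diagEmb F m) := by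
  intro X Y h
  have h1 := congrArg (fun A : Matrix.symplecticGroup (Fin m) F => Matrix.toBlocks₁₁ (A : Matrix (Fin m ⊕ Fin m) (Fin m ⊕ Fin m) F)) h
  simp [diagEmb] at h1
  exact Units.ext h1

open scoped Matrix in
theorem range_diagEmb (F : Type*) [Field F] (m : ℕ) :
    (diagEmb F m).range =
    Cfsg.stabilizing (Cfsg.spToMat m F) {v : Fin m ⊕ Fin m → F | ∀ i : Fin m, v (Sum.inr i) = 0} ⊓
      Cfsg.stabilizing (Cfsg.spToMat m F) {v : Fin m ⊕ Fin m → F | ∀ i : Fin m, v (Sum.inl i) = 0} := by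
  apply le_antisymm
  · rintro _ ⟨X, rfl⟩
    have key : ∀ (Y : Matrix.GeneralLinearGroup (Fin m) F) (v : Fin m ⊕ Fin m → F),
        ((∀ i, v (Sum.inr i) = 0) → ∀ i, (((diagEmb F m Y) : Matrix.symplecticGroup (Fin m) F).1 *ᵥ v) (Sum.inr i) = 0) ∧
        ((∀ i, v (Sum.inl i) = 0) → ∀ i, (((diagEmb F m Y) : Matrix.symplecticGroup (Fin m) F).1 *ᵥ v) (Sum.inl i) = 0) := by
      intro Y v
      constructor <;> intro hv i <;>
        simp [diagEmb, Matrix.mulVec, dotProduct, Fintype.sum_sum_type, hv]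
    have back : ∀ v : Fin m ⊕ Fin m → F, (diagEmb F m X⁻¹).1 *ᵥ ((diagEmb F m X).1 *ᵥ v) = v := by
      intro v
      rw [Matrix.mulVec_mulVec, ← Submonoid.coe_mul, ← map_mul, inv_mul_cancel, map_one]
      exact Matrix.one_mulVec v
    refine ⟨fun v => ⟨fun hv => (key X v).1 hv, fun hv => ?_⟩,
      fun v => ⟨fun hv => (key X v).2 hv, fun hv => ?_⟩⟩
    · have := (key X⁻¹ ((diagEmb F m X).1 *ᵥ v)).1 hv
      rwa [back] at this
    · have := (key X⁻¹ ((diagEmb F m X).1 *ᵥ v)).2 hv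
      rwa [back] at this
  · rintro A ⟨hW, hU⟩
    obtain ⟨a, b, c, d, hA⟩ : ∃ a b c d, A.1 = Matrix.fromBlocks a b c d :=
      ⟨_, _, _, _, (Matrix.fromBlocks_toBlocks A.1).symm⟩
    have hc : c = 0 := by
      ext i j
      have := (hW (Pi.single (Sum.inl j) 1)).1 (by intro k; simp) i
      change (A.1 *ᵥ Pi.single (Sum.inl j) 1) (Sum.inr i) = 0 at this
      simpa [hA] using this
    have hb : b = 0 := by
      ext i j
      have := (hU (Pi.single (Sum.inr j) 1)).1 (by intro k; simp) i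
      change (A.1 *ᵥ Pi.single (Sum.inr j) 1) (Sum.inl i) = 0 at this
      simpa [hA] using this
    subst hc hb
    have hJ := SymplecticGroup.mem_iff.1 A.2
    rw [hA, Matrix.J, Matrix.fromBlocks_transpose, Matrix.fromBlocks_multiply,
      Matrix.fromBlocks_multiply, Matrix.fromBlocks_inj] at hJ
    simp only [Matrix.mul_zero, Matrix.zero_mul, Matrix.transpose_zero,
      add_zero, zero_add, Matrix.mul_neg, Matrix.mul_one, Matrix.neg_mul, true_and, neg_inj, neg_zero, and_true] at hJ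
    obtain ⟨h1, h2⟩ := hJ
    refine ⟨⟨a, d.transpose, h1, mul_eq_one_comm.1 h1⟩, ?_⟩
    apply Subtype.ext
    change Matrix.fromBlocks a 0 0 d.transpose.transpose = A.1
    rw [Matrix.transpose_transpose, hA]

/-- The elements of Sp_2m(F) stabilising both W = ⟨e_1..e_m⟩ and U = ⟨f_1..f_m⟩ form a subgroup isomorphic to GL_m(F) (block-diagonal matrices diag(X, X^(−ᵀ)) up to the sign convention of J), for m ≥ 1 or m = 0 alike. -/
theorem result {F : Type*} [Field F] (m : ℕ) : Nonempty (↥(Cfsg.stabilizing (Cfsg.spToMat m F) {v : Fin m ⊕ Fin m → F | ∀ i : Fin m, v (Sum.inr i) = 0} ⊓ Cfsg.stabilizing (Cfsg.spToMat m F) {v : Fin m ⊕ Fin m → F | ∀ i : Fin m, v (Sum.inl i) = 0}) ≃* Matrix.GeneralLinearGroup (Fin m) F) := by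
  exact ⟨((MonoidHom.ofInjective (diagEmb_injective F m)).trans
    (MulEquiv.subgroupCongr (range_diagEmb F m))).symm⟩

end Cfsg.Agent.S0778
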