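import Cfsg.Statements.S0779
import Cfsg.Agent.Unitary.Eichler
import Cfsg.Agent.Unitary.Isotropic

set_option autoImplicit false
open Cfsg

namespace Cfsg.Agent.S0779

/-- Unitary transvections: let |F| = q², h the standard Hermitian form Σ x_i y_i^q and v ≠ 0 with h(v, v) = 0. The linear map x ↦ x + c h(x, v) v is an isometry of h if and only if c = 0 or c^(q−1) = −1. -/
theorem result {F : Type*} [Field F] [Fintype F] {q : ℕ} (hF : Fintype.card F = q ^ 2) (n : ℕ) (v : Fin n → F) (hv : v ≠ 0) (hv0 : Cfsg.hermForm n F q v v = 0) (c : F) : (∀ x y : Fin n → F, Cfsg.hermForm n F q ((Cfsg.unitaryTransvection n q v c).mulVec x) ((Cfsg.unitaryTransvection n q v c).mulVec y) = Cfsg.hermForm n F q x y) ↔ (c = 0 ∨ c ^ (q - 1) = -1) := by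
  constructor
  · intro h
    obtain ⟨z, -, -, hz⟩ := Cfsg.Agent.Unitary.exists_partner hF (Cfsg.Agent.Unitary.nondeg_top hF) Submodule.mem_top hv hv0
    have hvz : Cfsg.hermForm n F q v z = 1 := by rw [← Cfsg.Agent.Unitary.herm_swap hF z v, hz, one_pow]
    have h1 := h z z
    simp only [Cfsg.Agent.Unitary.unitaryTransvection_mulVec, Cfsg.Agent.Unitary.herm_add_left, Cfsg.Agent.Unitary.herm_add_right hF,
      Cfsg.Agent.Unitary.herm_smul_left, Cfsg.Agent.Unitary.herm_smul_right, hv0, hz, hvz, mul_one, mul_zero, add_zero] at h1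
    by_cases hc : c = 0
    · exact Or.inl hc
    · right
      apply mul_right_cancel₀ hc
      rw [pow_sub_one_mul (Cfsg.Agent.Unitary.q_ne_zero hF)]
      linear_combination h1
  · intro h x y
    have hc : c + c ^ q = 0 := by
      rcases h with h | h
      · rw [h, zero_pow (Cfsg.Agent.Unitary.q_ne_zero hF), add_zero]
      · rw [← pow_sub_one_mul (Cfsg.Agent.Unitary.q_ne_zero hF), h, neg_one_mul, add_neg_cancel]
    rw [← Cfsg.Agent.Unitary.mat_tv hF hv0 hc]
    exact (Cfsg.Agent.Unitary.tv hF hv0 hc).2 x y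

end Cfsg.Agent.S0779
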