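import Cfsg.Statements.S0781
import Cfsg.Agent.Unitary.Generation

set_option autoImplicit false
open Cfsg

namespace Cfsg.Agent.S0781

/-- In SU_n(q) with n ≥ 4, or n = 3 and q > 2, every element whose matrix is a unitary transvection x ↦ x + c h(x, v) v (v isotropic) is a commutator ⁅B, C⁆ of two elements of SU_n(q). -/
theorem result {F : Type*} [Field F] [Fintype F] {q : ℕ} (hF : Fintype.card F = q ^ 2) (n : ℕ) (hn : 4 ≤ n ∨ (n = 3 ∧ 3 ≤ q)) (A : ↥(Cfsg.SU n F q)) (v : Fin n → F) (c : F) (hv0 : Cfsg.hermForm n F q v v = 0) (hA : ((A : Matrix.SpecialLinearGroup (Fin n) F) : Matrix (Fin n) (Fin n) F) = Cfsg.unitaryTransvection n q v c) : A ∈ commutatorSet ↥(Cfsg.SU n F q) := by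
  by_cases hv : v = 0
  · have : A = 1 := Cfsg.Agent.Unitary.ap_ext fun x => by
      rw [Cfsg.Agent.Unitary.ap_one, Cfsg.Agent.Unitary.ap_def, show Cfsg.Agent.Unitary.mat A = _ from hA, Cfsg.Agent.Unitary.unitaryTransvection_mulVec, hv, smul_zero,
        add_zero]
    rw [this]
    exact ⟨1, 1, commutatorElement_self 1⟩
  have hn3 : 3 ≤ n := by omega
  obtain ⟨z, -, -, hz⟩ := Cfsg.Agent.Unitary.exists_partner hF (Cfsg.Agent.Unitary.nondeg_top hF) Submodule.mem_top hv hv0
  have hvz : Cfsg.hermForm n F q v z = 1 := by rw [← Cfsg.Agent.Unitary.herm_swap hF z v, hz, one_pow]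
  have hap : ∀ x, Cfsg.Agent.Unitary.ap A x = x + (c * Cfsg.hermForm n F q x v) • v := fun x => by
    rw [Cfsg.Agent.Unitary.ap_def, show Cfsg.Agent.Unitary.mat A = _ from hA, Cfsg.Agent.Unitary.unitaryTransvection_mulVec]
  have h1 := Cfsg.Agent.Unitary.herm_ap A z z
  simp only [hap, Cfsg.Agent.Unitary.herm_add_left, Cfsg.Agent.Unitary.herm_add_right hF, Cfsg.Agent.Unitary.herm_smul_left, Cfsg.Agent.Unitary.herm_smul_right,
    hv0, hz, hvz, mul_one, mul_zero, add_zero] at h1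
  have hc : c + c ^ q = 0 := by linear_combination h1
  rw [show A = Cfsg.Agent.Unitary.tv hF hv0 hc from Cfsg.Agent.Unitary.ap_ext fun x => by rw [hap, Cfsg.Agent.Unitary.ap_tv]]
  exact Cfsg.Agent.Unitary.tv_mem_commutatorSet hF hn3 hv0 hc

end Cfsg.Agent.S0781
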