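import Cfsg.Statements.S0792
import Cfsg.Agent.Orthogonal.Det
-- import your own Cfsg.Agent.* helpers here

set_option autoImplicit false
open Cfsg

namespace Cfsg.Agent.S0792

/-- For q odd and Q with non-degenerate polar form on F^n, the determinant-one isometries form the subgroup generated by all products r_u r_v of two reflections (Q(u), Q(v) ≠ 0). -/
theorem result {F : Type*} [Field F] [Fintype F] (h2 : (2 : F) ≠ 0) {n : ℕ} (Q : QuadraticForm F (Fin n → F)) (hQ : (QuadraticMap.polarBilin Q).Nondegenerate) : Cfsg.specialIsometryGroup F ⇑Q = Subgroup.closure {g : ↥(Cfsg.isometryGroup F ⇑Q) | ∃ u v : Fin n → F, Q u ≠ 0 ∧ Q v ≠ 0 ∧ ((g : Matrix.GeneralLinearGroup (Fin n) F) : Matrix (Fin n) (Fin n) F) = Cfsg.reflectionMatrix ⇑Q u * Cfsg.reflectionMatrix ⇑Q v} := by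
  have hN := Orthogonal.nondeg_of_polarBilin hQ
  have hq : Nat.card F ≠ 2 := fun hc => h2 (by
    obtain ⟨x, y, -, hxy⟩ := Nat.card_eq_two_iff.1 hc
    rcases (show (2 : F) = x ∨ (2 : F) = y by simpa [← hxy] using Set.mem_univ (2 : F)) with h | h <;>
    rcases (show (1 : F) = x ∨ (1 : F) = y by simpa [← hxy] using Set.mem_univ (1 : F)) with h' | h' <;>
    rcases (show (0 : F) = x ∨ (0 : F) = y by simpa [← hxy] using Set.mem_univ (0 : F)) with h'' | h'' <;>
    first
      | exact absurd (h'.trans h''.symm) one_ne_zero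
      | exact h.trans h''.symm
      | exact absurd (h.trans h'.symm) (fun e => one_ne_zero (α := F) (by linear_combination e)))
  set H := Subgroup.closure {g : ↥(Cfsg.isometryGroup F ⇑Q) | ∃ u v : Fin n → F, Q u ≠ 0 ∧
    Q v ≠ 0 ∧ ((g : Matrix.GeneralLinearGroup (Fin n) F) : Matrix (Fin n) (Fin n) F) =
      Cfsg.reflectionMatrix ⇑Q u * Cfsg.reflectionMatrix ⇑Q v}
  let d : ↥(Cfsg.isometryGroup F ⇑Q) →* Fˣ :=
    Matrix.GeneralLinearGroup.det.comp (Cfsg.isometryGroup F ⇑Q).subtype
  have hd : ∀ v, Q v ≠ 0 → d (Orthogonal.reflIso Q v) = -1 := fun v hv => Units.ext (by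
    simp only [d, MonoidHom.comp_apply, Subgroup.coe_subtype,
      Matrix.GeneralLinearGroup.val_det_apply, Orthogonal.reflIso_val,
      Orthogonal.det_reflectionMatrix hv, Units.val_neg, Units.val_one])
  have hpair : ∀ u v, Q u ≠ 0 → Q v ≠ 0 → Orthogonal.reflIso Q u * Orthogonal.reflIso Q v ∈ H :=
    fun u v hu hv => Subgroup.subset_closure ⟨u, v, hu, hv, by
      rw [Subgroup.coe_mul, Units.val_mul, Orthogonal.reflIso_val, Orthogonal.reflIso_val]⟩
  refine le_antisymm (fun g hg => ?_) ((Subgroup.closure_le _).2 ?_)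
  · have key : ∀ g, (d g = 1 ∧ g ∈ H) ∨
        (d g = -1 ∧ ∀ v, Q v ≠ 0 → Orthogonal.reflIso Q v * g ∈ H) := by
      intro g
      have hg : g ∈ (⊤ : Subgroup ↥(Cfsg.isometryGroup F ⇑Q)) := trivial
      rw [← Orthogonal.closure_reflections_eq_top hN (Or.inl hq)] at hg
      have hstep : ∀ x ∈ {g : ↥(Cfsg.isometryGroup F ⇑Q) | ∃ v : Fin n → F, Q v ≠ 0 ∧
          ((g : Matrix.GeneralLinearGroup (Fin n) F) : Matrix (Fin n) (Fin n) F) =
            Cfsg.reflectionMatrix (⇑Q) v}, ∀ y, ((d y = 1 ∧ y ∈ H) ∨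
          (d y = -1 ∧ ∀ v, Q v ≠ 0 → Orthogonal.reflIso Q v * y ∈ H)) →
          ((d (x * y) = 1 ∧ x * y ∈ H) ∨
          (d (x * y) = -1 ∧ ∀ v, Q v ≠ 0 → Orthogonal.reflIso Q v * (x * y) ∈ H)) := by
        rintro x ⟨v, hv, hxv⟩ y hy
        obtain rfl : x = Orthogonal.reflIso Q v :=
          Subtype.ext (Units.ext (hxv.trans (Orthogonal.reflIso_val v).symm))
        rcases hy with ⟨hy1, hyH⟩ | ⟨hy1, hyH⟩
        · refine Or.inr ⟨by rw [map_mul, hd v hv, hy1, mul_one], fun u hu => ?_⟩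
          rw [← mul_assoc]; exact mul_mem (hpair u v hu hv) hyH
        · exact Or.inl ⟨by rw [map_mul, hd v hv, hy1, neg_mul_neg, one_mul], hyH v hv⟩
      induction hg using Subgroup.closure_induction_left with
      | one => exact Or.inl ⟨map_one d, one_mem H⟩
      | mul_left x hx y _ hy => exact hstep x hx y hy
      | inv_mul_cancel x hx y _ hy =>
        obtain ⟨v, hv, hxv⟩ := hx
        obtain rfl : x = Orthogonal.reflIso Q v :=
          Subtype.ext (Units.ext (hxv.trans (Orthogonal.reflIso_val v).symm))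
        have : (Orthogonal.reflIso Q v)⁻¹ = Orthogonal.reflIso Q v := by
          rw [Orthogonal.reflIso, ← map_inv, Orthogonal.rO_inv]
        rw [this]
        exact hstep _ ⟨v, hv, hxv⟩ y hy
    rcases key g with h | ⟨h, -⟩
    · exact h.2
    · have h1 : d g = 1 := hg
      exact absurd (congrArg Units.val (h1.symm.trans h)) (fun e => h2 (by
        simp only [Units.val_one, Units.val_neg] at e
        linear_combination e))
  · rintro g ⟨u, v, hu, hv, hguv⟩
    obtain rfl : g = Orthogonal.reflIso Q u * Orthogonal.reflIso Q v := Subtype.ext (Units.ext (by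
      rw [hguv, Subgroup.coe_mul, Units.val_mul, Orthogonal.reflIso_val, Orthogonal.reflIso_val]))
    change d _ = 1
    rw [map_mul, hd u hu, hd v hv, neg_mul_neg, one_mul]

end Cfsg.Agent.S0792
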