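import Cfsg.Statements.S0794
import Cfsg.Agent.H34.Siegel

set_option autoImplicit false
open Cfsg

namespace Cfsg.Agent.S0794

open Matrix QuadraticMap in
theorem mem_commutatorSet_siegel {F : Type*} [Field F] (h2 : (2 : F) ≠ 0) {n : ℕ}
    (Q : QuadraticForm F (Fin n → F)) (hQ : (QuadraticMap.polarBilin Q).Nondegenerate) (u v : Fin n → F)
    (hu : Q u = 0) (hv : Q v = 0) (huv : QuadraticMap.polar ⇑Q u v = 0) (c : F)
    (g : ↥(Cfsg.isometryGroup F ⇑Q))
    (hg : ((g : Matrix.GeneralLinearGroup (Fin n) F) : Matrix (Fin n) (Fin n) F) = Cfsg.siegelMatrix ⇑Q u v c) :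
    g ∈ commutatorSet ↥(Cfsg.isometryGroup F ⇑Q) := by
  by_cases hli : LinearIndependent F ![u, v]
  swap
  · have h1 : g = 1 := by
      refine Subtype.ext (Units.ext ?_)
      rw [hg]
      refine Matrix.ext_iff_mulVec.mpr fun x => ?_
      rw [H34.siegel_mulVec]
      show _ = (1 : Matrix (Fin n) (Fin n) F) *ᵥ x
      rw [one_mulVec]
      rw [LinearIndependent.pair_iff] at hli
      push Not at hli
      obtain ⟨s, t, hst, hne⟩ := hli
      by_cases ht : t = 0
      · subst ht
        have hs : s ≠ 0 := fun h => hne h rfl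
        rw [zero_smul, add_zero, smul_eq_zero] at hst
        rcases hst with h | h
        · exact absurd h hs
        · subst h; simp
      · have hv' : v = (-(t⁻¹ * s)) • u := by
          apply smul_right_injective (Fin n → F) ht
          simp only [smul_smul]
          rw [show t * -(t⁻¹ * s) = -s by field_simp]
          rw [neg_smul]
          exact eq_neg_of_add_eq_zero_right hst
        subst hv'
        rw [polar_smul_left, smul_eq_mul]
        module
    subst h1
    exact ⟨1, 1, commutatorElement_one_left 1⟩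
  obtain ⟨w, hw, huw, hvw⟩ := H34.exists_partner Q hQ hu huv hli
  have hH := H34.flip_mul_self Q hu hw huw
  let h : ↥(Cfsg.isometryGroup F ⇑Q) :=
    H34.mkIso (H34.flipMatrix Q u w) (H34.flipMatrix Q u w) hH hH (H34.flip_preserves Q hu hw huw)
  let T := H34.siegelIso Q hu hv huv (-(c / 2))
  have hconj : H34.flipMatrix Q u w * Cfsg.siegelMatrix ⇑Q u v (-(c / 2)) * H34.flipMatrix Q u w =
      Cfsg.siegelMatrix ⇑Q u v (c / 2) := by
    refine Matrix.ext_iff_mulVec.mpr fun x => ?_
    rw [← mulVec_mulVec, ← mulVec_mulVec, H34.siegel_mulVec, H34.siegel_mulVec, H34.flip_mulVec,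
      H34.flip_mulVec]
    simp only [polar_add_right, polar_smul_right, huw, hvw, huv, H34.polar_self_eq, hu, hv, hw,
      polar_comm ⇑Q v u, polar_comm ⇑Q w u, polar_comm ⇑Q w v, smul_eq_mul]
    module
  refine ⟨h, T, Subtype.ext (Units.ext ?_)⟩
  show H34.flipMatrix Q u w * Cfsg.siegelMatrix ⇑Q u v (-(c / 2)) * H34.flipMatrix Q u w *
      Cfsg.siegelMatrix ⇑Q u v (- -(c / 2)) = _
  haveI : NeZero (2 : F) := ⟨h2⟩
  rw [hconj, neg_neg, hg, H34.siegel_mul Q hu hv huv, add_halves]


/-- For q odd, n ≥ 5 and Q with non-degenerate polar form: an isometry whose matrix is a Siegel transformation T_(u,v)(c) (u, v singular and orthogonal) is a commutator in the isometry group, so lies in Ω. -/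
theorem result {F : Type*} [Field F] [Fintype F] (h2 : (2 : F) ≠ 0) {n : ℕ} (hn : 5 ≤ n) (Q : QuadraticForm F (Fin n → F)) (hQ : (QuadraticMap.polarBilin Q).Nondegenerate) (u v : Fin n → F) (hu : Q u = 0) (hv : Q v = 0) (huv : QuadraticMap.polar ⇑Q u v = 0) (c : F) (g : ↥(Cfsg.isometryGroup F ⇑Q)) (hg : ((g : Matrix.GeneralLinearGroup (Fin n) F) : Matrix (Fin n) (Fin n) F) = Cfsg.siegelMatrix ⇑Q u v c) : g ∈ commutatorSet ↥(Cfsg.isometryGroup F ⇑Q) ∧ g ∈ Cfsg.Omega F ⇑Q := by
  have h := mem_commutatorSet_siegel h2 Q hQ u v hu hv huv c g hg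
  refine ⟨h, ?_⟩
  obtain ⟨a, b, rfl⟩ := h
  exact Subgroup.commutator_mem_commutator (Subgroup.mem_top a) (Subgroup.mem_top b)

end Cfsg.Agent.S0794
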