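import Cfsg.Statements.S0796


set_option autoImplicit false
open Cfsg

namespace Cfsg.Agent.S0796

/-- If G is finite and acts faithfully and primitively on X, H is the stabiliser of a point, A is a normal subgroup of H whose normal closure in G is G, then for every non-trivial normal subgroup K of G the quotient G ⧸ K is isomorphic to A ⧸ B for some normal subgroup B of A. -/
theorem result {G X : Type*} [Group G] [Finite G] [MulAction G X] [FaithfulSMul G X] (hprim : MulAction.IsPreprimitive G X) (x : X) (A : Subgroup G) (hA : A ≤ MulAction.stabilizer G x) (hAn : (A.subgroupOf (MulAction.stabilizer G x)).Normal) (hgen : Subgroup.normalClosure (A : Set G) = ⊤) (K : Subgroup G) [K.Normal] (hK : K ≠ ⊥) : ∃ (B : Subgroup A) (_ : B.Normal), Nonempty (G ⧸ K ≃* A ⧸ B) := by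
  haveI := hprim
  haveI : MulAction.IsPretransitive K X := by
    apply MulAction.IsPreprimitive.isQuasiPreprimitive.isPretransitive_of_normal
    intro hfix
    apply hK
    rw [eq_bot_iff]
    intro k hk
    rw [Subgroup.mem_bot]
    apply FaithfulSMul.eq_of_smul_eq_smul (α := X)
    intro y
    have : y ∈ MulAction.fixedPoints K X := hfix.symm ▸ Set.mem_univ y
    simpa using this ⟨k, hk⟩
  have hKH : ∀ g : G, ∃ k ∈ K, ∃ h ∈ MulAction.stabilizer G x, g = k * h := by
    intro g
    obtain ⟨k, hk⟩ := MulAction.exists_smul_eq K x (g • x)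
    refine ⟨k, k.2, (k : G)⁻¹ * g, ?_, by group⟩
    rw [MulAction.mem_stabilizer_iff, mul_smul, ← hk]
    exact inv_smul_smul (k : G) x
  have hnorm : (K ⊔ A).Normal := by
    refine ⟨fun n hn g => ?_⟩
    obtain ⟨k, hk, h, hh, rfl⟩ := hKH g
    obtain ⟨k', hk', a, ha, rfl⟩ : ∃ k' ∈ K, ∃ a ∈ A, k' * a = n :=
      Subgroup.mem_sup_of_normal_left.mp hn
    have h1 : k * h * k' * h⁻¹ * k⁻¹ ∈ K := by
      have := Subgroup.Normal.conj_mem (inferInstance : K.Normal) k' hk' (k * h)
      simpa [mul_assoc] using this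
    have h2 : h * a * h⁻¹ ∈ A := by
      have := hAn.conj_mem ⟨a, hA ha⟩ (Subgroup.mem_subgroupOf.mpr ha) ⟨h, hh⟩
      simpa [Subgroup.mem_subgroupOf] using this
    have e : k * h * (k' * a) * (k * h)⁻¹ =
        (k * h * k' * h⁻¹ * k⁻¹) * (k * (h * a * h⁻¹) * k⁻¹) := by group
    rw [e]
    exact mul_mem (Subgroup.mem_sup_left h1)
      (mul_mem (mul_mem (Subgroup.mem_sup_left hk) (Subgroup.mem_sup_right h2))
        (inv_mem (Subgroup.mem_sup_left hk)))
  have htop : K ⊔ A = ⊤ := by
    rw [eq_top_iff, ← hgen]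
    exact Subgroup.normalClosure_le_normal (fun a ha => Subgroup.mem_sup_right ha)
  let φ : A →* G ⧸ K := (QuotientGroup.mk' K).comp A.subtype
  have hsurj : Function.Surjective φ := by
    intro q
    obtain ⟨g, rfl⟩ := QuotientGroup.mk'_surjective K q
    obtain ⟨k, hk, a, ha, rfl⟩ : ∃ k ∈ K, ∃ a ∈ A, k * a = g :=
      Subgroup.mem_sup_of_normal_left.mp (htop ▸ Subgroup.mem_top g)
    refine ⟨⟨a, ha⟩, ?_⟩
    have : QuotientGroup.mk' K k = 1 := (QuotientGroup.eq_one_iff k).mpr hk
    show QuotientGroup.mk' K a = QuotientGroup.mk' K (k * a)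
    rw [map_mul, this, one_mul]
  exact ⟨φ.ker, inferInstance, ⟨(QuotientGroup.quotientKerEquivOfSurjective φ hsurj).symm⟩⟩

end Cfsg.Agent.S0796
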