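import Cfsg.Statements.S0800
import Cfsg.Agent.Linear.TwoTorus

set_option autoImplicit false
open Cfsg

namespace Cfsg.Agent.S0800

/-- Tori of SL_2(q): if g ∈ SL_2(q) has order coprime to the characteristic p, then the order of g divides q − 1 or q + 1. -/
theorem result {F : Type*} [Field F] [Fintype F] {q : ℕ} (hF : Fintype.card F = q) (p : ℕ) [Fact p.Prime] [CharP F p] (g : Matrix.SpecialLinearGroup (Fin 2) F) (hg : Nat.Coprime (orderOf g) p) : orderOf g ∣ q - 1 ∨ orderOf g ∣ q + 1 := by
  by_cases hns : Linear.IsScalarTwo (g : Matrix (Fin 2) (Fin 2) F)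
  · rcases Linear.isScalarTwo_SL_iff.mp hns with rfl | rfl
    · left; simp
    · rcases (Nat.dvd_prime Nat.prime_two).mp (orderOf_dvd_of_pow_eq_one
        (show (-1 : Matrix.SpecialLinearGroup (Fin 2) F) ^ 2 = 1 by rw [neg_one_sq])) with h | h
      · left; rw [h]; exact one_dvd _
      · rw [h] at hg ⊢
        have hp : p ≠ 2 := fun e => by rw [e] at hg; exact absurd hg (by decide)
        right
        have h2 : q % 2 = 1 := by
          rw [← hF]; exact FiniteField.odd_card_of_char_ne_two (by rwa [ringChar.eq F p])
        omega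
  · have ht := Linear.trace_sq_ne_four p hns hg
    have hd : orderOf g ∣ Nat.card (Subgroup.centralizer ({g} : Set (Matrix.SpecialLinearGroup (Fin 2) F))) := by
      rw [← Subgroup.orderOf_mk g (Subgroup.mem_centralizer_singleton_iff.mpr rfl)]
      exact orderOf_dvd_natCard _
    rcases Linear.card_centralizer_cases ht with h | h <;> rw [h, hF] at hd
    · exact Or.inl hd
    · exact Or.inr hd

end Cfsg.Agent.S0800
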