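import Cfsg.Statements.S0805
import Cfsg.Agent.Linear.Dickson.SubfieldMax
-- import your own Cfsg.Agent.* helpers here

set_option autoImplicit false
open Cfsg Cfsg.Agent.Linear

namespace Cfsg.Agent.S0805

/-- Subfield subgroups: let F be a finite field of odd order q and K a finite field with |K|^m = q, m ≥ 1. Then PSL_2(F) has a subgroup isomorphic to PSL_2(K), and has a subgroup isomorphic to PGL_2(K) if and only if m is even. -/
theorem result {F K : Type*} [Field F] [Fintype F] [Field K] [Fintype K] {q : ℕ} (hF : Fintype.card F = q) (hodd : Odd q) (m : ℕ) (hm : 1 ≤ m) (hK : Fintype.card K ^ m = q) : (∃ H : Subgroup (Matrix.ProjectiveSpecialLinearGroup (Fin 2) F), Nonempty (H ≃* Matrix.ProjectiveSpecialLinearGroup (Fin 2) K)) ∧ ((∃ H : Subgroup (Matrix.ProjectiveSpecialLinearGroup (Fin 2) F), Nonempty (H ≃* Matrix.ProjGenLinGroup (Fin 2) K)) ↔ Even m) := by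
  subst hF
  obtain ⟨ι⟩ := Dickson.exists_ringHom (F := F) (K := K) (m := m) hm hK
  have hKodd : Odd (Fintype.card K) := by
    have h : Odd (Fintype.card K ^ m) := by rw [hK]; exact hodd
    exact (Nat.odd_pow_iff (by omega)).mp h
  refine ⟨⟨_, Dickson.nonempty_pslSub_equiv ι 1⟩, fun ⟨H, ⟨e⟩⟩ => ?_, fun he => ?_⟩
  · by_contra hne
    refine Dickson.not_pglSub_of_odd (Nat.not_even_iff_odd.mp hne) hKodd hK (H := H) ?_
    rw [Nat.card_congr e.toEquiv, Cfsg.Agent.Linear.card_PGL_eq, Cfsg.Agent.Linear.card_SL_two]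
  · obtain ⟨lam, ν, hν, hgen⟩ := Dickson.exists_sqrt_gen ι he hKodd hK
    exact ⟨_, Dickson.nonempty_pglSub_equiv ι 1 hν hgen⟩

end Cfsg.Agent.S0805
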