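import Cfsg.Statements.S0807
import Cfsg.Agent.H34.Klein

set_option autoImplicit false
open Cfsg

namespace Cfsg.Agent.S0807

/-- For q odd, twelve times the number of Klein four-subgroups of PSL_2(q) equals the order of PSL_2(q). -/
theorem result {F : Type*} [Field F] [Fintype F] {q : ℕ} (hF : Fintype.card F = q) (hodd : Odd q) : 12 * Nat.card {V : Subgroup (Matrix.ProjectiveSpecialLinearGroup (Fin 2) F) // IsKleinFour V} = Nat.card (Matrix.ProjectiveSpecialLinearGroup (Fin 2) F) := by
  subst hF
  have h2 := Linear.two_ne_zero_of_odd_card hodd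
  have h := H34.card_klein (F := F) hodd
  have hc : Nat.card (Subgroup.center (Matrix.SpecialLinearGroup (Fin 2) F)) = 2 := by
    have e : (Subgroup.center (Matrix.SpecialLinearGroup (Fin 2) F) : Set (Matrix.SpecialLinearGroup (Fin 2) F)) = {1, -1} := by
      ext a; simp [Linear.mem_center_SL_two]
    rw [show Nat.card (Subgroup.center (Matrix.SpecialLinearGroup (Fin 2) F)) =
      Nat.card (Subgroup.center (Matrix.SpecialLinearGroup (Fin 2) F) : Set (Matrix.SpecialLinearGroup (Fin 2) F)) from rfl, e,
      Nat.card_coe_set_eq, Set.ncard_pair (H34.neg_ne_self h2 1).symm]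
  have hq : Nat.card (Matrix.ProjectiveSpecialLinearGroup (Fin 2) F) * 2 =
      Nat.card (Matrix.SpecialLinearGroup (Fin 2) F) := by
    have := Subgroup.card_eq_card_quotient_mul_card_subgroup (Subgroup.center (Matrix.SpecialLinearGroup (Fin 2) F))
    rw [hc] at this
    exact this.symm
  omega

end Cfsg.Agent.S0807
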