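import Cfsg.Statements.S0808
import Cfsg.Agent.H34.Klein

set_option autoImplicit false
open Cfsg

namespace Cfsg.Agent.S0808

theorem main {F : Type*} [Field F] [Fintype F] (hodd : Odd (Fintype.card F)) :
    (¬ IsSquare (2 : F) → ∀ V W : Subgroup (Matrix.ProjectiveSpecialLinearGroup (Fin 2) F), IsKleinFour V → IsKleinFour W →
      ∃ g : Matrix.ProjectiveSpecialLinearGroup (Fin 2) F, W = V.map (MulAut.conj g).toMonoidHom) ∧
    (IsSquare (2 : F) → ∃ V₁ V₂ : Subgroup (Matrix.ProjectiveSpecialLinearGroup (Fin 2) F), IsKleinFour V₁ ∧ IsKleinFour V₂ ∧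
      (¬ ∃ g : Matrix.ProjectiveSpecialLinearGroup (Fin 2) F, V₂ = V₁.map (MulAut.conj g).toMonoidHom) ∧
      ∀ W : Subgroup (Matrix.ProjectiveSpecialLinearGroup (Fin 2) F), IsKleinFour W →
        (∃ g : Matrix.ProjectiveSpecialLinearGroup (Fin 2) F, W = V₁.map (MulAut.conj g).toMonoidHom) ∨
        (∃ g : Matrix.ProjectiveSpecialLinearGroup (Fin 2) F, W = V₂.map (MulAut.conj g).toMonoidHom)) := by
  classical
  have h2 := Linear.two_ne_zero_of_odd_card hodd
  constructor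
  · intro hns V W hV hW
    obtain ⟨p, hp⟩ := H34.exists_pair_of_klein h2 V
    obtain ⟨q, hq⟩ := H34.exists_pair_of_klein h2 W
    obtain ⟨hp0, hpu, hpv⟩ := H34.mem_pairsOf.mp hp
    obtain ⟨hq0, -, -⟩ := H34.mem_pairsOf.mp hq
    rcases H34.two_classes hodd (q := (p.2, p.1)) hp0 hp0.symm hq0 with r | r | r
    · exact absurd ((H34.isSquare_two_iff_swap h2 hp0).mpr r) hns
    · exact H34.klein_conj_of_rel h2 hp hq r
    · exact H34.klein_conj_of_rel h2 (H34.mem_pairsOf.mpr ⟨hp0.symm, hpv, hpu⟩) hq r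
  · intro hsq
    obtain ⟨x, y, hxy⟩ := H34.exists_pair (F := F) hodd
    obtain ⟨V₁, hV₁, h1⟩ := H34.exists_klein h2 hxy
    obtain ⟨q, hq, hnr⟩ : ∃ q : Matrix.SpecialLinearGroup (Fin 2) F × Matrix.SpecialLinearGroup (Fin 2) F,
        H34.IsPair q.1 q.2 ∧ ¬ H34.PairRel (x, y) q := by
      by_contra hcon
      push Not at hcon
      have hsub : (Finset.univ.filter fun b : Matrix.SpecialLinearGroup (Fin 2) F × Matrix.SpecialLinearGroup (Fin 2) F =>
          H34.IsPair b.1 b.2) = Finset.univ.filter (H34.PairRel (x, y)) := by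
        ext b
        simp only [Finset.mem_filter, Finset.mem_univ, true_and]
        refine ⟨hcon b, fun ⟨g, e1, e2⟩ => ?_⟩
        rw [← e1, ← e2]; exact hxy.conj g
      have h24 := congrArg Finset.card hsub
      rw [← Fintype.card_subtype, ← Nat.card_eq_fintype_card, H34.card_pairs hodd] at h24
      have := H34.card_conj_preimage h2 hxy (Finset.univ.filter (H34.PairRel (x, y)))
        (fun b hb => (Finset.mem_filter.mp hb).2)
      rw [Nat.card_congr (Equiv.subtypeUnivEquiv fun g => Finset.mem_filter.mpr ⟨Finset.mem_univ _, g, rfl, rfl⟩),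
        ← h24] at this
      have := Nat.card_pos (α := Matrix.SpecialLinearGroup (Fin 2) F)
      omega
    obtain ⟨V₂, hV₂, h2'⟩ := H34.exists_klein h2 hq
    have hp1 : (x, y) ∈ H34.pairsOf V₁ := H34.mem_pairsOf.mpr ⟨hxy, h1⟩
    have hp2 : q ∈ H34.pairsOf V₂ := H34.mem_pairsOf.mpr ⟨hq, h2'⟩
    refine ⟨V₁, V₂, hV₁, hV₂, fun h => hnr (H34.rel_of_klein_conj h2 hsq hp1 hp2 h), fun W hW => ?_⟩
    obtain ⟨r, hr⟩ := H34.exists_pair_of_klein h2 W
    rcases H34.two_classes hodd (p := (x, y)) hxy hq (H34.mem_pairsOf.mp hr).1 with h | h | h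
    · exact absurd h hnr
    · exact Or.inl (H34.klein_conj_of_rel h2 hp1 hr h)
    · exact Or.inr (H34.klein_conj_of_rel h2 hp2 hr h)


/-- Conjugacy classes of four-groups in PSL_2(q), q odd: if q ≡ 3 or 5 (mod 8) all Klein four-subgroups are conjugate; if q ≡ 1 or 7 (mod 8) there are two Klein four-subgroups which are not conjugate, and every Klein four-subgroup is conjugate to one of them. -/
theorem result {F : Type*} [Field F] [Fintype F] {q : ℕ} (hF : Fintype.card F = q) (hodd : Odd q) : ((q % 8 = 3 ∨ q % 8 = 5) → ∀ V W : Subgroup (Matrix.ProjectiveSpecialLinearGroup (Fin 2) F), IsKleinFour V → IsKleinFour W → ∃ g : Matrix.ProjectiveSpecialLinearGroup (Fin 2) F, W = V.map (MulAut.conj g).toMonoidHom) ∧ ((q % 8 = 1 ∨ q % 8 = 7) → ∃ V₁ V₂ : Subgroup (Matrix.ProjectiveSpecialLinearGroup (Fin 2) F), IsKleinFour V₁ ∧ IsKleinFour V₂ ∧ (¬ ∃ g : Matrix.ProjectiveSpecialLinearGroup (Fin 2) F, V₂ = V₁.map (MulAut.conj g).toMonoidHom) ∧ ∀ W : Subgroup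 (Matrix.ProjectiveSpecialLinearGroup (Fin 2) F), IsKleinFour W → (∃ g : Matrix.ProjectiveSpecialLinearGroup (Fin 2) F, W = V₁.map (MulAut.conj g).toMonoidHom) ∨ (∃ g : Matrix.ProjectiveSpecialLinearGroup (Fin 2) F, W = V₂.map (MulAut.conj g).toMonoidHom)) := by
  subst hF
  obtain ⟨hns, hs⟩ := main (F := F) hodd
  refine ⟨fun h => hns ?_, fun h => hs ?_⟩ <;> rw [FiniteField.isSquare_two_iff] <;> omega

end Cfsg.Agent.S0808
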