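import Cfsg.Statements.S0810
import Cfsg.Agent.Linear.Dickson.SmallMax
-- import your own Cfsg.Agent.* helpers here

set_option autoImplicit false
open Cfsg Cfsg.Agent.Linear

namespace Cfsg.Agent.S0810

/-- PSL_2(q) is minimal simple iff q is 2^r (r prime), 3^r (r an odd prime), a prime greater than 5 congruent to 2 or 3 mod 5, or 5. -/
theorem result {F : Type*} [Field F] [Fintype F] {q : ℕ} (hF : Fintype.card F = q) : Cfsg.IsMinimalSimple (Matrix.ProjectiveSpecialLinearGroup (Fin 2) F) ↔ ((∃ r : ℕ, r.Prime ∧ q = 2 ^ r) ∨ (∃ r : ℕ, r.Prime ∧ r ≠ 2 ∧ q = 3 ^ r) ∨ (q.Prime ∧ 5 < q ∧ (q % 5 = 2 ∨ q % 5 = 3)) ∨ q = 5) := by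
  subst hF
  classical
  obtain ⟨p, hchar⟩ := CharP.exists F
  have : Fact p.Prime := ⟨CharP.char_is_prime F p⟩
  obtain ⟨n, hp, hn⟩ := FiniteField.card F p
  have hG := Cfsg.Agent.Linear.card_PSL_two_mul (F := F)
  have hd2 : Nat.gcd 2 (Fintype.card F - 1) ≤ 2 := Nat.le_of_dvd two_pos (Nat.gcd_dvd_left 2 _)
  have hsmall : Fintype.card F ≤ 3 → Group.IsSolvable (Matrix.ProjectiveSpecialLinearGroup (Fin 2) F) := by
    intro h3
    have h2 : 2 ≤ Fintype.card F := Fintype.one_lt_card
    refine Cfsg.Agent.Unitary.isSolvable_of_card_dvd_24 (m := Nat.card (Matrix.ProjectiveSpecialLinearGroup (Fin 2) F)) rfl ?_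
    rcases (show Fintype.card F = 2 ∨ Fintype.card F = 3 by omega) with e | e <;> rw [e] at hG <;>
      norm_num [-Nat.card_eq_fintype_card] at hG
    · rw [hG]; norm_num
    · exact ⟨2, by omega⟩
  constructor
  · rintro ⟨hsimple, hnc, hsolv⟩
    have h4 : 4 ≤ Fintype.card F := by
      by_contra h
      have := hsimple
      exact hnc ⟨⟨IsSimpleGroup.comm_iff_isSolvable.mpr (hsmall (by omega))⟩⟩
    -- no proper icosahedral subgroup
    have h5 : 6 ≤ Fintype.card F → ¬ 5 ∣ Fintype.card F * (Fintype.card F ^ 2 - 1) := by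
      intro h6 hd
      obtain ⟨H, ⟨e⟩⟩ := Dickson.exists_altFive hd
      refine Dickson.not_isSolvable_altFive ?_
      have hne : H ≠ ⊤ := fun ht => by
        have hc : Nat.card H = 60 := (Nat.card_congr e.toEquiv).trans Dickson.card_alt_five
        rw [ht, Subgroup.card_top] at hc
        rw [hc] at hG
        have h1 : 6 * 35 ≤ Fintype.card F * (Fintype.card F ^ 2 - 1) :=
          Nat.mul_le_mul h6 (Nat.le_sub_one_of_lt (lt_of_lt_of_le (by norm_num) (Nat.pow_le_pow_left h6 2)))
        have h2 := Nat.mul_le_mul_right 60 hd2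
        omega
      have := hsolv H hne
      exact Group.isSolvable_of_surjective (f := e.toMonoidHom) e.surjective
    -- no proper subfield with at least four elements
    have hsub : ∀ d m : ℕ, 0 < d → 2 ≤ m → d * m = n → p ^ d ≤ 3 := by
      intro d m hd hm hdm
      by_contra h
      have : Fintype (GaloisField p d) := Fintype.ofFinite _
      have hK : Fintype.card (GaloisField p d) = p ^ d := by
        rw [← Nat.card_eq_fintype_card, GaloisField.card p d hd.ne']
      obtain ⟨ι⟩ := Dickson.exists_ringHom (F := F) (K := GaloisField p d) (m := m) (by omega)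
        (by rw [hK, ← pow_mul, hdm, hn])
      have hcard := Dickson.card_pslSub_mul ι (1 : Fˣ)
      rw [hK] at hcard
      have hne : Dickson.pslSub ι (1 : Fˣ) ≠ ⊤ := fun ht => by
        rw [ht, Subgroup.card_top] at hcard
        have hlt : p ^ d < Fintype.card F := by
          rw [hn, ← hdm]
          exact Nat.pow_lt_pow_right hp.one_lt (by nlinarith)
        have hgle : Nat.gcd 2 (Fintype.card F - 1) ≤ 2 * Nat.gcd 2 (p ^ d - 1) :=
          hd2.trans (Nat.le_mul_of_pos_right 2 (Nat.gcd_pos_of_pos_left _ two_pos))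
        have h1 : Fintype.card F * (Fintype.card F ^ 2 - 1) ≤ 2 * (p ^ d * ((p ^ d) ^ 2 - 1)) := by
          rw [← hG, ← hcard, ← mul_assoc]
          exact Nat.mul_le_mul_right _ hgle
        have h2 : 2 * p ^ d ≤ Fintype.card F := by
          rw [hn, ← hdm]
          calc 2 * p ^ d ≤ p * p ^ d := Nat.mul_le_mul_right _ hp.two_le
            _ = p ^ (d + 1) := by rw [pow_succ']
            _ ≤ p ^ (d * m) := Nat.pow_le_pow_right hp.pos (by nlinarith)
        have h3 : (p ^ d) ^ 2 - 1 < Fintype.card F ^ 2 - 1 :=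
          Nat.sub_lt_sub_right (Nat.one_le_pow _ _ (by omega)) (Nat.pow_lt_pow_left hlt two_ne_zero)
        have h4 : 2 * p ^ d * ((p ^ d) ^ 2 - 1) < Fintype.card F * (Fintype.card F ^ 2 - 1) :=
          lt_of_le_of_lt (Nat.mul_le_mul_right _ h2) (Nat.mul_lt_mul_of_pos_left h3 (by omega))
        rw [← mul_assoc] at h1
        omega
      obtain ⟨e⟩ := Dickson.nonempty_pslSub_equiv ι (1 : Fˣ)
      have := hsolv _ hne
      exact Dickson.not_isSolvable_PSL (K := GaloisField p d) (by rw [Nat.card_eq_fintype_card, hK]; omega)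
        (Group.isSolvable_of_surjective (f := e.toMonoidHom) e.surjective)
    rcases (show (n : ℕ) = 1 ∨ 2 ≤ (n : ℕ) by have := n.pos; omega) with h1 | h1
    · rw [h1, pow_one] at hn
      rcases (show Fintype.card F = 5 ∨ 6 ≤ Fintype.card F by
        have : Fintype.card F ≠ 4 := fun e => by rw [hn] at e; rw [e] at hp; norm_num at hp
        omega) with e | e
      · exact Or.inr (Or.inr (Or.inr e))
      · have h := h5 e
        refine Or.inr (Or.inr (Or.inl ⟨hn ▸ hp, by omega, ?_⟩))
        by_contra hc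
        rcases (show Fintype.card F % 5 = 0 ∨ Fintype.card F % 5 = 1 ∨ Fintype.card F % 5 = 4 by omega) with r | r
        · exact h (Dvd.dvd.mul_right (Nat.dvd_of_mod_eq_zero r) _)
        · refine h (Dvd.dvd.mul_left ?_ _)
          have : Fintype.card F ^ 2 % 5 = 1 := by
            rw [Nat.pow_mod]; rcases r with r | r <;> rw [r] <;> norm_num
          omega
    · have hp3 : p ≤ 3 := by simpa using hsub 1 n one_pos h1 (one_mul _)
      have hnp : (n : ℕ).Prime := by
        by_contra hnp
        obtain ⟨d, ⟨m, hm⟩, hd1, hd2'⟩ := (Nat.not_prime_iff_exists_dvd_lt h1).mp hnp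
        have hm2 : 2 ≤ m := by
          rcases Nat.lt_or_ge m 2 with hlt | hge
          · interval_cases m <;> omega
          · exact hge
        have := hsub d m (by omega) hm2 hm.symm
        have h4' : 2 ^ 2 ≤ p ^ d := (Nat.pow_le_pow_left hp.two_le 2).trans (Nat.pow_le_pow_right hp.pos hd1)
        omega
      rcases (show p = 2 ∨ p = 3 by have := hp.two_le; omega) with e | e
      · exact Or.inl ⟨n, hnp, e ▸ hn⟩
      · refine Or.inr (Or.inl ⟨n, hnp, fun h2 => ?_, e ▸ hn⟩)
        rw [e, h2] at hn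
        exact h5 (by omega) (by rw [hn]; norm_num)
  · intro hconds
    have hq4 : 4 ≤ Fintype.card F := by
      rcases hconds with ⟨r, hr, e⟩ | ⟨r, hr, -, e⟩ | ⟨-, h, -⟩ | e
      · rw [e]; exact le_trans (by norm_num) (Nat.pow_le_pow_right two_pos hr.two_le)
      · rw [e]; exact le_trans (by norm_num) (Nat.pow_le_pow_right (by norm_num) hr.two_le)
      · omega
      · omega
    have hns := Dickson.not_isSolvable_PSL (K := F) (by rwa [Nat.card_eq_fintype_card])
    refine ⟨Cfsg.Agent.Linear.isSimpleGroup_PSL_fin le_rfl fun _ => by rwa [Nat.card_eq_fintype_card],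
      fun hc => hns (Group.isSolvable_of_comm fun a b => hc.is_comm.comm a b), fun H hH => ?_⟩
    rcases Dickson.shape p H with h | h | ⟨⟨f⟩⟩ | ⟨⟨f⟩⟩ | ⟨⟨f⟩⟩ | h
    · exact h.isSolvable
    · exact h.isSolvable
    · exact Cfsg.Agent.Unitary.isSolvable_of_card_dvd_24
        ((Nat.card_congr f.toEquiv).trans Dickson.card_alt_four) (by norm_num)
    · exact Cfsg.Agent.Unitary.isSolvable_of_card_dvd_24
        ((Nat.card_congr f.toEquiv).trans Dickson.card_sym_four) (by norm_num)
    · exfalso
      have hd := Dickson.dvd_of_altFive f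
      have hc : Nat.card H = 60 := (Nat.card_congr f.toEquiv).trans Dickson.card_alt_five
      have hodd5 : ∀ b r : ℕ, Odd r → (b ^ 2 % 5 = 4) → ¬ 5 ∣ b ^ r * ((b ^ r) ^ 2 - 1) := by
        intro b r hr hb h
        obtain ⟨i, rfl⟩ := hr
        have h1 : (b ^ (2 * i + 1)) ^ 2 % 5 = 4 := by
          rw [← pow_mul, mul_comm, pow_mul, pow_succ, pow_mul, Nat.mul_mod, Nat.pow_mod, Nat.pow_mod (b ^ 2), hb]
          norm_num [Nat.pow_mod]
        rcases Nat.prime_five.dvd_mul.mp h with h | h
        · have := Nat.dvd_of_mod_eq_zero (n := 5) (m := (b ^ (2 * i + 1)) ^ 2) |>.mt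
          have h0 : 5 ∣ (b ^ (2 * i + 1)) ^ 2 := dvd_pow h two_ne_zero
          omega
        · omega
      rcases hconds with ⟨r, hr, e⟩ | ⟨r, hr, hr2, e⟩ | ⟨-, h5, h⟩ | e
      · rcases hr.eq_two_or_odd' with rfl | ho
        · rw [e] at hG
          norm_num [-Nat.card_eq_fintype_card] at hG
          exact hH (Subgroup.eq_top_of_card_eq _ (by omega))
        · exact hodd5 2 r ho (by norm_num) (e ▸ hd)
      · exact hodd5 3 r (hr.odd_of_ne_two hr2) (by norm_num) (e ▸ hd)
      · have hb : Fintype.card F ^ 2 % 5 = 4 := by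
          rw [Nat.pow_mod]; rcases h with e | e <;> rw [e]
        exact hodd5 (Fintype.card F) 1 odd_one hb (by rwa [pow_one])
      · rw [e] at hG
        norm_num [-Nat.card_eq_fintype_card] at hG
        exact hH (Subgroup.eq_top_of_card_eq _ (by omega))
    · obtain ⟨v, m, hv, hm, hvm, hle⟩ := h.eq_top_of_card.resolve_left hH
      obtain ⟨v', m', hv', hm', hvm', hMc⟩ := h.exists_card
      have hm2 : 2 ≤ m' := by
        by_contra hlt
        obtain rfl : m' = 1 := by omega
        rw [pow_one] at hvm'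
        refine hH (Subgroup.eq_top_of_card_eq _ (le_antisymm (Subgroup.card_le_card_group H) ?_))
        rw [hvm'] at hMc
        rcases hMc with e | ⟨e, -⟩
        · exact (Nat.eq_of_mul_eq_mul_left (Nat.gcd_pos_of_pos_left _ two_pos) (e.trans hG.symm)).ge
        · rw [e, ← hG]; exact Nat.le_mul_of_pos_left _ (Nat.gcd_pos_of_pos_left _ two_pos)
      have key : ∀ b r : ℕ, b.Prime → r.Prime → Fintype.card F = b ^ r → v' = b := by
        intro b r hb hr e
        obtain ⟨i, -, rfl⟩ := (Nat.dvd_prime_pow hb).mp (show v' ∣ b ^ r from e ▸ hvm' ▸ dvd_pow_self v' (by omega))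
        have := Nat.pow_right_injective hb.two_le (show b ^ (i * m') = b ^ r by rw [pow_mul, hvm', e])
        rcases (Nat.dvd_prime hr).mp (Dvd.intro _ this) with rfl | rfl
        · rw [pow_one]
        · exfalso
          have := Nat.mul_le_mul_left i hm2
          have := hr.pos
          omega
      have hv3 : v' = 2 ∨ v' = 3 := by
        rcases hconds with ⟨r, hr, e⟩ | ⟨r, hr, -, e⟩ | ⟨h, -⟩ | e
        · exact Or.inl (key 2 r Nat.prime_two hr e)
        · exact Or.inr (key 3 r Nat.prime_three hr e)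
        · exact absurd (hvm' ▸ h) (Nat.Prime.not_prime_pow hm2)
        · exact absurd (hvm' ▸ e ▸ Nat.prime_five) (Nat.Prime.not_prime_pow hm2)
      refine Cfsg.Agent.Unitary.isSolvable_of_card_dvd_24 (G := H) (m := Nat.card H) rfl ?_
      rcases hv3 with e | e <;> rw [e] at hMc <;> norm_num [-Nat.card_eq_fintype_card] at hMc
      · rw [hMc]; norm_num
      · rcases hMc with h | h
        · exact ⟨2, by omega⟩
        · rw [h.1]

end Cfsg.Agent.S0810
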