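import Cfsg.Statements.S0811
import Cfsg.Agent.Linear.Dickson.Maximal
-- import your own Cfsg.Agent.* helpers here

set_option autoImplicit false
open Cfsg Cfsg.Agent.Linear

namespace Cfsg.Agent.S0811

/-- For q ∉ {2, 7, 9}, PSL_2(q) has a maximal subgroup isomorphic to the dihedral group of order 2(q + 1)/d, d = gcd(2, q − 1). -/
theorem result {F : Type*} [Field F] [Fintype F] {q : ℕ} (hF : Fintype.card F = q) (hq : q ∉ ({2, 7, 9} : Finset ℕ)) : ∃ H : Subgroup (Matrix.ProjectiveSpecialLinearGroup (Fin 2) F), IsCoatom H ∧ Nonempty (H ≃* DihedralGroup ((q + 1) / Nat.gcd 2 (q - 1))) := by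
  subst hF
  simp only [Finset.mem_insert, Finset.mem_singleton, not_or] at hq
  obtain ⟨a, ha, hk⟩ := Dickson.exists_nonsplit (F := F)
  obtain ⟨hc, hd⟩ := Dickson.torus_normalizer_props ha
  refine ⟨_, ?_, hk ▸ hd⟩
  have hq2 : 2 ≤ Fintype.card F := Fintype.one_lt_card
  rcases Nat.lt_or_ge (Nat.card (Dickson.cen a)) 3 with h | h
  · -- only the field with three elements
    have hd2 : Nat.gcd 2 (Fintype.card F - 1) = 1 ∨ Nat.gcd 2 (Fintype.card F - 1) = 2 :=
      (Nat.dvd_prime Nat.prime_two).mp (Nat.gcd_dvd_left 2 _)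
    have hq3 : Fintype.card F = 3 := by
      rcases hd2 with e | e <;> rw [hk, e] at h
      · omega
      · have hdd := Nat.gcd_dvd_right 2 (Fintype.card F - 1)
        rw [e] at hdd
        omega
    have hG := Cfsg.Agent.Linear.card_PSL_two_mul (F := F)
    rw [hq3] at hG hk
    norm_num at hG hk
    set N := Subgroup.normalizer ((Dickson.cen a) : Set (Matrix.ProjectiveSpecialLinearGroup (Fin 2) F))
    have hi := N.card_mul_index
    rw [hc, hk] at hi
    have hN3 : N.index = 3 := by omega
    refine ⟨fun e => by rw [e, Subgroup.index_top] at hN3; omega, fun M hM => ?_⟩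
    have h1 := Subgroup.relIndex_mul_index hM.le
    rw [hN3] at h1
    rcases (Nat.dvd_prime Nat.prime_three).mp (Dvd.intro_left _ h1) with e | e
    · exact Subgroup.index_eq_one.mp e
    · exfalso
      rw [e] at h1
      exact hM.not_ge (Subgroup.relIndex_eq_one.mp (by omega))
  · exact Dickson.isCoatom_torus ha h hq.1 hq.2.1 hq.2.2 fun e => by
      exfalso
      have h1 := (e.symm.trans hk)
      have h2 := Nat.mul_div_cancel' (Nat.gcd_dvd_right 2 (Fintype.card F - 1))
      have h3 := Nat.mul_div_cancel' (Dickson.gcd_dvd_add_one (Fintype.card F) Fintype.card_pos)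
      rw [h1] at h2
      omega

end Cfsg.Agent.S0811
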