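import Cfsg.Statements.S0812
import Cfsg.Agent.Linear.Dickson.Maximal
-- import your own Cfsg.Agent.* helpers here

set_option autoImplicit false
open Cfsg Cfsg.Agent.Linear

namespace Cfsg.Agent.S0812

/-- For q ∉ {2, 3, 5, 7, 9, 11}, PSL_2(q) has a maximal subgroup isomorphic to the dihedral group of order 2(q − 1)/d, d = gcd(2, q − 1). -/
theorem result {F : Type*} [Field F] [Fintype F] {q : ℕ} (hF : Fintype.card F = q) (hq : q ∉ ({2, 3, 5, 7, 9, 11} : Finset ℕ)) : ∃ H : Subgroup (Matrix.ProjectiveSpecialLinearGroup (Fin 2) F), IsCoatom H ∧ Nonempty (H ≃* DihedralGroup ((q - 1) / Nat.gcd 2 (q - 1))) := by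
  subst hF
  simp only [Finset.mem_insert, Finset.mem_singleton, not_or] at hq
  obtain ⟨h2, h3, h5, h7, h9, h11⟩ := hq
  have hq2 : 2 ≤ Fintype.card F := Fintype.one_lt_card
  obtain ⟨a, ha, hk⟩ := Dickson.exists_split (F := F) (by omega)
  obtain ⟨hc, hd⟩ := Dickson.torus_normalizer_props ha
  refine ⟨_, Dickson.isCoatom_torus ha ?_ h2 h7 h9 (fun _ => h11), hk ▸ hd⟩
  rw [hk]
  have hd2 : Nat.gcd 2 (Fintype.card F - 1) = 1 ∨ Nat.gcd 2 (Fintype.card F - 1) = 2 :=
    (Nat.dvd_prime Nat.prime_two).mp (Nat.gcd_dvd_left 2 _)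
  rcases hd2 with e | e <;> rw [e]
  · omega
  · have hdd := Nat.gcd_dvd_right 2 (Fintype.card F - 1)
    rw [e] at hdd
    omega

end Cfsg.Agent.S0812
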