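import Cfsg.Statements.S0819
import Mathlib

set_option autoImplicit false
open Cfsg

namespace Cfsg.Agent.S0819

open Polynomial

theorem pow_eq_scalar {K : Type*} [Field K] [IsAlgClosed K] (M : Matrix (Fin 3) (Fin 3) K) (h : M ^ 45 = 1)
    (h45 : (45 : K) ≠ 0) {k : ℕ} {c : K} (hk : 0 < k) (hroots : ∀ t ∈ M.charpoly.roots, t ^ k = c) :
    M ^ k = algebraMap K (Matrix (Fin 3) (Fin 3) K) c := by
  have hd : minpoly K M ∣ X ^ 45 - C 1 := minpoly.dvd K M (by simp [h])
  have hsep : (X ^ 45 - C (1 : K)).Separable :=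
    separable_X_pow_sub_C _ (by exact_mod_cast h45) one_ne_zero
  have hnd : (minpoly K M).roots.Nodup := nodup_roots (hsep.of_dvd hd)
  have hne : minpoly K M ≠ 0 := minpoly.ne_zero M.isIntegral
  have hd2 : minpoly K M ∣ X ^ k - C c := by
    refine ((IsAlgClosed.splits (minpoly K M)).dvd_iff_roots_le_roots hne (X_pow_sub_C_ne_zero hk c)).mpr ?_
    rw [Multiset.le_iff_subset hnd]
    intro t ht
    have ht' : t ∈ M.charpoly.roots :=
      Multiset.subset_of_le (roots.le_of_dvd M.charpoly_monic.ne_zero (Matrix.minpoly_dvd_charpoly M)) ht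
    rw [mem_roots (X_pow_sub_C_ne_zero hk c)]
    simp [hroots t ht']
  obtain ⟨s, hs⟩ := hd2
  have := congrArg (aeval M) hs
  rw [map_mul, minpoly.aeval, zero_mul, map_sub, map_pow, aeval_X, aeval_C, sub_eq_zero] at this
  exact this

theorem main {F : Type*} [Field F] [Fintype F] (hF : Fintype.card F = 4)
    (g : Matrix.ProjectiveSpecialLinearGroup (Fin 3) F) : orderOf g ≠ 15 := by
  intro hg
  obtain ⟨x, rfl⟩ := QuotientGroup.mk_surjective g
  let K := AlgebraicClosure F
  let M : Matrix (Fin 3) (Fin 3) K := (x : Matrix (Fin 3) (Fin 3) F).map (algebraMap F K)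
  haveI : CharP F 2 := by
    obtain ⟨p, hp⟩ := CharP.exists F
    obtain ⟨n, hprime, hn⟩ := FiniteField.card F p
    rw [hF] at hn
    have : p ∣ 2 ^ 2 := by rw [show (2 : ℕ) ^ 2 = p ^ (n : ℕ) by norm_num [← hn]]; exact dvd_pow_self p n.ne_zero
    have := (Nat.prime_dvd_prime_iff_eq hprime Nat.prime_two).mp (hprime.dvd_of_dvd_pow this)
    exact this ▸ hp
  haveI : CharP K 2 := charP_of_injective_algebraMap (algebraMap F K).injective 2
  have h45 : (45 : K) ≠ 0 := by
    rw [show (45 : K) = ((45 : ℕ) : K) by norm_num, Ne, CharP.cast_eq_zero_iff K 2]; norm_num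
  have cast_pow : ∀ k : ℕ, M ^ k = ((x ^ k : Matrix.SpecialLinearGroup (Fin 3) F) : Matrix (Fin 3) (Fin 3) F).map
      (algebraMap F K) := by
    intro k
    rw [Matrix.SpecialLinearGroup.coe_pow]
    exact (map_pow (algebraMap F K).mapMatrix _ k).symm
  have key : ∀ (k : ℕ) (c : K), M ^ k = algebraMap K (Matrix (Fin 3) (Fin 3) K) c → 15 ∣ k := by
    intro k c hk
    rw [← hg]
    refine orderOf_dvd_of_pow_eq_one ?_
    rw [← QuotientGroup.mk_pow, QuotientGroup.eq_one_iff, Matrix.SpecialLinearGroup.mem_center_iff]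
    set y := x ^ k
    refine ⟨(y : Matrix (Fin 3) (Fin 3) F) 0 0, ?_, ?_⟩
    · have e : (y : Matrix (Fin 3) (Fin 3) F) = Matrix.scalar (Fin 3) ((y : Matrix (Fin 3) (Fin 3) F) 0 0) := by
        ext i j
        apply (algebraMap F K).injective
        have h1 := congrFun (congrFun ((cast_pow k).symm.trans hk) i) j
        have h0 := congrFun (congrFun ((cast_pow k).symm.trans hk) 0) 0
        simp only [Matrix.map_apply, Matrix.algebraMap_matrix_apply, if_pos rfl] at h1 h0
        rw [h1]
        simp only [Matrix.scalar_apply, Matrix.diagonal_apply]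
        split <;> simp_all [y]
      have hd := y.2
      rw [e, Matrix.scalar_apply, Matrix.det_diagonal, Finset.prod_const, Finset.card_univ] at hd
      exact hd
    · ext i j
      apply (algebraMap F K).injective
      have h1 := congrFun (congrFun ((cast_pow k).symm.trans hk) i) j
      have h0 := congrFun (congrFun ((cast_pow k).symm.trans hk) 0) 0
      simp only [Matrix.map_apply, Matrix.algebraMap_matrix_apply, if_pos rfl] at h1 h0
      rw [h1]
      simp only [Matrix.scalar_apply, Matrix.diagonal_apply]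
      split <;> simp_all [y]
  have hx45 : x ^ 45 = 1 := by
    have hc : x ^ 15 ∈ Subgroup.center (Matrix.SpecialLinearGroup (Fin 3) F) := by
      rw [← QuotientGroup.eq_one_iff, QuotientGroup.mk_pow, ← hg, pow_orderOf_eq_one]
    obtain ⟨r, hr, hrx⟩ := Matrix.SpecialLinearGroup.mem_center_iff.mp hc
    refine Subtype.ext ?_
    rw [show (45 : ℕ) = 15 * 3 by norm_num, pow_mul, Matrix.SpecialLinearGroup.coe_pow, ← hrx, ← map_pow,
      show r ^ 3 = 1 by simpa using hr, map_one, Matrix.SpecialLinearGroup.coe_one]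
  have hM45 : M ^ 45 = 1 := by
    rw [cast_pow, hx45, Matrix.SpecialLinearGroup.coe_one, Matrix.map_one _ (map_zero _) (map_one _)]
  have hpoly : M.charpoly = (x : Matrix (Fin 3) (Fin 3) F).charpoly.map (algebraMap F K) :=
    Matrix.charpoly_map _ _
  have hne : M.charpoly ≠ 0 := M.charpoly_monic.ne_zero
  have hfrob : ∀ t ∈ M.charpoly.roots, t ^ 4 ∈ M.charpoly.roots := by
    intro t ht
    rw [mem_roots hne, hpoly, IsRoot, eval_map, ← aeval_def] at ht ⊢
    have h := congrArg (aeval t) (FiniteField.expand_card (K := F) (x : Matrix (Fin 3) (Fin 3) F).charpoly)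
    rw [expand_aeval, map_pow, ht, hF, zero_pow (by norm_num)] at h
    exact h
  have h45root : ∀ t ∈ M.charpoly.roots, t ^ 45 = 1 := by
    intro t ht
    have hmem : t ∈ spectrum K M :=
      Matrix.mem_spectrum_iff_isRoot_charpoly.mpr ((mem_roots hne).mp ht)
    have := spectrum.pow_mem_pow M 45 hmem
    rw [hM45, spectrum.one_eq] at this
    exact this
  by_cases hall : ∀ t ∈ M.charpoly.roots, t ^ 9 = 1
  · have := key 9 1 (pow_eq_scalar M hM45 h45 (by norm_num) hall)
    norm_num at this
  push Not at hall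
  obtain ⟨r, hr, hr9⟩ := hall
  have hcard : Multiset.card M.charpoly.roots = 3 := by
    rw [← (IsAlgClosed.splits M.charpoly).natDegree_eq_card_roots, Matrix.charpoly_natDegree_eq_dim, Fintype.card_fin]
  have hprod : M.charpoly.roots.prod = 1 := by
    rw [← Matrix.det_eq_prod_roots_charpoly]
    show ((x : Matrix (Fin 3) (Fin 3) F).map (algebraMap F K)).det = 1
    rw [← RingHom.mapMatrix_apply, ← RingHom.map_det, x.2, map_one]
  have h45r := h45root r hr
  have hr0 : r ≠ 0 := fun h => by rw [h, zero_pow (by norm_num)] at h45r; exact zero_ne_one h45r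
  have hne4 : r ^ 4 ≠ r := fun h => hr9 (by
    have h3 : r ^ 3 = 1 := mul_right_cancel₀ hr0 (by rw [← pow_succ, h, one_mul])
    rw [show (9 : ℕ) = 3 * 3 by norm_num, pow_mul, h3, one_pow])
  obtain ⟨R, hR⟩ := Multiset.exists_cons_of_mem hr
  have hr4 : r ^ 4 ∈ R := by
    have := hfrob r hr
    rw [hR, Multiset.mem_cons] at this
    exact this.resolve_left hne4
  obtain ⟨S, hS⟩ := Multiset.exists_cons_of_mem hr4
  rw [hR, hS, Multiset.card_cons, Multiset.card_cons] at hcard
  obtain ⟨s, hs⟩ := Multiset.card_eq_one.mp (by omega : Multiset.card S = 1)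
  have hroots : M.charpoly.roots = r ::ₘ r ^ 4 ::ₘ {s} := by rw [hR, hS, hs]
  rw [hroots, Multiset.prod_cons, Multiset.prod_cons, Multiset.prod_singleton] at hprod
  have h16 : r ^ 15 = 1 := by
    have h := hfrob _ (hfrob r hr)
    rw [hroots] at h
    simp only [Multiset.mem_cons, Multiset.mem_singleton] at h
    rw [← pow_mul, show (4 : ℕ) * 4 = 16 by norm_num] at h
    rcases h with h | h | h
    · exact mul_right_cancel₀ hr0 (by rw [← pow_succ, h, one_mul])
    · exfalso
      apply hr9
      have h12 : r ^ 12 = 1 := mul_right_cancel₀ (pow_ne_zero 4 hr0) (by rw [← pow_add, h, one_mul])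
      calc r ^ 9 = r ^ 9 * (r ^ 12) ^ 3 := by rw [h12]; ring
        _ = r ^ 45 := by ring
        _ = 1 := h45r
    · exfalso
      apply hr9
      -- the three roots are then `r, r⁴, r¹⁶`, with product `r²¹ = 1`
      have h21 : r ^ 21 = 1 := by rw [← h] at hprod; linear_combination hprod
      have : r ^ 9 * r ^ 36 = r ^ 45 := by ring
      have h63 : r ^ 63 = 1 := by rw [show (63 : ℕ) = 21 * 3 by norm_num, pow_mul, h21, one_pow]
      have h18 : r ^ 18 = 1 := mul_left_cancel₀ (pow_ne_zero 45 hr0) (by rw [← pow_add, h63, h45r, one_mul])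
      have h3 : r ^ 3 = 1 := mul_left_cancel₀ (pow_ne_zero 18 hr0) (by rw [← pow_add, h21, h18, one_mul])
      rw [show (9 : ℕ) = 3 * 3 by norm_num, pow_mul, h3, one_pow]
  have hall5 : ∀ t ∈ M.charpoly.roots, t ^ 5 = r ^ 5 := by
    intro t ht
    rw [hroots] at ht
    simp only [Multiset.mem_cons, Multiset.mem_singleton] at ht
    rcases ht with rfl | rfl | rfl
    · rfl
    · calc (r ^ 4) ^ 5 = r ^ 15 * r ^ 5 := by ring
        _ = r ^ 5 := by rw [h16, one_mul]
    · have h5 : t * r ^ 5 = 1 := by linear_combination hprod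
      have : t ^ 5 * r ^ 25 = 1 := by rw [show r ^ 25 = (r ^ 5) ^ 5 by ring, ← mul_pow, h5, one_pow]
      calc t ^ 5 = t ^ 5 * (r ^ 15) ^ 2 := by rw [h16]; ring
        _ = (t ^ 5 * r ^ 25) * r ^ 5 := by ring
        _ = r ^ 5 := by rw [this, one_mul]
  have := key 5 _ (pow_eq_scalar M hM45 h45 (by norm_num) hall5)
  norm_num at this


/-- No element of PSL_3(4) has order 15. -/
theorem result {F : Type*} [Field F] [Fintype F] (hF : Fintype.card F = 4) (g : Matrix.ProjectiveSpecialLinearGroup (Fin 3) F) : orderOf g ≠ 15 := by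
  exact main hF g

end Cfsg.Agent.S0819
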