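import Cfsg.Statements.S0821
import Cfsg.Agent.H34.OmegaInvolutions
import Cfsg.Agent.H34.SpInvolutions

set_option autoImplicit false
open Cfsg

namespace Cfsg.Agent.S0821

theorem main {F : Type*} [Field F] [Fintype F] (hodd : Odd (Fintype.card F)) (m : ℕ) (hm : 3 ≤ m)
    (e : Cfsg.PSp m F ≃* Cfsg.POmega F (Cfsg.quadFormOdd m F)) : False := by
  classical
  have h2 : (2 : F) ≠ 0 := by
    apply Ring.two_ne_zero
    intro h
    have := FiniteField.even_card_of_char_two (F := F) h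
    obtain ⟨r, hr⟩ := hodd
    omega
  have hq : 2 ≤ Fintype.card F := Fintype.one_lt_card
  choose g hg hgg hfix using fun j : Fin m =>
    H34.exists_omega_involution hodd m (j.1 + 1) (by omega) (by omega)
  let ω : Fin m → ↥(Cfsg.Omega F (Cfsg.quadFormOdd m F)) := fun j => ⟨g j, hg j⟩
  have hcen : ∀ a b : ↥(Cfsg.Omega F (Cfsg.quadFormOdd m F)),
      (QuotientGroup.mk a : Cfsg.POmega F (Cfsg.quadFormOdd m F)) = QuotientGroup.mk b → a = b := by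
    intro a b h
    have hmem := QuotientGroup.eq.mp h
    exact inv_mul_eq_one.mp (H34.center_omega_odd h2 hm _ hmem)
  have hcard : ∀ j : Fin m,
      Nat.card {v : Unit ⊕ (Fin m ⊕ Fin m) → F //
        (((g j).1 : Matrix.GeneralLinearGroup (Unit ⊕ (Fin m ⊕ Fin m)) F) :
          Matrix (Unit ⊕ (Fin m ⊕ Fin m)) (Unit ⊕ (Fin m ⊕ Fin m)) F).mulVec v = v} =
      Fintype.card F ^ (1 + 2 * (m - (j.1 + 1))) := hfix
  have horder : ∀ j, orderOf (e.symm (QuotientGroup.mk (ω j))) = 2 := by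
    intro j
    rw [MulEquiv.orderOf_eq]
    refine orderOf_eq_prime ?_ ?_
    · rw [sq, ← QuotientGroup.mk_mul]
      have h1 : ω j * ω j = 1 := Subtype.ext (hgg j)
      rw [h1]; rfl
    · intro h
      have h1 : ω j = 1 := hcen _ 1 h
      have h1' : g j = 1 := congrArg Subtype.val h1
      have h3 := hcard j
      rw [h1'] at h3
      simp only [OneMemClass.coe_one, Units.val_one, Matrix.one_mulVec] at h3
      rw [Nat.card_congr (Equiv.subtypeUnivEquiv fun _ => trivial), Nat.card_fun, Nat.card_eq_fintype_card,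
        Nat.card_eq_fintype_card] at h3
      have := Nat.pow_right_injective hq h3
      simp at this
      omega
  choose k hk htype using fun j => H34.exists_hasType h2 (by omega) _ (horder j)
  have hlt : Fintype.card (Fin (m / 2 + 1)) < Fintype.card (Fin m) := by simp; omega
  obtain ⟨i, j, hij, hkij⟩ := Fintype.exists_ne_map_eq_of_card_lt
    (fun j => (⟨k j, by have := hk j; omega⟩ : Fin (m / 2 + 1))) hlt
  have hkeq : k i = k j := congrArg Fin.val hkij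
  have hconj := MonoidHom.map_isConj e.toMonoidHom (H34.isConj_of_hasType h2 (htype i) (hkeq ▸ htype j))
  simp only [MulEquiv.coe_toMonoidHom, MulEquiv.apply_symm_apply] at hconj
  obtain ⟨c, hc⟩ := isConj_iff.mp hconj
  obtain ⟨a, rfl⟩ := QuotientGroup.mk_surjective c
  rw [← QuotientGroup.mk_inv, ← QuotientGroup.mk_mul, ← QuotientGroup.mk_mul] at hc
  have haa := congrArg (fun x => x.1) (hcen _ _ hc)
  change a.1 * g i * a.1⁻¹ = g j at haa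
  set A : Matrix.GeneralLinearGroup (Unit ⊕ (Fin m ⊕ Fin m)) F := a.1.1 with hA
  have hmat : A * (g i).1 = (g j).1 * A := by
    have := congrArg Subtype.val haa
    change A * (g i).1 * A⁻¹ = (g j).1 at this
    rw [← this, inv_mul_cancel_right]
  have hmv : ∀ v, (A : Matrix (Unit ⊕ (Fin m ⊕ Fin m)) (Unit ⊕ (Fin m ⊕ Fin m)) F).mulVec (((g i).1 : Matrix (Unit ⊕ (Fin m ⊕ Fin m)) (Unit ⊕ (Fin m ⊕ Fin m)) F).mulVec v) =
      ((g j).1 : Matrix (Unit ⊕ (Fin m ⊕ Fin m)) (Unit ⊕ (Fin m ⊕ Fin m)) F).mulVec ((A : Matrix (Unit ⊕ (Fin m ⊕ Fin m)) (Unit ⊕ (Fin m ⊕ Fin m)) F).mulVec v) := fun v => by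
    rw [Matrix.mulVec_mulVec, Matrix.mulVec_mulVec, ← Units.val_mul, hmat, Units.val_mul]
  have hAA : ∀ v, ((A⁻¹ : Matrix.GeneralLinearGroup (Unit ⊕ (Fin m ⊕ Fin m)) F) : Matrix (Unit ⊕ (Fin m ⊕ Fin m)) (Unit ⊕ (Fin m ⊕ Fin m)) F).mulVec ((A : Matrix (Unit ⊕ (Fin m ⊕ Fin m)) (Unit ⊕ (Fin m ⊕ Fin m)) F).mulVec v) = v :=
    fun v => by rw [Matrix.mulVec_mulVec, ← Units.val_mul, inv_mul_cancel, Units.val_one, Matrix.one_mulVec]
  have hAA' : ∀ v, (A : Matrix (Unit ⊕ (Fin m ⊕ Fin m)) (Unit ⊕ (Fin m ⊕ Fin m)) F).mulVec (((A⁻¹ : Matrix.GeneralLinearGroup (Unit ⊕ (Fin m ⊕ Fin m)) F) : Matrix (Unit ⊕ (Fin m ⊕ Fin m)) (Unit ⊕ (Fin m ⊕ Fin m)) F).mulVec v) = v :=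
    fun v => by rw [Matrix.mulVec_mulVec, ← Units.val_mul, mul_inv_cancel, Units.val_one, Matrix.one_mulVec]
  have hcongr := Nat.card_congr
    ({ toFun := fun v => ⟨(A : Matrix (Unit ⊕ (Fin m ⊕ Fin m)) (Unit ⊕ (Fin m ⊕ Fin m)) F).mulVec v.1, by rw [← hmv, v.2]⟩
       invFun := fun v => ⟨((A⁻¹ : Matrix.GeneralLinearGroup (Unit ⊕ (Fin m ⊕ Fin m)) F) : Matrix (Unit ⊕ (Fin m ⊕ Fin m)) (Unit ⊕ (Fin m ⊕ Fin m)) F).mulVec v.1, by
        calc ((g i).1 : Matrix (Unit ⊕ (Fin m ⊕ Fin m)) (Unit ⊕ (Fin m ⊕ Fin m)) F).mulVec (((A⁻¹ : Matrix.GeneralLinearGroup (Unit ⊕ (Fin m ⊕ Fin m)) F) : Matrix (Unit ⊕ (Fin m ⊕ Fin m)) (Unit ⊕ (Fin m ⊕ Fin m)) F).mulVec v.1)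
            = ((A⁻¹ : Matrix.GeneralLinearGroup (Unit ⊕ (Fin m ⊕ Fin m)) F) : Matrix (Unit ⊕ (Fin m ⊕ Fin m)) (Unit ⊕ (Fin m ⊕ Fin m)) F).mulVec
                ((A : Matrix (Unit ⊕ (Fin m ⊕ Fin m)) (Unit ⊕ (Fin m ⊕ Fin m)) F).mulVec (((g i).1 : Matrix (Unit ⊕ (Fin m ⊕ Fin m)) (Unit ⊕ (Fin m ⊕ Fin m)) F).mulVec
                  (((A⁻¹ : Matrix.GeneralLinearGroup (Unit ⊕ (Fin m ⊕ Fin m)) F) : Matrix (Unit ⊕ (Fin m ⊕ Fin m)) (Unit ⊕ (Fin m ⊕ Fin m)) F).mulVec v.1))) := (hAA _).symm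
          _ = ((A⁻¹ : Matrix.GeneralLinearGroup (Unit ⊕ (Fin m ⊕ Fin m)) F) : Matrix (Unit ⊕ (Fin m ⊕ Fin m)) (Unit ⊕ (Fin m ⊕ Fin m)) F).mulVec v.1 := by
            rw [hmv, hAA', v.2]⟩
       left_inv := fun v => Subtype.ext (hAA v.1)
       right_inv := fun v => Subtype.ext (hAA' v.1) } :
      {v : Unit ⊕ (Fin m ⊕ Fin m) → F //
        (((g i).1 : Matrix.GeneralLinearGroup (Unit ⊕ (Fin m ⊕ Fin m)) F) :
          Matrix (Unit ⊕ (Fin m ⊕ Fin m)) (Unit ⊕ (Fin m ⊕ Fin m)) F).mulVec v = v} ≃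
      {v : Unit ⊕ (Fin m ⊕ Fin m) → F //
        (((g j).1 : Matrix.GeneralLinearGroup (Unit ⊕ (Fin m ⊕ Fin m)) F) :
          Matrix (Unit ⊕ (Fin m ⊕ Fin m)) (Unit ⊕ (Fin m ⊕ Fin m)) F).mulVec v = v})
  rw [hcard, hcard] at hcongr
  have := Nat.pow_right_injective hq hcongr
  exact hij (Fin.ext (by omega))


/-- PSp_2m(q) ≇ PΩ_(2m+1)(q) for q odd and m ≥ 3 (they have the same order). -/
theorem result {F : Type*} [Field F] [Fintype F] (hodd : Odd (Fintype.card F)) (m : ℕ) (hm : 3 ≤ m) : IsEmpty (Cfsg.PSp m F ≃* Cfsg.POmega F (Cfsg.quadFormOdd m F)) := by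
  exact ⟨fun e => main hodd m hm e⟩

end Cfsg.Agent.S0821
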