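import Cfsg.Statements.S0823
import Mathlib

set_option autoImplicit false
open Cfsg

namespace Cfsg.Agent.S0823

open Matrix

abbrev Idx : Type := Unit ⊕ (Fin 1 ⊕ Fin 1)

abbrev M3 : Type := Matrix Idx Idx (ZMod 3)

/-- representatives of the four singular lines, pairwise polar value `-1` -/
def W : Fin 4 → Idx → ZMod 3 :=
  ![Sum.elim (fun _ => 0) (Sum.elim (fun _ => 1) (fun _ => 0)),
    Sum.elim (fun _ => 0) (Sum.elim (fun _ => 0) (fun _ => -1)),
    Sum.elim (fun _ => 1) (Sum.elim (fun _ => 1) (fun _ => -1)),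
    Sum.elim (fun _ => -1) (Sum.elim (fun _ => 1) (fun _ => -1))]

def mat (σ : Equiv.Perm (Fin 4)) : M3 := fun i j =>
  ((Equiv.Perm.sign σ : ℤ) : ZMod 3) *
    Sum.elim (fun _ => W (σ 2) i - W (σ 0) i - W (σ 1) i)
      (Sum.elim (fun _ => W (σ 0) i) (fun _ => -W (σ 1) i)) j

def Qf (v : Idx → ZMod 3) : ZMod 3 :=
  v (.inl ()) * v (.inl ()) + v (.inr (.inl 0)) * v (.inr (.inr 0))

def vec (a b c : ZMod 3) : Idx → ZMod 3 := Sum.elim (fun _ => a) (Sum.elim (fun _ => b) (fun _ => c))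

theorem vec_eq (v : Idx → ZMod 3) : vec (v (.inl ())) (v (.inr (.inl 0))) (v (.inr (.inr 0))) = v := by
  funext i
  rcases i with u | i | i
  · rfl
  all_goals fin_cases i; rfl

theorem mat_one : mat 1 = 1 := by decide +kernel

theorem mat_mul : ∀ σ τ : Equiv.Perm (Fin 4), mat (σ * τ) = mat σ * mat τ := by decide +kernel

theorem mat_iso : ∀ (σ : Equiv.Perm (Fin 4)) (a b c : ZMod 3), Qf (mat σ *ᵥ vec a b c) = Qf (vec a b c) := by
  decide +kernel

theorem mat_inj : ∀ σ : Equiv.Perm (Fin 4), mat σ = 1 → σ = 1 := by decide +kernel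

set_option synthInstance.maxSize 5000 in
set_option synthInstance.maxHeartbeats 400000 in
theorem surj_aux : ∀ a₁ b₁ c₁ : ZMod 3, Qf (vec a₁ b₁ c₁) = 0 → ∀ a₂ b₂ c₂ : ZMod 3, Qf (vec a₂ b₂ c₂) = 0 →
    Qf (vec a₁ b₁ c₁ + vec a₂ b₂ c₂) = 1 → ∀ a₀ b₀ c₀ : ZMod 3, Qf (vec a₀ b₀ c₀) = 1 →
    Qf (vec a₀ b₀ c₀ + vec a₁ b₁ c₁) = 1 → Qf (vec a₀ b₀ c₀ + vec a₂ b₂ c₂) = 1 →
    a₀ * (b₁ * c₂ - c₁ * b₂) - b₀ * (a₁ * c₂ - c₁ * a₂) + c₀ * (a₁ * b₂ - b₁ * a₂) = 1 →
    ∃ σ : Equiv.Perm (Fin 4), (∀ i, mat σ i (.inl ()) = vec a₀ b₀ c₀ i) ∧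
      (∀ i, mat σ i (.inr (.inl 0)) = vec a₁ b₁ c₁ i) ∧ (∀ i, mat σ i (.inr (.inr 0)) = vec a₂ b₂ c₂ i) := by
  decide +kernel

theorem det_idx {R : Type*} [CommRing R] (M : Matrix Idx Idx R) :
    M.det = M (.inl ()) (.inl ()) * (M (.inr (.inl 0)) (.inr (.inl 0)) * M (.inr (.inr 0)) (.inr (.inr 0)) -
        M (.inr (.inr 0)) (.inr (.inl 0)) * M (.inr (.inl 0)) (.inr (.inr 0))) -
      M (.inr (.inl 0)) (.inl ()) * (M (.inl ()) (.inr (.inl 0)) * M (.inr (.inr 0)) (.inr (.inr 0)) -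
        M (.inr (.inr 0)) (.inr (.inl 0)) * M (.inl ()) (.inr (.inr 0))) +
      M (.inr (.inr 0)) (.inl ()) * (M (.inl ()) (.inr (.inl 0)) * M (.inr (.inl 0)) (.inr (.inr 0)) -
        M (.inr (.inl 0)) (.inr (.inl 0)) * M (.inl ()) (.inr (.inr 0))) := by
  let e : Fin 3 ≃ Idx :=
    { toFun := ![.inl (), .inr (.inl 0), .inr (.inr 0)]
      invFun := Sum.elim (fun _ => 0) (Sum.elim (fun _ => 1) (fun _ => 2))
      left_inv := fun i => by fin_cases i <;> rfl
      right_inv := fun i => by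
        rcases i with u | i | i
        · rfl
        all_goals fin_cases i; rfl }
  rw [← det_submatrix_equiv_self e M, det_fin_three]
  simp only [submatrix_apply, e, Equiv.coe_fn_mk, Matrix.cons_val_zero, Matrix.cons_val_one, Matrix.cons_val]
  ring

theorem det_mat : ∀ σ : Equiv.Perm (Fin 4), (mat σ).det = 1 := by
  intro σ
  rw [det_idx]
  revert σ
  decide +kernel

theorem main {F : Type*} [Field F] [Fintype F] (hF : Fintype.card F = 3) :
    Nonempty (↥(Cfsg.specialIsometryGroup F (Cfsg.quadFormOdd 1 F)) ≃* Equiv.Perm (Fin 4)) := by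
  haveI : Fact (Nat.Prime 3) := ⟨Nat.prime_three⟩
  let φ : ZMod 3 ≃+* F := ZMod.ringEquivOfPrime F Nat.prime_three hF
  have hQ : ∀ v : Idx → ZMod 3, Cfsg.quadFormOdd 1 F (φ ∘ v) = φ (Qf v) := fun v => by
    simp [Cfsg.quadFormOdd, Qf, sq]
  let m : Equiv.Perm (Fin 4) → Matrix Idx Idx F := fun σ => (mat σ).map φ
  have hm : ∀ σ τ, m (σ * τ) = m σ * m τ := fun σ τ => by
    show (mat (σ * τ)).map φ = (mat σ).map φ * (mat τ).map φ
    rw [mat_mul, Matrix.map_mul]
  have hm1 : m 1 = 1 := by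
    show (mat 1).map φ = 1
    rw [mat_one, Matrix.map_one _ (map_zero φ) (map_one φ)]
  have hpres : ∀ σ (v : Idx → F), Cfsg.quadFormOdd 1 F (m σ *ᵥ v) = Cfsg.quadFormOdd 1 F v := by
    intro σ v
    obtain ⟨w, rfl⟩ : ∃ w : Idx → ZMod 3, φ ∘ w = v := ⟨φ.symm ∘ v, by funext i; simp⟩
    have e : m σ *ᵥ (φ ∘ w) = φ ∘ (mat σ *ᵥ w) := by
      funext i
      simpa using (RingHom.map_mulVec φ.toRingHom (mat σ) w i).symm
    rw [e, hQ, hQ, ← vec_eq w, mat_iso]
  let G := Cfsg.isometryGroup F (Cfsg.quadFormOdd 1 F)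
  let g : Equiv.Perm (Fin 4) →* G :=
    MonoidHom.mk' (fun σ => ⟨⟨m σ, m σ⁻¹, by rw [← hm, mul_inv_cancel, hm1], by rw [← hm, inv_mul_cancel, hm1]⟩,
      fun u _ => hpres σ u⟩) (fun σ τ => Subtype.ext (Units.ext (hm σ τ)))
  have hmem : ∀ σ, g σ ∈ Cfsg.specialIsometryGroup F (Cfsg.quadFormOdd 1 F) := fun σ => by
    refine MonoidHom.mem_ker.mpr (Units.ext ?_)
    show (m σ).det = 1
    show ((mat σ).map φ).det = 1
    rw [← RingEquiv.mapMatrix_apply, ← RingEquiv.map_det, det_mat, map_one]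
  let f : Equiv.Perm (Fin 4) →* ↥(Cfsg.specialIsometryGroup F (Cfsg.quadFormOdd 1 F)) := g.codRestrict _ hmem
  refine ⟨(MulEquiv.ofBijective f ⟨?_, ?_⟩).symm⟩
  · rw [← MonoidHom.ker_eq_bot_iff, eq_bot_iff]
    intro σ hσ
    rw [Subgroup.mem_bot]
    apply mat_inj
    have h : m σ = 1 := congrArg (fun x => ((Subtype.val (Subtype.val x) : Matrix.GeneralLinearGroup Idx F) : Matrix Idx Idx F))
      (MonoidHom.mem_ker.mp hσ)
    ext i j
    apply φ.injective
    have := congrFun (congrFun h i) j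
    show φ (mat σ i j) = φ ((1 : M3) i j)
    rw [show φ ((1 : M3) i j) = (1 : Matrix Idx Idx F) i j by
      simp only [Matrix.one_apply]; split <;> simp]
    exact this
  · rintro ⟨⟨A, hA⟩, hdet⟩
    let N : M3 := (A : Matrix Idx Idx F).map φ.symm
    have hAN : (A : Matrix Idx Idx F) = N.map φ := by ext i j; simp [N]
    have hN : ∀ v, Qf (N *ᵥ v) = Qf v := by
      intro v
      apply φ.injective
      rw [← hQ, ← hQ]
      have e : φ ∘ (N *ᵥ v) = (A : Matrix Idx Idx F) *ᵥ (φ ∘ v) := by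
        funext i; rw [hAN]; simpa using RingHom.map_mulVec φ.toRingHom N v i
      rw [e]
      exact hA _ 0
    have hNdet : N.det = 1 := by
      apply φ.injective
      rw [RingEquiv.map_det, RingEquiv.mapMatrix_apply, ← hAN, map_one]
      exact congrArg Units.val (MonoidHom.mem_ker.mp hdet)
    have col : ∀ j : Idx, N *ᵥ Pi.single j 1 = fun i => N i j := fun j => by funext i; simp
    have col' : ∀ j j' : Idx, N *ᵥ (Pi.single j 1 + Pi.single j' 1) = (fun i => N i j) + fun i => N i j' := fun j j' => by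
      rw [mulVec_add, col, col]
    obtain ⟨σ, e0, e1, e2⟩ := surj_aux (N (.inl ()) (.inr (.inl 0))) (N (.inr (.inl 0)) (.inr (.inl 0))) (N (.inr (.inr 0)) (.inr (.inl 0)))
      (by rw [vec_eq fun i => N i (.inr (.inl 0)), ← col, hN]; simp [Qf, Pi.single_apply])
      (N (.inl ()) (.inr (.inr 0))) (N (.inr (.inl 0)) (.inr (.inr 0))) (N (.inr (.inr 0)) (.inr (.inr 0)))
      (by rw [vec_eq fun i => N i (.inr (.inr 0)), ← col, hN]; simp [Qf, Pi.single_apply])
      (by rw [vec_eq fun i => N i (.inr (.inl 0)), vec_eq fun i => N i (.inr (.inr 0)), ← col', hN]; simp [Qf, Pi.single_apply])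
      (N (.inl ()) (.inl ())) (N (.inr (.inl 0)) (.inl ())) (N (.inr (.inr 0)) (.inl ()))
      (by rw [vec_eq fun i => N i (.inl ()), ← col, hN]; simp [Qf, Pi.single_apply])
      (by rw [vec_eq fun i => N i (.inl ()), vec_eq fun i => N i (.inr (.inl 0)), ← col', hN]; simp [Qf, Pi.single_apply])
      (by rw [vec_eq fun i => N i (.inl ()), vec_eq fun i => N i (.inr (.inr 0)), ← col', hN]; simp [Qf, Pi.single_apply])
      (by rw [← hNdet, det_idx] <;> ring)
    rw [vec_eq fun i => N i (.inl ())] at e0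
    rw [vec_eq fun i => N i (.inr (.inl 0))] at e1
    rw [vec_eq fun i => N i (.inr (.inr 0))] at e2
    refine ⟨σ, Subtype.ext (Subtype.ext (Units.ext ?_))⟩
    show (mat σ).map φ = (A : Matrix Idx Idx F)
    rw [hAN]
    congr 1
    ext i j
    rcases j with u | j | j
    · exact e0 i
    · fin_cases j; exact e1 i
    · fin_cases j; exact e2 i


/-- SO_3(3) ≅ S_4: the determinant-one isometries of the form x_0² + x_1y_1 over the field with 3 elements form a group isomorphic to the symmetric group on 4 letters. -/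
theorem result {F : Type*} [Field F] [Fintype F] (hF : Fintype.card F = 3) : Nonempty (↥(Cfsg.specialIsometryGroup F (Cfsg.quadFormOdd 1 F)) ≃* Equiv.Perm (Fin 4)) := by
  exact main hF

end Cfsg.Agent.S0823
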