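import Cfsg.Statements.S0824
import Mathlib

set_option autoImplicit false
open Cfsg

namespace Cfsg.Agent.S0824

open Matrix

abbrev Idx : Type := (Fin 1 ⊕ Fin 1) ⊕ Fin 2

abbrev M4 : Type := Matrix Idx Idx (ZMod 2)

def vec (a b c d : ZMod 2) : Idx → ZMod 2 := Sum.elim (Sum.elim (fun _ => a) (fun _ => b)) ![c, d]

/-- the five singular vectors -/
def P : Fin 5 → Idx → ZMod 2 :=
  ![vec 1 0 0 0, vec 0 1 0 0, vec 1 1 1 0, vec 1 1 0 1, vec 1 1 1 1]

def Qf (v : Idx → ZMod 2) : ZMod 2 :=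
  v (.inl (.inl 0)) * v (.inl (.inr 0)) +
    (v (.inr 0) * v (.inr 0) + v (.inr 0) * v (.inr 1) + v (.inr 1) * v (.inr 1))

def mat (σ : Equiv.Perm (Fin 5)) : M4 := fun i j =>
  Sum.elim (Sum.elim (fun _ => P (σ 0) i) (fun _ => P (σ 1) i))
    ![P (σ 2) i + P (σ 0) i + P (σ 1) i, P (σ 3) i + P (σ 0) i + P (σ 1) i] j

theorem vec_eq (v : Idx → ZMod 2) :
    vec (v (.inl (.inl 0))) (v (.inl (.inr 0))) (v (.inr 0)) (v (.inr 1)) = v := by
  funext i
  rcases i with (i | i) | i <;> fin_cases i <;> rfl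

theorem sing_cases : ∀ a b c d : ZMod 2, Qf (vec a b c d) = 0 →
    (∀ i, vec a b c d i = 0) ∨ ∃ k, ∀ i, vec a b c d i = P k i := by
  decide +kernel

theorem P_sing : ∀ k, Qf (P k) = 0 := by decide +kernel

theorem P_ne : ∀ k, ¬ ∀ i, P k i = 0 := by decide +kernel

theorem P_inj : ∀ k l, (∀ i, P k i = P l i) → k = l := by decide +kernel

theorem mat_P : ∀ (σ : Equiv.Perm (Fin 5)) (k : Fin 5) (i : Idx), (mat σ *ᵥ P k) i = P (σ k) i := by
  decide +kernel

theorem mat_iso : ∀ (σ : Equiv.Perm (Fin 5)) (a b c d : ZMod 2),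
    Qf (mat σ *ᵥ vec a b c d) = Qf (vec a b c d) := by
  decide +kernel

theorem col_P (j : Idx) : ∃ s : Finset (Fin 5), Pi.single j 1 = ∑ k ∈ s, P k := by
  rcases j with (j | j) | j
  · fin_cases j; exact ⟨{0}, by funext i; revert i; decide +kernel⟩
  · fin_cases j; exact ⟨{1}, by funext i; revert i; decide +kernel⟩
  · fin_cases j
    · exact ⟨{2, 0, 1}, by funext i; revert i; decide +kernel⟩
    · exact ⟨{3, 0, 1}, by funext i; revert i; decide +kernel⟩

theorem ext_P {M N : M4} (h : ∀ k, M *ᵥ P k = N *ᵥ P k) : M = N := by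
  ext i j
  obtain ⟨s, hs⟩ := col_P j
  have e : ∀ A : M4, A i j = (A *ᵥ Pi.single j 1) i := fun A => by simp
  rw [e M, e N, hs, Matrix.mulVec_sum, Matrix.mulVec_sum, Finset.sum_congr rfl fun k _ => h k]

theorem main {F : Type*} [Field F] [Fintype F] (hF : Fintype.card F = 2) :
    Nonempty (↥(Cfsg.isometryGroup F (Cfsg.quadFormMinus 1 F 1 1)) ≃* Equiv.Perm (Fin 5)) := by
  haveI : Fact (Nat.Prime 2) := ⟨Nat.prime_two⟩
  let φ : ZMod 2 ≃+* F := ZMod.ringEquivOfPrime F Nat.prime_two hF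
  have hQ : ∀ v : Idx → ZMod 2, Cfsg.quadFormMinus 1 F 1 1 (φ ∘ v) = φ (Qf v) := fun v => by
    simp [Cfsg.quadFormMinus, Qf, sq]
  have hPfun : ∀ σ k, mat σ *ᵥ P k = P (σ k) := fun σ k => funext (mat_P σ k)
  let m : Equiv.Perm (Fin 5) → Matrix Idx Idx F := fun σ => (mat σ).map φ
  have hmul : ∀ σ τ, mat (σ * τ) = mat σ * mat τ := fun σ τ => ext_P fun k => by
    rw [← Matrix.mulVec_mulVec, hPfun, hPfun, hPfun, Equiv.Perm.mul_apply]
  have hone : mat 1 = 1 := ext_P fun k => by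
    rw [hPfun, Matrix.one_mulVec, Equiv.Perm.one_apply]
  have hm : ∀ σ τ, m (σ * τ) = m σ * m τ := fun σ τ => by
    show (mat (σ * τ)).map φ = (mat σ).map φ * (mat τ).map φ
    rw [hmul, Matrix.map_mul]
  have hm1 : m 1 = 1 := by
    show (mat 1).map φ = 1
    rw [hone, Matrix.map_one _ (map_zero φ) (map_one φ)]
  have hpres : ∀ σ (v : Idx → F),
      Cfsg.quadFormMinus 1 F 1 1 (m σ *ᵥ v) = Cfsg.quadFormMinus 1 F 1 1 v := by
    intro σ v
    obtain ⟨w, rfl⟩ : ∃ w : Idx → ZMod 2, φ ∘ w = v := ⟨φ.symm ∘ v, by funext i; simp⟩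
    have e : m σ *ᵥ (φ ∘ w) = φ ∘ (mat σ *ᵥ w) := by
      funext i
      simpa using (RingHom.map_mulVec φ.toRingHom (mat σ) w i).symm
    rw [e, hQ, hQ, ← vec_eq w, mat_iso]
  let g : Equiv.Perm (Fin 5) →* Cfsg.isometryGroup F (Cfsg.quadFormMinus 1 F 1 1) :=
    MonoidHom.mk' (fun σ => ⟨⟨m σ, m σ⁻¹, by rw [← hm, mul_inv_cancel, hm1], by rw [← hm, inv_mul_cancel, hm1]⟩,
      fun u _ => hpres σ u⟩) (fun σ τ => Subtype.ext (Units.ext (hm σ τ)))
  refine ⟨(MulEquiv.ofBijective g ⟨?_, ?_⟩).symm⟩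
  · intro σ τ h
    have h1 : m σ = m τ := congrArg (fun x => ((Subtype.val x : Matrix.GeneralLinearGroup Idx F) : Matrix Idx Idx F)) h
    have h2 : mat σ = mat τ := Matrix.map_injective φ.injective h1
    refine Equiv.ext fun k => P_inj _ _ fun i => ?_
    rw [← hPfun, ← hPfun, h2]
  · rintro ⟨A, hA⟩
    let N : M4 := (A : Matrix Idx Idx F).map φ.symm
    let N' : M4 := ((A⁻¹ : Matrix.GeneralLinearGroup Idx F) : Matrix Idx Idx F).map φ.symm
    have hNN : N' * N = 1 := by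
      show ((A⁻¹ : Matrix.GeneralLinearGroup Idx F) : Matrix Idx Idx F).map φ.symm * _ = 1
      rw [← Matrix.map_mul, Units.inv_mul, Matrix.map_one _ (map_zero φ.symm) (map_one φ.symm)]
    have hAN : (A : Matrix Idx Idx F) = N.map φ := by ext i j; simp [N]
    have hN : ∀ v, Qf (N *ᵥ v) = Qf v := by
      intro v
      apply φ.injective
      rw [← hQ, ← hQ]
      have e : φ ∘ (N *ᵥ v) = (A : Matrix Idx Idx F) *ᵥ (φ ∘ v) := by
        funext i; rw [hAN]; simpa using RingHom.map_mulVec φ.toRingHom N v i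
      rw [e]
      exact hA _ 0
    have hninj : ∀ v w, N *ᵥ v = N *ᵥ w → v = w := fun v w h => by
      have := congrArg (N' *ᵥ ·) h
      simpa [Matrix.mulVec_mulVec, hNN] using this
    have himg : ∀ k, ∃ l, N *ᵥ P k = P l := by
      intro k
      have h0 : Qf (N *ᵥ P k) = 0 := by rw [hN, P_sing]
      rw [← vec_eq (N *ᵥ P k)] at h0 ⊢
      rcases sing_cases _ _ _ _ h0 with h | ⟨l, hl⟩
      · exfalso
        have hz : N *ᵥ P k = 0 := by
          rw [← vec_eq (N *ᵥ P k)]; funext i; exact h i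
        exact P_ne k (fun i => congrFun (hninj (P k) 0 (by rw [hz, Matrix.mulVec_zero])) i)
      · exact ⟨l, funext hl⟩
    choose f hf using himg
    have hfinj : Function.Injective f := fun a b h => P_inj a b fun i =>
      congrFun (hninj _ _ (by rw [hf, hf, h])) i
    refine ⟨Equiv.ofBijective f (Finite.injective_iff_bijective.1 hfinj), Subtype.ext (Units.ext ?_)⟩
    show (mat _).map φ = (A : Matrix Idx Idx F)
    rw [hAN]
    congr 1
    refine ext_P fun k => ?_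
    rw [hPfun, hf]
    rfl


/-- O⁻_4(2) ≅ S_5: the isometry group of the form x y + z_1² + z_1 z_2 + z_2² over the field with 2 elements is isomorphic to the symmetric group on 5 letters. -/
theorem result {F : Type*} [Field F] [Fintype F] (hF : Fintype.card F = 2) : Nonempty (↥(Cfsg.isometryGroup F (Cfsg.quadFormMinus 1 F 1 1)) ≃* Equiv.Perm (Fin 5)) := by
  exact main hF

end Cfsg.Agent.S0824
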