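import Cfsg.Statements.S0825
import Cfsg.Agent.S0287
import Mathlib

set_option autoImplicit false
open Cfsg

namespace Cfsg.Agent.S0825

open Matrix

abbrev Idx : Type := Fin 3 ⊕ Fin 3

abbrev M6 : Type := Matrix Idx Idx (ZMod 2)

abbrev W8 : Type := Fin 8 → ZMod 2

/-- six 4-subsets forming three hyperbolic pairs -/
def base : Idx → Finset (Fin 8) :=
  Sum.elim ![{0, 1, 2, 3}, {0, 1, 5, 6}, {0, 2, 6, 7}] ![{0, 1, 2, 4}, {0, 1, 5, 7}, {0, 3, 4, 5}]

/-- indicator -/
def ind (j : Idx) : W8 := fun k => if k ∈ base j then 1 else 0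

/-- the partner in the hyperbolic pair -/
def partner : Idx → Idx := Sum.elim Sum.inr Sum.inl

/-- coordinates -/
def co (x : W8) : Idx → ZMod 2 := fun i => ∑ k, x k * ind (partner i) k

/-- lift -/
def lift (v : Idx → ZMod 2) : W8 := fun k => ∑ j, v j * ind j k

/-- half weight -/
def half (x : W8) : ZMod 2 := ((Finset.univ.filter fun k => x k = 1).card / 2 : ℕ)

/-- the form -/
def Qf (v : Idx → ZMod 2) : ZMod 2 := ∑ i : Fin 3, v (.inl i) * v (.inr i)

/-- the matrix of a permutation -/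
def mat (σ : Equiv.Perm (Fin 8)) : M6 := fun i j => co (fun k => ind j (σ.symm k)) i

theorem co_add (x y : W8) : co (x + y) = co x + co y := by
  funext i; simp [co, add_mul, Finset.sum_add_distrib]

theorem co_const : ∀ c : ZMod 2, co (fun _ => c) = 0 := by
  intro c; funext i; revert c i; decide +kernel

theorem mat_mulVec (σ : Equiv.Perm (Fin 8)) (v : Idx → ZMod 2) :
    mat σ *ᵥ v = co (fun k => lift v (σ.symm k)) := by
  funext i
  simp only [Matrix.mulVec, dotProduct, mat, co, lift, Finset.sum_mul]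
  rw [Finset.sum_comm]
  exact Finset.sum_congr rfl fun k _ => Finset.sum_congr rfl fun j _ => by ring

/-- even weight -/
def Even8 (x : W8) : Prop := ∑ k, x k = 0

instance : DecidablePred Even8 := fun x => inferInstanceAs (Decidable (∑ k, x k = 0))

theorem cases8 (P : W8 → Prop) (h : ∀ a b c d e f g j : ZMod 2, P ![a, b, c, d, e, f, g, j])
    (x : W8) : P x := by
  have e : x = ![x 0, x 1, x 2, x 3, x 4, x 5, x 6, x 7] := by
    funext k; fin_cases k <;> rfl
  rw [e]; exact h _ _ _ _ _ _ _ _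

theorem decomp (x : W8) : Even8 x →
    ∃ c : ZMod 2, ∀ k, x k = lift (co x) k + c := by
  refine cases8 (fun x => Even8 x → ∃ c : ZMod 2, ∀ k, x k = lift (co x) k + c) ?_ x
  decide +kernel

theorem half_co (x : W8) : Even8 x → Qf (co x) = half x := by
  refine cases8 (fun x => Even8 x → Qf (co x) = half x) ?_ x
  decide +kernel

theorem vec_cases (P : (Idx → ZMod 2) → Prop)
    (h : ∀ a b c d e f : ZMod 2, P (Sum.elim ![a, b, c] ![d, e, f])) (v : Idx → ZMod 2) : P v := by
  have e : v = Sum.elim ![v (.inl 0), v (.inl 1), v (.inl 2)] ![v (.inr 0), v (.inr 1), v (.inr 2)] := by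
    funext i; rcases i with i | i <;> fin_cases i <;> rfl
  rw [e]; exact h _ _ _ _ _ _

theorem co_lift (v : Idx → ZMod 2) : co (lift v) = v := by
  refine vec_cases (fun v => co (lift v) = v) ?_ v
  intro a b c d e f; funext i; revert a b c d e f i; decide +kernel

theorem even_lift (v : Idx → ZMod 2) : Even8 (lift v) := by
  refine vec_cases (fun v => Even8 (lift v)) ?_ v
  decide +kernel

theorem even_perm (σ : Equiv.Perm (Fin 8)) {x : W8} (h : Even8 x) : Even8 (fun k => x (σ k)) := by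
  rw [Even8] at h ⊢
  rw [← h]; exact Equiv.sum_comp σ x

theorem half_perm (σ : Equiv.Perm (Fin 8)) (x : W8) : half (fun k => x (σ k)) = half x := by
  unfold half
  congr 2
  exact Finset.card_bij (fun k _ => σ k) (by intro a ha; simpa using ha)
    (fun a _ b _ h => σ.injective h) (fun b hb => ⟨σ.symm b, by simpa using hb, by simp⟩)

theorem mat_co (σ : Equiv.Perm (Fin 8)) {x : W8} (hx : Even8 x) :
    mat σ *ᵥ co x = co (fun k => x (σ.symm k)) := by
  obtain ⟨c, hc⟩ := decomp x hx
  rw [mat_mulVec]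
  conv_rhs =>
    rw [show (fun k => x (σ.symm k)) = (fun k => lift (co x) (σ.symm k)) + (fun _ => c) from
      funext fun k => hc _, co_add, co_const, add_zero]

theorem mat_mul (σ τ : Equiv.Perm (Fin 8)) : mat (σ * τ) = mat σ * mat τ := by
  refine Matrix.ext_iff_mulVec.2 fun v => ?_
  rw [← Matrix.mulVec_mulVec, mat_mulVec τ, mat_co σ (even_perm τ.symm (even_lift v)),
    mat_mulVec (σ * τ)]
  rfl

theorem mat_one : mat 1 = 1 := by
  refine Matrix.ext_iff_mulVec.2 fun v => ?_
  rw [mat_mulVec, Matrix.one_mulVec]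
  exact co_lift v

theorem mat_iso (σ : Equiv.Perm (Fin 8)) (v : Idx → ZMod 2) : Qf (mat σ *ᵥ v) = Qf v := by
  conv_rhs => rw [← co_lift v, half_co _ (even_lift v)]
  rw [mat_mulVec, half_co _ (even_perm σ.symm (even_lift v)), half_perm]

/-- indicator of a pair -/
def pair (a b : Fin 8) : W8 := fun k => if k = a ∨ k = b then 1 else 0

theorem even_pair : ∀ a b : Fin 8, a ≠ b → Even8 (pair a b) := by decide +kernel

theorem pair_inj : ∀ a b c d : Fin 8, a ≠ b → c ≠ d → co (pair a b) = co (pair c d) →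
    c = a ∨ c = b := by
  have h : ∀ a b c d : Fin 8, a ≠ b → c ≠ d → (∀ i, co (pair a b) i = co (pair c d) i) →
      c = a ∨ c = b := by decide +kernel
  exact fun a b c d h1 h2 h3 => h a b c d h1 h2 (congrFun h3)

theorem mat_ker (σ : Equiv.Perm (Fin 8)) (h : mat σ = 1) : σ = 1 := by
  have hp : ∀ a b, a ≠ b → σ a = a ∨ σ a = b := fun a b hab => by
    refine pair_inj a b (σ a) (σ b) hab (σ.injective.ne hab) ?_
    have e := mat_co σ (even_pair a b hab)
    rw [h, Matrix.one_mulVec] at e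
    rw [e]
    congr 1
    funext k
    simp [pair, Equiv.symm_apply_eq]
  refine Equiv.ext fun a => ?_
  by_contra hne
  obtain ⟨b, hb⟩ : ∃ b : Fin 8, b ≠ a ∧ b ≠ σ a := by
    revert hne; generalize σ a = c; revert a c; decide +kernel
  rcases hp a b (Ne.symm hb.1) with h1 | h1
  · exact hne h1
  · exact hb.2 h1.symm

theorem main {F : Type*} [Field F] [Fintype F] (hF : Fintype.card F = 2) :
    Nonempty (↥(Cfsg.isometryGroup F (Cfsg.quadFormPlus 3 F)) ≃* Equiv.Perm (Fin 8)) := by
  haveI : Fact (Nat.Prime 2) := ⟨Nat.prime_two⟩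
  let φ : ZMod 2 ≃+* F := ZMod.ringEquivOfPrime F Nat.prime_two hF
  have hQ : ∀ v : Idx → ZMod 2, Cfsg.quadFormPlus 3 F (φ ∘ v) = φ (Qf v) := fun v => by
    simp [Cfsg.quadFormPlus, Qf, map_sum]
  let m : Equiv.Perm (Fin 8) → Matrix Idx Idx F := fun σ => (mat σ).map φ
  have hm : ∀ σ τ, m (σ * τ) = m σ * m τ := fun σ τ => by
    show (mat (σ * τ)).map φ = (mat σ).map φ * (mat τ).map φ
    rw [mat_mul, Matrix.map_mul]
  have hm1 : m 1 = 1 := by
    show (mat 1).map φ = 1
    rw [mat_one, Matrix.map_one _ (map_zero φ) (map_one φ)]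
  have hpres : ∀ σ (v : Idx → F),
      Cfsg.quadFormPlus 3 F (m σ *ᵥ v) = Cfsg.quadFormPlus 3 F v := by
    intro σ v
    obtain ⟨w, rfl⟩ : ∃ w : Idx → ZMod 2, φ ∘ w = v := ⟨φ.symm ∘ v, by funext i; simp⟩
    have e : m σ *ᵥ (φ ∘ w) = φ ∘ (mat σ *ᵥ w) := by
      funext i
      simpa using (RingHom.map_mulVec φ.toRingHom (mat σ) w i).symm
    rw [e, hQ, hQ, mat_iso]
  let g : Equiv.Perm (Fin 8) →* Cfsg.isometryGroup F (Cfsg.quadFormPlus 3 F) :=
    MonoidHom.mk' (fun σ => ⟨⟨m σ, m σ⁻¹, by rw [← hm, mul_inv_cancel, hm1], by rw [← hm, inv_mul_cancel, hm1]⟩,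
      fun u _ => hpres σ u⟩) (fun σ τ => Subtype.ext (Units.ext (hm σ τ)))
  have hinj : Function.Injective g := (injective_iff_map_eq_one g).2 fun σ h => mat_ker σ <| by
    have h1 : m σ = 1 := congrArg
      (fun x => ((Subtype.val x : Matrix.GeneralLinearGroup Idx F) : Matrix Idx Idx F)) h
    rw [← hm1] at h1
    exact (Matrix.map_injective φ.injective h1).trans mat_one
  refine ⟨(MulEquiv.ofBijective g ((Nat.bijective_iff_injective_and_card g).2 ⟨hinj, ?_⟩)).symm⟩
  rw [Cfsg.Agent.S0287.result hF 3 (by norm_num), Nat.card_perm, Nat.card_eq_fintype_card, Fintype.card_fin]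
  simp [Finset.prod_range_succ, Nat.factorial]


/-- O⁺_6(2) ≅ S_8: the isometry group of the hyperbolic form x_1y_1 + x_2y_2 + x_3y_3 over the field with 2 elements is isomorphic to the symmetric group on 8 letters. -/
theorem result {F : Type*} [Field F] [Fintype F] (hF : Fintype.card F = 2) : Nonempty (↥(Cfsg.isometryGroup F (Cfsg.quadFormPlus 3 F)) ≃* Equiv.Perm (Fin 8)) := by
  exact main hF

end Cfsg.Agent.S0825
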