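import Cfsg.Statements.S0826
import Cfsg.Agent.Symplectic.Std
-- import your own Cfsg.Agent.* helpers here

set_option autoImplicit false
open Cfsg

namespace Cfsg.Agent.S0826

/-- S_2n ≤ Sp_(2n−2)(2) for n ≥ 3: there is an injective homomorphism from the symmetric group on 2n letters into the symplectic group of degree 2n − 2 over the field with two elements. -/
theorem result (n : ℕ) (hn : 3 ≤ n) : ∃ f : Equiv.Perm (Fin (2 * n)) →* Matrix.symplecticGroup (Fin (n - 1)) (ZMod 2), Function.Injective f := by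
  classical
  obtain ⟨N, hN, hN6, hNe⟩ : ∃ N, 2 * n = N + 1 ∧ 5 ≤ N ∧ ((N + 1 : ℕ) : ZMod 2) = 0 :=
    ⟨2 * n - 1, by omega, by omega, by
      rw [show 2 * n - 1 + 1 = 2 * n by omega, ZMod.natCast_eq_zero_iff_even]; exact even_two_mul n⟩
  rw [hN]
  let S : (Fin (N + 1) → ZMod 2) →ₗ[ZMod 2] ZMod 2 := ∑ i, LinearMap.proj i
  have hS : ∀ u : (Fin (N + 1) → ZMod 2), S u = ∑ i, u i := fun u => LinearMap.sum_apply _ _ _
  let W : Submodule (ZMod 2) (Fin (N + 1) → ZMod 2) := LinearMap.ker (S.prod (LinearMap.proj (Fin.last N)))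
  have hW : ∀ u : (Fin (N + 1) → ZMod 2), u ∈ W ↔ ∑ i, u i = 0 ∧ u (Fin.last N) = 0 := fun u => by
    show (S u, u (Fin.last N)) = (0, 0) ↔ _
    rw [Prod.mk.injEq, hS]
  let π : (Fin (N + 1) → ZMod 2) →ₗ[ZMod 2] (Fin (N + 1) → ZMod 2) := LinearMap.id + (LinearMap.proj (Fin.last N)).smulRight (fun _ => 1)
  have hπ : ∀ u i, π u i = u i + u (Fin.last N) := fun u i => by
    show u i + u (Fin.last N) * 1 = _
    rw [mul_one]
  have hz2 : ∀ x : ZMod 2, x + x = 0 := CharTwo.add_self_eq_zero
  have hπW : ∀ u : (Fin (N + 1) → ZMod 2), (∑ i, u i) = 0 → π u ∈ W := fun u hu => by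
    rw [hW]
    refine ⟨?_, by rw [hπ, hz2]⟩
    simp only [hπ, Finset.sum_add_distrib, hu, zero_add, Finset.sum_const, Finset.card_univ,
      Fintype.card_fin, nsmul_eq_mul, hNe, zero_mul]
  have hperm : ∀ (g : Equiv.Perm (Fin (N + 1))) (w : W), ∑ i, (w : (Fin (N + 1) → ZMod 2)) (g i) = 0 := fun g w => by
    rw [Equiv.sum_comp g]; exact ((hW _).1 w.2).1
  let act : Equiv.Perm (Fin (N + 1)) → (W →ₗ[ZMod 2] W) := fun g =>
    ((π.comp (LinearMap.funLeft (ZMod 2) (ZMod 2) (g⁻¹ : Equiv.Perm (Fin (N + 1))))).comp W.subtype).codRestrict W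
      fun w => hπW _ (hperm g⁻¹ w)
  have hact : ∀ g (w : W) i, (act g w : (Fin (N + 1) → ZMod 2)) i =
      (w : (Fin (N + 1) → ZMod 2)) ((g⁻¹ : Equiv.Perm (Fin (N + 1))) i) + (w : (Fin (N + 1) → ZMod 2)) ((g⁻¹ : Equiv.Perm (Fin (N + 1))) (Fin.last N)) :=
    fun g w i => hπ _ i
  have act_mul : ∀ g h w, act (g * h) w = act g (act h w) := by
    intro g h w
    refine Subtype.ext (funext fun i => ?_)
    simp only [hact, mul_inv_rev, Equiv.Perm.mul_apply]
    generalize (w : (Fin (N + 1) → ZMod 2)) (h⁻¹ (g⁻¹ i)) = a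
    generalize (w : (Fin (N + 1) → ZMod 2)) (h⁻¹ (g⁻¹ (Fin.last N))) = b
    generalize (w : (Fin (N + 1) → ZMod 2)) (h⁻¹ (Fin.last N)) = c
    revert a b c
    decide
  have act_one : ∀ w, act 1 w = w := fun w => by
    refine Subtype.ext (funext fun i => ?_)
    simp [hact, ((hW _).1 w.2).2]
  let D : LinearMap.BilinForm (ZMod 2) W :=
    (Matrix.toBilin' (1 : Matrix (Fin (N + 1)) (Fin (N + 1)) (ZMod 2))).compl₁₂ W.subtype W.subtype
  have hD : ∀ v w : W, D v w = ∑ i, (v : (Fin (N + 1) → ZMod 2)) i * (w : (Fin (N + 1) → ZMod 2)) i := fun v w => by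
    simp [D, Matrix.toBilin'_apply', dotProduct]
  have hDalt : D.IsAlt := fun v => by
    rw [hD, ← ((hW _).1 v.2).1]
    exact Finset.sum_congr rfl fun i _ => by generalize (v : (Fin (N + 1) → ZMod 2)) i = a; revert a; decide
  have hDinv : ∀ g v w, D (act g v) (act g w) = D v w := by
    intro g v w
    simp only [hD, hact, add_mul, mul_add, Finset.sum_add_distrib, ← Finset.mul_sum, ← Finset.sum_mul,
      hperm, Finset.sum_const, Finset.card_univ, Fintype.card_fin, nsmul_eq_mul, hNe, zero_mul,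
      mul_zero, add_zero]
    exact Equiv.sum_comp g⁻¹ (fun i => (v : (Fin (N + 1) → ZMod 2)) i * (w : (Fin (N + 1) → ZMod 2)) i)
  -- test vectors
  let pr : ∀ i j : Fin (N + 1), i ≠ Fin.last N → j ≠ Fin.last N → W := fun i j hi hj =>
    ⟨Pi.single i 1 + Pi.single j 1, by
      rw [hW]
      simp only [Pi.add_apply, Finset.sum_add_distrib, Finset.sum_pi_single', Finset.mem_univ,
        if_true, hz2, true_and, Pi.single_eq_of_ne (Ne.symm hi), Pi.single_eq_of_ne (Ne.symm hj)]⟩
  have hDrad : ∀ v : W, (∀ w, D v w = 0) → v = 0 := by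
    intro v hv
    have heq : ∀ i j, i ≠ Fin.last N → j ≠ Fin.last N → (v : (Fin (N + 1) → ZMod 2)) i = (v : (Fin (N + 1) → ZMod 2)) j := by
      intro i j hi hj
      have h1 := hv (pr i j hi hj)
      simp only [hD, pr, Pi.add_apply, mul_add, Finset.sum_add_distrib, Pi.single_apply, mul_ite,
        mul_one, mul_zero, Finset.sum_ite_eq', Finset.mem_univ, if_true] at h1
      revert h1
      generalize (v : (Fin (N + 1) → ZMod 2)) i = a
      generalize (v : (Fin (N + 1) → ZMod 2)) j = b
      revert a b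
      decide
    let i₀ : Fin (N + 1) := ⟨0, by omega⟩
    have hi₀ : i₀ ≠ Fin.last N := by simp [i₀, Fin.ext_iff]; omega
    obtain ⟨hsum, hlast⟩ := (hW _).1 v.2
    rw [Fin.sum_univ_castSucc, hlast, add_zero,
      Finset.sum_congr rfl (fun i _ => heq i.castSucc i₀ (Fin.castSucc_ne_last i) hi₀),
      Finset.sum_const, Finset.card_univ, Fintype.card_fin, nsmul_eq_mul] at hsum
    have hNodd : ((N : ℕ) : ZMod 2) = 1 := by
      push_cast at hNe
      revert hNe
      generalize ((N : ℕ) : ZMod 2) = a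
      revert a
      decide
    rw [hNodd, one_mul] at hsum
    refine Subtype.ext (funext fun i => ?_)
    by_cases hi : i = Fin.last N
    · rw [hi, hlast]; rfl
    · rw [heq i i₀ hi hi₀, hsum]; rfl
  obtain ⟨m, k, b, hb, hrad⟩ := Cfsg.Agent.Symplectic.exists_hyp_basis D hDalt
  have hk : k = 0 := by
    by_contra hk
    exact b.ne_zero _ (hDrad (b (Sum.inr ⟨0, Nat.pos_of_ne_zero hk⟩)) fun w => hrad _ w)
  subst hk
  have hdim : Module.finrank (ZMod 2) W = N - 1 := by
    have h := LinearMap.finrank_range_add_finrank_ker (S.prod (LinearMap.proj (R := ZMod 2) (φ := fun _ : Fin (N + 1) => ZMod 2) (Fin.last N)))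
    rw [LinearMap.range_eq_top.2 ?_, finrank_top, Module.finrank_prod, Module.finrank_self,
      Module.finrank_fintype_fun_eq_card, Fintype.card_fin] at h
    · show Module.finrank (ZMod 2) (LinearMap.ker _) = _
      omega
    rintro ⟨a, c⟩
    refine ⟨Pi.single (0 : Fin (N + 1)) (a - c) + Pi.single (Fin.last N) c, ?_⟩
    have h0 : Fin.last N ≠ 0 := by simp [Fin.ext_iff]; omega
    simp [hS, Finset.sum_add_distrib, h0]
  have hm : m = n - 1 := by
    have := Module.finrank_eq_card_basis b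
    simp [hdim] at this
    omega
  subst hm
  let b' := b.reindex (Equiv.sumEmpty _ (Fin 0))
  let φ : W ≃ₗ[ZMod 2] (Fin (n - 1) ⊕ Fin (n - 1) → ZMod 2) := b'.equivFun
  have hφ : D = (Cfsg.Agent.Symplectic.spB (n - 1) (ZMod 2)).compl₁₂ φ.toLinearMap φ.toLinearMap := by
    refine LinearMap.BilinForm.ext_basis b' fun i j => ?_
    rw [LinearMap.compl₁₂_apply]
    have hs : ∀ i, φ (b' i) = Pi.single i 1 := fun i => by
      funext j; simp [φ, Module.Basis.equivFun_apply, Pi.single_apply, Finsupp.single_apply, eq_comm]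
    show D (b' i) (b' j) = Cfsg.Agent.Symplectic.spB (n - 1) (ZMod 2) (φ (b' i)) (φ (b' j))
    rw [hs, hs, Cfsg.Agent.Symplectic.spB_single]
    obtain ⟨h1, h2, h3⟩ := hb
    have hb' : ∀ x, b' x = b (Sum.inl x) := fun x => by simp [b', Module.Basis.reindex_apply]
    rcases i with i | i <;> rcases j with j | j
    · simp [b', Matrix.J, h2]
    · rw [hb', hb', h1 i j]
      simp [Matrix.J, Matrix.one_apply, ZMod.neg_eq_self_mod_two]
    · rw [hb', hb', Cfsg.Agent.Symplectic.alt_swap hDalt, h1 j i]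
      simp [Matrix.J, Matrix.one_apply, ZMod.neg_eq_self_mod_two, eq_comm]
    · simp [b', Matrix.J, h3]
  let actE : Equiv.Perm (Fin (N + 1)) → (W ≃ₗ[ZMod 2] W) := fun g =>
    LinearEquiv.ofLinearMap (act g) (act g⁻¹)
      (LinearMap.ext fun w => by rw [LinearMap.comp_apply, ← act_mul, mul_inv_cancel, act_one]; rfl)
      (LinearMap.ext fun w => by rw [LinearMap.comp_apply, ← act_mul, inv_mul_cancel, act_one]; rfl)
  let toIso : Equiv.Perm (Fin (N + 1)) →*
      Cfsg.Agent.Symplectic.Isom (Cfsg.Agent.Symplectic.spB (n - 1) (ZMod 2)) :=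
    MonoidHom.mk' (fun g => ⟨(φ.symm.trans (actE g)).trans φ, fun u v => by
      have := hDinv g (φ.symm u) (φ.symm v)
      rw [hφ] at this
      simpa [actE] using this⟩)
      (fun g h => Subtype.ext (LinearEquiv.ext fun x => by simp [actE, act_mul]))
  refine ⟨(Cfsg.Agent.Symplectic.spEquiv (n - 1) (ZMod 2)).symm.toMonoidHom.comp toIso, ?_⟩
  rw [MonoidHom.coe_comp]
  refine (MulEquiv.injective _).comp ((injective_iff_map_eq_one toIso).2 fun g hg => ?_)
  have hfix : ∀ w, act g w = w := by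
    intro w
    have := congrArg (fun e => φ.symm ((e : Cfsg.Agent.Symplectic.Isom
      (Cfsg.Agent.Symplectic.spB (n - 1) (ZMod 2))).1 (φ w))) hg
    simpa [toIso, actE] using this
  obtain ⟨σ, hσ⟩ : ∃ σ : Equiv.Perm (Fin (N + 1)), σ = g⁻¹ := ⟨_, rfl⟩
  suffices h : σ = 1 by simpa [hσ] using h
  have hpair : ∀ i j, i ≠ Fin.last N → j ≠ Fin.last N → i ≠ j →
      ∀ l, σ l = i → l = i ∨ l = j := by
    intro i j hi hj hij
    have h : ∀ l, ((if σ l = i then (1 : ZMod 2) else 0) + (if σ l = j then 1 else 0)) +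
        ((if σ (Fin.last N) = i then (1 : ZMod 2) else 0) + (if σ (Fin.last N) = j then 1 else 0)) =
        (if l = i then (1 : ZMod 2) else 0) + (if l = j then 1 else 0) := by
      intro l
      have h := (hact g (pr i j hi hj) l).symm.trans
        (congrArg (fun w : W => (w : (Fin (N + 1) → ZMod 2)) l) (hfix (pr i j hi hj)))
      rw [← hσ] at h
      simpa only [pr, Pi.add_apply, Pi.single_apply] using h
    have hc : σ (Fin.last N) ≠ i ∧ σ (Fin.last N) ≠ j := by
      obtain ⟨l, -, hl⟩ := Finset.exists_mem_notMem_of_card_lt_card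
        (s := {i, j, σ.symm i, σ.symm j}) (t := Finset.univ)
        (by rw [Finset.card_univ, Fintype.card_fin]; exact lt_of_le_of_lt Finset.card_le_four (by omega))
      simp only [Finset.mem_insert, Finset.mem_singleton, not_or] at hl
      have h' := h l
      rw [if_neg fun e => hl.2.2.1 (by rw [← e, Equiv.symm_apply_apply]),
        if_neg fun e => hl.2.2.2 (by rw [← e, Equiv.symm_apply_apply]), if_neg hl.1, if_neg hl.2.1,
        add_zero, zero_add] at h'
      by_cases e1 : σ (Fin.last N) = i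
      · simp [e1, hij] at h'
      · by_cases e2 : σ (Fin.last N) = j
        · simp [e1, e2] at h'
          exact absurd h' (by simp [hij.symm])
        · exact ⟨e1, e2⟩
    intro l hl
    have h' := h l
    by_contra hne
    simp only [not_or] at hne
    rw [if_pos hl, if_neg (hl ▸ hij), if_neg hc.1, if_neg hc.2, if_neg hne.1, if_neg hne.2] at h'
    simp at h'
  have hfixed : ∀ i, i ≠ Fin.last N → σ i = i := by
    intro i hi
    obtain ⟨j, -, hj⟩ := Finset.exists_mem_notMem_of_card_lt_card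
      (s := {i, Fin.last N}) (t := Finset.univ)
      (by rw [Finset.card_univ, Fintype.card_fin]; exact lt_of_le_of_lt Finset.card_le_two (by omega))
    obtain ⟨j', -, hj'⟩ := Finset.exists_mem_notMem_of_card_lt_card
      (s := {i, Fin.last N, j}) (t := Finset.univ)
      (by rw [Finset.card_univ, Fintype.card_fin]; exact lt_of_le_of_lt Finset.card_le_three (by omega))
    simp only [Finset.mem_insert, Finset.mem_singleton, not_or] at hj hj'
    have a := hpair i j hi hj.2 (Ne.symm hj.1) (σ.symm i) (σ.apply_symm_apply i)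
    have b := hpair i j' hi hj'.2.1 (Ne.symm hj'.1) (σ.symm i) (σ.apply_symm_apply i)
    have e : σ.symm i = i := by
      rcases a with a | a
      · exact a
      · rcases b with b | b
        · exact b
        · exact absurd (b.symm.trans a) hj'.2.2
    conv_lhs => rw [← e]
    exact σ.apply_symm_apply i
  refine Equiv.ext fun i => ?_
  by_cases hi : i = Fin.last N
  · subst hi
    by_contra hne
    exact hne (σ.injective (hfixed _ hne))
  · exact hfixed i hi

end Cfsg.Agent.S0826
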