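import Cfsg.Statements.S0828
import Cfsg.Agent.Symplectic.Parabolic

set_option autoImplicit false
open Cfsg

namespace Cfsg.Agent.S0828

/-- The symplectic generalised quadrangle over a field with q elements: the number of 2-dimensional subspaces of F^4 on which the symplectic form vanishes is (q + 1)(q² + 1), and every non-zero vector lies in exactly q + 1 of them. -/
theorem result {F : Type*} [Field F] [Fintype F] {q : ℕ} (hF : Fintype.card F = q) : Nat.card {W : Submodule F (Fin 2 ⊕ Fin 2 → F) // Module.finrank F W = 2 ∧ ∀ u ∈ W, ∀ v ∈ W, Cfsg.sympForm 2 F u v = 0} = (q + 1) * (q ^ 2 + 1) ∧ ∀ v : Fin 2 ⊕ Fin 2 → F, v ≠ 0 → Nat.card {W : Submodule F (Fin 2 ⊕ Fin 2 → F) // Module.finrank F W = 2 ∧ v ∈ W ∧ ∀ u ∈ W, ∀ w ∈ W, Cfsg.sympForm 2 F u w = 0} = q + 1 := by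
  subst hF
  have hq : 1 < Fintype.card F := Fintype.one_lt_card
  constructor
  · have h := Cfsg.Agent.Symplectic.card_isotropic_mul (F := F) 2 2
    rw [Cfsg.Agent.Symplectic.card_frame, Fin.prod_univ_two, Finset.prod_range_succ,
      Finset.prod_range_one] at h
    set q := Fintype.card F
    set N := Nat.card {W : Submodule F (Fin 2 ⊕ Fin 2 → F) // Module.finrank F W = 2 ∧
      ∀ u ∈ W, ∀ v ∈ W, Cfsg.sympForm 2 F u v = 0}
    simp only [Fin.val_zero, Fin.val_one, pow_zero, pow_one, Nat.sub_zero,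
      show 2 * 2 = 4 from rfl, show (4 : ℕ) - 1 = 3 from rfl] at h
    have h1 : 1 ≤ q ^ 2 := Nat.one_le_pow _ _ (by omega)
    have h2 : q ≤ q ^ 2 := Nat.le_self_pow (by norm_num) q
    have h3 : 1 ≤ q ^ 4 := Nat.one_le_pow _ _ (by omega)
    have h4 : q ≤ q ^ 3 := Nat.le_self_pow (by norm_num) q
    have hpos : 0 < (q ^ 2 - 1) * (q ^ 2 - q) :=
      Nat.mul_pos (Nat.sub_pos_of_lt (Nat.one_lt_pow (by norm_num) hq))
        (Nat.sub_pos_of_lt (by nlinarith))
    refine Nat.eq_of_mul_eq_mul_right hpos (h.trans ?_)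
    zify [h1, h2, h3, h4]
    ring
  · intro v hv
    have h := Cfsg.Agent.Symplectic.card_lines_through v hv
    set q := Fintype.card F
    have h2 : q ≤ q ^ 2 := Nat.le_self_pow (by norm_num) q
    have h4 : q ≤ q ^ 3 := Nat.le_self_pow (by norm_num) q
    refine Nat.eq_of_mul_eq_mul_right (Nat.sub_pos_of_lt (by nlinarith : q < q ^ 2)) (h.trans ?_)
    zify [h2, h4]
    ring

end Cfsg.Agent.S0828
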