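import Cfsg.Statements.S0829
import Cfsg.Agent.Unitary.TISubspaces

set_option autoImplicit false
open Cfsg

namespace Cfsg.Agent.S0829

/-- The unitary quadrangle of PSU_4(q): with |F| = q², the number of 2-dimensional subspaces of F^4 on which the Hermitian form Σ x_i y_i^q vanishes is (q + 1)(q³ + 1). -/
theorem result {F : Type*} [Field F] [Fintype F] {q : ℕ} (hF : Fintype.card F = q ^ 2) : Nat.card {W : Submodule F (Fin 4 → F) // Module.finrank F W = 2 ∧ ∀ u ∈ W, ∀ v ∈ W, Cfsg.hermForm 4 F q u v = 0} = (q + 1) * (q ^ 3 + 1) := by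
  have h := Cfsg.Agent.Unitary.card_TISub hF (n := 4) (k := 2) (by norm_num)
  have h1 : (1 : ℕ) ≤ q ^ 2 := Nat.one_le_pow _ _ (Cfsg.Agent.Unitary.q_pos hF)
  have hpos : 0 < q ^ (2 * (2 * 4 - 3 * 2)) * Nat.card (Cfsg.GU (4 - 2 * 2) F q)
      * Cfsg.Agent.Unitary.glCard q 2 := Nat.mul_pos (Nat.mul_pos (pow_pos (Cfsg.Agent.Unitary.q_pos hF) _) Nat.card_pos)
      (Cfsg.Agent.Unitary.glCard_pos hF 2)
  apply Nat.eq_of_mul_eq_mul_left hpos
  rw [show Nat.card {W : Submodule F (Fin 4 → F) //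
      Module.finrank F W = 2 ∧ ∀ u ∈ W, ∀ v ∈ W, Cfsg.hermForm 4 F q u v = 0}
      = Nat.card (Cfsg.Agent.Unitary.TISub 4 F q 2) from rfl, h, Cfsg.Agent.Unitary.card_GU hF, Cfsg.Agent.Unitary.card_GU hF]
  have hq := Cfsg.Agent.Unitary.q_pos hF
  zify [Cfsg.Agent.Unitary.glCard, Cfsg.Agent.Unitary.guFactor_cast hq]
  simp only [Cfsg.Agent.Unitary.glCard, Finset.prod_range_succ, Finset.prod_range_zero, Fin.prod_univ_two]
  have e1 : ((q ^ 2) ^ 2 - (q ^ 2) ^ ((0 : Fin 2) : ℕ) : ℕ) = q ^ 4 - 1 := by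
    rw [show ((0 : Fin 2) : ℕ) = 0 from rfl, ← pow_mul, pow_zero]
  have e2 : ((q ^ 2) ^ 2 - (q ^ 2) ^ ((1 : Fin 2) : ℕ) : ℕ) = q ^ 4 - q ^ 2 := by
    rw [show ((1 : Fin 2) : ℕ) = 1 from rfl, ← pow_mul, pow_one]
  rw [e1, e2, Nat.cast_sub (Nat.one_le_pow _ _ hq),
    Nat.cast_sub (Nat.pow_le_pow_right hq (by norm_num : 2 ≤ 4))]
  push_cast
  norm_num [Finset.prod_range_succ]
  ring

end Cfsg.Agent.S0829
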