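import Cfsg.Statements.S0831
import Cfsg.Agent.Orthogonal.MaxTS
import Cfsg.Agent.Orthogonal.StdForms
-- import your own Cfsg.Agent.* helpers here

set_option autoImplicit false
open Cfsg

namespace Cfsg.Agent.S0831

/-- The two families of maximal totally singular subspaces of the hyperbolic quadric: for the form Σ x_i y_i on F^(2m), m ≥ 1, and m-dimensional subspaces U, W, X on which it vanishes, the parities of m − dim(U ∩ W), m − dim(W ∩ X) and m − dim(U ∩ X) sum to an even number (so 'even codimension of the intersection' is an equivalence relation), and there exist two such subspaces meeting in codimension 1 (so there are exactly two classes). -/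
theorem result {F : Type*} [Field F] (m : ℕ) (hm : 1 ≤ m) : (∀ U W X : Submodule F (Fin m ⊕ Fin m → F), (Module.finrank F U = m ∧ ∀ w ∈ U, Cfsg.quadFormPlus m F w = 0) → (Module.finrank F W = m ∧ ∀ w ∈ W, Cfsg.quadFormPlus m F w = 0) → (Module.finrank F X = m ∧ ∀ w ∈ X, Cfsg.quadFormPlus m F w = 0) → Even ((m - Module.finrank F ↥(U ⊓ W)) + (m - Module.finrank F ↥(W ⊓ X)) + (m - Module.finrank F ↥(U ⊓ X)))) ∧ ∃ U W : Submodule F (Fin m ⊕ Fin m → F), (Module.finrank F U = m ∧ ∀ w ∈ U, Cfsg.quadFormPlus m F w = 0) ∧ (Module.finrank F W = m ∧ ∀ w ∈ W, Cfsg.quadFormPlus m F w = 0) ∧ Module.finrank F ↥(U ⊓ W) + 1 = m := by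
  let L : (Fin m → F) →ₗ[F] (Fin m ⊕ Fin m → F) :=
    { toFun := fun x => Sum.elim x 0
      map_add' := fun x y => by ext s; cases s <;> simp
      map_smul' := fun c x => by ext s; cases s <;> simp }
  have hL : Function.Injective L := fun x y h => funext fun i => congr_fun h (Sum.inl i)
  have hW₀ : Orthogonal.TotSing (Orthogonal.formPlus F m) (LinearMap.range L) := by
    rintro _ ⟨x, rfl⟩
    change Cfsg.quadFormPlus m F (Sum.elim x 0) = 0
    simp [Cfsg.quadFormPlus]
  have hr₀ : Module.finrank F (LinearMap.range L) = m := by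
    rw [LinearMap.finrank_range_of_inj hL, Module.finrank_fin_fun]
  refine ⟨fun U W X hU hW hX => Orthogonal.even_codim_sum (Orthogonal.formPlus_nondeg F m)
    (Orthogonal.finrank_formPlus F m) hU.2 hW.2 hX.2 hU.1 hW.1 hX.1, ?_⟩
  obtain ⟨j, hj⟩ : ∃ j : Fin m, j = ⟨0, hm⟩ := ⟨_, rfl⟩
  set H := (LinearMap.ker (LinearMap.proj j : (Fin m → F) →ₗ[F] F)).map L with hH
  have hHle : H ≤ LinearMap.range L := LinearMap.map_le_range
  have hHr : Module.finrank F H + 1 = m := by
    rw [hH, LinearEquiv.finrank_eq (Submodule.equivMapOfInjective L hL _).symm]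
    have h1 := LinearMap.finrank_range_add_finrank_ker
      (LinearMap.proj j : (Fin m → F) →ₗ[F] F)
    rw [LinearMap.range_eq_top.2 (fun c => ⟨fun _ => c, rfl⟩), finrank_top, Module.finrank_self,
      Module.finrank_fin_fun] at h1
    omega
  obtain ⟨W₂, hW₂, hr₂, hle, hne, -⟩ := Orthogonal.exists_second (Orthogonal.formPlus_nondeg F m)
    (Orthogonal.finrank_formPlus F m) hHr hW₀ hr₀ hHle
  refine ⟨LinearMap.range L, W₂, ⟨hr₀, hW₀⟩, ⟨hr₂, hW₂⟩, ?_⟩
  have h1 := Submodule.finrank_mono (le_inf hHle hle)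
  have h2 := Submodule.finrank_mono (inf_le_left : LinearMap.range L ⊓ W₂ ≤ LinearMap.range L)
  by_contra hc
  have e : LinearMap.range L ⊓ W₂ = LinearMap.range L :=
    Submodule.eq_of_le_of_finrank_eq inf_le_left (by omega)
  exact hne (Submodule.eq_of_le_of_finrank_eq (inf_eq_left.1 e) (by omega)).symm

end Cfsg.Agent.S0831
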