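import Cfsg.Statements.S0832
import Cfsg.Agent.Orthogonal.MaxTS
import Cfsg.Agent.Orthogonal.StdForms
-- import your own Cfsg.Agent.* helpers here

set_option autoImplicit false
open Cfsg

namespace Cfsg.Agent.S0832

/-- For the form Σ x_i y_i on F^(2m) over a finite field, m ≥ 1: an (m−1)-dimensional subspace on which the form vanishes is contained in exactly two m-dimensional subspaces on which it vanishes. -/
theorem result {F : Type*} [Field F] [Finite F] (m : ℕ) (hm : 1 ≤ m) (U : Submodule F (Fin m ⊕ Fin m → F)) (hU : Module.finrank F U + 1 = m ∧ ∀ u ∈ U, Cfsg.quadFormPlus m F u = 0) : Nat.card {W : Submodule F (Fin m ⊕ Fin m → F) // Module.finrank F W = m ∧ (∀ w ∈ W, Cfsg.quadFormPlus m F w = 0) ∧ U ≤ W} = 2 := by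
  let L : (Fin m → F) →ₗ[F] (Fin m ⊕ Fin m → F) :=
    { toFun := fun x => Sum.elim x 0
      map_add' := fun x y => by ext s; cases s <;> simp
      map_smul' := fun c x => by ext s; cases s <;> simp }
  have hL : Function.Injective L := fun x y h => funext fun i => congr_fun h (Sum.inl i)
  have hW₀ : Orthogonal.TotSing (Orthogonal.formPlus F m) (LinearMap.range L) := by
    rintro _ ⟨x, rfl⟩
    change Cfsg.quadFormPlus m F (Sum.elim x 0) = 0
    simp [Cfsg.quadFormPlus]
  have hr₀ : Module.finrank F (LinearMap.range L) = m := by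
    rw [LinearMap.finrank_range_of_inj hL, Module.finrank_fin_fun]
  have h := Orthogonal.card_max_above (m := m) (Orthogonal.formPlus_nondeg F m)
    (Orthogonal.finrank_formPlus F m) hU.1 hU.2 hW₀ hr₀
  exact h

end Cfsg.Agent.S0832
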