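import Cfsg.Statements.S0833
import Cfsg.Agent.H34.TensorForm
import Cfsg.Agent.Symplectic.Alt

set_option autoImplicit false
open Cfsg

namespace Cfsg.Agent.S0833

open LinearMap (BilinForm)


/-- If B₁, B₂ are non-degenerate alternating forms on U (dim 2k) and W (dim 2l), then B₁ ⊗ B₂ on U ⊗ W is symmetric, non-degenerate, and vanishes identically on some subspace of dimension 2kl (half of dim U ⊗ W). -/
theorem result {F U W : Type*} [Field F] [Fintype F] [AddCommGroup U] [Module F U] [FiniteDimensional F U] [AddCommGroup W] [Module F W] [FiniteDimensional F W] (B₁ : LinearMap.BilinForm F U) (B₂ : LinearMap.BilinForm F W) (h₁ : B₁.Nondegenerate) (h₂ : B₂.Nondegenerate) (hA₁ : B₁.IsAlt) (hA₂ : B₂.IsAlt) (k l : ℕ) (hU : Module.finrank F U = 2 * k) (hW : Module.finrank F W = 2 * l) : (B₁.tmul B₂).IsSymm ∧ (B₁.tmul B₂).Nondegenerate ∧ (∃ X : Submodule F (TensorProduct F U W), Module.finrank F X = 2 * k * l ∧ ∀ x ∈ X, ∀ y ∈ X, (B₁.tmul B₂) x y = 0) := by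
  classical
  have hsymm : (B₁.tmul B₂).IsSymm := by
    constructor
    intro x y
    induction x using TensorProduct.induction_on with
    | zero => simp
    | tmul u w =>
      induction y using TensorProduct.induction_on with
      | zero => simp
      | tmul u' w' =>
        simp only [H34.tmul_form_apply, RingHom.id_apply]
        rw [← hA₁.neg_eq u u', ← hA₂.neg_eq w w']; ring
      | add a b ha hb => simp only [map_add, LinearMap.add_apply, ha, hb]
    | add a b ha hb => simp only [map_add, LinearMap.add_apply, ha, hb]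
  refine ⟨hsymm, H34.nondeg_tmul h₁ h₂, ?_⟩
  obtain ⟨m, r, b, ⟨-, hee, -⟩, hrad⟩ := Symplectic.exists_hyp_basis B₁ hA₁
  have hr : r = 0 := by
    by_contra h
    exact b.ne_zero (Sum.inr ⟨0, Nat.pos_of_ne_zero h⟩) (h₁.1 _ (hrad _))
  subst hr
  have hm : m = k := by
    have := Module.finrank_eq_card_basis b
    simp [hU] at this; omega
  let c := Module.finBasisOfFinrankEq F W hW
  have hz : LinearIndependent F fun p : Fin m × Fin (2 * l) =>
      (b.tensorProduct c) (Sum.inl (Sum.inl p.1), p.2) :=
    (b.tensorProduct c).linearIndependent.comp _ (fun p q h => by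
      obtain ⟨a, a'⟩ := p
      obtain ⟨d, d'⟩ := q
      simpa using h)
  obtain ⟨X, hX, hX0⟩ := H34.isotropic_of_family (B₁.tmul B₂) hz fun p q => by
    simp [H34.tmul_form_apply, hee]
  exact ⟨X, by rw [hX]; simp [hm]; ring, hX0⟩

end Cfsg.Agent.S0833
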