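import Cfsg.Statements.S0835
import Cfsg.Agent.H34.TensorForm
import Cfsg.Agent.Symplectic.Alt

set_option autoImplicit false
open Cfsg

namespace Cfsg.Agent.S0835



/-- Over a finite field with 2 ≠ 0: if B₁ on U (dim 2k, k ≥ 1) is non-degenerate symmetric of minus type (no totally isotropic k-subspace) and B₂ on W (dim 2l + 1) is non-degenerate symmetric, then B₁ ⊗ B₂ (dimension 2k(2l+1)) admits no totally isotropic subspace of dimension k(2l+1) (minus type). -/
theorem result {F U W : Type*} [Field F] [Fintype F] [AddCommGroup U] [Module F U] [FiniteDimensional F U] [AddCommGroup W] [Module F W] [FiniteDimensional F W] (h2 : (2 : F) ≠ 0) (B₁ : LinearMap.BilinForm F U) (B₂ : LinearMap.BilinForm F W) (h₁ : B₁.Nondegenerate) (h₂ : B₂.Nondegenerate) (hS₁ : B₁.IsSymm) (hS₂ : B₂.IsSymm) (k l : ℕ) (hk : 1 ≤ k) (hU : Module.finrank F U = 2 * k) (hW : Module.finrank F W = 2 * l + 1) (hm₁ : ¬ (∃ X : Submodule F (U), Module.finrank F X = k ∧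 ∀ x ∈ X, ∀ y ∈ X, (B₁) x y = 0)) : ¬ (∃ X : Submodule F (TensorProduct F U W), Module.finrank F X = k * (2 * l + 1) ∧ ∀ x ∈ X, ∀ y ∈ X, (B₁.tmul B₂) x y = 0) := by
  classical
  let b := Module.finBasisOfFinrankEq F U hU
  let c := Module.finBasisOfFinrankEq F W hW
  have hn : Module.finrank F (TensorProduct F U W) = 2 * (k * (2 * l + 1)) := by
    rw [Module.finrank_tensorProduct, hU, hW]; ring
  rw [H34.isotropic_half_iff h2 h₁ hS₁ hU b] at hm₁
  rw [H34.isotropic_half_iff h2 (H34.nondeg_tmul h₁ h₂) (H34.isSymm_tmul hS₁ hS₂) hn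
    (b.tensorProduct c), H34.gram_tmul, Matrix.det_kronecker, Fintype.card_fin, Fintype.card_fin]
  have h1 : (H34.gram B₁ b).det ≠ 0 := (H34.det_gram_ne_zero_iff B₁ b).2 h₁
  have h2' : (H34.gram B₂ c).det ≠ 0 := (H34.det_gram_ne_zero_iff B₂ c).2 h₂
  have e : (-1 : F) ^ (k * (2 * l + 1)) * ((H34.gram B₁ b).det ^ (2 * l + 1) * (H34.gram B₂ c).det ^ (2 * k))
      = ((-1 : F) ^ (k * l) * (H34.gram B₁ b).det ^ l * (H34.gram B₂ c).det ^ k) ^ 2
        * ((-1) ^ k * (H34.gram B₁ b).det) := by ring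
  rw [e, H57.isSquare_mul_sq_iff]
  · exact hm₁
  · exact mul_ne_zero (mul_ne_zero (pow_ne_zero _ (by simp)) (pow_ne_zero _ h1)) (pow_ne_zero _ h2')

end Cfsg.Agent.S0835
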