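import Cfsg.Statements.S0840
import Cfsg.Agent.CharBasic.Integral
import Cfsg.Agent.H83.ClassConst

set_option autoImplicit false
open scoped ComplexConjugate
open Cfsg

namespace Cfsg.Agent.S0840

/-- Class multiplication coefficients from the character table: for elements a, b, c of a finite group G, the number of ordered pairs (x, y) with x conjugate to a, y conjugate to b and x * y = c equals the product of the sizes of the conjugacy classes of a and b, divided by the order of G, times the sum over the irreducible characters χ of χ a * χ b * conj (χ c) / χ 1. -/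
theorem result {G : Type*} [Group G] [Finite G] (a b c : G) : (Nat.card {p : G × G // IsConj a p.1 ∧ IsConj b p.2 ∧ p.1 * p.2 = c} : ℂ) = (Nat.card {x : G // IsConj a x} : ℂ) * (Nat.card {x : G // IsConj b x} : ℂ) / (Nat.card G : ℂ) * ∑ᶠ χ : Cfsg.IrrCharacter G, (χ : G → ℂ) a * (χ : G → ℂ) b * conj ((χ : G → ℂ) c) / (χ : G → ℂ) 1 := by
  classical
  cases nonempty_fintype G
  rw [finsum_eq_sum_of_fintype]
  have hG : (Nat.card G : ℂ) ≠ 0 := by simp
  let e : {p : G × G // IsConj a p.1 ∧ IsConj b p.2 ∧ p.1 * p.2 = c} ≃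
      {x : G // IsConj a x ∧ IsConj b (x⁻¹ * c)} :=
    { toFun := fun p => ⟨p.1.1, p.2.1, (eq_inv_mul_iff_mul_eq.2 p.2.2.2) ▸ p.2.2.1⟩
      invFun := fun x => ⟨(x.1, x.1⁻¹ * c), x.2.1, x.2.2, mul_inv_cancel_left _ _⟩
      left_inv := by rintro ⟨⟨x, y⟩, h1, h2, h3⟩; subst h3; simp
      right_inv := fun _ => rfl }
  rw [Nat.card_congr e, CharBasic.card_conjugates_eq_index, CharBasic.card_conjugates_eq_index]
  have h := congrArg conj (H83.card_pairs_mul_card a b c)
  simp only [map_mul, map_natCast, map_sum, map_div₀, Complex.conj_conj] at h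
  have hdeg : ∀ χ : Cfsg.IrrCharacter G, conj ((χ : G → ℂ) 1) = (χ : G → ℂ) 1 := fun χ => by
    obtain ⟨n, -, hn⟩ := CharBasic.IsIrr.exists_degree χ.2
    rw [hn, Complex.conj_natCast]
  simp only [hdeg] at h
  rw [div_mul_eq_mul_div, eq_div_iff hG, mul_comm]
  exact h

end Cfsg.Agent.S0840
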