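import Cfsg.Statements.S0849
import Mathlib

set_option autoImplicit false
open Cfsg

namespace Cfsg.Agent.S0849

/-- Let H be a subgroup of a finite group G and S a subset of H that is mapped to itself under conjugation by H, is disjoint from its conjugate by any element outside H, and is closed under inverses. Let φ be a class function of H vanishing on H away from S, and let u, v be involutions of G. Then the sum of the induced function of φ over all products a * b with a conjugate to u and b conjugate to v equals the index of H times the sum of φ (a * b) over such pairs with a and b in H. -/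
theorem result {G : Type*} [Group G] [Fintype G] (H : Subgroup G) (S : Set G) (hSH : S ⊆ H) (hHS : ∀ h ∈ H, ∀ s ∈ S, h * s * h⁻¹ ∈ S) (hTI : ∀ g : G, g ∉ H → ∀ s ∈ S, g * s * g⁻¹ ∉ S) (hinv : ∀ s ∈ S, s⁻¹ ∈ S) (φ : H → ℂ) (hφ : Cfsg.IsClassFunction H φ) (hφS : ∀ x : H, (x : G) ∉ S → φ x = 0) (u v : G) (hu : orderOf u = 2) (hv : orderOf v = 2) : ∑ᶠ p ∈ {p : G × G | IsConj u p.1 ∧ IsConj v p.2}, Cfsg.indFun H φ (p.1 * p.2) = (H.index : ℂ) * ∑ᶠ p ∈ {p : H × H | IsConj u (p.1 : G) ∧ IsConj v (p.2 : G)}, φ (p.1 * p.2) := by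
  classical
  set ext := Cfsg.extendByZero H φ with hext
  let P : Finset (G × G) := Finset.univ.filter fun p => IsConj u p.1 ∧ IsConj v p.2
  have hL : ∑ᶠ p ∈ {p : G × G | IsConj u p.1 ∧ IsConj v p.2}, Cfsg.indFun H φ (p.1 * p.2) =
      ∑ p ∈ P, Cfsg.indFun H φ (p.1 * p.2) := by
    rw [show {p : G × G | IsConj u p.1 ∧ IsConj v p.2} = (P : Set (G × G)) by ext; simp [P],
      finsum_mem_coe_finset]
  let P' : Finset (H × H) := Finset.univ.filter fun p => IsConj u (p.1 : G) ∧ IsConj v (p.2 : G)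
  have hR : ∑ᶠ p ∈ {p : H × H | IsConj u (p.1 : G) ∧ IsConj v (p.2 : G)}, φ (p.1 * p.2) =
      ∑ p ∈ P', φ (p.1 * p.2) := by
    rw [show {p : H × H | IsConj u (p.1 : G) ∧ IsConj v (p.2 : G)} = (P' : Set (H × H)) by ext; simp [P'],
      finsum_mem_coe_finset]
  rw [hL, hR]
  have hval : ∀ h : H, ext (h : G) = φ h := fun h => by
    rw [hext, Cfsg.extendByZero, Subtype.val_injective.extend_apply]
  have hzero : ∀ g : G, g ∉ S → ext g = 0 := by
    intro g hg
    by_cases hgH : g ∈ H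
    · rw [show g = ((⟨g, hgH⟩ : H) : G) from rfl, hval]; exact hφS _ hg
    · rw [hext, Cfsg.extendByZero, Function.extend_apply']
      · rfl
      · rintro ⟨a, ha⟩; exact hgH (ha ▸ a.2)
  have hinvol : ∀ {w a : G}, orderOf w = 2 → IsConj w a → a * a = 1 := by
    intro w a hw h
    obtain ⟨c, rfl⟩ := isConj_iff.mp h
    have hw2 : w ^ 2 = 1 := orderOf_dvd_iff_pow_eq_one.mp hw.dvd
    rw [← sq, conj_pow, hw2, mul_one, mul_inv_cancel]
  have hsum : ∑ p ∈ P, ext (p.1 * p.2) = ∑ p ∈ P', φ (p.1 * p.2) := by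
    refine (Finset.sum_bij_ne_zero (fun (p : H × H) _ _ => ((p.1 : G), (p.2 : G))) ?_ ?_ ?_ ?_).symm
    · intro p hp _; simpa [P, P'] using hp
    · intro p _ _ p' _ _ h
      simp only [Prod.mk.injEq] at h
      exact Prod.ext (Subtype.ext h.1) (Subtype.ext h.2)
    · intro p hp hne
      simp only [P, Finset.mem_filter, Finset.mem_univ, true_and] at hp
      have hsS : p.1 * p.2 ∈ S := by by_contra h; exact hne (hzero _ h)
      have ha := hinvol hu hp.1
      have hb := hinvol hv hp.2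
      have haH : p.1 ∈ H := by
        by_contra h
        apply hTI _ h _ hsS
        have e : p.1 * (p.1 * p.2) * p.1⁻¹ = (p.1 * p.2)⁻¹ := by
          rw [mul_inv_rev, inv_eq_of_mul_eq_one_left hb, ← mul_assoc, ha, one_mul]
        rw [e]; exact hinv _ hsS
      have hbH : p.2 ∈ H := by
        have := H.mul_mem (H.inv_mem haH) (hSH hsS)
        simpa using this
      refine ⟨(⟨p.1, haH⟩, ⟨p.2, hbH⟩), by simp [P', isConj_iff.mp hp.1, isConj_iff.mp hp.2], ?_, rfl⟩
      intro h0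
      exact hne (by rw [← h0, ← hval]; rfl)
    · intro p _ _
      rw [← hval]; rfl
  have hconj : ∀ g : G, ∑ p ∈ P, ext (g⁻¹ * (p.1 * p.2) * g) = ∑ p ∈ P, ext (p.1 * p.2) := by
    intro g
    refine Finset.sum_equiv ((MulAut.conj g⁻¹).toEquiv.prodCongr (MulAut.conj g⁻¹).toEquiv) ?_ ?_
    · intro p
      have h1 : ∀ a : G, IsConj a (g⁻¹ * a * g) := fun a => isConj_iff.mpr ⟨g⁻¹, by group⟩
      simp only [P, Finset.mem_filter, Finset.mem_univ, true_and, Equiv.prodCongr_apply, Prod.map,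
        MulEquiv.toEquiv_eq_coe, EquivLike.coe_coe, MulAut.conj_apply, inv_inv]
      exact ⟨fun h => ⟨h.1.trans (h1 _), h.2.trans (h1 _)⟩,
        fun h => ⟨h.1.trans (h1 _).symm, h.2.trans (h1 _).symm⟩⟩
    · intro p _
      congr 1
      simp only [Equiv.prodCongr_apply, Prod.map, MulEquiv.toEquiv_eq_coe, EquivLike.coe_coe,
        MulAut.conj_apply, inv_inv]
      group
  have hLHS : ∑ p ∈ P, Cfsg.indFun H φ (p.1 * p.2) =
      (Nat.card H : ℂ)⁻¹ * ∑ g : G, ∑ p ∈ P, ext (g⁻¹ * (p.1 * p.2) * g) := by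
    simp only [Cfsg.indFun, ← hext]
    rw [← Finset.mul_sum, Finset.sum_comm]
  rw [hLHS, Finset.sum_congr rfl (fun g _ => hconj g), Finset.sum_const, Finset.card_univ, hsum,
    nsmul_eq_mul, ← mul_assoc, ← Nat.card_eq_fintype_card, ← H.card_mul_index, Nat.cast_mul,
    ← mul_assoc, inv_mul_cancel₀ (Nat.cast_ne_zero.mpr Nat.card_pos.ne'), one_mul]

end Cfsg.Agent.S0849
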