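import Cfsg.Statements.S0850
import Mathlib

set_option autoImplicit false
open Cfsg

namespace Cfsg.Agent.S0850

theorem out {G : Type*} [Group G] [Finite G] (K : Subgroup G)
    (hC : ∀ k ∈ K, k ≠ 1 → Subgroup.centralizer ({k} : Set G) ≤ K) :
    ∀ x ∈ Subgroup.normalizer (K : Set G), x ∉ K → ∀ g : G, g * x * g⁻¹ ∉ K := by
  intro x hx hxK g hg
  have hord : orderOf x ∣ Nat.card K := by
    have h : orderOf (g * x * g⁻¹) = orderOf x :=
      MulEquiv.orderOf_eq (MulAut.conj g) x
    rw [← h, ← Subgroup.orderOf_mk (g * x * g⁻¹) hg]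
    exact orderOf_dvd_natCard _
  have hex : ∃ m, 0 < m ∧ x ^ m ∈ K :=
    ⟨orderOf x, orderOf_pos x, by rw [pow_orderOf_eq_one]; exact one_mem K⟩
  classical
  have hm := Nat.find_spec hex
  set m := Nat.find hex with hmdef
  have hm1 : m ≠ 1 := fun h => hxK (by simpa [h] using hm.2)
  obtain ⟨p, hp, t, ht⟩ := Nat.exists_prime_and_dvd hm1
  haveI := Fact.mk hp
  have htpos : 0 < t := Nat.pos_of_ne_zero (fun h => by rw [h, mul_zero] at ht; omega)
  have hz : x ^ t ∉ K := fun h => by
    have h1 : m ≤ t := Nat.find_le ⟨htpos, h⟩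
    have := hp.two_le
    nlinarith
  have hzp : (x ^ t) ^ p ∈ K := by rw [← pow_mul, mul_comm, ← ht]; exact hm.2
  set z := x ^ t with hzdef
  obtain ⟨a, r, hr, har⟩ := Nat.exists_eq_pow_mul_and_not_dvd (n := orderOf z)
    (orderOf_pos z).ne' p hp.ne_one
  set w := z ^ r with hwdef
  have hw : w ∉ K := fun h => by
    have hcop : Nat.Coprime r p := Nat.Coprime.symm ((Nat.Prime.coprime_iff_not_dvd hp).mpr hr)
    have hgcd := Int.gcd_eq_gcd_ab (r : ℤ) (p : ℤ)
    rw [Int.gcd_natCast_natCast, hcop] at hgcd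
    apply hz
    have : z = z ^ ((r : ℤ) * Int.gcdA r p + (p : ℤ) * Int.gcdB r p) := by
      rw [← hgcd]; simp
    rw [this, zpow_add, zpow_mul, zpow_mul, zpow_natCast, zpow_natCast]
    exact mul_mem (Subgroup.zpow_mem K h _) (Subgroup.zpow_mem K hzp _)
  have hwN : w ∈ Subgroup.normalizer (K : Set G) := pow_mem (pow_mem hx _) _
  have hwp : w ^ p ^ a = 1 := by
    rw [hwdef, ← pow_mul, mul_comm, ← har, pow_orderOf_eq_one]
  have hP : IsPGroup p (Subgroup.zpowers w) := by
    rintro ⟨v, hv⟩
    obtain ⟨j, rfl⟩ := Subgroup.mem_zpowers_iff.mp hv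
    refine ⟨a, Subtype.ext ?_⟩
    show (w ^ j) ^ p ^ a = 1
    rw [← zpow_natCast (w ^ j), zpow_comm, zpow_natCast, hwp, one_zpow]
  have hle : Subgroup.zpowers w ≤ Subgroup.normalizer (K : Set G) :=
    Subgroup.zpowers_le.mpr hwN
  letI : MulAction (Subgroup.zpowers w) K :=
    { smul := fun v k => ⟨v.1 * k.1 * v.1⁻¹, (Subgroup.mem_normalizer_iff.mp (hle v.2) k.1).mp k.2⟩
      one_smul := fun k => Subtype.ext (show (1 : G) * k.1 * 1⁻¹ = k.1 by group)
      mul_smul := fun v v' k => Subtype.ext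
        (show v.1 * v'.1 * k.1 * (v.1 * v'.1)⁻¹ = v.1 * (v'.1 * k.1 * v'.1⁻¹) * v.1⁻¹ by group) }
  have hmod := hP.card_modEq_card_fixedPoints K
  have hfix : MulAction.fixedPoints (Subgroup.zpowers w) K = {(1 : K)} := by
    ext k
    constructor
    · intro hk
      rw [Set.mem_singleton_iff]
      by_contra hk1
      apply hw
      apply hC k.1 k.2 (fun h => hk1 (Subtype.ext h))
      rw [Subgroup.mem_centralizer_iff]
      intro y hy
      rw [Set.mem_singleton_iff] at hy
      subst hy
      have h := congrArg Subtype.val (hk ⟨w, Subgroup.mem_zpowers w⟩)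
      change w * k.1 * w⁻¹ = k.1 at h
      exact (mul_inv_eq_iff_eq_mul.mp h).symm
    · rintro rfl v
      exact Subtype.ext (show v.1 * 1 * v.1⁻¹ = 1 by group)
  rw [hfix, Nat.card_unique (α := ({(1 : K)} : Set K))] at hmod
  have hpK : p ∣ Nat.card K := by
    refine dvd_trans ?_ hord
    have h1 : orderOf w ∣ orderOf x := (orderOf_pow_dvd r).trans (orderOf_pow_dvd t)
    refine dvd_trans ?_ h1
    obtain ⟨i, -, hi⟩ := (Nat.dvd_prime_pow hp).mp (orderOf_dvd_of_pow_eq_one hwp)
    rw [hi]
    refine dvd_pow_self p (fun h0 => ?_)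
    rw [h0, pow_zero, orderOf_eq_one_iff] at hi
    exact hw (hi ▸ one_mem K)
  have h01 : 0 ≡ 1 [MOD p] := ((Nat.modEq_zero_iff_dvd.mpr hpK).symm).trans hmod
  exact hp.ne_one (Nat.dvd_one.mp (Nat.modEq_zero_iff_dvd.mp h01.symm))


/-- Let K be a subgroup of the finite group G that meets each conjugate by an element outside its normalizer N trivially, is properly contained in N, and contains the centralizer of each of its non-identity elements (a T.I. subgroup with Frobenius normalizer). Then no element of N outside K is conjugate in G to an element of K, and for every class function ϑ of N that vanishes on N away from K and at the identity, the function induced from ϑ to G agrees with ϑ on all of N. -/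
theorem result {G : Type*} [Group G] [Fintype G] (K : Subgroup G) (hTI : ∀ g : G, g ∉ Subgroup.normalizer (K : Set G) → ∀ k ∈ K, g * k * g⁻¹ ∈ K → k = 1) (hlt : K < Subgroup.normalizer (K : Set G)) (hC : ∀ k ∈ K, k ≠ 1 → Subgroup.centralizer ({k} : Set G) ≤ K) : (∀ x ∈ Subgroup.normalizer (K : Set G), x ∉ K → ∀ g : G, g * x * g⁻¹ ∉ K) ∧ ∀ (ϑ : Subgroup.normalizer (K : Set G) → ℂ), Cfsg.IsClassFunction (Subgroup.normalizer (K : Set G)) ϑ → (∀ x : Subgroup.normalizer (K : Set G), (x : G) ∉ K → ϑ x = 0) → ϑ 1 = 0 → ∀ x : Subgroup.normalizer (K : Set G), Cfsg.indFun (Subgroup.normalizer (K : Set G)) ϑ x = ϑ x := by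
  refine ⟨out K hC, fun ϑ hcl hvan h1 x => ?_⟩
  classical
  have key : ∀ g : G, Cfsg.extendByZero (Subgroup.normalizer (K : Set G)) ϑ (g⁻¹ * x * g) =
      if g ∈ Subgroup.normalizer (K : Set G) then ϑ x else 0 := by
    intro g
    split_ifs with hg
    · have e : g⁻¹ * (x : G) * g =
          (((⟨g, hg⟩ : Subgroup.normalizer (K : Set G))⁻¹ * x * ⟨g, hg⟩ :
            Subgroup.normalizer (K : Set G)) : G) := rfl
      rw [e, Cfsg.extendByZero, Subtype.val_injective.extend_apply]
      have h := hcl x (⟨g, hg⟩ : Subgroup.normalizer (K : Set G))⁻¹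
      rwa [inv_inv] at h
    · rw [Cfsg.extendByZero]
      by_cases hy : g⁻¹ * (x : G) * g ∈ Subgroup.normalizer (K : Set G)
      · rw [show g⁻¹ * (x : G) * g = Subtype.val (⟨_, hy⟩ : Subgroup.normalizer (K : Set G)) from rfl,
          Subtype.val_injective.extend_apply]
        by_cases hyK : g⁻¹ * (x : G) * g ∈ K
        · have hxK : (x : G) ∈ K := by
            by_contra hxK
            exact out K hC x x.2 hxK g⁻¹ (by simpa using hyK)
          have hgi : g⁻¹ ∉ Subgroup.normalizer (K : Set G) := fun h => hg (by simpa using inv_mem h)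
          have hx1 : (x : G) = 1 := hTI g⁻¹ hgi x hxK (by simpa using hyK)
          have : (⟨_, hy⟩ : Subgroup.normalizer (K : Set G)) = 1 := Subtype.ext (by simp [hx1])
          rw [this, h1]
        · exact hvan _ hyK
      · rw [Function.extend_apply']
        · rfl
        · rintro ⟨a, ha⟩; exact hy (ha ▸ a.2)
  show (Nat.card (Subgroup.normalizer (K : Set G)) : ℂ)⁻¹ *
      ∑ g : G, Cfsg.extendByZero (Subgroup.normalizer (K : Set G)) ϑ (g⁻¹ * x * g) = ϑ x
  rw [Finset.sum_congr rfl fun g _ => key g, Finset.sum_ite, Finset.sum_const_zero, add_zero,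
    Finset.sum_const, nsmul_eq_mul, ← mul_assoc]
  have hcard : (Finset.univ.filter fun g => g ∈ Subgroup.normalizer (K : Set G)).card =
      Nat.card (Subgroup.normalizer (K : Set G)) := by
    rw [← Fintype.card_subtype, Nat.card_eq_fintype_card]
  rw [hcard, inv_mul_cancel₀ (Nat.cast_ne_zero.mpr Nat.card_pos.ne'), one_mul]

end Cfsg.Agent.S0850
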