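import Cfsg.Statements.S0851
import Mathlib
import Cfsg.Agent.H34.TICoherent
import Cfsg.Agent.CharInduce.Isometry
import Cfsg.Agent.CharInduce.Transport
import Cfsg.Agent.S0169

set_option autoImplicit false
open Cfsg

namespace Cfsg.Agent.S0851

open scoped ComplexConjugate
open Cfsg.Agent

theorem degree_eq_index {N : Type*} [Group N] [Fintype N] (K : Subgroup N) [hK : K.Normal]
    (hfree : H34.FreeOutside K) (hab : ∀ a ∈ K, ∀ b ∈ K, a * b = b * a) {χ : N → ℂ}
    (hχ : Cfsg.IsIrrCharacter N χ) (hnt : H34.NotTrivialOn K χ) : χ 1 = (K.index : ℂ) := by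
  classical
  haveI := Fintype.ofFinite K
  have hres := CharInduce.IsChar.res (CharBasic.IsIrr.isCharacter hχ) K
  have hne : (fun k : K => χ k) ≠ 0 := fun h => CharBasic.IsIrr.one_ne_zero hχ (congrFun h 1)
  obtain ⟨θ, hθ⟩ := CharInduce.exists_constituent hres hne
  have habK : ∀ a b : K, a * b = b * a := fun a b => Subtype.ext (hab a a.2 b b.2)
  have hθ1 : (θ : K → ℂ) 1 = 1 := CharInduce.IsIrr.degree_one_of_comm habK θ.2
  have hcl := CharInduce.clifford_degree K hχ θ.2 hθ
  have hI : CharInduce.inertia K (θ : K → ℂ) = K := by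
    refine le_antisymm (fun g hg => ?_)
      (CharInduce.le_inertia K (CharBasic.IsIrr.isClassFunction θ.2))
    by_contra hgK
    obtain ⟨l, hl⟩ := CharInduce.IsChar.exists_hom_of_degree_one (CharBasic.IsIrr.isCharacter θ.2) hθ1
    let c : K → K := fun k => ⟨g * k * g⁻¹ * (k : N)⁻¹, mul_mem (hK.conj_mem _ k.2 g) (inv_mem k.2)⟩
    have hc : Function.Injective c := fun a b h => by
      have h1 : g * a * g⁻¹ * (a : N)⁻¹ = g * b * g⁻¹ * (b : N)⁻¹ := congrArg Subtype.val h
      have h2 : g * ((b : N)⁻¹ * a) * g⁻¹ = (b : N)⁻¹ * a := by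
        have h3 : g * (b : N)⁻¹ * g⁻¹ * (g * a * g⁻¹ * (a : N)⁻¹) = (b : N)⁻¹ := by
          rw [h1]; group
        calc g * ((b : N)⁻¹ * a) * g⁻¹ = (g * (b : N)⁻¹ * g⁻¹ * (g * a * g⁻¹ * (a : N)⁻¹)) * a := by group
          _ = (b : N)⁻¹ * a := by rw [h3]
      have := hfree g hgK _ (mul_mem (inv_mem b.2) a.2) (by
        rw [← mul_inv_eq_iff_eq_mul]; exact h2)
      exact (Subtype.ext (inv_mul_eq_one.1 this)).symm
    have hsurj := (Finite.injective_iff_surjective.1 hc)
    obtain ⟨k₀, hk₀, hne₀⟩ := hnt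
    have hltriv : ∀ y : K, l y = 1 := by
      intro y
      obtain ⟨k, rfl⟩ := hsurj y
      have h1 : l ⟨g * k * g⁻¹, hK.conj_mem _ k.2 g⟩ = l k := Units.ext (by
        rw [← hl, ← hl]; exact congrFun hg k)
      have e : c k = ⟨g * k * g⁻¹, hK.conj_mem _ k.2 g⟩ * k⁻¹ := rfl
      rw [e, map_mul, map_inv, h1, mul_inv_cancel]
    apply hne₀
    have hθc : (θ : K → ℂ) = fun _ => 1 := funext fun y => by rw [hl, hltriv, Units.val_one]
    have hcl2 := CharInduce.clifford K hχ θ.2 hθ
    have himg : ∀ ψ ∈ Finset.univ.image (CharInduce.conjFun K (θ : K → ℂ)), ψ = fun _ => 1 := by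
      intro ψ hψ
      obtain ⟨x, -, rfl⟩ := Finset.mem_image.1 hψ
      rw [hθc]
      rfl
    rw [Finset.sum_congr rfl himg] at hcl2
    have e1 := congrFun hcl2 ⟨k₀, hk₀⟩
    have e2 := congrFun hcl2 1
    simp only [Pi.smul_apply, Finset.sum_apply, smul_eq_mul] at e1 e2
    exact e1.trans e2.symm
  rw [hI, hθ1, mul_one] at hcl
  obtain ⟨c, hc⟩ := CharBasic.classInner_isChar_nat hres (CharBasic.IsIrr.isCharacter θ.2)
  obtain ⟨n, ρ, hρ, hχρ⟩ := id hχ
  haveI := hρ
  have hd := S0169.result ρ K hab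
  rw [hc] at hcl
  have hdeg : χ 1 = (Module.finrank ℂ (Fin n → ℂ) : ℂ) := by
    rw [← hχρ, Representation.char_one]
  rw [hdeg] at hcl ⊢
  have h2 : Module.finrank ℂ (Fin n → ℂ) = c * K.index := by exact_mod_cast hcl
  have hpos : 0 < K.index := Nat.pos_of_ne_zero Subgroup.index_ne_zero_of_finite
  have h3 : c ≠ 0 := fun h0 => by
    have h4 := CharBasic.IsIrr.one_ne_zero hχ
    rw [hdeg, h2, h0, zero_mul, Nat.cast_zero] at h4
    exact h4 rfl
  rw [h2]
  have h5 : c * K.index ≤ K.index := Nat.le_of_dvd hpos (h2 ▸ hd)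
  have h6 : c = 1 := by
    have : c * K.index ≤ 1 * K.index := by rwa [one_mul]
    have := Nat.le_of_mul_le_mul_right this hpos
    omega
  rw [h6, one_mul]


/-- Let K be a subgroup of the finite group G that meets each conjugate by an element outside its normalizer N trivially, is properly contained in N, and contains the centralizer of each of its non-identity elements (a T.I. subgroup with Frobenius normalizer). Suppose K is abelian, let e be the index of K in N, and call an irreducible character of N relevant when it takes at some element of K a value different from its degree. Then either there is exactly one relevant character and K is an elementary abelian p-group of order e + 1 for some prime p, or there are a sign ε and an injective map f from the relevant characters to the irreducible characters of G such that inducing χ - ξ to G gives ε (f χ - f ξ) for all relevant χ and ξ. -/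
theorem result {G : Type*} [Group G] [Fintype G] (K : Subgroup G) (hTI : ∀ g : G, g ∉ Subgroup.normalizer (K : Set G) → ∀ k ∈ K, g * k * g⁻¹ ∈ K → k = 1) (hlt : K < Subgroup.normalizer (K : Set G)) (hC : ∀ k ∈ K, k ≠ 1 → Subgroup.centralizer ({k} : Set G) ≤ K) (hab : ∀ a ∈ K, ∀ b ∈ K, a * b = b * a) : (Nat.card {χ : Cfsg.IrrCharacter (Subgroup.normalizer (K : Set G)) // ∃ k : Subgroup.normalizer (K : Set G), (k : G) ∈ K ∧ (χ : ↥(Subgroup.normalizer (K : Set G)) → ℂ) k ≠ (χ : ↥(Subgroup.normalizer (K : Set G)) → ℂ) 1} = 1 ∧ ∃ p : ℕ, p.Prime ∧ Cfsg.IsElementaryAbelian p K ∧ Nat.card K = (K.subgroupOf (Subgroup.normalizer (K : Set G))).index + 1) ∨ ∃ (ε : ℂ) (f : {χ : Cfsg.IrrCharacter (Subgroup.normalizer (K : Set G)) // ∃ k : Subgroup.normalizer (K : Set G), (k : G) ∈ K ∧ (χ : ↥(Subgroup.normalizer (K : Set G)) → ℂ) k ≠ (χ : ↥(Subgroup.normalizer (K : Set G)) → ℂ) 1} → Cfsg.IrrCharacter G), (ε = 1 ∨ ε = -1) ∧ Function.Injective f ∧ ∀ χ ξ, Cfsg.indFun (Subgroup.normalizer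 (K : Set G)) ((χ.1 : ↥(Subgroup.normalizer (K : Set G)) → ℂ) - (ξ.1 : ↥(Subgroup.normalizer (K : Set G)) → ℂ)) = ε • ((f χ : G → ℂ) - (f ξ : G → ℂ)) := by
  classical
  set N := Subgroup.normalizer (K : Set G) with hN
  haveI : Fintype N := Fintype.ofFinite _
  have hfree : H34.FreeOutside (H34.kerN K) := H34.freeOutside_kerN hC
  have hab' : ∀ a ∈ H34.kerN K, ∀ b ∈ H34.kerN K, a * b = b * a :=
    fun a ha b hb => Subtype.ext (hab _ ha _ hb)
  set e := (H34.kerN K).index with he
  set n := Nat.card {χ : Cfsg.IrrCharacter N // ∃ k : N, (k : G) ∈ K ∧ (χ : N → ℂ) k ≠ (χ : N → ℂ) 1} with hn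
  have hdeg : ∀ χ : {χ : Cfsg.IrrCharacter N // ∃ k : N, (k : G) ∈ K ∧ (χ : N → ℂ) k ≠ (χ : N → ℂ) 1},
      (χ.1 : N → ℂ) 1 = (e : ℂ) := fun χ => degree_eq_index _ hfree hab' χ.1.2 χ.2
  have hcount : Nat.card K = n * e + 1 := by
    have h1 := CharBasic.sum_sq_degree (G := N)
    rw [← Finset.sum_filter_add_sum_filter_not Finset.univ (fun χ : Cfsg.IrrCharacter N =>
      H34.NotTrivialOn (H34.kerN K) (χ : N → ℂ)), H34.sum_sq_trivial hfree] at h1
    have h2 : ∑ χ ∈ Finset.univ.filter (fun χ : Cfsg.IrrCharacter N =>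
        H34.NotTrivialOn (H34.kerN K) (χ : N → ℂ)), (χ : N → ℂ) 1 ^ 2 = (n : ℂ) * (e : ℂ) ^ 2 := by
      rw [Finset.sum_congr rfl fun χ hχ => by
        rw [hdeg ⟨χ, (Finset.mem_filter.1 hχ).2⟩], Finset.sum_const, ← Fintype.card_subtype,
        nsmul_eq_mul, ← Nat.card_eq_fintype_card, hn]
      rfl
    rw [h2] at h1
    have h3 : n * e ^ 2 + e = Nat.card N := by exact_mod_cast h1
    have h4 : Nat.card (H34.kerN K) = Nat.card K :=
      Nat.card_congr (Subgroup.subgroupOfEquivOfLe (Subgroup.le_normalizer)).toEquiv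
    have h5 := (H34.kerN K).card_mul_index
    rw [← he, h4] at h5
    have he0 : 0 < e := Nat.pos_of_ne_zero Subgroup.index_ne_zero_of_finite
    refine Nat.eq_of_mul_eq_mul_right he0 ?_
    rw [h5, ← h3]; ring
  rcases Nat.lt_trichotomy n 1 with hlt1 | h1 | h2
  · right
    have hempty : IsEmpty {χ : Cfsg.IrrCharacter N // ∃ k : N, (k : G) ∈ K ∧ (χ : N → ℂ) k ≠ (χ : N → ℂ) 1} := by
      rcases Nat.card_eq_zero.1 (show n = 0 by omega) with h | h
      · exact h
      · exact absurd h (not_infinite_iff_finite.2 inferInstance)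
    exact ⟨1, fun χ => (hempty.false χ).elim, Or.inl rfl, fun χ => (hempty.false χ).elim,
      fun χ => (hempty.false χ).elim⟩
  · left
    refine ⟨h1, ?_⟩
    rw [h1, one_mul] at hcount
    -- the normaliser is transitive on the non-identity elements
    have htrans : ∀ a ∈ K, a ≠ 1 → ∀ b ∈ K, b ≠ 1 → ∃ g : G, g * a * g⁻¹ = b := by
      intro a ha ha1 b hb hb1
      have hmem : ∀ q : ↥N ⧸ H34.kerN K, (q.out : G) * a * (q.out : G)⁻¹ ∈ K := fun q =>
        (Subgroup.mem_normalizer_iff.1 q.out.2 a).1 ha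
      let f : ↥N ⧸ H34.kerN K → {x : K // x ≠ 1} := fun q =>
        ⟨⟨_, hmem q⟩, fun h => ha1 (conj_eq_one_iff.1 (congrArg Subtype.val h))⟩
      have hinj : Function.Injective f := fun q r h => by
        have h' : (q.out : G) * a * (q.out : G)⁻¹ = (r.out : G) * a * (r.out : G)⁻¹ :=
          congrArg (fun x : {x : K // x ≠ 1} => ((x.1 : K) : G)) h
        have hc : (q.out : G)⁻¹ * (r.out : G) ∈ K := by
          refine hC a ha ha1 ?_
          rw [Subgroup.mem_centralizer_singleton_iff]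
          calc (q.out : G)⁻¹ * r.out * a = (q.out : G)⁻¹ * (r.out * a * (r.out : G)⁻¹) * r.out := by group
            _ = (q.out : G)⁻¹ * (q.out * a * (q.out : G)⁻¹) * r.out := by rw [h']
            _ = a * ((q.out : G)⁻¹ * r.out) := by group
        rw [← q.out_eq, ← r.out_eq]
        exact QuotientGroup.eq.2 hc
      have hcard : Nat.card (↥N ⧸ H34.kerN K) = Nat.card {x : K // x ≠ 1} := by
        rw [← Subgroup.index_eq_card, ← he]
        haveI : Fintype K := Fintype.ofFinite _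
        have h7 : Fintype.card {x : K // x ≠ 1} = Fintype.card K - 1 := by
          rw [Fintype.card_subtype_compl, Fintype.card_subtype_eq]
        rw [Nat.card_eq_fintype_card, h7, ← Nat.card_eq_fintype_card, hcount]
        rfl
      obtain ⟨q, hq⟩ := ((Nat.bijective_iff_injective_and_card f).2 ⟨hinj, hcard⟩).2
        ⟨⟨b, hb⟩, fun h => hb1 (congrArg Subtype.val h)⟩
      exact ⟨q.out, congrArg (fun x : {x : K // x ≠ 1} => ((x.1 : K) : G)) hq⟩
    have hne : Nat.card K ≠ 1 := by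
      have he0 : 0 < e := Nat.pos_of_ne_zero Subgroup.index_ne_zero_of_finite
      omega
    obtain ⟨p, hp, hdvd⟩ := Nat.exists_prime_and_dvd hne
    haveI : Fact p.Prime := ⟨hp⟩
    obtain ⟨x, hx⟩ := exists_prime_orderOf_dvd_card' p hdvd
    have hxG : orderOf (x : G) = p := by rw [Subgroup.orderOf_coe, hx]
    refine ⟨p, hp, ⟨⟨⟨fun a b => Subtype.ext (hab _ a.2 _ b.2)⟩⟩, fun a ha => ?_⟩, hcount⟩
    by_cases ha1 : a = 1
    · rw [ha1, one_pow]
    · obtain ⟨g, hg⟩ := htrans (x : G) x.2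
        (fun h => by rw [h, orderOf_one] at hxG; exact hp.one_lt.ne hxG) a ha ha1
      rw [← hg, conj_pow, ← hxG, pow_orderOf_eq_one, mul_one, mul_inv_cancel]
  · right
    haveI : Fintype {χ : Cfsg.IrrCharacter N // ∃ k : N, (k : G) ∈ K ∧ (χ : N → ℂ) k ≠ (χ : N → ℂ) 1} :=
      Fintype.ofFinite _
    let E := Fintype.equivFin {χ : Cfsg.IrrCharacter N // ∃ k : N, (k : G) ∈ K ∧ (χ : N → ℂ) k ≠ (χ : N → ℂ) 1}
    obtain ⟨ε, hε, θ, hθ, hθinj, hind⟩ := CharInduce.Isometry.exceptional (K : Set G)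
      (fun x hx => Subgroup.le_normalizer hx) hTI _ (by rw [← Nat.card_eq_fintype_card]; exact h2)
      (fun i => ((E.symm i).1 : N → ℂ)) (fun i => (E.symm i).1.2)
      (fun i j h => E.symm.injective (Subtype.ext (Subtype.ext h)))
      (fun i x hx => H34.vanish_off hfree (E.symm i).1.2 (E.symm i).2 hx)
      (fun i j => by rw [hdeg, hdeg])
    refine ⟨ε, fun χ => ⟨θ (E χ), hθ _⟩, hε, fun a b h => E.injective (hθinj (congrArg Subtype.val h)),
      fun χ ξ => ?_⟩
    have := hind (E χ) (E ξ)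
    simp only [Equiv.symm_apply_apply] at this
    rw [CharInduce.indFun_sub, this]

end Cfsg.Agent.S0851
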