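import Cfsg.Statements.S0860
import Cfsg.Agent.CharInduce.Twist

set_option autoImplicit false
open Cfsg

namespace Cfsg.Agent.S0860

/-- Let a group A act on the set of irreducible characters and on the set of conjugacy classes of a finite group G in such a way that (a • χ) evaluated on the class a • C equals χ evaluated on C, for all a, χ and C. Then every element of A fixes exactly as many irreducible characters as it fixes conjugacy classes. -/
theorem result {G : Type*} [Group G] [Finite G] {A : Type*} [Group A] [MulAction A (Cfsg.IrrCharacter G)] [MulAction A (ConjClasses G)] (hcompat : ∀ (a : A) (χ : Cfsg.IrrCharacter G) (g g' : G), ConjClasses.mk g' = a • ConjClasses.mk g → ((a • χ : Cfsg.IrrCharacter G) : G → ℂ) g' = (χ : G → ℂ) g) (a : A) : Nat.card {χ : Cfsg.IrrCharacter G // a • χ = χ} = Nat.card {C : ConjClasses G // a • C = C} := by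
  classical
  let σ : G → G := fun g => Quotient.out (a⁻¹ • ConjClasses.mk g)
  have hmk : ∀ g, ConjClasses.mk (σ g) = a⁻¹ • ConjClasses.mk g := fun g => Quotient.out_eq _
  have hact : ∀ χ : Cfsg.IrrCharacter G,
      ((a • χ : Cfsg.IrrCharacter G) : G → ℂ) = (χ : G → ℂ) ∘ σ := fun χ => funext fun g =>
    hcompat a χ (σ g) g (by rw [hmk, smul_inv_smul])
  have h := CharInduce.card_fixed_irr_eq_card_fixed_classes σ fun χ => hact χ ▸ (a • χ).2
  have e1 : Nat.card {χ : Cfsg.IrrCharacter G // a • χ = χ} =
      Nat.card {χ : Cfsg.IrrCharacter G // (χ : G → ℂ) ∘ σ = χ} :=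
    Nat.card_congr (Equiv.subtypeEquivRight fun χ => by rw [← hact χ, Subtype.coe_inj])
  rw [e1, h]
  refine Nat.card_congr (Equiv.subtypeEquivRight fun C => ?_)
  obtain ⟨g, rfl⟩ := ConjClasses.exists_rep C
  constructor
  · intro hC
    have := ConjClasses.mk_eq_mk_iff_isConj.2 (hC g rfl)
    rw [hmk] at this
    rw [eq_inv_smul_iff] at this
    exact this
  · intro hC g' hg'
    rw [← ConjClasses.mk_eq_mk_iff_isConj, hmk, hg', eq_inv_smul_iff]
    exact hC

end Cfsg.Agent.S0860
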