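import Cfsg.Statements.S0861
import Mathlib
import Cfsg.Agent.H86.KGV
import Cfsg.Agent.H81.GaloisSum
import Cfsg.Agent.CharBasic.Kernel
import Cfsg.Agent.CharBasic.Complete
import Cfsg.Agent.CharInduce.Ops

set_option autoImplicit false
open Cfsg

namespace Cfsg.Agent.S0861

open scoped ComplexConjugate commutatorElement
open Cfsg.Agent


/-- Let P be a normal abelian Sylow p-subgroup of the finite group G and suppose some element g of P has centralizer exactly P. Then the number of irreducible characters of G is at most the order of P, and if equality holds then G / P is abelian (the commutator subgroup lies in P). -/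
theorem result {G : Type*} [Group G] [Finite G] (p : ℕ) [Fact p.Prime] (P : Sylow p G) [(P : Subgroup G).Normal] (hab : ∀ a ∈ P, ∀ b ∈ P, a * b = b * a) (g : G) (hg : g ∈ P) (hC : Subgroup.centralizer ({g} : Set G) = P) : Nat.card (Cfsg.IrrCharacter G) ≤ Nat.card P ∧ (Nat.card (Cfsg.IrrCharacter G) = Nat.card P → commutator G ≤ P) := by
  classical
  cases nonempty_fintype G
  have hP : IsPGroup p (P : Subgroup G) := P.isPGroup'
  let A : Finset G := Finset.univ.filter fun h => Subgroup.zpowers h = Subgroup.zpowers g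
  have hmemA : ∀ h ∈ A, h ∈ (P : Subgroup G) ∧
      Subgroup.centralizer ({h} : Set G) = (P : Subgroup G) := by
    intro h hh
    have hz : Subgroup.zpowers h = Subgroup.zpowers g := (Finset.mem_filter.1 hh).2
    refine ⟨(Subgroup.zpowers_le.2 hg) (hz ▸ Subgroup.mem_zpowers h), ?_⟩
    rw [← hC, ← Subgroup.centralizer_closure {h}, ← Subgroup.centralizer_closure {g},
      ← Subgroup.zpowers_eq_closure, ← Subgroup.zpowers_eq_closure, hz]
  have hcl : ∀ h ∈ A, ∀ k : ℕ, Nat.Coprime k (orderOf h) → h ^ k ∈ A := by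
    intro h hh k hk
    have hz : Subgroup.zpowers h = Subgroup.zpowers g := (Finset.mem_filter.1 hh).2
    refine Finset.mem_filter.2 ⟨Finset.mem_univ _, ?_⟩
    rw [← hz]
    refine Subgroup.eq_of_le_of_card_ge (by simp) ?_
    rw [Nat.card_zpowers, Nat.card_zpowers, hk.symm.orderOf_pow]
  have hne : ∀ χ : Cfsg.IrrCharacter G, ∀ h ∈ A, (χ : G → ℂ) h ≠ 0 := fun χ h hh =>
    H86.KGV.value_ne_zero hP P.not_dvd_index hab χ (hmemA h hh).1
  have hge : ∀ χ : Cfsg.IrrCharacter G,
      (A.card : ℝ) ≤ ∑ h ∈ A, ‖(χ : G → ℂ) h‖ ^ 2 := fun χ =>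
    H81.card_le_sum_norm_sq_of_closed (CharBasic.IsIrr.isCharacter χ.2) A (hne χ) hcl
  have hcol : ∀ h ∈ A, ∑ χ : Cfsg.IrrCharacter G, ‖(χ : G → ℂ) h‖ ^ 2 =
      (Nat.card (P : Subgroup G) : ℝ) := by
    intro h hh
    have e := CharBasic.second_orthogonality_self (G := G) h
    rw [(hmemA h hh).2] at e
    simp only [Complex.mul_conj'] at e
    exact_mod_cast e
  have htot : ∑ χ : Cfsg.IrrCharacter G, ∑ h ∈ A, ‖(χ : G → ℂ) h‖ ^ 2 =
      (A.card : ℝ) * (Nat.card (P : Subgroup G) : ℝ) := by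
    rw [Finset.sum_comm, Finset.sum_congr rfl hcol, Finset.sum_const, nsmul_eq_mul]
  have hA0 : 0 < A.card := Finset.card_pos.2 ⟨g, Finset.mem_filter.2 ⟨Finset.mem_univ _, rfl⟩⟩
  have hk : (Nat.card (Cfsg.IrrCharacter G) : ℝ) * A.card =
      ∑ _χ : Cfsg.IrrCharacter G, (A.card : ℝ) := by
    rw [Finset.sum_const, Finset.card_univ, nsmul_eq_mul, Nat.card_eq_fintype_card]
  refine ⟨?_, fun heq => ?_⟩
  · have h1 : (Nat.card (Cfsg.IrrCharacter G) : ℝ) * A.card ≤
        (A.card : ℝ) * (Nat.card (P : Subgroup G) : ℝ) := by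
      rw [hk, ← htot]
      exact Finset.sum_le_sum fun χ _ => hge χ
    rw [mul_comm] at h1
    exact_mod_cast le_of_mul_le_mul_left h1 (by exact_mod_cast hA0)
  · have hall : ∀ χ : Cfsg.IrrCharacter G, (A.card : ℝ) = ∑ h ∈ A, ‖(χ : G → ℂ) h‖ ^ 2 := by
      have h1 : ∑ _χ : Cfsg.IrrCharacter G, (A.card : ℝ) =
          ∑ χ : Cfsg.IrrCharacter G, ∑ h ∈ A, ‖(χ : G → ℂ) h‖ ^ 2 := by
        rw [← hk, htot, heq, mul_comm]
      exact fun χ => (Finset.sum_eq_sum_iff_of_le fun ψ _ => hge ψ).1 h1 χ (Finset.mem_univ χ)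
    set q := QuotientGroup.mk' (P : Subgroup G)
    have hlin : ∀ η : Cfsg.IrrCharacter (G ⧸ (P : Subgroup G)), (η : G ⧸ (P : Subgroup G) → ℂ) 1 = 1 := by
      intro η
      obtain ⟨d, hd0, hd⟩ := CharBasic.IsIrr.exists_degree η.2
      let χ : Cfsg.IrrCharacter G :=
        ⟨fun x => (η : G ⧸ (P : Subgroup G) → ℂ) (q x),
          CharInduce.IsIrr.comp η.2 q (QuotientGroup.mk'_surjective _)⟩
      have hv : ∀ h ∈ A, ‖(χ : G → ℂ) h‖ ^ 2 = (d : ℝ) ^ 2 := by
        intro h hh
        show ‖(η : G ⧸ (P : Subgroup G) → ℂ) (q h)‖ ^ 2 = _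
        rw [show q h = 1 from (QuotientGroup.eq_one_iff h).2 (hmemA h hh).1, hd, Complex.norm_natCast]
      have h2 := hall χ
      rw [Finset.sum_congr rfl hv, Finset.sum_const, nsmul_eq_mul] at h2
      have hd1 : d = 1 := by
        have h3 : (A.card : ℕ) = A.card * d ^ 2 := by exact_mod_cast h2
        have h4 : d ^ 2 = 1 := by
          by_contra hc
          have h5 : A.card * 1 = A.card * d ^ 2 := by rwa [mul_one]
          exact hc (Nat.eq_of_mul_eq_mul_left hA0 h5).symm
        exact (pow_eq_one_iff.1 h4).resolve_right two_ne_zero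
      rw [hd, hd1, Nat.cast_one]
    have hcomm := CharBasic.commutative_iff_forall_linear.2 hlin
    rw [commutator_def, Subgroup.commutator_le]
    intro a _ b _
    refine (QuotientGroup.eq_one_iff _).1 ?_
    show q ⁅a, b⁆ = 1
    rw [map_commutatorElement, commutatorElement_eq_one_iff_mul_comm]
    exact hcomm _ _

end Cfsg.Agent.S0861
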