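import Cfsg.Statements.S0867
import Cfsg.Agent.CharInduce.CoprimeExt

set_option autoImplicit false
open Cfsg

namespace Cfsg.Agent.S0867

/-- Let N be a normal subgroup of the finite group G and ϑ an irreducible character of N of degree d, invariant under conjugation by G, such that the index of N is coprime to the product of d and the determinantal order of ϑ. Then there is an irreducible character χ of G restricting to ϑ whose determinantal order equals that of ϑ, and χ is the only irreducible character of G restricting to ϑ whose determinantal order is coprime to the index of N. -/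
theorem result {G : Type*} [Group G] [Finite G] (N : Subgroup G) [hN : N.Normal] (ϑ : N → ℂ) (hϑ : Cfsg.IsIrrCharacter N ϑ) (hinv : ∀ (g : G) (n : N), ϑ ⟨g * n * g⁻¹, hN.conj_mem (n : G) n.2 g⟩ = ϑ n) (d : ℕ) (hd : ϑ 1 = d) (hcop : Nat.Coprime N.index (Cfsg.detOrder ϑ * d)) : ∃ χ : G → ℂ, (Cfsg.IsIrrCharacter G χ ∧ (∀ n : N, χ n = ϑ n) ∧ Cfsg.detOrder χ = Cfsg.detOrder ϑ) ∧ ∀ χ' : G → ℂ, Cfsg.IsIrrCharacter G χ' → (∀ n : N, χ' n = ϑ n) → Nat.Coprime N.index (Cfsg.detOrder χ') → χ' = χ := by
  obtain ⟨η, hη, hres⟩ := CharInduce.exists_extension_of_coprime hϑ hinv hd hcop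
  have hηc := CharBasic.IsIrr.isCharacter hη
  obtain ⟨D, hD⟩ := CharInduce.exists_detChar_eq_hom hηc
  obtain ⟨l, hl⟩ := CharInduce.exists_detChar_eq_hom (CharBasic.IsIrr.isCharacter hϑ)
  have hDl : ∀ n : N, D n = l n := fun n => Units.ext (by
    rw [← congrFun hl n, ← CharInduce.detChar_res N hηc hres n]
    exact (congrFun hD n).symm)
  have hol : orderOf l = Cfsg.detOrder ϑ := by
    rw [Cfsg.detOrder, hl, CharInduce.orderOf_homFun]
  obtain ⟨μ, hμN, hord, huniq⟩ := CharInduce.exists_hom_extension_coprime l (fun g n => by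
    rw [← hDl, ← hDl]; simp [mul_comm]) (by rw [hol]; exact hcop.coprime_mul_right_right)
  obtain ⟨χ, ⟨hχ, hχN, hχd⟩, huni⟩ := CharInduce.exists_unique_extension_det hϑ hd
    hcop.coprime_mul_left_right hη hres μ (fun n => by rw [hμN, ← congrFun hl n])
  refine ⟨χ, ⟨hχ, hχN, ?_⟩, fun χ' hχ' hχ'N hcop' => huni χ' ⟨hχ', hχ'N, ?_⟩⟩
  · rw [Cfsg.detOrder, hχd, CharInduce.orderOf_homFun, hord, hol]
  · obtain ⟨D', hD'⟩ := CharInduce.exists_detChar_eq_hom (CharBasic.IsIrr.isCharacter hχ')
    rw [hD', huniq D' (fun n => Units.ext (by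
      rw [← congrFun hl n, ← CharInduce.detChar_res N (CharBasic.IsIrr.isCharacter hχ') hχ'N n]
      exact (congrFun hD' n).symm))
      (by rwa [Cfsg.detOrder, hD', CharInduce.orderOf_homFun] at hcop')]

end Cfsg.Agent.S0867
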