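import Cfsg.Statements.S0868
import Cfsg.Agent.CharInduce.Gallagher
-- import your own Cfsg.Agent.* helpers here

set_option autoImplicit false
open scoped ComplexConjugate
open Cfsg

namespace Cfsg.Agent.S0868

/-- Let N be a normal subgroup of the finite group G, χ an irreducible character of G whose restriction ϑ to N is irreducible, and ψ an irreducible character of G. Define η on G by η g = (1 / order of N) * Σ over n in N of ψ (n * g) * conj (χ (n * g)). Then: if the restriction of ψ to N has nonzero inner product with ϑ, η is an irreducible character of G; if that inner product is zero, η vanishes identically; and if ψ = χ then η is identically 1. -/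
theorem result {G : Type*} [Group G] [Fintype G] (N : Subgroup G) [N.Normal] [Fintype N] (χ : G → ℂ) (hχ : Cfsg.IsIrrCharacter G χ) (hχN : Cfsg.IsIrrCharacter N (fun n : N => χ n)) (ψ : G → ℂ) (hψ : Cfsg.IsIrrCharacter G ψ) (η : G → ℂ) (hη : η = fun g => (Nat.card N : ℂ)⁻¹ * ∑ n : N, ψ ((n : G) * g) * conj (χ ((n : G) * g))) : (Cfsg.classInner (fun n : N => ψ n) (fun n : N => χ n) ≠ 0 → Cfsg.IsIrrCharacter G η) ∧ (Cfsg.classInner (fun n : N => ψ n) (fun n : N => χ n) = 0 → η = 0) ∧ (ψ = χ → η = fun _ => 1) := by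
  classical
  haveI : Fintype (G ⧸ N) := Fintype.ofFinite _
  subst hη
  set η : G → ℂ := fun g => (Nat.card N : ℂ)⁻¹ * ∑ n : N, ψ ((n : G) * g) * conj (χ ((n : G) * g))
    with hη
  have hψc := CharBasic.IsIrr.isClassFunction hψ
  have hχc := CharBasic.IsIrr.isClassFunction hχ
  have hcl : Cfsg.IsClassFunction G η := by
    intro g h
    simp only [hη]
    congr 1
    refine Fintype.sum_equiv (MulAut.conjNormal h⁻¹ : N ≃* N).toEquiv _ _ fun n => ?_
    have e : (((MulAut.conjNormal h⁻¹ : N ≃* N) n : N) : G) * g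
        = h⁻¹ * ((n : G) * (h * g * h⁻¹)) * h⁻¹⁻¹ := by
      simp [MulAut.conjNormal_apply, mul_assoc]
    show ψ _ * conj (χ _) = ψ ((((MulAut.conjNormal h⁻¹ : N ≃* N) n : N) : G) * g) *
      conj (χ ((((MulAut.conjNormal h⁻¹ : N ≃* N) n : N) : G) * g))
    rw [e, hψc, hχc]
  have hinv : ∀ m ∈ N, ∀ g, η (m * g) = η g := by
    intro m hm g
    simp only [hη]
    congr 1
    refine Fintype.sum_equiv (Equiv.mulRight (⟨m, hm⟩ : N)) _ _ fun n => ?_
    simp [mul_assoc]
  have hcoef : ∀ β : G → ℂ, Cfsg.IsIrrCharacter G β → (∀ n ∈ N, ∀ g, β (n * g) = β g) →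
      Cfsg.classInner η β = Cfsg.classInner ψ (β * χ) := by
    intro β _ hβN
    simp only [Cfsg.classInner, hη]
    congr 1
    simp only [mul_assoc, ← Finset.mul_sum, Finset.sum_mul]
    rw [Finset.sum_comm]
    have e : ∀ n : N, ∑ g : G, ψ ((n : G) * g) * (conj (χ ((n : G) * g)) * conj (β g))
        = ∑ g : G, ψ g * conj ((β * χ) g) := by
      intro n
      refine Fintype.sum_equiv (Equiv.mulLeft (n : G)) _ _ fun g => ?_
      rw [Equiv.coe_mulLeft, Pi.mul_apply, map_mul, hβN n n.2 g]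
      ring
    simp only [e, Finset.sum_const, Finset.card_univ, nsmul_eq_mul, ← Nat.card_eq_fintype_card]
    have := CharInduce.card_ne_zero_complex N
    field_simp
  have hϑinv : ∀ x : G, CharInduce.conjFun N (fun n : N => χ n) x = fun n : N => χ n :=
    CharInduce.conjFun_res N hχc
  obtain ⟨g1, g2, g3⟩ := CharInduce.gallagher N (φ := fun _ => 1) CharBasic.isIrrCharacter_one hχN
    (CharInduce.conjFun_one_char N) hϑinv
    (by rw [show (fun _ : N => (1 : ℂ)) * (fun n : N => χ n) = fun n : N => χ n from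
      funext fun n => one_mul _]; exact hχN) hχ (fun n => rfl)
  have habove : ∀ β : Cfsg.IrrCharacter G, β ∈ CharInduce.above N (fun _ : N => (1 : ℂ)) ↔
      ∀ n ∈ N, (β : G → ℂ) n = (β : G → ℂ) 1 := by
    intro β
    rw [CharInduce.mem_above, ← CharInduce.constituent_one_iff N β.2,
      CharInduce.classInner_indFun_left N _ _ (CharBasic.IsIrr.isClassFunction β.2),
      ← CharInduce.conj_classInner, map_ne_zero]
  have hN1 : ∀ β : G → ℂ, Cfsg.IsIrrCharacter G β → (∀ n ∈ N, β n = β 1) →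
      ∀ n ∈ N, ∀ g, β (n * g) = β g := by
    intro β hβ hk n hn g
    obtain ⟨b, -, hb, -⟩ := CharInduce.IsChar.exists_deflate (CharBasic.IsIrr.isCharacter hβ) N hk
    rw [hb, hb, QuotientGroup.mk_mul, (QuotientGroup.eq_one_iff n).2 hn, one_mul]
  have hinfl : ∀ b : Cfsg.IrrCharacter (G ⧸ N), ∃ β : Cfsg.IrrCharacter G,
      (β : G → ℂ) = (fun g : G => (b : G ⧸ N → ℂ) g) ∧
        β ∈ CharInduce.above N (fun _ : N => (1 : ℂ)) := fun b =>
    ⟨⟨_, CharInduce.IsIrr.comp b.2 (QuotientGroup.mk' N) (QuotientGroup.mk'_surjective N)⟩, rfl,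
      (habove _).2 fun n hn => congrArg (b : G ⧸ N → ℂ)
        (((QuotientGroup.eq_one_iff n).2 hn).trans (map_one (QuotientGroup.mk' N)).symm)⟩
  have hexp := CharInduce.expansion_of_coset_invariant N hcl hinv
  have hterm : ∀ b : Cfsg.IrrCharacter (G ⧸ N),
      Cfsg.classInner η (fun g : G => (b : G ⧸ N → ℂ) g)
        = Cfsg.classInner ψ ((fun g : G => (b : G ⧸ N → ℂ) g) * χ) := fun b => by
    obtain ⟨β, hβ, hmem⟩ := hinfl b
    rw [← hβ]
    exact hcoef _ β.2 (hN1 _ β.2 ((habove β).1 hmem))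
  have hnone : (∀ β ∈ CharInduce.above N (fun _ : N => (1 : ℂ)), (β : G → ℂ) * χ ≠ ψ) → η = 0 := by
    intro hno
    rw [hexp]
    refine Finset.sum_eq_zero fun b _ => ?_
    obtain ⟨β, hβ, hmem⟩ := hinfl b
    rw [hterm, ← hβ, CharBasic.classInner_irr_of_ne hψ (g1 β hmem).1 (Ne.symm (hno β hmem)),
      zero_smul]
  have hsome : ∀ β₀ ∈ CharInduce.above N (fun _ : N => (1 : ℂ)), (β₀ : G → ℂ) * χ = ψ →
      η = (β₀ : G → ℂ) := by
    intro β₀ h₀ he
    obtain ⟨b₀, -, hb₀, hb₀'⟩ :=
      CharInduce.IsChar.exists_deflate (CharBasic.IsIrr.isCharacter β₀.2) N ((habove β₀).1 h₀)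
    let B : Cfsg.IrrCharacter (G ⧸ N) := ⟨b₀, hb₀' β₀.2⟩
    have hB : (fun g : G => (B : G ⧸ N → ℂ) g) = (β₀ : G → ℂ) := funext fun g => (hb₀ g).symm
    rw [hexp, Finset.sum_eq_single B]
    · rw [hterm, hB, he, CharBasic.classInner_irr_self hψ, one_smul]
    · intro b _ hb
      obtain ⟨β, hβ, hmem⟩ := hinfl b
      have hne : (β : G → ℂ) * χ ≠ ψ := by
        intro e
        apply hb
        have := g2 β hmem β₀ h₀ (e.trans he.symm)
        subst this
        apply Subtype.ext
        funext q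
        induction q using QuotientGroup.induction_on with
        | H g => exact (congrFun hβ g).symm.trans (hb₀ g)
      rw [hterm, ← hβ, CharBasic.classInner_irr_of_ne hψ (g1 β hmem).1 (Ne.symm hne), zero_smul]
    · simp
  have hcon : Cfsg.classInner (Cfsg.indFun N ((fun _ : N => (1 : ℂ)) * fun n : N => χ n)) ψ
      = conj (Cfsg.classInner (fun n : N => ψ n) (fun n : N => χ n)) := by
    rw [CharInduce.conj_classInner, CharInduce.classInner_indFun_left N _ _ hψc]
    rw [show ((fun _ : N => (1 : ℂ)) * fun n : N => χ n) = fun n : N => χ n from funext fun n => one_mul _]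
  refine ⟨fun h => ?_, fun h => ?_, fun e => ?_⟩
  · obtain ⟨β, hβ, he⟩ := g3 ψ hψ (by rw [hcon, map_ne_zero]; exact h)
    rw [hsome β hβ he]
    exact β.2
  · refine hnone fun β hβ e => ?_
    apply (g1 β hβ).2
    rw [e, hcon, h, map_zero]
  · exact hsome ⟨_, CharBasic.isIrrCharacter_one⟩ ((habove _).2 fun n _ => rfl)
      (by rw [e]; exact funext fun g => one_mul _)

end Cfsg.Agent.S0868
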