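import Cfsg.Statements.S0880
import Cfsg.Agent.H28.ZassKernel
import Cfsg.Agent.H33.Zassenhaus
import Cfsg.Agent.BlockBasic.Center

set_option autoImplicit false
open Cfsg

namespace Cfsg.Agent.S0880
open MulAction in
theorem derangement_count {G Ω : Type*} [Group G] [Fintype G] [MulAction G Ω] [Fintype Ω]
    [DecidableEq Ω] (hZ : Cfsg.IsZassenhausGroup G Ω) {a b : Ω} (hab : a ≠ b) :
    ((Nat.card G : ℤ) = Fintype.card Ω * ((Fintype.card Ω - 1 : ℤ) *
        Nat.card ↥(stabilizer G a ⊓ stabilizer G b : Subgroup G))) ∧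
    2 * ((Finset.univ.filter fun g : G => ∀ c : Ω, g • c ≠ c).card : ℤ) =
      Nat.card G - ((Fintype.card Ω : ℤ) - 1) * ((Fintype.card Ω : ℤ) - 2) := by
  classical
  obtain ⟨H, hH, -⟩ := H28.Zass.exists_ker hZ a
  have hh : (Nat.card H : ℤ) = (Fintype.card Ω : ℤ) - 1 := by
    have := hH.card
    rw [Nat.card_eq_fintype_card (α := Ω)] at this
    omega
  set e := Nat.card ↥(stabilizer G a ⊓ stabilizer G b : Subgroup G) with he
  set n := Fintype.card Ω with hn
  have hN : (Nat.card G : ℤ) = n * (((n : ℤ) - 1) * e) := by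
    rw [hH.card_group hZ hab, Nat.card_eq_fintype_card (α := Ω)]
    push_cast
    rw [hh]
  refine ⟨hN, ?_⟩
  have hpair : ∀ x y : Ω, x ≠ y →
      Nat.card ↥(stabilizer G x ⊓ stabilizer G y : Subgroup G) = e := by
    intro x y hxy
    obtain ⟨g, hga, hgb⟩ := H33.zas_map_pair hZ hab hxy
    refine (Nat.card_congr ((MulAut.conj g).toEquiv.subtypeEquiv fun u => ?_)).symm
    simp only [MulEquiv.toEquiv_eq_coe, MulEquiv.coe_toEquiv, MulAut.conj_apply,
      Subgroup.mem_inf, mem_stabilizer_iff, ← hga, ← hgb, mul_smul, inv_smul_smul,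
      smul_left_cancel_iff]
  have hone : ∀ x : Ω, (Nat.card (stabilizer G x) : ℤ) = ((n : ℤ) - 1) * e := by
    intro x
    obtain ⟨y, hy, -⟩ := H28.Zass.exists_third hZ x x
    obtain ⟨g, hga, -⟩ := H33.zas_map_pair hZ hab hy.symm
    have : Nat.card (stabilizer G x) = Nat.card (stabilizer G a) := by
      refine (Nat.card_congr ((MulAut.conj g).toEquiv.subtypeEquiv fun u => ?_)).symm
      simp only [MulEquiv.toEquiv_eq_coe, MulEquiv.coe_toEquiv, MulAut.conj_apply,
        mem_stabilizer_iff, ← hga, mul_smul, inv_smul_smul, smul_left_cancel_iff]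
    rw [this, hH.card_stabilizer hZ hab]
    push_cast
    rw [hh]
  let f : G → ℤ := fun g => ∑ c : Ω, if g • c = c then 1 else 0
  have hS1 : ∑ g : G, f g = Nat.card G := by
    rw [Finset.sum_comm]
    have : ∀ c : Ω, (∑ g : G, if g • c = c then (1 : ℤ) else 0) = ((n : ℤ) - 1) * e := by
      intro c
      rw [← hone c, Nat.card_eq_fintype_card, ← Finset.natCast_card_filter, Fintype.card_subtype]
      simp
    rw [Finset.sum_congr rfl fun c _ => this c, Finset.sum_const, nsmul_eq_mul, Finset.card_univ,
      hN]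
  have hS2 : ∑ g : G, f g ^ 2 = 2 * (Nat.card G : ℤ) := by
    simp only [f, sq, Finset.sum_mul, Finset.mul_sum]
    rw [Finset.sum_comm]
    have : ∀ x : Ω, (∑ g : G, ∑ y : Ω, (if g • y = y then (1 : ℤ) else 0) *
        if g • x = x then 1 else 0) = 2 * (((n : ℤ) - 1) * e) := by
      intro x
      simp only [mul_comm _ (if _ • x = x then (1 : ℤ) else 0)]
      rw [Finset.sum_comm]
      have hy : ∀ y : Ω, (∑ g : G, (if g • x = x then (1 : ℤ) else 0) *
          if g • y = y then 1 else 0) = (e : ℤ) + if y = x then ((n : ℤ) - 1) * e - e else 0 := by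
        intro y
        have h1 : (∑ g : G, (if g • x = x then (1 : ℤ) else 0) * if g • y = y then 1 else 0) =
            (Nat.card ↥(stabilizer G x ⊓ stabilizer G y : Subgroup G) : ℤ) := by
          rw [Nat.card_eq_fintype_card, Fintype.card_subtype, Finset.natCast_card_filter]
          refine Finset.sum_congr rfl fun g _ => ?_
          simp only [Subgroup.mem_inf, mem_stabilizer_iff]
          by_cases h : g • x = x <;> by_cases h' : g • y = y <;> simp [h, h']
        rw [h1]
        by_cases hxy : y = x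
        · subst hxy
          rw [inf_idem, if_pos rfl, hone]
          ring
        · rw [if_neg hxy, hpair x y (Ne.symm hxy), add_zero]
      rw [Finset.sum_congr rfl fun y _ => hy y, Finset.sum_add_distrib, Finset.sum_ite_eq',
        if_pos (Finset.mem_univ _), Finset.sum_const, nsmul_eq_mul, Finset.card_univ]
      ring
    rw [Finset.sum_congr rfl fun x _ => this x, Finset.sum_const, nsmul_eq_mul, Finset.card_univ,
      hN]
    ring
  have hf1 : f 1 = n := by simp [f, hn]
  have hkey : ∀ g : G, g ≠ 1 →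
      f g ^ 2 - 3 * f g + 2 = if ∀ c : Ω, g • c ≠ c then 2 else 0 := by
    intro g hg
    have hf : f g = ((Finset.univ.filter fun c : Ω => g • c = c).card : ℤ) := by
      simp [f]
    split_ifs with h
    · rw [hf, Finset.filter_eq_empty_iff.2 fun c _ => h c]
      simp
    · push Not at h
      obtain ⟨c, hc⟩ := h
      by_cases h2 : ∃ d, d ≠ c ∧ g • d = d
      · obtain ⟨d, hdc, hd⟩ := h2
        have : (Finset.univ.filter fun c : Ω => g • c = c) = {c, d} := by
          ext x
          have := H33.zas_fixed_of_pair hZ hg hdc.symm hc hd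
          simp only [Finset.mem_filter, Finset.mem_univ, true_and, Finset.mem_insert,
            Finset.mem_singleton]
          exact Set.ext_iff.1 this x
        rw [hf, this, Finset.card_pair hdc.symm]
        norm_num
      · push Not at h2
        have : (Finset.univ.filter fun c : Ω => g • c = c) = {c} := by
          ext x
          simp only [Finset.mem_filter, Finset.mem_univ, true_and, Finset.mem_singleton]
          exact ⟨fun hx => by_contra fun hxc => h2 x hxc hx, fun hx => hx ▸ hc⟩
        rw [hf, this, Finset.card_singleton]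
        norm_num
  have htot : ∑ g : G, ((f g ^ 2 - 3 * f g + 2) - if ∀ c : Ω, g • c ≠ c then 2 else 0) =
      (n : ℤ) ^ 2 - 3 * n + 2 := by
    rw [Finset.sum_eq_single 1 (fun g _ hg => by rw [hkey g hg, sub_self])
      (fun h => absurd (Finset.mem_univ _) h), hf1, if_neg (fun h => h a (one_smul G a))]
    ring
  rw [Finset.sum_sub_distrib, Finset.sum_add_distrib, Finset.sum_sub_distrib, ← Finset.mul_sum,
    hS1, hS2, Finset.sum_const, nsmul_eq_mul, Finset.card_univ,
    ← Nat.card_eq_fintype_card (α := G)] at htot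
  have hD : (∑ g : G, if ∀ c : Ω, g • c ≠ c then (2 : ℤ) else 0) =
      2 * ((Finset.univ.filter fun g : G => ∀ c : Ω, g • c ≠ c).card : ℤ) := by
    rw [Finset.natCast_card_filter, Finset.mul_sum]
    simp
  linarith [hD]


/-- Let G be a finite simple Zassenhaus group on Ω with n points whose two-point stabilizer E has odd order less than n - 2. Then there are two elements of G, each fixing no point of Ω, that are not conjugate. -/
theorem result {G Ω : Type*} [Group G] [Finite G] [MulAction G Ω] [Fintype Ω] (hZ : Cfsg.IsZassenhausGroup G Ω) {a b : Ω} (hab : a ≠ b) [IsSimpleGroup G] (hodd : Odd (Nat.card ↥(MulAction.stabilizer G a ⊓ MulAction.stabilizer G b : Subgroup G))) (hlt : Nat.card ↥(MulAction.stabilizer G a ⊓ MulAction.stabilizer G b : Subgroup G) < Fintype.card Ω - 2) : ∃ x y : G, (∀ c : Ω, x • c ≠ c) ∧ (∀ c : Ω, y • c ≠ c) ∧ ¬ IsConj x y := by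

  classical
  cases nonempty_fintype G
  obtain ⟨hN, hD⟩ := derangement_count hZ hab
  set e := Nat.card ↥(MulAction.stabilizer G a ⊓ MulAction.stabilizer G b : Subgroup G) with he
  set n := Fintype.card Ω with hn
  set D := Finset.univ.filter fun g : G => ∀ c : Ω, g • c ≠ c with hDdef
  have hn3 : 3 ≤ n := by
    have := H33.zas_three_le_card hZ
    rwa [Nat.card_eq_fintype_card] at this
  have he3 : 3 ≤ e := by
    have h1 : 1 < e := (Subgroup.one_lt_card_iff_ne_bot _).2 (H28.Zass.two_pt_ne_bot hZ hab)
    obtain ⟨k, hk⟩ := hodd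
    omega
  have hNZ : (3 : ℤ) ≤ n := by exact_mod_cast hn3
  have heZ : (3 : ℤ) ≤ e := by exact_mod_cast he3
  have hpos : 0 < D.card := by
    have : (0 : ℤ) < D.card := by nlinarith
    exact_mod_cast this
  obtain ⟨x, hx⟩ := Finset.card_pos.1 hpos
  have hx' : ∀ c : Ω, x • c ≠ c := (Finset.mem_filter.1 hx).2
  by_contra hno
  push Not at hno
  have hclass : D = Finset.univ.filter fun y => IsConj x y := by
    ext y
    simp only [hDdef, Finset.mem_filter, Finset.mem_univ, true_and]
    refine ⟨fun hy => hno x y hx' hy, fun hy c hc => ?_⟩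
    obtain ⟨g, rfl⟩ := isConj_iff.1 hy
    apply hx' (g⁻¹ • c)
    conv_rhs => rw [← hc]
    simp [mul_smul]
  have hidx : D.card = (Subgroup.centralizer ({x} : Set G)).index := by
    rw [hclass, ← BlockBasic.card_class x]
    congr 1
    ext y
    simp
  set k := Nat.card (Subgroup.centralizer ({x} : Set G)) with hk
  have hmul : (D.card : ℤ) * k = Nat.card G := by
    rw [hidx]
    exact_mod_cast Subgroup.index_mul_card _
  have key : (k : ℤ) * ((n : ℤ) * (e - 1) + 2) = 2 * n * e := by
    apply mul_left_cancel₀ (show ((n : ℤ) - 1) ≠ 0 by linarith)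
    calc ((n : ℤ) - 1) * ((k : ℤ) * (n * (e - 1) + 2))
        = (k : ℤ) * ((Nat.card G : ℤ) - ((n : ℤ) - 1) * (n - 2)) := by rw [hN]; ring
      _ = 2 * ((D.card : ℤ) * k) := by rw [← hD]; ring
      _ = _ := by rw [hmul, hN]; ring
  have hk0 : 0 < k := Nat.card_pos
  rcases (by omega : k = 1 ∨ k = 2 ∨ 3 ≤ k) with h | h | h
  · rw [h, Nat.cast_one] at key; nlinarith
  · rw [h, Nat.cast_two] at key; nlinarith
  · have : (3 : ℤ) ≤ k := by exact_mod_cast h
    nlinarith [mul_le_mul_of_nonneg_right this (show (0 : ℤ) ≤ (n : ℤ) * (e - 1) + 2 by nlinarith)]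

end Cfsg.Agent.S0880
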