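import Cfsg.Statements.S0883
import Cfsg.Agent.H28.ZassInvol
import Cfsg.Agent.H24.Nilp

set_option autoImplicit false
open Cfsg

namespace Cfsg.Agent.S0883
open MulAction Cfsg.Agent.H28.Zass in
/-- All involutions of the kernel are central in it. -/
theorem invol_comm {G Ω : Type*} [Group G] [Finite G] [MulAction G Ω] [Finite Ω]
    (hZ : Cfsg.IsZassenhausGroup G Ω) {a b : Ω} (hab : a ≠ b)
    (hodd : Odd (Nat.card ↥(stabilizer G a ⊓ stabilizer G b))) (hinv : Inverted G a b)
    (hΩ : Odd (Nat.card Ω)) {H : Subgroup G} (hH : IsKer a H) {x u : G} (hx : orderOf x = 2)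
    (hxa : x • a = a) (hu : u ∈ H) : u * x = x * u := by
  classical
  have := hH.nilpotent hZ
  have : Fact (Nat.Prime 2) := ⟨Nat.prime_two⟩
  have h2 : 2 ∣ Nat.card H := by
    have := hH.card
    rw [← this, Nat.odd_add_one, Nat.not_odd_iff_even] at hΩ
    exact even_iff_two_dvd.1 hΩ
  obtain ⟨P⟩ : Nonempty (Sylow 2 H) := inferInstance
  have hPn : (P : Subgroup H).Normal := P.normal_of_normalizerCondition Group.normalizerCondition_of_isNilpotent
  have hP : (P : Subgroup H) ≠ ⊥ := P.ne_bot_of_dvd_card h2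
  have hZP := H24.inf_center_ne_bot (P : Subgroup H) hP
  obtain ⟨k, hk⟩ := (P.2.to_le (inf_le_left (b := Subgroup.center H))).exists_card_eq
  have hk0 : k ≠ 0 := fun h0 => hZP (Subgroup.card_eq_one.1 (by rw [hk, h0, pow_zero]))
  obtain ⟨⟨z, hzP⟩, hzo⟩ := exists_prime_orderOf_dvd_card'
    (G := ↥((P : Subgroup H) ⊓ Subgroup.center H)) 2 (hk ▸ dvd_pow_self 2 hk0)
  rw [Subgroup.orderOf_mk] at hzo
  have hzc : ∀ v ∈ H, v * (z : G) = (z : G) * v := fun v hv =>
    congrArg Subtype.val (Subgroup.mem_center_iff.1 (Subgroup.mem_inf.1 hzP).2 ⟨v, hv⟩)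
  have hz2 : orderOf (z : G) = 2 := by rwa [Subgroup.orderOf_coe]
  have hmap : ∀ y : ↥(stabilizer G a ⊓ stabilizer G b),
      orderOf ((y : G) * z * (y : G)⁻¹) = 2 ∧ ((y : G) * z * (y : G)⁻¹) • a = a := by
    intro y
    refine ⟨?_, hH.le (hH.conj_mem hZ (mem_two.1 y.2).1 z.2)⟩
    rw [show (y : G) * z * (y : G)⁻¹ = MulAut.conj (y : G) z from rfl, MulEquiv.orderOf_eq, hz2]
  have hinj : Function.Injective (fun y => (⟨_, hmap y⟩ : {x : G // orderOf x = 2 ∧ x • a = a})) := by
    intro y y' h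
    have h' : (y : G) * z * (y : G)⁻¹ = (y' : G) * z * (y' : G)⁻¹ := congrArg Subtype.val h
    by_contra hne
    have h1 : ((y' : G)⁻¹ * y) * z * ((y' : G)⁻¹ * y)⁻¹ = z := by
      rw [mul_inv_rev, inv_inv, show (y' : G)⁻¹ * y * z * ((y : G)⁻¹ * y') =
        (y' : G)⁻¹ * ((y : G) * z * (y : G)⁻¹) * y' by group, h']
      group
    have hz1 := hH.fpf hZ hab (mul_mem (inv_mem y'.2) y.2)
      (fun h0 => hne (Subtype.ext (inv_mul_eq_one.1 h0).symm)) z.2 h1
    rw [hz1, orderOf_one] at hz2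
    omega
  have hbij := (Nat.bijective_iff_injective_and_card _).2
    ⟨hinj, (invol_fix_card hZ hab hodd hinv hΩ a).symm⟩
  obtain ⟨y, hy⟩ := hbij.2 ⟨x, hx, hxa⟩
  have hxy : (y : G) * z * (y : G)⁻¹ = x := congrArg Subtype.val hy
  have hy' : (y : G)⁻¹ • a = a := inv_smul_eq_iff.2 (mem_two.1 y.2).1.symm
  have hv := hzc _ (hH.conj_mem hZ hy' hu)
  rw [← hxy]
  calc u * ((y : G) * z * (y : G)⁻¹) = y * (((y : G)⁻¹ * u * (y : G)⁻¹⁻¹) * z) * (y : G)⁻¹ := by group
    _ = y * (z * ((y : G)⁻¹ * u * (y : G)⁻¹⁻¹)) * (y : G)⁻¹ := by rw [hv]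
    _ = _ := by group


/-- Let G be a finite simple Zassenhaus group on Ω with h + 1 points whose two-point stabilizer E has odd order e with 2e < h - 1, and let H be the subgroup of the stabilizer of a consisting of the identity and the elements fixing no point other than a (given here as a subgroup of the stabilizer of order one less than the number of points whose non-identity elements fix only a; it is the Frobenius kernel of the stabilizer). If a non-identity element u of H is a product of two involutions of G, then u is an involution. -/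
theorem result {G Ω : Type*} [Group G] [Finite G] [MulAction G Ω] [Fintype Ω] (hZ : Cfsg.IsZassenhausGroup G Ω) {a b : Ω} (hab : a ≠ b) [IsSimpleGroup G] (h e : ℕ) (hh : Fintype.card Ω = h + 1) (he : Nat.card ↥(MulAction.stabilizer G a ⊓ MulAction.stabilizer G b : Subgroup G) = e) (hodd : Odd e) (hlt : 2 * e < h - 1) (H : Subgroup G) (hHa : H ≤ MulAction.stabilizer G a) (hHcard : Nat.card H + 1 = Fintype.card Ω) (hHfix : ∀ u ∈ H, u ≠ 1 → ∀ c : Ω, u • c = c → c = a) (u : G) (hu : u ∈ H) (hu1 : u ≠ 1) (x y : G) (hx : orderOf x = 2) (hy : orderOf y = 2) (hxy : x * y = u) : orderOf u = 2 := by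
  classical
  have hK : H28.Zass.IsKer a H := ⟨hHa, by rwa [Nat.card_eq_fintype_card (α := Ω)], hHfix⟩
  rw [← he] at hodd
  obtain ⟨-, -, hinv⟩ := H28.Zass.inverted_of_simple hZ hab hodd
  have hxx : x * x = 1 := by rw [← pow_two, ← hx, pow_orderOf_eq_one]
  have hyy : y * y = 1 := by rw [← pow_two, ← hy, pow_orderOf_eq_one]
  have hxux : x * u * x⁻¹ = u⁻¹ := by
    rw [← hxy, mul_inv_rev, inv_eq_of_mul_eq_one_right hxx, inv_eq_of_mul_eq_one_right hyy,
      ← mul_assoc, hxx, one_mul]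
  have hxa : x • a = a := hK.smul_eq_of_conj_mem hu hu1 (by rw [hxux]; exact inv_mem hu)
  have hyu : y = x * u := by rw [← hxy, ← mul_assoc, hxx, one_mul]
  have hya : y • a = a := by rw [hyu, mul_smul, (hHa hu : u • a = a), hxa]
  have hfix := H28.Zass.invol_fixed hZ hab hodd hx
  have hΩ : Odd (Nat.card Ω) := by
    by_contra hne
    rw [if_neg hne, Set.ncard_eq_zero] at hfix
    exact Set.eq_empty_iff_forall_notMem.1 hfix a hxa
  have hyH : y ∈ H := by
    refine (hK.mem_iff hZ).2 ⟨hya, Or.inr fun c hc => ?_⟩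
    have h1 := H28.Zass.invol_fixed hZ hab hodd hy
    rw [if_pos hΩ, Set.ncard_eq_one] at h1
    obtain ⟨d, hd⟩ := h1
    have hcd : c ∈ MulAction.fixedBy Ω y := hc
    have had : a ∈ MulAction.fixedBy Ω y := hya
    rw [hd, Set.mem_singleton_iff] at hcd had
    rw [hcd, had]
  have hc := invol_comm hZ hab hodd hinv hΩ hK hx hxa hyH
  refine orderOf_eq_prime (hp := ⟨Nat.prime_two⟩) ?_ hu1
  rw [← hxy, pow_two, mul_assoc, ← mul_assoc y x y, hc, mul_assoc x y y, hyy, mul_one, hxx]

end Cfsg.Agent.S0883
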