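import Cfsg.Statements.S0884
import Cfsg.Agent.H28.ZassClasses

set_option autoImplicit false
open Cfsg

namespace Cfsg.Agent.S0884

/-- Let G be a finite simple Zassenhaus group on Ω with h + 1 points whose two-point stabilizer E has odd order e with 2e < h - 1, and let H be the subgroup of the stabilizer of a consisting of the identity and the elements fixing no point other than a (given here as a subgroup of the stabilizer of order one less than the number of points whose non-identity elements fix only a; it is the Frobenius kernel of the stabilizer). Then at least e conjugacy classes of G contain no element of H. -/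
theorem result {G Ω : Type*} [Group G] [Finite G] [MulAction G Ω] [Fintype Ω] (hZ : Cfsg.IsZassenhausGroup G Ω) {a b : Ω} (hab : a ≠ b) [IsSimpleGroup G] (h e : ℕ) (hh : Fintype.card Ω = h + 1) (he : Nat.card ↥(MulAction.stabilizer G a ⊓ MulAction.stabilizer G b : Subgroup G) = e) (hodd : Odd e) (hlt : 2 * e < h - 1) (H : Subgroup G) (hHa : H ≤ MulAction.stabilizer G a) (hHcard : Nat.card H + 1 = Fintype.card Ω) (hHfix : ∀ u ∈ H, u ≠ 1 → ∀ c : Ω, u • c = c → c = a) : e ≤ Nat.card {C : ConjClasses G // ∀ g : G, ConjClasses.mk g = C → g ∉ H} := by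
  classical
  have hK : H28.Zass.IsKer a H := ⟨hHa, by rwa [Nat.card_eq_fintype_card (α := Ω)], hHfix⟩
  have hΩ : Nat.card Ω = h + 1 := by rw [Nat.card_eq_fintype_card, hh]
  have hHh : Nat.card H = h := by omega
  rw [← he] at hodd
  obtain ⟨hcyc, -, hinv⟩ := H28.Zass.inverted_of_simple hZ hab hodd
  have hG : Nat.card G = Nat.card Ω * ((Nat.card Ω - 1) *
      Nat.card ↥(MulAction.stabilizer G a ⊓ MulAction.stabilizer G b)) := by
    rw [hK.card_group hZ hab, hΩ, hHh, Nat.add_sub_cancel]
  have hF := H28.Zass.fpf_classes_ge hZ hab hodd hinv (by omega) hG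
  have hE := H28.Zass.two_classes_ge hZ hab hcyc hinv
  rw [he] at hF hE
  set F := {C : ConjClasses G | ∀ g : G, ConjClasses.mk g = C → ∀ c : Ω, g • c ≠ c} with hFdef
  set T := {C : ConjClasses G | ∃ y ∈ MulAction.stabilizer G a ⊓ MulAction.stabilizer G b,
    y ≠ 1 ∧ ConjClasses.mk y = C} with hTdef
  have hsub : F ∪ T ⊆ {C : ConjClasses G | ∀ g : G, ConjClasses.mk g = C → g ∉ H} := by
    rintro C (hC | ⟨y, hy, hy1, rfl⟩) g hg hgH
    · exact hC g hg a (hHa hgH)
    · obtain ⟨k, hk⟩ := isConj_iff.1 (ConjClasses.mk_eq_mk_iff_isConj.1 hg.symm)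
      obtain ⟨hya, hyb⟩ := H28.Zass.mem_two.1 hy
      have hg1 : g ≠ 1 := fun h1 => hy1 (conj_eq_one_iff.1 (hk.trans h1))
      have h1 : k • a = a := hHfix g hgH hg1 _ (by
        rw [← hk, mul_smul, mul_smul, inv_smul_smul, hya])
      have h2 : k • b = a := hHfix g hgH hg1 _ (by
        rw [← hk, mul_smul, mul_smul, inv_smul_smul, hyb])
      exact hab (MulAction.injective k (h1.trans h2.symm))
  have hdisj : Disjoint F T := by
    rw [Set.disjoint_left]
    rintro C hC ⟨y, hy, -, rfl⟩
    exact hC y rfl a (H28.Zass.mem_two.1 hy).1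
  have hle := Set.ncard_le_ncard hsub
  rw [Set.ncard_union_eq hdisj, ← Nat.card_coe_set_eq {C : ConjClasses G | ∀ g : G,
    ConjClasses.mk g = C → g ∉ H}] at hle
  refine le_trans ?_ hle
  omega

end Cfsg.Agent.S0884
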