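import Cfsg.Statements.S0890
import Cfsg.Agent.H35.BergerStep

set_option autoImplicit false
open Cfsg

namespace Cfsg.Agent.S0890

/-- Let L ≤ H < G with L normal in G, H a maximal subgroup and G / L solvable. Let ϑ be an irreducible character of H whose restriction to L is irreducible and whose induction χ to G is irreducible. Then there is a normal subgroup M of G containing L such that the restriction of χ to M is not a natural-number multiple of a single irreducible character of M. -/
theorem result {G : Type*} [Group G] [Fintype G] (L H : Subgroup G) [L.Normal] (hLH : L ≤ H) (hmax : IsCoatom H) (hsolv : Group.IsSolvable (G ⧸ L)) (ϑ : H → ℂ) (hϑ : Cfsg.IsIrrCharacter H ϑ) (hϑL : Cfsg.IsIrrCharacter L (fun x : L => ϑ ⟨(x : G), hLH x.2⟩)) (hind : Cfsg.IsIrrCharacter G (Cfsg.indFun H ϑ)) : ∃ M : Subgroup G, M.Normal ∧ L ≤ M ∧ ¬ ∃ (φ : M → ℂ) (e : ℕ), Cfsg.IsIrrCharacter M φ ∧ (fun m : M => Cfsg.indFun H ϑ m) = (e : ℂ) • φ := by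
  classical
  by_contra hno
  push Not at hno
  haveI := hsolv
  have hLL : L ≤ H.normalCore := Subgroup.normal_le_normalCore.2 hLH
  haveI : Group.IsSolvable (G ⧸ H.normalCore) :=
    Group.isSolvable_of_surjective (f := QuotientGroup.map L H.normalCore (MonoidHom.id G) hLL)
      fun x => by
        obtain ⟨g, rfl⟩ := QuotientGroup.mk_surjective x
        exact ⟨(g : G ⧸ L), rfl⟩
  haveI := Fintype.ofFinite L
  haveI := Fintype.ofFinite H
  haveI := Fintype.ofFinite H.normalCore
  have hθc : Cfsg.IsCharacter H ϑ := CharBasic.IsIrr.isCharacter hϑ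
  set θ' : H.normalCore → ℂ := fun l => ϑ ⟨(l : G), H.normalCore_le l.2⟩ with hθ'
  have hθ'irr : Cfsg.IsIrrCharacter H.normalCore θ' :=
    H35.Berger.isIrr_of_res (Subgroup.inclusion hLL)
      (CharInduce.IsChar.comp hθc (Subgroup.inclusion H.normalCore_le)) hϑL
  have hXH := CharInduce.IsChar.res (CharBasic.IsIrr.isCharacter hind) H
  have hcon : Cfsg.classInner (fun h : H => Cfsg.indFun H ϑ h) ϑ ≠ 0 := by
    rw [← CharInduce.classInner_indFun_right H ϑ _ (CharInduce.isClassFunction_indFun H ϑ),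
      CharBasic.classInner_irr_self hind]
    exact one_ne_zero
  obtain ⟨r, hr, he⟩ := CharInduce.IsChar.exists_eq_add hXH hϑ hcon
  have hrL : Cfsg.IsCharacter H.normalCore (fun l => r ⟨(l : G), H.normalCore_le l.2⟩) :=
    CharInduce.IsChar.comp hr (Subgroup.inclusion H.normalCore_le)
  obtain ⟨φ, e, hφ, heφ⟩ := hno H.normalCore inferInstance hLL
  have hsplit : θ' + (fun l : H.normalCore => r ⟨(l : G), H.normalCore_le l.2⟩) =
      (e : ℂ) • φ := by
    rw [← heφ]
    funext l
    exact (congrFun he ⟨(l : G), H.normalCore_le l.2⟩).symm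
  have h1 := H35.Berger.eq_smul_of_add (CharBasic.IsIrr.isCharacter hθ'irr) hrL hφ hsplit
  have h2 : φ = θ' := by
    rw [CharBasic.classInner_irr hθ'irr hφ] at h1
    split_ifs at h1 with h3
    · exact h3.symm
    · exact absurd (congrFun h1 1) (by simpa using CharBasic.IsIrr.one_ne_zero hθ'irr)
  subst h2
  have hidx : (e : ℂ) = (H.index : ℂ) := by
    have h3 := congrFun heφ 1
    rw [OneMemClass.coe_one, CharInduce.indFun_one] at h3
    exact (mul_right_cancel₀ (CharBasic.IsIrr.one_ne_zero hθ'irr) h3).symm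
  obtain ⟨M, hMn, hMle, -, hM⟩ := H35.Berger.exists_nonhomogeneous H.normalCore H H.normalCore_le
    hmax (fun N hN hNH => by haveI := hN; exact Subgroup.normal_le_normalCore.2 hNH) hθc hθ'irr hind
    (fun l => by rw [← hidx]; exact congrFun heφ l)
  obtain ⟨φ, f, hφ', hf⟩ := hno M hMn (hLL.trans hMle)
  exact hM φ f hφ' hf

end Cfsg.Agent.S0890
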