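import Cfsg.Statements.S0893
import Cfsg.Agent.CharBasic.ExtraspecialChar
import Cfsg.Agent.CharInduce.Induce

set_option autoImplicit false
open Cfsg
open scoped ComplexConjugate commutatorElement

namespace Cfsg.Agent.S0893

/-- Let P be an extraspecial p-group of order p ^ (2 * n + 1), A an abelian subgroup of order p ^ (n + 1), and λ a character of A of degree 1 that is not identically 1 on the elements of A lying in the centre of P. Then the function induced from λ to P is an irreducible character of P and vanishes at every element outside the centre. -/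
theorem result {P : Type*} [Group P] [Fintype P] (p n : ℕ) [Fact p.Prime] (hP : Cfsg.IsExtraspecial p P) (hcard : Nat.card P = p ^ (2 * n + 1)) (A : Subgroup P) (hab : ∀ a ∈ A, ∀ b ∈ A, a * b = b * a) (hA : Nat.card A = p ^ (n + 1)) (lam : A → ℂ) (hlam : Cfsg.IsCharacter A lam ∧ lam 1 = 1) (hZ : ∃ a : A, (a : P) ∈ Subgroup.center P ∧ lam a ≠ 1) : Cfsg.IsIrrCharacter P (Cfsg.indFun A lam) ∧ ∀ x : P, x ∉ Subgroup.center P → Cfsg.indFun A lam x = 0 := by
  classical
  obtain ⟨l, hl⟩ := CharInduce.IsChar.exists_hom_of_degree_one hlam.1 hlam.2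
  obtain ⟨a0, ha0, hla0⟩ := hZ
  have ha01 : (a0 : P) ≠ 1 := fun h => hla0 (by
    rw [show a0 = 1 from Subtype.ext h]; exact hlam.2)
  have hle : Subgroup.center P ≤ A := CharBasic.center_le_of_mem hP ha0 ha01 a0.2
  haveI hN : A.Normal := ⟨fun a ha x => by
    have h1 : ⁅x, a⁆ ∈ A :=
      hle (PGroups.commutatorElement_mem_center (PGroups.isSpecial_commutator_le hP.1) x a)
    rw [commutatorElement_def] at h1
    have := A.mul_mem h1 ha
    rwa [inv_mul_cancel_right] at this⟩
  have hcard : (Nat.card A : ℂ) ≠ 0 := by simp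
  have hshift : ∀ (z : P) (hz : z ∈ Subgroup.center P) (g : P),
      Cfsg.indFun A lam (z * g) = lam ⟨z, hle hz⟩ * Cfsg.indFun A lam g := by
    intro z hz g
    simp only [Cfsg.indFun]
    rw [mul_left_comm (lam ⟨z, hle hz⟩)]
    congr 1
    rw [Finset.mul_sum]
    refine Finset.sum_congr rfl fun x _ => ?_
    have he : x⁻¹ * (z * g) * x = z * (x⁻¹ * g * x) := by
      rw [← mul_assoc, Subgroup.mem_center_iff.1 hz x⁻¹]
      simp only [mul_assoc]
    rw [he]
    by_cases hm : x⁻¹ * g * x ∈ A
    · rw [CharInduce.extendByZero_of_mem _ (A.mul_mem (hle hz) hm),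
        CharInduce.extendByZero_of_mem _ hm,
        show (⟨z * (x⁻¹ * g * x), A.mul_mem (hle hz) hm⟩ : A) =
          ⟨z, hle hz⟩ * ⟨x⁻¹ * g * x, hm⟩ from rfl, hl, hl, hl, map_mul, Units.val_mul]
    · rw [CharInduce.extendByZero_of_not_mem _ hm, CharInduce.extendByZero_of_not_mem _
        fun h => hm ((A.mul_mem_cancel_left (hle hz)).1 h), mul_zero]
  have hind : Cfsg.IsCharacter P (Cfsg.indFun A lam) := CharInduce.IsChar.ind A hlam.1
  have hnt : ∀ z (hz : z ∈ Subgroup.center P), z ≠ 1 → lam ⟨z, hle hz⟩ ≠ 1 := by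
    intro z hz hz1 h
    have hmem : (a0 : P) ∈ (l.ker).map A.subtype := by
      refine CharBasic.center_le_of_mem hP hz hz1
        (H := (l.ker).map A.subtype) (Subgroup.mem_map.2 ⟨⟨z, hle hz⟩, ?_, rfl⟩) ha0
      rw [MonoidHom.mem_ker]
      exact Units.ext (by rw [← hl, Units.val_one]; exact h)
    obtain ⟨b, hb, hb'⟩ := hmem
    have hb2 : b = a0 := Subtype.ext hb'
    subst hb2
    have hb3 : l b = 1 := hb
    exact hla0 (by rw [hl, hb3, Units.val_one])
  have hvan : ∀ x : P, x ∉ Subgroup.center P → Cfsg.indFun A lam x = 0 := fun x hx =>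
    CharBasic.vanish_of_center_mul hP (CharBasic.IsChar.isClassFunction hind)
      (fun z hz hz1 => ⟨_, hnt z hz hz1, hshift z hz⟩) hx
  refine ⟨CharInduce.isIrr_of_norm_one hind ?_, hvan⟩
  have hone : Cfsg.indFun A lam 1 = (p : ℂ) ^ n := by
    simp only [Cfsg.indFun, mul_one, inv_mul_cancel]
    rw [Finset.sum_const, Finset.card_univ, ← Nat.card_eq_fintype_card (α := P), nsmul_eq_mul,
      CharInduce.extendByZero_of_mem _ A.one_mem, show lam ⟨1, A.one_mem⟩ = 1 from hlam.2, mul_one,
      hA]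
    have hp0 : (p : ℂ) ≠ 0 := by exact_mod_cast (Fact.out : p.Prime).ne_zero
    have : Nat.card P = p ^ (2 * n + 1) := by assumption
    rw [this]
    push_cast
    field_simp
    ring
  rw [CharBasic.classInner_def, ← Finset.sum_subset
    (Finset.subset_univ (Finset.univ.filter fun x : P => x ∈ Subgroup.center P))
    (fun x _ hx => by rw [hvan x (by simpa using hx), zero_mul])]
  have hval : ∀ x ∈ Finset.univ.filter (fun x : P => x ∈ Subgroup.center P),
      Cfsg.indFun A lam x * conj (Cfsg.indFun A lam x) = ((p : ℂ) ^ n) ^ 2 := by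
    intro x hx
    have hx' := (Finset.mem_filter.1 hx).2
    have h1 := hshift x hx' 1
    rw [mul_one, hone] at h1
    rw [h1, map_mul, map_pow, Complex.conj_natCast]
    have hn : lam ⟨x, hle hx'⟩ * conj (lam ⟨x, hle hx'⟩) = 1 := by
      rw [hl, Complex.mul_conj', CharInduce.norm_hom]
      simp
    linear_combination (((p : ℂ) ^ n) * (p : ℂ) ^ n) * hn
  rw [Finset.sum_congr rfl hval, Finset.sum_const, ← Fintype.card_subtype,
    ← Nat.card_eq_fintype_card, nsmul_eq_mul]
  change (Nat.card P : ℂ)⁻¹ * ((Nat.card (Subgroup.center P) : ℂ) * _) = 1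
  rw [hP.2]
  have hp0 : (p : ℂ) ≠ 0 := by exact_mod_cast (Fact.out : p.Prime).ne_zero
  have : Nat.card P = p ^ (2 * n + 1) := by assumption
  rw [this]
  push_cast
  field_simp
  ring

end Cfsg.Agent.S0893
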