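import Cfsg.Statements.S0894
import Cfsg.Agent.CharBasic.ExtraspecialChar

set_option autoImplicit false
open Cfsg
open scoped ComplexConjugate commutatorElement

namespace Cfsg.Agent.S0894

/-- Let P be an extraspecial p-group of order p ^ (2 * n + 1). Then every irreducible character of P has degree 1 or p ^ n, and exactly p - 1 of them have degree p ^ n. -/
theorem result {P : Type*} [Group P] [Finite P] (p n : ℕ) [Fact p.Prime] (hP : Cfsg.IsExtraspecial p P) (hcard : Nat.card P = p ^ (2 * n + 1)) : (∀ χ : Cfsg.IrrCharacter P, (χ : P → ℂ) 1 = 1 ∨ (χ : P → ℂ) 1 = (p : ℂ) ^ n) ∧ Nat.card {χ : Cfsg.IrrCharacter P // (χ : P → ℂ) 1 = (p : ℂ) ^ n} = p - 1 := by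
  classical
  cases nonempty_fintype P
  have hp : p.Prime := Fact.out
  have hp0 : (p : ℂ) ≠ 0 := by exact_mod_cast hp.ne_zero
  -- central scalars
  have hscal : ∀ χ : Cfsg.IrrCharacter P, ∀ z ∈ Subgroup.center P, ∃ ω : ℂ, ‖ω‖ = 1 ∧
      (χ : P → ℂ) z = ω * (χ : P → ℂ) 1 ∧ ∀ g, (χ : P → ℂ) (z * g) = ω * (χ : P → ℂ) g := by
    intro χ z hz
    obtain ⟨m, ρ, hρ, hχ⟩ := χ.2
    obtain ⟨ω, -, hω1, hω⟩ := CharBasic.exists_central_scalar ρ hz
    rw [← hχ]
    refine ⟨ω, hω1, ?_, fun g => ?_⟩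
    · simpa using hω 1
    · rw [← hω g, Subgroup.mem_center_iff.1 hz g]
  -- a character trivial on the centre is linear
  have hlin : ∀ χ : Cfsg.IrrCharacter P,
      (∀ z ∈ Subgroup.center P, (χ : P → ℂ) z = (χ : P → ℂ) 1) → (χ : P → ℂ) 1 = 1 := by
    intro χ hχ
    obtain ⟨N, hN, hmem, -⟩ := CharBasic.IsChar.exists_kernel (CharBasic.IsIrr.isCharacter χ.2)
    have hcN : commutator P ≤ N := fun z hz =>
      (hmem z).2 (hχ z (hP.1.2.2 ▸ hz))
    obtain ⟨m, ρ, hρ, hr⟩ := χ.2
    rw [← hr] at hmem ⊢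
    rw [Representation.char_one, Nat.cast_eq_one]
    have hcomm : ∀ a b, ρ a * ρ b = ρ b * ρ a := by
      intro a b
      have h1 : ρ.character ⁅a, b⁆ = ρ.character 1 :=
        (hmem _).1 (hcN (Subgroup.commutator_mem_commutator (Subgroup.mem_top a)
          (Subgroup.mem_top b)))
      rw [Representation.char_one, CharBasic.character_eq_finrank_iff] at h1
      have h2 : ρ (⁅a, b⁆ * (b * a)) = ρ (b * a) := by
        rw [map_mul, h1]
        rfl
      rw [← map_mul, ← map_mul, ← h2]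
      congr 1
      rw [commutatorElement_def]
      group
    haveI := CharBasic.nontrivial_of_isIrreducible ρ
    obtain ⟨v, hv⟩ := exists_ne (0 : Fin m → ℂ)
    let L : Subrepresentation ρ := ⟨Submodule.span ℂ {v}, fun g w hw => by
      obtain ⟨c, hc⟩ := CharBasic.schur_scalar ρ (ρ g) fun x => hcomm g x
      rw [hc]
      exact Submodule.smul_mem _ c hw⟩
    rcases IsSimpleOrder.eq_bot_or_eq_top L with h | h
    · exact absurd ((Submodule.span_singleton_eq_bot).1 (congrArg Subrepresentation.toSubmodule h)) hv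
    · have h' : Submodule.span ℂ {v} = ⊤ := congrArg Subrepresentation.toSubmodule h
      rw [← finrank_top ℂ (Fin m → ℂ), ← h', finrank_span_singleton hv]
  -- otherwise the degree is p^n and the central values sum to zero
  have hdeg : ∀ χ : Cfsg.IrrCharacter P,
      ¬ (∀ z ∈ Subgroup.center P, (χ : P → ℂ) z = (χ : P → ℂ) 1) →
      (χ : P → ℂ) 1 = (p : ℂ) ^ n ∧ ∑ z : Subgroup.center P, (χ : P → ℂ) z = 0 := by
    intro χ hχ
    push Not at hχ
    obtain ⟨z0, hz0, hne0⟩ := hχ
    have h1ne := CharBasic.IsIrr.one_ne_zero χ.2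
    have hnt : ∀ z ∈ Subgroup.center P, z ≠ 1 → (χ : P → ℂ) z ≠ (χ : P → ℂ) 1 := by
      intro z hz hz1 he
      obtain ⟨N, hN, hmem, -⟩ := CharBasic.IsChar.exists_kernel (CharBasic.IsIrr.isCharacter χ.2)
      exact hne0 ((hmem z0).1 (CharBasic.center_le_of_mem hP hz hz1 ((hmem z).2 he) hz0))
    have hvan : ∀ g, g ∉ Subgroup.center P → (χ : P → ℂ) g = 0 := fun g hg =>
      CharBasic.vanish_of_center_mul hP (CharBasic.IsIrr.isClassFunction χ.2) (fun z hz hz1 => by
        obtain ⟨ω, -, h1, h2⟩ := hscal χ z hz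
        exact ⟨ω, fun h => hnt z hz hz1 (by rw [h1, h, one_mul]), h2⟩) hg
    constructor
    · obtain ⟨d, hd0, hd⟩ := CharBasic.IsIrr.exists_degree χ.2
      have h := CharBasic.classInner_irr_self χ.2
      rw [CharBasic.classInner_def, ← Finset.sum_subset
        (Finset.subset_univ (Finset.univ.filter fun x : P => x ∈ Subgroup.center P))
        (fun x _ hx => by rw [hvan x (by simpa using hx), zero_mul])] at h
      have hval : ∀ x ∈ Finset.univ.filter (fun x : P => x ∈ Subgroup.center P),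
          (χ : P → ℂ) x * conj ((χ : P → ℂ) x) = ((d * d : ℕ) : ℂ) := by
        intro x hx
        obtain ⟨ω, hω, h1, -⟩ := hscal χ x (Finset.mem_filter.1 hx).2
        rw [h1, hd, Complex.mul_conj', norm_mul, hω, one_mul, Complex.norm_natCast]
        push_cast
        ring
      rw [Finset.sum_congr rfl hval, Finset.sum_const, ← Fintype.card_subtype,
        ← Nat.card_eq_fintype_card, nsmul_eq_mul] at h
      change (Nat.card P : ℂ)⁻¹ * ((Nat.card (Subgroup.center P) : ℂ) * _) = 1 at h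
      rw [hP.2, inv_mul_eq_one₀ (by simp), ← Nat.cast_mul, Nat.cast_inj, hcard, pow_succ,
        mul_comm (p ^ (2 * n)) p] at h
      have h' := Nat.eq_of_mul_eq_mul_left hp.pos h
      rw [two_mul, pow_add] at h'
      rw [hd, Nat.mul_self_inj.1 h'.symm]
      push_cast
      rfl
    · obtain ⟨ω, -, h1, h2⟩ := hscal χ z0 hz0
      have hω1 : ω ≠ 1 := fun h => hne0 (by rw [h1, h, one_mul])
      have hs : ∑ z : Subgroup.center P, (χ : P → ℂ) ((⟨z0, hz0⟩ * z : Subgroup.center P) : P) =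
          ∑ z : Subgroup.center P, (χ : P → ℂ) z :=
        Fintype.sum_equiv (Equiv.mulLeft (⟨z0, hz0⟩ : Subgroup.center P)) _ _ fun z => rfl
      simp only [Subgroup.coe_mul, h2, ← Finset.mul_sum] at hs
      by_contra h0
      exact hω1 ((mul_eq_right₀ h0).1 hs)
  constructor
  · intro χ
    by_cases h : ∀ z ∈ Subgroup.center P, (χ : P → ℂ) z = (χ : P → ℂ) 1
    · exact Or.inl (hlin χ h)
    · exact Or.inr (hdeg χ h).1
  have hn : 1 ≤ n := by
    obtain ⟨m, hm, hm'⟩ := PGroups.isExtraspecial_card hP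
    rw [hcard] at hm'
    have := Nat.pow_right_injective hp.two_le hm'
    omega
  have hpn : (p : ℂ) ^ n ≠ 1 := by
    rw [← Nat.cast_pow, Ne, Nat.cast_eq_one]
    exact (one_lt_pow₀ hp.one_lt (by omega)).ne'
  -- count the linear characters
  let T : Finset (Cfsg.IrrCharacter P) :=
    Finset.univ.filter fun χ => ∀ z ∈ Subgroup.center P, (χ : P → ℂ) z = (χ : P → ℂ) 1
  have hiff : ∀ χ : Cfsg.IrrCharacter P, χ ∉ T ↔ (χ : P → ℂ) 1 = (p : ℂ) ^ n := by
    intro χ
    constructor
    · intro h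
      exact (hdeg χ (by simpa [T] using h)).1
    · intro h hT
      exact hpn (h.symm.trans (hlin χ (by simpa [T] using hT)))
  have hT : (T.card : ℂ) * p = (p : ℂ) ^ (2 * n + 1) := by
    have h1 : ∑ z : Subgroup.center P, ∑ χ : Cfsg.IrrCharacter P, (χ : P → ℂ) 1 * (χ : P → ℂ) z =
        (Nat.card P : ℂ) := by
      simp only [CharBasic.sum_degree_mul_apply]
      rw [Finset.sum_eq_single (1 : Subgroup.center P)]
      · simp
      · intro z _ hz
        exact if_neg fun h => hz (Subtype.ext h)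
      · simp
    rw [Finset.sum_comm, ← Finset.sum_add_sum_compl T] at h1
    have h2 : ∑ χ ∈ Tᶜ, ∑ z : Subgroup.center P, (χ : P → ℂ) 1 * (χ : P → ℂ) z = 0 :=
      Finset.sum_eq_zero fun χ hχ => by
        rw [← Finset.mul_sum, (hdeg χ (by simpa [T] using hχ)).2, mul_zero]
    have h3 : ∀ χ ∈ T, ∑ z : Subgroup.center P, (χ : P → ℂ) 1 * (χ : P → ℂ) z = (p : ℂ) := by
      intro χ hχ
      have hh := (Finset.mem_filter.1 hχ).2
      simp only [fun z : Subgroup.center P => hh z z.2, hlin χ hh, mul_one, Finset.sum_const,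
        Finset.card_univ, ← Nat.card_eq_fintype_card, hP.2, nsmul_eq_mul]
    rw [Finset.sum_congr rfl h3, h2, Finset.sum_const, nsmul_eq_mul, add_zero, hcard] at h1
    rw [h1]
    push_cast
    rfl
  have hsq := CharBasic.sum_sq_degree (G := P)
  rw [← Finset.sum_add_sum_compl T, Finset.sum_congr rfl (g := fun _ => (1 : ℂ)) (fun χ hχ => by
      rw [hlin χ (Finset.mem_filter.1 hχ).2, one_pow]),
    Finset.sum_congr rfl (s₁ := Tᶜ) (g := fun _ => ((p : ℂ) ^ n) ^ 2) (fun χ hχ => by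
      rw [(hiff χ).1 (Finset.mem_compl.1 hχ)]),
    Finset.sum_const, Finset.sum_const, nsmul_eq_mul, nsmul_eq_mul, mul_one, hcard] at hsq
  push_cast at hsq
  have hTc : Tᶜ = Finset.univ.filter fun χ : Cfsg.IrrCharacter P => (χ : P → ℂ) 1 = (p : ℂ) ^ n := by
    ext χ
    simp [hiff]
  rw [Nat.card_eq_fintype_card, Fintype.card_subtype, ← hTc]
  have hkey : (Tᶜ.card : ℂ) = (p : ℂ) - 1 := by
    have hT' : (T.card : ℂ) = (p : ℂ) ^ (2 * n) :=
      mul_right_cancel₀ hp0 (by rw [hT, pow_succ])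
    rw [hT'] at hsq
    refine mul_right_cancel₀ (pow_ne_zero (2 * n) hp0) ?_
    linear_combination hsq
  have : Tᶜ.card + 1 = p := by
    have h : ((Tᶜ.card + 1 : ℕ) : ℂ) = (p : ℂ) := by push_cast; rw [hkey]; ring
    exact_mod_cast h
  omega

end Cfsg.Agent.S0894
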