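import Cfsg.Statements.S0900
import Cfsg.Agent.CharInduce.Gallagher
-- import your own Cfsg.Agent.* helpers here

set_option autoImplicit false
open Cfsg

namespace Cfsg.Agent.S0900

/-- Let N be a normal subgroup of the finite group G, χ an irreducible character of G and ϑ an irreducible character of N having nonzero inner product with the restriction of χ. Consider: (a) the restriction of χ to N is e • ϑ for a natural number e with e ^ 2 equal to the index of N; (b) χ vanishes outside N and ϑ is invariant under conjugation by G; (c) ϑ is invariant and every irreducible character of G having nonzero inner product with the function induced from ϑ equals χ. Then (a) ↔ (b) and (a) ↔ (c). -/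
theorem result {G : Type*} [Group G] [Fintype G] (N : Subgroup G) [hN : N.Normal] [Fintype N] (χ : G → ℂ) (hχ : Cfsg.IsIrrCharacter G χ) (ϑ : N → ℂ) (hϑ : Cfsg.IsIrrCharacter N ϑ) (hcon : Cfsg.classInner (fun n : N => χ n) ϑ ≠ 0) : ((∃ e : ℕ, (fun n : N => χ n) = (e : ℂ) • ϑ ∧ e ^ 2 = N.index) ↔ ((∀ g : G, g ∉ N → χ g = 0) ∧ ∀ (g : G) (n : N), ϑ ⟨g * n * g⁻¹, hN.conj_mem (n : G) n.2 g⟩ = ϑ n)) ∧ ((∃ e : ℕ, (fun n : N => χ n) = (e : ℂ) • ϑ ∧ e ^ 2 = N.index) ↔ (∀ (g : G) (n : N), ϑ ⟨g * n * g⁻¹, hN.conj_mem (n : G) n.2 g⟩ = ϑ n ∧ ∀ ψ : G → ℂ, Cfsg.IsIrrCharacter G ψ → Cfsg.classInner (Cfsg.indFun N ϑ) ψ ≠ 0 → ψ = χ)) := by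
  classical
  have hχc := CharBasic.IsIrr.isCharacter hχ
  obtain ⟨a, ha⟩ := CharBasic.classInner_isChar_nat (CharInduce.IsChar.res hχc N)
    (CharBasic.IsIrr.isCharacter hϑ)
  have hnormN : ∀ e : ℕ, (fun n : N => χ n) = (e : ℂ) • ϑ →
      Cfsg.classInner (fun n : N => χ n) (fun n : N => χ n) = ((e ^ 2 : ℕ) : ℂ) := fun e he => by
    rw [he, CharBasic.classInner_smul_left, CharBasic.classInner_smul_right,
      CharBasic.classInner_irr_self hϑ, map_natCast, mul_one, Nat.cast_pow, pow_two]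
  have hsplit : (∑ g : G, ‖χ g‖ ^ 2) =
      (∑ n : N, ‖χ n‖ ^ 2) + ∑ g ∈ Finset.univ.filter (fun g : G => g ∉ N), ‖χ g‖ ^ 2 := by
    rw [← Finset.sum_filter_add_sum_filter_not Finset.univ (fun g : G => g ∈ N)]
    congr 1
    exact Finset.sum_subtype _ (by simp) _
  have hG : (∑ g : G, ‖χ g‖ ^ 2) = (Nat.card G : ℝ) := by
    have h := CharBasic.classInner_irr_self hχ
    rw [CharBasic.classInner_self_eq, ← Complex.ofReal_one, Complex.ofReal_inj,
      inv_mul_eq_iff_eq_mul₀ (by simp), mul_one] at h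
    exact h
  have hN2 : ∀ e : ℕ, (fun n : N => χ n) = (e : ℂ) • ϑ →
      (∑ n : N, ‖χ n‖ ^ 2) = (Nat.card N : ℝ) * (e : ℝ) ^ 2 := by
    intro e he
    have h := hnormN e he
    rw [CharBasic.classInner_self_eq, ← Complex.ofReal_natCast, Complex.ofReal_inj,
      inv_mul_eq_iff_eq_mul₀ (by simp), Nat.cast_pow] at h
    exact h
  have hidx : (Nat.card G : ℝ) = (Nat.card N : ℝ) * (N.index : ℝ) := by
    rw [← Nat.cast_mul, N.card_mul_index]
  have hres : (∀ (g : G) (n : N), ϑ ⟨g * n * g⁻¹, hN.conj_mem (n : G) n.2 g⟩ = ϑ n) →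
      (fun n : N => χ n) = (a : ℂ) • ϑ := fun h => by
    rw [CharInduce.res_eq_smul_of_invariant N hχ hϑ (fun x => funext (h x)) hcon, ha]
  have ha_inv : ∀ e : ℕ, (fun n : N => χ n) = (e : ℂ) • ϑ →
      ∀ (g : G) (n : N), ϑ ⟨g * n * g⁻¹, hN.conj_mem (n : G) n.2 g⟩ = ϑ n := by
    intro e he g n
    have h1 := congrFun (CharInduce.conjFun_res N (CharBasic.IsIrr.isClassFunction hχ) g) n
    have he0 : (e : ℂ) ≠ 0 := by
      intro h0
      apply CharBasic.IsIrr.one_ne_zero hχ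
      have := congrFun he 1
      simpa [h0] using this
    have h2 : ∀ m : N, χ (m : G) = (e : ℂ) * ϑ m := congrFun he
    refine mul_left_cancel₀ he0 ?_
    rw [← h2, ← h2]
    exact h1
  have hb1 : (∃ e : ℕ, (fun n : N => χ n) = (e : ℂ) • ϑ ∧ e ^ 2 = N.index) →
      (∀ g : G, g ∉ N → χ g = 0) := by
    rintro ⟨e, he, he2⟩ g hg
    have h0 : ∑ g ∈ Finset.univ.filter (fun g : G => g ∉ N), ‖χ g‖ ^ 2 = 0 := by
      have h := hsplit
      rw [hG, hN2 e he, hidx, ← he2, Nat.cast_pow] at h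
      linarith
    have := (Finset.sum_eq_zero_iff_of_nonneg fun g _ => by positivity).1 h0 g (by simp [hg])
    simpa using this
  have hind : (∀ (g : G) (n : N), ϑ ⟨g * n * g⁻¹, hN.conj_mem (n : G) n.2 g⟩ = ϑ n) →
      Cfsg.classInner (Cfsg.indFun N ϑ) χ = (a : ℂ) ∧
        Cfsg.classInner (Cfsg.indFun N ϑ) (Cfsg.indFun N ϑ) = (N.index : ℂ) := fun h => by
    refine ⟨?_, CharInduce.classInner_indFun_self_of_invariant N hϑ fun x => funext (h x)⟩
    rw [CharInduce.classInner_indFun_left N ϑ χ (CharBasic.IsIrr.isClassFunction hχ),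
      ← CharInduce.conj_classInner, ha, map_natCast]
  refine ⟨⟨fun h => ⟨hb1 h, ?_⟩, fun h => ⟨a, hres h.2, ?_⟩⟩,
    ⟨fun h g n => ?_, fun h => ?_⟩⟩
  · obtain ⟨e, he, -⟩ := h
    exact ha_inv e he
  · have h0 := hsplit
    rw [hG, hN2 a (hres h.2), Finset.sum_eq_zero (s := Finset.univ.filter fun g : G => g ∉ N)
      (fun g hg => by simp [h.1 g (Finset.mem_filter.1 hg).2]), add_zero, hidx] at h0
    have : (N.index : ℝ) = (a : ℝ) ^ 2 := mul_left_cancel₀ (by simp) h0
    exact_mod_cast this.symm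
  · obtain ⟨e, he, he2⟩ := h
    refine ⟨ha_inv e he g n, fun ψ hψ hne => by_contra fun hψχ => hne ?_⟩
    obtain ⟨h1, h2⟩ := hind (ha_inv e he)
    have hea : a = e := by
      have h3 := ha
      rw [he, CharBasic.classInner_smul_left, CharBasic.classInner_irr_self hϑ, mul_one,
        Nat.cast_inj] at h3
      exact h3.symm
    subst hea
    choose c hc using fun φ : Cfsg.IrrCharacter G => CharInduce.classInner_indFun_nat N
      (CharBasic.IsIrr.isCharacter hϑ) (CharBasic.IsIrr.isCharacter φ.2)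
    have hsum : ∑ φ : Cfsg.IrrCharacter G, c φ * c φ = N.index := by
      have h4 := h2
      rw [CharBasic.classInner_eq_sum (CharInduce.isClassFunction_indFun N ϑ)] at h4
      simp only [hc, map_natCast] at h4
      exact_mod_cast h4
    have hcX : c ⟨χ, hχ⟩ = a := Nat.cast_injective ((hc ⟨χ, hχ⟩).symm.trans h1)
    rw [← Finset.add_sum_erase Finset.univ (fun φ => c φ * c φ) (Finset.mem_univ ⟨χ, hχ⟩), hcX,
      ← he2, pow_two, Nat.add_eq_left] at hsum
    have h5 := (Finset.sum_eq_zero_iff.1 hsum) ⟨ψ, hψ⟩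
      (Finset.mem_erase.2 ⟨fun e => hψχ (congrArg Subtype.val e), Finset.mem_univ _⟩)
    rw [mul_self_eq_zero] at h5
    rw [show Cfsg.classInner (Cfsg.indFun N ϑ) ψ = _ from hc ⟨ψ, hψ⟩, h5, Nat.cast_zero]
  · have hinv : ∀ (g : G) (n : N), ϑ ⟨g * n * g⁻¹, hN.conj_mem (n : G) n.2 g⟩ = ϑ n :=
      fun g n => (h g n).1
    refine ⟨a, hres hinv, ?_⟩
    obtain ⟨h1, h2⟩ := hind hinv
    rw [CharBasic.classInner_eq_sum (CharInduce.isClassFunction_indFun N ϑ),
      Finset.sum_eq_single (⟨χ, hχ⟩ : Cfsg.IrrCharacter G)] at h2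
    · rw [h1, map_natCast, ← Nat.cast_mul, Nat.cast_inj] at h2
      rw [pow_two, h2]
    · intro b _ hb
      by_cases h0 : Cfsg.classInner (Cfsg.indFun N ϑ) (b : G → ℂ) = 0
      · rw [h0, zero_mul]
      · exact absurd (Subtype.ext ((h 1 1).2 b b.2 h0)) hb
    · simp

end Cfsg.Agent.S0900
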