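import Cfsg.Statements.S0915
import Cfsg.Agent.BlockBasic.Kernel
import Cfsg.Agent.Cores.Constrained

set_option autoImplicit false
open Cfsg

namespace Cfsg.Agent.S0915

/-- Let G be a finite p-solvable group with trivial largest normal subgroup of order prime to p. Then any two irreducible characters of G lie in the same block relative to every maximal ideal M of the algebraic integers containing p: G has a single p-block. -/
theorem result {G : Type*} [Group G] [Finite G] (p : ℕ) [Fact p.Prime] (M : Ideal Cfsg.AlgInt) (hM : Cfsg.IsPModular p M) (hsolv : Cfsg.IsPSolvable p G) (hcore : Cfsg.pPrimeCore p G = ⊥) (χ ψ : Cfsg.IrrCharacter G) : Cfsg.SameBlock M (χ : G → ℂ) (ψ : G → ℂ) := by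
  classical
  refine BlockBasic.sameBlock_of_congr_regular hM fun g hg => ?_
  cases nonempty_fintype G
  by_cases hg1 : g = 1
  · subst hg1
    simp only [Cfsg.centralChar, mul_div_assoc, div_self (BlockBasic.irr_one_ne_zero χ.2),
      div_self (BlockBasic.irr_one_ne_zero ψ.2), sub_self]
    exact BlockBasic.memLocalIdeal_zero hM
  have hC : g ∉ Subgroup.centralizer (Cfsg.pCore p G : Set G) := by
    intro h
    have hmem := Cores.centralizer_pCore_le hsolv hcore h
    obtain ⟨k, hk⟩ := IsPGroup.iff_orderOf.1 (Cores.pCore_isPGroup (p := p) (G := G)) ⟨g, hmem⟩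
    rw [Subgroup.orderOf_mk] at hk
    rcases k with _ | k
    · exact hg1 (orderOf_eq_one_iff.1 (by simpa using hk))
    · exact hg (hk ▸ dvd_pow_self p k.succ_ne_zero)
  exact BlockBasic.memLocalIdeal_sub hM
    (BlockBasic.centralChar_mem_of_not_centralizer hM _ Cores.pCore_isPGroup χ hC)
    (BlockBasic.centralChar_mem_of_not_centralizer hM _ Cores.pCore_isPGroup ψ hC)

end Cfsg.Agent.S0915
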