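import Cfsg.Statements.S0925
import Cfsg.Agent.BlockBasic.Basic

set_option autoImplicit false
open Cfsg

namespace Cfsg.Agent.S0925

/-- (i) Let ϑ be a class function on the finite group G and x a p-element, and suppose ϑ vanishes at every element whose p-part is conjugate to x. Then for every block B (relative to a maximal ideal M of the algebraic integers containing p) the B-part of ϑ — the sum over χ ∈ B of the inner product of ϑ with χ, times χ — also vanishes at every such element. (ii) Block orthogonality, its corollary: if the p-parts of g and h are not conjugate, then the sum over χ ∈ B of χ g * χ h⁻¹ is zero for every block B. -/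
theorem result {G : Type*} [Group G] [Finite G] (p : ℕ) [Fact p.Prime] (M : Ideal Cfsg.AlgInt) (hM : Cfsg.IsPModular p M) : (∀ (ϑ : G → ℂ), Cfsg.IsClassFunction G ϑ → ∀ x : G, (∃ k : ℕ, orderOf x = p ^ k) → (∀ u z : G, Cfsg.IsPPart p u z → IsConj x z → ϑ u = 0) → ∀ B : Set (Cfsg.IrrCharacter G), Cfsg.IsPBlock M B → ∀ u z : G, Cfsg.IsPPart p u z → IsConj x z → Cfsg.blockPart B ϑ u = 0) ∧ (∀ g h x y : G, Cfsg.IsPPart p g x → Cfsg.IsPPart p h y → ¬ IsConj x y → ∀ B : Set (Cfsg.IrrCharacter G), Cfsg.IsPBlock M B → ∑ᶠ χ ∈ B, (χ : G → ℂ) g * (χ : G → ℂ) h⁻¹ = 0) := by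
  classical
  letI := Fintype.ofFinite G
  constructor
  · intro ϑ _ x _ hϑ B hB u z hz hxz
    show ∑ᶠ χ ∈ B, Cfsg.classInner ϑ (χ : G → ℂ) * (χ : G → ℂ) u = 0
    rw [BlockBasic.finsum_mem_eq_sum_ite]
    have key : ∀ y : G, ϑ y * BlockBasic.blockKernel B u y = 0 := by
      intro y
      by_cases hy : IsConj x (BlockBasic.pPart (p := p) y)
      · rw [hϑ y _ (BlockBasic.isPPart_pPart y) hy, zero_mul]
      · rw [BlockBasic.blockKernel_eq_zero hM hB, mul_zero]
        rw [BlockBasic.pPart_eq_of_isPPart hz]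
        exact fun h => hy (hxz.trans h)
    have h2 : ∑ χ : Cfsg.IrrCharacter G, (if χ ∈ B then
        Cfsg.classInner ϑ (χ : G → ℂ) * (χ : G → ℂ) u else 0) =
        (Nat.card G : ℂ)⁻¹ * ∑ y, ϑ y * BlockBasic.blockKernel B u y := by
      simp only [BlockBasic.blockKernel, BlockBasic.finsum_mem_eq_sum_ite, Finset.mul_sum]
      rw [Finset.sum_comm]
      refine Finset.sum_congr rfl fun χ _ => ?_
      split_ifs
      · rw [CharBasic.classInner_def, Finset.mul_sum, Finset.sum_mul]
        exact Finset.sum_congr rfl fun y _ => by ring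
      · simp
    refine Eq.trans ?_ (h2.trans (by simp [key]))
    convert rfl
  · intro g h x y hx hy hne B hB
    have h0 := BlockBasic.blockKernel_eq_zero hM hB (g := g) (h := h) (p := p)
      (by rwa [BlockBasic.pPart_eq_of_isPPart hx, BlockBasic.pPart_eq_of_isPPart hy])
    refine Eq.trans (finsum_mem_congr rfl fun χ _ => ?_) h0
    rw [BlockBasic.conj_apply_eq_inv]

end Cfsg.Agent.S0925
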