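import Cfsg.Statements.S0926
import Cfsg.Agent.H35.Consequences

set_option autoImplicit false
open Cfsg

namespace Cfsg.Agent.S0926

/-- Let B be a block of the finite group G with defect group D (relative to a maximal ideal M of the algebraic integers containing p), let χ ∈ B have height zero, and let x be a p-element. Then some conjugate of x lies in D if and only if χ does not vanish on the whole p-section of x (the elements whose p-part is conjugate to x). -/
theorem result {G : Type*} [Group G] [Finite G] (p : ℕ) [Fact p.Prime] (M : Ideal Cfsg.AlgInt) (hM : Cfsg.IsPModular p M) (B : Set (Cfsg.IrrCharacter G)) (hB : Cfsg.IsPBlock M B) (D : Subgroup G) (hD : Cfsg.IsDefectGroup p M B D) (χ : Cfsg.IrrCharacter G) (hχ : χ ∈ B) (h0 : Cfsg.blockHeight p B (χ : G → ℂ) = 0) (x : G) (hx : ∃ k : ℕ, orderOf x = p ^ k) : (∃ g : G, g * x * g⁻¹ ∈ D) ↔ ∃ u : G, (∃ z : G, Cfsg.IsPPart p u z ∧ IsConj x z) ∧ (χ : G → ℂ) u ≠ 0 := by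
  open Cfsg.Agent in
  constructor
  · rintro ⟨g, hg⟩
    obtain ⟨y, hy, P, rfl⟩ := hD
    set u := g * x * g⁻¹
    have huy : Commute u y := Subgroup.mem_centralizer_singleton_iff.mp (H35.sylImage_le P hg)
    obtain ⟨k, hk⟩ := hx
    have hu : orderOf u = p ^ k := by
      rw [← hk]
      exact (orderOf_injective (MulAut.conj g).toMonoidHom (MulAut.conj g).injective x)
    refine ⟨u * y, ⟨u, ⟨y, rfl, huy, ⟨k, hu⟩, H35.not_dvd_orderOf_of_isDefectClass hM hB hy⟩,
      isConj_iff.mpr ⟨g, rfl⟩⟩, fun hz => ?_⟩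
    exact H35.unit_value_mul hM hB hy ⟨k, hu⟩ huy hχ h0
      (hz ▸ BlockBasic.memLocalIdeal_zero hM)
  · rintro ⟨u, ⟨z, hz, hxz⟩, hne⟩
    by_contra hno
    push Not at hno
    refine hne (H35.apply_eq_zero_of_no_defectGroup hM χ u (fun E hE hzE => ?_))
    rw [BlockBasic.pPart_eq_of_isPPart hz] at hzE
    rw [← BlockBasic.isPBlock_eq_blockOf hM hB hχ] at hE
    obtain ⟨c, hc⟩ := H35.defectGroup_le_conj hM hB hD hE
    obtain ⟨d, hd, hde⟩ := hc hzE
    obtain ⟨a, rfl⟩ := isConj_iff.mp hxz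
    refine hno (c⁻¹ * a) ?_
    have : c * d * c⁻¹ = a * x * a⁻¹ := hde
    have e : c⁻¹ * a * x * (c⁻¹ * a)⁻¹ = d := by
      rw [show c⁻¹ * a * x * (c⁻¹ * a)⁻¹ = c⁻¹ * (a * x * a⁻¹) * c by group, ← this]; group
    rwa [e]

end Cfsg.Agent.S0926
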