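import Cfsg.Statements.S0941
import Cfsg.Agent.H35.Defect
import Cfsg.Agent.BlockBasic.Kernel
import Cfsg.Agent.CharInduce.Ops

set_option autoImplicit false
open Cfsg

namespace Cfsg.Agent.S0941
open Cfsg.Agent.BlockBasic
open scoped ComplexConjugate

universe u

variable {G : Type u} [Group G] [Finite G] {p : ℕ} [Fact p.Prime] {P : Subgroup G} [P.Normal]

theorem eq_one_of_regular (hP : IsPGroup p P) {t u : G} (ht : ¬ p ∣ orderOf t)
    (hu : u ∈ P) (hc : Commute u t) (htu : ¬ p ∣ orderOf (u * t)) : u = 1 := by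
  obtain ⟨k, hk⟩ := IsPGroup.iff_orderOf.1 hP ⟨u, hu⟩
  have h := pPart_mul_of (p := p) hc ⟨k, by rw [← hk, ← Subgroup.orderOf_coe]⟩ ht
  rw [(pPart_eq_one_iff _).2 htu] at h
  exact h.symm

theorem regular_commute (hC : ∃ k : ℕ, (Subgroup.centralizer (P : Set G)).index = p ^ k) {t u : G}
    (ht : ¬ p ∣ orderOf t) (hu : u ∈ P) : Commute u t :=
  Subgroup.mem_centralizer_iff.1 (mem_of_regular hC ht) u hu

theorem centralizer_map (hP : IsPGroup p P)
    (hC : ∃ k : ℕ, (Subgroup.centralizer (P : Set G)).index = p ^ k) {t : G}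
    (ht : ¬ p ∣ orderOf t) :
    (Subgroup.centralizer ({t} : Set G)).map (QuotientGroup.mk' P) =
      Subgroup.centralizer ({(t : G ⧸ P)} : Set (G ⧸ P)) := by
  ext y
  obtain ⟨y, rfl⟩ := QuotientGroup.mk'_surjective P y
  constructor
  · rintro ⟨z, hz, hzy⟩
    rw [← hzy]
    rw [Subgroup.mem_centralizer_singleton_iff]
    have := congrArg (QuotientGroup.mk' P) (Subgroup.mem_centralizer_singleton_iff.1 hz)
    rwa [map_mul, map_mul] at this
  · intro hy
    have h1 : (QuotientGroup.mk' P) (y * t) = (QuotientGroup.mk' P) (t * y) := by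
      rw [map_mul, map_mul]
      exact Subgroup.mem_centralizer_singleton_iff.1 hy
    set w := y * t * y⁻¹ * t⁻¹ with hw
    have hwP : w ∈ P := by
      rw [← QuotientGroup.ker_mk' P, MonoidHom.mem_ker, hw, map_mul, map_mul, map_inv, map_inv, h1,
        map_mul]
      group
    have hreg : ¬ p ∣ orderOf (w * t) := by
      rw [hw, inv_mul_cancel_right, show y * t * y⁻¹ = MulAut.conj y t from rfl, MulEquiv.orderOf_eq]
      exact ht
    have := eq_one_of_regular hP ht hwP (regular_commute hC ht hwP) hreg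
    refine ⟨y, Subgroup.mem_centralizer_singleton_iff.2 ?_, rfl⟩
    rwa [hw, mul_inv_eq_one, mul_inv_eq_iff_eq_mul] at this

theorem centralChar_infl (hP : IsPGroup p P)
    (hC : ∃ k : ℕ, (Subgroup.centralizer (P : Set G)).index = p ^ k) (χ : G ⧸ P → ℂ) {t : G}
    (ht : ¬ p ∣ orderOf t) :
    Cfsg.centralChar (χ ∘ QuotientGroup.mk) t = Cfsg.centralChar χ (t : G ⧸ P) := by
  have hle : (QuotientGroup.mk' P).ker ≤ Subgroup.centralizer ({t} : Set G) := by
    rw [QuotientGroup.ker_mk']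
    exact fun u hu => Subgroup.mem_centralizer_singleton_iff.2 (regular_commute hC ht hu).eq
  rw [Cfsg.centralChar, Cfsg.centralChar, ← centralizer_map hP hC ht,
    Subgroup.index_map_eq _ (QuotientGroup.mk'_surjective P) hle]
  rfl

theorem exists_regular_lift {y : G ⧸ P} (hy : ¬ p ∣ orderOf y) :
    ∃ t : G, ¬ p ∣ orderOf t ∧ (t : G ⧸ P) = y := by
  obtain ⟨g, rfl⟩ := QuotientGroup.mk'_surjective P y
  obtain ⟨t, he, hc, ⟨k, hk⟩, ht⟩ := isPPart_pPart (p := p) g
  refine ⟨t, ht, ?_⟩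
  have h2 := pPart_mul_of (p := p) (hc.map (QuotientGroup.mk' P))
    (by
      obtain ⟨j, -, hj⟩ := (Nat.dvd_prime_pow (Fact.out : p.Prime)).1
        (hk ▸ orderOf_map_dvd (QuotientGroup.mk' P) (pPart (p := p) g))
      exact ⟨j, hj⟩)
    (fun h => ht (h.trans (orderOf_map_dvd (QuotientGroup.mk' P) t)))
  rw [← map_mul, he, (pPart_eq_one_iff _).2 hy] at h2
  conv_rhs => rw [← he, map_mul, ← h2, one_mul]
  rfl

theorem sum_shift_eq_zero_or_trivial [Fintype P] {χ : G → ℂ} (hχ : Cfsg.IsIrrCharacter G χ) :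
    (∀ u ∈ P, χ u = χ 1) ∨ ∀ g : G, ∑ u : P, χ (g * u) = 0 := by
  classical
  obtain ⟨n, ρ, hρ, rfl⟩ := hχ
  set T : Module.End ℂ (Fin n → ℂ) := ∑ u : P, ρ (u : G) with hT
  have hleft : ∀ v : P, ρ (v : G) * T = T := by
    intro v
    rw [hT, Finset.mul_sum]
    exact Fintype.sum_equiv (Equiv.mulLeft v) _ _ fun u => by simp [map_mul]
  have hcomm : ∀ g, T * ρ g = ρ g * T := by
    intro g
    rw [hT, Finset.mul_sum, Finset.sum_mul]
    refine Fintype.sum_equiv ((MulAut.conjNormal g⁻¹ : MulAut P).toEquiv) _ _ fun u => ?_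
    rw [← map_mul, ← map_mul]
    congr 1
    simp [MulAut.conjNormal_apply, mul_assoc]
  obtain ⟨c, hc⟩ := CharBasic.schur_scalar ρ T hcomm
  by_cases hc0 : c = 0
  · right
    intro g
    have : ∑ u : P, ρ.character (g * u) = LinearMap.trace ℂ _ (ρ g * T) := by
      rw [hT, Finset.mul_sum, map_sum]
      simp [Representation.character, map_mul]
    rw [this, hc, hc0, zero_smul, mul_zero, map_zero]
  · left
    intro u hu
    have h1 := hleft ⟨u, hu⟩
    rw [hc, mul_smul_comm] at h1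
    have h2 : ρ u * LinearMap.id = LinearMap.id := smul_right_injective _ hc0 h1
    simp only [Representation.character, map_one]
    rw [show ρ u = ρ u * LinearMap.id from (mul_one (ρ u)).symm, h2]
    rfl

theorem exists_inflated {M : Ideal Cfsg.AlgInt} (hM : Cfsg.IsPModular p M) (hP : IsPGroup p P)
    (hC : ∃ k : ℕ, (Subgroup.centralizer (P : Set G)).index = p ^ k)
    {B : Set (Cfsg.IrrCharacter G)} (hB : Cfsg.IsPBlock M B) :
    ∃ θ ∈ B, ∀ u ∈ P, (θ : G → ℂ) u = (θ : G → ℂ) 1 := by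
  classical
  cases nonempty_fintype G
  by_contra hno
  obtain ⟨g, hg⟩ := exists_isDefectClass hM hB
  have hreg := H35.not_dvd_orderOf_of_isDefectClass hM hB hg
  have hzero : ∑ u : P, Cfsg.blockCoeff B (g * u) = 0 := by
    simp only [Cfsg.blockCoeff, finsum_mem_eq_sum_ite, ← Finset.mul_sum]
    rw [Finset.sum_comm, Finset.sum_eq_zero, mul_zero]
    intro χ _
    by_cases hχ : χ ∈ B
    · simp only [if_pos hχ]
      rw [← Finset.mul_sum, ← map_sum,
        ((sum_shift_eq_zero_or_trivial χ.2).resolve_left (fun h => hno ⟨χ, hχ, h⟩)) g, map_zero,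
        mul_zero]
    · simp [if_neg hχ]
  rw [Finset.sum_eq_single (1 : P)] at hzero
  · apply hg.2.1
    rw [OneMemClass.coe_one, mul_one] at hzero
    rw [hzero]
    exact memLocalIdeal_zero hM
  · intro u _ hu
    by_contra hne
    apply hu
    have hc := regular_commute hC hreg u.2
    refine Subtype.ext (eq_one_of_regular hP hreg u.2 hc fun h => hne ?_)
    rw [← hc.eq]
    exact blockCoeff_eq_zero_of_singular hM hB h
  · exact fun h => absurd (Finset.mem_univ _) h


/-- Let P be a normal p-subgroup of the finite group G such that the index of C_G(P) is a power of p, and fix a maximal ideal M of the algebraic integers containing p. Then (i) two irreducible characters of G ⧸ P lie in the same block if and only if their inflations to G do, and (ii) every block of G contains the inflation of some irreducible character of G ⧸ P; so inflation induces a bijection between the blocks of G ⧸ P and the blocks of G. -/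
theorem result {G : Type*} [Group G] [Finite G] (p : ℕ) [Fact p.Prime] (M : Ideal Cfsg.AlgInt) (hM : Cfsg.IsPModular p M) (P : Subgroup G) [P.Normal] (hP : IsPGroup p P) (hC : ∃ k : ℕ, (Subgroup.centralizer (P : Set G)).index = p ^ k) : (∀ χ ψ : Cfsg.IrrCharacter (G ⧸ P), Cfsg.SameBlock M (χ : G ⧸ P → ℂ) (ψ : G ⧸ P → ℂ) ↔ Cfsg.SameBlock M ((χ : G ⧸ P → ℂ) ∘ QuotientGroup.mk) ((ψ : G ⧸ P → ℂ) ∘ QuotientGroup.mk)) ∧ ∀ B : Set (Cfsg.IrrCharacter G), Cfsg.IsPBlock M B → ∃ χ : Cfsg.IrrCharacter (G ⧸ P), ∃ θ ∈ B, (θ : G → ℂ) = (χ : G ⧸ P → ℂ) ∘ QuotientGroup.mk := by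

  classical
  refine ⟨fun χ ψ => ⟨fun h => ?_, fun h => ?_⟩, fun B hB => ?_⟩
  · exact sameBlock_of_congr_regular (χ := ⟨_, CharInduce.IsIrr.comp χ.2 (QuotientGroup.mk' P)
      (QuotientGroup.mk'_surjective P)⟩) (ψ := ⟨_, CharInduce.IsIrr.comp ψ.2 (QuotientGroup.mk' P)
      (QuotientGroup.mk'_surjective P)⟩) hM fun t ht => by
        have := h (t : G ⧸ P)
        rwa [← centralChar_infl hP hC _ ht, ← centralChar_infl hP hC _ ht] at this
  · refine sameBlock_of_congr_regular hM fun y hy => ?_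
    obtain ⟨t, ht, rfl⟩ := exists_regular_lift hy
    rw [← centralChar_infl hP hC _ ht, ← centralChar_infl hP hC _ ht]
    exact h t
  · obtain ⟨θ, hθ, htriv⟩ := exists_inflated hM hP hC hB
    obtain ⟨ψ, -, hψ, hψi⟩ :=
      CharInduce.IsChar.exists_deflate (CharBasic.IsIrr.isCharacter θ.2) P htriv
    exact ⟨⟨ψ, hψi θ.2⟩, θ, hθ, funext hψ⟩

end Cfsg.Agent.S0941
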