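import Cfsg.Statements.S0943
import Cfsg.Agent.BlockBasic.Center
import Cfsg.Agent.H35.BrauerHom

set_option autoImplicit false
open Cfsg

namespace Cfsg.Agent.S0943

/-- Let χ be an irreducible character of the finite group G and u, v ∈ G. If χ (x * y) = χ (u * v) whenever x is conjugate to u and y is conjugate to v, then χ u * χ v = χ 1 * χ (u * v). (Multiply the class sums of u and v and apply the central character of χ.) -/
theorem result {G : Type*} [Group G] [Finite G] (χ : Cfsg.IrrCharacter G) (u v : G) (hc : ∀ x y : G, IsConj u x → IsConj v y → (χ : G → ℂ) (x * y) = (χ : G → ℂ) (u * v)) : (χ : G → ℂ) u * (χ : G → ℂ) v = (χ : G → ℂ) 1 * (χ : G → ℂ) (u * v) := by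
  classical
  cases nonempty_fintype G
  have hcf : Cfsg.IsClassFunction G (χ : G → ℂ) := CharBasic.IsIrr.isClassFunction χ.2
  have h := BlockBasic.omega_mul χ.2 (BlockBasic.isCentralElt_classSum u)
    (w := BlockBasic.classSum v)
  rw [BlockBasic.omega_classSum hcf, BlockBasic.omega_classSum hcf] at h
  have hl : BlockBasic.chiLin (χ : G → ℂ) (BlockBasic.classSum u * BlockBasic.classSum v) =
      ((Subgroup.centralizer ({u} : Set G)).index : ℂ) *
        ((Subgroup.centralizer ({v} : Set G)).index : ℂ) * (χ : G → ℂ) (u * v) := by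
    rw [BlockBasic.chiLin]
    simp only [H35.coeff_mul_sum, Finset.sum_mul]
    rw [Finset.sum_comm]
    rw [← BlockBasic.card_class u, ← BlockBasic.card_class v]
    have : ∀ x : G, ∑ z : G, (BlockBasic.classSum u).coeff x *
        (BlockBasic.classSum v).coeff (x⁻¹ * z) * (χ : G → ℂ) z =
        if IsConj u x then ((Finset.univ.filter fun h => IsConj v h).card : ℂ) *
          (χ : G → ℂ) (u * v) else 0 := by
      intro x
      rw [← Equiv.sum_comp (Equiv.mulLeft x)]
      simp only [Equiv.coe_mulLeft, inv_mul_cancel_left, BlockBasic.classSum,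
        BlockBasic.coeff_ofFun]
      split_ifs with hx
      · rw [Finset.natCast_card_filter, Finset.sum_mul]
        refine Finset.sum_congr rfl fun y _ => ?_
        split_ifs with hy
        · rw [one_mul, hc x y hx hy]
        · simp
      · simp
    rw [Finset.sum_congr rfl (fun x _ => this x), ← Finset.sum_filter, Finset.sum_const,
      nsmul_eq_mul, mul_assoc]
  rw [BlockBasic.omega, hl, Cfsg.centralChar, Cfsg.centralChar] at h
  have h1 : (χ : G → ℂ) 1 ≠ 0 := BlockBasic.irr_one_ne_zero χ.2
  have hu : ((Subgroup.centralizer ({u} : Set G)).index : ℂ) ≠ 0 := by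
    exact_mod_cast Subgroup.index_ne_zero_of_finite
  have hv : ((Subgroup.centralizer ({v} : Set G)).index : ℂ) ≠ 0 := by
    exact_mod_cast Subgroup.index_ne_zero_of_finite
  field_simp at h
  linear_combination -h

end Cfsg.Agent.S0943
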