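import Cfsg.Statements.S0945
import Cfsg.Agent.Fusion.Complements

set_option autoImplicit false
open Cfsg

namespace Cfsg.Agent.S0945
variable {G : Type*} [Group G] [Finite G]

theorem mem_of_two_element (P : Sylow 2 G) {x : G} (hx : x ∈ Subgroup.normalizer (P : Set G))
    {a : ℕ} (h : x ^ 2 ^ a = 1) : x ∈ (P : Subgroup G) := by
  haveI : Fact (Nat.Prime 2) := ⟨Nat.prime_two⟩
  obtain ⟨k, -, hk⟩ := (Nat.dvd_prime_pow Nat.prime_two).1 (orderOf_dvd_of_pow_eq_one h)
  have hp : IsPGroup 2 (Subgroup.zpowers x) :=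
    IsPGroup.of_card (by rw [Nat.card_zpowers, hk])
  exact (P.is_maximal' (hp.to_sup_of_normal_right' P.isPGroup' (Subgroup.zpowers_le.2 hx))
    le_sup_right).le (le_sup_left (α := Subgroup G) (Subgroup.mem_zpowers x))

theorem card_involutions_le (P : Sylow 2 G) (m : ℕ) (hm : 1 ≤ m)
    (e : (P : Subgroup G) ≃* Multiplicative (ZMod (2 ^ m) × ZMod (2 ^ m))) :
    Nat.card {x : G // x ∈ (P : Subgroup G) ∧ x ^ 2 = 1 ∧ x ≠ 1} ≤ 3 := by
  classical
  let T := {x : (P : Subgroup G) // x ^ 2 = 1}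
  let κ : T → Bool × Bool := fun x =>
    (decide ((Multiplicative.toAdd (e x.1)).1 = 0), decide ((Multiplicative.toAdd (e x.1)).2 = 0))
  haveI : NeZero (2 ^ m) := ⟨by positivity⟩
  have hz : ∀ u v : ZMod (2 ^ m), u + u = 0 → v + v = 0 → (u = 0 ↔ v = 0) → u = v := by
    intro u v hu hv huv
    rcases (ZMod.neg_eq_self_iff u).mp (neg_eq_of_add_eq_zero_left hu) with h5 | h5
    · rw [h5, huv.mp h5]
    rcases (ZMod.neg_eq_self_iff v).mp (neg_eq_of_add_eq_zero_left hv) with h6 | h6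
    · rw [h6, huv.mpr h6]
    · exact ZMod.val_injective _ (by omega)
  have hh : ∀ x : T, (Multiplicative.toAdd (e x.1)).1 + (Multiplicative.toAdd (e x.1)).1 = 0 ∧
      (Multiplicative.toAdd (e x.1)).2 + (Multiplicative.toAdd (e x.1)).2 = 0 := by
    intro x
    have h5 : e x.1 * e x.1 = 1 := by rw [← map_mul, ← sq, x.2, map_one]
    have h6 := congrArg Multiplicative.toAdd h5
    exact ⟨congrArg Prod.fst h6, congrArg Prod.snd h6⟩
  have hκ : Function.Injective κ := by
    intro x y hxy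
    simp only [κ, Prod.mk.injEq, decide_eq_decide] at hxy
    exact Subtype.ext (e.injective (congrArg Multiplicative.ofAdd
      (Prod.ext (hz _ _ (hh x).1 (hh y).1 hxy.1) (hz _ _ (hh x).2 (hh y).2 hxy.2))))
  have hκ0 : κ ⟨1, one_pow 2⟩ = (true, true) := by simp [κ]
  let f : {x : G // x ∈ (P : Subgroup G) ∧ x ^ 2 = 1 ∧ x ≠ 1} → {b : Bool × Bool // b ≠ (true, true)} :=
    fun x => ⟨κ ⟨⟨x.1, x.2.1⟩, Subtype.ext x.2.2.1⟩, fun h => x.2.2.2
      (congrArg (fun y : T => ((y.1 : (P : Subgroup G)) : G)) (hκ (h.trans hκ0.symm)))⟩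
  refine (Nat.card_le_card_of_injective f fun x y h => Subtype.ext
    (congrArg (fun y : T => ((y.1 : (P : Subgroup G)) : G)) (hκ (congrArg Subtype.val h)))).trans ?_
  rw [Nat.card_eq_fintype_card]
  decide

theorem main (P : Sylow 2 G)
    (habel : ∀ a ∈ (P : Subgroup G), ∀ b ∈ (P : Subgroup G), a * b = b * a)
    (hcard : Nat.card {x : G // x ∈ (P : Subgroup G) ∧ x ^ 2 = 1 ∧ x ≠ 1} ≤ 3)
    {g u : G} (hg : g ∈ Subgroup.normalizer (P : Set G)) (hu : u ∈ (P : Subgroup G))
    (hu2 : u ^ 2 = 1) (hu1 : u ≠ 1) (hgu : g * u = u * g) :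
    g ∈ Subgroup.centralizer (P : Set G) := by
  classical
  cases nonempty_fintype G
  haveI : Fact (Nat.Prime 2) := ⟨Nat.prime_two⟩
  haveI hab : IsMulCommutative (P : Subgroup G) :=
    ⟨⟨fun a b => Subtype.ext (habel a a.2 b b.2)⟩⟩
  obtain ⟨a, d, hd, hord⟩ := Nat.exists_eq_pow_mul_and_not_dvd (orderOf_pos g).ne' 2 (by norm_num)
  have hco : Nat.Coprime (2 ^ a) d := ((Nat.prime_two.coprime_iff_not_dvd).2 hd).pow_left _
  -- the `2`-part
  have h2 : g ^ d ∈ Subgroup.centralizer (P : Set G) := by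
    have : g ^ d ∈ (P : Subgroup G) := mem_of_two_element P (pow_mem hg d) (a := a)
      (by rw [← pow_mul, mul_comm, ← hord, pow_orderOf_eq_one])
    exact Subgroup.mem_centralizer_iff.2 fun q hq => habel q hq _ this
  -- the odd part
  set h := g ^ (2 ^ a) with hh
  have hhN : h ∈ Subgroup.normalizer (P : Set G) := pow_mem hg _
  have hhd : h ^ d = 1 := by rw [hh, ← pow_mul, ← hord, pow_orderOf_eq_one]
  have hhodd : (orderOf h).Coprime 2 :=
    Nat.Coprime.coprime_dvd_left (orderOf_dvd_of_pow_eq_one hhd)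
      ((Nat.prime_two.coprime_iff_not_dvd).2 hd).symm
  have hhu : Commute h u := Commute.pow_left hgu _
  have h1 : h ∈ Subgroup.centralizer (P : Set G) := by
    refine Fusion.mem_centralizer_of_fix_abelian P.isPGroup' hhN hhodd fun x hx hx2 => ?_
    by_cases hx1 : x = 1
    · simp [hx1]
    by_cases hxu : x = u
    · rw [hxu, hhu.eq, mul_inv_cancel_right]
    set y := h * x * h⁻¹ with hy
    set z := h * y * h⁻¹ with hz
    by_contra hne
    have hzx : z ≠ x := by
      intro e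
      have hc : Commute (h ^ 2) x := by
        refine mul_inv_eq_iff_eq_mul.mp ?_
        calc h ^ 2 * x * (h ^ 2)⁻¹ = z := by rw [hz, hy, sq]; group
          _ = x := e
      obtain ⟨k, hk⟩ : Odd (orderOf h) := Nat.coprime_two_right.mp hhodd
      have h4 := hc.pow_left (k + 1)
      rw [← pow_mul, show 2 * (k + 1) = orderOf h + 1 by omega, pow_succ, pow_orderOf_eq_one,
        one_mul] at h4
      exact hne (mul_inv_eq_iff_eq_mul.mpr h4.eq)
    have hyz : z ≠ y := fun e => hne (mul_left_cancel (mul_right_cancel e))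
    have hfix : h * u * h⁻¹ = u := by rw [hhu.eq, mul_inv_cancel_right]
    have hyu : y ≠ u := fun e => hxu (mul_left_cancel (mul_right_cancel (e.trans hfix.symm)))
    have hzu : z ≠ u := fun e => hyu (mul_left_cancel (mul_right_cancel (e.trans hfix.symm)))
    have hP : ∀ w : G, w ∈ (P : Subgroup G) → w ^ 2 = 1 → w ≠ 1 →
        h * w * h⁻¹ ∈ (P : Subgroup G) ∧ (h * w * h⁻¹) ^ 2 = 1 ∧ h * w * h⁻¹ ≠ 1 :=
      fun w hw hw2 hw1 => ⟨(Subgroup.mem_normalizer_iff.mp hhN w).mp hw,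
        by rw [conj_pow, hw2, mul_one, mul_inv_cancel], fun e => hw1 (conj_eq_one_iff.mp e)⟩
    obtain ⟨hyP, hy2, hy1⟩ := hP x hx hx2 hx1
    obtain ⟨hzP, hz2, hz1⟩ := hP y hyP hy2 hy1
    let S : Finset {w : G // w ∈ (P : Subgroup G) ∧ w ^ 2 = 1 ∧ w ≠ 1} :=
      {⟨u, hu, hu2, hu1⟩, ⟨x, hx, hx2, hx1⟩, ⟨y, hyP, hy2, hy1⟩, ⟨z, hzP, hz2, hz1⟩}
    have hS : S.card = 4 := by
      have hux : u ≠ x := Ne.symm hxu
      have hxy : x ≠ y := fun e => hne e.symm
      simp only [S]
      rw [Finset.card_insert_of_notMem (by simp [hux, hyu.symm, hzu.symm]),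
        Finset.card_insert_of_notMem (by simp [hxy, hzx.symm]),
        Finset.card_insert_of_notMem (by simp [hyz.symm]), Finset.card_singleton]
    have := S.card_le_univ
    rw [hS, ← Nat.card_eq_fintype_card] at this
    omega
  obtain ⟨s, t, hst⟩ : ∃ s t : ℤ, (1 : ℤ) = (2 ^ a : ℕ) * s + (d : ℕ) * t :=
    ⟨_, _, by rw [← Nat.gcd_eq_gcd_ab, hco.gcd_eq_one]; rfl⟩
  rw [show g = h ^ s * (g ^ d) ^ t by
    rw [hh, ← zpow_natCast g (2 ^ a), ← zpow_natCast g d, ← zpow_mul, ← zpow_mul, ← zpow_add, ← hst,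
      zpow_one]]
  exact mul_mem (zpow_mem h1 s) (zpow_mem h2 t)


/-- Let P be a Sylow 2-subgroup of the finite group G isomorphic to Z/2^m × Z/2^m with m ≥ 1. Then (i) the index of C_G(P) in N_G(P) is 1 or 3, and (ii) if it is not 1, then for every z ≠ 1 in P, C_G(z) ∩ N_G(P) = C_G(P). -/
theorem result {G : Type*} [Group G] [Finite G] (P : Sylow 2 G) (m : ℕ) (hm : 1 ≤ m) (e : (P : Subgroup G) ≃* Multiplicative (ZMod (2 ^ m) × ZMod (2 ^ m))) : ((Subgroup.centralizer (P : Set G)).relIndex (Subgroup.normalizer (P : Set G)) = 1 ∨ (Subgroup.centralizer (P : Set G)).relIndex (Subgroup.normalizer (P : Set G)) = 3) ∧ ((Subgroup.centralizer (P : Set G)).relIndex (Subgroup.normalizer (P : Set G)) ≠ 1 → ∀ z ∈ (P : Subgroup G), z ≠ 1 → Subgroup.centralizer ({z} : Set G) ⊓ Subgroup.normalizer (P : Set G) = Subgroup.centralizer (P : Set G)) := by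

  classical
  haveI : Fact (Nat.Prime 2) := ⟨Nat.prime_two⟩
  cases nonempty_fintype G
  have habel : ∀ a ∈ (P : Subgroup G), ∀ b ∈ (P : Subgroup G), a * b = b * a := fun a ha b hb =>
    congrArg Subtype.val (e.injective (by rw [map_mul, map_mul, mul_comm]) :
      (⟨a, ha⟩ * ⟨b, hb⟩ : (P : Subgroup G)) = ⟨b, hb⟩ * ⟨a, ha⟩)
  have hcard := card_involutions_le P m hm e
  set C := Subgroup.centralizer (P : Set G) with hC
  set N := Subgroup.normalizer (P : Set G) with hN
  have hfix : ∀ z ∈ (P : Subgroup G), z ≠ 1 → Subgroup.centralizer ({z} : Set G) ⊓ N = C := by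
    intro z hz hz1
    refine le_antisymm (fun g hg => ?_) (le_inf
      (Subgroup.centralizer_le (Set.singleton_subset_iff.2 hz)) ?_)
    · obtain ⟨k, hk⟩ := IsPGroup.iff_orderOf.1 P.isPGroup' ⟨z, hz⟩
      rw [← Subgroup.orderOf_coe] at hk
      simp only at hk
      rcases k with _ | k
      · exact absurd (orderOf_eq_one_iff.1 (by rwa [pow_zero] at hk)) hz1
      refine main P habel hcard hg.2 (pow_mem hz (2 ^ k)) ?_ ?_ ?_
      · rw [← pow_mul, ← pow_succ, ← hk, pow_orderOf_eq_one]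
      · intro h
        have := Nat.le_of_dvd (by positivity) (orderOf_dvd_of_pow_eq_one h)
        rw [hk, pow_succ] at this
        have : 0 < 2 ^ k := by positivity
        omega
      · exact (Commute.pow_right (Subgroup.mem_centralizer_singleton_iff.1 hg.1 : Commute g z) _).eq
    · intro c hc
      show c ∈ Subgroup.normalizer ((P : Subgroup G) : Set G)
      rw [Subgroup.mem_normalizer_iff]
      intro q
      constructor
      · intro hq
        rwa [← Subgroup.mem_centralizer_iff.1 hc q hq, mul_inv_cancel_right]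
      · intro hq
        have h2 := Subgroup.mem_centralizer_iff.1 hc _ hq
        have : c * q * c⁻¹ = q := by
          apply mul_left_cancel (a := c)
          rw [← h2]
          group
        rwa [this] at hq
  refine ⟨?_, fun _ => hfix⟩
  -- an involution
  obtain ⟨u, hu⟩ : ∃ u : (P : Subgroup G), orderOf u = 2 := by
    apply exists_prime_orderOf_dvd_card' 2
    rw [Nat.card_congr e.toEquiv, Nat.card_congr Multiplicative.toAdd, Nat.card_prod, Nat.card_zmod]
    exact Dvd.dvd.mul_left (dvd_pow_self 2 (by omega)) _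
  rw [← Subgroup.orderOf_coe] at hu
  have hu2 : (u : G) ^ 2 = 1 := by simpa [hu] using pow_orderOf_eq_one (u : G)
  have hu1 : (u : G) ≠ 1 := fun h => by rw [h, orderOf_one] at hu; omega
  let _ : SMul N {x : G // x ∈ (P : Subgroup G) ∧ x ^ 2 = 1 ∧ x ≠ 1} := ⟨fun n x =>
    ⟨(n : G) * x.1 * (n : G)⁻¹, (Subgroup.mem_normalizer_iff.mp n.2 x.1).mp x.2.1,
      by rw [conj_pow, x.2.2.1, mul_one, mul_inv_cancel],
      fun e => x.2.2.2 (conj_eq_one_iff.mp e)⟩⟩
  let _ : MulAction N {x : G // x ∈ (P : Subgroup G) ∧ x ^ 2 = 1 ∧ x ≠ 1} :=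
    { one_smul := fun x => Subtype.ext (by
        show ((1 : N) : G) * x.1 * ((1 : N) : G)⁻¹ = x.1
        simp)
      mul_smul := fun a b x => Subtype.ext (by
        show ((a * b : N) : G) * x.1 * ((a * b : N) : G)⁻¹ =
          (a : G) * ((b : G) * x.1 * (b : G)⁻¹) * (a : G)⁻¹
        push_cast
        group) }
  let uT : {x : G // x ∈ (P : Subgroup G) ∧ x ^ 2 = 1 ∧ x ≠ 1} := ⟨u, u.2, hu2, hu1⟩
  have hstab : C.subgroupOf N = MulAction.stabilizer N uT := by
    ext n
    rw [Subgroup.mem_subgroupOf, MulAction.mem_stabilizer_iff, ← hfix u u.2 hu1, Subtype.ext_iff]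
    show _ ↔ (n : G) * u * (n : G)⁻¹ = u
    rw [mul_inv_eq_iff_eq_mul]
    exact ⟨fun h => Subgroup.mem_centralizer_singleton_iff.1 h.1,
      fun h => ⟨Subgroup.mem_centralizer_singleton_iff.2 h, n.2⟩⟩
  have hle : C.relIndex N ≤ 3 := by
    rw [Subgroup.relIndex, hstab, MulAction.index_stabilizer]
    refine le_trans ?_ hcard
    rw [Set.ncard_eq_toFinset_card', Nat.card_eq_fintype_card]
    exact Finset.card_le_univ _
  have hPC : (P : Subgroup G) ≤ C := fun x hx =>
    Subgroup.mem_centralizer_iff.2 fun q hq => habel q hq x hx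
  have hodd : ¬ 2 ∣ C.relIndex N := fun h => P.not_dvd_index
    ((h.trans (Subgroup.relIndex_dvd_of_le_left N hPC)).trans
      ⟨_, (Subgroup.relIndex_mul_index (Subgroup.le_normalizer (H := (P : Subgroup G)))).symm⟩)
  omega

end Cfsg.Agent.S0945
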