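import Cfsg.Statements.S0946
import Cfsg.Agent.Fusion.Complements

set_option autoImplicit false
open Cfsg

namespace Cfsg.Agent.S0946

/-- Let P be a Sylow 2-subgroup of the finite group G isomorphic to Z/2^m × Z/2^m with m ≥ 1. Then either P has a normal complement in G, or all involutions of G are conjugate. -/
theorem result {G : Type*} [Group G] [Finite G] (P : Sylow 2 G) (m : ℕ) (hm : 1 ≤ m) (e : (P : Subgroup G) ≃* Multiplicative (ZMod (2 ^ m) × ZMod (2 ^ m))) : (∃ N : Subgroup G, N.Normal ∧ Subgroup.IsComplement' N (P : Subgroup G)) ∨ ∀ s t : G, orderOf s = 2 → orderOf t = 2 → IsConj s t := by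
  haveI : Fact (Nat.Prime 2) := ⟨Nat.prime_two⟩
  haveI hab : IsMulCommutative (P : Subgroup G) :=
    ⟨⟨fun a b => e.injective (by rw [map_mul, map_mul, mul_comm])⟩⟩
  by_cases hall : ∀ g ∈ Subgroup.normalizer (P : Set G), (orderOf g).Coprime 2 →
      ∀ x ∈ (P : Subgroup G), x ^ 2 = 1 → g * x * g⁻¹ = x
  · left
    exact (Fusion.hasNormalPComplement_iff_exists P).mp
      (Fusion.hasNormalPComplement_of_abelian P fun g hg hgp =>
        Fusion.mem_centralizer_of_fix_abelian P.isPGroup' hg hgp (hall g hg hgp))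
  right
  simp only [not_forall] at hall
  obtain ⟨g, hg, hgp, a, haP, ha2, hne⟩ := hall
  set b := g * a * g⁻¹ with hb
  set c := g * b * g⁻¹ with hc
  have hbP : b ∈ (P : Subgroup G) := (Subgroup.mem_normalizer_iff.mp hg a).mp haP
  have hcP : c ∈ (P : Subgroup G) := (Subgroup.mem_normalizer_iff.mp hg b).mp hbP
  have hb2 : b ^ 2 = 1 := by rw [hb, conj_pow, ha2, mul_one, mul_inv_cancel]
  have hc2 : c ^ 2 = 1 := by rw [hc, conj_pow, hb2, mul_one, mul_inv_cancel]
  have ha1 : a ≠ 1 := fun h1 => hne (by rw [hb, h1, mul_one, mul_inv_cancel])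
  have hb1 : b ≠ 1 := fun h1 => ha1 (conj_eq_one_iff.mp h1)
  have hc1 : c ≠ 1 := fun h1 => hb1 (conj_eq_one_iff.mp h1)
  have hcb : c ≠ b := fun h1 => hne (mul_left_cancel (mul_right_cancel h1))
  have hca : c ≠ a := by
    intro h1
    have h2 : Commute (g ^ 2) a := by
      refine mul_inv_eq_iff_eq_mul.mp ?_
      calc g ^ 2 * a * (g ^ 2)⁻¹ = c := by rw [hc, hb, sq]; group
        _ = a := h1
    obtain ⟨k, hk⟩ : Odd (orderOf g) := Nat.coprime_two_right.mp hgp
    have h4 := h2.pow_left (k + 1)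
    rw [← pow_mul, show 2 * (k + 1) = orderOf g + 1 by omega, pow_succ, pow_orderOf_eq_one,
      one_mul] at h4
    exact hne (mul_inv_eq_iff_eq_mul.mpr h4.eq)
  -- the elements of `P` of order at most two
  have hle : ∀ s ∈ (P : Subgroup G), s ^ 2 = 1 → s = 1 ∨ s = a ∨ s = b ∨ s = c := by
    intro s hs hs2
    by_contra hcon
    simp only [not_or] at hcon
    let T := {x : (P : Subgroup G) // x ^ 2 = 1}
    let κ : T → Bool × Bool := fun x =>
      (decide ((Multiplicative.toAdd (e x.1)).1 = 0), decide ((Multiplicative.toAdd (e x.1)).2 = 0))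
    haveI : NeZero (2 ^ m) := ⟨by positivity⟩
    have hz : ∀ u v : ZMod (2 ^ m), u + u = 0 → v + v = 0 → (u = 0 ↔ v = 0) → u = v := by
      intro u v hu hv huv
      rcases (ZMod.neg_eq_self_iff u).mp (neg_eq_of_add_eq_zero_left hu) with h5 | h5
      · rw [h5, huv.mp h5]
      rcases (ZMod.neg_eq_self_iff v).mp (neg_eq_of_add_eq_zero_left hv) with h6 | h6
      · rw [h6, huv.mpr h6]
      · exact ZMod.val_injective _ (by omega)
    have hκ : Function.Injective κ := by
      intro x y hxy
      have hh : ∀ x : T, (Multiplicative.toAdd (e x.1)).1 + (Multiplicative.toAdd (e x.1)).1 = 0 ∧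
          (Multiplicative.toAdd (e x.1)).2 + (Multiplicative.toAdd (e x.1)).2 = 0 := by
        intro x
        have h5 : e x.1 * e x.1 = 1 := by rw [← map_mul, ← sq, x.2, map_one]
        have h6 := congrArg Multiplicative.toAdd h5
        exact ⟨congrArg Prod.fst h6, congrArg Prod.snd h6⟩
      simp only [κ, Prod.mk.injEq, decide_eq_decide] at hxy
      exact Subtype.ext (e.injective (congrArg Multiplicative.ofAdd
        (Prod.ext (hz _ _ (hh x).1 (hh y).1 hxy.1) (hz _ _ (hh x).2 (hh y).2 hxy.2))))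
    let mkT : ∀ x ∈ (P : Subgroup G), x ^ 2 = 1 → T := fun x hx hx2 => ⟨⟨x, hx⟩, Subtype.ext hx2⟩
    have := Fintype.card_le_of_injective
      (fun i : Fin 5 => κ (![mkT 1 (one_mem _) (one_pow 2), mkT a haP ha2, mkT b hbP hb2,
        mkT c hcP hc2, mkT s hs hs2] i)) (by
        refine hκ.comp fun i j hij => ?_
        have h7 := congrArg (fun x : T => ((x.1 : (P : Subgroup G)) : G)) hij
        obtain ⟨hs1, hsa, hsb, hsc⟩ := hcon
        fin_cases i <;> fin_cases j <;>
          first
          | rfl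
          | (exfalso; simp only [mkT] at h7;
             first
             | exact ha1 h7 | exact ha1 h7.symm | exact hb1 h7 | exact hb1 h7.symm
             | exact hc1 h7 | exact hc1 h7.symm | exact hs1 h7 | exact hs1 h7.symm
             | exact hne h7 | exact hne h7.symm | exact hca h7 | exact hca h7.symm
             | exact hcb h7 | exact hcb h7.symm | exact hsa h7 | exact hsa h7.symm
             | exact hsb h7 | exact hsb h7.symm | exact hsc h7 | exact hsc h7.symm))
    simp at this
  have hconj : ∀ s : G, orderOf s = 2 → IsConj a s := by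
    intro s hs
    have hs2 : s ^ 2 = 1 := hs ▸ pow_orderOf_eq_one s
    obtain ⟨Q, hQ⟩ := (IsPGroup.of_card_dvd_pow (G := Subgroup.zpowers s) (p := 2) (n := 1)
      (by rw [Nat.card_zpowers, hs, pow_one])).exists_le_sylow
    obtain ⟨x, hx⟩ := MulAction.exists_smul_eq G Q P
    have hsP : x * s * x⁻¹ ∈ (P : Subgroup G) := by
      rw [← hx]
      change x * s * x⁻¹ ∈ (x • Q : Sylow 2 G)
      rw [Fusion.mem_sylow_smul]
      have h0 : s ∈ (Q : Subgroup G) := hQ (Subgroup.mem_zpowers s)
      rw [show x⁻¹ * (x * s * x⁻¹) * x = s by group]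
      exact h0
    have hne1 : x * s * x⁻¹ ≠ 1 := fun h1 => by
      rw [conj_eq_one_iff.mp h1, orderOf_one] at hs; omega
    refine IsConj.trans ?_ (isConj_iff.mpr ⟨x, rfl⟩ : IsConj s (x * s * x⁻¹)).symm
    rcases hle _ hsP (by rw [conj_pow, hs2, mul_one, mul_inv_cancel]) with h5 | h5 | h5 | h5
    · exact absurd h5 hne1
    · rw [h5]
    · rw [h5]; exact isConj_iff.mpr ⟨g, rfl⟩
    · rw [h5]; exact isConj_iff.mpr ⟨g * g, by rw [hc, hb]; group⟩
  exact fun s t hs ht => (hconj s hs).symm.trans (hconj t ht)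

end Cfsg.Agent.S0946
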