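import Cfsg.Statements.S0950
import Cfsg.Agent.Fusion.Frobenius
-- import your own Cfsg.Agent.* helpers here

set_option autoImplicit false
open Cfsg

namespace Cfsg.Agent.S0950

open Subgroup

/-- Facts about the quaternion group of order 8. -/
theorem quat_pow_four (y : QuaternionGroup 2) : y ^ 4 = 1 := by revert y; decide

theorem quat_sq_one (y : QuaternionGroup 2) : y ^ 2 = 1 → y = 1 ∨ y = QuaternionGroup.a 2 := by
  revert y; decide

theorem quat_cases (y : QuaternionGroup 2) : y ^ 2 ≠ 1 →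
    ∃ c ∈ ([QuaternionGroup.a 1, QuaternionGroup.xa 0, QuaternionGroup.xa 1] : List _),
      c = y ∨ c = y ^ 3 := by
  revert y; decide

section
variable {G : Type*} [Group G] [Finite G] (S : Sylow 2 G)
  (e : (S : Subgroup G) ≃* QuaternionGroup 2)

include e

theorem pow_four {y : G} (hy : y ∈ (S : Subgroup G)) : y ^ 4 = 1 := by
  have : (⟨y, hy⟩ : (S : Subgroup G)) ^ 4 = 1 := e.injective (by
    rw [map_pow, quat_pow_four, map_one])
  exact congrArg Subtype.val this

theorem sq_one {y y' : G} (hy : y ∈ (S : Subgroup G)) (hy' : y' ∈ (S : Subgroup G))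
    (h : y ^ 2 = 1) (h' : y' ^ 2 = 1) (hne : y ≠ 1) (hne' : y' ≠ 1) : y = y' := by
  have key : ∀ z : G, ∀ hz : z ∈ (S : Subgroup G), z ^ 2 = 1 → z ≠ 1 →
      e ⟨z, hz⟩ = QuaternionGroup.a 2 := by
    intro z hz hz2 hz1
    refine (quat_sq_one _ ?_).resolve_left fun h1 => hz1 ?_
    · rw [← map_pow, show (⟨z, hz⟩ : (S : Subgroup G)) ^ 2 = 1 from Subtype.ext hz2, map_one]
    · exact congrArg Subtype.val (e.injective (h1.trans (map_one e).symm))
  exact congrArg Subtype.val (e.injective ((key y hy h hne).trans (key y' hy' h' hne').symm))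

theorem exists_gen {A : Subgroup G} (hA : A ≤ S) (hA4 : Nat.card A = 4) :
    ∃ y ∈ A, y ^ 2 ≠ 1 ∧ zpowers y = A := by
  classical
  have hex : ∃ y ∈ A, y ^ 2 ≠ 1 := by
    by_contra hc
    push Not at hc
    haveI : Fintype A := Fintype.ofFinite A
    have hle : Fintype.card A ≤ Fintype.card (Bool) := by
      refine Fintype.card_le_of_injective (fun a : A => decide ((a : G) = 1)) fun a b hab => ?_
      rcases eq_or_ne (a : G) 1 with ha | ha <;> rcases eq_or_ne (b : G) 1 with hb | hb
      · exact Subtype.ext (ha.trans hb.symm)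
      · simp [ha, hb] at hab
      · simp [ha, hb] at hab
      · exact Subtype.ext (sq_one S e (hA a.2) (hA b.2) (hc _ a.2) (hc _ b.2) ha hb)
    rw [← Nat.card_eq_fintype_card, hA4, Fintype.card_bool] at hle
    omega
  obtain ⟨y, hy, hy2⟩ := hex
  haveI : Fact (Nat.Prime 2) := ⟨Nat.prime_two⟩
  have h4 : orderOf y = 4 :=
    orderOf_eq_prime_pow (n := 1) (by simpa using hy2) (pow_four S e (hA hy))
  exact ⟨y, hy, hy2, eq_of_le_of_card_ge (zpowers_le.2 hy) (by rw [hA4, Nat.card_zpowers, h4])⟩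

omit e in
theorem commute_of_sq {g y : G} (hodd : (orderOf g).Coprime 2) (h : Commute (g ^ 2) y) :
    Commute g y := by
  obtain ⟨m, hm⟩ := exists_pow_eq_self_of_coprime hodd.symm
  rw [← hm]
  exact h.pow_left m

/-- An element of odd order normalizing `⟨y⟩` centralizes it. -/
theorem commute_of_mem {g y : G} (hodd : (orderOf g).Coprime 2) (hy : y ∈ (S : Subgroup G))
    (h : g * y * g⁻¹ ∈ zpowers y) : Commute g y := by
  obtain ⟨k, hk⟩ := mem_zpowers_iff.1 h
  have h4 : y ^ (4 : ℤ) = 1 := by exact_mod_cast pow_four S e hy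
  rw [zpow_eq_zpow_emod k h4] at hk
  have hlo := Int.emod_nonneg k (show (4 : ℤ) ≠ 0 by norm_num)
  have hhi := Int.emod_lt_of_pos k (show (0 : ℤ) < 4 by norm_num)
  have hsame : g * y * g⁻¹ = y → Commute g y := fun h1 => mul_inv_eq_iff_eq_mul.1 h1
  generalize k % 4 = i at hk hlo hhi
  interval_cases i
  · rw [zpow_zero] at hk
    have : y = 1 := conj_eq_one_iff.1 hk.symm
    rw [this]; exact Commute.one_right g
  · exact hsame (by rw [← hk, zpow_one])
  · -- the image would have smaller order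
    have h2 : g * y ^ 2 * g⁻¹ = 1 := by
      rw [← conj_pow, ← hk, ← zpow_natCast, ← zpow_mul]
      exact h4
    have hy2 : y ^ 2 = 1 := conj_eq_one_iff.1 h2
    have h0 : g * y * g⁻¹ = 1 := by rw [← hk]; exact_mod_cast hy2
    rw [conj_eq_one_iff.1 h0]; exact Commute.one_right g
  · refine commute_of_sq hodd ?_
    have hinv : g * y * g⁻¹ = y⁻¹ := by
      rw [← hk, eq_inv_iff_mul_eq_one, ← zpow_add_one]
      exact h4
    show g ^ 2 * y = y * g ^ 2
    calc g ^ 2 * y = g * (g * y * g⁻¹) * g⁻¹ * g ^ 2 := by rw [pow_two]; group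
      _ = (g * y * g⁻¹)⁻¹ * g ^ 2 := by rw [hinv]; nth_rw 2 [← hinv]; group
      _ = y * g ^ 2 := by rw [hinv, inv_inv]

/-- Among the subgroups of order 4 of `S` there are at most three. -/
theorem pigeon (F : Fin 4 → Subgroup G) (hF : ∀ i, F i ≤ S ∧ Nat.card (F i) = 4) :
    ∃ i j, i ≠ j ∧ F i = F j := by
  classical
  have key : ∀ i, ∃ c : Fin 3, ∃ z ∈ F i,
      ∃ hz : z ∈ (S : Subgroup G), zpowers z = F i ∧
        e ⟨z, hz⟩ = ![QuaternionGroup.a 1, QuaternionGroup.xa 0, QuaternionGroup.xa 1] c := by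
    intro i
    obtain ⟨y, hy, hy2, hgen⟩ := exists_gen S e (hF i).1 (hF i).2
    have hne : (e ⟨y, (hF i).1 hy⟩) ^ 2 ≠ 1 := by
      rw [← map_pow, Ne, map_eq_one_iff e e.injective]
      exact fun h1 => hy2 (congrArg Subtype.val h1)
    obtain ⟨c, hc, hcy⟩ := quat_cases _ hne
    obtain ⟨n, rfl⟩ : ∃ n : Fin 3,
        ![QuaternionGroup.a 1, QuaternionGroup.xa 0, QuaternionGroup.xa 1] n = c := by
      simp only [List.mem_cons, List.not_mem_nil, or_false] at hc
      rcases hc with rfl | rfl | rfl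
      exacts [⟨0, rfl⟩, ⟨1, rfl⟩, ⟨2, rfl⟩]
    rcases hcy with hcy | hcy
    · exact ⟨n, y, hy, (hF i).1 hy, hgen, hcy.symm⟩
    · refine ⟨n, y ^ 3, pow_mem hy 3, (hF i).1 (pow_mem hy 3), ?_, ?_⟩
      · refine le_antisymm (zpowers_le.2 (pow_mem hy 3)) ?_
        rw [← hgen]
        refine zpowers_le.2 (mem_zpowers_iff.2 ⟨3, ?_⟩)
        have h4 := pow_four S e ((hF i).1 hy)
        calc ((y ^ 3) ^ (3 : ℤ)) = (y ^ 4) ^ 2 * y := by
              rw [show (3 : ℤ) = ((3 : ℕ) : ℤ) by norm_num, zpow_natCast, ← pow_mul, ← pow_mul,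
                ← pow_succ]
          _ = y := by rw [h4, one_pow, one_mul]
      · rw [hcy, ← map_pow]; rfl
  choose c z hz hzS hgen hval using key
  obtain ⟨i, j, hij, hc⟩ := Fintype.exists_ne_map_eq_of_card_lt c (by simp)
  refine ⟨i, j, hij, ?_⟩
  have : z i = z j := congrArg Subtype.val (e.injective ((hval i).trans (hc ▸ (hval j).symm)))
  rw [← hgen i, ← hgen j, this]

theorem exists_mover (hnc : ∀ N : Subgroup G, N.Normal → ¬ IsComplement' N (S : Subgroup G)) :
    ∃ g ∈ normalizer ((S : Subgroup G) : Set G), (orderOf g).Coprime 2 ∧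
      ∃ A : Subgroup G, A ≤ S ∧ Nat.card A = 4 ∧ A.map (MulAut.conj g).toMonoidHom ≠ A := by
  classical
  haveI : Fact (Nat.Prime 2) := ⟨Nat.prime_two⟩
  have hS8 : Nat.card (S : Subgroup G) = 8 := by
    rw [Nat.card_congr e.toEquiv, Nat.card_eq_fintype_card, QuaternionGroup.card]
  by_contra hc
  push Not at hc
  obtain ⟨N, hN, hN'⟩ : ∃ N : Subgroup G, N.Normal ∧ IsComplement' N (S : Subgroup G) := by
    refine (Cfsg.Agent.Fusion.hasNormalPComplement_iff_exists S).1 ?_
    rw [Cfsg.Agent.Fusion.frobenius_criterion S]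
    intro Q hQ g hg hodd
    rw [mem_centralizer_iff]
    intro y hy
    refine (?_ : Commute y g)
    refine Commute.symm ?_
    have hyS := hQ hy
    by_cases hy2 : y ^ 2 = 1
    · rcases eq_or_ne y 1 with rfl | hy1
      · exact Commute.one_right g
      · have hy' : g * y * g⁻¹ ∈ (S : Subgroup G) := hQ ((mem_normalizer_iff.1 hg y).1 hy)
        exact mul_inv_eq_iff_eq_mul.1 (sq_one S e hy' hyS (by rw [conj_pow, hy2, mul_one,
          mul_inv_cancel]) hy2 (fun h1 => hy1 (conj_eq_one_iff.1 h1)) hy1)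
    · refine commute_of_mem S e hodd hyS ?_
      have hzc : Nat.card (zpowers y) = 4 := by
        rw [Nat.card_zpowers]
        exact orderOf_eq_prime_pow (n := 1) (by simpa using hy2) (pow_four S e hyS)
      have hzle : zpowers y ≤ Q := zpowers_le.2 hy
      by_cases hQ8 : Nat.card Q = 8
      · have hQS : Q = S := eq_of_le_of_card_ge hQ (by rw [hQ8, hS8])
        subst hQS
        have := hc g hg hodd (zpowers y) (zpowers_le.2 hyS) hzc
        show g * y * g⁻¹ ∈ zpowers y
        rw [← this]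
        exact ⟨y, mem_zpowers y, rfl⟩
      · have hd : Nat.card Q ∣ 8 := hS8 ▸ card_dvd_of_le hQ
        have h4Q : 4 ∣ Nat.card Q := hzc ▸ card_dvd_of_le hzle
        have hQ4 : Nat.card Q = 4 := by
          have := Nat.le_of_dvd (by norm_num) hd
          generalize Nat.card Q = m at hd h4Q hQ8 this ⊢
          interval_cases m <;> omega
        rw [eq_of_le_of_card_ge hzle (by rw [hzc, hQ4])]
        exact (mem_normalizer_iff.1 hg y).1 hy
  exact hnc N hN hN'

end

/-- Let S be a Sylow 2-subgroup of the finite group G that is isomorphic to the quaternion group of order 8, and suppose S has no normal complement in G. Then any two subgroups of order 4 of S are conjugate by an element of the normalizer of S. -/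
theorem result {G : Type*} [Group G] [Finite G] (S : Sylow 2 G) (e : (S : Subgroup G) ≃* QuaternionGroup 2) (hnc : ∀ N : Subgroup G, N.Normal → ¬ Subgroup.IsComplement' N (S : Subgroup G)) (A B : Subgroup G) (hA : A ≤ S) (hB : B ≤ S) (hA4 : Nat.card A = 4) (hB4 : Nat.card B = 4) : ∃ n ∈ Subgroup.normalizer ((S : Subgroup G) : Set G), B = A.map (MulAut.conj n).toMonoidHom := by
  classical
  obtain ⟨g, hg, hodd, A₀, hA0, hA04, hmove⟩ := exists_mover S e hnc
  have hgm : ∀ m : ℕ, g ^ m ∈ normalizer ((S : Subgroup G) : Set G) := fun m => pow_mem hg m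
  let F : ℕ → Subgroup G := fun m => A₀.map (MulAut.conj (g ^ m)).toMonoidHom
  have hF : ∀ m, F m ≤ S ∧ Nat.card (F m) = 4 := fun m => ⟨by
    rintro _ ⟨x, hx, rfl⟩
    exact (mem_normalizer_iff.1 (hgm m) x).1 (hA0 hx), by
    rw [card_map_of_injective (MulAut.conj (g ^ m)).injective]; exact hA04⟩
  have hcomp : ∀ a b : G, ∀ H : Subgroup G, (H.map (MulAut.conj a).toMonoidHom).map
      (MulAut.conj b).toMonoidHom = H.map (MulAut.conj (b * a)).toMonoidHom := fun a b H => by
    rw [map_map, map_mul]; rfl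
  have hone : ∀ H : Subgroup G, H.map (MulAut.conj (1 : G)).toMonoidHom = H := fun H => by
    ext; simp
  have h01 : F 0 ≠ F 1 := fun he => hmove (by
    simpa only [F, pow_zero, hone, pow_one] using he.symm)
  have h02 : F 0 ≠ F 2 := by
    intro he
    apply hmove
    obtain ⟨m, hm⟩ := exists_pow_eq_self_of_coprime hodd.symm
    have h2 : A₀.map (MulAut.conj (g ^ 2)).toMonoidHom = A₀ := by
      simpa only [F, pow_zero, hone] using he.symm
    have : ∀ k : ℕ, A₀.map (MulAut.conj ((g ^ 2) ^ k)).toMonoidHom = A₀ := by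
      intro k
      induction k with
      | zero => rw [pow_zero, hone]
      | succ k ih => rw [pow_succ, ← hcomp, h2, ih]
    rw [← hm]; exact this m
  have h12 : F 1 ≠ F 2 := fun he => h01 (by
    have := congrArg (fun H : Subgroup G => H.map (MulAut.conj g⁻¹).toMonoidHom) he
    simp only [F, hcomp] at this ⊢
    rw [show g⁻¹ * g ^ 1 = g ^ 0 by group, show g⁻¹ * g ^ 2 = g ^ 1 by group] at this
    exact this)
  have hall : ∀ H : Subgroup G, H ≤ S → Nat.card H = 4 → ∃ m : ℕ, H = F m := by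
    intro H hH hH4
    obtain ⟨i, j, hij, hEq⟩ := pigeon S e ![F 0, F 1, F 2, H] (fun i => by
      fin_cases i <;> [exact hF 0; exact hF 1; exact hF 2; exact ⟨hH, hH4⟩])
    fin_cases i <;> fin_cases j <;> simp at hij hEq <;>
      first
      | exact absurd hEq h01 | exact absurd hEq h02 | exact absurd hEq h12
      | exact absurd hEq.symm h01 | exact absurd hEq.symm h02 | exact absurd hEq.symm h12
      | exact ⟨_, hEq⟩ | exact ⟨_, hEq.symm⟩
  obtain ⟨a, rfl⟩ := hall A hA hA4
  obtain ⟨b, rfl⟩ := hall B hB hB4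
  refine ⟨g ^ b * (g ^ a)⁻¹, mul_mem (hgm b) (inv_mem (hgm a)), ?_⟩
  simp only [F, hcomp, inv_mul_cancel_right]

end Cfsg.Agent.S0950
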