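import Cfsg.Statements.S0951
import Cfsg.Agent.H25.BrauerSuzuki
import Cfsg.Agent.H83.RegInner

set_option autoImplicit false
open Cfsg

namespace Cfsg.Agent.S0951

open scoped ComplexConjugate
open Cfsg.Agent.CharBasic Cfsg.Agent.BlockBasic

/-- The count for a central involution: four even and three odd characters. -/
theorem card_principal {G : Type*} [Group G] [Fintype G] {x y : G} (h : H25.Q8Conf x y)
    (hc : ∀ g : G, Commute (y ^ 2) g) {M : Ideal AlgInt} (hM : IsPModular 2 M) :
    Nat.card (principalBlock M G) = 7 := by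
  classical
  haveI : Fact (Nat.Prime 2) := ⟨Nat.prime_two⟩
  obtain ⟨m, -, hmy, hm0, hsq, hmT⟩ := h.fourFun_coeff hM
  set z := y ^ 2 with hz
  have hz2 : z * z = 1 := h.z_sq
  have hsplit := h.hsplit_of_central hc
  set B := principalBlock M G with hBdef
  have hB : IsPBlock M B := isPBlock_principalBlock M
  have hmB : ∀ ξ : IrrCharacter G, m ξ ≠ 0 → ξ ∈ B := fun ξ hξ => by_contra fun e => hξ (hm0 ξ e)
  have hzc : z ∈ Subgroup.center G := Subgroup.mem_center_iff.mpr fun g => (hc g).eq.symm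
  have heps : ∀ ξ : IrrCharacter G, ∃ ε : ℂ, (ε = 1 ∨ ε = -1) ∧
      ∀ g, (ξ : G → ℂ) (z * g) = ε * (ξ : G → ℂ) g := by
    intro ξ
    obtain ⟨d, ρ, hirr, hρ⟩ := ξ.2
    obtain ⟨ω, -, -, hω⟩ := exists_central_scalar ρ hzc
    have hω' : ∀ g, (ξ : G → ℂ) (z * g) = ω * (ξ : G → ℂ) g := fun g => by
      rw [(hc g).eq, ← hρ]; exact hω g
    refine ⟨ω, ?_, hω'⟩
    have h0 := hω' 1
    rw [mul_one] at h0
    have h1 := hω' z
    rw [hz2, h0, ← mul_assoc] at h1
    have h2 : ω * ω = 1 := (mul_eq_right₀ (IsIrr.one_ne_zero ξ.2)).mp h1.symm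
    exact mul_self_eq_one_iff.mp h2
  have hy4 : ∀ ξ : IrrCharacter G, ξ ∈ B → ∀ g : G, 4 ∣ orderOf g → (ξ : G → ℂ) g = m ξ :=
    fun ξ hξ g hg => (h.apply_four hM hξ hg).trans (hmy ξ hξ)
  have hfix : ∀ ξ : IrrCharacter G, m ξ ≠ 0 → ∀ g, (ξ : G → ℂ) (z * g) = (ξ : G → ℂ) g := by
    intro ξ hξ g
    obtain ⟨ε, -, hε⟩ := heps ξ
    have h1 := hε y
    rw [hy4 ξ (hmB ξ hξ) _ (H25.four_mul_iff hz2 hsplit h.four_dvd_orderOf),
      hy4 ξ (hmB ξ hξ) y h.four_dvd_orderOf] at h1
    have : ε = 1 := (mul_eq_right₀ (Int.cast_ne_zero.mpr hξ)).mp h1.symm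
    rw [hε, this, one_mul]
  -- the regular inner products inside the block
  have hR : ∀ ξ η : IrrCharacter G, ξ ∈ B → η ∈ B → ∀ ε : ℂ,
      (∀ g, (ξ : G → ℂ) (z * g) * conj ((η : G → ℂ) (z * g)) =
        ε * ((ξ : G → ℂ) g * conj ((η : G → ℂ) g))) →
      (1 + ε) * H83.regInner 2 ξ η + (m ξ : ℂ) * m η / 4 = if ξ = η then 1 else 0 := by
    intro ξ η hξ hη ε hε
    have h1 := classInner_irrCharacter ξ η
    rw [classInner_def, H25.sum_split hz2 hsplit] at h1
    simp only [hε, ← Finset.mul_sum] at h1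
    rw [Finset.sum_congr rfl (g := fun _ => (m ξ : ℂ) * (m η : ℂ) * 1)
      (s₁ := (Finset.univ : Finset G).filter fun g => 4 ∣ orderOf g) (fun g hg => by
        rw [hy4 ξ hξ g (Finset.mem_filter.mp hg).2, hy4 η hη g (Finset.mem_filter.mp hg).2,
          map_intCast, mul_one]), ← Finset.mul_sum, h.sum_four] at h1
    have h2 := H83.regInner_eq_sum (p := 2) ξ η
    have hs : ∑ g : G, (if 2 ∣ orderOf g then 0 else (ξ : G → ℂ) g * conj ((η : G → ℂ) g)) =
        ∑ g : G with ¬ 2 ∣ orderOf g, (ξ : G → ℂ) g * conj ((η : G → ℂ) g) := by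
      rw [Finset.sum_filter]
      exact Finset.sum_congr rfl fun g _ => (ite_not _ _ _).symm
    rw [hs] at h2
    rw [← h2] at h1
    rw [← h1]
    field_simp [CharInduce.card_ne_zero_complex G]
  have hneg : ∀ ξ : IrrCharacter G, ξ ∈ B → m ξ = 0 → ∀ g,
      (ξ : G → ℂ) (z * g) = -(ξ : G → ℂ) g := by
    intro ξ hξ hξ0 g
    obtain ⟨ε, hε1, hε⟩ := heps ξ
    rcases hε1 with rfl | rfl
    swap
    · rw [hε, neg_one_mul]
    exfalso
    have hT : (trivialIrr : IrrCharacter G) ∈ B := sameBlock_refl hM _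
    have hne : ξ ≠ trivialIrr := by rintro rfl; omega
    have h1 := hR ξ trivialIrr hξ hT 1 (fun g => by simp [hε, trivialIrr])
    rw [hξ0, if_neg hne] at h1
    norm_num at h1
    have hsum : ∑ g : G with ¬ 2 ∣ orderOf g, (ξ : G → ℂ) g = 0 := by
      have h2 := H83.regInner_eq_sum (p := 2) ξ (trivialIrr : IrrCharacter G)
      rw [h1, mul_zero] at h2
      rw [h2, Finset.sum_filter]
      exact Finset.sum_congr rfl fun g _ => by simp only [trivialIrr, map_one, mul_one, ite_not]
    have hcong := omega_congr hM (fun _ _ => rfl) (IsIrr.isClassFunction ξ.2)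
      (show SameBlock M (fun _ : G => (1 : ℂ)) (ξ : G → ℂ) from hξ)
      (Cores.isCentralElt_regElt 2) (Cores.isIntElt_regElt hM)
    have hzero : omega (ξ : G → ℂ) (Cores.regElt 2) = 0 := by
      rw [omega, chiLin]
      simp only [Cores.regElt, coeff_ofFun, ite_mul, one_mul, zero_mul]
      rw [← Finset.sum_filter, hsum, zero_div]
    rw [hzero, sub_zero] at hcong
    exact Cores.not_memLocalIdeal_omega_regElt (G := G) hM hcong
  set E := Finset.univ.filter fun ξ : IrrCharacter G => m ξ ≠ 0 with hE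
  set O := Finset.univ.filter fun ξ : IrrCharacter G => ξ ∈ B ∧ m ξ = 0 with hO'
  have hunit : ∀ ξ ∈ E, m ξ * m ξ = 1 := by
    intro ξ hξ
    rcases eq_or_ne ξ trivialIrr with rfl | hne
    · rw [hmT, one_mul]
    have h0 : m ξ ≠ 0 := (Finset.mem_filter.1 hξ).2
    have hle : m trivialIrr * m trivialIrr + m ξ * m ξ ≤ 4 := by
      rw [← hsq, ← Finset.sum_pair (f := fun ξ => m ξ * m ξ) hne.symm]
      exact Finset.sum_le_sum_of_subset_of_nonneg (Finset.subset_univ _) fun _ _ _ => mul_self_nonneg _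
    rw [hmT] at hle
    have : m ξ ≤ 1 ∧ -1 ≤ m ξ := ⟨by nlinarith, by nlinarith⟩
    rcases (show m ξ = 1 ∨ m ξ = -1 by omega) with e | e <;> simp [e]
  have hEsq : ∑ ξ ∈ E, (m ξ : ℂ) * m ξ = 4 := by
    rw [Finset.sum_subset (Finset.subset_univ E) fun ξ _ hξ => by
      have : m ξ = 0 := by simpa [hE] using hξ
      simp [this]]
    exact_mod_cast hsq
  have hEcard : E.card = 4 := by
    have h1 : ∑ ξ ∈ E, (m ξ : ℂ) * m ξ = ∑ _ξ ∈ E, (1 : ℂ) :=
      Finset.sum_congr rfl fun ξ hξ => by exact_mod_cast hunit ξ hξ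
    rw [hEsq, Finset.sum_const, nsmul_one] at h1
    exact_mod_cast h1.symm
  let f : IrrCharacter G → IrrCharacter G → ℂ := fun a b => H83.regInner 2 a b * H83.regInner 2 b a
  have hrow : ∀ a ∈ B, ∑ b ∈ E, f a b + ∑ b ∈ O, f a b = H83.regInner 2 a a := by
    intro a ha
    rw [← Finset.sum_union (Finset.disjoint_left.2 fun b h1 h2 => by
      simp only [hE, hO', Finset.mem_filter, Finset.mem_univ, true_and] at h1 h2
      exact h1 h2.2), ← H83.regInner_proj a a]
    refine Finset.sum_subset (Finset.subset_univ _) fun b _ hb => ?_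
    have hb' : b ∉ B := fun hbB => hb (by
      by_cases h0 : m b = 0
      · exact Finset.mem_union_right _ (Finset.mem_filter.2 ⟨Finset.mem_univ _, hbB, h0⟩)
      · exact Finset.mem_union_left _ (Finset.mem_filter.2 ⟨Finset.mem_univ _, h0⟩))
    simp [f, H83.regInner_eq_zero hM hB ha hb']
  have hee : ∀ a ∈ E, ∀ b ∈ E, H83.regInner 2 a b =
      ((if a = b then 1 else 0) - (m a : ℂ) * m b / 4) / 2 := by
    intro a ha b hb
    have ha0 := (Finset.mem_filter.1 ha).2
    have hb0 := (Finset.mem_filter.1 hb).2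
    have h1 := hR a b (hmB a ha0) (hmB b hb0) 1 (fun g => by rw [hfix a ha0, hfix b hb0, one_mul])
    rw [← h1]; ring
  have hoo : ∀ a ∈ O, ∀ b ∈ O, H83.regInner 2 a b = (if a = b then 1 else 0) / 2 := by
    intro a ha b hb
    obtain ⟨haB, ha0⟩ := (Finset.mem_filter.1 ha).2
    obtain ⟨hbB, hb0⟩ := (Finset.mem_filter.1 hb).2
    have h1 := hR a b haB hbB 1 (fun g => by rw [hneg a haB ha0, hneg b hbB hb0, map_neg]; ring)
    rw [← h1, ha0, hb0]; push_cast; ring
  have hEO : ∀ a ∈ E, ∑ b ∈ O, f a b = 3 / 16 := by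
    intro a ha
    have hma : (m a : ℂ) * m a = 1 := by exact_mod_cast hunit a ha
    have h1 := hrow a (hmB a (Finset.mem_filter.1 ha).2)
    rw [hee a ha a ha, if_pos rfl] at h1
    have h2 : ∑ b ∈ E, f a b = 3 / 16 := by
      rw [Finset.sum_congr rfl (g := fun b => (if a = b then (1 : ℂ) - 2 * ((m a : ℂ) * m b / 4) else 0) / 4
        + (m a : ℂ) * m a / 64 * ((m b : ℂ) * m b)) fun b hb => ?_,
        Finset.sum_add_distrib, ← Finset.sum_div, Finset.sum_ite_eq E a, if_pos ha, ← Finset.mul_sum,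
        hEsq, hma]
      · norm_num
      simp only [f, hee a ha b hb, hee b hb a ha]
      by_cases e : a = b
      · subst e; simp only [if_true]; ring
      · simp only [if_neg e, if_neg (Ne.symm e)]; ring
    rw [h2, hma] at h1
    linear_combination h1
  have hOE : ∀ a ∈ O, ∑ b ∈ E, f a b = 1 / 4 := by
    intro a ha
    have h1 := hrow a (Finset.mem_filter.1 ha).2.1
    rw [Finset.sum_eq_single a (fun b hb hne => by simp [f, hoo a ha b hb, Ne.symm hne])
      (fun hn => absurd ha hn)] at h1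
    simp only [f, hoo a ha a ha, if_true] at h1
    simp only [f]
    linear_combination h1
  have hOcard : O.card = 3 := by
    have h1 : ∑ a ∈ E, ∑ b ∈ O, f a b = ∑ b ∈ O, ∑ a ∈ E, f b a := by
      rw [Finset.sum_comm]
      exact Finset.sum_congr rfl fun b _ => Finset.sum_congr rfl fun a _ => mul_comm _ _
    rw [Finset.sum_congr rfl hEO, Finset.sum_congr rfl hOE, Finset.sum_const, Finset.sum_const,
      hEcard, nsmul_eq_mul, nsmul_eq_mul] at h1
    have h2 : (O.card : ℂ) = 3 := by push_cast at h1; linear_combination -4 * h1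
    exact_mod_cast h2
  have hBE : (Finset.univ.filter fun ξ : IrrCharacter G => ξ ∈ B) = E ∪ O := by
    ext ξ
    simp only [hE, hO', Finset.mem_filter, Finset.mem_univ, true_and, Finset.mem_union]
    constructor
    · intro h1
      by_cases h0 : m ξ = 0
      exacts [Or.inr ⟨h1, h0⟩, Or.inl h0]
    · rintro (h1 | h1)
      exacts [hmB ξ h1, h1.1]
  rw [Nat.card_eq_fintype_card, Fintype.card_subtype, hBE,
    Finset.card_union_of_disjoint (Finset.disjoint_left.2 fun b h1 h2 => by
      simp only [hE, hO', Finset.mem_filter, Finset.mem_univ, true_and] at h1 h2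
      exact h1 h2.2), hEcard, hOcard]

/-- Let S be a Sylow 2-subgroup of the finite group G isomorphic to the quaternion group of order 8. Suppose G has no nontrivial normal subgroup of odd order and G ≠ S. Then, relative to any maximal ideal M of the algebraic integers containing 2, the principal block of G consists of exactly 7 irreducible characters. -/
theorem result {G : Type*} [Group G] [Finite G] (M : Ideal Cfsg.AlgInt) (hM : Cfsg.IsPModular 2 M) (S : Sylow 2 G) (e : (S : Subgroup G) ≃* QuaternionGroup 2) (hO : ∀ N : Subgroup G, N.Normal → Odd (Nat.card N) → N = ⊥) (hG : (S : Subgroup G) ≠ ⊤) : Nat.card (Cfsg.principalBlock M G) = 7 := by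
  classical
  cases nonempty_fintype G
  haveI : Fact (Nat.Prime 2) := ⟨Nat.prime_two⟩
  obtain ⟨x, y, hQ⟩ := H25.exists_qgens S (n := 0) e
  have hodd : Cfsg.oddCore G = ⊥ := hO _ inferInstance Cores.odd_card_oddCore
  have hno : ¬ HasNormalPComplement 2 G := by
    intro hnc
    obtain ⟨N, hN, hc⟩ := (Fusion.hasNormalPComplement_iff_exists S).mp hnc
    have h0 := hO N hN (Nat.odd_iff.2 (Nat.two_dvd_ne_zero.1 (Fusion.not_dvd_card_of_isComplement' S hc)))
    have h1 := hc.sup_eq_top
    rw [h0, bot_sup_eq] at h1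
    exact hG h1
  refine card_principal (hQ.q8Conf hno) (fun g => ?_) hM
  have hcen := H25.brauerSuzuki_mem_center S hQ hodd
  simp only [zero_add, pow_one] at hcen
  exact (Subgroup.mem_center_iff.mp hcen g).symm

end Cfsg.Agent.S0951
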