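import Cfsg.Statements.S0962
import Cfsg.Agent.H35.Defect
import Cfsg.Agent.H35.Consequences
import Mathlib.LinearAlgebra.Matrix.Rank
-- import your own Cfsg.Agent.* helpers here

set_option autoImplicit false
open Cfsg Cfsg.Agent.H35 Cfsg.Agent.BlockBasic

namespace Cfsg.Agent.S0962

/-- Fix a maximal ideal M of the algebraic integers containing the prime p and a natural number d. The number of blocks of the finite group G of defect at least d is at most the number of conjugacy classes of p-regular elements of G of defect at least d, where the defect of a class is the exponent of p in the order of the centralizer of any of its elements. -/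
theorem result {G : Type*} [Group G] [Finite G] (p : ℕ) [Fact p.Prime] (M : Ideal Cfsg.AlgInt) (hM : Cfsg.IsPModular p M) (d : ℕ) : Nat.card {B : Set (Cfsg.IrrCharacter G) // Cfsg.IsPBlock M B ∧ d ≤ Cfsg.blockDefect p B} ≤ Nat.card {C : ConjClasses G // ∃ g : G, ConjClasses.mk g = C ∧ Cfsg.IsPRegular p g ∧ d ≤ (Nat.card (Subgroup.centralizer ({g} : Set G))).factorization p} := by
  classical
  cases nonempty_fintype G
  haveI : Finite (ConjClasses G) := Finite.of_surjective _ ConjClasses.mk_surjective
  haveI : Fintype (ConjClasses G) := Fintype.ofFinite _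
  haveI := locMax_isMaximal hM
  letI : Field (locRing hM ⧸ locMax hM) := Ideal.Quotient.field _
  set P : ConjClasses G → Prop := fun C => ∃ g : G, ConjClasses.mk g = C ∧ Cfsg.IsPRegular p g ∧
    d ≤ (Nat.card (Subgroup.centralizer ({g} : Set G))).factorization p
  let Bl := {B : Set (Cfsg.IrrCharacter G) // Cfsg.IsPBlock M B ∧ d ≤ Cfsg.blockDefect p B}
  haveI : Fintype Bl := Fintype.ofFinite _
  have hχ : ∀ B : Bl, ∃ χ, χ ∈ B.1 := fun B => isPBlock_nonempty hM B.2.1
  choose χ hχB using hχ
  let π := Ideal.Quotient.mk (locMax hM)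
  let coef : Bl → ConjClasses G → locRing hM := fun B C =>
    ⟨blockCoeff B.1 C.out, memLocalRing_blockCoeff hM B.2.1 _⟩
  let cc : ConjClasses G → Bl → locRing hM := fun C B =>
    ⟨centralChar (χ B : G → ℂ) C.out, memLocalRing_centralChar hM (χ B).2 _⟩
  let A : Matrix Bl {C // P C} (locRing hM ⧸ locMax hM) := Matrix.of fun B C => π (coef B C.1)
  let W : Matrix {C // P C} Bl (locRing hM ⧸ locMax hM) := Matrix.of fun C B => π (cc C.1 B)
  -- classes outside `P` do not contribute
  have hout : ∀ B B' : Bl, ∀ C, ¬ P C → π (coef B C * cc C B') = 0 := by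
    intro B B' C hC
    rw [Ideal.Quotient.eq_zero_iff_mem, mem_locMax]
    show MemLocalIdeal M (blockCoeff B.1 C.out * centralChar (χ B' : G → ℂ) C.out)
    by_cases hreg : p ∣ orderOf C.out
    · rw [blockCoeff_eq_zero_of_singular hM B.2.1 hreg, zero_mul]
      exact memLocalIdeal_zero hM
    refine memLocalIdeal_mul hM (memLocalRing_blockCoeff hM B.2.1 _) ?_
    by_contra hu
    refine hC ⟨C.out, Quotient.out_eq C, hreg, ?_⟩
    have hle : ∀ ψ ∈ B'.1, ((Subgroup.centralizer ({C.out} : Set G)).index).factorization p ≤
        (charDegree (ψ : G → ℂ)).factorization p := fun ψ hψ =>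
      index_le_degree hM ψ fun hmem => hu (by
        have := memLocalIdeal_add hM (isPBlock_sameBlock hM B'.2.1 (hχB B') hψ C.out) hmem
        simpa using this)
    have h1 : ((Subgroup.centralizer ({C.out} : Set G)).index).factorization p ≤
        sInf ((fun χ : IrrCharacter G => (charDegree (χ : G → ℂ)).factorization p) '' B'.1) := by
      refine le_csInf ⟨_, χ B', hχB B', rfl⟩ ?_
      rintro _ ⟨ψ, hψ, rfl⟩
      exact hle ψ hψ
    have h2 := factorization_index_add (p := p) C.out
    have h3 := B'.2.2
    rw [blockDefect] at h3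
    omega
  have hmul : A * W = 1 := by
    ext B B'
    have hsum : (∑ C : ConjClasses G, coef B C * cc C B' : locRing hM) =
        if B = B' then 1 else 0 := by
      apply Subtype.ext
      have h1 := omega_blockElem B.1 (χ B')
      rw [omega_eq_sum_classes (Cfsg.Agent.CharBasic.IsIrr.isClassFunction (χ B').2)
        (isCentralElt_blockElem B.1)] at h1
      have h2 : (χ B' ∈ B.1) ↔ B = B' :=
        ⟨fun h => Subtype.ext (isPBlock_eq_of_mem hM B.2.1 B'.2.1 h (hχB B')),
          fun h => by subst h; exact hχB B⟩
      simp only [AddSubmonoidClass.coe_finsetSum, MulMemClass.coe_mul, coef, cc]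
      simp only [coeff_blockElem, h2] at h1
      rw [h1]
      split_ifs <;> rfl
    have hπ := congrArg π hsum
    rw [map_sum, ← Fintype.sum_subtype_add_sum_subtype P,
      Finset.sum_eq_zero (s := (Finset.univ : Finset {C // ¬ P C})) (fun C _ => hout B B' C.1 C.2),
      add_zero] at hπ
    rw [Matrix.mul_apply]
    simp only [A, W, Matrix.of_apply, ← map_mul]
    convert hπ using 1
    rw [Matrix.one_apply]
    split_ifs <;> simp
  rw [Nat.card_eq_fintype_card, Nat.card_eq_fintype_card]
  calc Fintype.card Bl = (A * W).rank := by rw [hmul, Matrix.rank_one]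
    _ ≤ A.rank := Matrix.rank_mul_le_left A W
    _ ≤ Fintype.card {C // P C} := A.rank_le_card_width

end Cfsg.Agent.S0962
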