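import Cfsg.Statements.S0953
import Cfsg.Agent.S0962
import Cfsg.Agent.H35.BlockInduction
import Cfsg.Agent.Fusion.Basic
import Cfsg.Agent.CharInduce.Ops
-- import your own Cfsg.Agent.* helpers here

set_option autoImplicit false
open Cfsg Cfsg.Agent.H35 Cfsg.Agent.BlockBasic
open scoped ComplexConjugate

namespace Cfsg.Agent.S0953

open Cfsg.Agent

/-- If all central characters of `P ⊔ C(P)` vanish modulo `M` at an element supported on regular
elements centralizing `P`, its coefficients vanish modulo `M`. -/
theorem coeff_mem_of_omega_mem_quotient {H : Type*} [Group H] [Fintype H] {p : ℕ} [Fact p.Prime]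
    {M : Ideal AlgInt} (hM : IsPModular p M) (Q : Subgroup H) [Q.Normal] (hQ : IsPGroup p Q)
    (hQi : ¬ p ∣ Nat.card (H ⧸ Q)) {z : MonoidAlgebra ℂ H} (hz : IsCentralElt z)
    (hsupp : ∀ h, z.coeff h ≠ 0 → ¬ p ∣ orderOf h ∧ h ∈ Subgroup.centralizer (Q : Set H))
    (h0 : ∀ ξ : IrrCharacter H, MemLocalIdeal M (omega (ξ : H → ℂ) z)) (y : H) :
    MemLocalIdeal M (z.coeff y) := by
  classical
  by_cases hy : z.coeff y = 0
  · rw [hy]; exact memLocalIdeal_zero hM
  haveI : Fintype (H ⧸ Q) := Fintype.ofFinite _
  set w : MonoidAlgebra ℂ (H ⧸ Q) := ofFun fun q => ∑ h ∈ Finset.univ.filter (fun h : H => (QuotientGroup.mk h : H ⧸ Q) = q), z.coeff h with hw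
  have hwc : IsCentralElt w := by
    refine isCentralElt_ofFun fun q k => ?_
    obtain ⟨k, rfl⟩ := QuotientGroup.mk_surjective k
    refine Finset.sum_equiv (MulAut.conj k⁻¹).toEquiv (fun h => ?_) fun h _ => ?_
    · simp only [Finset.mem_filter, Finset.mem_univ, true_and, MulEquiv.toEquiv_eq_coe,
        EquivLike.coe_coe, MulAut.conj_apply, QuotientGroup.mk_mul, QuotientGroup.mk_inv, inv_inv]
      constructor
      · intro e; rw [e]; group
      · intro e; rw [← e]; group
    · exact (hz h k⁻¹).symm
  have hval : w.coeff (y : H ⧸ Q) = z.coeff y := by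
    rw [hw, coeff_ofFun]
    refine Finset.sum_eq_single y (fun h hh hne => ?_) (by simp)
    by_contra hh0
    obtain ⟨hyr, hyc⟩ := hsupp y hy
    obtain ⟨hhr, -⟩ := hsupp h hh0
    have hu : y⁻¹ * h ∈ Q := QuotientGroup.eq.1 (Finset.mem_filter.1 hh).2.symm
    obtain ⟨k, hk⟩ := IsPGroup.iff_orderOf.1 hQ ⟨_, hu⟩
    rw [Subgroup.orderOf_mk] at hk
    have hcomm : Commute (y⁻¹ * h) y := Subgroup.mem_centralizer_iff.1 hyc _ hu
    have h1 := pPart_mul_of hcomm ⟨k, hk⟩ hyr
    have h2 : y⁻¹ * h * y = h := by rw [hcomm.eq, mul_inv_cancel_left]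
    rw [h2, (pPart_eq_one_iff h).2 hhr] at h1
    exact hne (inv_mul_eq_one.1 h1.symm).symm
  rw [← hval, coeff_eq_sum_omega hwc]
  refine memLocalIdeal_mul hM (memLocalRing_natCast_inv hM hQi) (memLocalIdeal_sum hM _ _ fun φ _ => ?_)
  rw [mul_comm ((φ : H ⧸ Q → ℂ) 1), mul_assoc, mul_comm]
  refine memLocalIdeal_mul hM (memLocalRing_of_isIntegral hM ?_) ?_
  · refine IsIntegral.mul ?_ (isIntegral_conj_apply φ _)
    rw [apply_one_eq_charDegree]
    exact isIntegral_algebraMap (R := ℤ) (x := (charDegree (φ : H ⧸ Q → ℂ) : ℤ))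
  · have hinfl := h0 ⟨fun h => (φ : H ⧸ Q → ℂ) (h : H ⧸ Q),
      CharInduce.IsIrr.comp φ.2 (QuotientGroup.mk' Q) (QuotientGroup.mk'_surjective Q)⟩
    convert hinfl using 1
    rw [omega, omega]
    simp only [QuotientGroup.mk_one]
    congr 1
    rw [chiLin, chiLin, ← Finset.sum_fiberwise Finset.univ (fun h : H => (h : H ⧸ Q))]
    refine Finset.sum_congr rfl fun q _ => ?_
    rw [hw, coeff_ofFun, Finset.sum_mul]
    exact Finset.sum_congr rfl fun h hh => by rw [(Finset.mem_filter.1 hh).2]

/-- Let P be a Sylow p-subgroup of the finite group G with normalizer N, and fix a maximal ideal M of the algebraic integers containing p. The number of blocks of G having P as a defect group equals the number of conjugacy classes of N consisting of elements of order prime to p that centralize P. -/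
theorem result {G : Type*} [Group G] [Finite G] (p : ℕ) [Fact p.Prime] (M : Ideal Cfsg.AlgInt) (hM : Cfsg.IsPModular p M) (P : Sylow p G) : Nat.card {B : Set (Cfsg.IrrCharacter G) // Cfsg.IsPBlock M B ∧ Cfsg.IsDefectGroup p M B (P : Subgroup G)} = Nat.card {C : ConjClasses (Subgroup.normalizer ((P : Subgroup G) : Set G)) // ∀ n : Subgroup.normalizer ((P : Subgroup G) : Set G), ConjClasses.mk n = C → ¬ p ∣ orderOf n ∧ (n : G) ∈ Subgroup.centralizer ((P : Subgroup G) : Set G)} := by
  classical
  cases nonempty_fintype G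
  haveI : Finite (ConjClasses G) := Finite.of_surjective _ ConjClasses.mk_surjective
  haveI : Fintype (ConjClasses G) := Fintype.ofFinite _
  have hp : p.Prime := Fact.out
  set a := (Nat.card G).factorization p with ha
  have hPcard : Nat.card (P : Subgroup G) = p ^ a := P.card_eq_multiplicity
  -- blocks of full defect
  have hblock : ∀ B : Set (IrrCharacter G),
      (IsPBlock M B ∧ IsDefectGroup p M B (P : Subgroup G)) ↔ (IsPBlock M B ∧ a ≤ blockDefect p B) := by
    intro B
    refine and_congr_right fun hB => ⟨fun hP => ?_, fun hle => ?_⟩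
    · have := card_defectGroup hM hB hP
      rw [hPcard] at this
      exact ((Nat.pow_right_injective hp.two_le) this).le
    · obtain ⟨g, hg⟩ := exists_isDefectClass hM hB
      have hE : IsDefectGroup p M B
          (sylImage (default : Sylow p (Subgroup.centralizer ({g} : Set G)))) := ⟨g, hg, default, rfl⟩
      have hcard : Nat.card (sylImage (default : Sylow p (Subgroup.centralizer ({g} : Set G)))) = p ^ a := by
        rw [card_defectGroup hM hB hE]
        exact congrArg (p ^ ·) (le_antisymm (Nat.sub_le _ _) hle)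
      obtain ⟨c, hc⟩ := MulAction.exists_smul_eq G (Sylow.ofCard _ hcard) P
      rw [← hc]
      exact isDefectGroup_conj hE c
  -- conjugates of full defect regular elements centralize `P`
  have hcentral : ∀ g : G, a ≤ (Nat.card (Subgroup.centralizer ({g} : Set G))).factorization p →
      ∃ y : G, IsConj g y ∧ y ∈ Subgroup.centralizer ((P : Subgroup G) : Set G) := by
    intro g hg
    set T := sylImage (default : Sylow p (Subgroup.centralizer ({g} : Set G)))
    have hcard : Nat.card T = p ^ a := by
      rw [card_sylImage]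
      exact congrArg (p ^ ·) (le_antisymm
        ((Nat.factorization_le_iff_dvd Nat.card_pos.ne' Nat.card_pos.ne').2
          (Subgroup.card_subgroup_dvd_card _) p) hg)
    obtain ⟨c, hc⟩ := MulAction.exists_smul_eq G (Sylow.ofCard _ hcard) P
    refine ⟨c * g * c⁻¹, isConj_iff.2 ⟨c, rfl⟩, ?_⟩
    rw [Subgroup.mem_centralizer_iff]
    intro q hq
    rw [← hc] at hq
    obtain ⟨d, hd, rfl⟩ := (show q ∈ T.map (MulAut.conj c).toMonoidHom from hq)
    have h1 := Subgroup.mem_centralizer_singleton_iff.1 (sylImage_le _ hd)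
    show c * d * c⁻¹ * (c * g * c⁻¹) = c * g * c⁻¹ * (c * d * c⁻¹)
    calc c * d * c⁻¹ * (c * g * c⁻¹) = c * (d * g) * c⁻¹ := by group
      _ = c * (g * d) * c⁻¹ := by rw [h1]
      _ = _ := by group
  set K := fun C : ConjClasses G => ∃ g : G, ConjClasses.mk g = C ∧ IsPRegular p g ∧
    a ≤ (Nat.card (Subgroup.centralizer ({g} : Set G))).factorization p
  let Bl := {B : Set (IrrCharacter G) // IsPBlock M B ∧ a ≤ blockDefect p B}
  have hle : Nat.card {C // K C} ≤ Nat.card Bl := by
    haveI := locMax_isMaximal hM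
    letI : Field (locRing hM ⧸ locMax hM) := Ideal.Quotient.field _
    haveI : Fintype Bl := Fintype.ofFinite _
    have hχ : ∀ B : Bl, ∃ χ, χ ∈ B.1 := fun B => isPBlock_nonempty hM B.2.1
    choose χ hχB using hχ
    let π := Ideal.Quotient.mk (locMax hM)
    let W : Matrix {C // K C} Bl (locRing hM ⧸ locMax hM) := Matrix.of fun C B =>
      π ⟨centralChar (χ B : G → ℂ) C.1.out, memLocalRing_centralChar hM (χ B).2 _⟩
    have hinj : Function.Injective W.vecMulLinear := by
      rw [injective_iff_map_eq_zero]
      intro u hu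
      choose u' hu' using fun C => Ideal.Quotient.mk_surjective (u C)
      set z : MonoidAlgebra ℂ G := ofFun fun g =>
        if h : K (ConjClasses.mk g) then ((u' ⟨_, h⟩ : locRing hM) : ℂ) else 0 with hz
      have hzc : IsCentralElt z := isCentralElt_ofFun fun g c => by
        have he : ConjClasses.mk (c * g * c⁻¹) = ConjClasses.mk g :=
          ConjClasses.mk_eq_mk_iff_isConj.2 (isConj_iff.2 ⟨c, rfl⟩).symm
        by_cases h : K (ConjClasses.mk g)
        · rw [dif_pos h, dif_pos (he ▸ h)]
          exact congrArg (fun C => ((u' C : locRing hM) : ℂ)) (Subtype.ext he)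
        · rw [dif_neg h, dif_neg (he ▸ h)]
      have hzi : IsIntElt M z := fun g => by
        rw [hz, coeff_ofFun]
        split_ifs
        · exact (u' _).2
        · exact (locRing hM).zero_mem
      have hcoeff : ∀ C : {C // K C}, z.coeff C.1.out = ((u' C : locRing hM) : ℂ) := by
        intro C
        have he : ConjClasses.mk C.1.out = C.1 := Quotient.out_eq C.1
        rw [hz, coeff_ofFun, dif_pos (he.symm ▸ C.2)]
        exact congrArg (fun C => ((u' C : locRing hM) : ℂ)) (Subtype.ext he)
      have hω : ∀ B : Bl, MemLocalIdeal M (omega (χ B : G → ℂ) z) := by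
        intro B
        have h1 : π (∑ C : {C // K C},
            u' C * ⟨centralChar (χ B : G → ℂ) C.1.out, memLocalRing_centralChar hM (χ B).2 _⟩) = 0 := by
          have := congrFun hu B
          simp only [Matrix.vecMulLinear_apply, Matrix.vecMul, dotProduct, Pi.zero_apply, W,
            Matrix.of_apply, ← hu', π, ← map_mul, ← map_sum] at this
          exact this
        rw [Ideal.Quotient.eq_zero_iff_mem, mem_locMax] at h1
        convert h1 using 1
        rw [omega_eq_sum_classes (CharBasic.IsIrr.isClassFunction (χ B).2) hzc,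
          ← Fintype.sum_subtype_add_sum_subtype K,
          Finset.sum_eq_zero (s := (Finset.univ : Finset {C // ¬ K C})) (fun C _ => ?_), add_zero]
        · simp only [AddSubmonoidClass.coe_finsetSum, MulMemClass.coe_mul, hcoeff]
        · have he : ConjClasses.mk C.1.out = C.1 := Quotient.out_eq C.1
          rw [hz, coeff_ofFun, dif_neg (he.symm ▸ C.2), zero_mul]
      set H := (P : Subgroup G) ⊔ Subgroup.centralizer ((P : Subgroup G) : Set G)
      haveI := Fintype.ofFinite H
      have hCH : Subgroup.centralizer ((P : Subgroup G) : Set G) ≤ H := le_sup_right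
      have hHN : H ≤ Subgroup.normalizer ((P : Subgroup G) : Set G) :=
        sup_le Subgroup.le_normalizer (Subgroup.centralizer_le_normalizer _)
      haveI : ((P : Subgroup G).subgroupOf H).Normal :=
        (Subgroup.normal_subgroupOf_iff_le_normalizer le_sup_left).2 hHN
      have hPH : IsPGroup p ((P : Subgroup G).subgroupOf H) :=
        P.isPGroup'.comap_of_injective _ H.subtype_injective
      have hQi : ¬ p ∣ Nat.card (H ⧸ (P : Subgroup G).subgroupOf H) := by
        rw [← Subgroup.index_eq_card]
        intro hd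
        exact P.not_dvd_index (hd.trans (Subgroup.relIndex_dvd_index_of_le (le_sup_left : _ ≤ H)))
      have hξ : ∀ ξ : IrrCharacter H,
          MemLocalIdeal M (omega (ξ : H → ℂ) (trunc (P : Subgroup G) H z)) := by
        intro ξ
        obtain ⟨χ', hχ'⟩ := exists_irr_trunc hM P.isPGroup' hCH hHN ξ
        set B := blockOf M (χ' : G → ℂ) with hBdef
        have hB : IsPBlock M B := isPBlock_blockOf M χ'
        obtain ⟨h, hhC, hhu⟩ : ∃ h : H, (h : G) ∈ Subgroup.centralizer ((P : Subgroup G) : Set G) ∧
            ¬ MemLocalIdeal M (blockCoeff B (h : G)) := by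
          by_contra hno
          push Not at hno
          apply not_memLocalIdeal_one hM
          have h1 := hχ' _ (isCentralElt_blockElem B) (isIntElt_blockElem hM hB)
          rw [omega_blockElem, if_pos (self_mem_blockOf hM χ')] at h1
          have h2 : MemLocalIdeal M (omega (ξ : H → ℂ) (trunc (P : Subgroup G) H (blockElem B))) := by
            haveI : Finite (ConjClasses H) := Finite.of_surjective _ ConjClasses.mk_surjective
            haveI : Fintype (ConjClasses H) := Fintype.ofFinite _
            rw [omega_eq_sum_classes (CharBasic.IsIrr.isClassFunction ξ.2)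
              (isCentralElt_trunc hHN (isCentralElt_blockElem B))]
            refine memLocalIdeal_sum hM _ _ fun C _ => ?_
            rw [mul_comm]
            refine memLocalIdeal_mul hM (memLocalRing_centralChar hM ξ.2 _) ?_
            by_cases hC : ((C.out : H) : G) ∈ Subgroup.centralizer ((P : Subgroup G) : Set G)
            · rw [coeff_trunc_of_mem _ _ _ hC, coeff_blockElem]; exact hno _ hC
            · rw [coeff_trunc_of_not_mem _ _ _ hC]; exact memLocalIdeal_zero hM
          simpa using memLocalIdeal_add hM h2 (memLocalIdeal_neg h1)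
        obtain ⟨E, hE, hPE⟩ := exists_defectGroup_ge hM hB hhu (P : Subgroup G) P.isPGroup'
          fun q hq => Subgroup.mem_centralizer_singleton_iff.2 (Subgroup.mem_centralizer_iff.1 hhC q hq)
        have hdef : a ≤ blockDefect p B := by
          have := Subgroup.card_le_of_le hPE
          rwa [hPcard, card_defectGroup hM hB hE, Nat.pow_le_pow_iff_right hp.one_lt] at this
        let B' : Bl := ⟨B, hB, hdef⟩
        have h3 := omega_congr hM (CharBasic.IsIrr.isClassFunction χ'.2)
          (CharBasic.IsIrr.isClassFunction (χ B').2) (hχB B') hzc hzi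
        have h4 := memLocalIdeal_add hM (memLocalIdeal_add hM h3 (hω B')) (hχ' z hzc hzi)
        simpa using h4
      funext C
      obtain ⟨g, hgC, hgr, hga⟩ := C.2
      obtain ⟨y, hgy, hy⟩ := hcentral g hga
      have hmem := coeff_mem_of_omega_mem_quotient hM ((P : Subgroup G).subgroupOf H) hPH hQi
        (isCentralElt_trunc hHN hzc) (fun h hne => ?_) hξ ⟨y, hCH hy⟩
      · rw [coeff_trunc_of_mem _ _ _ hy,
          show z.coeff y = z.coeff C.1.out from ?_, hcoeff] at hmem
        · rw [Pi.zero_apply, ← hu', Ideal.Quotient.eq_zero_iff_mem, mem_locMax]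
          exact hmem
        · obtain ⟨c, hc⟩ := isConj_iff.1 ((show IsConj C.1.out g from
            ConjClasses.mk_eq_mk_iff_isConj.1 ((Quotient.out_eq C.1).trans hgC.symm)).trans hgy)
          rw [← hc]
          exact hzc C.1.out c
      · by_cases hh : (h : G) ∈ Subgroup.centralizer ((P : Subgroup G) : Set G)
        · refine ⟨?_, ?_⟩
          · rw [coeff_trunc_of_mem _ _ _ hh, hz, coeff_ofFun] at hne
            split_ifs at hne with hK
            · obtain ⟨g', hg', hr, -⟩ := hK
              obtain ⟨c, hc⟩ := isConj_iff.1 (ConjClasses.mk_eq_mk_iff_isConj.1 hg')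
              rw [← Subgroup.orderOf_coe, ← hc, ← MulAut.conj_apply, MulEquiv.orderOf_eq]
              exact hr
            · exact absurd rfl hne
          · rw [Subgroup.mem_centralizer_iff]
            intro q hq
            exact Subtype.ext (Subgroup.mem_centralizer_iff.1 hh q (Subgroup.mem_subgroupOf.1 hq))
        · exact absurd (coeff_trunc_of_not_mem _ _ _ hh) hne
    have h := LinearMap.finrank_le_finrank_of_injective hinj
    rwa [Module.finrank_pi, Module.finrank_pi, ← Nat.card_eq_fintype_card,
      ← Nat.card_eq_fintype_card] at h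
  -- classes of the normalizer
  set N := Subgroup.normalizer ((P : Subgroup G) : Set G)
  have hclasses : Nat.card {C : ConjClasses N // ∀ n : N, ConjClasses.mk n = C →
      ¬ p ∣ orderOf n ∧ (n : G) ∈ Subgroup.centralizer ((P : Subgroup G) : Set G)} = Nat.card {C // K C} := by
    have hmap : ∀ n : N, ¬ p ∣ orderOf n →
        (n : G) ∈ Subgroup.centralizer ((P : Subgroup G) : Set G) → K (ConjClasses.mk (n : G)) := by
      intro n h1 h2
      refine ⟨n, rfl, by rwa [IsPRegular, Subgroup.orderOf_coe], ?_⟩
      refine (hp.pow_dvd_iff_le_factorization Nat.card_pos.ne').1 (hPcard ▸ Subgroup.card_dvd_of_le ?_)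
      exact fun q hq => Subgroup.mem_centralizer_singleton_iff.2 (Subgroup.mem_centralizer_iff.1 h2 q hq)
    let f : {C : ConjClasses N // ∀ n : N, ConjClasses.mk n = C →
        ¬ p ∣ orderOf n ∧ (n : G) ∈ Subgroup.centralizer ((P : Subgroup G) : Set G)} → {C // K C} :=
      fun C => ⟨ConjClasses.mk ((C.1.out : N) : G),
        hmap _ (C.2 _ (Quotient.out_eq C.1)).1 (C.2 _ (Quotient.out_eq C.1)).2⟩
    refine Nat.card_eq_of_bijective f ⟨?_, ?_⟩
    · intro C C' h
      obtain ⟨c, hc⟩ := isConj_iff.1 (ConjClasses.mk_eq_mk_iff_isConj.1 (congrArg Subtype.val h))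
      obtain ⟨n, hn, hn'⟩ := Cfsg.Agent.Fusion.burnside_fusion_centralizer P (g := c)
        (C.2 _ (Quotient.out_eq C.1)).2 (hc.symm ▸ (C'.2 _ (Quotient.out_eq C'.1)).2)
      apply Subtype.ext
      rw [show C.1 = ConjClasses.mk C.1.out from (Quotient.out_eq C.1).symm,
        show C'.1 = ConjClasses.mk C'.1.out from (Quotient.out_eq C'.1).symm,
        ConjClasses.mk_eq_mk_iff_isConj, isConj_iff]
      exact ⟨⟨n, hn⟩, Subtype.ext (hn'.trans hc)⟩
    · rintro ⟨C, g, rfl, hgr, hga⟩
      obtain ⟨y, hgy, hy⟩ := hcentral g hga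
      have hyN : y ∈ N := Subgroup.centralizer_le_normalizer _ hy
      have hyr : ¬ p ∣ orderOf (⟨y, hyN⟩ : N) := by
        obtain ⟨c, hc⟩ := isConj_iff.1 hgy
        rw [Subgroup.orderOf_mk, ← hc, ← MulAut.conj_apply, MulEquiv.orderOf_eq]
        exact hgr
      refine ⟨⟨ConjClasses.mk ⟨y, hyN⟩, fun n hn => ?_⟩, ?_⟩
      · obtain ⟨c, hc⟩ := isConj_iff.1 (ConjClasses.mk_eq_mk_iff_isConj.1 hn).symm
        rw [← hc]
        refine ⟨?_, ?_⟩
        · rwa [← MulAut.conj_apply, MulEquiv.orderOf_eq]
        · show (c : G) * y * (c : G)⁻¹ ∈ _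
          rw [Subgroup.mem_centralizer_iff]
          intro q hq
          have hq' : (c : G)⁻¹ * q * c ∈ (P : Subgroup G) := (Subgroup.mem_normalizer_iff''.1 c.2 q).1 hq
          have h1 := Subgroup.mem_centralizer_iff.1 hy _ hq'
          calc q * ((c : G) * y * (c : G)⁻¹) = (c : G) * ((c : G)⁻¹ * q * c * y) * (c : G)⁻¹ := by group
            _ = (c : G) * (y * ((c : G)⁻¹ * q * c)) * (c : G)⁻¹ := by rw [h1]
            _ = _ := by group
      · apply Subtype.ext
        show ConjClasses.mk _ = ConjClasses.mk g
        rw [ConjClasses.mk_eq_mk_iff_isConj]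
        refine IsConj.trans ?_ hgy.symm
        exact N.subtype.map_isConj
          (ConjClasses.mk_eq_mk_iff_isConj.1 (Quotient.out_eq (ConjClasses.mk (⟨y, hyN⟩ : N))))
  rw [Nat.card_congr (Equiv.subtypeEquivRight hblock), hclasses]
  exact le_antisymm (Cfsg.Agent.S0962.result p M hM a) hle

end Cfsg.Agent.S0953
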