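import Cfsg.Statements.S0956
import Cfsg.Agent.H35.BlockInduction
import Cfsg.Agent.H36.DoubleCoset
import Cfsg.Agent.PGroups.Basic
-- import your own Cfsg.Agent.* helpers here

set_option autoImplicit false
open Cfsg Cfsg.Agent.H35 Cfsg.Agent.BlockBasic Cfsg.Agent.H36.DoubleCoset
open MonoidAlgebra

namespace Cfsg.Agent.S0956

/-- Let D be a defect group of a block of the finite group G (relative to a maximal ideal M of the algebraic integers containing the prime p) and P a Sylow p-subgroup containing D. Then there is an element x of order prime to p such that D is a Sylow p-subgroup of the centralizer of x and D = P ∩ x P x⁻¹. -/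
theorem result {G : Type*} [Group G] [Finite G] (p : ℕ) [Fact p.Prime] (M : Ideal Cfsg.AlgInt) (hM : Cfsg.IsPModular p M) (B : Set (Cfsg.IrrCharacter G)) (hB : Cfsg.IsPBlock M B) (D : Subgroup G) (hD : Cfsg.IsDefectGroup p M B D) (P : Sylow p G) (hDP : D ≤ P) : ∃ x : G, ¬ p ∣ orderOf x ∧ (∃ S : Sylow p (Subgroup.centralizer ({x} : Set G)), (S : Subgroup (Subgroup.centralizer ({x} : Set G))).map (Subgroup.centralizer ({x} : Set G)).subtype = D) ∧ (P : Subgroup G) ⊓ (P : Subgroup G).map (MulAut.conj x).toMonoidHom = D := by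
  classical
  cases nonempty_fintype G
  set N := Subgroup.normalizer (D : Set G) with hN
  haveI := Fintype.ofFinite N
  obtain ⟨g, hg, S, hDS⟩ := id hD
  have hDp : IsPGroup p D := hDS ▸ sylImage_isPGroup S
  have hcardD : Nat.card D = p ^ (Nat.card (Subgroup.centralizer ({g} : Set G))).factorization p :=
    hDS ▸ card_sylImage S
  have hgC : g ∈ Subgroup.centralizer (D : Set G) := by
    rw [Subgroup.mem_centralizer_iff]
    exact fun q hq => Subgroup.mem_centralizer_singleton_iff.1
      ((show D ≤ Subgroup.centralizer ({g} : Set G) from hDS ▸ Subgroup.map_subtype_le _) hq)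
  have hCN : Subgroup.centralizer (D : Set G) ≤ N := Subgroup.centralizer_le_normalizer _
  obtain ⟨χ, hχ⟩ := isPBlock_nonempty hM hB
  obtain ⟨W, hW, hWi, hWe⟩ := blockElem_eq_classSum_mul hM hB g hχ (hg.2.2 χ hχ)
  have hbe : blockElem B = W * classSum g := by rw [hWe, ← isCentralElt_comm hW (classSum g)]
  set zB := trunc D N (blockElem B) with hzB
  have hzBi : IsIntElt M zB := isIntElt_trunc hM D N (isIntElt_blockElem hM hB)
  have hzBc : IsCentralElt zB := isCentralElt_trunc le_rfl (isCentralElt_blockElem B)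
  have hKi : IsIntElt M (trunc D N (classSum g)) := isIntElt_trunc hM D N (isIntElt_classSum hM g)
  have hWti : IsIntElt M (trunc D N W) := isIntElt_trunc hM D N hWi
  haveI := locMax_isMaximal hM
  haveI := charP_residue (p := p) hM
  set e := red hM zB hzBi
  have hidem : e * e = e := by
    rw [← red_mul]
    refine red_congr hM _ _ fun c => ?_
    have := trunc_mul (H := N) hM hDp hCN (isCentralElt_blockElem B) (isIntElt_blockElem hM hB)
      (isCentralElt_blockElem B) (isIntElt_blockElem hM hB) c
    rw [blockElem_idem] at this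
    simpa [hzB] using memLocalIdeal_neg this
  have hne : e ≠ 0 := by
    intro h0
    apply hg.2.1
    have h1 : e.coeff ⟨g, hCN hgC⟩ = 0 := by rw [h0]; simp
    rw [coeff_red, Ideal.Quotient.eq_zero_iff_mem, mem_locMax] at h1
    simpa [hzB, coeff_trunc_of_mem D N _ (h := (⟨g, hCN hgC⟩ : N)) hgC, coeff_blockElem] using h1
  have heWK : e = red hM (trunc D N W) hWti * red hM (trunc D N (classSum g)) hKi := by
    rw [← red_mul]
    refine red_congr hM _ _ fun c => ?_
    rw [hzB, hbe]
    exact trunc_mul (H := N) hM hDp hCN hW hWi (isCentralElt_classSum g) (isIntElt_classSum hM g) c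
  have hcomm : ∀ u ∈ (P : Subgroup G).subgroupOf N, single u 1 * e = e * single u 1 := by
    intro u _
    apply coeff_injective
    ext c
    rw [coeff_single_mul_apply, coeff_mul_single_apply, one_mul, mul_one, coeff_red, coeff_red]
    congr 1
    apply Subtype.ext
    show zB.coeff (u⁻¹ * c) = zB.coeff (c * u⁻¹)
    have := hzBc (c * u⁻¹) u⁻¹
    simpa [mul_assoc] using this
  let L : N → Prop := fun c => IsConj g (c : G) ∧ (c : G) ∈ Subgroup.centralizer (D : Set G)
  obtain ⟨y, ⟨hgy, hyD⟩, hy⟩ := exists_centralized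
    (P.isPGroup'.comap_of_injective N.subtype N.subtype_injective) hidem hne hcomm heWK L
    (fun u _ c hc => ⟨hc.1.trans (isConj_iff.2 ⟨(u : G), rfl⟩), by
      rw [Subgroup.mem_centralizer_iff]
      intro q hq
      have hq' : (u : G)⁻¹ * q * u ∈ D := (Subgroup.mem_normalizer_iff''.1 u.2 q).1 hq
      have h1 := Subgroup.mem_centralizer_iff.1 hc.2 _ hq'
      calc q * ((u * c * u⁻¹ : N) : G) = (u : G) * ((u : G)⁻¹ * q * u * c) * (u : G)⁻¹ := by
            push_cast; group
        _ = (u : G) * (c * ((u : G)⁻¹ * q * u)) * (u : G)⁻¹ := by rw [h1]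
        _ = ((u * c * u⁻¹ : N) : G) * q := by push_cast; group⟩)
    (fun c hc => by
      rw [coeff_red, ← map_one (Ideal.Quotient.mk (locMax hM))]
      congr 1
      apply Subtype.ext
      show (trunc D N (classSum g)).coeff c = 1
      rw [coeff_trunc_of_mem D N _ hc.2, classSum, coeff_ofFun, if_pos hc.1])
    (fun c hc => by
      rw [coeff_red, ← map_zero (Ideal.Quotient.mk (locMax hM))]
      congr 1
      apply Subtype.ext
      show (trunc D N (classSum g)).coeff c = 0
      by_cases hcD : (c : G) ∈ Subgroup.centralizer (D : Set G)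
      · rw [coeff_trunc_of_mem D N _ hcD, classSum, coeff_ofFun, if_neg fun h => hc ⟨h, hcD⟩]
      · rw [coeff_trunc_of_not_mem D N _ hcD])
  set x : G := (y : G) with hxdef
  have hxreg : ¬ p ∣ orderOf x := fun hd => hg.2.1 (by
    rw [← blockCoeff_eq_of_isConj B hgy, blockCoeff_eq_zero_of_singular hM hB hd]
    exact memLocalIdeal_zero hM)
  have hDx : D ≤ Subgroup.centralizer ({x} : Set G) := fun q hq =>
    Subgroup.mem_centralizer_singleton_iff.2 (Subgroup.mem_centralizer_iff.1 hyD q hq)
  have hcard' : Nat.card (D.subgroupOf (Subgroup.centralizer ({x} : Set G))) =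
      p ^ (Nat.card (Subgroup.centralizer ({x} : Set G))).factorization p := by
    rw [Nat.card_congr (Subgroup.subgroupOfEquivOfLe hDx).toEquiv, hcardD,
      card_centralizer_eq_of_isConj hgy]
  refine ⟨x, hxreg, ⟨Sylow.ofCard _ hcard', ?_⟩, ?_⟩
  · rw [Sylow.coe_ofCard, Subgroup.map_subgroupOf_eq_of_le hDx]
  · set R := (P : Subgroup G) ⊓ (P : Subgroup G).map (MulAut.conj x).toMonoidHom
    have hA : (P : Subgroup G) ⊓ Subgroup.centralizer ({x} : Set G) ≤ D := by
      set A := (P : Subgroup G) ⊓ Subgroup.centralizer ({x} : Set G)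
      have hle : D ≤ A := le_inf hDP hDx
      obtain ⟨n, hn⟩ := (P.isPGroup'.to_le (inf_le_left : A ≤ (P : Subgroup G))).exists_card_eq
      have hdvd : p ^ n ∣ Nat.card (Subgroup.centralizer ({x} : Set G)) :=
        hn ▸ Subgroup.card_dvd_of_le inf_le_right
      have hnv := ((Fact.out : p.Prime).pow_dvd_iff_le_factorization Nat.card_pos.ne').1 hdvd
      refine (Subgroup.eq_of_le_of_card_ge hle ?_).ge
      rw [hn, ← Nat.card_congr (Subgroup.subgroupOfEquivOfLe hDx).toEquiv, hcard']
      exact Nat.pow_le_pow_right (Fact.out : p.Prime).pos hnv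
    have hDR : D ≤ R := le_inf hDP fun q hq =>
      ⟨q, hDP hq, by
        show x * q * x⁻¹ = q
        rw [← Subgroup.mem_centralizer_iff.1 hyD q hq, mul_inv_cancel_right]⟩
    refine (eq_or_lt_of_le hDR).elim Eq.symm fun hlt => ?_
    exfalso
    have hlt' : D.subgroupOf R < ⊤ := by
      rw [lt_top_iff_ne_top, Ne, Subgroup.subgroupOf_eq_top]
      exact not_le_of_gt hlt
    obtain ⟨u, -, hun, huN⟩ := Cfsg.Agent.PGroups.exists_mem_notMem_normalizer
      (P.isPGroup'.to_le (inf_le_left : R ≤ (P : Subgroup G))) hlt'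
    have huN' : (u : G) ∈ N := by
      rw [hN, Subgroup.mem_normalizer_iff]
      intro q
      constructor
      · intro hq
        exact (Subgroup.mem_normalizer_iff.1 huN ⟨q, hDR hq⟩).1 hq
      · intro hq
        have h1 := (Subgroup.mem_normalizer_iff''.1 huN ⟨_, hDR hq⟩).1 hq
        have h2 : ((u : G))⁻¹ * ((u : G) * q * (u : G)⁻¹) * u ∈ D := h1
        simpa [mul_assoc] using h2
    obtain ⟨huP, w, hw, hwu⟩ := u.2
    have hwN : x⁻¹ * (u : G) * x ∈ N :=
      N.mul_mem (N.mul_mem (N.inv_mem y.2) huN') y.2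
    have huw : x⁻¹ * (u : G) * x ∈ (P : Subgroup G) := by
      rw [← hwu]
      simp only [MonoidHom.coe_coe, MulEquiv.coe_toMonoidHom, MulAut.conj_apply]
      simpa [mul_assoc] using (show w ∈ (P : Subgroup G) from hw)
    have hc := hy ⟨u, huN'⟩ huP (Subgroup.mem_subgroupOf.2 (by exact huw))
    exact hun (hA ⟨huP, Subgroup.mem_centralizer_singleton_iff.2 (congrArg Subtype.val hc)⟩)

end Cfsg.Agent.S0956
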