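import Cfsg.Statements.S0957
import Cfsg.Agent.H36.Basic

set_option autoImplicit false
set_option maxHeartbeats 2000000
open Cfsg

namespace Cfsg.Agent.S0957

/-- Let P be a Sylow p-subgroup of the finite group G, let g, h ∈ G and let p ^ d be the order of a Sylow p-subgroup of the centralizer of g. Then the number of pairs (y, z) with y conjugate to g, z conjugate to h and z * y⁻¹ ∈ P is divisible by the order of P divided by p ^ d. -/
theorem result {G : Type*} [Group G] [Finite G] (p : ℕ) [Fact p.Prime] (P : Sylow p G) (g h : G) (S : Sylow p (Subgroup.centralizer ({g} : Set G))) : Nat.card P / Nat.card S ∣ Nat.card {yz : G × G // IsConj g yz.1 ∧ IsConj h yz.2 ∧ yz.2 * yz.1⁻¹ ∈ (P : Subgroup G)} := by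
  classical
  have hp := (Fact.out : p.Prime)
  let X := {yz : G × G // IsConj g yz.1 ∧ IsConj h yz.2 ∧ yz.2 * yz.1⁻¹ ∈ (P : Subgroup G)}
  have hmem : ∀ (u : (P : Subgroup G)) (yz : X),
      IsConj g ((u : G) * yz.1.1 * (u : G)⁻¹) ∧ IsConj h ((u : G) * yz.1.2 * (u : G)⁻¹) ∧
      ((u : G) * yz.1.2 * (u : G)⁻¹) * ((u : G) * yz.1.1 * (u : G)⁻¹)⁻¹ ∈ (P : Subgroup G) := by
    intro u yz
    refine ⟨yz.2.1.trans (isConj_iff.2 ⟨u, rfl⟩), yz.2.2.1.trans (isConj_iff.2 ⟨u, rfl⟩), ?_⟩
    have := mul_mem (mul_mem u.2 yz.2.2.2) (inv_mem u.2)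
    convert this using 1
    group
  letI : MulAction (P : Subgroup G) X :=
    { smul := fun u yz => ⟨((u : G) * yz.1.1 * (u : G)⁻¹, (u : G) * yz.1.2 * (u : G)⁻¹), hmem u yz⟩
      one_smul := fun yz => Subtype.ext (Prod.ext (by simp [HSMul.hSMul]) (by simp [HSMul.hSMul]))
      mul_smul := fun a b yz => Subtype.ext (Prod.ext (by simp [HSMul.hSMul, mul_assoc])
        (by simp [HSMul.hSMul, mul_assoc])) }
  haveI := Fintype.ofFinite (MulAction.orbitRel.Quotient (P : Subgroup G) X)
  rw [Nat.card_congr (MulAction.selfEquivSigmaOrbits (P : Subgroup G) X), Nat.card_sigma]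
  refine Finset.dvd_sum fun q _ => ?_
  set yz := Quotient.out q
  set K := MulAction.stabilizer (P : Subgroup G) yz
  obtain ⟨c, hc⟩ := isConj_iff.1 yz.2.1
  have hK : ∀ u : K, c⁻¹ * (((u : (P : Subgroup G)) : G)) * c ∈
      Subgroup.centralizer ({g} : Set G) := by
    rintro ⟨u, hu⟩
    have h1 : (u : G) * yz.1.1 * (u : G)⁻¹ = yz.1.1 := congrArg (fun w : X => w.1.1) hu
    rw [← hc] at h1
    rw [Subgroup.mem_centralizer_singleton_iff]
    calc c⁻¹ * (u : G) * c * g = c⁻¹ * ((u : G) * (c * g * c⁻¹) * (u : G)⁻¹) * (u : G) * c := by group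
      _ = g * (c⁻¹ * (u : G) * c) := by rw [h1]; group
  let φ : K →* Subgroup.centralizer ({g} : Set G) :=
    { toFun := fun u => ⟨_, hK u⟩
      map_one' := Subtype.ext (by simp)
      map_mul' := fun a b => Subtype.ext (by simp [mul_assoc]) }
  have hφ : Function.Injective φ := fun a b hab => by
    have := congrArg Subtype.val hab
    exact Subtype.ext (Subtype.ext (by simpa [φ] using this))
  have hr : IsPGroup p φ.range := by
    have h1 : IsPGroup p (P : Subgroup G) := P.2
    exact (h1.to_subgroup K).of_surjective φ.rangeRestrict φ.rangeRestrict_surjective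
  obtain ⟨S', hS'⟩ := hr.exists_le_sylow
  have hle : Nat.card K ≤ Nat.card S := by
    rw [Nat.card_congr (MonoidHom.ofInjective hφ).toEquiv, S.card_eq_multiplicity,
      ← S'.card_eq_multiplicity]
    exact Subgroup.card_le_of_le hS'
  obtain ⟨a, ha⟩ := P.2.exists_card_eq
  obtain ⟨d, hd⟩ := S.2.exists_card_eq
  obtain ⟨j, -, hj⟩ := (Nat.dvd_prime_pow hp).1 (ha ▸ K.card_subgroup_dvd_card)
  obtain ⟨b, -, hb⟩ := (Nat.dvd_prime_pow hp).1 (ha ▸ (Subgroup.index_dvd_card (H := K)))
  have hab := K.card_mul_index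
  rw [hj, hb, ha, ← pow_add] at hab
  have hab' := Nat.pow_right_injective hp.two_le hab
  rw [hj, hd, Nat.pow_le_pow_iff_right hp.one_lt] at hle
  rw [Nat.card_congr (MulAction.orbitEquivQuotientStabilizer _ yz), ← Subgroup.index_eq_card]
  show Nat.card (P : Subgroup G) / Nat.card (S : Subgroup (Subgroup.centralizer ({g} : Set G))) ∣ K.index
  rw [ha, hd, hb]
  rcases le_or_gt d a with hda | hda
  · rw [Nat.pow_div hda hp.pos]; exact pow_dvd_pow p (by omega)
  · exfalso
    have h1 : IsPGroup p ((S : Subgroup _).map (Subgroup.centralizer ({g} : Set G)).subtype) :=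
      S.2.map _
    obtain ⟨Q, hQ⟩ := h1.exists_le_sylow
    have := Subgroup.card_le_of_le hQ
    rw [Subgroup.card_subtype, hd, Q.card_eq_multiplicity, ← P.card_eq_multiplicity, ha,
      Nat.pow_le_pow_iff_right hp.one_lt] at this
    omega

end Cfsg.Agent.S0957
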