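import Cfsg.Statements.S0959
import Cfsg.Agent.H35.Consequences
-- import your own Cfsg.Agent.* helpers here

set_option autoImplicit false
open Cfsg

namespace Cfsg.Agent.S0959

/-- Let B be a block of the finite group G with defect group D (relative to a maximal ideal M of the algebraic integers containing the prime p), and let P be a p-subgroup. Then there is an element g whose idempotent coefficient for B is a local integer outside the local ideal at M and which has a conjugate centralizing P, if and only if some conjugate of P is contained in D. -/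
theorem result {G : Type*} [Group G] [Finite G] (p : ℕ) [Fact p.Prime] (M : Ideal Cfsg.AlgInt) (hM : Cfsg.IsPModular p M) (B : Set (Cfsg.IrrCharacter G)) (hB : Cfsg.IsPBlock M B) (D : Subgroup G) (hD : Cfsg.IsDefectGroup p M B D) (P : Subgroup G) (hP : IsPGroup p P) : (∃ g : G, Cfsg.MemLocalRing M (Cfsg.blockCoeff B g) ∧ ¬ Cfsg.MemLocalIdeal M (Cfsg.blockCoeff B g) ∧ ∃ c : G, IsConj g c ∧ c ∈ Subgroup.centralizer (P : Set G)) ↔ ∃ x : G, P.map (MulAut.conj x).toMonoidHom ≤ D := by
  classical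
  constructor
  · rintro ⟨g, -, hg, c, hgc, hc⟩
    have hc' : ¬ MemLocalIdeal M (blockCoeff B c) := by
      rwa [Cfsg.Agent.H35.blockCoeff_eq_of_isConj B hgc]
    obtain ⟨E, hE, hPE⟩ := Cfsg.Agent.H35.exists_defectGroup_ge hM hB hc' P hP fun q hq =>
      Subgroup.mem_centralizer_singleton_iff.2 (Subgroup.mem_centralizer_iff.1 hc q hq)
    obtain ⟨x, hx⟩ := Cfsg.Agent.H35.defectGroup_le_conj hM hB hD hE
    refine ⟨x⁻¹, ?_⟩
    rintro _ ⟨q, hq, rfl⟩
    obtain ⟨d, hd, hdq⟩ := hx (hPE hq)
    rw [← hdq]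
    simpa [mul_assoc] using hd
  · rintro ⟨x, hx⟩
    obtain ⟨g, hg, S, rfl⟩ := hD
    refine ⟨g, hg.1, hg.2.1, x⁻¹ * g * x, isConj_iff.2 ⟨x⁻¹, by simp⟩, ?_⟩
    rw [Subgroup.mem_centralizer_iff]
    intro q hq
    have hC : (MulAut.conj x) q ∈ Subgroup.centralizer ({g} : Set G) :=
      Subgroup.map_subtype_le _ (hx ⟨q, hq, rfl⟩)
    have h1 := Subgroup.mem_centralizer_singleton_iff.1 hC
    rw [MulAut.conj_apply] at h1
    calc q * (x⁻¹ * g * x) = x⁻¹ * (x * q * x⁻¹ * g) * x := by group
      _ = x⁻¹ * (g * (x * q * x⁻¹)) * x := by rw [h1]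
      _ = x⁻¹ * g * x * q := by group

end Cfsg.Agent.S0959
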