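import Cfsg.Statements.S0961
import Cfsg.Agent.H83.RegSum
import Cfsg.Agent.CharInduce.Ops
-- import your own Cfsg.Agent.* helpers here

set_option autoImplicit false
open Cfsg

namespace Cfsg.Agent.S0961

/-- Let χ be an irreducible character of the finite group G and let p ^ a be the largest power of the prime p dividing the order of G. Then the function equal to p ^ a * χ x at elements x of order prime to p and to 0 elsewhere is a generalized character (a difference of characters). -/
theorem result {G : Type*} [Group G] [Finite G] (p : ℕ) [Fact p.Prime] (χ : Cfsg.IrrCharacter G) : Cfsg.IsGeneralizedCharacter G (fun x : G => if p ∣ orderOf x then 0 else ((p ^ (Nat.card G).factorization p : ℕ) : ℂ) * (χ : G → ℂ) x) := by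
  classical
  cases nonempty_fintype G
  have hf : (fun x : G => if p ∣ orderOf x then 0 else
      ((p ^ (Nat.card G).factorization p : ℕ) : ℂ) * (χ : G → ℂ) x) =
      ((p ^ (Nat.card G).factorization p : ℕ) : ℂ) • Cfsg.pRegularPart p (χ : G → ℂ) := by
    funext x
    by_cases hx : p ∣ orderOf x <;>
      simp [Cfsg.pRegularPart, Cfsg.IsPRegular, hx]
  refine Cfsg.Agent.CharInduce.isGeneralizedCharacter_of_coeff (fun g x => ?_) fun ψ => ?_
  · have hord : orderOf (x * g * x⁻¹) = orderOf g :=
      (MulAut.conj x).orderOf_eq g
    simp only [hord, Cfsg.Agent.CharBasic.IsIrr.isClassFunction χ.2 g x]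
  · obtain ⟨n, hn⟩ := Cfsg.Agent.H83.card_part_mul_classInner (p := p) χ ψ
    refine ⟨n, ?_⟩
    rw [hf, Cfsg.Agent.CharBasic.classInner_smul_left, hn]

end Cfsg.Agent.S0961
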