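import Cfsg.Statements.S0967
import Cfsg.Agent.BlockBasic.Kernel
import Cfsg.Agent.CharInduce.Ops
-- import your own Cfsg.Agent.* helpers here

set_option autoImplicit false
open Cfsg

namespace Cfsg.Agent.S0967

open Cfsg.Agent

/-- Every coset of a normal `p'`-subgroup has an element whose class length differs from that of the
coset by a factor prime to `p`. -/
theorem exists_lift {G : Type*} [Group G] [Finite G] {p : ℕ} [Fact p.Prime] (N : Subgroup G)
    [N.Normal] (hN : ¬ p ∣ Nat.card N) (h : G ⧸ N) :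
    ∃ g : G, (g : G ⧸ N) = h ∧ ∃ k : ℕ, ¬ p ∣ k ∧
      (Subgroup.centralizer ({g} : Set G)).index =
        k * (Subgroup.centralizer ({h} : Set (G ⧸ N))).index := by
  classical
  obtain ⟨g₀, rfl⟩ := QuotientGroup.mk_surjective h
  set C := (Subgroup.centralizer ({(g₀ : G ⧸ N)} : Set (G ⧸ N))).comap (QuotientGroup.mk' N)
  obtain ⟨P⟩ := Sylow.nonempty (p := p) (G := C)
  let X := {g : G // (g : G ⧸ N) = (g₀ : G ⧸ N)}
  letI : MulAction P X :=
    { smul := fun c x => ⟨(c.1 : G) * x.1 * (c.1 : G)⁻¹, by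
        have hc : ((c.1 : G) : G ⧸ N) * (g₀ : G ⧸ N) = (g₀ : G ⧸ N) * ((c.1 : G) : G ⧸ N) :=
          Subgroup.mem_centralizer_singleton_iff.1 c.1.2
        rw [QuotientGroup.mk_mul, QuotientGroup.mk_mul, x.2, hc, QuotientGroup.mk_inv,
          mul_inv_cancel_right]⟩
      one_smul := fun x => Subtype.ext (show ((1 : P).1 : G) * x.1 * ((1 : P).1 : G)⁻¹ = x.1 by simp)
      mul_smul := fun a b x => Subtype.ext (show (((a * b : P)).1 : G) * x.1 * (((a * b : P)).1 : G)⁻¹ =
        (a.1 : G) * ((b.1 : G) * x.1 * (b.1 : G)⁻¹) * (a.1 : G)⁻¹ by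
          simp [mul_assoc]) }
  have hX : Nat.card X = Nat.card N := (Nat.card_congr
    { toFun := fun n : N => (⟨g₀ * n, by simp⟩ : X)
      invFun := fun x => ⟨g₀⁻¹ * x.1, (QuotientGroup.eq.1 x.2.symm)⟩
      left_inv := fun n => by simp
      right_inv := fun x => by simp }).symm
  obtain ⟨x, hx⟩ := P.2.nonempty_fixed_point_of_prime_not_dvd_card X (hX ▸ hN)
  refine ⟨x.1, x.2, (Subgroup.centralizer ({x.1} : Set G)).relIndex C, fun hd => ?_, ?_⟩
  · refine P.not_dvd_index (hd.trans (Subgroup.index_dvd_of_le ?_))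
    intro c hc
    rw [Subgroup.mem_subgroupOf, Subgroup.mem_centralizer_singleton_iff]
    have := congrArg Subtype.val (hx ⟨c, hc⟩)
    exact mul_inv_eq_iff_eq_mul.1 this
  · rw [← Subgroup.index_comap_of_surjective _ (QuotientGroup.mk'_surjective N),
      Subgroup.relIndex_mul_index]
    intro c hc
    rw [Subgroup.mem_comap, Subgroup.mem_centralizer_singleton_iff, ← x.2,
      QuotientGroup.mk'_apply, ← QuotientGroup.mk_mul, ← QuotientGroup.mk_mul,
      Subgroup.mem_centralizer_singleton_iff.1 hc]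

/-- Let N be a normal subgroup of the finite group G of order prime to p and fix a maximal ideal M of the algebraic integers containing p. If χ is an irreducible character of G ⧸ N and ψ lies in the block of its inflation χ ∘ (quotient map), then ψ is itself inflated from an irreducible character ψ' of G ⧸ N lying in the block of χ. (Over a normal p'-subgroup, blocks of the quotient are whole blocks of G.) -/
theorem result {G : Type*} [Group G] [Finite G] (p : ℕ) [Fact p.Prime] (M : Ideal Cfsg.AlgInt) (hM : Cfsg.IsPModular p M) (N : Subgroup G) [N.Normal] (hN : ¬ p ∣ Nat.card N) (χ : Cfsg.IrrCharacter (G ⧸ N)) (ψ : Cfsg.IrrCharacter G) (hψ : ψ ∈ Cfsg.blockOf M ((χ : G ⧸ N → ℂ) ∘ QuotientGroup.mk)) : ∃ ψ' : Cfsg.IrrCharacter (G ⧸ N), (ψ : G → ℂ) = (ψ' : G ⧸ N → ℂ) ∘ QuotientGroup.mk ∧ Cfsg.SameBlock M (χ : G ⧸ N → ℂ) (ψ' : G ⧸ N → ℂ) := by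
  classical
  cases nonempty_fintype G
  let χG : IrrCharacter G :=
    ⟨(χ : G ⧸ N → ℂ) ∘ QuotientGroup.mk,
      CharInduce.IsIrr.comp χ.2 (QuotientGroup.mk' N) (QuotientGroup.mk'_surjective N)⟩
  have hker : ∀ n ∈ N, (χG : G → ℂ) n = (χG : G → ℂ) 1 := fun n hn =>
    congrArg (χ : G ⧸ N → ℂ) (((QuotientGroup.eq_one_iff n).2 hn).trans (QuotientGroup.mk_one N).symm)
  obtain ⟨f, -, hf, hirr⟩ := CharInduce.IsChar.exists_deflate (CharBasic.IsIrr.isCharacter ψ.2) N
    fun n hn => BlockBasic.le_blockKer (χ := χG) hM hψ N hN hker hn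
  refine ⟨⟨f, hirr ψ.2⟩, funext hf, fun h => ?_⟩
  obtain ⟨g, rfl, k, hk, hidx⟩ := exists_lift N hN h
  have h0 := BlockBasic.memLocalIdeal_mul hM (BlockBasic.memLocalRing_natCast_inv hM hk) (hψ g)
  have hk0 : (k : ℂ) ≠ 0 := Nat.cast_ne_zero.2 fun e => hk (e ▸ dvd_zero p)
  refine (congrArg (MemLocalIdeal M) ?_).mp h0
  show (k : ℂ)⁻¹ * (centralChar ((χ : G ⧸ N → ℂ) ∘ QuotientGroup.mk) g - centralChar (ψ : G → ℂ) g) =
    centralChar (χ : G ⧸ N → ℂ) g - centralChar f g
  simp only [centralChar, Function.comp_apply, hf, hidx, QuotientGroup.mk_one, Nat.cast_mul]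
  field_simp

end Cfsg.Agent.S0967
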