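import Cfsg.Statements.S0971
import Cfsg.Agent.BlockBasic.Kernel
-- import your own Cfsg.Agent.* helpers here

set_option autoImplicit false
open Cfsg Cfsg.Agent.BlockBasic

namespace Cfsg.Agent.S0971

/-- Let Q be a normal p-subgroup of the finite group G, let N = Q ⊔ C_G(Q) (a normal subgroup) and let b be a block of N relative to a maximal ideal M of the algebraic integers containing p. Then b induces some block of G, and every block B of G containing a character whose restriction to N has a constituent in b is induced by b. -/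
theorem result {G : Type*} [Group G] [Fintype G] (p : ℕ) [Fact p.Prime] (M : Ideal Cfsg.AlgInt) (hM : Cfsg.IsPModular p M) (Q : Subgroup G) [Q.Normal] (hQ : IsPGroup p Q) [Fintype ↥(Q ⊔ Subgroup.centralizer (Q : Set G))] (b : Set (Cfsg.IrrCharacter ↥(Q ⊔ Subgroup.centralizer (Q : Set G)))) (hb : Cfsg.IsPBlock M b) : Cfsg.InducedBlockDefined M (Q ⊔ Subgroup.centralizer (Q : Set G)) b ∧ ∀ B : Set (Cfsg.IrrCharacter G), Cfsg.IsPBlock M B → (∃ χ ∈ B, ∃ θ ∈ b, Cfsg.classInner (fun n : ↥(Q ⊔ Subgroup.centralizer (Q : Set G)) => (χ : G → ℂ) n) (θ : ↥(Q ⊔ Subgroup.centralizer (Q : Set G)) → ℂ) ≠ 0) → Cfsg.IsInducedBlock M (Q ⊔ Subgroup.centralizer (Q : Set G)) b B := by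
  classical
  haveI hNn : (Q ⊔ Subgroup.centralizer (Q : Set G)).Normal := inferInstance
  have hNQ : (Q ⊔ Subgroup.centralizer (Q : Set G)) ≤ Subgroup.normalizer (Q : Set G) := by
    rw [Subgroup.normalizer_eq_top]
    exact le_top
  refine ⟨inducedBlockDefined hM hQ le_sup_left le_sup_right hNQ hb, fun B hB hcov => ?_⟩
  refine ⟨hb, hB, fun ξ hξ χ hχ g => ?_⟩
  by_cases hg : g ∈ (Q ⊔ Subgroup.centralizer (Q : Set G))
  · have := memLocalIdeal_neg ((covers_iff hM hB hb).1 hcov χ hχ ξ hξ ⟨g, hg⟩)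
    simpa using this
  · have h0 : inducedCentralChar (Q ⊔ Subgroup.centralizer (Q : Set G)) (ξ : ↥(Q ⊔ Subgroup.centralizer (Q : Set G)) → ℂ) g = 0 := by
      rw [inducedCentralChar]
      convert finsum_mem_empty
      refine Set.eq_empty_iff_forall_notMem.2 fun h hc => hg ?_
      obtain ⟨c, hc⟩ := isConj_iff.1 (hc : IsConj g (h : G))
      have := hNn.conj_mem _ h.2 c⁻¹
      simpa [← hc, mul_assoc] using this
    rw [h0, zero_sub]
    exact memLocalIdeal_neg (centralChar_mem_of_not_centralizer hM Q hQ χ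
      fun hc => hg ((le_sup_right : Subgroup.centralizer (Q : Set G) ≤ (Q ⊔ Subgroup.centralizer (Q : Set G))) hc))

end Cfsg.Agent.S0971
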