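import Cfsg.Statements.S0973
import Cfsg.Agent.BlockBasic.LocalBlocks
open Cfsg.Agent.BlockBasic

set_option autoImplicit false
open Cfsg

namespace Cfsg.Agent.S0973

/-- Let B be a block of the finite group G with defect group P (relative to a maximal ideal M of the algebraic integers containing p), and let L = P ⊔ C_G(P). Then (i) some block b of L with defect group P (viewed in L) induces B, and (ii) if b and b' are blocks of L both inducing B, there is n ∈ N_G(P) carrying b to b': for every θ ∈ b there is θ' ∈ b' with θ' x = θ (n x n⁻¹) for all x ∈ L. -/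
theorem result {G : Type*} [Group G] [Finite G] (p : ℕ) [Fact p.Prime] (M : Ideal Cfsg.AlgInt) (hM : Cfsg.IsPModular p M) (B : Set (Cfsg.IrrCharacter G)) (hB : Cfsg.IsPBlock M B) (P : Subgroup G) (hP : Cfsg.IsDefectGroup p M B P) : (∃ b : Set (Cfsg.IrrCharacter ↥(P ⊔ Subgroup.centralizer (P : Set G))), Cfsg.IsDefectGroup p M b (P.subgroupOf (P ⊔ Subgroup.centralizer (P : Set G))) ∧ Cfsg.IsInducedBlock M (P ⊔ Subgroup.centralizer (P : Set G)) b B) ∧ ∀ b b' : Set (Cfsg.IrrCharacter ↥(P ⊔ Subgroup.centralizer (P : Set G))), Cfsg.IsInducedBlock M (P ⊔ Subgroup.centralizer (P : Set G)) b B → Cfsg.IsInducedBlock M (P ⊔ Subgroup.centralizer (P : Set G)) b' B → ∃ n ∈ Subgroup.normalizer (P : Set G), ∀ θ ∈ b, ∃ θ' ∈ b', ∀ x : ↥(P ⊔ Subgroup.centralizer (P : Set G)), ∀ hx : n * (x : G) * n⁻¹ ∈ P ⊔ Subgroup.centralizer (P : Set G), (θ' : ↥(P ⊔ Subgroup.centralizer (P : Set G)) → ℂ) x = (θ : ↥(P ⊔ Subgroup.centralizer (P : Set G)) → ℂ) ⟨n * (x : G) *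 n⁻¹, hx⟩ := by
  cases nonempty_fintype G
  haveI := Fintype.ofFinite ↥(P ⊔ Subgroup.centralizer (P : Set G))
  obtain ⟨g, hloc, hg⟩ := exists_localClass hP
  have hPp : IsPGroup p P := by
    obtain ⟨S, hS⟩ := hloc.2
    exact hS ▸ H35.sylImage_isPGroup S
  have hLN := sup_centralizer_le_normalizer P
  refine ⟨?_, ?_⟩
  · obtain ⟨ξ, hξ⟩ := exists_root (L := P ⊔ Subgroup.centralizer (P : Set G)) hM hPp le_sup_left
      le_sup_right hLN hB hloc.1 hg.2.1
    exact ⟨_, isDefectGroup_root hM hPp le_sup_left hLN hP hξ, hξ⟩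
  · intro b b' hb hb'
    obtain ⟨ξ, hξ⟩ := isPBlock_nonempty hM hb.1
    obtain ⟨ξ', hξ'⟩ := isPBlock_nonempty hM hb'.1
    have hb1 := hb
    have hb1' := hb'
    rw [isPBlock_eq_blockOf hM hb.1 hξ] at hb1
    rw [isPBlock_eq_blockOf hM hb'.1 hξ'] at hb1'
    obtain ⟨n, hn, hsame⟩ := exists_normTwist_sameBlock hM (Subgroup.normalizer (P : Set G))
      (normalizer_le_normalizer_sup P) (θ := ξ') (φ := ξ) fun z hzs hzi hzN =>
        omega_congr_of_roots hM hPp le_sup_left le_sup_right hLN (normalizer_le_normalizer_sup P)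
          hloc hg.2.2 hb1' hb1 hzs hzi hzN
    refine ⟨n, hn, fun θ hθ => ⟨normTwist θ ⟨n, normalizer_le_normalizer_sup P hn⟩, ?_,
      fun x hx => normTwist_apply θ _ x hx⟩⟩
    rw [isPBlock_eq_blockOf hM hb'.1 hξ']
    exact sameBlock_trans hM (sameBlock_symm hsame)
      (sameBlock_aut _ (isPBlock_sameBlock hM hb.1 hξ hθ))

end Cfsg.Agent.S0973
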