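import Cfsg.Statements.S0975
import Cfsg.Agent.H36.NoSimple
-- import your own Cfsg.Agent.* helpers here

set_option autoImplicit false
set_option maxRecDepth 4000
open Cfsg

namespace Cfsg.Agent.S0975

/-- No finite simple group has order 3744 = 2^5 * 3^2 * 13. -/
theorem result {G : Type*} [Group G] [Finite G] [IsSimpleGroup G] : Nat.card G ≠ 3744 := by
  intro hn
  have hG : ¬ IsMulCommutative G :=
    Agent.H36.not_isMulCommutative_of_dvd Nat.prime_two Nat.prime_three (by norm_num)
      (by rw [hn]; norm_num) (by rw [hn]; norm_num)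
  haveI : Fact (Nat.Prime 13) := ⟨by norm_num⟩
  obtain ⟨P⟩ := Sylow.nonempty (p := 13) (G := G)
  have hP : Nat.card (P : Subgroup G) = 13 := by
    have := Agent.H36.card_sylow_eq (a := 1) (m := 288) hn P (by norm_num) (by norm_num)
    simpa using this
  have hk := Agent.H36.card_sylow_mem_list (p := 13) hn 1 2 [32, 9] (by norm_num) (by norm_num)
    (by norm_num) Nat.prime_two (by norm_num) {144} (by decide +kernel)
  rw [Finset.mem_singleton] at hk
  exact Agent.H36.false_of_degree_two hG (by norm_num) P hP
    (Agent.H36.card_normalizer_of_card_sylow P hn hk (by norm_num)) (13 :: [32, 9]) (by decide)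
    (by rw [hn]; rfl) (by decide +kernel) (by decide +kernel)

end Cfsg.Agent.S0975
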