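import Cfsg.Statements.S0986
import Cfsg.Agent.H36.Basic
import Mathlib.GroupTheory.Nilpotent

set_option autoImplicit false
open Cfsg

namespace Cfsg.Agent.S0986

/-- Let P and Q be distinct Sylow p-subgroups of a finite group G chosen so that the order of P ∩ Q is as large as possible among intersections of two distinct Sylow p-subgroups, and let N be the normalizer of P ∩ Q. Then N has more than one Sylow p-subgroup, any two distinct Sylow p-subgroups of N intersect exactly in P ∩ Q, and each Sylow p-subgroup of N lies in exactly one Sylow p-subgroup of G. -/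
theorem result {G : Type*} [Group G] [Finite G] (p : ℕ) [Fact p.Prime] (P Q : Sylow p G) (hPQ : P ≠ Q) (hmax : ∀ P' Q' : Sylow p G, P' ≠ Q' → Nat.card ↥((P' : Subgroup G) ⊓ (Q' : Subgroup G)) ≤ Nat.card ↥((P : Subgroup G) ⊓ (Q : Subgroup G))) : 1 < Nat.card (Sylow p ↥(Subgroup.normalizer (((P : Subgroup G) ⊓ (Q : Subgroup G) : Subgroup G) : Set G))) ∧ (∀ S T : Sylow p ↥(Subgroup.normalizer (((P : Subgroup G) ⊓ (Q : Subgroup G) : Subgroup G) : Set G)), S ≠ T → (S : Subgroup _) ⊓ (T : Subgroup _) = ((P : Subgroup G) ⊓ (Q : Subgroup G)).subgroupOf (Subgroup.normalizer (((P : Subgroup G) ⊓ (Q : Subgroup G) : Subgroup G) : Set G))) ∧ ∀ S : Sylow p ↥(Subgroup.normalizer (((P : Subgroup G) ⊓ (Q : Subgroup G) : Subgroup G) : Set G)), ∃! T : Sylow p G, (S : Subgroup _).map (Subgroup.normalizer (((P : Subgroup G) ⊓ (Q : Subgroup G) : Subgroup G) : Set G)).subtype ≤ (T : Subgroup G) := by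
  classical
  set D := (P : Subgroup G) ⊓ (Q : Subgroup G) with hD
  set N := Subgroup.normalizer (D : Set G) with hN
  have hDN : D ≤ N := Subgroup.le_normalizer
  have hne : ∀ {P Q : Sylow p G}, P ≠ Q → (P : Subgroup G) ⊓ Q < P := by
    intro P Q hPQ
    refine lt_of_le_of_ne inf_le_left fun h => hPQ ?_
    exact Sylow.ext (P.3 Q.2 (inf_eq_left.1 h)).symm
  have hgrow : ∀ R : Sylow p G, D < (R : Subgroup G) → D < (R : Subgroup G) ⊓ N := by
    intro R hR
    haveI := R.2.isNilpotent
    have hlt : D.subgroupOf (R : Subgroup G) <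
        Subgroup.normalizer ((D.subgroupOf (R : Subgroup G) : Subgroup _) : Set (R : Subgroup G)) :=
      Group.normalizerCondition_of_isNilpotent _ (lt_top_iff_ne_top.2 fun h =>
        hR.not_ge (Subgroup.subgroupOf_eq_top.1 h))
    obtain ⟨x, hx, hx'⟩ := SetLike.exists_of_lt hlt
    refine lt_of_le_of_ne (le_inf hR.le hDN) fun h => hx' ?_
    rw [Subgroup.mem_subgroupOf, h]
    refine ⟨x.2, Subgroup.mem_normalizer_iff.2 fun y => ⟨fun hy => ?_, fun hy => ?_⟩⟩
    · simpa [Subgroup.mem_subgroupOf] using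
        (Subgroup.mem_normalizer_iff.1 hx ⟨y, hR.le hy⟩).1 (by simpa [Subgroup.mem_subgroupOf] using hy)
    · have hyR : y ∈ (R : Subgroup G) := by
        have := mul_mem (mul_mem (inv_mem x.2) (hR.le hy)) x.2
        simpa [mul_assoc] using this
      simpa [Subgroup.mem_subgroupOf] using
        (Subgroup.mem_normalizer_iff.1 hx ⟨y, hyR⟩).2 (by simpa [Subgroup.mem_subgroupOf] using hy)
  have huniq : ∀ {T T' : Sylow p G} {S : Subgroup G}, D < S → S ≤ T → S ≤ T' → T = T' := by
    intro T T' S hDS hT hT'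
    by_contra hc
    have := hmax T T' hc
    exact absurd this (not_le.2 (lt_of_lt_of_le (Set.Finite.card_lt_card (Set.toFinite _) hDS)
      (Subgroup.card_le_of_le (le_inf hT hT'))))
  have hDnormal : (D.subgroupOf N).Normal :=
    Subgroup.normal_subgroupOf_of_le_normalizer le_rfl
  have hDp : IsPGroup p (D.subgroupOf N) :=
    (P.2.to_le inf_le_left).comap_of_injective N.subtype Subtype.coe_injective
  have hDS : ∀ S : Sylow p N, D.subgroupOf N ≤ (S : Subgroup N) :=
    fun S => hDp.le_sylow_of_normal S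
  have hDlt : ∀ S : Sylow p N, D < (S : Subgroup N).map N.subtype := by
    intro S
    refine lt_of_le_of_ne (by
      rw [← Subgroup.map_subgroupOf_eq_of_le hDN]; exact Subgroup.map_mono (hDS S)) fun h => ?_
    have h2 : IsPGroup p (((P : Subgroup G) ⊓ N).subgroupOf N) :=
      (P.2.to_le inf_le_left).comap_of_injective N.subtype Subtype.coe_injective
    obtain ⟨S', hS'⟩ := h2.exists_le_sylow
    have hcard : Nat.card (S' : Subgroup N) = Nat.card (S : Subgroup N) := by
      rw [S'.card_eq_multiplicity, S.card_eq_multiplicity]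
    have hlt := Set.Finite.card_lt_card (Set.toFinite _) (hgrow P (hne hPQ))
    have e1 := Subgroup.card_le_of_le (Subgroup.map_mono (f := N.subtype) hS')
    rw [Subgroup.map_subgroupOf_eq_of_le inf_le_right, Subgroup.card_subtype,
      hcard, ← Subgroup.card_subtype N (S : Subgroup N), ← h] at e1
    exact absurd e1 (not_le.2 hlt)
  have hex : ∀ S : Sylow p N, ∃ T : Sylow p G, (S : Subgroup N).map N.subtype ≤ T := fun S =>
    (S.2.map N.subtype).exists_le_sylow
  have hexu : ∀ S : Sylow p N, ∃! T : Sylow p G, (S : Subgroup N).map N.subtype ≤ T := by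
    intro S
    obtain ⟨T, hT⟩ := hex S
    exact ⟨T, hT, fun T' hT' => huniq (hDlt S) hT' hT⟩
  refine ⟨?_, ?_, hexu⟩
  · rw [Finite.one_lt_card_iff_nontrivial]
    by_contra hnt
    rw [not_nontrivial_iff_subsingleton] at hnt
    obtain ⟨S⟩ := Sylow.nonempty (p := p) (G := N)
    obtain ⟨T, hT⟩ := hex S
    have hin : ∀ R : Sylow p G, (R : Subgroup G) ⊓ N ≤ T := fun R => by
      have h2 : IsPGroup p (((R : Subgroup G) ⊓ N).subgroupOf N) :=
        (R.2.to_le inf_le_left).comap_of_injective N.subtype Subtype.coe_injective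
      obtain ⟨S', hS'⟩ := h2.exists_le_sylow
      rw [Subsingleton.elim S' S] at hS'
      have := (Subgroup.map_mono (f := N.subtype) hS').trans hT
      rwa [Subgroup.map_subgroupOf_eq_of_le inf_le_right] at this
    have hDQ : D < (Q : Subgroup G) := by rw [hD, inf_comm]; exact hne hPQ.symm
    exact hPQ ((huniq (hgrow P (hne hPQ)) inf_le_left (hin P)).trans
      (huniq (hgrow Q hDQ) inf_le_left (hin Q)).symm)
  · intro S T hST
    obtain ⟨A, hA⟩ := hex S
    obtain ⟨B, hB⟩ := hex T
    refine le_antisymm ?_ (le_inf (hDS S) (hDS T))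
    intro x hx
    rw [Subgroup.mem_subgroupOf]
    by_contra hxD
    have hlt : D < (D ⊔ Subgroup.zpowers (x : G)) := lt_of_le_of_ne le_sup_left fun h =>
      hxD (h ▸ (le_sup_right : _ ≤ D ⊔ Subgroup.zpowers (x : G)) (Subgroup.mem_zpowers _))
    have hleA : D ⊔ Subgroup.zpowers (x : G) ≤ A :=
      sup_le ((hDlt S).le.trans hA) (Subgroup.zpowers_le.2 (hA ⟨x, hx.1, rfl⟩))
    have hleB : D ⊔ Subgroup.zpowers (x : G) ≤ B :=
      sup_le ((hDlt T).le.trans hB) (Subgroup.zpowers_le.2 (hB ⟨x, hx.2, rfl⟩))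
    have hAB : A = B := huniq hlt hleA hleB
    apply hST
    have h2 : IsPGroup p (((A : Subgroup G) ⊓ N).subgroupOf N) :=
      (A.2.to_le inf_le_left).comap_of_injective N.subtype Subtype.coe_injective
    have l1 : (S : Subgroup N) ≤ ((A : Subgroup G) ⊓ N).subgroupOf N := fun y hy =>
      ⟨hA ⟨y, hy, rfl⟩, y.2⟩
    have l2 : (T : Subgroup N) ≤ ((A : Subgroup G) ⊓ N).subgroupOf N := fun y hy =>
      ⟨hAB ▸ hB ⟨y, hy, rfl⟩, y.2⟩
    exact Sylow.ext ((S.3 h2 l1).symm.trans (T.3 h2 l2))

end Cfsg.Agent.S0986
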