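import Cfsg.Statements.S0987
import Cfsg.Agent.H36.Basic

set_option autoImplicit false
open Cfsg

namespace Cfsg.Agent.S0987

/-- If a finite group has order pqr for primes p < q < r, then its Sylow r-subgroups are normal. -/
theorem result {G : Type*} [Group G] [Finite G] (p q r : ℕ) (hp : p.Prime) (hq : q.Prime) [Fact r.Prime] (hpq : p < q) (hqr : q < r) (hG : Nat.card G = p * q * r) (R : Sylow r G) : (R : Subgroup G).Normal := by
  have hr := (Fact.out : r.Prime)
  haveI : Fact p.Prime := ⟨hp⟩
  have hmin : (Nat.card G).minFac = p := by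
    apply le_antisymm (Nat.minFac_le_of_dvd hp.two_le (hG ▸ ⟨q * r, by ring⟩))
    have hprime : (Nat.card G).minFac.Prime := Nat.minFac_prime (by
      rw [hG]; exact (lt_of_lt_of_le hp.one_lt (Nat.le_mul_of_pos_right p
        (Nat.mul_pos hq.pos hr.pos) |>.trans_eq (by ring))).ne')
    have hd : (Nat.card G).minFac ∣ p * q * r := hG ▸ Nat.minFac_dvd _
    rcases hprime.dvd_mul.1 hd with h | h
    · rcases hprime.dvd_mul.1 h with h | h
      · rw [(Nat.prime_dvd_prime_iff_eq hprime hp).1 h]
      · rw [(Nat.prime_dvd_prime_iff_eq hprime hq).1 h]; omega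
    · rw [(Nat.prime_dvd_prime_iff_eq hprime hr).1 h]; omega
  have hpm : ¬ p ∣ q * r := by
    rw [hp.dvd_mul, Nat.prime_dvd_prime_iff_eq hp hq, Nat.prime_dvd_prime_iff_eq hp hr]; omega
  obtain ⟨P⟩ := Sylow.nonempty (p := p) (G := G)
  have hP : Nat.card P = p := by
    simpa using Cfsg.Agent.H36.card_sylow_eq hG P (a := 1) (m := q * r) (by ring) hpm
  have hcyc : IsCyclic (P : Subgroup G) := isCyclic_of_prime_card hP
  have hK := IsCyclic.isComplement' hmin hcyc
  set K := (MonoidHom.transferSylow P (hcyc.normalizer_le_centralizer hmin)).ker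
  have hKcard : Nat.card K = q * r := by
    have h1 := hK.card_mul
    have h2 : Nat.card (P : Subgroup G) = p := hP
    rw [h2, hG, mul_assoc] at h1
    exact Nat.eq_of_mul_eq_mul_right hp.pos (h1.trans (mul_comm _ _))
  obtain ⟨S⟩ := Sylow.nonempty (p := r) (G := K)
  have hrq : ¬ r ∣ q := fun h => by
    rw [Nat.prime_dvd_prime_iff_eq hr hq] at h; omega
  obtain ⟨hd, hm⟩ := Cfsg.Agent.H36.card_sylow_dvd hKcard (a := 1) (m := q) (p := r) (by ring) hrq
  have hS1 : Nat.card (Sylow r K) = 1 := by
    rcases (Nat.dvd_prime hq).1 hd with h | h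
    · exact h
    · rw [h, Nat.mod_eq_of_lt hqr] at hm; exact absurd hm hq.one_lt.ne'
  haveI : Subsingleton (Sylow r K) := (Nat.card_eq_one_iff_unique.1 hS1).1
  have hScard : Nat.card (S : Subgroup K) = r := by
    simpa using Cfsg.Agent.H36.card_sylow_eq hKcard S (a := 1) (m := q) (by ring) hrq
  have hnorm : ((S : Subgroup K).map K.subtype).Normal := inferInstance
  have hR : Nat.card R = r := by
    simpa using Cfsg.Agent.H36.card_sylow_eq hG R (a := 1) (m := p * q) (by ring)
      (by rw [hr.dvd_mul, Nat.prime_dvd_prime_iff_eq hr hp, Nat.prime_dvd_prime_iff_eq hr hq]; omega)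
  have hle : (S : Subgroup K).map K.subtype ≤ R :=
    (S.2.map K.subtype).le_sylow_of_normal R
  have : (S : Subgroup K).map K.subtype = R := Subgroup.eq_of_le_of_card_ge hle (by
    rw [Subgroup.card_subtype, hScard]; exact hR.le)
  rwa [← this]

end Cfsg.Agent.S0987
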