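import Cfsg.Statements.S0988
import Cfsg.Agent.H36.Fixed
import Cfsg.Agent.H36.Numeric
import Mathlib.GroupTheory.PGroup

set_option autoImplicit false
open Cfsg

namespace Cfsg.Agent.S0988

variable {G : Type*} [Group G] [Finite G] [IsSimpleGroup G]

theorem not_prime_pow (hG : ¬ IsMulCommutative G) {p k : ℕ} (hp : p.Prime) :
    Nat.card G ≠ p ^ k := by
  intro h
  haveI := Fact.mk hp
  haveI : Nontrivial G := IsSimpleGroup.toNontrivial
  have hc := (IsPGroup.of_card h).center_nontrivial
  exact (Subgroup.nontrivial_iff_ne_bot _).1 hc (Cfsg.Agent.H36.center_eq_bot_of_simple hG)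

/-- `p ^ 3 * r` is not the order of a simple group. -/
theorem not_cube (hG : ¬ IsMulCommutative G) {p r : ℕ} (hp : p.Prime) (hr : r.Prime) (hpr : p ≠ r) :
    Nat.card G ≠ p ^ 3 * r := by
  intro hn
  classical
  haveI := Fact.mk hp
  haveI := Fact.mk hr
  have hpr' : ¬ p ∣ r := fun h => hpr ((Nat.prime_dvd_prime_iff_eq hp hr).1 h)
  have hrp : ¬ r ∣ p ^ 3 := fun h => hpr ((Nat.prime_dvd_prime_iff_eq hr hp).1 (hr.dvd_of_dvd_pow h)).symm
  have hpG : p ∣ Nat.card G := hn ▸ dvd_mul_of_dvd_left (dvd_pow_self p (by norm_num)) r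
  have hrG : r ∣ Nat.card G := hn ▸ dvd_mul_left r _
  obtain ⟨hd, hm⟩ := Cfsg.Agent.H36.card_sylow_dvd (p := p) hn (a := 3) rfl hpr'
  have h1 := Cfsg.Agent.H36.card_sylow_ne_one' (G := G) (p := p) r hr hpr.symm hpG hrG
  have hnp : Nat.card (Sylow p G) = r := ((Nat.dvd_prime hr).1 hd).resolve_left h1
  rw [hnp] at hm
  have hlt : p < r := by
    by_contra hc
    rw [Nat.mod_eq_of_lt (by omega)] at hm
    exact hr.one_lt.ne hm.symm
  have hn' : Nat.card G = r ^ 1 * p ^ 3 := by rw [hn]; ring
  obtain ⟨hd', hm'⟩ := Cfsg.Agent.H36.card_sylow_dvd (p := r) hn' (a := 1) rfl hrp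
  have h1' := Cfsg.Agent.H36.card_sylow_ne_one' (G := G) (p := r) p hp hpr hrG hpG
  obtain ⟨i, hi, hi'⟩ := (Nat.dvd_prime_pow hp).1 hd'
  rw [hi'] at h1' hm'
  interval_cases i
  · exact h1' (pow_zero p)
  · rw [pow_one, Nat.mod_eq_of_lt hlt] at hm'; exact hp.one_lt.ne hm'.symm
  · -- `r ∣ p + 1`
    have hle : 1 ≤ p ^ 2 := Nat.one_le_pow _ _ hp.pos
    have h2 : r ∣ p ^ 2 - 1 := (Nat.modEq_iff_dvd' hle).1 (by
      show 1 % r = p ^ 2 % r
      rw [hm', Nat.mod_eq_of_lt hr.one_lt])
    rw [show p ^ 2 - 1 = (p + 1) * (p - 1) by rw [← Nat.sq_sub_sq]] at h2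
    rcases hr.dvd_mul.1 h2 with h3 | h3
    · have h4 : r = p + 1 := le_antisymm (Nat.le_of_dvd (by omega) h3) hlt
      have h5 : p = 2 := by
        rcases hp.eq_two_or_odd with h | h
        · exact h
        · exfalso
          have h6 : 2 ∣ r := by omega
          have := (Nat.prime_dvd_prime_iff_eq Nat.prime_two hr).1 h6
          have := hp.two_le
          omega
      subst h5
      obtain rfl : r = 3 := h4
      obtain ⟨R⟩ := Sylow.nonempty (p := 3) (G := G)
      have hidx : (Subgroup.normalizer ((R : Subgroup G) : Set G)).index = 4 :=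
        R.card_eq_index_normalizer.symm.trans (hi'.trans (by norm_num))
      have hne : Subgroup.normalizer ((R : Subgroup G) : Set G) ≠ ⊤ := fun ht => by
        rw [ht, Subgroup.index_top] at hidx; norm_num at hidx
      have h8 := Cfsg.Agent.H36.two_mul_card_dvd_factorial hG hne
      rw [hidx, hn] at h8
      norm_num [Nat.factorial] at h8
    · exact absurd (Nat.le_of_dvd (by have := hp.two_le; omega) h3) (by omega)
  · -- all elements outside a Sylow `p`-subgroup have order `r`
    obtain ⟨R⟩ := Sylow.nonempty (p := r) (G := G)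
    have hR : Nat.card (R : Subgroup G) = r := by
      simpa using Cfsg.Agent.H36.card_sylow_eq hn' R (a := 1) rfl hrp
    have hcount := Cfsg.Agent.H36.card_orderOf_eq R hR
    rw [hi'] at hcount
    haveI := Fintype.ofFinite G
    have hsub : ∀ P : Sylow p G, ((P : Subgroup G) : Set G) = {g : G | orderOf g ≠ r} := by
      intro P
      refine Set.eq_of_subset_of_ncard_le ?_ ?_ (Set.toFinite _)
      · intro g hg h
        have h' : orderOf (⟨g, hg⟩ : (P : Subgroup G)) = r := by rw [Subgroup.orderOf_mk, h]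
        have := h' ▸ orderOf_dvd_natCard (⟨g, hg⟩ : (P : Subgroup G))
        rw [Cfsg.Agent.H36.card_sylow_eq hn P (a := 3) rfl hpr'] at this
        exact hrp this
      · have e1 : Set.ncard ((P : Subgroup G) : Set G) = p ^ 3 :=
          (Nat.card_coe_set_eq _).symm.trans (Cfsg.Agent.H36.card_sylow_eq hn P (a := 3) rfl hpr')
        have e2 : Set.ncard {g : G | orderOf g ≠ r} + Set.ncard {g : G | orderOf g = r} =
            Nat.card G := by
          rw [add_comm, ← Set.ncard_add_ncard_compl {g : G | orderOf g = r}, Set.compl_setOf]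
        have e3 : Set.ncard {g : G | orderOf g = r} = p ^ 3 * (r - 1) :=
          (Nat.card_coe_set_eq _).symm.trans hcount
        rw [e1]
        rw [e3, hn] at e2
        have e4 : p ^ 3 * r = p ^ 3 * (r - 1) + p ^ 3 := by
          conv_lhs => rw [show r = (r - 1) + 1 by have := hr.two_le; omega]
          rw [mul_add, mul_one]
        omega
    apply h1
    rw [Nat.card_eq_one_iff_unique]
    exact ⟨⟨fun P Q => Sylow.ext (SetLike.coe_injective ((hsub P).trans (hsub Q).symm))⟩,
      Sylow.nonempty⟩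

/-- `p ^ 2 * q ^ 2` is not the order of a simple group. -/
theorem not_squares (hG : ¬ IsMulCommutative G) {p q : ℕ} (hp : p.Prime) (hq : q.Prime)
    (hlt : p < q) : Nat.card G ≠ p ^ 2 * q ^ 2 := by
  intro hn
  haveI := Fact.mk hq
  have hn' : Nat.card G = q ^ 2 * p ^ 2 := by rw [hn]; ring
  have hqp : ¬ q ∣ p ^ 2 := fun h => by
    have := (Nat.prime_dvd_prime_iff_eq hq hp).1 (hq.dvd_of_dvd_pow h); omega
  obtain ⟨hd, hm⟩ := Cfsg.Agent.H36.card_sylow_dvd (p := q) hn' (a := 2) rfl hqp
  have h1 := Cfsg.Agent.H36.card_sylow_ne_one' (G := G) (p := q) p hp hlt.ne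
    (hn' ▸ dvd_mul_of_dvd_left (dvd_pow_self q two_ne_zero) _)
    (hn ▸ dvd_mul_of_dvd_left (dvd_pow_self p two_ne_zero) _)
  obtain ⟨i, hi, hi'⟩ := (Nat.dvd_prime_pow hp).1 hd
  rw [hi'] at h1 hm
  interval_cases i
  · exact h1 (pow_zero p)
  · rw [pow_one, Nat.mod_eq_of_lt hlt] at hm; exact hp.one_lt.ne hm.symm
  · have hle : 1 ≤ p ^ 2 := Nat.one_le_pow _ _ hp.pos
    have h2 : q ∣ p ^ 2 - 1 := (Nat.modEq_iff_dvd' hle).1 (by
      show 1 % q = p ^ 2 % q
      rw [hm, Nat.mod_eq_of_lt hq.one_lt])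
    rw [show p ^ 2 - 1 = (p + 1) * (p - 1) by rw [← Nat.sq_sub_sq]] at h2
    rcases hq.dvd_mul.1 h2 with h3 | h3
    · have h4 : q = p + 1 := le_antisymm (Nat.le_of_dvd (by omega) h3) hlt
      have h5 : p = 2 := by
        rcases hp.eq_two_or_odd with h | h
        · exact h
        · exfalso
          have h6 : 2 ∣ q := by omega
          have := (Nat.prime_dvd_prime_iff_eq Nat.prime_two hq).1 h6
          have := hp.two_le
          omega
      subst h5
      obtain rfl : q = 3 := h4
      obtain ⟨R⟩ := Sylow.nonempty (p := 3) (G := G)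
      have hidx : (Subgroup.normalizer ((R : Subgroup G) : Set G)).index = 4 :=
        R.card_eq_index_normalizer.symm.trans (hi'.trans (by norm_num))
      have hne : Subgroup.normalizer ((R : Subgroup G) : Set G) ≠ ⊤ := fun ht => by
        rw [ht, Subgroup.index_top] at hidx; norm_num at hidx
      have h8 := Cfsg.Agent.H36.card_dvd_factorial hne
      rw [hidx, hn] at h8
      norm_num [Nat.factorial] at h8
    · exact absurd (Nat.le_of_dvd (by have := hp.two_le; omega) h3) (by omega)

/-- In `|G| = p^2 q r` with `p` smallest, `p = 2` and `3` is one of `q`, `r`. -/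
theorem two_three (hG : ¬ IsMulCommutative G) {p q r : ℕ} (hp : p.Prime) (hq : q.Prime)
    (hr : r.Prime) (hpq : p < q) (hpr : p < r) (hn : Nat.card G = p ^ 2 * (q * r)) :
    p = 2 ∧ (q = 3 ∨ r = 3) := by
  classical
  haveI := Fact.mk hp
  have hm : ¬ p ∣ q * r := by
    rw [hp.dvd_mul, Nat.prime_dvd_prime_iff_eq hp hq, Nat.prime_dvd_prime_iff_eq hp hr]; omega
  obtain ⟨P⟩ := Sylow.nonempty (p := p) (G := G)
  have hP := Cfsg.Agent.H36.card_sylow_eq hn P (a := 2) rfl hm
  set A := (P : Subgroup G)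
  have hA : Nat.card A = p ^ 2 := hP
  have hpG : p ∣ Nat.card G := hn ▸ dvd_mul_of_dvd_left (dvd_pow_self p two_ne_zero) _
  set e := (Subgroup.centralizer (A : Set G)).relIndex (Subgroup.normalizer (A : Set G))
  have he1 : 1 < e := Cfsg.Agent.H36.one_lt_relIndex_centralizer hG P hpG
  have hle : A ≤ Subgroup.centralizer (A : Set G) := fun a ha =>
    Subgroup.mem_centralizer_iff.2 fun b hb => congrArg Subtype.val
      ((IsPGroup.isMulCommutative_of_card_eq_prime_sq hA).is_comm.comm (⟨b, hb⟩ : A) ⟨a, ha⟩)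
  have he2 : e ∣ q * r := by
    have h := (Subgroup.relIndex_dvd_of_le_left (Subgroup.normalizer (A : Set G)) hle).trans
      (Subgroup.relIndex_dvd_index_of_le Subgroup.le_normalizer)
    rwa [Cfsg.Agent.H36.index_eq_of_card hn hA, Nat.mul_div_cancel_left _ (pow_pos hp.pos 2)] at h
  obtain ⟨s, hs, hse⟩ := Nat.exists_prime_and_dvd he1.ne'
  have hs' : s = q ∨ s = r := by
    rcases hs.dvd_mul.1 (hse.trans he2) with h | h
    · exact Or.inl ((Nat.prime_dvd_prime_iff_eq hs hq).1 h)
    · exact Or.inr ((Nat.prime_dvd_prime_iff_eq hs hr).1 h)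
  haveI := Fact.mk hs
  obtain ⟨α, hα⟩ := exists_prime_orderOf_dvd_card' (G := MulAut A) s
    (hse.trans (Cfsg.Agent.H36.relIndex_centralizer_dvd_mulAut A))
  have hpgrp : IsPGroup s (Subgroup.zpowers α) := IsPGroup.of_card (n := 1) (by
    rw [Nat.card_zpowers, hα, pow_one])
  have hcong := hpgrp.card_modEq_card_fixedPoints A
  let F : Subgroup A :=
    { carrier := {x | α x = x}
      one_mem' := map_one α
      mul_mem' := fun {a b} ha hb => by
        show α (a * b) = a * b
        rw [map_mul, ha, hb]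
      inv_mem' := fun {a} ha => by
        show α a⁻¹ = a⁻¹
        rw [map_inv, ha] }
  have hFfix : MulAction.fixedPoints (Subgroup.zpowers α) A = (F : Set A) := by
    ext x
    constructor
    · intro h
      exact h ⟨α, Subgroup.mem_zpowers α⟩
    · intro h β
      obtain ⟨β, hβ⟩ := β
      have hst : α ∈ MulAction.stabilizer (MulAut A) x := h
      exact (Subgroup.zpowers_le.2 hst) hβ
  rw [hFfix, hA, show Nat.card ↥(F : Set A) = Nat.card F from rfl] at hcong
  have hFne : F ≠ ⊤ := fun h => by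
    have : α = 1 := MulEquiv.ext fun x => (h ▸ Subgroup.mem_top x : x ∈ F)
    rw [this, orderOf_one] at hα
    exact hs.one_lt.ne hα
  obtain ⟨i, hi, hi'⟩ := (Nat.dvd_prime_pow hp).1 (hA ▸ F.card_subgroup_dvd_card)
  rw [hi'] at hcong
  have hsp : p < s := by rcases hs' with rfl | rfl <;> assumption
  have h2 := (Nat.modEq_iff_dvd' (Nat.pow_le_pow_right hp.pos hi)).1 hcong.symm
  have hne1 : ¬ s ∣ p - 1 := fun h =>
    absurd (Nat.le_of_dvd (by have := hp.two_le; omega) h) (by omega)
  interval_cases i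
  · rw [pow_zero, show p ^ 2 - 1 = (p + 1) * (p - 1) by rw [← Nat.sq_sub_sq]] at h2
    have h3 : s = p + 1 :=
      le_antisymm (Nat.le_of_dvd (by omega) ((hs.dvd_mul.1 h2).resolve_right hne1)) hsp
    have h5 : p = 2 := by
      rcases hp.eq_two_or_odd with h | h
      · exact h
      · exfalso
        have h6 : 2 ∣ s := by omega
        have := (Nat.prime_dvd_prime_iff_eq Nat.prime_two hs).1 h6
        have := hp.two_le
        omega
    refine ⟨h5, ?_⟩
    rcases hs' with h | h
    · left; omega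
    · right; omega
  · exfalso
    rw [pow_one, show p ^ 2 - p = p * (p - 1) by rw [Nat.mul_sub, mul_one, pow_two]] at h2
    rcases hs.dvd_mul.1 h2 with h | h
    · have := (Nat.prime_dvd_prime_iff_eq hs hp).1 h; omega
    · exact hne1 h
  · exfalso
    exact hFne (Subgroup.eq_top_of_card_eq F (hi'.trans hA.symm))

theorem smallest_not_single (hG : ¬ IsMulCommutative G) {s m : ℕ} (hs : s.Prime)
    (hn : Nat.card G = s * m) (hbig : ∀ t : ℕ, t.Prime → t ∣ m → s < t) : False := by
  haveI := Fact.mk hs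
  have hsG : s ∣ Nat.card G := hn ▸ dvd_mul_right s m
  have hmin : (Nat.card G).minFac = s := by
    apply le_antisymm (Nat.minFac_le_of_dvd hs.two_le hsG)
    have hprime : (Nat.card G).minFac.Prime := Nat.minFac_prime (fun h => hs.ne_one
      (Nat.dvd_one.1 (h ▸ hsG)))
    rcases hprime.dvd_mul.1 ((Nat.minFac_dvd (Nat.card G)).trans hn.dvd) with h | h
    · exact ((Nat.prime_dvd_prime_iff_eq hprime hs).1 h).ge
    · exact (hbig _ hprime h).le
  obtain ⟨P⟩ := Sylow.nonempty (p := s) (G := G)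
  have hP : Nat.card (P : Subgroup G) = s := by
    simpa using Cfsg.Agent.H36.card_sylow_eq hn P (a := 1) (m := m) (by rw [pow_one])
      (fun h => lt_irrefl s (hbig s hs h))
  exact Cfsg.Agent.H36.not_normalizer_le_centralizer hG P hsG
    ((isCyclic_of_prime_card hP).normalizer_le_centralizer hmin)

theorem order_twelve_mul (hG : ¬ IsMulCommutative G) {r : ℕ} (hr : r.Prime) (h3 : 3 < r)
    (hn : Nat.card G = 12 * r) : Nat.card G = 60 := by
  haveI := Fact.mk hr
  have hn' : Nat.card G = r ^ 1 * 12 := by rw [hn]; ring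
  have hr12 : ¬ r ∣ 12 := fun h => by
    have : r ∣ 2 * 2 * 3 := h
    rcases hr.dvd_mul.1 this with h | h
    · rcases hr.dvd_mul.1 h with h | h <;> exact absurd (Nat.le_of_dvd two_pos h) (by omega)
    · exact absurd (Nat.le_of_dvd three_pos h) (by omega)
  obtain ⟨hd, hm⟩ := Cfsg.Agent.H36.card_sylow_dvd (p := r) hn' (a := 1) rfl hr12
  have h1 := Cfsg.Agent.H36.card_sylow_ne_one' (G := G) (p := r) 2 Nat.prime_two (by omega)
    (hn ▸ dvd_mul_left r 12) (hn ▸ dvd_mul_of_dvd_left (by norm_num) r)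
  have hdiv := Nat.div_add_mod (Nat.card (Sylow r G)) r
  rw [hm] at hdiv
  have hle := Nat.le_of_dvd (by norm_num) hd
  have hk : 1 ≤ Nat.card (Sylow r G) / r := by
    rcases Nat.eq_zero_or_pos (Nat.card (Sylow r G) / r) with h | h
    · rw [h, mul_zero, zero_add] at hdiv; exact absurd hdiv.symm h1
    · exact h
  have hrle : r ≤ 11 := by
    have := Nat.mul_le_mul_left r hk
    omega
  have hcases : r = 5 ∨ r = 7 ∨ r = 11 := by
    interval_cases r <;> first
      | omega
      | (norm_num at hr)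
  rcases hcases with rfl | rfl | rfl
  · omega
  · exfalso; interval_cases h : Nat.card (Sylow 7 G) <;> omega
  · exfalso
    obtain ⟨R⟩ := Sylow.nonempty (p := 11) (G := G)
    have hR : Nat.card (R : Subgroup G) = 11 := by
      simpa using Cfsg.Agent.H36.card_sylow_eq hn' R (a := 1) rfl hr12
    have hs : Nat.card (Sylow 11 G) = 12 := by
      interval_cases h : Nat.card (Sylow 11 G) <;> omega
    have hN := Cfsg.Agent.H36.card_sylow_mul_normalizer R
    rw [hs, hn] at hN
    have hN' : Nat.card (Subgroup.normalizer ((R : Subgroup G) : Set G)) = 11 := by omega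
    have h4 := Cfsg.Agent.H36.one_lt_relIndex_centralizer hG R (hn ▸ dvd_mul_left 11 12)
    have h5 := Cfsg.Agent.H36.dvd_card_centralizer_of_prime hr _ hR
    have h6 := Cfsg.Agent.H36.card_normalizer_eq_mul (R : Subgroup G)
    rw [hN'] at h6
    have h7 := Nat.mul_le_mul (Nat.le_of_dvd Nat.card_pos h5) (Nat.succ_le_of_lt h4)
    omega

/-- If a finite simple group has order p^2 * q * r with p, q and r prime, then its order is 60. -/
theorem result {G : Type*} [Group G] [Finite G] [IsSimpleGroup G] (p q r : ℕ) (hp : p.Prime) (hq : q.Prime) (hr : r.Prime) (hG : Nat.card G = p ^ 2 * q * r) : Nat.card G = 60 := by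
  have hn := hG
  have hnc : ¬ IsMulCommutative G := Cfsg.Agent.H36.not_comm_of_simple (by
    rw [hn, show p ^ 2 * q * r = p * (p * q * r) by ring]
    refine Nat.not_prime_mul hp.one_lt.ne' ?_
    exact (lt_of_lt_of_le hr.one_lt (Nat.le_mul_of_pos_left r (Nat.mul_pos hp.pos hq.pos))).ne')
  by_cases hpq : p = q
  · subst hpq
    by_cases hpr : p = r
    · subst hpr
      exact absurd (hn.trans (by ring : _ = p ^ 4)) (not_prime_pow hnc hp)
    · exact absurd (hn.trans (by ring : _ = p ^ 3 * r)) (not_cube hnc hp hr hpr)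
  by_cases hpr : p = r
  · subst hpr
    exact absurd (hn.trans (by ring : _ = p ^ 3 * q)) (not_cube hnc hp hq hpq)
  by_cases hqr : q = r
  · subst hqr
    rcases lt_or_gt_of_ne hpq with h | h
    · exact absurd (hn.trans (by ring : _ = p ^ 2 * q ^ 2)) (not_squares hnc hp hq h)
    · exact absurd (hn.trans (by ring : _ = q ^ 2 * p ^ 2)) (not_squares hnc hq hp h)
  -- the smallest prime must be `p`
  have h1 : ¬ (q < p ∧ q < r) := fun h =>
    smallest_not_single hnc hq (m := p ^ 2 * r) (hn.trans (by ring)) (fun t ht htd => by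
      rcases ht.dvd_mul.1 htd with h' | h'
      · rw [(Nat.prime_dvd_prime_iff_eq ht hp).1 (ht.dvd_of_dvd_pow h')]; exact h.1
      · rw [(Nat.prime_dvd_prime_iff_eq ht hr).1 h']; exact h.2)
  have h2 : ¬ (r < p ∧ r < q) := fun h =>
    smallest_not_single hnc hr (m := p ^ 2 * q) (hn.trans (by ring)) (fun t ht htd => by
      rcases ht.dvd_mul.1 htd with h' | h'
      · rw [(Nat.prime_dvd_prime_iff_eq ht hp).1 (ht.dvd_of_dvd_pow h')]; exact h.1
      · rw [(Nat.prime_dvd_prime_iff_eq ht hq).1 h']; exact h.2)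
  have hlt : p < q ∧ p < r := by omega
  obtain ⟨rfl, h3 | h3⟩ := two_three hnc hp hq hr hlt.1 hlt.2 (hn.trans (by ring))
  · subst h3
    exact order_twelve_mul hnc hr (by omega) (hn.trans (by ring))
  · subst h3
    exact order_twelve_mul hnc hq (by omega) (hn.trans (by ring))

end Cfsg.Agent.S0988
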