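import Cfsg.Statements.S0989
import Cfsg.Agent.H36.PermNormalizer

set_option autoImplicit false
open Cfsg

namespace Cfsg.Agent.S0989

/-- In the symmetric group on p or p + 1 letters, p a prime, the normalizer of a Sylow p-subgroup has order p * (p - 1). -/
theorem result {α : Type*} [Fintype α] [DecidableEq α] (p : ℕ) [Fact p.Prime] (hα : Fintype.card α = p ∨ Fintype.card α = p + 1) (P : Sylow p (Equiv.Perm α)) : Nat.card ↥(Subgroup.normalizer ((P : Subgroup (Equiv.Perm α)) : Set (Equiv.Perm α))) = p * (p - 1) := by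
  have hp := (Fact.out : p.Prime)
  have hlt : Fintype.card α < 2 * p := by
    have := hp.two_le; omega
  obtain ⟨k, hk⟩ := P.2.exists_card_eq
  have hdvd : p ∣ Nat.card (Equiv.Perm α) := by
    rw [Nat.card_perm, Nat.card_eq_fintype_card]
    exact Nat.dvd_factorial hp.pos (by omega)
  have hk1 : k = 1 := by
    have h1 := P.dvd_card_of_dvd_card hdvd
    rw [hk] at h1
    have h2 : ¬ p ^ 2 ∣ Nat.card (Equiv.Perm α) := by
      rw [Nat.card_perm, Nat.card_eq_fintype_card]
      exact Cfsg.Agent.H36.not_sq_dvd_factorial hlt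
    rcases k with _ | _ | k
    · exact absurd (pow_zero p ▸ h1) (by simpa using hp.ne_one)
    · rfl
    · exact absurd ((pow_dvd_pow p (by omega : 2 ≤ k + 2)).trans (hk ▸ P.1.card_subgroup_dvd_card)) h2
  rw [Cfsg.Agent.H36.card_normalizer_of_card_eq hlt (P : Subgroup (Equiv.Perm α))
    (by rw [hk, hk1, pow_one])]
  rcases hα with h | h <;> rw [h] <;> simp

end Cfsg.Agent.S0989
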