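import Cfsg.Statements.S0990
import Cfsg.Agent.H36.Basic
import Mathlib.GroupTheory.Sylow
import Mathlib.GroupTheory.SpecificGroups.Alternating

set_option autoImplicit false
open Cfsg

namespace Cfsg.Agent.S0990

/-- Let p be an odd prime and P a Sylow p-subgroup of the symmetric group on a finite set with at least two elements. Then P is contained in the alternating group, and twice the order of the normalizer of P inside the alternating group equals the order of the normalizer of P in the symmetric group. -/
theorem result {α : Type*} [Fintype α] [DecidableEq α] (hα : 2 ≤ Fintype.card α) (p : ℕ) [Fact p.Prime] (hp : p ≠ 2) (P : Sylow p (Equiv.Perm α)) : (P : Subgroup (Equiv.Perm α)) ≤ alternatingGroup α ∧ 2 * Nat.card ↥(Subgroup.normalizer ((((P : Subgroup (Equiv.Perm α)).subgroupOf (alternatingGroup α) : Subgroup ↥(alternatingGroup α)) : Set ↥(alternatingGroup α)))) = Nat.card ↥(Subgroup.normalizer ((P : Subgroup (Equiv.Perm α)) : Set (Equiv.Perm α))) := by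
  haveI : Nontrivial α := Fintype.one_lt_card_iff_nontrivial.1 hα
  have hle : (P : Subgroup (Equiv.Perm α)) ≤ alternatingGroup α := by
    intro x hx
    rw [Equiv.Perm.mem_alternatingGroup]
    obtain ⟨k, hk⟩ := P.2 ⟨x, hx⟩
    have h1 : (Equiv.Perm.sign x) ^ (p ^ k) = 1 := by
      rw [← map_pow, show x ^ (p ^ k) = 1 from congrArg Subtype.val hk, map_one]
    rcases Int.units_eq_one_or (Equiv.Perm.sign x) with h | h
    · exact h
    · rw [h] at h1 ⊢
      have hodd : Odd (p ^ k) := ((Fact.out : p.Prime).odd_of_ne_two hp).pow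
      rwa [hodd.neg_one_pow] at h1
  refine ⟨hle, ?_⟩
  have hsup := P.normalizer_sup_eq_top' hle
  have heq : Subgroup.normalizer
      ((((P : Subgroup (Equiv.Perm α)).subgroupOf (alternatingGroup α) :
        Subgroup ↥(alternatingGroup α)) : Set ↥(alternatingGroup α))) =
      (Subgroup.normalizer ((P : Subgroup (Equiv.Perm α)) : Set (Equiv.Perm α))).subgroupOf
        (alternatingGroup α) := by
    ext n
    simp only [Subgroup.mem_subgroupOf, Subgroup.mem_normalizer_iff]
    refine ⟨fun h x => ⟨fun hx => ?_, fun hx => ?_⟩, fun h x => ?_⟩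
    · simpa [Subgroup.mem_subgroupOf] using (h ⟨x, hle hx⟩).1 (by simpa [Subgroup.mem_subgroupOf] using hx)
    · have hxA : x ∈ alternatingGroup α := by
        have := hle hx
        rw [Equiv.Perm.mem_alternatingGroup] at this ⊢
        simpa [mul_comm, mul_left_comm, ← mul_assoc] using this
      simpa [Subgroup.mem_subgroupOf] using (h ⟨x, hxA⟩).2 (by simpa [Subgroup.mem_subgroupOf] using hx)
    · simpa [Subgroup.mem_subgroupOf] using h (x : Equiv.Perm α)
  rw [heq]
  set N := Subgroup.normalizer ((P : Subgroup (Equiv.Perm α)) : Set (Equiv.Perm α))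
  have h2 : (alternatingGroup α).relIndex N = 2 := by
    rw [← Subgroup.relIndex_sup_right, show N ⊔ alternatingGroup α = ⊤ from hsup,
      Subgroup.relIndex_top_right, alternatingGroup.index_eq_two]
  have e : Nat.card (N.subgroupOf (alternatingGroup α)) =
      Nat.card ((alternatingGroup α).subgroupOf N) :=
    Nat.card_congr
      { toFun := fun x => ⟨⟨x.1.1, x.2⟩, x.1.2⟩
        invFun := fun x => ⟨⟨x.1.1, x.2⟩, x.1.2⟩
        left_inv := fun _ => rfl
        right_inv := fun _ => rfl }
  rw [e, ← h2, Subgroup.relIndex, mul_comm, Subgroup.card_mul_index]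

end Cfsg.Agent.S0990
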