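import Cfsg.Statements.S0995
import Cfsg.Agent.H36.Fixed

set_option autoImplicit false
open Cfsg

namespace Cfsg.Agent.S0995

/-- Let G be a finite perfect group containing an element z of prime order p whose centralizer is the cyclic group it generates. Let t be the number of conjugacy classes of elements of order p. Then t divides p - 1, the number of Sylow p-subgroups has the form 1 + n * p, and |G| * t = (p - 1) * p * (1 + n * p). -/
theorem result {G : Type*} [Group G] [Finite G] (hperf : commutator G = ⊤) (p : ℕ) [Fact p.Prime] (z : G) (hz : orderOf z = p) (hC : Subgroup.centralizer ({z} : Set G) = Subgroup.zpowers z) : ∃ n t : ℕ, t = Nat.card {c : ConjClasses G // ∃ g : G, ConjClasses.mk g = c ∧ orderOf g = p} ∧ t ∣ p - 1 ∧ Nat.card (Sylow p G) = 1 + n * p ∧ Nat.card G * t = (p - 1) * p * (1 + n * p) := by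
  have hp := (Fact.out : p.Prime)
  have hzcard : Nat.card (Subgroup.zpowers z) = p := by rw [Nat.card_zpowers, hz]
  obtain ⟨P, hzP⟩ := (IsPGroup.of_card (n := 1)
    (by rw [hzcard, pow_one]) : IsPGroup p (Subgroup.zpowers z)).exists_le_sylow
  haveI : Nontrivial (P : Subgroup G) := (Subgroup.nontrivial_iff_ne_bot _).2 fun h => by
    have := hzP (Subgroup.mem_zpowers z)
    rw [h, Subgroup.mem_bot] at this
    rw [this, orderOf_one] at hz
    exact hp.one_lt.ne hz
  have hc := P.2.center_nontrivial
  obtain ⟨⟨c, hc'⟩, hcne⟩ := exists_ne (1 : Subgroup.center (P : Subgroup G))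
  have hcz : (c : G) ∈ Subgroup.zpowers z := by
    rw [← hC, Subgroup.mem_centralizer_singleton_iff]
    exact congrArg Subtype.val ((Subgroup.mem_center_iff.1 hc') ⟨z, hzP (Subgroup.mem_zpowers z)⟩).symm
  have hgen : z ∈ Subgroup.zpowers (c : G) := by
    have := mem_zpowers_of_prime_card hzcard (g := ⟨_, hcz⟩) (g' := ⟨z, Subgroup.mem_zpowers z⟩)
      (fun h => hcne (Subtype.ext (Subtype.ext (by simpa using congrArg Subtype.val h))))
    obtain ⟨k, hk⟩ := Subgroup.mem_zpowers_iff.1 this
    exact Subgroup.mem_zpowers_iff.2 ⟨k, congrArg Subtype.val hk⟩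
  have hPz : (P : Subgroup G) = Subgroup.zpowers z := by
    refine le_antisymm (fun u hu => ?_) hzP
    rw [← hC, Subgroup.mem_centralizer_singleton_iff]
    obtain ⟨k, rfl⟩ := Subgroup.mem_zpowers_iff.1 hgen
    have hcu : Commute u (c : G) := congrArg Subtype.val ((Subgroup.mem_center_iff.1 hc') ⟨u, hu⟩)
    exact (hcu.zpow_right k).eq
  have hP : Nat.card (P : Subgroup G) = p := by rw [hPz, hzcard]
  have hcount := Cfsg.Agent.H36.card_orderOf_eq P hP
  have hG := Cfsg.Agent.H36.card_sylow_mul_normalizer P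
  have hone := card_sylow_modEq_one p G
  set t := Nat.card {c : ConjClasses G // ∃ g : G, ConjClasses.mk g = c ∧ orderOf g = p}
  have hcls : ∀ y : G, orderOf y = p → Nat.card {g : G // IsConj y g} * p = Nat.card G := by
    intro y hy
    have h := Cfsg.Agent.H36.card_class_mul_centralizer y
    suffices hy' : Nat.card (Subgroup.centralizer ({y} : Set G)) = p by rwa [hy'] at h
    obtain ⟨Q, hQ⟩ := Cfsg.Agent.H36.exists_sylow_mem hy
    obtain ⟨g, hg⟩ := MulAction.exists_smul_eq G P Q
    rw [← hg, Cfsg.Agent.H36.mem_smul_sylow_iff, hPz] at hQ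
    have hgen' : z ∈ Subgroup.zpowers (g⁻¹ * y * g) := by
      rw [show Subgroup.zpowers (g⁻¹ * y * g) = Subgroup.zpowers z from
        Subgroup.eq_of_le_of_card_ge (Subgroup.zpowers_le.2 hQ) (by
          rw [hzcard, Nat.card_zpowers, show g⁻¹ * y * g = MulAut.conj g⁻¹ y by simp,
            MulEquiv.orderOf_eq, hy])]
      exact Subgroup.mem_zpowers z
    obtain ⟨k, hk⟩ := Subgroup.mem_zpowers_iff.1 hgen'
    have hle : ∀ u ∈ Subgroup.centralizer ({y} : Set G), g⁻¹ * u * g ∈ Subgroup.zpowers z := by
      intro u hu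
      rw [Subgroup.mem_centralizer_singleton_iff] at hu
      rw [← hC, Subgroup.mem_centralizer_singleton_iff, ← hk]
      have : Commute (g⁻¹ * u * g) (g⁻¹ * y * g) := by
        show _ = _
        calc g⁻¹ * u * g * (g⁻¹ * y * g) = g⁻¹ * (u * y) * g := by group
          _ = g⁻¹ * (y * u) * g := by rw [hu]
          _ = g⁻¹ * y * g * (g⁻¹ * u * g) := by group
      exact (this.zpow_right k).eq
    apply le_antisymm
    · rw [← hzcard]
      exact Nat.card_le_card_of_injective
        (fun u : Subgroup.centralizer ({y} : Set G) => (⟨_, hle u u.2⟩ : Subgroup.zpowers z))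
        (fun a b hab => Subtype.ext (by simpa using hab))
    · rw [← hy, ← Nat.card_zpowers]
      refine Subgroup.card_le_of_le ?_
      rw [Subgroup.zpowers_le, Subgroup.mem_centralizer_singleton_iff]
  have ht : t * Nat.card G = p * Nat.card {g : G // orderOf g = p} := by
    let f : {g : G // orderOf g = p} →
        {c : ConjClasses G // ∃ g : G, ConjClasses.mk g = c ∧ orderOf g = p} :=
      fun g => ⟨ConjClasses.mk g.1, g.1, rfl, g.2⟩
    haveI := Fintype.ofFinite {c : ConjClasses G // ∃ g : G, ConjClasses.mk g = c ∧ orderOf g = p}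
    rw [← Nat.card_congr (Equiv.sigmaFiberEquiv f), Nat.card_sigma, Finset.mul_sum,
      Finset.sum_congr rfl (fun q _ => ?_), Finset.sum_const, Finset.card_univ, smul_eq_mul,
      ← Nat.card_eq_fintype_card]
    obtain ⟨_, y, rfl, hy⟩ := q
    rw [← hcls y hy, mul_comm]
    congr 1
    exact Nat.card_congr
      { toFun := fun g => ⟨g.1.1, (ConjClasses.mk_eq_mk_iff_isConj.1 (congrArg Subtype.val g.2)).symm⟩
        invFun := fun g => ⟨⟨g.1, by
          obtain ⟨u, hu⟩ := isConj_iff.1 g.2
          rw [← hu, show u * y * u⁻¹ = MulAut.conj u y from rfl, MulEquiv.orderOf_eq, hy]⟩,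
          Subtype.ext (ConjClasses.mk_eq_mk_iff_isConj.2 g.2.symm)⟩
        left_inv := fun _ => rfl
        right_inv := fun _ => rfl }
  rw [hcount] at ht
  refine ⟨Nat.card (Sylow p G) / p, t, rfl, ?_, ?_, ?_⟩
  · obtain ⟨e, he⟩ := hP ▸ Subgroup.card_dvd_of_le
      (Subgroup.le_normalizer (H := (P : Subgroup G)))
    refine ⟨e, ?_⟩
    have hpos : 0 < Nat.card (Sylow p G) := Nat.card_pos
    rw [← hG, he] at ht
    have : Nat.card (Sylow p G) * p * (t * e) = Nat.card (Sylow p G) * p * (p - 1) := by
      linarith [ht]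
    exact (Nat.eq_of_mul_eq_mul_left (Nat.mul_pos hpos hp.pos) this).symm
  all_goals
    have hn : Nat.card (Sylow p G) = 1 + Nat.card (Sylow p G) / p * p := by
      rw [Nat.ModEq, Nat.mod_eq_of_lt hp.one_lt] at hone
      have := Nat.div_add_mod (Nat.card (Sylow p G)) p
      rw [hone, mul_comm] at this
      omega
  · exact hn
  · rw [← hn, mul_comm, ht]; ring

end Cfsg.Agent.S0995
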