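import Cfsg.Statements.S0997
import Cfsg.Agent.H86.PQPlus
import Cfsg.Agent.H86.PQMinus
import Cfsg.Agent.H86.FewSylowZassenhaus
import Cfsg.Agent.H86.FewSylowExceptional
-- import your own Cfsg.Agent.* helpers here

set_option autoImplicit false
open Cfsg

namespace Cfsg.Agent.S0997

/-- Let G be a non-cyclic finite simple group of order p * q^b * g₀, where p and q are distinct primes and g₀ < p - 1. Then either p has the form 2^m + 1 or 2^m - 1 and G is isomorphic to the projective special linear group of dimension 2 over the field with p elements, or p = 2^m + 1 > 3 and G is isomorphic to that group over the field with 2^m elements. -/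
theorem result {G : Type*} [Group G] [Finite G] [IsSimpleGroup G] (hG : ¬ IsCyclic G) (p q b g₀ : ℕ) (hp : p.Prime) (hq : q.Prime) (hpq : p ≠ q) (hG' : Nat.card G = p * q ^ b * g₀) (hg : g₀ < p - 1) : (∃ (m : ℕ) (F : Type) (_ : Field F) (_ : Fintype F), Fintype.card F = p ∧ (p = 2 ^ m + 1 ∨ p = 2 ^ m - 1) ∧ Nonempty (G ≃* Matrix.ProjectiveSpecialLinearGroup (Fin 2) F)) ∨ (∃ (m : ℕ) (F : Type) (_ : Field F) (_ : Fintype F), Fintype.card F = 2 ^ m ∧ p = 2 ^ m + 1 ∧ 3 < p ∧ Nonempty (G ≃* Matrix.ProjectiveSpecialLinearGroup (Fin 2) F)) := by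
  classical
  cases nonempty_fintype G
  haveI := Fact.mk hp
  have hna : ∃ a b : G, a * b ≠ b * a := by
    by_contra h
    push Not at h
    letI : CommGroup G := { ‹Group G› with mul_comm := h }
    exact hG inferInstance
  have hg0 : g₀ ≠ 0 := by
    rintro rfl
    rw [mul_zero] at hG'
    exact Nat.card_pos.ne' hG'
  obtain ⟨k, g₁, hqg, hk⟩ := Nat.exists_eq_pow_mul_and_not_dvd hg0 q hq.ne_one
  have hle : g₁ ≤ g₀ := by
    rw [hk]
    exact Nat.le_mul_of_pos_left _ (pow_pos hq.pos k)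
  have hG₁ : Nat.card G = p * q ^ (b + k) * g₁ := by rw [hG', hk, pow_add]; ring
  obtain ⟨T, -⟩ := Cfsg.Agent.H86.PQ.exists_data (p := p) hna hq hpq.symm (by omega) hqg hG₁
  obtain ⟨m, hm, hfew⟩ : ∃ m, (p = 2 ^ m + 1 ∨ p = 2 ^ m - 1) ∧
      2 * T.D.g < (p + 1) * (p + 2) := by
    rcases T.d_cases with ⟨h1, h2⟩ | ⟨h1, h2⟩
    · exact Cfsg.Agent.H86.PQ.plus_case T h1 h2
    · exact Cfsg.Agent.H86.PQ.minus_case T h2 h1
  obtain ⟨S, -⟩ := Cfsg.Agent.H86.FewSylow.exists_sc T.D.P T.D.card_P T.hC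
  obtain ⟨D⟩ := Cfsg.Agent.H86.FewSylow.exists_data S T.perf
    (Cfsg.Agent.H86.FewSylowArith.not_rep_of_few (Cfsg.Agent.H86.FewSylow.card_sylow_eq S) hfew)
  rcases D.cases with h | ⟨h, -, ht⟩
  · obtain ⟨F, iF, iFin, hF, -, hiso⟩ := D.exists_psl_odd h
    exact Or.inl ⟨m, F, iF, iFin, hF, hm, hiso⟩
  · exact Or.inr (D.exists_psl_even h ht)

end Cfsg.Agent.S0997
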