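import Cfsg.Statements.S4501
import Cfsg.Agent.H81.FourFactorMain
import Cfsg.Agent.H81.ThreeOrder
import Cfsg.Agent.H80.HighDegree
import Cfsg.Agent.H66.OrderSixty
import Cfsg.Agent.S0495
import Cfsg.Agent.S4068

set_option autoImplicit false
open Cfsg

namespace Cfsg.Agent.S4501

open H81 H81.SimpleDegree

variable {G : Type*} [Group G] [Finite G] [IsSimpleGroup G]

theorem not_two_primes (hna : ∃ x y : G, x * y ≠ y * x) {p q : ℕ}
    (h : ∀ l : ℕ, l.Prime → l ∣ Nat.card G → l = p ∨ l = q) : False := by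
  have hs : Group.IsSolvable G := S4068.solvable_of_two_primes ((Finset.card_le_card
    (show (Nat.card G).primeFactors ⊆ {p, q} from fun l hl => by
      obtain ⟨h1, h2, -⟩ := Nat.mem_primeFactors.1 hl
      simpa using h l h1 h2)).trans Finset.card_le_two)
  obtain ⟨x, y, hxy⟩ := hna
  exact hxy ((IsSimpleGroup.comm_iff_isSolvable.2 hs) x y)

theorem iso_altFive (hna : ∃ x y : G, x * y ≠ y * x) (hG : Nat.card G = 60) :
    Nonempty (G ≃* alternatingGroup (Fin 5)) := by
  refine H66.iso_altFive hG fun h1 => ?_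
  haveI : Fact (Nat.Prime 5) := ⟨Nat.prime_five⟩
  obtain ⟨P⟩ : Nonempty (Sylow 5 G) := inferInstance
  haveI := (Nat.card_eq_one_iff_unique.1 h1).1
  have hn : (P : Subgroup G).Normal := P.normal_of_subsingleton
  have hc : Nat.card P = 5 := by
    rw [P.card_eq_multiplicity, hG, show (60 : ℕ) = 5 * 12 from rfl,
      Nat.factorization_mul (by norm_num) (by norm_num), Finsupp.add_apply,
      Nat.prime_five.factorization_self, Nat.factorization_eq_zero_of_not_dvd (by norm_num)]
    norm_num
  rcases hn.eq_bot_or_eq_top with h | h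
  · rw [h, Subgroup.card_bot] at hc
    omega
  · rw [h, Subgroup.card_top, hG] at hc
    omega

theorem prime_cases {e f g a b c l : ℕ} (he : e.Prime) (hf : f.Prime) (hg : g.Prime) (hl : l.Prime)
    (h : l ∣ e ^ a * f ^ b * g ^ c) : l = e ∨ l = f ∨ l = g := by
  rcases hl.dvd_mul.1 h with h | h
  · rcases hl.dvd_mul.1 h with h | h
    · exact Or.inl ((Nat.prime_dvd_prime_iff_eq hl he).1 (hl.dvd_of_dvd_pow h))
    · exact Or.inr (Or.inl ((Nat.prime_dvd_prime_iff_eq hl hf).1 (hl.dvd_of_dvd_pow h)))
  · exact Or.inr (Or.inr ((Nat.prime_dvd_prime_iff_eq hl hg).1 (hl.dvd_of_dvd_pow h)))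

theorem factorization_prod {r : ℕ} (hr : r.Prime) (hr2 : r ≠ 2) (hr3 : r ≠ 3) (b c : ℕ) :
    (3 * 2 ^ b * r ^ c).factorization 2 = b ∧ (3 * 2 ^ b * r ^ c).factorization r = c := by
  have e : ∀ l, (3 * 2 ^ b * r ^ c).factorization l =
      (3 : ℕ).factorization l + b * (2 : ℕ).factorization l + c * r.factorization l := by
    intro l
    rw [Nat.factorization_mul (by simp) (pow_ne_zero _ hr.ne_zero),
      Nat.factorization_mul (by norm_num) (by simp), Nat.factorization_pow, Nat.factorization_pow]
    simp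
  constructor
  · rw [e, Nat.prime_three.factorization, Nat.prime_two.factorization, hr.factorization]
    simp [Finsupp.single_apply, hr2]
  · rw [e, Nat.prime_three.factorization, Nat.prime_two.factorization, hr.factorization]
    simp [Finsupp.single_apply, Ne.symm hr2, Ne.symm hr3]

theorem four_case (hna : ∃ x y : G, x * y ≠ y * x) {p q a b : ℕ} (hp : p.Prime) (hq : q.Prime)
    (hpq : p ≠ q) (hp2 : p ≠ 2) (hq2 : q ≠ 2) (ha : a ≤ 2)
    (hG : Nat.card G = 4 * (p ^ a * q ^ b)) : Nonempty (G ≃* alternatingGroup (Fin 5)) := by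
  cases nonempty_fintype G
  refine iso_altFive hna ?_
  have hG' : Nat.card G = p ^ a * 2 ^ 2 * q ^ b := by rw [hG]; ring
  have hodd : Odd (p ^ a * q ^ b) :=
    ((hp.odd_of_ne_two hp2).pow).mul ((hq.odd_of_ne_two hq2).pow)
  obtain ⟨j, hj⟩ := hodd
  obtain ⟨χ, hne, k, hk⟩ := H80.exists_primePow_degree (a := a) (b := 2) (c := b) hp Nat.prime_two hq
    ha hp2 hpq hG'
  have h2 := two_le_charDegree hna hne
  have hne2 := charDegree_ne_two hna ⟨2 * (p ^ a * q ^ b), by rw [hG]; ring⟩ hne
  have hd := BlockBasic.charDegree_dvd χ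
  have hk3 : k < 3 := by
    by_contra hk3
    rw [hk] at hd
    have := (pow_dvd_pow 2 (Nat.le_of_not_lt hk3)).trans hd
    omega
  have h4 : Cfsg.charDegree (χ : G → ℂ) = 4 := by
    rw [hk] at h2 hne2 ⊢
    interval_cases k <;> simp_all
  have h3 := FourFactor.three_dvd hna hne h4 ⟨_, hG⟩ (by omega)
  rw [hG'] at h3
  have hsm : ∀ r : ℕ, (p = 3 ∧ q = r) ∨ (q = 3 ∧ p = r) → KleinArith.Sm r (p ^ a * q ^ b) := by
    intro r hr l hl hd
    rcases prime_cases (a := a) (b := b) (c := 0) hp hq hq hl (by simpa using hd) with h | h | h <;>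
      omega
  rcases prime_cases hp Nat.prime_two hq Nat.prime_three h3 with h | h | h
  · exact FourFactor.card_eq_sixty hna hq hq2 (fun e => hpq (h.symm.trans e.symm)) hG ⟨j, hj⟩
      (hsm q (Or.inl ⟨h.symm, rfl⟩)) hne h4
  · omega
  · exact FourFactor.card_eq_sixty hna hp hp2 (fun e => hpq (e.trans h)) hG ⟨j, hj⟩
      (hsm p (Or.inr ⟨h.symm, rfl⟩)) hne h4

theorem degree_three (hna : ∃ x y : G, x * y ≠ y * x) {l m c n : ℕ} (hl : l.Prime) (hm : m.Prime)
    (hl3 : l ≠ 3) (hm3 : m ≠ 3) (hlm : l ≠ m) (hc : c ≤ 2)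
    (hG : Nat.card G = l ^ c * 3 ^ 1 * m ^ n) :
    ∃ χ : Cfsg.IrrCharacter G, (χ : G → ℂ) ≠ (fun _ => 1) ∧
      Cfsg.charDegree (χ : G → ℂ) = 3 := by
  cases nonempty_fintype G
  obtain ⟨χ, hne, k, hk⟩ := H80.exists_primePow_degree (a := c) (b := 1) (c := n) hl Nat.prime_three
    hm hc hl3 hlm hG
  refine ⟨χ, hne, ?_⟩
  have h2 := two_le_charDegree hna hne
  have hd := BlockBasic.charDegree_dvd χ
  rw [hk, hG] at hd
  have hk1 : k ≤ 1 := by
    have c1 : Nat.Coprime (3 ^ k) (m ^ n) :=
      ((Nat.coprime_primes Nat.prime_three hm).2 (Ne.symm hm3)).pow k n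
    have c2 : Nat.Coprime (3 ^ k) (l ^ c) :=
      ((Nat.coprime_primes Nat.prime_three hl).2 (Ne.symm hl3)).pow k c
    exact (Nat.pow_dvd_pow_iff_le_right (show 1 < 3 by norm_num)).1
      (c2.dvd_of_dvd_mul_left (c1.dvd_of_dvd_mul_right hd))
  rw [hk] at h2 ⊢
  interval_cases k <;> simp_all

theorem not_odd (hna : ∃ x y : G, x * y ≠ y * x) (h9 : ¬ 9 ∣ Nat.card G) (h3 : 3 ∣ Nat.card G)
    (hodd : ¬ 2 ∣ Nat.card G) : False := by
  haveI : Fact (Nat.Prime 3) := ⟨Nat.prime_three⟩
  obtain ⟨x, hx⟩ := exists_prime_orderOf_dvd_card' 3 h3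
  obtain ⟨g, hg⟩ := ThreeOrder.exists_inverter hna h9 hx
  have key : ∀ n : ℕ, g ^ (2 * n + 1) * x * (g ^ (2 * n + 1))⁻¹ = x⁻¹ := by
    intro n
    induction n with
    | zero => simpa using hg
    | succ n ih =>
      have e : g ^ (2 * (n + 1) + 1) * x * (g ^ (2 * (n + 1) + 1))⁻¹ =
          g * (g * (g ^ (2 * n + 1) * x * (g ^ (2 * n + 1))⁻¹) * g⁻¹) * g⁻¹ := by
        rw [show 2 * (n + 1) + 1 = 2 * n + 1 + 1 + 1 by ring, pow_succ', pow_succ']
        group
      rw [e, ih, ← conj_inv, hg, inv_inv]
      exact hg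
  obtain ⟨n, hn⟩ : Odd (orderOf g) :=
    (Nat.not_even_iff_odd.1 fun h => hodd (h.two_dvd.trans (orderOf_dvd_natCard g)))
  have h := key n
  rw [← hn, pow_orderOf_eq_one, one_mul, inv_one, mul_one] at h
  have h1 : x * x = 1 := by
    nth_rw 2 [h]
    exact mul_inv_cancel x
  have h2 := orderOf_dvd_of_pow_eq_one (show x ^ 2 = 1 by rw [pow_two, h1])
  rw [hx] at h2
  omega

/-- Let G be a non-abelian finite simple group and p, q distinct primes. If the order of G is 4·p^a·q^b with a ≤ 2, then G is isomorphic to the alternating group of degree 5. If the order of G is 3·p^a·q^b with a ≤ 2, then G is isomorphic to the alternating group of degree 5 or to PSL(2,7). -/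
theorem result {G : Type*} [Group G] [Finite G] [IsSimpleGroup G] (hna : ∃ x y : G, x * y ≠ y * x) (p q a b : ℕ) (hp : p.Prime) (hq : q.Prime) (hpq : p ≠ q) (ha : a ≤ 2) : (Nat.card G = 4 * p ^ a * q ^ b → Nonempty (G ≃* alternatingGroup (Fin 5))) ∧ (Nat.card G = 3 * p ^ a * q ^ b → Nonempty (G ≃* alternatingGroup (Fin 5)) ∨ Nonempty (G ≃* Matrix.ProjectiveSpecialLinearGroup (Fin 2) (ZMod 7))) := by
  constructor
  · intro hG
    by_cases hp2 : p = 2
    · subst hp2
      exact (not_two_primes hna (p := 2) (q := q) fun l hl h => by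
        rw [hG, show 4 * 2 ^ a * q ^ b = 2 ^ (a + 2) * q ^ b * q ^ 0 by ring] at h
        rcases prime_cases Nat.prime_two hq hq hl h with h | h | h <;> omega).elim
    by_cases hq2 : q = 2
    · subst hq2
      exact (not_two_primes hna (p := 2) (q := p) fun l hl h => by
        rw [hG, show 4 * p ^ a * 2 ^ b = 2 ^ (b + 2) * p ^ a * p ^ 0 by ring] at h
        rcases prime_cases Nat.prime_two hp hp hl h with h | h | h <;> omega).elim
    exact four_case hna hp hq hpq hp2 hq2 ha (by rw [hG, mul_assoc])
  · intro hG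
    by_cases hp3 : p = 3
    · subst hp3
      exact (not_two_primes hna (p := 3) (q := q) fun l hl h => by
        rw [hG, show 3 * 3 ^ a * q ^ b = 3 ^ (a + 1) * q ^ b * q ^ 0 by ring] at h
        rcases prime_cases Nat.prime_three hq hq hl h with h | h | h <;> omega).elim
    by_cases hq3 : q = 3
    · subst hq3
      exact (not_two_primes hna (p := 3) (q := p) fun l hl h => by
        rw [hG, show 3 * p ^ a * 3 ^ b = 3 ^ (b + 1) * p ^ a * p ^ 0 by ring] at h
        rcases prime_cases Nat.prime_three hp hp hl h with h | h | h <;> omega).elim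
    have h3 : 3 ∣ Nat.card G := ⟨p ^ a * q ^ b, by rw [hG]; ring⟩
    have h9 : ¬ 9 ∣ Nat.card G := by
      intro h
      rw [hG, show 9 = 3 * 3 from rfl, mul_assoc] at h
      rcases Nat.prime_three.dvd_mul.1 (Nat.dvd_of_mul_dvd_mul_left (by norm_num) h) with h | h
      · exact hp3 ((Nat.prime_dvd_prime_iff_eq Nat.prime_three hp).1
          (Nat.prime_three.dvd_of_dvd_pow h)).symm
      · exact hq3 ((Nat.prime_dvd_prime_iff_eq Nat.prime_three hq).1
          (Nat.prime_three.dvd_of_dvd_pow h)).symm
    haveI : Fact (Nat.Prime 2) := ⟨Nat.prime_two⟩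
    by_cases h2 : 2 ∣ Nat.card G
    swap
    · exact (not_odd hna h9 h3 h2).elim
    have h2' : p = 2 ∨ q = 2 := by
      rw [hG, show 3 * p ^ a * q ^ b = 3 ^ 1 * p ^ a * q ^ b by ring] at h2
      rcases prime_cases Nat.prime_three hp hq Nat.prime_two h2 with h | h | h
      · omega
      · exact Or.inl h.symm
      · exact Or.inr h.symm
    -- an involution centralised by a Sylow subgroup
    obtain ⟨S⟩ : Nonempty (Sylow 2 G) := inferInstance
    haveI : Nontrivial (S : Subgroup G) := Finite.one_lt_card_iff_nontrivial.1 (by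
      rw [S.card_eq_multiplicity]
      exact Nat.one_lt_two_pow
        ((Nat.prime_two.dvd_iff_one_le_factorization Nat.card_pos.ne').1 h2 |> fun h => by omega))
    haveI := S.isPGroup'.center_nontrivial
    obtain ⟨⟨⟨s, hsS⟩, hs⟩, hso⟩ := exists_prime_orderOf_dvd_card'
      (G := Subgroup.center (S : Subgroup G)) 2 (by
        obtain ⟨n, hn⟩ := IsPGroup.iff_card.1 (S.isPGroup'.to_subgroup (Subgroup.center (S : Subgroup G)))
        rw [hn]
        exact dvd_pow_self 2 fun e => by
          have := Finite.one_lt_card_iff_nontrivial.2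
            (inferInstance : Nontrivial (Subgroup.center (S : Subgroup G)))
          rw [hn, e] at this
          omega)
    rw [← Subgroup.orderOf_coe, ← Subgroup.orderOf_coe] at hso
    change orderOf s = 2 at hso
    have hSC : (S : Subgroup G) ≤ Subgroup.centralizer ({s} : Set G) := fun c hc =>
      Subgroup.mem_centralizer_singleton_iff.2
        (congrArg Subtype.val (Subgroup.mem_center_iff.1 hs ⟨c, hc⟩))
    set k := Nat.card (Subgroup.centralizer ({s} : Set G)) with hk
    have hk0 : k ≠ 0 := Nat.card_pos.ne'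
    have hk2 : k.factorization 2 = (Nat.card G).factorization 2 := by
      refine le_antisymm ((Nat.factorization_le_iff_dvd hk0 Nat.card_pos.ne').2
        (Subgroup.card_subgroup_dvd_card _) 2) ?_
      have h := Subgroup.card_dvd_of_le hSC
      rw [S.card_eq_multiplicity] at h
      exact (Nat.prime_two.pow_dvd_iff_le_factorization hk0).1 h
    have hfac : ∀ (A B l : ℕ), A ≠ 0 → B ≠ 0 → A * k ^ 2 = B * Nat.card G →
        A.factorization l + 2 * k.factorization l = B.factorization l + (Nat.card G).factorization l := by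
      intro A B l hA hB h
      have h' := congrArg (fun n => n.factorization l) h
      simpa [Nat.factorization_mul hA (pow_ne_zero _ hk0),
        Nat.factorization_mul hB Nat.card_pos.ne', Nat.factorization_pow] using h'
    have f21 : (21 : ℕ).factorization 2 = 0 := Nat.factorization_eq_zero_of_not_dvd (by norm_num)
    have f15 : (15 : ℕ).factorization 2 = 0 := Nat.factorization_eq_zero_of_not_dvd (by norm_num)
    have f8 : (8 : ℕ).factorization 2 = 3 := by
      rw [show (8 : ℕ) = 2 ^ 3 from rfl, Nat.prime_two.factorization_pow, Finsupp.single_eq_same]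
    have f4 : (4 : ℕ).factorization 2 = 2 := by
      rw [show (4 : ℕ) = 2 ^ 2 from rfl, Nat.prime_two.factorization_pow, Finsupp.single_eq_same]
    rcases h2' with hp2 | hq2
    · -- two occurs at most twice
      subst hp2
      have hq2 : q ≠ 2 := fun e => hpq e.symm
      obtain ⟨χ, hne, hd⟩ := degree_three hna (c := a) (n := b) Nat.prime_two hq (by norm_num) hq3
        (Ne.symm hq2) ha (by rw [hG]; ring)
      obtain ⟨hv2, -⟩ := factorization_prod hq hq2 hq3 a b
      rw [← hG] at hv2
      rcases ThreeOrder.order_equation hna hq hq2 hq3 hG hne hd hso with ⟨h7, he⟩ | ⟨h5, he⟩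
      · have := hfac 21 8 2 (by norm_num) (by norm_num) he
        rw [f21, f8, hk2, hv2] at this
        omega
      · have := hfac 15 4 2 (by norm_num) (by norm_num) he
        rw [f15, f4, hk2, hv2] at this
        obtain rfl : a = 2 := by omega
        exact Or.inl (four_case hna (p := 3) (q := q) (a := 1) (b := b) Nat.prime_three hq
          (Ne.symm hq3) (by norm_num) hq2 (by norm_num) (by rw [hG]; ring))
    · subst hq2
      obtain ⟨χ, hne, hd⟩ := degree_three hna (c := a) (n := b) hp Nat.prime_two hp3 (by norm_num)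
        hpq ha (by rw [hG]; ring)
      have hG' : Nat.card G = 3 * 2 ^ b * p ^ a := by rw [hG]; ring
      obtain ⟨hv2, hvp⟩ := factorization_prod hp hpq hp3 b a
      rw [← hG'] at hv2 hvp
      rcases ThreeOrder.order_equation hna hp hpq hp3 hG' hne hd hso with ⟨h7, he⟩ | ⟨h5, he⟩
      · subst h7
        have e1 := hfac 21 8 2 (by norm_num) (by norm_num) he
        rw [f21, f8, hk2, hv2] at e1
        have e2 := hfac 21 8 7 (by norm_num) (by norm_num) he
        rw [hvp, Nat.factorization_eq_zero_of_not_dvd (n := 8) (p := 7) (by norm_num),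
          show (21 : ℕ).factorization 7 = 1 by
            rw [show (21 : ℕ) = 3 * 7 from rfl, Nat.factorization_mul (by norm_num) (by norm_num),
              Finsupp.add_apply, Nat.prime_three.factorization,
              (show Nat.Prime 7 by norm_num).factorization]
            simp] at e2
        obtain rfl : b = 3 := by omega
        obtain rfl : a = 1 := by omega
        haveI : Fact (Nat.Prime 7) := ⟨by norm_num⟩
        exact Or.inr (S0495.result (by rw [hG']; norm_num) (ZMod.card 7))
      · subst h5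
        have e1 := hfac 15 4 2 (by norm_num) (by norm_num) he
        rw [f15, f4, hk2, hv2] at e1
        have e2 := hfac 15 4 5 (by norm_num) (by norm_num) he
        rw [hvp, Nat.factorization_eq_zero_of_not_dvd (n := 4) (p := 5) (by norm_num),
          show (15 : ℕ).factorization 5 = 1 by
            rw [show (15 : ℕ) = 3 * 5 from rfl, Nat.factorization_mul (by norm_num) (by norm_num),
              Finsupp.add_apply, Nat.prime_three.factorization, Nat.prime_five.factorization]
            simp] at e2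
        obtain rfl : b = 2 := by omega
        obtain rfl : a = 1 := by omega
        exact Or.inl (iso_altFive hna (by rw [hG']; norm_num))

end Cfsg.Agent.S4501
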