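import Cfsg.Statements.S0998
import Cfsg.Agent.S0997
import Cfsg.Agent.S4501
import Cfsg.Agent.S0253
import Cfsg.Agent.Linear.Order
import Cfsg.Agent.H86.PerfectSylow
-- import your own Cfsg.Agent.* helpers here

set_option autoImplicit false
open Cfsg

namespace Cfsg.Agent.S0998

/-- The case where the two single primes are ordered. -/
theorem aux {G : Type*} [Group G] [Finite G] [IsSimpleGroup G] (hG : ¬ IsCyclic G) (p q r b : ℕ)
    (hp : p.Prime) (hq : q.Prime) (hr : r.Prime) (hpq : p ≠ q) (hlt : r < p) (hqr : q ≠ r)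
    (hG' : Nat.card G = p * r * q ^ b) :
    (∃ (F : Type) (_ : Field F) (_ : Fintype F), Fintype.card F = 5 ∧
      Nonempty (G ≃* Matrix.ProjectiveSpecialLinearGroup (Fin 2) F)) ∨
    (∃ (F : Type) (_ : Field F) (_ : Fintype F), Fintype.card F = 7 ∧
      Nonempty (G ≃* Matrix.ProjectiveSpecialLinearGroup (Fin 2) F)) := by
  have hna : ∃ a b : G, a * b ≠ b * a := by
    by_contra h
    push Not at h
    letI : CommGroup G := { ‹Group G› with mul_comm := h }
    exact hG inferInstance
  have hr2 := hr.two_le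
  by_cases hsmall : r = p - 1
  · -- `r = 2`, `p = 3`
    exfalso
    have hp3 : p = 3 := by
      rcases hp.eq_two_or_odd' with h | h
      · omega
      · rcases hr.eq_two_or_odd' with h' | h'
        · omega
        · obtain ⟨i, hi⟩ := h
          obtain ⟨j, hj⟩ := h'
          omega
    subst hp3
    obtain rfl : r = 2 := by omega
    haveI : Fact (Nat.Prime 2) := ⟨Nat.prime_two⟩
    obtain ⟨S⟩ : Nonempty (Sylow 2 G) := inferInstance
    have hperf : commutator G = ⊤ :=
      (Subgroup.Normal.eq_bot_or_eq_top (inferInstance : (commutator G).Normal)).resolve_left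
        fun h => by
          obtain ⟨a, c, hac⟩ := hna
          refine hac (commutatorElement_eq_one_iff_mul_comm.1 (Subgroup.mem_bot.1 (h ▸ ?_)))
          rw [_root_.commutator_def]
          exact Subgroup.commutator_mem_commutator (Subgroup.mem_top a) (Subgroup.mem_top c)
    refine Cfsg.Agent.H86.PerfectSylow.card_sylow_two_ne hperf S ?_
    rw [S.card_eq_multiplicity, hG', show 3 * 2 * q ^ b = 2 * (3 * q ^ b) by ring,
      Nat.factorization_mul two_ne_zero (mul_ne_zero three_ne_zero (pow_ne_zero _ hq.ne_zero)),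
      Finsupp.add_apply, Nat.prime_two.factorization_self,
      Nat.factorization_eq_zero_of_not_dvd (fun h => ?_), pow_one]
    rcases Nat.prime_two.dvd_mul.1 h with h | h
    · omega
    · exact hqr ((Nat.prime_dvd_prime_iff_eq Nat.prime_two hq).1
        (Nat.prime_two.dvd_of_dvd_pow h)).symm
  have hp5 : 4 ≤ p := by omega
  have h12 : 12 ∣ Nat.card G := by
    rcases Cfsg.Agent.S0997.result hG p q b r hp hq hpq (by rw [hG']; ring) (by omega) with
      ⟨m, F, iF, iFin, hF, -, ⟨φ⟩⟩ | ⟨m, F, iF, iFin, hF, hpm, hp3, ⟨φ⟩⟩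
    · rw [Nat.card_congr φ.toEquiv]
      have h := Cfsg.Agent.Linear.card_PSL_two_mul (F := F)
      rw [hF] at h
      have hpodd : p % 2 = 1 := (Nat.odd_iff.1 (hp.odd_of_ne_two (by omega)))
      have hp3' : p % 3 ≠ 0 := fun h' => by
        have := (Nat.prime_dvd_prime_iff_eq Nat.prime_three hp).1 (Nat.dvd_of_mod_eq_zero h')
        omega
      rw [Nat.gcd_eq_left (Nat.dvd_of_mod_eq_zero (by omega))] at h
      have h24 : p ^ 2 % 24 = 1 := by
        have h1 : p % 24 < 24 := Nat.mod_lt _ (by norm_num)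
        have h2 : (p % 24) % 2 = 1 := by omega
        have h3 : (p % 24) % 3 ≠ 0 := by omega
        rw [Nat.pow_mod]
        interval_cases hk : p % 24 <;> omega
      have : 24 ∣ p * (p ^ 2 - 1) := dvd_mul_of_dvd_right (by omega) _
      omega
    · rw [Nat.card_congr φ.toEquiv]
      have h := Cfsg.Agent.Linear.card_PSL_two_mul (F := F)
      rw [hF] at h
      obtain ⟨m, rfl⟩ : ∃ k, m = k + 2 := ⟨m - 2, by
        rcases m with _ | _ | m <;> simp_all⟩
      have h4 : 4 ∣ 2 ^ (m + 2) := ⟨2 ^ m, by ring⟩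
      have h3 : 3 ∣ (2 ^ (m + 2)) ^ 2 - 1 := by
        rw [← pow_mul, mul_comm, pow_mul]
        simpa using Nat.sub_dvd_pow_sub_pow 4 1 (m + 2)
      have hodd : Nat.gcd 2 (2 ^ (m + 2) - 1) = 1 := by
        refine Nat.prime_two.coprime_iff_not_dvd.2 fun h' => ?_
        have : 0 < 2 ^ (m + 2) := pow_pos two_pos _
        omega
      rw [hodd, one_mul] at h
      rw [h]
      exact Nat.mul_dvd_mul h4 h3
  have hr3 : q = 2 ∧ r = 3 := by
    rw [hG'] at h12
    have h4 : 2 * 2 ∣ p * r * q ^ b := (show 2 * 2 ∣ 12 by norm_num).trans h12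
    have hq2 : q = 2 := by
      by_contra hq2
      have hcp : Nat.Coprime (2 * 2) (p * q ^ b) := by
        refine Nat.Coprime.mul_right ?_ (Nat.Coprime.pow_right _ ?_)
        · exact Nat.Coprime.mul_left ((Nat.coprime_primes Nat.prime_two hp).2 (by omega))
            ((Nat.coprime_primes Nat.prime_two hp).2 (by omega))
        · exact Nat.Coprime.mul_left ((Nat.coprime_primes Nat.prime_two hq).2 (Ne.symm hq2))
            ((Nat.coprime_primes Nat.prime_two hq).2 (Ne.symm hq2))
      have h : 2 * 2 ∣ r := hcp.dvd_of_dvd_mul_right (by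
        rwa [mul_comm r, mul_right_comm])
      rcases (Nat.dvd_prime hr).1 h with h | h
      · omega
      · rw [← h] at hr; norm_num at hr
    refine ⟨hq2, ?_⟩
    have h3 : 3 ∣ p * r * q ^ b := (show 3 ∣ 12 by norm_num).trans h12
    rcases Nat.prime_three.dvd_mul.1 h3 with h | h
    · rcases Nat.prime_three.dvd_mul.1 h with h | h
      · have := (Nat.prime_dvd_prime_iff_eq Nat.prime_three hp).1 h
        omega
      · exact ((Nat.prime_dvd_prime_iff_eq Nat.prime_three hr).1 h).symm
    · have := (Nat.prime_dvd_prime_iff_eq Nat.prime_three hq).1 (Nat.prime_three.dvd_of_dvd_pow h)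
      omega
  obtain ⟨rfl, rfl⟩ := hr3
  rcases (Cfsg.Agent.S4501.result hna p 2 1 b hp Nat.prime_two hpq (by norm_num)).2
    (by rw [hG', pow_one]; ring) with hφ | hφ
  · obtain ⟨φ⟩ := hφ
    haveI : Fact (Nat.Prime 5) := ⟨by norm_num⟩
    obtain ⟨ψ⟩ := Cfsg.Agent.S0253.result (F := ZMod 5) (ZMod.card 5)
    exact Or.inl ⟨ZMod 5, inferInstance, inferInstance, ZMod.card 5, ⟨φ.trans ψ.symm⟩⟩
  · haveI : Fact (Nat.Prime 7) := ⟨by norm_num⟩
    exact Or.inr ⟨ZMod 7, inferInstance, inferInstance, ZMod.card 7, hφ⟩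

/-- A non-cyclic finite simple group whose order has the form p * r * q^b for distinct primes p, q, r is isomorphic to the projective special linear group of dimension 2 over the field with 5 or with 7 elements. -/
theorem result {G : Type*} [Group G] [Finite G] [IsSimpleGroup G] (hG : ¬ IsCyclic G) (p q r b : ℕ) (hp : p.Prime) (hq : q.Prime) (hr : r.Prime) (hpq : p ≠ q) (hpr : p ≠ r) (hqr : q ≠ r) (hG' : Nat.card G = p * r * q ^ b) : (∃ (F : Type) (_ : Field F) (_ : Fintype F), Fintype.card F = 5 ∧ Nonempty (G ≃* Matrix.ProjectiveSpecialLinearGroup (Fin 2) F)) ∨ (∃ (F : Type) (_ : Field F) (_ : Fintype F), Fintype.card F = 7 ∧ Nonempty (G ≃* Matrix.ProjectiveSpecialLinearGroup (Fin 2) F)) := by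
  rcases lt_or_gt_of_ne hpr with h | h
  · exact aux hG r q p b hr hq hp hqr.symm h hpq.symm (by rw [hG']; ring)
  · exact aux hG p q r b hp hq hr hpq h hqr hG'

end Cfsg.Agent.S0998
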