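import Cfsg.Statements.S0999
import Cfsg.Agent.H60.SmallOrderPrime
import Cfsg.Agent.S0996

set_option autoImplicit false
open Cfsg

namespace Cfsg.Agent.S0999

/-- Let G be a non-cyclic finite simple group and p a prime divisor of its order with p^3 > |G|. Then p > 3 and G is isomorphic to the projective special linear group of dimension 2 over the field with p elements, or p - 1 is a power of 2 and G is isomorphic to that group over the field with p - 1 elements. -/
theorem result {G : Type*} [Group G] [Finite G] [IsSimpleGroup G] (hG : ¬ IsCyclic G) (p : ℕ) (hp : p.Prime) (hdvd : p ∣ Nat.card G) (hbig : Nat.card G < p ^ 3) : (∃ (F : Type) (_ : Field F) (_ : Fintype F), Fintype.card F = p ∧ 3 < p ∧ Nonempty (G ≃* Matrix.ProjectiveSpecialLinearGroup (Fin 2) F)) ∨ (∃ (m : ℕ) (F : Type) (_ : Field F) (_ : Fintype F), Fintype.card F = 2 ^ m ∧ p = 2 ^ m + 1 ∧ 3 < p ∧ Nonempty (G ≃* Matrix.ProjectiveSpecialLinearGroup (Fin 2) F)) := by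
  haveI := Fact.mk hp
  have hna : ¬ IsMulCommutative G := fun h => hG (by
    haveI := h
    letI : CommGroup G := { ‹Group G› with mul_comm := fun a b => mul_comm' a b }
    exact IsSimpleGroup.isCyclic)
  obtain ⟨z, hz, hC, hn⟩ := H60.SmallOrder.exists_self_centralizing hna hdvd hbig
  have hperf : commutator G = ⊤ :=
    (Subgroup.Normal.eq_bot_or_eq_top (H := commutator G) inferInstance).resolve_left fun h =>
      hna ⟨⟨fun a b => by
        have h1 : ⁅(⊤ : Subgroup G), ⊤⁆ = ⊥ := (commutator_def G).symm.trans h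
        exact Subgroup.mem_centralizer_iff.1
          ((Subgroup.commutator_eq_bot_iff_le_centralizer.1 h1) (Subgroup.mem_top b)) a
            (Set.mem_univ a : a ∈ ((⊤ : Subgroup G) : Set G))⟩⟩
  rcases S0996.result hperf p z hz hC hn with ⟨F, iF, jF, h1, h2, h3⟩ | h
  · exact Or.inl ⟨F, iF, jF, h1, h2, h3⟩
  · exact Or.inr h

end Cfsg.Agent.S0999
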