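import Cfsg.Statements.S1001
import Cfsg.Agent.S0904
import Cfsg.Agent.S0144

set_option autoImplicit false
open Cfsg

namespace Cfsg.Agent.S1001

variable {G : Type*} [Group G] [Finite G]

theorem two_prime_case [IsSimpleGroup G] (p a b : ℕ) (hp : p.Prime) (hp23 : p = 2 ∨ p = 3)
    (hG : Nat.card G = p * 3 ^ a * 2 ^ b) (x : G) (hx : orderOf x = p) :
    Subgroup.centralizer ({x} : Set G) = Subgroup.zpowers x := by
  haveI : Fact (Nat.Prime 3) := ⟨Nat.prime_three⟩
  haveI : Fact (Nat.Prime 2) := ⟨Nat.prime_two⟩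
  have hsolv : Group.IsSolvable G := by
    rcases hp23 with rfl | rfl
    · exact Cfsg.Agent.S0144.result (G := G) 3 2 a (b + 1) Nat.prime_three Nat.prime_two
        (by rw [hG]; ring)
    · exact Cfsg.Agent.S0144.result (G := G) 3 2 (a + 1) b Nat.prime_three Nat.prime_two
        (by rw [hG]; ring)
  haveI := hsolv
  have hcomm : ∀ u v : G, u * v = v * u := IsSimpleGroup.comm_iff_isSolvable.2 hsolv
  letI : CommGroup G := { (inferInstance : Group G) with mul_comm := hcomm }
  have hprime : (Nat.card G).Prime := IsSimpleGroup.prime_card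
  have hpG : p = Nat.card G :=
    (Nat.prime_dvd_prime_iff_eq hp hprime).1 (hx ▸ orderOf_dvd_natCard x)
  have htop : Subgroup.zpowers x = ⊤ :=
    Subgroup.eq_top_of_card_eq _ (by rw [Nat.card_zpowers, hx, hpG])
  rw [htop, eq_top_iff]
  intro g _
  rw [Subgroup.mem_centralizer_iff]
  intro h _
  exact hcomm h g

theorem self_centralizing [IsSimpleGroup G] (p a b : ℕ) (hp : p.Prime) (hp2 : p ≠ 2) (hp3 : p ≠ 3)
    (hG : Nat.card G = p * 3 ^ a * 2 ^ b) (x : G) (hx : orderOf x = p) :
    Subgroup.centralizer ({x} : Set G) = Subgroup.zpowers x := by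
  haveI : Fact p.Prime := ⟨hp⟩
  have hP : IsPGroup p (Subgroup.zpowers x) :=
    IsPGroup.of_card (n := 1) (by rw [Nat.card_zpowers, hx, pow_one])
  obtain ⟨S, hS⟩ := hP.exists_le_sylow
  have hnd : ¬ p ∣ 3 ^ a * 2 ^ b := fun h => by
    rcases hp.dvd_mul.1 h with h | h
    · exact hp3 ((Nat.prime_dvd_prime_iff_eq hp Nat.prime_three).1 (hp.dvd_of_dvd_pow h))
    · exact hp2 ((Nat.prime_dvd_prime_iff_eq hp Nat.prime_two).1 (hp.dvd_of_dvd_pow h))
  have hcS : Nat.card (S : Subgroup G) = p := by
    rw [Sylow.card_eq_multiplicity, hG, mul_assoc,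
      Nat.factorization_mul hp.ne_zero (by positivity), Finsupp.add_apply,
      hp.factorization_self, Nat.factorization_eq_zero_of_not_dvd hnd, add_zero, pow_one]
  have hSx : (S : Subgroup G) = Subgroup.zpowers x :=
    (Subgroup.eq_of_le_of_card_ge hS (by rw [hcS, Nat.card_zpowers, hx])).symm
  have h := Cfsg.Agent.S0904.result (G := G) 3 2 p a b Nat.prime_three Nat.prime_two (by norm_num)
    hp3.symm hp2.symm (by rw [hG]; ring) S
  have hcl : Subgroup.centralizer ({x} : Set G) =
      Subgroup.centralizer ((Subgroup.zpowers x : Subgroup G) : Set G) := by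
    rw [Subgroup.zpowers_eq_closure, Subgroup.centralizer_closure]
  rw [hcl, ← hSx]
  exact h

/-- In a finite simple group whose order has the form p * 3^a * 2^b with p prime, the centralizer of any element of order p is the cyclic group it generates. -/
theorem result {G : Type*} [Group G] [Finite G] [IsSimpleGroup G] (p a b : ℕ) (hp : p.Prime) (hG : Nat.card G = p * 3 ^ a * 2 ^ b) (x : G) (hx : orderOf x = p) : Subgroup.centralizer ({x} : Set G) = Subgroup.zpowers x := by
  by_cases h2 : p = 2
  · exact two_prime_case p a b hp (Or.inl h2) hG x hx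
  by_cases h3 : p = 3
  · exact two_prime_case p a b hp (Or.inr h3) hG x hx
  exact self_centralizing p a b hp h2 h3 hG x hx

end Cfsg.Agent.S1001
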