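import Cfsg.Statements.S1002
import Cfsg.Agent.H36.Count
import Cfsg.Agent.H36.Numeric

set_option autoImplicit false
open Cfsg

namespace Cfsg.Agent.S1002

/-- No finite simple group has order 1004913 = 3^3 * 7 * 13 * 409. -/
theorem result {G : Type*} [Group G] [Finite G] [IsSimpleGroup G] : Nat.card G ≠ 1004913 := by
  classical
  intro hn
  haveI h7 : Fact (Nat.Prime 7) := ⟨by norm_num⟩
  haveI h13 : Fact (Nat.Prime 13) := ⟨by norm_num⟩
  haveI h409 : Fact (Nat.Prime 409) := ⟨by norm_num⟩
  haveI : Fact (Nat.Prime 3) := ⟨by norm_num⟩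
  have hG : ¬ IsMulCommutative G := Cfsg.Agent.H36.not_isMulCommutative_of_dvd (p := 3) (q := 7)
    (by norm_num) (by norm_num) (by norm_num) (by rw [hn]; norm_num) (by rw [hn]; norm_num)
  obtain ⟨A⟩ := Sylow.nonempty (p := 409) (G := G)
  obtain ⟨B⟩ := Sylow.nonempty (p := 7) (G := G)
  obtain ⟨C⟩ := Sylow.nonempty (p := 13) (G := G)
  have hA : Nat.card (A : Subgroup G) = 409 := by
    simpa using Cfsg.Agent.H36.card_sylow_eq hn A (a := 1) (m := 2457) (by norm_num) (by norm_num)
  have hB : Nat.card (B : Subgroup G) = 7 := by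
    simpa using Cfsg.Agent.H36.card_sylow_eq hn B (a := 1) (m := 143559) (by norm_num) (by norm_num)
  have hC : Nat.card (C : Subgroup G) = 13 := by
    simpa using Cfsg.Agent.H36.card_sylow_eq hn C (a := 1) (m := 77301) (by norm_num) (by norm_num)
  have hnA := Cfsg.Agent.H36.card_sylow_mem' (p := 409) hn 1 2457 3 (by norm_num) (by norm_num)
    one_pos (by norm_num) (by norm_num) {819} (by decide)
  rw [Finset.mem_singleton] at hnA
  have hnB := Cfsg.Agent.H36.card_sylow_mem_list (p := 7) hn 1 3 [27, 13, 409]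
    (by norm_num) (by norm_num) one_pos (by norm_num) (by norm_num) {351, 47853} (by decide +kernel)
  have hnC := Cfsg.Agent.H36.card_sylow_mem_list (p := 13) hn 1 3 [27, 7, 409]
    (by norm_num) (by norm_num) one_pos (by norm_num) (by norm_num) {27, 25767} (by decide +kernel)
  have hNA := Cfsg.Agent.H36.card_sylow_mul_normalizer A
  rw [hnA, hn] at hNA
  have hNA' : Nat.card (Subgroup.normalizer ((A : Subgroup G) : Set G)) = 1227 := by omega
  -- no subgroup has order `409 * m` with a forced normal Sylow subgroup and `m` prime to `3`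
  have key : ∀ (M : Subgroup G) (m : ℕ), Nat.card M = 409 * m → m < 409 → ¬ 409 * m ∣ 1227 →
      False := by
    intro M m hM hm hnd
    have hm0 : 0 < m := Nat.pos_of_ne_zero fun h => by
      rw [h, mul_zero] at hM; exact Nat.card_pos.ne' hM
    have hm409 : ¬ 409 ∣ m := fun h => absurd (Nat.le_of_dvd hm0 h) (by omega)
    obtain ⟨hd, hmod⟩ := Cfsg.Agent.H36.card_sylow_dvd (G := M) (p := 409) hM (a := 1) (m := m)
      (by norm_num) hm409
    have h1 : Nat.card (Sylow 409 M) = 1 := by
      have := Nat.le_of_dvd hm0 hd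
      rw [Nat.mod_eq_of_lt (by omega)] at hmod
      exact hmod
    haveI := (Nat.card_eq_one_iff_unique.1 h1).1
    obtain ⟨S⟩ := Sylow.nonempty (p := 409) (G := M)
    obtain ⟨Q, hQ⟩ := (S.2.map M.subtype).exists_le_sylow
    have hQc : Nat.card (Q : Subgroup G) = 409 := (Cfsg.Agent.H36.card_sylow_congr Q A).trans hA
    have hS : (S : Subgroup M).map M.subtype = Q := Subgroup.eq_of_le_of_card_ge hQ (by
      rw [hQc, Subgroup.card_subtype]
      exact (Cfsg.Agent.H36.card_sylow_eq hM S (a := 1) (m := m) (by norm_num) hm409).ge.trans'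
        (by norm_num))
    have hle : M ≤ Subgroup.normalizer ((Q : Subgroup G) : Set G) := by
      intro x hx
      refine Sylow.smul_eq_iff_mem_normalizer.1 (Sylow.ext (Eq.symm ?_))
      refine Subgroup.eq_of_le_of_card_ge ?_ (Cfsg.Agent.H36.card_sylow_congr _ _).le
      intro y hy
      rw [Cfsg.Agent.H36.mem_smul_sylow_iff]
      rw [← hS] at hy ⊢
      obtain ⟨s, hs, rfl⟩ := hy
      have hSn : (S : Subgroup M).Normal := S.normal_of_subsingleton
      refine ⟨(⟨x, hx⟩ : M)⁻¹ * s * ⟨x, hx⟩, ?_, rfl⟩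
      show (⟨x, hx⟩ : M)⁻¹ * s * ⟨x, hx⟩ ∈ (S : Subgroup M)
      simpa using hSn.conj_mem s hs (⟨x, hx⟩ : M)⁻¹
    have hcard : Nat.card (Subgroup.normalizer ((Q : Subgroup G) : Set G)) = 1227 := by
      have h := Cfsg.Agent.H36.card_sylow_mul_normalizer Q
      rw [hnA, hn] at h
      omega
    exact hnd (hcard ▸ hM ▸ Subgroup.card_dvd_of_le hle)
  have hnB' : Nat.card (Sylow 7 G) = 47853 := by
    rcases Finset.mem_insert.1 hnB with h | h
    · have hN := Cfsg.Agent.H36.card_sylow_mul_normalizer B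
      rw [h, hn] at hN
      exact absurd (key (Subgroup.normalizer ((B : Subgroup G) : Set G)) 7 (by omega) (by norm_num) (by norm_num)) id
    · simpa using h
  have hnC' : Nat.card (Sylow 13 G) = 25767 := by
    rcases Finset.mem_insert.1 hnC with h | h
    · have hN := Cfsg.Agent.H36.card_sylow_mul_normalizer C
      rw [h, hn] at hN
      exact absurd (key (Subgroup.normalizer ((C : Subgroup G) : Set G)) 91 (by omega) (by norm_num) (by norm_num)) id
    · simpa using h
  -- an element of order 3 normalizing but not centralizing `A`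
  set N := Subgroup.normalizer ((A : Subgroup G) : Set G) with hN
  obtain ⟨⟨t, htN⟩, ht⟩ := exists_prime_orderOf_dvd_card' (G := N) 3 (by rw [hNA']; norm_num)
  rw [← Subgroup.orderOf_coe] at ht
  have htC : t ∉ Subgroup.centralizer ((A : Subgroup G) : Set G) := by
    intro h
    have h1 : 3 ∣ Nat.card (Subgroup.centralizer ((A : Subgroup G) : Set G)) := by
      rw [← show orderOf t = 3 from ht, ← Nat.card_zpowers]
      exact Subgroup.card_dvd_of_le (Subgroup.zpowers_le.2 h)
    have h2 := Cfsg.Agent.H36.dvd_card_centralizer_of_prime h409.out _ hA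
    have h3 := Cfsg.Agent.H36.card_normalizer_eq_mul (A : Subgroup G)
    have h4 := Cfsg.Agent.H36.one_lt_relIndex_centralizer hG A (by rw [hn]; norm_num)
    have h5 : 1227 ∣ Nat.card (Subgroup.centralizer ((A : Subgroup G) : Set G)) :=
      Nat.Coprime.mul_dvd_of_dvd_of_dvd (by norm_num : Nat.Coprime 3 409) h1 h2
    rw [← hN, hNA'] at h3
    have h6 := Nat.le_of_dvd Nat.card_pos h5
    have h8 : 2 ≤ (Subgroup.centralizer ((A : Subgroup G) : Set G)).relIndex
        (Subgroup.normalizer ((A : Subgroup G) : Set G)) := h4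
    have h7 := Nat.mul_le_mul h6 h8
    rw [← h3] at h7
    omega
  -- its class meets `N` in at least 409 elements
  set cl := Nat.card {g : G // IsConj t g}
  have hin : 409 ≤ Nat.card {g : G // IsConj t g ∧ g ∈ N} := by
    rw [← hA]
    refine Nat.card_le_card_of_injective (fun u : (A : Subgroup G) =>
      (⟨(u : G) * t * (u : G)⁻¹, isConj_iff.2 ⟨u, rfl⟩,
        N.mul_mem (N.mul_mem (Subgroup.le_normalizer u.2) htN)
          (N.inv_mem (Subgroup.le_normalizer u.2))⟩ : {g : G // IsConj t g ∧ g ∈ N})) ?_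
    intro u v huv
    by_contra hne
    have huv' : (u : G) * t * (u : G)⁻¹ = (v : G) * t * (v : G)⁻¹ := congrArg Subtype.val huv
    apply htC
    rw [Subgroup.mem_centralizer_iff]
    intro w hw
    obtain ⟨k, hk⟩ := Subgroup.mem_zpowers_iff.1 (mem_zpowers_of_prime_card hA
      (g := v⁻¹ * u) (g' := ⟨w, hw⟩) (fun h => hne (inv_mul_eq_one.1 h).symm))
    have hcomm : Commute (((v⁻¹ * u : (A : Subgroup G))) : G) t := by
      show _ = _
      push_cast
      calc (v : G)⁻¹ * u * t = (v : G)⁻¹ * ((u : G) * t * (u : G)⁻¹) * u := by group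
        _ = t * ((v : G)⁻¹ * u) := by rw [huv']; group
    rw [show w = (((v⁻¹ * u : (A : Subgroup G))) : G) ^ k from (congrArg Subtype.val hk).symm]
    exact (hcomm.zpow_left k).eq
  have hfix : Nat.card (MulAction.fixedBy (G ⧸ N) t) ≤ 3 := by
    refine (Cfsg.Agent.H36.card_fixedBy_le_orbits h409.out (A : Subgroup G) hA htN htC).trans ?_
    exact Cfsg.Agent.H36.card_orbits_le (p := 409) A hA 2 (by rw [hnA])
  have hmain := Cfsg.Agent.H36.card_fixedBy_mul_card_class N t
  have hidx : N.index = 819 := A.card_eq_index_normalizer.symm.trans hnA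
  rw [hidx] at hmain
  have hcl : 819 * 409 ≤ 3 * cl :=
    (Nat.mul_le_mul_left 819 hin).trans (hmain ▸ Nat.mul_le_mul_right cl hfix)
  -- count elements
  have cA := Cfsg.Agent.H36.card_orderOf_eq A hA
  have cB := Cfsg.Agent.H36.card_orderOf_eq B hB
  have cC := Cfsg.Agent.H36.card_orderOf_eq C hC
  rw [hnA] at cA; rw [hnB'] at cB; rw [hnC'] at cC
  have hclle : cl ≤ Nat.card {g : G // orderOf g = 3} :=
    Nat.card_le_card_of_injective (fun g : {g : G // IsConj t g} => (⟨g.1, by
      obtain ⟨u, hu⟩ := isConj_iff.1 g.2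
      rw [← hu, show u * t * u⁻¹ = MulAut.conj u t from rfl, MulEquiv.orderOf_eq]
      exact ht⟩ : {g : G // orderOf g = 3}))
      (fun a b h => Subtype.ext (congrArg (fun z : {g : G // orderOf g = 3} => z.1) h))
  have htot := Cfsg.Agent.H36.card_orderOf_add4_le (G := G) (a := 409) (b := 7) (c := 13) (d := 3)
    (by norm_num) (by norm_num) (by norm_num) (by norm_num) (by norm_num) (by norm_num)
  rw [cA, cB, cC, hn] at htot
  omega

end Cfsg.Agent.S1002
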