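import Cfsg.Statements.S1009
import Cfsg.Agent.H36.Fixed
import Mathlib.Data.Fintype.Lattice

set_option autoImplicit false
open Cfsg

namespace Cfsg.Agent.S1009

/-- Brodkey's Theorem: if a finite group has abelian Sylow p-subgroups, then there are two Sylow p-subgroups whose intersection equals the intersection of all Sylow p-subgroups. -/
theorem result {G : Type*} [Group G] [Finite G] (p : ℕ) [Fact p.Prime] (hab : ∀ P : Sylow p G, IsMulCommutative ↥(P : Subgroup G)) : ∃ P Q : Sylow p G, (P : Subgroup G) ⊓ (Q : Subgroup G) = ⨅ R : Sylow p G, (R : Subgroup G) := by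
  classical
  haveI : Nonempty (Sylow p G × Sylow p G) :=
    ⟨(Classical.choice Sylow.nonempty, Classical.choice Sylow.nonempty)⟩
  obtain ⟨⟨P, Q⟩, hmin⟩ := Finite.exists_min (fun x : Sylow p G × Sylow p G =>
    Nat.card ↥((x.1 : Subgroup G) ⊓ (x.2 : Subgroup G)))
  refine ⟨P, Q, le_antisymm (le_iInf fun R => ?_) (le_inf (iInf_le _ P) (iInf_le _ Q))⟩
  set D := (P : Subgroup G) ⊓ (Q : Subgroup G)
  set N := Subgroup.centralizer (D : Set G)
  have hcomm : ∀ S : Sylow p G, ∀ a ∈ (S : Subgroup G), ∀ b ∈ (S : Subgroup G), a * b = b * a :=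
    fun S a ha b hb => congrArg Subtype.val ((hab S).is_comm.comm ⟨a, ha⟩ ⟨b, hb⟩)
  have hP : (P : Subgroup G) ≤ N := fun a ha =>
    Subgroup.mem_centralizer_iff.2 fun d hd => hcomm P d hd.1 a ha
  have hQ : (Q : Subgroup G) ≤ N := fun a ha =>
    Subgroup.mem_centralizer_iff.2 fun d hd => hcomm Q d hd.2 a ha
  have hRN : IsPGroup p (((R : Subgroup G) ⊓ N).subgroupOf N) :=
    (R.2.to_le inf_le_left).comap_of_injective N.subtype Subtype.coe_injective
  obtain ⟨S, hS⟩ := hRN.exists_le_sylow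
  obtain ⟨n, hn⟩ := MulAction.exists_smul_eq N (P.subtype hP) S
  have hR' : ∀ x ∈ (R : Subgroup G) ⊓ N, (n : G)⁻¹ * x * (n : G) ∈ (P : Subgroup G) := by
    intro x hx
    have h1 : (⟨x, hx.2⟩ : N) ∈ (S : Subgroup N) := hS hx
    rw [← hn, Cfsg.Agent.H36.mem_smul_sylow_iff, Sylow.coe_subtype, Subgroup.mem_subgroupOf] at h1
    simpa using h1
  have hQn : ∀ y, y ∈ (((n : G) • Q : Sylow p G) : Subgroup G) → y ∈ N := by
    intro y hy
    rw [Cfsg.Agent.H36.mem_smul_sylow_iff] at hy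
    have := N.mul_mem (N.mul_mem n.2 (hQ hy)) (N.inv_mem n.2)
    convert this using 1
    group
  have hle : (R : Subgroup G) ⊓ (((n : G) • Q : Sylow p G) : Subgroup G) ≤ D := by
    rintro x ⟨hxR, hxQ⟩
    have h1 := hR' x ⟨hxR, hQn x hxQ⟩
    have h2 := (Cfsg.Agent.H36.mem_smul_sylow_iff _ _ _).1 hxQ
    have h3 : (n : G)⁻¹ * x * (n : G) ∈ D := ⟨h1, h2⟩
    have h4 := Subgroup.mem_centralizer_iff.1 n.2 _ h3
    have h5 : x = (n : G)⁻¹ * x * (n : G) := by
      conv_lhs => rw [show x = (n : G) * ((n : G)⁻¹ * x * (n : G)) * (n : G)⁻¹ by group, ← h4]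
      group
    rw [h5]; exact h3
  have heq := Subgroup.eq_of_le_of_card_ge hle (hmin (R, (n : G) • Q))
  rw [← heq]
  exact inf_le_left

end Cfsg.Agent.S1009
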