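import Cfsg.Statements.S1013
import Cfsg.Agent.H36.Fixed
import Cfsg.Agent.H36.PermNormalizer

set_option autoImplicit false
open Cfsg

namespace Cfsg.Agent.S1013

/-- A non-trivial normal subgroup of a transitive group of prime degree `p` has order divisible
by `p`. -/
theorem dvd_card_of_normal {α : Type*} [Fintype α] [DecidableEq α] {p : ℕ} [Fact p.Prime]
    (hα : Fintype.card α = p) (G : Subgroup (Equiv.Perm α)) [MulAction.IsPretransitive ↥G α]
    (K : Subgroup ↥G) [hK : K.Normal] (hKb : K ≠ ⊥) : p ∣ Nat.card K := by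
  classical
  have hp := (Fact.out : p.Prime)
  have hcardα : Nat.card α = p := by rw [Nat.card_eq_fintype_card, hα]
  haveI : Nonempty α := Fintype.card_pos_iff.1 (hα ▸ hp.pos)
  by_contra hpK
  apply hKb
  rw [Subgroup.eq_bot_iff_forall]
  intro x hx
  obtain ⟨a₀⟩ := ‹Nonempty α›
  have hconst : ∀ a : α, Nat.card (MulAction.orbit K a) = Nat.card (MulAction.orbit K a₀) := by
    intro a
    obtain ⟨g, hg⟩ := MulAction.exists_smul_eq G a a₀
    refine Nat.card_congr
      { toFun := fun b => ⟨g • (b : α), ?_⟩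
        invFun := fun b => ⟨g⁻¹ • (b : α), ?_⟩
        left_inv := fun b => Subtype.ext (inv_smul_smul g (b : α))
        right_inv := fun b => Subtype.ext (smul_inv_smul g (b : α)) }
    · obtain ⟨⟨k, hk⟩, hb⟩ := b.2
      refine ⟨⟨g * k * g⁻¹, hK.conj_mem k hk g⟩, ?_⟩
      show (g * k * g⁻¹) • a₀ = g • (b : α)
      rw [← hb, ← hg, mul_smul, inv_smul_smul, mul_smul]
      rfl
    · obtain ⟨⟨k, hk⟩, hb⟩ := b.2
      refine ⟨⟨g⁻¹ * k * g, by simpa using hK.conj_mem k hk g⁻¹⟩, ?_⟩
      show (g⁻¹ * k * g) • a = g⁻¹ • (b : α)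
      rw [← hb, mul_smul, mul_smul, hg]
      rfl
  haveI := Fintype.ofFinite (MulAction.orbitRel.Quotient K α)
  have hsum : p = Fintype.card (MulAction.orbitRel.Quotient K α) *
      Nat.card (MulAction.orbit K a₀) := by
    conv_lhs => rw [← hcardα, Nat.card_congr (MulAction.selfEquivSigmaOrbits K α), Nat.card_sigma,
      Finset.sum_congr rfl (fun q _ => hconst q.out), Finset.sum_const, Finset.card_univ,
      smul_eq_mul]
  have hone : Nat.card (MulAction.orbit K a₀) = 1 := by
    rcases (Nat.dvd_prime hp).1 (Dvd.intro_left _ hsum.symm) with h | h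
    · exact h
    · exfalso
      apply hpK
      rw [← h, Nat.card_congr (MulAction.orbitEquivQuotientStabilizer K a₀),
        ← Subgroup.index_eq_card]
      exact Subgroup.index_dvd_card _
  apply Subtype.ext
  apply Equiv.ext
  intro a
  have hsub := (Nat.card_eq_one_iff_unique.1 ((hconst a).trans hone)).1
  have := hsub.elim ⟨_, MulAction.mem_orbit a (⟨x, hx⟩ : K)⟩ ⟨a, MulAction.mem_orbit_self a⟩
  exact congrArg Subtype.val this

/-- Let G be a transitive permutation group of prime degree p having more than one Sylow p-subgroup, and suppose a Sylow p-subgroup P has prime index in its normalizer. Then G is simple. -/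
theorem result {α : Type*} [Fintype α] [DecidableEq α] {p : ℕ} [Fact p.Prime] (hα : Fintype.card α = p) (G : Subgroup (Equiv.Perm α)) [MulAction.IsPretransitive ↥G α] (P : Sylow p ↥G) (hn : 1 < Nat.card (Sylow p ↥G)) (ht : (((P : Subgroup ↥G).subgroupOf (Subgroup.normalizer ((P : Subgroup ↥G) : Set ↥G))).index).Prime) : IsSimpleGroup ↥G := by
  classical
  have hp := (Fact.out : p.Prime)
  have hcardα : Nat.card α = p := by rw [Nat.card_eq_fintype_card, hα]
  haveI : Nonempty α := Fintype.card_pos_iff.1 (hα ▸ hp.pos)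
  have hpG : p ∣ Nat.card G := by
    obtain ⟨a⟩ := ‹Nonempty α›
    have h1 := (MulAction.stabilizer G a).index_dvd_card
    rwa [MulAction.index_stabilizer_of_transitive, hcardα] at h1
  have hsq : ¬ p ^ 2 ∣ Nat.card G := fun h => by
    have h2 := h.trans (Subgroup.card_subgroup_dvd_card G)
    rw [Nat.card_perm, hcardα] at h2
    exact Cfsg.Agent.H36.not_sq_dvd_factorial (p := p) (by have := hp.two_le; omega) h2
  have hPcard : ∀ Q : Sylow p G, Nat.card (Q : Subgroup G) = p := by
    intro Q
    obtain ⟨k, hk⟩ := Q.2.exists_card_eq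
    have h1 := Q.dvd_card_of_dvd_card hpG
    rcases k with _ | _ | k
    · rw [hk, pow_zero] at h1; exact absurd (Nat.dvd_one.1 h1) hp.ne_one
    · simpa using hk
    · exact absurd ((pow_dvd_pow p (by omega : 2 ≤ k + 2)).trans
        (hk ▸ Q.1.card_subgroup_dvd_card)) hsq
  haveI : Nontrivial G := by
    rw [← Finite.one_lt_card_iff_nontrivial]
    exact lt_of_lt_of_le hp.one_lt (Nat.le_of_dvd Nat.card_pos hpG)
  refine { eq_bot_or_eq_top_of_normal := fun K hK => ?_ }
  by_cases hKb : K = ⊥
  · exact Or.inl hKb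
  right
  -- `p` divides the order of `K`, since a non-trivial normal subgroup is transitive
  have hpK : p ∣ Nat.card K := dvd_card_of_normal hα G K hKb
  -- `K` contains every Sylow `p`-subgroup
  have hKall : ∀ Q : Sylow p G, (Q : Subgroup G) ≤ K := by
    intro Q
    obtain ⟨S⟩ := Sylow.nonempty (p := p) (G := K)
    obtain ⟨R, hR⟩ := (S.2.map K.subtype).exists_le_sylow
    have hS : (S : Subgroup K).map K.subtype = R := by
      refine Subgroup.eq_of_le_of_card_ge hR ?_
      rw [hPcard, Subgroup.card_subtype]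
      exact Nat.le_of_dvd Nat.card_pos (S.dvd_card_of_dvd_card hpK)
    obtain ⟨g, rfl⟩ := MulAction.exists_smul_eq G R Q
    intro y hy
    rw [Cfsg.Agent.H36.mem_smul_sylow_iff, ← hS] at hy
    obtain ⟨s, -, hs⟩ := hy
    have := hK.conj_mem _ s.2 g
    rw [show ((s : K) : G) = g⁻¹ * y * g from hs] at this
    simpa [mul_assoc] using this
  have hPK := hKall P
  set N := Subgroup.normalizer ((P : Subgroup G) : Set G) with hN
  have hsup : K ⊔ N = ⊤ := by
    have h := P.normalizer_sup_eq_top' hPK
    rwa [sup_comm] at h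
  -- `N` acts with prime index over `P`; either `K ∩ N = P` or `N ≤ K`
  have hPN : (P : Subgroup G) ≤ N ⊓ K := le_inf Subgroup.le_normalizer hPK
  have hmul : (P : Subgroup G).relIndex (N ⊓ K) * (N ⊓ K).relIndex N = (P : Subgroup G).relIndex N :=
    Subgroup.relIndex_mul_relIndex _ _ _ hPN inf_le_left
  have ht' : ((P : Subgroup G).relIndex N).Prime := ht
  rcases (Nat.dvd_prime ht').1 (Dvd.intro _ hmul) with h1 | h1
  swap
  · rw [h1, Nat.mul_eq_left (by exact ht'.ne_zero), Subgroup.relIndex_eq_one] at hmul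
    rw [← hsup]
    exact le_antisymm le_sup_left (sup_le le_rfl (hmul.trans inf_le_right))
  exfalso
  rw [Subgroup.relIndex_eq_one] at h1
  haveI : IsCyclic (P : Subgroup G) := isCyclic_of_prime_card (hPcard P)
  letI : CommGroup (P : Subgroup G) := IsCyclic.commGroup
  set S := P.subtype hPK
  have hNS : Subgroup.normalizer ((S : Subgroup K) : Set K) ≤
      Subgroup.centralizer ((S : Subgroup K) : Set K) := by
    intro x hx
    have hxN : (x : G) ∈ N := by
      rw [hN, Subgroup.mem_normalizer_iff]
      intro y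
      refine ⟨fun hy => ?_, fun hy => ?_⟩
      · have := (Subgroup.mem_normalizer_iff.1 hx ⟨y, hPK hy⟩).1 hy
        exact this
      · have hyK : y ∈ K := by
          simpa [mul_assoc] using hK.conj_mem _ (hPK hy) (x : G)⁻¹
        exact (Subgroup.mem_normalizer_iff.1 hx ⟨y, hyK⟩).2 hy
    have hxP : (x : G) ∈ (P : Subgroup G) := h1 ⟨hxN, x.2⟩
    refine Subgroup.mem_centralizer_iff.2 fun y hy => Subtype.ext ?_
    exact congrArg (fun w : (P : Subgroup G) => (w : G)) (mul_comm (⟨(y : G), hy⟩ : (P : Subgroup G)) ⟨x, hxP⟩)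
  -- Burnside: the kernel of the transfer is a normal `p'`-subgroup of `K` containing no element of
  -- order `p`; being characteristic it is trivial, so `K = P`
  have hcompl := MonoidHom.ker_transferSylow_isComplement' S hNS
  set L := (MonoidHom.transferSylow S hNS).ker
  have hLp : ¬ p ∣ Nat.card L := MonoidHom.not_dvd_card_ker_transferSylow S hNS
  have hLchar : ∀ x : K, x ∈ L ↔ ¬ p ∣ orderOf x := by
    intro x
    refine ⟨fun hx h => hLp (h.trans ?_), fun h => ?_⟩
    · rw [← Nat.card_zpowers x]; exact Subgroup.card_dvd_of_le (Subgroup.zpowers_le.2 hx)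
    · rw [MonoidHom.mem_ker, ← orderOf_eq_one_iff]
      refine Nat.eq_one_of_dvd_coprimes ((hp.coprime_iff_not_dvd.2 h).symm)
        (orderOf_map_dvd _ x) ?_
      calc orderOf ((MonoidHom.transferSylow S hNS) x) ∣ Nat.card (S : Subgroup K) :=
            orderOf_dvd_natCard _
        _ = p := by
            rw [Sylow.coe_subtype, Nat.card_congr (Subgroup.subgroupOfEquivOfLe hPK).toEquiv, hPcard]
  -- the image of `L` in `G` is normal
  have hLn : (L.map K.subtype).Normal := by
    constructor
    rintro _ ⟨x, hx, rfl⟩ g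
    refine ⟨⟨g * (x : G) * g⁻¹, hK.conj_mem _ x.2 g⟩, (hLchar _).2 ?_, rfl⟩
    rw [← Subgroup.orderOf_coe]
    show ¬ p ∣ orderOf (MulAut.conj g (x : G))
    rw [MulEquiv.orderOf_eq, Subgroup.orderOf_coe]
    exact (hLchar x).1 hx
  by_cases hLb : L = ⊥
  · rw [hLb, Subgroup.isComplement'_bot_left] at hcompl
    have hKP : K = (P : Subgroup G) := by
      refine le_antisymm (fun x hx => ?_) hPK
      have : (⟨x, hx⟩ : K) ∈ (S : Subgroup K) := hcompl ▸ Subgroup.mem_top _
      exact this
    have hPn : (P : Subgroup G).Normal := hKP ▸ hK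
    haveI := hPn
    have : Nat.card (Sylow p G) = 1 := by
      rw [P.card_eq_index_normalizer, Subgroup.index_eq_one]
      exact Subgroup.normalizer_eq_top_iff.2 hPn
    omega
  · -- a non-trivial normal subgroup has order divisible by `p`, as shown for `K`
    apply hLp
    haveI := hLn
    have hbot : L.map K.subtype ≠ ⊥ := fun h => hLb
      ((Subgroup.map_eq_bot_iff_of_injective L Subtype.coe_injective).1 h)
    rw [← Subgroup.card_subtype K L]
    exact Cfsg.Agent.S1013.dvd_card_of_normal hα G _ hbot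

end Cfsg.Agent.S1013
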