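import Cfsg.Statements.S1014
import Cfsg.Agent.H36.PermNormalizer
import Cfsg.Agent.H36.Numeric

set_option autoImplicit false
open Cfsg

namespace Cfsg.Agent.S1014

/-- No finite simple group has order 1104 = 2^4 * 3 * 23. -/
theorem result {G : Type*} [Group G] [Finite G] [IsSimpleGroup G] : Nat.card G ≠ 1104 := by
  intro hn
  haveI : Fact (Nat.Prime 23) := ⟨by norm_num⟩
  have hG : ¬ IsMulCommutative G := Cfsg.Agent.H36.not_comm_of_simple (by rw [hn]; norm_num)
  obtain ⟨P⟩ := Sylow.nonempty (p := 23) (G := G)
  have hP : Nat.card (P : Subgroup G) = 23 := by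
    simpa using Cfsg.Agent.H36.card_sylow_eq hn P (a := 1) (m := 48) (by norm_num) (by norm_num)
  have hs := Cfsg.Agent.H36.card_sylow_mem' (p := 23) hn 1 48 3 (by norm_num) (by norm_num)
    one_pos (by norm_num) (by norm_num) {24} (by decide)
  rw [Finset.mem_singleton] at hs
  have hN := Cfsg.Agent.H36.card_sylow_mul_normalizer P
  rw [hs, hn] at hN
  have hNne : Subgroup.normalizer ((P : Subgroup G) : Set G) ≠ ⊤ := fun h => by
    rw [h, Subgroup.card_top, hn] at hN; omega
  have hidx : (Subgroup.normalizer ((P : Subgroup G) : Set G)).index = 24 := by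
    rw [← hs]; exact (P.card_eq_index_normalizer).symm
  have h := Cfsg.Agent.H36.two_mul_card_normalizer_dvd hG (by norm_num) hNne (by rw [hidx]; norm_num)
    (P : Subgroup G) hP
  rw [hidx, show Nat.card (Subgroup.normalizer ((P : Subgroup G) : Set G)) = 46 by omega] at h
  norm_num [Nat.factorial] at h

end Cfsg.Agent.S1014
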