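import Cfsg.Statements.S1015
import Cfsg.Agent.H36.Normalizers
import Cfsg.Agent.S0985

set_option autoImplicit false
open Cfsg

namespace Cfsg.Agent.S1015

/-- No finite simple group has order 1200 = 2^4 * 3 * 5^2. -/
theorem result {G : Type*} [Group G] [Finite G] [IsSimpleGroup G] : Nat.card G ≠ 1200 := by
  intro hn
  haveI : Fact (Nat.Prime 5) := ⟨by norm_num⟩
  have hG : ¬ IsMulCommutative G := Cfsg.Agent.H36.not_comm_of_simple (by rw [hn]; norm_num)
  obtain ⟨P₀⟩ := Sylow.nonempty (p := 5) (G := G)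
  have hs := Cfsg.Agent.H36.card_sylow_mem' (p := 5) hn 2 48 2 (by norm_num) (by norm_num)
    two_pos (by norm_num) (by norm_num) {6, 16} (by decide)
  have hN := Cfsg.Agent.H36.card_sylow_mul_normalizer P₀
  rw [hn] at hN
  rcases Finset.mem_insert.1 hs with h | h
  · have hne : Subgroup.normalizer ((P₀ : Subgroup G) : Set G) ≠ ⊤ := fun ht => by
      rw [ht, Subgroup.card_top, hn, h] at hN; omega
    have hd := Cfsg.Agent.H36.card_dvd_factorial hne
    rw [show (Subgroup.normalizer ((P₀ : Subgroup G) : Set G)).index = 6 from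
      P₀.card_eq_index_normalizer.symm.trans h, hn] at hd
    norm_num [Nat.factorial] at hd
  rw [Finset.mem_singleton] at h
  obtain ⟨P, R, hPR, hle⟩ := Cfsg.Agent.S0985.result (G := G) 5 2 (by rw [h]; decide)
  have hcard : ∀ Q : Sylow 5 G, Nat.card (Q : Subgroup G) = 25 := fun Q => by
    simpa using Cfsg.Agent.H36.card_sylow_eq hn Q (a := 2) (m := 48) (by norm_num) (by norm_num)
  let D := (P : Subgroup G) ⊓ (R : Subgroup G)
  have hDlt : D ≠ ⊤ := fun ht => by
    have h1 := Subgroup.card_le_of_le (inf_le_left : D ≤ (P : Subgroup G))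
    rw [show (P : Subgroup G) ⊓ (R : Subgroup G) = ⊤ from ht, Subgroup.card_top, hn, hcard] at h1; omega
  have hDne : D ≠ ⊥ := fun hb => by
    rw [← Subgroup.inf_subgroupOf_left, show (P : Subgroup G) ⊓ (R : Subgroup G) = ⊥ from hb,
      Subgroup.bot_subgroupOf, Subgroup.index_bot, hcard] at hle
    norm_num at hle
  set M := Subgroup.normalizer (D : Set G)
  have hP : (P : Subgroup G) ≤ M := Cfsg.Agent.H36.le_normalizer_of_comm inf_le_left
    (Cfsg.Agent.H36.comm_of_card_eq_sq (p := 5) (by rw [hcard]; norm_num))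
  have hR : (R : Subgroup G) ≤ M := Cfsg.Agent.H36.le_normalizer_of_comm inf_le_right
    (Cfsg.Agent.H36.comm_of_card_eq_sq (p := 5) (by rw [hcard]; norm_num))
  obtain ⟨k, hk, hdvd⟩ := Cfsg.Agent.H36.exists_mul_dvd_card hPR hP hR
  rw [hcard] at hdvd
  have hMne := Cfsg.Agent.H36.normalizer_ne_top hDne hDlt
  have hfac := Cfsg.Agent.H36.card_dvd_factorial hMne
  have hmul := M.card_mul_index
  rw [hn] at hfac hmul
  have hM150 : 150 ≤ Nat.card M := le_trans (by omega) (Nat.le_of_dvd Nat.card_pos hdvd)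
  have hidx : M.index ≤ 8 := by
    have := Nat.mul_le_mul_right M.index hM150
    omega
  have h2 := hfac.trans (Nat.factorial_dvd_factorial hidx)
  norm_num [Nat.factorial] at h2

end Cfsg.Agent.S1015
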