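import Cfsg.Statements.S1016
import Cfsg.Agent.H36.Order1440

set_option linter.style.haveILetI false
-- import your own Cfsg.Agent.* helpers here

set_option autoImplicit false
open Cfsg

namespace Cfsg.Agent.S1016

/-- No finite simple group has order 1440 = 2^5 * 3^2 * 5. -/
theorem result {G : Type*} [Group G] [Finite G] [IsSimpleGroup G] : Nat.card G ≠ 1440 := by
  intro hn
  have hG : ¬ IsMulCommutative G :=
    Agent.H36.not_isMulCommutative_of_dvd Nat.prime_two Nat.prime_three (by norm_num)
      (by rw [hn]; norm_num) (by rw [hn]; norm_num)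
  haveI : Fact (Nat.Prime 5) := ⟨by norm_num⟩
  haveI : Fact (Nat.Prime 3) := ⟨by norm_num⟩
  obtain ⟨P⟩ := Sylow.nonempty (p := 5) (G := G)
  have hP : Nat.card (P : Subgroup G) = 5 := by
    have := Agent.H36.card_sylow_eq (a := 1) (m := 288) hn P (by norm_num) (by norm_num)
    simpa using this
  have hk := Agent.H36.card_sylow_mem_list (p := 5) hn 1 2 [32, 9] (by norm_num) (by norm_num)
    (by norm_num) Nat.prime_two (by norm_num) {6, 16, 36, 96} (by decide +kernel)
  simp only [Finset.mem_insert, Finset.mem_singleton] at hk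
  rcases hk with hk | hk | hk | hk
  · -- six Sylow subgroups
    have hN : Nat.card (Subgroup.normalizer ((P : Subgroup G) : Set G)) = 240 :=
      Agent.H36.card_normalizer_of_card_sylow P hn hk (by norm_num)
    have h := Agent.H36.card_dvd_factorial_of_card hn hN (by norm_num)
    norm_num [Nat.factorial] at h
  · -- sixteen
    have hN : Nat.card (Subgroup.normalizer ((P : Subgroup G) : Set G)) = 5 * 18 :=
      Agent.H36.card_normalizer_of_card_sylow P hn hk (by norm_num)
    obtain ⟨r, c, hr1, hr, hrc, hC⟩ := Agent.H36.exists_relIndex_centralizer hG P hP hN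
    have h9 : 9 ∣ c := by
      have h2 : r = 2 := by
        have : r ∣ Nat.gcd 4 18 := Nat.dvd_gcd (by simpa using hr) ⟨c, hrc.symm⟩
        have := Nat.le_of_dvd (by norm_num) this
        norm_num at this
        omega
      subst h2
      omega
    obtain ⟨D', hD'⟩ := Sylow.exists_subgroup_card_pow_prime
      (G := Subgroup.centralizer ((P : Subgroup G) : Set G)) 3 (n := 2)
      (by rw [hC]; exact dvd_mul_of_dvd_right h9 5)
    have hD : Nat.card (D'.map (Subgroup.subtype _)) = 9 := by
      rw [Subgroup.card_map_of_injective (Subgroup.subtype_injective _), hD']; norm_num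
    have h := Agent.H36.card_dvd_factorial_orbits P hP 3 (by rw [hk]) (by norm_num) _
      (Subgroup.map_subtype_le D') (by rw [hD]; norm_num)
    rw [hD] at h
    norm_num [Nat.factorial] at h
  · -- thirty-six
    have hN : Nat.card (Subgroup.normalizer ((P : Subgroup G) : Set G)) = 5 * 2 ^ 3 :=
      Agent.H36.card_normalizer_of_card_sylow P hn hk (by norm_num)
    obtain ⟨r, c, hr1, hr, hrc, hC⟩ := Agent.H36.exists_relIndex_centralizer hG P hP hN
    have hr4 : r = 2 ∨ r = 4 := by
      have := Nat.le_of_dvd (by norm_num) hr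
      have hr' : r ≠ 3 := fun h => by subst h; norm_num at hr
      omega
    rcases hr4 with rfl | rfl
    · obtain rfl : c = 2 ^ 2 := by omega
      exact Agent.H36.false_of_normalizer_two_group hG (by norm_num) (by norm_num) P hP hN hC
        (by norm_num) (by rw [hn]; norm_num)
        (Agent.H36.eq_normalizer_of_le P hk (by rw [hn]; decide +kernel))
    · obtain rfl : c = 2 := by omega
      exact Agent.H36.false_of_card_1440 hn hG P hP hk hC
  · -- ninety-six
    have hN : Nat.card (Subgroup.normalizer ((P : Subgroup G) : Set G)) = 5 * 3 :=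
      Agent.H36.card_normalizer_of_card_sylow P hn hk (by norm_num)
    obtain ⟨r, c, hr1, hr, hrc, hC⟩ := Agent.H36.exists_relIndex_centralizer hG P hP hN
    have h1 : r ∣ Nat.gcd 4 3 := Nat.dvd_gcd (by simpa using hr) ⟨c, hrc.symm⟩
    have := Nat.le_of_dvd (by norm_num) h1
    norm_num at this
    omega

end Cfsg.Agent.S1016
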