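import Cfsg.Statements.S1017
import Cfsg.Agent.H36.NoSimple
import Cfsg.Agent.H36.TwoLocal
import Cfsg.Agent.H36.PermNormalizer

set_option linter.style.haveILetI false
-- import your own Cfsg.Agent.* helpers here

set_option autoImplicit false
open Cfsg

namespace Cfsg.Agent.S1017

/-- No finite simple group has order 2016 = 2^5 * 3^2 * 7. -/
theorem result {G : Type*} [Group G] [Finite G] [IsSimpleGroup G] : Nat.card G ≠ 2016 := by
  intro hn
  have hG : ¬ IsMulCommutative G :=
    Agent.H36.not_isMulCommutative_of_dvd Nat.prime_two Nat.prime_three (by norm_num)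
      (by rw [hn]; norm_num) (by rw [hn]; norm_num)
  haveI : Fact (Nat.Prime 7) := ⟨by norm_num⟩
  obtain ⟨P⟩ := Sylow.nonempty (p := 7) (G := G)
  have hP : Nat.card (P : Subgroup G) = 7 := by
    have := Agent.H36.card_sylow_eq (a := 1) (m := 288) hn P (by norm_num) (by norm_num)
    simpa using this
  have hk := Agent.H36.card_sylow_mem_list (p := 7) hn 1 2 [32, 9] (by norm_num) (by norm_num)
    (by norm_num) Nat.prime_two (by norm_num) {8, 36, 288} (by decide +kernel)
  simp only [Finset.mem_insert, Finset.mem_singleton] at hk
  rcases hk with hk | hk | hk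
  · -- eight Sylow subgroups
    have hN : Nat.card (Subgroup.normalizer ((P : Subgroup G) : Set G)) = 252 :=
      Agent.H36.card_normalizer_of_card_sylow P hn hk (by norm_num)
    have hidx : (Subgroup.normalizer ((P : Subgroup G) : Set G)).index = 8 :=
      Agent.H36.index_eq_of_card (m := 252) hn hN |>.trans (by norm_num)
    have h := Agent.H36.two_mul_card_normalizer_dvd hG (p := 7) (by norm_num)
      (H := Subgroup.normalizer ((P : Subgroup G) : Set G))
      (fun h => by rw [h, Subgroup.index_top] at hidx; omega) (by omega) P hP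
    rw [hN, hidx] at h
    norm_num [Nat.factorial] at h
  · -- thirty-six
    have hN : Nat.card (Subgroup.normalizer ((P : Subgroup G) : Set G)) = 7 * 2 ^ 3 :=
      Agent.H36.card_normalizer_of_card_sylow P hn hk (by norm_num)
    obtain ⟨r, c, hr1, hr, hrc, hC⟩ := Agent.H36.exists_relIndex_centralizer hG P hP hN
    have hc : c = 2 ^ 2 := by
      have hr8 : r ∣ 2 ^ 3 := ⟨c, hrc.symm⟩
      have : r ∣ Nat.gcd 6 8 := Nat.dvd_gcd (by simpa using hr) (by simpa using hr8)
      have : r = 2 := by
        have := Nat.le_of_dvd (by norm_num) this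
        norm_num at this
        omega
      subst this
      omega
    subst hc
    exact Agent.H36.false_of_normalizer_two_group hG (by norm_num) (by norm_num) P hP hN hC
      (by norm_num) (by rw [hn]; norm_num)
      (Agent.H36.eq_normalizer_of_le P hk (by rw [hn]; decide +kernel))
  · -- two hundred and eighty-eight
    have hN : Nat.card (Subgroup.normalizer ((P : Subgroup G) : Set G)) = 7 * 1 :=
      Agent.H36.card_normalizer_of_card_sylow P hn hk (by norm_num)
    obtain ⟨r, c, hr1, hr, hrc, hC⟩ := Agent.H36.exists_relIndex_centralizer hG P hP hN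
    have := Nat.le_of_dvd Nat.one_pos ⟨c, hrc.symm⟩
    omega

end Cfsg.Agent.S1017
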