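import Cfsg.Statements.S1022
import Cfsg.Agent.H36.Numeric
import Cfsg.Agent.H36.NoSimple
import Cfsg.Agent.H36.TwoLocal
import Cfsg.Agent.H36.Orbits

set_option linter.style.haveILetI false
-- import your own Cfsg.Agent.* helpers here

set_option autoImplicit false
open Cfsg

namespace Cfsg.Agent.S1022

/-- No finite simple group has order 459648 = 2^7 * 3^3 * 7 * 19. -/
theorem result {G : Type*} [Group G] [Finite G] [IsSimpleGroup G] : Nat.card G ≠ 459648 := by
  intro hn
  have hG : ¬ IsMulCommutative G :=
    Agent.H36.not_isMulCommutative_of_dvd Nat.prime_two Nat.prime_three (by norm_num)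
      (by rw [hn]; norm_num) (by rw [hn]; norm_num)
  haveI : Fact (Nat.Prime 19) := ⟨by norm_num⟩
  haveI : Fact (Nat.Prime 7) := ⟨by norm_num⟩
  obtain ⟨P⟩ := Sylow.nonempty (p := 19) (G := G)
  have hP : Nat.card (P : Subgroup G) = 19 := by
    have := Agent.H36.card_sylow_eq (a := 1) (m := 24192) hn P (by norm_num) (by norm_num)
    simpa using this
  have hk := Agent.H36.card_sylow_mem_list (p := 19) hn 1 2 [128, 27, 7] (by norm_num)
    (by norm_num) (by norm_num) Nat.prime_two (by norm_num) {96, 1008} (by decide +kernel)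
  simp only [Finset.mem_insert, Finset.mem_singleton] at hk
  rcases hk with hk | hk
  · -- ninety-six: an element of order seven of `C(P)` would permute five orbits faithfully
    have hN : Nat.card (Subgroup.normalizer ((P : Subgroup G) : Set G)) = 19 * 252 :=
      Agent.H36.card_normalizer_of_card_sylow P hn hk (by norm_num)
    obtain ⟨r, c, hr1, hr, hrc, hC⟩ := Agent.H36.exists_relIndex_centralizer hG P hP hN
    have h7 : 7 ∣ c := by
      have h : 7 ∣ r * c := hrc ▸ (by norm_num)
      refine ((Nat.Prime.dvd_mul (by norm_num)).1 h).resolve_left fun h7r => ?_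
      exact absurd (h7r.trans hr) (by norm_num)
    obtain ⟨D', hD'⟩ := Sylow.exists_subgroup_card_pow_prime
      (G := Subgroup.centralizer ((P : Subgroup G) : Set G)) 7 (n := 1)
      (by rw [hC]; exact dvd_mul_of_dvd_right h7 19)
    have hD : Nat.card (D'.map (Subgroup.subtype _)) = 7 := by
      rw [Subgroup.card_map_of_injective (Subgroup.subtype_injective _), hD']; norm_num
    have h := Agent.H36.card_dvd_factorial_orbits P hP 5 (by rw [hk]) (by norm_num) _
      (Subgroup.map_subtype_le D') (by rw [hD]; norm_num)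
    rw [hD] at h
    norm_num [Nat.factorial] at h
  · -- one thousand and eight
    set N := Subgroup.normalizer ((P : Subgroup G) : Set G) with hNdef
    have hN : Nat.card N = 19 * 24 :=
      Agent.H36.card_normalizer_of_card_sylow P hn hk (by norm_num)
    obtain ⟨r, c, hr1, hr, hrc, hC⟩ := Agent.H36.exists_relIndex_centralizer hG P hP hN
    have h4 : 4 ∣ c := by
      have h6 : r ∣ 6 := (Nat.dvd_gcd hr ⟨c, hrc.symm⟩ : r ∣ Nat.gcd 18 24)
      have := Nat.le_of_dvd (by norm_num) h6
      interval_cases r <;> omega
    refine Agent.H36.false_of_two_local hG (k := 3) (j := 2) (P : Subgroup G)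
      (by rw [← hNdef, hN]; norm_num) (by rw [← hNdef, hN]; norm_num)
      (by rw [hC]; exact dvd_mul_of_dvd_right h4 19) (by norm_num) (by rw [hn]; norm_num)
      fun M hPM h8 hM => ?_
    have hd : N.relIndex M = Nat.card (Sylow 19 M) := by
      rw [Sylow.card_eq_index_normalizer (P.subtype hPM)]
      exact congrArg Subgroup.index (Subgroup.subgroupOf_normalizer_eq hPM)
    have hmod : N.relIndex M % 19 = 1 := by rw [hd, card_sylow_modEq_one 19 M]
    have hX : 152 ∣ Nat.card (N ⊓ M : Subgroup G) :=
      Nat.Coprime.mul_dvd_of_dvd_of_dvd (m := 19) (n := 8) (by norm_num)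
        (hP ▸ Subgroup.card_dvd_of_le (le_inf Subgroup.le_normalizer hPM)) h8
    have hmul := Subgroup.relIndex_mul_relIndex (⊥ : Subgroup G) (N ⊓ M) M bot_le inf_le_right
    rw [Subgroup.relIndex_bot_left, Subgroup.relIndex_bot_left, Subgroup.inf_relIndex_right]
      at hmul
    have hMd : Nat.card M ∣ 459648 := hn ▸ Subgroup.card_subgroup_dvd_card M
    obtain ⟨i, hi⟩ := hX
    rw [hi] at hmul
    have hdvd : N.relIndex M ∣ 3024 := by
      have h1 : 152 * N.relIndex M ∣ 152 * 3024 := by
        refine dvd_trans ⟨i, ?_⟩ hMd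
        rw [← hmul]; ring
      exact Nat.dvd_of_mul_dvd_mul_left (by norm_num) h1
    have hkey : ∀ d ∈ Agent.H36.divProds [16, 27, 7], d % 19 = 1 → d = 1 ∨ d = 1008 := by
      decide +kernel
    rcases hkey _ (Agent.H36.mem_divProds [16, 27, 7] (by decide) _ (by simpa using hdvd)) hmod
      with h1 | h1
    · exact Subgroup.relIndex_eq_one.1 h1
    · exfalso
      rw [h1] at hmul
      have hidx := M.card_mul_index
      rw [hn, ← hmul] at hidx
      have hi0 : 0 < i := Nat.pos_of_ne_zero fun h => by rw [h] at hidx; norm_num at hidx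
      have hle : M.index ≤ 3 := by
        have : 152 * 1008 * M.index ≤ 152 * i * 1008 * M.index :=
          Nat.mul_le_mul_right _ (Nat.mul_le_mul_right _ (Nat.le_mul_of_pos_right _ hi0))
        omega
      have hfact := Agent.H36.card_dvd_factorial hM
      rw [hn] at hfact
      have := Nat.le_of_dvd (Nat.factorial_pos _) hfact
      have := Nat.factorial_le hle
      norm_num [Nat.factorial] at this
      omega

end Cfsg.Agent.S1022
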