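import Cfsg.Statements.S1056
import Cfsg.Agent.H27.B2Omega
import Cfsg.Agent.H27.SpFourTwo
-- import your own Cfsg.Agent.* helpers here

set_option autoImplicit false
open Cfsg

namespace Cfsg.Agent.S1056

/-- B₂(F) is simple for every field `F` other than the field with two elements. -/
theorem result {F : Type*} [Field F] (hF : ∃ a : F, a ≠ 0 ∧ a ≠ 1) : IsSimpleGroup ↥(Cfsg.Lie.chevB2.group F) ∧ ¬ IsMulCommutative ↥(Cfsg.Lie.chevB2.group F) := by
  obtain ⟨e⟩ := Cfsg.Agent.H27.B2.group_equiv_psp (F := F)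
  have hperf : commutator (Matrix.symplecticGroup (Fin 2) F) = ⊤ := by
    obtain ⟨a, ha0, ha1⟩ := hF
    exact Cfsg.Agent.Symplectic.perfect_of (Or.inr (Or.inl ⟨le_rfl, -a, neg_ne_zero.2 ha0, fun h =>
      ha1 (by linear_combination -h)⟩))
  have hs := Cfsg.Agent.H27.B2Omega.simple_psp hperf
  refine ⟨e.isSimpleGroup, fun hc => ?_⟩
  have hp := Cfsg.Agent.H27.KleinCorr.commutator_quotient hperf
    (Subgroup.center (Matrix.symplecticGroup (Fin 2) F))
  have hcomm : ∀ x y : Cfsg.PSp 2 F, x * y = y * x := fun x y => by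
    obtain ⟨x, rfl⟩ := e.surjective x
    obtain ⟨y, rfl⟩ := e.surjective y
    rw [← map_mul, ← map_mul, hc.is_comm.comm]
  have h0 : commutator (Cfsg.PSp 2 F) = ⊥ := by
    rw [commutator_def, Subgroup.commutator_eq_bot_iff_le_centralizer]
    exact fun x _ => Subgroup.mem_centralizer_iff.2 fun y _ => hcomm y x
  exact bot_ne_top (α := Subgroup (Cfsg.PSp 2 F)) (h0.symm.trans hp)

end Cfsg.Agent.S1056
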