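import Cfsg.Statements.S1057
import Cfsg.Agent.H66.G2U3

set_option autoImplicit false
open Cfsg

namespace Cfsg.Agent.S1057

open Cfsg.Agent.H66

/-- Mapping the root matrices along a field homomorphism. -/
theorem map_xMat (D : Cfsg.Lie.ChevalleyDatum) {E F : Type*} [Field E] [Field F] (φ : E →+* F)
    (r : Fin D.nroots) (t : E) : (D.xMat E r t).map φ = D.xMat F r (φ t) := by
  refine Matrix.ext fun i j => ?_
  rcases i with i | i <;> rcases j with j | j <;>
    simp [Cfsg.Lie.ChevalleyDatum.xMat, Matrix.map_apply, apply_ite φ, map_list_sum,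
      List.map_map, Function.comp_def]

/-- The Chevalley groups over isomorphic fields are isomorphic. -/
theorem group_equiv (D : Cfsg.Lie.ChevalleyDatum) {E F : Type*} [Field E] [Field F] (φ : E ≃+* F) :
    Nonempty (↥(D.group E) ≃* ↥(D.group F)) := by
  let Φ : GL D.Idx E ≃* GL D.Idx F := Units.mapEquiv φ.mapMatrix.toMulEquiv
  have hΦ : ∀ (r : Fin D.nroots) (t : E) (g : GL D.Idx E),
      (g : Matrix D.Idx D.Idx E) = D.xMat E r t → (Φ g : Matrix D.Idx D.Idx F) = D.xMat F r (φ t) := by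
    intro r t g hg
    show (g : Matrix D.Idx D.Idx E).map φ = _
    rw [hg]
    exact map_xMat D φ.toRingHom r t
  have h : (D.group E).map Φ.toMonoidHom = D.group F := by
    rw [Cfsg.Lie.ChevalleyDatum.group, MonoidHom.map_closure]
    refine congrArg Subgroup.closure (Set.ext fun g => ⟨?_, ?_⟩)
    · rintro ⟨u, ⟨r, t, hu⟩, rfl⟩
      exact ⟨r, φ t, hΦ r t u hu⟩
    · rintro ⟨r, t, hg⟩
      refine ⟨Φ.symm g, ⟨r, φ.symm t, ?_⟩, Φ.apply_symm_apply g⟩
      show (g : Matrix D.Idx D.Idx F).map φ.symm = _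
      rw [hg]
      exact map_xMat D φ.symm.toRingHom r t
  exact ⟨(Φ.subgroupMap (D.group E)).trans (MulEquiv.subgroupCongr h)⟩

theorem commutator_congr {A B : Type*} [Group A] [Group B] (e : A ≃* B) :
    Nonempty (↥(commutator A) ≃* ↥(commutator B)) := by
  refine ⟨(e.subgroupMap (commutator A)).trans (MulEquiv.subgroupCongr ?_)⟩
  rw [commutator_def, commutator_def]
  show Subgroup.map e.toMonoidHom _ = _
  rw [Subgroup.map_commutator, Subgroup.map_top_of_surjective e.toMonoidHom e.surjective]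

/-- G₂(2)′ ≅ PSU₃(3). -/
theorem result {F K : Type*} [Field F] [Fintype F] [Field K] [Fintype K] (hF : Fintype.card F = 2) (hK : Fintype.card K = 9) :
    Nonempty (↥(commutator ↥(Cfsg.Lie.chevG2.group F)) ≃* Cfsg.PSU 3 K 3) := by
  have h2 : CharP F 2 := charP_of_card_eq_prime hF
  let φ : ZMod 2 ≃+* F := ZMod.ringEquivOfPrime F Nat.prime_two (by rw [hF])
  obtain ⟨e⟩ := group_equiv Cfsg.Lie.chevG2 φ
  obtain ⟨e₁⟩ := commutator_congr e
  obtain ⟨e₂⟩ := G2U3.nonempty_iso_prime hK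
  have hK' : Fintype.card K = 3 ^ 2 := hK
  have hcen : Subgroup.center (Cfsg.SU 3 K 3) = ⊥ :=
    Subgroup.card_eq_one.1 ((Cfsg.Agent.Unitary.card_center_SU (n := 3) (q := 3) hK' (by norm_num)).trans rfl)
  let π : ↥(Cfsg.SU 3 K 3) →* Cfsg.PSU 3 K 3 := QuotientGroup.mk' _
  have hπ : Function.Bijective π := by
    refine ⟨?_, QuotientGroup.mk_surjective⟩
    rw [← MonoidHom.ker_eq_bot_iff]
    exact (QuotientGroup.ker_mk' _).trans hcen
  exact ⟨e₁.symm.trans (e₂.trans (MulEquiv.ofBijective π hπ))⟩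

end Cfsg.Agent.S1057
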