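import Cfsg.Statements.S1058
import Cfsg.Agent.H27.B2Omega
import Cfsg.Agent.H27.SpFourTwo
-- import your own Cfsg.Agent.* helpers here

set_option autoImplicit false
open Cfsg

namespace Cfsg.Agent.S1058

/-- B₂(2) ≅ S₆. -/
theorem result {F : Type*} [Field F] [Fintype F] (hF : Fintype.card F = 2) :
    Nonempty (↥(Cfsg.Lie.chevB2.group F) ≃* Equiv.Perm (Fin 6)) := by
  obtain ⟨e⟩ := Cfsg.Agent.H27.B2.group_equiv_psp (F := F)
  obtain ⟨e'⟩ := Cfsg.Agent.H27.SpFourTwo.sp_four_two' hF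
  have hz : Subgroup.center (Matrix.symplecticGroup (Fin 2) F) = ⊥ := by
    apply Subgroup.eq_bot_of_card_eq
    rw [Cfsg.Agent.Symplectic.card_center (by norm_num), hF]
    rfl
  exact ⟨e.trans (((QuotientGroup.quotientMulEquivOfEq hz).trans QuotientGroup.quotientBot).trans e')⟩

end Cfsg.Agent.S1058
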