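import Cfsg.Statements.S1081
import Cfsg.Agent.H37.Sym.D4a
import Cfsg.Agent.H37.Sym.D4b
import Cfsg.Agent.H37.Sym.E6
-- import your own Cfsg.Agent.* helpers here

set_option autoImplicit false
open Cfsg

namespace Cfsg.Agent.S1081

/-- Graph automorphisms: for E₆ with ρ = (p₁ p₆)(p₃ p₅) and for D₄ with ρ the 3-cycle on the outer nodes there is a group automorphism sending `x_p(t) ↦ x_{ρ(p)}(t)` and `x_{-p}(t) ↦ x_{-ρ(p)}(t)` for every fundamental root `p`. -/
theorem result {F : Type*} [Field F] (p : Cfsg.Lie.ChevalleyDatum × List ℕ)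
    (hp : p ∈ [(Cfsg.Lie.chevE6, [5, 1, 4, 3, 2, 0]), (Cfsg.Lie.chevD4, [2, 1, 3, 0]), (Cfsg.Lie.chevD4, [3, 1, 0, 2])]) :
    ∃ α : ↥(p.1.group F) ≃* ↥(p.1.group F), ∀ (g : ↥(p.1.group F)) (i : ℕ) (t : F), i < p.1.rank →
      (((g : GL p.1.Idx F) : Matrix p.1.Idx p.1.Idx F) = p.1.x F (p.1.simple i) t →
        ((α g : GL p.1.Idx F) : Matrix p.1.Idx p.1.Idx F) = p.1.x F (p.1.simple (p.2.getD i 0)) t) ∧
      (((g : GL p.1.Idx F) : Matrix p.1.Idx p.1.Idx F) = p.1.x F (p.1.neg (p.1.simple i)) t →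
        ((α g : GL p.1.Idx F) : Matrix p.1.Idx p.1.Idx F) = p.1.x F (p.1.neg (p.1.simple (p.2.getD i 0))) t) := by
  simp only [List.mem_cons, List.not_mem_nil, or_false] at hp
  have key : ∀ {D : Cfsg.Lie.ChevalleyDatum} {T : H37.Sym.Data} (l : List ℕ),
      H37.Sym.Good T D → H37.Ordered D →
      ((List.range D.rank).all fun i =>
        decide (D.simple i < D.nroots) && decide (D.neg (D.simple i) < D.nroots) &&
        (T.p (D.simple i) == D.simple (l.getD i 0)) &&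
        (T.p (D.neg (D.simple i)) == D.neg (D.simple (l.getD i 0))) &&
        decide (T.sg (D.simple i) = 1) && decide (T.sg (D.neg (D.simple i)) = 1)) = true →
      ∃ α : ↥(D.group F) ≃* ↥(D.group F), ∀ (g : ↥(D.group F)) (i : ℕ) (t : F), i < D.rank →
        (((g : GL D.Idx F) : Matrix D.Idx D.Idx F) = D.x F (D.simple i) t →
          ((α g : GL D.Idx F) : Matrix D.Idx D.Idx F) = D.x F (D.simple (l.getD i 0)) t) ∧
        (((g : GL D.Idx F) : Matrix D.Idx D.Idx F) = D.x F (D.neg (D.simple i)) t →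
          ((α g : GL D.Idx F) : Matrix D.Idx D.Idx F) =
            D.x F (D.neg (D.simple (l.getD i 0))) t) := by
    intro D T l hT hO hc
    simp only [List.all_eq_true, List.mem_range, Bool.and_eq_true, decide_eq_true_eq,
      beq_iff_eq] at hc
    refine ⟨hT.groupEquiv hO F, fun g i t hi => ?_⟩
    obtain ⟨⟨⟨⟨⟨h1, h2⟩, h3⟩, h4⟩, h5⟩, h6⟩ := hc i hi
    refine ⟨fun hg => ?_, fun hg => ?_⟩
    · rw [hT.groupEquiv_x hO g h1 t hg, h3, h5, Int.cast_one, one_mul]
    · rw [hT.groupEquiv_x hO g h2 t hg, h4, h6, Int.cast_one, one_mul]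
  rcases hp with rfl | rfl | rfl
  · exact key _ H37.Sym.goodE6 H37.ordered_e6 (by decide +kernel)
  · exact key _ H37.Sym.goodD4a H37.ordered_d4 (by decide +kernel)
  · exact key _ H37.Sym.goodD4b H37.ordered_d4 (by decide +kernel)

end Cfsg.Agent.S1081
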