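import Cfsg.Statements.S1084
import Cfsg.Agent.H99.E6.Adjoint

set_option autoImplicit false
open Cfsg

namespace Cfsg.Agent.S1084

open Matrix Cfsg.Agent.H99.E6

/-- renumbering the coordinates -/
noncomputable def renum (F : Type*) [Field F] : GL Cfsg.Lie.I27 F ≃* GL (Fin 27) F :=
  Units.mapEquiv (Matrix.reindexAlgEquiv F F ix.symm).toMulEquiv

theorem renum_act {F : Type*} [Field F] (g : GL Cfsg.Lie.I27 F) (w : Cfsg.Lie.I27 → F) :
    act (renum F g) (w ∘ ix) = ((g : Matrix Cfsg.Lie.I27 Cfsg.Lie.I27 F) *ᵥ w) ∘ ix := by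
  funext a
  simp only [act, renum, Units.coe_mapEquiv, Matrix.mulVec, dotProduct, Function.comp_apply]
  exact Equiv.sum_comp ix (fun x => (g : Matrix Cfsg.Lie.I27 Cfsg.Lie.I27 F) (ix a) x * w x)

theorem renum_map {F : Type*} [Field F] :
    (Cfsg.Lie.E6univ F).map (renum F).toMonoidHom = Stab F := by
  ext h
  obtain ⟨g, rfl⟩ := (renum F).surjective h
  constructor
  · rintro ⟨g', hg', e'⟩
    have hgg : g' = g := (renum F).injective e'
    subst hgg
    rw [mem_Stab]
    intro v
    obtain ⟨w, rfl⟩ : ∃ w, v = w ∘ ix := ⟨v ∘ ix.symm, by ext; simp⟩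
    rw [renum_act, ← cubicT_eq, ← cubicT_eq]
    exact hg' w
  · intro hg
    refine ⟨g, fun w => ?_, rfl⟩
    rw [cubicT_eq, cubicT_eq]
    have h := hg (w ∘ ix)
    simp only [Units.coeHom_apply] at h ⊢
    rwa [show ((renum F g : GL (Fin 27) F) : Matrix (Fin 27) (Fin 27) F) *ᵥ (w ∘ ix) =
      ((g : Matrix Cfsg.Lie.I27 Cfsg.Lie.I27 F) *ᵥ w) ∘ ix from renum_act g w] at h

/-- E₆ via the 27-dimensional cubic form: for a finite field with at least three elements, (isometries of the cubic form) / centre ≅ the Chevalley group E₆(F). -/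
theorem result {F : Type*} [Field F] [Fintype F] (hF : 3 ≤ Fintype.card F) : Nonempty (Cfsg.Lie.E6 F ≃* ↥(Cfsg.Lie.chevE6.group F)) := by
  classical
  have hF' : ∃ t : F, t ≠ 0 ∧ t ≠ 1 := by
    by_contra h
    push Not at h
    have hsub : (Finset.univ : Finset F) ⊆ {0, 1} := fun t _ => by
      rcases eq_or_ne t 0 with rfl | ht
      · simp
      · simp [h t ht]
    have := Finset.card_le_card hsub
    rw [Finset.card_univ] at this
    have h2 : ({0, 1} : Finset F).card ≤ 2 := Finset.card_le_two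
    omega
  let e1 : ↥(Cfsg.Lie.E6univ F) ≃* ↥(Elem F) :=
    ((Cfsg.Lie.E6univ F).equivMapOfInjective (renum F).toMonoidHom (renum F).injective).trans
      (MulEquiv.subgroupCongr (renum_map.trans (Stab_eq hF')))
  obtain ⟨e2⟩ := elem_equiv (F := F)
  refine ⟨(QuotientGroup.congr (Subgroup.center _) (Subgroup.center _) e1 ?_).trans e2⟩
  ext x
  rw [Subgroup.mem_map, Subgroup.mem_center_iff]
  constructor
  · rintro ⟨y, hy, rfl⟩ z
    obtain ⟨z, rfl⟩ := e1.surjective z
    change e1 z * e1 y = e1 y * e1 z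
    rw [← map_mul, ← map_mul, Subgroup.mem_center_iff.1 hy z]
  · intro hx
    obtain ⟨y, rfl⟩ := e1.surjective x
    exact ⟨y, Subgroup.mem_center_iff.2 fun z => e1.injective (by rw [map_mul, map_mul]; exact hx (e1 z)), rfl⟩

end Cfsg.Agent.S1084
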