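import Cfsg.Statements.S1101
import Cfsg.Agent.H38.Ree.Group

set_option autoImplicit false
open Cfsg

namespace Cfsg.Agent.S1101

/-- For ²G₂ over `K` with `|K| = 3^(2m+1)`, `θ = 3^m`: `U¹ = G¹ ∩ U` consists exactly of the elements `x_a(t^θ) x_b(t) x_{a+b}(t^{θ+1}+u^θ) x_{2a+b}(t^{2θ+1}+v^θ) x_{3a+b}(u) x_{3a+2b}(v)`, `t, u, v ∈ K`, and it has `|K|³` elements. -/
theorem result {K : Type*} [Field K] [Fintype K] {m : ℕ} (hK : Fintype.card K = 3 ^ (2 * m + 1)) :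
    (∀ g : GL Cfsg.Lie.chevG2.Idx K, g ∈ Cfsg.Lie.chevG2.posUnipotent K ⊓ Cfsg.Lie.twistedG2 K (3 ^ m) ↔
      ∃ t u v : K, (g : Matrix Cfsg.Lie.chevG2.Idx Cfsg.Lie.chevG2.Idx K) = Cfsg.Lie.chevG2.wordMat K (Cfsg.Lie.reeWordU (3 ^ m) t u v)) ∧
    Nat.card ↥(Cfsg.Lie.chevG2.posUnipotent K ⊓ Cfsg.Lie.twistedG2 K (3 ^ m)) = (3 ^ (2 * m + 1)) ^ 3 := by
  obtain ⟨P, he⟩ := Cfsg.Agent.H38.Ree.exists_par hK
  rw [← he] at *
  refine ⟨fun g => ⟨fun hg => ?_, fun ⟨t, u, v, hg⟩ => ?_⟩,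
    by rw [P.card_U, Nat.card_eq_fintype_card, hK]⟩
  · obtain ⟨a, c, d, e⟩ := (P.fixed_iff (v := ⟨g, P.T_le hg.2⟩)
      (Cfsg.Agent.H38.Ree.sysU_mem.2 hg.1)).1 (P.mem_T.1 hg.2)
    refine ⟨a, P.ti c, P.ti d, ?_⟩
    have h := P.word_U a (P.ti c) (P.ti d)
    rw [P.th_ti, P.th_ti, ← e] at h
    exact (congrArg Units.val (congrArg Subtype.val h.symm)).trans
      ((congrArg Units.val (Cfsg.Agent.H38.Ree.val_wordProd _)).trans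
        ((Cfsg.Agent.H38.Ree.Q K).K.coe_wU K _))
  · have h := P.word_U t u v
    have e : g = ((P.U1 t (P.th u) (P.th v) : ↥(Cfsg.Lie.chevG2.group K)) :
        GL Cfsg.Lie.chevG2.Idx K) := by
      rw [← h]
      exact Units.ext (hg.trans ((congrArg Units.val (Cfsg.Agent.H38.Ree.val_wordProd _)).trans
        ((Cfsg.Agent.H38.Ree.Q K).K.coe_wU K _)).symm)
    subst e
    exact ⟨Cfsg.Agent.H38.Ree.sysU_mem.1 (P.U1_mem _ _ _), P.mem_T.2 (P.σ_U1 _ _ _)⟩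

end Cfsg.Agent.S1101
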