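import Cfsg.Statements.S1118
import Cfsg.Agent.H38.RankOne


set_option autoImplicit false
open Cfsg

namespace Cfsg.Agent.S1118

/-- In the rank-one set-up (`G` finite and doubly transitive on `Ω`, `t` an involution moving `a`, `Q` normal in `G_a` with `G_a = Q D`, `Q ⊓ D = 1` for the two-point stabiliser `D = G_a ⊓ G_{t • a}`, `|Q|` even, `|D|` odd), the normaliser of a subset of `Q` containing a non-identity element lies in `G_a`; consequently `N_G(Q) = N_G(G_a) = G_a`. -/
theorem result {G Ω : Type*} [Group G] [Finite G] [MulAction G Ω] {a : Ω} {t : G} {Q : Subgroup G}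
    (hS : Cfsg.IsRankOneSetup G Ω a t Q) :
    (∀ X : Set G, X ⊆ (Q : Set G) → (∃ x ∈ X, x ≠ 1) → Subgroup.normalizer X ≤ MulAction.stabilizer G a) ∧
      Subgroup.normalizer (Q : Set G) = MulAction.stabilizer G a ∧
      Subgroup.normalizer (MulAction.stabilizer G a : Set G) = MulAction.stabilizer G a := by
  have h1 : ∀ X : Set G, X ⊆ (Q : Set G) → (∃ x ∈ X, x ≠ 1) →
      Subgroup.normalizer X ≤ MulAction.stabilizer G a := by
    intro X hX ⟨x, hx, hx1⟩ g hg
    have h2 : g * x * g⁻¹ ∈ Q := hX ((hg x).mp hx)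
    have h3 : (g * x * g⁻¹) • a = a := H38.Q_fix hS h2
    rw [mul_smul, mul_smul, smul_eq_iff_eq_inv_smul] at h3
    have := H38.Q_fix_only hS (hX hx) hx1 h3
    show g • a = a
    rw [inv_smul_eq_iff] at this
    exact this.symm
  obtain ⟨q, hq, hqb⟩ := H38.exists_Q hS (H38.t_smul_ne hS)
  obtain ⟨x, hx, hx1⟩ : ∃ x ∈ Q, x ≠ 1 := by
    by_contra h
    push Not at h
    have hQ : Q = ⊥ := (Subgroup.eq_bot_iff_forall _).mpr h
    have := hS.even_card
    rw [hQ, Subgroup.card_bot] at this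
    exact Nat.not_even_one this
  have hle : MulAction.stabilizer G a ≤ Subgroup.normalizer (Q : Set G) := by
    intro g hg n
    refine ⟨fun hn => hS.conj_mem g hg n hn, fun hn => ?_⟩
    have := hS.conj_mem g⁻¹ (inv_mem hg) _ hn
    simpa [mul_assoc] using this
  refine ⟨h1, le_antisymm (h1 Q subset_rfl ⟨x, hx, hx1⟩) hle, le_antisymm ?_ Subgroup.le_normalizer⟩
  intro g hg
  have h2 : g * x * g⁻¹ ∈ MulAction.stabilizer G a := (hg x).mp (hS.le hx)
  have h3 : (g * x * g⁻¹) • a = a := h2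
  rw [mul_smul, mul_smul, smul_eq_iff_eq_inv_smul] at h3
  have := H38.Q_fix_only hS hx hx1 h3
  show g • a = a
  rw [inv_smul_eq_iff] at this
  exact this.symm

end Cfsg.Agent.S1118
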