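import Cfsg.Statements.S1120
import Cfsg.Agent.H38.FixedPoints
import Cfsg.Agent.H38.FourGroup


set_option autoImplicit false
open Cfsg

namespace Cfsg.Agent.S1120

/-- In the rank-one set-up (`G` finite and doubly transitive on `Ω`, `t` an involution moving `a`, `Q` normal in `G_a` with `G_a = Q D`, `Q ⊓ D = 1` for the two-point stabiliser `D = G_a ⊓ G_{t • a}`, `|Q|` even, `|D|` odd), if `G` has 2-rank at least 2 then `O_{2'}(G)` equals the normal core of `G_a`. -/
theorem result {G Ω : Type*} [Group G] [Finite G] [MulAction G Ω] {a : Ω} {t : G} {Q : Subgroup G}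
    (hS : Cfsg.IsRankOneSetup G Ω a t Q)
    (h2 : ∃ x y : G, x ≠ 1 ∧ y ≠ 1 ∧ x ≠ y ∧ x * x = 1 ∧ y * y = 1 ∧ x * y = y * x) :
    Cfsg.pPrimeCore 2 G = (MulAction.stabilizer G a).normalCore := by
  haveI := hS.two_transitive
  obtain ⟨x, y, hx1, hy1, hne, hx, hy, hxy⟩ := h2
  refine le_antisymm (sSup_le ?_) (le_sSup ⟨Subgroup.normalCore_normal _, ?_⟩)
  · rintro N ⟨hN, hco⟩
    have hodd : Odd (Nat.card N) := Nat.coprime_two_right.mp hco
    obtain ⟨c, hc⟩ := H38.exists_fix hS hx
    have hyc : y • c = c := H38.commute_fix hS hx1 hx (Commute.symm hxy) hc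
    have hle : N ≤ MulAction.stabilizer G c := by
      refine H38.le_of_four_group hx hy hxy hodd (fun g hg => hN.conj_mem g hg x)
        (fun g hg => hN.conj_mem g hg y) ?_ ?_ ?_
      · exact fun g _ hg => H38.commute_fix hS hx1 hx hg hc
      · exact fun g _ hg => H38.commute_fix hS hy1 hy hg hyc
      · intro g _ hg
        refine H38.commute_fix hS (u := x * y) ?_ ?_ hg (by rw [mul_smul, hyc, hc])
        · intro e
          exact hne (by rw [← inv_eq_of_mul_eq_one_right e, H38.inv_eq_self hx])
        · rw [show x * y * (x * y) = x * (y * x) * y by group, ← hxy,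
            show x * (x * y) * y = (x * x) * (y * y) by group, hx, hy, mul_one]
    refine Subgroup.normal_le_normalCore.mpr fun n hn => ?_
    obtain ⟨g, hg⟩ := H38.exists_smul hS c a
    have h3 : (g⁻¹ * n * g) • c = c := hle (by simpa using hN.conj_mem n hn g⁻¹)
    show n • a = a
    rw [mul_smul, mul_smul, hg, inv_smul_eq_iff, hg] at h3
    exact h3
  · refine Nat.coprime_two_right.mpr (hS.odd_card.of_dvd_nat (Subgroup.card_dvd_of_le ?_))
    refine le_inf (Subgroup.normalCore_le _) fun n hn => ?_
    have h3 : (t⁻¹ * n * t) • a = a := by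
      have := (Subgroup.normalCore_normal (MulAction.stabilizer G a)).conj_mem n hn t⁻¹
      rw [inv_inv] at this
      exact Subgroup.normalCore_le _ this
    show n • (t • a) = t • a
    rw [mul_smul, mul_smul, inv_smul_eq_iff] at h3
    exact h3

end Cfsg.Agent.S1120
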