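import Cfsg.Statements.S1125
import Cfsg.Agent.H38.FixedPoints


set_option autoImplicit false
open Cfsg

namespace Cfsg.Agent.S1125

/-- In the rank-one set-up (`G` finite and doubly transitive on `Ω`, `t` an involution moving `a`, `Q` normal in `G_a` with `G_a = Q D`, `Q ⊓ D = 1` for the two-point stabiliser `D = G_a ⊓ G_{t • a}`, `|Q|` even, `|D|` odd), let `X ⊆ D` fix at least three points of `Ω`. Then `C_G(X)` is doubly transitive on the fixed-point set of `X`, `|C_Q(X)|` is even, and `C_{G_a}(X) = C_Q(X) C_D(X)`. -/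
theorem result {G Ω : Type*} [Group G] [Finite G] [MulAction G Ω] {a : Ω} {t : G} {Q : Subgroup G}
    (hS : Cfsg.IsRankOneSetup G Ω a t Q)
    (X : Set G) (hX : X ⊆ ((MulAction.stabilizer G a ⊓ MulAction.stabilizer G (t • a)) : Set G))
    (h3 : ∃ b c d : Ω, b ≠ c ∧ b ≠ d ∧ c ≠ d ∧ ∀ x ∈ X, x • b = b ∧ x • c = c ∧ x • d = d) :
    (∀ b₁ b₂ c₁ c₂ : Ω, (∀ x ∈ X, x • b₁ = b₁ ∧ x • b₂ = b₂ ∧ x • c₁ = c₁ ∧ x • c₂ = c₂) →
        b₁ ≠ b₂ → c₁ ≠ c₂ → ∃ g ∈ Subgroup.centralizer X, g • b₁ = c₁ ∧ g • b₂ = c₂) ∧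
      Even (Nat.card ↥(Subgroup.centralizer X ⊓ Q)) ∧
      (Subgroup.centralizer X ⊓ Q) ⊔ (Subgroup.centralizer X ⊓ (MulAction.stabilizer G a ⊓ MulAction.stabilizer G (t • a))) = Subgroup.centralizer X ⊓ MulAction.stabilizer G a := by
  obtain ⟨b, c, d, hbc, hbd, hcd, hfix⟩ := h3
  have h3' : ∃ e ∈ H38.fixPts Ω X, e ≠ a ∧ e ≠ t • a := by
    by_cases hb : b ≠ a ∧ b ≠ t • a
    · exact ⟨b, fun x hx => (hfix x hx).1, hb⟩
    by_cases hc : c ≠ a ∧ c ≠ t • a
    · exact ⟨c, fun x hx => (hfix x hx).2.1, hc⟩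
    refine ⟨d, fun x hx => (hfix x hx).2.2, ?_, ?_⟩ <;> intro e <;>
      rw [not_and_or, not_not, not_not] at hb hc <;>
      rcases hb with rfl | rfl <;> rcases hc with rfl | rfl <;> simp_all
  refine ⟨fun b₁ b₂ c₁ c₂ h hb hc => ?_, ?_, ?_⟩
  · obtain ⟨g, hg, hg1, hg2⟩ := H38.trans_pairs hS hX h3' (fun x hx => (h x hx).1)
      (fun x hx => (h x hx).2.1) hb
    obtain ⟨g', hg', hg1', hg2'⟩ := H38.trans_pairs hS hX h3' (fun x hx => (h x hx).2.2.1)
      (fun x hx => (h x hx).2.2.2) hc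
    exact ⟨g'⁻¹ * g, mul_mem (inv_mem hg') hg,
      by rw [mul_smul, hg1, ← hg1', inv_smul_smul], by rw [mul_smul, hg2, ← hg2', inv_smul_smul]⟩
  · obtain ⟨w, hw, hw2, hwa⟩ := H38.exists_invol_cent hS hX h3'
    obtain ⟨f, hf⟩ := H38.exists_fix hS hw2
    have hw1 : w ≠ 1 := fun e => H38.t_smul_ne hS (by rw [← hwa, e, one_smul])
    have hfa : f ≠ a := fun e => H38.t_smul_ne hS (by rw [← hwa, ← e, hf])
    let T := {x : Ω // x ∈ H38.fixPts Ω X ∧ x ≠ a}
    haveI := H38.finite_pts hS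
    have e1 : Nat.card ↥(Subgroup.centralizer X ⊓ Q) = Nat.card T := by
      refine Nat.card_congr (Equiv.ofBijective
        (fun q => (⟨(q : G) • (t • a), ?_, ?_⟩ : T)) ⟨?_, ?_⟩)
      · exact H38.smul_mem_fixPts q.2.1 (H38.base_mem_fixPts hX).2
      · intro e
        exact H38.t_smul_ne hS (smul_left_cancel _ (e.trans (H38.Q_fix hS q.2.2).symm))
      · intro q q' e
        exact Subtype.ext (H38.Q_inj_base hS q.2.2 q'.2.2 (congrArg Subtype.val e))
      · rintro ⟨x, hx, hxa⟩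
        obtain ⟨q, hq, rfl⟩ := H38.exists_CQ hS hX hx hxa
        exact ⟨⟨q, hq⟩, rfl⟩
    classical
    have := Fintype.ofFinite Ω
    let F : Finset Ω := Finset.univ.filter fun x => x ∈ H38.fixPts Ω X
    have hF : F.card = Nat.card T + 1 := by
      have haF : a ∈ F := Finset.mem_filter.mpr ⟨Finset.mem_univ _, (H38.base_mem_fixPts hX).1⟩
      rw [← Finset.card_erase_add_one haF, Nat.card_eq_fintype_card, Fintype.card_subtype]
      congr 1
      refine congrArg Finset.card ?_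
      ext x
      simp [F, and_comm]
    have hfF : f ∈ F := by
      refine Finset.mem_filter.mpr ⟨Finset.mem_univ _, fun x hx => ?_⟩
      exact H38.commute_fix hS hw1 hw2 (Subgroup.mem_centralizer_iff.mp hw x hx) hf
    have hev : Even (F.erase f).card := by
      refine Finset.card_eq_sum_ones (F.erase f) ▸ ?_
      rw [Nat.even_iff, ← ZMod.natCast_eq_zero_iff_even.trans Nat.even_iff, Nat.cast_sum]
      refine Finset.sum_involution (fun x _ => w • x) (fun _ _ => by decide)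
        (fun x hx _ e => (Finset.mem_erase.mp hx).1 (H38.fix_unique hS hw1 hw2 hf e)) ?_
        (fun x _ => by rw [← mul_smul, hw2, one_smul])
      intro x hx
      rw [Finset.mem_erase, Finset.mem_filter] at hx ⊢
      exact ⟨fun e => hx.1 (smul_left_cancel w (e.trans hf.symm)), Finset.mem_univ _,
        H38.smul_mem_fixPts hw hx.2.2⟩
    rw [Finset.card_erase_of_mem hfF, hF] at hev
    rw [e1]
    simpa using hev
  · refine le_antisymm (sup_le (fun g hg => ⟨hg.1, hS.le hg.2⟩) fun g hg => ⟨hg.1, hg.2.1⟩) ?_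
    rintro g ⟨hg, hga⟩
    have hne : g • (t • a) ≠ a := fun e =>
      H38.t_smul_ne hS (smul_left_cancel g (e.trans hga.symm))
    obtain ⟨q, hq, hqb⟩ := H38.exists_CQ hS hX
      (H38.smul_mem_fixPts hg (H38.base_mem_fixPts hX).2) hne
    have : q⁻¹ * g ∈ Subgroup.centralizer X ⊓
        (MulAction.stabilizer G a ⊓ MulAction.stabilizer G (t • a)) := by
      have hqc : q ∈ Subgroup.centralizer X := hq.1
      refine Subgroup.mem_inf.mpr ⟨mul_mem (inv_mem hqc) hg, H38.mem_D_iff.mpr ⟨?_, ?_⟩⟩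
      · rw [mul_smul, show g • a = a from hga, H38.Q_fix hS (inv_mem hq.2)]
      · rw [mul_smul, ← hqb, inv_smul_smul]
    rw [show g = q * (q⁻¹ * g) by group]
    exact Subgroup.mul_mem_sup hq this

end Cfsg.Agent.S1125
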