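import Cfsg.Statements.S1148
import Cfsg.Agent.H36.OddU3.Main
import Cfsg.Agent.H28.BNBasic

set_option autoImplicit false
open Cfsg

namespace Cfsg.Agent.S1148

/-- Let `G` be finite simple with a (B,N)-pair of rank 1, `B = U H` with `U` nilpotent normal in `B`, `H = B ⊓ N`, `U ⊓ H = 1`, where `[G : B] = p^(3n) + 1` for an odd prime `p`, `|U| = p^(3n)` and `H` is cyclic of order `(p^(2n) - 1)/gcd(3, p^n + 1)`. Then `G ≅ PSU₃(p^n)`. -/
theorem result {G : Type*} [Group G] [Finite G] [IsSimpleGroup G]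
    (P : Cfsg.BNPair G) (h1 : P.rank = 1) {p n : ℕ} (hp : p.Prime) (hp2 : p ≠ 2) (hn : 1 ≤ n)
    (U : Subgroup G) (hUB : U ≤ P.B) (hUn : ∀ b ∈ P.B, ∀ u ∈ U, b * u * b⁻¹ ∈ U)
    (hUnil : Group.IsNilpotent U) (hsplit : U ⊔ (P.B ⊓ P.N) = P.B) (hdisj : U ⊓ (P.B ⊓ P.N) = ⊥)
    (hind : P.B.index = p ^ (3 * n) + 1) (hU : Nat.card U = p ^ (3 * n))
    (hHc : IsCyclic ↥(P.B ⊓ P.N))
    (hH : Nat.gcd 3 (p ^ n + 1) * Nat.card ↥(P.B ⊓ P.N) = p ^ (2 * n) - 1) :
    ∃ (F : Type) (_ : Field F) (_ : Fintype F), Fintype.card F = (p ^ n) ^ 2 ∧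
      Nonempty (G ≃* Cfsg.PSU 3 F (p ^ n)) := by
  classical
  obtain ⟨⟨hsub⟩, ⟨⟨w, hwS⟩⟩⟩ := Nat.card_eq_one_iff_unique.1 (show Nat.card P.S = 1 from h1)
  have hSw : ∀ x ∈ P.S, x = w := fun x hx => congrArg Subtype.val (hsub ⟨x, hx⟩ ⟨w, hwS⟩)
  have hw2 : w * w ∈ P.B := P.sq_mem w hwS
  have hwB : w ∉ P.B := Cfsg.Agent.H28.S_not_mem_B hwS
  -- the elements of `N`
  have hN : ∀ m ∈ P.N, m ∈ P.B ∨ w⁻¹ * m ∈ P.B := by
    intro m hm
    obtain ⟨L, hL, hLm⟩ := Cfsg.Agent.H28.exists_rep hm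
    have hprod : L.prod = w ^ L.length := List.prod_eq_pow_card L w fun x hx => hSw x (hL x hx)
    rw [hprod] at hLm
    have hmm : m = w ^ L.length * ((w ^ L.length)⁻¹ * m) := (mul_inv_cancel_left _ m).symm
    rcases Nat.even_or_odd L.length with ⟨i, hi⟩ | ⟨i, hi⟩
    · left
      rw [hmm]
      refine mul_mem ?_ hLm
      rw [hi, ← two_mul, pow_mul, sq]
      exact pow_mem hw2 i
    · right
      rw [hmm, ← mul_assoc]
      refine mul_mem ?_ hLm
      rw [hi, pow_succ', inv_mul_cancel_left, pow_mul, sq]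
      exact pow_mem hw2 i
  have hnorm : P.B ⊓ P.N ≤ Subgroup.normalizer (U : Set G) := fun x hx =>
    Subgroup.mem_normalizer_iff.2 fun u => ⟨hUn x hx.1 u, fun h => by
      simpa [mul_assoc] using hUn x⁻¹ (inv_mem hx.1) _ h⟩
  have hdec : ∀ x ∈ P.B, ∃ u ∈ U, ∃ h ∈ P.B ⊓ P.N, x = u * h := by
    intro x hx
    rw [← hsplit, ← SetLike.mem_coe, Subgroup.coe_mul_of_right_le_normalizer_left _ _ hnorm] at hx
    obtain ⟨u, hu, h, hh, e⟩ := hx
    exact ⟨u, hu, h, hh, e.symm⟩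
  have hwN : w ∈ P.N := P.subset hwS
  have hHb : ∀ h ∈ P.B ⊓ P.N, h • ((w : G) : G ⧸ P.B) = (w : G ⧸ P.B) := by
    intro h hh
    rw [MulAction.Quotient.smul_coe, smul_eq_mul, QuotientGroup.eq, mul_inv_rev]
    have h1 := P.conj_mem w⁻¹ (inv_mem hwN) h⁻¹ (inv_mem hh)
    simpa [mul_assoc] using h1
  let a : G ⧸ P.B := ((1 : G) : G ⧸ P.B)
  let b : G ⧸ P.B := (w : G ⧸ P.B)
  have hab : a ≠ b := fun e => hwB (by simpa using QuotientGroup.eq.1 e)
  have hBa : ∀ x : G, x • a = a ↔ x ∈ P.B := fun x => by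
    show ((x * 1 : G) : G ⧸ P.B) = ((1 : G) : G ⧸ P.B) ↔ _
    rw [QuotientGroup.eq]
    simp
  have htrans : ∀ c : G ⧸ P.B, c ≠ a → ∃ u : U, (u : G) • b = c := by
    intro c hc
    obtain ⟨x, rfl⟩ := QuotientGroup.mk_surjective c
    obtain ⟨m, hm, hxm⟩ := Cfsg.Agent.H28.bruhat (P := P) x
    obtain ⟨b1, hb1, b2, hb2, rfl⟩ := (Cfsg.Agent.H28.mem_dc P).1 hxm
    rcases hN m hm with hmB | hmB
    · exact absurd (QuotientGroup.eq.2 (by
        simpa [mul_assoc] using mul_mem (mul_mem (inv_mem hb2) (inv_mem hmB)) (inv_mem hb1))) hc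
    · obtain ⟨u, hu, h, hh, rfl⟩ := hdec b1 hb1
      refine ⟨⟨u, hu⟩, ?_⟩
      have e : ((u * h * m * b2 : G) : G ⧸ P.B) = ((u * h * w : G) : G ⧸ P.B) := by
        refine (QuotientGroup.eq.2 ?_).symm
        simpa [mul_assoc] using mul_mem hmB hb2
      rw [e, show ((u * h * w : G) : G ⧸ P.B) = u • h • (b : G ⧸ P.B) by
        rw [← mul_smul]; rfl, hHb h hh]
  have hq : 0 < p ^ n := pow_pos hp.pos n
  have hUcard : Nat.card {c : G ⧸ P.B // c ≠ a} = Nat.card U := by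
    haveI := Fintype.ofFinite (G ⧸ P.B)
    rw [Nat.card_eq_fintype_card, Fintype.card_subtype_compl, Fintype.card_subtype_eq,
      ← Nat.card_eq_fintype_card, ← Subgroup.index_eq_card, hind, hU]
    omega
  have hUne : ∀ u : U, (u : G) • b ≠ a := fun u e => hab (by
    have h := congrArg ((u : G)⁻¹ • ·) e
    simp only [inv_smul_smul] at h
    rw [h, (hBa _).2 (inv_mem (hUB u.2))])
  have hbij : Function.Bijective (fun u : U => (⟨(u : G) • b, hUne u⟩ : {c : G ⧸ P.B // c ≠ a})) :=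
    (Nat.bijective_iff_surjective_and_card _).2 ⟨fun c => by
      obtain ⟨u, hu⟩ := htrans c.1 c.2
      exact ⟨u, Subtype.ext hu⟩, hUcard.symm⟩
  haveI : FaithfulSMul G (G ⧸ P.B) := by
    refine ⟨fun {x y} hxy => ?_⟩
    have hker : (MulAction.toPermHom G (G ⧸ P.B)).ker = ⊥ := by
      rcases (inferInstance : IsSimpleGroup G).eq_bot_or_eq_top_of_normal _
        (MonoidHom.normal_ker (MulAction.toPermHom G (G ⧸ P.B))) with h | h
      · exact h
      · exfalso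
        apply hwB
        rw [← hBa]
        have hw : w ∈ (MulAction.toPermHom G (G ⧸ P.B)).ker := h ▸ Subgroup.mem_top w
        exact Equiv.ext_iff.1 (MonoidHom.mem_ker.1 hw) a
    exact (MonoidHom.ker_eq_bot_iff _).1 hker (Equiv.ext hxy)
  have C : Cfsg.Agent.H36.OddU3.Cfg G (G ⧸ P.B) a b U (P.B ⊓ P.N) p n :=
    { prime := hp
      odd := hp2
      one_le := hn
      ab := hab
      U_fix := fun u hu => (hBa u).2 (hUB hu)
      regular := fun c hc => by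
        obtain ⟨u, hu⟩ := hbij.2 ⟨c, hc⟩
        exact ⟨u, congrArg Subtype.val hu, fun v hv =>
          hbij.1 (Subtype.ext (hv.trans (congrArg Subtype.val hu).symm))⟩
      H_iff := fun x => by
        refine ⟨fun hx => ⟨(hBa x).2 hx.1, hHb x hx⟩, fun ⟨hxa, hxb⟩ => ?_⟩
        obtain ⟨u, hu, h, hh, rfl⟩ := hdec x ((hBa x).1 hxa)
        rw [mul_smul, hHb h hh] at hxb
        have : (⟨u, hu⟩ : U) = 1 := hbij.1 (Subtype.ext (hxb.trans (one_smul G b).symm))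
        rw [show u = 1 from congrArg Subtype.val this, one_mul]
        exact hh
      conj := fun h hh u hu => hUn h hh.1 u hu
      swap := ⟨w, by show ((w * 1 : G) : G ⧸ P.B) = _; rw [mul_one], by
        show ((w * w : G) : G ⧸ P.B) = ((1 : G) : G ⧸ P.B)
        rw [QuotientGroup.eq]; simpa using inv_mem hw2⟩
      nilp := hUnil
      cardU := by rw [hU, ← pow_mul, mul_comm]
      cyclic := hHc
      cardH := ⟨Nat.gcd 3 (p ^ n + 1), (Nat.dvd_prime Nat.prime_three).1 (Nat.gcd_dvd_left _ _),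
        Nat.gcd_dvd_right _ _, hH⟩ }
  exact C.iso_psu inferInstance

end Cfsg.Agent.S1148
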