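import Cfsg.Statements.S1165
import Cfsg.Agent.H38.RankOne


set_option autoImplicit false
open Cfsg

namespace Cfsg.Agent.S1165

/-- In the rank-one set-up (`G` finite and doubly transitive on `Ω`, `t` an involution moving `a`, `Q` normal in `G_a` with `G_a = Q D`, `Q ⊓ D = 1` for the two-point stabiliser `D = G_a ⊓ G_{t • a}`, `|Q|` even, `|D|` odd): every `x ∈ Q`, `x ≠ 1`, determines unique `g, f ∈ Q`, `h ∈ D` with `t x t = g h t f` (a consequence of the canonical form). For these: (H1) the `f`-part of `x⁻¹` is `g⁻¹`; (H2) the `f`-part of `f` is `x`; (H3) for `a ∈ D` the `f`-part of `a⁻¹ x a` is `(t a t)⁻¹ f (t a t)`; (H4) the `h`-part of `a⁻¹ x a` is `(t a t)⁻¹ h a`, that of `x⁻¹` is `t h⁻¹ t`, and that of `f` is `h⁻¹`. -/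
theorem result {G Ω : Type*} [Group G] [Finite G] [MulAction G Ω] {a : Ω} {t : G} {Q : Subgroup G}
    (hS : Cfsg.IsRankOneSetup G Ω a t Q)
    (x g h f : G) (hx : x ∈ Q) (hx1 : x ≠ 1) (hg : g ∈ Q) (hh : h ∈ (MulAction.stabilizer G a ⊓ MulAction.stabilizer G (t • a))) (hf : f ∈ Q)
    (heq : t * x * t = g * h * t * f) :
    (∀ g₁ h₁ f₁ : G, g₁ ∈ Q → h₁ ∈ (MulAction.stabilizer G a ⊓ MulAction.stabilizer G (t • a)) → f₁ ∈ Q → t * x⁻¹ * t = g₁ * h₁ * t * f₁ →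
        f₁ = g⁻¹ ∧ h₁ = t * h⁻¹ * t) ∧
      (∀ g₂ h₂ f₂ : G, g₂ ∈ Q → h₂ ∈ (MulAction.stabilizer G a ⊓ MulAction.stabilizer G (t • a)) → f₂ ∈ Q → t * f * t = g₂ * h₂ * t * f₂ →
        f₂ = x ∧ h₂ = h⁻¹) ∧
      ∀ c ∈ (MulAction.stabilizer G a ⊓ MulAction.stabilizer G (t • a)), ∀ g₃ h₃ f₃ : G, g₃ ∈ Q → h₃ ∈ (MulAction.stabilizer G a ⊓ MulAction.stabilizer G (t • a)) → f₃ ∈ Q →
        t * (c⁻¹ * x * c) * t = g₃ * h₃ * t * f₃ →
          f₃ = (t * c * t)⁻¹ * f * (t * c * t) ∧ h₃ = (t * c * t)⁻¹ * h * c := by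
  have tD : ∀ d ∈ MulAction.stabilizer G a ⊓ MulAction.stabilizer G (t • a),
      t * d * t ∈ MulAction.stabilizer G a ⊓ MulAction.stabilizer G (t • a) := by
    intro d hd
    have := H38.t_mem_normalizer_D hS hd
    rwa [H38.t_inv hS] at this
  have tt : ∀ z : G, t * (t * z) = z := fun z => by rw [← mul_assoc, hS.mul_self, one_mul]
  refine ⟨fun g₁ h₁ f₁ hg₁ hh₁ hf₁ e₁ => ?_, fun g₂ h₂ f₂ hg₂ hh₂ hf₂ e₂ => ?_,
    fun c hc g₃ h₃ f₃ hg₃ hh₃ hf₃ e₃ => ?_⟩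
  · have e : t * x⁻¹ * t = f⁻¹ * (t * h⁻¹ * t) * t * g⁻¹ := by
      have h0 := congrArg (fun z => z⁻¹) heq
      simp only [mul_inv_rev, H38.t_inv hS, mul_assoc] at h0
      simp only [mul_assoc, tt]
      exact h0
    obtain ⟨-, r2, r3⟩ := H38.canon_unique' hS hg₁ (inv_mem hf) hh₁ (tD _ (inv_mem hh)) hf₁
      (inv_mem hg) (e₁.symm.trans e)
    exact ⟨r3, r2⟩
  · have e : t * f * t = h⁻¹ * g⁻¹ * h * h⁻¹ * t * x := by
      have hf' : f = t * h⁻¹ * g⁻¹ * (t * x * t) := by rw [heq]; simp [mul_assoc, tt]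
      rw [hf']
      simp [mul_inv_rev, H38.t_inv hS, mul_assoc, tt, hS.mul_self]
    have hm : h⁻¹ * g⁻¹ * h ∈ Q := by
      have := hS.conj_mem _ (inv_mem hh.1) _ (inv_mem hg)
      rwa [inv_inv] at this
    obtain ⟨-, r2, r3⟩ := H38.canon_unique' hS hg₂ hm hh₂ (inv_mem hh) hf₂ hx (e₂.symm.trans e)
    exact ⟨r3, r2⟩
  · have e : t * (c⁻¹ * x * c) * t = (t * c * t)⁻¹ * g * (t * c * t) *
        ((t * c * t)⁻¹ * h * c) * t * ((t * c * t)⁻¹ * f * (t * c * t)) := by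
      have hx' : x = t * (g * h * t * f) * t := by
        rw [← heq]; simp [mul_assoc, tt, hS.mul_self]
      rw [hx']
      simp [mul_inv_rev, H38.t_inv hS, mul_assoc, tt, hS.mul_self]
    have hT := tD c hc
    have hm : (t * c * t)⁻¹ * g * (t * c * t) ∈ Q := by
      have := hS.conj_mem _ (inv_mem hT.1) _ hg
      rwa [inv_inv] at this
    have hm' : (t * c * t)⁻¹ * f * (t * c * t) ∈ Q := by
      have := hS.conj_mem _ (inv_mem hT.1) _ hf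
      rwa [inv_inv] at this
    obtain ⟨-, r2, r3⟩ := H38.canon_unique' hS hg₃ hm hh₃ (mul_mem (mul_mem (inv_mem hT) hh) hc) hf₃
      hm' (e₃.symm.trans e)
    exact ⟨r3, r2⟩

end Cfsg.Agent.S1165
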