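import Cfsg.Statements.S1166
import Cfsg.Agent.H38.RankOne


set_option autoImplicit false
open Cfsg

namespace Cfsg.Agent.S1166

/-- In the rank-one set-up (`G` finite and doubly transitive on `Ω`, `t` an involution moving `a`, `Q` normal in `G_a` with `G_a = Q D`, `Q ⊓ D = 1` for the two-point stabiliser `D = G_a ⊓ G_{t • a}`, `|Q|` even, `|D|` odd), with `t x t = g_x h_x t f_x` and `t y t = g_y h_y t f_y` (`g, f ∈ Q`, `h ∈ D`) for `x, y ∈ Q ∖ 1` with `x y ≠ 1`: then `z = f_x g_y ≠ 1`, and if `t z t = g_z h_z t f_z` and `t (x y) t = g' h' t f'` then `f' = (t h_y t)⁻¹ f_z (t h_y t) f_y` and `h' = h_x h_z h_y` (H6). -/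
theorem result {G Ω : Type*} [Group G] [Finite G] [MulAction G Ω] {a : Ω} {t : G} {Q : Subgroup G}
    (hS : Cfsg.IsRankOneSetup G Ω a t Q)
    (x y gx hx fx gy hy fy : G) (hxQ : x ∈ Q) (hx1 : x ≠ 1) (hyQ : y ∈ Q) (hy1 : y ≠ 1) (hxy : x * y ≠ 1)
    (hgx : gx ∈ Q) (hhx : hx ∈ (MulAction.stabilizer G a ⊓ MulAction.stabilizer G (t • a))) (hfx : fx ∈ Q) (ex : t * x * t = gx * hx * t * fx)
    (hgy : gy ∈ Q) (hhy : hy ∈ (MulAction.stabilizer G a ⊓ MulAction.stabilizer G (t • a))) (hfy : fy ∈ Q) (ey : t * y * t = gy * hy * t * fy) :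
    fx * gy ≠ 1 ∧
      ∀ gz hz fz g' h' f' : G, gz ∈ Q → hz ∈ (MulAction.stabilizer G a ⊓ MulAction.stabilizer G (t • a)) → fz ∈ Q → t * (fx * gy) * t = gz * hz * t * fz →
        g' ∈ Q → h' ∈ (MulAction.stabilizer G a ⊓ MulAction.stabilizer G (t • a)) → f' ∈ Q → t * (x * y) * t = g' * h' * t * f' →
          f' = (t * hy * t)⁻¹ * fz * (t * hy * t) * fy ∧ h' = hx * hz * hy := by
  have tD : ∀ d ∈ MulAction.stabilizer G a ⊓ MulAction.stabilizer G (t • a),
      t * d * t ∈ MulAction.stabilizer G a ⊓ MulAction.stabilizer G (t • a) := by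
    intro d hd
    have := H38.t_mem_normalizer_D hS hd
    rwa [H38.t_inv hS] at this
  have tt : ∀ z : G, t * (t * z) = z := fun z => by rw [← mul_assoc, hS.mul_self, one_mul]
  have hprod : t * (x * y) * t = gx * hx * t * (fx * gy) * hy * t * fy := by
    calc t * (x * y) * t = t * x * t * (t * y * t) := by simp [mul_assoc, tt]
      _ = _ := by rw [ex, ey]; group
  constructor
  · intro e
    rw [e, mul_one] at hprod
    have h1 : (t * (x * y) * t) • a = a := by
      rw [hprod, show gx * hx * t * hy * t * fy = gx * hx * (t * hy * t) * fy by group]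
      exact mul_mem (mul_mem (mul_mem (hS.le hgx) hhx.1) (tD hy hhy).1) (hS.le hfy)
    have h2 : (x * y) • (t • a) = t • a := by
      rw [mul_smul, mul_smul] at h1
      have := congrArg (fun z => t • z) h1
      simpa [H38.t_smul_t_smul hS] using this
    exact hxy (H38.eq_one_of_fix_base hS (mul_mem hxQ hyQ) h2)
  · intro gz hz fz g' h' f' hgz hhz hfz ez hg' hh' hf' e'
    have hT := tD hy hhy
    have e : t * (x * y) * t = gx * (hx * gz * hx⁻¹) * (hx * hz * hy) * t *
        ((t * hy * t)⁻¹ * fz * (t * hy * t) * fy) := by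
      rw [hprod]
      have hz' : fx * gy = t * (gz * hz * t * fz) * t := by
        rw [← ez]; simp [mul_assoc, tt, hS.mul_self]
      rw [show gx * hx * t * (fx * gy) * hy * t * fy = gx * hx * (t * (fx * gy)) * hy * t * fy by
        group, hz']
      simp [mul_inv_rev, H38.t_inv hS, mul_assoc, tt, hS.mul_self]
    have hm : (t * hy * t)⁻¹ * fz * (t * hy * t) ∈ Q := by
      have := hS.conj_mem _ (inv_mem hT.1) _ hfz
      rwa [inv_inv] at this
    obtain ⟨-, r2, r3⟩ := H38.canon_unique' hS hg' (mul_mem hgx (hS.conj_mem hx hhx.1 gz hgz)) hh'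
      (mul_mem (mul_mem hhx hhz) hhy) hf' (mul_mem hm hfy) (e'.symm.trans e)
    exact ⟨r3, r2⟩

end Cfsg.Agent.S1166
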