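import Cfsg.Statements.S1167
import Cfsg.Agent.H28.ZassApps

open Cfsg.Agent.H28.Zass MulAction

set_option autoImplicit false
open Cfsg

namespace Cfsg.Agent.S1167

/-- Let `G` be a finite simple Zassenhaus group on `Ω`, `U` a normal subgroup of `G_a` regular on `Ω` minus `a` which is an abelian 2-group, and `v` an involution with `v • a ≠ a`. Then there is a unique `u₀ ∈ U`, `u₀ ≠ 1`, with `v u₀ v = u₀ v u₀`. -/
theorem result {G Ω : Type*} [Group G] [Finite G] [MulAction G Ω] [Finite Ω]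
    (hZ : Cfsg.IsZassenhausGroup G Ω) [IsSimpleGroup G] {a : Ω}
    (U : Subgroup G) (hUle : U ≤ MulAction.stabilizer G a)
    (hUn : ∀ h ∈ MulAction.stabilizer G a, ∀ u ∈ U, h * u * h⁻¹ ∈ U)
    (hreg : ∀ c d : Ω, c ≠ a → d ≠ a → ∃! u : U, (u : G) • c = d)
    (hU2 : IsPGroup 2 U) (hUab : ∀ u ∈ U, ∀ u' ∈ U, u * u' = u' * u)
    (v : G) (hv1 : v ≠ 1) (hv2 : v * v = 1) (hva : v • a ≠ a) :
    ∃! u₀ : G, u₀ ∈ U ∧ u₀ ≠ 1 ∧ v * u₀ * v = u₀ * v * u₀ := by
  classical
  obtain ⟨b, hb⟩ : ∃ b, b = v • a := ⟨_, rfl⟩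
  have hab : a ≠ b := by rw [hb]; exact fun h => hva h.symm
  have hvb : v • b = a := by rw [hb, ← mul_smul, hv2, one_smul]
  have hH := isKer_of_regular hab U hUle hreg
  have hU1 : U ≠ ⊥ := hH.ne_bot hZ
  obtain ⟨k, hk⟩ := IsPGroup.iff_card.1 hU2
  have hk0 : k ≠ 0 := by
    rintro rfl
    exact hU1 (Subgroup.eq_bot_of_card_eq U (by simpa using hk))
  have hUeven : Even (Nat.card U) := by rw [hk]; exact (Nat.even_pow' hk0).2 even_two
  have he : Nat.card ↥(stabilizer G a ⊓ stabilizer G b) + 1 = Nat.card U := by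
    refine (kernel_cases hH hZ hab hUab).resolve_right fun h => ?_
    rw [← h] at hUeven
    simp [parity_simps] at hUeven
  have hodd : Odd (Nat.card ↥(stabilizer G a ⊓ stabilizer G b)) := by
    rw [← he] at hUeven
    simpa [parity_simps] using hUeven
  have hΩ : Odd (Nat.card Ω) := by rw [← hH.card]; exact hUeven.add_one
  obtain ⟨-, -, hinv⟩ := inverted_of_simple hZ hab hodd
  have hvo : orderOf v = 2 := orderOf_eq_prime (p := 2) (by rw [pow_two, hv2]) hv1
  have hfix := invol_fixed hZ hab hodd hvo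
  rw [if_pos hΩ] at hfix
  obtain ⟨c, hc⟩ := Set.ncard_eq_one.1 hfix
  have hvc : v • c = c := (Set.ext_iff.1 hc c).2 rfl
  have hcu : ∀ d, v • d = d → d = c := fun d hd => (Set.ext_iff.1 hc d).1 hd
  have hca : c ≠ a := fun h => hva (h ▸ hvc)
  have hcb : c ≠ b := fun h => hab (by rw [h, hvb] at hvc; exact hvc)
  have hexp : ∀ u ∈ U, u * u = 1 := by
    have : Fact (Nat.Prime 2) := ⟨Nat.prime_two⟩
    obtain ⟨⟨z, hz⟩, hzo⟩ := exists_prime_orderOf_dvd_card' (G := U) 2 (even_iff_two_dvd.1 hUeven)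
    rw [Subgroup.orderOf_mk] at hzo
    have hz1 : z ≠ 1 := fun h => by simp [h] at hzo
    let f : ↥(stabilizer G a ⊓ stabilizer G b) → {u : U // u ≠ 1} := fun x =>
      ⟨⟨(x : G) * z * (x : G)⁻¹, hH.conj_mem hZ (mem_two.1 x.2).1 hz⟩,
        fun h => hz1 (conj_eq_one_iff.1 (congrArg Subtype.val h))⟩
    have hf : Function.Injective f := fun x y h => by
      by_contra hne
      have h' : (x : G) * z * (x : G)⁻¹ = (y : G) * z * (y : G)⁻¹ :=
        congrArg Subtype.val (congrArg Subtype.val h)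
      refine hz1 (hH.fpf hZ hab (mul_mem (inv_mem y.2) x.2)
        (fun h => hne (Subtype.ext (inv_mul_eq_one.1 h).symm)) hz ?_)
      calc (y : G)⁻¹ * x * z * ((y : G)⁻¹ * x)⁻¹
          = (y : G)⁻¹ * ((x : G) * z * (x : G)⁻¹) * y := by group
        _ = (y : G)⁻¹ * ((y : G) * z * (y : G)⁻¹) * y := by rw [h']
        _ = z := by group
    have hcard : Nat.card {u : U // u ≠ 1} ≤ Nat.card ↥(stabilizer G a ⊓ stabilizer G b) := by
      have := Fintype.ofFinite U
      rw [Nat.card_eq_fintype_card, Fintype.card_subtype_compl, Fintype.card_subtype_eq,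
        ← Nat.card_eq_fintype_card]
      omega
    intro u hu
    by_cases hu1 : u = 1
    · simp [hu1]
    obtain ⟨x, hx⟩ := (hf.bijective_of_nat_card_le hcard).2
      ⟨⟨u, hu⟩, fun h => hu1 (congrArg Subtype.val h)⟩
    have hxu : (x : G) * z * (x : G)⁻¹ = u := congrArg Subtype.val (congrArg Subtype.val hx)
    have hzz : z * z = 1 := by rw [← pow_two, ← hzo, pow_orderOf_eq_one]
    rw [← hxu]
    calc (x : G) * z * (x : G)⁻¹ * ((x : G) * z * (x : G)⁻¹)
        = (x : G) * (z * z) * (x : G)⁻¹ := by group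
      _ = 1 := by rw [hzz]; group
  obtain ⟨u, huc, huniq⟩ := hreg b c hab.symm hca
  have hua : (u : G) • a = a := hUle u.2
  have huu : (u : G) * u = 1 := hexp u u.2
  have hucb : (u : G) • c = b := by rw [← huc, ← mul_smul, huu, one_smul]
  have hu1 : (u : G) ≠ 1 := fun h => hcb (by rw [← huc, h, one_smul])
  refine ⟨u, ⟨u.2, hu1, ?_⟩, ?_⟩
  · -- `(u v)^3` fixes `a`, `b`, `c`
    have hw : ((u : G) * v) * ((u : G) * v) * ((u : G) * v) = 1 := by
      refine H33.zas_eq_one hZ hab hcb.symm hca.symm ?_ ?_ ?_ <;>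
        simp only [mul_smul, ← hb, hvb, hvc, hua, huc, hucb]
    have hvi : v⁻¹ = v := inv_eq_of_mul_eq_one_right hv2
    have hui : (u : G)⁻¹ = u := inv_eq_of_mul_eq_one_right huu
    calc v * u * v = (u : G)⁻¹ * (((u : G) * v) * ((u : G) * v) * ((u : G) * v)) * v⁻¹ * (u : G)⁻¹
          := by group
      _ = (u : G) * v * u := by rw [hw, hvi, hui, mul_one]
  · rintro w ⟨hwU, hw1, hw⟩
    have hwa : w • a = a := hUle hwU
    have hwa' : w⁻¹ • a = a := by rw [inv_smul_eq_iff, hwa]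
    have h := congrArg (fun g : G => g • a) hw
    simp only [mul_smul, hwa, ← hb] at h
    exact congrArg Subtype.val (huniq ⟨w, hwU⟩ (hcu _ h))

end Cfsg.Agent.S1167
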