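import Cfsg.Statements.S1176
import Cfsg.Agent.H38.Odd


set_option autoImplicit false
open Cfsg
open scoped commutatorElement

namespace Cfsg.Agent.S1176

/-- Let x₀ be an involution of the finite group G and D its conjugacy class. Assume (a) for each x ∈ D the subgroup W(x) generated by the members of D commuting with x is a 2-group of nilpotency class at most 2, and (b) the product of two distinct commuting members of D again lies in D. Then for all x, y ∈ D, if xy has even order greater than 2, its order is 4. -/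
theorem result {G : Type*} [Group G] [Finite G] (x₀ : G) (hx₀ : orderOf x₀ = 2) (ha : ∀ x : G, IsConj x₀ x → IsPGroup 2 ↥(Subgroup.closure {y : G | IsConj x₀ y ∧ Commute y x}) ∧ ⁅⁅Subgroup.closure {y : G | IsConj x₀ y ∧ Commute y x}, Subgroup.closure {y : G | IsConj x₀ y ∧ Commute y x}⁆, Subgroup.closure {y : G | IsConj x₀ y ∧ Commute y x}⁆ = ⊥) (hb : ∀ x y : G, IsConj x₀ x → IsConj x₀ y → x ≠ y → Commute x y → IsConj x₀ (x * y)) (x y : G) (hx : IsConj x₀ x) (hy : IsConj x₀ y) (heven : Even (orderOf (x * y))) (hgt : 2 < orderOf (x * y)) : orderOf (x * y) = 4 := by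
  have hsq : ∀ u : G, IsConj x₀ u → u * u = 1 ∧ u ≠ 1 := by
    intro u hu
    obtain ⟨g, hg⟩ := isConj_iff.mp hu
    have h2 : orderOf u = 2 := by rw [← hg, ← hx₀]; exact MulEquiv.orderOf_eq (MulAut.conj g) x₀
    exact ⟨by rw [← pow_two, ← h2]; exact pow_orderOf_eq_one u,
      fun e => by rw [e, orderOf_one] at h2; omega⟩
  obtain ⟨hxx, -⟩ := hsq x hx
  obtain ⟨hyy, -⟩ := hsq y hy
  obtain ⟨m, hm0, hm, hj1, hj2, hjx, hjy⟩ := H38.exists_central_of_even hxx hyy heven
  set d := x * y with hd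
  have hinv : x * d * x⁻¹ = d⁻¹ := H38.conj_mul_invol_left hxx hyy
  have hxk : ∀ k : ℕ, (d ^ k)⁻¹ * x * d ^ k = x * d ^ (k + k) ∧
      (d ^ k)⁻¹ * (x * d) * d ^ k = x * d ^ (k + 1 + k) := by
    intro k
    constructor
    · rw [← H38.conj_pow_invol hinv k, inv_mul_cancel_right, pow_add, mul_assoc]
    · rw [← H38.conj_pow_invol hinv k, ← mul_assoc, inv_mul_cancel_right,
        show k + 1 + k = k + (1 + k) by omega, pow_add d k, pow_add d 1, pow_one]
      simp [mul_assoc]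
  have hxdm : IsConj x₀ (x * d ^ m) := by
    rcases Nat.even_or_odd' m with ⟨k, hk | hk⟩
    · refine hx.trans (isConj_iff.mpr ⟨(d ^ k)⁻¹, ?_⟩)
      rw [inv_inv, (hxk k).1, hk, two_mul]
    · refine (show IsConj x₀ (x * d) by rw [hd, ← mul_assoc, hxx, one_mul]; exact hy).trans
        (isConj_iff.mpr ⟨(d ^ k)⁻¹, ?_⟩)
      rw [inv_inv, (hxk k).2, hk]; congr 2; omega
  have hj : IsConj x₀ (d ^ m) := by
    have hne : x ≠ x * d ^ m := fun e => hj1 (by simpa using e.symm)
    have := hb x (x * d ^ m) hx hxdm hne ((Commute.refl x).mul_right hjx.symm)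
    rwa [← mul_assoc, hxx, one_mul] at this
  obtain ⟨hP, hW⟩ := ha (d ^ m) hj
  set W := Subgroup.closure {u : G | IsConj x₀ u ∧ Commute u (d ^ m)}
  have hxW : x ∈ W := Subgroup.subset_closure ⟨hx, hjx.symm⟩
  have hyW : y ∈ W := Subgroup.subset_closure ⟨hy, hjy.symm⟩
  obtain ⟨k, hk⟩ := hP ⟨d, mul_mem hxW hyW⟩
  have hk' : d ^ 2 ^ k = 1 := congrArg Subtype.val hk
  have e1 : ⁅x, y⁆ = d ^ 2 := by
    rw [commutatorElement_def, H38.inv_eq_self hxx, H38.inv_eq_self hyy, hd, pow_two]; group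
  have e2 : ⁅⁅x, y⁆, x⁆ = d ^ 4 := by
    rw [e1, commutatorElement_def]
    have := H38.conj_pow_invol hinv 2
    rw [show d ^ 2 * x * (d ^ 2)⁻¹ * x⁻¹ = d ^ 2 * (x * (d ^ 2)⁻¹ * x⁻¹) by group, ← conj_inv,
      this, inv_inv, ← pow_add]
  have h4 : d ^ 4 = 1 := by
    have : ⁅⁅x, y⁆, x⁆ ∈ ⁅⁅W, W⁆, W⁆ :=
      Subgroup.commutator_mem_commutator (Subgroup.commutator_mem_commutator hxW hyW) hxW
    rw [hW, Subgroup.mem_bot, e2] at this
    exact this
  have h5 : orderOf d ∣ 4 := orderOf_dvd_of_pow_eq_one h4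
  have := Nat.le_of_dvd (by norm_num) h5
  interval_cases h : orderOf d <;> omega

end Cfsg.Agent.S1176
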