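import Cfsg.Statements.S1177


set_option autoImplicit false
open Cfsg

namespace Cfsg.Agent.S1177

/-- Let A be a nontrivial elementary abelian 2-subgroup of a finite group G which is a T.I. set (each conjugate of A meets A trivially or equals A) and which does not commute elementwise with any conjugate of A other than A itself. Then for every a ∈ A, a ≠ 1, every conjugate of A contained in C_G(a) is equal to A (A is weakly closed in C_G(a)). -/
theorem result {G : Type*} [Group G] [Finite G] (A : Subgroup G) (hA : Cfsg.IsElementaryAbelian 2 A) (hA1 : A ≠ ⊥) (hTI : ∀ g : G, A.map (MulAut.conj g).toMonoidHom ⊓ A = ⊥ ∨ A.map (MulAut.conj g).toMonoidHom = A) (hb : ∀ g : G, (∀ a ∈ A, ∀ b ∈ A.map (MulAut.conj g).toMonoidHom, a * b = b * a) → A.map (MulAut.conj g).toMonoidHom = A) (a : G) (ha : a ∈ A) (ha1 : a ≠ 1) (g : G) (hg : A.map (MulAut.conj g).toMonoidHom ≤ Subgroup.centralizer ({a} : Set G)) : A.map (MulAut.conj g).toMonoidHom = A := by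
  have hA2 : IsPGroup 2 A := fun x => ⟨1, Subtype.ext (by simpa using hA.2 x x.2)⟩
  have hcomm : ∀ p ∈ A, ∀ q ∈ A, p * q = q * p := fun p hp q hq =>
    congrArg Subtype.val (hA.1.is_comm.comm (⟨p, hp⟩ : A) ⟨q, hq⟩)
  set A' := A.map (MulAut.conj g).toMonoidHom with hA'
  have mem : ∀ {k z : G}, z ∈ A.map (MulAut.conj k).toMonoidHom ↔ k⁻¹ * z * k ∈ A := by
    intro k z
    rw [Subgroup.mem_map]
    constructor
    · rintro ⟨w, hw, rfl⟩
      simpa [MulAut.conj_apply, mul_assoc] using hw
    · intro h
      exact ⟨_, h, by simp [MulAut.conj_apply, mul_assoc]⟩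
  have conjA : ∀ {k : G}, A.map (MulAut.conj k).toMonoidHom = A → ∀ z ∈ A, k⁻¹ * z * k ∈ A :=
    fun h z hz => mem.mp (h.symm ▸ hz)
  have conjA' : ∀ {k : G}, A.map (MulAut.conj k).toMonoidHom = A → ∀ z ∈ A, k * z * k⁻¹ ∈ A := by
    intro k h z hz
    rw [← h, mem]
    simpa [mul_assoc] using hz
  -- A' normalises A
  have hnA : ∀ x ∈ A', A.map (MulAut.conj x).toMonoidHom = A := by
    intro x hx
    refine (hTI x).resolve_left fun h => ha1 ?_
    have hax : a * x = x * a := Subgroup.mem_centralizer_iff.mp (hg hx) a rfl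
    have : a ∈ A.map (MulAut.conj x).toMonoidHom ⊓ A :=
      ⟨mem.mpr (by rw [mul_assoc, hax, ← mul_assoc, inv_mul_cancel, one_mul]; exact ha), ha⟩
    rwa [h, Subgroup.mem_bot] at this
  have hA'n : A' ≤ Subgroup.normalizer (A : Set G) := fun x hx =>
    Subgroup.mem_normalizer_iff.mpr fun z =>
      ⟨fun hz => conjA' (hnA x hx) z hz, fun hz => by
        simpa [mul_assoc] using conjA (hnA x hx) _ hz⟩
  have hA'2 : IsPGroup 2 A' := hA2.map _
  set P := A' ⊔ A with hP
  have hP2 : IsPGroup 2 P := hA'2.to_sup_of_normal_right' hA2 hA'n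
  rcases hTI g with hdis | heq
  · apply hb g
    haveI : Group.IsNilpotent P := hP2.isNilpotent
    have hA'P : A' ≤ P := le_sup_left
    -- `A` normalises `A'`
    have hnA' : ∀ p ∈ P, p ∈ Subgroup.normalizer (A' : Set G) := by
      by_contra hcon
      push Not at hcon
      obtain ⟨p, hp, hpn⟩ := hcon
      let B := A'.subgroupOf P
      let N := Subgroup.normalizer (B : Set P)
      have hNt : N < ⊤ := lt_top_iff_ne_top.mpr fun e => hpn <| by
        have hpN : (⟨p, hp⟩ : P) ∈ N := e ▸ Subgroup.mem_top _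
        rw [Subgroup.mem_normalizer_iff] at hpN ⊢
        intro z
        constructor
        · intro hz
          exact (hpN ⟨z, hA'P hz⟩).mp hz
        · intro hz
          have hzP : z ∈ P := by
            have := mul_mem (mul_mem (inv_mem hp) (hA'P hz)) hp
            simpa [mul_assoc] using this
          exact (hpN ⟨z, hzP⟩).mpr hz
      obtain ⟨q, hq, hqN⟩ := SetLike.exists_of_lt
        (Group.normalizerCondition_of_isNilpotent N hNt)
      -- the conjugate of `A'` by `q` is normalised by `A'`
      let C := A'.map (MulAut.conj (q : G)).toMonoidHom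
      have hCN : ∀ z ∈ C, z ∈ Subgroup.normalizer (A' : Set G) := by
        rintro _ ⟨z, hz, rfl⟩
        have hzN : (⟨z, hA'P hz⟩ : P) ∈ N := Subgroup.le_normalizer hz
        have h := (Subgroup.mem_normalizer_iff.mp hq _).mp hzN
        rw [Subgroup.mem_normalizer_iff] at h ⊢
        intro w
        constructor
        · intro hw
          exact (h ⟨w, hA'P hw⟩).mp hw
        · intro hw
          have hwP : w ∈ P := by
            have hzq : (q : G) * z * (q : G)⁻¹ ∈ P :=
              mul_mem (mul_mem q.2 (hA'P hz)) (inv_mem q.2)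
            have := mul_mem (mul_mem (inv_mem hzq) (hA'P hw)) hzq
            simpa [MulAut.conj_apply, mul_assoc] using this
          exact (h ⟨w, hwP⟩).mpr hw
      have hA'nC : ∀ z ∈ A', ∀ w ∈ C, z * w * z⁻¹ ∈ C := by
        intro z hz w hw
        obtain ⟨v, hv, rfl⟩ := hw
        have hzN : (⟨z, hA'P hz⟩ : P) ∈ N := Subgroup.le_normalizer hz
        have h := (Subgroup.mem_normalizer_iff.mp (inv_mem hq) _).mp hzN
        rw [Subgroup.mem_normalizer_iff] at h
        have h2 := (h ⟨v, hA'P hv⟩).mp hv
        exact ⟨_, h2, by simp [MulAut.conj_apply, mul_assoc]⟩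
      have hdisC : A'.map (MulAut.conj (q : G)).toMonoidHom ⊓ A' = ⊥ := by
        rcases hTI (g⁻¹ * q * g) with h | h
        · rw [Subgroup.eq_bot_iff_forall] at h ⊢
          rintro z ⟨⟨w, hw, rfl⟩, hz⟩
          have h1 := mem.mp hw
          have h2 := mem.mp hz
          simp only [MulEquiv.coe_toMonoidHom, MulAut.conj_apply] at h2 ⊢
          have := h (g⁻¹ * ((q : G) * w * (q : G)⁻¹) * g) ⟨mem.mpr (by
            simpa [mul_assoc] using h1), h2⟩
          have := congrArg (fun v => g * v * g⁻¹) this
          simpa [mul_assoc] using this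
        · refine absurd ?_ hqN
          rw [Subgroup.mem_normalizer_iff]
          intro z
          show (z : G) ∈ A' ↔ ((q * z * q⁻¹ : P) : G) ∈ A'
          rw [hA', mem, mem]
          constructor
          · intro hz
            have := conjA' h _ hz
            simpa [mul_assoc] using this
          · intro hz
            have := conjA h _ hz
            simpa [mul_assoc] using this
      have hcC : ∀ v ∈ A', ∀ w ∈ C, v * w = w * v := by
        intro v hv w hw
        have h1 : v * w * v⁻¹ * w⁻¹ ∈ A'.map (MulAut.conj (q : G)).toMonoidHom ⊓ A' := by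
          refine Subgroup.mem_inf.mpr ⟨mul_mem (hA'nC v hv w hw) (inv_mem hw), ?_⟩
          have := (Subgroup.mem_normalizer_iff.mp (hCN w hw) v⁻¹).mp (inv_mem hv)
          rw [show v * w * v⁻¹ * w⁻¹ = v * (w * v⁻¹ * w⁻¹) by group]
          exact mul_mem hv this
        rw [hdisC, Subgroup.mem_bot, mul_inv_eq_one, mul_inv_eq_iff_eq_mul] at h1
        exact h1
      have heq2 : A.map (MulAut.conj (g⁻¹ * q * g)).toMonoidHom = A := by
        refine hb _ fun b hb' w hw => ?_
        have h1 : g * b * g⁻¹ ∈ A' := mem.mpr (by simpa [mul_assoc] using hb')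
        have h2 : g * w * g⁻¹ ∈ C :=
          ⟨(q : G)⁻¹ * (g * w * g⁻¹) * q, mem.mpr (by simpa [mul_assoc] using mem.mp hw),
            by simp [MulAut.conj_apply, mul_assoc]⟩
        have := congrArg (fun v => g⁻¹ * v * g) (hcC _ h1 _ h2)
        simpa [mul_assoc] using this
      refine hqN ?_
      rw [Subgroup.mem_normalizer_iff]
      intro z
      show (z : G) ∈ A' ↔ ((q * z * q⁻¹ : P) : G) ∈ A'
      rw [hA', mem, mem]
      constructor
      · intro hz
        have := conjA' heq2 _ hz
        simpa [mul_assoc] using this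
      · intro hz
        have := conjA heq2 _ hz
        simpa [mul_assoc] using this
    intro p hp q hq
    have hpn := hnA' p (le_sup_right (a := A') hp)
    have h1 : p * q * p⁻¹ * q⁻¹ ∈ A' ⊓ A := by
      refine Subgroup.mem_inf.mpr ⟨mul_mem ((Subgroup.mem_normalizer_iff.mp hpn q).mp hq) (inv_mem hq), ?_⟩
      rw [show p * q * p⁻¹ * q⁻¹ = p * (q * p⁻¹ * q⁻¹) by group]
      exact mul_mem hp ((Subgroup.mem_normalizer_iff.mp (hA'n hq) p⁻¹).mp (inv_mem hp))
    rw [hdis, Subgroup.mem_bot, mul_inv_eq_one, mul_inv_eq_iff_eq_mul] at h1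
    exact h1
  · exact heq

end Cfsg.Agent.S1177
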