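import Cfsg.Statements.S1178


set_option autoImplicit false
open Cfsg

namespace Cfsg.Agent.S1178

/-- Let A be a subgroup of a Sylow 2-subgroup S of the finite group G which is weakly closed in S. If a conjugate g A g⁻¹ commutes elementwise with A, then g A g⁻¹ = A. -/
theorem result {G : Type*} [Group G] [Finite G] (S : Sylow 2 G) (A : Subgroup G) (hW : Cfsg.IsWeaklyClosed A (S : Subgroup G)) (g : G) (hc : ∀ a ∈ A, ∀ b ∈ A.map (MulAut.conj g).toMonoidHom, a * b = b * a) : A.map (MulAut.conj g).toMonoidHom = A := by
  set A' := A.map (MulAut.conj g).toMonoidHom with hA'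
  have hA2 : IsPGroup 2 A := S.isPGroup'.to_le hW.1
  have hA'2 : IsPGroup 2 A' := hA2.map _
  have hn : A' ≤ Subgroup.normalizer (A : Set G) := fun b hb =>
    Subgroup.mem_normalizer_iff.mpr fun z => by
      constructor
      · intro hz
        rwa [← hc z hz b hb, mul_inv_cancel_right]
      · intro hz
        have h := hc _ hz b hb
        have : b * z = b * (b * z * b⁻¹) := by rw [← h]; group
        rw [mul_left_cancel this]; exact hz
  obtain ⟨P, hP⟩ := (hA'2.to_sup_of_normal_right' hA2 hn).exists_le_sylow
  obtain ⟨x, hx⟩ := MulAction.exists_smul_eq G P S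
  have e : ((P : Subgroup G)).map (MulAut.conj x).toMonoidHom = (S : Subgroup G) := by
    rw [← hx]; rfl
  have h1 := hW.2 x (e ▸ Subgroup.map_mono (le_sup_right.trans hP))
  have hle : A.map (MulAut.conj (x * g)).toMonoidHom ≤ S := by
    have e2 : A.map (MulAut.conj (x * g)).toMonoidHom = A'.map (MulAut.conj x).toMonoidHom := by
      rw [hA', Subgroup.map_map]
      congr 1
      ext z
      simp [MulAut.conj_apply, mul_assoc]
    rw [e2]
    exact e ▸ Subgroup.map_mono (le_sup_left.trans hP)
  have h2 := hW.2 (x * g) hle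
  have e2 : A.map (MulAut.conj (x * g)).toMonoidHom = A'.map (MulAut.conj x).toMonoidHom := by
    rw [hA', Subgroup.map_map]
    congr 1
    ext z
    simp [MulAut.conj_apply, mul_assoc]
  rw [e2] at h2
  exact Subgroup.map_injective (MulAut.conj x).injective (h2.trans h1.symm)

end Cfsg.Agent.S1178
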