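import Cfsg.Statements.S1181
import Cfsg.Agent.H38.Isolated


set_option autoImplicit false
open Cfsg

namespace Cfsg.Agent.S1181

/-- Let z be an isolated involution of the finite group G and N a normal subgroup with z ∉ N. Then the centralizer of zN in G/N is the image of C_G(z), and zN is an isolated involution of G/N. -/
theorem result {G : Type*} [Group G] [Finite G] (z : G) (hz : Cfsg.IsIsolatedInvolution z) (N : Subgroup G) [N.Normal] (hzN : z ∉ N) : Subgroup.centralizer ({(QuotientGroup.mk z : G ⧸ N)} : Set (G ⧸ N)) = (Subgroup.centralizer ({z} : Set G)).map (QuotientGroup.mk' N) ∧ Cfsg.IsIsolatedInvolution (QuotientGroup.mk z : G ⧸ N) := by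
  have hzz := H38.isolated_sq hz
  have hzi := H38.inv_eq_self hzz
  constructor
  · ext w
    obtain ⟨g, rfl⟩ := QuotientGroup.mk_surjective w
    rw [Subgroup.mem_centralizer_singleton_iff, Subgroup.mem_map]
    constructor
    · intro h
      have hN : z⁻¹ * (g * z * g⁻¹) ∈ N := by
        rw [← QuotientGroup.eq, QuotientGroup.mk_mul, QuotientGroup.mk_mul, h,
          QuotientGroup.mk_inv]
        simp [mul_assoc]
      obtain ⟨k, hk⟩ := H38.exists_conj_of_odd hzz (H38.isolated_conj_sq hz g) (H38.isolated_odd hz g)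
      set e := z * (g * z * g⁻¹)
      have heN : e ^ k ∈ N := pow_mem (by rwa [hzi] at hN) k
      refine ⟨(e ^ k)⁻¹ * g, ?_, ?_⟩
      · rw [Subgroup.mem_centralizer_singleton_iff]
        have := congrArg (fun v => (e ^ k)⁻¹ * v * g) hk
        simpa [mul_assoc] using this.symm
      · simp [(QuotientGroup.eq_one_iff _).mpr heN]
    · rintro ⟨c, hc, hcg⟩
      rw [Subgroup.mem_centralizer_singleton_iff] at hc
      rw [← hcg, QuotientGroup.mk'_apply, ← QuotientGroup.mk_mul, ← QuotientGroup.mk_mul, hc]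
  · refine ⟨orderOf_eq_prime ?_ ?_, ?_⟩
    · rw [pow_two, ← QuotientGroup.mk_mul, hzz, QuotientGroup.mk_one]
    · exact fun e => hzN ((QuotientGroup.eq_one_iff z).mp e)
    intro w hw
    obtain ⟨g, rfl⟩ := QuotientGroup.mk_surjective w
    rw [← QuotientGroup.mk_inv, ← QuotientGroup.mk_mul, ← QuotientGroup.mk_mul] at hw ⊢
    set z' := g * z * g⁻¹
    have h2 : ((z * z' : G) : G ⧸ N) ^ 2 = 1 := by
      have a1 : (z : G ⧸ N) * z = 1 := by rw [← QuotientGroup.mk_mul, hzz, QuotientGroup.mk_one]
      have a2 : (z' : G ⧸ N) * z' = 1 := by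
        rw [← QuotientGroup.mk_mul, H38.isolated_conj_sq hz g, QuotientGroup.mk_one]
      rw [pow_two, QuotientGroup.mk_mul]
      calc (z : G ⧸ N) * z' * (z * z') = z * (z' * z) * z' := by group
        _ = z * (z * z') * z' := by rw [hw.eq]
        _ = (z * z : G ⧸ N) * (z' * z') := by group
        _ = 1 := by rw [a1, a2, mul_one]
    have h3 : ((z * z' : G) : G ⧸ N) ^ orderOf (z * z') = 1 := by
      rw [← QuotientGroup.mk_pow, pow_orderOf_eq_one, QuotientGroup.mk_one]
    obtain ⟨j, hj⟩ := H38.isolated_odd hz g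
    rw [hj, pow_succ, pow_mul, h2, one_pow, one_mul, QuotientGroup.mk_mul] at h3
    rw [← inv_eq_of_mul_eq_one_right h3, ← QuotientGroup.mk_inv, hzi]

end Cfsg.Agent.S1181
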