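import Cfsg.Statements.S1183
import Cfsg.Agent.H38.Isolated
import Cfsg.Agent.Fusion.Basic


set_option autoImplicit false
open Cfsg

namespace Cfsg.Agent.S1183

/-- Let z be an isolated involution of the finite group G and C = C_G(z). Then the subgroup of G generated by its elements of odd order is all of G if and only if the subgroup of C generated by its elements of odd order is all of C. -/
theorem result {G : Type*} [Group G] [Finite G] (z : G) (hz : Cfsg.IsIsolatedInvolution z) : Cfsg.pResidual 2 G = ⊤ ↔ Cfsg.pResidual 2 ↥(Subgroup.centralizer ({z} : Set G)) = ⊤ := by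
  haveI : Fact (Nat.Prime 2) := ⟨Nat.prime_two⟩
  set C := Subgroup.centralizer ({z} : Set G) with hC
  have hzz := H38.isolated_sq hz
  constructor
  · intro hG
    -- a Sylow subgroup containing `z` centralises it
    obtain ⟨P, hP⟩ := (show IsPGroup 2 (Subgroup.zpowers z) from
      IsPGroup.of_card (n := 1) (by rw [Nat.card_zpowers, hz.1]; rfl)).exists_le_sylow
    have hzP : z ∈ (P : Subgroup G) := hP (Subgroup.mem_zpowers z)
    have hPC : (P : Subgroup G) ≤ C := by
      intro g hg
      rw [hC, Subgroup.mem_centralizer_singleton_iff]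
      have hmem : z * (g * z * g⁻¹) ∈ (P : Subgroup G) :=
        mul_mem hzP (mul_mem (mul_mem hg hzP) (inv_mem hg))
      obtain ⟨k, hk⟩ := P.isPGroup' ⟨_, hmem⟩
      have hd : orderOf (z * (g * z * g⁻¹)) ∣ 2 ^ k :=
        orderOf_dvd_of_pow_eq_one (congrArg Subtype.val hk)
      have h1 : orderOf (z * (g * z * g⁻¹)) = 1 :=
        Nat.eq_one_of_dvd_coprimes
          ((Nat.coprime_two_right.mpr (H38.isolated_odd hz g)).pow_right k) dvd_rfl hd
      rw [orderOf_eq_one_iff] at h1
      have h2 : g * z * g⁻¹ = z := by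
        rw [← inv_eq_of_mul_eq_one_right h1, H38.inv_eq_self hzz]
      exact mul_inv_eq_iff_eq_mul.mp h2
    have hctrl : Fusion.ControlsElementFusion C (P : Subgroup G) := by
      intro x hx g hg
      obtain ⟨c, -, hcz, hc⟩ := H38.isolated_fusion_centralizer hz (H := ⊤)
        (fun _ _ => Subgroup.mem_top _) (Subgroup.mem_centralizer_singleton_iff.mp (hPC hx))
        (Subgroup.mem_centralizer_singleton_iff.mp (hPC hg)) (Subgroup.mem_top g) rfl
      exact ⟨c, Subgroup.mem_centralizer_singleton_iff.mpr hcz, hc⟩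
    have hPCC : (P : Subgroup G) ≤ ⁅C, C⁆ := by
      have h1 := Fusion.pResidual_inf_le_commutator P
      rw [hG, top_inf_eq, Fusion.commutator_inf_eq_of_controls P hPC hctrl] at h1
      exact h1.trans inf_le_left
    set R := pResidual 2 C with hR
    have hcom : commutator C ⊔ R = ⊤ := by
      refine top_le_iff.mp ((Fusion.sylow_sup_eq_top (P.subtype hPC) (N := R) le_rfl).ge.trans
        (sup_le_sup_right ?_ _))
      intro x hx
      rw [← Subgroup.map_subtype_commutator] at hPCC
      obtain ⟨y, hy, hyx⟩ := hPCC (Subgroup.mem_subgroupOf.mp hx)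
      rwa [← Subtype.ext (a2 := x) hyx]
    have hQ : commutator (C ⧸ R) = ⊤ := by
      refine top_le_iff.mp fun q _ => ?_
      obtain ⟨x, rfl⟩ := QuotientGroup.mk'_surjective R q
      have hx : x ∈ commutator C ⊔ R := hcom ▸ Subgroup.mem_top x
      obtain ⟨u, hu, v, hv, rfl⟩ := Subgroup.mem_sup_of_normal_right.mp hx
      rw [map_mul, show QuotientGroup.mk' R v = 1 from (QuotientGroup.eq_one_iff v).mpr hv, mul_one,
        commutator_def]
      have := Subgroup.mem_map_of_mem (QuotientGroup.mk' R) hu
      rw [commutator_def, Subgroup.map_commutator] at this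
      exact Subgroup.commutator_mono le_top le_top this
    haveI : Group.IsNilpotent (C ⧸ R) := (Fusion.isPGroup_quotient_pResidual (G := C)).isNilpotent
    by_contra hne
    obtain ⟨x, hx⟩ : ∃ x, x ∉ R := by
      by_contra h
      push Not at h
      exact hne (eq_top_iff.mpr fun y _ => h y)
    haveI : Nontrivial (C ⧸ R) :=
      ⟨⟨QuotientGroup.mk' R x, 1, fun e => hx ((QuotientGroup.eq_one_iff x).mp e)⟩⟩
    exact (IsSolvable.commutator_lt_top_of_nontrivial (C ⧸ R)).ne hQ
  · intro h
    have hle : C ≤ pResidual 2 G := by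
      have := Fusion.pResidual_subgroup_le (p := 2) C
      rwa [h, ← MonoidHom.range_eq_map, Subgroup.range_subtype] at this
    refine eq_top_iff.mpr fun g _ => ?_
    obtain ⟨k, hk⟩ := H38.exists_conj_of_odd hzz (H38.isolated_conj_sq hz g) (H38.isolated_odd hz g)
    set e := z * (g * z * g⁻¹)
    have he : e ∈ pResidual 2 G :=
      Fusion.mem_pResidual (Nat.coprime_two_right.mpr (H38.isolated_odd hz g))
    have hg : (e ^ k)⁻¹ * g ∈ C := by
      rw [hC, Subgroup.mem_centralizer_singleton_iff]
      have := congrArg (fun v => (e ^ k)⁻¹ * v * g) hk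
      simpa [mul_assoc] using this.symm
    rw [show g = e ^ k * ((e ^ k)⁻¹ * g) by group]
    exact mul_mem (pow_mem he k) (hle hg)

end Cfsg.Agent.S1183
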