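import Cfsg.Statements.S1184
import Cfsg.Agent.H38.Isolated


set_option autoImplicit false
open Cfsg

namespace Cfsg.Agent.S1184

/-- Let z be an isolated involution of the finite group G. If s and t are distinct conjugates of z, then st does not commute with z. -/
theorem result {G : Type*} [Group G] [Finite G] (z : G) (hz : Cfsg.IsIsolatedInvolution z) (g h : G) (hne : g * z * g⁻¹ ≠ h * z * h⁻¹) : ¬ Commute (g * z * g⁻¹ * (h * z * h⁻¹)) z := by
  intro hc
  set s := g * z * g⁻¹ with hs
  set u := h * z * h⁻¹ with hu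
  set d := s * u with hd
  have hs2 : s * s = 1 := H38.isolated_conj_sq hz g
  have hu2 : u * u = 1 := H38.isolated_conj_sq hz h
  have hinv : s * d * s⁻¹ = d⁻¹ := H38.conj_mul_invol_left hs2 hu2
  have hodd : Odd (orderOf d) := by
    have h1 := H38.isolated_odd (H38.isolated_conj hz g) (h * g⁻¹)
    rwa [show h * g⁻¹ * (g * z * g⁻¹) * (h * g⁻¹)⁻¹ = u by rw [hu]; group] at h1
  let M : Subgroup G :=
    { carrier := {x | x * d * x⁻¹ = d ∨ x * d * x⁻¹ = d⁻¹}
      one_mem' := Or.inl (by group)
      mul_mem' := by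
        rintro x y (hx | hx) (hy | hy)
        · exact Or.inl (by rw [show x * y * d * (x * y)⁻¹ = x * (y * d * y⁻¹) * x⁻¹ by group, hy, hx])
        · exact Or.inr (by rw [show x * y * d * (x * y)⁻¹ = x * (y * d * y⁻¹) * x⁻¹ by group, hy,
            ← conj_inv, hx])
        · exact Or.inr (by rw [show x * y * d * (x * y)⁻¹ = x * (y * d * y⁻¹) * x⁻¹ by group, hy, hx])
        · exact Or.inl (by rw [show x * y * d * (x * y)⁻¹ = x * (y * d * y⁻¹) * x⁻¹ by group, hy,
            ← conj_inv, hx, inv_inv])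
      inv_mem' := by
        rintro x (hx | hx)
        · refine Or.inl ?_
          have := congrArg (fun v => x⁻¹ * v * x) hx
          simpa [mul_assoc] using this.symm
        · refine Or.inr ?_
          have := congrArg (fun v => x⁻¹ * v⁻¹ * x) hx
          simpa [mul_assoc] using this.symm }
  have hzM : z ∈ M := Or.inl (by rw [← hc.eq, mul_inv_cancel_right])
  obtain ⟨k, hkM, hk⟩ := H38.isolated_fusion hz (H := M) hzM (g := g) (Or.inr hinv)
  -- then `s` centralises `d`
  have h1 : s * d * s⁻¹ = d := by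
    rw [hs, ← hk]
    rcases hkM with h2 | h2
    · have h3 : k⁻¹ * d * k = d := by
        have := congrArg (fun v => k⁻¹ * v * k) h2
        simpa [mul_assoc] using this.symm
      rw [show k * z * k⁻¹ * d * (k * z * k⁻¹)⁻¹ = k * (z * (k⁻¹ * d * k) * z⁻¹) * k⁻¹ by group, h3,
        ← hc.eq, mul_inv_cancel_right, h2]
    · have h3 : k⁻¹ * d * k = d⁻¹ := by
        have := congrArg (fun v => k⁻¹ * v⁻¹ * k) h2
        simpa [mul_assoc] using this.symm
      rw [show k * z * k⁻¹ * d * (k * z * k⁻¹)⁻¹ = k * (z * (k⁻¹ * d * k) * z⁻¹) * k⁻¹ by group, h3,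
        ← conj_inv, ← conj_inv, ← hc.eq, mul_inv_cancel_right, h2, inv_inv]
  have h2 : d * d = 1 := by
    rw [hinv] at h1
    nth_rewrite 1 [← h1]
    exact inv_mul_cancel d
  obtain ⟨j, hj⟩ := hodd
  have h3 : d = 1 := by
    have := pow_orderOf_eq_one d
    rwa [hj, pow_succ, pow_mul, pow_two, h2, one_pow, one_mul] at this
  exact hne (by rw [← inv_eq_of_mul_eq_one_right h3, H38.inv_eq_self hs2])

end Cfsg.Agent.S1184
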