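import Cfsg.Statements.S1186
import Cfsg.Agent.H39.Isolated

namespace Cfsg.Agent.S1186

open Cfsg.Agent.H39

variable {G : Type*} [Group G] [Finite G] {z : G}

/-- The inverted odd order element taking `z` to a conjugate fixed by `x`, which centralizes `z`,
commutes with `x`. -/
theorem commute_of_unique (hz : Cfsg.IsIsolatedInvolution z) {x k g : G} (hk : Odd (orderOf k))
    (hki : z * k * z⁻¹ = k⁻¹) (hkc : k * z * k⁻¹ = g * z * g⁻¹) (hxz : Commute x z)
    (hxb : Commute x (g * z * g⁻¹)) : Commute k x := by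
  have h1 : x * k * x⁻¹ = k := by
    refine (isolated_existsUnique hz g).unique ⟨⟨by rwa [orderOf_conj], ?_⟩, ?_⟩ ⟨⟨hk, hki⟩, hkc⟩
    · calc z * (x * k * x⁻¹) * z⁻¹ = x * (z * k * z⁻¹) * x⁻¹ := by
            simp only [mul_assoc]; rw [← mul_assoc z, ← hxz.eq, (hxz.inv_inv).eq]; simp [mul_assoc]
        _ = _ := by rw [hki]; simp [mul_assoc]
    · calc (x * k * x⁻¹) * z * (x * k * x⁻¹)⁻¹ = x * k * (x⁻¹ * z * x) * k⁻¹ * x⁻¹ := by
            simp [mul_assoc]
        _ = x * (k * z * k⁻¹) * x⁻¹ := by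
            rw [mul_assoc x⁻¹ z x, ← hxz.eq]; simp [mul_assoc]
        _ = _ := by rw [hkc, hxb.eq]; simp
  exact (mul_inv_eq_iff_eq_mul.mp h1).symm

/-- Let z be an isolated involution of the finite group G, C = C_G(z), K the set of elements of odd order inverted by z, and s an involution of C. Then |G| = |C| · |C_K(sz)| · |C_K(s)|. -/
theorem result {G : Type*} [Group G] [Finite G] (z : G) (hz : Cfsg.IsIsolatedInvolution z) (s : G) (hs : orderOf s = 2) (hsz : Commute s z) : Nat.card G = Nat.card (Subgroup.centralizer ({z} : Set G)) * Nat.card {k : G // Odd (orderOf k) ∧ z * k * z⁻¹ = k⁻¹ ∧ Commute k (s * z)} * Nat.card {k : G // Odd (orderOf k) ∧ z * k * z⁻¹ = k⁻¹ ∧ Commute k s} := by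
  set C := Subgroup.centralizer ({z} : Set G) with hC
  let f : {k : G // Odd (orderOf k) ∧ z * k * z⁻¹ = k⁻¹ ∧ Commute k (s * z)} ×
      {k : G // Odd (orderOf k) ∧ z * k * z⁻¹ = k⁻¹ ∧ Commute k s} → G ⧸ C :=
    fun p => QuotientGroup.mk ((p.2 : G) * (p.1 : G))
  suffices hf : Function.Bijective f by
    rw [← C.index_mul_card, Subgroup.index, ← Nat.card_congr (Equiv.ofBijective f hf), Nat.card_prod]
    ring
  have hs2 := mul_self_of_orderOf_eq_two hs
  have hcentral : ∀ l m : G, z * l * z⁻¹ = l⁻¹ → Commute l s → Commute m (s * z) →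
      ∀ b, (l * m) * z * (l * m)⁻¹ = b →
      let w := s * (l * z * l⁻¹)
      w * w = 1 ∧ Commute w b ∧ Commute w (l * z * l⁻¹) := by
    intro l m _ hls hm b hb w
    have hw : w = l * (s * z) * l⁻¹ := by
      show s * (l * z * l⁻¹) = _
      rw [← mul_assoc, ← mul_assoc, ← hls.eq]; simp [mul_assoc]
    have hb' : b = l * (m * z * m⁻¹) * l⁻¹ := by rw [← hb]; simp [mul_assoc]
    have hcw : Commute (s * z) z := hsz.mul_left (Commute.refl z)
    refine ⟨?_, ?_, ?_⟩
    · have h1 : (s * z) * (s * z) = 1 := by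
        rw [mul_assoc, ← mul_assoc z, ← hsz.eq, mul_assoc, mul_self_of_orderOf_eq_two hz.1, mul_one, hs2]
      rw [hw]
      calc l * (s * z) * l⁻¹ * (l * (s * z) * l⁻¹) = l * ((s * z) * (s * z)) * l⁻¹ := by
            simp [mul_assoc]
        _ = 1 := by rw [h1]; simp
    · rw [hw, hb']
      exact (Commute.conj_iff l).mpr ((hm.symm.mul_right hcw).mul_right hm.symm.inv_right)
    · rw [hw]
      exact (Commute.conj_iff l).mpr hcw
  constructor
  · rintro ⟨⟨m₁, hm₁⟩, ⟨l₁, hl₁⟩⟩ ⟨⟨m₂, hm₂⟩, ⟨l₂, hl₂⟩⟩ h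
    have hb : (l₂ * m₂) * z * (l₂ * m₂)⁻¹ = (l₁ * m₁) * z * (l₁ * m₁)⁻¹ :=
      mem_centralizer_iff_conj_eq.mp (QuotientGroup.eq.mp h)
    set b := (l₁ * m₁) * z * (l₁ * m₁)⁻¹ with hbdef
    obtain ⟨q₁, c₁, e₁⟩ := hcentral l₁ m₁ hl₁.2.1 hl₁.2.2 hm₁.2.2 b rfl
    obtain ⟨q₂, c₂, e₂⟩ := hcentral l₂ m₂ hl₂.2.1 hl₂.2.2 hm₂.2.2 b hb
    -- both central involutions are the same odd power of `s * b`
    have hodd : ∀ l : G, Odd (orderOf (b * (l * z * l⁻¹))) := by
      intro l
      have := isolated_odd (isolated_conj hz l) (l₁ * m₁ * l⁻¹)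
      simpa [hbdef, mul_assoc] using this
    have hpow : ∀ l : G, (s * (l * z * l⁻¹)) * (s * (l * z * l⁻¹)) = 1 →
        Commute (s * (l * z * l⁻¹)) b → Commute (s * (l * z * l⁻¹)) (l * z * l⁻¹) →
        (s * b) ^ orderOf (b * (l * z * l⁻¹)) = s * (l * z * l⁻¹) := by
      intro l q c e
      set w := s * (l * z * l⁻¹) with hw
      set v := l * z * l⁻¹ with hv
      have hv2 : v * v = 1 := by
        apply mul_self_of_orderOf_eq_two; rw [hv, orderOf_conj]; exact hz.1
      have : s * b = w * (v * b) := by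
        rw [hw, mul_assoc, ← mul_assoc v, hv2, one_mul]
      rw [this, (e.mul_right c).mul_pow]
      have h2 : orderOf (v * b) = orderOf (b * v) := by
        rw [← orderOf_conj v (b * v)]; congr 1; simp [mul_assoc]
      rw [← h2, pow_orderOf_eq_one, mul_one]
      obtain ⟨j, hj⟩ := h2 ▸ hodd l
      rw [hj, pow_succ, pow_mul, sq, q, one_pow, one_mul]
    have hw : s * (l₁ * z * l₁⁻¹) = s * (l₂ * z * l₂⁻¹) := by
      have h1 := hpow l₁ q₁ c₁ e₁
      have h2 := hpow l₂ q₂ c₂ e₂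
      have key : ∀ (w : G) (r : ℕ), Odd r → w * w = 1 → w ^ r = w := fun w r ⟨j, hj⟩ q => by
        rw [hj, pow_succ, pow_mul, sq, q, one_pow, one_mul]
      calc s * (l₁ * z * l₁⁻¹) = (s * (l₁ * z * l₁⁻¹)) ^ orderOf (b * (l₂ * z * l₂⁻¹)) :=
            (key _ _ (hodd l₂) q₁).symm
        _ = ((s * b) ^ orderOf (b * (l₂ * z * l₂⁻¹))) ^ orderOf (b * (l₁ * z * l₁⁻¹)) := by
            rw [← pow_mul, mul_comm, pow_mul, h1]
        _ = _ := by rw [h2, key _ _ (hodd l₁) q₂]
    have hl : l₁ = l₂ :=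
      (isolated_existsUnique hz l₁).unique ⟨⟨hl₁.1, hl₁.2.1⟩, rfl⟩
        ⟨⟨hl₂.1, hl₂.2.1⟩, (mul_left_cancel hw).symm⟩
    subst hl
    have hm : m₁ = m₂ :=
      (isolated_existsUnique hz m₁).unique ⟨⟨hm₁.1, hm₁.2.1⟩, rfl⟩
        ⟨⟨hm₂.1, hm₂.2.1⟩, by
          have := congrArg (fun y => l₁⁻¹ * y * l₁) hb
          simpa [hbdef, mul_assoc] using this⟩
    subst hm
    rfl
  · intro q
    induction q using QuotientGroup.induction_on with
    | _ g =>
    set b := g * z * g⁻¹ with hbdef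
    have hbo : orderOf b = 2 := by rw [hbdef, orderOf_conj]; exact hz.1
    -- a conjugate `v` of `z` commuting with `s` such that `s * v` commutes with `b`
    obtain ⟨c, hcs, hcb⟩ : ∃ c : G, Commute s (c * z * c⁻¹) ∧ Commute (s * (c * z * c⁻¹)) b := by
      by_cases hodd : Odd (orderOf (b * s))
      · obtain ⟨k, -, -, -, hk⟩ := exists_conj_of_odd hs hbo hodd
        have hsz' : s = z := by
          have hs' : k⁻¹ * g * z * (k⁻¹ * g)⁻¹ = s := by
            have h := congrArg (fun y => k⁻¹ * y * k) hk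
            rw [hbdef] at h
            simpa [mul_assoc] using h.symm
          rw [← hs']
          exact hz.2 _ (hs'.symm ▸ hsz.symm)
        refine ⟨1, ?_, ?_⟩
        · simp [hsz']
        · simp [hsz', mul_self_of_orderOf_eq_two hz.1]
      · obtain ⟨l, hl⟩ := Nat.not_odd_iff_even.mp hodd
        have hinv := conj_mul_involutions hs hbo
        set d := b * s with hd
        have hpos := orderOf_pos d
        have hwinv : (d ^ l)⁻¹ = d ^ l :=
          inv_eq_of_mul_eq_one_left (by rw [← pow_add, ← hl, pow_orderOf_eq_one])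
        have hws : Commute (d ^ l) s := by
          have : s * d ^ l * s⁻¹ = d ^ l := by rw [← conj_pow, hinv, inv_pow, hwinv]
          exact (mul_inv_eq_iff_eq_mul.mp this).symm
        have hbd : b = d * s := by rw [hd, mul_assoc, hs2, mul_one]
        have hwb : Commute (d ^ l) b := by rw [hbd]; exact (Commute.pow_self d l).mul_right hws
        rcases Nat.even_or_odd l with ⟨j, hj⟩ | ⟨j, hj⟩
        · exfalso
          have hinvb : b * d * b⁻¹ = d⁻¹ := by
            rw [hbd, mul_inv_rev]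
            calc d * s * d * (s⁻¹ * d⁻¹) = d * (s * d * s⁻¹) * d⁻¹ := by simp [mul_assoc]
              _ = d⁻¹ := by rw [hinv]; simp
          have h := zpow_conj_mul hinvb (j : ℤ) 0
          rw [zpow_zero, one_mul, show (0 : ℤ) + 2 * (j : ℤ) = (l : ℤ) by omega, zpow_natCast d l] at h
          have h2 := (isolated_conj hz g).2 (d ^ (j : ℤ))
          rw [← hbdef, h] at h2
          exact pow_ne_one_of_lt_orderOf (by omega) (by omega)
            (mul_eq_right.mp (h2 (hwb.symm.mul_right (Commute.refl b))))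
        · refine ⟨d ^ (j : ℤ) * g, ?_⟩
          have h := zpow_conj_mul hinv (j : ℤ) 1
          rw [zpow_one, ← hbd, hbdef, show (1 : ℤ) + 2 * (j : ℤ) = (l : ℤ) by omega,
            zpow_natCast d l] at h
          have hv : d ^ (j : ℤ) * g * z * (d ^ (j : ℤ) * g)⁻¹ = d ^ l * s := by
            rw [← h]; simp [mul_assoc]
          rw [hv]
          refine ⟨hws.symm.mul_right (Commute.refl s), ?_⟩
          rw [← mul_assoc, ← hws.eq, mul_assoc, hs2, mul_one]
          exact hwb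
    obtain ⟨l, ⟨⟨hlo, hli⟩, hlc⟩, -⟩ := isolated_existsUnique hz c
    have hls : Commute l s := commute_of_unique hz hlo hli hlc hsz hcs
    obtain ⟨m, ⟨⟨hmo, hmi⟩, hmc⟩, -⟩ := isolated_existsUnique hz (l⁻¹ * g)
    have hms : Commute m (s * z) := by
      refine commute_of_unique hz hmo hmi hmc (hsz.mul_left (Commute.refl z)) ?_
      rw [← hlc] at hcb
      have h2 : s * (l * z * l⁻¹) = l * (s * z) * l⁻¹ := by
        rw [← mul_assoc, ← mul_assoc, ← hls.eq]; simp [mul_assoc]
      rw [h2] at hcb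
      have h3 := (Commute.conj_iff l⁻¹).mpr hcb
      simpa [hbdef, mul_assoc] using h3
    refine ⟨(⟨m, hmo, hmi, hms⟩, ⟨l, hlo, hli, hls⟩), QuotientGroup.eq.mpr ?_⟩
    rw [mem_centralizer_iff_conj_eq]
    have := congrArg (fun y => l * y * l⁻¹) hmc
    simpa [mul_assoc] using this.symm

end Cfsg.Agent.S1186
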