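import Cfsg.Statements.S1189
import Cfsg.Agent.H39.SemiDihedral

namespace Cfsg.Agent.S1189

open Cfsg.Agent.H39

/-- A quasi-dihedral 2-group has exactly two conjugacy classes of elements of order 2 and exactly two conjugacy classes of elements of order 4. -/
theorem result {S : Type*} [Group S] [Finite S] (hS : Cfsg.IsQuasiDihedral S) : Nat.card {C : ConjClasses S // ∃ t : S, orderOf t = 2 ∧ ConjClasses.mk t = C} = 2 ∧ Nat.card {C : ConjClasses S // ∃ t : S, orderOf t = 4 ∧ ConjClasses.mk t = C} = 2 := by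
  obtain ⟨m, x, y, h⟩ := exists_sdGen hS
  constructor
  · refine card_classes_eq_two (P := fun t : S => orderOf t = 2) (a := x ^ (4 * 2 ^ m : ℤ))
      (b := x ^ (2 * (0 : ℤ)) * y) h.orderOf_z (h.orderOf_out_even 0) ?_ fun t ht => ?_
    · intro hc
      obtain ⟨g, hg⟩ := isConj_iff.mp hc
      rw [h.z_central, mul_inv_cancel_right] at hg
      exact h.out_ne_in _ _ hg.symm
    · rcases h.mem_ord_two t ht with rfl | ⟨k, rfl⟩
      · exact Or.inl (IsConj.refl _)
      · right
        have := h.isConj_out_of_dvd 0 k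
        simpa using this
  · refine card_classes_eq_two (P := fun t : S => orderOf t = 4) (a := x ^ (2 * 2 ^ m : ℤ))
      (b := x ^ (2 * (0 : ℤ) + 1) * y) h.orderOf_w (h.orderOf_of_sq_eq_z (h.out_odd_sq 0)) ?_ fun t ht => ?_
    · intro hc
      obtain ⟨g, hg⟩ := isConj_iff.mp hc
      rcases h.conj_in g (2 * 2 ^ m) with e | e <;> rw [e] at hg <;> exact h.out_ne_in _ _ hg.symm
    · rcases h.mem_ord_four t ht with rfl | rfl | ⟨k, rfl⟩
      · exact Or.inl (IsConj.refl _)
      · left
        refine IsConj.symm (isConj_iff.mpr ⟨y, ?_⟩)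
        rw [h.conj_zpow_x, h.zpow_eq]
        exact ⟨2 ^ m, by ring⟩
      · right
        have := h.isConj_out_of_dvd 1 k
        simpa [add_comm] using this

end Cfsg.Agent.S1189
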