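import Cfsg.Statements.S1192
import Cfsg.Agent.H39.SemiDihedralMaximal

namespace Cfsg.Agent.S1192

open Cfsg.Agent.H39

/-- A quasi-dihedral group S of order 2^(n+1) has exactly three maximal subgroups; one is cyclic, one is isomorphic to the generalized quaternion group of order 2^n and one to the dihedral group of order 2^n. -/
theorem result {S : Type*} [Group S] [Finite S] (hS : Cfsg.IsQuasiDihedral S) (n : ℕ) (hn : Nat.card S = 2 ^ (n + 1)) : ∃ M₁ M₂ M₃ : Subgroup S, IsCoatom M₁ ∧ IsCoatom M₂ ∧ IsCoatom M₃ ∧ M₁ ≠ M₂ ∧ M₁ ≠ M₃ ∧ M₂ ≠ M₃ ∧ (∀ M : Subgroup S, IsCoatom M → M = M₁ ∨ M = M₂ ∨ M = M₃) ∧ IsCyclic M₁ ∧ Nonempty (M₂ ≃* QuaternionGroup (2 ^ (n - 2))) ∧ Nonempty (M₃ ≃* DihedralGroup (2 ^ (n - 1))) := by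
  obtain ⟨m, x, y, h⟩ := exists_sdGen hS
  obtain rfl : n = m + 3 := by
    have := Nat.pow_right_injective (le_refl 2) (hn.symm.trans h.card)
    omega
  refine ⟨Subgroup.zpowers x, h.evenPart 1, h.evenPart 0, isCoatom_of_index_two h.index_zpowers,
    isCoatom_of_index_two (h.index_evenPart 1), isCoatom_of_index_two (h.index_evenPart 0),
    fun e => h.x_not_mem_evenPart 1 (e ▸ Subgroup.mem_zpowers x),
    fun e => h.x_not_mem_evenPart 0 (e ▸ Subgroup.mem_zpowers x), fun e => ?_,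
    fun M hM => h.coatom_eq hM, inferInstance, ?_, ?_⟩
  · have h1 : x ^ (1 : ℤ) * y ∈ h.evenPart 1 := h.out_mem_evenPart.mpr (by decide)
    rw [e, h.out_mem_evenPart] at h1
    exact absurd h1 (by decide)
  · rw [show m + 3 - 2 = m + 1 by omega]; exact h.quaternion_equiv
  · rw [show m + 3 - 1 = m + 2 by omega]; exact h.dihedral_equiv

end Cfsg.Agent.S1192
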