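import Cfsg.Statements.S1199
import Cfsg.Agent.H39.WreathKlein
-- import your own Cfsg.Agent.* helpers here

set_option autoImplicit false
open Cfsg

namespace Cfsg.Agent.S1199

open Cfsg.Agent.H39

/-- A wreathed 2-group S of order 2^(2n+1) has exactly one subgroup of order 2^(n+1) isomorphic to a generalized quaternion group, and that subgroup is normal in S. -/
theorem result {S : Type*} [Group S] [Finite S] (hS : Cfsg.IsWreathed S) (n : ℕ) (hn : Nat.card S = 2 ^ (2 * n + 1)) : (∃! Y : Subgroup S, Nat.card Y = 2 ^ (n + 1) ∧ Nonempty (Y ≃* QuaternionGroup (2 ^ (n - 1)))) ∧ ∀ Y : Subgroup S, Nat.card Y = 2 ^ (n + 1) → Nonempty (Y ≃* QuaternionGroup (2 ^ (n - 1))) → Y.Normal := by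
  obtain ⟨m, x, y, z, h⟩ := exists_wGen hS
  obtain rfl := h.eq_n hn
  have e : 2 ^ (m + 2 + 1) = 2 * 2 ^ (m + 2) := pow_succ' 2 (m + 2)
  have huniq : ∀ Y : Subgroup S, Nat.card Y = 2 ^ (m + 2 + 1) →
      Nonempty (Y ≃* QuaternionGroup (2 ^ (m + 1))) → Y = h.quat := by
    rintro Y h1 ⟨f⟩
    exact h.quat_le_unique (h1.trans e) f
  refine ⟨⟨h.quat, ⟨h.card_quat.trans e.symm, h.quat_equiv⟩, fun Y hY => huniq Y hY.1 hY.2⟩,
    fun Y h1 h2 => ?_⟩
  rw [huniq Y h1 h2]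
  exact h.sumSub_normal

end Cfsg.Agent.S1199
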