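import Cfsg.Statements.S1201
import Cfsg.Agent.H39.WreathSubgroups
-- import your own Cfsg.Agent.* helpers here

set_option autoImplicit false
open Cfsg

namespace Cfsg.Agent.S1201

open Cfsg.Agent.H39

/-- If X is a non-commutative subgroup of a wreathed 2-group S, then Z(X) ≤ Z(S). -/
theorem result {S : Type*} [Group S] [Finite S] (hS : Cfsg.IsWreathed S) (X : Subgroup S) (hX : ¬ IsMulCommutative X) : (Subgroup.center X).map X.subtype ≤ Subgroup.center S := by
  obtain ⟨m, x, y, z, h⟩ := exists_wGen hS
  exact h.center_sub hX

end Cfsg.Agent.S1201
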