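import Cfsg.Statements.S1204
import Cfsg.Agent.H39.SemiDihedralFusion

set_option autoImplicit false
open Cfsg

namespace Cfsg.Agent.S1204

open Cfsg.Agent Cfsg.Agent.H39

/-- Let G be a finite group with quasi-dihedral Sylow 2-subgroup S, T a Klein four-subgroup and Q a quaternion subgroup of order 8 of S, with |N_G(T) : C_G(T)| = 6 and |N_G(Q) : Q C_G(Q)| = 6. Then G has no subgroup of index 2, exactly one conjugacy class of involutions and exactly one conjugacy class of elements of order 4. -/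
theorem result {G : Type*} [Group G] [Finite G] (S : Sylow 2 G) (hS : Cfsg.IsQuasiDihedral (S : Subgroup G)) (T : Subgroup G) (hT : IsKleinFour T) (hTS : T ≤ S) (Q : Subgroup G) (hQS : Q ≤ S) (eQ : Q ≃* QuaternionGroup 2) (h₁ : (Subgroup.centralizer (T : Set G)).relIndex (Subgroup.normalizer (T : Set G)) = 6) (h₂ : (Q ⊔ Subgroup.centralizer (Q : Set G)).relIndex (Subgroup.normalizer (Q : Set G)) = 6) : (∀ H : Subgroup G, H.index ≠ 2) ∧ Nat.card {C : ConjClasses G // ∃ t : G, orderOf t = 2 ∧ ConjClasses.mk t = C} = 1 ∧ Nat.card {C : ConjClasses G // ∃ t : G, orderOf t = 4 ∧ ConjClasses.mk t = C} = 1 := by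
  obtain ⟨m, x, y, h⟩ := exists_sdGen hS
  refine ⟨fun H hH => ?_, card_classes_eq_one h.orderOf_zG fun t ht => ?_,
    card_classes_eq_one h.orderOf_wG fun t ht => ?_⟩
  · have : Fact (Nat.Prime 2) := ⟨Nat.prime_two⟩
    have hL : (H.subgroupOf ⊤).index = 2 := by
      rw [← Subgroup.relIndex, Subgroup.relIndex_top_right]; exact hH
    have hS2 : ∀ M : Subgroup (S : Subgroup G), M ≤ (⊤ : Subgroup G).subgroupOf (S : Subgroup G) :=
      fun M v _ => Subgroup.mem_top (v : G)
    have hpow : ∀ g : G, ∃ e : ℕ, g ^ (4 ^ e) ∈ (⊤ : Subgroup G) := fun g => ⟨0, Subgroup.mem_top _⟩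
    have he : ∀ k : ℤ, ((x ^ (2 * k) * y : (S : Subgroup G)) : G) ∈ H := fun k =>
      h.outs_even_mem hT hTS h₁ (hS2 _) hpow hL k ⟨_, Subgroup.mem_top _⟩ rfl
    have ho : ∀ k : ℤ, ((x ^ (2 * k + 1) * y : (S : Subgroup G)) : G) ∈ H := fun k =>
      h.outs_odd_mem eQ hQS h₂ (hS2 _) hpow hL k ⟨_, Subgroup.mem_top _⟩ rfl
    have hout : ∀ i : ℤ, x ^ i * y ∈ H.subgroupOf (S : Subgroup G) := fun i => by
      rcases Int.even_or_odd i with ⟨k, hk⟩ | ⟨k, hk⟩
      · rw [hk, ← two_mul]; exact he k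
      · rw [hk]; exact ho k
    have hSH : (S : Subgroup G) ≤ H := by
      intro g hg
      rcases h.cases_elem ⟨g, hg⟩ with ⟨i, hi⟩ | ⟨i, hi⟩
      · have e : x ^ i = x ^ i * y * (x ^ (0 : ℤ) * y) := by
          rw [zpow_zero, one_mul, mul_assoc, h.y_mul_self, mul_one]
        have hm : (⟨g, hg⟩ : (S : Subgroup G)) ∈ H.subgroupOf (S : Subgroup G) := by
          rw [hi, e]; exact mul_mem (hout i) (hout 0)
        exact hm
      · have hm : (⟨g, hg⟩ : (S : Subgroup G)) ∈ H.subgroupOf (S : Subgroup G) := by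
          rw [hi]; exact hout i
        exact hm
    have hd := Subgroup.index_dvd_of_le hSH
    rw [hH] at hd
    exact S.not_dvd_index hd
  · exact (h.conj_ord_two ht).elim id fun e => e.trans (h.z_conj_y hT hTS h₁).symm
  · exact (h.conj_ord_four ht).elim id fun e => e.trans (h.w_conj_b eQ hQS h₂).symm

end Cfsg.Agent.S1204
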