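import Cfsg.Statements.S1206
import Cfsg.Agent.H39.SemiDihedralFusion

set_option autoImplicit false
open Cfsg

namespace Cfsg.Agent.S1206

open Cfsg.Agent Cfsg.Agent.H39

/-- Let G be a finite group with quasi-dihedral Sylow 2-subgroup S, T a Klein four-subgroup and Q a quaternion subgroup of order 8 of S, with |N_G(T) : C_G(T)| = 6 and |N_G(Q) : Q C_G(Q)| = 2. Then G has a normal subgroup K of index 2 whose Sylow 2-subgroups are dihedral and which has no subgroup of index 2, and G has exactly one class of involutions and two classes of elements of order 4. -/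
theorem result {G : Type*} [Group G] [Finite G] (S : Sylow 2 G) (hS : Cfsg.IsQuasiDihedral (S : Subgroup G)) (T : Subgroup G) (hT : IsKleinFour T) (hTS : T ≤ S) (Q : Subgroup G) (hQS : Q ≤ S) (eQ : Q ≃* QuaternionGroup 2) (h₁ : (Subgroup.centralizer (T : Set G)).relIndex (Subgroup.normalizer (T : Set G)) = 6) (h₂ : (Q ⊔ Subgroup.centralizer (Q : Set G)).relIndex (Subgroup.normalizer (Q : Set G)) = 2) : (∃ K : Subgroup G, K.Normal ∧ K.index = 2 ∧ (∀ P : Sylow 2 ↥K, ∃ m : ℕ, Nonempty ((P : Subgroup ↥K) ≃* DihedralGroup m)) ∧ (∀ H : Subgroup ↥K, H.index ≠ 2)) ∧ Nat.card {C : ConjClasses G // ∃ t : G, orderOf t = 2 ∧ ConjClasses.mk t = C} = 1 ∧ Nat.card {C : ConjClasses G // ∃ t : G, orderOf t = 4 ∧ ConjClasses.mk t = C} = 2 := by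
  obtain ⟨m, x, y, h⟩ := exists_sdGen hS
  have : Fact (Nat.Prime 2) := ⟨Nat.prime_two⟩
  have hacts : ∀ Q' : Subgroup G, Q' ≤ (S : Subgroup G) → Nonempty (Q' ≃* QuaternionGroup 2) →
      Subgroup.normalizer (Q' : Set G) ≤ actsLike (S : Subgroup G) Q' := fun Q' hQ'S ⟨e⟩ =>
    h.quat_acts_of_two e hQ'S ((h.quat_relIndex_eq eQ e hQS hQ'S).trans h₂)
  have hinv : ∀ (a g : G), a ∈ (S : Subgroup G) → g⁻¹ * a * g ∈ (S : Subgroup G) →
      (a ∈ (h.evenPart 0).map (S : Subgroup G).subtype ↔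
        g⁻¹ * a * g ∈ (h.evenPart 0).map (S : Subgroup G).subtype) := fun a g ha hag =>
    h.parity_invariant 0 (Or.inl rfl) (Or.inr hacts) ha hag
  obtain ⟨K, hKn, hK2, hKS⟩ := h.exists_index_two 0 hinv
  refine ⟨⟨K, hKn, hK2, fun P => ?_, fun L hL => ?_⟩,
    card_classes_eq_one h.orderOf_zG fun t ht =>
      (h.conj_ord_two ht).elim id fun e => e.trans (h.z_conj_y hT hTS h₁).symm,
    card_classes_eq_two h.orderOf_wG h.orderOf_bG ?_ fun t ht => h.conj_ord_four ht⟩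
  · obtain ⟨e⟩ := sylow_of_normal_equiv S K P
    obtain ⟨f⟩ := h.dihedral_equiv
    exact ⟨2 ^ (m + 2), ⟨(e.trans (MulEquiv.subgroupCongr hKS)).trans f⟩⟩
  · refine index_ne_of_sylow_le S K L (fun a ha => ?_) hL
    have heven : ∀ k : ℤ, ∀ u : K, (u : G) = ((x ^ (2 * k) * y : (S : Subgroup G)) : G) → u ∈ L :=
      h.outs_even_mem hT hTS h₁ hKS.ge (fun g => ⟨1, by
        rw [pow_one, show 4 = 2 * 2 from rfl, pow_mul]
        exact pow_mem (Subgroup.sq_mem_of_index_two hK2 g) 2⟩) hL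
    have hmem : ∀ k : ℤ, ((x ^ (2 * k) * y : (S : Subgroup G)) : G) ∈ L.map K.subtype := fun k =>
      ⟨⟨_, hKS.ge (show x ^ (2 * k) * y ∈ h.evenPart 0 from ⟨k, Or.inr (by rw [add_zero])⟩)⟩,
        heven k _ rfl, rfl⟩
    obtain ⟨k, e | e⟩ : (⟨a, ha⟩ : (S : Subgroup G)) ∈ h.evenPart 0 := hKS.le a.2
    · have e' : x ^ (2 * k) = x ^ (2 * k) * y * (x ^ (2 * 0 : ℤ) * y) := by
        rw [h.out_mul_out, h.zpow_eq]; exact ⟨0, by ring⟩
      obtain ⟨u, hu, hua⟩ := (show (a : G) ∈ L.map K.subtype from by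
        have e3 := congrArg (fun v : (S : Subgroup G) => (v : G)) (e.trans e')
        simp only [Subgroup.coe_mul] at e3
        rw [e3]
        exact mul_mem (hmem _) (hmem 0))
      exact (Subtype.ext hua : u = a) ▸ hu
    · exact heven k a (congrArg Subtype.val (e.trans (by rw [add_zero])))
  · intro hc
    obtain ⟨g, hg⟩ := isConj_iff.mp hc
    have e := hinv _ g⁻¹ (x ^ (2 * 2 ^ m : ℤ) : (S : Subgroup G)).2
      (by rw [inv_inv, hg]; exact (x ^ (1 : ℤ) * y : (S : Subgroup G)).2)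
    rw [inv_inv, hg] at e
    obtain ⟨v, hv, hve⟩ := e.mp ⟨_, h.in_mem_evenPart.mpr ⟨2 ^ m, by ring⟩, rfl⟩
    rw [Subtype.ext hve, SetLike.mem_coe, h.out_mem_evenPart] at hv
    exact absurd hv (by decide)

end Cfsg.Agent.S1206
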