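import Cfsg.Statements.S1207
import Cfsg.Agent.H39.SemiDihedralFusion

set_option autoImplicit false
open Cfsg

namespace Cfsg.Agent.S1207

open Cfsg.Agent Cfsg.Agent.H39

/-- Let G be a finite group with quasi-dihedral Sylow 2-subgroup S, T a Klein four-subgroup and Q a quaternion subgroup of order 8 of S, with |N_G(T) : C_G(T)| = 2 and |N_G(Q) : Q C_G(Q)| = 2. Then G has a normal 2-complement, exactly two classes of involutions and exactly two classes of elements of order 4. -/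
theorem result {G : Type*} [Group G] [Finite G] (S : Sylow 2 G) (hS : Cfsg.IsQuasiDihedral (S : Subgroup G)) (T : Subgroup G) (hT : IsKleinFour T) (hTS : T ≤ S) (Q : Subgroup G) (hQS : Q ≤ S) (eQ : Q ≃* QuaternionGroup 2) (h₁ : (Subgroup.centralizer (T : Set G)).relIndex (Subgroup.normalizer (T : Set G)) = 2) (h₂ : (Q ⊔ Subgroup.centralizer (Q : Set G)).relIndex (Subgroup.normalizer (Q : Set G)) = 2) : Cfsg.HasNormalPComplement 2 G ∧ Nat.card {C : ConjClasses G // ∃ t : G, orderOf t = 2 ∧ ConjClasses.mk t = C} = 2 ∧ Nat.card {C : ConjClasses G // ∃ t : G, orderOf t = 4 ∧ ConjClasses.mk t = C} = 2 := by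
  obtain ⟨m, x, y, h⟩ := exists_sdGen hS
  have : Fact (Nat.Prime 2) := ⟨Nat.prime_two⟩
  have hctrl : ∀ (a g : G), a ∈ (S : Subgroup G) → g⁻¹ * a * g ∈ (S : Subgroup G) →
      ∃ s ∈ (S : Subgroup G), g⁻¹ * a * g = s⁻¹ * a * s := fun a g ha hag => by
    refine h.fusion (fun u v => ∃ s ∈ (S : Subgroup G), v = s⁻¹ * u * s)
      (fun u _ => ⟨1, one_mem _, by simp⟩)
      (fun u v w ⟨s, hs, e⟩ ⟨t, ht, e'⟩ => ⟨s * t, mul_mem hs ht, by rw [e', e]; group⟩)
      (fun u _ s hs => ⟨s, hs, rfl⟩) ?_ ?_ ha hag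
    · intro T' hT'S hT' g hg b hb
      obtain ⟨-, s, hs, -, hsa⟩ := h.klein_acts_of_two hT' hT'S
        ((h.klein_relIndex_eq hT hT' hTS hT'S).trans h₁) hg
      exact ⟨s, hs, hsa b hb⟩
    · intro Q' hQ'S hQ' g hg b hb
      obtain ⟨-, s, hs, -, hsa⟩ := h.quat_acts_of_two hQ'.some hQ'S
        ((h.quat_relIndex_eq eQ hQ'.some hQS hQ'S).trans h₂) hg
      exact ⟨s, hs, hsa b hb⟩
  have hnc : ∀ u v : (S : Subgroup G), IsConj (u : G) (v : G) → IsConj u v := fun u v hc => by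
    obtain ⟨g, hg⟩ := isConj_iff.mp hc
    obtain ⟨s, hs, e⟩ := hctrl u g⁻¹ u.2 (by rw [inv_inv, hg]; exact v.2)
    rw [inv_inv, hg] at e
    exact isConj_iff.mpr ⟨⟨s, hs⟩⁻¹, Subtype.ext (by simpa using e.symm)⟩
  refine ⟨?_, card_classes_eq_two h.orderOf_zG h.orderOf_yG ?_ fun t ht => h.conj_ord_two ht,
    card_classes_eq_two h.orderOf_wG h.orderOf_bG ?_ fun t ht => h.conj_ord_four ht⟩
  · refine Fusion.hasNormalPComplement_of_self_controls S fun a ha g hg => ?_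
    obtain ⟨s, hs, e⟩ := hctrl a g⁻¹ ha (by simpa using hg)
    exact ⟨s⁻¹, inv_mem hs, by simpa using e.symm⟩
  · intro hc
    obtain ⟨c, hcy⟩ := isConj_iff.mp (hnc _ _ hc)
    rw [h.z_central, mul_inv_cancel_right] at hcy
    exact h.out_ne_in 0 (4 * 2 ^ m) (by rw [zpow_zero, one_mul, hcy])
  · intro hc
    obtain ⟨c, hcy⟩ := isConj_iff.mp (hnc _ _ hc)
    have hm := (Subgroup.normal_of_index_eq_two (h.index_evenPart 0)).conj_mem _
      (h.in_mem_evenPart.mpr ⟨2 ^ m, by ring⟩ : x ^ (2 * 2 ^ m : ℤ) ∈ h.evenPart 0) c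
    rw [hcy, h.out_mem_evenPart] at hm
    exact absurd hm (by decide)

end Cfsg.Agent.S1207
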