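import Cfsg.Statements.S1209
import Cfsg.Agent.H39.WreathFusion
-- import your own Cfsg.Agent.* helpers here

set_option autoImplicit false
open Cfsg

namespace Cfsg.Agent.S1209

open Cfsg.Agent Cfsg.Agent.H39

/-- Let G be a finite group whose Sylow 2-subgroup S is wreathed of order 2^(2n+1), U the commutative subgroup of index 2 in S, Q a quaternion subgroup of order 8 of S and V = Q Z(S). If |N_G(U) : C_G(U)| = 6 and |N_G(V) : V C_G(V)| = 6, then G has no subgroup of index 2 and exactly one conjugacy class of involutions. -/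
theorem result {G : Type*} [Group G] [Finite G] (S : Sylow 2 G) (hS : Cfsg.IsWreathed (S : Subgroup G)) (n : ℕ) (hn : Nat.card S = 2 ^ (2 * n + 1)) (U : Subgroup G) (hUS : U ≤ S) (hUab : IsMulCommutative U) (hUcard : Nat.card U = 2 ^ (2 * n)) (Q : Subgroup G) (hQS : Q ≤ S) (eQ : Q ≃* QuaternionGroup 2) (h₁ : (Subgroup.centralizer (U : Set G)).relIndex (Subgroup.normalizer (U : Set G)) = 6) (h₂ : ((Q ⊔ ((Subgroup.center (S : Subgroup G)).map (S : Subgroup G).subtype)) ⊔ Subgroup.centralizer ((Q ⊔ ((Subgroup.center (S : Subgroup G)).map (S : Subgroup G).subtype) : Subgroup G) : Set G)).relIndex (Subgroup.normalizer ((Q ⊔ ((Subgroup.center (S : Subgroup G)).map (S : Subgroup G).subtype) : Subgroup G) : Set G)) = 6) : (∀ H : Subgroup G, H.index ≠ 2) ∧ Nat.card {C : ConjClasses G // ∃ t : G, orderOf t = 2 ∧ ConjClasses.mk t = C} = 1 := by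
  obtain ⟨m, x, y, z, h⟩ := exists_wGen hS
  have : Fact (Nat.Prime 2) := ⟨Nat.prime_two⟩
  obtain rfl := h.eq_n hn
  obtain rfl : U = h.baseG := h.eq_baseG hUS
    (fun a ha b hb => congrArg Subtype.val (hUab.is_comm.comm ⟨a, ha⟩ ⟨b, hb⟩)) hUcard
  refine ⟨fun H hH => ?_, card_classes_eq_one h.orderOf_AG fun t ht => ?_⟩
  · have hL : (H.subgroupOf (⊤ : Subgroup G)).index = 2 := by
      show H.relIndex ⊤ = 2
      rw [Subgroup.relIndex_top_right, hH]
    have hK : ∀ g : G, ∃ e : ℕ, g ^ (4 ^ e) ∈ (⊤ : Subgroup G) := fun g =>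
      ⟨0, Subgroup.mem_top _⟩
    refine index_ne_of_sylow_le S (⊤ : Subgroup G) (H.subgroupOf ⊤) (fun a ha => ?_) hL
    set M := (H.subgroupOf (⊤ : Subgroup G)).map (⊤ : Subgroup G).subtype with hM
    have hbase : ∀ v : (S : Subgroup G), v ∈ h.base → (v : G) ∈ M := fun v hv =>
      ⟨⟨v, Subgroup.mem_top _⟩,
        h.base_le_of_index_two le_top h₁ hK hL _ (h.mem_baseG.mpr hv), rfl⟩
    have hquat : ∀ v : (S : Subgroup G), v ∈ h.quat → (v : G) ∈ M :=
      h.quat_le_of_index_two eQ hQS h₂ (fun _ _ => Subgroup.mem_top _) hK hL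
    have hz : ((z : (S : Subgroup G)) : G) ∈ M := by
      have e : z = (x ^ (2 * 2 ^ m : ℤ) * y ^ (0 : ℤ))⁻¹ *
          (x ^ (2 * 2 ^ m : ℤ) * y ^ (0 : ℤ) * z) := (inv_mul_cancel_left _ _).symm
      rw [e, Subgroup.coe_mul, Subgroup.coe_inv]
      exact mul_mem (inv_mem (hbase _ (h.in_mem_base _ _)))
        (hquat _ (h.out_mem_quat.mpr (by simp)))
    have hmem : (a : G) ∈ M := by
      rcases h.cases_elem ⟨a, ha⟩ with ⟨c, d, e⟩ | ⟨c, d, e⟩
      · rw [show (a : G) = _ from congrArg (fun v : (S : Subgroup G) => (v : G)) e]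
        exact hbase _ (h.in_mem_base _ _)
      · rw [show (a : G) = _ from congrArg (fun v : (S : Subgroup G) => (v : G)) e]
        exact mul_mem (hbase _ (h.in_mem_base c d)) hz
    obtain ⟨v, hv, hva⟩ := hmem
    exact (Subtype.ext hva : v = a) ▸ hv
  · rcases h.conj_ord_two ht with e | e | e
    · exact e
    · exact e.trans (h.A_conj_C h₁).symm
    · exact e.trans (h.A_conj_z eQ hQS h₂).symm

end Cfsg.Agent.S1209
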