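import Cfsg.Statements.S1211
import Cfsg.Agent.H39.WreathFusion
-- import your own Cfsg.Agent.* helpers here

set_option autoImplicit false
open Cfsg

namespace Cfsg.Agent.S1211

open Cfsg.Agent Cfsg.Agent.H39

/-- Let G be a finite group whose Sylow 2-subgroup S is wreathed of order 2^(2n+1), U the commutative subgroup of index 2 in S, Q a quaternion subgroup of order 8 of S and V = Q Z(S). If |N_G(U) : C_G(U)| = 6 and |N_G(V) : V C_G(V)| = 2, then G has a normal subgroup K of index 2 containing U (so U is a Sylow 2-subgroup of K) which has no subgroup of index 2, and G has exactly two classes of involutions. -/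
theorem result {G : Type*} [Group G] [Finite G] (S : Sylow 2 G) (hS : Cfsg.IsWreathed (S : Subgroup G)) (n : ℕ) (hn : Nat.card S = 2 ^ (2 * n + 1)) (U : Subgroup G) (hUS : U ≤ S) (hUab : IsMulCommutative U) (hUcard : Nat.card U = 2 ^ (2 * n)) (Q : Subgroup G) (hQS : Q ≤ S) (eQ : Q ≃* QuaternionGroup 2) (h₁ : (Subgroup.centralizer (U : Set G)).relIndex (Subgroup.normalizer (U : Set G)) = 6) (h₂ : ((Q ⊔ ((Subgroup.center (S : Subgroup G)).map (S : Subgroup G).subtype)) ⊔ Subgroup.centralizer ((Q ⊔ ((Subgroup.center (S : Subgroup G)).map (S : Subgroup G).subtype) : Subgroup G) : Set G)).relIndex (Subgroup.normalizer ((Q ⊔ ((Subgroup.center (S : Subgroup G)).map (S : Subgroup G).subtype) : Subgroup G) : Set G)) = 2) : (∃ K : Subgroup G, K.Normal ∧ K.index = 2 ∧ U ≤ K ∧ (∀ H : Subgroup ↥K, H.index ≠ 2)) ∧ Nat.card {C : ConjClasses G // ∃ t : G, orderOf t = 2 ∧ ConjClasses.mk t = C} = 2 := by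
  obtain ⟨m, x, y, z, h⟩ := exists_wGen hS
  have : Fact (Nat.Prime 2) := ⟨Nat.prime_two⟩
  obtain rfl := h.eq_n hn
  obtain rfl : U = h.baseG := h.eq_baseG hUS
    (fun a ha b hb => congrArg Subtype.val (hUab.is_comm.comm ⟨a, ha⟩ ⟨b, hb⟩)) hUcard
  have hV : ∀ Q' : Subgroup G, Q' ≤ (S : Subgroup G) → Nonempty (Q' ≃* QuaternionGroup 2) →
      Subgroup.normalizer ((Q' ⊔ h.centG : Subgroup G) : Set G) ≤
        actsLike (S : Subgroup G) (Q' ⊔ h.centG) := fun Q' hQ'S ⟨e⟩ =>
    h.exc_acts_of_two e hQ'S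
      ((h.exc_relIndex_conj (h.exc_sup_quat eQ hQS) (h.exc_sup_quat e hQ'S)).trans h₂)
  obtain ⟨K, hKn, hK2, hKS⟩ := h.exists_index_two hV
  have hUK : h.baseG ≤ K := by
    rintro _ ⟨v, hv, rfl⟩
    exact hKS.ge hv
  refine ⟨⟨K, hKn, hK2, hUK, fun L hL => index_ne_of_sylow_le S K L (fun a ha =>
    h.base_le_of_index_two hUK h₁ (fun g => ⟨1, by
      rw [pow_one, show 4 = 2 * 2 from rfl, pow_mul]
      exact pow_mem (Subgroup.sq_mem_of_index_two hK2 g) 2⟩) hL a
      (h.mem_baseG (u := ⟨a, ha⟩) |>.mpr (hKS.le a.2))) hL⟩,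
    card_classes_eq_two h.orderOf_AG h.orderOf_zG ?_ fun t ht => ?_⟩
  · intro hc
    obtain ⟨g, hg⟩ := isConj_iff.mp hc
    have hm : (z : G) ∈ K := hg ▸ hKn.conj_mem _ (hUK (h.mem_baseG.mpr (h.in_mem_base _ _))) g
    exact h.z_not_mem_base (hKS.le (show z ∈ K.subgroupOf (S : Subgroup G) from hm))
  · rcases h.conj_ord_two ht with e | e | e
    · exact Or.inl e
    · exact Or.inl (e.trans (h.A_conj_C h₁).symm)
    · exact Or.inr e

end Cfsg.Agent.S1211
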