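import Cfsg.Statements.S1212
import Cfsg.Agent.H39.WreathFusion
-- import your own Cfsg.Agent.* helpers here

set_option autoImplicit false
open Cfsg

namespace Cfsg.Agent.S1212

open Cfsg.Agent Cfsg.Agent.H39

/-- Let G be a finite group whose Sylow 2-subgroup S is wreathed of order 2^(2n+1), U the commutative subgroup of index 2 in S, Q a quaternion subgroup of order 8 of S and V = Q Z(S). If |N_G(U) : C_G(U)| = 2 and |N_G(V) : V C_G(V)| = 2, then G has a normal 2-complement and exactly three conjugacy classes of involutions. -/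
theorem result {G : Type*} [Group G] [Finite G] (S : Sylow 2 G) (hS : Cfsg.IsWreathed (S : Subgroup G)) (n : ℕ) (hn : Nat.card S = 2 ^ (2 * n + 1)) (U : Subgroup G) (hUS : U ≤ S) (hUab : IsMulCommutative U) (hUcard : Nat.card U = 2 ^ (2 * n)) (Q : Subgroup G) (hQS : Q ≤ S) (eQ : Q ≃* QuaternionGroup 2) (h₁ : (Subgroup.centralizer (U : Set G)).relIndex (Subgroup.normalizer (U : Set G)) = 2) (h₂ : ((Q ⊔ ((Subgroup.center (S : Subgroup G)).map (S : Subgroup G).subtype)) ⊔ Subgroup.centralizer ((Q ⊔ ((Subgroup.center (S : Subgroup G)).map (S : Subgroup G).subtype) : Subgroup G) : Set G)).relIndex (Subgroup.normalizer ((Q ⊔ ((Subgroup.center (S : Subgroup G)).map (S : Subgroup G).subtype) : Subgroup G) : Set G)) = 2) : Cfsg.HasNormalPComplement 2 G ∧ Nat.card {C : ConjClasses G // ∃ t : G, orderOf t = 2 ∧ ConjClasses.mk t = C} = 3 := by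
  obtain ⟨m, x, y, z, h⟩ := exists_wGen hS
  have : Fact (Nat.Prime 2) := ⟨Nat.prime_two⟩
  obtain rfl := h.eq_n hn
  obtain rfl : U = h.baseG := h.eq_baseG hUS
    (fun a ha b hb => congrArg Subtype.val (hUab.is_comm.comm ⟨a, ha⟩ ⟨b, hb⟩)) hUcard
  have hV : ∀ Q' : Subgroup G, Q' ≤ (S : Subgroup G) → Nonempty (Q' ≃* QuaternionGroup 2) →
      Subgroup.normalizer ((Q' ⊔ h.centG : Subgroup G) : Set G) ≤
        actsLike (S : Subgroup G) (Q' ⊔ h.centG) := fun Q' hQ'S ⟨e⟩ =>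
    h.exc_acts_of_two e hQ'S
      ((h.exc_relIndex_conj (h.exc_sup_quat eQ hQS) (h.exc_sup_quat e hQ'S)).trans h₂)
  have hctrl : ∀ (a g : G), a ∈ (S : Subgroup G) → g⁻¹ * a * g ∈ (S : Subgroup G) →
      ∃ s ∈ (S : Subgroup G), g⁻¹ * a * g = s⁻¹ * a * s := fun a g ha hag =>
    h.self_control (h.base_acts_of_two h₁) hV ha hag
  have hnc : ∀ u v : (S : Subgroup G), IsConj (u : G) (v : G) → ∃ c, c * u * c⁻¹ = v :=
    fun u v hc => by
      obtain ⟨g, hg⟩ := isConj_iff.mp hc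
      obtain ⟨s, hs, e⟩ := hctrl u g⁻¹ u.2 (by rw [inv_inv, hg]; exact v.2)
      rw [inv_inv, hg] at e
      exact ⟨⟨s, hs⟩⁻¹, Subtype.ext (by simpa using e.symm)⟩
  refine ⟨?_, card_classes_eq_three h.orderOf_AG h.orderOf_CG h.orderOf_zG ?_ ?_ ?_
    fun t ht => h.conj_ord_two ht⟩
  · refine Fusion.hasNormalPComplement_of_self_controls S fun a ha g hg => ?_
    obtain ⟨s, hs, e⟩ := hctrl a g⁻¹ ha (by simpa using hg)
    exact ⟨s⁻¹, inv_mem hs, by simpa using e.symm⟩
  · intro hc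
    obtain ⟨c, hc'⟩ := hnc _ _ hc.symm
    rw [h.diag_central, mul_inv_cancel_right, h.pq_eq] at hc'
    exact h.half_not_dvd (by simpa using hc'.2)
  · intro hc
    obtain ⟨c, hc'⟩ := hnc _ _ hc
    exact h.z_not_mem_base (hc' ▸
      (Subgroup.normal_of_index_eq_two h.index_base).conj_mem _ (h.in_mem_base _ _) c)
  · intro hc
    obtain ⟨c, hc'⟩ := hnc _ _ hc
    exact h.z_not_mem_base (hc' ▸
      (Subgroup.normal_of_index_eq_two h.index_base).conj_mem _ (h.in_mem_base _ _) c)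

end Cfsg.Agent.S1212
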