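import Cfsg.Statements.S1217
import Cfsg.Agent.Linear.TwoGL
import Cfsg.Agent.Coprime.Basic
import Mathlib.FieldTheory.Finite.Extension


set_option autoImplicit false
open scoped MatrixGroups
open Cfsg

namespace Cfsg.Agent.S1217

open Subgroup

/-- A `2`-subgroup of maximal order is isomorphic to the given Sylow subgroup. -/
theorem exists_equiv {W G : Type*} [Group W] [Group G] [Finite G] (e : W ≃* G) (P : Sylow 2 G)
    (H : Subgroup W) {N m : ℕ} (hH : Nat.card H = 2 ^ N) (hG : Nat.card G = 2 ^ N * m)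
    (hm : ¬ 2 ∣ m) : Nonempty (H ≃* (P : Subgroup G)) := by
  haveI : Fact (Nat.Prime 2) := ⟨Nat.prime_two⟩
  set H' := H.map e.toMonoidHom with hH'
  have hc : Nat.card H' = 2 ^ N := by rw [hH', card_map_of_injective e.injective, hH]
  obtain ⟨S, hS⟩ := (IsPGroup.of_card hc).exists_le_sylow
  have hSe : (S : Subgroup G) = H' := by
    refine (Subgroup.eq_of_le_of_card_ge hS ?_).symm
    obtain ⟨a, ha⟩ := IsPGroup.iff_card.mp S.isPGroup'
    have hd : 2 ^ a ∣ 2 ^ N * m := hG ▸ ha ▸ (S : Subgroup G).card_subgroup_dvd_card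
    rw [ha, hc]
    refine Nat.le_of_dvd (pow_pos two_pos N) ?_
    exact ((Nat.prime_two.coprime_iff_not_dvd.mpr hm).pow_left a).dvd_of_dvd_mul_right hd
  exact ⟨(H.equivMapOfInjective e.toMonoidHom e.injective).trans
    ((MulEquiv.subgroupCongr hSe.symm).trans (Sylow.equiv S P))⟩

/-- Let F be a finite field with q elements, q odd, and P a Sylow 2-subgroup of GL(2,F). If q ≡ 3 (mod 4) then P is quasi-dihedral; if q ≡ 1 (mod 4) then P is wreathed. -/
theorem result {F : Type*} [Field F] [Fintype F] (P : Sylow 2 (GL (Fin 2) F)) : (Fintype.card F % 4 = 3 → Cfsg.IsQuasiDihedral (P : Subgroup (GL (Fin 2) F))) ∧ (Fintype.card F % 4 = 1 → Cfsg.IsWreathed (P : Subgroup (GL (Fin 2) F))) := by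
  classical
  haveI : Fact (Nat.Prime 2) := ⟨Nat.prime_two⟩
  set q := Fintype.card F with hq
  have hcard : Nat.card (GL (Fin 2) F) = (q + 1) * (q * (q - 1) ^ 2) := Linear.card_GL_two
  refine ⟨fun hq3 => ?_, fun hq1 => ?_⟩
  · -- the semilinear group of the quadratic extension
    obtain ⟨p, hp⟩ := CharP.exists F
    haveI : Fact p.Prime := ⟨CharP.char_is_prime F p⟩
    let K := FiniteField.Extension F p 2
    haveI : Finite K := inferInstanceAs (Finite (FiniteField.Extension F p 2))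
    haveI := Fintype.ofFinite K
    have hK : Nat.card K = q ^ 2 := by
      rw [FiniteField.natCard_extension, Nat.card_eq_fintype_card]
    obtain ⟨k, m, hm, hkm⟩ := Nat.exists_eq_pow_mul_and_not_dvd (n := q + 1) (by omega) 2 (by norm_num)
    have hk2 : 2 ≤ k := by
      by_contra hlt
      have h4 : 4 ∣ 2 ^ k * m := hkm ▸ (show 4 ∣ q + 1 by omega)
      rcases (show k = 0 ∨ k = 1 by omega) with rfl | rfl
      · rw [pow_zero, one_mul] at h4; exact hm ((show 2 ∣ 4 by norm_num).trans h4)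
      · rw [pow_one] at h4; exact hm ((Nat.mul_dvd_mul_iff_left two_pos).mp (by simpa using h4))
    obtain ⟨j, hj⟩ : ∃ j, m = 2 * j + 1 := ⟨m / 2, by omega⟩
    obtain ⟨r, hr, hrodd⟩ : ∃ r, q - 1 = 2 * r ∧ ¬ 2 ∣ r := ⟨(q - 1) / 2, by omega, by omega⟩
    have hKu : Nat.card Kˣ = 2 ^ (k + 1) * (m * r) := by
      rw [Nat.card_units, hK, show q ^ 2 - 1 = (q + 1) * (q - 1) by
        rw [← Nat.sq_sub_sq, one_pow], hkm, hr, pow_succ]
      ring
    obtain ⟨α, hα⟩ : ∃ α : Kˣ, orderOf α = 2 ^ (k + 1) := by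
      obtain ⟨g, hg⟩ := IsCyclic.exists_ofOrder_eq_natCard (α := Kˣ)
      refine ⟨g ^ (m * r), ?_⟩
      have hne : m * r ≠ 0 := fun h => by
        rw [mul_eq_zero] at h; rcases h with h | h
        · exact hm (h ▸ dvd_zero 2)
        · exact hrodd (h ▸ dvd_zero 2)
      rw [orderOf_pow' _ hne, hg, hKu, Nat.gcd_eq_right (Dvd.intro_left _ rfl),
        Nat.mul_div_cancel _ (Nat.pos_of_ne_zero hne)]
    let μ : Kˣ →* (Module.End F K)ˣ := Units.map (Algebra.lmul F K).toMonoidHom
    have hμ : ∀ (a : Kˣ) (v : K), (μ a : Module.End F K) v = (a : K) * v := fun a v => rfl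
    have hμi : Function.Injective μ := fun a c h => Units.ext (by
      have h1 := congrArg (fun u : (Module.End F K)ˣ => (u : Module.End F K) 1) h
      simpa [hμ] using h1)
    let fr : Module.End F K := (FiniteField.Extension.frob F p 2).toLinearMap
    have hfr : ∀ v : K, fr v = v ^ q := fun v => by
      show FiniteField.Extension.frob F p 2 v = v ^ q
      rw [FiniteField.Extension.frob_apply, Nat.card_eq_fintype_card]
    have hfr2 : fr * fr = 1 := LinearMap.ext fun v => by
      show fr (fr v) = v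
      rw [hfr, hfr, ← pow_mul, ← sq, ← hK, Nat.card_eq_fintype_card, FiniteField.pow_card]
    let φ : (Module.End F K)ˣ := ⟨fr, fr, hfr2, hfr2⟩
    have hφ2 : φ * φ = 1 := Units.ext hfr2
    have hconj : ∀ a : Kˣ, φ * μ a * φ⁻¹ = μ (a ^ q) := fun a => by
      rw [inv_eq_of_mul_eq_one_right hφ2]
      refine Units.ext (LinearMap.ext fun v => ?_)
      show fr ((a : K) * fr v) = ((a ^ q : Kˣ) : K) * v
      rw [hfr, hfr, mul_pow, ← pow_mul, ← sq, ← hK, Nat.card_eq_fintype_card, FiniteField.pow_card,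
        Units.val_pow_eq_pow_val]
    set x := μ α with hx
    have hxo : orderOf x = 2 ^ (k + 1) := by rw [hx, orderOf_injective μ hμi, hα]
    have hqmod : α ^ q = α ^ (2 ^ k - 1) := by
      refine pow_eq_pow_iff_modEq.mpr ?_
      rw [hα]
      have h1 : q = 2 ^ k - 1 + 2 ^ (k + 1) * j := by
        have h2 : q + 1 = 2 ^ k + 2 ^ (k + 1) * j := by rw [hkm, hj, pow_succ]; ring
        have := Nat.one_le_two_pow (n := k)
        omega
      rw [h1]
      exact (Nat.modEq_iff_dvd' (Nat.le_add_right _ _)).mpr ⟨j, by omega⟩ |>.symm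
    have hxc : φ * x * φ⁻¹ = x ^ (2 ^ k - 1) := by rw [hx, hconj, hqmod, map_pow]
    have hx_ne : x ^ (2 ^ k - 1) ≠ x := fun h => by
      have h1 := pow_eq_pow_iff_modEq.mp (h.trans (pow_one x).symm)
      rw [hxo] at h1
      have h2 : 4 ≤ 2 ^ k := le_trans (by norm_num) (Nat.pow_le_pow_right two_pos hk2)
      have h3 := (Nat.modEq_iff_dvd' (by omega)).mp h1.symm
      exact Nat.not_dvd_of_pos_of_lt (by omega) (by rw [pow_succ]; omega) h3
    have hφo : orderOf φ = 2 := orderOf_eq_prime (by rw [sq, hφ2]) fun h => hx_ne (by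
      rw [← hxc, h, one_mul, inv_one, mul_one])
    have hn : zpowers φ ≤ normalizer ((zpowers x : Subgroup (Module.End F K)ˣ) : Set (Module.End F K)ˣ) := by
      rw [zpowers_le, mem_normalizer_iff]
      have key : ∀ w ∈ zpowers x, φ * w * φ⁻¹ ∈ zpowers x := fun w hw => by
        obtain ⟨i, rfl⟩ := mem_zpowers_iff.mp hw
        rw [← conj_zpow, hxc]
        exact zpow_mem (pow_mem (mem_zpowers x) _) i
      refine fun w => ⟨key w, fun hw => ?_⟩
      have h1 := key _ hw
      rw [inv_eq_of_mul_eq_one_right hφ2] at h1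
      simpa [← mul_assoc, hφ2, mul_assoc w φ φ] using h1
    have hd : zpowers x ⊓ zpowers φ = ⊥ := eq_bot_iff.mpr fun w hw => by
      obtain ⟨i, rfl⟩ := mem_zpowers_iff.mp hw.2
      rcases Int.even_or_odd i with ⟨l, rfl⟩ | ⟨l, rfl⟩
      · rw [mem_bot, zpow_add, ← (Commute.refl φ).mul_zpow, hφ2, one_zpow]
      · exfalso
        refine hx_ne ?_
        have hwx : φ ∈ zpowers x := by
          have h1 := hw.1
          rwa [zpow_add, zpow_one, two_mul, zpow_add, ← (Commute.refl φ).mul_zpow, hφ2, one_zpow,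
            one_mul] at h1
        obtain ⟨s, hs⟩ := mem_zpowers_iff.mp hwx
        rw [← hxc, ← hs, (Commute.zpow_self x s).eq, mul_inv_cancel_right]
    haveI : Finite (Module.End F K) := Module.finite_of_finite F
    have hH := Coprime.card_sup hn hd
    rw [Nat.card_zpowers, Nat.card_zpowers, hxo, hφo, ← pow_succ] at hH
    let b := Module.finBasisOfFinrankEq F K (FiniteField.finrank_extension F p 2)
    let e : (Module.End F K)ˣ ≃* GL (Fin 2) F :=
      Units.mapEquiv (LinearMap.toMatrixAlgEquiv b).toMulEquiv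
    obtain ⟨E⟩ := exists_equiv e P (zpowers x ⊔ zpowers φ) (m := m * (q * r ^ 2)) hH
      (by rw [hcard, hkm, hr]; ring) (by
        intro h
        rcases Nat.prime_two.dvd_mul.mp h with h | h
        · exact hm h
        rcases Nat.prime_two.dvd_mul.mp h with h | h
        · omega
        · exact hrodd (Nat.prime_two.dvd_of_dvd_pow h))
    refine ⟨k + 1, by omega, ?_, E ⟨x, mem_sup_left (mem_zpowers x)⟩,
      E ⟨φ, mem_sup_right (mem_zpowers φ)⟩, ?_, ?_, ?_⟩
    · rw [← Nat.card_congr E.toEquiv, hH]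
    · rw [MulEquiv.orderOf_eq, Subgroup.orderOf_mk, hxo]
    · rw [MulEquiv.orderOf_eq, Subgroup.orderOf_mk, hφo]
    · rw [← map_inv, ← map_mul, ← map_mul, ← map_pow]
      exact congrArg E (Subtype.ext (by push_cast; simpa using hxc))
  · -- monomial matrices
    obtain ⟨n, m, hm, hnm⟩ := Nat.exists_eq_pow_mul_and_not_dvd (n := q - 1)
      (by have := Fintype.one_lt_card (α := F); omega) 2 (by norm_num)
    have hn2 : 2 ≤ n := by
      by_contra hlt
      have h4 : 4 ∣ 2 ^ n * m := hnm ▸ (show 4 ∣ q - 1 by omega)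
      rcases (show n = 0 ∨ n = 1 by omega) with rfl | rfl
      · rw [pow_zero, one_mul] at h4; exact hm ((show 2 ∣ 4 by norm_num).trans h4)
      · rw [pow_one] at h4; exact hm ((Nat.mul_dvd_mul_iff_left two_pos).mp (by simpa using h4))
    obtain ⟨r, hr, hrodd⟩ : ∃ r, q + 1 = 2 * r ∧ ¬ 2 ∣ r := ⟨(q + 1) / 2, by omega, by omega⟩
    obtain ⟨ζ, hζ⟩ : ∃ ζ : Fˣ, orderOf ζ = 2 ^ n := by
      obtain ⟨g, hg⟩ := IsCyclic.exists_ofOrder_eq_natCard (α := Fˣ)
      have hne : m ≠ 0 := fun h => hm (h ▸ dvd_zero 2)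
      refine ⟨g ^ m, ?_⟩
      rw [orderOf_pow' _ hne, hg, Nat.card_units, Nat.card_eq_fintype_card, ← hq, hnm,
        Nat.gcd_eq_right (Dvd.intro_left _ rfl), Nat.mul_div_cancel _ (Nat.pos_of_ne_zero hne)]
    let M : Fˣ → Fˣ → GL (Fin 2) F := fun a c =>
      ⟨!![(a : F), 0; 0, (c : F)], !![((a⁻¹ : Fˣ) : F), 0; 0, ((c⁻¹ : Fˣ) : F)],
        by simp [Matrix.one_fin_two], by simp [Matrix.one_fin_two]⟩
    let D : Fˣ × Fˣ →* GL (Fin 2) F :=
      { toFun := fun u => M u.1 u.2
        map_one' := Units.ext (by simp [M, Matrix.one_fin_two])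
        map_mul' := fun u v => Units.ext (by simp [M]) }
    have hDi : Function.Injective D := fun u v h => by
      have h1 := congrArg (fun g : GL (Fin 2) F => (g : Matrix (Fin 2) (Fin 2) F)) h
      refine Prod.ext (Units.ext ?_) (Units.ext ?_)
      · simpa [D, M] using congrFun (congrFun h1 0) 0
      · simpa [D, M] using congrFun (congrFun h1 1) 1
    let z : GL (Fin 2) F := ⟨!![0, 1; 1, 0], !![0, 1; 1, 0],
      by simp [Matrix.one_fin_two], by simp [Matrix.one_fin_two]⟩
    have hz2 : z * z = 1 := Units.ext (by simp [z, Matrix.one_fin_two])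
    have hswap : ∀ u : Fˣ × Fˣ, z * D u * z⁻¹ = D u.swap := fun u => by
      rw [inv_eq_of_mul_eq_one_right hz2]
      exact Units.ext (by simp [z, D, M])
    have hzD : ∀ u, z ≠ D u := fun u h => by
      have h1 := congrArg (fun g : GL (Fin 2) F => (g : Matrix (Fin 2) (Fin 2) F)) h
      have h2 := congrFun (congrFun h1 0) 1
      simp [z, D, M] at h2
    have hzo : orderOf z = 2 := orderOf_eq_prime (by rw [sq, hz2]) fun h => hzD 1 (by rw [h, map_one])
    set x := D (ζ, 1) with hx
    set y := D (1, ζ) with hy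
    have hxo : orderOf x = 2 ^ n := by
      rw [hx, orderOf_injective D hDi, Prod.orderOf, hζ, orderOf_one]; simp
    have hyo : orderOf y = 2 ^ n := by
      rw [hy, orderOf_injective D hDi, Prod.orderOf, hζ, orderOf_one]; simp
    have hxy : x * y = y * x := by rw [hx, hy, ← map_mul, ← map_mul, mul_comm]
    have hdis : zpowers x ⊓ zpowers y = ⊥ := eq_bot_iff.mpr fun w hw => by
      obtain ⟨i, rfl⟩ := mem_zpowers_iff.mp hw.1
      obtain ⟨j, hj⟩ := mem_zpowers_iff.mp hw.2
      rw [hx, hy, ← map_zpow, ← map_zpow] at hj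
      have h1 := congrArg Prod.fst (hDi hj)
      simp only [Prod.pow_fst, one_zpow] at h1
      rw [mem_bot, hx, ← map_zpow, show ((ζ, (1 : Fˣ)) ^ i) = 1 from
        Prod.ext (by simp only [Prod.pow_fst]; exact h1.symm) (by simp),
        map_one]
    have hyn : zpowers y ≤ normalizer ((zpowers x : Subgroup (GL (Fin 2) F)) : Set (GL (Fin 2) F)) := by
      refine le_trans ?_ (centralizer_le_normalizer _)
      rw [zpowers_le, mem_centralizer_iff]
      intro w hw
      obtain ⟨i, rfl⟩ := mem_zpowers_iff.mp hw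
      exact ((show Commute x y from hxy).zpow_left i).eq
    have hA := Coprime.card_sup hyn hdis
    rw [Nat.card_zpowers, Nat.card_zpowers, hxo, hyo, ← pow_add] at hA
    have hzx : z * x * z⁻¹ = y := by rw [hx, hswap]; rfl
    have hzy : z * y * z⁻¹ = x := by rw [hy, hswap]; rfl
    have hcjA : (zpowers x ⊔ zpowers y).map (MulAut.conj z).toMonoidHom = zpowers x ⊔ zpowers y := by
      rw [Subgroup.map_sup, MonoidHom.map_zpowers, MonoidHom.map_zpowers,
        show (MulAut.conj z).toMonoidHom x = y from hzx, show (MulAut.conj z).toMonoidHom y = x from hzy,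
        sup_comm]
    have hzn : zpowers z ≤ normalizer (((zpowers x ⊔ zpowers y : Subgroup (GL (Fin 2) F))) : Set (GL (Fin 2) F)) :=
      zpowers_le.mpr (Coprime.mem_normalizer_of_map_conj hcjA)
    have hAle : zpowers x ⊔ zpowers y ≤ D.range :=
      sup_le (zpowers_le.mpr ⟨_, rfl⟩) (zpowers_le.mpr ⟨_, rfl⟩)
    have hdz : (zpowers x ⊔ zpowers y) ⊓ zpowers z = ⊥ := eq_bot_iff.mpr fun w hw => by
      obtain ⟨i, rfl⟩ := mem_zpowers_iff.mp hw.2
      rcases Int.even_or_odd i with ⟨l, rfl⟩ | ⟨l, rfl⟩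
      · rw [mem_bot, zpow_add, ← (Commute.refl z).mul_zpow, hz2, one_zpow]
      · exfalso
        obtain ⟨u, hu⟩ := hAle hw.1
        rw [zpow_add, zpow_one, two_mul, zpow_add, ← (Commute.refl z).mul_zpow, hz2, one_zpow,
          one_mul] at hu
        exact hzD u hu.symm
    have hH := Coprime.card_sup hzn hdz
    rw [hA, Nat.card_zpowers, hzo, ← pow_succ, show n + n + 1 = 2 * n + 1 by ring] at hH
    obtain ⟨E⟩ := exists_equiv (MulEquiv.refl _) P (zpowers x ⊔ zpowers y ⊔ zpowers z)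
      (m := r * (q * m ^ 2)) hH
      (by rw [hcard, hnm, hr, show 2 ^ (2 * n + 1) = 2 * (2 ^ n * 2 ^ n) by
            rw [← pow_add, ← pow_succ', two_mul]]
          ring) (by
        intro h
        rcases Nat.prime_two.dvd_mul.mp h with h | h
        · exact hrodd h
        rcases Nat.prime_two.dvd_mul.mp h with h | h
        · omega
        · exact hm (Nat.prime_two.dvd_of_dvd_pow h))
    refine ⟨n, hn2, ?_, E ⟨x, mem_sup_left (mem_sup_left (mem_zpowers x))⟩,
      E ⟨y, mem_sup_left (mem_sup_right (mem_zpowers y))⟩,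
      E ⟨z, mem_sup_right (mem_zpowers z)⟩, ?_, ?_, ?_, ?_, ?_⟩
    · rw [← Nat.card_congr E.toEquiv, hH]
    · rw [MulEquiv.orderOf_eq, Subgroup.orderOf_mk, hxo]
    · rw [← map_mul, ← map_mul]; exact congrArg E (Subtype.ext hxy)
    · refine eq_bot_iff.mpr fun v hv => ?_
      obtain ⟨w, rfl⟩ := E.surjective v
      have hw : w ∈ zpowers (⟨x, mem_sup_left (mem_sup_left (mem_zpowers x))⟩ :
          ↥(zpowers x ⊔ zpowers y ⊔ zpowers z)) ⊓ zpowers
          (⟨y, mem_sup_left (mem_sup_right (mem_zpowers y))⟩ :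
          ↥(zpowers x ⊔ zpowers y ⊔ zpowers z)) := by
        obtain ⟨i, hi⟩ := mem_zpowers_iff.mp hv.1
        obtain ⟨l, hl⟩ := mem_zpowers_iff.mp hv.2
        rw [← map_zpow] at hi hl
        exact ⟨⟨i, E.injective hi⟩, ⟨l, E.injective hl⟩⟩
      rw [mem_bot, ← map_one E]
      refine congrArg E ?_
      obtain ⟨i, rfl⟩ := mem_zpowers_iff.mp hw.1
      obtain ⟨l, hl⟩ := mem_zpowers_iff.mp hw.2
      have h1 : x ^ i ∈ zpowers x ⊓ zpowers y :=
        ⟨zpow_mem (mem_zpowers x) i, ⟨l, by simpa using congrArg Subtype.val hl⟩⟩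
      rw [hdis, mem_bot] at h1
      exact Subtype.ext (by simpa using h1)
    · rw [MulEquiv.orderOf_eq, Subgroup.orderOf_mk, hzo]
    · rw [← map_inv, ← map_mul, ← map_mul]; exact congrArg E (Subtype.ext hzx)

end Cfsg.Agent.S1217
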