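import Cfsg.Statements.S1218
import Cfsg.Agent.H48.SylowTwoType
import Cfsg.Agent.Unitary.Order


set_option autoImplicit false
open scoped MatrixGroups
open Cfsg

namespace Cfsg.Agent.S1218

open Subgroup

/-- Diagonal matrices conjugated by an invertible matrix, as a homomorphism. -/
def conjDiag {F : Type*} [Field F] (C : GL (Fin 2) F) : Fˣ × Fˣ →* GL (Fin 2) F :=
  (MulAut.conj C).toMonoidHom.comp
    { toFun := fun u => (⟨!![(u.1 : F), 0; 0, (u.2 : F)],
          !![((u.1⁻¹ : Fˣ) : F), 0; 0, ((u.2⁻¹ : Fˣ) : F)],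
          by simp [Matrix.one_fin_two], by simp [Matrix.one_fin_two]⟩ : GL (Fin 2) F)
      map_one' := Units.ext (by simp [Matrix.one_fin_two])
      map_mul' := fun u v => Units.ext (by simp) }

theorem conjDiag_injective {F : Type*} [Field F] (C : GL (Fin 2) F) :
    Function.Injective (conjDiag C) := fun u v h => by
  have h0 : conjDiag (1 : GL (Fin 2) F) u = conjDiag 1 v := by
    have h1 := congrArg (fun g => C⁻¹ * g * C) h
    simpa [conjDiag, MulAut.conj_apply, mul_assoc] using h1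
  have h1 := congrArg (fun g : GL (Fin 2) F => (g : Matrix (Fin 2) (Fin 2) F)) h0
  refine Prod.ext (Units.ext ?_) (Units.ext ?_)
  · simpa [conjDiag] using congrFun (congrFun h1 0) 0
  · simpa [conjDiag] using congrFun (congrFun h1 1) 1

/-- The Hermitian form in the coordinates of the columns of `!![1, 1; a, -a]`. -/
theorem herm_change {F : Type*} [Field F] {q : ℕ} (hqo : Odd q)
    (hadd : ∀ x y : F, (x + y) ^ q = x ^ q + y ^ q) {a : F} (ha : a * a ^ q = -1) (u v : Fin 2 → F) :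
    hermForm 2 F q ((!![1, 1; a, -a] : Matrix (Fin 2) (Fin 2) F).mulVec u)
      ((!![1, 1; a, -a] : Matrix (Fin 2) (Fin 2) F).mulVec v)
      = 2 * (u 0 * v 1 ^ q + u 1 * v 0 ^ q) := by
  simp only [hermForm, Fin.sum_univ_two, Matrix.mulVec, dotProduct, Matrix.of_apply,
    Matrix.cons_val', Matrix.cons_val_zero, Matrix.cons_val_one, Matrix.cons_val_fin_one]
  rw [hadd, hadd, mul_pow, mul_pow, mul_pow, mul_pow, one_pow, hqo.neg_pow]
  linear_combination (u 0 - u 1) * (v 0 ^ q - v 1 ^ q) * ha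

/-- Let F be a finite field with q² elements, q odd, let GU be the subgroup of GL(2,F) preserving the Hermitian form u₁v₁^q + u₂v₂^q, and P a Sylow 2-subgroup of GU. If q ≡ 1 (mod 4) then P is quasi-dihedral; if q ≡ 3 (mod 4) then P is wreathed. -/
theorem result {F : Type*} [Field F] [Fintype F] (q : ℕ) (hF : Fintype.card F = q ^ 2) (hq : Odd q) (P : Sylow 2 ↥(Cfsg.preserving (Units.coeHom (Matrix (Fin 2) (Fin 2) F)) (Cfsg.hermForm 2 F q))) : (q % 4 = 1 → Cfsg.IsQuasiDihedral (P : Subgroup ↥(Cfsg.preserving (Units.coeHom (Matrix (Fin 2) (Fin 2) F)) (Cfsg.hermForm 2 F q)))) ∧ (q % 4 = 3 → Cfsg.IsWreathed (P : Subgroup ↥(Cfsg.preserving (Units.coeHom (Matrix (Fin 2) (Fin 2) F)) (Cfsg.hermForm 2 F q)))) := by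
  classical
  have : Fact (Nat.Prime 2) := ⟨Nat.prime_two⟩
  have hG : Nat.card ↥(preserving (Units.coeHom (Matrix (Fin 2) (Fin 2) F)) (hermForm 2 F q))
      = q * ((q + 1) * (q ^ 2 - 1)) := by
    refine (Unitary.card_GU hF 2).trans ?_
    simp [Finset.prod_range_succ, Unitary.guFactor]
  have hq2 : 2 ≤ q := Unitary.two_le_q hF
  have hqm : q % 2 = 1 := Nat.odd_iff.mp hq
  have hsq : q ^ 2 - 1 = (q + 1) * (q - 1) := by rw [← Nat.sq_sub_sq, one_pow]
  obtain ⟨g, hg⟩ := IsCyclic.exists_ofOrder_eq_natCard (α := Fˣ)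
  rw [Unitary.card_units hF] at hg
  refine ⟨fun hq1 => ?_, fun hq3 => ?_⟩
  · -- the torus of a hyperbolic pair, inverted up to sign
    obtain ⟨k, j, hj, hkj⟩ := Nat.exists_eq_pow_mul_and_not_dvd (n := q - 1) (by omega) 2 (by norm_num)
    have hk2 : 2 ≤ k := by
      by_contra hlt
      have h4 : 4 ∣ 2 ^ k * j := hkj ▸ (show 4 ∣ q - 1 by omega)
      rcases (show k = 0 ∨ k = 1 by omega) with rfl | rfl
      · rw [pow_zero, one_mul] at h4; exact hj ((show 2 ∣ 4 by norm_num).trans h4)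
      · rw [pow_one] at h4; exact hj ((Nat.mul_dvd_mul_iff_left two_pos).mp (by simpa using h4))
    obtain ⟨r, hr, hrodd⟩ : ∃ r, q + 1 = 2 * r ∧ ¬ 2 ∣ r := ⟨(q + 1) / 2, by omega, by omega⟩
    have hne : r * j ≠ 0 := fun h => by
      rw [mul_eq_zero] at h; rcases h with h | h
      · exact hrodd (h ▸ dvd_zero 2)
      · exact hj (h ▸ dvd_zero 2)
    obtain ⟨α, hα⟩ : ∃ α : Fˣ, orderOf α = 2 ^ (k + 1) := by
      refine ⟨g ^ (r * j), ?_⟩
      have hc : (q + 1) * (q - 1) = 2 ^ (k + 1) * (r * j) := by rw [hr, hkj, pow_succ]; ring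
      rw [orderOf_pow' _ hne, hg, hc, Nat.gcd_eq_right (Dvd.intro_left _ rfl),
        Nat.mul_div_cancel _ (Nat.pos_of_ne_zero hne)]
    -- `α ^ 2 ^ k = -1`, whence `α ^ q = -α`
    have hneg : ((α : F)) ^ 2 ^ k = -1 := by
      have h1 : α ^ 2 ^ k ≠ 1 := fun h => by
        have h2 := Nat.le_of_dvd (pow_pos two_pos k) (orderOf_dvd_of_pow_eq_one h)
        rw [hα, pow_succ] at h2
        have := pow_pos (show 0 < 2 by norm_num) k
        omega
      have h2 : ((α : F) ^ 2 ^ k) ^ 2 = 1 := by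
        rw [← pow_mul, ← pow_succ, ← hα, ← Units.val_pow_eq_pow_val, pow_orderOf_eq_one, Units.val_one]
      rcases sq_eq_one_iff.mp h2 with h | h
      · exact absurd (Units.ext (by rw [Units.val_pow_eq_pow_val, h, Units.val_one])) h1
      · exact h
    have hjodd : Odd j := Nat.odd_iff.mpr (by omega)
    have hαq : (α : F) ^ q = -(α : F) := by
      rw [show q = 2 ^ k * j + 1 by omega, pow_succ, pow_mul, hneg, hjodd.neg_one_pow, neg_one_mul]
    set β := α ^ (2 ^ k - 1) with hβ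
    have hαβ : (α : F) * (β : F) = -1 := by
      rw [hβ, Units.val_pow_eq_pow_val, ← pow_succ', Nat.sub_add_cancel Nat.one_le_two_pow, hneg]
    have hβα : β ^ (2 ^ k - 1) = α := by
      refine mul_left_cancel (a := β) ?_
      rw [← pow_succ', Nat.sub_add_cancel Nat.one_le_two_pow]
      refine Units.ext ?_
      rw [Units.val_pow_eq_pow_val, hβ, Units.val_pow_eq_pow_val, pow_right_comm, hneg,
        (Nat.odd_iff.mpr (by
          have : 2 ∣ 2 ^ k := dvd_pow_self 2 (by omega)
          have := Nat.one_le_two_pow (n := k)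
          omega) : Odd (2 ^ k - 1)).neg_one_pow, ← hαβ, Units.val_mul, hβ, Units.val_pow_eq_pow_val]
      ring
    obtain ⟨a, ha⟩ := Unitary.exists_norm_eq_neg_one hF
    have ha0 : a ≠ 0 := fun h => by simp [h] at ha
    have h20 : (2 : F) ≠ 0 := fun h => by
      have h1 := (hq : Odd q)
      have h2 : (q : F) = 0 := Unitary.natCast_q_eq_zero hF
      obtain ⟨l, rfl⟩ := h1
      push_cast at h2
      rw [h, zero_mul, zero_add] at h2
      exact one_ne_zero h2
    let C : GL (Fin 2) F := Matrix.GeneralLinearGroup.mkOfDetNeZero !![1, 1; a, -a] (by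
      rw [Matrix.det_fin_two_of]
      rw [show (1 : F) * -a - 1 * a = -(2 * a) by ring]
      exact neg_ne_zero.mpr (mul_ne_zero h20 ha0))
    set D := conjDiag C with hD
    have hCw : ∀ (w : Fin 2 → F), w = (C : Matrix (Fin 2) (Fin 2) F).mulVec
        ((↑(C⁻¹) : Matrix (Fin 2) (Fin 2) F).mulVec w) := fun w => by
      rw [Matrix.mulVec_mulVec, ← Units.val_mul, mul_inv_cancel, Units.val_one, Matrix.one_mulVec]
    have hmem : D (α, β) ∈ preserving (Units.coeHom (Matrix (Fin 2) (Fin 2) F)) (hermForm 2 F q) := by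
      intro u v
      have hch := herm_change hq (Unitary.add_pow_q hF) ha
      conv_rhs => rw [hCw u, hCw v]
      show hermForm 2 F q (((D (α, β) : GL (Fin 2) F) : Matrix (Fin 2) (Fin 2) F).mulVec u) _ = _
      have hval : ((D (α, β) : GL (Fin 2) F) : Matrix (Fin 2) (Fin 2) F) =
          (C : Matrix (Fin 2) (Fin 2) F) * !![(α : F), 0; 0, (β : F)] *
            (↑(C⁻¹) : Matrix (Fin 2) (Fin 2) F) := rfl
      rw [show ((Units.coeHom (Matrix (Fin 2) (Fin 2) F)) (D (α, β))) =
        ((D (α, β) : GL (Fin 2) F) : Matrix (Fin 2) (Fin 2) F) from rfl, hval,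
        ← Matrix.mulVec_mulVec, ← Matrix.mulVec_mulVec, ← Matrix.mulVec_mulVec, ← Matrix.mulVec_mulVec]
      generalize (↑(C⁻¹) : Matrix (Fin 2) (Fin 2) F).mulVec u = s
      generalize (↑(C⁻¹) : Matrix (Fin 2) (Fin 2) F).mulVec v = t
      show hermForm 2 F q ((!![1, 1; a, -a] : Matrix (Fin 2) (Fin 2) F).mulVec _)
        ((!![1, 1; a, -a] : Matrix (Fin 2) (Fin 2) F).mulVec _) = _
      refine (hch _ _).trans (Eq.trans ?_ (hch _ _).symm)
      simp only [Matrix.mulVec, dotProduct, Fin.sum_univ_two, Matrix.of_apply,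
        Matrix.cons_val', Matrix.cons_val_zero, Matrix.cons_val_one, Matrix.cons_val_fin_one,
        zero_mul, add_zero, zero_add, mul_pow]
      have h1 : (α : F) * (β : F) ^ q = 1 := by
        have h := congrArg (· ^ q) hαβ
        simp only [mul_pow, hαq, hq.neg_one_pow, neg_mul, neg_inj] at h
        exact h
      have h2 : (β : F) * (α : F) ^ q = 1 := by rw [hαq]; linear_combination -hαβ
      linear_combination 2 * s 0 * t 1 ^ q * h1 + 2 * s 1 * t 0 ^ q * h2
    let y : GL (Fin 2) F := ⟨!![1, 0; 0, -1], !![1, 0; 0, -1],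
      by simp [Matrix.one_fin_two], by simp [Matrix.one_fin_two]⟩
    have hymem : y ∈ preserving (Units.coeHom (Matrix (Fin 2) (Fin 2) F)) (hermForm 2 F q) := by
      intro u v
      simp [y, hermForm, Fin.sum_univ_two, Matrix.mulVec, dotProduct, hq.neg_pow]
    have hy2 : y * y = 1 := Units.ext (by simp [y, Matrix.one_fin_two])
    have hyD : y * D (α, β) * y⁻¹ = D (β, α) := by
      let w : GL (Fin 2) F := ⟨!![0, 1; 1, 0], !![0, 1; 1, 0],
        by simp [Matrix.one_fin_two], by simp [Matrix.one_fin_two]⟩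
      have hyC : y * C = C * w := Units.ext (by simp [y, C, w, Matrix.GeneralLinearGroup.mkOfDetNeZero])
      let d : Fˣ → Fˣ → GL (Fin 2) F := fun b c => ⟨!![(b : F), 0; 0, (c : F)],
          !![((b⁻¹ : Fˣ) : F), 0; 0, ((c⁻¹ : Fˣ) : F)],
          by simp [Matrix.one_fin_two], by simp [Matrix.one_fin_two]⟩
      have hDd : ∀ b c, D (b, c) = C * d b c * C⁻¹ := fun b c => rfl
      have hwd : w * d α β * w⁻¹ = d β α := Units.ext (by simp [w, d])
      rw [hDd, hDd, ← hwd, show y = C * w * C⁻¹ by rw [← hyC, mul_inv_cancel_right]]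
      group
    refine H48.quasiDihedral_sylow_of_gens P (x := ⟨D (α, β), hmem⟩) (y := ⟨y, hymem⟩) (k := k)
      (m := q * (r ^ 2 * j)) hk2 ?_ ?_ ?_ (Subtype.ext hy2) (Subtype.ext ?_)
    · rw [hG, hsq, hkj, hr, pow_succ, pow_succ]; ring
    · intro h
      rcases Nat.prime_two.dvd_mul.mp h with h | h
      · omega
      rcases Nat.prime_two.dvd_mul.mp h with h | h
      · exact hrodd (Nat.prime_two.dvd_of_dvd_pow h)
      · exact hj h
    · rw [Subgroup.orderOf_mk, hD, orderOf_injective _ (conjDiag_injective C), Prod.orderOf, hβ, hα,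
        orderOf_pow' _ (by have := Nat.one_lt_two_pow (show k ≠ 0 by omega); omega), hα]
      exact Nat.lcm_eq_left (Nat.div_dvd_of_dvd (Nat.gcd_dvd_left _ _))
    · show y * D (α, β) * y⁻¹ = (D (α, β)) ^ (2 ^ k - 1)
      rw [hyD, ← map_pow, Prod.pow_mk, ← hβ, hβα]
  · -- monomial matrices
    obtain ⟨n, m, hm, hnm⟩ := Nat.exists_eq_pow_mul_and_not_dvd (n := q + 1) (by omega) 2 (by norm_num)
    have hn2 : 2 ≤ n := by
      by_contra hlt
      have h4 : 4 ∣ 2 ^ n * m := hnm ▸ (show 4 ∣ q + 1 by omega)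
      rcases (show n = 0 ∨ n = 1 by omega) with rfl | rfl
      · rw [pow_zero, one_mul] at h4; exact hm ((show 2 ∣ 4 by norm_num).trans h4)
      · rw [pow_one] at h4; exact hm ((Nat.mul_dvd_mul_iff_left two_pos).mp (by simpa using h4))
    obtain ⟨r, hr, hrodd⟩ : ∃ r, q - 1 = 2 * r ∧ ¬ 2 ∣ r := ⟨(q - 1) / 2, by omega, by omega⟩
    have hne : m * (q - 1) ≠ 0 := fun h => by
      rw [mul_eq_zero] at h; rcases h with h | h
      · exact hm (h ▸ dvd_zero 2)
      · omega
    obtain ⟨ζ, hζ⟩ : ∃ ζ : Fˣ, orderOf ζ = 2 ^ n := by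
      refine ⟨g ^ (m * (q - 1)), ?_⟩
      have hc : (q + 1) * (q - 1) = 2 ^ n * (m * (q - 1)) := by rw [hnm]; ring
      rw [orderOf_pow' _ hne, hg, hc, Nat.gcd_eq_right (Dvd.intro_left _ rfl),
        Nat.mul_div_cancel _ (Nat.pos_of_ne_zero hne)]
    have hζq : (ζ : F) * (ζ : F) ^ q = 1 := by
      rw [← pow_succ', hnm, pow_mul, ← hζ, ← Units.val_pow_eq_pow_val, pow_orderOf_eq_one,
        Units.val_one, one_pow]
    set D := conjDiag (1 : GL (Fin 2) F) with hD
    have hDv : ∀ b c : Fˣ, ((D (b, c) : GL (Fin 2) F) : Matrix (Fin 2) (Fin 2) F)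
        = !![(b : F), 0; 0, (c : F)] := fun b c => by simp [hD, conjDiag]
    have hmem : ∀ b c : Fˣ, (b : F) * (b : F) ^ q = 1 → (c : F) * (c : F) ^ q = 1 →
        D (b, c) ∈ preserving (Units.coeHom (Matrix (Fin 2) (Fin 2) F)) (hermForm 2 F q) := by
      intro b c hb hc u v
      rw [show (Units.coeHom (Matrix (Fin 2) (Fin 2) F)) (D (b, c)) = _ from hDv b c]
      simp only [hermForm, Fin.sum_univ_two, Matrix.mulVec, dotProduct, Matrix.of_apply,
        Matrix.cons_val', Matrix.cons_val_zero, Matrix.cons_val_one, Matrix.cons_val_fin_one,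
        zero_mul, add_zero, zero_add, mul_pow]
      linear_combination u 0 * v 0 ^ q * hb + u 1 * v 1 ^ q * hc
    let z : GL (Fin 2) F := ⟨!![0, 1; 1, 0], !![0, 1; 1, 0],
      by simp [Matrix.one_fin_two], by simp [Matrix.one_fin_two]⟩
    have hzmem : z ∈ preserving (Units.coeHom (Matrix (Fin 2) (Fin 2) F)) (hermForm 2 F q) := by
      intro u v
      simp [z, hermForm, Fin.sum_univ_two, Matrix.mulVec, dotProduct, add_comm]
    have hz2 : z * z = 1 := Units.ext (by simp [z, Matrix.one_fin_two])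
    have hzD : z * D (ζ, 1) * z⁻¹ = D (1, ζ) := by
      rw [inv_eq_of_mul_eq_one_right hz2]
      exact Units.ext (by rw [Units.val_mul, Units.val_mul, hDv, hDv]; simp [z])
    have h11 : ((1 : Fˣ) : F) * ((1 : Fˣ) : F) ^ q = 1 := by simp
    refine H48.wreathed_sylow_of_gens P (x := ⟨D (ζ, 1), hmem ζ 1 hζq h11⟩)
      (y := ⟨D (1, ζ), hmem 1 ζ h11 hζq⟩) (z := ⟨z, hzmem⟩) (n := n) (m := q * (r * m ^ 2))
      hn2 ?_ ?_ ?_ ?_ ?_ (Subtype.ext hz2) (Subtype.ext hzD)
    · rw [hG, hsq, hnm, hr, show 2 ^ (2 * n + 1) = 2 * (2 ^ n * 2 ^ n) by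
            rw [← pow_add, ← pow_succ', two_mul]]
      ring
    · intro h
      rcases Nat.prime_two.dvd_mul.mp h with h | h
      · omega
      rcases Nat.prime_two.dvd_mul.mp h with h | h
      · exact hrodd h
      · exact hm (Nat.prime_two.dvd_of_dvd_pow h)
    · rw [Subgroup.orderOf_mk, hD, orderOf_injective _ (conjDiag_injective 1), Prod.orderOf, hζ]
      simp
    · exact Subtype.ext (by push_cast; rw [← map_mul, ← map_mul, mul_comm])
    · refine eq_bot_iff.mpr fun w hw => ?_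
      obtain ⟨i, hi⟩ := mem_zpowers_iff.mp hw.1
      obtain ⟨l, hl⟩ := mem_zpowers_iff.mp hw.2
      have h1 := congrArg Subtype.val (hi.trans hl.symm)
      push_cast at h1
      rw [← map_zpow, ← map_zpow] at h1
      have h2 := congrArg Prod.fst (conjDiag_injective 1 h1)
      simp only [Prod.pow_fst, one_zpow] at h2
      rw [mem_bot, ← hi]
      refine Subtype.ext ?_
      push_cast
      rw [← map_zpow, show ((ζ, (1 : Fˣ)) ^ i) = 1 from
        Prod.ext (by simpa using h2) (by simp), map_one]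

end Cfsg.Agent.S1218
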