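import Cfsg.Statements.S1219
import Cfsg.Agent.H91.PSLThree

set_option autoImplicit false
open scoped MatrixGroups
open Cfsg

namespace Cfsg.Agent.S1219

section

open Matrix Cfsg.Agent.H91.PSL3

variable {F : Type*} [Field F]

local notation "GL2" => GL (Fin 2) F
local notation "M2" => Matrix (Fin 2) (Fin 2) F
local notation "SL3" => Matrix.SpecialLinearGroup (Fin 3) F
local notation "M3" => Matrix (Fin 3) (Fin 3) F
local notation "PG" => Matrix.ProjectiveSpecialLinearGroup (Fin 3) F

theorem emb_neg_one : ((emb (-1 : GL2) : SL3) : M3) = Matrix.diagonal ![-1, -1, 1] := by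
  rw [emb_val, embMat]
  ext a b
  fin_cases a <;> fin_cases b <;> simp [Matrix.det_fin_two]

theorem exists_conj_involution (h2 : (2 : F) ≠ 0) (g : SL3) (hg : g * g = 1) (hne : g ≠ 1) :
    ∃ c : SL3, c⁻¹ * g * c = emb (-1 : GL2) := by
  classical
  have hM : (g : M3) * (g : M3) = 1 := congrArg Subtype.val hg
  set f := Matrix.toLin' (g : M3) with hf
  have hff : ∀ v, f (f v) = v := fun v => by
    simp [hf, Matrix.mulVec_mulVec, hM]
  set A := Module.End.eigenspace f (1 : F)
  set B := Module.End.eigenspace f (-1 : F)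
  have hcomp : IsCompl A B := by
    refine ⟨?_, ?_⟩
    · rw [Submodule.disjoint_def]
      intro v ha hb
      rw [Module.End.mem_eigenspace_iff] at ha hb
      rw [one_smul] at ha
      rw [ha, neg_one_smul] at hb
      have : (2 : F) • v = 0 := by rw [two_smul]; nth_rewrite 2 [hb]; rw [add_neg_cancel]
      exact (smul_eq_zero.mp this).resolve_left h2
    · rw [codisjoint_iff, eq_top_iff]
      intro v _
      rw [Submodule.mem_sup]
      refine ⟨(2 : F)⁻¹ • (v + f v), ?_, (2 : F)⁻¹ • (v - f v), ?_, ?_⟩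
      · rw [Module.End.mem_eigenspace_iff, map_smul, map_add, hff, one_smul, add_comm]
      · rw [Module.End.mem_eigenspace_iff, map_smul, map_sub, hff, neg_one_smul, ← smul_neg, neg_sub]
      · rw [← smul_add, add_add_sub_cancel, ← two_smul F v, smul_smul, inv_mul_cancel₀ h2, one_smul]
  set bA := Module.finBasis F A
  set bB := Module.finBasis F B
  set d : Fin (Module.finrank F A) ⊕ Fin (Module.finrank F B) → F :=
    Sum.elim (fun _ => 1) (fun _ => -1) with hd
  set bb := (bA.prod bB).map (Submodule.prodEquivOfIsCompl A B hcomp) with hbb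
  have hbv : ∀ i, f (bb i) = d i • bb i := by
    rintro (i | i)
    · have h := (bA i).2
      rw [Module.End.mem_eigenspace_iff] at h
      simp [hbb, hd, h]
    · have h := (bB i).2
      rw [Module.End.mem_eigenspace_iff] at h
      simp [hbb, hd, h]
  have hmat : LinearMap.toMatrix bb bb f = Matrix.diagonal d := by
    ext i j
    rw [LinearMap.toMatrix_apply, hbv, map_smul, Finsupp.smul_apply, Module.Basis.repr_self,
      Finsupp.single_apply, Matrix.diagonal_apply]
    by_cases h : i = j
    · subst h; simp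
    · simp [h, Ne.symm h]
  have hdet : (∏ i, d i) = 1 := by
    rw [← Matrix.det_diagonal, ← hmat, LinearMap.det_toMatrix, hf, LinearMap.det_toLin']
    exact g.2
  have hsum : Module.finrank F A + Module.finrank F B = 3 := by
    rw [Submodule.finrank_add_eq_of_isCompl hcomp, Module.finrank_fin_fun]
  have hB : Module.finrank F B = 2 := by
    simp [hd, Fintype.prod_sum_type] at hdet
    rcases Nat.even_or_odd (Module.finrank F B) with he | ho
    · obtain ⟨k, hk⟩ := he
      by_contra h
      have hB0 : Module.finrank F B = 0 := by omega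
      have hBbot : B = ⊥ := Submodule.finrank_eq_zero.mp hB0
      have hA : A = ⊤ := by simpa [hBbot] using hcomp.sup_eq_top
      refine hne (Subtype.ext ?_)
      apply Matrix.toLin'.injective
      refine LinearMap.ext fun v => ?_
      have hv : v ∈ A := hA ▸ Submodule.mem_top
      rw [Module.End.mem_eigenspace_iff, one_smul] at hv
      rw [Matrix.SpecialLinearGroup.coe_one, Matrix.toLin'_one, LinearMap.id_apply]
      exact hv
    · rw [ho.neg_one_pow] at hdet
      exact absurd (by linear_combination -hdet : (2 : F) = 0) h2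
  have hA : Module.finrank F A = 1 := by omega
  let σ : Fin (Module.finrank F A) ⊕ Fin (Module.finrank F B) ≃ Fin 3 :=
    (((finCongr hA).sumCongr (finCongr hB)).trans (Equiv.sumComm _ _)).trans finSumFinEquiv
  set b3 := bb.reindex σ
  set ev : Fin 3 → F := ![-1, -1, 1] with hev
  have hσ : ∀ x, ev (σ x) = d x := by
    rintro (i | i)
    · have : (finCongr hA i) = 0 := Subsingleton.elim _ _
      simp [σ, hev, hd, this, finSumFinEquiv]
    · obtain ⟨j, rfl⟩ := (finCongr hB).symm.surjective i
      fin_cases j <;> simp [σ, hev, hd, finSumFinEquiv]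
  have hb3 : ∀ i, f (b3 i) = ev i • b3 i := fun i => by
    rw [show b3 i = bb (σ.symm i) from bb.reindex_apply σ i, hbv, ← hσ (σ.symm i),
      Equiv.apply_symm_apply]
  set P : M3 := Matrix.of fun i j => b3 j i with hP
  have hPd : P.det ≠ 0 := by
    have h : P = (Pi.basisFun F (Fin 3)).toMatrix b3 := by
      ext i j
      simp [hP, Module.Basis.toMatrix_apply]
    rw [h]
    exact (Matrix.isUnit_det_of_left_inverse (Module.Basis.toMatrix_mul_toMatrix_flip b3 _)).ne_zero
  have hMP : (g : M3) * P = P * Matrix.diagonal ev := by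
    ext i j
    have h := congrFun (hb3 j) i
    rw [hf, Matrix.toLin'_apply] at h
    rw [Matrix.mul_diagonal]
    simpa [Matrix.mul_apply, Matrix.mulVec, dotProduct, hP, mul_comm] using h
  set D : M3 := Matrix.diagonal ![1, 1, P.det⁻¹]
  let c : SL3 := ⟨P * D, by
    rw [Matrix.det_mul, Matrix.det_diagonal, Fin.prod_univ_three]
    simp [hPd]⟩
  refine ⟨c, ?_⟩
  rw [mul_assoc, inv_mul_eq_iff_eq_mul]
  refine Subtype.ext ?_
  show (g : M3) * (P * D) = (P * D) * _
  rw [emb_neg_one, ← mul_assoc, hMP, mul_assoc, mul_assoc, Matrix.diagonal_mul_diagonal,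
    Matrix.diagonal_mul_diagonal, ← hev]
  simp_rw [mul_comm]

theorem mem_range_psi (h2 : (2 : F) ≠ 0) (x : PG) :
    x ∈ (psi : GL2 →* PG).range ↔ x * psi (-1 : GL2) = psi (-1 : GL2) * x := by
  constructor
  · rintro ⟨a, rfl⟩
    rw [← map_mul, ← map_mul]
    congr 1
    exact Units.ext (by simp)
  intro h
  obtain ⟨y, rfl⟩ := QuotientGroup.mk'_surjective (Subgroup.center SL3) x
  set n : SL3 := emb (-1 : GL2) with hn
  set z := n⁻¹ * (y * n * y⁻¹) with hz
  have hzc : z ∈ Subgroup.center SL3 := by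
    refine QuotientGroup.eq.1 ?_
    have h' : QuotientGroup.mk' (Subgroup.center SL3) n = psi (-1 : GL2) := rfl
    show QuotientGroup.mk' _ n = QuotientGroup.mk' _ _
    rw [map_mul, map_mul, map_inv, h', h, mul_inv_cancel_right]
  have hnn : n * n = 1 := by
    rw [hn, ← map_mul, neg_mul_neg, one_mul, map_one]
  have e : y * n * y⁻¹ = n * z := by rw [hz]; group
  have hz1 : z = 1 := by
    refine eq_one_of_center hzc (k := 1) ?_
    have hc : z * n = n * z := (Subgroup.mem_center_iff.1 hzc n).symm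
    have h1 : (y * n * y⁻¹) * (y * n * y⁻¹) = 1 := by
      rw [show (y * n * y⁻¹) * (y * n * y⁻¹) = y * (n * n) * y⁻¹ by group, hnn, mul_one,
        mul_inv_cancel]
    rw [e] at h1
    rw [pow_one, pow_two]
    calc z * z = (n * n) * (z * z) := by rw [hnn, one_mul]
      _ = n * (n * z) * z := by group
      _ = n * (z * n) * z := by rw [hc]
      _ = n * z * (n * z) := by group
      _ = 1 := h1
  rw [hz1, mul_one, mul_inv_eq_iff_eq_mul] at e
  have em := congrArg Subtype.val e
  rw [Matrix.SpecialLinearGroup.coe_mul, Matrix.SpecialLinearGroup.coe_mul, hn, emb_neg_one] at em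
  have h02 := congrFun (congrFun em 0) 2
  have h12 := congrFun (congrFun em 1) 2
  have h20 := congrFun (congrFun em 2) 0
  have h21 := congrFun (congrFun em 2) 1
  rw [Matrix.mul_diagonal, Matrix.diagonal_mul] at h02 h12 h20 h21
  simp at h02 h12 h20 h21
  have z02 : (y : M3) 0 2 = 0 := (mul_eq_zero.mp (by linear_combination h02 :
    (2 : F) * (y : M3) 0 2 = 0)).resolve_left h2
  have z12 : (y : M3) 1 2 = 0 := (mul_eq_zero.mp (by linear_combination h12 :
    (2 : F) * (y : M3) 1 2 = 0)).resolve_left h2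
  have z20 : (y : M3) 2 0 = 0 := (mul_eq_zero.mp (by linear_combination -h20 :
    (2 : F) * (y : M3) 2 0 = 0)).resolve_left h2
  have z21 : (y : M3) 2 1 = 0 := (mul_eq_zero.mp (by linear_combination -h21 :
    (2 : F) * (y : M3) 2 1 = 0)).resolve_left h2
  have hd := y.2
  rw [Matrix.det_fin_three, z02, z12, z20, z21] at hd
  set N : M2 := !![(y : M3) 0 0, (y : M3) 0 1; (y : M3) 1 0, (y : M3) 1 1] with hN
  have hdN : N.det * (y : M3) 2 2 = 1 := by
    rw [hN, Matrix.det_fin_two_of]
    linear_combination hd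
  refine ⟨Matrix.GeneralLinearGroup.mkOfDetNeZero N (left_ne_zero_of_mul (hdN.trans_ne one_ne_zero)),
    congrArg (QuotientGroup.mk' (Subgroup.center SL3)) (Subtype.ext ?_)⟩
  rw [emb_val]
  have hinv : (N.det)⁻¹ = (y : M3) 2 2 := inv_eq_of_mul_eq_one_right hdN
  ext a b
  fin_cases a <;> fin_cases b <;>
    simp [embMat, Matrix.GeneralLinearGroup.mkOfDetNeZero, z02, z12, z20, z21, hinv, hN]
  simpa [hN] using hinv

theorem mem_ker_psi (g : GL2) :
    g ∈ (psi : GL2 →* PG).ker ↔ ∃ r : F, r ^ 3 = 1 ∧ (g : M2) = r • (1 : M2) := by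
  rw [MonoidHom.mem_ker, psi, MonoidHom.comp_apply, QuotientGroup.mk'_apply, QuotientGroup.eq_one_iff,
    Matrix.SpecialLinearGroup.mem_center_iff]
  constructor
  · rintro ⟨r, hr, he⟩
    rw [emb_val] at he
    have e00 := congrFun (congrFun he 0) 0
    have e01 := congrFun (congrFun he 0) 1
    have e10 := congrFun (congrFun he 1) 0
    have e11 := congrFun (congrFun he 1) 1
    simp [embMat] at e00 e01 e10 e11
    refine ⟨r, by simpa using hr, ?_⟩
    ext a b
    fin_cases a <;> fin_cases b <;> simp [← e00, ← e01, ← e10, ← e11]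
  · rintro ⟨r, hr, he⟩
    refine ⟨r, by simpa using hr, ?_⟩
    have hr0 : r ≠ 0 := fun h => by simp [h] at hr
    have hri : (r * r)⁻¹ = r := inv_eq_of_mul_eq_one_right (by rw [← hr]; ring)
    rw [emb_val, embMat, he]
    ext a b
    fin_cases a <;> fin_cases b <;> simp [Matrix.det_fin_two, hri]
    simp [← pow_two] at hri ⊢
    first | exact hri.symm | exact hri

theorem card_ker_psi [Fintype F] :
    Nat.card (psi : GL2 →* PG).ker = Nat.gcd (Fintype.card F - 1) 3 := by
  let i : Fˣ →* GL2 := Units.map (Matrix.scalar (Fin 2) : F →+* M2).toMonoidHom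
  have hi : Function.Injective i := by
    intro a b h
    refine Units.ext ?_
    exact Matrix.scalar_inj.mp (congrArg Units.val h)
  have hmap : (powMonoidHom 3 : Fˣ →* Fˣ).ker.map i = (psi : GL2 →* PG).ker := by
    ext g
    rw [mem_ker_psi]
    constructor
    · rintro ⟨u, hu, rfl⟩
      refine ⟨(u : F), ?_, ?_⟩
      · rw [← Units.val_pow_eq_pow_val]
        exact congrArg Units.val hu
      · simp [i, Matrix.scalar_apply, Matrix.smul_one_eq_diagonal]
    · rintro ⟨r, hr, he⟩
      have hr0 : r ≠ 0 := fun h => by simp [h] at hr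
      refine ⟨Units.mk0 r hr0, Units.ext (by simpa using hr), Units.ext ?_⟩
      rw [he]
      simp [i, Matrix.scalar_apply, Matrix.smul_one_eq_diagonal]
  rw [← hmap, Subgroup.card_map_of_injective hi, IsCyclic.card_powMonoidHom_ker,
    Nat.card_units, Nat.card_eq_fintype_card]

end

open Matrix Cfsg.Agent.H91.PSL3

/-- Let F be a finite field of odd order q and t an involution of PSL(3,F). Then C(t) is isomorphic to the quotient of GL(2,F) by a central subgroup of order gcd(q−1, 3). -/
theorem result {F : Type*} [Field F] [Fintype F] (hF : Odd (Fintype.card F)) (t : Matrix.ProjectiveSpecialLinearGroup (Fin 3) F) (ht : orderOf t = 2) : ∃ (Z : Subgroup (GL (Fin 2) F)) (_ : Z.Normal), Z ≤ Subgroup.center (GL (Fin 2) F) ∧ Nat.card Z = Nat.gcd (Fintype.card F - 1) 3 ∧ Nonempty (↥(Subgroup.centralizer ({t} : Set (Matrix.ProjectiveSpecialLinearGroup (Fin 3) F))) ≃* GL (Fin 2) F ⧸ Z) := by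
  have h2 : (2 : F) ≠ 0 := by
    intro h
    haveI : CharP F 2 := CharTwo.of_one_ne_zero_of_two_eq_zero one_ne_zero h
    have := FiniteField.even_card_iff_char_two.mp (ringChar.eq F 2)
    rw [Nat.odd_iff] at hF
    omega
  obtain ⟨g₀, rfl⟩ := QuotientGroup.mk'_surjective (Subgroup.center (Matrix.SpecialLinearGroup (Fin 3) F)) t
  have hsq : g₀ * g₀ ∈ Subgroup.center (Matrix.SpecialLinearGroup (Fin 3) F) := by
    refine (QuotientGroup.eq_one_iff _).1 ?_
    have h := pow_orderOf_eq_one (QuotientGroup.mk' (Subgroup.center (Matrix.SpecialLinearGroup (Fin 3) F)) g₀)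
    rw [ht, pow_two, ← map_mul] at h
    exact h
  set z := g₀ * g₀ with hz
  have hz3 : z ^ 3 = 1 := by
    obtain ⟨r, hr, he⟩ := Matrix.SpecialLinearGroup.mem_center_iff.1 hsq
    refine Subtype.ext ?_
    rw [Matrix.SpecialLinearGroup.coe_pow, ← he, ← map_pow]
    rw [Fintype.card_fin] at hr
    rw [hr, map_one]
    rfl
  have hgg : (g₀ * z) * (g₀ * z) = 1 := by
    have hc : z * g₀ = g₀ * z := (Subgroup.mem_center_iff.1 hsq g₀).symm
    calc (g₀ * z) * (g₀ * z) = g₀ * (z * g₀) * z := by group
      _ = (g₀ * g₀) * z * z := by rw [hc]; group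
      _ = 1 := by rw [← hz, ← pow_two, ← pow_succ, hz3]
  have hq : QuotientGroup.mk' (Subgroup.center (Matrix.SpecialLinearGroup (Fin 3) F)) (g₀ * z) =
      QuotientGroup.mk' (Subgroup.center (Matrix.SpecialLinearGroup (Fin 3) F)) g₀ := by
    rw [map_mul, (QuotientGroup.eq_one_iff z).2 hsq |> (fun h => show QuotientGroup.mk' _ z = 1 from h),
      mul_one]
  have hne : g₀ * z ≠ 1 := by
    intro h
    rw [h, map_one] at hq
    rw [← hq, orderOf_one] at ht
    omega
  obtain ⟨c, hc⟩ := exists_conj_involution h2 _ hgg hne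
  set k := QuotientGroup.mk' (Subgroup.center (Matrix.SpecialLinearGroup (Fin 3) F)) c with hk
  have hkt : k⁻¹ * QuotientGroup.mk' (Subgroup.center (Matrix.SpecialLinearGroup (Fin 3) F)) g₀ * k = psi (-1 : (GL (Fin 2) F)) := by
    rw [← hq, hk, ← map_inv, ← map_mul, ← map_mul, hc]
    rfl
  have hC : Subgroup.centralizer ({QuotientGroup.mk' (Subgroup.center (Matrix.SpecialLinearGroup (Fin 3) F)) g₀} : Set (Matrix.ProjectiveSpecialLinearGroup (Fin 3) F)) =
      (psi : (GL (Fin 2) F) →* Matrix.ProjectiveSpecialLinearGroup (Fin 3) F).range.map (MulAut.conj k).toMonoidHom := by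
    ext x
    rw [Subgroup.mem_map_equiv, mem_range_psi h2, Subgroup.mem_centralizer_singleton_iff, ← hkt]
    simp only [MulAut.conj_symm_apply, MulAut.conj_apply]
    constructor
    · intro h
      calc k⁻¹ * x * k * (k⁻¹ * QuotientGroup.mk' _ g₀ * k)
          = k⁻¹ * (x * QuotientGroup.mk' _ g₀) * k := by group
        _ = k⁻¹ * (QuotientGroup.mk' _ g₀ * x) * k := by rw [h]
        _ = k⁻¹ * QuotientGroup.mk' _ g₀ * k * (k⁻¹ * x * k) := by group
    · intro h
      calc x * QuotientGroup.mk' _ g₀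
          = k * (k⁻¹ * x * k * (k⁻¹ * QuotientGroup.mk' _ g₀ * k)) * k⁻¹ := by group
        _ = k * (k⁻¹ * QuotientGroup.mk' _ g₀ * k * (k⁻¹ * x * k)) * k⁻¹ := by rw [h]
        _ = QuotientGroup.mk' _ g₀ * x := by group
  refine ⟨(psi : (GL (Fin 2) F) →* Matrix.ProjectiveSpecialLinearGroup (Fin 3) F).ker, inferInstance, ?_, card_ker_psi, ?_⟩
  · intro g hg
    obtain ⟨r, -, he⟩ := (mem_ker_psi g).1 hg
    exact Subgroup.mem_center_iff.2 fun h => (commute_of_scalar he h).symm
  · exact ⟨((MulEquiv.subgroupCongr hC).trans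
      ((psi : (GL (Fin 2) F) →* Matrix.ProjectiveSpecialLinearGroup (Fin 3) F).range.equivMapOfInjective _ (MulAut.conj k).injective).symm).trans
      (QuotientGroup.quotientKerEquivRange (psi : (GL (Fin 2) F) →* Matrix.ProjectiveSpecialLinearGroup (Fin 3) F)).symm⟩

end Cfsg.Agent.S1219
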