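import Cfsg.Statements.S1231
import Cfsg.Agent.H39.Basic

namespace Cfsg.Agent.S1231

open Cfsg.Agent.H39

variable {G : Type*} [Group G]

theorem pRankLE_mono {p n : ℕ} {A B : Subgroup G} (h : A ≤ B) (hB : Cfsg.PRankLE p n B) :
    Cfsg.PRankLE p n A := by
  intro E hE he
  have inj : Function.Injective (Subgroup.inclusion h) := Subgroup.inclusion_injective h
  have hc : IsMulCommutative (E.map (Subgroup.inclusion h)) := by
    have := hE
    infer_instance
  have := hB _ hc (by
    rintro _ ⟨x, hx, rfl⟩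
    rw [← map_pow, he x hx, map_one])
  rwa [← Nat.card_congr (E.equivMapOfInjective _ inj).toEquiv] at this

theorem pRankLE_of_equiv {p n : ℕ} {A B : Type*} [Group A] [Group B] (e : A ≃* B)
    (hB : Cfsg.PRankLE p n B) : Cfsg.PRankLE p n A := by
  intro E hE he
  have hc : IsMulCommutative (E.map e.toMonoidHom) := by
    have := hE
    infer_instance
  have := hB _ hc (by
    rintro _ ⟨x, hx, rfl⟩
    rw [← map_pow, he x hx, map_one])
  rwa [← Nat.card_congr (E.equivMapOfInjective _ e.injective).toEquiv] at this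

theorem exists_witness {p n : ℕ} {A : Subgroup G} (h : ¬ Cfsg.PRankLE p n A) :
    ∃ E : Subgroup G, E ≤ A ∧ (∀ x ∈ E, x ^ p = 1) ∧ ¬ Cfsg.PRankLE p n E := by
  by_contra hcon
  refine h fun E hE he => ?_
  by_contra hbig
  apply hcon
  refine ⟨E.map A.subtype, Subgroup.map_subtype_le E, ?_, fun hr => hbig ?_⟩
  · rintro _ ⟨x, hx, rfl⟩
    rw [← map_pow, he x hx, map_one]
  have e := E.equivMapOfInjective _ A.subtype_injective
  have h2 := pRankLE_of_equiv e hr
  refine le_of_eq_of_le ?_ (h2 ⊤ ?_ ?_)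
  · rw [Subgroup.card_top]
  · have := hE
    exact ⟨⟨fun a b => Subtype.ext (hE.is_comm.comm a.1 b.1)⟩⟩
  · intro x _
    exact Subtype.ext (he x.1 x.2)

/-- Let H be a subgroup of the finite group G, p a prime, k ≥ 1, and P a Sylow p-subgroup of H whose p-rank is at least k. Then N_G(X) ≤ H for every subgroup X of P of p-rank at least k if and only if H ∩ gHg⁻¹ has p-rank less than k for every g ∉ H. -/
theorem result {G : Type*} [Group G] [Finite G] {p : ℕ} [Fact p.Prime] (k : ℕ) (hk : 1 ≤ k) (H : Subgroup G) (P : Sylow p ↥H) (hP : ¬ Cfsg.PRankLE p (k - 1) ↥(P : Subgroup ↥H)) : (∀ X : Subgroup G, X ≤ (P : Subgroup ↥H).map H.subtype → ¬ Cfsg.PRankLE p (k - 1) ↥X → Subgroup.normalizer (X : Set G) ≤ H) ↔ (∀ g : G, g ∉ H → Cfsg.PRankLE p (k - 1) ↥(H ⊓ H.map (MulAut.conj g).toMonoidHom)) := by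
  constructor
  · intro hN g hg
    by_contra hI
    set K : Subgroup G := H.map (MulAut.conj g).toMonoidHom with hK
    set I : Subgroup G := H ⊓ K with hIdef
    have hIH : I ≤ H := inf_le_left
    -- normalizers of large p-subgroups of H lie in H
    have key : ∀ X : Subgroup G, X ≤ H → IsPGroup p X → ¬ Cfsg.PRankLE p (k - 1) X →
        Subgroup.normalizer (X : Set G) ≤ H := by
      intro X hXH hXp hXr y hy
      obtain ⟨R, hR⟩ := (hXp.comap_subtype (K := H)).exists_le_sylow
      obtain ⟨a, ha⟩ := MulAction.exists_smul_eq H R P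
      set X' : Subgroup G := X.map (MulAut.conj (a : G)).toMonoidHom with hX'
      have hX'P : X' ≤ (P : Subgroup H).map H.subtype := by
        rintro _ ⟨x, hx, rfl⟩
        refine ⟨a * ⟨x, hXH hx⟩ * a⁻¹, ?_, by simp⟩
        have hxR : (⟨x, hXH hx⟩ : H) ∈ (R : Subgroup H) := hR (by simpa [Subgroup.mem_subgroupOf] using hx)
        rw [← ha, Sylow.coe_subgroup_smul]
        exact Subgroup.smul_mem_pointwise_smul _ (MulAut.conj a) _ hxR
      have hX'r : ¬ Cfsg.PRankLE p (k - 1) X' := fun h =>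
        hXr (pRankLE_of_equiv (X.equivMapOfInjective _ (MulAut.conj (a : G)).injective) h)
      have hyX' : (a : G) * y * (a : G)⁻¹ ∈ Subgroup.normalizer (X' : Set G) := by
        rw [mem_normalizer_iff_map_conj] at hy ⊢
        rw [hX', map_conj_map_conj]
        conv_rhs => rw [← hy]
        rw [map_conj_map_conj]
        simp [mul_assoc]
      have := hN X' hX'P hX'r hyX'
      rwa [H.mul_mem_cancel_right (H.inv_mem a.2), H.mul_mem_cancel_left a.2] at this
    obtain ⟨E, hEI, hEp, hEr⟩ := exists_witness hI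
    have hEpg : IsPGroup p E := fun x => ⟨1, by
      rw [pow_one]; exact Subtype.ext (hEp x.1 x.2)⟩
    obtain ⟨Q₀, hQ₀⟩ := (hEpg.comap_subtype (K := I)).exists_le_sylow
    set Q : Subgroup G := (Q₀ : Subgroup I).map I.subtype with hQdef
    have hQp : IsPGroup p Q := Q₀.2.map _
    have hQI : Q ≤ I := Subgroup.map_subtype_le _
    have hEQ : E ≤ Q := fun x hx => ⟨⟨x, hEI hx⟩, hQ₀ (by simpa [Subgroup.mem_subgroupOf] using hx), rfl⟩
    have hQr : ¬ Cfsg.PRankLE p (k - 1) Q := fun h => hEr (pRankLE_mono hEQ h)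
    have hNQ := key Q (hQI.trans hIH) hQp hQr
    -- Q is a p-subgroup of gHg⁻¹; pull it back to H
    set Q' : Subgroup G := Q.map (MulAut.conj g⁻¹).toMonoidHom with hQ'
    have hQ'H : Q' ≤ H := by
      intro x hx
      rw [hQ', mem_map_conj] at hx
      have h2 := mem_map_conj.mp (show (g⁻¹)⁻¹ * x * g⁻¹ ∈ H.map (MulAut.conj g).toMonoidHom from (hQI hx).2)
      simpa [mul_assoc] using h2
    obtain ⟨R, hR⟩ := ((hQp.map (MulAut.conj g⁻¹).toMonoidHom).comap_subtype (K := H)).exists_le_sylow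
    set R' : Subgroup G := ((R : Subgroup H).map H.subtype).map (MulAut.conj g).toMonoidHom with hR'
    have hQR : Q ≤ R' := by
      intro x hx
      rw [hR', mem_map_conj]
      have hx' : g⁻¹ * x * g ∈ Q' := by
        rw [hQ', mem_map_conj]; simpa [mul_assoc] using hx
      exact ⟨⟨_, hQ'H hx'⟩, hR (show (⟨_, hQ'H hx'⟩ : H).1 ∈ Q' from hx'), rfl⟩
    have hR'p : IsPGroup p R' := (R.2.map _).map _
    have hR'K : R' ≤ K := Subgroup.map_mono (Subgroup.map_subtype_le _)
    rcases eq_or_lt_of_le hQR with heq | hlt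
    · -- Q is the whole Sylow: it is then Sylow in H as well
      have hcard : Nat.card Q = Nat.card (R : Subgroup H) := by
        rw [heq, hR', card_map_conj, Subgroup.card_map_of_injective H.subtype_injective]
      obtain ⟨R₂, hR₂⟩ := (hQp.comap_subtype (K := H)).exists_le_sylow
      have hR₂eq : Q = (R₂ : Subgroup H).map H.subtype := by
        refine Subgroup.eq_of_le_of_card_ge
          (fun x hx => ⟨⟨x, (hQI.trans hIH) hx⟩, hR₂ (by simpa [Subgroup.mem_subgroupOf] using hx), rfl⟩) ?_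
        rw [Subgroup.card_map_of_injective H.subtype_injective, hcard]
        exact (R₂.card_eq_multiplicity.trans R.card_eq_multiplicity.symm).le
      obtain ⟨b, hb⟩ := MulAction.exists_smul_eq H R₂ R
      have hRQ : (R : Subgroup H).map H.subtype = Q.map (MulAut.conj (b : G)).toMonoidHom := by
        rw [← hb, hR₂eq, Sylow.coe_subgroup_smul]
        ext x
        constructor
        · rintro ⟨y, hy, rfl⟩
          rw [mem_map_conj]
          refine ⟨b⁻¹ * y * b, ?_, by simp⟩
          have := Subgroup.mem_pointwise_smul_iff_inv_smul_mem.mp hy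
          simpa [MulAut.conj_symm_apply, MulAut.inv_def, ← SetLike.mem_coe] using this
        · rintro ⟨_, ⟨y, hy, rfl⟩, rfl⟩
          exact ⟨b * y * b⁻¹, Subgroup.smul_mem_pointwise_smul _ (MulAut.conj b) _ hy, by simp⟩
      have hmem : g * (b : G) ∈ Subgroup.normalizer (Q : Set G) := by
        rw [mem_normalizer_iff_map_conj, ← map_conj_map_conj, ← hRQ]
        exact heq.symm
      have := hNQ hmem
      exact hg ((H.mul_mem_cancel_right b.2).mp this)
    · obtain ⟨x, hxR, hxQ, hxN⟩ := exists_mem_normalizer_not_mem hR'p hlt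
      have hxI : x ∈ I := ⟨hNQ hxN, hR'K hxR⟩
      set W : Subgroup G := R' ⊓ I with hW
      have hWp : IsPGroup p W := hR'p.to_le inf_le_left
      have hmax := Q₀.is_maximal' (hWp.comap_subtype (K := I)) (fun y hy =>
        ⟨hQR ⟨y, hy, rfl⟩, y.2⟩)
      apply hxQ
      have : (⟨x, hxI⟩ : I) ∈ (Q₀ : Subgroup I) := by
        rw [← hmax]; exact ⟨hxR, hxI⟩
      exact ⟨⟨x, hxI⟩, this, rfl⟩
  · intro hI X hXP hXr g hg
    by_contra hgH
    refine hXr (pRankLE_mono ?_ (hI g hgH))
    intro x hx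
    refine ⟨Subgroup.map_subtype_le _ (hXP hx), mem_map_conj.mpr ?_⟩
    exact Subgroup.map_subtype_le _ (hXP ((Subgroup.mem_normalizer_iff''.mp hg x).mp hx))

end Cfsg.Agent.S1231
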