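import Cfsg.Statements.S1236
import Cfsg.Agent.H39.DihedralKlein
-- import your own Cfsg.Agent.* helpers here

set_option autoImplicit false
open Cfsg

namespace Cfsg.Agent.S1236

open Cfsg.Agent Cfsg.Agent.H39

/-- Let R be a finite group, t a central involution of R such that R ⧸ ⟨t⟩ is dihedral (of order ≥ 4) or quasi-dihedral, and A ≤ R an elementary abelian subgroup of order 8 containing t. Then C_R(A) = A. -/
theorem result {R : Type*} [Group R] [Finite R] (t : R) (ht : orderOf t = 2) (htz : t ∈ Subgroup.center R) [(Subgroup.zpowers t).Normal] (hq : (∃ m : ℕ, 2 ≤ m ∧ Nonempty (R ⧸ Subgroup.zpowers t ≃* DihedralGroup m)) ∨ Cfsg.IsQuasiDihedral (R ⧸ Subgroup.zpowers t)) (A : Subgroup R) (hA : Cfsg.IsElementaryAbelian 2 A) (hA8 : Nat.card A = 8) (htA : t ∈ A) : Subgroup.centralizer (A : Set R) = A := by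
  set π := QuotientGroup.mk' (Subgroup.zpowers t)
  have hker : ∀ g, π g = 1 ↔ g ∈ Subgroup.zpowers t := fun g => QuotientGroup.eq_one_iff g
  obtain ⟨hAc, hA2⟩ : IsMulCommutative A ∧ ∀ a ∈ A, a ^ 2 = 1 := hA
  have hAb : IsKleinFour (A.map π : Subgroup (R ⧸ Subgroup.zpowers t)) := by
    refine klein_of_card_exponent ?_ ?_
    · have e : (π.comp A.subtype).ker.index = Nat.card (π.comp A.subtype).range := Subgroup.index_ker _
      have e2 := (π.comp A.subtype).ker.card_mul_index
      have hk : Nat.card (π.comp A.subtype).ker = 2 := by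
        rw [← MonoidHom.comap_ker, QuotientGroup.ker_mk', ← Subgroup.subgroupOf, Nat.card_congr
          (Subgroup.subgroupOfEquivOfLe (Subgroup.zpowers_le.mpr htA)).toEquiv, Nat.card_zpowers, ht]
      rw [hk, e, hA8, MonoidHom.range_comp, Subgroup.range_subtype] at e2
      omega
    · rintro _ ⟨a, ha, rfl⟩
      rw [← map_pow, hA2 a ha, map_one]
  refine le_antisymm (fun g hg => ?_) (fun a ha => Subgroup.mem_centralizer_iff.mpr fun b hb => ?_)
  · have h1 : π g ∈ Subgroup.centralizer ((A.map π : Subgroup _) : Set (R ⧸ Subgroup.zpowers t)) := by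
      rw [Subgroup.mem_centralizer_iff]
      rintro _ ⟨a, ha, rfl⟩
      rw [← map_mul, ← map_mul, Subgroup.mem_centralizer_iff.mp hg a ha]
    have h3 : π g ∈ A.map π := by
      rcases hq with ⟨m, -, ⟨e⟩⟩ | hq
      · have hV : IsKleinFour ((A.map π).map e.toMonoidHom : Subgroup (DihedralGroup m)) := by
          refine klein_of_card_exponent ?_ ?_
          · rw [Subgroup.card_map_of_injective e.injective]; exact hAb.card_four
          · rintro _ ⟨a, ha, rfl⟩
            rw [← map_pow, pow_two, klein_mul_self hAb ha, map_one]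
        have h4 := dihedral_klein_centralizer hV (g := e (π g)) (by
          rw [Subgroup.mem_centralizer_iff]
          rintro _ ⟨a, ha, rfl⟩
          exact (map_mul e a (π g)).symm.trans
            ((congrArg e (Subgroup.mem_centralizer_iff.mp h1 a ha)).trans (map_mul e (π g) a)))
        obtain ⟨a, ha, hae⟩ := h4
        exact e.injective hae ▸ ha
      · obtain ⟨k, x, y, h⟩ := exists_sdGen hq
        rwa [h.klein_centralizer hAb] at h1
    obtain ⟨a, ha, hag⟩ := h3
    have h5 : a⁻¹ * g ∈ Subgroup.zpowers t := by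
      rw [← hker, map_mul, map_inv, hag, inv_mul_cancel]
    exact (A.mul_mem_cancel_left (inv_mem ha)).mp (Subgroup.zpowers_le.mpr htA h5)
  · exact congrArg Subtype.val (mul_comm' (⟨b, hb⟩ : A) ⟨a, ha⟩)

end Cfsg.Agent.S1236
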