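import Cfsg.Statements.S1239
import Cfsg.Agent.H61.RankTwoCenter

set_option autoImplicit false
open Cfsg

namespace Cfsg.Agent.S1239

/-- Let X be a finite group whose Sylow 2-subgroup S is quasi-dihedral or wreathed, and suppose some involution of S is isolated in X. Then the product of the largest normal odd-order subgroup O(X) with the centre of S is normal in X. -/
theorem result {X : Type*} [Group X] [Finite X] (S : Sylow 2 X) (hS : Cfsg.IsQuasiDihedral (S : Subgroup X) ∨ Cfsg.IsWreathed (S : Subgroup X)) (z : X) (hzS : z ∈ S) (hz : Cfsg.IsIsolatedInvolution z) : (Cfsg.oddCore X ⊔ (Subgroup.center (S : Subgroup X)).map (S : Subgroup X).subtype).Normal := by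
  classical
  have hr : Cfsg.Agent.H61.TwoRankLeTwo (S : Subgroup X) := hS.elim
    Cfsg.Agent.H61.twoRankLeTwo_of_isQuasiDihedral Cfsg.Agent.H61.twoRankLeTwo_of_isWreathed
  have hle := Cfsg.Agent.H61.center_le_fusion_center S hr z hzS hz.1
    (Cfsg.Agent.H61.zStar_cor_soluble Cfsg.Agent.H61.zStarTheorem z hz)
  rw [Cfsg.Agent.H61.zStar_cor_fusion_center Cfsg.Agent.H61.zStarTheorem S] at hle
  set O := Cfsg.oddCore X
  set Z := (Subgroup.center (S : Subgroup X)).map (S : Subgroup X).subtype
  set K : Subgroup X := (Subgroup.center (X ⧸ O)).comap (QuotientGroup.mk' O)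
  have hOK : O ⊔ Z ≤ K := by
    refine sup_le (fun x hx => ?_) (hle.trans inf_le_right)
    show QuotientGroup.mk' O x ∈ Subgroup.center (X ⧸ O)
    rw [QuotientGroup.mk'_apply, (QuotientGroup.eq_one_iff x).2 hx]
    exact Subgroup.one_mem _
  refine ⟨fun n hn g => ?_⟩
  have h := Subgroup.mem_center_iff.1 (hOK hn) (QuotientGroup.mk' O g)
  have h2 : g * n * g⁻¹ * n⁻¹ ∈ O := by
    rw [← QuotientGroup.eq_one_iff]
    simp only [QuotientGroup.mk_mul, QuotientGroup.mk_inv]
    rw [QuotientGroup.mk'_apply, QuotientGroup.mk'_apply] at h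
    rw [h]
    group
  have h3 := (O ⊔ Z).mul_mem (Subgroup.mem_sup_left (T := Z) h2) hn
  simpa [mul_assoc] using h3

end Cfsg.Agent.S1239
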