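import Cfsg.Statements.S1241
import Cfsg.Agent.H39.Transfer

namespace Cfsg.Agent.S1241

open scoped IsMulCommutative

/-- Let G be a finite group, p a prime, H a subgroup of index prime to p, K a subgroup of H normal in H with H/K commutative, and g ∈ H ∖ K an element of p-power order such that for all integers m and all a ∈ G with a g^m a⁻¹ ∈ H one has a g^m a⁻¹ ∈ g^m K. Then g ∉ G'. -/
theorem result {G : Type*} [Group G] [Finite G] {p : ℕ} [Fact p.Prime] (H K : Subgroup G) (hHK : K ≤ H) (hKn : (K.subgroupOf H).Normal) (hab : ∀ x ∈ H, ∀ y ∈ H, x * y * x⁻¹ * y⁻¹ ∈ K) (hidx : Nat.Coprime p H.index) (g : G) (hgH : g ∈ H) (hgK : g ∉ K) (hgp : ∃ k : ℕ, orderOf g = p ^ k) (hctrl : ∀ (m : ℤ) (a : G), a * g ^ m * a⁻¹ ∈ H → (a * g ^ m * a⁻¹) * (g ^ m)⁻¹ ∈ K) : g ∉ commutator G := by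
  intro hg
  have := hKn
  have : IsMulCommutative (H ⧸ K.subgroupOf H) := by
    refine ⟨⟨fun a b => ?_⟩⟩
    induction a using QuotientGroup.induction_on with
    | _ a =>
      induction b using QuotientGroup.induction_on with
      | _ b =>
        apply QuotientGroup.eq.mpr
        rw [Subgroup.mem_subgroupOf]
        have := hab (b : G)⁻¹ (H.inv_mem b.2) (a : G)⁻¹ (H.inv_mem a.2)
        simpa [mul_assoc] using this
  set φ : H →* H ⧸ K.subgroupOf H := QuotientGroup.mk' _ with hφ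
  have hne : φ ⟨g, hgH⟩ ≠ 1 := fun h => hgK (by
    simpa [hφ, Subgroup.mem_subgroupOf] using h)
  have hval : MonoidHom.transfer φ g = φ ⟨g, hgH⟩ ^ H.index := by
    refine Cfsg.Agent.H39.transfer_eq_pow_of_map_eq φ ⟨g, hgH⟩ fun k a h => ?_
    rw [← map_pow]
    refine QuotientGroup.eq.mpr (Subgroup.mem_subgroupOf.mpr ?_)
    have h' : a⁻¹ * g ^ (k : ℤ) * (a⁻¹)⁻¹ ∈ H := by simpa using h
    have hmem := hctrl k a⁻¹ h'
    have hx : g ^ k ∈ H := H.pow_mem hgH k
    have := Subgroup.mem_subgroupOf.mp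
      (hKn.conj_mem ⟨_, hHK hmem⟩ (Subgroup.mem_subgroupOf.mpr hmem) ⟨g ^ k, hx⟩⁻¹)
    simpa [mul_assoc] using K.inv_mem this
  have h1 : φ ⟨g, hgH⟩ ^ H.index = 1 := by
    rw [← hval]
    exact Abelianization.commutator_subset_ker _ hg
  obtain ⟨k, hk⟩ := hgp
  have hord : orderOf (φ ⟨g, hgH⟩) ∣ p ^ k := by
    rw [← hk]
    exact (orderOf_map_dvd φ _).trans (by rw [Subgroup.orderOf_mk])
  exact hne (orderOf_eq_one_iff.mp
    (Nat.eq_one_of_dvd_coprimes (hidx.pow_left k) hord (orderOf_dvd_of_pow_eq_one h1)))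

end Cfsg.Agent.S1241
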