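import Cfsg.Statements.S1242
import Cfsg.Agent.Fusion.Tate

set_option autoImplicit false
open Cfsg

namespace Cfsg.Agent.S1242

/-- Let G be a finite group, p a prime and H a subgroup of index prime to p such that any two elements of H of p-power order that are conjugate in G are conjugate in H. Then (O^p(G)·G') ∩ H = O^p(H)·H', where O^p denotes the subgroup generated by the elements of order prime to p. -/
theorem result {G : Type*} [Group G] [Finite G] {p : ℕ} [Fact p.Prime] (H : Subgroup G) (hidx : Nat.Coprime p H.index) (hfus : ∀ g ∈ H, (∃ k : ℕ, orderOf g = p ^ k) → ∀ a : G, a * g * a⁻¹ ∈ H → ∃ h ∈ H, h * g * h⁻¹ = a * g * a⁻¹) : (Cfsg.pResidual p G ⊔ commutator G) ⊓ H = (Cfsg.pResidual p ↥H ⊔ commutator ↥H).map H.subtype := by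
  have hp : p.Prime := Fact.out
  have hH : ¬ p ∣ H.index := hp.coprime_iff_not_dvd.mp hidx
  let Q : Sylow p H := default
  obtain ⟨P, hP⟩ := (Q.isPGroup'.map H.subtype).exists_le_sylow
  have hPQ : (Q : Subgroup H).map H.subtype = P := by
    refine Subgroup.eq_of_le_of_card_ge hP ?_
    rw [Subgroup.card_map_of_injective H.subtype_injective, P.card_eq_multiplicity,
      Q.card_eq_multiplicity, ← H.card_mul_index, Nat.factorization_mul Nat.card_pos.ne'
        Subgroup.index_ne_zero_of_finite]
    simp [Nat.factorization_eq_zero_of_not_dvd hH]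
  have hPH : (P : Subgroup G) ≤ H := hPQ ▸ Subgroup.map_subtype_le _
  have hc : Agent.Fusion.ControlsElementFusion H (P : Subgroup G) := fun x hx g hg => by
    obtain ⟨k, hk⟩ := IsPGroup.iff_orderOf.mp P.isPGroup' ⟨x, hx⟩
    exact hfus x (hPH hx) ⟨k, by simpa [Subgroup.orderOf_mk] using hk⟩ g (hPH hg)
  refine le_antisymm ?_ (le_inf ?_ (Subgroup.map_subtype_le _))
  · intro x hx
    set K := Cfsg.pResidual p H ⊔ commutator H with hK
    have hK2 : K ≤ (Cfsg.pResidual p G ⊔ commutator G).subgroupOf H := by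
      refine sup_le ((Agent.Fusion.pResidual_le_subgroupOf H).trans (Subgroup.comap_mono le_sup_left)) ?_
      refine Subgroup.map_le_iff_le_comap.mp (le_trans ?_ le_sup_right)
      rw [Subgroup.map_subtype_commutator]
      exact Subgroup.commutator_mono le_top le_top
    have h3 : (⟨x, hx.2⟩ : H) ∈ (Cfsg.pResidual p G ⊔ commutator G).subgroupOf H := hx.1
    rw [Agent.Fusion.eq_sup_inf_sylow (P.subtype hPH) le_sup_left hK2] at h3
    refine ⟨⟨x, hx.2⟩, (sup_le le_rfl (fun y hy => ?_) : _ ≤ K) h3, rfl⟩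
    have h4 : (y : G) ∈ ⁅H, H⁆ := ((Agent.Fusion.commutator_inf_eq_of_controls P hPH hc).le
      ((Agent.Fusion.pResidual_sup_commutator_inf' P).le ⟨hy.2, hy.1⟩)).1
    rw [← Subgroup.map_subtype_commutator] at h4
    obtain ⟨z, hz, hzy⟩ := h4
    obtain rfl : z = y := Subtype.ext hzy
    exact Subgroup.mem_sup_right hz
  · rw [Subgroup.map_sup]
    refine sup_le_sup (Agent.Fusion.pResidual_subgroup_le H) ?_
    rw [Subgroup.map_subtype_commutator]
    exact Subgroup.commutator_mono le_top le_top

end Cfsg.Agent.S1242
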