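import Cfsg.Statements.S1243
import Cfsg.Agent.H39.Basic

namespace Cfsg.Agent.S1243

open Cfsg.Agent.H39

/-- Let T be a Sylow p-subgroup of the finite group G and W ≤ T a subgroup weakly closed in T. If d and g d g⁻¹ both centralize W, then g d g⁻¹ = h d h⁻¹ for some h ∈ N_G(W). -/
theorem result {G : Type*} [Group G] [Finite G] {p : ℕ} [Fact p.Prime] (T : Sylow p G) (W : Subgroup G) (hW : Cfsg.IsWeaklyClosed W (T : Subgroup G)) (d g : G) (hd : d ∈ Subgroup.centralizer (W : Set G)) (hgd : g * d * g⁻¹ ∈ Subgroup.centralizer (W : Set G)) : ∃ h ∈ Subgroup.normalizer (W : Set G), h * d * h⁻¹ = g * d * g⁻¹ := by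
  set C : Subgroup G := Subgroup.centralizer {d} with hC
  set W' : Subgroup G := W.map (MulAut.conj g⁻¹).toMonoidHom with hW'
  have hWp : IsPGroup p W := T.2.to_le hW.1
  have hWC : W ≤ C := fun w hw =>
    Subgroup.mem_centralizer_singleton_iff.mpr (Subgroup.mem_centralizer_iff.mp hd w hw)
  have hW'C : W' ≤ C := by
    intro x hx
    rw [hW', mem_map_conj] at hx
    rw [hC, Subgroup.mem_centralizer_singleton_iff]
    have := congrArg (fun z => g⁻¹ * z * g) (Subgroup.mem_centralizer_iff.mp hgd _ hx)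
    simpa [mul_assoc] using this
  obtain ⟨P, hP⟩ := (hWp.comap_subtype (K := C)).exists_le_sylow
  have hW'p : IsPGroup p (W'.subgroupOf C) := (hWp.map _).comap_subtype (K := C)
  obtain ⟨c, hc⟩ := exists_conj_le_sylow hW'p P
  obtain ⟨x, hx⟩ := exists_conj_le_sylow (P.2.map C.subtype) T
  have hnorm : ∀ y : G, (∀ w ∈ W, y * w * y⁻¹ ∈ (P : Subgroup C).map C.subtype) →
      x * y ∈ Subgroup.normalizer (W : Set G) := by
    intro y hy
    rw [mem_normalizer_iff_map_conj]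
    refine hW.2 _ ?_
    rintro _ ⟨w, hw, rfl⟩
    simpa [mul_assoc] using hx _ (hy w hw)
  have h1 := hnorm 1 (fun w hw => by
    simpa using ⟨hWC hw, hP (show (⟨w, hWC hw⟩ : C).1 ∈ W from hw)⟩)
  have h2 := hnorm ((c : G) * g⁻¹) (fun w hw => by
    have hmem : g⁻¹ * w * (g⁻¹)⁻¹ ∈ W' := conj_mem_map_conj hw
    have := hc ⟨_, hW'C hmem⟩ (show g⁻¹ * w * (g⁻¹)⁻¹ ∈ W' from hmem)
    exact ⟨_, this, by simp [mul_assoc]⟩)
  rw [mul_one] at h1
  have h3 : g * (c : G)⁻¹ ∈ Subgroup.normalizer (W : Set G) := by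
    have := inv_mem (mul_mem (inv_mem h1) h2)
    simpa [mul_assoc] using this
  refine ⟨_, h3, ?_⟩
  have hcd : (c : G)⁻¹ * d = d * (c : G)⁻¹ :=
    Subgroup.mem_centralizer_singleton_iff.mp (inv_mem c.2)
  calc g * (c : G)⁻¹ * d * (g * (c : G)⁻¹)⁻¹
      = g * ((c : G)⁻¹ * d) * (c : G) * g⁻¹ := by simp [mul_assoc]
    _ = g * d * g⁻¹ := by rw [hcd]; simp [mul_assoc]

end Cfsg.Agent.S1243
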