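import Cfsg.Statements.S1244
import Cfsg.Agent.H39.Transfer
import Cfsg.Agent.H39.Basic

namespace Cfsg.Agent.S1244

open scoped IsMulCommutative

theorem card_eq_two_pow {A : Type*} [Group A] [Finite A] (hA : IsPGroup 2 A) {r : ℕ}
    (h1 : Nat.card A ≤ 2 ^ r) (h2 : 2 ^ r < 2 * Nat.card A) : Nat.card A = 2 ^ r := by
  obtain ⟨j, hj⟩ := hA.exists_card_eq
  rw [hj] at h1 h2 ⊢
  rw [← pow_succ'] at h2
  have a := (Nat.pow_le_pow_iff_right (le_refl 2)).mp h1
  have b := (Nat.pow_lt_pow_iff_right (le_refl 2)).mp h2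
  rw [show j = r by omega]

/-- Let G be a finite group with no subgroup of index 2 whose Sylow 2-subgroup S is commutative, and let R ≤ S be a subgroup whose 2-rank is exactly one less than the 2-rank r of S. Then every involution of S is conjugate, by an element of N_G(S), to an element of R. -/
theorem result {G : Type*} [Group G] [Finite G] (hG : ∀ H : Subgroup G, H.index ≠ 2) (S : Sylow 2 G) (hS : IsMulCommutative (S : Subgroup G)) (r : ℕ) (hr1 : 1 ≤ r) (hSr : Cfsg.PRankLE 2 r (S : Subgroup G) ∧ ¬ Cfsg.PRankLE 2 (r - 1) (S : Subgroup G)) (R : Subgroup G) (hRS : R ≤ S) (hRr : Cfsg.PRankLE 2 (r - 1) R ∧ (r = 1 ∨ ¬ Cfsg.PRankLE 2 (r - 2) R)) (t : G) (ht : orderOf t = 2) (htS : t ∈ S) : ∃ n ∈ Subgroup.normalizer ((S : Subgroup G) : Set G), n * t * n⁻¹ ∈ R := by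
  classical
  have := hS
  by_contra hcon
  -- the involutions of S together with 1
  set V : Subgroup (S : Subgroup G) := (powMonoidHom 2).ker with hVdef
  set W : Subgroup (S : Subgroup G) := V ⊓ R.subgroupOf (S : Subgroup G) with hWdef
  have hVmem : ∀ s : (S : Subgroup G), s ∈ V ↔ s ^ 2 = 1 := fun s => Iff.rfl
  have hVc : Nat.card V = 2 ^ r := by
    refine card_eq_two_pow (S.2.to_subgroup V) (hSr.1 V inferInstance fun a ha => ha) ?_
    obtain ⟨A, -, hA2, hA3⟩ : ∃ A : Subgroup (S : Subgroup G), IsMulCommutative A ∧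
        (∀ a ∈ A, a ^ 2 = 1) ∧ 2 ^ (r - 1) < Nat.card A := by
      simpa [Cfsg.PRankLE, and_assoc] using hSr.2
    have : Nat.card A ≤ Nat.card V := Subgroup.card_le_of_le fun a ha => hA2 a ha
    have e : 2 ^ r = 2 * 2 ^ (r - 1) := by rw [← pow_succ']; congr 1; omega
    omega
  have hWc : Nat.card W = 2 ^ (r - 1) := by
    let f : R →* (S : Subgroup G) := Subgroup.inclusion hRS
    have hf : Function.Injective f := Subgroup.inclusion_injective hRS
    set W₀ : Subgroup R := W.comap f with hW₀
    have hW₀c : Nat.card W₀ = Nat.card W := by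
      have : W₀.map f = W := by
        rw [hW₀, Subgroup.map_comap_eq_self]
        intro s hs
        exact ⟨⟨s, hs.2⟩, rfl⟩
      rw [← this, Subgroup.card_map_of_injective hf]
    refine card_eq_two_pow (S.2.to_subgroup W) ?_ ?_
    · rw [← hW₀c]
      refine hRr.1 W₀ ⟨⟨fun a b => Subtype.ext (hf ?_)⟩⟩ fun a ha => hf ?_
      · simp only [Subgroup.coe_mul, map_mul]; exact mul_comm _ _
      · simpa [hW₀, hWdef, hVmem] using ha.1
    · rcases hRr.2 with rfl | h
      · have := W.one_lt_card_iff_ne_bot
        have : 0 < Nat.card W := Nat.card_pos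
        norm_num; omega
      · obtain ⟨A, -, hA2, hA3⟩ : ∃ A : Subgroup R, IsMulCommutative A ∧
            (∀ a ∈ A, a ^ 2 = 1) ∧ 2 ^ (r - 2) < Nat.card A := by
          simpa [Cfsg.PRankLE, and_assoc] using h
        have : Nat.card A ≤ Nat.card W₀ := Subgroup.card_le_of_le fun a ha => by
          refine ⟨?_, a.2⟩
          show f a ^ 2 = 1
          rw [← map_pow, hA2 a ha, map_one]
        rcases Nat.lt_or_ge r 2 with h2 | h2
        · have : r - 1 = 0 := by omega
          rw [this]
          have : 0 < Nat.card W := Nat.card_pos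
          norm_num; omega
        · have e : 2 ^ (r - 1) = 2 * 2 ^ (r - 2) := by rw [← pow_succ']; congr 1; omega
          omega
  have hidx : (W.subgroupOf V).index = 2 := by
    have h := (W.subgroupOf V).index_mul_card
    rw [Nat.card_congr (Subgroup.subgroupOfEquivOfLe (inf_le_left : W ≤ V)).toEquiv, hWc, hVc] at h
    have e : 2 ^ r = 2 * 2 ^ (r - 1) := by rw [← pow_succ']; congr 1; omega
    exact Nat.eq_of_mul_eq_mul_right (pow_pos two_pos _) (h.trans e)
  -- the orbit of t under the normalizer
  set N : Subgroup G := Subgroup.normalizer ((S : Subgroup G) : Set G) with hN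
  have := Fintype.ofFinite N
  let c : N → (S : Subgroup G) := fun n =>
    ⟨(n : G) * t * (n : G)⁻¹, (Subgroup.mem_normalizer_iff.mp n.2 t).mp htS⟩
  set O : Finset (S : Subgroup G) := Finset.univ.image c with hO
  set x : (S : Subgroup G) := ∏ s ∈ O, s with hx
  have hO2 : ∀ s ∈ O, s ∈ V := by
    intro s hs
    obtain ⟨n, -, rfl⟩ := Finset.mem_image.mp hs
    have ht2 : t ^ 2 = 1 := by rw [← ht]; exact pow_orderOf_eq_one t
    refine Subtype.ext ?_
    show ((n : G) * t * (n : G)⁻¹) ^ 2 = 1
    rw [conj_pow, ht2]; group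
  have hOR : ∀ s ∈ O, (s : G) ∉ R := by
    intro s hs hsR
    obtain ⟨n, -, rfl⟩ := Finset.mem_image.mp hs
    exact hcon ⟨n, n.2, hsR⟩
  have hodd : Odd O.card := by
    -- the stabilizer of t in N contains S, so has odd index
    set St : Subgroup N := (Subgroup.centralizer {t}).subgroupOf N with hSt
    have hfib : ∀ a b : N, c a = c b ↔ a⁻¹ * b ∈ St := by
      intro a b
      rw [hSt, Subgroup.mem_subgroupOf, Subgroup.mem_centralizer_singleton_iff, Subtype.ext_iff]
      push_cast
      constructor
      · intro h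
        have := congrArg (fun z => (a : G)⁻¹ * z * (b : G)) h
        simpa [c, mul_assoc] using this.symm
      · intro h
        have := congrArg (fun z => (a : G) * z * (b : G)⁻¹) h
        simpa [c, mul_assoc] using this.symm
    have hcard : O.card = St.index := by
      have e : N ⧸ St ≃ ↥O := Equiv.ofBijective
        (Quotient.lift (fun n => (⟨c n, Finset.mem_image_of_mem c (Finset.mem_univ n)⟩ : ↥O))
          (fun a b h => Subtype.ext ((hfib a b).mpr (QuotientGroup.leftRel_apply.mp h))))
        ⟨by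
          intro p q h
          induction p using Quotient.inductionOn with
          | h a => induction q using Quotient.inductionOn with
            | h b => exact Quotient.sound (QuotientGroup.leftRel_apply.mpr
                ((hfib a b).mp (congrArg Subtype.val h))),
         fun s => by
          obtain ⟨n, -, hn⟩ := Finset.mem_image.mp s.2
          exact ⟨⟦n⟧, Subtype.ext hn⟩⟩
      rw [Subgroup.index, Nat.card_congr e, Nat.card_eq_fintype_card, Fintype.card_coe]
    rw [hcard, ← Nat.not_even_iff_odd, even_iff_two_dvd]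
    intro h2
    refine S.not_dvd_index (h2.trans ?_)
    have hSle : (S : Subgroup G).subgroupOf N ≤ St := fun n hn => by
      rw [hSt, Subgroup.mem_subgroupOf, Subgroup.mem_centralizer_singleton_iff]
      exact congrArg Subtype.val (mul_comm (⟨n, hn⟩ : (S : Subgroup G)) ⟨t, htS⟩)
    exact (Subgroup.index_dvd_of_le hSle).trans (Subgroup.relIndex_dvd_index_of_le
      (Subgroup.le_normalizer (H := (S : Subgroup G))))
  have hxne : x ≠ 1 := by
    -- parity in V / W
    have key : ∀ (T : Finset (S : Subgroup G)), (∀ s ∈ T, s ∈ V) → (∀ s ∈ T, (s : G) ∉ R) →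
        (∏ s ∈ T, s) ∈ V ∧ ((∏ s ∈ T, s) ∈ W ↔ Even T.card) := by
      intro T
      induction T using Finset.induction_on with
      | empty => intro _ _; simp [W.one_mem, V.one_mem]
      | insert a T ha ih =>
        intro h1 h2
        obtain ⟨i1, i2⟩ := ih (fun s hs => h1 s (Finset.mem_insert_of_mem hs))
          (fun s hs => h2 s (Finset.mem_insert_of_mem hs))
        rw [Finset.prod_insert ha, Finset.card_insert_of_notMem ha, Nat.even_add_one]
        have haV := h1 a (Finset.mem_insert_self _ _)
        refine ⟨V.mul_mem haV i1, ?_⟩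
        have haW : a ∉ W := fun h => h2 a (Finset.mem_insert_self _ _) h.2
        have h := Subgroup.mul_mem_iff_of_index_two hidx (a := ⟨a, haV⟩) (b := ⟨_, i1⟩)
        simp only [Subgroup.mem_subgroupOf, Subgroup.coe_mul] at h
        rw [h, ← i2]
        tauto
    intro h
    have := (key O hO2 hOR).2
    rw [← hx, h] at this
    exact (Nat.not_even_iff_odd.mpr hodd) (this.mp W.one_mem)
  have hinv : ∀ n ∈ N, n * (x : G) * n⁻¹ = x := by
    intro n hn
    let φ : (S : Subgroup G) →* (S : Subgroup G) :=
      { toFun := fun s => ⟨n * s * n⁻¹, (Subgroup.mem_normalizer_iff.mp hn s).mp s.2⟩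
        map_one' := Subtype.ext (by simp)
        map_mul' := fun a b => Subtype.ext (by simp [mul_assoc]) }
    have hφ : Function.Injective φ := fun a b h => Subtype.ext (by
      have := congrArg Subtype.val h
      simpa [φ] using this)
    have himg : O.image φ = O := by
      refine Finset.eq_of_subset_of_card_le ?_ (Finset.card_image_of_injective _ hφ).ge
      intro s hs
      obtain ⟨_, ha, rfl⟩ := Finset.mem_image.mp hs
      obtain ⟨m, -, rfl⟩ := Finset.mem_image.mp ha
      exact Finset.mem_image.mpr ⟨⟨n, hn⟩ * m, Finset.mem_univ _, Subtype.ext (by simp [φ, c, mul_assoc])⟩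
    have : φ x = x := by
      rw [hx, map_prod]
      conv_rhs => rw [← himg, Finset.prod_image hφ.injOn]
    simpa [φ] using congrArg Subtype.val this
  have hx2 : x ^ 2 = 1 := by
    rw [hx, ← Finset.prod_pow]
    exact Finset.prod_eq_one hO2
  -- transfer
  set τ : G →* (S : Subgroup G) := MonoidHom.transfer (MonoidHom.id (S : Subgroup G))
  have hτ : τ (x : G) = x ^ (S : Subgroup G).index := by
    refine H39.transfer_eq_pow_of_map_eq _ x fun k a h => Subtype.ext ?_
    obtain ⟨n, hn, heq⟩ := S.conj_eq_normalizer_conj_of_mem ((x : G) ^ k) a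
      ((S : Subgroup G).pow_mem x.2 k) h
    show a⁻¹ * (x : G) ^ k * a = _
    rw [heq]
    have h' := hinv n⁻¹ (inv_mem hn)
    rw [inv_inv] at h'
    calc n⁻¹ * (x : G) ^ k * n = (n⁻¹ * (x : G) * n⁻¹⁻¹) ^ k := by rw [conj_pow]; simp
      _ = _ := by rw [inv_inv, h']; simp
  have hτne : τ (x : G) ≠ 1 := by
    rw [hτ]
    intro h
    refine hxne (orderOf_eq_one_iff.mp (Nat.eq_one_of_dvd_coprimes ?_
      (orderOf_dvd_of_pow_eq_one hx2) (orderOf_dvd_of_pow_eq_one h)))
    exact (Nat.prime_two.coprime_iff_not_dvd).mpr S.not_dvd_index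
  have hrange : 1 < Nat.card τ.range := by
    rw [Subgroup.one_lt_card_iff_ne_bot]
    exact fun h => hτne (Subgroup.mem_bot.mp (h ▸ ⟨_, rfl⟩))
  obtain ⟨j, hj⟩ := (S.2.to_subgroup τ.range).exists_card_eq
  obtain ⟨M, hM⟩ := Sylow.exists_subgroup_card_pow_prime 2
    (show 2 ^ (j - 1) ∣ Nat.card τ.range from hj ▸ pow_dvd_pow 2 (Nat.sub_le _ _))
  refine hG ((M.map τ.range.subtype).comap τ) ?_
  rw [Subgroup.index_comap, Subgroup.relIndex, Subgroup.subgroupOf, Subgroup.comap_map_eq_self_of_injective τ.range.subtype_injective]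
  have h := M.index_mul_card
  rw [hM, hj] at h
  have hj0 : j ≠ 0 := fun h0 => by rw [hj, h0] at hrange; simp at hrange
  have e : 2 ^ j = 2 * 2 ^ (j - 1) := by rw [← pow_succ']; congr 1; omega
  exact Nat.eq_of_mul_eq_mul_right (pow_pos two_pos _) (h.trans e)

end Cfsg.Agent.S1244
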