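import Cfsg.Statements.S1249
import Cfsg.Agent.H39.Basic

namespace Cfsg.Agent.S1249

/-- Let P and Q be Sylow p-subgroups of the finite group G both containing the subgroup A. If A is strongly closed in P, then A is strongly closed in Q. -/
theorem result {G : Type*} [Group G] [Finite G] {p : ℕ} [Fact p.Prime] (P Q : Sylow p G) (A : Subgroup G) (hAQ : A ≤ Q) (hA : Cfsg.IsStronglyClosed A (P : Subgroup G)) : Cfsg.IsStronglyClosed A (Q : Subgroup G) := by
  obtain ⟨x, hx⟩ := H39.exists_conj_le_sylow Q.2 P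
  have hnorm : x ∈ Subgroup.normalizer (A : Set G) :=
    H39.mem_normalizer_of_conj_mem fun a ha => hA.2 a ha x (hx a (hAQ ha))
  refine ⟨hAQ, fun a ha g hg => ?_⟩
  have h := hA.2 a ha (x * g) (by simpa [mul_assoc] using hx _ hg)
  rw [Subgroup.mem_normalizer_iff.mp hnorm]
  simpa [mul_assoc] using h

end Cfsg.Agent.S1249
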