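import Cfsg.Statements.S1254
import Cfsg.Agent.H39.DihedralFusion
-- import your own Cfsg.Agent.* helpers here

set_option autoImplicit false
open Cfsg

namespace Cfsg.Agent.S1254

open Cfsg.Agent Cfsg.Agent.H39

/-- Let X be a finite group whose Sylow 2-subgroup S is dihedral (of order at least 4). Then X has a normal 2-complement if and only if, for every Klein four-subgroup U ≤ S, the normalizer N_X(U) is generated by C_X(U) and N_S(U). -/
theorem result {X : Type*} [Group X] [Finite X] (S : Sylow 2 X) (m : ℕ) (hm : 2 ≤ m) (eS : (S : Subgroup X) ≃* DihedralGroup m) : Cfsg.HasNormalPComplement 2 X ↔ ∀ U : Subgroup X, U ≤ S → IsKleinFour U → Subgroup.normalizer (U : Set X) = Subgroup.centralizer (U : Set X) ⊔ ((S : Subgroup X) ⊓ Subgroup.normalizer (U : Set X)) := by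
  have h2 : Fact (Nat.Prime 2) := ⟨Nat.prime_two⟩
  obtain ⟨l, c, s, rfl, hcard, h⟩ := exists_dGen (S : Subgroup X) S.isPGroup' hm eS
  constructor
  · intro hN U hUS hU
    obtain ⟨K, hKn, hK⟩ := (Fusion.hasNormalPComplement_iff_exists S).mp hN
    refine le_antisymm (fun x hx => ?_)
      (sup_le (Subgroup.centralizer_le_normalizer _) inf_le_right)
    obtain ⟨k, hk, t, ht, rfl⟩ : ∃ k ∈ K, ∃ t ∈ (S : Subgroup X), x = k * t := by
      have h1 : x ∈ K ⊔ (S : Subgroup X) := hK.sup_eq_top.symm ▸ Subgroup.mem_top x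
      obtain ⟨k, hk, t, ht, e⟩ := Subgroup.mem_sup_of_normal_left.mp h1
      exact ⟨k, hk, t, ht, e.symm⟩
    have hkC : k ∈ Subgroup.centralizer (U : Set X) := by
      rw [Subgroup.mem_centralizer_iff]
      intro u hu
      have hmem : t⁻¹ * (k⁻¹ * u * k) * t ∈ U := by
        have := (Subgroup.mem_normalizer_iff.mp (inv_mem hx) u).mp hu
        simpa [mul_assoc] using this
      have hkS : k⁻¹ * u * k ∈ (S : Subgroup X) := by
        rw [show k⁻¹ * u * k = t * (t⁻¹ * (k⁻¹ * u * k) * t) * t⁻¹ by group]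
        exact mul_mem (mul_mem ht (hUS hmem)) (inv_mem ht)
      have hone : u⁻¹ * (k⁻¹ * u * k) ∈ K ⊓ (S : Subgroup X) := by
        refine Subgroup.mem_inf.mpr ⟨?_, mul_mem (inv_mem (hUS hu)) hkS⟩
        rw [show u⁻¹ * (k⁻¹ * u * k) = (u⁻¹ * k⁻¹ * u⁻¹⁻¹) * k by group]
        exact mul_mem (hKn.conj_mem _ (inv_mem hk) _) hk
      rw [hK.disjoint.eq_bot, Subgroup.mem_bot, inv_mul_eq_one] at hone
      calc u * k = k * (k⁻¹ * u * k) := by group
        _ = k * u := by rw [← hone]
    refine mul_mem (Subgroup.mem_sup_left hkC) (Subgroup.mem_sup_right ⟨ht, ?_⟩)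
    simpa using mul_mem (inv_mem (Subgroup.centralizer_le_normalizer _ hkC)) hx
  · intro hN
    refine Fusion.hasNormalPComplement_of_tame S fun Q _ _ g hg hgo => ?_
    set H := (S : Subgroup X) ⊓ (Q : Subgroup X)
    by_cases hH : IsKleinFour H
    · set N := Subgroup.normalizer (H : Set X)
      set ψ := H.normalizerMonoidHom
      have hmap : ψ ⟨g, hg⟩ ∈ (((S : Subgroup X) ⊓ N).subgroupOf N).map ψ := by
        have h1 : (⟨g, hg⟩ : N) ∈
            (Subgroup.centralizer (H : Set X)).subgroupOf N ⊔ ((S : Subgroup X) ⊓ N).subgroupOf N := by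
          rw [← Subgroup.subgroupOf_sup (Subgroup.centralizer_le_normalizer _) inf_le_right,
            Subgroup.mem_subgroupOf, ← hN H inf_le_left hH]
          exact hg
        rw [← Subgroup.normalizerMonoidHom_ker] at h1
        have h2 := Subgroup.mem_map_of_mem ψ h1
        rwa [Subgroup.map_sup, (Subgroup.map_eq_bot_iff _).mpr le_rfl, bot_sup_eq] at h2
      have hp : IsPGroup 2 ((((S : Subgroup X) ⊓ N).subgroupOf N).map ψ) :=
        ((S.isPGroup'.to_le inf_le_left).comap_subtype).map ψ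
      obtain ⟨k, hk⟩ := hp ⟨_, hmap⟩
      have h1 : ψ ⟨g, hg⟩ = 1 := by
        rw [← orderOf_eq_one_iff]
        refine Nat.eq_one_of_dvd_coprimes (hgo.pow_right k) ?_
          (orderOf_dvd_of_pow_eq_one (congrArg Subtype.val hk))
        exact (orderOf_map_dvd ψ (⟨g, hg⟩ : N)).trans (by rw [Subgroup.orderOf_mk])
      have h3 : (⟨g, hg⟩ : N) ∈ ψ.ker := h1
      rw [Subgroup.normalizerMonoidHom_ker] at h3
      exact h3
    · exact h.mem_centralizer inf_le_left hH hg hgo

end Cfsg.Agent.S1254
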