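import Cfsg.Statements.S1255
import Cfsg.Agent.H39.DihedralFusion
-- import your own Cfsg.Agent.* helpers here

set_option autoImplicit false
open Cfsg

namespace Cfsg.Agent.S1255

open Cfsg.Agent Cfsg.Agent.H39

/-- Let X be a finite group whose Sylow 2-subgroup S is dihedral of order 2m ≥ 4. Then X has no subgroup of index 2 and no isolated involution if and only if either all involutions of X are conjugate, or for every Klein four-subgroup U ≤ S the index |N_X(U) : C_X(U)| equals 3 when |S| = 4 and equals 6 when |S| > 4. -/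
theorem result {X : Type*} [Group X] [Finite X] (S : Sylow 2 X) (m : ℕ) (hm : 2 ≤ m) (eS : (S : Subgroup X) ≃* DihedralGroup m) : ((∀ H : Subgroup X, H.index ≠ 2) ∧ (∀ z : X, ¬ Cfsg.IsIsolatedInvolution z)) ↔ ((∀ a b : X, orderOf a = 2 → orderOf b = 2 → IsConj a b) ∨ (∀ U : Subgroup X, U ≤ S → IsKleinFour U → (Subgroup.centralizer (U : Set X)).relIndex (Subgroup.normalizer (U : Set X)) = (if Nat.card S = 4 then 3 else 6))) := by
  have h2 : Fact (Nat.Prime 2) := ⟨Nat.prime_two⟩
  obtain ⟨l, c, s, rfl, hcard, h⟩ := exists_dGen (S : Subgroup X) S.isPGroup' hm eS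
  constructor
  · rintro ⟨hno, -⟩
    exact Or.inl fun a b ha hb =>
      (h.isConj_z_of_no_index_two hno ha).symm.trans (h.isConj_z_of_no_index_two hno hb)
  intro hAB
  have hA : ∀ a b : X, orderOf a = 2 → orderOf b = 2 → IsConj a b := by
    rcases hAB with hA | hB
    · exact hA
    have hz : ∀ v : X, orderOf v = 2 → IsConj (c ^ l) v := by
      intro v hv
      obtain ⟨x, hx⟩ := exists_conj_le_sylow (IsPGroup.of_card (p := 2) (n := 1)
        (by rw [Nat.card_zpowers, hv, pow_one])) S (R := Subgroup.zpowers v)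
      refine IsConj.trans ?_ (isConj_iff.mpr ⟨x, rfl⟩ : IsConj v (x * v * x⁻¹)).symm
      have hw := hx v (Subgroup.mem_zpowers v)
      have hwo : orderOf (x * v * x⁻¹) = 2 := by rw [H39.orderOf_conj, hv]
      by_cases hwc : x * v * x⁻¹ ∈ Subgroup.zpowers c
      · rcases h.sq_one_cases hwc (mul_self_of_orderOf_eq_two hwo) with e | e
        · exact absurd e (ne_one_of_orderOf_eq_two hwo)
        · rw [e]
      obtain ⟨i, hi⟩ := h.out_form hw hwc
      obtain ⟨U, hU, hUS, hiU⟩ := h.klein_exists i
      obtain ⟨-, -, hzU, -⟩ := h.klein_char hU hUS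
      refine klein_isConj_of_relIndex hU ?_ hzU (hi ▸ hiU) (ne_one_of_orderOf_eq_two h.z_order)
        (ne_one_of_orderOf_eq_two hwo)
      rw [hB U hUS hU]
      split <;> omega
    exact fun a b ha hb => (hz a ha).symm.trans (hz b hb)
  exact ⟨h.no_index_two hA, h.no_isolated hA⟩

end Cfsg.Agent.S1255
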