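import Cfsg.Statements.S1256
import Cfsg.Agent.H39.DihedralFusion
-- import your own Cfsg.Agent.* helpers here

set_option autoImplicit false
open Cfsg

namespace Cfsg.Agent.S1256

open Cfsg.Agent Cfsg.Agent.H39

/-- Let X be a finite group whose Sylow 2-subgroup S is dihedral of order 2m ≥ 4. If |S| = 4, any two Klein four-subgroups of X are conjugate; if |S| > 4, there are Klein four-subgroups U₁, U₂ of X that are not conjugate, and every Klein four-subgroup of X is conjugate to U₁ or to U₂. -/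
theorem result {X : Type*} [Group X] [Finite X] (S : Sylow 2 X) (m : ℕ) (hm : 2 ≤ m) (eS : (S : Subgroup X) ≃* DihedralGroup m) : (Nat.card S = 4 → ∀ U V : Subgroup X, IsKleinFour U → IsKleinFour V → (∃ x : X, U.map (MulAut.conj x).toMonoidHom = V)) ∧ (4 < Nat.card S → ∃ U₁ U₂ : Subgroup X, IsKleinFour U₁ ∧ IsKleinFour U₂ ∧ ¬ (∃ x : X, U₁.map (MulAut.conj x).toMonoidHom = U₂) ∧ ∀ V : Subgroup X, IsKleinFour V → (∃ x : X, V.map (MulAut.conj x).toMonoidHom = U₁) ∨ (∃ x : X, V.map (MulAut.conj x).toMonoidHom = U₂)) := by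
  have h2 : Fact (Nat.Prime 2) := ⟨Nat.prime_two⟩
  obtain ⟨l, c, s, rfl, hcard, h⟩ := exists_dGen (S : Subgroup X) S.isPGroup' hm eS
  refine ⟨fun h4 U V hU hV => ?_, fun hgt => ?_⟩
  · have key : ∀ W : Subgroup X, IsKleinFour W → ∃ x : X, W.map (MulAut.conj x).toMonoidHom = S := by
      intro W hW
      obtain ⟨x, hx⟩ := exists_conj_le_sylow (IsPGroup.of_card (p := 2) (n := 2) hW.card_four) S
      refine ⟨x, Subgroup.eq_of_le_of_card_ge ?_ (by rw [card_map_conj, hW.card_four, h4])⟩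
      rintro _ ⟨w, hw, rfl⟩
      exact hx w hw
    obtain ⟨a, ha⟩ := key U hU
    obtain ⟨b, hb⟩ := key V hV
    refine ⟨b⁻¹ * a, ?_⟩
    rw [← map_conj_map_conj, ha, ← hb, map_conj_map_conj, inv_mul_cancel, map_conj_one]
  obtain ⟨U₁, hU₁, hU₁S, hs₁⟩ := h.klein_exists 0
  obtain ⟨U₂, hU₂, hU₂S, hs₂⟩ := h.klein_exists 1
  refine ⟨U₁, U₂, hU₁, hU₂, ?_, fun V hV => ?_⟩
  · rintro ⟨x, hx⟩
    obtain ⟨t, ht, htx⟩ := h.klein_fusion hU₁ hU₁S (g := x) (hx ▸ hU₂S)
    rw [hx] at htx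
    -- the exponents of the reflections in `U₂` are then even
    have hl : Even l := by
      obtain ⟨k, hk⟩ := IsPGroup.iff_card.mp S.isPGroup'
      rw [hcard] at hk hgt
      match k, hk with
      | 0, hk => omega
      | 1, hk => omega
      | 2, hk => omega
      | k + 3, hk => exact ⟨2 ^ k, by rw [pow_succ', pow_succ', pow_succ'] at hk; omega⟩
    obtain ⟨j, hjU, hzU, hm⟩ := h.klein_char hU₁ hU₁S
    have heven : ∀ i : ℤ, c ^ i * s ∈ U₁ → Even i := by
      intro i hi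
      obtain ⟨k, hk1, -, hk⟩ := h.klein_char hU₁ hU₁S
      have hp : ∀ a b : ℤ, c ^ a * s = c ^ b * s → Even a → Even b := by
        intro a b e ha
        rw [mul_left_inj, zpow_eq_zpow_iff_modEq, h.oc, Int.modEq_iff_dvd] at e
        obtain ⟨d, hd⟩ := e
        obtain ⟨e', he'⟩ := ha
        exact ⟨e' + l * d, by push_cast at hd; linarith⟩
      have hlk : ∀ a : ℤ, c ^ l * (c ^ a * s) = c ^ ((l : ℤ) + a) * s := fun a => by
        rw [zpow_add, zpow_natCast, mul_assoc]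
      obtain ⟨e, he⟩ := hl
      have hk0 : Even k := by
        rcases (hk _).mp hs₁ with e1 | e1 | e1 | e1
        · exact absurd e1 (fun e1 => h.out (by simp only [zpow_zero, one_mul] at e1; rw [e1]; exact one_mem _))
        · exact absurd (e1 ▸ Subgroup.pow_mem _ (Subgroup.mem_zpowers c) l) (h.out_not_mem 0)
        · exact hp _ _ e1 ⟨0, rfl⟩
        · rw [hlk] at e1
          obtain ⟨f, hf⟩ := hp _ _ e1 ⟨0, rfl⟩
          exact ⟨f - e, by omega⟩
      rcases (hk _).mp hi with e1 | e1 | e1 | e1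
      · exact absurd (e1 ▸ one_mem (Subgroup.zpowers c)) (h.out_not_mem i)
      · exact absurd (e1 ▸ Subgroup.pow_mem _ (Subgroup.mem_zpowers c) l) (h.out_not_mem i)
      · exact hp _ _ e1.symm hk0
      · rw [hlk] at e1
        exact hp _ _ e1.symm ((Int.even_add).mpr (iff_of_true ⟨e, by omega⟩ hk0))
    have hback : t⁻¹ * (c ^ (1 : ℤ) * s) * t ∈ U₁ := mem_map_conj.mp (htx ▸ hs₂)
    by_cases htc : t ∈ Subgroup.zpowers c
    · obtain ⟨i, rfl⟩ := htc
      rw [show (c ^ i)⁻¹ * (c ^ (1 : ℤ) * s) * c ^ i = c ^ (-i) * (c ^ (1 : ℤ) * s) * (c ^ (-i))⁻¹ by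
        group, h.conj_reflection] at hback
      obtain ⟨f, hf⟩ := heven _ hback
      omega
    · obtain ⟨i, rfl⟩ := h.out_form ht htc
      have e := h.out_conj 0 (1 - i)
      rw [zpow_zero, one_mul, inv_eq_of_orderOf_eq_two h.os] at e
      rw [show (c ^ i * s)⁻¹ * (c ^ (1 : ℤ) * s) * (c ^ i * s)
          = s⁻¹ * (c ^ (-i) * (c ^ (1 : ℤ) * s) * (c ^ (-i))⁻¹) * s by group, h.conj_reflection,
        inv_eq_of_orderOf_eq_two h.os, mul_assoc, mul_assoc, mul_self_of_orderOf_eq_two h.os, mul_one] at hback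
      have e2 := h.out_conj 0 (1 + 2 * (-i))
      rw [zpow_zero, one_mul, inv_eq_of_orderOf_eq_two h.os] at e2
      rw [show s * c ^ (1 + 2 * (-i) : ℤ) = c ^ (-(1 + 2 * (-i)) : ℤ) * s by
        rw [← e2, mul_assoc, mul_self_of_orderOf_eq_two h.os, mul_one]] at hback
      obtain ⟨f, hf⟩ := heven _ hback
      omega
  obtain ⟨a, ha⟩ := exists_conj_le_sylow (IsPGroup.of_card (p := 2) (n := 2) hV.card_four) S
  set V' : Subgroup X := V.map (MulAut.conj a).toMonoidHom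
  have hV' : IsKleinFour V' := DGen.klein_fusion.klein_map hV a
  have hV'S : V' ≤ S := by
    rintro _ ⟨w, hw, rfl⟩
    exact ha w hw
  obtain ⟨i, hi, -, -⟩ := h.klein_char hV' hV'S
  have fin : ∀ (j : ℤ) (U : Subgroup X), IsKleinFour U → U ≤ S → c ^ (i + 2 * j) * s ∈ U →
      ∃ x : X, V.map (MulAut.conj x).toMonoidHom = U := by
    intro j U hU hUS hjU
    refine ⟨c ^ j * a, ?_⟩
    rw [← map_conj_map_conj]
    refine h.klein_eq_of_mem (DGen.klein_fusion.klein_map hV' _) hU ?_ hUS (i := i + 2 * j) ?_ hjU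
    · rintro _ ⟨w, hw, rfl⟩
      exact mul_mem (mul_mem (h.zpow_mem j) (hV'S hw)) (inv_mem (h.zpow_mem j))
    · rw [← h.conj_reflection]; exact conj_mem_map_conj hi
  rcases Int.even_or_odd i with ⟨k, hk⟩ | ⟨k, hk⟩
  · exact Or.inl (fin (-k) U₁ hU₁ hU₁S (by rwa [show i + 2 * -k = 0 by omega]))
  · exact Or.inr (fin (-k) U₂ hU₂ hU₂S (by rwa [show i + 2 * -k = 1 by omega]))

end Cfsg.Agent.S1256
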