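import Cfsg.Statements.S1264
import Cfsg.Agent.Components.Basic

set_option autoImplicit false
open Cfsg

namespace Cfsg.Agent.S1264

/-- Let G be finite, C = C_G(F(G)) the centralizer of the Fitting subgroup, and N a solvable subgroup of C normalized by C. Then N ≤ Z(F(G)). -/
theorem result {G : Type*} [Group G] [Finite G] (N : Subgroup G) (hN : N ≤ Subgroup.centralizer (Cfsg.fittingSubgroup G : Set G)) (hnorm : Subgroup.centralizer (Cfsg.fittingSubgroup G : Set G) ≤ Subgroup.normalizer (N : Set G)) (hsolv : Group.IsSolvable ↥N) : N ≤ (Subgroup.center ↥(Cfsg.fittingSubgroup G)).map (Cfsg.fittingSubgroup G).subtype := by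
  set F := Cfsg.fittingSubgroup G with hF
  set C := Subgroup.centralizer (F : Set G) with hC
  have hFn : F.Normal := inferInstance
  haveI hCn : C.Normal := inferInstance
  set Z : Subgroup G := C ⊓ F with hZ
  have hZle : Z ≤ (Subgroup.center ↥F).map F.subtype := by
    rintro x ⟨hxC, hxF⟩
    refine ⟨⟨x, hxF⟩, ?_, rfl⟩
    rw [SetLike.mem_coe, Subgroup.mem_center_iff]
    exact fun y => Subtype.ext (Subgroup.mem_centralizer_iff.mp hxC y y.2)
  by_contra hne
  let D : ℕ → Subgroup G := fun k => (derivedSeries ↥N k).map N.subtype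
  obtain ⟨n, hn⟩ := hsolv.solvable
  have hlast : D n ≤ Z := by simp [D, hn]
  have hzero : ¬ D 0 ≤ Z := by
    have : D 0 = N := by
      simp only [D, derivedSeries_zero, ← MonoidHom.range_eq_map, Subgroup.range_subtype]
    rw [this]; exact fun h => hne (h.trans hZle)
  obtain ⟨k, hk, hk1⟩ : ∃ k, ¬ D k ≤ Z ∧ D (k + 1) ≤ Z := by
    by_contra hcon
    push Not at hcon
    exact (Nat.rec hzero (fun m ih => hcon m ih) n : ¬ D n ≤ Z) hlast
  have hDN : D k ≤ N := Subgroup.map_subtype_le _
  have hDC : D k ≤ C := hDN.trans hN
  have hnorm : C ≤ Subgroup.normalizer (D k : Set G) := by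
    intro c hc
    rw [Subgroup.mem_normalizer_iff_map_conj_eq]
    have hcN : N.map (MulAut.conj c).toMonoidHom = N := Subgroup.mem_normalizer_iff_map_conj_eq.mp (hnorm hc)
    have key : ∀ j, (D j).map (MulAut.conj c).toMonoidHom = D j := by
      intro j
      induction j with
      | zero => simpa [D, ← MonoidHom.range_eq_map] using hcN
      | succ j ih => simp only [D, derivedSeries_succ, Subgroup.map_commutator] at ih ⊢; rw [ih]
    exact key k
  have hsn : (D k).IsSubnormal := by
    refine Subgroup.IsSubnormal.step _ C hDC (Subgroup.Normal.isSubnormal hCn) ?_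
    exact (Subgroup.normal_subgroupOf_iff_le_normalizer hDC).mpr hnorm
  have hnil : Group.IsNilpotent ↥(D k) := by
    have hder : commutator ↥(D k) ≤ Subgroup.center ↥(D k) := by
      rintro x hx
      have hxZ : (x : G) ∈ Z := by
        apply hk1
        have h' : (x : G) ∈ (commutator ↥(D k)).map (D k).subtype := ⟨x, hx, rfl⟩
        rw [Subgroup.map_subtype_commutator] at h'
        simpa only [D, derivedSeries_succ, Subgroup.map_commutator] using h'
      rw [Subgroup.mem_center_iff]
      exact fun y => Subtype.ext (Subgroup.mem_centralizer_iff.mp (hDC y.2) x hxZ.2).symm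
    haveI : IsMulCommutative (↥(D k) ⧸ Subgroup.center ↥(D k)) :=
      (Subgroup.Normal.quotient_commutative_iff_commutator_le).mpr hder
    open scoped IsMulCommutative in exact Group.of_quotient_center_nilpotent inferInstance
  exact hk (le_inf hDC (Components.subnormal_nilpotent_le_fitting hsn hnil))

end Cfsg.Agent.S1264
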