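import Cfsg.Statements.S1270
import Cfsg.Agent.H40.BalanceMap

set_option autoImplicit false
open Cfsg

namespace Cfsg.Agent.S1270

/-- Let G be finite with O_{p'}(G) = 1, x of order p, and L a component with ⁅L, ⟨x⟩⁆ ≠ L. Then ⁅L, O_{p'}(C_G(x))⁆ = 1. -/
theorem result {G : Type*} [Group G] [Finite G] (p : ℕ) [Fact p.Prime] (hO : Cfsg.pPrimeCore p G = ⊥) (x : G) (hx : orderOf x = p) (L : Subgroup G) (hL : Cfsg.IsComponent L) (hne : ⁅L, Subgroup.zpowers x⁆ ≠ L) : ⁅L, Cfsg.centralizerPPrimeCore p x⁆ = ⊥ := by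
  have hpx : H40.IsPElem p x := ⟨1, by rw [pow_one, ← hx, pow_orderOf_eq_one]⟩
  rw [Subgroup.commutator_comm]
  exact Subgroup.commutator_eq_bot_iff_le_centralizer.mpr
    (H40.sig_le_centralizer hO hx (H40.isCentralSignalizer_core hpx) hL
      (H40.case_of_commutator_ne hL hne))

end Cfsg.Agent.S1270
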