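import Cfsg.Statements.S1271
import Cfsg.Agent.H40.BalanceCrit

set_option autoImplicit false
open Cfsg

namespace Cfsg.Agent.S1271

/-- Let G be finite with O_{p'}(G) = 1. Suppose that for every component L of G and every subgroup H ≥ L in which L is normal, the quotient H / C_H(L) is balanced for the prime p. Then G is balanced for p. -/
theorem result {G : Type*} [Group G] [Finite G] (p : ℕ) [Fact p.Prime] (hO : Cfsg.pPrimeCore p G = ⊥) (h : ∀ L : Subgroup G, Cfsg.IsComponent L → ∀ H : Subgroup G, L ≤ H → (L.subgroupOf H).Normal → ∀ [((Subgroup.centralizer (L : Set G)).subgroupOf H).Normal], Cfsg.IsBalancedFor p (↥H ⧸ (Subgroup.centralizer (L : Set G)).subgroupOf H)) : Cfsg.IsBalancedFor p G := by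
  intro x hx
  have hpx : H40.IsPElem p x := ⟨1, by rw [pow_one, ← hx, pow_orderOf_eq_one]⟩
  have hsig := H40.isCentralSignalizer_core (p := p) hpx
  rw [H40.eq_bot_of_centralizes hO hsig.coprime (H40.sig_le_centralizer_pCore hsig) ?_]
  · exact bot_le
  intro L hL
  by_cases hcase : x ∈ Subgroup.centralizer (L : Set G) ∨ x ∉ Subgroup.normalizer (L : Set G)
  · exact H40.sig_le_centralizer hO hx hsig hL hcase
  push Not at hcase
  obtain ⟨hxC, hxN⟩ := hcase
  obtain ⟨H, hH⟩ : ∃ H, H = L ⊔ Subgroup.centralizer ({x} : Set G) ⊓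
      Subgroup.normalizer (L : Set G) := ⟨_, rfl⟩
  have hLH : L ≤ H := hH ▸ le_sup_left
  have hHN : H ≤ Subgroup.normalizer (L : Set G) := hH ▸ sup_le Subgroup.le_normalizer inf_le_right
  have hxH : x ∈ H := hH ▸ Subgroup.mem_sup_right
    ⟨Subgroup.mem_centralizer_singleton_iff.mpr rfl, hxN⟩
  haveI hn : ((Subgroup.centralizer (L : Set G)).subgroupOf H).Normal :=
    Subgroup.normal_subgroupOf_iff_le_normalizer_inf.mpr
      (le_trans (le_inf (hHN.trans (H40.normalizer_le_normalizer_centralizer L))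
        Subgroup.le_normalizer) Subgroup.inf_normalizer_le_normalizer_inf)
  have hbal := h L hL H hLH
    ((Subgroup.normal_subgroupOf_iff_le_normalizer hLH).mpr hHN)
  set f := QuotientGroup.mk' ((Subgroup.centralizer (L : Set G)).subgroupOf H)
  have hker : ∀ v : ↥H, f v = 1 ↔ (v : G) ∈ Subgroup.centralizer (L : Set G) := fun v =>
    QuotientGroup.eq_one_iff v
  have hord : orderOf (f ⟨x, hxH⟩) = p :=
    orderOf_eq_prime (by
      rw [← map_pow, show (⟨x, hxH⟩ : ↥H) ^ p = 1 from
        Subtype.ext (by rw [← hx]; simpa using pow_orderOf_eq_one x), map_one])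
      (fun h1 => hxC ((hker ⟨x, hxH⟩).mp h1))
  intro y hy
  have hyN := H40.sig_le_normalizer hO hsig hL hy
  have hyH : y ∈ H := hH ▸ Subgroup.mem_sup_right ⟨hsig.le_centralizer hy, hyN⟩
  refine H40.mem_centralizer_of_map_mem hO hL hLH hker (R := Cfsg.pPrimeCore p _)
    Cores.coprime_card_pPrimeCore (y := ⟨y, hyH⟩) hyN ?_
  exact hbal _ hord (H40.map_le_centralizerPPrimeCore hO hsig hL hxN hLH hH.le
    (QuotientGroup.mk'_surjective _) hker hxH ⟨⟨y, hyH⟩, hy, rfl⟩)

end Cfsg.Agent.S1271
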