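import Cfsg.Statements.S1273
import Cfsg.Agent.H40.PComp

set_option autoImplicit false
open Cfsg

namespace Cfsg.Agent.S1273

/-- Let K be a p-component of the finite group X and N a normal subgroup of K whose index in K is prime to p. Then N = K. -/
theorem result {X : Type*} [Group X] [Finite X] (p : ℕ) [Fact p.Prime] (K : Subgroup X) (hK : Cfsg.IsPComponent p K) (N : Subgroup ↥K) [N.Normal] (hidx : (N.index).Coprime p) : N = ⊤ := by
  rw [eq_top_iff]
  intro x _
  have h1 : (x : X) ∈ N.map K.subtype := by
    have hle : H40.pElemClosure p K ≤ N.map K.subtype := by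
      refine H40.pElemClosure_le_iff.mpr fun y hy hyp => ⟨⟨y, hy⟩, ?_, rfl⟩
      have hyp' : H40.IsPElem p (⟨y, hy⟩ : ↥K) := by
        obtain ⟨k, hk⟩ := hyp
        exact ⟨k, Subtype.ext (by simpa using hk)⟩
      refine (QuotientGroup.eq_one_iff _).mp
        (H40.eq_one_of_isPElem_of_coprime (hyp'.map (QuotientGroup.mk' N)) ?_)
      exact hidx.coprime_dvd_left (by rw [Subgroup.index_eq_card]; exact orderOf_dvd_natCard _)
    rw [H40.pComp_pElem hK] at hle
    exact hle x.2
  obtain ⟨y, hy, he⟩ := h1
  rwa [← Subtype.ext he]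

end Cfsg.Agent.S1273
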