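import Cfsg.Statements.S1275
import Cfsg.Agent.H40.PComp

set_option autoImplicit false
open Cfsg

namespace Cfsg.Agent.S1275

/-- For a 2-component K of a finite group X, the quotient of K by its core O(K) is quasisimple. -/
theorem result {X : Type*} [Group X] [Finite X] (K : Subgroup X) (hK : Cfsg.IsPComponent 2 K) : Cfsg.IsQuasisimple (↥K ⧸ Cfsg.oddCore ↥K) := by
  have hsurj := (QuotientGroup.mk' (Cfsg.pPrimeCore 2 X)).subgroupMap_surjective K
  haveI : Nontrivial (↥(K.map (QuotientGroup.mk' (Cfsg.pPrimeCore 2 X)))) :=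
    Components.qs_nontrivial hK.2.1.2
  have hker : ((QuotientGroup.mk' (Cfsg.pPrimeCore 2 X)).subgroupMap K).ker = Cfsg.oddCore ↥K := by
    refine Subgroup.map_injective K.subtype_injective ?_
    rw [H40.map_pPrimeCore_pComp hK]
    ext x
    constructor
    · rintro ⟨y, hy, rfl⟩
      exact ⟨y.2, (QuotientGroup.eq_one_iff _).mp (congrArg Subtype.val hy)⟩
    · rintro ⟨hx, hxO⟩
      exact ⟨⟨x, hx⟩, Subtype.ext ((QuotientGroup.eq_one_iff _).mpr hxO), rfl⟩
  exact Components.qs_congr
    ((QuotientGroup.quotientKerEquivOfSurjective _ hsurj).symm.trans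
      (QuotientGroup.quotientMulEquivOfEq hker)) hK.2.1.2

end Cfsg.Agent.S1275
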