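import Cfsg.Statements.S1277
import Cfsg.Agent.H40.PComp

set_option autoImplicit false
open Cfsg

namespace Cfsg.Agent.S1277

/-- For a finite group X with core O(X): the image of E(X) in X / O(X) is all of E(X / O(X)) if and only if every 2-component of X is a component, i.e. L_{2'}(X) ≤ E(X). -/
theorem result {X : Type*} [Group X] [Finite X] : (Cfsg.layer X).map (QuotientGroup.mk' (Cfsg.oddCore X)) = Cfsg.layer (X ⧸ Cfsg.oddCore X) ↔ Cfsg.pLayer 2 X ≤ Cfsg.layer X := by
  have hs := QuotientGroup.mk'_surjective (Cfsg.pPrimeCore 2 X)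
  have hcomp : ∀ A : Subgroup X, Cfsg.IsComponent A →
      A.map (H40.coreMap 2 X) = ⊥ ∨ Cfsg.IsComponent (A.map (H40.coreMap 2 X)) := by
    intro A hA
    by_cases hb : A.map (H40.coreMap 2 X) = ⊥
    · exact Or.inl hb
    · right
      haveI : Nontrivial ↥(A.map (H40.coreMap 2 X)) := (Subgroup.nontrivial_iff_ne_bot _).mpr hb
      exact ⟨hA.1.map hs, Components.qs_of_surjective hA.2 ((H40.coreMap 2 X).subgroupMap A)
        ((H40.coreMap 2 X).subgroupMap_surjective A)⟩
  constructor
  · intro h
    refine sSup_le fun K hK => ?_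
    by_contra hne
    have hKb := hK.2.1
    set Kb := K.map (H40.coreMap 2 X) with hKbdef
    have hle : Kb ≤ (Cfsg.layer X).map (H40.coreMap 2 X) :=
      (Components.component_le_layer hKb).trans h.ge
    have hA : ∀ A : Subgroup X, Cfsg.IsComponent A → ⁅Kb, A.map (H40.coreMap 2 X)⁆ = ⊥ := by
      intro A hA
      rcases hcomp A hA with hb | hc
      · rw [hb, Subgroup.commutator_bot_right]
      · refine Components.components_commute hKb hc fun he => hne ?_
        refine le_trans ?_ (Components.component_le_layer hA)
        calc K = H40.pElemClosure 2 K := (H40.pComp_pElem hK).symm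
          _ ≤ A := by
            refine H40.pElemClosure_le_of_isSubnormal hA.1 (Cfsg.pPrimeCore 2 X)
              Cores.coprime_card_pPrimeCore ?_
            have h2 := congrArg (Subgroup.comap (H40.coreMap 2 X)) he
            rw [Subgroup.comap_map_eq, Subgroup.comap_map_eq, QuotientGroup.ker_mk'] at h2
            exact le_sup_left.trans h2.le
    have hc : (Cfsg.layer X).map (H40.coreMap 2 X) ≤
        Subgroup.centralizer (Kb : Set (X ⧸ Cfsg.pPrimeCore 2 X)) := by
      refine Subgroup.map_le_iff_le_comap.mpr (Components.layer_le_iff.mpr fun A hA' => ?_)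
      refine Subgroup.map_le_iff_le_comap.mp (Subgroup.commutator_eq_bot_iff_le_centralizer.mp ?_)
      rw [Subgroup.commutator_comm]
      exact hA A hA'
    have : ⁅Kb, Kb⁆ = ⊥ := Subgroup.commutator_eq_bot_iff_le_centralizer.mpr (hle.trans hc)
    rw [Components.component_perfect hKb] at this
    exact Components.qsSub_ne_bot hKb.2 this
  · intro h
    refine le_antisymm (Subgroup.map_le_iff_le_comap.mpr
      (Components.layer_le_iff.mpr fun A hA => Subgroup.map_le_iff_le_comap.mp ?_)) ?_
    · rcases hcomp A hA with hb | hc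
      · exact hb ▸ bot_le
      · exact Components.component_le_layer hc
    · exact (H40.map_pLayer (p := 2) (X := X)).ge.trans (Subgroup.map_mono h)

end Cfsg.Agent.S1277
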