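import Cfsg.Statements.S1278
import Cfsg.Agent.H40.PComp

set_option autoImplicit false
open Cfsg

namespace Cfsg.Agent.S1278

/-- Let K ≠ L be 2-components of the finite group X. Then ⁅K, L⁆ ≤ O(K) ⊓ O(L), and if K is quasisimple then ⁅K, L⁆ = 1. -/
theorem result {X : Type*} [Group X] [Finite X] (K L : Subgroup X) (hK : Cfsg.IsPComponent 2 K) (hL : Cfsg.IsPComponent 2 L) (hne : K ≠ L) : ⁅K, L⁆ ≤ ((Cfsg.oddCore ↥K).map K.subtype) ⊓ ((Cfsg.oddCore ↥L).map L.subtype) ∧ (Cfsg.IsQuasisimple ↥K → ⁅K, L⁆ = ⊥) := by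
  have h1 : ⁅K, L⁆ ≤ K :=
    Subgroup.le_normalizer_iff_commutator_le_left.mp
      ((H40.pComp_le_pLayer hL).trans (H40.pLayer_le_normalizer hK))
  have h2 : ⁅K, L⁆ ≤ L :=
    Subgroup.le_normalizer_iff_commutator_le_right.mp
      ((H40.pComp_le_pLayer hK).trans (H40.pLayer_le_normalizer hL))
  have h3 : ⁅K, L⁆ ≤ Cfsg.pPrimeCore 2 X := H40.pComp_commutator_le hK hL hne
  refine ⟨le_inf (by rw [H40.map_pPrimeCore_pComp hK]; exact le_inf h1 h3)
    (by rw [H40.map_pPrimeCore_pComp hL]; exact le_inf h2 h3), fun hq => ?_⟩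
  have h4 := (H40.pComp_isQuasisimple_iff hK).mp hq
  refine Components.commutator_eq_bot_of_perfect (H40.pComp_perfect hK) ?_
  rw [eq_bot_iff, ← h4, Subgroup.commutator_comm K (K ⊓ _)]
  exact Subgroup.commutator_mono (le_inf h1 h3) le_rfl

end Cfsg.Agent.S1278
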