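import Cfsg.Statements.S1279
import Cfsg.Agent.H40.BalanceConstrained
import Cfsg.Agent.H40.Generation

set_option autoImplicit false
open Cfsg

namespace Cfsg.Agent.S1279

/-- Let A be a noncyclic elementary abelian p-subgroup of the finite group G such that C_G(a) is solvable for every non-identity a ∈ A. Then a ↦ O_{p'}(C_G(a)) is a solvable A-signalizer functor on G. -/
theorem result {G : Type*} [Group G] [Finite G] (p : ℕ) [Fact p.Prime] (A : Subgroup G) (hA : Cfsg.IsElementaryAbelian p A) (hA2 : p ^ 2 ≤ Nat.card ↥A) (hsolv : ∀ a ∈ A, a ≠ 1 → Group.IsSolvable ↥(Subgroup.centralizer ({a} : Set G))) : Cfsg.IsSolvableSignalizerFunctor p A (fun a => Cfsg.centralizerPPrimeCore p a) := by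
  classical
  refine ⟨⟨fun a _ _ => Subgroup.map_subtype_le _, fun a ha ha1 => ?_, fun a ha ha1 b hb x hx => ?_,
    fun a ha ha1 b hb hb1 => ?_⟩, fun a ha ha1 => ?_⟩
  · intro h
    have hc := (H40.isCentralSignalizer_core (p := p) (x := a) ⟨1, by simpa using hA.2 a ha⟩).coprime
    exact (Fact.out : p.Prime).not_dvd_one (hc ▸ Nat.dvd_gcd h dvd_rfl)
  · have hbC : b ∈ Subgroup.centralizer ({a} : Set G) :=
      Subgroup.mem_centralizer_singleton_iff.mpr (H40.elemAb_commute hA hb ha)
    have hn := (H40.isCentralSignalizer_core (p := p) (x := a) ⟨1, by simpa using hA.2 a ha⟩).normalized hbC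
    exact (Subgroup.mem_normalizer_iff.mp hn x).mp hx
  · haveI := hsolv b hb hb1
    exact H40.balance_of_constrained ⟨1, by simpa using hA.2 a ha⟩ (H40.elemAb_commute hA ha hb)
      (Cores.isPConstrained_of_isPSolvable Cores.isPSolvable_of_isSolvable)
  · exact Coprime.isSolvable_of_le (Subgroup.map_subtype_le _) (hsolv a ha ha1)

end Cfsg.Agent.S1279
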