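import Cfsg.Statements.S1280
import Cfsg.Agent.H40.Factor
import Cfsg.Agent.H40.Balance
import Cfsg.Agent.H40.SupSolvable

set_option autoImplicit false
open Cfsg

namespace Cfsg.Agent.S1280

/-- Let θ be a solvable A-signalizer functor (A a noncyclic elementary abelian p-subgroup of the finite group G), and X, Y members of its family with Y ≤ N_G(X). Then X ⊔ Y (= XY) is again in the family. -/
theorem result {G : Type*} [Group G] [Finite G] (p : ℕ) [Fact p.Prime] (A : Subgroup G) (hA : Cfsg.IsElementaryAbelian p A) (hA2 : p ^ 2 ≤ Nat.card ↥A) (θ : G → Subgroup G) (hθ : Cfsg.IsSolvableSignalizerFunctor p A θ) (X Y : Subgroup G) (hX : X ∈ Cfsg.signalizerFamily p A θ) (hY : Y ∈ Cfsg.signalizerFamily p A θ) (hn : Y ≤ Subgroup.normalizer (X : Set G)) : X ⊔ Y ∈ Cfsg.signalizerFamily p A θ := by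
  obtain ⟨hXs, hXp, hXA, hXc⟩ := hX
  obtain ⟨hYs, hYp, hYA, hYc⟩ := hY
  have hXA' : A ≤ Subgroup.normalizer (X : Set G) := by
    rw [Subgroup.le_normalizer_iff]
    exact hXA
  have hYA' : A ≤ Subgroup.normalizer (Y : Set G) := by
    rw [Subgroup.le_normalizer_iff]
    exact hYA
  have hp : ¬ p ∣ Nat.card ↥(X ⊔ Y) := by
    intro h
    open scoped Pointwise in
    have e := H40.card_prodSet_mul_card_inf X Y
    have e2 : ((X : Set G) * (Y : Set G)) = ((X ⊔ Y : Subgroup G) : Set G) :=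
      (Subgroup.coe_mul_of_right_le_normalizer_left X Y hn).symm
    rw [e2, SetLike.coe_sort_coe] at e
    rcases (Fact.out : p.Prime).dvd_mul.mp (e ▸ dvd_mul_of_dvd_left h _) with h' | h'
    · exact hXp h'
    · exact hYp h'
  have hs := H40.isSolvable_sup hn hXs hYs
  refine ⟨hs, hp, fun b hb u hu => ?_, fun a ha ha1 => ?_⟩
  · obtain ⟨x, hx, y, hy, rfl⟩ := (Coprime.mem_sup_iff hn).mp hu
    have : b * (x * y) * b⁻¹ = (b * x * b⁻¹) * (b * y * b⁻¹) := by group
    rw [this]
    exact Subgroup.mul_mem _ (Subgroup.mem_sup_left (hXA b hb x hx))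
      (Subgroup.mem_sup_right (hYA b hb y hy))
  · intro z hz
    obtain ⟨x, hx, y, hy, rfl⟩ := (Coprime.mem_sup_iff hn).mp hz.1
    have hzA : Subgroup.zpowers a ≤ A := Subgroup.zpowers_le.mpr ha
    have hAK : Subgroup.zpowers a ≤ Subgroup.normalizer ((X ⊔ Y : Subgroup G) : Set G) := by
      intro b hb
      exact Subgroup.normalizer_inf_normalizer_le_normalizer_sup _ _ ⟨hXA' (hzA hb), hYA' (hzA hb)⟩
    obtain ⟨x', hx', y', hy', e⟩ := Coprime.centralizer_mul hAK
      (H40.coprime_card_of_isPGroup (H40.elemAb_isPGroup (H40.elemAb_mono hA hzA)) hp)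
      (Or.inr hs) le_sup_left le_sup_right (hzA.trans hXA') (hzA.trans hYA') hx hy
      (by rw [H40.centralizer_zpowers_eq]; exact hz.2)
    rw [H40.centralizer_zpowers_eq] at hx' hy'
    rw [e]
    exact (θ a).mul_mem (hXc a ha ha1 hx') (hYc a ha ha1 hy')

end Cfsg.Agent.S1280
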