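import Cfsg.Statements.S1281
import Cfsg.Agent.H40.Generation
import Mathlib.Tactic.Group

set_option autoImplicit false
open Cfsg

namespace Cfsg.Agent.S1281

/-- Let θ be a solvable A-signalizer functor on the finite group G (A a noncyclic elementary abelian p-subgroup) and N a normal subgroup of order prime to p. Then for all non-identity a, b ∈ A, the image of θ a in G / N meets the centralizer of the image of b inside the image of θ b. -/
theorem result {G : Type*} [Group G] [Finite G] (p : ℕ) [Fact p.Prime] (A : Subgroup G) (hA : Cfsg.IsElementaryAbelian p A) (hA2 : p ^ 2 ≤ Nat.card ↥A) (θ : G → Subgroup G) (hθ : Cfsg.IsSolvableSignalizerFunctor p A θ) (N : Subgroup G) [N.Normal] (hN : ¬ p ∣ Nat.card ↥N) (a b : G) (ha : a ∈ A) (ha1 : a ≠ 1) (hb : b ∈ A) (hb1 : b ≠ 1) : (θ a).map (QuotientGroup.mk' N) ⊓ Subgroup.centralizer {QuotientGroup.mk' N b} ≤ (θ b).map (QuotientGroup.mk' N) := by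
  rintro _ ⟨⟨x, hx, rfl⟩, hxb⟩
  have hZA : Subgroup.zpowers b ≤ A := Subgroup.zpowers_le.mpr hb
  have hAθ : A ≤ Subgroup.normalizer ((θ a : Subgroup G) : Set G) := by
    intro c hc
    rw [Subgroup.mem_normalizer_iff]
    intro u
    refine ⟨hθ.1.2.2.1 a ha ha1 c hc u, fun h => ?_⟩
    have := hθ.1.2.2.1 a ha ha1 c⁻¹ (A.inv_mem hc) _ h
    simpa [mul_assoc] using this
  have hAN : Subgroup.zpowers b ≤ Subgroup.normalizer (((θ a ⊓ N : Subgroup G)) : Set G) := by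
    refine le_trans (le_inf (hZA.trans hAθ) ?_) Subgroup.inf_normalizer_le_normalizer_inf
    rw [Subgroup.normalizer_eq_top]
    exact le_top
  have hcomm : Commute (QuotientGroup.mk' N b) (QuotientGroup.mk' N x) :=
    Subgroup.mem_centralizer_singleton_iff.mp hxb |>.symm
  have hfix : ∀ c ∈ Subgroup.zpowers b, x⁻¹ * (c * x * c⁻¹) ∈ θ a ⊓ N := by
    intro c hc
    refine ⟨(θ a).mul_mem ((θ a).inv_mem hx) (hθ.1.2.2.1 a ha ha1 c (hZA hc) x hx), ?_⟩
    obtain ⟨k, rfl⟩ := Subgroup.mem_zpowers_iff.mp hc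
    have hk := (hcomm.zpow_left k).eq
    rw [← map_zpow, ← map_mul, ← map_mul] at hk
    have h1 := (QuotientGroup.mk'_eq_mk' (N := N)).mp hk.symm
    obtain ⟨z, hz, hz'⟩ := h1
    have : x⁻¹ * (b ^ k * x * (b ^ k)⁻¹) = b ^ k * z * (b ^ k)⁻¹ := by
      rw [← hz']; group
    rw [this]
    exact (inferInstance : N.Normal).conj_mem z hz _
  have hcard : ¬ p ∣ Nat.card ↥(θ a) := hθ.1.2.1 a ha ha1
  obtain ⟨c, ⟨hcθ, hcb⟩, hcN⟩ := Coprime.exists_centralizer_mem_coset (hZA.trans hAθ)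
    (H40.coprime_card_of_isPGroup (H40.elemAb_isPGroup (H40.elemAb_mono hA hZA)) hcard)
    (Or.inr (hθ.2 a ha ha1)) inf_le_left hAN hx hfix
  refine ⟨c, hθ.1.2.2.2 a ha ha1 b hb hb1
    ⟨hcθ, H40.mem_centralizer_singleton_of (Subgroup.mem_zpowers b) hcb⟩, ?_⟩
  exact ((QuotientGroup.mk'_eq_mk' (N := N)).mpr ⟨x⁻¹ * c, hcN.2, by group⟩).symm

end Cfsg.Agent.S1281
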