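import Cfsg.Statements.S1282
import Cfsg.Agent.H40.Generation

set_option autoImplicit false
open Cfsg

namespace Cfsg.Agent.S1282

/-- Let A be an elementary abelian p-subgroup of rank at least 3 of the finite group G, q ≠ p a prime, and Q₁, Q₂ q-subgroups normalized by A with D = Q₁ ∩ Q₂ different from both. Then there is a non-identity a ∈ A such that, for i = 1 and i = 2, N_{Q_i}(D) ∩ C_G(a) is not contained in D. -/
theorem result {G : Type*} [Group G] [Finite G] (p : ℕ) [Fact p.Prime] (A : Subgroup G) (hA : Cfsg.IsElementaryAbelian p A) (hA3 : p ^ 3 ≤ Nat.card ↥A) (q : ℕ) [Fact q.Prime] (hqp : q ≠ p) (Q₁ Q₂ : Subgroup G) (h₁ : IsPGroup q ↥Q₁) (h₂ : IsPGroup q ↥Q₂) (hA₁ : A ≤ Subgroup.normalizer (Q₁ : Set G)) (hA₂ : A ≤ Subgroup.normalizer (Q₂ : Set G)) (hD₁ : Q₁ ⊓ Q₂ ≠ Q₁) (hD₂ : Q₁ ⊓ Q₂ ≠ Q₂) : ∃ a ∈ A, a ≠ 1 ∧ ¬ (Subgroup.normalizer ((Q₁ ⊓ Q₂ : Subgroup G) : Set G) ⊓ Q₁ ⊓ Subgroup.centralizer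 {a} ≤ Q₁ ⊓ Q₂) ∧ ¬ (Subgroup.normalizer ((Q₁ ⊓ Q₂ : Subgroup G) : Set G) ⊓ Q₂ ⊓ Subgroup.centralizer {a} ≤ Q₁ ⊓ Q₂) := by
  classical
  set D := Q₁ ⊓ Q₂ with hDdef
  have hAD : A ≤ Subgroup.normalizer (D : Set G) := by
    rw [Subgroup.le_normalizer_iff]
    intro a ha v hv
    exact ⟨Coprime.conj_mem (hA₁ ha) hv.1, Coprime.conj_mem (hA₂ ha) hv.2⟩
  have hAN : A ≤ Subgroup.normalizer ((Subgroup.normalizer (D : Set G) : Subgroup G) : Set G) :=
    hAD.trans Subgroup.le_normalizer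
  have key : ∀ Q : Subgroup G, IsPGroup q Q → A ≤ Subgroup.normalizer (Q : Set G) → D ≤ Q → D ≠ Q →
      ∃ B ≤ A, B.relIndex A ≤ p ∧
        ¬ (Subgroup.normalizer (D : Set G) ⊓ Q ⊓ Subgroup.centralizer (B : Set G) ≤ D) := by
    intro Q hQ hAQ hDQ hne
    by_contra hcon
    push Not at hcon
    haveI : Group.IsNilpotent Q := hQ.isNilpotent
    have hlt : D.subgroupOf Q < ⊤ := by
      rw [lt_top_iff_ne_top, Ne, Subgroup.subgroupOf_eq_top]
      exact fun h => hne (le_antisymm hDQ h)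
    obtain ⟨g, hg, hg'⟩ := SetLike.exists_of_lt (Group.normalizerCondition_of_isNilpotent _ hlt)
    rw [← Subgroup.subgroupOf_normalizer_eq hDQ] at hg
    refine hg' ((H40.le_of_hyperplanes (X := Subgroup.normalizer (D : Set G) ⊓ Q) hA ?_ ?_ hcon)
      ⟨hg, g.2⟩)
    · intro h
      obtain ⟨n, hn⟩ := IsPGroup.iff_card.mp hQ
      have h2 := h.trans (Subgroup.card_dvd_of_le inf_le_right)
      rw [hn] at h2
      exact hqp ((Nat.prime_dvd_prime_iff_eq Fact.out Fact.out).mp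
        ((Fact.out : p.Prime).dvd_of_dvd_pow h2)).symm
    · rw [Subgroup.le_normalizer_iff]
      intro a ha v hv
      exact ⟨Coprime.conj_mem (hAN ha) hv.1, Coprime.conj_mem (hAQ ha) hv.2⟩
  obtain ⟨B₁, hB₁, hi₁, hn₁⟩ := key Q₁ h₁ hA₁ inf_le_left hD₁
  obtain ⟨B₂, hB₂, hi₂, hn₂⟩ := key Q₂ h₂ hA₂ inf_le_right hD₂
  have hne : B₁ ⊓ B₂ ≠ ⊥ := by
    intro h
    have h3 := (Subgroup.relIndex_inf_le (H := B₁) (K := B₂) (L := A)).trans
      (Nat.mul_le_mul hi₁ hi₂)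
    rw [h, Subgroup.relIndex_bot_left] at h3
    have h4 := (Fact.out : p.Prime).two_le
    have h5 : 0 < p * p := by positivity
    have := hA3.trans h3
    rw [pow_succ, pow_two] at this
    nlinarith
  obtain ⟨a, ha, ha1⟩ := (Subgroup.bot_or_exists_ne_one _).resolve_left hne
  refine ⟨a, hB₁ ha.1, ha1, fun h => hn₁ (le_trans ?_ h), fun h => hn₂ (le_trans ?_ h)⟩
  · exact inf_le_inf_left _ (H40.mem_centralizer_singleton_of ha.1)
  · exact inf_le_inf_left _ (H40.mem_centralizer_singleton_of ha.2)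

end Cfsg.Agent.S1282
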