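import Cfsg.Statements.S1284
import Cfsg.Agent.H46.SignalizerTrans

set_option autoImplicit false
open Cfsg

namespace Cfsg.Agent.S1284

/-- Let θ be a solvable A-signalizer functor on the finite group G, A elementary abelian of rank at least 3, q a prime dividing some |θ a|, and Q maximal among the q-subgroups in the family of θ. Then (a) for every member H of the family, some c in the intersection of the θ a (a ∈ A non-identity) makes c Q c⁻¹ ∩ H a Sylow q-subgroup of H; and (b) for every nontrivial subgroup B ≤ A, C_Q(B) is a Sylow q-subgroup of the intersection of the θ b over the non-identity b ∈ B. -/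
theorem result {G : Type*} [Group G] [Finite G] (p : ℕ) [Fact p.Prime] (A : Subgroup G) (hA : Cfsg.IsElementaryAbelian p A) (hA3 : p ^ 3 ≤ Nat.card ↥A) (θ : G → Subgroup G) (hθ : Cfsg.IsSolvableSignalizerFunctor p A θ) (q : ℕ) [Fact q.Prime] (hq : ∃ a ∈ A, a ≠ 1 ∧ q ∣ Nat.card ↥(θ a)) (Q : Subgroup G) (hQW : Q ∈ Cfsg.signalizerFamily p A θ) (hQq : IsPGroup q ↥Q) (hQmax : ∀ R ∈ Cfsg.signalizerFamily p A θ, IsPGroup q ↥R → Q ≤ R → R = Q) : (∀ H : Subgroup G, H ∈ Cfsg.signalizerFamily p A θ → ∃ c ∈ Cfsg.signalizerInf A θ, ∃ S : Sylow q ↥H, (S : Subgroup ↥H).map H.subtype = Q.map (MulAut.conj c).toMonoidHom ⊓ H) ∧ (∀ B : Subgroup G, B ≤ A → B ≠ ⊥ → ∃ S : Sylow q ↥(Cfsg.signalizerInf B θ), (S : Subgroup ↥(Cfsg.signalizerInf B θ)).map (Cfsg.signalizerInf B θ).subtype = Q ⊓ Subgroup.centralizer (B : Set G)) := by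
  obtain ⟨a, ha, h1, hd⟩ := hq
  have hqp : q ≠ p := fun h => hθ.1.2.1 a ha h1 (h ▸ hd)
  refine ⟨fun H hH => H46.SignalizerTrans.exists_conj_sylow hA hA3 hθ hqp hQW hQq hQmax hH, ?_⟩
  intro B hB hB1
  obtain ⟨b, hb, hb1⟩ := B.bot_or_exists_ne_one.resolve_left hB1
  have hle : ∀ e ∈ B, e ≠ 1 → Cfsg.signalizerInf B θ ≤ θ e := fun e he he1 =>
    H46.SignalizerTrans.inf_le B he he1
  have hH : Cfsg.signalizerInf B θ ∈ Cfsg.signalizerFamily p A θ := by
    refine ⟨Coprime.isSolvable_of_le (hle b hb hb1) (hθ.2 b (hB hb) hb1), fun h => hθ.1.2.1 b (hB hb) hb1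
      (h.trans (Subgroup.card_dvd_of_le (hle b hb hb1))), fun e he u hu => ?_, fun e he he1 u hu => ?_⟩
    · rw [Cfsg.signalizerInf, Subgroup.mem_iInf] at hu ⊢
      rintro ⟨d, hd, hd1⟩
      exact hθ.1.2.2.1 d (hB hd) hd1 e he u (hu ⟨d, hd, hd1⟩)
    · exact hθ.1.2.2.2 b (hB hb) hb1 e he he1 ⟨hle b hb hb1 hu.1, hu.2⟩
  obtain ⟨c, hc, S, hS⟩ := H46.SignalizerTrans.exists_conj_sylow hA hA3 hθ hqp hQW hQq hQmax hH
  have hcB : c ∈ Cfsg.signalizerInf B θ := by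
    rw [Cfsg.signalizerInf, Subgroup.mem_iInf]
    rintro ⟨d, hd, hd1⟩
    exact H46.SignalizerTrans.inf_le A (hB hd) hd1 hc
  refine ⟨(⟨c, hcB⟩ : ↥(Cfsg.signalizerInf B θ))⁻¹ • S, ?_⟩
  have e : Q ⊓ Subgroup.centralizer (B : Set G) = Q ⊓ Cfsg.signalizerInf B θ := by
    refine le_antisymm (fun v hv => ⟨hv.1, ?_⟩) (fun v hv => ⟨hv.1, ?_⟩)
    · show v ∈ Subgroup.centralizer (B : Set G)
      rw [Subgroup.mem_centralizer_iff]
      intro d hd
      by_cases hd1 : d = 1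
      · subst hd1; simp
      · exact (Subgroup.mem_centralizer_singleton_iff.mp (hθ.1.1 d (hB hd) hd1 (hle d hd hd1 hv.2))).symm
    · show v ∈ ⨅ d : {d : G // d ∈ B ∧ d ≠ 1}, θ d
      rw [Subgroup.mem_iInf]
      rintro ⟨d, hd, hd1⟩
      exact hQW.2.2.2 d (hB hd) hd1 ⟨hv.1, Subgroup.mem_centralizer_singleton_iff.mpr
        ((Subgroup.mem_centralizer_iff.mp hv.2) d hd).symm⟩
  rw [e]
  have h2 := congrArg (Subgroup.map (MulAut.conj c⁻¹).toMonoidHom) hS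
  rw [Subgroup.map_inf _ _ _ (MulAut.conj c⁻¹).injective, Coprime.map_conj_map_conj, inv_mul_cancel,
    Coprime.map_conj_one, Coprime.map_conj_eq (Subgroup.le_normalizer (inv_mem hcB))] at h2
  rw [← h2]
  show ((S : Subgroup ↥(Cfsg.signalizerInf B θ)).map (MulAut.conj _).toMonoidHom).map _ = _
  rw [Subgroup.map_map, Subgroup.map_map]
  rfl

end Cfsg.Agent.S1284
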