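import Cfsg.Statements.S1285
import Cfsg.Agent.H46.SignalizerTrans

set_option autoImplicit false
open Cfsg

namespace Cfsg.Agent.S1285

/-- Let θ be a solvable A-signalizer functor on the finite group G with A elementary abelian of rank at least 3, and suppose that for some prime q every θ a (a ∈ A non-identity) is a q-group. Then θ is complete. -/
theorem result {G : Type*} [Group G] [Finite G] (p : ℕ) [Fact p.Prime] (A : Subgroup G) (hA : Cfsg.IsElementaryAbelian p A) (hA3 : p ^ 3 ≤ Nat.card ↥A) (θ : G → Subgroup G) (hθ : Cfsg.IsSolvableSignalizerFunctor p A θ) (q : ℕ) [Fact q.Prime] (hq : ∀ a ∈ A, a ≠ 1 → IsPGroup q ↥(θ a)) : Cfsg.IsCompleteSignalizerFunctor p A θ := by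
  have hp : p.Prime := Fact.out
  refine ⟨hθ.1, ?_⟩
  by_cases hqp : q = p
  · subst hqp
    refine ⟨⊥, fun b hb x hx => by simp [(Subgroup.mem_bot.mp hx)], by simp [hp.ne_one], fun a ha h1 => ?_⟩
    rw [bot_inf_eq, eq_comm, ← Subgroup.card_eq_one]
    obtain ⟨n, hn⟩ := IsPGroup.iff_card.mp (hq a ha h1)
    rcases n with _ | n
    · simpa using hn
    · exact absurd (hn ▸ dvd_pow_self q n.succ_ne_zero) (hθ.1.2.1 a ha h1)
  have hbot : (⊥ : Subgroup G) ∈ Cfsg.signalizerFamily p A θ :=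
    ⟨inferInstance, by simp [hp.ne_one], fun b hb x hx => by simp [(Subgroup.mem_bot.mp hx)],
      fun a _ _ => by simp⟩
  obtain ⟨Q, hQW, hQq, -, hQmax⟩ := H46.SignalizerTrans.exists_max (q := q) hbot IsPGroup.of_bot
  refine ⟨Q, hQW.2.2.1, hQW.2.1, fun a ha h1 => le_antisymm (hQW.2.2.2 a ha h1) ?_⟩
  have hH : θ a ∈ Cfsg.signalizerFamily p A θ :=
    ⟨hθ.2 a ha h1, hθ.1.2.1 a ha h1, hθ.1.2.2.1 a ha h1, fun b hb hb1 => hθ.1.2.2.2 a ha h1 b hb hb1⟩
  obtain ⟨c, hc, S, hS⟩ := H46.SignalizerTrans.exists_conj_sylow hA hA3 hθ hqp hQW hQq hQmax hH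
  have htop : (S : Subgroup ↥(θ a)) = ⊤ :=
    (S.is_maximal' (Q := ⊤) ((hq a ha h1).to_subgroup _) le_top).symm
  rw [htop, ← MonoidHom.range_eq_map, Subgroup.range_subtype] at hS
  intro v hv
  refine ⟨?_, hθ.1.1 a ha h1 hv⟩
  have hcv : c * v * c⁻¹ ∈ θ a :=
    mul_mem (mul_mem (H46.SignalizerTrans.inf_le A ha h1 hc) hv)
      (inv_mem (H46.SignalizerTrans.inf_le A ha h1 hc))
  rw [hS] at hcv
  have h := Coprime.mem_map_conj.mp hcv.1
  simpa [mul_assoc] using h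

end Cfsg.Agent.S1285
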