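import Cfsg.Statements.S1286
import Mathlib.GroupTheory.Perm.Fin

set_option autoImplicit false
open Cfsg

namespace Cfsg.Agent.S1286

/-- There exist a finite group X, an elementary abelian subgroup A of order 4 and a solvable A-signalizer functor θ on X for the prime 2 which is not complete. -/
theorem result : ∃ (X : Type) (_ : Group X) (_ : Finite X) (A : Subgroup X) (θ : X → Subgroup X), Cfsg.IsElementaryAbelian 2 A ∧ Nat.card ↥A = 4 ∧ Cfsg.IsSolvableSignalizerFunctor 2 A θ ∧ ¬ Cfsg.IsCompleteSignalizerFunctor 2 A θ := by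
  let a : Equiv.Perm (Fin 5) := Equiv.swap 0 1
  let b : Equiv.Perm (Fin 5) := Equiv.swap 2 3
  let t : Equiv.Perm (Fin 5) := Equiv.swap 2 3 * Equiv.swap 3 4
  let s : Equiv.Perm (Fin 5) := Equiv.swap 0 1 * Equiv.swap 1 4
  let A : Subgroup (Equiv.Perm (Fin 5)) :=
    { carrier := {x | x = 1 ∨ x = a ∨ x = b ∨ x = a * b}
      mul_mem' := by
        intro x y hx hy
        simp only [Set.mem_setOf_eq] at hx hy ⊢
        rcases hx with rfl | rfl | rfl | rfl <;> rcases hy with rfl | rfl | rfl | rfl <;> decide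
      one_mem' := Or.inl rfl
      inv_mem' := by
        intro x hx
        simp only [Set.mem_setOf_eq] at hx ⊢
        rcases hx with rfl | rfl | rfl | rfl <;> decide }
  let θ : Equiv.Perm (Fin 5) → Subgroup (Equiv.Perm (Fin 5)) := fun x =>
    if x = a then Subgroup.zpowers t else if x = b then Subgroup.zpowers s else ⊥
  have hmemA : ∀ x, x ∈ A ↔ x = 1 ∨ x = a ∨ x = b ∨ x = a * b := fun x => Iff.rfl
  have hcard : Nat.card ↥A = 4 := by
    have h : (A : Set (Equiv.Perm (Fin 5))) =
        (({1, a, b, a * b} : Finset (Equiv.Perm (Fin 5))) : Set (Equiv.Perm (Fin 5))) := by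
      ext x; simp [hmemA]
    rw [← SetLike.coe_sort_coe, Nat.card_coe_set_eq, h, Set.ncard_coe_finset]
    decide
  have hA : Cfsg.IsElementaryAbelian 2 A := by
    refine ⟨⟨⟨fun x y => Subtype.ext ?_⟩⟩, fun x hx => ?_⟩
    · show (x : Equiv.Perm (Fin 5)) * y = y * x
      obtain ⟨x, hx⟩ := x
      obtain ⟨y, hy⟩ := y
      show x * y = y * x
      rcases (hmemA x).mp hx with rfl | rfl | rfl | rfl <;>
        rcases (hmemA y).mp hy with rfl | rfl | rfl | rfl <;> decide
    · rcases (hmemA x).mp hx with rfl | rfl | rfl | rfl <;> decide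
  have hmem3 : ∀ u x : Equiv.Perm (Fin 5), u ^ 3 = 1 → x ∈ Subgroup.zpowers u →
      x = 1 ∨ x = u ∨ x = u * u := by
    intro u x hu hx
    obtain ⟨k, rfl⟩ := Subgroup.mem_zpowers_iff.mp hx
    have h3 : u ^ (3 : ℤ) = 1 := by exact_mod_cast hu
    have hr : u ^ k = u ^ (k % 3) := by
      conv_lhs => rw [← Int.emod_add_mul_ediv k 3, zpow_add, zpow_mul, h3, one_zpow, mul_one]
    rw [hr]
    rcases (by omega : k % 3 = 0 ∨ k % 3 = 1 ∨ k % 3 = 2) with h | h | h <;> rw [h]
    · simp
    · simp
    · exact Or.inr (Or.inr (by rw [show (2 : ℤ) = 1 + 1 from rfl, zpow_add, zpow_one]))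
  have hmk : ∀ u x : Equiv.Perm (Fin 5), x = 1 ∨ x = u ∨ x = u * u → x ∈ Subgroup.zpowers u := by
    rintro u x (rfl | rfl | rfl)
    · exact Subgroup.one_mem _
    · exact Subgroup.mem_zpowers _
    · exact mul_mem (Subgroup.mem_zpowers _) (Subgroup.mem_zpowers _)
  have ht : ∀ x ∈ Subgroup.zpowers t, x = 1 ∨ x = t ∨ x = t * t :=
    fun x hx => hmem3 t x (by decide) hx
  have hs : ∀ x ∈ Subgroup.zpowers s, x = 1 ∨ x = s ∨ x = s * s :=
    fun x hx => hmem3 s x (by decide) hx
  have hθa : θ a = Subgroup.zpowers t := if_pos rfl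
  have hθb : θ b = Subgroup.zpowers s := by
    show (if b = a then _ else _) = _
    rw [if_neg (by decide), if_pos rfl]
  have hθc : θ (a * b) = ⊥ := by
    show (if a * b = a then _ else _) = _
    rw [if_neg (by decide), if_neg (by decide)]
  have hne : ∀ x ∈ A, x ≠ 1 → x = a ∨ x = b ∨ x = a * b := fun x hx h1 =>
    ((hmemA x).mp hx).resolve_left h1
  refine ⟨Equiv.Perm (Fin 5), inferInstance, inferInstance, A, θ, hA, hcard,
    ⟨⟨?_, ?_, ?_, ?_⟩, ?_⟩, ?_⟩
  · intro x hx h1 y hy
    rw [Subgroup.mem_centralizer_singleton_iff]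
    rcases hne x hx h1 with rfl | rfl | rfl
    · rw [hθa] at hy
      rcases ht y hy with rfl | rfl | rfl <;> decide
    · rw [hθb] at hy
      rcases hs y hy with rfl | rfl | rfl <;> decide
    · rw [hθc, Subgroup.mem_bot] at hy
      subst hy; simp
  · intro x hx h1
    rcases hne x hx h1 with rfl | rfl | rfl
    · rw [hθa, Nat.card_zpowers, orderOf_eq_prime (p := 3) (by decide) (by decide)]; decide
    · rw [hθb, Nat.card_zpowers, orderOf_eq_prime (p := 3) (by decide) (by decide)]; decide
    · rw [hθc, Subgroup.card_bot]; decide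
  · intro x hx h1 y hy z hz
    rcases hne x hx h1 with rfl | rfl | rfl
    · rw [hθa] at hz ⊢
      rcases (hmemA y).mp hy with rfl | rfl | rfl | rfl <;> rcases ht z hz with rfl | rfl | rfl <;>
        exact hmk _ _ (by decide)
    · rw [hθb] at hz ⊢
      rcases (hmemA y).mp hy with rfl | rfl | rfl | rfl <;> rcases hs z hz with rfl | rfl | rfl <;>
        exact hmk _ _ (by decide)
    · rw [hθc, Subgroup.mem_bot] at hz ⊢
      subst hz; simp
  · intro x hx h1 y hy hy1 z hz
    obtain ⟨hz, hzy⟩ := hz
    replace hzy := Subgroup.mem_centralizer_singleton_iff.mp hzy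
    have hgoal : z = 1 ∨ x = y := by
      rcases hne x hx h1 with rfl | rfl | rfl
      · rw [hθa] at hz
        rcases hne y hy hy1 with rfl | rfl | rfl
        · exact Or.inr rfl
        all_goals
          rcases ht z hz with rfl | rfl | rfl
          · exact Or.inl rfl
          all_goals exact absurd hzy (by decide)
      · rw [hθb] at hz
        rcases hne y hy hy1 with rfl | rfl | rfl
        rotate_left
        · exact Or.inr rfl
        all_goals
          rcases hs z hz with rfl | rfl | rfl
          · exact Or.inl rfl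
          all_goals exact absurd hzy (by decide)
      · rw [hθc] at hz
        exact Or.inl (Subgroup.mem_bot.mp hz)
    rcases hgoal with rfl | rfl
    · exact Subgroup.one_mem _
    · exact hz
  · intro x hx h1
    rcases hne x hx h1 with rfl | rfl | rfl
    · rw [hθa]; exact inferInstance
    · rw [hθb]; exact inferInstance
    · rw [hθc]; exact inferInstance
  · rintro ⟨-, X, -, hodd, hX⟩
    have htX : t ∈ X := by
      have := (hX a ((hmemA a).mpr (Or.inr (Or.inl rfl))) (by decide)).ge
        (show t ∈ θ a from hθa ▸ Subgroup.mem_zpowers t)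
      exact this.1
    have hsX : s ∈ X := by
      have := (hX b ((hmemA b).mpr (Or.inr (Or.inr (Or.inl rfl)))) (by decide)).ge
        (show s ∈ θ b from hθb ▸ Subgroup.mem_zpowers s)
      exact this.1
    apply hodd
    have hw : s * s * t * s * t ∈ X :=
      mul_mem (mul_mem (mul_mem (mul_mem hsX hsX) htX) hsX) htX
    have ho : orderOf (s * s * t * s * t) = 2 := orderOf_eq_prime (by decide) (by decide)
    rw [← ho, ← Subgroup.orderOf_mk _ hw]
    exact orderOf_dvd_natCard _

end Cfsg.Agent.S1286
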