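import Cfsg.Statements.S1287
import Cfsg.Agent.H40.Factor

set_option autoImplicit false
open scoped Pointwise
open Cfsg

namespace Cfsg.Agent.S1287

/-- Let A be a noncyclic elementary abelian p-subgroup of a finite group H normalizing a subgroup K of order prime to p, and X, Y ≤ K subgroups normalized by A with C_K(a) = C_X(a) C_Y(a) (as sets) for every non-identity a ∈ A, where X is also normalized by C_K(A). Then K = XY as sets. -/
theorem result {H : Type*} [Group H] [Finite H] (p : ℕ) [Fact p.Prime] (A K X Y : Subgroup H) (hA : Cfsg.IsElementaryAbelian p A) (hA2 : p ^ 2 ≤ Nat.card ↥A) (hK : ¬ p ∣ Nat.card ↥K) (hAK : A ≤ Subgroup.normalizer (K : Set H)) (hX : X ≤ K) (hY : Y ≤ K) (hAX : A ≤ Subgroup.normalizer (X : Set H)) (hAY : A ≤ Subgroup.normalizer (Y : Set H)) (hCX : K ⊓ Subgroup.centralizer (A : Set H) ≤ Subgroup.normalizer (X : Set H)) (hfac : ∀ a ∈ A, a ≠ 1 → ((K ⊓ Subgroup.centralizer {a} : Subgroup H) : Set H) = ((X ⊓ Subgroup.centralizer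 {a} : Subgroup H) : Set H) * ((Y ⊓ Subgroup.centralizer {a} : Subgroup H) : Set H)) : (K : Set H) = (X : Set H) * (Y : Set H) := by
  classical
  have hp' : Fact p.Prime := inferInstance
  have inorm : ∀ {U M N : Subgroup H}, U ≤ Subgroup.normalizer (M : Set H) →
      U ≤ Subgroup.normalizer (N : Set H) → U ≤ Subgroup.normalizer ((M ⊓ N : Subgroup H) : Set H) := by
    intro U M N h1 h2 u hu
    rw [Subgroup.mem_normalizer_iff]
    intro v
    simp only [Subgroup.mem_inf]
    rw [← Subgroup.mem_normalizer_iff.mp (h1 hu) v, ← Subgroup.mem_normalizer_iff.mp (h2 hu) v]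
  have hAC : ∀ a ∈ A, A ≤ Subgroup.normalizer ((Subgroup.centralizer {a} : Subgroup H) : Set H) := by
    intro a ha b hb
    refine Subgroup.le_normalizer ?_
    exact Subgroup.mem_centralizer_singleton_iff.mpr (H40.elemAb_commute hA hb ha)
  have hCC : ∀ a ∈ A, Subgroup.centralizer (A : Set H) ≤
      Subgroup.normalizer ((Subgroup.centralizer {a} : Subgroup H) : Set H) := fun a ha =>
    (H40.mem_centralizer_singleton_of ha).trans Subgroup.le_normalizer
  have hsub : (X : Set H) * (Y : Set H) ⊆ (K : Set H) := by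
    rintro _ ⟨x, hx, y, hy, rfl⟩
    exact K.mul_mem (hX hx) (hY hy)
  have hdvd : Nat.card K * Nat.card ↥(X ⊓ Y) ∣ Nat.card X * Nat.card Y := by
    rw [← Nat.factorization_le_iff_dvd (Nat.mul_ne_zero Nat.card_pos.ne' Nat.card_pos.ne')
      (Nat.mul_ne_zero Nat.card_pos.ne' Nat.card_pos.ne'),
      Nat.factorization_mul Nat.card_pos.ne' Nat.card_pos.ne',
      Nat.factorization_mul Nat.card_pos.ne' Nat.card_pos.ne', Finsupp.le_def]
    intro q
    simp only [Finsupp.coe_add, Pi.add_apply]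
    by_cases hq : q.Prime
    swap
    · simp [Nat.factorization_eq_zero_of_not_prime _ hq]
    have := Fact.mk hq
    have hYp : ¬ p ∣ Nat.card Y := fun h => hK (h.trans (Subgroup.card_dvd_of_le hY))
    have hZp : ¬ p ∣ Nat.card ↥(X ⊓ Y) := fun h =>
      hYp (h.trans (Subgroup.card_dvd_of_le inf_le_right))
    have hAZ := inorm hAX hAY
    obtain ⟨T, hT, -, hAT⟩ := H40.exists_sylowOf_ge (q := q) hA hZp hAZ bot_le IsPGroup.of_bot
      (by rw [Subgroup.normalizer_eq_top]; exact le_top)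
    obtain ⟨V, hV, hTV, hAV⟩ := H40.exists_sylowOf_ge hA hYp hAY (hT.1.trans inf_le_right) hT.2.1 hAT
    obtain ⟨Q, hQ, hVQ, hAQ⟩ := H40.exists_sylowOf_ge hA hK hAK (hV.1.trans hY) hV.2.1 hAV
    have hX' : H40.IsSylowOf q (Q ⊓ X) X := H40.inf_isSylowOf hA hK hAK hQ hAQ hX hAX hCX
    have eY : V = Q ⊓ Y :=
      hV.eq_of_le (hQ.2.1.to_le inf_le_left) (le_inf hVQ hV.1) inf_le_right
    have eT : T = (Q ⊓ X) ⊓ (Q ⊓ Y) :=
      hT.eq_of_le (hQ.2.1.to_le (inf_le_left.trans inf_le_left))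
        (le_inf (le_inf ((hTV.trans hVQ)) (hT.1.trans inf_le_left))
          (le_inf (hTV.trans hVQ) (hT.1.trans inf_le_right)))
        (le_inf (inf_le_left.trans inf_le_right) (inf_le_right.trans inf_le_right))
    have key : (Q : Set H) ⊆ ((Q ⊓ X : Subgroup H) : Set H) * ((Q ⊓ Y : Subgroup H) : Set H) := by
      refine H40.qgroup_subset_prod hA hA2 hQ.2.1 (fun h => hK (h.trans (Subgroup.card_dvd_of_le hQ.1)))
        hAQ inf_le_left inf_le_left fun a ha ha1 => ?_
      have sC := H40.inf_isSylowOf hA hK hAK hQ hAQ (M := K ⊓ Subgroup.centralizer {a}) inf_le_left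
        (inorm hAK (hAC a ha))
        (inorm (inf_le_left.trans Subgroup.le_normalizer) (inf_le_right.trans (hCC a ha)))
      have sX := H40.inf_isSylowOf hA hK hAK hQ hAQ (M := X ⊓ Subgroup.centralizer {a})
        (inf_le_left.trans hX) (inorm hAX (hAC a ha))
        (inorm hCX (inf_le_right.trans (hCC a ha)))
      have sY := H40.inf_isSylowOf hA hYp hAY hV hAV (M := Y ⊓ Subgroup.centralizer {a})
        inf_le_left (inorm hAY (hAC a ha))
        (inorm (inf_le_left.trans Subgroup.le_normalizer) (inf_le_right.trans (hCC a ha)))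
      have sZ := H40.inf_isSylowOf hA hZp hAZ hT hAT (M := (X ⊓ Y) ⊓ Subgroup.centralizer {a})
        inf_le_left (inorm hAZ (hAC a ha))
        (inorm (inf_le_left.trans Subgroup.le_normalizer) (inf_le_right.trans (hCC a ha)))
      have e1 : Q ⊓ (K ⊓ Subgroup.centralizer {a}) = Q ⊓ Subgroup.centralizer {a} := by
        rw [← inf_assoc, inf_eq_left.mpr hQ.1]
      rw [e1] at sC
      have eA : (X ⊓ Subgroup.centralizer {a}) ⊓ (Y ⊓ Subgroup.centralizer {a}) =
          (X ⊓ Y) ⊓ Subgroup.centralizer {a} := by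
        rw [inf_inf_inf_comm, inf_idem]
      have eB : (Q ⊓ (X ⊓ Subgroup.centralizer {a})) ⊓ (V ⊓ (Y ⊓ Subgroup.centralizer {a})) =
          T ⊓ ((X ⊓ Y) ⊓ Subgroup.centralizer {a}) := by
        rw [eT, eY]
        ext v
        simp only [Subgroup.mem_inf]
        tauto
      have e2 := H40.card_prodSet_mul_card_inf (X ⊓ Subgroup.centralizer {a})
        (Y ⊓ Subgroup.centralizer {a})
      rw [← hfac a ha ha1, eA, SetLike.coe_sort_coe] at e2
      have e3 := H40.card_prodSet_mul_card_inf (Q ⊓ (X ⊓ Subgroup.centralizer {a}))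
        (V ⊓ (Y ⊓ Subgroup.centralizer {a}))
      rw [eB, sX.2.2, sY.2.2, sZ.2.2] at e3
      have e4 := congrArg (fun n => q ^ n.factorization q) e2
      simp only [Nat.factorization_mul Nat.card_pos.ne' Nat.card_pos.ne', Finsupp.coe_add,
        Pi.add_apply, pow_add] at e4
      rw [← sC.2.2, ← e3] at e4
      have e5 := Nat.eq_of_mul_eq_mul_right (pow_pos hq.pos _) e4
      have hle : ((Q ⊓ (X ⊓ Subgroup.centralizer {a}) : Subgroup H) : Set H) *
          ((V ⊓ (Y ⊓ Subgroup.centralizer {a}) : Subgroup H) : Set H) ⊆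
          ((Q ⊓ Subgroup.centralizer {a} : Subgroup H) : Set H) := by
        rintro _ ⟨x, hx, y, hy, rfl⟩
        exact (Q ⊓ Subgroup.centralizer {a}).mul_mem ⟨hx.1, hx.2.2⟩ ⟨hVQ hy.1, hy.2.2⟩
      have e6 := Set.eq_of_subset_of_ncard_le hle
        (by rw [← Nat.card_coe_set_eq, ← Nat.card_coe_set_eq]; exact e5.le) (Set.toFinite _)
      intro v hv
      rw [← e6] at hv
      obtain ⟨x, hx, y, hy, rfl⟩ := hv
      exact ⟨x, ⟨hx.1, hx.2.1⟩, y, ⟨hVQ hy.1, hy.2.1⟩, rfl⟩
    have e := H40.card_prodSet_mul_card_inf (Q ⊓ X) (Q ⊓ Y)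
    have hc : Nat.card Q ≤ Nat.card (((Q ⊓ X : Subgroup H) : Set H) *
        ((Q ⊓ Y : Subgroup H) : Set H) : Set H) := by
      rw [Nat.card_coe_set_eq]
      calc Nat.card Q = (Q : Set H).ncard := Nat.card_coe_set_eq _
        _ ≤ _ := Set.ncard_le_ncard key (Set.toFinite _)
    have h2 := (Nat.mul_le_mul_right (Nat.card ↥((Q ⊓ X) ⊓ (Q ⊓ Y))) hc).trans e.le
    rw [← eT, ← eY, hQ.2.2, hT.2.2, hX'.2.2, hV.2.2, ← pow_add, ← pow_add] at h2
    exact (Nat.pow_le_pow_iff_right hq.one_lt).mp h2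
  refine (Set.eq_of_subset_of_ncard_le hsub ?_ (Set.toFinite _)).symm
  have e := H40.card_prodSet_mul_card_inf X Y
  rw [← e, Nat.card_coe_set_eq] at hdvd
  have := Nat.le_of_mul_le_mul_right (Nat.le_of_dvd (Nat.mul_pos
    ((Set.ncard_pos (Set.toFinite ((X : Set H) * (Y : Set H)))).mpr
      ⟨1, H40.mem_prodSet.mpr ⟨1, X.one_mem, 1, Y.one_mem, mul_one 1⟩⟩) Nat.card_pos) hdvd)
    Nat.card_pos
  rwa [← Nat.card_coe_set_eq]

end Cfsg.Agent.S1287
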