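import Cfsg.Statements.S1288
import Cfsg.Agent.H40.Generation
import Cfsg.Agent.Cores.Constrained
import Cfsg.Agent.Components.PAction

set_option autoImplicit false
open Cfsg
open scoped commutatorElement

namespace Cfsg.Agent.S1288

/-- Let A be a noncyclic elementary abelian p-subgroup of a finite group H normalizing a solvable subgroup K of order prime to p, q a prime dividing |K|, and U ≤ K a subgroup of order prime to q such that ⁅U, C_K(B)⁆ has order prime to q for every subgroup B of index p in A. Then U ≤ O_{q'}(K). -/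
theorem result {H : Type*} [Group H] [Finite H] (p : ℕ) [Fact p.Prime] (A K : Subgroup H) (hA : Cfsg.IsElementaryAbelian p A) (hA2 : p ^ 2 ≤ Nat.card ↥A) (hK : ¬ p ∣ Nat.card ↥K) (hKs : Group.IsSolvable ↥K) (hAK : A ≤ Subgroup.normalizer (K : Set H)) (q : ℕ) [Fact q.Prime] (hqK : q ∣ Nat.card ↥K) (U : Subgroup H) (hU : U ≤ K) (hUq : ¬ q ∣ Nat.card ↥U) (hcomm : ∀ B : Subgroup H, B ≤ A → B.relIndex A = p → ¬ q ∣ Nat.card ↥⁅U, K ⊓ Subgroup.centralizer (B : Set H)⁆) : U ≤ (Cfsg.pPrimeCore q ↥K).map K.subtype := by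
  classical
  haveI := hKs
  have hqp : q ≠ p := by rintro rfl; exact hK hqK
  have hAbot : A ≠ ⊥ := by
    rintro rfl
    rw [Subgroup.card_bot] at hA2
    have h1 := (Fact.out : p.Prime).two_le
    rw [pow_two] at hA2
    nlinarith
  let N : Subgroup ↥K := Cfsg.pPrimeCore q ↥K
  let f := QuotientGroup.mk' N
  let U' : Subgroup ↥K := U.subgroupOf K
  let T : Subgroup H := ((Subgroup.centralizer ((U'.map f : Subgroup (↥K ⧸ N)) : Set (↥K ⧸ N))).comap f).map K.subtype
  let M : Subgroup H := (Cfsg.pPrimePCore q ↥K).map K.subtype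
  have hMT : M ≤ T := by
    refine H40.le_of_hyperplanes hA (fun h => hK (h.trans (Subgroup.card_dvd_of_le
      (Subgroup.map_subtype_le _)))) (Components.le_normalizer_map_characteristic _ hAK) ?_
    intro B hB hBi v hv
    obtain ⟨⟨v', hv'M, rfl⟩, hvC⟩ := hv
    refine ⟨v', ?_, rfl⟩
    rw [SetLike.mem_coe, Subgroup.mem_comap, Subgroup.mem_centralizer_iff]
    rintro _ ⟨u, hu, rfl⟩
    obtain ⟨D, hDA, hDi, hDB⟩ : ∃ D ≤ A, D.relIndex A = p ∧ D ≤ B := by
      obtain ⟨n, hn⟩ := IsPGroup.iff_card.mp (H40.elemAb_isPGroup hA)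
      have hdvd : B.relIndex A ∣ p ^ n := hn ▸ Subgroup.relIndex_dvd_card B A
      obtain ⟨m, -, hm⟩ := (Nat.dvd_prime_pow Fact.out).mp hdvd
      rcases Nat.lt_or_ge m 2 with hm2 | hm2
      · interval_cases m
        · obtain ⟨D, hD, hDi⟩ := H40.exists_hyperplane hA hAbot
          rw [pow_zero, Subgroup.relIndex_eq_one] at hm
          exact ⟨D, hD, hDi, hD.trans hm⟩
        · exact ⟨B, hB, by simpa using hm, le_rfl⟩
      · exfalso
        have h1 := (Fact.out : p.Prime).two_le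
        have h2 : p ^ 2 ≤ p ^ m := Nat.pow_le_pow_right (by omega) hm2
        rw [← hm, pow_two] at h2
        nlinarith [h2.trans hBi]
    have hC : ¬ q ∣ Nat.card ↥⁅U, K ⊓ Subgroup.centralizer (D : Set H)⁆ := hcomm D hDA hDi
    have hmem : ((⁅u, v'⁆ : ↥K) : H) ∈ ⁅U, K ⊓ Subgroup.centralizer (D : Set H)⁆ :=
      Subgroup.commutator_mem_commutator hu
        ⟨v'.2, Subgroup.centralizer_le hDB hvC⟩
    have ho : (orderOf (⁅u, v'⁆ : ↥K)).Coprime q := by
      rw [← orderOf_injective K.subtype K.subtype_injective]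
      exact (((Fact.out : q.Prime).coprime_iff_not_dvd).mpr
        (fun h => hC (h.trans (Subgroup.orderOf_dvd_natCard _ hmem)))).symm
    have hM' : f ⁅u, v'⁆ ∈ Cfsg.pCore q (↥K ⧸ N) := by
      change (⁅u, v'⁆ : ↥K) ∈ Cfsg.pPrimePCore q ↥K
      have : (⁅u, v'⁆ : ↥K) = (u * v' * u⁻¹) * v'⁻¹ := commutatorElement_def u v'
      rw [this]
      exact Subgroup.mul_mem _ (Subgroup.Normal.conj_mem inferInstance v' hv'M u)
        (Subgroup.inv_mem _ hv'M)
    have h1 : f ⁅u, v'⁆ = 1 := by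
      rw [← orderOf_eq_one_iff]
      obtain ⟨k, hk⟩ := IsPGroup.iff_card.mp (Cores.pCore_isPGroup (p := q) (G := ↥K ⧸ N))
      have hd := Subgroup.orderOf_dvd_natCard _ hM'
      rw [hk] at hd
      exact Nat.dvd_one.mp ((ho.coprime_dvd_left (orderOf_map_dvd f _)).pow_right k
        |>.gcd_eq_one ▸ Nat.dvd_gcd dvd_rfl hd)
    rw [map_commutatorElement, commutatorElement_eq_one_iff_mul_comm] at h1
    exact h1
  have h2 : U'.map f ≤ Subgroup.centralizer ((Cfsg.pCore q (↥K ⧸ N) : Subgroup (↥K ⧸ N)) : Set (↥K ⧸ N)) := by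
    intro z hz
    rw [Subgroup.mem_centralizer_iff]
    intro w hw
    obtain ⟨w', rfl⟩ := QuotientGroup.mk'_surjective N w
    obtain ⟨t, ht, e⟩ := hMT ⟨w', hw, rfl⟩
    have : t = w' := Subtype.ext e
    subst this
    exact ((Subgroup.mem_centralizer_iff.mp ht) z hz).symm
  have h3 := h2.trans (Cores.centralizer_pCore_le (Cores.isPSolvable_of_isSolvable (G := ↥K ⧸ N))
    Cores.pPrimeCore_quotient_pPrimeCore)
  intro u hu
  have hu' : f ⟨u, hU hu⟩ = 1 := by
    rw [← orderOf_eq_one_iff]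
    obtain ⟨k, hk⟩ := IsPGroup.iff_card.mp (Cores.pCore_isPGroup (p := q) (G := ↥K ⧸ N))
    have hd := Subgroup.orderOf_dvd_natCard _ (h3 ⟨⟨u, hU hu⟩, hu, rfl⟩)
    rw [hk] at hd
    have hd2 : orderOf (f ⟨u, hU hu⟩) ∣ Nat.card U := by
      refine (orderOf_map_dvd f _).trans ?_
      rw [← orderOf_injective K.subtype K.subtype_injective]
      exact Subgroup.orderOf_dvd_natCard _ hu
    have hc : (Nat.card U).Coprime (q ^ k) :=
      ((Fact.out : q.Prime).coprime_iff_not_dvd.mpr hUq).symm.pow_right k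
    exact Nat.dvd_one.mp (hc.gcd_eq_one ▸ Nat.dvd_gcd hd2 hd)
  exact ⟨⟨u, hU hu⟩, (QuotientGroup.eq_one_iff _).mp hu', rfl⟩

end Cfsg.Agent.S1288
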