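import Cfsg.Statements.S1300


set_option autoImplicit false
open Cfsg

namespace Cfsg.Agent.S1300

/-- For a finite group G, balance in the sense of commuting involutions is the same as 1-balance for the prime 2. -/
theorem result {G : Type*} [Group G] [Finite G] : Cfsg.IsBalanced G ↔ Cfsg.IsKBalanced 2 1 G := by
  constructor
  · intro h A hA hcard b hb hcomm
    rw [pow_one] at hcard
    obtain ⟨x, hxA, hx1⟩ : ∃ x ∈ A, x ≠ 1 :=
      (A.ne_bot_iff_exists_ne_one.mp (fun hbot => by simp [hbot] at hcard)).elim
        fun a ha => ⟨a, a.2, fun h => ha (Subtype.ext h)⟩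
    have hx : orderOf x = 2 := orderOf_eq_prime (hA.2 x hxA) hx1
    have hxb : x * b = b * x := hcomm x hxA
    intro y hy
    have hyx : y ∈ centralizerPPrimeCore 2 x :=
      Subgroup.mem_iInf.mp hy.1 ⟨x, hxA, hx1⟩
    have := (h x b hx hb hxb).le ⟨hyx, hy.2⟩
    exact this.1
  · intro h x y hx hy hxy
    have key : ∀ u v : G, orderOf u = 2 → orderOf v = 2 → u * v = v * u →
        centralizerPPrimeCore 2 u ⊓ Subgroup.centralizer {v} ≤
          centralizerPPrimeCore 2 v ⊓ Subgroup.centralizer {u} := by
      intro u v hu hv huv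
      rintro z ⟨hz1, hz2⟩
      have hel : ∀ a ∈ Subgroup.zpowers u, a = 1 ∨ a = u := by
        intro a ha
        obtain ⟨k, rfl⟩ := Subgroup.mem_zpowers_iff.mp ha
        have h2 : u ^ (2 : ℤ) = 1 := by
          have := pow_orderOf_eq_one u; rw [hu] at this; exact_mod_cast this
        rcases Int.even_or_odd k with ⟨m, hm⟩ | ⟨m, hm⟩
        · left; rw [hm, ← two_mul, zpow_mul, h2, one_zpow]
        · right; rw [hm, zpow_add, zpow_mul, h2, one_zpow, one_mul, zpow_one]
      have hA : IsElementaryAbelian 2 (Subgroup.zpowers u) := by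
        refine ⟨inferInstance, fun a ha => ?_⟩
        rcases hel a ha with h' | h' <;> rw [h']
        · simp
        · have := pow_orderOf_eq_one u; rwa [hu] at this
      have hd : z ∈ signalizerDelta 2 (Subgroup.zpowers u) := by
        refine Subgroup.mem_iInf.mpr ?_
        rintro ⟨a, ha, ha1⟩
        rcases hel a ha with rfl | rfl
        · exact absurd rfl ha1
        · exact hz1
      refine ⟨h _ hA (by rw [Nat.card_zpowers, hu, pow_one]) v hv ?_ ⟨hd, hz2⟩, ?_⟩
      · intro a ha
        rcases hel a ha with rfl | rfl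
        · simp
        · exact huv
      · obtain ⟨w, _, rfl⟩ := hz1
        exact w.2
    exact le_antisymm (key x y hx hy hxy) (key y x hy hx hxy.symm)

end Cfsg.Agent.S1300
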