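import Cfsg.Statements.S1299
import Cfsg.Agent.Components.GWTheta
import Cfsg.Agent.H47.Delta

set_option autoImplicit false
open Cfsg
open Cfsg.Agent.Components

namespace Cfsg.Agent.S1299

/-- Let G be finite and k-balanced for the prime p (k ≥ 1), A an elementary abelian p-subgroup of order at least p^(k+2) such that O_{p'}(C_G(a)) is solvable for every non-identity a ∈ A. For a ∈ A put θ a = the subgroup generated by the Δ_G(D) ∩ C_G(a) over the subgroups D ≤ A of order p^k. Then θ is an A-signalizer functor. -/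
theorem result {G : Type*} [Group G] [Finite G] (p k : ℕ) [Fact p.Prime] (hk : 1 ≤ k) (hbal : Cfsg.IsKBalanced p k G) (A : Subgroup G) (hA : Cfsg.IsElementaryAbelian p A) (hAk : p ^ (k + 2) ≤ Nat.card ↥A) (hsolv : ∀ a ∈ A, a ≠ 1 → Group.IsSolvable ↥(Cfsg.centralizerPPrimeCore p a)) : Cfsg.IsSignalizerFunctor p A (fun a => ⨆ D : {D : Subgroup G // D ≤ A ∧ Nat.card ↥D = p ^ k}, Cfsg.signalizerDelta p (D : Subgroup G) ⊓ Subgroup.centralizer {a}) := by
  have hp : p.Prime := Fact.out
  have hpg : IsPGroup p A := fun a => ⟨1, Subtype.ext (by simpa using hA.2 a a.2)⟩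
  obtain ⟨n, hn⟩ := IsPGroup.iff_card.1 hpg
  have hnk : k + 2 ≤ n := (Nat.pow_le_pow_iff_right hp.one_lt).1 (hn ▸ hAk)
  have hel : ∀ E ≤ A, IsElementaryAbelian p E := fun E hE =>
    ⟨⟨⟨fun x y => Subtype.ext (show (x : G) * y = y * x from congrArg Subtype.val
      (hA.1.is_comm.comm ⟨x, hE x.2⟩ ⟨y, hE y.2⟩))⟩⟩, fun a ha => hA.2 a (hE ha)⟩
  have hord : ∀ a ∈ A, a ≠ 1 → orderOf a = p := fun a ha h1 => orderOf_eq_prime (hA.2 a ha) h1
  have hcomm : ∀ E ≤ A, ∀ b ∈ A, ∀ e ∈ E, e * b = b * e := fun E hE b hb e he =>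
    congrArg Subtype.val (hA.1.is_comm.comm ⟨e, hE he⟩ ⟨b, hb⟩)
  have hbal' : ∀ E ≤ A, Nat.card E = p ^ k → ∀ b ∈ A, b ≠ 1 →
      signalizerDelta p E ⊓ Subgroup.centralizer {b} ≤ centralizerPPrimeCore p b :=
    fun E hE h b hb hb1 => hbal E (hel E hE) h b (hord b hb hb1) (hcomm E hE b hb)
  have hAn : ∀ E ≤ A, ∀ a ∈ A,
      A ≤ Subgroup.normalizer ((signalizerDelta p E ⊓ Subgroup.centralizer {a} : Subgroup G) : Set G) := by
    intro E hE a ha
    have h1 := H47.le_normalizer_delta (p := p) hA.1 hE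
    have h2 := H47.le_normalizer_centralizer_singleton (H47.le_centralizer_singleton hA.1 ha)
    exact Subgroup.le_normalizer_iff.2 fun b hb x hx =>
      ⟨Coprime.conj_mem (h1 hb) hx.1, Coprime.conj_mem (h2 hb) hx.2⟩
  have hle : ∀ a ∈ A, a ≠ 1 → (⨆ D : {D : Subgroup G // D ≤ A ∧ Nat.card ↥D = p ^ k},
      signalizerDelta p (D : Subgroup G) ⊓ Subgroup.centralizer {a}) ≤ centralizerPPrimeCore p a :=
    fun a ha h1 => iSup_le fun D => hbal' D D.2.1 D.2.2 a ha h1
  have hinv : ∀ a ∈ A, A ≤ Subgroup.normalizer (((⨆ D : {D : Subgroup G // D ≤ A ∧ Nat.card ↥D = p ^ k},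
      signalizerDelta p (D : Subgroup G) ⊓ Subgroup.centralizer {a}) : Subgroup G) : Set G) :=
    fun a ha => H47.normalizer_iSup fun D => hAn D D.2.1 a ha
  refine ⟨fun a _ _ => iSup_le fun D => inf_le_right, fun a ha h1 hd => ?_,
    fun a ha _ b hb x hx => Coprime.conj_mem (hinv a ha hb) hx, fun a ha h1 b hb hb1 => ?_⟩
  · exact H47.not_dvd_centralizerPPrimeCore a (hd.trans (Subgroup.card_dvd_of_le (hle a ha h1)))
  set R := ⨆ D : {D : Subgroup G // D ≤ A ∧ Nat.card ↥D = p ^ k},
    signalizerDelta p (D : Subgroup G) ⊓ Subgroup.centralizer {a} with hR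
  have hRA : A ≤ Subgroup.normalizer (R : Set G) := hinv a ha
  have hcop : (Nat.card A).Coprime (Nat.card R) := by
    rw [hn]
    refine Nat.Coprime.pow_left _ (hp.coprime_iff_not_dvd.2 fun hd => ?_)
    exact H47.not_dvd_centralizerPPrimeCore a (hd.trans (Subgroup.card_dvd_of_le (hle a ha h1)))
  have hRC : R ≤ Subgroup.centralizer {a} := iSup_le fun D => inf_le_right
  have hmem : ∀ E ≤ A, Nat.card E = p ^ k →
      signalizerDelta p E ⊓ Subgroup.centralizer {a} ≤ R := fun E hE h => le_iSup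
    (fun D : {D : Subgroup G // D ≤ A ∧ Nat.card ↥D = p ^ k} =>
      signalizerDelta p (D : Subgroup G) ⊓ Subgroup.centralizer {a}) ⟨E, hE, h⟩
  have hnontriv : ∀ E : Subgroup G, Nat.card E = p ^ k → ∃ e ∈ E, e ≠ 1 := fun E h =>
    H47.exists_ne_one_of_card hp.two_le hk h.ge
  have hyper : ∀ B ≤ A, (∃ c ∈ A, B ⊔ Subgroup.zpowers c = A) → B.relIndex A ≤ p := by
    rintro B hB ⟨c, hc, hBc⟩
    have hBn : Subgroup.zpowers c ≤ Subgroup.normalizer (B : Set G) := by
      rw [Subgroup.le_normalizer_iff]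
      intro u hu v hv
      rwa [← hcomm B hB u ((Subgroup.zpowers_le.2 hc) hu) v hv, mul_inv_cancel_right]
    have hcard : Nat.card A ≤ Nat.card B * p := by
      have hsurj : Function.Surjective fun x : B × Subgroup.zpowers c =>
          (⟨(x.1 : G) * x.2, mul_mem (hB x.1.2) (Subgroup.zpowers_le.2 hc x.2.2)⟩ : A) := by
        intro u
        have h := hBc.ge u.2
        obtain ⟨y, hy, z, hz, he⟩ := (Coprime.mem_sup_iff hBn).1 h
        exact ⟨(⟨y, hy⟩, ⟨z, hz⟩), Subtype.ext he⟩
      refine (Nat.card_le_card_of_surjective _ hsurj).trans ?_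
      rw [Nat.card_prod, Nat.card_zpowers]
      exact Nat.mul_le_mul_left _ (Nat.le_of_dvd hp.pos (orderOf_dvd_of_pow_eq_one (hA.2 c hc)))
    have h := Subgroup.relIndex_mul_relIndex (⊥ : Subgroup G) B A bot_le hB
    rw [Subgroup.relIndex_bot_left, Subgroup.relIndex_bot_left] at h
    exact Nat.le_of_mul_le_mul_left (h.le.trans hcard) Nat.card_pos
  have hF : GWFamily A R (p ^ k) fun E => signalizerDelta p E ⊓ Subgroup.centralizer {a} :=
    { comm := hA.1
      norm := hRA
      coprime := hcop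
      solvable := Coprime.isSolvable_of_le (hle a ha h1) (hsolv a ha h1)
      le := fun E hE h => le_inf (hmem E hE h) fun x hx => by
        refine Subgroup.mem_centralizer_iff.2 fun e he => ?_
        rcases eq_or_ne e 1 with rfl | he1
        · simp
        exact (Subgroup.mem_centralizer_singleton_iff.1
          (H47.centralizerPPrimeCore_le e (H47.delta_le he he1 hx.1))).symm
      norm_F := fun E hE h => ⟨hAn E hE a ha, by
        have hd : Subgroup.centralizer (E : Set G) ≤
            Subgroup.normalizer (signalizerDelta p E : Set G) :=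
          H47.normalizer_iInf fun e => (Subgroup.centralizer_le (Set.singleton_subset_iff.2
            (show (e : G) ∈ (E : Set G) from e.2.1))).trans (H47.centralizer_le_normalizer_core _)
        intro g hg
        rw [Subgroup.mem_normalizer_iff]
        intro x
        constructor
        · exact fun hx => ⟨Coprime.conj_mem (hd hg.2) hx.1,
            Subgroup.mul_mem _ (Subgroup.mul_mem _ (hRC hg.1) hx.2) (Subgroup.inv_mem _ (hRC hg.1))⟩
        · intro hx
          refine ⟨by simpa [mul_assoc] using Coprime.conj_mem' (hd hg.2) hx.1, ?_⟩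
          have := Subgroup.mul_mem _ (Subgroup.mul_mem _ (Subgroup.inv_mem _ (hRC hg.1)) hx.2) (hRC hg.1)
          simpa [mul_assoc] using this⟩
      balanced := fun E hE h E' hE' h' x hx => ⟨H47.le_delta
        (D := (signalizerDelta p E ⊓ Subgroup.centralizer {a}) ⊓ Subgroup.centralizer (E' : Set G)) (fun e he he1 y hy => hbal' E hE h e
        (hE' he) he1 ⟨hy.1.1, Subgroup.centralizer_le (Set.singleton_subset_iff.2
          (show e ∈ (E' : Set G) from he)) hy.2⟩) hx, hx.1.2⟩
      gen := iSup_le fun D => le_iSup_of_le (D : Subgroup G) (le_iSup_of_le D.2.1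
        (le_iSup_of_le D.2.2 le_rfl))
      inter := fun B hB hBh B' hB' hB'h => by
        obtain ⟨j, hjn, hj⟩ := (Nat.dvd_prime_pow hp).1
          (hn ▸ Subgroup.card_dvd_of_le (inf_le_left.trans hB : B ⊓ B' ≤ A))
        have h := Subgroup.relIndex_mul_relIndex (⊥ : Subgroup G) (B ⊓ B') A bot_le
          (inf_le_left.trans hB)
        rw [Subgroup.relIndex_bot_left, Subgroup.relIndex_bot_left, hn, hj] at h
        have hj2 : p ^ n ≤ p ^ (j + 2) := by
          rw [← h, pow_add, sq]
          exact Nat.mul_le_mul_left _ ((Subgroup.relIndex_inf_le (L := A)).trans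
            (Nat.mul_le_mul (hyper B hB hBh) (hyper B' hB' hB'h)))
        have hkj : k ≤ j := by
          have := (Nat.pow_le_pow_iff_right hp.one_lt).1 hj2; omega
        have hpB : IsPGroup p ↥(B ⊓ B') := IsPGroup.of_card hj
        obtain ⟨E, hE⟩ := Sylow.exists_subgroup_card_pow_prime_of_le_card hp hpB
          (n := k) (by rw [hj]; exact Nat.pow_le_pow_right hp.pos hkj)
        refine ⟨E.map (B ⊓ B').subtype, Subgroup.map_subtype_le _, ?_⟩
        rw [Subgroup.card_map_of_injective (Subgroup.subtype_injective _), hE] }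
  have : IsMulCommutative A := hA.1
  refine Coprime.le_of_centralizer_cyclic_quotient_le
    (Subgroup.le_normalizer_iff.2 fun c hc x hx => ⟨Coprime.conj_mem (hRA hc) hx.1,
      Coprime.conj_mem (H47.le_normalizer_centralizer_singleton
        (H47.le_centralizer_singleton hA.1 hb) hc) hx.2⟩)
    (Coprime.coprime_of_le inf_le_left hcop) fun B hB hBh x hx => ?_
  obtain ⟨E, hE, hEc⟩ := hF.inter B hB hBh B hB hBh
  have hEA : E ≤ A := hE.trans (inf_le_left.trans hB)
  have h := hF.fixed_le hEA hEc ⟨hx.1.1, Subgroup.centralizer_le (hE.trans inf_le_left) hx.2⟩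
  exact le_iSup (fun D : {D : Subgroup G // D ≤ A ∧ Nat.card ↥D = p ^ k} =>
    signalizerDelta p (D : Subgroup G) ⊓ Subgroup.centralizer {b}) ⟨E, hEA, hEc⟩ ⟨h.1, hx.1.2⟩

end Cfsg.Agent.S1299
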