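import Cfsg.Statements.S1303
import Cfsg.Agent.Cores.Constrained
import Cfsg.Agent.H40.PElem
import Mathlib.Tactic.Group

set_option autoImplicit false
set_option maxRecDepth 100000
open Cfsg
open scoped MatrixGroups

namespace Cfsg.Agent.S1303

/-- The group X = SL(2, 3): it is 2-constrained, O_{2'}(X) = 1, its centre A = Z(X) contains every involution of X = C_X(A), and X has a subgroup of order 3 (normalized by A) not contained in O_{2'}(X). -/
theorem result : Cfsg.IsPConstrained 2 (Matrix.SpecialLinearGroup (Fin 2) (ZMod 3)) ∧ Cfsg.pPrimeCore 2 (Matrix.SpecialLinearGroup (Fin 2) (ZMod 3)) = ⊥ ∧ (∀ t : Matrix.SpecialLinearGroup (Fin 2) (ZMod 3), orderOf t = 2 → t ∈ Subgroup.center (Matrix.SpecialLinearGroup (Fin 2) (ZMod 3))) ∧ ∃ Q : Subgroup (Matrix.SpecialLinearGroup (Fin 2) (ZMod 3)), Nat.card ↥Q = 3 ∧ ¬ (Q ≤ Cfsg.pPrimeCore 2 (Matrix.SpecialLinearGroup (Fin 2) (ZMod 3))) := by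
  have hmul : ∀ x y : Matrix.SpecialLinearGroup (Fin 2) (ZMod 3),
      x * x * x * x = 1 → y * y * y * y = 1 → (x * y) * (x * y) * (x * y) * (x * y) = 1 := by decide
  let Q : Subgroup (Matrix.SpecialLinearGroup (Fin 2) (ZMod 3)) :=
    { carrier := {x | x * x * x * x = 1}
      mul_mem' := fun {x y} hx hy => hmul x y hx hy
      one_mem' := by simp
      inv_mem' := fun {x} hx => by
        show x⁻¹ * x⁻¹ * x⁻¹ * x⁻¹ = 1
        rw [← mul_inv_rev, ← mul_inv_rev, ← mul_inv_rev, inv_eq_one, ← mul_assoc, ← mul_assoc]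
        exact hx }
  have hQn : Q.Normal := ⟨fun x hx g => by
    show g * x * g⁻¹ * (g * x * g⁻¹) * (g * x * g⁻¹) * (g * x * g⁻¹) = 1
    calc g * x * g⁻¹ * (g * x * g⁻¹) * (g * x * g⁻¹) * (g * x * g⁻¹)
        = g * (x * x * x * x) * g⁻¹ := by group
      _ = 1 := by rw [show x * x * x * x = 1 from hx, mul_one, mul_inv_cancel]⟩
  haveI := hQn
  have hQp : IsPGroup 2 ↥Q := fun x => ⟨2, Subtype.ext (by
    have h : (x : Matrix.SpecialLinearGroup (Fin 2) (ZMod 3)) * x * x * x = 1 := x.2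
    simpa [pow_succ] using h)⟩
  have hle : Q ≤ Cfsg.pCore 2 (Matrix.SpecialLinearGroup (Fin 2) (ZMod 3)) := Cores.le_pCore hQp
  have hC : ∀ x : Matrix.SpecialLinearGroup (Fin 2) (ZMod 3),
      (∀ y, y * y * y * y = 1 → y * x = x * y) → x * x * x * x = 1 := by decide
  have hbot : Cfsg.pPrimeCore 2 (Matrix.SpecialLinearGroup (Fin 2) (ZMod 3)) = ⊥ := by
    rw [eq_bot_iff]
    intro x hx
    have h4 : x * x * x * x = 1 := hC x fun y hy =>
      (Cores.commute_pCore_pPrimeCore (hle hy) hx).eq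
    exact H40.eq_one_of_isPElem_of_mem ⟨2, by simpa [pow_succ] using h4⟩ hx
      Cores.coprime_card_pPrimeCore
  refine ⟨(Cores.isPConstrained_iff_of_pPrimeCore_eq_bot hbot).mpr ?_, hbot, ?_, ?_⟩
  · intro x hx
    exact hle (hC x fun y hy => Subgroup.mem_centralizer_iff.mp hx y (hle hy))
  · intro t ht
    have h : ∀ u : Matrix.SpecialLinearGroup (Fin 2) (ZMod 3),
        u * u = 1 → ∀ g, g * u = u * g := by decide
    refine Subgroup.mem_center_iff.mpr (h t ?_)
    have := pow_orderOf_eq_one t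
    rwa [ht, pow_two] at this
  · obtain ⟨u, hu3, hu1⟩ : ∃ u : Matrix.SpecialLinearGroup (Fin 2) (ZMod 3), u ^ 3 = 1 ∧ u ≠ 1 :=
      ⟨⟨!![1, 1; 0, 1], by decide⟩, by decide, fun h => absurd (congrArg (fun M : Matrix.SpecialLinearGroup (Fin 2) (ZMod 3) => (M : Matrix (Fin 2) (Fin 2) (ZMod 3)) 0 1) h) (by decide)⟩
    refine ⟨Subgroup.zpowers u, ?_, ?_⟩
    · rw [Nat.card_zpowers]
      exact orderOf_eq_prime hu3 hu1
    · rw [hbot, le_bot_iff, Subgroup.zpowers_eq_bot]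
      exact hu1

end Cfsg.Agent.S1303
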