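import Cfsg.Statements.S1306
import Cfsg.Agent.H40.Balance

set_option autoImplicit false
open Cfsg

namespace Cfsg.Agent.S1306

/-- Let G be finite, x an involution and L ≤ C_G(x) a component of C_G(x). Suppose L is a component of C_G(y) for every involution y ∈ C_G(L), and ⁅L, g L g⁻¹⁆ ≠ 1 whenever g L g⁻¹ ≠ L. Then L is a standard subgroup of G. -/
theorem result {G : Type*} [Group G] [Finite G] (x : G) (hx : orderOf x = 2) (L : Subgroup G) (hLx : L ≤ Subgroup.centralizer ({x} : Set G)) (hL : Cfsg.IsComponent (L.subgroupOf (Subgroup.centralizer ({x} : Set G)))) (hne : ∀ y : G, orderOf y = 2 → y ∈ Subgroup.centralizer (L : Set G) → L ≤ Subgroup.centralizer ({y} : Set G) ∧ Cfsg.IsComponent (L.subgroupOf (Subgroup.centralizer ({y} : Set G)))) (hnc : ∀ g : G, L.map (MulAut.conj g).toMonoidHom ≠ L → ⁅L, L.map (MulAut.conj g).toMonoidHom⁆ ≠ ⊥) : Cfsg.IsStandardSubgroup L := by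
  classical
  have hqs : Cfsg.IsQuasisimple L := Components.qs_congr (Subgroup.subgroupOfEquivOfLe hLx) hL.2
  have key : ∀ g y : G, orderOf y = 2 → y ∈ Subgroup.centralizer (L : Set G) →
      g⁻¹ * y * g ∈ Subgroup.centralizer (L : Set G) →
      L.map (MulAut.conj g).toMonoidHom = L := by
    intro g y hy hyL hzL
    by_contra hne'
    have hz : orderOf (g⁻¹ * y * g) = 2 := by
      have := orderOf_injective (MulAut.conj g⁻¹).toMonoidHom (MulAut.conj g⁻¹).injective y
      simpa [hy] using this
    obtain ⟨hLy, hLyc⟩ := hne y hy hyL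
    obtain ⟨hLz, hLzc⟩ := hne _ hz hzL
    set Cy := Subgroup.centralizer ({y} : Set G)
    set Cz := Subgroup.centralizer ({g⁻¹ * y * g} : Set G)
    have hmap : Cz.map (MulAut.conj g).toMonoidHom = Cy := by
      ext v
      rw [Coprime.mem_map_conj, Subgroup.mem_centralizer_singleton_iff,
        Subgroup.mem_centralizer_singleton_iff]
      constructor
      · intro h
        simpa [mul_assoc] using congrArg (fun w => g * w * g⁻¹) h
      · intro h
        simpa [mul_assoc] using congrArg (fun w => g⁻¹ * w * g) h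
    let e : Cz ≃* Cy := ((MulAut.conj g).subgroupMap Cz).trans (MulEquiv.subgroupCongr hmap)
    have hc := Components.component_map_equiv e hLzc
    have hgy : L.map (MulAut.conj g).toMonoidHom ≤ Cy := hmap ▸ Subgroup.map_mono hLz
    have heq : (L.subgroupOf Cz).map e.toMonoidHom =
        (L.map (MulAut.conj g).toMonoidHom).subgroupOf Cy := by
      ext v
      constructor
      · rintro ⟨w, hw, rfl⟩
        exact ⟨(w : G), hw, rfl⟩
      · intro hv
        obtain ⟨w, hw, hwv⟩ := (Subgroup.mem_subgroupOf.mp hv)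
        exact ⟨⟨w, hLz hw⟩, hw, Subtype.ext hwv⟩
    rw [heq] at hc
    have hcomm := Components.components_commute hLyc hc fun h => hne' <| by
      have := congrArg (Subgroup.map Cy.subtype) h
      rw [Components.map_subgroupOf hLy, Components.map_subgroupOf hgy] at this
      exact this.symm
    refine hnc g hne' ?_
    have := congrArg (Subgroup.map Cy.subtype) hcomm
    rwa [Subgroup.map_commutator, Components.map_subgroupOf hLy, Components.map_subgroupOf hgy,
      Subgroup.map_bot] at this
  have hxL : x ∈ Subgroup.centralizer (L : Set G) := Subgroup.mem_centralizer_iff.mpr fun l hl =>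
    Subgroup.mem_centralizer_singleton_iff.mp (hLx hl)
  have hNN := H40.normalizer_le_normalizer_centralizer L
  refine ⟨hqs, ⟨?_, fun g hg => ?_⟩, hnc, le_antisymm hNN fun g hg => ?_⟩
  · rw [even_iff_two_dvd, ← hx]
    exact Subgroup.orderOf_dvd_natCard _ hxL
  · rw [← Nat.not_even_iff_odd, even_iff_two_dvd]
    intro h2
    haveI : Fact (Nat.Prime 2) := ⟨Nat.prime_two⟩
    obtain ⟨v, hv⟩ := exists_prime_orderOf_dvd_card' 2 h2
    refine hg (hNN (Coprime.mem_normalizer_of_map_conj
      (key g v (by rw [Subgroup.orderOf_coe]; exact hv) v.2.1 ?_)))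
    exact Coprime.mem_map_conj.mp v.2.2
  · refine Coprime.mem_normalizer_of_map_conj (key g x hx hxL ?_)
    have h1 := Coprime.map_conj_eq hg
    exact Coprime.mem_map_conj.mp (h1.symm ▸ hxL)

end Cfsg.Agent.S1306
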