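import Cfsg.Statements.S1312
import Cfsg.Agent.Components.Bender
-- import your own Cfsg.Agent.* helpers here

set_option autoImplicit false
open Cfsg

namespace Cfsg.Agent.S1312

open Cfsg.Agent.Components
open scoped commutatorElement
set_option linter.style.haveILetI false

/-- Let G be a non-abelian finite simple group and M ≠ N maximal subgroups of G with F*(M) ≤ N and F*(N) ≤ M. Then there is a prime p such that F*(M) and F*(N) are both p-groups. -/
theorem result {G : Type*} [Group G] [Finite G] [IsSimpleGroup G] (hna : ¬ IsMulCommutative G) (M N : Subgroup G) (hM : IsCoatom M) (hN : IsCoatom N) (hMN : M ≠ N) (h1 : (Cfsg.generalizedFittingSubgroup ↥M).map M.subtype ≤ N) (h2 : (Cfsg.generalizedFittingSubgroup ↥N).map N.subtype ≤ M) : ∃ p : ℕ, p.Prime ∧ IsPGroup p ↥(Cfsg.generalizedFittingSubgroup ↥M) ∧ IsPGroup p ↥(Cfsg.generalizedFittingSubgroup ↥N) := by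
  have key : ∀ {K L : Subgroup G}, IsCoatom K → ∀ A : Subgroup G, A ≠ ⊥ → A ≤ K →
      K ≤ Subgroup.normalizer (A : Set G) → L ⊓ Subgroup.normalizer (A : Set G) = L ⊓ K := by
    intro K L hK A hA hle hn
    congr 1
    refine (hK.le_iff.mp hn).resolve_left fun ht => ?_
    rcases (Subgroup.normalizer_eq_top_iff.mp ht).eq_bot_or_eq_top with h | h
    · exact hA h
    · exact hK.1 (top_le_iff.mp (h ▸ hle))
  obtain ⟨p, hp, e1, e2⟩ := primitive_pair hMN
    (fun A a b c => (key hM A a (b.trans inf_le_left) c).trans (inf_comm _ _))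
    (fun A a b c => key hN A a (b.trans inf_le_right) c) h1 h2
  haveI : Fact p.Prime := ⟨hp⟩
  exact ⟨p, hp, genFitting_eq_pCore_iff_isPGroup.mp e1, genFitting_eq_pCore_iff_isPGroup.mp e2⟩

end Cfsg.Agent.S1312
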