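import Cfsg.Statements.S1313
import Cfsg.Agent.Components.Basic
-- import your own Cfsg.Agent.* helpers here

set_option autoImplicit false
open Cfsg

namespace Cfsg.Agent.S1313

open Cfsg.Agent.Components
open scoped commutatorElement
set_option linter.style.haveILetI false

/-- For a finite group H, |H| ≤ |F*(H)|!. -/
theorem result {H : Type*} [Group H] [Finite H] : Nat.card H ≤ Nat.factorial (Nat.card ↥(Cfsg.generalizedFittingSubgroup H)) := by
  classical
  set F := Cfsg.generalizedFittingSubgroup H with hF
  haveI : Fintype F := Fintype.ofFinite F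
  let f : H →* Equiv.Perm F :=
    { toFun := fun h => (MulAut.conjNormal (H := F) h).toEquiv
      map_one' := by ext x; simp
      map_mul' := fun a b => by ext x; simp [mul_assoc] }
  have hfix : ∀ h, f h 1 = 1 := fun h => map_one (MulAut.conjNormal (H := F) h)
  have hrange : Nat.card f.range ≤ (Nat.card F - 1).factorial := by
    have h1 : Nat.card f.range ≤ Nat.card {σ : Equiv.Perm F // σ 1 = 1} :=
      Nat.card_le_card_of_injective (fun σ => ⟨σ.1, by obtain ⟨h, hh⟩ := σ.2; rw [← hh]; exact hfix h⟩)
        (fun a b h => Subtype.ext (congrArg (fun t => t.1) h))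
    refine h1.trans (le_of_eq ?_)
    let e : {σ : Equiv.Perm F // σ 1 = 1} ≃ Equiv.Perm {x : F // x ≠ 1} :=
      { toFun := fun σ => σ.1.subtypePerm (p := fun x => x ≠ 1) (fun x => by
          constructor
          · intro hx h; exact hx (by rw [h]; exact σ.2)
          · intro hx h; exact hx (σ.1.injective (h.trans σ.2.symm)))
        invFun := fun τ => ⟨Equiv.Perm.ofSubtype τ,
          Equiv.Perm.ofSubtype_apply_of_not_mem τ (by simp)⟩
        left_inv := fun σ => by
          apply Subtype.ext
          exact Equiv.Perm.ofSubtype_subtypePerm _ (fun x hx h => hx (by rw [h]; exact σ.2))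
        right_inv := fun τ => Equiv.Perm.subtypePerm_ofSubtype τ }
    rw [Nat.card_congr e, Nat.card_perm]
    congr 1
    rw [Nat.card_eq_fintype_card, Nat.card_eq_fintype_card, Fintype.card_subtype_compl,
      Fintype.card_subtype_eq]
  have hker : f.ker ≤ Subgroup.centralizer (F : Set H) := by
    intro h hh
    rw [Subgroup.mem_centralizer_iff]
    intro x hx
    have := congrArg (fun σ : Equiv.Perm F => (σ ⟨x, hx⟩ : H)) (MonoidHom.mem_ker.mp hh)
    simp [f, MulAut.conjNormal_apply] at this
    conv_lhs => rw [← this]
    group
  have h2 : Nat.card f.ker ≤ Nat.card F :=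
    Nat.card_le_card_of_injective (Subgroup.inclusion (hker.trans centralizer_genFitting_le))
      (Subgroup.inclusion_injective _)
  have h3 : Nat.card H = Nat.card f.ker * Nat.card f.range := by
    rw [← Subgroup.index_ker f, Subgroup.card_mul_index]
  rw [h3]
  refine (Nat.mul_le_mul h2 hrange).trans (le_of_eq ?_)
  exact Nat.mul_factorial_pred Nat.card_pos.ne'

end Cfsg.Agent.S1313
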