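import Cfsg.Statements.S1315
import Cfsg.Agent.H13.Intrinsic.Two

set_option autoImplicit false
open Cfsg

namespace Cfsg.Agent.S1315

/-- Let G be finite and J ≠ K subgroups, each containing exactly one involution, z(J) resp. z(K), each a 2-component of the centralizer of its involution, with J / O(J) and K / O(K) both isomorphic to SL(2, F) for one finite field F of odd order, or both non-split double covers of A7. Then (i) every 2-element of K of order at least 4 centralizing z(J) normalizes J; (ii) if z(J) normalizes K then z(K) normalizes J. -/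
theorem result {G : Type*} [Group G] [Finite G] (J K : Subgroup G) (hJK : J ≠ K) (zJ zK : G) (hzJ : zJ ∈ J ∧ orderOf zJ = 2 ∧ ∀ t ∈ J, orderOf t = 2 → t = zJ) (hzK : zK ∈ K ∧ orderOf zK = 2 ∧ ∀ t ∈ K, orderOf t = 2 → t = zK) (hJ : J ≤ Subgroup.centralizer ({zJ} : Set G) ∧ Cfsg.IsPComponent 2 (J.subgroupOf (Subgroup.centralizer ({zJ} : Set G)))) (hK : K ≤ Subgroup.centralizer ({zK} : Set G) ∧ Cfsg.IsPComponent 2 (K.subgroupOf (Subgroup.centralizer ({zK} : Set G)))) (htype : (∃ (F : Type) (_ : Field F) (_ : Fintype F), Odd (Fintype.card F) ∧ Nonempty (↥J ⧸ Cfsg.oddCore ↥J ≃* Matrix.SpecialLinearGroup (Fin 2) F) ∧ Nonempty (↥K ⧸ Cfsg.oddCore ↥K ≃* Matrix.SpecialLinearGroup (Fin 2) F)) ∨ (Cfsg.IsNonsplitDoubleCover (↥J ⧸ Cfsg.oddCore ↥J) ↥(alternatingGroup (Fin 7)) ∧ Cfsg.IsNonsplitDoubleCover (↥K ⧸ Cfsg.oddCore ↥K) ↥(alternatingGroup (Fin 7)))) : (∀ y ∈ K, IsPGroup 2 ↥(Subgroup.zpowers y) → 4 ≤ orderOf y → y * zJ = zJ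 * y → y ∈ Subgroup.normalizer (J : Set G)) ∧ (zJ ∈ Subgroup.normalizer (K : Set G) → zK ∈ Subgroup.normalizer (J : Set G)) := by
  have mk : ∀ (z : G) (M : Subgroup G),
      (z ∈ M ∧ orderOf z = 2 ∧ ∀ t ∈ M, orderOf t = 2 → t = z) →
      (M ≤ Subgroup.centralizer ({z} : Set G) ∧
        Cfsg.IsPComponent 2 (M.subgroupOf (Subgroup.centralizer ({z} : Set G)))) →
      H13.Intrinsic.Intr z M := by
    intro z M h1 h2
    have h := orderOf_eq_prime_iff.1 h1.2.1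
    exact ⟨by rw [← pow_two]; exact h.1, h.2, h1.1, fun t ht htt => by
      by_cases e : t = 1
      · exact Or.inl e
      · exact Or.inr (h1.2.2 t ht (orderOf_eq_prime (by rw [pow_two]; exact htt) e)), h2.1, h2.2⟩
  have hJ' := mk zJ J hzJ hJ
  have hK' := mk zK K hzK hK
  refine ⟨fun y hy hp h4 hc => ?_, H13.Intrinsic.normalizes_involution hK' hJ' ?_⟩
  · obtain ⟨k, hk⟩ := hp ⟨y, Subgroup.mem_zpowers y⟩
    refine H13.Intrinsic.normalizes hK' hJ' k y hy (congrArg Subtype.val hk) (fun e => ?_) hc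
    have h2 : orderOf y ≤ 2 :=
      Nat.le_of_dvd (by norm_num) (orderOf_dvd_of_pow_eq_one (by rw [pow_two]; exact e))
    omega
  · rcases htype with ⟨F, _, _, -, ⟨eJ⟩, ⟨eK⟩⟩ | ⟨⟨hcJ, ⟨eJ⟩, -⟩, ⟨hcK, ⟨eK⟩, -⟩⟩
    · exact (Nat.card_congr eJ.toEquiv).trans (Nat.card_congr eK.toEquiv).symm
    · show Nat.card (↥J ⧸ Cfsg.oddCore ↥J) = Nat.card (↥K ⧸ Cfsg.oddCore ↥K)
      rw [Subgroup.card_eq_card_quotient_mul_card_subgroup
          (Subgroup.center (↥J ⧸ Cfsg.oddCore ↥J)),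
        Subgroup.card_eq_card_quotient_mul_card_subgroup
          (Subgroup.center (↥K ⧸ Cfsg.oddCore ↥K)), hcJ, hcK,
        Nat.card_congr eJ.toEquiv, Nat.card_congr eK.toEquiv]

end Cfsg.Agent.S1315
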