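import Cfsg.Statements.S1316
import Cfsg.Agent.Components.Layer
-- import your own Cfsg.Agent.* helpers here

set_option autoImplicit false
open Cfsg

namespace Cfsg.Agent.S1316

open Cfsg.Agent.Components
open scoped commutatorElement
set_option linter.style.haveILetI false

/-- For a finite group X, E(X) equals the intersection of the derived series of F*(X) (its last term). -/
theorem result {X : Type*} [Group X] [Finite X] : (⨅ n : ℕ, (derivedSeries ↥(Cfsg.generalizedFittingSubgroup X) n).map (Cfsg.generalizedFittingSubgroup X).subtype) = Cfsg.layer X := by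
  set F := Cfsg.generalizedFittingSubgroup X
  set E := Cfsg.layer X with hE
  refine le_antisymm ?_ (le_iInf fun n => ?_)
  · set π := QuotientGroup.mk' E
    have hFF : F.map π = (Cfsg.fittingSubgroup X).map π := by
      show (Cfsg.layer X ⊔ Cfsg.fittingSubgroup X).map π = _
      rw [Subgroup.map_sup, (Subgroup.map_eq_bot_iff _).mpr
        (QuotientGroup.ker_mk' E).ge, bot_sup_eq]
    have hsol : Group.IsSolvable ↥(F.map π) := by
      haveI := isNilpotent_map π _ (inferInstance : Group.IsNilpotent (Cfsg.fittingSubgroup X))
      rw [hFF]; infer_instance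
    obtain ⟨n, hn⟩ := (Group.isSolvable_def _).mp hsol
    refine iInf_le_of_le n ?_
    have := map_derivedSeries_le_derivedSeries (π.subgroupMap F) n
    rw [hn, le_bot_iff] at this
    intro x hx
    obtain ⟨y, hy, rfl⟩ := hx
    have h2 : π.subgroupMap F y = 1 := by
      have := this ▸ Subgroup.mem_map_of_mem (π.subgroupMap F) hy
      simpa using this
    have h3 : π (y : X) = 1 := congrArg Subtype.val h2
    rwa [← MonoidHom.mem_ker, QuotientGroup.ker_mk'] at h3
  · induction n with
    | zero => simpa [← MonoidHom.range_eq_map] using (layer_le_genFitting (G := X))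
    | succ n ih =>
      rw [derivedSeries_succ, Subgroup.map_commutator]
      exact layer_perfect.ge.trans (Subgroup.commutator_mono ih ih)

end Cfsg.Agent.S1316
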