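import Cfsg.Statements.S1319
import Cfsg.Agent.Components.Layer
-- import your own Cfsg.Agent.* helpers here

set_option autoImplicit false
open Cfsg

namespace Cfsg.Agent.S1319

open Cfsg.Agent.Components
open scoped commutatorElement
set_option linter.style.haveILetI false

/-- Let A be a subnormal subgroup of the finite group X with E(A) = A. Then A ≤ E(X) and A is normal in E(X). -/
theorem result {X : Type*} [Group X] [Finite X] (A : Subgroup X) (hsn : A.IsSubnormal) (hA : Cfsg.layer ↥A = ⊤) : A ≤ Cfsg.layer X ∧ (A.subgroupOf (Cfsg.layer X)).Normal := by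
  have h1 : A = sSup {L | Cfsg.IsComponent L ∧ L ≤ A} := by
    rw [← map_layer_subnormal hsn, hA, ← MonoidHom.range_eq_map, Subgroup.range_subtype]
  have h2 : A ≤ Cfsg.layer X := h1.le.trans (sSup_le fun L hL => component_le_layer hL.1)
  refine ⟨h2, (Subgroup.normal_subgroupOf_iff_le_normalizer h2).mpr ?_⟩
  intro e he
  rw [Subgroup.mem_normalizer_iff]
  have key : ∀ g ∈ Cfsg.layer X, ∀ a ∈ A, g * a * g⁻¹ ∈ A := by
    intro g hg a ha
    have h3 : A.map (MulAut.conj g).toMonoidHom ≤ A := by
      conv_lhs => rw [h1]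
      refine Subgroup.map_le_iff_le_comap.mpr (sSup_le fun L hL => ?_)
      intro l hl
      exact hL.2 ((Subgroup.mem_normalizer_iff.mp (layer_le_normalizer_component hL.1 hg) l).mp hl)
    exact h3 ⟨a, ha, rfl⟩
  intro a
  refine ⟨key e he a, fun h => ?_⟩
  simpa [mul_assoc] using key e⁻¹ (Subgroup.inv_mem _ he) _ h

end Cfsg.Agent.S1319
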