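import Cfsg.Statements.S1323
import Mathlib

set_option autoImplicit false
open Cfsg

namespace Cfsg.Agent.S1323

open Equiv

variable {n : ℕ}

/-- The pointwise stabiliser in the alternating group. -/
def pfix (S : Finset (Fin n)) : Subgroup (alternatingGroup (Fin n)) where
  carrier := {g | ∀ i ∈ S, (g : Perm (Fin n)) i = i}
  one_mem' := fun i _ => rfl
  mul_mem' {g h} hg hh := fun i hi => by
    show (g : Perm (Fin n)) ((h : Perm (Fin n)) i) = i
    rw [hh i hi, hg i hi]
  inv_mem' {g} hg := fun i hi => by
    show (g : Perm (Fin n))⁻¹ i = i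
    rw [Perm.inv_eq_iff_eq, hg i hi]

lemma mem_pfix {S : Finset (Fin n)} {g : alternatingGroup (Fin n)} :
    g ∈ pfix S ↔ ∀ i ∈ S, (g : Perm (Fin n)) i = i := Iff.rfl

/-- The three-cycle moving three given points. -/
def cyc (a b c : Fin n) (hab : a ≠ b) (hbc : b ≠ c) : alternatingGroup (Fin n) :=
  ⟨Equiv.swap a b * Equiv.swap b c, by
    rw [Perm.mem_alternatingGroup, map_mul, Perm.sign_swap hab, Perm.sign_swap hbc]; rfl⟩

lemma cyc_apply_other {a b c : Fin n} (hab : a ≠ b) (hbc : b ≠ c) {i : Fin n} (h1 : i ≠ a) (h2 : i ≠ b)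
    (h3 : i ≠ c) : (cyc a b c hab hbc : Perm (Fin n)) i = i := by
  show Equiv.swap a b (Equiv.swap b c i) = i
  rw [Equiv.swap_apply_of_ne_of_ne h2 h3, Equiv.swap_apply_of_ne_of_ne h1 h2]

lemma cyc_apply_first {a b c : Fin n} (hab : a ≠ b) (hbc : b ≠ c) (hac : a ≠ c) :
    (cyc a b c hab hbc : Perm (Fin n)) a = b := by
  show Equiv.swap a b (Equiv.swap b c a) = b
  rw [Equiv.swap_apply_of_ne_of_ne hab hac, Equiv.swap_apply_left]

lemma cyc_mem_pfix {S : Finset (Fin n)} {a b c : Fin n} (hab : a ≠ b) (hbc : b ≠ c)
    (ha : a ∉ S) (hb : b ∉ S) (hc : c ∉ S) : cyc a b c hab hbc ∈ pfix S := fun i hi =>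
  cyc_apply_other hab hbc (fun h => ha (h ▸ hi)) (fun h => hb (h ▸ hi)) (fun h => hc (h ▸ hi))

lemma exists_two (T : Finset (Fin n)) (hT : 2 ≤ T.card) : ∃ x ∈ T, ∃ y ∈ T, x ≠ y :=
  Finset.one_lt_card.mp hT

/-- A point outside `S` is moved by some element fixing `S`, if three points lie outside `S`. -/
lemma exists_moved {S : Finset (Fin n)} (hS : S.card + 3 ≤ n) {a : Fin n} (ha : a ∉ S) :
    ∃ g ∈ pfix S, (g : Perm (Fin n)) a ≠ a := by
  obtain ⟨x, hx, y, hy, hxy⟩ := exists_two ((insert a S)ᶜ) (by
    rw [Finset.card_compl, Finset.card_insert_of_notMem ha, Fintype.card_fin]; omega)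
  simp only [Finset.mem_compl, Finset.mem_insert, not_or] at hx hy
  exact ⟨cyc a x y (Ne.symm hx.1) hxy, cyc_mem_pfix _ _ ha hx.2 hy.2,
    by rw [cyc_apply_first _ _ (Ne.symm hy.1)]; exact hx.1⟩

lemma map_pfix (S : Finset (Fin n)) (g : alternatingGroup (Fin n)) :
    (pfix S).map (MulAut.conj g).toMonoidHom = pfix (S.image (g : Perm (Fin n))) := by
  ext h
  rw [Subgroup.mem_map_equiv, mem_pfix, mem_pfix]
  simp only [Finset.forall_mem_image, MulEquiv.coe_toMonoidHom, MulAut.conj_symm_apply,
    Subgroup.coe_mul, InvMemClass.coe_inv, Perm.mul_apply]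
  exact forall₂_congr fun i _ => Perm.inv_eq_iff_eq

lemma eq_of_pfix_eq {S T : Finset (Fin n)} (hS : S.card + 3 ≤ n) (h : pfix S ≤ pfix T) : T ⊆ S := by
  intro a ha
  by_contra haS
  obtain ⟨g, hg, hne⟩ := exists_moved hS haS
  exact hne (h hg a ha)

lemma mem_normalizer_pfix {S : Finset (Fin n)} (hS : S.card + 3 ≤ n) (g : alternatingGroup (Fin n)) :
    g ∈ Subgroup.normalizer (pfix S : Set (alternatingGroup (Fin n))) ↔
      S.image (g : Perm (Fin n)) = S := by
  have hc : (S.image (g : Perm (Fin n))).card = S.card :=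
    Finset.card_image_of_injective _ (g : Perm (Fin n)).injective
  constructor
  · intro hg
    have h1 : (pfix S).map (MulAut.conj g).toMonoidHom = pfix S := by
      ext h
      rw [Subgroup.mem_map_equiv, MulAut.conj_symm_apply]
      exact (Subgroup.mem_normalizer_iff''.mp hg h).symm
    rw [map_pfix] at h1
    exact Finset.eq_of_subset_of_card_le (eq_of_pfix_eq hS h1.ge) hc.ge
  · intro hg
    refine Subgroup.mem_normalizer_iff''.mpr fun h => ?_
    have h1 := SetLike.ext_iff.mp (map_pfix S g) h
    rw [hg, Subgroup.mem_map_equiv, MulAut.conj_symm_apply] at h1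
    exact h1.symm

lemma centralizer_pfix {S : Finset (Fin n)} (hS : S.card + 5 ≤ n) :
    Subgroup.centralizer (pfix S : Set (alternatingGroup (Fin n))) = pfix Sᶜ := by
  ext g
  rw [Subgroup.mem_centralizer_iff]
  constructor
  · intro hg a ha
    rw [Finset.mem_compl] at ha
    by_contra hne
    set b := (g : Perm (Fin n)) a
    obtain ⟨x, hx, y, hy, hxy⟩ := exists_two ((insert b (insert a S))ᶜ) (by
      rw [Finset.card_compl, Fintype.card_fin]
      have h1 := Finset.card_insert_le b (insert a S)
      have h2 := Finset.card_insert_le a S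
      omega)
    simp only [Finset.mem_compl, Finset.mem_insert, not_or] at hx hy
    have := congrArg (fun z : alternatingGroup (Fin n) => (z : Perm (Fin n)) a)
      (hg _ (cyc_mem_pfix (Ne.symm hx.2.1) hxy ha hx.2.2 hy.2.2))
    simp only [Subgroup.coe_mul, Perm.mul_apply] at this
    rw [cyc_apply_first _ _ (Ne.symm hy.2.1), cyc_apply_other _ _ hne (Ne.symm hx.1) (Ne.symm hy.1)] at this
    exact hx.2.1 ((g : Perm (Fin n)).injective this).symm
  · intro hg h hh
    apply Subtype.ext
    ext1 i
    simp only [Subgroup.coe_mul, Perm.mul_apply]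
    by_cases hi : i ∈ S
    · rw [hh i hi]
      have hgi : (g : Perm (Fin n)) i ∈ S := by
        by_contra hgi
        have := (g : Perm (Fin n)).injective (hg _ (Finset.mem_compl.mpr hgi))
        rw [this] at hgi
        exact hgi hi
      rw [hh _ hgi]
    · rw [hg i (Finset.mem_compl.mpr hi)]
      have hhi : (h : Perm (Fin n)) i ∉ S := fun hhi => hi (by
        have := (h : Perm (Fin n)).injective (hh _ hhi)
        rw [this] at hhi
        exact hhi)
      rw [hg _ (Finset.mem_compl.mpr hhi)]

lemma quasisimple_of_simple {H : Type*} [Group H] [IsSimpleGroup H] (h : ∃ a b : H, a * b ≠ b * a) :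
    Cfsg.IsQuasisimple H := by
  obtain ⟨a, b, hab⟩ := h
  have hc : Subgroup.center H = ⊥ := by
    refine ((inferInstance : (Subgroup.center H).Normal).eq_bot_or_eq_top).resolve_right fun h => hab ?_
    exact (Subgroup.mem_center_iff.mp (h ▸ Subgroup.mem_top a) b).symm
  refine ⟨⟨?_⟩, ?_⟩
  · refine ((inferInstance : (commutator H).Normal).eq_bot_or_eq_top).resolve_left fun h => hab ?_
    have := Subgroup.commutator_mem_commutator (Subgroup.mem_top a) (Subgroup.mem_top b)
    rw [← commutator_def, h, Subgroup.mem_bot] at this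
    exact commutatorElement_eq_one_iff_mul_comm.mp this
  · let e : H ⧸ Subgroup.center H ≃* H :=
      (QuotientGroup.quotientMulEquivOfEq hc).trans QuotientGroup.quotientBot
    haveI : Nontrivial (H ⧸ Subgroup.center H) := e.toEquiv.nontrivial
    exact IsSimpleGroup.isSimpleGroup_of_surjective e.symm.toMonoidHom e.symm.surjective

lemma pfix_quasisimple {S : Finset (Fin n)} (hS : S.card + 5 ≤ n) : Cfsg.IsQuasisimple (pfix S) := by
  let T := {i : Fin n // i ∉ S}
  have hT : 5 ≤ Nat.card T := by
    rw [Nat.card_eq_fintype_card, Fintype.card_subtype_compl, Fintype.card_fin, Fintype.card_coe]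
    omega
  let φ : alternatingGroup T →* alternatingGroup (Fin n) :=
    ((Perm.ofSubtype (p := fun i => i ∉ S)).comp (alternatingGroup T).subtype).codRestrict _ fun g =>
      Perm.mem_alternatingGroup.mpr (by
        rw [MonoidHom.comp_apply, Perm.sign_ofSubtype]; exact Perm.mem_alternatingGroup.mp g.2)
  have hφ : Function.Injective φ := fun a b h =>
    Subtype.ext (Perm.ofSubtype_injective (congrArg Subtype.val h))
  have hr : φ.range = pfix S := by
    ext g
    constructor
    · rintro ⟨h, rfl⟩ i hi
      exact Perm.ofSubtype_apply_of_not_mem (p := fun i => i ∉ S) _ (not_not.mpr hi)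
    · intro hg
      let h0 : Perm T := (g : Perm (Fin n)).subtypePerm fun i => by
        constructor
        · intro h hi; apply h; rw [hg i hi]; exact hi
        · intro h hi; apply h
          have := (g : Perm (Fin n)).injective (hg _ hi)
          exact this ▸ hi
      have he : Perm.ofSubtype h0 = (g : Perm (Fin n)) :=
        Perm.ofSubtype_subtypePerm _ fun i hi hiS => hi (hg i hiS)
      refine ⟨⟨h0, Perm.mem_alternatingGroup.mpr ?_⟩, Subtype.ext he⟩
      rw [← Perm.sign_ofSubtype, he]
      exact Perm.mem_alternatingGroup.mp g.2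
  haveI : IsSimpleGroup (alternatingGroup T) := alternatingGroup.isSimpleGroup hT
  let e : alternatingGroup T ≃* pfix S := (MonoidHom.ofInjective hφ).trans (MulEquiv.subgroupCongr hr)
  haveI : Nontrivial (pfix S) := e.toEquiv.symm.nontrivial
  haveI : IsSimpleGroup (pfix S) := IsSimpleGroup.isSimpleGroup_of_surjective e.toMonoidHom e.surjective
    (H := pfix S)
  refine quasisimple_of_simple ?_
  obtain ⟨a, b, ha, hb, hab⟩ : ∃ a b, a ∈ pfix S ∧ b ∈ pfix S ∧ a * b ≠ b * a := by
    by_contra! h
    have hle : pfix S ≤ Subgroup.centralizer (pfix S : Set (alternatingGroup (Fin n))) :=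
      fun a ha => Subgroup.mem_centralizer_iff.mpr fun b hb => h b a hb ha
    rw [centralizer_pfix hS] at hle
    have := eq_of_pfix_eq (by omega) hle
    obtain ⟨x, hx⟩ := Finset.card_pos.mp (show 0 < Sᶜ.card by
      rw [Finset.card_compl, Fintype.card_fin]; omega)
    exact Finset.mem_compl.mp hx (this hx)
  exact ⟨⟨a, ha⟩, ⟨b, hb⟩, fun h => hab (congrArg Subtype.val h)⟩

/-- For n ≥ 9, the subgroup of the alternating group on Fin n fixing each of the points 0, 1, 2, 3 is a standard subgroup. -/
theorem result (n : ℕ) (h4 : 4 ≤ n) (hn : 9 ≤ n) : Cfsg.IsStandardSubgroup (⨅ i : Fin 4, MulAction.stabilizer ↥(alternatingGroup (Fin n)) (Fin.castLE h4 i : Fin n)) := by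
  let D : Finset (Fin n) := Finset.univ.image (Fin.castLE h4)
  have hD : D.card = 4 := by
    rw [Finset.card_image_of_injective _ (Fin.castLE_injective h4), Finset.card_fin]
  have hC : Dᶜ.card = n - 4 := by rw [Finset.card_compl, Fintype.card_fin, hD]
  have hL : (⨅ i : Fin 4, MulAction.stabilizer ↥(alternatingGroup (Fin n)) (Fin.castLE h4 i : Fin n)) =
      pfix D := by
    ext g
    simp only [Subgroup.mem_iInf, MulAction.mem_stabilizer_iff, mem_pfix, D,
      Finset.forall_mem_image, Finset.mem_univ, forall_true_left]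
    rfl
  rw [hL]
  have hK := centralizer_pfix (S := D) (by omega)
  refine ⟨pfix_quasisimple (by omega), ?_, ?_, ?_⟩
  · rw [hK]
    refine ⟨?_, fun g hg => ?_⟩
    · obtain ⟨a, ha, b, hb, hab⟩ := exists_two D (by omega)
      obtain ⟨c, hc, d, hd, hcd⟩ := exists_two (D \ {a, b}) (by
        have := Finset.le_card_sdiff {a, b} D
        rw [Finset.card_pair hab] at this
        omega)
      simp only [Finset.mem_sdiff, Finset.mem_insert, Finset.mem_singleton, not_or] at hc hd
      let t : alternatingGroup (Fin n) := ⟨Equiv.swap a b * Equiv.swap c d, by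
        rw [Perm.mem_alternatingGroup, map_mul, Perm.sign_swap hab, Perm.sign_swap hcd]; rfl⟩
      have ht : t ∈ pfix Dᶜ := fun i hi => by
        rw [Finset.mem_compl] at hi
        show Equiv.swap a b (Equiv.swap c d i) = i
        rw [Equiv.swap_apply_of_ne_of_ne (show i ≠ c from fun h => hi (by rw [h]; exact hc.1)) (show i ≠ d from fun h => hi (by rw [h]; exact hd.1)),
          Equiv.swap_apply_of_ne_of_ne (show i ≠ a from fun h => hi (by rw [h]; exact ha)) (show i ≠ b from fun h => hi (by rw [h]; exact hb))]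
      have hta : (t : Perm (Fin n)) a = b := by
        show Equiv.swap a b (Equiv.swap c d a) = b
        rw [Equiv.swap_apply_of_ne_of_ne (Ne.symm hc.2.1) (Ne.symm hd.2.1), Equiv.swap_apply_left]
      have htb : (t : Perm (Fin n)) b = a := by
        show Equiv.swap a b (Equiv.swap c d b) = a
        rw [Equiv.swap_apply_of_ne_of_ne (Ne.symm hc.2.2) (Ne.symm hd.2.2), Equiv.swap_apply_right]
      have hsq : t * t = 1 := by
        apply Subtype.ext
        show (Equiv.swap a b * Equiv.swap c d) * (Equiv.swap a b * Equiv.swap c d) = 1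
        have hcomm : Commute (Equiv.swap a b) (Equiv.swap c d) :=
          (Perm.Disjoint.commute (fun i => by
            by_cases h1 : i = a
            · right; subst h1; exact Equiv.swap_apply_of_ne_of_ne (Ne.symm hc.2.1) (Ne.symm hd.2.1)
            by_cases h2 : i = b
            · right; subst h2; exact Equiv.swap_apply_of_ne_of_ne (Ne.symm hc.2.2) (Ne.symm hd.2.2)
            left; exact Equiv.swap_apply_of_ne_of_ne h1 h2))
        rw [mul_assoc, ← mul_assoc (Equiv.swap c d), ← hcomm.eq]
        simp [mul_assoc]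
      have hord : orderOf (⟨t, ht⟩ : pfix Dᶜ) = 2 := by
        refine orderOf_eq_prime (by rw [pow_two]; exact Subtype.ext hsq) fun h => hab ?_
        have h1 : (t : Perm (Fin n)) a = a := by rw [show t = 1 from congrArg Subtype.val h]; rfl
        exact h1.symm.trans hta
      exact even_iff_two_dvd.mpr (hord ▸ orderOf_dvd_natCard _)
    · rw [mem_normalizer_pfix (by omega)] at hg
      rw [← Nat.not_even_iff_odd]
      intro hev
      haveI : Fact (Nat.Prime 2) := ⟨Nat.prime_two⟩
      obtain ⟨t, ht⟩ := exists_prime_orderOf_dvd_card' 2 (even_iff_two_dvd.mp hev)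
      obtain ⟨ht1, ht2⟩ := t.2
      replace ht2 := (SetLike.ext_iff.mp (map_pfix _ g) _).mp ht2
      set σ : Perm (Fin n) := ((t : alternatingGroup (Fin n)) : Perm (Fin n)) with hσ
      have hσ2 : σ ^ 2 = 1 := by
        have := pow_orderOf_eq_one t
        rw [ht] at this
        exact congrArg Subtype.val (congrArg Subtype.val this)
      have hσ1 : σ ≠ 1 := by
        intro h
        have h1 : t = 1 := Subtype.ext (Subtype.ext h)
        rw [h1, orderOf_one] at ht
        omega
      have hsub : σ.support ⊆ (Dᶜ ∪ Dᶜ.image (g : Perm (Fin n)))ᶜ := by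
        intro i hi
        rw [Finset.mem_compl, Finset.mem_union]
        rintro (h | h)
        · exact Perm.mem_support.mp hi (ht1 i h)
        · exact Perm.mem_support.mp hi (ht2 i h)
      have hlt : Dᶜ.card < (Dᶜ ∪ Dᶜ.image (g : Perm (Fin n))).card := by
        refine Finset.card_lt_card (Finset.ssubset_iff_subset_ne.mpr ⟨Finset.subset_union_left, ?_⟩)
        intro h
        refine hg (Finset.eq_of_subset_of_card_le ?_
          (Finset.card_image_of_injective _ (g : Perm (Fin n)).injective).ge)
        conv_rhs => rw [h]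
        exact Finset.subset_union_right
      have h3 : σ.support.card ≤ 3 := by
        have := Finset.card_le_card hsub
        rw [Finset.card_compl, Fintype.card_fin] at this
        omega
      have h2 := Perm.two_dvd_card_support hσ2
      have h0 : σ.support.card ≠ 0 := by simpa using hσ1
      have hsw : σ.IsSwap := Perm.card_support_eq_two.mp (by omega)
      have := Perm.mem_alternatingGroup.mp (t : alternatingGroup (Fin n)).2
      rw [← hσ, Perm.IsSwap.sign_eq hsw] at this
      exact absurd this (by decide)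
  · intro g _ hbot
    rw [Subgroup.commutator_eq_bot_iff_le_centralizer] at hbot
    have hle : (pfix D).map (MulAut.conj g).toMonoidHom ≤ pfix Dᶜ := by
      rw [← hK]
      exact Subgroup.le_centralizer_iff.mp hbot
    rw [map_pfix] at hle
    have hcard : (D.image (g : Perm (Fin n))).card = 4 := by
      rw [Finset.card_image_of_injective _ (g : Perm (Fin n)).injective, hD]
    have := Finset.card_le_card (eq_of_pfix_eq (by omega) hle)
    omega
  · rw [hK]
    ext g
    rw [mem_normalizer_pfix (by omega), mem_normalizer_pfix (by omega),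
      Finset.compl_eq_univ_sdiff, Finset.image_sdiff _ _ (g : Perm (Fin n)).injective,
      Finset.image_univ_equiv, ← Finset.compl_eq_univ_sdiff, ← Finset.compl_eq_univ_sdiff, compl_inj_iff]

end Cfsg.Agent.S1323
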