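import Cfsg.Statements.S1328
import Cfsg.Agent.H40.BalanceMap
import Mathlib.Tactic.Group

set_option autoImplicit false
open Cfsg
open scoped commutatorElement

namespace Cfsg.Agent.S1328

/-- Let G be finite, H ≤ G with O(H) = 1, t an involution of G normalizing H, and Y a nontrivial subgroup of O(C_H(t)). Then some component E of H is normalized by t and by Y and centralized by neither t nor Y. -/
theorem result {G : Type*} [Group G] [Finite G] (H : Subgroup G) (hO : Cfsg.oddCore ↥H = ⊥) (t : G) (ht : orderOf t = 2) (htH : t ∈ Subgroup.normalizer (H : Set G)) (Y : Subgroup G) (hY1 : Y ≠ ⊥) (hY : Y ≤ (Cfsg.oddCore ↥(H ⊓ Subgroup.centralizer ({t} : Set G))).map (H ⊓ Subgroup.centralizer ({t} : Set G)).subtype) : ∃ E : Subgroup ↥H, Cfsg.IsComponent E ∧ (E.map H.subtype).map (MulAut.conj t).toMonoidHom = E.map H.subtype ∧ Y ≤ Subgroup.normalizer ((E.map H.subtype : Subgroup G) : Set G) ∧ ¬ (t ∈ Subgroup.centralizer ((E.map H.subtype : Subgroup G) : Set G)) ∧ ¬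 (Y ≤ Subgroup.centralizer ((E.map H.subtype : Subgroup G) : Set G)) := by
  obtain ⟨T, hT⟩ : ∃ T, T = H ⊔ Subgroup.zpowers t := ⟨_, rfl⟩
  have hHT : H ≤ T := hT ▸ le_sup_left
  have htT : t ∈ T := hT ▸ Subgroup.mem_sup_right (Subgroup.mem_zpowers t)
  have hTN : T ≤ Subgroup.normalizer (H : Set G) :=
    hT ▸ sup_le Subgroup.le_normalizer (Subgroup.zpowers_le.mpr htH)
  have ht2 : t * t = 1 := by rw [← pow_two, ← ht, pow_orderOf_eq_one]
  haveI hHn : (H.subgroupOf T).Normal := (Subgroup.normal_subgroupOf_iff_le_normalizer hHT).mpr hTN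
  have hsq : ∀ v : ↥T, v * v ∈ H.subgroupOf T := by
    intro v
    have hv : (v : G) ∈ H ⊔ Subgroup.zpowers t := hT ▸ v.2
    obtain ⟨a, ha, b, hb, hab⟩ :=
      (Coprime.mem_sup_iff (Subgroup.zpowers_le.mpr htH)).mp hv
    show (v : G) * v ∈ H
    rw [← hab]
    have hbb : b * b = 1 := by
      obtain ⟨k, rfl⟩ := Subgroup.mem_zpowers_iff.mp hb
      rw [← ((Commute.refl t).zpow_zpow k k).eq]
      rw [← zpow_add, ← two_mul, zpow_mul]
      rw [show t ^ (2 : ℤ) = 1 by rw [zpow_two]; exact ht2, one_zpow]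
    have hbinv : b⁻¹ = b := inv_eq_of_mul_eq_one_right hbb
    have hbN : b ∈ Subgroup.normalizer (H : Set G) := Subgroup.zpowers_le.mpr htH hb
    rw [show a * b * (a * b) = a * (b * a * b⁻¹) * (b * b) by group, hbb, mul_one]
    exact H.mul_mem ha ((Subgroup.mem_normalizer_iff.mp hbN a).mp ha)
  have hOT : Cfsg.pPrimeCore 2 ↥T = ⊥ := by
    have hle : Cfsg.pPrimeCore 2 ↥T ≤ H.subgroupOf T := by
      intro o ho
      have hodd : Odd (orderOf o) := by
        refine (Cores.odd_card_oddCore (G := ↥T)).of_dvd_nat ?_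
        rw [← Subgroup.orderOf_mk o ho]
        exact orderOf_dvd_natCard _
      obtain ⟨m, hm⟩ := hodd
      have h1 : o = (o ^ (m + 1)) * (o ^ (m + 1)) := by
        rw [← pow_add, show m + 1 + (m + 1) = orderOf o + 1 by omega, pow_add, pow_orderOf_eq_one,
          one_mul, pow_one]
      rw [h1]
      exact hsq _
    have h1 := (le_inf le_rfl hle).trans (Cores.map_pPrimeCore_of_normal (H.subgroupOf T)).ge
    have h2 : Cfsg.pPrimeCore 2 ↥(H.subgroupOf T) = ⊥ := by
      rw [← Cores.pPrimeCore_map_mulEquiv (Subgroup.subgroupOfEquivOfLe hHT).symm,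
        show Cfsg.pPrimeCore 2 ↥H = ⊥ from hO, Subgroup.map_bot]
    rw [h2, Subgroup.map_bot, le_bot_iff] at h1
    exact h1
  set CH := H ⊓ Subgroup.centralizer ({t} : Set G)
  set Y₀ := (Cfsg.oddCore ↥CH).map CH.subtype with hY₀
  have hY₀H : Y₀ ≤ CH := Subgroup.map_subtype_le _
  have hnorm : T ⊓ Subgroup.centralizer ({t} : Set G) ≤ Subgroup.normalizer (Y₀ : Set G) := by
    intro g hg
    have hgCH : g ∈ Subgroup.normalizer (CH : Set G) :=
      Subgroup.inf_normalizer_le_normalizer_inf ⟨hTN hg.1, Subgroup.le_normalizer hg.2⟩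
    rw [Subgroup.mem_normalizer_iff_map_conj_eq]
    show Y₀.map (MulAut.conj g).toMonoidHom = Y₀
    conv_rhs => rw [hY₀, show Cfsg.oddCore ↥CH = (Cfsg.oddCore ↥CH).map
      (CH.normalizerMonoidHom ⟨g, hgCH⟩).toMonoidHom from (Cores.pPrimeCore_map_mulEquiv _).symm]
    rw [hY₀, Subgroup.map_map, Subgroup.map_map]
    rfl
  set x : ↥T := ⟨t, htT⟩
  have hxo : orderOf x = 2 := by rw [Subgroup.orderOf_mk]; exact ht
  have hsig : H40.IsCentralSignalizer 2 x (Y₀.subgroupOf T) := by
    refine ⟨⟨1, by rw [pow_one, ← hxo, pow_orderOf_eq_one]⟩, ?_, ?_, ?_⟩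
    · intro v hv
      exact Subgroup.mem_centralizer_singleton_iff.mpr (Subtype.ext
        (Subgroup.mem_centralizer_singleton_iff.mp (hY₀H hv).2))
    · refine le_trans ?_ (Subgroup.le_normalizer_comap _)
      intro v hv
      exact hnorm ⟨v.2, Subgroup.mem_centralizer_singleton_iff.mpr
        (congrArg Subtype.val (Subgroup.mem_centralizer_singleton_iff.mp hv))⟩
    · rw [Nat.card_congr (Subgroup.subgroupOfEquivOfLe (hY₀H.trans (inf_le_left.trans hHT))).toEquiv,
        hY₀, Subgroup.card_map_of_injective CH.subtype_injective]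
      exact Cores.coprime_card_pPrimeCore
  have hYH : Y ≤ H := hY.trans (hY₀H.trans inf_le_left)
  have hYle : Y.subgroupOf T ≤ Y₀.subgroupOf T := Subgroup.comap_mono hY
  obtain ⟨L, hL, hLY⟩ : ∃ L : Subgroup ↥T, Cfsg.IsComponent L ∧
      ¬ Y.subgroupOf T ≤ Subgroup.centralizer (L : Set ↥T) := by
    by_contra hcon
    push Not at hcon
    refine hY1 ?_
    have h0 := H40.eq_bot_of_centralizes hOT
      (hsig.coprime.coprime_dvd_left (Subgroup.card_dvd_of_le hYle))
      (hYle.trans (H40.sig_le_centralizer_pCore hsig)) hcon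
    rw [← Components.map_subgroupOf (hYH.trans hHT), h0, Subgroup.map_bot]
  have hxL : ¬ (x ∈ Subgroup.centralizer (L : Set ↥T) ∨ x ∉ Subgroup.normalizer (L : Set ↥T)) :=
    fun hc => hLY (hYle.trans (H40.sig_le_centralizer hOT hxo hsig hL hc))
  push Not at hxL
  have hYN := hYle.trans (H40.sig_le_normalizer hOT hsig hL)
  have hLH : L.map T.subtype ≤ H := by
    rintro _ ⟨l, hl, rfl⟩
    rw [← Components.component_perfect hL] at hl
    refine (Subgroup.closure_le (K := H.subgroupOf T)).mpr ?_ hl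
    rintro _ ⟨a, -, b, -, rfl⟩
    have hc : ∀ u v : ↥T, (u * v * u⁻¹ * v⁻¹ : ↥T) ∈ H.subgroupOf T := by
      intro u v
      rw [show u * v * u⁻¹ * v⁻¹ = (u * v) * (u * v) * ((v⁻¹ * u⁻¹) * (u⁻¹ * u⁻¹) * (v⁻¹ * u⁻¹)⁻¹) *
        (v⁻¹ * v⁻¹) by group]
      exact mul_mem (mul_mem (hsq _) ((inferInstance : (H.subgroupOf T).Normal).conj_mem _ (hsq _) _))
        (hsq _)
    exact hc a b
  set E := (L.map T.subtype).subgroupOf H with hE
  have hEmap : E.map H.subtype = L.map T.subtype := Components.map_subgroupOf hLH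
  have hEc : Cfsg.IsComponent E := by
    refine ⟨?_, Components.qs_congr ((L.equivMapOfInjective _ T.subtype_injective).trans
      (Subgroup.subgroupOfEquivOfLe hLH).symm) hL.2⟩
    have h2 := hL.1.comap (Subgroup.inclusion hHT)
    convert h2 using 1
    ext v
    simp only [hE, Subgroup.mem_subgroupOf, Subgroup.mem_map, Subgroup.mem_comap]
    constructor
    · rintro ⟨l, hl, hlv⟩
      convert hl
      exact Subtype.ext hlv.symm
    · exact fun hv => ⟨_, hv, rfl⟩
  refine ⟨E, hEc, ?_, ?_, ?_, ?_⟩ <;> rw [hEmap]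
  · have h1 := H40.cj_eq_iff.mpr hxL.2
    have h2 := congrArg (Subgroup.map T.subtype) h1
    rw [H40.cj, Subgroup.map_map] at h2
    rw [Subgroup.map_map]
    exact h2
  · intro y hy
    exact Subgroup.le_normalizer_map T.subtype ⟨⟨y, hHT (hYH hy)⟩, hYN hy, rfl⟩
  · intro hc
    refine hxL.1 (Subgroup.mem_centralizer_iff.mpr fun l hl => Subtype.ext ?_)
    exact Subgroup.mem_centralizer_iff.mp hc l ⟨l, hl, rfl⟩
  · intro hc
    refine hLY fun v hv => Subgroup.mem_centralizer_iff.mpr fun l hl => Subtype.ext ?_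
    exact Subgroup.mem_centralizer_iff.mp (hc hv) l ⟨l, hl, rfl⟩

end Cfsg.Agent.S1328
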