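import Cfsg.Statements.S1331
import Cfsg.Agent.H40.Generation

set_option autoImplicit false
open Cfsg

namespace Cfsg.Agent.S1331

/-- Let θ be a solvable A-signalizer functor on the finite group G for the prime p, A elementary abelian of rank at least 3, X a member of the family of θ, and B ≤ A with |B| ≥ p². Then X is generated by the subgroups X ∩ ⋂_{d ∈ D, d ≠ 1} θ d, D ranging over the subgroups of index p in B. -/
theorem result {G : Type*} [Group G] [Finite G] (p : ℕ) [Fact p.Prime] (A : Subgroup G) (hA : Cfsg.IsElementaryAbelian p A) (hA3 : p ^ 3 ≤ Nat.card ↥A) (θ : G → Subgroup G) (hθ : Cfsg.IsSolvableSignalizerFunctor p A θ) (X : Subgroup G) (hX : X ∈ Cfsg.signalizerFamily p A θ) (B : Subgroup G) (hB : B ≤ A) (hB2 : p ^ 2 ≤ Nat.card ↥B) : X = ⨆ D : {D : Subgroup G // D ≤ B ∧ D.relIndex B = p}, X ⊓ Cfsg.signalizerInf (D : Subgroup G) θ := by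
  have hBel := H40.elemAb_mono hA hB
  have hXA : A ≤ Subgroup.normalizer (X : Set G) := by
    intro b hb
    rw [Subgroup.mem_normalizer_iff]
    intro u
    refine ⟨hX.2.2.1 b hb u, fun h => ?_⟩
    have := hX.2.2.1 b⁻¹ (A.inv_mem hb) _ h
    simpa [mul_assoc] using this
  refine le_antisymm (H40.le_of_hyperplanes hBel hX.2.1 (hB.trans hXA) fun D hD hi => ?_)
    (iSup_le fun D => inf_le_left)
  have key : ∀ D' : Subgroup G, D' ≤ D → D'.relIndex B = p →
      X ⊓ Subgroup.centralizer (D : Set G) ≤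
        ⨆ D : {D : Subgroup G // D ≤ B ∧ D.relIndex B = p},
          X ⊓ Cfsg.signalizerInf (D : Subgroup G) θ := by
    intro D' hD' hi'
    refine le_trans (le_inf inf_le_left ?_) (le_iSup_of_le ⟨D', hD'.trans hD, hi'⟩ le_rfl)
    refine le_iInf ?_
    rintro ⟨d, hd, hd1⟩
    exact le_trans (inf_le_inf_left X (H40.mem_centralizer_singleton_of (hD' hd)))
      (hX.2.2.2 d (hB (hD (hD' hd))) hd1)
  rcases eq_or_ne (D.relIndex B) p with h | h
  · exact key D le_rfl h
  · have hne : B ≠ ⊥ := by
      rintro rfl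
      rw [Subgroup.card_bot] at hB2
      exact absurd hB2 (not_le.mpr (Nat.one_lt_pow (by norm_num) (Fact.out : p.Prime).one_lt))
    have hdvd : D.relIndex B ∣ Nat.card ↥B := Subgroup.relIndex_dvd_card D B
    obtain ⟨n, hn⟩ := IsPGroup.iff_card.mp (H40.elemAb_isPGroup hBel)
    rw [hn, Nat.dvd_prime_pow Fact.out] at hdvd
    obtain ⟨j, -, hj⟩ := hdvd
    have hj0 : j = 0 := by
      rcases j with _ | _ | j
      · rfl
      · exact absurd (by simpa using hj) h
      · exfalso
        have h2 := (Fact.out : p.Prime).two_le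
        have : p * p ≤ D.relIndex B := by
          rw [hj]; exact (pow_two p).ge.trans (Nat.pow_le_pow_right (by omega) (by omega))
        nlinarith
    have hBD : B ≤ D := Subgroup.relIndex_eq_one.mp (by rw [hj, hj0, pow_zero])
    obtain ⟨D', hD', hi'⟩ := H40.exists_hyperplane hBel hne
    exact key D' (hD'.trans hBD) hi'

end Cfsg.Agent.S1331
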