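import Cfsg.Statements.S1335


set_option autoImplicit false
open Cfsg

namespace Cfsg.Agent.S1335

/-- Let H be a subgroup of the finite group G, p a prime, k ≥ 1, P a Sylow p-subgroup of H of p-rank at least k, and suppose N_G(X) ≤ H for every subgroup X ≤ P of p-rank at least k. Then P is a Sylow p-subgroup of G. -/
theorem result {G : Type*} [Group G] [Finite G] {p : ℕ} [Fact p.Prime] (k : ℕ) (hk : 1 ≤ k) (H : Subgroup G) (P : Sylow p ↥H) (hP : ¬ Cfsg.PRankLE p (k - 1) ↥(P : Subgroup ↥H)) (hΓ : (∀ X : Subgroup G, X ≤ (P : Subgroup ↥H).map H.subtype → ¬ Cfsg.PRankLE p (k - 1) ↥X → Subgroup.normalizer (X : Set G) ≤ H)) : ∃ Q : Sylow p G, (Q : Subgroup G) = (P : Subgroup ↥H).map H.subtype := by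
  set Q : Subgroup G := (P : Subgroup ↥H).map H.subtype with hQdef
  have hQH : Q ≤ H := Subgroup.map_subtype_le _
  have hQp : IsPGroup p ↥Q := P.isPGroup'.map _
  have hrk : ¬ Cfsg.PRankLE p (k - 1) ↥Q := by
    let e : ↥(P : Subgroup ↥H) ≃* ↥Q :=
      Subgroup.equivMapOfInjective _ H.subtype H.subtype_injective
    intro hQ
    apply hP
    intro A hA hAp
    have h1 := hQ (A.map e.toMonoidHom) inferInstance (by
      rintro a ⟨b, hb, rfl⟩
      rw [← map_pow, hAp b hb, map_one])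
    rwa [← Nat.card_congr (A.equivMapOfInjective e.toMonoidHom e.injective).toEquiv] at h1
  have hN : Subgroup.normalizer (Q : Set G) ≤ H := hΓ Q le_rfl hrk
  obtain ⟨T, hT⟩ := hQp.exists_le_sylow
  refine ⟨T, ?_⟩
  by_contra hne
  have hlt : Q < (T : Subgroup G) := lt_of_le_of_ne hT (fun h => hne h.symm)
  set Q' := Q.subgroupOf (T : Subgroup G) with hQ'
  have hQ'top : Q' < ⊤ := lt_top_iff_ne_top.mpr (fun h => hlt.not_ge (Subgroup.subgroupOf_eq_top.mp h))
  haveI : Group.IsNilpotent ↥(T : Subgroup G) := T.isPGroup'.isNilpotent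
  have hgrow := normalizerCondition_of_isNilpotent Q' hQ'top
  obtain ⟨x, hx, hxQ⟩ := SetLike.exists_of_lt hgrow
  have hxn : (x : G) ∈ Subgroup.normalizer (Q : Set G) := by
    rw [Subgroup.mem_normalizer_iff] at hx ⊢
    intro g
    constructor
    · intro hg
      have := (hx ⟨g, hlt.le hg⟩).mp hg
      exact this
    · intro hg
      have hgT : g ∈ (T : Subgroup G) := by
        have h2 := (T : Subgroup G).mul_mem ((T : Subgroup G).mul_mem ((T : Subgroup G).inv_mem x.2) (hlt.le hg)) x.2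
        simpa [mul_assoc] using h2
      exact (hx ⟨g, hgT⟩).mpr hg
  have hxH : (x : G) ∈ H := hN hxn
  have hTH : (P : Subgroup ↥H) ≤ (T : Subgroup G).subgroupOf H := fun y hy => hlt.le ⟨y, hy, rfl⟩
  have hTHp : IsPGroup p ↥((T : Subgroup G).subgroupOf H) := T.isPGroup'.comap_subtype
  have heq := P.is_maximal' hTHp hTH
  apply hxQ
  show (x : G) ∈ Q
  exact ⟨⟨x, hxH⟩, heq ▸ (show (⟨x, hxH⟩ : ↥H) ∈ (T : Subgroup G).subgroupOf H from x.2), rfl⟩

end Cfsg.Agent.S1335
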