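import Cfsg.Statements.S1336
import Cfsg.Agent.H40.Generation
import Cfsg.Agent.H40.Conj
import Cfsg.Agent.PGroups.Basic

set_option autoImplicit false
open Cfsg

namespace Cfsg.Agent.S1336

/-- Let G be finite and p prime. Then G has a proper subgroup H with p ∣ |H| and p ∤ |H ∩ gHg⁻¹| for every g ∉ H (a strongly p-embedded subgroup) if and only if G is not 1-connected for p. -/
theorem result {G : Type*} [Group G] [Finite G] (p : ℕ) [Fact p.Prime] : (∃ H : Subgroup G, H ≠ ⊤ ∧ p ∣ Nat.card ↥H ∧ ∀ g : G, g ∉ H → ¬ p ∣ Nat.card ↥(H ⊓ H.map (MulAut.conj g).toMonoidHom)) ↔ ¬ Cfsg.IsKConnected p 1 G := by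
  classical
  have hP : p.Prime := Fact.out
  set r : Subgroup G → Subgroup G → Prop := fun A B => Cfsg.IsElementaryAbelian p A ∧
    p ^ 1 ≤ Nat.card ↥A ∧ Cfsg.IsElementaryAbelian p B ∧ p ^ 1 ≤ Nat.card ↥B ∧
    ∀ a ∈ A, ∀ b ∈ B, a * b = b * a with hr
  have hz : ∀ z : G, orderOf z = p → Cfsg.IsElementaryAbelian p (Subgroup.zpowers z) ∧
      p ^ 1 ≤ Nat.card ↥(Subgroup.zpowers z) := by
    intro z hz
    refine ⟨⟨inferInstance, fun a ha => ?_⟩, by rw [Nat.card_zpowers, hz, pow_one]⟩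
    obtain ⟨n, rfl⟩ := Subgroup.mem_zpowers_iff.mp ha
    rw [← zpow_natCast, ← zpow_mul, mul_comm, zpow_mul, zpow_natCast, ← hz, pow_orderOf_eq_one,
      one_zpow]
  have hbot : ∀ A : Subgroup G, p ^ 1 ≤ Nat.card ↥A → A ≠ ⊥ := by
    rintro A h rfl
    rw [Subgroup.card_bot, pow_one] at h
    exact absurd h (not_le.mpr hP.one_lt)
  have hsymm : ∀ A B, Relation.ReflTransGen r A B → Relation.ReflTransGen r B A := fun A B h =>
    Relation.ReflTransGen.mono (fun _ _ ⟨a, b, c, d, e⟩ =>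
      ⟨c, d, a, b, fun y hy x hx => (e x hx y hy).symm⟩) _ _
      (Relation.reflTransGen_swap.mpr h)
  have hcjv : ∀ (g : G) (A : Subgroup G), Cfsg.IsElementaryAbelian p A → p ^ 1 ≤ Nat.card ↥A →
      Cfsg.IsElementaryAbelian p (H40.cj g A) ∧ p ^ 1 ≤ Nat.card ↥(H40.cj g A) := by
    intro g A hA hc
    refine ⟨⟨⟨⟨fun u v => Subtype.ext ?_⟩⟩, ?_⟩, by rwa [H40.card_cj]⟩
    · obtain ⟨a, ha, e1⟩ := u.2
      obtain ⟨b, hb, e2⟩ := v.2
      show (u : G) * v = v * u
      rw [← e1, ← e2, ← map_mul, ← map_mul, H40.elemAb_commute hA ha hb]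
    · rintro _ ⟨a, ha, rfl⟩
      rw [← map_pow, hA.2 a ha, map_one]
  have hcj : ∀ (g : G) A B, Relation.ReflTransGen r A B →
      Relation.ReflTransGen r (H40.cj g A) (H40.cj g B) := by
    intro g A B h
    refine Relation.ReflTransGen.lift (H40.cj g) ?_ _ _ h
    rintro U V ⟨a, b, c, d, e⟩
    refine ⟨(hcjv g U a b).1, (hcjv g U a b).2, (hcjv g V c d).1, (hcjv g V c d).2, ?_⟩
    rintro _ ⟨u, hu, rfl⟩ _ ⟨v, hv, rfl⟩
    rw [← map_mul, ← map_mul, e u hu v hv]
  have hconn : ∀ (K A B : Subgroup G), A ≤ K → B ≤ K → Cfsg.IsElementaryAbelian p A →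
      p ^ 1 ≤ Nat.card ↥A → Cfsg.IsElementaryAbelian p B → p ^ 1 ≤ Nat.card ↥B →
      (∀ h ∈ K, Relation.ReflTransGen r A (H40.cj h A)) → Relation.ReflTransGen r A B := by
    intro K A B hAK hBK hA hAc hB hBc hK
    obtain ⟨S, hS⟩ := ((H40.elemAb_isPGroup hA).comap_subtype (K := K)).exists_le_sylow
    obtain ⟨T, hT⟩ := ((H40.elemAb_isPGroup hB).comap_subtype (K := K)).exists_le_sylow
    obtain ⟨c, hc⟩ := MulAction.exists_smul_eq K S T
    set S₀ := (S : Subgroup K).map K.subtype with hS₀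
    have hAS : A ≤ S₀ := fun a ha => ⟨⟨a, hAK ha⟩, hS ha, rfl⟩
    have hS₀p : IsPGroup p S₀ := S.isPGroup'.map _
    obtain ⟨z, -, hzc, hzo⟩ := PGroups.exists_mem_center_orderOf_eq hS₀p ⊤ (fun h => by
      haveI : Subsingleton S₀ := subsingleton_iff_bot_eq_top.mp h.symm |> Subgroup.subsingleton_iff.mp
      exact hbot A hAc (eq_bot_iff.mpr fun a ha => Subgroup.mem_bot.mpr
        (congrArg Subtype.val (Subsingleton.elim (⟨a, hAS ha⟩ : S₀) 1))))
    have hzo' : orderOf (z : G) = p := by rw [Subgroup.orderOf_coe, hzo]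
    obtain ⟨hZ, hZc⟩ := hz _ hzo'
    have hmid : ∀ U : Subgroup G, Cfsg.IsElementaryAbelian p U → p ^ 1 ≤ Nat.card ↥U → U ≤ S₀ →
        Relation.ReflTransGen r U (Subgroup.zpowers (z : G)) := fun U hU hUc hUS =>
      Relation.ReflTransGen.single ⟨hU, hUc, hZ, hZc, fun u hu v hv => by
        obtain ⟨n, rfl⟩ := Subgroup.mem_zpowers_iff.mp hv
        have h1 : Commute (u : G) (z : G) :=
          congrArg Subtype.val (Subgroup.mem_center_iff.mp hzc ⟨u, hUS hu⟩)
        exact h1.zpow_right n⟩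
    have hBS : H40.cj (c : G)⁻¹ B ≤ S₀ := by
      rintro _ ⟨b, hb, rfl⟩
      have h1 : (⟨b, hBK hb⟩ : K) ∈ ((c • S : Sylow p K) : Subgroup K) := hc.symm ▸ hT hb
      rw [Sylow.coe_subgroup_smul, Subgroup.mem_pointwise_smul_iff_inv_smul_mem] at h1
      exact ⟨_, h1, by simp [MulAut.smul_def]⟩
    have h2 := (hmid A hA hAc hAS).trans (hsymm _ _ (hmid _ (hcjv _ B hB hBc).1 (hcjv _ B hB hBc).2 hBS))
    have h3 := hcj c _ _ h2
    rw [← H40.cj_mul, mul_inv_cancel, H40.cj_one] at h3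
    exact (hK c c.2).trans h3
  constructor
  · rintro ⟨H, hHtop, hHp, hH⟩ hcon
    obtain ⟨x, hx⟩ := exists_prime_orderOf_dvd_card' p hHp
    have hxo : orderOf (x : G) = p := by rw [Subgroup.orderOf_coe, hx]
    obtain ⟨g, hg⟩ : ∃ g : G, g ∉ H := by
      by_contra h
      push Not at h
      exact hHtop (eq_top_iff.mpr fun g _ => h g)
    have hgx : orderOf (g * x * g⁻¹) = p := by
      have := orderOf_injective (MulAut.conj g).toMonoidHom (MulAut.conj g).injective (x : G)
      simpa [hxo] using this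
    have h := hcon _ _ (hz _ hxo).1 (hz _ hxo).2 (hz _ hgx).1 (hz _ hgx).2
    have hle : Subgroup.zpowers (g * x * g⁻¹) ≤ H := by
      change Relation.ReflTransGen r _ _ at h
      have hgen : ∀ A B, Relation.ReflTransGen r A B → A ≤ H → B ≤ H := by
        intro A B hAB hA
        induction hAB with
        | refl => exact hA
        | @tail U V _ hUV ih =>
          obtain ⟨hU, hUc, -, -, hcomm⟩ := hUV
          intro v hv
          by_contra hvH
          obtain ⟨u, hu, hu1⟩ := (Subgroup.bot_or_exists_ne_one U).resolve_left (hbot U hUc)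
          have huo : orderOf u = p := orderOf_eq_prime (hU.2 u hu) hu1
          refine hH v hvH (huo ▸ Subgroup.orderOf_dvd_natCard _ ⟨ih hu, u, ih hu, ?_⟩)
          show v * u * v⁻¹ = u
          rw [← hcomm u hu v hv, mul_inv_cancel_right]
      exact hgen _ _ h (Subgroup.zpowers_le.mpr x.2)
    refine hH g hg (hgx ▸ Subgroup.orderOf_dvd_natCard _
      ⟨hle (Subgroup.mem_zpowers _), ⟨x, x.2, rfl⟩⟩)
  · intro hnc
    simp only [Cfsg.IsKConnected, not_forall] at hnc
    obtain ⟨E, E', hE, hEc, hE', hEc', hne⟩ := hnc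
    change ¬ Relation.ReflTransGen r E E' at hne
    let H : Subgroup G :=
      { carrier := {g | Relation.ReflTransGen r E (H40.cj g E)}
        one_mem' := by rw [Set.mem_setOf_eq, H40.cj_one]
        mul_mem' := fun {a b} ha hb => by
          rw [Set.mem_setOf_eq, H40.cj_mul]
          exact ha.trans (hcj a _ _ hb)
        inv_mem' := fun {a} ha => by
          have h := hcj a⁻¹ _ _ ha
          rw [← H40.cj_mul, inv_mul_cancel, H40.cj_one] at h
          exact hsymm _ _ h }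
    have hEH : E ≤ H := by
      intro f hf
      show Relation.ReflTransGen r E (H40.cj f E)
      rw [H40.cj_eq_iff.mpr (Subgroup.le_normalizer hf)]
    refine ⟨H, fun htop => ?_, ?_, fun g hg hd => hg ?_⟩
    · refine hne (hconn ⊤ E E' le_top le_top hE hEc hE' hEc' fun h _ => ?_)
      exact (htop.symm ▸ Subgroup.mem_top h : h ∈ H)
    · obtain ⟨x, hx, hx1⟩ := (Subgroup.bot_or_exists_ne_one E).resolve_left (hbot E hEc)
      exact orderOf_eq_prime (hE.2 x hx) hx1 ▸ Subgroup.orderOf_dvd_natCard _ (hEH hx)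
    · obtain ⟨y, hy⟩ := exists_prime_orderOf_dvd_card' p hd
      have hyo : orderOf (y : G) = p := by rw [Subgroup.orderOf_coe, hy]
      obtain ⟨w, hw, hwy⟩ := y.2.2
      have hwy' : g * w * g⁻¹ = y := hwy
      have hwo : orderOf w = p := by
        rw [← hyo, ← hwy']
        exact (orderOf_injective (MulAut.conj g).toMonoidHom (MulAut.conj g).injective w).symm
      have h1 := hconn H E _ hEH (Subgroup.zpowers_le.mpr y.2.1) hE hEc (hz _ hyo).1 (hz _ hyo).2
        fun h hh => hh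
      have h2 := hconn H E _ hEH (Subgroup.zpowers_le.mpr hw) hE hEc (hz _ hwo).1 (hz _ hwo).2
        fun h hh => hh
      have h3 := hcj g _ _ h2
      have e : H40.cj g (Subgroup.zpowers w) = Subgroup.zpowers (y : G) := by
        rw [← hwy']
        exact MonoidHom.map_zpowers _ _
      rw [e] at h3
      exact h1.trans (hsymm _ _ h3)

end Cfsg.Agent.S1336
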