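import Cfsg.Statements.S1337
import Cfsg.Agent.PGroups.TwoGroups
import Cfsg.Agent.PGroups.CyclicMaximal
import Cfsg.Agent.Coprime.Centralize
import Cfsg.Agent.S0016

set_option autoImplicit false
open Cfsg

namespace Cfsg.Agent.S1337

section Helpers

open Subgroup

variable {P : Type*} [Group P] [Finite P] {p : ℕ} [hpF : Fact p.Prime]

omit [Finite P] hpF in
theorem comm_of {A : Subgroup P} (hA : IsMulCommutative A) {x y : P} (hx : x ∈ A) (hy : y ∈ A) :
    x * y = y * x :=
  congrArg Subtype.val (hA.is_comm.comm (⟨x, hx⟩ : A) ⟨y, hy⟩)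

omit [Finite P] in
theorem exists_big_le {H : Subgroup P} (h : ¬ Cfsg.PRankLE p 2 H) :
    ∃ E : Subgroup P, Cfsg.IsElementaryAbelian p E ∧ p ^ 3 ≤ Nat.card E ∧ E ≤ H := by
  simp only [Cfsg.PRankLE, not_forall, not_le] at h
  obtain ⟨A, hA, hexp, hlt⟩ := h
  haveI := hA
  have hAP : IsPGroup p A := fun a => ⟨1, Subtype.ext (by simpa using hexp a a.2)⟩
  haveI : Finite A := Nat.finite_of_card_ne_zero (by omega)
  obtain ⟨n, hn⟩ := IsPGroup.iff_card.mp hAP
  refine ⟨A.map H.subtype, ⟨inferInstance, ?_⟩, ?_, map_subtype_le A⟩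
  · rintro _ ⟨a, ha, rfl⟩
    rw [← map_pow, hexp a ha, map_one]
  · rw [card_map_of_injective H.subtype_injective, hn]
    rw [hn] at hlt
    exact Nat.pow_le_pow_right hpF.out.pos ((Nat.pow_lt_pow_iff_right hpF.out.one_lt).mp hlt)

omit [Finite P] in
theorem exists_big (h : ¬ Cfsg.PRankLE p 2 P) :
    ∃ E : Subgroup P, Cfsg.IsElementaryAbelian p E ∧ p ^ 3 ≤ Nat.card E := by
  simp only [Cfsg.PRankLE, not_forall, not_le] at h
  obtain ⟨A, hA, hexp, hlt⟩ := h
  have hAP : IsPGroup p A := fun a => ⟨1, Subtype.ext (by simpa using hexp a a.2)⟩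
  haveI : Finite A := Nat.finite_of_card_ne_zero (by omega)
  obtain ⟨n, hn⟩ := IsPGroup.iff_card.mp hAP
  refine ⟨A, ⟨hA, hexp⟩, ?_⟩
  rw [hn] at hlt ⊢
  exact Nat.pow_le_pow_right hpF.out.pos ((Nat.pow_lt_pow_iff_right hpF.out.one_lt).mp hlt)

theorem not_rankLE_of_le {H B : Subgroup P} (hB : Cfsg.IsElementaryAbelian p B)
    (hc : p ^ 3 ≤ Nat.card B) (hle : B ≤ H) : ¬ Cfsg.PRankLE p 2 H := by
  intro h
  haveI := hB.1
  have h1 := h (B.subgroupOf H)
    (isMulCommutative_iff.mpr fun a b => Subtype.ext (Subtype.ext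
      (comm_of hB.1 a.2 b.2)))
    (fun a ha => Subtype.ext (by simpa using hB.2 a ha))
  rw [Nat.card_congr (subgroupOfEquivOfLe hle).toEquiv] at h1
  exact absurd (hc.trans h1) (Nat.pow_lt_pow_right hpF.out.one_lt (by norm_num)).not_ge

omit [Finite P] hpF in
theorem le_centralizer_of_le {E X : Subgroup P} (hE : IsMulCommutative E) (hX : X ≤ E) :
    E ≤ centralizer (X : Set P) := fun e he => mem_centralizer_iff.mpr fun x hx =>
  congrArg Subtype.val (hE.is_comm.comm ⟨x, hX hx⟩ ⟨e, he⟩)

omit [Finite P] hpF in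
theorem elem_sup {A B : Subgroup P} (hA : Cfsg.IsElementaryAbelian p A)
    (hB : Cfsg.IsElementaryAbelian p B) (hc : ∀ a ∈ A, ∀ b ∈ B, a * b = b * a) :
    Cfsg.IsElementaryAbelian p (A ⊔ B : Subgroup P) := by
  have hn : B ≤ normalizer (A : Set P) := fun b hb => centralizer_le_normalizer _
    (mem_centralizer_iff.mpr fun a ha => hc a ha b hb)
  refine ⟨isMulCommutative_iff.mpr fun x y => Subtype.ext ?_, fun x hx => ?_⟩
  · obtain ⟨a, ha, b, hb, hab⟩ := (Coprime.mem_sup_iff hn).mp x.2
    obtain ⟨c, hc', d, hd, hcd⟩ := (Coprime.mem_sup_iff hn).mp y.2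
    show (x : P) * y = y * x
    rw [← hab, ← hcd]
    have h1 : a * c = c * a := congrArg Subtype.val (hA.1.is_comm.comm ⟨a, ha⟩ ⟨c, hc'⟩)
    have h2 : b * d = d * b := congrArg Subtype.val (hB.1.is_comm.comm ⟨b, hb⟩ ⟨d, hd⟩)
    calc a * b * (c * d) = a * (b * c) * d := by simp [mul_assoc]
      _ = (a * c) * (b * d) := by rw [← hc c hc' b hb]; simp [mul_assoc]
      _ = (c * a) * (d * b) := by rw [h1, h2]
      _ = c * (a * d) * b := by simp [mul_assoc]
      _ = _ := by rw [hc a ha d hd]; simp [mul_assoc]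
  · obtain ⟨a, ha, b, hb, rfl⟩ := (Coprime.mem_sup_iff hn).mp hx
    rw [Commute.mul_pow (hc a ha b hb), hA.2 a ha, hB.2 b hb, one_mul]

theorem card_sup_big (hP : IsPGroup p P) {A B : Subgroup P} (hAc : Nat.card A = p ^ 2)
    (hBc : p ^ 2 ≤ Nat.card B) (hne : B ≠ A) : p ^ 3 ≤ Nat.card (A ⊔ B : Subgroup P) := by
  have hlt : A < A ⊔ B := lt_of_le_of_ne le_sup_left fun h =>
    hne (eq_of_le_of_card_ge (h ▸ le_sup_right) (hAc ▸ hBc))
  have h1 : Nat.card A < Nat.card (A ⊔ B : Subgroup P) :=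
    lt_of_le_of_ne (card_le_of_le hlt.le) fun h => hlt.ne (eq_of_le_of_card_ge hlt.le h.ge)
  obtain ⟨j, hj⟩ := IsPGroup.iff_card.mp (hP.to_subgroup (A ⊔ B))
  rw [hj] at h1 ⊢
  rw [hAc, Nat.pow_lt_pow_iff_right hpF.out.one_lt] at h1
  exact Nat.pow_le_pow_right hpF.out.pos h1

theorem elem_sq_not_cyclic {E : Subgroup P} (hE : Cfsg.IsElementaryAbelian p E)
    (hEc : p ^ 2 ≤ Nat.card E) : ¬ IsCyclic E := by
  intro h
  obtain ⟨g, hg⟩ := IsCyclic.exists_ofOrder_eq_natCard (α := E)
  have : orderOf g ≤ p := Nat.le_of_dvd hpF.out.pos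
    (orderOf_dvd_of_pow_eq_one (Subtype.ext (by simpa using hE.2 g g.2)))
  rw [hg] at this
  have h2 : p < p ^ 2 := by
    conv_lhs => rw [← pow_one p]
    exact Nat.pow_lt_pow_right hpF.out.one_lt one_lt_two
  omega

omit hpF [Finite P] in
theorem not_comm_quaternion (m : ℕ) (h : IsMulCommutative (QuaternionGroup (2 ^ (m + 1)))) : False := by
  have h1 := h.is_comm.comm (QuaternionGroup.a (1 : ZMod (2 * 2 ^ (m + 1)))) (QuaternionGroup.xa 0)
  rw [QuaternionGroup.a_mul_xa, QuaternionGroup.xa_mul_a, QuaternionGroup.xa.injEq, zero_sub, zero_add,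
    neg_eq_iff_add_eq_zero, one_add_one_eq_two] at h1
  have h2 : ((2 : ℕ) : ZMod (2 * 2 ^ (m + 1))) = 0 := by exact_mod_cast h1
  rw [ZMod.natCast_eq_zero_iff] at h2
  have h3 := Nat.le_of_dvd two_pos h2
  have h4 : 2 ≤ 2 ^ (m + 1) := Nat.le_self_pow (by omega) 2
  omega

theorem exists_normal_sq (hP : IsPGroup p P) {E : Subgroup P} (hE : Cfsg.IsElementaryAbelian p E)
    (hEc : p ^ 3 ≤ Nat.card E) :
    ∃ U : Subgroup P, U.Normal ∧ Cfsg.IsElementaryAbelian p U ∧ Nat.card U = p ^ 2 := by
  obtain ⟨A, hAn, hA, hAnc⟩ : ∃ A : Subgroup P, A.Normal ∧ IsMulCommutative A ∧ ¬ IsCyclic A := by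
    by_cases hp2 : p = 2
    · subst hp2
      by_contra hcon
      push Not at hcon
      have hnc : ¬ IsCyclic P := fun h => by
        haveI := h
        exact elem_sq_not_cyclic hE ((Nat.pow_le_pow_right hpF.out.pos (by norm_num)).trans hEc) (Subgroup.isCyclic E)
      obtain ⟨k, c, y, hc, hcard, -⟩ :=
        PGroups.structure_of_normal_abelian_cyclic hP hnc fun A hA hA' => hcon A hA hA'
      have hidx : (zpowers c).index = 2 := by
        have h := Subgroup.card_mul_index (zpowers c)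
        rw [Nat.card_zpowers, hc, hcard, pow_succ] at h
        exact mul_left_cancel₀ (by positivity) h
      haveI : (zpowers c).Normal := Subgroup.normal_of_index_eq_two hidx
      have h1 : (zpowers c ⊓ E).relIndex E ≤ 2 := by
        rw [inf_relIndex_right, ← hidx]
        exact Nat.le_of_dvd (Nat.pos_of_ne_zero index_ne_zero_of_finite)
          (relIndex_dvd_index_of_normal _ _)
      have h2 := Subgroup.card_mul_index ((zpowers c ⊓ E).subgroupOf E)
      rw [Nat.card_congr (subgroupOfEquivOfLe inf_le_right).toEquiv] at h2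
      haveI : IsCyclic (zpowers c ⊓ E : Subgroup P) :=
        isCyclic_of_surjective (subgroupOfEquivOfLe (inf_le_left : zpowers c ⊓ E ≤ zpowers c)).toMonoidHom
          (MulEquiv.surjective _)
      obtain ⟨g, hg⟩ := IsCyclic.exists_ofOrder_eq_natCard (α := (zpowers c ⊓ E : Subgroup P))
      have hg2 : Nat.card (zpowers c ⊓ E : Subgroup P) ≤ 2 := by
        rw [← hg]
        exact Nat.le_of_dvd two_pos (orderOf_dvd_of_pow_eq_one (Subtype.ext (by simpa using hE.2 g g.2.2)))
      have h3 : Nat.card (zpowers c ⊓ E : Subgroup P) * (zpowers c ⊓ E).relIndex E ≤ 2 * 2 :=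
        Nat.mul_le_mul hg2 h1
      rw [show (zpowers c ⊓ E).relIndex E = ((zpowers c ⊓ E).subgroupOf E).index from rfl, h2] at h3
      norm_num at hEc
      omega
    · obtain ⟨A, h1, h2, h3, h4⟩ := PGroups.exists_normal_elementary_sq hP hp2 fun h => by
        haveI := h
        exact elem_sq_not_cyclic hE ((Nat.pow_le_pow_right hpF.out.pos (by norm_num)).trans hEc) (Subgroup.isCyclic E)
      exact ⟨A, h1, h2, fun h => elem_sq_not_cyclic ⟨h2, h3⟩ h4.ge h⟩
  haveI := hAn
  let B : Subgroup P :=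
    { carrier := {x | x ∈ A ∧ x ^ p = 1}
      one_mem' := ⟨one_mem A, one_pow _⟩
      mul_mem' := fun {x y} hx hy => ⟨mul_mem hx.1 hy.1, by
        have hxy : Commute x y := congrArg Subtype.val (hA.is_comm.comm ⟨x, hx.1⟩ ⟨y, hy.1⟩)
        rw [hxy.mul_pow, hx.2, hy.2, one_mul]⟩
      inv_mem' := fun {x} hx => ⟨inv_mem hx.1, by rw [inv_pow, hx.2, inv_one]⟩ }
  haveI hBn : B.Normal := ⟨fun x hx g => ⟨hAn.conj_mem x hx.1 g, by rw [conj_pow, hx.2]; simp⟩⟩
  have hBe : Cfsg.IsElementaryAbelian p B := ⟨isMulCommutative_iff.mpr fun a b => Subtype.ext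
    (comm_of hA (a.2.1) (b.2.1)), fun b hb => hb.2⟩
  obtain ⟨n, hn⟩ := IsPGroup.iff_card.mp (hP.to_subgroup B)
  have hn2 : 2 ≤ n := by
    by_contra hlt
    have huniq : ∀ H K : Subgroup A, Nat.card H = p → Nat.card K = p → H = K := by
      have key : ∀ H : Subgroup A, Nat.card H = p → H.map A.subtype = B := by
        intro H hH
        refine eq_of_le_of_card_ge ?_ ?_
        · rintro _ ⟨x, hx, rfl⟩
          refine ⟨x.2, ?_⟩
          have h := pow_card_eq_one' (G := H) (x := ⟨x, hx⟩)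
          rw [hH] at h
          have := congrArg (fun z : H => ((z : A) : P)) h
          simpa using this
        · rw [hn, card_map_of_injective A.subtype_injective, hH]
          calc p ^ n ≤ p ^ 1 := Nat.pow_le_pow_right hpF.out.pos (by omega)
            _ = p := pow_one p
      exact fun H K hH hK => map_injective A.subtype_injective ((key H hH).trans (key K hK).symm)
    rcases S0016.result p (hP.to_subgroup A) huniq with h | ⟨-, m, ⟨e⟩⟩
    · exact hAnc h
    · rcases m with _ | m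
      · refine hAnc ?_
        haveI : IsCyclic (QuaternionGroup (2 ^ 0)) := by
          rw [pow_zero]; exact QuaternionGroup.quaternionGroup_one_isCyclic
        exact isCyclic_of_surjective e.symm.toMonoidHom e.symm.surjective
      · haveI : IsMulCommutative (QuaternionGroup (2 ^ (m + 1))) := isMulCommutative_iff.mpr fun a b =>
          e.symm.injective (by rw [map_mul, map_mul]; exact hA.is_comm.comm _ _)
        haveI : NeZero (2 ^ (m + 1)) := ⟨by positivity⟩
        exact not_comm_quaternion m inferInstance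
  obtain ⟨U, hUn, hUB, hU⟩ := PGroups.exists_normal_card_le hP B 2
    (hn ▸ Nat.pow_le_pow_right hpF.out.pos hn2)
  exact ⟨U, hUn, ⟨isMulCommutative_iff.mpr fun a b => Subtype.ext
    (comm_of hBe.1 (hUB a.2) (hUB b.2)), fun u hu => hBe.2 u (hUB hu)⟩, hU⟩

theorem inf_centralizer_big (hP : IsPGroup p P) {E U : Subgroup P} [hUn : U.Normal]
    (hE : Cfsg.IsElementaryAbelian p E) (hEc : p ^ 3 ≤ Nat.card E)
    (hU : Cfsg.IsElementaryAbelian p U) (hUc : Nat.card U = p ^ 2) :
    Cfsg.IsElementaryAbelian p (E ⊓ centralizer (U : Set P) : Subgroup P) ∧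
      p ^ 2 ≤ Nat.card (E ⊓ centralizer (U : Set P) : Subgroup P) := by
  refine ⟨⟨isMulCommutative_iff.mpr fun a b => Subtype.ext
    (comm_of hE.1 (a.2.1) (b.2.1)), fun a ha => hE.2 a ha.1⟩, ?_⟩
  have hne : U ≠ ⊥ := fun h => by
    rw [h, card_bot] at hUc
    exact absurd hUc (Nat.one_lt_pow two_ne_zero hpF.out.one_lt).ne
  set W := ⁅U, (⊤ : Subgroup P)⁆ with hW
  have hlt : W < U := Coprime.commutator_lt_of_isPGroup (hP.to_subgroup U) (hP.to_subgroup ⊤)
    (by rw [normalizer_eq_top]) hne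
  have hWp : Nat.card W ≤ p := by
    obtain ⟨j, hj⟩ := IsPGroup.iff_card.mp (hP.to_subgroup W)
    have h1 : Nat.card W < Nat.card U :=
      lt_of_le_of_ne (card_le_of_le hlt.le) fun h => hlt.ne (eq_of_le_of_card_ge hlt.le h.ge)
    rw [hj, hUc, Nat.pow_lt_pow_iff_right hpF.out.one_lt] at h1
    rw [hj]
    exact (Nat.pow_le_pow_right hpF.out.pos (show j ≤ 1 by omega)).trans (pow_one p).le
  haveI hWn : W.Normal := commutator_normal U ⊤
  have hWZ : W ≤ center P := by
    by_cases hW1 : W = ⊥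
    · rw [hW1]; exact bot_le
    · obtain ⟨j, hj⟩ := IsPGroup.iff_card.mp (hP.to_subgroup W)
      refine PGroups.le_center_of_card_eq hP W (le_antisymm hWp ?_)
      exact Nat.le_of_dvd Nat.card_pos (PGroups.dvd_card_of_ne_bot hP hW1)
  obtain ⟨u, hu, huW⟩ := SetLike.exists_of_lt hlt
  -- the centralizer of `U` has index at most `p`
  have hidx : (centralizer ({u} : Set P)).index ≤ p := by
    refine le_trans ?_ hWp
    let f : P ⧸ centralizer ({u} : Set P) → W := fun q => Quotient.liftOn' q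
      (fun g => ⟨g * u * g⁻¹ * u⁻¹, by
        rw [hW, commutator_comm]
        exact commutator_mem_commutator (mem_top g) hu⟩)
      fun a b hab => Subtype.ext (by
        rw [QuotientGroup.leftRel_apply, mem_centralizer_singleton_iff] at hab
        have : b * u * b⁻¹ = a * u * a⁻¹ := by
          calc b * u * b⁻¹ = a * ((a⁻¹ * b) * u) * b⁻¹ := by simp [mul_assoc]
            _ = a * (u * (a⁻¹ * b)) * b⁻¹ := by rw [hab]
            _ = _ := by simp [mul_assoc]
        simp [this])
    have hf : Function.Injective f := by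
      intro q r
      refine Quotient.inductionOn₂' q r fun a b h => Quotient.sound' ?_
      have h' : a * u * a⁻¹ = b * u * b⁻¹ := mul_right_cancel (congrArg Subtype.val h)
      rw [QuotientGroup.leftRel_apply, mem_centralizer_singleton_iff]
      calc a⁻¹ * b * u = a⁻¹ * (b * u * b⁻¹) * b := by simp [mul_assoc]
        _ = a⁻¹ * (a * u * a⁻¹) * b := by rw [h']
        _ = _ := by simp [mul_assoc]
    exact Nat.card_le_card_of_injective f hf
  have hCU : centralizer ({u} : Set P) ≤ centralizer (U : Set P) := by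
    intro g hg
    by_cases hW1 : W = ⊥
    · have hUZ : U ≤ centralizer ((⊤ : Subgroup P) : Set P) :=
        commutator_eq_bot_iff_le_centralizer.mp hW1
      exact mem_centralizer_iff.mpr fun x hx => (mem_centralizer_iff.mp (hUZ hx) g (mem_top g)).symm
    have hWU : W ⊔ zpowers u = U := by
      refine eq_of_le_of_card_ge (sup_le hlt.le (zpowers_le.mpr hu)) ?_
      have hlt' : W < W ⊔ zpowers u := lt_of_le_of_ne le_sup_left fun h =>
        huW (h ▸ mem_sup_right (mem_zpowers u))
      obtain ⟨j, hj⟩ := IsPGroup.iff_card.mp (hP.to_subgroup (W ⊔ zpowers u))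
      obtain ⟨i, hi⟩ := IsPGroup.iff_card.mp (hP.to_subgroup W)
      have h1 : Nat.card W < Nat.card (W ⊔ zpowers u : Subgroup P) :=
        lt_of_le_of_ne (card_le_of_le hlt'.le) fun h => hlt'.ne (eq_of_le_of_card_ge hlt'.le h.ge)
      rcases Nat.eq_zero_or_pos i with hi0 | hi0
      · subst hi0
        exact absurd (Subgroup.card_eq_one.mp (by simpa using hi)) hW1
      · rw [hj, hi, Nat.pow_lt_pow_iff_right hpF.out.one_lt] at h1
        rw [hj, hUc]
        exact Nat.pow_le_pow_right hpF.out.pos (by omega)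
    rw [← hWU]
    refine mem_centralizer_iff.mpr fun x hx => ?_
    have : W ⊔ zpowers u ≤ centralizer ({g} : Set P) := by
      refine sup_le (fun w hw => mem_centralizer_singleton_iff.mpr
        (Subgroup.mem_center_iff.mp (hWZ hw) g).symm) (zpowers_le.mpr ?_)
      exact mem_centralizer_singleton_iff.mpr (mem_centralizer_singleton_iff.mp hg).symm
    exact mem_centralizer_singleton_iff.mp (this hx)
  have h1 : (centralizer (U : Set P)).relIndex E ≤ p := by
    refine le_trans ?_ hidx
    exact (Nat.le_of_dvd (Nat.pos_of_ne_zero index_ne_zero_of_finite)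
      (relIndex_dvd_index_of_normal _ _)).trans
      (Nat.le_of_dvd (Nat.pos_of_ne_zero index_ne_zero_of_finite) (index_dvd_of_le hCU))
  have h2 := Subgroup.card_mul_index ((E ⊓ centralizer (U : Set P)).subgroupOf E)
  rw [Nat.card_congr (subgroupOfEquivOfLe inf_le_left).toEquiv,
    show ((E ⊓ centralizer (U : Set P)).subgroupOf E).index = (centralizer (U : Set P)).relIndex E by
      show (E ⊓ centralizer (U : Set P)).relIndex E = _
      rw [inf_relIndex_left]] at h2
  by_contra hcon
  have h3 := Nat.mul_lt_mul_of_lt_of_le (not_le.mp hcon) h1 hpF.out.pos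
  rw [h2] at h3
  rw [show p ^ 2 * p = p ^ 3 by ring] at h3
  omega

end Helpers

/-- Let P be a finite p-group of p-rank greater than 2. Then P has a normal elementary abelian subgroup U of order p², and for every elementary abelian X ≤ P with |X| ≥ p²: X is joined to U by a chain of pairwise commuting elementary abelian subgroups of order ≥ p² if and only if C_P(X) has p-rank greater than 2. -/
theorem result {P : Type*} [Group P] [Finite P] (p : ℕ) [Fact p.Prime] (hP : IsPGroup p P) (hrk : ¬ Cfsg.PRankLE p 2 P) : ∃ U : Subgroup P, U.Normal ∧ Cfsg.IsElementaryAbelian p U ∧ Nat.card ↥U = p ^ 2 ∧ ∀ X : Subgroup P, Cfsg.IsElementaryAbelian p X → p ^ 2 ≤ Nat.card ↥X → (Relation.ReflTransGen (fun A B : Subgroup P => Cfsg.IsElementaryAbelian p A ∧ p ^ 2 ≤ Nat.card ↥A ∧ Cfsg.IsElementaryAbelian p B ∧ p ^ 2 ≤ Nat.card ↥B ∧ ∀ a ∈ A, ∀ b ∈ B, a * b = b * a) X U ↔ ¬ Cfsg.PRankLE p 2 ↥(Subgroup.centralizer (X : Set P))) := by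
  haveI := Fact.mk (Fact.out : p.Prime)
  have hp : p.Prime := Fact.out
  obtain ⟨E₀, hE₀, hE₀c⟩ := exists_big hrk
  obtain ⟨U, hUn, hU, hUc⟩ := exists_normal_sq hP hE₀ hE₀c
  haveI := hUn
  refine ⟨U, hUn, hU, hUc, fun X hX hXc => ⟨fun h => ?_, fun h => ?_⟩⟩
  · -- a path to `U` gives rank three in the centralizer
    clear hX hXc
    induction h using Relation.ReflTransGen.head_induction_on with
    | refl =>
      obtain ⟨hD, hDc⟩ := inf_centralizer_big hP hE₀ hE₀c hU hUc
      have hDC : E₀ ⊓ Subgroup.centralizer (U : Set P) ≤ Subgroup.centralizer (U : Set P) := inf_le_right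
      rcases eq_or_ne (E₀ ⊓ Subgroup.centralizer (U : Set P)) U with heq | hne
      · exact not_rankLE_of_le hE₀ hE₀c
          (le_centralizer_of_le hE₀.1 (heq ▸ inf_le_left))
      · exact not_rankLE_of_le (elem_sup hU hD fun a ha b hb =>
            (Subgroup.mem_centralizer_iff.mp (hDC hb)) a ha)
          (card_sup_big hP hUc hDc hne) (sup_le (le_centralizer_of_le hU.1 le_rfl) hDC)
    | @head A B hAB hBU ih =>
      obtain ⟨hA, hAc, hB, hBc, hcomm⟩ := hAB
      rcases eq_or_ne A B with rfl | hne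
      · exact ih
      · have hBC : B ≤ Subgroup.centralizer (A : Set P) := fun b hb =>
          Subgroup.mem_centralizer_iff.mpr fun a ha => hcomm a ha b hb
        refine not_rankLE_of_le (elem_sup hA hB hcomm) ?_
          (sup_le (le_centralizer_of_le hA.1 le_rfl) hBC)
        obtain ⟨a, ha⟩ := IsPGroup.iff_card.mp (hP.to_subgroup A)
        by_cases ha3 : 3 ≤ a
        · exact (Nat.pow_le_pow_right hp.pos ha3).trans (ha.ge.trans (Subgroup.card_le_of_le le_sup_left))
        · have : Nat.card A = p ^ 2 := le_antisymm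
            (ha.le.trans (Nat.pow_le_pow_right hp.pos (by omega))) hAc
          exact card_sup_big hP this hBc hne.symm
  · -- rank three in the centralizer gives a path of length two
    obtain ⟨E, hE, hEc, hEX⟩ := exists_big_le h
    obtain ⟨hD, hDc⟩ := inf_centralizer_big hP hE hEc hU hUc
    refine Relation.ReflTransGen.head ⟨hX, hXc, hD, hDc, fun a ha b hb => ?_⟩
      (Relation.ReflTransGen.single ⟨hD, hDc, hU, hUc.ge, fun a ha b hb => ?_⟩)
    · exact (Subgroup.mem_centralizer_iff.mp (hEX (Subgroup.mem_inf.mp hb).1)) a ha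
    · exact ((Subgroup.mem_centralizer_iff.mp (Subgroup.mem_inf.mp ha).2) b hb).symm

end Cfsg.Agent.S1337
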