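import Cfsg.Statements.S1338
import Cfsg.Agent.H61.RankFour
import Cfsg.Agent.H40.Generation

set_option autoImplicit false
open Cfsg

namespace Cfsg.Agent.S1338

open Subgroup

/-- The map `u ↦ [e, u]` on an elementary abelian normal subgroup. -/
theorem card_ker_ge {P : Type*} [Group P] [Finite P] (U : Subgroup P) [U.Normal]
    (hU : Cfsg.IsElementaryAbelian 3 U) (hU4 : Nat.card U = 3 ^ 4) {e : P} (he : e ^ 3 = 1) :
    3 ^ 2 ≤ Nat.card ↥(U ⊓ centralizer ({e} : Set P)) := by
  haveI : Fact (Nat.Prime 3) := ⟨Nat.prime_three⟩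
  letI : CommGroup U := { (inferInstance : Group U) with mul_comm := hU.1.is_comm.comm }
  let φ : U →* U := (MulAut.conjNormal (H := U) e).toMonoidHom
  let f : U →* U :=
    { toFun := fun u => φ u * u⁻¹
      map_one' := by simp
      map_mul' := fun u v => by rw [map_mul, mul_inv_rev]; ac_rfl }
  have h3 : ∀ u : U, f (f (f u)) = 1 := by
    intro u
    have hφ : φ (φ (φ u)) = u := by
      refine Subtype.ext ?_
      show e * (e * (e * (u : P) * e⁻¹) * e⁻¹) * e⁻¹ = u
      calc e * (e * (e * (u : P) * e⁻¹) * e⁻¹) * e⁻¹ = (e * e * e) * u * (e * e * e)⁻¹ := by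
            simp [mul_assoc]
        _ = u := by rw [← pow_three', he, one_mul, inv_one, mul_one]
    have hu : u ^ 3 = 1 := Subtype.ext (hU.2 u u.2)
    have hb : (φ u) ^ 3 = 1 := by rw [← map_pow, hu, map_one]
    have hinv : (φ u)⁻¹ * (φ u)⁻¹ = φ u := by
      rw [← mul_inv_rev, inv_eq_iff_mul_eq_one, ← pow_three']
      exact hb
    have hN : f (f u) = φ (φ u) * φ u * u := by
      show φ (φ u * u⁻¹) * (φ u * u⁻¹)⁻¹ = _
      rw [map_mul, map_inv, mul_inv_rev, inv_inv, mul_comm u, ← mul_assoc, mul_assoc (φ (φ u)),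
        hinv]
    have hfix : φ (φ (φ u) * φ u * u) = φ (φ u) * φ u * u := by
      rw [map_mul, map_mul, hφ, mul_comm u (φ (φ u)), mul_assoc, mul_comm u, ← mul_assoc]
    rw [hN]
    show φ (φ (φ u) * φ u * u) * (φ (φ u) * φ u * u)⁻¹ = 1
    rw [hfix, mul_inv_cancel]
  have hker : Nat.card f.ker = Nat.card ↥(U ⊓ centralizer ({e} : Set P)) := by
    refine Nat.card_congr
      { toFun := fun u => ⟨(u.1 : P), u.1.2, mem_centralizer_singleton_iff.mpr ?_⟩
        invFun := fun u => ⟨⟨u, u.2.1⟩, MonoidHom.mem_ker.mpr ?_⟩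
        left_inv := fun u => rfl
        right_inv := fun u => rfl }
    · have h := MonoidHom.mem_ker.mp u.2
      have h' : e * (u.1 : P) * e⁻¹ * (u.1 : P)⁻¹ = 1 := congrArg Subtype.val h
      rw [mul_inv_eq_one, mul_inv_eq_iff_eq_mul] at h'
      exact h'.symm
    · refine Subtype.ext ?_
      show e * (u : P) * e⁻¹ * (u : P)⁻¹ = 1
      rw [← mem_centralizer_singleton_iff.mp u.2.2, mul_inv_cancel_right, mul_inv_cancel]
  have hmap : ∀ X : Subgroup U, Nat.card X ≤ Nat.card f.ker * Nat.card (X.map f) := by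
    intro X
    have h1 := card_mul_index (f.comp X.subtype).ker
    rw [index_ker, MonoidHom.range_comp, range_subtype] at h1
    rw [← h1]
    refine Nat.mul_le_mul_right _ (Nat.card_le_card_of_injective
      (fun x : (f.comp X.subtype).ker => (⟨(x.1 : U), x.2⟩ : f.ker)) fun x y h => ?_)
    exact Subtype.ext (Subtype.ext (congrArg (fun z : f.ker => (z : U)) h))
  have hbot : ((((⊤ : Subgroup U).map f).map f).map f) = ⊥ := by
    rw [eq_bot_iff]
    rintro _ ⟨_, ⟨_, ⟨u, -, rfl⟩, rfl⟩, rfl⟩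
    exact mem_bot.mpr (h3 u)
  have h1 := hmap ⊤
  have h2 := hmap ((⊤ : Subgroup U).map f)
  have h4 := hmap (((⊤ : Subgroup U).map f).map f)
  rw [hbot, card_bot, mul_one] at h4
  rw [card_top, hU4] at h1
  rw [← hker]
  obtain ⟨k, hk⟩ := IsPGroup.iff_card.mp ((H40.elemAb_isPGroup hU).to_subgroup f.ker)
  rw [hk] at h1 h2 h4 ⊢
  rcases k with _ | _ | k
  · norm_num at h1 h2 h4
    omega
  · norm_num at h1 h2 h4
    omega
  · exact Nat.pow_le_pow_right (by norm_num) (by omega)


/-- A finite 3-group of 3-rank at least 4 is 2-connected for the prime 3: its commuting graph on elementary abelian subgroups of order ≥ 9 is connected. -/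
theorem result {P : Type*} [Group P] [Finite P] (hP : IsPGroup 3 P) (hrk : ¬ Cfsg.PRankLE 3 3 P) : Cfsg.IsKConnected 3 2 P := by
  classical
  haveI : Fact (Nat.Prime 3) := ⟨Nat.prime_three⟩
  obtain ⟨A, hA⟩ := not_forall.mp hrk
  simp only [Classical.not_imp, not_le] at hA
  obtain ⟨hAc, hAe, hlt⟩ := hA
  have hAel : Cfsg.IsElementaryAbelian 3 A := ⟨hAc, hAe⟩
  obtain ⟨n, hn⟩ := IsPGroup.iff_card.mp (H40.elemAb_isPGroup hAel)
  have hn4 : 4 ≤ n := by
    by_contra hlt'
    have := Nat.pow_le_pow_right (show 0 < 3 by norm_num) (show n ≤ 3 by omega)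
    omega
  obtain ⟨B, hB⟩ := Sylow.exists_subgroup_card_pow_prime 3 (G := A) (n := 4) (hn ▸ pow_dvd_pow 3 hn4)
  obtain ⟨U, hUn, hU, hU4⟩ := H61.RankFour.exists_normal (Nat.card P) P le_rfl (by norm_num) hP
    (B.map A.subtype) (H40.elemAb_mono hAel (map_subtype_le _))
    (by rw [card_map_of_injective A.subtype_injective, hB])
  haveI := hUn
  let r : Subgroup P → Subgroup P → Prop := fun A B => Cfsg.IsElementaryAbelian 3 A ∧
    3 ^ 2 ≤ Nat.card ↥A ∧ Cfsg.IsElementaryAbelian 3 B ∧ 3 ^ 2 ≤ Nat.card ↥B ∧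
    ∀ a ∈ A, ∀ b ∈ B, a * b = b * a
  have hr : ∀ {A B : Subgroup P}, r A B → r B A := fun ⟨h1, h2, h3, h4, h5⟩ =>
    ⟨h3, h4, h1, h2, fun b hb a ha => (h5 a ha b hb).symm⟩
  have hU2 : 3 ^ 2 ≤ Nat.card U := by rw [hU4]; norm_num
  suffices key : ∀ E : Subgroup P, Cfsg.IsElementaryAbelian 3 E → 3 ^ 2 ≤ Nat.card E →
      Relation.ReflTransGen r E U ∧ Relation.ReflTransGen r U E by
    intro E E' hE hEc hE' hEc'
    exact (key E hE hEc).1.trans (key E' hE' hEc').2
  intro E hE hEc
  -- a nontrivial fixed point of `E` in `U`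
  obtain ⟨w, hwU, hwE, hw1⟩ : ∃ w ∈ U, w ∈ centralizer (E : Set P) ∧ w ≠ 1 := by
    have hEU : E ≤ normalizer (U : Set P) := fun x _ => (normalizer_eq_top U).ge (mem_top x)
    by_contra hc
    push Not at hc
    have hfix : U ⊓ centralizer (E : Set P) = ⊥ :=
      (eq_bot_iff_forall _).mpr fun x hx => hc x hx.1 hx.2
    letI : MulAction E U :=
      MulAction.compHom U ((U.normalizerMonoidHom).comp (Subgroup.inclusion hEU))
    have h1 := (H40.elemAb_isPGroup hE).card_modEq_card_fixedPoints U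
    have h2 : Nat.card (MulAction.fixedPoints E U) = Nat.card ↥(U ⊓ centralizer (E : Set P)) :=
      Nat.card_congr
      { toFun := fun x => ⟨(x.1 : P), x.1.2, mem_centralizer_iff.mpr fun b hb =>
          mul_inv_eq_iff_eq_mul.mp (congrArg Subtype.val (x.2 ⟨b, hb⟩))⟩
        invFun := fun x => ⟨⟨x.1, x.2.1⟩, fun b => Subtype.ext (by
          show (b : P) * (x : P) * (b : P)⁻¹ = x
          rw [mem_centralizer_iff.mp x.2.2 b b.2, mul_inv_cancel_right])⟩
        left_inv := fun x => rfl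
        right_inv := fun x => rfl }
    rw [h2, hfix, card_bot, hU4] at h1
    exact absurd h1 (by decide)
  have hw3 : w ^ 3 = 1 := hU.2 w hwU
  -- an element of `E` outside `⟨w⟩`
  obtain ⟨e, he, hew⟩ : ∃ e ∈ E, e ∉ zpowers w := by
    by_contra hc
    push Not at hc
    have := card_dvd_of_le (show E ≤ zpowers w from hc)
    rw [Nat.card_zpowers, orderOf_eq_prime hw3 hw1] at this
    have := Nat.le_of_dvd (by norm_num) this
    omega
  have hewc : e * w = w * e := mem_centralizer_iff.mp hwE e he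
  let F : Subgroup P := zpowers w ⊔ zpowers e
  have hFel : Cfsg.IsElementaryAbelian 3 F := by
    have hcomm : F ≤ centralizer (F : Set P) := by
      have hw' : F ≤ centralizer ({w} : Set P) := sup_le
        (zpowers_le.mpr (mem_centralizer_singleton_iff.mpr rfl))
        (zpowers_le.mpr (mem_centralizer_singleton_iff.mpr hewc))
      have he' : F ≤ centralizer ({e} : Set P) := sup_le
        (zpowers_le.mpr (mem_centralizer_singleton_iff.mpr hewc.symm))
        (zpowers_le.mpr (mem_centralizer_singleton_iff.mpr rfl))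
      refine sup_le (zpowers_le.mpr (mem_centralizer_iff.mpr fun x hx => ?_))
        (zpowers_le.mpr (mem_centralizer_iff.mpr fun x hx => ?_))
      · exact mem_centralizer_singleton_iff.mp (hw' hx)
      · exact mem_centralizer_singleton_iff.mp (he' hx)
    refine ⟨le_centralizer_iff_isMulCommutative.mp hcomm, fun x hx => ?_⟩
    obtain ⟨a, ha, b, hb, rfl⟩ := (Coprime.mem_sup_iff (le_sup_right.trans (hcomm.trans
      ((centralizer_le (SetLike.coe_subset_coe.mpr le_sup_left)).trans (centralizer_le_normalizer _))))).mp hx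
    obtain ⟨i, rfl⟩ := mem_zpowers_iff.mp ha
    obtain ⟨j, rfl⟩ := mem_zpowers_iff.mp hb
    rw [((show Commute w e from hewc.symm).zpow_zpow i j).mul_pow, ← zpow_natCast, zpow_comm,
      zpow_natCast, hw3, one_zpow, one_mul, ← zpow_natCast, zpow_comm, zpow_natCast, hE.2 e he,
      one_zpow]
  have hF2 : 3 ^ 2 ≤ Nat.card F := by
    obtain ⟨m, hm⟩ := IsPGroup.iff_card.mp (H40.elemAb_isPGroup hFel)
    have hlt : zpowers w < F := lt_of_le_of_ne le_sup_left fun h =>
      hew (h.symm ▸ mem_sup_right (mem_zpowers e))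
    have h1 : Nat.card (zpowers w) < Nat.card F := Nat.lt_of_le_of_ne
      (card_le_of_le hlt.le) fun h => hlt.ne (eq_of_le_of_card_ge hlt.le h.ge)
    rw [Nat.card_zpowers, orderOf_eq_prime hw3 hw1, hm] at h1
    rw [hm]
    refine Nat.pow_le_pow_right (by norm_num) ?_
    rcases m with _ | _ | m <;> simp_all
  let W : Subgroup P := U ⊓ centralizer ({e} : Set P)
  have hW2 : 3 ^ 2 ≤ Nat.card W := card_ker_ge U hU hU4 (hE.2 e he)
  have hWel : Cfsg.IsElementaryAbelian 3 W := H40.elemAb_mono hU inf_le_left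
  have hEF : r E F := by
    refine ⟨hE, hEc, hFel, hF2, fun a ha b hb => ?_⟩
    have : F ≤ centralizer (E : Set P) := sup_le (zpowers_le.mpr hwE)
      (zpowers_le.mpr (mem_centralizer_iff.mpr fun c hc => H40.elemAb_commute hE hc he))
    exact mem_centralizer_iff.mp (this hb) a ha
  have hFW : r F W := by
    refine ⟨hFel, hF2, hWel, hW2, fun a ha b hb => ?_⟩
    have : F ≤ centralizer (W : Set P) := sup_le
      (zpowers_le.mpr (mem_centralizer_iff.mpr fun c hc => H40.elemAb_commute hU hc.1 hwU))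
      (zpowers_le.mpr (mem_centralizer_iff.mpr fun c hc => mem_centralizer_singleton_iff.mp hc.2))
    exact (mem_centralizer_iff.mp (this ha) b hb).symm
  have hWU : r W U := ⟨hWel, hW2, hU, hU2, fun a ha b hb => H40.elemAb_commute hU ha.1 hb⟩
  exact ⟨((Relation.ReflTransGen.single hEF).tail hFW).tail hWU,
    ((Relation.ReflTransGen.single (hr hWU)).tail (hr hFW)).tail (hr hEF)⟩

end Cfsg.Agent.S1338
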