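import Cfsg.Statements.S1339
import Cfsg.Agent.Components.PLocal

set_option autoImplicit false
open Cfsg

namespace Cfsg.Agent.S1339

/-- Let F be a field with 2 elements, n ≥ 3, and t ∈ SL(n, F) a transvection (t = 1 + E_{ij}, i ≠ j). Then the generalized Fitting subgroup of C(t) is O_2(C(t)). -/
theorem result {F : Type*} [Field F] [Fintype F] [DecidableEq F] (hF : Fintype.card F = 2) (n : ℕ) (hn : 3 ≤ n) (i j : Fin n) (hij : i ≠ j) (t : Matrix.SpecialLinearGroup (Fin n) F) (ht : (t : Matrix (Fin n) (Fin n) F) = Matrix.transvection i j 1) : Cfsg.generalizedFittingSubgroup ↥(Subgroup.centralizer ({t} : Set (Matrix.SpecialLinearGroup (Fin n) F))) = Cfsg.pCore 2 ↥(Subgroup.centralizer ({t} : Set (Matrix.SpecialLinearGroup (Fin n) F))) := by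
  classical
  haveI : Fact (Nat.Prime 2) := ⟨Nat.prime_two⟩
  rw [Components.genFitting_eq_pCore_iff]
  have h2 : (2 : F) = 0 := by
    have := FiniteField.cast_card_eq_zero F
    rw [hF] at this
    exact_mod_cast this
  have hone : ∀ x : F, x ≠ 0 → x = 1 := fun x hx => by
    simpa [hF] using FiniteField.pow_card_sub_one_eq_one x hx
  set C := Subgroup.centralizer ({t} : Set (Matrix.SpecialLinearGroup (Fin n) F)) with hC
  let M : ↥C →* Matrix (Fin n) (Fin n) F :=
    { toFun := fun g => ((g : Matrix.SpecialLinearGroup (Fin n) F) : Matrix (Fin n) (Fin n) F)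
      map_one' := rfl
      map_mul' := fun _ _ => rfl }
  have hMinj : ∀ g h : ↥C, M g = M h → g = h := fun g h e => Subtype.ext (Subtype.ext e)
  have hcomm : ∀ g : ↥C, M g * Matrix.single i j 1 = Matrix.single i j 1 * M g := by
    intro g
    have h0 : (g : Matrix.SpecialLinearGroup (Fin n) F) * t = t * g :=
      Subgroup.mem_centralizer_singleton_iff.mp g.2
    have e : ((g : Matrix.SpecialLinearGroup (Fin n) F) : Matrix (Fin n) (Fin n) F) *
        (t : Matrix (Fin n) (Fin n) F) =
        (t : Matrix (Fin n) (Fin n) F) * ((g : Matrix.SpecialLinearGroup (Fin n) F) :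
          Matrix (Fin n) (Fin n) F) :=
      congrArg Subtype.val h0
    rw [ht, Matrix.transvection, mul_add, add_mul, mul_one, one_mul] at e
    exact add_left_cancel e
  have hcol : ∀ (g : ↥C) (a : Fin n), a ≠ i → M g a i = 0 := by
    intro g a ha
    have := congrFun (congrFun (hcomm g) a) j
    simpa [Matrix.single_mul_apply_of_ne, ha] using this
  have hrow : ∀ (g : ↥C) (b : Fin n), b ≠ j → M g j b = 0 := by
    intro g b hb
    have := congrFun (congrFun (hcomm g) i) b
    simpa [Matrix.mul_single_apply_of_ne, hb] using this.symm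
  have hii : ∀ g : ↥C, M g i i = 1 := by
    intro g
    refine hone _ fun h0 => ?_
    have hd : (M g).det = 0 := Matrix.det_eq_zero_of_column_eq_zero i fun a => by
      rcases eq_or_ne a i with rfl | ha
      · exact h0
      · exact hcol g a ha
    rw [show (M g).det = 1 from (g : Matrix.SpecialLinearGroup (Fin n) F).2] at hd
    exact one_ne_zero hd
  have hjj : ∀ g : ↥C, M g j j = 1 := by
    intro g
    have := congrFun (congrFun (hcomm g) i) j
    simp [hii g] at this
    exact this.symm
  have hNcol : ∀ (g : ↥C) (a : Fin n), (M g - 1) a i = 0 := by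
    intro g a
    rcases eq_or_ne a i with rfl | ha
    · simp [hii g]
    · simp [hcol g a ha, ha]
  have hNrow : ∀ (g : ↥C) (b : Fin n), (M g - 1) j b = 0 := by
    intro g b
    rcases eq_or_ne b j with rfl | hb
    · simp [hjj g]
    · simp [hrow g b hb, hb.symm]
  let Q : Subgroup ↥C :=
    { carrier := {g | ∀ a b : Fin n, a ≠ i → b ≠ j → (M g - 1) a b = 0}
      one_mem' := fun a b _ _ => by simp
      mul_mem' := by
        intro g h hg hh a b ha hb
        have e : M (g * h) - 1 = (M g - 1) + (M h - 1) + (M g - 1) * (M h - 1) := by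
          rw [map_mul]; noncomm_ring
        rw [e, Matrix.add_apply, Matrix.add_apply, hg a b ha hb, hh a b ha hb, zero_add, zero_add,
          Matrix.mul_apply]
        refine Finset.sum_eq_zero fun m _ => ?_
        rcases eq_or_ne m j with rfl | hm
        · rw [hNrow h b, mul_zero]
        · rw [hg a m ha hm, zero_mul]
      inv_mem' := by
        intro g hg a b ha hb
        have e : M g⁻¹ - 1 = -(M g⁻¹ * (M g - 1)) := by
          rw [mul_sub, ← map_mul, inv_mul_cancel, map_one, mul_one]; abel
        rw [e, Matrix.neg_apply, neg_eq_zero, Matrix.mul_apply]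
        refine Finset.sum_eq_zero fun m _ => ?_
        rcases eq_or_ne m i with rfl | hm
        · rw [hcol g⁻¹ a ha, zero_mul]
        · rw [hg m b hm hb, mul_zero] }
  haveI hQn : Q.Normal := ⟨fun q hq g a b ha hb => by
    have e : M (g * q * g⁻¹) - 1 = M g * (M q - 1) * M g⁻¹ := by
      rw [mul_sub, mul_one, sub_mul, ← map_mul M g g⁻¹, mul_inv_cancel, map_one, map_mul, map_mul]
    rw [e, Matrix.mul_apply]
    refine Finset.sum_eq_zero fun m _ => ?_
    rcases eq_or_ne m j with rfl | hm
    · rw [hrow g⁻¹ b hb, mul_zero]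
    · rw [Matrix.mul_apply]
      rw [Finset.sum_eq_zero (fun l _ => ?_), zero_mul]
      rcases eq_or_ne l i with rfl | hl
      · rw [hcol g a ha, zero_mul]
      · rw [hq l m hl hm, mul_zero]⟩
  have hQp : IsPGroup 2 Q := by
    intro q
    refine ⟨2, Subtype.ext (hMinj _ _ ?_)⟩
    set N := M q - 1 with hN
    have hq : ∀ a b : Fin n, a ≠ i → b ≠ j → N a b = 0 := q.2
    have hNN : ∀ a b : Fin n, (a ≠ i ∨ b ≠ j) → (N * N) a b = 0 := by
      intro a b hab
      rw [Matrix.mul_apply]
      refine Finset.sum_eq_zero fun m _ => ?_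
      rcases eq_or_ne m j with rfl | hm
      · rw [hN, hNrow (q : ↥C) b, mul_zero]
      · rcases eq_or_ne m i with rfl | hmi
        · rw [hN, hNcol (q : ↥C) a, zero_mul]
        · rcases hab with ha | hb
          · rw [hq a m ha hm, zero_mul]
          · rw [hq m b hmi hb, mul_zero]
    have h4 : N * N * (N * N) = 0 := by
      ext a b
      rw [Matrix.mul_apply, Matrix.zero_apply]
      refine Finset.sum_eq_zero fun m _ => ?_
      rcases eq_or_ne m j with rfl | hm
      · rw [hNN m b (Or.inl hij.symm), mul_zero]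
      · rw [hNN a m (Or.inr hm), zero_mul]
    have hz : ∀ X : Matrix (Fin n) (Fin n) F, X + X = 0 := fun X => by
      ext a b
      rw [Matrix.add_apply, ← two_mul, h2, zero_mul, Matrix.zero_apply]
    have hsq : ∀ X : Matrix (Fin n) (Fin n) F, (1 + X) * (1 + X) = 1 + X * X := fun X => by
      calc (1 + X) * (1 + X) = 1 + (X + X) + X * X := by noncomm_ring
        _ = _ := by rw [hz X, add_zero]
    have e : M (((q ^ 2 ^ 2 : ↥Q) : ↥C)) = (M q * M q) * (M q * M q) := by
      rw [SubgroupClass.coe_pow, map_pow]
      norm_num [pow_succ, mul_assoc]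
    have hq1 : M q = 1 + N := by rw [hN]; abel
    rw [e, hq1, hsq, hsq, h4, add_zero]
    exact (map_one M).symm
  intro g hg
  refine Cores.le_pCore hQp ?_
  intro a b ha hb
  rcases eq_or_ne b i with rfl | hbi
  · exact hNcol g a
  have hdet : (Matrix.transvection b j (1 : F)).det = 1 := Matrix.det_transvection_of_ne b j hb 1
  let u : Matrix.SpecialLinearGroup (Fin n) F := ⟨_, hdet⟩
  have huC : u ∈ C := by
    refine Subgroup.mem_centralizer_singleton_iff.mpr ?_
    refine Subtype.ext ?_
    show Matrix.transvection b j (1 : F) * (t : Matrix (Fin n) (Fin n) F) =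
      (t : Matrix (Fin n) (Fin n) F) * Matrix.transvection b j (1 : F)
    rw [ht]
    simp only [Matrix.transvection, mul_add, add_mul, mul_one, one_mul,
      Matrix.single_mul_single_of_ne, hij.symm, hb.symm, ne_eq, not_false_eq_true]
    abel
  have huQ : (⟨u, huC⟩ : ↥C) ∈ Q := by
    intro a' b' ha' hb'
    show (Matrix.transvection b j (1 : F) - 1 : Matrix (Fin n) (Fin n) F) a' b' = 0
    simp [Matrix.transvection, Matrix.single_apply_of_col_ne, hb'.symm]
  have hc := Subgroup.mem_centralizer_iff.mp hg _ (Cores.le_pCore hQp huQ)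
  have e : Matrix.transvection b j (1 : F) * M g = M g * Matrix.transvection b j (1 : F) :=
    congrArg M hc
  rw [Matrix.transvection, mul_add, add_mul, mul_one, one_mul] at e
  have e1 : Matrix.single b j (1 : F) * M g = M g * Matrix.single b j (1 : F) := add_left_cancel (a := M g) e
  have e2 := congrFun (congrFun e1 a) j
  rcases eq_or_ne a b with rfl | hab
  · simp [hjj g] at e2
    simp [← e2]
  · simp [Matrix.single_mul_apply_of_ne, hab] at e2
    simp [← e2, hab]

end Cfsg.Agent.S1339
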