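import Cfsg.Statements.S1340
import Cfsg.Agent.H41.BlockSL
import Cfsg.Agent.Cores.PCore
import Cfsg.Agent.Components.Basic


set_option autoImplicit false
open Cfsg

namespace Cfsg.Agent.S1340

open Matrix

section
variable {F : Type*} [Field F] {m : ℕ}

/-- `A ↦ diag(A, 1)`. -/
noncomputable def emb : SpecialLinearGroup (Fin m) F →* GL (Fin (m + 1)) F :=
  SpecialLinearGroup.toGL.comp (H41.blockHom.comp SpecialLinearGroup.toGL)

theorem emb_val (A : SpecialLinearGroup (Fin m) F) :
    ((emb A : GL (Fin (m + 1)) F) : Matrix (Fin (m + 1)) (Fin (m + 1)) F)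
      = H41.blockMat (SpecialLinearGroup.toGL A) := rfl

theorem emb_last (A : SpecialLinearGroup (Fin m) F) :
    ((emb A : GL (Fin (m + 1)) F) : Matrix (Fin (m + 1)) (Fin (m + 1)) F) (Fin.last m) (Fin.last m)
      = 1 := by
  rw [emb_val, H41.blockMat_ll]
  simp

theorem emb_det (A : SpecialLinearGroup (Fin m) F) :
    ((emb A : GL (Fin (m + 1)) F) : Matrix (Fin (m + 1)) (Fin (m + 1)) F).det = 1 := by
  rw [emb_val, H41.blockMat_det]

/-- `diag(1, …, 1, -1)`. -/
def tDiag (m : ℕ) : Fin (m + 1) → F := fun i => if i = Fin.last m then -1 else 1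

theorem commutes_iff (h2 : (-1 : F) ≠ 1) (M : Matrix (Fin (m + 1)) (Fin (m + 1)) F) :
    M * Matrix.diagonal (tDiag m) = Matrix.diagonal (tDiag m) * M ↔
      (∀ i : Fin m, M i.castSucc (Fin.last m) = 0) ∧ ∀ i : Fin m, M (Fin.last m) i.castSucc = 0 := by
  refine ⟨fun h => ⟨fun i => ?_, fun i => ?_⟩, fun h => ?_⟩
  · have h' := congrFun (congrFun h i.castSucc) (Fin.last m)
    simp [Matrix.mul_diagonal, Matrix.diagonal_mul, tDiag, (Fin.castSucc_lt_last i).ne] at h'
    by_contra hne
    exact h2 (mul_left_cancel₀ hne (by linear_combination h'))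
  · have h' := congrFun (congrFun h (Fin.last m)) i.castSucc
    simp [Matrix.mul_diagonal, Matrix.diagonal_mul, tDiag, (Fin.castSucc_lt_last i).ne] at h'
    by_contra hne
    exact h2 (mul_left_cancel₀ hne (by linear_combination -h'))
  · ext i j
    rw [Matrix.mul_diagonal, Matrix.diagonal_mul]
    refine Fin.lastCases ?_ (fun i' => ?_) i <;> refine Fin.lastCases ?_ (fun j' => ?_) j
    · exact mul_comm _ _
    · rw [h.2 j']; simp
    · rw [h.1 i']; simp
    · simp [tDiag, (Fin.castSucc_lt_last i').ne, (Fin.castSucc_lt_last j').ne]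

theorem mul_last {g : Matrix (Fin (m + 1)) (Fin (m + 1)) F}
    (hg : ∀ i : Fin m, g (Fin.last m) i.castSucc = 0) (h : Matrix (Fin (m + 1)) (Fin (m + 1)) F) :
    (g * h) (Fin.last m) (Fin.last m) = g (Fin.last m) (Fin.last m) * h (Fin.last m) (Fin.last m) := by
  rw [Matrix.mul_apply, Fin.sum_univ_castSucc, Finset.sum_eq_zero fun i _ => by rw [hg i, zero_mul],
    zero_add]

end

/-- Let F be a finite field of odd order and n ≥ 3 with (n, |F|) ≠ (3, 3). Then GL(n, F) has a non-central involution t such that C(t) / O(C(t)) has a component. -/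
theorem result {F : Type*} [Field F] [Fintype F] [DecidableEq F] (hF : Odd (Fintype.card F)) (n : ℕ) (hn : 3 ≤ n) (h33 : ¬ (n = 3 ∧ Fintype.card F = 3)) : ∃ t : Matrix.GeneralLinearGroup (Fin n) F, orderOf t = 2 ∧ t ∉ Subgroup.center (Matrix.GeneralLinearGroup (Fin n) F) ∧ Cfsg.HasComponent (↥(Subgroup.centralizer ({t} : Set (Matrix.GeneralLinearGroup (Fin n) F))) ⧸ Cfsg.oddCore ↥(Subgroup.centralizer ({t} : Set (Matrix.GeneralLinearGroup (Fin n) F)))) := by
  classical
  obtain ⟨m, rfl⟩ : ∃ m, n = m + 1 := ⟨n - 1, by omega⟩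
  have h20 : (2 : F) ≠ 0 :=
    Ring.two_ne_zero fun h => (Nat.not_even_iff_odd.mpr hF)
      (FiniteField.even_card_iff_char_two.mp h |> Nat.even_iff.mpr)
  have h2 : (-1 : F) ≠ 1 := fun h => h20 (by linear_combination -h)
  have hq : m = 2 → 4 ≤ Nat.card F := fun hm => by
    rw [Nat.card_eq_fintype_card]
    have h1 := Fintype.one_lt_card (α := F)
    have h3 : Fintype.card F ≠ 3 := fun h => h33 ⟨by omega, h⟩
    have := Nat.odd_iff.mp hF
    omega
  have hqs : Cfsg.IsQuasisimple (SpecialLinearGroup (Fin m) F) :=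
    ⟨⟨Linear.commutator_SL_eq_top_of_card (by
        rcases Nat.lt_or_ge m 3 with h | h
        · exact Or.inr (hq (by omega))
        · exact Or.inl (by simpa using h))⟩,
      Linear.isSimpleGroup_PSL_fin (by omega) hq⟩
  let t : GL (Fin (m + 1)) F := ⟨Matrix.diagonal (tDiag m), Matrix.diagonal (tDiag m),
    by rw [Matrix.diagonal_mul_diagonal, ← Matrix.diagonal_one]
       congr 1; ext i; unfold tDiag; split <;> simp,
    by rw [Matrix.diagonal_mul_diagonal, ← Matrix.diagonal_one]
       congr 1; ext i; unfold tDiag; split <;> simp⟩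
  have htv : (t : Matrix (Fin (m + 1)) (Fin (m + 1)) F) = Matrix.diagonal (tDiag m) := rfl
  have ht1 : t ≠ 1 := fun h => h2 (by
    have h1 := congrFun (congrFun (congrArg (fun g : GL (Fin (m + 1)) F => (g : Matrix (Fin (m + 1)) (Fin (m + 1)) F)) h) (Fin.last m)) (Fin.last m)
    simpa [htv, tDiag] using h1)
  have : Fact (Nat.Prime 2) := ⟨Nat.prime_two⟩
  refine ⟨t, orderOf_eq_prime (by rw [sq]; exact Units.ext t.val_inv) ht1, fun hc => ?_, ?_⟩
  · let a : Fin (m + 1) := ⟨0, by omega⟩
    have ha : a ≠ Fin.last m := fun h => (show (0 : ℕ) ≠ m by omega) (congrArg Fin.val h)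
    let u : GL (Fin (m + 1)) F := SpecialLinearGroup.toGL
      ⟨Matrix.transvection a (Fin.last m) 1, Matrix.det_transvection_of_ne _ _ ha _⟩
    have h1 : u * t = t * u := Subgroup.mem_center_iff.mp hc u
    have h3 := congrFun (congrFun (congrArg (fun g : GL (Fin (m + 1)) F => (g : Matrix (Fin (m + 1)) (Fin (m + 1)) F)) h1) a) (Fin.last m)
    rw [Units.val_mul, Units.val_mul, htv, Matrix.mul_diagonal, Matrix.diagonal_mul] at h3
    have hu : (u : Matrix (Fin (m + 1)) (Fin (m + 1)) F) a (Fin.last m) = 1 := by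
      show (Matrix.transvection a (Fin.last m) (1 : F)) a (Fin.last m) = 1
      simp [Matrix.transvection, Matrix.one_apply_ne ha]
    simp [hu, tDiag, ha] at h3
    exact h2 h3
  set C := Subgroup.centralizer ({t} : Set (GL (Fin (m + 1)) F)) with hC
  have hmemC : ∀ g, g ∈ C ↔
      (∀ i : Fin m, (g : Matrix (Fin (m + 1)) (Fin (m + 1)) F) i.castSucc (Fin.last m) = 0) ∧
      ∀ i : Fin m, (g : Matrix (Fin (m + 1)) (Fin (m + 1)) F) (Fin.last m) i.castSucc = 0 := fun g => by
    rw [hC, Subgroup.mem_centralizer_singleton_iff, Units.ext_iff, Units.val_mul, Units.val_mul, htv,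
      commutes_iff h2]
  have hembC : ∀ A, emb A ∈ C := fun A => (hmemC _).mpr
    ⟨fun i => by rw [emb_val]; exact H41.blockMat_cl _ i, fun i => by rw [emb_val]; exact H41.blockMat_lc _ i⟩
  let ψ : SpecialLinearGroup (Fin m) F →* ↥C := emb.codRestrict C hembC
  have hψi : Function.Injective ψ := fun A B h => by
    have h1 : emb A = emb B := congrArg Subtype.val h
    exact Linear.toGL_injective (H41.blockHom_injective (Linear.toGL_injective h1))
  have hnorm : ψ.range.Normal := by
    refine ⟨?_⟩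
    rintro _ ⟨A, rfl⟩ h
    have hg := (hmemC _).mp (h * ψ A * h⁻¹ : ↥C).2
    set g : GL (Fin (m + 1)) F := ((h * ψ A * h⁻¹ : ↥C) : GL (Fin (m + 1)) F) with hgdef
    have hgv : (g : Matrix (Fin (m + 1)) (Fin (m + 1)) F) =
        ((h : GL (Fin (m + 1)) F) : Matrix (Fin (m + 1)) (Fin (m + 1)) F) *
          ((emb A : GL (Fin (m + 1)) F) : Matrix (Fin (m + 1)) (Fin (m + 1)) F) *
          (((h : GL (Fin (m + 1)) F)⁻¹ : GL (Fin (m + 1)) F) : Matrix (Fin (m + 1)) (Fin (m + 1)) F) := by
      simp [hgdef, ψ]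
    have hdet : (g : Matrix (Fin (m + 1)) (Fin (m + 1)) F).det = 1 := by
      rw [hgv, Matrix.det_mul, Matrix.det_mul, emb_det, mul_one, ← Matrix.det_mul, ← Units.val_mul,
        mul_inv_cancel, Units.val_one, Matrix.det_one]
    have hll : (g : Matrix (Fin (m + 1)) (Fin (m + 1)) F) (Fin.last m) (Fin.last m) = 1 := by
      rw [hgv, mul_assoc, mul_last ((hmemC _).mp h.2).2, mul_last ((hmemC _).mp (hembC A)).2, emb_last,
        one_mul, ← mul_last ((hmemC _).mp h.2).2, ← Units.val_mul, mul_inv_cancel, Units.val_one,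
        Matrix.one_apply_eq]
    obtain ⟨B, hB⟩ := H41.mem_range_blockHom (g := ⟨_, hdet⟩) hg.1 hg.2
    have hBm : H41.blockMat B = (g : Matrix (Fin (m + 1)) (Fin (m + 1)) F) :=
      congrArg Subtype.val hB
    have hBd : (B : Matrix (Fin m) (Fin m) F).det = 1 := by
      have h3 := congrFun (congrFun hBm (Fin.last m)) (Fin.last m)
      rw [H41.blockMat_ll, hll, inv_eq_one] at h3
      exact h3
    refine ⟨⟨(B : Matrix (Fin m) (Fin m) F), hBd⟩, Subtype.ext (Units.ext ?_)⟩
    show H41.blockMat (SpecialLinearGroup.toGL ⟨(B : Matrix (Fin m) (Fin m) F), hBd⟩) = _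
    rw [show SpecialLinearGroup.toGL ⟨(B : Matrix (Fin m) (Fin m) F), hBd⟩ = B from Units.ext rfl]
    exact hBm
  set π := QuotientGroup.mk' (Cfsg.oddCore ↥C) with hπ
  refine ⟨(π.comp ψ).range, Subgroup.Normal.isSubnormal ?_, ?_⟩
  · rw [MonoidHom.range_comp]
    exact hnorm.map _ (QuotientGroup.mk'_surjective _)
  have : Nontrivial ↥(π.comp ψ).range := by
    rw [Subgroup.nontrivial_iff_ne_bot]
    intro hbot
    let a : Fin m := ⟨0, by omega⟩
    let b : Fin m := ⟨1, by omega⟩
    let d : Fin m → F := fun i => if i = a ∨ i = b then -1 else 1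
    have hd : (Matrix.diagonal d).det = 1 := by
      rw [Matrix.det_diagonal, ← Finset.prod_sdiff (Finset.subset_univ {a, b}),
        Finset.prod_pair (by simp [a, b, Fin.ext_iff]), Finset.prod_eq_one fun i hi => ?_]
      · simp [d]
      · simp at hi; simp [d, hi.1, hi.2]
    let J : SpecialLinearGroup (Fin m) F := ⟨Matrix.diagonal d, hd⟩
    have hJ : orderOf J = 2 := orderOf_eq_prime (by
      rw [sq]
      refine Subtype.ext ?_
      show Matrix.diagonal d * Matrix.diagonal d = 1
      rw [Matrix.diagonal_mul_diagonal, ← Matrix.diagonal_one]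
      congr 1; ext i; simp only [d]; split <;> simp) fun h => h2 (by
      have h1 := congrFun (congrFun (congrArg Subtype.val h) a) a
      simpa [J, d] using h1)
    have hJc : ψ J ∈ Cfsg.oddCore ↥C := by
      have h1 : (π.comp ψ) J = 1 := Subgroup.mem_bot.mp (hbot ▸ ⟨J, rfl⟩)
      simpa [hπ] using h1
    have h4 : 2 ∣ Nat.card (Cfsg.oddCore ↥C) := by
      rw [← hJ, ← orderOf_injective ψ hψi J, ← Subgroup.orderOf_mk (ψ J) hJc]
      exact orderOf_dvd_natCard _
    have h5 := Nat.eq_one_of_dvd_coprimes (Cores.coprime_card_pPrimeCore (p := 2)) h4 dvd_rfl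
    omega
  exact Components.qs_of_surjective hqs (π.comp ψ).rangeRestrict (MonoidHom.rangeRestrict_surjective _)

end Cfsg.Agent.S1340
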