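import Cfsg.Statements.S1343
import Cfsg.Agent.H41.TwoLayer
-- import your own Cfsg.Agent.* helpers here

set_option autoImplicit false
open Cfsg

namespace Cfsg.Agent.S1343

/-- Let X be finite. Then L*_{2'}(X) = L_{2'}(X) ⊔ F for some subgroup F of odd order normalized by a Sylow 2-subgroup of X. -/
theorem result {X : Type*} [Group X] [Finite X] : ∃ F : Subgroup X, Odd (Nat.card ↥F) ∧ (∃ S : Sylow 2 X, (S : Subgroup X) ≤ Subgroup.normalizer (F : Set X)) ∧ Cfsg.extendedTwoLayer X = Cfsg.pLayer 2 X ⊔ F := by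
  classical
  haveI := Fact.mk Nat.prime_two
  set L := Cfsg.pLayer 2 X with hL
  set P := Cfsg.pPrimePCore 2 X with hP
  set O := Cfsg.oddCore X with hO
  haveI hLn : L.Normal := H41.pLayer_normal 2 X
  haveI hOn : O.Normal := (inferInstance : (Cfsg.pPrimeCore 2 X).Normal)
  haveI hPn : P.Normal := (inferInstance :
    (Subgroup.comap (QuotientGroup.mk' (Cfsg.pPrimeCore 2 X)) _).Normal)
  set N := L ⊔ P with hN
  haveI hNn : N.Normal := inferInstance
  obtain ⟨S⟩ := (inferInstance : Nonempty (Sylow 2 X))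
  set T : Subgroup X := (S : Subgroup X) ⊓ N with hT
  set F := O ⊔ H41.coreCent T with hF
  have hFodd : Odd (Nat.card ↥F) := by
    have hd : Nat.card ↥(H41.coreCent T ⊔ O) ∣ Nat.card (H41.coreCent T) * Nat.card O :=
      Cores.card_sup_dvd _ _
    rw [sup_comm] at hd
    exact Odd.of_dvd_nat ((H41.odd_card_coreCent T).mul Cores.odd_card_oddCore) hd
  have hfix : ∀ (K : Subgroup X), K.Normal → ∀ g : X, K.map (MulAut.conj g).toMonoidHom = K :=
    fun K hK g => Subgroup.mem_normalizer_iff_map_conj_eq.1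
      ((@Subgroup.normalizer_eq_top _ _ K hK).ge (Subgroup.mem_top g))
  have hSn : (S : Subgroup X) ≤ Subgroup.normalizer (F : Set X) := by
    intro g hg
    rw [Subgroup.mem_normalizer_iff_map_conj_eq]
    change F.map (MulAut.conj g).toMonoidHom = F
    have hTg : T.map (MulAut.conj g).toMonoidHom = T := by
      rw [hT, Subgroup.map_inf _ _ _ (MulAut.conj g).injective, hfix N hNn g]
      congr 1
      exact Subgroup.mem_normalizer_iff_map_conj_eq.1 (Subgroup.le_normalizer hg)
    rw [hF, Subgroup.map_sup, H41.coreCent_map, hTg, hfix O hOn g]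
  obtain ⟨T₀, hT₀⟩ := H41.exists_sylow_map_eq_inf S N
  rw [← hT] at hT₀
  refine ⟨F, hFodd, ⟨S, hSn⟩, ?_⟩
  rw [H41.extendedTwoLayer_eq]
  change L ⊔ O ⊔ (⨆ T : Sylow 2 N, H41.coreCent ((T : Subgroup N).map N.subtype)) = L ⊔ F
  refine le_antisymm ?_ ?_
  swap
  · refine sup_le (le_sup_left.trans le_sup_left) (sup_le (le_sup_right.trans le_sup_left) ?_)
    refine le_trans ?_ (le_sup_of_le_right (le_iSup _ T₀))
    rw [hT₀]
  set H := L ⊔ F with hH
  have hTH : T ≤ Subgroup.normalizer (H : Set X) := by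
    intro g hg
    rw [Subgroup.mem_normalizer_iff_map_conj_eq]
    change H.map (MulAut.conj g).toMonoidHom = H
    rw [hH, Subgroup.map_sup, hfix L hLn g]
    congr 1
    exact Subgroup.mem_normalizer_iff_map_conj_eq.1 (hSn hg.1)
  have hPle : P ≤ O ⊔ T := by
    have hOP : O ≤ P := by
      intro x hx
      have h1 : QuotientGroup.mk' (Cfsg.pPrimeCore 2 X) x = 1 := (QuotientGroup.eq_one_iff x).2 hx
      simp only [hP, Cfsg.pPrimePCore, Subgroup.mem_comap, h1, one_mem]
    obtain ⟨k, hk⟩ : ∃ k, O.relIndex P = 2 ^ k := by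
      obtain ⟨k, hk⟩ := (IsPGroup.iff_card).1
        (Cores.pCore_isPGroup (p := 2) (G := X ⧸ Cfsg.pPrimeCore 2 X))
      refine ⟨k, ?_⟩
      have h2 : Nat.card (P.map (QuotientGroup.mk' (Cfsg.pPrimeCore 2 X))) = O.relIndex P := by
        rw [← Subgroup.relIndex_ker, QuotientGroup.ker_mk']
      rw [← h2, hP, Cfsg.pPrimePCore,
        Subgroup.map_comap_eq_self_of_surjective (QuotientGroup.mk'_surjective _), hk]
    set Q := (O ⊔ T) ⊓ P with hQ
    have h1 : O.relIndex Q * Q.relIndex P = O.relIndex P :=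
      Subgroup.relIndex_mul_relIndex _ _ _ (le_inf le_sup_left hOP) inf_le_right
    have h2 : ¬ 2 ∣ Q.relIndex P := by
      intro hdiv
      have hle : (S : Subgroup X) ⊓ P ≤ Q :=
        le_inf (le_sup_of_le_right (le_inf inf_le_left (inf_le_right.trans le_sup_right)))
          inf_le_right
      have h3 : Q.relIndex P ∣ ((S : Subgroup X) ⊓ P).relIndex P :=
        Subgroup.relIndex_dvd_of_le_left _ hle
      exact H41.not_dvd_relIndex_sylow S P
        (hdiv.trans (h3.trans (dvd_of_eq (Subgroup.inf_relIndex_right _ _))))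
    have h4 : Q.relIndex P = 1 := by
      obtain ⟨j, -, hj⟩ := (Nat.dvd_prime_pow Nat.prime_two).1 (hk ▸ Dvd.intro_left _ h1)
      rcases j with _ | j
      · simpa using hj
      · exact absurd (hj ▸ dvd_pow_self 2 (Nat.succ_ne_zero j)) h2
    exact (Subgroup.relIndex_eq_one.1 h4).trans inf_le_left
  have hLH : L ≤ H := le_sup_left
  have hOH : O ≤ H := le_sup_of_le_right le_sup_left
  have hNH : N ≤ Subgroup.normalizer (H : Set X) :=
    sup_le (hLH.trans Subgroup.le_normalizer)
      (hPle.trans (sup_le (hOH.trans Subgroup.le_normalizer) hTH))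
  refine sup_le (sup_le hLH hOH) (iSup_le fun T' => ?_)
  obtain ⟨n, hn⟩ := MulAction.exists_smul_eq N T₀ T'
  have hconj : (T' : Subgroup N).map N.subtype = T.map (MulAut.conj (n : X)).toMonoidHom := by
    rw [← hn, ← hT₀, Sylow.coe_subgroup_smul, Subgroup.pointwise_smul_def]
    ext x
    simp only [Subgroup.mem_map]
    constructor
    · rintro ⟨y, ⟨z, hz, rfl⟩, rfl⟩
      exact ⟨(z : X), ⟨z, hz, rfl⟩, by simp [MulAut.conj_apply]⟩
    · rintro ⟨y, ⟨z, hz, rfl⟩, rfl⟩
      exact ⟨n * z * n⁻¹, ⟨z, hz, by simp [MulAut.conj_apply]⟩, by simp [MulAut.conj_apply]⟩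
  rw [hconj, ← H41.coreCent_map]
  refine le_trans (Subgroup.map_mono (le_sup_of_le_right le_sup_right : H41.coreCent T ≤ H)) ?_
  exact (Subgroup.mem_normalizer_iff_map_conj_eq.1 (hNH n.2)).le

end Cfsg.Agent.S1343
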