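import Cfsg.Statements.S1344
import Cfsg.Agent.H41.TwoLayer
import Cfsg.Agent.H41.RankTwo
import Cfsg.Agent.H40.ExtLayer
import Cfsg.Agent.Components.PComponent
-- import your own Cfsg.Agent.* helpers here

set_option autoImplicit false
open Cfsg
open scoped commutatorElement

namespace Cfsg.Agent.S1344

/-- Let K be a 2-component of the finite group X. Then K ≤ L*_{2'}(X) and K is normal in L*_{2'}(X). -/
theorem result {X : Type*} [Group X] [Finite X] (K : Subgroup X) (hK : Cfsg.IsPComponent 2 K) : K ≤ Cfsg.extendedTwoLayer X ∧ (K.subgroupOf (Cfsg.extendedTwoLayer X)).Normal := by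
  classical
  haveI := Fact.mk Nat.prime_two
  set L := Cfsg.pLayer 2 X with hL
  haveI hLn : L.Normal := H41.pLayer_normal 2 X
  have hKL : K ≤ L := Components.pComponent_le_pLayer hK
  have hKle : K ≤ Cfsg.extendedTwoLayer X := hKL.trans (le_sup_left.trans le_sup_left)
  refine ⟨hKle, (Subgroup.normal_subgroupOf_iff_le_normalizer hKle).2 ?_⟩
  obtain ⟨S⟩ := (inferInstance : Nonempty (Sylow 2 X))
  haveI : (L ⊔ Cfsg.pPrimePCore 2 X).Normal := H40.layerCore_normal
  obtain ⟨T, hT⟩ := H41.exists_sylow_map_eq_inf S (L ⊔ Cfsg.pPrimePCore 2 X)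
  rw [H40.extendedTwoLayer_eq T]
  refine sup_le (sup_le (Components.pLayer_le_normalizer hK)
    (Components.pPrimeCore_le_normalizer hK)) ?_
  intro g hg
  have hgC : g ∈ Subgroup.centralizer
      ((((T : Subgroup ↥(L ⊔ Cfsg.pPrimePCore 2 X)).map (L ⊔ Cfsg.pPrimePCore 2 X).subtype : Subgroup X)) : Set X) :=
    Subgroup.map_subtype_le _ hg
  rw [hT] at hgC
  -- every element of `S ⊓ K` is fixed by `g`
  have hfix : ∀ x ∈ (S : Subgroup X) ⊓ K, g * x * g⁻¹ = x := fun x hx => by
    rw [← Subgroup.mem_centralizer_iff.1 hgC x ⟨hx.1, le_sup_left (b := Cfsg.pPrimePCore 2 X) (hKL hx.2)⟩,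
      mul_inv_cancel_right]
  apply Components.mem_normalizer_of_map_conj_eq
  by_contra hne
  set f := Components.qmap 2 X with hf
  have hcomm := Components.commutator_pComponents_le hK (Components.pComponent_conj hK g)
    (Ne.symm hne)
  -- the elements of `K` central modulo the core
  set C := (Subgroup.centralizer ((K.map f : Subgroup _) : Set _)).comap f ⊓ K with hC
  have hSC : (S : Subgroup X) ⊓ K ≤ C := by
    intro x hx
    refine ⟨?_, hx.2⟩
    show f x ∈ Subgroup.centralizer ((K.map f : Subgroup _) : Set _)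
    rw [Subgroup.mem_centralizer_iff]
    rintro _ ⟨k, hk, rfl⟩
    refine (commutatorElement_eq_one_iff_mul_comm.1 ?_)
    rw [← map_commutatorElement]
    have h1 : x ∈ K.map (MulAut.conj g).toMonoidHom := ⟨x, hx.2, hfix x hx⟩
    exact (QuotientGroup.eq_one_iff _).2 ((hcomm (Subgroup.commutator_mem_commutator hk h1)).1.1)
  have hKC : K ≤ Subgroup.normalizer (C : Set X) := by
    refine Subgroup.le_normalizer_iff.2 fun k hk c hc => ⟨?_, K.mul_mem (K.mul_mem hk hc.2) (K.inv_mem hk)⟩
    show f (k * c * k⁻¹) ∈ Subgroup.centralizer ((K.map f : Subgroup _) : Set _)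
    rw [map_mul, map_mul, map_inv]
    exact H41.conj_mem_centralizer_of_normalizer (Subgroup.le_normalizer ⟨k, hk, rfl⟩) hc.1
  -- `S ⊓ K` is a Sylow subgroup of `K`
  obtain ⟨TL, hTL⟩ := H41.exists_sylow_map_eq_inf S L
  have hKLn : (K.subgroupOf L).Normal :=
    (Subgroup.normal_subgroupOf_iff_le_normalizer hKL).2 (Components.pLayer_le_normalizer hK)
  have hidx : ¬ 2 ∣ ((S : Subgroup X) ⊓ K).relIndex K := by
    intro h
    refine H41.not_dvd_relIndex_sylow TL (K.subgroupOf L) ?_
    have e : ((TL : Subgroup L) ⊓ K.subgroupOf L).map L.subtype = (S : Subgroup X) ⊓ K := by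
      rw [Subgroup.map_inf _ _ _ L.subtype_injective, hTL, Subgroup.map_subgroupOf_eq_of_le hKL,
        inf_assoc, inf_eq_right.2 hKL]
    rw [← Subgroup.inf_relIndex_right, ← Subgroup.relIndex_map_map_of_injective _ _ L.subtype_injective,
      e, Subgroup.map_subgroupOf_eq_of_le hKL]
    exact h
  have hall : K ≤ C := by
    refine (Components.pComponent_pElemClosure_self hK).ge.trans ?_
    refine (Subgroup.closure_le C).2 ?_
    rintro x ⟨hx, n, hn⟩
    haveI : (C.subgroupOf K).Normal :=
      (Subgroup.normal_subgroupOf_iff_le_normalizer inf_le_right).2 hKC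
    have h1 : ¬ 2 ∣ (C.subgroupOf K).index := fun h => hidx
      (h.trans (Subgroup.relIndex_dvd_of_le_left K hSC))
    have h2 : (C.subgroupOf K).index.Coprime 2 :=
      (Nat.prime_two.coprime_iff_not_dvd.2 h1).symm
    exact Components.mem_of_isSubnormal_coprime (Subgroup.Normal.isSubnormal inferInstance) h2
      (x := ⟨x, hx⟩) (k := n) (Subtype.ext (by simpa using hn))
  apply Components.qsSub_ne_bot hK.2.1.2
  show K.map f = ⊥
  rw [← Components.component_perfect hK.2.1]
  show ⁅K.map f, K.map f⁆ = ⊥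
  rw [Subgroup.commutator_eq_bot_iff_le_centralizer]
  exact (Subgroup.map_le_iff_le_comap.2 (hall.trans inf_le_left))

end Cfsg.Agent.S1344
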