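import Cfsg.Statements.S1378
import Cfsg.Agent.OddOrder.BG13.Instance
import Cfsg.Agent.OddOrder.BG13.Main

set_option autoImplicit false
open Cfsg

namespace Cfsg.Agent.S1378

/-- Let G be a minimal simple group of odd order. Then every prime dividing the order of G belongs to σ(M) for some maximal subgroup M, and if σ(M) and σ(N) have a prime in common for maximal subgroups M, N then N is conjugate to M; so the sets σ(M_i) over representatives of the conjugacy classes of maximal subgroups partition the prime divisors of #G. -/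
theorem result {G : Type*} [Group G] [Finite G] (hG : Cfsg.IsMinSimpleOddOrder G) :
    (∀ p : ℕ, p.Prime → p ∣ Nat.card G → ∃ M : Subgroup G, IsCoatom M ∧ p ∈ Cfsg.sigma M) ∧
      ∀ M N : Subgroup G, IsCoatom M → IsCoatom N → (Cfsg.sigma M ∩ Cfsg.sigma N).Nonempty → ∃ g : G, N = M.map (MulAut.conj g).toMonoidHom := by
  refine ⟨fun p hp hd => ?_, fun M N hM hN h =>
    (Cfsg.Agent.OddOrder.BG13.hyp hG).results.sigma_disjoint M N hM hN h⟩
  haveI := Fact.mk hp
  obtain ⟨P⟩ := (inferInstance : Nonempty (Sylow p G))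
  have hP1 : (P : Subgroup G) ≠ ⊥ := P.ne_bot_of_dvd_card hd
  have hPt : (P : Subgroup G) ≠ ⊤ := by
    intro e
    haveI : Group.IsNilpotent G := by
      haveI := P.isPGroup'.isNilpotent
      exact Group.nilpotent_of_mulEquiv ((MulEquiv.subgroupCongr e).trans Subgroup.topEquiv)
    haveI := hG.2.1
    haveI : Group.IsSolvable G := inferInstance
    exact hG.2.2.1 ⟨⟨fun a b => IsSimpleGroup.comm_iff_isSolvable.mpr inferInstance a b⟩⟩
  obtain ⟨M, hM, hN⟩ := Cfsg.Agent.OddOrder.BG11.exists_coatom_ge
    (Cfsg.Agent.OddOrder.BG11.normalizer_ne_top' hG hP1 hPt)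
  have hPM : (P : Subgroup G) ≤ M := Subgroup.le_normalizer.trans hN
  refine ⟨M, hM, hp, ?_, P.subtype hPM, ?_⟩
  · exact (P.dvd_card_of_dvd_card hd).trans (Subgroup.card_dvd_of_le hPM)
  · rw [Sylow.coe_subtype, Subgroup.subgroupOf_map_subtype, inf_eq_left.mpr hPM]
    exact hN

end Cfsg.Agent.S1378
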