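import Cfsg.Statements.S1400
import Cfsg.Agent.H41.UMaximal

set_option autoImplicit false
open Cfsg

namespace Cfsg.Agent.S1400

/-- Let G be a minimal simple group of odd order, p a prime, A an abelian p-subgroup containing an elementary abelian subgroup of order p ^ 3 and lying in exactly one maximal subgroup, and B a noncyclic p-subgroup whose centralizer contains an elementary abelian subgroup of order p ^ 3. Then B lies in exactly one maximal subgroup of G. -/
theorem result {G : Type*} [Group G] [Finite G] (hG : Cfsg.IsMinSimpleOddOrder G)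
    (p : ℕ) [Fact p.Prime] (A B : Subgroup G) (hAp : IsPGroup p A) (hAc : IsMulCommutative A) (hA3 : ¬ Cfsg.PRankLE p 2 ↥A)
    (hAU : Cfsg.InUniqueMaximal A) (hBp : IsPGroup p B) (hBnc : ¬ IsCyclic B) (hB3 : ¬ Cfsg.PRankLE p 2 ↥(Subgroup.centralizer (B : Set G))) :
    Cfsg.InUniqueMaximal B := by
  have hpr : p.Prime := Fact.out
  obtain ⟨E₁, h1A, -, h1e, h1⟩ := H41.exists_elementary_of_not_pRankLE hA3
  obtain ⟨E₂, h2B, h2c, h2e, h2⟩ := H41.exists_elementary_of_not_pRankLE hB3
  have h2U := H41.inUniqueMaximal_transfer' hG hAc hAU h1A h1e h1 h2c h2e h2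
  have hp2 : p ≠ 2 := H41.pne2_of_card_dvd hG.1 (H41.prime_dvd_card_of_elementary (k := 2) h1)
  obtain ⟨F, hFB, hFc, hFe, hF⟩ := H41.exists_elementary_sq_of_not_isCyclic hp2 hBp hBnc
  exact Cfsg.Agent.S1399.result hG E₂ B h2U (Subgroup.le_centralizer_iff.mp h2B)
    (H41.not_rankLE hpr hFB hFc hFe hF.ge)

end Cfsg.Agent.S1400
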