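import Cfsg.Statements.S1402
import Cfsg.Agent.H41.SCNSmall
-- import your own Cfsg.Agent.* helpers here

set_option autoImplicit false
open Cfsg

namespace Cfsg.Agent.S1402

/-- Let G be a minimal simple group of odd order, p a prime, P a Sylow p-subgroup of G and A a normal subgroup of P with C_P(A) = A containing an elementary abelian subgroup of order p ^ 3. Then A lies in exactly one maximal subgroup of G. -/
theorem result {G : Type*} [Group G] [Finite G] (hG : Cfsg.IsMinSimpleOddOrder G)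
    (p : ℕ) [Fact p.Prime] (P : Sylow p G) (A : Subgroup G) (hA : Cfsg.IsSCN (P : Subgroup G) A) (hA3 : ¬ Cfsg.PRankLE p 2 ↥A) :
    Cfsg.InUniqueMaximal A := by
  have hpr : p.Prime := Fact.out
  obtain ⟨A₁, hA₁A, -, hA₁e, hA₁⟩ := H41.exists_elementary_of_not_pRankLE hA3
  have S : H41.ScnSetup p P A A₁ := ⟨hG, hA, hA₁A, hA₁e, hA₁⟩
  have hmin := hG.2
  by_cases hp' : ∃ W, IsCoatom W ∧ A ≤ W ∧ ¬ Cfsg.PRankLE p 2 ↥(H41.fcomp p W)
  · obtain ⟨W, hW, -, hW3⟩ := hp'
    exact Cfsg.Agent.S1401.result hG W hW p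
      (fun h => hW3 (H41.pRankLE_mono h (H41.fcomp_le_fittingOf hpr W))) A S.hAp S.hAc hA3
  by_cases hbig : ∃ r W, r.Prime ∧ H41.BigMax p A r W
  · obtain ⟨r, W, hr, B⟩ := hbig
    haveI := Fact.mk hr
    -- a second one coincides with the first
    have huniq : ∀ (t : ℕ) (W₂ : Subgroup G), t.Prime → H41.BigMax p A t W₂ → W₂ = W := by
      intro t W₂ ht B₂
      haveI := Fact.mk ht
      have hone : ∀ (a b : ℕ) (X Y : Subgroup G), a.Prime → b.Prime → a ≤ b → H41.BigMax p A a X →
          H41.BigMax p A b Y → Y = X := by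
        intro a b X Y ha hb hab BX BY
        haveI := Fact.mk ha
        haveI := Fact.mk hb
        have hle : H41.fcomp b Y ≤ X := by
          rcases Nat.lt_or_eq_of_le hab with hlt | rfl
          · exact BX.s_members_le S BY.hrp hlt.ne' (Or.inl hlt) (H41.isPGroup_fcomp b Y) BY.A_le_normalizer
          · exact BX.r_members_le S (H41.isPGroup_fcomp a Y) BY.A_le_normalizer
        exact ((eq_or_lt_of_le (BY.le_of_rank_three hG BX.hW.1 BY.hR hle (H41.fcomp_le b Y))).resolve_right
          fun h => BY.hW.1 (BX.hW.2 Y h)).symm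
      rcases le_total r t with h | h
      · exact hone r t W W₂ hr ht h B B₂
      · exact (hone t r W₂ W ht hr h B₂ B).symm
    refine S.inUniqueMaximal_of_members B.hW B.hAW fun Y hY => S.member_le_of_pMembers hY ?_
    intro q hq hqp Q _ hQ hAQ
    haveI := Fact.mk hq
    by_cases hqr : q = r
    · subst hqr
      exact B.r_members_le S hQ hAQ
    refine B.s_members_le S hqp hqr (Or.inr fun W₂ hW₂ hAW₂ hne t ht => ?_) hQ hAQ
    by_contra h
    by_cases htp : t = p
    · subst htp
      exact hp' ⟨W₂, hW₂, hAW₂, h⟩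
    exact hne (huniq t W₂ ht ⟨hW₂, hAW₂, htp, h⟩)
  · refine S.inUniqueMaximal_of_small fun W hW hAW t ht => ?_
    by_contra h
    by_cases htp : t = p
    · subst htp
      exact hp' ⟨W, hW, hAW, h⟩
    exact hbig ⟨t, W, ht, hW, hAW, htp, h⟩

end Cfsg.Agent.S1402
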