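import Cfsg.Statements.S1441
import Cfsg.Agent.H42.Stab

set_option autoImplicit false
open Cfsg

namespace Cfsg.Agent.S1441

/-- Let G be a finite group, H a solvable subgroup and A a subgroup normalizing H. Suppose there is a chain H = H₀ ≥ H₁ ≥ ⋯ ≥ H_n = 1 of subgroups normal in H and normalized by A such that A acts trivially on each factor H_{i-1}/H_i (that is, [H_{i-1}, A] ≤ H_i). Then every prime dividing the index of C_A(H) in A divides the order of H. -/
theorem result {G : Type*} [Group G] [Finite G] (H A : Subgroup G) (hH : Group.IsSolvable H) (hA : (A ≤ Subgroup.normalizer (H : Set G)))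
    (n : ℕ) (c : Fin (n + 1) → Subgroup G) (hc0 : c 0 = H) (hcn : c (Fin.last n) = ⊥) (hanti : Antitone c)
    (hcN : ∀ i, H ≤ Subgroup.normalizer ((c i : Subgroup G) : Set G)) (hcA : ∀ i, A ≤ Subgroup.normalizer ((c i : Subgroup G) : Set G))
    (htriv : ∀ i : Fin n, ⁅c i.castSucc, A⁆ ≤ c i.succ) :
    ∀ p : ℕ, p.Prime → p ∣ (A ⊓ Subgroup.centralizer (H : Set G)).relIndex A → p ∣ Nat.card H := by
  intro p hp hdvd
  by_contra hpH
  haveI := Fact.mk hp
  obtain ⟨S⟩ : Nonempty (Sylow p A) := inferInstance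
  let S' : Subgroup G := (S : Subgroup A).map A.subtype
  have hle : ∀ i, c i ≤ H := fun i => hc0 ▸ hanti (Fin.zero_le i)
  have hfix : ∀ a ∈ S', ∀ i, ∀ h ∈ c i, a * h = h * a := by
    rintro a ⟨b, hb, rfl⟩ i
    induction i using Fin.reverseInduction with
    | last =>
      intro h hh
      rw [hcn, Subgroup.mem_bot] at hh
      simp [hh]
    | cast i ih =>
      intro h hh
      have hm : h⁻¹ * ((b : G) * h * (b : G)⁻¹) ∈ c i.succ := by
        have := htriv i (Subgroup.commutator_mem_commutator (inv_mem hh) b.2)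
        simpa [commutatorElement_def, mul_assoc] using this
      show (b : G) * h = h * (b : G)
      refine Cfsg.Agent.H42.stab_step (k := h⁻¹ * ((b : G) * h * (b : G)⁻¹)) (by group) (ih _ hm) ?_
      obtain ⟨k, hk⟩ : ∃ k, orderOf (b : G) = p ^ k := by
        obtain ⟨k, hk⟩ := IsPGroup.iff_orderOf.mp S.isPGroup' ⟨b, hb⟩
        exact ⟨k, by rw [Subgroup.orderOf_coe, ← hk, ← Subgroup.orderOf_coe ⟨b, hb⟩]⟩
      rw [hk]
      exact (Nat.Coprime.pow_left k ((Nat.Prime.coprime_iff_not_dvd hp).mpr hpH)).coprime_dvd_right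
        (Subgroup.orderOf_dvd_natCard _ (hle _ hm))
  have hSC : S' ≤ A ⊓ Subgroup.centralizer (H : Set G) := by
    intro a ha
    refine ⟨Subgroup.map_subtype_le _ ha, fun h hh => ?_⟩
    exact (hfix a ha 0 h (hc0.symm ▸ hh)).symm
  have hrel : S'.relIndex A = (S : Subgroup A).index := by
    have : S'.subgroupOf A = (S : Subgroup A) :=
      Subgroup.comap_map_eq_self_of_injective A.subtype_injective _
    rw [Subgroup.relIndex, this]
  have := Subgroup.relIndex_mul_relIndex S' _ A hSC inf_le_left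
  rw [hrel] at this
  exact S.not_dvd_index ((dvd_mul_of_dvd_right hdvd _).trans (dvd_of_eq this))

end Cfsg.Agent.S1441
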