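import Cfsg.Statements.S1457
import Cfsg.Agent.H42.OddPStable

set_option autoImplicit false
open Cfsg

namespace Cfsg.Agent.S1457

/-- Let G be a solvable group of odd order, p a prime, S a Sylow p-subgroup of G and A an abelian subgroup of S normal in S. Then A ≤ O_{p',p}(G). -/
theorem result {G : Type*} [Group G] [Finite G] [Group.IsSolvable G] (hodd : Odd (Nat.card G)) (p : ℕ) [Fact p.Prime] (S : Sylow p G) (A : Subgroup G) (hA : A ≤ (S : Subgroup G)) (hAc : IsMulCommutative A)
    (hAn : (S : Subgroup G) ≤ Subgroup.normalizer (A : Set G)) :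
    A ≤ Cfsg.pPrimePCore p G := by
  classical
  rcases eq_or_ne p 2 with h2 | hp
  · subst h2
    intro a ha
    have hS : Nat.card (S : Subgroup G) = 1 := by
      have h1 := S.2
      obtain ⟨n, hn⟩ := IsPGroup.iff_card.mp h1
      rcases Nat.eq_zero_or_pos n with h0 | h0
      · rw [hn, h0, pow_zero]
      · have hd : (2 : ℕ) ∣ Nat.card G :=
          ((dvd_pow_self 2 (by omega : n ≠ 0)).trans hn.symm.dvd).trans (Subgroup.card_subgroup_dvd_card _)
        exact absurd hd (fun h => Nat.not_even_iff_odd.mpr hodd (even_iff_two_dvd.mpr h))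
    have hb : (S : Subgroup G) = ⊥ := Subgroup.card_eq_one.mp hS
    have := hA ha
    rw [hb, Subgroup.mem_bot] at this
    rw [this]; exact one_mem _
  · set π := QuotientGroup.mk' (Cfsg.pPrimeCore p G) with hπ
    have hsurj : Function.Surjective π := QuotientGroup.mk'_surjective _
    have hO : Cfsg.pPrimeCore p (G ⧸ Cfsg.pPrimeCore p G) = ⊥ :=
      Cfsg.Agent.Cores.pPrimeCore_quotient_pPrimeCore
    have hodd' : Odd (Nat.card (G ⧸ Cfsg.pPrimeCore p G)) :=
      hodd.of_dvd_nat (Subgroup.card_quotient_dvd_card _)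
    haveI : Group.IsSolvable (G ⧸ Cfsg.pPrimeCore p G) := Group.isSolvable_of_surjective hsurj
    have hZ : IsMulCommutative ↥(A.map π) := Subgroup.map_isMulCommutative A π
    have hn : ((S.mapSurjective hsurj : Sylow p _) : Subgroup (G ⧸ Cfsg.pPrimeCore p G)) ≤
        Subgroup.normalizer ((A.map π : Subgroup _) : Set (G ⧸ Cfsg.pPrimeCore p G)) := by
      rw [Sylow.coe_mapSurjective]
      exact (Subgroup.map_mono hAn).trans (Subgroup.le_normalizer_map π)
    have h := Cfsg.Agent.Thompson.le_pCore_of_stable (p := p)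
      (Cfsg.Agent.Cores.centralizer_pCore_le Cfsg.Agent.Cores.isPSolvable_of_isSolvable hO)
      (Cfsg.Agent.H41.stableOnNormal_of_odd hp hodd') (S.mapSurjective hsurj) (A.map π) hZ hn
    exact Subgroup.map_le_iff_le_comap.mp h

end Cfsg.Agent.S1457
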