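import Cfsg.Statements.S1458
import Cfsg.Agent.H41.ZJSolvable

set_option autoImplicit false
open Cfsg

namespace Cfsg.Agent.S1458

/-- Let G be a solvable group of odd order, p a prime and S a Sylow p-subgroup of G. Then the subgroup generated by the centre of the Thompson subgroup of S and O_{p'}(G) is normal in G. -/
theorem result {G : Type*} [Group G] [Finite G] [Group.IsSolvable G] (hodd : Odd (Nat.card G)) (p : ℕ) [Fact p.Prime] (S : Sylow p G) :
    (Cfsg.centerThompsonOf p (S : Subgroup G) ⊔ Cfsg.pPrimeCore p G).Normal := by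
  classical
  rw [Cfsg.Agent.Thompson.centerThompsonOf_eq]
  set N := Cfsg.pPrimeCore p G with hN
  set q := QuotientGroup.mk' N with hq
  set Z := Cfsg.Agent.Thompson.zjay p (S : Subgroup G) with hZ
  haveI hNn : N.Normal := inferInstance
  rcases eq_or_ne p 2 with h2 | hp
  · subst h2
    have hb : (S : Subgroup G) = ⊥ := by
      refine Subgroup.card_eq_one.mp ?_
      obtain ⟨n, hn⟩ := IsPGroup.iff_card.mp S.isPGroup'
      rcases Nat.eq_zero_or_pos n with h0 | h0
      · rw [hn, h0, pow_zero]
      · exact absurd (even_iff_two_dvd.mpr (((dvd_pow_self 2 (by omega : n ≠ 0)).trans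
          hn.symm.dvd).trans (Subgroup.card_subgroup_dvd_card _))) (Nat.not_even_iff_odd.mpr hodd)
    have : Z = ⊥ := le_bot_iff.mp (Cfsg.Agent.Thompson.zjay_le.trans hb.le)
    rw [this, bot_sup_eq]
    exact hNn
  · have hinj : Function.Injective (q.comp (S : Subgroup G).subtype) := by
      rw [injective_iff_map_eq_one]
      intro x hx
      have h1 : (x : G) ∈ (S : Subgroup G) ⊓ N := ⟨x.2, (QuotientGroup.eq_one_iff _).mp hx⟩
      rw [Cfsg.Agent.Cores.disjoint_of_isPGroup_of_coprime S.isPGroup'
        Cfsg.Agent.Cores.coprime_card_pPrimeCore, Subgroup.mem_bot] at h1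
      exact Subtype.ext h1
    have hsurj : Function.Surjective q := QuotientGroup.mk'_surjective N
    haveI : Group.IsSolvable (G ⧸ N) := Group.isSolvable_of_surjective hsurj
    have hn := Cfsg.Agent.Thompson.zjay_prime_normal hp
      (Cfsg.Agent.Cores.centralizer_pCore_le Cfsg.Agent.Cores.isPSolvable_of_isSolvable
        Cfsg.Agent.Cores.pPrimeCore_quotient_pPrimeCore)
      (Cfsg.Agent.H41.stableOnNormal_of_odd hp (hodd.of_dvd_nat (Subgroup.card_quotient_dvd_card N)))
      (S.mapSurjective hsurj)
    rw [Sylow.coe_mapSurjective, Cfsg.Agent.H41.zjay_map_of_injOn p q (S : Subgroup G) hinj] at hn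
    have h1 := hn.comap q
    rwa [Subgroup.comap_map_eq, QuotientGroup.ker_mk'] at h1

end Cfsg.Agent.S1458
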