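import Cfsg.Statements.S1460
import Cfsg.Agent.Hall.SchurZassenhaus

set_option autoImplicit false
open Cfsg

namespace Cfsg.Agent.S1460

open scoped Pointwise commutatorElement

variable {G : Type*} [Group G] [Finite G]

omit [Finite G] in
theorem dedekind {K L U : Subgroup G} [K.Normal] (hL : L ≤ U) :
    (K ⊔ L) ⊓ U = (K ⊓ U) ⊔ L := by
  refine le_antisymm (fun x hx => ?_) (sup_le (inf_le_inf_right U le_sup_left) (le_inf le_sup_right hL))
  obtain ⟨hx, hxU⟩ := hx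
  obtain ⟨k, hk, l, hl, rfl⟩ := Subgroup.mem_sup_of_normal_left.mp hx
  exact Subgroup.mul_mem_sup ⟨hk, by simpa using U.mul_mem hxU (U.inv_mem (hL hl))⟩ hl

theorem conj_in_supplement [Group.IsSolvable G] (K U H : Subgroup G) [K.Normal]
    (hKU : K ⊔ U = ⊤) (hH : H ≤ U) (hcop : (Nat.card H).Coprime (Nat.card K)) :
    (∀ g : G, MulAut.conj g • H ≤ U →
      ∃ u ∈ U, ∃ c ∈ K ⊓ Subgroup.centralizer (H : Set G), g = u * c) ∧
    K ⊓ Subgroup.centralizer (H : Set G) ≤ Subgroup.normalizer (H : Set G) := by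
  refine ⟨fun g hg => ?_, inf_le_right.trans (Subgroup.centralizer_le_normalizer _)⟩
  obtain ⟨u, hu, k, hk, rfl⟩ := Subgroup.mem_sup_of_normal_right.mp
    ((sup_comm K U ▸ hKU).symm ▸ Subgroup.mem_top g : g ∈ U ⊔ K)
  have hk' : MulAut.conj k • H ≤ U := by
    rw [Hall.conj_mul_smul, Hall.conj_smul_le_iff,
      Hall.conj_smul_eq_self_of_mem (U.inv_mem hu)] at hg
    exact hg
  have hsup : (K ⊓ U) ⊔ H = (K ⊓ U) ⊔ MulAut.conj k • H := by
    rw [← dedekind hH, ← dedekind hk', Hall.sup_conj_smul_eq,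
      Hall.conj_smul_eq_self_of_mem ((le_sup_left : K ≤ K ⊔ H) hk)]
  obtain ⟨w, hw, hwe⟩ := Hall.conj_complement_internal
    (show H ≤ Subgroup.normalizer ((K ⊓ U : Subgroup G) : Set G) from
      Hall.le_normalizer_of_conj fun a ha => by
        rw [Subgroup.smul_inf, Hall.conj_smul_of_normal a K,
          Hall.conj_smul_eq_self_of_mem (hH ha)])
    hsup (Hall.card_conj_smul k H)
    (hcop.symm.coprime_dvd_left (Subgroup.card_dvd_of_le inf_le_left)) (Or.inl inferInstance)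
  have hcK : w⁻¹ * k ∈ K := K.mul_mem (K.inv_mem hw.1) hk
  have hfix : MulAut.conj (w⁻¹ * k) • H = H := by
    rw [Hall.conj_mul_smul, ← hwe, Hall.conj_inv_smul_conj_smul]
  refine ⟨u * w, U.mul_mem hu hw.2, w⁻¹ * k, ⟨hcK, fun h hh => ?_⟩, by group⟩
  have hmem : (w⁻¹ * k) * h * (w⁻¹ * k)⁻¹ * h⁻¹ ∈ K ⊓ H := by
    refine ⟨?_, H.mul_mem ?_ (H.inv_mem hh)⟩
    · have := K.mul_mem hcK (‹K.Normal›.conj_mem _ (K.inv_mem hcK) h)
      simpa [mul_assoc] using this
    · nth_rewrite 1 [← hfix]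
      rw [Hall.mem_conj_smul]
      simpa [mul_assoc] using hh
  rw [Hall.inf_bot_of_coprime hcop.symm, Subgroup.mem_bot, mul_inv_eq_one,
    mul_inv_eq_iff_eq_mul] at hmem
  exact hmem.symm

theorem inf_commutator (K U H : Subgroup G) [K.Normal] (hKU : K ⊔ U = ⊤) (hH : H ≤ U)
    (hcop : (Nat.card H).Coprime (Nat.card K)) : H ⊓ commutator G = H ⊓ ⁅U, U⁆ := by
  refine le_antisymm (fun x hx => ?_) (inf_le_inf_left H ?_)
  swap
  · rw [commutator_def]; exact Subgroup.commutator_mono le_top le_top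
  obtain ⟨hxH, hxG⟩ := hx
  refine ⟨hxH, ?_⟩
  set f := QuotientGroup.mk' K
  have hUtop : U.map f = ⊤ := by
    have h := congrArg (Subgroup.map f) hKU
    rwa [Subgroup.map_sup, QuotientGroup.map_mk'_self, bot_sup_eq,
      Subgroup.map_top_of_surjective f (QuotientGroup.mk'_surjective K)] at h
  have hU' : (commutator G).map f = (⁅U, U⁆).map f := by
    rw [commutator_def, Subgroup.map_commutator, Subgroup.map_commutator, hUtop,
      Subgroup.map_top_of_surjective f (QuotientGroup.mk'_surjective K)]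
  obtain ⟨d, hd, hde⟩ : f x ∈ (⁅U, U⁆).map f := hU' ▸ Subgroup.mem_map_of_mem f hxG
  have hk : d⁻¹ * x ∈ K := QuotientGroup.eq.mp hde
  have hdU : ⁅U, U⁆ ≤ U := Subgroup.commutator_le.mpr fun a ha b hb =>
    U.mul_mem (U.mul_mem (U.mul_mem ha hb) (U.inv_mem ha)) (U.inv_mem hb)
  set D := (⁅U, U⁆).subgroupOf U
  have : D.Normal := by
    refine (Subgroup.normal_subgroupOf_iff_le_normalizer hdU).mpr
      (Hall.le_normalizer_of_conj fun a ha => ?_)
    rw [← Hall.map_conj_eq_smul, Subgroup.map_commutator, Hall.map_conj_eq_smul,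
      Hall.conj_smul_eq_self_of_mem ha]
  set kU : U := ⟨d⁻¹ * x, U.mul_mem (U.inv_mem (hdU hd)) (hH hxH)⟩
  have he : ((⟨x, hH hxH⟩ : U) : U ⧸ D) = (kU : U ⧸ D) := by
    rw [QuotientGroup.eq]
    change x⁻¹ * (d⁻¹ * x) ∈ ⁅U, U⁆
    simpa [mul_assoc] using (Subgroup.normal_subgroupOf_iff hdU).mp ‹D.Normal› d⁻¹ x⁻¹
      ((⁅U, U⁆).inv_mem hd) (U.inv_mem (hH hxH))
  have h1 : orderOf ((⟨x, hH hxH⟩ : U) : U ⧸ D) = 1 := by
    refine Nat.eq_one_of_dvd_coprimes hcop ?_ ?_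
    · refine (orderOf_map_dvd (QuotientGroup.mk' D) _).trans ?_
      rw [← Subgroup.orderOf_coe]
      exact H.orderOf_dvd_natCard hxH
    · rw [he]
      refine (orderOf_map_dvd (QuotientGroup.mk' D) _).trans ?_
      rw [← Subgroup.orderOf_coe]
      exact K.orderOf_dvd_natCard hk
  exact (QuotientGroup.eq_one_iff (N := D) (⟨x, hH hxH⟩ : U)).mp (orderOf_eq_one_iff.mp h1)

/-- Let G be a finite solvable group, K a normal subgroup and U a subgroup with G = KU, and H ≤ U a subgroup whose order is coprime to that of K. Then H ∩ G' = H ∩ U'; N_G(H) is generated by K ∩ C_G(H) and U ∩ N_G(H); and if gHg⁻¹ ≤ U for some g ∈ G then g = u c with u ∈ U and c ∈ K ∩ C_G(H). -/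
theorem result {G : Type*} [Group G] [Finite G] [Group.IsSolvable G] (K U H : Subgroup G) [K.Normal] (hKU : K ⊔ U = ⊤) (hH : H ≤ U) (hcop : (Nat.card H).Coprime (Nat.card K)) :
    H ⊓ commutator G = H ⊓ ⁅U, U⁆ ∧
      Subgroup.normalizer (H : Set G) = (K ⊓ Subgroup.centralizer (H : Set G)) ⊔ (U ⊓ Subgroup.normalizer (H : Set G)) ∧
      ∀ g : G, H.map (MulAut.conj g).toMonoidHom ≤ U → ∃ u ∈ U, ∃ c ∈ K ⊓ Subgroup.centralizer (H : Set G), g = u * c := by
  obtain ⟨hc, hd⟩ := conj_in_supplement K U H hKU hH hcop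
  refine ⟨inf_commutator K U H hKU hH hcop, le_antisymm (fun g hg => ?_) (sup_le ?_ inf_le_right), ?_⟩
  · obtain ⟨u, hu, c, hc', rfl⟩ := hc g (by
      rw [Hall.conj_smul_of_le_normalizer le_rfl hg]; exact hH)
    rw [sup_comm]
    refine Subgroup.mul_mem_sup ⟨hu, ?_⟩ hc'
    simpa using (Subgroup.normalizer (H : Set G)).mul_mem hg
      ((Subgroup.normalizer (H : Set G)).inv_mem (hd hc'))
  · exact fun c hc' => hd hc'
  · intro g hg
    rw [Hall.map_conj_eq_smul] at hg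
    exact hc g hg

end Cfsg.Agent.S1460
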