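import Cfsg.Statements.S1462
import Cfsg.Agent.H42.InvariantSignalizer

set_option autoImplicit false
open Cfsg

namespace Cfsg.Agent.S1462

/-- Let G be a finite solvable group, p an odd prime with G = O_{p',p,p'}(G), E an elementary abelian p-subgroup contained in no larger elementary abelian p-subgroup of G, and L a subgroup of order coprime to p normalized by E. Then L ≤ O_{p'}(G). -/
theorem result {G : Type*} [Group G] [Finite G] [Group.IsSolvable G] (p : ℕ) [Fact p.Prime] (hp : p ≠ 2) (hpl : Cfsg.PLengthLE p 1 G) (E L : Subgroup G) (hE : Cfsg.IsElementaryAbelian p E)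
    (hEmax : ∀ B : Subgroup G, Cfsg.IsElementaryAbelian p B → E ≤ B → B = E) (hL : (Nat.card L).Coprime p) (hEL : E ≤ Subgroup.normalizer (L : Set G)) :
    L ≤ Cfsg.pPrimeCore p G := by
  haveI := hE.1
  refine Cfsg.Agent.H42.le_pPrimeCore_of_invariant_odd
    (Cfsg.Agent.Cores.isPConstrained_of_isPSolvable Cfsg.Agent.Cores.isPSolvable_of_isSolvable)
    E L (fun u => ⟨1, Subtype.ext (by simpa using hE.2 u u.2)⟩) ?_ hEL hL hp
  intro x hx hxp
  -- `E⟨x⟩` is elementary abelian
  have hB : Cfsg.IsElementaryAbelian p (E ⊔ Subgroup.zpowers x) := by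
    have hc : IsMulCommutative ↥(E ⊔ Subgroup.zpowers x) := by
      rw [show E ⊔ Subgroup.zpowers x = Subgroup.closure ((E : Set G) ∪ {x}) by
        rw [Subgroup.closure_union, Subgroup.closure_eq, ← Subgroup.zpowers_eq_closure]]
      refine Subgroup.isMulCommutative_closure ?_
      rintro a (ha | ha) b (hb | hb)
      · exact congrArg Subtype.val (mul_comm' (⟨a, ha⟩ : E) ⟨b, hb⟩)
      · rw [Set.mem_singleton_iff] at hb; subst hb; exact hx a ha
      · rw [Set.mem_singleton_iff] at ha; subst ha; exact (hx b hb).symm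
      · rw [Set.mem_singleton_iff] at ha hb; subst ha hb; rfl
    refine ⟨hc, fun a ha => ?_⟩
    have hn : Subgroup.zpowers x ≤ Subgroup.normalizer (E : Set G) :=
      (Subgroup.zpowers_le.mpr hx).trans (Subgroup.centralizer_le_normalizer _)
    obtain ⟨e, he, z, hz, rfl⟩ := (Cfsg.Agent.Coprime.mem_sup_iff hn).mp ha
    obtain ⟨i, rfl⟩ := Subgroup.mem_zpowers_iff.mp hz
    rw [((show Commute e x from hx e he).zpow_right i).mul_pow, hE.2 e he, one_mul,
      ← zpow_natCast, ← zpow_mul, mul_comm, zpow_mul, zpow_natCast, ← hxp, pow_orderOf_eq_one, one_zpow]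
  have h := hEmax _ hB le_sup_left
  exact h ▸ Subgroup.mem_sup_right (Subgroup.mem_zpowers x)

end Cfsg.Agent.S1462
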