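import Cfsg.Statements.S1464
import Cfsg.Agent.H42.OddPStable

set_option autoImplicit false
open Cfsg

namespace Cfsg.Agent.S1464

/-- Let p be an odd prime and G a solvable group of odd order, P a p-subgroup with O_{p'}(G)P normal in G, and A a p-subgroup of N_G(P) with [[P, A], A] = 1. Then the image of A in the quotient N_G(P)/C_G(P) is contained in the p-core of that quotient. -/
theorem result {G : Type*} [Group G] [Finite G] [Group.IsSolvable G] (hodd : Odd (Nat.card G)) (p : ℕ) [Fact p.Prime] (hp : p ≠ 2) (P A : Subgroup G) (hP : IsPGroup p P) (hPn : (Cfsg.pPrimeCore p G ⊔ P).Normal)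
    (hA : IsPGroup p A) (hAN : A ≤ Subgroup.normalizer (P : Set G)) (hquad : ⁅⁅P, A⁆, A⁆ = ⊥) :
    (A.subgroupOf (Subgroup.normalizer (P : Set G))).map
        (QuotientGroup.mk' ((Subgroup.centralizer (P : Set G)).subgroupOf (Subgroup.normalizer (P : Set G))))
      ≤ Cfsg.pCore p _ := by
  classical
  set N := Subgroup.normalizer (P : Set G) with hN
  haveI hBn : (P.subgroupOf N).Normal := Subgroup.normal_subgroupOf_of_le_normalizer le_rfl
  have hB : IsPGroup p ↥(P.subgroupOf N) :=
    hP.comap_of_injective _ N.subtype_injective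
  have hoddN : Odd (Nat.card N) := hodd.of_dvd_nat (Subgroup.card_subgroup_dvd_card N)
  have hst := Cfsg.Agent.Thompson.le_stabPre (A := A.subgroupOf N)
    (Cfsg.Agent.H41.stableOnNormal_of_odd hp hoddN) hB (by
      have hPN : P ≤ N := Subgroup.le_normalizer
      apply Subgroup.map_injective N.subtype_injective
      rw [Subgroup.map_commutator, Subgroup.map_commutator, Subgroup.map_bot,
        Subgroup.subgroupOf_map_subtype, Subgroup.subgroupOf_map_subtype,
        inf_eq_left.mpr hPN, inf_eq_left.mpr hAN, hquad])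
  have hc : (Subgroup.centralizer (P : Set G)).subgroupOf N =
      Subgroup.centralizer ((P.subgroupOf N : Subgroup N) : Set N) := by
    ext x
    simp only [Subgroup.mem_subgroupOf, Subgroup.mem_centralizer_iff, SetLike.mem_coe]
    exact ⟨fun h y hy => Subtype.ext (h y hy),
      fun h y hy => congrArg Subtype.val (h ⟨y, Subgroup.le_normalizer hy⟩ hy)⟩
  have key : ∀ (C : Subgroup N) (_ : C.Normal),
      C = Subgroup.centralizer ((P.subgroupOf N : Subgroup N) : Set N) →
      (A.subgroupOf N).map (QuotientGroup.mk' C) ≤ Cfsg.pCore p (N ⧸ C) := by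
    rintro C hC rfl
    exact Subgroup.map_le_iff_le_comap.mpr hst
  exact key _ _ hc

end Cfsg.Agent.S1464
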