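import Cfsg.Statements.S1468
import Cfsg.Agent.H42.PuigInside
import Cfsg.Agent.H42.OddPStable

set_option autoImplicit false
open Cfsg

namespace Cfsg.Agent.S1468

/-- Let p be an odd prime, G a solvable group of odd order with O_{p'}(G) = 1, S a Sylow p-subgroup and T = O_p(G). Then, viewing the Puig subgroups of S and of T inside G, L_*(S) ≤ L_*(T) ≤ L(T) ≤ L(S). -/
theorem result {G : Type*} [Group G] [Finite G] [Group.IsSolvable G] (hodd : Odd (Nat.card G)) (p : ℕ) [Fact p.Prime] (hp : p ≠ 2) (hO : Cfsg.pPrimeCore p G = ⊥) (S : Sylow p G) :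
    (Cfsg.puigLower ↥(S : Subgroup G)).map (S : Subgroup G).subtype ≤ (Cfsg.puigLower ↥(Cfsg.pCore p G)).map (Cfsg.pCore p G).subtype ∧
      (Cfsg.puigLower ↥(Cfsg.pCore p G)).map (Cfsg.pCore p G).subtype ≤ (Cfsg.puigSubgroup ↥(Cfsg.pCore p G)).map (Cfsg.pCore p G).subtype ∧
      (Cfsg.puigSubgroup ↥(Cfsg.pCore p G)).map (Cfsg.pCore p G).subtype ≤ (Cfsg.puigSubgroup ↥(S : Subgroup G)).map (S : Subgroup G).subtype := by
  classical
  set T := Cfsg.pCore p G with hT
  have hTS : T ≤ (S : Subgroup G) := Cfsg.Agent.Cores.pCore_le_sylow S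
  haveI : T.Normal := Cfsg.pCore_normal p G
  have hTn : ∀ n, (Cfsg.Agent.H42.seqIn T n).Normal := fun n =>
    Subgroup.normalizer_eq_top_iff.mp (top_le_iff.mp
      ((Subgroup.normalizer_eq_top_iff.mpr inferInstance).ge.trans
        (Cfsg.Agent.H42.normalizer_le_seqIn T n)))
  have hTp : IsPGroup p T := Cfsg.Agent.Cores.pCore_isPGroup
  have h := Cfsg.Agent.H42.compare_lower_upper
    (Cfsg.Agent.H42.seqIn_compare hTS fun n A hA hc hn hle => by
      haveI := hTn (2 * n + 1)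
      exact Cfsg.Agent.H42.le_pCore_of_normalized hp hodd hO
        (hTp.to_le (Cfsg.Agent.H42.seqIn_le T _))
        (Cfsg.Agent.H42.inf_centralizer_seqIn_succ_le hTp _) hc (hle.trans hn))
  exact ⟨h.1, Cfsg.Agent.H42.lowerIn_le_upperIn T, h.2⟩

end Cfsg.Agent.S1468
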