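import Cfsg.Statements.S1480
import Cfsg.Agent.H42.Transitivity

set_option autoImplicit false
open Cfsg

namespace Cfsg.Agent.S1480

/-- Let G be a finite group and p a prime such that the normalizer of every nontrivial p-subgroup of G is p-constrained; if p = 2 assume also that the Sylow 2-subgroups of G have nilpotency class at most 2. Let E be an abelian p-subgroup containing an elementary abelian subgroup of order p ^ 3 and containing every element of p-power order of C_G(E). Then for every prime q ≠ p, any two maximal E-invariant q-subgroups of G are conjugate by an element of O_{p'}(C_G(E)). -/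
theorem result {G : Type*} [Group G] [Finite G] (p : ℕ) [Fact p.Prime]
    (hloc : ∀ T : Subgroup G, IsPGroup p T → T ≠ ⊥ → Cfsg.IsPConstrained p ↥(Subgroup.normalizer (T : Set G)))
    (h2 : p = 2 → ∀ S : Sylow p G, Group.IsNilpotent (S : Subgroup G) ∧ Group.nilpotencyClass (S : Subgroup G) ≤ 2)
    (E : Subgroup G) (hEp : IsPGroup p E) (hEc : IsMulCommutative E) (hE3 : ¬ Cfsg.PRankLE p 2 E)
    (hEfull : ∀ x ∈ Subgroup.centralizer (E : Set G), IsPGroup p (Subgroup.zpowers x) → x ∈ E)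
    (q : ℕ) [Fact q.Prime] (hqp : q ≠ p) :
    ∀ Q₁ ∈ Cfsg.maxInvSubgroups ⊤ E {q}, ∀ Q₂ ∈ Cfsg.maxInvSubgroups ⊤ E {q},
        ∃ k ∈ Cfsg.piCoreOf (Cfsg.primesNotDvd p) (Subgroup.centralizer (E : Set G)), Q₂ = Q₁.map (MulAut.conj k).toMonoidHom := by
  intro Q₁ hQ₁ Q₂ hQ₂
  have hE3' : ∃ A ≤ E, Cfsg.IsElementaryAbelian p A ∧ p ^ 3 ≤ Nat.card A := by
    simp only [Cfsg.PRankLE, not_forall, not_le] at hE3
    obtain ⟨A, hA1, hA2, hA3⟩ := hE3
    refine ⟨A.map E.subtype, Subgroup.map_subtype_le A, ⟨?_, ?_⟩, ?_⟩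
    · exact inferInstance
    · rintro _ ⟨a, ha, rfl⟩
      rw [← map_pow, hA2 a ha, map_one]
    · rw [Subgroup.card_map_of_injective E.subtype_injective]
      have hAp : IsPGroup p A := (hEp.to_subgroup A)
      obtain ⟨n, hn⟩ := IsPGroup.iff_card.mp hAp
      rw [hn] at hA3 ⊢
      exact Nat.pow_le_pow_right (Fact.out : p.Prime).pos
        ((Nat.pow_lt_pow_iff_right (Fact.out : p.Prime).one_lt).mp hA3)
  have hconv : ∀ Q ∈ Cfsg.maxInvSubgroups ⊤ E {q},
      Maximal (fun R : Subgroup G => IsPGroup q R ∧ E ≤ Subgroup.normalizer (R : Set G)) Q := by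
    intro Q hQ
    have hiff : ∀ R : Subgroup G, R ∈ Cfsg.invSubgroups ⊤ E {q} ↔
        IsPGroup q R ∧ E ≤ Subgroup.normalizer (R : Set G) := fun R => by
      rw [Cfsg.Agent.Cores.isPGroup_iff_isPiNumber (Fact.out : q.Prime)]
      exact ⟨fun h => ⟨h.2.1, h.2.2⟩, fun h => ⟨le_top, h.1, h.2⟩⟩
    exact ⟨(hiff Q).mp hQ.1, fun R hR hle => (hQ.2 R ((hiff R).mpr hR) hle).le⟩
  refine Cfsg.Agent.H42.transitivity hqp E hEp hEc hE3' _ (Subgroup.map_subtype_le _)
    (Cfsg.Agent.H42.le_piCoreOf_centralizer E hEp hEc hEfull) ?_ Q₁ Q₂ (hconv Q₁ hQ₁) (hconv Q₂ hQ₂)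
  intro a haE ha Y hYa hY hEY
  have hcl : p = 2 → ∀ S : Subgroup G, IsPGroup p S → ⁅⁅S, S⁆, S⁆ = ⊥ := by
    intro hp2 S hS
    obtain ⟨P, hP⟩ := hS.exists_le_sylow
    obtain ⟨hn, hc⟩ := h2 hp2 P
    have h3 := (Subgroup.lowerCentralSeries_eq_bot_iff_nilpotencyClass_le (G := (P : Subgroup G))).mpr hc
    simp only [Subgroup.lowerCentralSeries_succ, Subgroup.lowerCentralSeries_zero] at h3
    have h4 := congrArg (Subgroup.map (P : Subgroup G).subtype) h3
    rw [Subgroup.map_commutator, Subgroup.map_commutator, Subgroup.map_bot, ← MonoidHom.range_eq_map,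
      Subgroup.range_subtype] at h4
    exact le_bot_iff.mp ((Subgroup.commutator_mono (Subgroup.commutator_mono hP hP) hP).trans h4.le)
  have hCN : Subgroup.centralizer ({a} : Set G) ≤ Subgroup.normalizer (Subgroup.zpowers a : Set G) := by
    rw [← Cfsg.Agent.H42.centralizer_zpowers']; exact Subgroup.centralizer_le_normalizer _
  refine Cfsg.Agent.H42.invariant_le_core hqp E hEp hEfull hcl _
    (hloc _ (hEp.to_le (Subgroup.zpowers_le.mpr haE)) (Subgroup.zpowers_ne_bot.mpr ha))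
    (fun w hw => hCN ?_) Y (hYa.trans hCN) hY hEY
  rw [Subgroup.mem_centralizer_singleton_iff]
  exact congrArg Subtype.val (mul_comm' (⟨w, hw⟩ : E) ⟨a, haE⟩)

end Cfsg.Agent.S1480
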