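import Cfsg.Statements.S1481
import Cfsg.Agent.H42.TwoPrimes

set_option autoImplicit false
open Cfsg

namespace Cfsg.Agent.S1481

/-- Let G be a finite group and H a local subgroup (the normalizer of a nontrivial subgroup of prime-power order) not properly contained in any local subgroup; let F = F(H), suppose at least two primes divide #F, put X = H ∩ C_G(F), let M ≤ F with F ∩ C_G(M) ≤ M, and let R be a solvable subgroup normalized by M and by X. Then for every prime q not dividing #F there is exactly one maximal M-invariant q-subgroup of R, and it is a Sylow q-subgroup of the largest normal subgroup of R of order coprime to #F. -/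
theorem result {G : Type*} [Group G] [Finite G] (H : Subgroup G) (hH : Cfsg.IsLocalSubgroup H) (hHmax : ∀ L : Subgroup G, Cfsg.IsLocalSubgroup L → H ≤ L → L = H)
    (hF2 : 2 ≤ (Nat.card (Cfsg.fittingOf H)).primeFactors.card)
    (M : Subgroup G) (hM : M ≤ Cfsg.fittingOf H) (hCM : Cfsg.fittingOf H ⊓ Subgroup.centralizer (M : Set G) ≤ M)
    (R : Subgroup G) (hR : Group.IsSolvable R) (hMR : M ≤ Subgroup.normalizer (R : Set G))
    (hXR : H ⊓ Subgroup.centralizer (Cfsg.fittingOf H : Set G) ≤ Subgroup.normalizer (R : Set G))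
    (q : ℕ) [Fact q.Prime] (hq : ¬ q ∣ Nat.card (Cfsg.fittingOf H)) :
    ∃! Q : Subgroup G, Q ∈ Cfsg.maxInvSubgroups R M {q} ∧
      (∀ Q' : Subgroup G, Q' ∈ Cfsg.maxInvSubgroups R M {q} →
        Q' ≤ Cfsg.piCoreOf (Cfsg.primesNotDvd (Nat.card (Cfsg.fittingOf H))) R ∧
        ¬ q ∣ Q'.relIndex (Cfsg.piCoreOf (Cfsg.primesNotDvd (Nat.card (Cfsg.fittingOf H))) R)) := by
  classical
  obtain ⟨hfix, hle⟩ := Cfsg.Agent.H42.two_primes H hH hHmax hF2 M hM hCM R hR hMR hXR
  set n := Nat.card (Cfsg.fittingOf H) with hn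
  set τ := Cfsg.primesNotDvd n with hτ
  set W := Cfsg.piCoreOf τ R with hW
  have hq' : q.Prime := Fact.out
  have hWR : W ≤ R := Subgroup.map_subtype_le _
  have hWτ : Cfsg.Agent.Cores.IsPiNumber τ (Nat.card W) := by
    rw [hW, Cfsg.piCoreOf, Subgroup.card_map_of_injective R.subtype_injective]
    exact Cfsg.Agent.Cores.piCore_isPiNumber τ
  have hcop : (Nat.card M).Coprime (Nat.card W) := by
    refine Nat.coprime_of_dvd fun r hr h1 h2 => (hWτ r hr h2).2 (h1.trans ?_)
    exact Subgroup.card_dvd_of_le hM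
  have hMW : M ≤ Subgroup.normalizer (W : Set G) :=
    hMR.trans (Cfsg.Agent.H42.normalizer_le_map_char _)
  have hsol : Group.IsSolvable M ∨ Group.IsSolvable W :=
    Or.inr (Cfsg.Agent.Coprime.isSolvable_of_le hWR hR)
  obtain ⟨P, hP⟩ := Cfsg.Agent.Coprime.exists_invariant_sylow hMW hcop hsol q
  set Q := (P : Subgroup W).map W.subtype with hQ
  -- every invariant `q`-subgroup lies in `Q`
  have hmax : ∀ U : Subgroup G, U ∈ Cfsg.invSubgroups R M {q} → U ≤ Q := by
    rintro U ⟨hUR, hUq, hUM⟩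
    have hUW : U ≤ W := hle U hUR hUM fun r hr hd => ⟨hr, by
      rw [hUq r hr hd]; exact hq⟩
    have hUp : IsPGroup q U := (Cfsg.Agent.Cores.isPGroup_iff_isPiNumber hq').mpr hUq
    obtain ⟨P', hP', hP'M⟩ := Cfsg.Agent.Coprime.exists_invariant_sylow_ge hMW hcop hsol q hUW hUp hUM
    obtain ⟨c, hc, rfl⟩ := Cfsg.Agent.Coprime.exists_conj_invariant_sylow hMW hcop hsol q P P' hP hP'M
    have hc1 : c = 1 := Subtype.ext <| by
      have : (c : G) ∈ W ⊓ Subgroup.centralizer (M : Set G) := ⟨c.2, hc⟩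
      rwa [hfix, Subgroup.mem_bot] at this
    rw [hc1, map_one, one_smul] at hP'
    exact hP'
  have hQinv : Q ∈ Cfsg.invSubgroups R M {q} :=
    ⟨(Subgroup.map_subtype_le _).trans hWR,
      (Cfsg.Agent.Cores.isPGroup_iff_isPiNumber hq').mp (P.isPGroup'.map _), hP⟩
  have hQmax : Q ∈ Cfsg.maxInvSubgroups R M {q} :=
    ⟨hQinv, fun U hU h => le_antisymm (hmax U hU) h⟩
  refine ⟨Q, ⟨hQmax, fun Q' hQ' => ?_⟩, fun Q' hQ' => (hQ'.1.2 Q hQinv (hmax Q' hQ'.1.1)).symm⟩
  have hQQ : Q = Q' := hQ'.2 Q hQinv (hmax Q' hQ'.1)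
  subst hQQ
  refine ⟨Subgroup.map_subtype_le _, ?_⟩
  have : Q.subgroupOf W = (P : Subgroup W) :=
    Subgroup.comap_map_eq_self_of_injective W.subtype_injective _
  rw [Subgroup.relIndex, this]
  exact P.not_dvd_index

end Cfsg.Agent.S1481
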