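import Cfsg.Statements.S1485
import Mathlib

set_option autoImplicit false
open Cfsg

namespace Cfsg.Agent.S1485

/-- Let H be a normal subgroup of the finite group G and θ an irreducible character of H. On H, the function induced from θ equals r times the sum of the distinct G-conjugates of θ, where r is the number of elements of G fixing θ under conjugation divided by the order of H (the index of H in the inertia group). -/
theorem result {G : Type*} [Group G] [Fintype G] (H : Subgroup G) [hN : H.Normal] (θ : H → ℂ) (hθ : Cfsg.IsIrrCharacter H θ) : (fun h : H => Cfsg.indFun H θ h) = ((Nat.card {g : G // ∀ h : H, θ ⟨g * h * g⁻¹, hN.conj_mem h h.2 g⟩ = θ h} : ℂ) / (Nat.card H : ℂ)) • ∑ᶠ ψ ∈ {ψ : H → ℂ | ∃ g : G, ψ = fun h : H => θ ⟨g * h * g⁻¹, hN.conj_mem h h.2 g⟩}, ψ := by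
  classical
  let f : G → (H → ℂ) := fun g h => θ ⟨g * h * g⁻¹, hN.conj_mem h h.2 g⟩
  have hext : ∀ (x : G) (hx : x ∈ H), Cfsg.extendByZero H θ x = θ ⟨x, hx⟩ := fun x hx =>
    Subtype.val_injective.extend_apply θ 0 ⟨x, hx⟩
  have hfib : ∀ g : G, {x : G | f x = f g} ≃ {t : G // ∀ h : H, θ ⟨t * h * t⁻¹, hN.conj_mem h h.2 t⟩ = θ h} := by
    intro g
    refine
      { toFun := fun x => ⟨x * g⁻¹, fun h => ?_⟩
        invFun := fun t => ⟨t * g, ?_⟩
        left_inv := fun x => Subtype.ext (inv_mul_cancel_right (x : G) g)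
        right_inv := fun t => Subtype.ext (mul_inv_cancel_right (t : G) g) }
    · have hm : g⁻¹ * h * g ∈ H := by simpa using hN.conj_mem h h.2 g⁻¹
      have := congrFun (x.2 : f x = f g) ⟨_, hm⟩
      simp only [f] at this
      convert this using 2 <;> apply Subtype.ext <;> group
    · show f (t * g) = f g
      funext h
      simp only [f]
      rw [← t.2 ⟨g * h * g⁻¹, hN.conj_mem h h.2 g⟩]
      congr 1
      apply Subtype.ext
      show (t : G) * g * h * ((t : G) * g)⁻¹ = t * (g * h * g⁻¹) * (t : G)⁻¹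
      group
  set c : ℂ := (Nat.card {g : G // ∀ h : H, θ ⟨g * h * g⁻¹, hN.conj_mem h h.2 g⟩ = θ h} : ℂ) with hc
  have hset : {ψ : H → ℂ | ∃ g : G, ψ = fun h : H => θ ⟨g * h * g⁻¹, hN.conj_mem h h.2 g⟩} =
      ↑(Finset.univ.image f) := by
    ext ψ
    simp [f, eq_comm]
  rw [hset, finsum_mem_coe_finset]
  funext h
  simp only [Pi.smul_apply, Finset.sum_apply, smul_eq_mul, Cfsg.indFun]
  have h1 : ∑ x : G, Cfsg.extendByZero H θ (x⁻¹ * h * x) = ∑ x : G, f x h := by
    refine Fintype.sum_equiv (Equiv.inv G) _ _ fun x => ?_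
    have hm : x⁻¹ * h * x ∈ H := by simpa using hN.conj_mem h h.2 x⁻¹
    rw [hext _ hm]
    simp only [f, Equiv.inv_apply, inv_inv]
  have h2 : ∑ x : G, f x h = c * ∑ ψ ∈ Finset.univ.image f, ψ h := by
    rw [Finset.sum_comp (fun ψ : H → ℂ => ψ h) f, Finset.mul_sum]
    refine Finset.sum_congr rfl fun ψ hψ => ?_
    obtain ⟨g, -, rfl⟩ := Finset.mem_image.mp hψ
    rw [hc, nsmul_eq_mul, ← Nat.card_congr (hfib g), Nat.card_eq_fintype_card, ← Fintype.card_subtype]
    congr 2
  rw [h1, h2]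
  ring

end Cfsg.Agent.S1485
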