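import Cfsg.Statements.S1486
import Cfsg.Agent.CharInduce.Induce
-- import your own Cfsg.Agent.* helpers here

set_option autoImplicit false
open Cfsg

namespace Cfsg.Agent.S1486

/-- Let H be a normal subgroup of the finite group G and θ, φ irreducible characters of H. If φ is a G-conjugate of θ then the functions induced from θ and φ coincide; if φ is not a G-conjugate of θ then the induced functions are orthogonal. -/
theorem result {G : Type*} [Group G] [Fintype G] (H : Subgroup G) [hN : H.Normal] (θ φ : H → ℂ) (hθ : Cfsg.IsIrrCharacter H θ) (hφ : Cfsg.IsIrrCharacter H φ) : ((∃ g : G, φ = fun h : H => θ ⟨g * h * g⁻¹, hN.conj_mem h h.2 g⟩) → Cfsg.indFun H φ = Cfsg.indFun H θ) ∧ ((¬ ∃ g : G, φ = fun h : H => θ ⟨g * h * g⁻¹, hN.conj_mem h h.2 g⟩) → Cfsg.classInner (Cfsg.indFun H φ) (Cfsg.indFun H θ) = 0) := by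
  classical
  haveI := Fintype.ofFinite H
  constructor
  · rintro ⟨g, rfl⟩
    funext y
    by_cases hy : y ∈ H
    · show Cfsg.indFun H (CharInduce.conjFun H θ g) ((⟨y, hy⟩ : H) : G) = _
      rw [CharInduce.indFun_normal_coe,
        show Cfsg.indFun H θ y = Cfsg.indFun H θ ((⟨y, hy⟩ : H) : G) from rfl,
        CharInduce.indFun_normal_coe]
      congr 1
      simp only [CharInduce.conjFun_mul]
      exact Fintype.sum_equiv (Equiv.mulLeft g) _ _ fun x => rfl
    · rw [CharInduce.indFun_eq_zero_of_normal H _ hy, CharInduce.indFun_eq_zero_of_normal H _ hy]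
  · intro hne
    rw [CharInduce.classInner_indFun_left H φ _ (CharInduce.isClassFunction_indFun H θ),
      CharInduce.indFun_res_normal, CharBasic.classInner_smul_right, CharBasic.classInner_sum_right]
    exact mul_eq_zero_of_right _ (Finset.sum_eq_zero fun x _ =>
      CharBasic.classInner_irr_of_ne hφ (CharInduce.isIrrCharacter_conjFun H hθ x)
        fun e => hne ⟨x, e⟩)

end Cfsg.Agent.S1486
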