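import Cfsg.Statements.S1487
import Cfsg.Agent.CharInduce.Induce
-- import your own Cfsg.Agent.* helpers here

set_option autoImplicit false
open Cfsg

namespace Cfsg.Agent.S1487

/-- Let A ≤ H be normal subgroups of the finite group G and θ an irreducible character of H. Then θ takes the value θ 1 on all of A if and only if the function induced from θ to G takes its value at 1 on all of A. -/
theorem result {G : Type*} [Group G] [Fintype G] (A H : Subgroup G) [A.Normal] [H.Normal] (hAH : A ≤ H) (θ : H → ℂ) (hθ : Cfsg.IsIrrCharacter H θ) : (∀ a : H, (a : G) ∈ A → θ a = θ 1) ↔ (∀ a : G, a ∈ A → Cfsg.indFun H θ a = Cfsg.indFun H θ 1) := by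
  classical
  haveI := Fintype.ofFinite H
  have hcard : (Nat.card G : ℂ) = (Nat.card H : ℂ) * (H.index : ℂ) := by
    rw [← Nat.cast_mul, H.card_mul_index]
  have hH := CharInduce.card_ne_zero_complex H
  constructor
  · intro h a ha
    rw [show Cfsg.indFun H θ a = Cfsg.indFun H θ ((⟨a, hAH ha⟩ : H) : G) from rfl,
      CharInduce.indFun_normal_coe, CharInduce.indFun_one]
    have hx : ∀ x : G, CharInduce.conjFun H θ x ⟨a, hAH ha⟩ = θ 1 := fun x =>
      h _ (Subgroup.Normal.conj_mem (inferInstance : A.Normal) a ha x)
    simp only [hx, Finset.sum_const, Finset.card_univ, nsmul_eq_mul, ← Nat.card_eq_fintype_card,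
      hcard]
    field_simp
  · intro h a ha
    obtain ⟨d, -, hd⟩ := CharBasic.IsIrr.exists_degree hθ
    have e := h a ha
    rw [CharInduce.indFun_normal_coe, CharInduce.indFun_one, hd, inv_mul_eq_iff_eq_mul₀ hH,
      ← mul_assoc, ← hcard] at e
    have hle : ∀ x : G, (CharInduce.conjFun H θ x a).re ≤ (d : ℝ) := by
      intro x
      refine le_trans (Complex.re_le_norm _) ?_
      have := CharBasic.IsChar.norm_le (CharBasic.IsIrr.isCharacter hθ)
        (⟨x * a * x⁻¹, Subgroup.Normal.conj_mem (inferInstance : H.Normal) a a.2 x⟩ : H)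
      rw [hd, Complex.norm_natCast] at this
      exact this
    have hre : ∑ x : G, (CharInduce.conjFun H θ x a).re = ∑ _x : G, (d : ℝ) := by
      rw [← Complex.re_sum, e]
      simp [Nat.card_eq_fintype_card]
    have h1 := (Finset.sum_eq_sum_iff_of_le fun x _ => hle x).1 hre 1 (Finset.mem_univ _)
    rw [CharInduce.conjFun_one] at h1
    have hn := CharBasic.IsChar.norm_le (CharBasic.IsIrr.isCharacter hθ) a
    rw [hd, Complex.norm_natCast] at hn
    rw [hd]
    have hsq := Complex.sq_norm (θ a)
    rw [Complex.normSq_apply, h1] at hsq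
    have him : (θ a).im = 0 := by nlinarith [norm_nonneg (θ a), sq_nonneg (θ a).im]
    exact Complex.ext (by simpa using h1) (by simpa using him)

end Cfsg.Agent.S1487
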