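import Cfsg.Statements.S1488
import Mathlib

set_option autoImplicit false
open Cfsg

namespace Cfsg.Agent.S1488

/-- Let A be a normal subgroup of the finite group G contained in the subgroup H, let θ be a function on H and θ₁ a function on the image of H in G ⧸ A whose composite with the projection is θ. Then the function induced from θ₁ to G ⧸ A, composed with the projection G → G ⧸ A, equals the function induced from θ to G. -/
theorem result {G : Type*} [Group G] [Fintype G] (A H : Subgroup G) [A.Normal] (hAH : A ≤ H) [Fintype (G ⧸ A)] [Fintype ↥(H.map (QuotientGroup.mk' A))] (θ : H → ℂ) (θ₁ : ↥(H.map (QuotientGroup.mk' A)) → ℂ) (hθ : ∀ x : H, θ₁ ⟨QuotientGroup.mk' A x, Subgroup.mem_map_of_mem _ x.2⟩ = θ x) (g : G) : Cfsg.indFun (H.map (QuotientGroup.mk' A)) θ₁ (QuotientGroup.mk' A g) = Cfsg.indFun H θ g := by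
  classical
  let π := QuotientGroup.mk' A
  have hmem : ∀ y : G, π y ∈ H.map π ↔ y ∈ H := fun y => by
    rw [← Subgroup.mem_comap, QuotientGroup.comap_map_mk', sup_eq_right.mpr hAH]
  have hext : ∀ y : G, Cfsg.extendByZero (H.map π) θ₁ (π y) = Cfsg.extendByZero H θ y := by
    intro y
    by_cases hy : y ∈ H
    · rw [Cfsg.extendByZero, Cfsg.extendByZero,
        Subtype.val_injective.extend_apply θ₁ 0 ⟨π y, Subgroup.mem_map_of_mem _ hy⟩,
        Subtype.val_injective.extend_apply θ 0 ⟨y, hy⟩]
      exact hθ ⟨y, hy⟩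
    · rw [Cfsg.extendByZero, Cfsg.extendByZero, Function.extend_apply', Function.extend_apply']
      · rfl
      · rintro ⟨a, rfl⟩; exact hy a.2
      · rintro ⟨a, ha⟩; exact hy ((hmem y).mp (ha ▸ a.2))
  let q : G ⧸ A → ℂ := fun z => Cfsg.extendByZero (H.map π) θ₁ (z⁻¹ * π g * z)
  have hfib : ∀ z : G ⧸ A, (Finset.univ.filter fun x : G => π x = z).card = Nat.card A := by
    intro z
    obtain ⟨w, rfl⟩ := QuotientGroup.mk'_surjective A z
    rw [← Fintype.card_subtype, ← Nat.card_eq_fintype_card]
    exact Nat.card_congr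
      { toFun := fun x => ⟨w⁻¹ * x, QuotientGroup.eq.mp x.2.symm⟩
        invFun := fun a => ⟨w * a, (QuotientGroup.eq.mpr (by simp)).symm⟩
        left_inv := fun x => Subtype.ext (mul_inv_cancel_left w (x : G))
        right_inv := fun a => Subtype.ext (inv_mul_cancel_left w (a : G)) }
  have hsum : ∑ x : G, Cfsg.extendByZero H θ (x⁻¹ * g * x) = (Nat.card A : ℂ) * ∑ z, q z := by
    rw [← Finset.sum_fiberwise_of_maps_to (g := π) (t := Finset.univ) (fun _ _ => Finset.mem_univ _),
      Finset.mul_sum]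
    refine Finset.sum_congr rfl fun z _ => ?_
    rw [Finset.sum_congr rfl (g := fun _ => q z) (fun x hx => ?_), Finset.sum_const, hfib, nsmul_eq_mul]
    rw [← (Finset.mem_filter.mp hx).2, ← hext]
    simp only [q, map_mul, map_inv]
  have hcard : Nat.card H = Nat.card A * Nat.card (H.map π) := by
    have h1 := Subgroup.relIndex_mul_relIndex (⊥ : Subgroup G) A H bot_le hAH
    rw [Subgroup.relIndex_bot_left, Subgroup.relIndex_bot_left] at h1
    rw [← h1]
    congr 1
    have h2 := Subgroup.relIndex_ker H π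
    rw [QuotientGroup.ker_mk'] at h2
    exact h2
  show (Nat.card (H.map π) : ℂ)⁻¹ * ∑ z, q z = (Nat.card H : ℂ)⁻¹ * _
  rw [hsum, hcard]
  have hA : (Nat.card A : ℂ) ≠ 0 := Nat.cast_ne_zero.mpr Nat.card_pos.ne'
  push_cast
  field_simp

end Cfsg.Agent.S1488
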