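import Cfsg.Statements.S1489
import Cfsg.Agent.CharInduce.Correspondence
-- import your own Cfsg.Agent.* helpers here

set_option autoImplicit false
open Cfsg

namespace Cfsg.Agent.S1489

/-- Let H be a normal subgroup of the finite group G, θ an irreducible character of H, and T the inertia group of θ (the elements g with θ(g h g⁻¹) = θ(h) for all h ∈ H). If ψ and ψ' are irreducible characters of T having nonzero inner product with the function induced from θ to T, then the function induced from ψ to G is an irreducible character of G, and it equals the one induced from ψ' only if ψ = ψ'. -/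
theorem result {G : Type*} [Group G] [Fintype G] (H T : Subgroup G) [hN : H.Normal] [Fintype T] (θ : H → ℂ) (hθ : Cfsg.IsIrrCharacter H θ) (hT : ∀ g : G, g ∈ T ↔ ∀ h : H, θ ⟨g * h * g⁻¹, hN.conj_mem h h.2 g⟩ = θ h) (hHT : H ≤ T) (ψ ψ' : T → ℂ) (hψ : Cfsg.IsIrrCharacter T ψ) (hψ' : Cfsg.IsIrrCharacter T ψ') (hc : Cfsg.classInner (Cfsg.indFun (H.subgroupOf T) (fun x => θ ⟨(x : T), Subgroup.mem_subgroupOf.mp x.2⟩)) ψ ≠ 0) (hc' : Cfsg.classInner (Cfsg.indFun (H.subgroupOf T) (fun x => θ ⟨(x : T), Subgroup.mem_subgroupOf.mp x.2⟩)) ψ' ≠ 0) : Cfsg.IsIrrCharacter G (Cfsg.indFun T ψ) ∧ (Cfsg.indFun T ψ = Cfsg.indFun T ψ' → ψ = ψ') := by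
  classical
  haveI := Fintype.ofFinite H
  haveI := Fintype.ofFinite (H.subgroupOf T)
  obtain rfl : T = CharInduce.inertia H θ := Subgroup.ext fun g => by
    rw [hT, CharInduce.mem_inertia, funext_iff]
    rfl
  have key : ∀ ψ : CharInduce.inertia H θ → ℂ, Cfsg.IsIrrCharacter _ ψ →
      Cfsg.classInner (Cfsg.indFun (H.subgroupOf (CharInduce.inertia H θ))
        (fun x => θ ⟨(x : CharInduce.inertia H θ), Subgroup.mem_subgroupOf.mp x.2⟩)) ψ ≠ 0 →
      Cfsg.classInner (CharInduce.resTo H hHT ψ) θ ≠ 0 := by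
    intro ψ hψ h h0
    apply h
    rw [CharInduce.classInner_indFun_left _ _ ψ (CharBasic.IsIrr.isClassFunction hψ),
      ← CharInduce.conj_classInner]
    have e := CharInduce.classInner_comp_mulEquiv (Subgroup.subgroupOfEquivOfLe hHT)
      (CharInduce.resTo H hHT ψ) θ
    rw [h0] at e
    exact (congrArg (starRingEnd ℂ) e).trans (map_zero _)
  obtain ⟨h1, -, h3⟩ :=
    CharInduce.clifford_correspondence H hθ hHT hψ (key ψ hψ hc)
  exact ⟨h1, fun e => (h3 ψ' hψ' (key ψ' hψ' hc') e.symm).symm⟩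

end Cfsg.Agent.S1489
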