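import Cfsg.Statements.S1492
import Cfsg.Agent.CharInduce.Induce
import Cfsg.Agent.CharBasic.Kernel

set_option autoImplicit false
open Cfsg

namespace Cfsg.Agent.S1492

/-- Let ψ be an irreducible character of the finite group G and B ≤ D ≤ C subgroups with B normal in C, every commutator of an element of D with an element of C lying in B (so D/B is central in C/B), and ψ constant equal to ψ 1 on B. Then ψ(1) ^ 2 * |C| * |D| ≤ |G| ^ 2. -/
theorem result {G : Type*} [Group G] [Finite G] (ψ : G → ℂ) (hψ : Cfsg.IsIrrCharacter G ψ) (B C D : Subgroup G) (hBD : B ≤ D) (hDC : D ≤ C) (hBn : ∀ c ∈ C, ∀ b ∈ B, c * b * c⁻¹ ∈ B) (hcent : ∀ d ∈ D, ∀ c ∈ C, d * c * d⁻¹ * c⁻¹ ∈ B) (hker : ∀ b ∈ B, ψ b = ψ 1) : ‖ψ 1‖ ^ 2 * (Nat.card C : ℝ) * (Nat.card D : ℝ) ≤ (Nat.card G : ℝ) ^ 2 := by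
  classical
  haveI := Fintype.ofFinite G
  haveI : Fintype C := Fintype.ofFinite _
  have hψc := CharBasic.IsIrr.isCharacter hψ
  obtain ⟨φI, hne⟩ := CharInduce.exists_constituent (CharInduce.IsChar.res hψc C)
    (fun h => CharBasic.IsIrr.one_ne_zero hψ (by simpa using congrFun h 1))
  obtain ⟨r, hr, her⟩ := CharInduce.IsChar.exists_eq_add (CharInduce.IsChar.res hψc C) φI.2 hne
  obtain ⟨φ, n, σ, hσ, rfl⟩ := φI
  -- `B` is in the kernel of the constituent
  have hkerσ : ∀ c : C, (c : G) ∈ B → σ c = LinearMap.id := by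
    intro c hc
    rw [← CharBasic.character_eq_finrank_iff σ c]
    obtain ⟨m, τ, rfl⟩ := hr
    have h1 := congrFun her c
    have h2 := congrFun her 1
    simp only [Pi.add_apply, OneMemClass.coe_one, Representation.char_one] at h1 h2
    rw [hker c hc, h2] at h1
    have a1 := CharBasic.norm_character_le σ c
    have a2 := CharBasic.norm_character_le τ c
    have b1 := Complex.re_le_norm (σ.character c)
    have b2 := Complex.re_le_norm (τ.character c)
    have h3 := congrArg Complex.re h1
    simp only [Complex.add_re, Complex.natCast_re] at h3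
    have hre : (σ.character c).re = ‖σ.character c‖ := by linarith
    have him : (σ.character c).im = 0 := by
      have := Complex.sq_norm (σ.character c)
      rw [Complex.normSq_apply, ← hre] at this
      nlinarith
    refine Complex.ext ?_ (by rw [him, Complex.natCast_im])
    rw [Complex.natCast_re]
    linarith
  -- `D` acts by scalars
  have hscal : ∀ d : C, (d : G) ∈ D → ‖σ.character d‖ = (Module.finrank ℂ (Fin n → ℂ) : ℝ) := by
    intro d hd
    rw [CharBasic.norm_character_eq_iff σ d]
    obtain ⟨c, hc⟩ := CharBasic.schur_scalar σ (σ d) (fun x => by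
      have e : d * x = (d * x * d⁻¹ * x⁻¹) * (x * d) := by group
      rw [← map_mul, e, map_mul, hkerσ _ (hcent d hd x x.2), ← Module.End.one_eq_id, one_mul,
        map_mul])
    exact ⟨c, hc⟩
  -- orthogonality
  have hsum : ∑ c : C, ‖σ.character c‖ ^ 2 = (Nat.card C : ℝ) := by
    have h : Cfsg.classInner σ.character σ.character = 1 := CharBasic.classInner_irr_self ⟨n, σ, hσ, rfl⟩
    simp only [Cfsg.classInner, Complex.mul_conj'] at h
    rw [inv_mul_eq_one₀ (by exact_mod_cast Nat.card_pos.ne')] at h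
    exact_mod_cast h.symm
  rw [Module.finrank_fin_fun] at hscal
  have hbound : (Nat.card D : ℝ) * (n : ℝ) ^ 2 ≤ Nat.card C := by
    rw [← hsum]
    refine le_trans (le_of_eq ?_) (Finset.sum_le_sum_of_subset_of_nonneg
      (Finset.subset_univ (Finset.univ.filter fun c : C => (c : G) ∈ D)) fun _ _ _ => sq_nonneg _)
    rw [Finset.sum_congr rfl fun c hc => by rw [hscal c (Finset.mem_filter.1 hc).2], Finset.sum_const,
      nsmul_eq_mul, ← Fintype.card_subtype, ← Nat.card_eq_fintype_card]
    congr 2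
    exact Nat.card_congr (Subgroup.subgroupOfEquivOfLe hDC).toEquiv.symm
  -- the degree of ψ
  obtain ⟨p, -, hp⟩ := CharBasic.IsIrr.exists_degree hψ
  have hle : p ≤ C.index * n := by
    refine CharInduce.IsChar.degree_le_of_constituent
      (CharInduce.IsChar.ind C ⟨n, σ, rfl⟩) hψ ?_ hp
      (by rw [CharInduce.indFun_one, Representation.char_one, Module.finrank_fin_fun, Nat.cast_mul])
    rw [CharInduce.classInner_indFun_left C _ ψ (CharBasic.IsIrr.isClassFunction hψ),
      ← CharInduce.conj_classInner]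
    intro h
    apply hne
    simpa using congrArg (starRingEnd ℂ) h
  rw [hp, Complex.norm_natCast]
  have h1 : (p : ℝ) ^ 2 ≤ ((C.index * n : ℕ) : ℝ) ^ 2 := by gcongr
  calc (p : ℝ) ^ 2 * Nat.card C * Nat.card D ≤ ((C.index * n : ℕ) : ℝ) ^ 2 * Nat.card C * Nat.card D := by
        gcongr
    _ = (C.index : ℝ) ^ 2 * Nat.card C * ((Nat.card D : ℝ) * (n : ℝ) ^ 2) := by push_cast; ring
    _ ≤ (C.index : ℝ) ^ 2 * Nat.card C * Nat.card C := by gcongr
    _ = (Nat.card G : ℝ) ^ 2 := by rw [← C.card_mul_index]; push_cast; ring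

end Cfsg.Agent.S1492
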