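import Cfsg.Statements.S1493
import Cfsg.Agent.H43.Galois
import Cfsg.Agent.CharBasic.Rep

set_option autoImplicit false
open Cfsg

namespace Cfsg.Agent.S1493

/-- Let G be a finite group of order a * b with a and b coprime, let k be coprime to a, and let χ be a character of G. Then there is a character χ' of G such that χ'(g) = χ(g ^ k) whenever the order of g divides a and χ'(g) = χ(g) whenever the order of g is coprime to a; moreover χ' is irreducible if χ is. -/
theorem result {G : Type*} [Group G] [Finite G] (a b k : ℕ) (hab : Nat.card G = a * b) (hcop : Nat.Coprime a b) (hk : Nat.Coprime k a) (χ : G → ℂ) (hχ : Cfsg.IsCharacter G χ) : ∃ χ' : G → ℂ, Cfsg.IsCharacter G χ' ∧ (Cfsg.IsIrrCharacter G χ → Cfsg.IsIrrCharacter G χ') ∧ (∀ g : G, orderOf g ∣ a → χ' g = χ (g ^ k)) ∧ (∀ g : G, Nat.Coprime (orderOf g) a → χ' g = χ g) := by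
  obtain ⟨m, hma, hmb⟩ := Nat.chineseRemainder hcop k 1
  have hmab : Nat.Coprime m (a * b) := by
    refine Nat.Coprime.mul_right ?_ ?_
    · rw [Nat.Coprime, hma.gcd_eq]; exact hk
    · rw [Nat.Coprime, hmb.gcd_eq]; exact Nat.gcd_one_left b
  have hab0 : a * b ≠ 0 := hab ▸ Nat.card_pos.ne'
  obtain ⟨σ, hσ⟩ := H43.exists_aut_pow hab0 hmab
  have key : ∀ g : G, σ (χ g) = χ (g ^ m) := by
    obtain ⟨n, ρ, rfl⟩ := hχ
    intro g
    obtain ⟨bs, μ, h1, h2, h3⟩ := CharBasic.exists_eigenbasis_rep ρ g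
    have h4 : ∀ i (j : ℕ), ρ (g ^ j) (bs i) = μ i ^ j • bs i := by
      intro i j
      induction j with
      | zero => simp
      | succ j ih => rw [pow_succ, map_mul, Module.End.mul_apply, h1, map_smul, ih, smul_smul, pow_succ']
    rw [h3, map_sum, Representation.character, CharBasic.trace_eq_sum_of_eigenbasis bs _ _ (h4 · m)]
    refine Finset.sum_congr rfl fun i _ => hσ _ ?_
    obtain ⟨c, hc⟩ : orderOf g ∣ a * b := hab ▸ orderOf_dvd_natCard g
    rw [hc, pow_mul, h2, one_pow]
  refine ⟨fun g => σ (χ g), H43.aut_char σ hχ, H43.aut_irr σ, fun g hg => ?_, fun g hg => ?_⟩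
  · simp only [key g]
    congr 1
    exact pow_eq_pow_iff_modEq.2 (hma.of_dvd hg)
  · simp only [key g]
    have hgb : orderOf g ∣ b := hg.dvd_of_dvd_mul_left (hab ▸ orderOf_dvd_natCard g)
    congr 1
    conv_rhs => rw [← pow_one g]
    exact pow_eq_pow_iff_modEq.2 (hmb.of_dvd hgb)

end Cfsg.Agent.S1493
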