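import Cfsg.Statements.S1494
import Cfsg.Agent.CharBasic.Kernel
import Cfsg.Agent.CharInduce.Ops

set_option autoImplicit false
open Cfsg

namespace Cfsg.Agent.S1494

/-- Let χ be a generalized character of the finite group G, p a prime, x an element of order p and y an element commuting with x. Then χ(x * y) − χ(y) = (1 − ε) * ω for some algebraic integer ω, where ε = exp(2πi/p). -/
theorem result {G : Type*} [Group G] [Finite G] (χ : G → ℂ) (hχ : Cfsg.IsGeneralizedCharacter G χ) (p : ℕ) (hp : p.Prime) (x y : G) (hx : orderOf x = p) (hxy : x * y = y * x) : ∃ ω : ℂ, IsIntegral ℤ ω ∧ χ (x * y) - χ y = (1 - Complex.exp (2 * Real.pi * Complex.I / p)) * ω := by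
  classical
  set ε := Complex.exp (2 * Real.pi * Complex.I / p) with hε
  have hprim : IsPrimitiveRoot ε p := Complex.isPrimitiveRoot_exp p hp.ne_zero
  have hεi : IsIntegral ℤ ε := hprim.isIntegral hp.pos
  let A : Subgroup G := Subgroup.closure {x, y}
  have hA : IsMulCommutative A := by
    refine Subgroup.isMulCommutative_closure ?_
    rintro a (rfl | rfl) b (rfl | rfl)
    · rfl
    · exact hxy
    · exact hxy.symm
    · rfl
  let X : A := ⟨x, Subgroup.subset_closure (Or.inl rfl)⟩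
  let Y : A := ⟨y, Subgroup.subset_closure (Or.inr rfl)⟩
  have hXp : X ^ p = 1 := Subtype.ext (by
    show x ^ p = 1
    rw [← hx]; exact pow_orderOf_eq_one x)
  have hAc : ∀ a b : A, a * b = b * a := fun a b => mul_comm' a b
  have key : ∀ φ : A → ℂ, Cfsg.IsCharacter A φ →
      ∃ ω : ℂ, IsIntegral ℤ ω ∧ φ (X * Y) - φ Y = (1 - ε) * ω := by
    intro φ hφ
    refine Cfsg.Agent.CharBasic.IsChar.induction_on (p := fun φ : A → ℂ =>
      ∃ ω : ℂ, IsIntegral ℤ ω ∧ φ (X * Y) - φ Y = (1 - ε) * ω) hφ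
      ⟨0, isIntegral_zero, by simp⟩ ?_
    rintro φ ψ hφ - ⟨ω, hω, he⟩
    have h1 : φ 1 = 1 := Cfsg.Agent.CharBasic.commutative_iff_forall_linear.mp hAc ⟨φ, hφ⟩
    obtain ⟨l, hl⟩ := Cfsg.Agent.CharInduce.IsChar.exists_hom_of_degree_one
      (Cfsg.Agent.CharBasic.IsIrr.isCharacter hφ) h1
    haveI : NeZero p := ⟨hp.ne_zero⟩
    obtain ⟨k, -, hk⟩ := hprim.eq_pow_of_pow_eq_one (ξ := (l X : ℂ)) (by
      rw [← Units.val_pow_eq_pow_val, ← map_pow, hXp, map_one, Units.val_one])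
    refine ⟨ω - φ Y * ∑ i ∈ Finset.range k, ε ^ i,
      hω.sub (IsIntegral.mul (Cfsg.Agent.CharBasic.IsChar.isIntegral
        (Cfsg.Agent.CharBasic.IsIrr.isCharacter hφ) Y) (IsIntegral.sum _ fun i _ => hεi.pow i)), ?_⟩
    have hmul : φ (X * Y) = ε ^ k * φ Y := by
      rw [hl, hl]
      rw [map_mul, Units.val_mul, ← hk]
    rw [Pi.add_apply, Pi.add_apply, hmul]
    have hg : (∑ i ∈ Finset.range k, ε ^ i) * (ε - 1) = ε ^ k - 1 := geom_sum_mul ε k
    linear_combination he - φ Y * hg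
  obtain ⟨a, b, ha, hb, rfl⟩ := hχ
  obtain ⟨ω₁, hω₁, e₁⟩ := key _ (Cfsg.Agent.CharInduce.IsChar.res ha A)
  obtain ⟨ω₂, hω₂, e₂⟩ := key _ (Cfsg.Agent.CharInduce.IsChar.res hb A)
  refine ⟨ω₁ - ω₂, hω₁.sub hω₂, ?_⟩
  simp only [Pi.sub_apply]
  linear_combination e₁ - e₂

end Cfsg.Agent.S1494
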