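import Cfsg.Statements.S1495
import Mathlib

set_option autoImplicit false
open Cfsg

namespace Cfsg.Agent.S1495

/-- Let p be a prime, ε = exp(2πi/p), and n an integer such that n = (1 − ε) * ω for some algebraic integer ω. Then p divides n. -/
theorem result (p : ℕ) (hp : p.Prime) (n : ℤ) (ω : ℂ) (hω : IsIntegral ℤ ω) (h : (n : ℂ) = (1 - Complex.exp (2 * Real.pi * Complex.I / p)) * ω) : (p : ℤ) ∣ n := by
  classical
  set ε := Complex.exp (2 * Real.pi * Complex.I / p) with hεdef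
  have hprim : IsPrimitiveRoot ε p := Complex.isPrimitiveRoot_exp p hp.ne_zero
  have hεint : IsIntegral ℤ ε := hprim.isIntegral hp.pos
  -- `(1 - ε) ^ p` is `p` times an algebraic integer
  let R := integralClosure ℤ ℂ
  let e : R := ⟨ε, hεint⟩
  have he : e ^ p = 1 := Subtype.ext (by simpa [e] using hprim.pow_eq_one)
  obtain ⟨r, hr⟩ := exists_add_pow_prime_eq hp (1 : R) (-e)
  have key : ∃ z : R, (1 - e) ^ p = (p : R) * z := by
    rw [sub_eq_add_neg, hr, one_pow, neg_pow, he, mul_one]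
    rcases hp.eq_two_or_odd' with rfl | hodd
    · exact ⟨1 + 1 * -e * r, by push_cast; ring⟩
    · exact ⟨1 * -e * r, by rw [hodd.neg_one_pow]; ring⟩
  obtain ⟨z, hz⟩ := key
  have hz' : (1 - ε) ^ p = (p : ℂ) * (z : ℂ) := by
    have := congrArg (fun x : R => (x : ℂ)) hz
    simpa [e] using this
  have hW : IsIntegral ℤ ((z : ℂ) * ω ^ p) := z.2.mul (hω.pow p)
  have heq : ((n ^ p : ℤ) : ℂ) = (p : ℂ) * ((z : ℂ) * ω ^ p) := by
    push_cast
    rw [h, mul_pow, hz', mul_assoc]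
  have hrat : (z : ℂ) * ω ^ p = algebraMap ℚ ℂ ((n ^ p : ℤ) / (p : ℚ)) := by
    have hp0 : (p : ℂ) ≠ 0 := Nat.cast_ne_zero.mpr hp.ne_zero
    rw [map_div₀, map_intCast, map_natCast, heq]
    field_simp
  rw [hrat, isIntegral_algebraMap_iff (algebraMap ℚ ℂ).injective,
    IsIntegrallyClosed.isIntegral_iff] at hW
  obtain ⟨m, hm⟩ := hW
  have hp' : (p : ℚ) ≠ 0 := Nat.cast_ne_zero.mpr hp.ne_zero
  have : n ^ p = (p : ℤ) * m := by
    have h2 : ((n ^ p : ℤ) : ℚ) = ((p : ℤ) * m : ℤ) := by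
      have h3 : ((n ^ p : ℤ) : ℚ) / p = (m : ℚ) := hm.symm
      rw [div_eq_iff hp'] at h3
      rw [h3]; push_cast; ring
    exact_mod_cast h2
  exact (Nat.prime_iff_prime_int.mp hp).dvd_of_dvd_pow ⟨m, this⟩

end Cfsg.Agent.S1495
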