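import Cfsg.Statements.S1497


set_option autoImplicit false
open Cfsg

namespace Cfsg.Agent.S1497

/-- Let A be a nonempty subset of the finite group G not containing 1 and L a subgroup. Then A is a TI-subset whose normaliser is L if and only if the Dade hypothesis holds for A, L and the constant choice H(a) = ⊥. -/
theorem result {G : Type*} [Group G] [Finite G] (A : Set G) (hA : A.Nonempty) (h1 : (1 : G) ∉ A) (L : Subgroup G) : (Cfsg.IsTISubset A ∧ Subgroup.normalizer A = L) ↔ Cfsg.DadeHypothesis A L (fun _ => ⊥) := by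
  constructor
  · rintro ⟨hTI, hN⟩
    have key : ∀ a ∈ A, ∀ g : G, g * a * g⁻¹ ∈ A → g ∈ L := by
      intro a ha g hg
      by_contra hgL
      exact h1 ((hTI g (hN.symm ▸ hgL) a ha hg) ▸ ha)
    have hsub : ∀ a ∈ A, a ∈ L := fun a ha => key a ha a (by simpa using ha)
    have hcent : ∀ a ∈ A, Subgroup.centralizer ({a} : Set G) ≤ L := fun a ha c hc =>
      key a ha c (by
        have := (Subgroup.mem_centralizer_singleton_iff.mp hc)
        rwa [this, mul_inv_cancel_right])
    exact
      { one_not_mem := h1
        subset := hsub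
        conj_mem := fun x hx a ha => ((hN.symm ▸ hx : x ∈ Subgroup.normalizer A) a).mp ha
        fusion := fun a ha g hg => ⟨g, key a ha g hg, rfl⟩
        le_centralizer := fun a _ => bot_le
        conj_mem_H := fun a _ c _ u hu => by
          rw [Subgroup.mem_bot] at hu ⊢; subst hu; simp
        inf_eq_bot := fun a _ => bot_inf_eq _
        sup_eq := fun a ha => by rw [bot_sup_eq, inf_eq_right]; exact hcent a ha
        coprime := fun a _ b _ => by simp [Nat.Coprime] }
  · intro hD
    have hle : L ≤ Subgroup.normalizer A := fun x hx n =>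
      ⟨fun hn => hD.conj_mem x hx n hn, fun hn => by
        have := hD.conj_mem x⁻¹ (inv_mem hx) _ hn
        simpa [mul_assoc] using this⟩
    have key : ∀ a ∈ A, ∀ g : G, g * a * g⁻¹ ∈ A → g ∈ L := by
      intro a ha g hg
      obtain ⟨x, hx, hxa⟩ := hD.fusion a ha g hg
      have hc : x⁻¹ * g ∈ Subgroup.centralizer ({a} : Set G) := by
        rw [Subgroup.mem_centralizer_singleton_iff]
        calc x⁻¹ * g * a = x⁻¹ * (g * a * g⁻¹) * g := by group
          _ = x⁻¹ * (x * a * x⁻¹) * g := by rw [hxa]
          _ = a * (x⁻¹ * g) := by group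
      have hs := hD.sup_eq a ha
      rw [bot_sup_eq] at hs
      rw [← hs] at hc
      simpa using mul_mem hx hc.1
    obtain ⟨a₀, ha₀⟩ := hA
    refine ⟨fun g hg a ha hga => absurd (hle (key a ha g hga)) hg,
      le_antisymm (fun g hg => key a₀ ha₀ g ((hg a₀).mp ha₀)) hle⟩

end Cfsg.Agent.S1497
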