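import Cfsg.Statements.S1504
import Mathlib

set_option autoImplicit false
open Cfsg

namespace Cfsg.Agent.S1504

/-- Let W₁, W₂ be subgroups of a finite group with W₁ ⊓ W₂ = ⊥ whose elements commute, and W = W₁ ⊔ W₂. For linear characters φ, ψ of W with φ trivial on W₂ and ψ trivial on W₁, the function (1 − φ)(1 − ψ) vanishes on W₁ ∪ W₂; and the family of these functions, indexed by pairs (φ, ψ) with φ ≠ 1 ≠ ψ, is linearly independent over ℂ. -/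
theorem result {G : Type*} [Group G] [Finite G] (W₁ W₂ : Subgroup G) (hdisj : W₁ ⊓ W₂ = ⊥) (hcomm : ∀ a ∈ W₁, ∀ b ∈ W₂, a * b = b * a) : (∀ φ ψ : ↥(W₁ ⊔ W₂) →* ℂˣ, (∀ w : ↥(W₁ ⊔ W₂), (w : G) ∈ W₂ → φ w = 1) → (∀ w : ↥(W₁ ⊔ W₂), (w : G) ∈ W₁ → ψ w = 1) → ∀ w : ↥(W₁ ⊔ W₂), ((w : G) ∈ W₁ ∨ (w : G) ∈ W₂) → (1 - (φ w : ℂ) - (ψ w : ℂ) + (φ w : ℂ) * (ψ w : ℂ)) = 0) ∧ LinearIndependent ℂ (fun p : {p : (↥(W₁ ⊔ W₂) →* ℂˣ) × (↥(W₁ ⊔ W₂) →* ℂˣ) // p.1 ≠ 1 ∧ p.2 ≠ 1 ∧ (∀ w : ↥(W₁ ⊔ W₂), (w : G) ∈ W₂ → p.1 w = 1) ∧ (∀ w : ↥(W₁ ⊔ W₂), (w : G) ∈ W₁ → p.2 w = 1)} => fun w : ↥(W₁ ⊔ W₂) => 1 - (p.1.1 w : ℂ) - (p.1.2 w : ℂ) + (p.1.1 w : ℂ) * (p.1.2 w : ℂ)) := by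
  classical
  refine ⟨?_, ?_⟩
  · intro φ ψ hφ hψ w hw
    rcases hw with h | h
    · rw [hψ w h]; simp
    · rw [hφ w h]; simp
  · have hmem : ∀ w : ↥(W₁ ⊔ W₂), ∃ a b : ↥(W₁ ⊔ W₂), (a : G) ∈ W₁ ∧ (b : G) ∈ W₂ ∧ w = a * b := by
      intro w
      have hle : W₁ ≤ Subgroup.normalizer (W₂ : Set G) := by
        intro a ha
        rw [Subgroup.mem_normalizer_iff]
        intro b
        constructor
        · intro hb; rw [hcomm a ha b hb, mul_inv_cancel_right]; exact hb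
        · intro hb
          have := hcomm a⁻¹ (inv_mem ha) _ hb
          have e : b = a⁻¹ * (a * b * a⁻¹) * a := by group
          rw [e, this, inv_mul_cancel_right]; exact hb
      have hw : (w : G) ∈ ((W₁ ⊔ W₂ : Subgroup G) : Set G) := w.2
      rw [Subgroup.coe_mul_of_left_le_normalizer_right W₁ W₂ hle] at hw
      obtain ⟨a, ha, b, hb, hab⟩ := Set.mem_mul.mp hw
      exact ⟨⟨a, Subgroup.mem_sup_left ha⟩, ⟨b, Subgroup.mem_sup_right hb⟩, ha, hb,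
        Subtype.ext hab.symm⟩
    have huniq : ∀ φ ψ φ' ψ' : ↥(W₁ ⊔ W₂) →* ℂˣ,
        (∀ w : ↥(W₁ ⊔ W₂), (w : G) ∈ W₂ → φ w = 1) → (∀ w : ↥(W₁ ⊔ W₂), (w : G) ∈ W₁ → ψ w = 1) →
        (∀ w : ↥(W₁ ⊔ W₂), (w : G) ∈ W₂ → φ' w = 1) → (∀ w : ↥(W₁ ⊔ W₂), (w : G) ∈ W₁ → ψ' w = 1) →
        φ * ψ = φ' * ψ' → φ = φ' ∧ ψ = ψ' := by
      intro φ ψ φ' ψ' hφ hψ hφ' hψ' he
      constructor <;> ext1 w <;> obtain ⟨a, b, ha, hb, rfl⟩ := hmem w
      · have := DFunLike.congr_fun he a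
        simp only [MonoidHom.mul_apply, hψ a ha, hψ' a ha, mul_one] at this
        simp [hφ b hb, hφ' b hb, this]
      · have := DFunLike.congr_fun he b
        simp only [MonoidHom.mul_apply, hφ b hb, hφ' b hb, one_mul] at this
        simp [hψ a ha, hψ' a ha, this]
    have hone : ∀ w : ↥(W₁ ⊔ W₂), ((1 : ↥(W₁ ⊔ W₂) →* ℂˣ) w : ℂ) = 1 := fun w => rfl
    let coeHom : (↥(W₁ ⊔ W₂) →* ℂˣ) → (↥(W₁ ⊔ W₂) →* ℂ) := fun ω => (Units.coeHom ℂ).comp ω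
    have hinj : Function.Injective coeHom := fun ω ω' h => by
      ext w; exact DFunLike.congr_fun h w
    have hli := (linearIndependent_monoidHom ↥(W₁ ⊔ W₂) ℂ).comp coeHom hinj
    rw [linearIndependent_iff'] at hli ⊢
    intro s c hc p hp
    -- collect the coefficient of each linear character
    let T : Finset (↥(W₁ ⊔ W₂) →* ℂˣ) :=
      {1} ∪ s.image (fun q => q.1.1) ∪ s.image (fun q => q.1.2) ∪
        s.image (fun q => q.1.1 * q.1.2)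
    let d : (↥(W₁ ⊔ W₂) →* ℂˣ) → ℂ := fun ω => ∑ q ∈ s, c q *
      ((if ω = 1 then 1 else 0) - (if ω = q.1.1 then 1 else 0) - (if ω = q.1.2 then 1 else 0)
        + (if ω = q.1.1 * q.1.2 then 1 else 0))
    have hd : ∀ ω ∈ T, d ω = 0 := by
      refine hli T d ?_
      funext w
      have h0 := congrFun hc w
      simp only [Finset.sum_apply, Pi.smul_apply, smul_eq_mul, Pi.zero_apply] at h0 ⊢
      rw [← h0]
      simp only [d, Finset.sum_mul]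
      rw [Finset.sum_comm]
      refine Finset.sum_congr rfl fun q hq => ?_
      have h1 : (1 : ↥(W₁ ⊔ W₂) →* ℂˣ) ∈ T := by simp [T]
      have h2 : q.1.1 ∈ T := by
        simp only [T, Finset.mem_union, Finset.mem_image]; exact Or.inl (Or.inl (Or.inr ⟨q, hq, rfl⟩))
      have h3 : q.1.2 ∈ T := by
        simp only [T, Finset.mem_union, Finset.mem_image]; exact Or.inl (Or.inr ⟨q, hq, rfl⟩)
      have h4 : q.1.1 * q.1.2 ∈ T := by
        simp only [T, Finset.mem_union, Finset.mem_image]; exact Or.inr ⟨q, hq, rfl⟩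
      simp only [mul_assoc, ← Finset.mul_sum, add_mul, sub_mul, ite_mul, one_mul, zero_mul,
        Finset.sum_add_distrib, Finset.sum_sub_distrib, Finset.sum_ite_eq', h1, h2, h3, h4, if_true]
      simp [coeHom, Function.comp]
    have hT : p.1.1 * p.1.2 ∈ T := by
      simp only [T, Finset.mem_union, Finset.mem_image]; exact Or.inr ⟨p, hp, rfl⟩
    have h := hd _ hT
    simp only [d] at h
    rw [Finset.sum_eq_single p] at h
    · obtain ⟨hp1, hp2, hpa, hpb⟩ := p.2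
      have n1 : p.1.1 * p.1.2 ≠ 1 := fun e =>
        hp1 (huniq _ _ 1 1 hpa hpb (fun w _ => rfl) (fun w _ => rfl) (e.trans (by ext; simp))).1
      have n2 : p.1.1 * p.1.2 ≠ p.1.1 := fun e => hp2 (huniq _ _ p.1.1 1 hpa hpb hpa (fun w _ => rfl) (e.trans (by ext; simp))).2
      have n3 : p.1.1 * p.1.2 ≠ p.1.2 := fun e => hp1 (huniq _ _ 1 p.1.2 hpa hpb (fun w _ => rfl) hpb (e.trans (by ext; simp))).1
      simpa [n1, n2, n3] using h
    · intro q _ hqp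
      obtain ⟨hp1, hp2, hpa, hpb⟩ := p.2
      obtain ⟨hq1, hq2, hqa, hqb⟩ := q.2
      have n1 : p.1.1 * p.1.2 ≠ 1 := fun e =>
        hp1 (huniq _ _ 1 1 hpa hpb (fun w _ => rfl) (fun w _ => rfl) (e.trans (by ext; simp))).1
      have n2 : p.1.1 * p.1.2 ≠ q.1.1 := fun e =>
        hp2 (huniq _ _ q.1.1 1 hpa hpb hqa (fun w _ => rfl) (e.trans (by ext; simp))).2
      have n3 : p.1.1 * p.1.2 ≠ q.1.2 := fun e =>
        hp1 (huniq _ _ 1 q.1.2 hpa hpb (fun w _ => rfl) hqb (e.trans (by ext; simp))).1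
      have n4 : p.1.1 * p.1.2 ≠ q.1.1 * q.1.2 := fun e => by
        obtain ⟨e1, e2⟩ := huniq _ _ _ _ hpa hpb hqa hqb e
        exact hqp (Subtype.ext (Prod.ext e1.symm e2.symm))
      simp [n1, n2, n3, n4]
    · intro h'; exact absurd hp h'

end Cfsg.Agent.S1504
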