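import Cfsg.Statements.S1518
import Cfsg.Agent.H43.DadeVirtual
import Cfsg.Agent.CharInduce.Isometry

set_option autoImplicit false
open Cfsg

namespace Cfsg.Agent.S1518

/-- Under the Dade hypothesis for (A, L, H): if χ is an irreducible character of L vanishing at every non-identity element of L outside A, then the Dade image of χ − conj χ equals μ − conj μ for some irreducible character μ of G. -/
theorem result {G : Type*} [Group G] [Fintype G] (A : Set G) (L : Subgroup G) [Fintype L] (H : G → Subgroup G) (hD : Cfsg.DadeHypothesis A L H) (χ : L → ℂ) (hχ : Cfsg.IsIrrCharacter L χ) (hsupp : ∀ x : L, x ≠ 1 → (x : G) ∉ A → χ x = 0) : ∃ μ : G → ℂ, Cfsg.IsIrrCharacter G μ ∧ Cfsg.dadeIsometry A L H (χ - Cfsg.conjFun χ) = μ - Cfsg.conjFun μ := by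
  classical
  by_cases hreal : Cfsg.conjFun χ = χ
  · refine ⟨_, CharInduce.isIrrCharacter_hom (1 : G →* ℂˣ), ?_⟩
    funext g
    rw [hreal, sub_self]
    simp [Cfsg.dadeIsometry, Cfsg.conjFun]
  have hχc := CharBasic.IsIrr.isCharacter hχ
  have hχ' : Cfsg.IsIrrCharacter L (Cfsg.conjFun χ) := CharInduce.IsIrr.conj hχ
  set α := χ - Cfsg.conjFun χ with hα
  have hαgen : Cfsg.IsGeneralizedCharacter L α := ⟨_, _, hχc, CharBasic.IsIrr.isCharacter hχ', rfl⟩
  have hαcl := CharInduce.IsGen.isClassFunction hαgen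
  have hαA : ∀ x : L, (x : G) ∉ A → α x = 0 := by
    intro x hx
    by_cases h1 : x = 1
    · obtain ⟨d, -, hd⟩ := CharBasic.IsIrr.exists_degree hχ
      simp [hα, Cfsg.conjFun, h1, hd]
    · simp [hα, Cfsg.conjFun, hsupp x h1 hx]
  set D := Cfsg.dadeIsometry A L H α with hDdef
  have hDgen : Cfsg.IsGeneralizedCharacter G D := H43.dade_virtual hD hαgen hαA
  have hDD : Cfsg.classInner D D = 2 := by
    rw [hDdef, (Cfsg.Agent.S1500.result A L H hD α hαcl hαA).1 α hαcl hαA, hα,
      CharBasic.classInner_sub_left, CharBasic.classInner_sub_right, CharBasic.classInner_sub_right,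
      CharBasic.classInner_irr_self hχ, CharBasic.classInner_irr_self hχ',
      CharBasic.classInner_irr_of_ne hχ hχ' (Ne.symm hreal), CharBasic.classInner_irr_of_ne hχ' hχ hreal]
    norm_num
  have hD1 : D 1 = 0 := by
    refine H43.dade_apply_zero ?_
    rintro ⟨a, ha, x, u, hu, hx⟩
    have e : (a : G) * u = 1 := by rw [← hx]; group
    have h1 : (a : G) ∈ H (a : G) := by
      have := inv_mem hu; rwa [← eq_inv_of_mul_eq_one_left e] at this
    have h2 : (a : G) ∈ H (a : G) ⊓ (L ⊓ Subgroup.centralizer ({(a : G)} : Set G)) :=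
      ⟨h1, a.2, Subgroup.mem_centralizer_singleton_iff.mpr rfl⟩
    rw [hD.inf_eq_bot _ ha, Subgroup.mem_bot] at h2
    exact hD.one_not_mem (h2 ▸ ha)
  obtain ⟨μ, ν, hne, hμν⟩ := CharInduce.Isometry.exists_eq_sub_of_norm_two hDgen hD1 hDD
  refine ⟨μ, μ.2, ?_⟩
  have hconj : Cfsg.conjFun D = -D := by
    funext g
    simp only [Cfsg.conjFun, Pi.neg_apply]
    by_cases h : ∃ a : ↥L, (a : G) ∈ A ∧ ∃ x : G, ∃ u ∈ H (a : G), x * g * x⁻¹ = (a : G) * u
    · obtain ⟨a, ha, x, u, hu, hx⟩ := h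
      rw [hDdef, H43.dade_apply hD hαcl ha hu hx]
      simp [hα, Cfsg.conjFun]
    · rw [hDdef, H43.dade_apply_zero h]; simp
  have hμ' : Cfsg.IsIrrCharacter G (Cfsg.conjFun (μ : G → ℂ)) := CharInduce.IsIrr.conj μ.2
  have hν' : Cfsg.IsIrrCharacter G (Cfsg.conjFun (ν : G → ℂ)) := CharInduce.IsIrr.conj ν.2
  have hne' : (ν : G → ℂ) ≠ μ := fun e => hne (Subtype.ext e).symm
  have e : Cfsg.conjFun (μ : G → ℂ) + μ = Cfsg.conjFun (ν : G → ℂ) + ν := by
    funext g
    have := congrFun hconj g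
    rw [hμν] at this
    simp only [Cfsg.conjFun, Pi.sub_apply, Pi.neg_apply, map_sub] at this
    simp only [Pi.add_apply, Cfsg.conjFun]
    linear_combination this
  have e2 := congrArg (fun f => Cfsg.classInner f (μ : G → ℂ)) e
  simp only [CharBasic.classInner_add_left, CharBasic.classInner_irr_self μ.2,
    CharBasic.classInner_irr_of_ne ν.2 μ.2 hne', CharBasic.classInner_irr hμ' μ.2,
    CharBasic.classInner_irr hν' μ.2, add_zero] at e2
  by_cases h : Cfsg.conjFun (ν : G → ℂ) = μ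
  · rw [hμν, ← h]
    funext g
    simp [Cfsg.conjFun]
  · rw [if_neg h] at e2
    split_ifs at e2 <;> norm_num at e2

end Cfsg.Agent.S1518
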