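import Cfsg.Statements.S1527

set_option autoImplicit false
open Cfsg

namespace Cfsg.Agent.S1527

/-- Let G be a finite group and H i (i in a finite index type) subgroups of pairwise coprime orders, each of whose underlying sets is a TI-subset of G, such that every non-identity element of G is conjugate to an element of some H i. Then Nat.card G − 1 = Σ_i [G : N_G(H i)] · (Nat.card (H i) − 1). -/
theorem result {G : Type*} [Group G] [Finite G] {ι : Type*} [Fintype ι] (H : ι → Subgroup G) (hcop : ∀ i j, i ≠ j → Nat.Coprime (Nat.card (H i)) (Nat.card (H j))) (hTI : ∀ i, Cfsg.IsTISubset (H i : Set G)) (hcover : ∀ g : G, g ≠ 1 → ∃ i, ∃ x : G, x * g * x⁻¹ ∈ H i) : Nat.card G - 1 = ∑ i, (Subgroup.normalizer (H i : Set G)).index * (Nat.card (H i) - 1) := by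
  classical
  haveI : Fintype G := Fintype.ofFinite G
  let f : (Σ i, (G ⧸ Subgroup.normalizer (H i : Set G)) × {h : H i // h ≠ 1}) → {g : G // g ≠ 1} :=
    fun t => ⟨t.2.1.out * (t.2.2.1 : G) * t.2.1.out⁻¹, by
      intro hg
      rw [conj_eq_one_iff] at hg
      exact t.2.2.2 (Subtype.ext (by simpa using hg))⟩
  have hf : Function.Bijective f := by
    constructor
    · rintro ⟨i, q, h, hh⟩ ⟨j, q', h', hh'⟩ he
      have he' : q.out * (h : G) * q.out⁻¹ = q'.out * (h' : G) * q'.out⁻¹ := congrArg Subtype.val he
      have hij : i = j := by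
        by_contra hne
        have ho : orderOf (h : G) = orderOf (h' : G) := by
          have h1 : orderOf ((MulAut.conj q.out) (h : G)) = orderOf ((MulAut.conj q'.out) (h' : G)) := by
            rw [MulAut.conj_apply, MulAut.conj_apply, he']
          rwa [MulEquiv.orderOf_eq, MulEquiv.orderOf_eq] at h1
        have hd1 : orderOf (h : G) ∣ Nat.card (H i) := by
          rw [Subgroup.orderOf_coe]; exact orderOf_dvd_natCard h
        have hd2 : orderOf (h : G) ∣ Nat.card (H j) := by
          rw [ho, Subgroup.orderOf_coe]; exact orderOf_dvd_natCard h'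
        have h1 := Nat.eq_one_of_dvd_coprimes (hcop i j hne) hd1 hd2
        rw [orderOf_eq_one_iff] at h1
        exact hh (Subtype.ext h1)
      subst hij
      have hn : q'.out⁻¹ * q.out ∈ Subgroup.normalizer (H i : Set G) := by
        by_contra hn
        have hm : q'.out⁻¹ * q.out * (h : G) * (q'.out⁻¹ * q.out)⁻¹ ∈ (H i : Set G) := by
          have : q'.out⁻¹ * q.out * (h : G) * (q'.out⁻¹ * q.out)⁻¹
              = q'.out⁻¹ * (q.out * (h : G) * q.out⁻¹) * q'.out := by group
          rw [this, he']
          simp [mul_assoc]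
        exact hh (Subtype.ext (hTI i _ hn h h.2 hm))
      have hq : q = q' := by
        have := QuotientGroup.eq.mpr hn
        rw [QuotientGroup.out_eq', QuotientGroup.out_eq'] at this
        exact this.symm
      subst hq
      have hv : (h : G) = h' := by simpa using he'
      have : h = h' := Subtype.ext hv
      subst this
      rfl
    · rintro ⟨g, hg⟩
      obtain ⟨i, x, hx⟩ := hcover g hg
      let q : G ⧸ Subgroup.normalizer (H i : Set G) := ((x⁻¹ : G) : G ⧸ _)
      obtain ⟨n, hn⟩ := QuotientGroup.mk_out_eq_mul (Subgroup.normalizer (H i : Set G)) x⁻¹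
      have hmem : (n : G)⁻¹ * (x * g * x⁻¹) * ((n : G)⁻¹)⁻¹ ∈ H i :=
        (Subgroup.mem_normalizer_iff.mp (inv_mem n.2) _).mp hx
      refine ⟨⟨i, q, ⟨⟨_, hmem⟩, ?_⟩⟩, ?_⟩
      · intro h1
        apply hg
        have h2 := congrArg Subtype.val h1
        simp only [Subgroup.coe_one, conj_eq_one_iff] at h2
        exact h2
      · apply Subtype.ext
        show q.out * _ * q.out⁻¹ = g
        rw [hn]; group
  have hc := Nat.card_eq_of_bijective f hf
  have h1 : ∀ (α : Type _) [Finite α] (a : α), Nat.card {x : α // x ≠ a} = Nat.card α - 1 := by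
    intro α _ a
    haveI := Fintype.ofFinite α
    simp [Nat.card_eq_fintype_card, Fintype.card_subtype_compl]
  rw [Nat.card_sigma] at hc
  rw [← h1 G 1, ← hc]
  refine Finset.sum_congr rfl fun i _ => ?_
  rw [Nat.card_prod]
  congr 1
  haveI : Fintype (H i) := Fintype.ofFinite _
  simp [Nat.card_eq_fintype_card, Fintype.card_subtype_compl]

end Cfsg.Agent.S1527
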