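import Cfsg.Statements.S1528
import Cfsg.Agent.H43.Irreducible

set_option autoImplicit false
open Cfsg

namespace Cfsg.Agent.S1528

/-- Let N be a normal subgroup of the finite group G such that every element of G commuting with a non-identity element of N lies in N. If χ is an irreducible character of G with χ n ≠ χ 1 for some n ∈ N, then χ is the function induced from some irreducible character of N. -/
theorem result {G : Type*} [Group G] [Fintype G] (N : Subgroup G) [N.Normal] (hC : ∀ n ∈ N, n ≠ 1 → Subgroup.centralizer ({n} : Set G) ≤ N) (χ : G → ℂ) (hχ : Cfsg.IsIrrCharacter G χ) (hker : ∃ n ∈ N, χ n ≠ χ 1) : ∃ φ : N → ℂ, Cfsg.IsIrrCharacter N φ ∧ χ = Cfsg.indFun N φ := by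
  classical
  let res : N → ℂ := fun n => χ n
  have hχc := CharBasic.IsIrr.isCharacter hχ
  have hresc : Cfsg.IsCharacter N res := H43.char_comp N.subtype hχc
  let triv : Cfsg.IrrCharacter N := ⟨fun _ => 1, CharBasic.isIrrCharacter_one⟩
  haveI : Fintype N := Fintype.ofFinite _
  obtain ⟨φ, hφne, hφi⟩ : ∃ φ : Cfsg.IrrCharacter N, φ ≠ triv ∧
      Cfsg.classInner res (φ : N → ℂ) ≠ 0 := by
    by_contra hcon
    push Not at hcon
    obtain ⟨m, hm, hne⟩ := hker
    have h := CharBasic.classFunction_expansion (CharBasic.IsChar.isClassFunction hresc)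
    rw [Finset.sum_eq_single triv (fun φ _ hφ => by rw [hcon φ hφ, zero_smul]) (by simp)] at h
    exact hne ((congrFun h ⟨m, hm⟩).trans (congrFun h 1).symm)
  set F := Cfsg.indFun N (φ : N → ℂ) with hF
  have hFcl : Cfsg.IsClassFunction G F := fun g h => by
    simp only [hF, CharInduce.indFun_apply]
    congr 1
    exact Fintype.sum_equiv (Equiv.mulLeft h⁻¹) _ _ (fun x => by simp [mul_assoc])
  have hcoef : ∀ ψ : Cfsg.IrrCharacter G, ∃ n : ℕ, Cfsg.classInner F (ψ : G → ℂ) = n := by
    intro ψ
    rw [hF, CharInduce.classInner_indFun_left N _ _ (CharBasic.IsIrr.isClassFunction ψ.2)]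
    exact CharBasic.classInner_isChar_nat (CharBasic.IsIrr.isCharacter φ.2)
      (H43.char_comp N.subtype (CharBasic.IsIrr.isCharacter ψ.2))
  choose n hn using hcoef
  have hFchar : Cfsg.IsCharacter G F := by
    rw [CharBasic.classFunction_expansion hFcl]
    refine CharBasic.IsChar.sum _ _ fun ψ _ => ?_
    rw [hn, Nat.cast_smul_eq_nsmul]
    exact CharBasic.IsChar.nsmul (CharBasic.IsIrr.isCharacter ψ.2) _
  -- no element outside `N` fixes `φ`
  have hfix : ∀ x : G, CharInduce.conjFun N (φ : N → ℂ) x = (φ : N → ℂ) ↔ x ∈ N := by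
    intro x
    constructor
    · intro hx
      by_contra hxN
      have hcount := H43.perm_count N x
      have hterm : ∀ m : N, Nat.card {k : N // (k : G) * m * (k : G)⁻¹ = x * m * x⁻¹}
          = if m = 1 then Nat.card N else 0 := by
        intro m
        split_ifs with h
        · subst h
          exact Nat.card_congr (Equiv.subtypeUnivEquiv fun k => by simp)
        · rw [Nat.card_eq_zero]
          left
          refine ⟨fun ⟨k, hk⟩ => hxN ?_⟩
          have hmem : (k : G)⁻¹ * x ∈ Subgroup.centralizer ({(m : G)} : Set G) := by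
            rw [Subgroup.mem_centralizer_singleton_iff]
            calc (k : G)⁻¹ * x * m = (k : G)⁻¹ * (x * m * x⁻¹) * x := by group
              _ = (k : G)⁻¹ * (k * m * (k : G)⁻¹) * x := by rw [hk]
              _ = m * ((k : G)⁻¹ * x) := by group
          have := hC m m.2 (fun e => h (Subtype.ext e)) hmem
          simpa using N.mul_mem k.2 this
      simp only [hterm, Nat.cast_ite, Nat.cast_zero, Finset.sum_ite_eq', Finset.mem_univ, if_true] at hcount
      set s := Finset.univ.filter fun φ : Cfsg.IrrCharacter N =>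
        CharInduce.conjFun N (φ : N → ℂ) x = (φ : N → ℂ) with hs
      have hcard : s.card = 1 := by
        have h1 : (s.card : ℂ) = 1 := mul_right_cancel₀
          (Nat.cast_ne_zero.mpr (Nat.card_pos (α := N)).ne') (by convert hcount.trans (one_mul _).symm)
        exact_mod_cast h1
      exact hφne (Finset.card_le_one.mp hcard.le φ (by simp [hs, hx]) triv
        (by simp [hs, triv, CharInduce.conjFun]; rfl))
    · intro hx
      funext m
      exact CharBasic.IsIrr.isClassFunction φ.2 m ⟨x, hx⟩
  have hnorm : Cfsg.classInner F F = 1 := by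
    rw [hF, CharInduce.classInner_indFun_left N _ _ hFcl]
    have hrw : (fun h : N => Cfsg.indFun N (φ : N → ℂ) h)
        = (Nat.card N : ℂ)⁻¹ • ∑ x : G, CharInduce.conjFun N (φ : N → ℂ) x := by
      funext h
      rw [CharInduce.indFun_normal_coe, Pi.smul_apply, Finset.sum_apply, smul_eq_mul]
    rw [hrw, CharBasic.classInner_smul_right, CharBasic.classInner_sum_right, map_inv₀, map_natCast]
    simp only [CharBasic.classInner_irr φ.2 (H43.conjFun_irr N φ.2 _), eq_comm (a := (φ : N → ℂ)), hfix]
    rw [Finset.sum_boole, ← Fintype.card_subtype, ← Nat.card_eq_fintype_card]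
    exact inv_mul_cancel₀ (CharInduce.card_ne_zero_complex _)
  obtain ⟨r, hr⟩ := CharBasic.IsChar.exists_degree hFchar
  have hFirr : Cfsg.IsIrrCharacter G F :=
    H43.irr_of_signed_pos (H43.signed_of_norm_one (H43.gen_of_char hFchar) hnorm) hr
  refine ⟨φ, φ.2, ?_⟩
  by_contra hne
  apply hφi
  rw [← CharInduce.classInner_indFun_right N (φ : N → ℂ) χ (CharBasic.IsChar.isClassFunction hχc)]
  exact CharBasic.classInner_irr_of_ne hχ hFirr hne

end Cfsg.Agent.S1528
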