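import Cfsg.Statements.S1529
import Cfsg.Agent.H43.Isometry

set_option autoImplicit false
open Cfsg

namespace Cfsg.Agent.S1529

/-- Let N be a subgroup of the finite group G, S a set of irreducible characters of N with at least two members, and τ₁ a linear isometry on the integer combinations of S with virtual-character values such that τ₁ α vanishes at 1 whenever α ∈ ℤ[S] does. Then there is ε ∈ {1, −1} such that ε • τ₁ χ is an irreducible character of G for every χ ∈ S, and distinct members of S give distinct characters. -/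
theorem result {G : Type*} [Group G] [Fintype G] (N : Subgroup G) [Fintype N] (S : Set (N → ℂ)) (hirr : ∀ χ ∈ S, Cfsg.IsIrrCharacter N χ) (htwo : ∃ χ ∈ S, ∃ ψ ∈ S, χ ≠ ψ) (τ₁ : (N → ℂ) → (G → ℂ)) (hτ₁ : Cfsg.IsLinearIsometryOn (Cfsg.zspan S) τ₁) (h0 : ∀ α ∈ Cfsg.zspan S, α 1 = 0 → τ₁ α 1 = 0) : ∃ ε : ℂ, (ε = 1 ∨ ε = -1) ∧ (∀ χ ∈ S, Cfsg.IsIrrCharacter G (ε • τ₁ χ)) ∧ (∀ χ ∈ S, ∀ ψ ∈ S, τ₁ χ = τ₁ ψ → χ = ψ) := by
  classical
  have hsigned : ∀ χ ∈ S, H43.Signed (τ₁ χ) := fun χ hχ =>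
    H43.iso_signed hτ₁ (H43.zspan_mem hχ) (CharBasic.classInner_irr_self (hirr χ hχ))
  have hdeg : ∀ χ ∈ S, ∀ ψ ∈ S, ψ 1 * τ₁ χ 1 = χ 1 * τ₁ ψ 1 := by
    intro χ hχ ψ hψ
    obtain ⟨a, -, ha⟩ := CharBasic.IsIrr.exists_degree (hirr χ hχ)
    obtain ⟨b, -, hb⟩ := CharBasic.IsIrr.exists_degree (hirr ψ hψ)
    have mχ := H43.zspan_zsmul (H43.zspan_mem hχ) (b : ℤ)
    have mψ := H43.zspan_zsmul (H43.zspan_mem hψ) (a : ℤ)
    have h := h0 _ (H43.zspan_sub mχ mψ) (by simp [ha, hb, mul_comm])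
    rw [H43.iso_sub hτ₁ mχ mψ (H43.zspan_sub mχ mψ), hτ₁.2.1 χ (H43.zspan_mem hχ),
      hτ₁.2.1 ψ (H43.zspan_mem hψ)] at h
    simpa [sub_eq_zero, ha, hb] using h
  obtain ⟨χ₀, hχ₀, -⟩ := htwo
  obtain ⟨ε, hε, hirr₀⟩ : ∃ ε : ℂ, (ε = 1 ∨ ε = -1) ∧ Cfsg.IsIrrCharacter G (ε • τ₁ χ₀) := by
    rcases hsigned χ₀ hχ₀ with h | h
    · exact ⟨1, Or.inl rfl, by rwa [one_smul]⟩
    · exact ⟨-1, Or.inr rfl, by rwa [neg_one_smul]⟩
  refine ⟨ε, hε, fun χ hχ => ?_, ?_⟩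
  · obtain ⟨a, ha0, ha⟩ := CharBasic.IsIrr.exists_degree (hirr χ hχ)
    obtain ⟨b, hb0, hb⟩ := CharBasic.IsIrr.exists_degree (hirr χ₀ hχ₀)
    obtain ⟨c, hc0, hc⟩ := CharBasic.IsIrr.exists_degree hirr₀
    have he := hdeg χ hχ χ₀ hχ₀
    rw [ha, hb] at he
    have hsign : H43.Signed (ε • τ₁ χ) := by
      rcases hε with rfl | rfl
      · rw [one_smul]; exact hsigned χ hχ
      · rw [neg_one_smul]; exact (hsigned χ hχ).neg
    rcases hsign with h | h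
    · exact h
    · exfalso
      obtain ⟨d, hd0, hd⟩ := CharBasic.IsIrr.exists_degree h
      simp only [Pi.neg_apply, Pi.smul_apply, smul_eq_mul] at hd hc
      have : ((b * d + a * c : ℕ) : ℂ) = 0 := by
        push_cast; rw [← hd, ← hc]; linear_combination (-ε) * he
      exact absurd (Nat.cast_eq_zero.mp this) (by positivity)
  · intro χ hχ ψ hψ h
    by_contra hne
    have h1 := H43.iso_inner hτ₁ (H43.zspan_mem hχ) (H43.zspan_mem hψ)
    rw [CharBasic.classInner_irr_of_ne (hirr χ hχ) (hirr ψ hψ) hne, h, (hsigned ψ hψ).inner_self] at h1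
    exact one_ne_zero h1

end Cfsg.Agent.S1529
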