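import Cfsg.Statements.S1530
import Cfsg.Agent.H43.Coherence

set_option autoImplicit false
open Cfsg

namespace Cfsg.Agent.S1530

/-- Let N be a subgroup of the finite group G and S₀ a finite set of irreducible characters of N, χ an irreducible character of N not in S₀, with degrees ξ 1 = d ξ. Let τ be a linear isometry on the integer combinations of S₀ ∪ {χ} vanishing at 1, with values virtual characters of G vanishing at 1, such that (S₀, N minus 1, τ) is coherent. If some ψ ∈ S₀ has d ψ dividing d χ and 2 · d ψ · d χ < Σ_{ξ ∈ S₀} (d ξ)², then (S₀ ∪ {χ}, N minus 1, τ) is coherent. -/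
theorem result {G : Type*} [Group G] [Fintype G] (N : Subgroup G) [Fintype N] (S₀ : Finset (N → ℂ)) (χ : N → ℂ) (hirr : ∀ ξ ∈ S₀, Cfsg.IsIrrCharacter N ξ) (hχ : Cfsg.IsIrrCharacter N χ) (hχS : χ ∉ S₀) (d : (N → ℂ) → ℕ) (hd : ∀ ξ ∈ insert χ S₀, ξ 1 = (d ξ : ℂ)) (τ : (N → ℂ) → (G → ℂ)) (hτ : Cfsg.IsLinearIsometryOn (Cfsg.zspanOn (↑(insert χ S₀) : Set (N → ℂ)) {1}ᶜ) τ) (hτ1 : ∀ α ∈ Cfsg.zspanOn (↑(insert χ S₀) : Set (N → ℂ)) {1}ᶜ, τ α 1 = 0) (hcoh : Cfsg.IsCoherent (↑S₀ : Set (N → ℂ)) {1}ᶜ τ) (ψ : N → ℂ) (hψ : ψ ∈ S₀) (hdvd : d ψ ∣ d χ) (hlt : 2 * d ψ * d χ < ∑ ξ ∈ S₀, d ξ ^ 2) : Cfsg.IsCoherent (↑(insert χ S₀) : Set (N → ℂ)) {1}ᶜ τ := by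
  classical
  obtain ⟨-, τ₁, hτ₁, hagr⟩ := hcoh
  set S := insert χ S₀ with hS
  have hirrS : ∀ a ∈ S, Cfsg.IsIrrCharacter N a := by
    intro a ha
    rcases Finset.mem_insert.mp ha with rfl | h
    · exact hχ
    · exact hirr a h
  have hψS : ψ ∈ S := Finset.mem_insert_of_mem hψ
  have hχmem : χ ∈ S := Finset.mem_insert_self _ _
  have hψχ : ψ ≠ χ := fun e => hχS (e ▸ hψ)
  have hdpos : ∀ a ∈ S, 0 < d a := by
    intro a ha
    obtain ⟨r, hr, hr'⟩ := CharBasic.IsIrr.exists_degree (hirrS a ha)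
    have h := (hd a ha).symm.trans hr'
    rw [Nat.cast_inj] at h
    omega
  obtain ⟨m, hm⟩ := hdvd
  set β := χ - (m : ℤ) • ψ with hβdef
  have hβmem : β ∈ Cfsg.zspanOn (↑S : Set (N → ℂ)) {1}ᶜ := by
    rw [H43.zspanOn_compl_one]
    refine ⟨H43.zspan_sub (H43.zspan_mem (Finset.mem_coe.mpr hχmem))
      (H43.zspan_zsmul (H43.zspan_mem (Finset.mem_coe.mpr hψS)) _), ?_⟩
    simp [hβdef, hd χ hχmem, hd ψ hψS, hm]
    ring
  have hχξ : ∀ ξ ∈ S₀, Cfsg.classInner χ ξ = 0 := fun ξ hξ =>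
    CharBasic.classInner_irr_of_ne hχ (hirr ξ hξ) (fun e => hχS (e ▸ hξ))
  have hξχ : ∀ ξ ∈ S₀, Cfsg.classInner ξ χ = 0 := fun ξ hξ =>
    CharBasic.classInner_irr_of_ne (hirr ξ hξ) hχ (fun e => hχS (e ▸ hξ))
  choose g hg using fun ξ : {ξ // ξ ∈ S₀} => H43.gen_inner_int (H43.iso_gen hτ hβmem)
    (H43.iso_gen hτ₁ (H43.zspan_mem (Finset.mem_coe.mpr ξ.2)))
  let a : (N → ℂ) → ℤ := fun ξ => if h : ξ ∈ S₀ then g ⟨ξ, h⟩ else 0
  have ha : ∀ ξ ∈ S₀, Cfsg.classInner (τ β) (τ₁ ξ) = (a ξ : ℂ) := by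
    intro ξ hξ; simp only [a, dif_pos hξ]; exact hg ⟨ξ, hξ⟩
  set k : ℤ := a ψ + m with hk
  have hpairmem : ∀ ξ ∈ S₀, (d ψ : ℤ) • ξ - (d ξ : ℤ) • ψ ∈ Cfsg.zspanOn (↑S₀ : Set (N → ℂ)) {1}ᶜ := by
    intro ξ hξ
    rw [H43.zspanOn_compl_one]
    refine ⟨H43.zspan_sub (H43.zspan_zsmul (H43.zspan_mem (Finset.mem_coe.mpr hξ)) _)
      (H43.zspan_zsmul (H43.zspan_mem (Finset.mem_coe.mpr hψ)) _), ?_⟩
    simp [hd ξ (Finset.mem_insert_of_mem hξ), hd ψ hψS]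
    ring
  have hsub : Cfsg.zspanOn (↑S₀ : Set (N → ℂ)) {1}ᶜ ⊆ Cfsg.zspanOn (↑S : Set (N → ℂ)) {1}ᶜ :=
    fun α hα => ⟨H43.zspan_mono (fun x hx => Finset.mem_coe.mpr (Finset.mem_insert_of_mem (Finset.mem_coe.mp hx))) hα.1, hα.2⟩
  have hτpair : ∀ ξ ∈ S₀, τ ((d ψ : ℤ) • ξ - (d ξ : ℤ) • ψ) = (d ψ : ℤ) • τ₁ ξ - (d ξ : ℤ) • τ₁ ψ := by
    intro ξ hξ
    have h1 := H43.zspan_zsmul (H43.zspan_mem (S := (↑S₀ : Set (N → ℂ))) (Finset.mem_coe.mpr hξ)) (d ψ : ℤ)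
    have h2 := H43.zspan_zsmul (H43.zspan_mem (S := (↑S₀ : Set (N → ℂ))) (Finset.mem_coe.mpr hψ)) (d ξ : ℤ)
    rw [← hagr _ (hpairmem ξ hξ), H43.iso_sub hτ₁ h1 h2 (H43.zspan_sub h1 h2),
      hτ₁.2.1 ξ (H43.zspan_mem (Finset.mem_coe.mpr hξ)), hτ₁.2.1 ψ (H43.zspan_mem (Finset.mem_coe.mpr hψ))]
  -- the linear relation between the coefficients
  have hrel : ∀ ξ ∈ S₀, (d ψ : ℤ) * (a ξ + if ξ = ψ then (m : ℤ) else 0) = (d ξ : ℤ) * k := by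
    intro ξ hξ
    have h := H43.iso_inner hτ hβmem (hsub (hpairmem ξ hξ))
    rw [hτpair ξ hξ] at h
    simp only [hβdef, CharBasic.classInner_sub_left, CharBasic.classInner_sub_right,
      H43.classInner_zsmul_left, H43.classInner_zsmul_right, hχξ ξ hξ, hχξ ψ hψ, ha ξ hξ, ha ψ hψ,
      CharBasic.classInner_irr_self (hirr ψ hψ)] at h
    rw [← hβdef, ha ξ hξ, ha ψ hψ, CharBasic.classInner_irr (hirr ψ hψ) (hirr ξ hξ)] at h
    have h2 : (((d ψ : ℤ) * (a ξ + if ξ = ψ then (m : ℤ) else 0) : ℤ) : ℂ) = (((d ξ : ℤ) * k : ℤ) : ℂ) := by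
      rw [hk]
      push_cast at h ⊢
      by_cases he : ξ = ψ
      · rw [if_pos he]; subst he; simp only [if_true] at h; linear_combination h
      · rw [if_neg he]; rw [if_neg (Ne.symm he)] at h; linear_combination h
    exact_mod_cast h2
  -- Bessel
  set Γ := τ β - ∑ ξ ∈ S₀, (a ξ : ℂ) • τ₁ ξ with hΓ
  have hsum_inner : ∀ ξ ∈ S₀, Cfsg.classInner (∑ η ∈ S₀, (a η : ℂ) • τ₁ η) (τ₁ ξ) = (a ξ : ℂ) := by
    intro ξ hξ
    rw [CharBasic.classInner_sum_left, Finset.sum_eq_single ξ (fun η hη hne => by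
      rw [CharBasic.classInner_smul_left, H43.iso_inner hτ₁ (H43.zspan_mem (Finset.mem_coe.mpr hη))
        (H43.zspan_mem (Finset.mem_coe.mpr hξ)), CharBasic.classInner_irr_of_ne (hirr η hη) (hirr ξ hξ) hne,
        mul_zero]) (fun h => absurd hξ h), CharBasic.classInner_smul_left,
      H43.iso_inner hτ₁ (H43.zspan_mem (Finset.mem_coe.mpr hξ)) (H43.zspan_mem (Finset.mem_coe.mpr hξ)),
      CharBasic.classInner_irr_self (hirr ξ hξ), mul_one]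
  have hΓorth : ∀ ξ ∈ S₀, Cfsg.classInner Γ (τ₁ ξ) = 0 := fun ξ hξ => by
    rw [hΓ, CharBasic.classInner_sub_left, ha ξ hξ, hsum_inner ξ hξ, sub_self]
  have hΓnorm : Cfsg.classInner Γ Γ = ((1 + (m : ℤ) ^ 2 - ∑ ξ ∈ S₀, a ξ ^ 2 : ℤ) : ℂ) := by
    have hb : Cfsg.classInner (τ β) (τ β) = 1 + (m : ℂ) ^ 2 := by
      rw [H43.iso_inner hτ hβmem hβmem, hβdef]
      simp only [CharBasic.classInner_sub_left, CharBasic.classInner_sub_right,
        H43.classInner_zsmul_left, H43.classInner_zsmul_right, hχξ ψ hψ, hξχ ψ hψ,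
        CharBasic.classInner_irr_self hχ, CharBasic.classInner_irr_self (hirr ψ hψ), Int.cast_natCast]
      ring
    have e : Cfsg.classInner Γ Γ = Cfsg.classInner Γ (τ β) := by
      conv_lhs => arg 2; rw [hΓ]
      rw [CharBasic.classInner_sub_right, CharBasic.classInner_sum_right,
        Finset.sum_eq_zero (fun ξ hξ => by rw [CharBasic.classInner_smul_right, hΓorth ξ hξ, mul_zero]),
        sub_zero]
    rw [e, hΓ, CharBasic.classInner_sub_left, hb, CharBasic.classInner_sum_left]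
    push_cast
    congr 1
    refine Finset.sum_congr rfl fun ξ hξ => ?_
    rw [CharBasic.classInner_smul_left, ← CharBasic.classInner_conj_symm, ha ξ hξ, map_intCast, sq]
  have hΓnn : 0 ≤ 1 + (m : ℤ) ^ 2 - ∑ ξ ∈ S₀, a ξ ^ 2 := by
    have := H43.classInner_self_re_nonneg Γ
    rw [hΓnorm, Complex.intCast_re] at this
    exact_mod_cast this
  set J : ℤ := ∑ ξ ∈ S₀, (a ξ + if ξ = ψ then (m : ℤ) else 0) ^ 2 with hJdef
  have hJ : J = ∑ ξ ∈ S₀, a ξ ^ 2 + 2 * k * m - m ^ 2 := by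
    have : ∀ ξ ∈ S₀, (a ξ + if ξ = ψ then (m : ℤ) else 0) ^ 2
        = a ξ ^ 2 + if ξ = ψ then 2 * a ψ * m + m ^ 2 else 0 := by
      intro ξ _
      split_ifs with h
      · subst h; ring
      · ring
    rw [hJdef, Finset.sum_congr rfl this, Finset.sum_add_distrib, Finset.sum_ite_eq', if_pos hψ, hk]
    ring
  have hJd : (d ψ : ℤ) ^ 2 * J = k ^ 2 * ∑ ξ ∈ S₀, (d ξ : ℤ) ^ 2 := by
    rw [hJdef, Finset.mul_sum, Finset.mul_sum]
    refine Finset.sum_congr rfl fun ξ hξ => ?_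
    rw [← mul_pow, hrel ξ hξ]; ring
  have hk0 : k = 0 := by
    by_contra hk0
    have hdψ : (0 : ℤ) < d ψ := by exact_mod_cast hdpos ψ hψS
    have hlt' : 2 * (d ψ : ℤ) * d χ < ∑ ξ ∈ S₀, (d ξ : ℤ) ^ 2 := by exact_mod_cast hlt
    have hmc : (d χ : ℤ) = d ψ * m := by exact_mod_cast hm
    have hkabs : k * (k - 1) ≥ 0 := by
      rcases Int.lt_or_lt_of_ne hk0 with h | h
      · exact mul_nonneg_of_nonpos_of_nonpos (by omega) (by omega)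
      · exact mul_nonneg (by omega) (by omega)
    have hksq : 1 ≤ k ^ 2 := by
      have : 0 < k ^ 2 := by positivity
      omega
    have hJgt : 2 * k * m < J := by
      have h1 : (d ψ : ℤ) ^ 2 * (2 * k * m) < (d ψ : ℤ) ^ 2 * J := by
        rw [hJd]
        have e1 : k ^ 2 * (2 * (d ψ : ℤ) * (d ψ * m)) < k ^ 2 * ∑ ξ ∈ S₀, (d ξ : ℤ) ^ 2 :=
          mul_lt_mul_of_pos_left (hmc ▸ hlt') (by omega)
        have e2 : 0 ≤ (k * (k - 1)) * (2 * (d ψ : ℤ) ^ 2 * m) := mul_nonneg hkabs (by positivity)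
        nlinarith
      exact lt_of_mul_lt_mul_left h1 (by positivity)
    have hΓ0 : Γ = 0 := by
      refine CharBasic.classInner_self_eq_zero.mp ?_
      rw [hΓnorm]
      have : 1 + (m : ℤ) ^ 2 - ∑ ξ ∈ S₀, a ξ ^ 2 = 0 := by omega
      rw [this]; simp
    have h1 : τ β 1 = 0 := hτ1 _ hβmem
    rw [sub_eq_zero.mp (hΓ ▸ hΓ0 : τ β - ∑ ξ ∈ S₀, (a ξ : ℂ) • τ₁ ξ = 0), Finset.sum_apply] at h1
    have hdψC : (d ψ : ℂ) ≠ 0 := by exact_mod_cast (hdpos ψ hψS).ne'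
    have hval : ∀ ξ ∈ S₀, (d ψ : ℂ) * τ₁ ξ 1 = (d ξ : ℂ) * τ₁ ψ 1 := by
      intro ξ hξ
      have h2 := hτ1 _ (hsub (hpairmem ξ hξ))
      rw [hτpair ξ hξ] at h2
      simpa [sub_eq_zero] using h2
    have hψv : τ₁ ψ 1 ≠ 0 := (H43.iso_signed hτ₁ (H43.zspan_mem (Finset.mem_coe.mpr hψ))
      (CharBasic.classInner_irr_self (hirr ψ hψ))).one_ne_zero
    have h3 : (((∑ ξ ∈ S₀, a ξ * d ξ : ℤ)) : ℂ) * τ₁ ψ 1 = 0 := by
      rw [Int.cast_sum, Finset.sum_mul]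
      calc ∑ ξ ∈ S₀, ((a ξ * (d ξ : ℤ) : ℤ) : ℂ) * τ₁ ψ 1
          = ∑ ξ ∈ S₀, (d ψ : ℂ) * ((a ξ : ℂ) • τ₁ ξ) 1 := by
            refine Finset.sum_congr rfl fun ξ hξ => ?_
            push_cast
            rw [Pi.smul_apply, smul_eq_mul, mul_left_comm, hval ξ hξ]; ring
        _ = 0 := by rw [← Finset.mul_sum, h1, mul_zero]
    have h4 : ∑ ξ ∈ S₀, a ξ * (d ξ : ℤ) = 0 := by
      exact_mod_cast (mul_eq_zero.mp h3).resolve_right hψv
    have h5 : (d ψ : ℤ) * ∑ ξ ∈ S₀, a ξ * (d ξ : ℤ)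
        = k * (∑ ξ ∈ S₀, (d ξ : ℤ) ^ 2) - (d ψ : ℤ) ^ 2 * m := by
      have : ∀ ξ ∈ S₀, (d ψ : ℤ) * (a ξ * d ξ)
          = k * (d ξ : ℤ) ^ 2 - if ξ = ψ then (d ψ : ℤ) ^ 2 * m else 0 := by
        intro ξ hξ
        have := hrel ξ hξ
        split_ifs with h
        · subst h; rw [if_pos rfl] at this; linear_combination (d ξ : ℤ) * this
        · rw [if_neg h] at this; linear_combination (d ξ : ℤ) * this
      rw [Finset.mul_sum, Finset.sum_congr rfl this, Finset.sum_sub_distrib, Finset.sum_ite_eq',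
        if_pos hψ, Finset.mul_sum]
    rw [h4, mul_zero] at h5
    rcases Int.lt_or_lt_of_ne hk0 with h | h
    · have : k * (∑ ξ ∈ S₀, (d ξ : ℤ) ^ 2) < 0 := mul_neg_of_neg_of_pos h (by nlinarith)
      nlinarith
    · have : (∑ ξ ∈ S₀, (d ξ : ℤ) ^ 2) ≤ k * (∑ ξ ∈ S₀, (d ξ : ℤ) ^ 2) :=
        le_mul_of_one_le_left (by positivity) (by omega)
      nlinarith
  have hacoef : ∀ ξ ∈ S₀, a ξ = - if ξ = ψ then (m : ℤ) else 0 := by
    intro ξ hξ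
    have h := hrel ξ hξ
    rw [hk0, mul_zero, mul_eq_zero] at h
    have := h.resolve_left (by exact_mod_cast (hdpos ψ hψS).ne')
    omega
  have hΓ1 : Cfsg.classInner Γ Γ = 1 := by
    have hz : J = 0 := by
      rw [hJdef]
      refine Finset.sum_eq_zero fun ξ hξ => ?_
      rw [hacoef ξ hξ]; simp
    rw [hJ, hk0] at hz
    have : 1 + (m : ℤ) ^ 2 - ∑ ξ ∈ S₀, a ξ ^ 2 = 1 := by linarith
    rw [hΓnorm, this]; simp
  have hΓeq : Γ = τ β + (m : ℤ) • τ₁ ψ := by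
    rw [hΓ, sub_eq_add_neg, ← Finset.sum_neg_distrib]
    congr 1
    rw [Finset.sum_eq_single ψ (fun ξ hξ hne => by rw [hacoef ξ hξ, if_neg hne]; simp)
      (fun h => absurd hψ h), hacoef ψ hψ, if_pos rfl]
    ext x; simp
  let f : (N → ℂ) → (G → ℂ) := fun ξ => if ξ = χ then Γ else τ₁ ξ
  have fS : ∀ ξ ∈ S₀, f ξ = τ₁ ξ := fun ξ hξ => if_neg (fun e : ξ = χ => hχS (e ▸ hξ))
  have fχ : f χ = Γ := if_pos rfl
  refine H43.coherent_of_images S _ subset_rfl τ hτ (fun ξ hξ e => ?_) (fun x hx y hy h =>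
    CharBasic.classInner_irr_of_ne (hirrS x hx) (hirrS y hy) h) (fun ξ => (d ξ : ℤ))
    (fun ξ hξ => by simp [hd ξ hξ]) ψ hψS (by exact_mod_cast (hdpos ψ hψS).ne') f ?_ ?_ ?_
    ⟨χ, hχmem, hψχ.symm⟩
  · have := CharBasic.classInner_irr_self (hirrS ξ hξ)
    rw [e] at this; simp at this
  · intro ξ hξ
    rcases Finset.mem_insert.mp hξ with rfl | h
    · rw [fχ, hΓeq]
      exact H43.gen_add (H43.iso_gen hτ hβmem)
        (H43.gen_zsmul (H43.iso_gen hτ₁ (H43.zspan_mem (Finset.mem_coe.mpr hψ))) _)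
    · rw [fS ξ h]; exact H43.iso_gen hτ₁ (H43.zspan_mem (Finset.mem_coe.mpr h))
  · intro x hx y hy
    rcases Finset.mem_insert.mp hx with hxe | hx <;> rcases Finset.mem_insert.mp hy with hye | hy
    · rw [hxe, hye, fχ, hΓ1, CharBasic.classInner_irr_self hχ]
    · rw [hxe, fχ, fS y hy, hΓorth y hy, hχξ y hy]
    · rw [hye, fχ, fS x hx, ← CharBasic.classInner_conj_symm, hΓorth x hx, map_zero, hξχ x hx]
    · rw [fS x hx, fS y hy]
      exact H43.iso_inner hτ₁ (H43.zspan_mem (Finset.mem_coe.mpr hx)) (H43.zspan_mem (Finset.mem_coe.mpr hy))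
  · intro ξ hξ
    rcases Finset.mem_insert.mp hξ with rfl | h
    · rw [fχ, fS ψ hψ, hΓeq]
      have e : (d ψ : ℤ) • ξ - (d ξ : ℤ) • ψ = (d ψ : ℤ) • β := by
        rw [hβdef, smul_sub, smul_smul, hm, Nat.cast_mul]
      rw [e, hτ.2.1 β hβmem, smul_add, smul_smul, hm, Nat.cast_mul, add_sub_cancel_right]
    · rw [fS ξ h, fS ψ hψ]; exact hτpair ξ h

end Cfsg.Agent.S1530
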