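import Cfsg.Statements.S1532
import Cfsg.Agent.OddOrder.PF6.TICoherence

set_option autoImplicit false
open Cfsg

namespace Cfsg.Agent.S1532

/-- Let G be a finite group, p an odd prime and P a Sylow p-subgroup that is non-abelian, whose underlying set is a TI-subset of G, with P properly contained in its set normaliser N and C_G(x) ≤ P for every non-identity x ∈ P. Let Z be a nontrivial subgroup of the centre of P normalised by N. Then the set of irreducible characters χ of N with χ z ≠ χ 1 for some z ∈ Z is coherent for the map induced by induction from N to G. -/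
theorem result {G : Type*} [Group G] [Fintype G] (p : ℕ) [Fact p.Prime] (hp : p ≠ 2) (P : Sylow p G) (hna : ¬ IsMulCommutative (P : Subgroup G)) (hTI : Cfsg.IsTISubset ((P : Subgroup G) : Set G)) (hlt : (P : Subgroup G) < Subgroup.normalizer ((P : Subgroup G) : Set G)) (hC : ∀ k ∈ (P : Subgroup G), k ≠ 1 → Subgroup.centralizer ({k} : Set G) ≤ (P : Subgroup G)) [Fintype ↥(Subgroup.normalizer ((P : Subgroup G) : Set G))] (Z : Subgroup G) (hZ1 : Z ≠ ⊥) (hZP : ∀ z ∈ Z, z ∈ (P : Subgroup G) ∧ ∀ y ∈ (P : Subgroup G), z * y = y * z) (hZn : ∀ x ∈ Subgroup.normalizer ((P : Subgroup G) : Set G), ∀ z ∈ Z, x * z * x⁻¹ ∈ Z) : Cfsg.IsCoherent {χ : ↥(Subgroup.normalizer ((P : Subgroup G) : Set G)) → ℂ | Cfsg.IsIrrCharacter ↥(Subgroup.normalizer ((P : Subgroup G) : Set G)) χ ∧ ∃ z : ↥(Subgroup.normalizer ((P : Subgroup G) : Set G)), (z : G) ∈ Z ∧ χ z ≠ χ 1} {1}ᶜ (fun α => Cfsg.indFun (Subgroup.normalizer ((P : Subgroup G) : Set G)) α) := by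
  classical
  set K := (P : Subgroup G).subgroupOf (Subgroup.normalizer ((P : Subgroup G) : Set G)) with hKdef
  haveI : K.Normal := Subgroup.normal_in_normalizer
  have hC' : ∀ h ∈ (P : Subgroup G), h ≠ 1 →
      (Subgroup.normalizer ((P : Subgroup G) : Set G)) ⊓ Subgroup.centralizer ({h} : Set G) ≤ (P : Subgroup G) :=
    fun h hh h1 => inf_le_right.trans (hC h hh h1)
  have hF := OddOrder.PF6.isFrobKer hC'
  have hP1 : (P : Subgroup G) ≠ ⊥ := fun e => hna (by rw [e]; infer_instance)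
  have hnaK : ¬ IsMulCommutative K := fun h => hna ⟨⟨fun a b => Subtype.ext
    (congrArg (fun k : K => ((k : (Subgroup.normalizer ((P : Subgroup G) : Set G))) : G))
      (h.1.comm ⟨⟨a, hlt.le a.2⟩, a.2⟩ ⟨⟨b, hlt.le b.2⟩, b.2⟩))⟩⟩
  have hodd : Odd (Nat.card (Subgroup.normalizer ((P : Subgroup G) : Set G))) := by
    refine OddOrder.PF6.odd_card_of_not_comm hF hnaK ?_
    obtain ⟨n, hn⟩ := P.isPGroup'.exists_card_eq
    rw [Nat.card_congr (Subgroup.subgroupOfEquivOfLe hlt.le).toEquiv, hn]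
    exact ((Fact.out : p.Prime).odd_of_ne_two hp).pow
  have hcoh := OddOrder.PF6.sibley (H := (P : Subgroup G)) rfl P.isPGroup'.isNilpotent hP1
    hlt hTI hodd hC'
  set Z' := Z.subgroupOf (Subgroup.normalizer ((P : Subgroup G) : Set G)) with hZ'
  haveI : Z'.Normal := ⟨fun z hz x => Subgroup.mem_subgroupOf.2 (hZn x x.2 z hz)⟩
  have hZK : Z' ≤ K := fun z hz => (hZP z hz).1
  have hZ'1 : Z' ≠ ⊥ := fun e => hZ1 ((Subgroup.eq_bot_iff_forall Z).2 fun z hz => by
    have h : (⟨z, hlt.le (hZP z hz).1⟩ : (Subgroup.normalizer ((P : Subgroup G) : Set G))) ∈ Z' := hz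
    rw [e, Subgroup.mem_bot] at h
    exact congrArg Subtype.val h)
  have hset : {χ : (Subgroup.normalizer ((P : Subgroup G) : Set G)) → ℂ | Cfsg.IsIrrCharacter (Subgroup.normalizer ((P : Subgroup G) : Set G)) χ ∧ ∃ z : (Subgroup.normalizer ((P : Subgroup G) : Set G)), (z : G) ∈ Z ∧ χ z ≠ χ 1}
      = ↑(OddOrder.PF6.outside K Z') := by
    rw [OddOrder.PF6.set_eq, OddOrder.PF6.outside_eq hZK
      fun χ h => OddOrder.PF6.seqInd_irr hF (OddOrder.PF6.mem_outside.1 h).1]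
  rw [hset]
  obtain ⟨χ, hχ⟩ := OddOrder.PF6.outside_nonempty (K := K) hZ'1 hZK
  have hχ0 := (OddOrder.PF6.mem_outside.1 hχ).1
  have hKtop : K < ⊤ := lt_top_iff_ne_top.2 fun e => hlt.not_ge (Subgroup.subgroupOf_eq_top.1 e)
  obtain ⟨d, -, hd⟩ := CharBasic.IsIrr.exists_degree (OddOrder.PF6.seqInd_irr hF hχ0)
  refine OddOrder.PF6.coherent_mono hcoh ?_ ⟨χ - Cfsg.conjFun χ, ?_,
    sub_ne_zero.2 (OddOrder.PF6.seqInd_conj_ne hF hodd hKtop hχ0).symm⟩
  · rw [OddOrder.PF6.coe_outside]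
    exact Set.diff_subset
  · exact H43.zspanOn_compl_one.2 ⟨H43.zspan_sub (H43.zspan_mem hχ)
      (H43.zspan_mem (OddOrder.PF6.outside_conj hχ)), by simp [Cfsg.conjFun, hd]⟩

end Cfsg.Agent.S1532
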