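import Cfsg.Statements.S1534
import Cfsg.Agent.OddOrder.PF6.TICoherence

set_option autoImplicit false
open Cfsg

namespace Cfsg.Agent.S1534

/-- Let G be a finite group and K a nontrivial nilpotent subgroup whose underlying set is a TI-subset of G, properly contained in its set normaliser N, with C_G(k) ≤ K for every non-identity k ∈ K; let e be the index of K in N and S the set of irreducible characters χ of N with χ k ≠ χ 1 for some k ∈ K. Then one of: S has exactly one member, Nat.card K = e + 1 and K is an elementary abelian p-group for some prime p; or K is a Sylow 2-subgroup of G (Nat.card K is the largest power of 2 dividing Nat.card G) and [K : [K,K]] < 4e²; or (S, N minus 1, induction to G) is coherent. -/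
theorem result {G : Type*} [Group G] [Fintype G] (K : Subgroup G) (hK1 : K ≠ ⊥) (hnil : Group.IsNilpotent K) (hTI : Cfsg.IsTISubset (K : Set G)) (hlt : K < Subgroup.normalizer (K : Set G)) (hC : ∀ k ∈ K, k ≠ 1 → Subgroup.centralizer ({k} : Set G) ≤ K) [Fintype ↥(Subgroup.normalizer (K : Set G))] : (Nat.card {χ : ↥(Subgroup.normalizer (K : Set G)) → ℂ // Cfsg.IsIrrCharacter ↥(Subgroup.normalizer (K : Set G)) χ ∧ ∃ k : ↥(Subgroup.normalizer (K : Set G)), (k : G) ∈ K ∧ χ k ≠ χ 1} = 1 ∧ Nat.card K = (K.subgroupOf (Subgroup.normalizer (K : Set G))).index + 1 ∧ ∃ p : ℕ, p.Prime ∧ Cfsg.IsElementaryAbelian p K) ∨ (Nat.card K = 2 ^ (Nat.card G).factorization 2 ∧ (⁅K, K⁆.subgroupOf K).index < 4 * (K.subgroupOf (Subgroup.normalizer (K : Set G))).index ^ 2) ∨ Cfsg.IsCoherent {χ : ↥(Subgroup.normalizer (K : Set G)) → ℂ | Cfsg.IsIrrCharacter ↥(Subgroup.normalizer (K : Set G)) χ ∧ ∃ k : ↥(Subgroup.normalizer (K : Set G)), (k : G) ∈ K ∧ χ k ≠ χ 1} {1}ᶜ (fun α => Cfsg.indFun (Subgroup.normalizer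 (K : Set G)) α) := by
  classical
  have hC' : ∀ h ∈ K, h ≠ 1 →
      Subgroup.normalizer (K : Set G) ⊓ Subgroup.centralizer ({h} : Set G) ≤ K :=
    fun h hh h1 => inf_le_right.trans (hC h hh h1)
  rcases OddOrder.PF6.trichotomy rfl hK1 hlt hnil hTI hC' with
    ⟨h1, h2, q, hq, -, hel⟩ | ⟨q, hq, rfl, ⟨m, hm⟩, hle⟩ | hcoh
  · exact Or.inl ⟨h1, h2, q, hq, hel⟩
  · refine Or.inr (Or.inl ?_)
    haveI := Fact.mk hq
    haveI : (K.subgroupOf (Subgroup.normalizer (K : Set G))).Normal := Subgroup.normal_in_normalizer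
    have hcop := H28.Frob.coprime_index (OddOrder.PF6.isFrobKer hC')
    rw [Nat.card_congr (Subgroup.subgroupOfEquivOfLe hlt.le).toEquiv, hm] at hcop
    have hm0 : m ≠ 0 := fun e => hK1 (Subgroup.card_eq_one.1 (by rw [hm, e, pow_zero]))
    have hcop2 := hcop.coprime_dvd_left (dvd_pow_self 2 hm0)
    obtain ⟨P, hP⟩ := OddOrder.PF6.exists_sylow_eq (p := 2) rfl hlt.le (IsPGroup.of_card hm) hcop2
    refine ⟨by rw [← hP, P.card_eq_multiplicity], lt_of_le_of_ne ?_ ?_⟩
    all_goals
      set e := (K.subgroupOf (Subgroup.normalizer (K : Set G))).index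
      obtain ⟨j, -, hj⟩ := (Nat.dvd_prime_pow hq).1
        (hm ▸ Subgroup.index_dvd_card (⁅K, K⁆.subgroupOf K))
      rw [hj] at hle ⊢
    · by_contra hlt'
      have h5 : 2 ^ j = 2 * (2 * e ^ 2) + 1 := by omega
      rcases Nat.eq_zero_or_pos j with rfl | hj0
      · have : 0 < e ^ 2 := pow_pos (Nat.pos_of_ne_zero Subgroup.FiniteIndex.index_ne_zero) 2
        simp only [pow_zero] at h5 hlt'
        omega
      · have := dvd_pow_self 2 hj0.ne'
        omega
    · intro h5
      have he1 : e ≠ 1 := fun h => hlt.not_ge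
        (Subgroup.subgroupOf_eq_top.1 (Subgroup.index_eq_one.1 h))
      have hd : e ∣ 2 ^ j := h5 ▸ Dvd.intro_left (4 * e) (by ring)
      exact he1 (Nat.eq_one_of_dvd_coprimes (hcop2.symm.pow_right j) dvd_rfl hd)
  · exact Or.inr (Or.inr hcoh)

end Cfsg.Agent.S1534
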