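import Cfsg.Statements.S1537
import Cfsg.Agent.OddOrder.PF8.Frozen
import Cfsg.Agent.OddOrder.PF10.CoverInst
import Cfsg.Agent.OddOrder.BG16.Instance

set_option autoImplicit false
open Cfsg

namespace Cfsg.Agent.S1537

open Cfsg.Agent.OddOrder

/-- Let G be a minimal simple group of odd order and M a maximal subgroup. For A equal to A₁(M), A(M) or A₀(M): the set normaliser of A is M, and the Dade hypothesis holds for A, M and the function a ↦ R(a). -/
theorem result {G : Type*} [Group G] [Finite G] (hG : Cfsg.IsMinSimpleOddOrder G) (M : Subgroup G) (hM : IsCoatom M) (A : Set G) (hA : A = Cfsg.typeA1 M ∨ A = Cfsg.typeA M ∨ A = Cfsg.typeA0 M) : Subgroup.normalizer A = M ∧ Cfsg.DadeHypothesis A M (Cfsg.supportR M) := by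
  have := hG.2.1
  obtain ⟨hF, h1, h2, -, -⟩ := (BG16.sectionFacts hG).s1355 M hM
  exact PF8.normalizer_and_dade_frozen hM (PF10.support_of_facts hG (BG16.sectionFacts hG) hM) hF
    (h1.trans h2) hA

end Cfsg.Agent.S1537
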