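import Cfsg.Statements.S1538
import Cfsg.Agent.OddOrder.PF8.Frozen
import Cfsg.Agent.OddOrder.PF10.CoverInst
import Cfsg.Agent.OddOrder.BG16.Instance

set_option autoImplicit false
open Cfsg

namespace Cfsg.Agent.S1538

open Cfsg.Agent.OddOrder

/-- Let G be a minimal simple group of odd order and M a maximal subgroup of Type II. Then each of A₀(M), A(M), A₁(M) is a TI-subset of G whose set normaliser is M. -/
theorem result {G : Type*} [Group G] [Finite G] (hG : Cfsg.IsMinSimpleOddOrder G) (M : Subgroup G) (hM : IsCoatom M) (hII : Cfsg.IsOfTypeII M) : (Cfsg.IsTISubset (Cfsg.typeA0 M) ∧ Subgroup.normalizer (Cfsg.typeA0 M) = M) ∧ (Cfsg.IsTISubset (Cfsg.typeA M) ∧ Subgroup.normalizer (Cfsg.typeA M) = M) ∧ (Cfsg.IsTISubset (Cfsg.typeA1 M) ∧ Subgroup.normalizer (Cfsg.typeA1 M) = M) := by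
  have := hG.2.1
  have S := PF10.support_of_facts hG (BG16.sectionFacts hG) hM
  have hI : ¬ IsTypeI M := fun h => BG16.typeI_not_typeP h (BG16.typeP_of_typeII hII)
  rw [PF8.typeA0_eq_of_not_typeI hI, PF8.typeA_eq_of_not_typeI hI]
  exact ⟨PF8.typeII_ti hM S hII (Or.inr (Or.inr rfl)), PF8.typeII_ti hM S hII (Or.inr (Or.inl rfl)),
    PF8.typeII_ti hM S hII (Or.inl rfl)⟩

end Cfsg.Agent.S1538
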