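import Cfsg.Statements.S1541
import Cfsg.Agent.S1379
import Cfsg.Agent.OddOrder.PF12.TypeOneFrobenius
import Cfsg.Agent.OddOrder.PF12.NotAllTypeI
import Cfsg.Agent.OddOrder.BG16.Exclusive

set_option autoImplicit false
open Cfsg

namespace Cfsg.Agent.S1541

/-- Let G be a minimal simple group of odd order. Then some maximal subgroup of G is not of Type I. -/
theorem result {G : Type*} [Group G] [Finite G] (hG : Cfsg.IsMinSimpleOddOrder G) : ∃ M : Subgroup G, IsCoatom M ∧ ¬ Cfsg.IsOfTypeI M := by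
  obtain ⟨hodd, hsimple, -, -⟩ := id hG
  haveI := hsimple
  by_contra hcon
  push Not at hcon
  have hno4 : ∀ M : Subgroup G, IsCoatom M → ¬ Cfsg.IsOfTypeIV M := by
    rintro M hM ⟨W₁, U, W₂, hP, -⟩
    exact OddOrder.BG16.typeI_not_typeP (OddOrder.IsTypeI.of_isOfTypeI (hcon M hM)) ⟨W₁, U, W₂, hP⟩
  obtain ⟨M, hM, hI⟩ := OddOrder.PF12.exists_not_typeI hodd (OddOrder.PF8.localFacts hG)
    (Cfsg.Agent.S1379.result hG).2.1
    (fun M hM hI => OddOrder.PF12.centralizer_le_core hG hno4 hM hI)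
  exact hI (OddOrder.IsTypeI.of_isOfTypeI (hcon M hM))

end Cfsg.Agent.S1541
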