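import Cfsg.Statements.S1552
import Cfsg.Agent.H95.CertSextetSext
import Cfsg.Agent.H95.GolayPair

set_option autoImplicit false
open scoped Pointwise
open Cfsg

namespace Cfsg.Agent.S1552

/-- A sextet stabiliser has four orbits on the 1771 sextets, of sizes 1, 90, 240, 1440; and the stabiliser is a maximal proper subgroup. -/
theorem result (S : Finset (Finset Cfsg.GolayPt)) (hS : S ∈ Cfsg.sextets) : ∃ X₁ ∈ Cfsg.sextets, ∃ X₂ ∈ Cfsg.sextets, ∃ X₃ ∈ Cfsg.sextets, (MulAction.orbit ↥(MulAction.stabilizer Cfsg.M24 S) X₁).ncard = 90 ∧ (MulAction.orbit ↥(MulAction.stabilizer Cfsg.M24 S) X₂).ncard = 240 ∧ (MulAction.orbit ↥(MulAction.stabilizer Cfsg.M24 S) X₃).ncard = 1440 ∧ Cfsg.sextets = {S} ∪ MulAction.orbit ↥(MulAction.stabilizer Cfsg.M24 S) X₁ ∪ MulAction.orbit ↥(MulAction.stabilizer Cfsg.M24 S) X₂ ∪ MulAction.orbit ↥(MulAction.stabilizer Cfsg.M24 S) X₃ ∧ IsCoatom (MulAction.stabilizer Cfsg.M24 S) := by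
  have hroot : ∀ c ∈ H95.sextetSext, H95.sysOf c.1 ∈ Cfsg.sextets := fun c hc =>
    H95.sextet_of_isSextB (List.all_eq_true.1 H95.sextetSext_roots c hc)
  have h1 : (H95.sextetSext1).1 = H95.sextetBase := rfl
  have hbase : H95.sysOf H95.sextetBase ∈ Cfsg.sextets :=
    hroot _ (show H95.sextetSext1 ∈ H95.sextetSext by simp [H95.sextetSext])
  obtain ⟨g, rfl⟩ := H95.exists_smul_sextet_pair hbase hS
  obtain ⟨hc, hu⟩ := H95.orbit_split H95.sextetSext_cert H95.sextets_smul H95.ncard_sextets_le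
    hroot g
  have hl := H95.sextetSext_lengths
  simp only [H95.sextetSext, List.map_cons, List.map_nil, List.cons.injEq, and_true] at hl
  obtain ⟨hm2, hc2⟩ := hc H95.sextetSext2 (by simp [H95.sextetSext])
  obtain ⟨hm3, hc3⟩ := hc H95.sextetSext3 (by simp [H95.sextetSext])
  obtain ⟨hm4, hc4⟩ := hc H95.sextetSext4 (by simp [H95.sextetSext])
  refine ⟨_, hm2, _, hm3, _, hm4, hc2.trans hl.2.1, hc3.trans hl.2.2.1, hc4.trans hl.2.2.2,
    hu.trans ?_, ?_⟩
  · ext S
    simp only [H95.sextetSext, Set.mem_setOf_eq, List.mem_cons, List.not_mem_nil, or_false,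
      Set.mem_union, exists_eq_or_imp, exists_eq_left, h1, H95.orbit_stabilizer_self, or_assoc]
  · refine H95.isCoatom_of_cert
      (cs := ![H95.sextetSext1, H95.sextetSext2, H95.sextetSext3, H95.sextetSext4])
      (gs := H95.sextetGens) (N := 1771) ?_ H95.sextets_smul H95.ncard_sextets_le ?_
      (fun S hS => H95.exists_smul_sextet_pair hbase hS) h1 ![1, 90, 240, 1440] ?_ rfl
      (by decide) (by decide +kernel) g
    · simpa [List.ofFn_succ, H95.sextetSext] using H95.sextetSext_cert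
    · simpa [List.ofFn_succ, H95.sextetSext] using hroot
    · intro i
      fin_cases i <;> simp [hl]

end Cfsg.Agent.S1552
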