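import Cfsg.Statements.S1558
import Cfsg.Agent.H95.GolayTrioAct
import Cfsg.Agent.H95.GolayTransfer

set_option autoImplicit false
open scoped Pointwise
open Cfsg

namespace Cfsg.Agent.S1558

/-- Structure of a trio stabiliser: every permutation of the three octads is induced, and there is a normal subgroup of order 64 of elements squaring to the identity whose quotient is isomorphic to the product of GL(3, 2) with the symmetric group of degree 3. -/
theorem result (T : Finset (Finset Cfsg.GolayPt)) (hT : T ∈ Cfsg.trios) : (∀ e : Equiv.Perm ↥T, ∃ g ∈ MulAction.stabilizer Cfsg.M24 T, ∀ o : ↥T, (g : Equiv.Perm Cfsg.GolayPt) • (o : Finset Cfsg.GolayPt) = ((e o : ↥T) : Finset Cfsg.GolayPt)) ∧ ∃ (N : Subgroup ↥(MulAction.stabilizer Cfsg.M24 T)) (_ : N.Normal), Nat.card N = 64 ∧ (∀ x ∈ N, x * x = 1) ∧ Nonempty (↥(MulAction.stabilizer Cfsg.M24 T) ⧸ N ≃* GL (Fin 3) (ZMod 2) × Equiv.Perm (Fin 3)) := by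
  obtain ⟨g, rfl⟩ := H95.exists_smul_trio_pair H95.trioBase_mem hT
  refine ⟨fun e => ?_, ?_⟩
  · obtain ⟨x, hx⟩ := H95.blockHom_surjective_smul g _ H95.blockHom_trio_surjective e
    refine ⟨x.1, x.2, fun t => ?_⟩
    rw [← H95.blockHom_apply, hx]
  · let c := H95.stabConj g (H95.sysOf H95.trioBase)
    have hn : (H95.trioAct.ker.map c.toMonoidHom).Normal :=
      Subgroup.Normal.map (MonoidHom.normal_ker _) _ c.surjective
    refine ⟨H95.trioAct.ker.map c.toMonoidHom, hn, (Subgroup.card_map_of_injective c.injective).trans H95.trioAct_counts.1, ?_,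
      ⟨(QuotientGroup.congr H95.trioAct.ker (H95.trioAct.ker.map c.toMonoidHom) c rfl).symm.trans H95.trioQuot⟩⟩
    rintro _ ⟨x, hx, rfl⟩
    rw [← map_mul, H95.sq_of_mem_ker hx, map_one]

end Cfsg.Agent.S1558
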