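import Cfsg.Statements.S1559
import Cfsg.Agent.H95.CertTrioTrio
import Cfsg.Agent.H95.GolayPair

set_option autoImplicit false
open scoped Pointwise
open Cfsg

namespace Cfsg.Agent.S1559

/-- A trio stabiliser has five orbits on the 3795 trios, of sizes 1, 42, 56, 1008, 2688; and the stabiliser is a maximal proper subgroup. -/
theorem result (T : Finset (Finset Cfsg.GolayPt)) (hT : T ∈ Cfsg.trios) : ∃ X₁ ∈ Cfsg.trios, ∃ X₂ ∈ Cfsg.trios, ∃ X₃ ∈ Cfsg.trios, ∃ X₄ ∈ Cfsg.trios, (MulAction.orbit ↥(MulAction.stabilizer Cfsg.M24 T) X₁).ncard = 42 ∧ (MulAction.orbit ↥(MulAction.stabilizer Cfsg.M24 T) X₂).ncard = 56 ∧ (MulAction.orbit ↥(MulAction.stabilizer Cfsg.M24 T) X₃).ncard = 1008 ∧ (MulAction.orbit ↥(MulAction.stabilizer Cfsg.M24 T) X₄).ncard = 2688 ∧ Cfsg.trios = {T} ∪ MulAction.orbit ↥(MulAction.stabilizer Cfsg.M24 T) X₁ ∪ MulAction.orbit ↥(MulAction.stabilizer Cfsg.M24 T) X₂ ∪ MulAction.orbit ↥(MulAction.stabilizer Cfsg.M24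 T) X₃ ∪ MulAction.orbit ↥(MulAction.stabilizer Cfsg.M24 T) X₄ ∧ IsCoatom (MulAction.stabilizer Cfsg.M24 T) := by
  have hroot : ∀ c ∈ H95.trioTrio, H95.sysOf c.1 ∈ Cfsg.trios := fun c hc =>
    H95.trio_of_isTrioB (List.all_eq_true.1 H95.trioTrio_roots c hc)
  have h1 : (H95.trioTrio1).1 = H95.trioBase := rfl
  have hbase : H95.sysOf H95.trioBase ∈ Cfsg.trios :=
    hroot _ (show H95.trioTrio1 ∈ H95.trioTrio by simp [H95.trioTrio])
  obtain ⟨g, rfl⟩ := H95.exists_smul_trio_pair hbase hT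
  obtain ⟨hc, hu⟩ := H95.orbit_split H95.trioTrio_cert H95.trios_smul H95.ncard_trios_le
    hroot g
  have hl := H95.trioTrio_lengths
  simp only [H95.trioTrio, List.map_cons, List.map_nil, List.cons.injEq, and_true] at hl
  obtain ⟨hm2, hc2⟩ := hc H95.trioTrio2 (by simp [H95.trioTrio])
  obtain ⟨hm3, hc3⟩ := hc H95.trioTrio3 (by simp [H95.trioTrio])
  obtain ⟨hm4, hc4⟩ := hc H95.trioTrio4 (by simp [H95.trioTrio])
  obtain ⟨hm5, hc5⟩ := hc H95.trioTrio5 (by simp [H95.trioTrio])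
  refine ⟨_, hm2, _, hm3, _, hm4, _, hm5, hc2.trans hl.2.1, hc3.trans hl.2.2.1,
    hc4.trans hl.2.2.2.1, hc5.trans hl.2.2.2.2,
    hu.trans ?_, ?_⟩
  · ext S
    simp only [H95.trioTrio, Set.mem_setOf_eq, List.mem_cons, List.not_mem_nil, or_false,
      Set.mem_union, exists_eq_or_imp, exists_eq_left, h1, H95.orbit_stabilizer_self, or_assoc]
  · refine H95.isCoatom_of_cert
      (cs := ![H95.trioTrio1, H95.trioTrio2, H95.trioTrio3, H95.trioTrio4,
        H95.trioTrio5])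
      (gs := H95.trioGens) (N := 3795) ?_ H95.trios_smul H95.ncard_trios_le ?_
      (fun S hS => H95.exists_smul_trio_pair hbase hS) h1 ![1, 42, 56, 1008, 2688] ?_ rfl
      (by decide) (by decide +kernel) g
    · simpa [List.ofFn_succ, H95.trioTrio] using H95.trioTrio_cert
    · simpa [List.ofFn_succ, H95.trioTrio] using hroot
    · intro i
      fin_cases i <;> simp [hl]

end Cfsg.Agent.S1559
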