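import Cfsg.Statements.S1580
import Cfsg.Agent.H92.McLOrbit
import Cfsg.Agent.H92.LeechFrames

set_option autoImplicit false
open Cfsg

namespace Cfsg.Agent.S1580

open Cfsg.Agent.Golay Cfsg.Agent.H92.LeechOrbit

/-- The McLaughlin configuration: for u of customary norm 6 and v minimal with u − v minimal, there are 275 further such summands x of customary inner product 2 with v, permuted transitively by the stabiliser of u and v. -/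
theorem result (u v : ↥Cfsg.leechLattice) (hu : Cfsg.sqNorm (u : Cfsg.GolayPt → ℤ) = 48) (hv : Cfsg.sqNorm (v : Cfsg.GolayPt → ℤ) = 32 ∧ Cfsg.sqNorm ((u - v) : Cfsg.GolayPt → ℤ) = 32) : {x : ↥Cfsg.leechLattice | Cfsg.sqNorm (x : Cfsg.GolayPt → ℤ) = 32 ∧ Cfsg.sqNorm ((u - x) : Cfsg.GolayPt → ℤ) = 32 ∧ Cfsg.dotInt (v : Cfsg.GolayPt → ℤ) (x : Cfsg.GolayPt → ℤ) = 16}.ncard = 275 ∧ ∀ x ∈ {x : ↥Cfsg.leechLattice | Cfsg.sqNorm (x : Cfsg.GolayPt → ℤ) = 32 ∧ Cfsg.sqNorm ((u - x) : Cfsg.GolayPt → ℤ) = 32 ∧ Cfsg.dotInt (v : Cfsg.GolayPt → ℤ) (x : Cfsg.GolayPt → ℤ) = 16}, ∀ x' ∈ {x : ↥Cfsg.leechLattice | Cfsg.sqNorm (x : Cfsg.GolayPt → ℤ) = 32 ∧ Cfsg.sqNorm ((u - x) : Cfsg.GolayPt → ℤ) = 32 ∧ Cfsg.dotInt (v : Cfsg.GolayPt → ℤ) (x : Cfsg.GolayPt → ℤ) = 16}, ∃ g : ↥Cfsg.Co0, g • u = u ∧ g • v = v ∧ g • x = x' := by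
  obtain ⟨k, hu', hv'⟩ := exists_move_edge u v hu hv
  have hF : Frame mclCert [(u, 24), (v, 16)] k := by
    show [((k • u : Cfsg.leechLattice).1, (24 : ℤ)), ((k • v : Cfsg.leechLattice).1, (16 : ℤ))] = _
    rw [hu', hv']
    rfl
  have e : atSet [(u, 24), (v, 16)] = {x : ↥Cfsg.leechLattice | Cfsg.sqNorm (x : Cfsg.GolayPt → ℤ) = 32 ∧
      Cfsg.sqNorm ((u - x) : Cfsg.GolayPt → ℤ) = 32 ∧
      Cfsg.dotInt (v : Cfsg.GolayPt → ℤ) (x : Cfsg.GolayPt → ℤ) = 16} := by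
    ext x
    simp only [atSet, Set.mem_setOf_eq, List.forall_mem_cons, List.mem_singleton, forall_eq,
      sqNorm_diff, hu]
    constructor
    · rintro ⟨a, b, c⟩; exact ⟨a, by omega, c⟩
    · rintro ⟨a, b, c⟩; exact ⟨a, by omega, c⟩
  rw [← e]
  refine ⟨hF.ncard mclCert_ok mclCert_cover, fun x hx x' hx' => ?_⟩
  obtain ⟨g, hg, he⟩ := hF.transitive mclCert_ok mclCert_cover hx hx'
  exact ⟨g, hg (u, 24) (by simp), hg (v, 16) (by simp), he⟩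

end Cfsg.Agent.S1580
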