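import Cfsg.Statements.S1584
import Cfsg.Agent.H92.CoThreeFrames
import Cfsg.Agent.H92.HSOrbit

set_option autoImplicit false
open Cfsg

namespace Cfsg.Agent.S1584

open Cfsg.Agent.Golay Cfsg.Agent.H92.LeechOrbit

/-- The Higman–Sims group acts with rank 3 and subdegrees 1, 22, 77 on its 100 points, the orbits of a point stabiliser being distinguished by customary inner product 1 with the fixed point. -/
theorem result (v w x : ↥Cfsg.leechLattice) (hv : Cfsg.sqNorm (v : Cfsg.GolayPt → ℤ) = 48) (hw : Cfsg.sqNorm (w : Cfsg.GolayPt → ℤ) = 48) (hvw : Cfsg.dotInt (v : Cfsg.GolayPt → ℤ) (w : Cfsg.GolayPt → ℤ) = -32) (hx : x ∈ {x : ↥Cfsg.leechLattice | Cfsg.sqNorm (x : Cfsg.GolayPt → ℤ) = 32 ∧ Cfsg.dotInt (v : Cfsg.GolayPt → ℤ) (x : Cfsg.GolayPt → ℤ) = 24 ∧ Cfsg.dotInt (w : Cfsg.GolayPt → ℤ) (x : Cfsg.GolayPt → ℤ) = -24}) : {y : ↥Cfsg.leechLattice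 | y ∈ {x : ↥Cfsg.leechLattice | Cfsg.sqNorm (x : Cfsg.GolayPt → ℤ) = 32 ∧ Cfsg.dotInt (v : Cfsg.GolayPt → ℤ) (x : Cfsg.GolayPt → ℤ) = 24 ∧ Cfsg.dotInt (w : Cfsg.GolayPt → ℤ) (x : Cfsg.GolayPt → ℤ) = -24} ∧ Cfsg.dotInt (x : Cfsg.GolayPt → ℤ) (y : Cfsg.GolayPt → ℤ) = 8}.ncard = 22 ∧ {y : ↥Cfsg.leechLattice | y ∈ {x : ↥Cfsg.leechLattice | Cfsg.sqNorm (x : Cfsg.GolayPt → ℤ) = 32 ∧ Cfsg.dotInt (v : Cfsg.GolayPt → ℤ) (x : Cfsg.GolayPt → ℤ) = 24 ∧ Cfsg.dotInt (w : Cfsg.GolayPt → ℤ) (x : Cfsg.GolayPt → ℤ) = -24} ∧ y ≠ x ∧ Cfsg.dotInt (x : Cfsg.GolayPt → ℤ) (y : Cfsg.GolayPt → ℤ) ≠ 8}.ncard = 77 ∧ ∀ y ∈ {x : ↥Cfsg.leechLattice | Cfsg.sqNorm (x : Cfsg.GolayPt → ℤ) = 32 ∧ Cfsg.dotInt (v : Cfsg.GolayPt → ℤ) (x : Cfsg.GolayPt → ℤ) = 24 ∧ Cfsg.dotInt (w : Cfsg.GolayPt → ℤ) (x : Cfsg.GolayPt → ℤ) = -24}, ∀ y' ∈ {x : ↥Cfsg.leechLattice | Cfsg.sqNorm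 (x : Cfsg.GolayPt → ℤ) = 32 ∧ Cfsg.dotInt (v : Cfsg.GolayPt → ℤ) (x : Cfsg.GolayPt → ℤ) = 24 ∧ Cfsg.dotInt (w : Cfsg.GolayPt → ℤ) (x : Cfsg.GolayPt → ℤ) = -24}, y ≠ x → y' ≠ x → (Cfsg.dotInt (x : Cfsg.GolayPt → ℤ) (y : Cfsg.GolayPt → ℤ) = 8 ↔ Cfsg.dotInt (x : Cfsg.GolayPt → ℤ) (y' : Cfsg.GolayPt → ℤ) = 8) → ∃ g : ↥Cfsg.Co0, g • v = v ∧ g • w = w ∧ g • x = x ∧ g • y = y' := by
  obtain ⟨k, hv', hw'⟩ := exists_move_pair v w hv hw hvw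
  have hF : Frame hsCert [(v, 24), (w, -24)] k := by
    show [((k • v : Cfsg.leechLattice).1, (24 : ℤ)), ((k • w : Cfsg.leechLattice).1, (-24 : ℤ))] = _
    rw [hv', hw']
    rfl
  have hx' : x ∈ atSet [(v, 24), (w, -24)] := by
    obtain ⟨h1, h2, h3⟩ := hx
    exact ⟨h1, by simp [h2, h3]⟩
  have hroot : Nat.beq (hsCert.code hsCert.root) 62062060636173731114942761100 = true := by
    decide +kernel
  obtain ⟨k1, hN⟩ := hF.extend hsCert_ok hsCert_cover (C' := hsNearCert) (d := 8) hroot rfl hx'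
  obtain ⟨k2, hR⟩ := hF.extend hsCert_ok hsCert_cover (C' := hsFarCert) (d := 16) hroot rfl hx'
  have cases3 : ∀ y ∈ atSet [(v, 24), (w, -24)], y ≠ x →
      dotInt x.1 y.1 = 8 ∨ dotInt x.1 y.1 = 16 := by
    intro y hy hne
    have := hF.cases hsCert_ok hsCert_cover hroot (ds := [8, 16]) (by decide +kernel) hx' hy hne
    simpa using this
  have eN : {y : ↥Cfsg.leechLattice | y ∈ {x : ↥Cfsg.leechLattice | Cfsg.sqNorm (x : Cfsg.GolayPt → ℤ) = 32 ∧ Cfsg.dotInt (v : Cfsg.GolayPt → ℤ) (x : Cfsg.GolayPt → ℤ) = 24 ∧ Cfsg.dotInt (w : Cfsg.GolayPt → ℤ) (x : Cfsg.GolayPt → ℤ) = -24} ∧ Cfsg.dotInt (x : Cfsg.GolayPt → ℤ) (y : Cfsg.GolayPt → ℤ) = 8} = atSet ([(v, 24), (w, -24)] ++ [(x, 8)]) := by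
    ext y; simp [atSet, and_assoc]
  have eR : {y : ↥Cfsg.leechLattice | y ∈ {x : ↥Cfsg.leechLattice | Cfsg.sqNorm (x : Cfsg.GolayPt → ℤ) = 32 ∧ Cfsg.dotInt (v : Cfsg.GolayPt → ℤ) (x : Cfsg.GolayPt → ℤ) = 24 ∧ Cfsg.dotInt (w : Cfsg.GolayPt → ℤ) (x : Cfsg.GolayPt → ℤ) = -24} ∧ y ≠ x ∧ Cfsg.dotInt (x : Cfsg.GolayPt → ℤ) (y : Cfsg.GolayPt → ℤ) ≠ 8} = atSet ([(v, 24), (w, -24)] ++ [(x, 16)]) := by
    ext y
    simp only [Set.mem_setOf_eq, atSet, List.cons_append, List.nil_append, List.forall_mem_cons,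
      List.forall_mem_nil, and_true, List.mem_singleton, forall_eq]
    constructor
    · rintro ⟨⟨a, b, c⟩, hne, h8⟩
      exact ⟨a, b, c, (cases3 y ⟨a, by simp [b, c]⟩ hne).resolve_left h8⟩
    · rintro ⟨a, b, c, d⟩
      refine ⟨⟨a, b, c⟩, ?_, fun h => by rw [h] at d; norm_num at d⟩
      rintro rfl
      rw [dotInt_self, a] at d; norm_num at d
  refine ⟨by rw [eN, hN.ncard hsNearCert_ok hsNearCert_cover]; rfl,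
    by rw [eR, hR.ncard hsFarCert_ok hsFarCert_cover]; rfl, ?_⟩
  rintro y ⟨a, b, c⟩ y' ⟨a', b', c'⟩ hne hne' hiff
  have hy : y ∈ atSet [(v, 24), (w, -24)] := ⟨a, by simp [b, c]⟩
  have hy' : y' ∈ atSet [(v, 24), (w, -24)] := ⟨a', by simp [b', c']⟩
  rcases cases3 y hy hne with h | h
  · obtain ⟨g, hg, he⟩ := hN.transitive hsNearCert_ok hsNearCert_cover (x := y) (y := y')
      ⟨a, by simp [b, c, h]⟩ ⟨a', by simp [b', c', hiff.1 h]⟩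
    exact ⟨g, hg (v, 24) (by simp), hg (w, -24) (by simp), hg (x, 8) (by simp), he⟩
  · have h' : Cfsg.dotInt x.1 y'.1 = 16 :=
      (cases3 y' hy' hne').resolve_left fun e => by rw [hiff.2 e] at h; norm_num at h
    obtain ⟨g, hg, he⟩ := hR.transitive hsFarCert_ok hsFarCert_cover (x := y) (y := y')
      ⟨a, by simp [b, c, h]⟩ ⟨a', by simp [b', c', h']⟩
    exact ⟨g, hg (v, 24) (by simp), hg (w, -24) (by simp), hg (x, 16) (by simp), he⟩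

end Cfsg.Agent.S1584
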