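import Cfsg.Statements.S1585
import Cfsg.Agent.H92.CoThreeFrames

set_option autoImplicit false
open Cfsg

namespace Cfsg.Agent.S1585

open Cfsg.Agent.Golay Cfsg.Agent.H92.LeechOrbit

/-- Two vectors of customary norm 6 with inner product −4 are exchanged by some automorphism of the lattice. -/
theorem result (v w : ↥Cfsg.leechLattice) (hv : Cfsg.sqNorm (v : Cfsg.GolayPt → ℤ) = 48) (hw : Cfsg.sqNorm (w : Cfsg.GolayPt → ℤ) = 48) (hvw : Cfsg.dotInt (v : Cfsg.GolayPt → ℤ) (w : Cfsg.GolayPt → ℤ) = -32) : ∃ g : ↥Cfsg.Co0, g • v = w ∧ g • w = v := by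
  obtain ⟨k, hv', hw'⟩ := exists_move_pair v w hv hw hvw
  set s : List Atom := [Atom.mono 16777215 5281877500950955839569596689 21198528807797761250047365739719927]
  have hs : s.all atomOK = true ∧ chk s u48Code w48Code = true ∧ chk s w48Code u48Code = true := by
    decide +kernel
  have e1 : wordEl s • refU = refW := Subtype.ext (chk_sound hs.1 hs.2.1 rfl)
  have e2 : wordEl s • refW = refU := Subtype.ext (chk_sound hs.1 hs.2.2 rfl)
  refine ⟨k⁻¹ * wordEl s * k, ?_, ?_⟩
  · rw [mul_smul, mul_smul, hv', e1, ← hw', inv_smul_smul]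
  · rw [mul_smul, mul_smul, hw', e2, ← hv', inv_smul_smul]

end Cfsg.Agent.S1585
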