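import Cfsg.Statements.S1588
import Cfsg.Agent.H44.EvenLattice

set_option autoImplicit false
open Matrix
open Cfsg

namespace Cfsg.Agent.S1588

/-- A fibre of reduction modulo 2 is read off the divisibility of the difference. -/
theorem red_eq_iff (x y : Fin 24 → ℤ) :
    (fun i => (x i : ZMod 2)) = (fun i => (y i : ZMod 2)) ↔ ∀ i, (2 : ℤ) ∣ (x - y) i := by
  rw [funext_iff]
  refine forall_congr' fun i => ?_
  rw [ZMod.intCast_eq_intCast_iff_dvd_sub, Pi.sub_apply, ← dvd_neg, neg_sub, Nat.cast_ofNat]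

/-- Second step of the characterisation: under the vector counts of the rank-24 lattice, the norm-8 vectors fall into congruence classes of exactly 48 modulo twice the lattice. -/
theorem result (B : Matrix (Fin 24) (Fin 24) ℤ) (hsymm : B.IsSymm) (hpos : ∀ x : Fin 24 → ℤ, x ≠ 0 → 0 < x ⬝ᵥ (B *ᵥ x)) (heven : ∀ x : Fin 24 → ℤ, (2 : ℤ) ∣ x ⬝ᵥ (B *ᵥ x)) (h2 : ∀ x : Fin 24 → ℤ, x ⬝ᵥ (B *ᵥ x) ≠ 2) (h4 : {x : Fin 24 → ℤ | x ⬝ᵥ (B *ᵥ x) = 4}.ncard = 196560) (h6 : {x : Fin 24 → ℤ | x ⬝ᵥ (B *ᵥ x) = 6}.ncard = 16773120) (h8 : {x : Fin 24 → ℤ | x ⬝ᵥ (B *ᵥ x) = 8}.ncard = 398034000) (x : Fin 24 → ℤ) (hx : x ⬝ᵥ (B *ᵥ x) = 8) : {y : Fin 24 → ℤ | y ⬝ᵥ (B *ᵥ y) = 8 ∧ ∀ i, (2 : ℤ) ∣ (x - y) i}.ncard = 48 := by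
  have hS : ∀ k : ℤ, {z : Fin 24 → ℤ | z ⬝ᵥ (B *ᵥ z) = k}.ncard ≠ 0 →
      ∃ T : Finset (Fin 24 → ℤ), (∀ z, z ∈ T ↔ z ⬝ᵥ (B *ᵥ z) = k) ∧
        T.card = {z : Fin 24 → ℤ | z ⬝ᵥ (B *ᵥ z) = k}.ncard := by
    intro k hk
    refine ⟨(Set.finite_of_ncard_ne_zero hk).toFinset, fun z => by simp, ?_⟩
    rw [Set.ncard_eq_toFinset_card _ (Set.finite_of_ncard_ne_zero hk)]
  obtain ⟨T4, m4, c4⟩ := hS 4 (by omega)
  obtain ⟨T6, m6, c6⟩ := hS 6 (by omega)
  obtain ⟨T8, m8, c8⟩ := hS 8 (by omega)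
  let f : (Fin 24 → ℤ) → (Fin 24 → ZMod 2) := fun z i => (z i : ZMod 2)
  have key := H44.congr_two_short hsymm hpos heven h2
  have key' : ∀ z w, f z = f w → z ⬝ᵥ (B *ᵥ z) + w ⬝ᵥ (B *ᵥ w) < 16 → w = z ∨ w = -z := by
    intro z w hzw hlt
    rcases key z w ((red_eq_iff z w).1 hzw) hlt.le with h | h | h
    · exact Or.inl h
    · exact Or.inr h
    · omega
  have same : ∀ z w, f z = f w → z ⬝ᵥ (B *ᵥ z) + w ⬝ᵥ (B *ᵥ w) < 16 →
      z ⬝ᵥ (B *ᵥ z) = w ⬝ᵥ (B *ᵥ w) := by
    intro z w hzw hlt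
    rcases key' z w hzw hlt with h | h <;> subst h <;>
      simp [mulVec_neg, dotProduct_neg, neg_dotProduct]
  have small : ∀ (T : Finset (Fin 24 → ℤ)) (k : ℤ), k < 8 → (∀ z, z ∈ T ↔ z ⬝ᵥ (B *ᵥ z) = k) →
      T.card ≤ 2 * (T.image f).card := by
    intro T k hk hT
    refine Finset.card_le_mul_card_image T 2 (fun b hb => ?_)
    obtain ⟨z, hz, rfl⟩ := Finset.mem_image.1 hb
    refine le_trans (Finset.card_le_card (t := ({z, -z} : Finset _)) fun w hw => ?_) Finset.card_le_two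
    obtain ⟨hw, hfw⟩ := Finset.mem_filter.1 hw
    have hz' := (hT z).1 hz; have hw' := (hT w).1 hw
    rcases key' z w hfw.symm (by omega) with h | h <;> simp [h]
  have big : ∀ b, (T8.filter fun w => f w = b).card ≤ 48 := by
    intro b
    set F := T8.filter fun w => f w = b with hF
    have hFm : ∀ w ∈ F, w ⬝ᵥ (B *ᵥ w) = 8 ∧ f w = b := fun w hw =>
      ⟨(m8 w).1 (Finset.mem_filter.1 hw).1, (Finset.mem_filter.1 hw).2⟩
    let g : (Fin 24 → ℤ) → Finset (Fin 24 → ℤ) := fun w => {w, -w}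
    have h2' : F.card ≤ 2 * (F.image g).card := by
      refine Finset.card_le_mul_card_image F 2 (fun b hb => ?_)
      obtain ⟨z, hz, rfl⟩ := Finset.mem_image.1 hb
      refine le_trans (Finset.card_le_card (t := g z) fun w hw => ?_) Finset.card_le_two
      obtain ⟨-, hgw⟩ := Finset.mem_filter.1 hw
      rw [← hgw]; simp [g]
    have hr : ∀ p : (F.image g : Finset _), ∃ w ∈ F, g w = p.1 := fun p =>
      Finset.mem_image.1 p.2
    choose r hrF hrg using hr
    have horth : ∀ p q, p ≠ q → r p ⬝ᵥ (B *ᵥ r q) = 0 := by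
      intro p q hpq
      have e := (red_eq_iff (r p) (r q)).1 ((hFm _ (hrF p)).2.trans (hFm _ (hrF q)).2.symm)
      have hp := (hFm _ (hrF p)).1; have hq := (hFm _ (hrF q)).1
      rcases key _ _ e (by omega) with h | h | h
      · exact absurd (Subtype.ext (by rw [← hrg p, ← hrg q, h])) hpq
      · refine absurd (Subtype.ext ?_) hpq
        rw [← hrg p, ← hrg q, h]
        simp only [g, neg_neg]
        exact Finset.pair_comm _ _
      · exact h.2
    have hli : LinearIndependent ℤ r := by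
      rw [Fintype.linearIndependent_iff]
      intro c hc j
      have h0 : r j ⬝ᵥ (B *ᵥ ∑ i, c i • r i) = 0 := by rw [hc, mulVec_zero, dotProduct_zero]
      rw [mulVec_sum, dotProduct_sum, Finset.sum_eq_single j] at h0
      · rw [mulVec_smul, dotProduct_smul, smul_eq_mul, (hFm _ (hrF j)).1] at h0
        omega
      · intro i _ hij
        rw [mulVec_smul, dotProduct_smul, horth j i (Ne.symm hij), smul_zero]
      · simp
    have h24 := hli.fintype_card_le_finrank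
    rw [Fintype.card_coe, Module.finrank_fintype_fun_eq_card, Fintype.card_fin] at h24
    omega
  have i4 := small T4 4 (by norm_num) m4
  have i6 := small T6 6 (by norm_num) m6
  have hd : ∀ (T T' : Finset (Fin 24 → ℤ)) (k k' : ℤ), k + k' < 16 → k ≠ k' →
      (∀ z ∈ T, z ⬝ᵥ (B *ᵥ z) = k) → (∀ z ∈ T', z ⬝ᵥ (B *ᵥ z) = k') →
      Disjoint (T.image f) (T'.image f) := by
    intro T T' k k' hlt hne hT hT'
    rw [Finset.disjoint_left]
    intro b hb hb'
    obtain ⟨z, hz, rfl⟩ := Finset.mem_image.1 hb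
    obtain ⟨w, hw, hwz⟩ := Finset.mem_image.1 hb'
    have hz' := hT z hz; have hw' := hT' w hw
    exact hne (by rw [← hz', ← hw']; exact same z w hwz.symm (by omega))
  have hT0 : ∀ z ∈ ({0} : Finset (Fin 24 → ℤ)), z ⬝ᵥ (B *ᵥ z) = 0 := by simp
  have f4 := fun z => (m4 z).1
  have f6 := fun z => (m6 z).1
  have f8 := fun z => (m8 z).1
  have htot : ((({0} : Finset (Fin 24 → ℤ)).image f ∪ T4.image f) ∪ T6.image f ∪ T8.image f).card
      = 1 + (T4.image f).card + (T6.image f).card + (T8.image f).card := by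
    rw [Finset.card_union_of_disjoint, Finset.card_union_of_disjoint, Finset.card_union_of_disjoint,
      Finset.image_singleton, Finset.card_singleton]
    · exact hd _ _ 0 4 (by norm_num) (by norm_num) hT0 f4
    · exact Finset.disjoint_union_left.2 ⟨hd _ _ 0 6 (by norm_num) (by norm_num) hT0 f6,
        hd _ _ 4 6 (by norm_num) (by norm_num) f4 f6⟩
    · exact Finset.disjoint_union_left.2 ⟨Finset.disjoint_union_left.2
        ⟨hd _ _ 0 8 (by norm_num) (by norm_num) hT0 f8,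
          hd _ _ 4 8 (by norm_num) (by norm_num) f4 f8⟩,
        hd _ _ 6 8 (by norm_num) (by norm_num) f6 f8⟩
  have hle := Finset.card_le_univ
    ((({0} : Finset (Fin 24 → ℤ)).image f ∪ T4.image f) ∪ T6.image f ∪ T8.image f)
  rw [htot, Fintype.card_fun, Fintype.card_fin, ZMod.card] at hle
  norm_num at hle
  have hfx : f x ∈ T8.image f := Finset.mem_image_of_mem f ((m8 x).2 hx)
  have hset : {y : Fin 24 → ℤ | y ⬝ᵥ (B *ᵥ y) = 8 ∧ ∀ i, (2 : ℤ) ∣ (x - y) i}
      = ↑(T8.filter fun w => f w = f x) := by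
    ext y
    simp only [Set.mem_setOf_eq, Finset.coe_filter, m8]
    exact and_congr_right fun _ => ((red_eq_iff x y).symm.trans eq_comm)
  rw [hset, Set.ncard_coe_finset]
  refine le_antisymm (big _) ?_
  have hsum : T8.card = ∑ b ∈ T8.image f, (T8.filter fun w => f w = b).card :=
    Finset.card_eq_sum_card_image f T8
  rw [← Finset.add_sum_erase _ _ hfx] at hsum
  have hrest := Finset.sum_le_card_nsmul ((T8.image f).erase (f x))
    (fun b => (T8.filter fun w => f w = b).card) 48 (fun b _ => big b)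
  have hce : ((T8.image f).erase (f x)).card + 1 = (T8.image f).card :=
    Finset.card_erase_add_one hfx
  simp only [smul_eq_mul] at hrest
  omega

end Cfsg.Agent.S1588
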