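import Cfsg.Statements.S1589
import Cfsg.Agent.H44.M24Pair


set_option autoImplicit false
open scoped Pointwise
open Cfsg

namespace Cfsg.Agent.S1589

open Cfsg.Agent.Golay Cfsg.Agent.H44

lemma card_m24_subgroup (H : Subgroup ↥Cfsg.M24) :
    Nat.card (H.map Cfsg.M24.subtype) * H.index = 244823040 := by
  rw [Subgroup.card_map_of_injective Cfsg.M24.subtype_injective, Subgroup.card_mul_index, card_M24]

lemma eq_stab_of_iff {β : Type*} [MulAction (Equiv.Perm GolayPt) β] (H : Subgroup ↥Cfsg.M24)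
    (X : β) (h : ∀ σ, σ ∈ H.map Cfsg.M24.subtype ↔ σ ∈ Cfsg.M24 ∧ σ • X = X) :
    H = MulAction.stabilizer Cfsg.M24 X := by
  ext τ
  rw [← Subgroup.mem_map_iff_mem Cfsg.M24.subtype_injective, h, MulAction.mem_stabilizer_iff]
  exact ⟨fun e => e.2, fun e => ⟨τ.2, e⟩⟩

lemma classify_odd (H : Subgroup ↥Cfsg.M24)
    (hi : H.index = 759 ∨ H.index = 1771 ∨ H.index = 253) :
    (H.index = 759 ∧ ∃ o ∈ Cfsg.octads, H = MulAction.stabilizer Cfsg.M24 o) ∨
      (H.index = 1771 ∧ ∃ S ∈ Cfsg.sextets, H = MulAction.stabilizer Cfsg.M24 S) := by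
  have hc := card_m24_subgroup H
  have hle : H.map Cfsg.M24.subtype ≤ Cfsg.M24 := Subgroup.map_subtype_le H
  obtain ⟨g, hg, K', hV, hK', hc', hiff⟩ := exists_conj_sixteen sixteen_le_M24 hle
    ⟨H.index, by rw [hc, card_M24], by rcases hi with e | e | e <;> rw [e]⟩
  have hmem : Nat.card K' ∈ [967680, 322560, 138240] := by
    rw [hc']
    rcases hi with e | e | e <;> rw [e] at hc <;> simp only [List.mem_cons, List.not_mem_nil, or_false] <;> omega
  have back : ∀ {β : Type} [MulAction (Equiv.Perm GolayPt) β] (X : β),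
      (∀ σ, σ ∈ K' ↔ σ ∈ Cfsg.M24 ∧ σ • X = X) →
      H = MulAction.stabilizer Cfsg.M24 (g⁻¹ • X) := by
    intro β _ X hX
    refine eq_stab_of_iff H _ fun σ => ?_
    rw [hiff, hX, mul_smul, mul_smul, ← eq_inv_smul_iff]
    refine and_congr_left fun _ => ⟨fun h => ?_, fun h => mul_mem (mul_mem hg h) (inv_mem hg)⟩
    have := mul_mem (mul_mem (inv_mem hg) h) hg
    rwa [show g⁻¹ * (g * σ * g⁻¹) * g = σ by group] at this
  rcases octad_or_transitive hK' hV hmem with ⟨h, hX⟩ | htr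
  · refine Or.inl ⟨?_, g⁻¹ • H44.baseOctad, smul_mem_octads (inv_mem hg) baseOctad_mem, back _ hX⟩
    rw [hc'] at h
    rw [h] at hc
    omega
  · obtain ⟨h, S, hS, hX⟩ := transitive_sextet hK' hV hmem htr
    refine Or.inr ⟨?_, g⁻¹ • S, Cfsg.Agent.H94.M24.smul_mem_sextets (inv_mem hg) hS, back _ hX⟩
    rw [hc'] at h
    rw [h] at hc
    omega

/-- Subgroups of the group of the length-24 code of index 759, 276 and 1771 are exactly the octad, duad and sextet stabilisers, and no subgroup has index 253. -/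
theorem result : (∀ H : Subgroup ↥Cfsg.M24, H.index = 759 → ∃ o ∈ Cfsg.octads, H = MulAction.stabilizer Cfsg.M24 o) ∧ (∀ H : Subgroup ↥Cfsg.M24, H.index = 276 → ∃ s : Finset Cfsg.GolayPt, s.card = 2 ∧ H = MulAction.stabilizer Cfsg.M24 s) ∧ (∀ H : Subgroup ↥Cfsg.M24, H.index = 1771 → ∃ S ∈ Cfsg.sextets, H = MulAction.stabilizer Cfsg.M24 S) ∧ ∀ H : Subgroup ↥Cfsg.M24, H.index ≠ 253 := by
  refine ⟨fun H hH => ?_, fun H hH => ?_, fun H hH => ?_, fun H hH => ?_⟩
  · rcases classify_odd H (Or.inl hH) with ⟨-, h⟩ | ⟨h, -⟩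
    · exact h
    · omega
  · have hc := card_m24_subgroup H
    rw [hH] at hc
    obtain ⟨s, hs, h⟩ := pair_of_index (Subgroup.map_subtype_le H) (by omega)
    exact ⟨s, hs, eq_stab_of_iff H s h⟩
  · rcases classify_odd H (Or.inr (Or.inl hH)) with ⟨h, -⟩ | ⟨-, h⟩
    · omega
    · exact h
  · rcases classify_odd H (Or.inr (Or.inr hH)) with ⟨h, -⟩ | ⟨h, -⟩ <;> omega

end Cfsg.Agent.S1589
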