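import Cfsg.Statements.S1590
import Cfsg.Agent.H44.Ternary

set_option autoImplicit false
open Cfsg

namespace Cfsg.Agent.S1590

/-- The length-12 ternary code has 729 words with weight distribution 0^1 6^264 9^440 12^24. -/
theorem result : Nat.card ↥Cfsg.ternaryGolayCode = 729 ∧ (∀ x ∈ Cfsg.ternaryGolayCode, x ≠ 0 → (Cfsg.ternarySupport x).card = 6 ∨ (Cfsg.ternarySupport x).card = 9 ∨ (Cfsg.ternarySupport x).card = 12) ∧ {x : Cfsg.ArrayPt → ZMod 3 | x ∈ Cfsg.ternaryGolayCode ∧ (Cfsg.ternarySupport x).card = 6}.ncard = 264 ∧ {x : Cfsg.ArrayPt → ZMod 3 | x ∈ Cfsg.ternaryGolayCode ∧ (Cfsg.ternarySupport x).card = 9}.ncard = 440 ∧ {x : Cfsg.ArrayPt → ZMod 3 | x ∈ Cfsg.ternaryGolayCode ∧ (Cfsg.ternarySupport x).card = 12}.ncard = 24 := by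
  refine ⟨?_, fun x hx h => H44.ternary_min_weight hx h, ?_, ?_, ?_⟩
  · have e : (ternaryGolayCode : Set (ArrayPt → ZMod 3)) = Set.range H44.ternEnc := by
      ext x; simp [H44.mem_ternary_iff_enc]
    have h : Nat.card ↥ternaryGolayCode = Nat.card ↥(Set.range H44.ternEnc) :=
      Nat.card_congr (Equiv.setCongr e)
    rw [h, Nat.card_range_of_injective H44.ternEnc_injective, Nat.card_eq_fintype_card,
      Fintype.card_fun, Fintype.card_fin, ZMod.card]
    norm_num
  all_goals rw [H44.ncard_weight]; decide +kernel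

end Cfsg.Agent.S1590
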