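import Cfsg.Statements.S1591
import Cfsg.Agent.H44.Ternary

set_option autoImplicit false
open Cfsg

namespace Cfsg.Agent.S1591

/-- Any two words of the length-12 ternary code have dot product zero. -/
theorem result (x y : Cfsg.ArrayPt → ZMod 3) (hx : x ∈ Cfsg.ternaryGolayCode) (hy : y ∈ Cfsg.ternaryGolayCode) : ∑ p, x p * y p = 0 := by
  obtain ⟨a, rfl⟩ := (H44.mem_ternary_iff_enc x).1 hx
  obtain ⟨b, rfl⟩ := (H44.mem_ternary_iff_enc y).1 hy
  have h : ∀ j k : Fin 6, ∑ p : ArrayPt, H44.ternRows j (H44.ternIdx p) * H44.ternRows k (H44.ternIdx p) = 0 := by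
    decide +kernel
  simp only [H44.ternEnc, Finset.sum_mul, Finset.mul_sum]
  rw [Finset.sum_comm]
  refine Finset.sum_eq_zero fun k _ => ?_
  rw [Finset.sum_comm]
  refine Finset.sum_eq_zero fun j _ => ?_
  have : ∀ p : ArrayPt, a j * H44.ternRows j (H44.ternIdx p) * (b k * H44.ternRows k (H44.ternIdx p))
      = (a j * b k) * (H44.ternRows j (H44.ternIdx p) * H44.ternRows k (H44.ternIdx p)) := by
    intro p; ring
  rw [Finset.sum_congr rfl (fun p _ => this p), ← Finset.mul_sum, h, mul_zero]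

end Cfsg.Agent.S1591
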