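import Cfsg.Statements.S1594
import Cfsg.Agent.H44.TernaryAut


set_option autoImplicit false
open Cfsg

namespace Cfsg.Agent.S1594

open Cfsg.Agent.H44

lemma monomialMap_one_eq (u : (ZMod 3)ˣ) (σ : Equiv.Perm ArrayPt) (c : ArrayPt → (ZMod 3)ˣ)
    (x : ArrayPt → ZMod 3) :
    monomialMap σ (fun p => u * c p) x = (u : ZMod 3) • monomialMap σ c x := by
  funext p
  simp [monomialMap, mul_assoc]

/-- Two lifts of a permutation differ by a scalar. -/
lemma lifts_differ {σ : Equiv.Perm ArrayPt} {c d : ArrayPt → (ZMod 3)ˣ}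
    (hc : PreservesTern σ c) (hd : PreservesTern σ d) :
    ∃ u : (ZMod 3)ˣ, c = fun p => u * d p := by
  obtain ⟨d', hd'⟩ := mem_monoPerms.1 (monoPerms.inv_mem (mem_monoPerms.2 ⟨d, hd⟩))
  have h1 := hc.comp hd'
  have h2 := hd.comp hd'
  rw [mul_inv_cancel] at h1 h2
  rcases S1593.result _ h1 with e1 | e1 <;> rcases S1593.result _ h2 with e2 | e2
  · exact ⟨1, funext fun p => by rw [one_mul]; exact mul_right_cancel ((e1 p).trans (e2 p).symm)⟩
  · refine ⟨-1, funext fun p => mul_right_cancel (b := d' (σ.symm p)) ?_⟩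
    rw [e1 p, mul_assoc, e2 p]; decide
  · refine ⟨-1, funext fun p => mul_right_cancel (b := d' (σ.symm p)) ?_⟩
    rw [e1 p, mul_assoc, e2 p]; decide
  · exact ⟨1, funext fun p => by rw [one_mul]; exact mul_right_cancel ((e1 p).trans (e2 p).symm)⟩

/-- The monomial automorphism group of the length-12 ternary code has order 190080 and its permutation parts are exactly the automorphisms of its hexad system. -/
theorem result : Nat.card {f : Equiv.Perm Cfsg.ArrayPt × (Cfsg.ArrayPt → (ZMod 3)ˣ) // (∀ x ∈ Cfsg.ternaryGolayCode, Cfsg.monomialMap f.1 f.2 x ∈ Cfsg.ternaryGolayCode)} = 190080 ∧ {σ : Equiv.Perm Cfsg.ArrayPt | ∃ c : Cfsg.ArrayPt → (ZMod 3)ˣ, (∀ x ∈ Cfsg.ternaryGolayCode, Cfsg.monomialMap σ c x ∈ Cfsg.ternaryGolayCode)} = (Cfsg.setSystemAut {h : Finset Cfsg.ArrayPt | ∃ x ∈ Cfsg.ternaryGolayCode, Cfsg.ternarySupport x = h ∧ h.card = 6} : Set (Equiv.Perm Cfsg.ArrayPt)) := by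
  classical
  refine ⟨?_, ?_⟩
  · obtain ⟨⟨_, h95⟩, -⟩ := S0425.result (α := Cfsg.ArrayPt)
      (by rw [Fintype.card_prod, Fintype.card_fin, ZMod.card]) (S1592.result.1)
    choose lift hlift using fun σ : monoPerms => mem_monoPerms.1 σ.2
    let f : monoPerms × (ZMod 3)ˣ → {f : Equiv.Perm Cfsg.ArrayPt × (Cfsg.ArrayPt → (ZMod 3)ˣ) //
        (∀ x ∈ Cfsg.ternaryGolayCode, Cfsg.monomialMap f.1 f.2 x ∈ Cfsg.ternaryGolayCode)} :=
      fun a => ⟨(a.1, fun p => a.2 * lift a.1 p), fun x hx => by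
        rw [monomialMap_one_eq]
        exact Submodule.smul_mem _ _ (hlift a.1 x hx)⟩
    have hf : Function.Bijective f := by
      refine ⟨fun a b h => ?_, fun b => ?_⟩
      · have h' := Subtype.ext_iff.1 h
        simp only [f, Prod.mk.injEq] at h'
        have e : a.1 = b.1 := Subtype.ext h'.1
        refine Prod.ext e ?_
        have := congrFun h'.2 (0, 0)
        rw [e] at this
        exact mul_right_cancel this
      · obtain ⟨⟨σ, c⟩, hb⟩ := b
        have hσ : σ ∈ monoPerms := mem_monoPerms.2 ⟨c, hb⟩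
        obtain ⟨u, hu⟩ := lifts_differ hb (hlift ⟨σ, hσ⟩)
        exact ⟨(⟨σ, hσ⟩, u), Subtype.ext (Prod.ext rfl hu.symm)⟩
    rw [← Nat.card_eq_of_bijective f hf, Nat.card_prod, monoPerms_eq, h95,
      Nat.card_eq_fintype_card, ZMod.card_units]
  · rw [← monoPerms_eq]
    ext σ
    rw [SetLike.mem_coe, mem_monoPerms]
    rfl

end Cfsg.Agent.S1594
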