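import Cfsg.Statements.S1595
import Cfsg.Agent.H28.Steiner


set_option autoImplicit false
open Cfsg

namespace Cfsg.Agent.S1595

open Finset
open Cfsg.Agent.H28

section
variable {α : Type*} [Fintype α] [DecidableEq α] {B : Set (Finset α)}

/-- The blocks meeting `b` exactly in `s`. -/
noncomputable def meet (B : Set (Finset α)) (b s : Finset α) : Finset (Finset α) :=
  (blocks B).filter fun c => b ∩ c = s

/-- The blocks through `s` other than `b`, sorted by their trace on `b`. -/
theorem count_through (hB : Cfsg.IsSteinerSystem 5 6 B) {b : Finset α} (hb : b ∈ B) {s : Finset α}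
    (hs : s ⊆ b) (hs5 : s.card < 5) :
    ((through B s).erase b).card =
      ∑ i ∈ Finset.range 5, ∑ u ∈ (b.powersetCard i).filter (s ⊆ ·), (meet B b u).card := by
  rw [Finset.card_eq_sum_card_fiberwise (f := fun c => (b ∩ c).card) (t := Finset.range 5)]
  · refine Finset.sum_congr rfl fun i hi => ?_
    rw [Finset.card_eq_sum_card_fiberwise (f := fun c => b ∩ c)
      (t := (b.powersetCard i).filter (s ⊆ ·))]
    · refine Finset.sum_congr rfl fun u hu => ?_
      simp only [Finset.mem_filter, Finset.mem_powersetCard] at hu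
      congr 1
      ext c
      simp only [meet, through, blocks, Finset.mem_filter, Finset.mem_erase, Set.Finite.mem_toFinset]
      constructor
      · rintro ⟨⟨⟨-, hc, -⟩, -⟩, h⟩
        exact ⟨hc, h⟩
      · rintro ⟨hc, h⟩
        refine ⟨⟨⟨?_, hc, hu.2.trans (h ▸ inter_subset_right)⟩, by rw [h, hu.1.2]⟩, h⟩
        rintro rfl
        rw [inter_self] at h
        have := hB.1 c hb
        have := congrArg Finset.card h
        rw [Finset.mem_range] at hi
        omega
    · intro c hc
      simp only [through, blocks, Finset.coe_filter, Finset.mem_filter, Finset.mem_erase,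
        Set.Finite.mem_toFinset, Set.mem_setOf_eq] at hc
      simp only [Finset.coe_filter, Finset.mem_powersetCard, Set.mem_setOf_eq]
      exact ⟨⟨inter_subset_left, hc.2⟩, subset_inter hs hc.1.2.2⟩
  · intro c hc
    simp only [through, blocks, Finset.coe_erase, Finset.coe_filter, Set.Finite.mem_toFinset,
      Set.mem_diff, Set.mem_setOf_eq, Set.mem_singleton_iff] at hc
    simpa using inter_card_lt hB hb hc.1.1 (Ne.symm hc.2)

theorem card_erase_through (hB : Cfsg.IsSteinerSystem 5 6 B) (hα : Fintype.card α = 12)
    {b : Finset α} (hb : b ∈ B) {s : Finset α} (hs : s ⊆ b) (hs5 : s.card ≤ 5) :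
    ((through B s).erase b).card + 1 =
      (12 - s.card).choose (5 - s.card) / (6 - s.card).choose (5 - s.card) := by
  rw [Finset.card_erase_add_one (by simp [through, blocks, hb, hs]),
    card_through_eq hB hs5 (by norm_num), hα]

/-- The contribution of the traces of size `i`. -/
theorem layer_eq (hB : Cfsg.IsSteinerSystem 5 6 B) {b : Finset α} (hb : b ∈ B) {s : Finset α}
    (hs : s ⊆ b) {i : ℕ} (hi : s.card ≤ i) {N : ℕ}
    (hN : ∀ u, u ⊆ b → u.card = i → (meet B b u).card = N) :
    ∑ u ∈ (b.powersetCard i).filter (s ⊆ ·), (meet B b u).card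
      = (6 - s.card).choose (i - s.card) * N := by
  rw [Finset.sum_congr rfl (g := fun _ => N), Finset.sum_const, smul_eq_mul,
    Finset.card_filter_powersetCard_subset s b i hs hi, hB.1 b hb]
  intro u hu
  simp only [Finset.mem_filter, Finset.mem_powersetCard] at hu
  exact hN u hu.1.1 hu.1.2

theorem layer_zero {b s : Finset α} {i : ℕ} (hi : i < s.card) :
    ∑ u ∈ (b.powersetCard i).filter (s ⊆ ·), (meet B b u).card = 0 := by
  refine Finset.sum_eq_zero fun u hu => ?_
  simp only [Finset.mem_filter, Finset.mem_powersetCard] at hu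
  have := Finset.card_le_card hu.2
  omega

theorem layer_self {b s : Finset α} (hs : s ⊆ b) :
    ∑ u ∈ (b.powersetCard s.card).filter (s ⊆ ·), (meet B b u).card = (meet B b s).card := by
  rw [Finset.sum_eq_single_of_mem s (by simp [hs])]
  intro u hu hne
  simp only [Finset.mem_filter, Finset.mem_powersetCard] at hu
  exact absurd (Finset.eq_of_subset_of_card_le hu.2 hu.1.2.le).symm hne

end

/-- Leech triangle of S(5, 6, 12): blocks meet in 0, 2, 3 or 4 points, and a block is met exactly in a given 2-, 3- or 4-subset by 3, 2, 3 blocks respectively. -/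
theorem result {α : Type*} [Fintype α] [DecidableEq α] (hα : Fintype.card α = 12) {B : Set (Finset α)} (hB : Cfsg.IsSteinerSystem 5 6 B) (b : Finset α) (hb : b ∈ B) : (∀ c ∈ B, c ≠ b → (b ∩ c).card = 0 ∨ (b ∩ c).card = 2 ∨ (b ∩ c).card = 3 ∨ (b ∩ c).card = 4) ∧ ∀ s ⊆ b, (s.card = 2 → {c : Finset α | c ∈ B ∧ b ∩ c = s}.ncard = 3) ∧ (s.card = 3 → {c : Finset α | c ∈ B ∧ b ∩ c = s}.ncard = 2) ∧ (s.card = 4 → {c : Finset α | c ∈ B ∧ b ∩ c = s}.ncard = 3) := by
  refine ⟨fun c hc hne => ?_, ?_⟩
  · obtain ⟨-, h1, -⟩ := interNum_5_6_12 hB hα hb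
    have h5 := inter_card_lt hB hb hc hne.symm
    have e1 := interNum_eq_zero_iff.1 h1 c hc hne
    rw [Finset.inter_comm] at e1
    omega
  have h4 : ∀ u, u ⊆ b → u.card = 4 → (meet B b u).card = 3 := fun u hu hc => by
    have h := count_through hB hb hu (by omega)
    have he := card_erase_through hB hα hb hu (by omega)
    rw [Finset.sum_range_succ, Finset.sum_range_succ, Finset.sum_range_succ, Finset.sum_range_succ,
      Finset.sum_range_one, layer_zero (by omega), layer_zero (by omega), layer_zero (by omega),
      layer_zero (by omega), ← hc, layer_self hu] at h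
    simp [hc, Nat.choose] at he
    omega
  have h3 : ∀ u, u ⊆ b → u.card = 3 → (meet B b u).card = 2 := fun u hu hc => by
    have h := count_through hB hb hu (by omega)
    have he := card_erase_through hB hα hb hu (by omega)
    rw [Finset.sum_range_succ, Finset.sum_range_succ, Finset.sum_range_succ, Finset.sum_range_succ,
      Finset.sum_range_one, layer_zero (by omega), layer_zero (by omega), layer_zero (by omega),
      layer_eq hB hb hu (show u.card ≤ 4 by omega) h4, ← hc, layer_self hu] at h
    simp [hc, Nat.choose] at he h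
    omega
  have h2 : ∀ u, u ⊆ b → u.card = 2 → (meet B b u).card = 3 := fun u hu hc => by
    have h := count_through hB hb hu (by omega)
    have he := card_erase_through hB hα hb hu (by omega)
    rw [Finset.sum_range_succ, Finset.sum_range_succ, Finset.sum_range_succ, Finset.sum_range_succ,
      Finset.sum_range_one, layer_zero (by omega), layer_zero (by omega),
      layer_eq hB hb hu (show u.card ≤ 4 by omega) h4,
      layer_eq hB hb hu (show u.card ≤ 3 by omega) h3, ← hc, layer_self hu] at h
    simp [hc, Nat.choose] at he h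
    omega
  intro s hs
  have hconv : {c : Finset α | c ∈ B ∧ b ∩ c = s}.ncard = (meet B b s).card := by
    rw [← Set.ncard_coe_finset]
    congr 1
    ext c
    simp [meet, blocks]
  rw [hconv]
  exact ⟨h2 s hs, h3 s hs, h4 s hs⟩

end Cfsg.Agent.S1595
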