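import Cfsg.Statements.S1596
import Cfsg.Agent.H44.QuartetOrbits


set_option autoImplicit false
open scoped Pointwise
open Cfsg

namespace Cfsg.Agent.S1596

open Cfsg.Agent.Golay Cfsg.Agent.H44

/-- A quartet of a dodecad is determined by any two of its triples: two disjoint triples uniting to a hexad extend to exactly one quartet. -/
theorem result (d : Finset Cfsg.GolayPt) (hd : d ∈ Cfsg.dodecads) (t u : Finset Cfsg.GolayPt) (ht : t.card = 3) (hu : u.card = 3) (htu : Disjoint t u) (hh : t ∪ u ∈ Cfsg.hexadsOn d) : ∃! Q : Finset (Finset Cfsg.GolayPt), Q ∈ Cfsg.quartets d ∧ t ∈ Q ∧ u ∈ Q := by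
  obtain ⟨g, hg, hgd⟩ := exists_base_dodecad hd
  obtain ⟨h6, o, ho, hod⟩ := hh
  have hsub : t ∪ u ⊆ d := hod ▸ Finset.inter_subset_right
  have hts : g • t ⊆ ptSet squareMask :=
    hgd ▸ Finset.smul_finset_subset_smul_finset (Finset.subset_union_left.trans hsub)
  have hus : g • u ⊆ ptSet squareMask :=
    hgd ▸ Finset.smul_finset_subset_smul_finset (Finset.subset_union_right.trans hsub)
  have hh' : g • t ∪ g • u ∈ hexadsOn (ptSet squareMask) := by
    rw [← hgd, ← Finset.smul_finset_union]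
    exact smul_mem_hexadsOn hg ⟨h6, o, ho, hod⟩
  obtain ⟨q, hq, h1, h2, h3⟩ := exists_qList_of_pair (by rw [Finset.card_smul_finset, ht]) hts
    (by rw [Finset.card_smul_finset, hu]) hus hh'
  refine ⟨g⁻¹ • qFin q, ⟨?_, ?_, ?_⟩, fun Q hQ => ?_⟩
  · rw [← smul_mem_quartets_iff hg, smul_inv_smul, hgd]
    exact qFin_mem_quartets hq
  · rwa [← Finset.smul_mem_smul_finset_iff g, smul_inv_smul]
  · rwa [← Finset.smul_mem_smul_finset_iff g, smul_inv_smul]
  · rw [eq_inv_smul_iff]
    exact quartet_eq_of_pair (hgd ▸ smul_mem_quartets hg hQ.1) hq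
      (Finset.smul_mem_smul_finset hQ.2.1) (Finset.smul_mem_smul_finset hQ.2.2) h1 h2 h3

end Cfsg.Agent.S1596
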