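import Cfsg.Statements.S1597
import Cfsg.Agent.H44.QuartetOrbits


set_option autoImplicit false
open scoped Pointwise
open Cfsg

namespace Cfsg.Agent.S1597

open Cfsg.Agent.Golay Cfsg.Agent.H44

/-- A dodecad has 220 quartets and its stabiliser is transitive on them. -/
theorem result (d : Finset Cfsg.GolayPt) (hd : d ∈ Cfsg.dodecads) : (Cfsg.quartets d).ncard = 220 ∧ ∀ Q ∈ Cfsg.quartets d, ∀ Q' ∈ Cfsg.quartets d, ∃ g : Equiv.Perm Cfsg.GolayPt, g ∈ Cfsg.M24 ∧ g • d = d ∧ g • Q = Q' := by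
  obtain ⟨g, hg, hgd⟩ := exists_base_dodecad hd
  refine ⟨?_, fun Q hQ Q' hQ' => ?_⟩
  · rw [ncard_eq_of_perm g (T := {Q | Q ∈ Cfsg.quartets (ptSet squareMask) ∧ True})]
    · rw [ncard_quartets_filter (fun _ => true) (fun _ _ => by simp), List.filter_true]
      exact list_cert.2.2.2
    · intro Q
      simp only [Set.mem_ofPred_eq, and_true, ← hgd, smul_mem_quartets_iff hg]
  obtain ⟨σ, hσ, h⟩ := exists_move (hgd ▸ smul_mem_quartets hg hQ)
  obtain ⟨τ, hτ, h'⟩ := exists_move (hgd ▸ smul_mem_quartets hg hQ')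
  have hfix : (τ * σ⁻¹) • ptSet squareMask = ptSet squareMask :=
    (mul_mem hτ (inv_mem hσ)).2.1 squareMask (by simp)
  refine ⟨g⁻¹ * (τ * σ⁻¹) * g, conj_mem_M24 hg (mul_mem hτ (inv_mem hσ)).1,
    conj_smul_eq g _ hgd hgd hfix, conj_smul_eq g _ rfl rfl ?_⟩
  rw [← h, mul_smul, inv_smul_smul, h']

end Cfsg.Agent.S1597
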