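import Cfsg.Statements.S1598
import Cfsg.Agent.H44.QuartetStabilizer


set_option autoImplicit false
open scoped Pointwise
open Cfsg

namespace Cfsg.Agent.S1598

open Cfsg.Agent.Golay Cfsg.Agent.H44

/-- A quartet stabiliser inside the dodecad stabiliser has order 432, a normal subgroup of order 9 with quotient GL(2, 3), and is transitive on the dodecad. -/
theorem result (d : Finset Cfsg.GolayPt) (hd : d ∈ Cfsg.dodecads) (Q : Finset (Finset Cfsg.GolayPt)) (hQ : Q ∈ Cfsg.quartets d) : Nat.card ↥(MulAction.stabilizer Cfsg.M24 d ⊓ MulAction.stabilizer Cfsg.M24 Q) = 432 ∧ (∃ (N : Subgroup ↥(MulAction.stabilizer Cfsg.M24 d ⊓ MulAction.stabilizer Cfsg.M24 Q)) (_ : N.Normal), Nat.card N = 9 ∧ Nonempty (↥(MulAction.stabilizer Cfsg.M24 d ⊓ MulAction.stabilizer Cfsg.M24 Q) ⧸ N ≃* GL (Fin 2) (ZMod 3))) ∧ ∀ p ∈ d, ∀ q ∈ d, ∃ g ∈ (MulAction.stabilizer Cfsg.M24 d ⊓ MulAction.stabilizer Cfsg.M24 Q), ((g :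 ↥Cfsg.M24) : Equiv.Perm Cfsg.GolayPt) p = q := by
  obtain ⟨g, hg, hgd, hgQ⟩ := exists_base_quartet hd hQ
  let e := conjEquivStab hg _ quartetStab (fun σ h => h.1.1) (mem_stab_iff_conj hg hgd hgQ)
  refine ⟨by rw [Nat.card_congr e.toEquiv, card_quartetStab], ?_, fun p hp q hq => ?_⟩
  · obtain ⟨hker, hsurj⟩ := card_ker_and_surjective
    let ψ := linHom.toHomUnits.comp e.toMonoidHom
    refine ⟨ψ.ker, inferInstance, ?_,
      ⟨QuotientGroup.quotientKerEquivOfSurjective ψ (hsurj.comp e.surjective)⟩⟩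
    rw [← hker]
    refine Nat.card_congr (e.toEquiv.subtypeEquiv fun a => ?_)
    rfl
  · obtain ⟨σ, hσ, hσ'⟩ := exists_stab_point (p := g p) (q := g q)
      (hgd ▸ (apply_mem_smul_iff g).2 hp) (hgd ▸ (apply_mem_smul_iff g).2 hq)
    refine ⟨⟨g⁻¹ * σ * g, conj_mem_M24 hg hσ.1.1⟩, (mem_stab_iff_conj hg hgd hgQ _).2 ?_, ?_⟩
    · show g * (g⁻¹ * σ * g) * g⁻¹ ∈ _
      rw [show g * (g⁻¹ * σ * g) * g⁻¹ = σ by group]
      exact hσ
    · show (g⁻¹ * σ * g) p = q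
      rw [Equiv.Perm.mul_apply, Equiv.Perm.mul_apply, hσ', Equiv.Perm.coe_inv,
        Equiv.symm_apply_apply]

end Cfsg.Agent.S1598
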