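import Cfsg.Statements.S1599
import Cfsg.Agent.H44.QuartetStabilizer


set_option autoImplicit false
open scoped Pointwise
open Cfsg

namespace Cfsg.Agent.S1599

open Cfsg.Agent.Golay Cfsg.Agent.H44

lemma class_facts {g : Equiv.Perm GolayPt} (hg : g ∈ M24) {d : Finset GolayPt}
    (hgd : g • d = ptSet squareMask) {Q : Finset (Finset GolayPt)} (hgQ : g • Q = rootQ) (k : ℕ) :
    {Y | Y ∈ quartets d ∧ keyRel Q Y = k}.ncard = (qList.filter fun q => qKey q == k).length ∧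
    ∀ X ∈ quartets d, keyRel Q X = k →
      MulAction.orbit ↥(MulAction.stabilizer M24 d ⊓ MulAction.stabilizer M24 Q) X
        = {Y | Y ∈ quartets d ∧ keyRel Q Y = k} := by
  refine ⟨?_, fun X hX hk => ?_⟩
  · rw [ncard_eq_of_perm g (T := {Y | Y ∈ quartets (ptSet squareMask) ∧ keyRel rootQ Y = k})]
    · exact ncard_quartets_filter _ fun q hq => by rw [rootQ, keyRel_qFin hq, beq_iff_eq]
    · intro Y
      simp only [Set.mem_ofPred_eq, ← hgd, ← hgQ, smul_mem_quartets_iff hg, keyRel_smul]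
  · ext Y
    constructor
    · rintro ⟨⟨x, hx⟩, rfl⟩
      obtain ⟨h1, h2⟩ := Subgroup.mem_inf.1 hx
      have h1' : (x : Equiv.Perm GolayPt) • d = d := h1
      have h2' : (x : Equiv.Perm GolayPt) • Q = Q := h2
      refine ⟨?_, ?_⟩
      · show (x : Equiv.Perm GolayPt) • X ∈ _
        rw [← h1']
        exact smul_mem_quartets x.2 hX
      · show keyRel Q ((x : Equiv.Perm GolayPt) • X) = k
        rw [← hk]
        conv_lhs => rw [← h2']
        exact keyRel_smul _ _ _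
    · rintro ⟨hY, hYk⟩
      obtain ⟨σ, hσ, hσ'⟩ := exists_orbit_map (hgd ▸ smul_mem_quartets hg hX)
        (hgd ▸ smul_mem_quartets hg hY) (by rw [← hgQ, keyRel_smul, keyRel_smul, hk, hYk])
      refine ⟨⟨⟨g⁻¹ * σ * g, conj_mem_M24 hg hσ.1.1⟩, (mem_stab_iff_conj hg hgd hgQ _).2 ?_⟩, ?_⟩
      · show g * (g⁻¹ * σ * g) * g⁻¹ ∈ _
        rw [show g * (g⁻¹ * σ * g) * g⁻¹ = σ by group]
        exact hσ
      · show (g⁻¹ * σ * g) • X = Y
        exact conj_smul_eq g σ rfl rfl hσ'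

/-- A quartet stabiliser has five orbits on the quartets of its dodecad, of sizes 1, 12, 27, 72, 108. -/
theorem result (d : Finset Cfsg.GolayPt) (hd : d ∈ Cfsg.dodecads) (Q : Finset (Finset Cfsg.GolayPt)) (hQ : Q ∈ Cfsg.quartets d) : ∃ X₁ ∈ Cfsg.quartets d, ∃ X₂ ∈ Cfsg.quartets d, ∃ X₃ ∈ Cfsg.quartets d, ∃ X₄ ∈ Cfsg.quartets d, (MulAction.orbit ↥(MulAction.stabilizer Cfsg.M24 d ⊓ MulAction.stabilizer Cfsg.M24 Q) X₁).ncard = 12 ∧ (MulAction.orbit ↥(MulAction.stabilizer Cfsg.M24 d ⊓ MulAction.stabilizer Cfsg.M24 Q) X₂).ncard = 27 ∧ (MulAction.orbit ↥(MulAction.stabilizer Cfsg.M24 d ⊓ MulAction.stabilizer Cfsg.M24 Q) X₃).ncard = 72 ∧ (MulAction.orbit ↥(MulAction.stabilizer Cfsg.M24 d ⊓ MulAction.stabilizer Cfsg.M24 Q) X₄).ncard = 108 ∧ Cfsg.quartets d = {Q} ∪ MulAction.orbit ↥(MulAction.stabilizer Cfsg.M24 d ⊓ MulAction.stabilizer Cfsg.M24 Q) X₁ ∪ MulAction.orbit ↥(MulAction.stabilizer Cfsg.M24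 d ⊓ MulAction.stabilizer Cfsg.M24 Q) X₂ ∪ MulAction.orbit ↥(MulAction.stabilizer Cfsg.M24 d ⊓ MulAction.stabilizer Cfsg.M24 Q) X₃ ∪ MulAction.orbit ↥(MulAction.stabilizer Cfsg.M24 d ⊓ MulAction.stabilizer Cfsg.M24 Q) X₄ := by
  obtain ⟨g, hg, hgd, hgQ⟩ := exists_base_quartet hd hQ
  obtain ⟨c12, c27, c72, c108, c1, call⟩ := count_cert
  have pick : ∀ k n, (qList.filter fun q => qKey q == k).length = n → n ≠ 0 →
      ∃ X ∈ Cfsg.quartets d, (MulAction.orbit ↥(MulAction.stabilizer Cfsg.M24 d ⊓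
        MulAction.stabilizer Cfsg.M24 Q) X).ncard = n ∧
        MulAction.orbit ↥(MulAction.stabilizer Cfsg.M24 d ⊓ MulAction.stabilizer Cfsg.M24 Q) X
          = {Y | Y ∈ Cfsg.quartets d ∧ keyRel Q Y = k} := by
    intro k n hn hn0
    obtain ⟨h1, h2⟩ := class_facts hg hgd hgQ k
    obtain ⟨X, hX, hXk⟩ := Set.nonempty_of_ncard_ne_zero (h1.trans hn ▸ hn0)
    exact ⟨X, hX, by rw [h2 X hX hXk, h1, hn], h2 X hX hXk⟩
  obtain ⟨X₁, h₁, n₁, o₁⟩ := pick 4246 12 c12 (by norm_num)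
  obtain ⟨X₂, h₂, n₂, o₂⟩ := pick 1096 27 c27 (by norm_num)
  obtain ⟨X₃, h₃, n₃, o₃⟩ := pick 871 72 c72 (by norm_num)
  obtain ⟨X₄, h₄, n₄, o₄⟩ := pick 421 108 c108 (by norm_num)
  refine ⟨X₁, h₁, X₂, h₂, X₃, h₃, X₄, h₄, n₁, n₂, n₃, n₄, ?_⟩
  rw [o₁, o₂, o₃, o₄]
  ext Y
  simp only [Set.mem_union, Set.mem_singleton_iff, Set.mem_ofPred_eq]
  refine ⟨fun hY => ?_, ?_⟩
  · obtain ⟨q, hq, hYq⟩ := exists_qList_eq (hgd ▸ smul_mem_quartets hg hY)
    have hk : keyRel Q Y = qKey q := by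
      rw [← keyRel_smul g, hgQ, hYq, rootQ, keyRel_qFin hq]
    have hc := List.all_eq_true.1 call q hq
    simp only [List.contains_iff_mem, List.mem_cons, List.not_mem_nil, or_false] at hc
    rcases hc with h | h | h | h | h
    · have hmem : q ∈ qList.filter fun q => qKey q == 16396 :=
        List.mem_filter.2 ⟨hq, by rw [h]; rfl⟩
      rw [c1, List.mem_singleton] at hmem
      rw [hmem, ← rootQ, ← hgQ, smul_left_cancel_iff] at hYq
      exact Or.inl (Or.inl (Or.inl (Or.inl hYq)))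
    all_goals rw [← hk] at h
    · exact Or.inl (Or.inl (Or.inl (Or.inr ⟨hY, h⟩)))
    · exact Or.inl (Or.inl (Or.inr ⟨hY, h⟩))
    · exact Or.inl (Or.inr ⟨hY, h⟩)
    · exact Or.inr ⟨hY, h⟩
  · rintro ((((rfl | h) | h) | h) | h)
    · exact hQ
    all_goals exact h.1

end Cfsg.Agent.S1599
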