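import Cfsg.Statements.S1600
import Cfsg.Agent.H44.M12Points


set_option autoImplicit false
open scoped Pointwise
open Cfsg

namespace Cfsg.Agent.S1600

open Cfsg.Agent.Golay Cfsg.Agent.H44

/-- The pointwise stabiliser of three points of a dodecad inside the dodecad stabiliser (order 72) is transitive on the complementary dodecad. -/
theorem result (d : Finset Cfsg.GolayPt) (hd : d ∈ Cfsg.dodecads) (p q r : Cfsg.GolayPt) (hp : p ∈ d) (hq : q ∈ d) (hr : r ∈ d) (hpq : p ≠ q) (hpr : p ≠ r) (hqr : q ≠ r) : Nat.card ↥(MulAction.stabilizer Cfsg.M24 d ⊓ MulAction.stabilizer Cfsg.M24 p ⊓ MulAction.stabilizer Cfsg.M24 q ⊓ MulAction.stabilizer Cfsg.M24 r) = 72 ∧ ∀ x ∉ d, ∀ y ∉ d, ∃ g ∈ (MulAction.stabilizer Cfsg.M24 d ⊓ MulAction.stabilizer Cfsg.M24 p ⊓ MulAction.stabilizer Cfsg.M24 q ⊓ MulAction.stabilizer Cfsg.M24 r), ((g : ↥Cfsg.M24) : Equiv.Perm Cfsg.GolayPt) x = y := by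
  obtain ⟨g, hg, hgd, hgp, hgq, hgr⟩ := exists_base_three hd hp hq hr hpq hpr hqr
  have hconj : ∀ x : Cfsg.M24, x ∈ (MulAction.stabilizer Cfsg.M24 d ⊓ MulAction.stabilizer Cfsg.M24 p
      ⊓ MulAction.stabilizer Cfsg.M24 q ⊓ MulAction.stabilizer Cfsg.M24 r) ↔
      g * (x : Equiv.Perm GolayPt) * g⁻¹ ∈ stabGrp [squareMask] maskThree := by
    intro x
    have e : ∀ i (z : GolayPt), g z = pt i →
        ((g * (x : Equiv.Perm GolayPt) * g⁻¹) (pt i) = pt i ↔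
          (x : Equiv.Perm GolayPt) z = z) := fun i z hz =>
      conj_smul_iff g (x : Equiv.Perm GolayPt) (a := z) hz
    rw [mem_stab_three, conj_smul_iff g (x : Equiv.Perm GolayPt) hgd, e 0 p hgp, e 1 q hgq,
      e 2 r hgr]
    simp only [Subgroup.mem_inf, MulAction.mem_stabilizer_iff, and_assoc]
    exact ⟨fun h => ⟨mul_mem (mul_mem hg x.2) (inv_mem hg), h⟩, fun h => h.2⟩
  refine ⟨?_, fun x hx y hy => ?_⟩
  · rw [Nat.card_congr (conjEquivStab hg _ _ (stabGrp_le_M24 _ _) hconj).toEquiv,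
      card_stabGrp three_cert.2.2.1, three_cert.2.2.2.1]
  have hout : ∀ z, z ∉ d → maskOf {g z} ∈ outList := fun z hz =>
    mem_outList rfl (by rw [← hgd, apply_mem_smul_iff]; exact hz)
  obtain ⟨σ, hσ, hσ'⟩ := exists_smul_of_classes' three_cert.2.2.2.2 (hout x hx) (hout y hy) rfl
  rw [Finset.smul_finset_singleton, Finset.singleton_inj, Equiv.Perm.smul_def] at hσ'
  refine ⟨⟨g⁻¹ * σ * g, conj_mem_M24 hg hσ.1⟩, (hconj _).2 ?_, ?_⟩
  · show g * (g⁻¹ * σ * g) * g⁻¹ ∈ _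
    rw [show g * (g⁻¹ * σ * g) * g⁻¹ = σ by group]
    exact hσ
  · show (g⁻¹ * σ * g) x = y
    rw [Equiv.Perm.mul_apply, Equiv.Perm.mul_apply, hσ', ← Equiv.Perm.mul_apply, inv_mul_cancel]
    rfl

end Cfsg.Agent.S1600
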