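import Cfsg.Statements.S1601
import Cfsg.Agent.H44.M11PSL


set_option autoImplicit false
open scoped Pointwise
open Cfsg

namespace Cfsg.Agent.S1601

open Cfsg.Agent.Golay Cfsg.Agent.H44

/-- In the 3-transitive action of the smallest Mathieu group on the complementary dodecad, a point stabiliser is isomorphic to PSL(2, 11). -/
theorem result (d : Finset Cfsg.GolayPt) (hd : d ∈ Cfsg.dodecads) (p q : Cfsg.GolayPt) (hp : p ∈ d) (hq : q ∉ d) : Nonempty (↥(MulAction.stabilizer Cfsg.M24 d ⊓ MulAction.stabilizer Cfsg.M24 p ⊓ MulAction.stabilizer Cfsg.M24 q) ≃* Matrix.ProjectiveSpecialLinearGroup (Fin 2) (ZMod 11)) := by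
  obtain ⟨g, hg, hgd, hgp, hgq⟩ := exists_base_one hd hp hq
  have hconj : ∀ x : Cfsg.M24, x ∈ (MulAction.stabilizer Cfsg.M24 d ⊓ MulAction.stabilizer Cfsg.M24 p
      ⊓ MulAction.stabilizer Cfsg.M24 q) ↔
      g * (x : Equiv.Perm GolayPt) * g⁻¹ ∈ stabGrp [squareMask] maskZeroFive := by
    intro x
    rw [maskZeroFive_eq, Subgroup.mem_inf (p := baseEleven), mem_baseEleven,
      MulAction.mem_stabilizer_iff (a := pt 5), Equiv.Perm.smul_def,
      conj_smul_iff g (x : Equiv.Perm GolayPt) hgd]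
    have e : ∀ i (z : GolayPt), g z = pt i →
        ((g * (x : Equiv.Perm GolayPt) * g⁻¹) (pt i) = pt i ↔
          (x : Equiv.Perm GolayPt) z = z) := fun i z hz =>
      conj_smul_iff g (x : Equiv.Perm GolayPt) (a := z) hz
    rw [e 0 p hgp, e 5 q hgq]
    simp only [Subgroup.mem_inf, MulAction.mem_stabilizer_iff, and_assoc]
    exact ⟨fun h => ⟨mul_mem (mul_mem hg x.2) (inv_mem hg), h⟩, fun h => h.2⟩
  obtain ⟨e⟩ := stab660_iso
  exact ⟨(conjEquivStab hg _ _ (stabGrp_le_M24 _ _) hconj).trans e⟩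

end Cfsg.Agent.S1601
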