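import Cfsg.Statements.S1602
import Cfsg.Agent.H44.M11Sym


set_option autoImplicit false
open scoped Pointwise
open Cfsg

namespace Cfsg.Agent.S1602

open Cfsg.Agent.Golay Cfsg.Agent.H44

/-- In the 12-point action of the smallest Mathieu group the setwise stabiliser of a pair is isomorphic to the symmetric group of degree 5. -/
theorem result (d : Finset Cfsg.GolayPt) (hd : d ∈ Cfsg.dodecads) (p q q' : Cfsg.GolayPt) (hp : p ∈ d) (hq : q ∉ d) (hq' : q' ∉ d) (hqq' : q ≠ q') : Nonempty (↥(MulAction.stabilizer Cfsg.M24 d ⊓ MulAction.stabilizer Cfsg.M24 p ⊓ MulAction.stabilizer Cfsg.M24 ({q, q'} : Finset Cfsg.GolayPt)) ≃* Equiv.Perm (Fin 5)) := by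
  obtain ⟨g, hg, hgd, hgp, hgq, hgq'⟩ := exists_base_two hd hp hq hq' hqq'
  have hpair : g • ({q, q'} : Finset GolayPt) = ptSet pairMask := by
    rw [show ptSet pairMask = {pt 5, pt 7} by decide +kernel, Finset.smul_finset_insert,
      Finset.smul_finset_singleton, Equiv.Perm.smul_def, Equiv.Perm.smul_def, hgq, hgq']
  have hconj : ∀ x : Cfsg.M24, x ∈ (MulAction.stabilizer Cfsg.M24 d ⊓ MulAction.stabilizer Cfsg.M24 p
      ⊓ MulAction.stabilizer Cfsg.M24 ({q, q'} : Finset GolayPt)) ↔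
      g * (x : Equiv.Perm GolayPt) * g⁻¹ ∈ stab120 := by
    intro x
    rw [mem_stab120, mem_baseEleven, conj_smul_iff g (x : Equiv.Perm GolayPt) hgd,
      conj_smul_iff g (x : Equiv.Perm GolayPt) hpair]
    have e : (g * (x : Equiv.Perm GolayPt) * g⁻¹) (pt 0) = pt 0 ↔
        (x : Equiv.Perm GolayPt) p = p := conj_smul_iff g (x : Equiv.Perm GolayPt) (a := p) hgp
    rw [e]
    simp only [Subgroup.mem_inf, MulAction.mem_stabilizer_iff, and_assoc]
    exact ⟨fun h => ⟨mul_mem (mul_mem hg x.2) (inv_mem hg), h⟩, fun h => h.2⟩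
  obtain ⟨e⟩ := stab120_iso
  exact ⟨(conjEquivStab hg _ _ (stabGrp_le_M24 _ _) hconj).trans e⟩

end Cfsg.Agent.S1602
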