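import Cfsg.Statements.S1603
import Cfsg.Agent.H44.M11Involution


set_option autoImplicit false
open scoped Pointwise
open Cfsg

namespace Cfsg.Agent.S1603

open Cfsg.Agent.Golay Cfsg.Agent.H44

lemma mem_iff_conj {g : Equiv.Perm GolayPt} (hg : g ∈ M24) {d : Finset GolayPt}
    (hgd : g • d = ptSet squareMask) {p : GolayPt} (hgp : g p = pt 0) (x : M24) :
    x ∈ MulAction.stabilizer M24 d ⊓ MulAction.stabilizer M24 p ↔
      g * (x : Equiv.Perm GolayPt) * g⁻¹ ∈ baseEleven := by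
  have e : (g * (x : Equiv.Perm GolayPt) * g⁻¹) (pt 0) = pt 0 ↔
      (x : Equiv.Perm GolayPt) p = p := conj_smul_iff g (x : Equiv.Perm GolayPt) (a := p) hgp
  rw [mem_baseEleven, conj_smul_iff g (x : Equiv.Perm GolayPt) hgd, e]
  simp only [Subgroup.mem_inf, MulAction.mem_stabilizer_iff, and_assoc]
  exact ⟨fun h => ⟨mul_mem (mul_mem hg x.2) (inv_mem hg), h⟩, fun h => h.2⟩

/-- Centralisers correspond under an isomorphism onto a subgroup. -/
noncomputable def centEquiv {A : Type*} [Group A] {B : Subgroup (Equiv.Perm GolayPt)} (e : A ≃* B)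
    (x : A) {t : Equiv.Perm GolayPt} (ht : (e x : Equiv.Perm GolayPt) = t) :
    Subgroup.centralizer ({x} : Set A) ≃*
      ↥(B ⊓ Subgroup.centralizer ({t} : Set (Equiv.Perm GolayPt))) where
  toFun c := ⟨(e c : Equiv.Perm GolayPt), (e c).2, Subgroup.mem_centralizer_singleton_iff.2 (by
    rw [← ht, ← Subgroup.coe_mul, ← Subgroup.coe_mul, ← map_mul, ← map_mul,
      Subgroup.mem_centralizer_singleton_iff.1 c.2])⟩
  invFun b := ⟨e.symm ⟨b, b.2.1⟩, Subgroup.mem_centralizer_singleton_iff.2 (e.injective (by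
    rw [map_mul, map_mul, MulEquiv.apply_symm_apply]
    refine Subtype.ext ?_
    rw [Subgroup.coe_mul, Subgroup.coe_mul, ht]
    exact Subgroup.mem_centralizer_singleton_iff.1 b.2.2))⟩
  left_inv c := Subtype.ext (e.symm_apply_apply (c : A))
  right_inv b := Subtype.ext (congrArg Subtype.val (e.apply_symm_apply ⟨b, b.2.1⟩) :)
  map_mul' a b := Subtype.ext (by
    show ((e ((a : A) * (b : A))) : Equiv.Perm GolayPt) = _
    rw [map_mul, Subgroup.coe_mul]
    rfl)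

/-- Involution centralisers in the smallest Mathieu group are isomorphic to GL(2, 3). -/
theorem result (d : Finset Cfsg.GolayPt) (hd : d ∈ Cfsg.dodecads) (p : Cfsg.GolayPt) (hp : p ∈ d) (x : ↥(MulAction.stabilizer Cfsg.M24 d ⊓ MulAction.stabilizer Cfsg.M24 p)) (hx : orderOf x = 2) : Nonempty (↥(Subgroup.centralizer ({x} : Set ↥(MulAction.stabilizer Cfsg.M24 d ⊓ MulAction.stabilizer Cfsg.M24 p))) ≃* GL (Fin 2) (ZMod 3)) := by
  obtain ⟨g₀, hg₀, hgd₀, hgp₀⟩ := exists_base_point hd hp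
  set y : Equiv.Perm GolayPt := g₀ * ((x : Cfsg.M24) : Equiv.Perm GolayPt) * g₀⁻¹ with hy
  have hx2 : ((x : Cfsg.M24) : Equiv.Perm GolayPt) * ((x : Cfsg.M24) : Equiv.Perm GolayPt) = 1 := by
    have h := pow_orderOf_eq_one x
    rw [hx, pow_two] at h
    exact congrArg Subtype.val (congrArg Subtype.val h)
  have hy2 : y * y = 1 := by
    rw [hy, conj_mul, hx2, mul_one, mul_inv_cancel]
  have hne : y ≠ 1 := by
    intro h
    rw [hy, conj_eq_one_iff] at h
    have h1 : x = 1 := Subtype.ext (Subtype.ext h)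
    rw [h1, orderOf_one] at hx
    omega
  obtain ⟨σ, hσ, hσy⟩ := exists_conj_baseInv ((mem_iff_conj hg₀ hgd₀ hgp₀ _).1 x.2) hy2 hne
  obtain ⟨hσM, hσd, hσp⟩ := mem_baseEleven.1 hσ
  have hg : σ⁻¹ * g₀ ∈ Cfsg.M24 := mul_mem (inv_mem hσM) hg₀
  have hgd : (σ⁻¹ * g₀) • d = ptSet squareMask := by rw [mul_smul, hgd₀, inv_smul_eq_iff, hσd]
  have hgp : (σ⁻¹ * g₀) p = pt 0 := by
    rw [Equiv.Perm.mul_apply, hgp₀, Equiv.Perm.coe_inv, Equiv.symm_apply_eq, hσp]
  let e := conjEquivStab hg _ baseEleven (fun s h => (mem_baseEleven.1 h).1)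
    (mem_iff_conj hg hgd hgp)
  have ht : (e x : Equiv.Perm GolayPt) = baseInv := by
    show (σ⁻¹ * g₀) * ((x : Cfsg.M24) : Equiv.Perm GolayPt) * (σ⁻¹ * g₀)⁻¹ = _
    rw [← hσy]
    group
  obtain ⟨f⟩ := invCent_iso
  exact ⟨(centEquiv e x ht).trans f⟩

end Cfsg.Agent.S1603
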