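import Cfsg.Statements.S1604
import Cfsg.Agent.H44.M22Orbits


set_option autoImplicit false
open scoped Pointwise
open Cfsg

namespace Cfsg.Agent.S1604

open Cfsg.Agent.Golay Cfsg.Agent.H44

lemma exists_base {p q : GolayPt} (hpq : p ≠ q) {o : Finset GolayPt} (ho : o ∈ octads)
    (hp : p ∈ o) (hq : q ∈ o) :
    ∃ g ∈ M24, g p = pt 23 ∧ g q = pt 0 ∧ g • o = ptSet hexRoot := by
  obtain ⟨g, hg, hgp, hgq⟩ := exists_M24_two_points hpq (i := 23) (j := 0) (by norm_num)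
    (by norm_num) (by norm_num)
  have h1 : maskOf (g • o) ∈ hexList := mem_hexList.2 ⟨smul_mem_octads hg ho,
    hgp ▸ (apply_mem_smul_iff g).2 hp, hgq ▸ (apply_mem_smul_iff g).2 hq⟩
  have h2 : hexRoot ∈ hexList := List.contains_iff_mem.1 hex_cert.2
  have h2' : maskOf (ptSet hexRoot) ∈ hexList := by
    rwa [octadList_ptSet_maskOf (List.mem_filter.1 h2).1]
  obtain ⟨σ, hσ, h⟩ := exists_smul_of_classes' hex_cert.1 h1 h2' rfl
  obtain ⟨h23, h0⟩ := stab_maskTwo hσ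
  exact ⟨σ * g, mul_mem hσ.1 hg, by rw [Equiv.Perm.mul_apply, hgp, h23],
    by rw [Equiv.Perm.mul_apply, hgq, h0], by rw [mul_smul, h]⟩

lemma ncard_class {g : Equiv.Perm GolayPt} (hg : g ∈ M24) {p q : GolayPt} (hgp : g p = pt 23)
    (hgq : g q = pt 0) {o : Finset GolayPt} (hgo : g • o = ptSet hexRoot) (k : ℕ) :
    {x : Finset GolayPt | x ∈ octads ∧ p ∈ x ∧ q ∈ x ∧ (o ∩ x).card = k}.ncard
      = (hexList.filter fun m => popCnt (m &&& hexRoot) == k).length := by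
  rw [ncard_eq_of_perm g (T := {x : Finset GolayPt | x ∈ octads ∧
    ((pt 23 ∈ x ∧ pt 0 ∈ x) ∧ (ptSet hexRoot ∩ x).card = k)}), hexList, List.filter_filter]
  · refine ncard_octads_filter _ fun s => ?_
    simp [pt_mem_iff, card_inter_ptSet, and_comm, and_left_comm]
  · intro s
    simp only [Set.mem_ofPred_eq, smul_mem_octads_iff hg, ← hgp, ← hgq, ← hgo, apply_mem_smul_iff,
      card_inter_smul, and_assoc]

/-- A hexad stabiliser in the two-point stabiliser has orbits of sizes 1, 16, 60 on the 77 hexads: the 16 hexads disjoint from it and the 60 meeting it in two points. -/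
theorem result (p q : Cfsg.GolayPt) (hpq : p ≠ q) (o o' o'' : Finset Cfsg.GolayPt) (ho : o ∈ Cfsg.octads) (ho' : o' ∈ Cfsg.octads) (ho'' : o'' ∈ Cfsg.octads) (hp : p ∈ o ∧ p ∈ o' ∧ p ∈ o'') (hq : q ∈ o ∧ q ∈ o' ∧ q ∈ o'') (h : (o ∩ o').card = (o ∩ o'').card) : {x : Finset Cfsg.GolayPt | x ∈ Cfsg.octads ∧ p ∈ x ∧ q ∈ x ∧ (o ∩ x).card = 2}.ncard = 16 ∧ {x : Finset Cfsg.GolayPt | x ∈ Cfsg.octads ∧ p ∈ x ∧ q ∈ x ∧ (o ∩ x).card = 4}.ncard = 60 ∧ ∃ g : Equiv.Perm Cfsg.GolayPt, g ∈ Cfsg.M24 ∧ g p = p ∧ g q = q ∧ g • o = o ∧ g • o' = o'' := by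
  obtain ⟨g, hg, hgp, hgq, hgo⟩ := exists_base hpq ho hp.1 hq.1
  refine ⟨(ncard_class hg hgp hgq hgo 2).trans hex_orb_cert.2.1,
    (ncard_class hg hgp hgq hgo 4).trans hex_orb_cert.2.2, ?_⟩
  have hmem : ∀ x ∈ octads, p ∈ x → q ∈ x → maskOf (g • x) ∈ hexList := fun x hx h1 h2 =>
    mem_hexList.2 ⟨smul_mem_octads hg hx, hgp ▸ (apply_mem_smul_iff g).2 h1,
      hgq ▸ (apply_mem_smul_iff g).2 h2⟩
  have hkey : popCnt (maskOf (g • o') &&& hexRoot) = popCnt (maskOf (g • o'') &&& hexRoot) := by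
    rw [← card_inter_ptSet, ← card_inter_ptSet, ← hgo, card_inter_smul, card_inter_smul, h]
  obtain ⟨σ, hσ, hσ'⟩ := exists_smul_of_classes' hex_orb_cert.1 (hmem o' ho' hp.2.1 hq.2.1)
    (hmem o'' ho'' hp.2.2 hq.2.2) hkey
  obtain ⟨h23, h0⟩ := stab_maskTwo hσ
  exact ⟨g⁻¹ * σ * g, conj_mem_M24 hg hσ.1, conj_apply_eq g σ hgp h23, conj_apply_eq g σ hgq h0,
    conj_smul_eq g σ hgo hgo (hσ.2.1 _ (by simp)), conj_smul_eq g σ rfl rfl hσ'⟩

end Cfsg.Agent.S1604
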