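import Cfsg.Statements.S1605
import Cfsg.Agent.H44.M22Orbits


set_option autoImplicit false
open scoped Pointwise
open Cfsg

namespace Cfsg.Agent.S1605

open Cfsg.Agent.Golay Cfsg.Agent.H44

lemma exists_base {p q : GolayPt} (hpq : p ≠ q) {o : Finset GolayPt} (ho : o ∈ octads)
    (hp : p ∈ o) (hq : q ∉ o) :
    ∃ g ∈ M24, g p = pt 23 ∧ g q = pt 0 ∧ g • o = ptSet hepTwoRoot := by
  obtain ⟨g, hg, hgp, hgq⟩ := exists_M24_two_points hpq (i := 23) (j := 0) (by norm_num)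
    (by norm_num) (by norm_num)
  have h1 : maskOf (g • o) ∈ hepTwoList := mem_hepTwoList.2 ⟨smul_mem_octads hg ho,
    hgp ▸ (apply_mem_smul_iff g).2 hp, hgq ▸ fun h => hq ((apply_mem_smul_iff g).1 h)⟩
  have h2 : hepTwoRoot ∈ hepTwoList := List.contains_iff_mem.1 hepTwo_cert.2.1
  have h2' : maskOf (ptSet hepTwoRoot) ∈ hepTwoList := by
    rwa [octadList_ptSet_maskOf (List.mem_filter.1 h2).1]
  obtain ⟨σ, hσ, h⟩ := exists_smul_of_classes' hepTwo_cert.1 h1 h2' rfl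
  obtain ⟨h23, h0⟩ := stab_maskTwo hσ
  exact ⟨σ * g, mul_mem hσ.1 hg, by rw [Equiv.Perm.mul_apply, hgp, h23],
    by rw [Equiv.Perm.mul_apply, hgq, h0], by rw [mul_smul, h]⟩

lemma ncard_class {g : Equiv.Perm GolayPt} (hg : g ∈ M24) {p q : GolayPt} (hgp : g p = pt 23)
    (hgq : g q = pt 0) {o : Finset GolayPt} (hgo : g • o = ptSet hepTwoRoot) (k : ℕ) :
    {x : Finset GolayPt | (x ∈ octads ∧ p ∈ x ∧ q ∉ x) ∧ (o ∩ x).card = k}.ncard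
      = (hepTwoList.filter fun m => popCnt (m &&& hepTwoRoot) == k).length := by
  rw [ncard_eq_of_perm g (T := {x : Finset GolayPt | x ∈ octads ∧
    ((pt 23 ∈ x ∧ pt 0 ∉ x) ∧ (ptSet hepTwoRoot ∩ x).card = k)}), hepTwoList, List.filter_filter]
  · refine ncard_octads_filter _ fun s => ?_
    simp [pt_mem_iff, card_inter_ptSet, and_comm, and_left_comm]
  · intro s
    simp only [Set.mem_ofPred_eq, smul_mem_octads_iff hg, ← hgp, ← hgq, ← hgo, apply_mem_smul_iff,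
      card_inter_smul, and_assoc]

lemma ncard_all {g : Equiv.Perm GolayPt} (hg : g ∈ M24) {p q : GolayPt} (hgp : g p = pt 23)
    (hgq : g q = pt 0) :
    {x : Finset GolayPt | (x ∈ octads ∧ p ∈ x ∧ q ∉ x)}.ncard = hepTwoList.length := by
  rw [ncard_eq_of_perm g (T := {x : Finset GolayPt | x ∈ octads ∧
    (pt 23 ∈ x ∧ pt 0 ∉ x)}), hepTwoList]
  · refine ncard_octads_filter _ fun s => ?_
    simp [pt_mem_iff]
  · intro s
    simp only [Set.mem_ofPred_eq, smul_mem_octads_iff hg, ← hgp, ← hgq, apply_mem_smul_iff]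

/-- The two-point stabiliser acts on the 176 octads through the first point avoiding the second with rank 3 and subdegrees 1, 70, 105 (intersections 8, 2, 4). -/
theorem result (p q : Cfsg.GolayPt) (hpq : p ≠ q) : {x : Finset Cfsg.GolayPt | (x ∈ Cfsg.octads ∧ p ∈ x ∧ q ∉ x)}.ncard = 176 ∧ (∀ o o' : Finset Cfsg.GolayPt, (o ∈ Cfsg.octads ∧ p ∈ o ∧ q ∉ o) → (o' ∈ Cfsg.octads ∧ p ∈ o' ∧ q ∉ o') → ∃ g : Equiv.Perm Cfsg.GolayPt, g ∈ Cfsg.M24 ∧ g p = p ∧ g q = q ∧ g • o = o') ∧ ∀ o : Finset Cfsg.GolayPt, (o ∈ Cfsg.octads ∧ p ∈ o ∧ q ∉ o) → {x : Finset Cfsg.GolayPt | (x ∈ Cfsg.octads ∧ p ∈ x ∧ q ∉ x) ∧ (o ∩ x).card = 2}.ncard = 70 ∧ {x : Finset Cfsg.GolayPt | (x ∈ Cfsg.octads ∧ p ∈ x ∧ q ∉ x) ∧ (o ∩ x).card = 4}.ncard = 105 ∧ ∀ o' o'' : Finset Cfsg.GolayPt, (o' ∈ Cfsg.octads ∧ p ∈ o' ∧ q ∉ o') → (o'' ∈ Cfsg.octads ∧ p ∈ o'' ∧ q ∉ o'') → (o ∩ o').card = (o ∩ o'').card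 → ∃ g : Equiv.Perm Cfsg.GolayPt, g ∈ Cfsg.M24 ∧ g p = p ∧ g q = q ∧ g • o = o ∧ g • o' = o'' := by
  refine ⟨?_, fun o o' ho ho' => ?_, fun o ho => ?_⟩
  · obtain ⟨g, hg, hgp, hgq⟩ := exists_M24_two_points hpq (i := 23) (j := 0) (by norm_num)
      (by norm_num) (by norm_num)
    exact (ncard_all hg hgp hgq).trans hepTwo_cert.2.2
  · obtain ⟨g, hg, hgp, hgq, hgo⟩ := exists_base hpq ho.1 ho.2.1 ho.2.2
    obtain ⟨k, hk, hkp, hkq, hko⟩ := exists_base hpq ho'.1 ho'.2.1 ho'.2.2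
    refine ⟨k⁻¹ * g, mul_mem (inv_mem hk) hg, ?_, ?_, ?_⟩
    · rw [Equiv.Perm.mul_apply, hgp, ← hkp, ← Equiv.Perm.mul_apply, inv_mul_cancel]; rfl
    · rw [Equiv.Perm.mul_apply, hgq, ← hkq, ← Equiv.Perm.mul_apply, inv_mul_cancel]; rfl
    · rw [mul_smul, hgo, inv_smul_eq_iff, hko]
  obtain ⟨g, hg, hgp, hgq, hgo⟩ := exists_base hpq ho.1 ho.2.1 ho.2.2
  refine ⟨(ncard_class hg hgp hgq hgo 2).trans hepTwo_orb_cert.2.1,
    (ncard_class hg hgp hgq hgo 4).trans hepTwo_orb_cert.2.2, fun o' o'' h' h'' h => ?_⟩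
  have hmem : ∀ x, (x ∈ octads ∧ p ∈ x ∧ q ∉ x) → maskOf (g • x) ∈ hepTwoList := fun x hx =>
    mem_hepTwoList.2 ⟨smul_mem_octads hg hx.1, hgp ▸ (apply_mem_smul_iff g).2 hx.2.1,
      hgq ▸ fun h => hx.2.2 ((apply_mem_smul_iff g).1 h)⟩
  have hkey : popCnt (maskOf (g • o') &&& hepTwoRoot)
      = popCnt (maskOf (g • o'') &&& hepTwoRoot) := by
    rw [← card_inter_ptSet, ← card_inter_ptSet, ← hgo, card_inter_smul, card_inter_smul, h]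
  obtain ⟨σ, hσ, hσ'⟩ := exists_smul_of_classes' hepTwo_orb_cert.1 (hmem o' h') (hmem o'' h'') hkey
  obtain ⟨h23, h0⟩ := stab_maskTwo hσ
  exact ⟨g⁻¹ * σ * g, conj_mem_M24 hg hσ.1, conj_apply_eq g σ hgp h23, conj_apply_eq g σ hgq h0,
    conj_smul_eq g σ hgo hgo (hσ.2.1 _ (by simp)), conj_smul_eq g σ rfl rfl hσ'⟩

end Cfsg.Agent.S1605
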