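import Cfsg.Statements.S1606
import Cfsg.Agent.H44.M22Index


set_option autoImplicit false
open scoped Pointwise
open Cfsg

namespace Cfsg.Agent.S1606

open Cfsg.Agent.Golay Cfsg.Agent.H44

/-- The stabiliser of two points in the group of the length-24 code has no subgroups of index 56 or 210. -/
theorem result (p q : Cfsg.GolayPt) (hpq : p ≠ q) (H : Subgroup ↥(MulAction.stabilizer Cfsg.M24 p ⊓ MulAction.stabilizer Cfsg.M24 q)) : H.index ≠ 56 ∧ H.index ≠ 210 := by
  obtain ⟨g, hg, hgp, hgq⟩ := exists_M24_two_points hpq (i := 23) (j := 0) (by norm_num)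
    (by norm_num) (by norm_num)
  have hconj : ∀ x : Cfsg.M24, x ∈ (MulAction.stabilizer Cfsg.M24 p ⊓ MulAction.stabilizer Cfsg.M24 q) ↔
      g * (x : Equiv.Perm GolayPt) * g⁻¹ ∈ baseTwentyTwo := by
    intro x
    have e : ∀ i (z : GolayPt), g z = pt i →
        ((g * (x : Equiv.Perm GolayPt) * g⁻¹) (pt i) = pt i ↔
          (x : Equiv.Perm GolayPt) z = z) := fun i z hz =>
      conj_smul_iff g (x : Equiv.Perm GolayPt) (a := z) hz
    rw [baseTwentyTwo, maskTwo, stabGrp_or _ _ (by norm_num : (0 : ℕ) < 24),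
      stabGrp_or _ _ (by norm_num : (23 : ℕ) < 24), stabGrp_nil_zero]
    constructor
    · rintro ⟨h1, h2⟩
      exact ⟨⟨mul_mem (mul_mem hg x.2) (Cfsg.M24.inv_mem hg), (e 23 p hgp).2 h1⟩,
        (e 0 q hgq).2 h2⟩
    · rintro ⟨⟨-, h1⟩, h2⟩
      exact ⟨(e 23 p hgp).1 h1, (e 0 q hgq).1 h2⟩
  let φ := conjEquivStab hg _ baseTwentyTwo (stabGrp_le_M24 _ _) hconj
  let H' : Subgroup (Equiv.Perm GolayPt) := (H.map φ.toMonoidHom).map baseTwentyTwo.subtype
  have hle : H' ≤ baseTwentyTwo := Subgroup.map_subtype_le _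
  have hcard : Nat.card H' = Nat.card H := by
    rw [Subgroup.card_map_of_injective (Subgroup.subtype_injective _),
      Subgroup.card_map_of_injective φ.injective]
  have htot : Nat.card H * H.index = 443520 := by
    rw [Subgroup.card_mul_index, Nat.card_congr φ.toEquiv, card_baseTwentyTwo]
  obtain ⟨h1, h2⟩ := card_ne_of_le hle
  rw [hcard] at h1 h2
  constructor <;> intro hi <;> rw [hi] at htot <;> omega

end Cfsg.Agent.S1606
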