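import Cfsg.Statements.S1607
import Cfsg.Agent.H44.M23Orbits


set_option autoImplicit false
open scoped Pointwise
open Cfsg

namespace Cfsg.Agent.S1607

open Cfsg.Agent.Golay Cfsg.Agent.H44

lemma exists_base {x : GolayPt} {o : Finset GolayPt} (ho : o ∈ octads) (hx : x ∈ o) :
    ∃ g ∈ M24, g x = pt 23 ∧ g • o = ptSet thrRoot := by
  obtain ⟨g, hg, hgx⟩ := exists_M24_point x (i := 23)
  have h1 : maskOf (g • o) ∈ thrList :=
    mem_thrList.2 ⟨smul_mem_octads hg ho, hgx ▸ (apply_mem_smul_iff g).2 hx⟩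
  have h2 : thrRoot ∈ thrList := List.contains_iff_mem.1 thr_cert.2
  have h2' : maskOf (ptSet thrRoot) ∈ thrList := by
    rwa [maskOf_ptSet (octadList_lt (List.mem_filter.1 h2).1)]
  obtain ⟨σ, hσ, h⟩ := exists_smul_of_classes' thr_cert.1 h1 h2' rfl
  exact ⟨σ * g, mul_mem hσ.1 hg, by rw [Equiv.Perm.mul_apply, hgx, stab_maskOne hσ],
    by rw [mul_smul, h]⟩

lemma ncard_class {g : Equiv.Perm GolayPt} (hg : g ∈ M24) {x : GolayPt} (hgx : g x = pt 23)
    {o : Finset GolayPt} (hgo : g • o = ptSet thrRoot) (k : ℕ) :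
    {o' : Finset GolayPt | o' ∈ octads ∧ x ∈ o' ∧ (o ∩ o').card = k}.ncard
      = (thrList.filter fun m => popCnt (m &&& thrRoot) == k).length := by
  rw [ncard_eq_of_perm g (T := {o' : Finset GolayPt | o' ∈ octads ∧
    (pt 23 ∈ o' ∧ (ptSet thrRoot ∩ o').card = k)}), thrList, List.filter_filter]
  · refine ncard_octads_filter _ fun s => ?_
    simp [pt_mem_iff, card_inter_ptSet, and_comm, and_left_comm]
  · intro s
    simp only [Set.mem_ofPred_eq, smul_mem_octads_iff hg, ← hgx, ← hgo, apply_mem_smul_iff,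
      card_inter_smul]

/-- The point stabiliser acts on the 253 heptads of its S(4, 7, 23) with rank 3 and subdegrees 1, 112, 140 (intersections 8, 2, 4). -/
theorem result (x : Cfsg.GolayPt) (o : Finset Cfsg.GolayPt) (ho : o ∈ Cfsg.octads) (hx : x ∈ o) : {o' : Finset Cfsg.GolayPt | o' ∈ Cfsg.octads ∧ x ∈ o' ∧ (o ∩ o').card = 2}.ncard = 112 ∧ {o' : Finset Cfsg.GolayPt | o' ∈ Cfsg.octads ∧ x ∈ o' ∧ (o ∩ o').card = 4}.ncard = 140 ∧ ∀ o' o'' : Finset Cfsg.GolayPt, o' ∈ Cfsg.octads → o'' ∈ Cfsg.octads → x ∈ o' → x ∈ o'' → (o ∩ o').card = (o ∩ o'').card → ∃ g : Equiv.Perm Cfsg.GolayPt, g ∈ Cfsg.M24 ∧ g x = x ∧ g • o = o ∧ g • o' = o'' := by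
  obtain ⟨g, hg, hgx, hgo⟩ := exists_base ho hx
  refine ⟨(ncard_class hg hgx hgo 2).trans thr_orb_cert.2.1,
    (ncard_class hg hgx hgo 4).trans thr_orb_cert.2.2, fun o' o'' ho' ho'' hx' hx'' h => ?_⟩
  have hmem : ∀ s ∈ octads, x ∈ s → maskOf (g • s) ∈ thrList := fun s hs h1 =>
    mem_thrList.2 ⟨smul_mem_octads hg hs, hgx ▸ (apply_mem_smul_iff g).2 h1⟩
  have hkey : popCnt (maskOf (g • o') &&& thrRoot) = popCnt (maskOf (g • o'') &&& thrRoot) := by
    rw [← card_inter_ptSet, ← card_inter_ptSet, ← hgo, card_inter_smul, card_inter_smul, h]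
  obtain ⟨σ, hσ, hσ'⟩ := exists_smul_of_classes' thr_orb_cert.1 (hmem o' ho' hx')
    (hmem o'' ho'' hx'') hkey
  exact ⟨g⁻¹ * σ * g, conj_mem_M24 hg hσ.1, conj_apply_eq g σ hgx (stab_maskOne hσ),
    conj_smul_eq g σ hgo hgo (hσ.2.1 _ (by simp)), conj_smul_eq g σ rfl rfl hσ'⟩

end Cfsg.Agent.S1607
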