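import Cfsg.Statements.S1609
import Cfsg.Agent.H44.M23Index


set_option autoImplicit false
open scoped Pointwise
open Cfsg

namespace Cfsg.Agent.S1609

open Cfsg.Agent.Golay Cfsg.Agent.H44

/-- Subgroups of index 253 in the Mathieu group of degree 23 are exactly the duad stabilisers and the heptad stabilisers. -/
theorem result (x : Cfsg.GolayPt) (H : Subgroup ↥(MulAction.stabilizer Cfsg.M24 x)) (hH : H.index = 253) : (∃ s : Finset Cfsg.GolayPt, s.card = 2 ∧ x ∉ s ∧ H = (MulAction.stabilizer Cfsg.M24 s).subgroupOf (MulAction.stabilizer Cfsg.M24 x)) ∨ ∃ o ∈ Cfsg.octads, x ∈ o ∧ H = (MulAction.stabilizer Cfsg.M24 o).subgroupOf (MulAction.stabilizer Cfsg.M24 x) := by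
  obtain ⟨g₀, hg₀, hgx⟩ := exists_M24_point x (i := 23)
  set Hp : Subgroup (Equiv.Perm GolayPt) :=
    (H.map (MulAction.stabilizer Cfsg.M24 x).subtype).map Cfsg.M24.subtype with hHp
  have hmemH : ∀ σ : ↥(MulAction.stabilizer Cfsg.M24 x), σ ∈ H ↔
      ((σ : Cfsg.M24) : Equiv.Perm GolayPt) ∈ Hp := by
    intro σ
    refine ⟨fun h => ⟨_, ⟨σ, h, rfl⟩, rfl⟩, ?_⟩
    rintro ⟨y, ⟨z, hz, rfl⟩, e⟩
    exact (Subtype.ext (Subtype.ext e) : z = σ) ▸ hz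
  have hmemS : ∀ σ : Cfsg.M24, σ ∈ MulAction.stabilizer Cfsg.M24 x ↔
      g₀ * (σ : Equiv.Perm GolayPt) * g₀⁻¹ ∈ stabGrp [] maskOne := by
    intro σ
    rw [mem_base_iff]
    have e : (g₀ * (σ : Equiv.Perm GolayPt) * g₀⁻¹) (pt 23) = pt 23 ↔
        (σ : Equiv.Perm GolayPt) x = x := conj_smul_iff g₀ (σ : Equiv.Perm GolayPt) (a := x) hgx
    rw [e]
    exact ⟨fun h => ⟨Cfsg.M24.mul_mem (Cfsg.M24.mul_mem hg₀ σ.2) (Cfsg.M24.inv_mem hg₀), h⟩,
      fun h => h.2⟩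
  set K₁ : Subgroup (Equiv.Perm GolayPt) := Hp.map (MulAut.conj g₀).toMonoidHom with hK₁
  have hK₁mem : ∀ σ, g₀ * σ * g₀⁻¹ ∈ K₁ ↔ σ ∈ Hp := by
    intro σ
    refine ⟨?_, fun h => ⟨σ, h, rfl⟩⟩
    rintro ⟨τ, hτ, e⟩
    exact ((MulAut.conj g₀).injective e : τ = σ) ▸ hτ
  have hK₁le : K₁ ≤ stabGrp [] maskOne := by
    rintro _ ⟨τ, ⟨y, ⟨z, -, rfl⟩, rfl⟩, rfl⟩
    exact (hmemS _).1 z.2
  have hcardS : Nat.card ↥(MulAction.stabilizer Cfsg.M24 x) = 10200960 := by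
    rw [Nat.card_congr (conjEquivStab hg₀ _ _ (stabGrp_le_M24 _ _) hmemS).toEquiv, card_base]
  have hcardH : Nat.card H = 40320 := by
    have h := Subgroup.card_mul_index H
    rw [hcardS, hH] at h
    omega
  have hcardK : Nat.card K₁ = 40320 := by
    rw [hK₁, hHp, Subgroup.card_map_of_injective (MulAut.conj g₀).injective,
      Subgroup.card_map_of_injective (Subgroup.subtype_injective _),
      Subgroup.card_map_of_injective (Subgroup.subtype_injective _), hcardH]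
  obtain ⟨g₁, hg₁, K, hVK, hKle, hKc, hKiff⟩ := exists_conj_sixteen sixteen_le_base hK₁le
    ⟨253, by rw [card_base, hcardK], by norm_num⟩
  set g := g₁ * g₀ with hgdef
  have hgM : g ∈ Cfsg.M24 := Cfsg.M24.mul_mem hg₁.1 hg₀
  have hgx' : g x = pt 23 := by
    rw [hgdef, Equiv.Perm.mul_apply, hgx, base_fix hg₁]
  have hall : ∀ σ : ↥(MulAction.stabilizer Cfsg.M24 x), σ ∈ H ↔
      g * ((σ : Cfsg.M24) : Equiv.Perm GolayPt) * g⁻¹ ∈ K := by
    intro σ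
    rw [hmemH, ← hK₁mem, hKiff, hgdef]
    rw [show g₁ * (g₀ * ((σ : Cfsg.M24) : Equiv.Perm GolayPt) * g₀⁻¹) * g₁⁻¹
      = g₁ * g₀ * ((σ : Cfsg.M24) : Equiv.Perm GolayPt) * (g₁ * g₀)⁻¹ by group]
  have hbaseσ : ∀ σ : ↥(MulAction.stabilizer Cfsg.M24 x),
      g * ((σ : Cfsg.M24) : Equiv.Perm GolayPt) * g⁻¹ ∈ stabGrp [] maskOne := by
    intro σ
    rw [mem_base_iff]
    refine ⟨Cfsg.M24.mul_mem (Cfsg.M24.mul_mem hgM (σ : Cfsg.M24).2) (Cfsg.M24.inv_mem hgM), ?_⟩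
    have e : (g * ((σ : Cfsg.M24) : Equiv.Perm GolayPt) * g⁻¹) (pt 23) = pt 23 ↔
        ((σ : Cfsg.M24) : Equiv.Perm GolayPt) x = x :=
      conj_smul_iff g ((σ : Cfsg.M24) : Equiv.Perm GolayPt) (a := x) hgx'
    exact e.2 σ.2
  rcases classify_forty hKle hVK (hKc.trans hcardK) with ⟨s, hs2, hs23, hs⟩ | hs
  · refine Or.inl ⟨g⁻¹ • s, by rw [Finset.card_smul_finset, hs2], fun hx => hs23 ?_, ?_⟩
    · rw [← hgx', ← smul_inv_smul g s, apply_mem_smul_iff]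
      exact hx
    · ext σ
      rw [hall, hs, Subgroup.mem_subgroupOf, MulAction.mem_stabilizer_iff]
      have e := conj_smul_iff g ((σ : Cfsg.M24) : Equiv.Perm GolayPt) (smul_inv_smul g s)
      exact ⟨fun h => e.1 h.2, fun h => ⟨hbaseσ σ, e.2 h⟩⟩
  · refine Or.inr ⟨g⁻¹ • baseOctad, smul_mem_octads (Cfsg.M24.inv_mem hgM) baseOctad_mem, ?_, ?_⟩
    · rw [← apply_mem_smul_iff g, hgx', smul_inv_smul]
      exact pt23_mem_baseOctad
    · ext σ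
      rw [hall, hs, Subgroup.mem_subgroupOf, MulAction.mem_stabilizer_iff]
      have e := conj_smul_iff g ((σ : Cfsg.M24) : Equiv.Perm GolayPt) (smul_inv_smul g baseOctad)
      exact ⟨fun h => e.1 h.2, fun h => ⟨hbaseσ σ, e.2 h⟩⟩

end Cfsg.Agent.S1609
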