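import Cfsg.Statements.S1610
import Cfsg.Agent.H44.Hexacode


set_option autoImplicit false
open Cfsg

namespace Cfsg.Agent.S1610

/-- The hexacode has 64 words, minimum weight 4, and weight distribution 0^1 4^45 6^18. -/
theorem result (F : Type*) [Field F] [Fintype F] [DecidableEq F] (hF : Fintype.card F = 4) (ω : F) (hω : ω ^ 2 + ω + 1 = 0) : Nat.card ↥(Cfsg.hexacode F ω) = 64 ∧ (∀ x ∈ Cfsg.hexacode F ω, x ≠ 0 → (Finset.univ.filter fun i => x i ≠ 0).card = 4 ∨ (Finset.univ.filter fun i => x i ≠ 0).card = 6) ∧ {x : Fin 6 → F | x ∈ Cfsg.hexacode F ω ∧ (Finset.univ.filter fun i => x i ≠ 0).card = 4}.ncard = 45 ∧ {x : Fin 6 → F | x ∈ Cfsg.hexacode F ω ∧ (Finset.univ.filter fun i => x i ≠ 0).card = 6}.ncard = 18 := by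
  refine ⟨?_, fun x hx h0 => ?_, ?_, ?_⟩
  · have e : (hexacode F ω : Set (Fin 6 → F)) = Set.range fun c => fun i => H44.k4phi ω (H44.hexEnc c i) := by
      ext x; simp [H44.hexacode_mem_iff hF ω hω]
    have h : Nat.card ↥(hexacode F ω) = Nat.card ↥(Set.range fun c => fun i => H44.k4phi ω (H44.hexEnc c i)) :=
      Nat.card_congr (Equiv.setCongr e)
    rw [h, Nat.card_range_of_injective (H44.hexEnc_phi_injective hF ω hω), Nat.card_eq_fintype_card]
    rfl
  · obtain ⟨c, rfl⟩ := (H44.hexacode_mem_iff hF ω hω x).1 hx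
    rw [H44.hexEnc_weight hF ω hω]
    have key : ∀ c, H44.hexEnc c = 0 ∨ (Finset.univ.filter fun i => H44.hexEnc c i ≠ 0).card = 4 ∨
        (Finset.univ.filter fun i => H44.hexEnc c i ≠ 0).card = 6 := by decide +kernel
    rcases key c with h | h
    · exact absurd (funext fun i => by simp [h, H44.k4phi]) h0
    · exact h
  · rw [H44.ncard_hexacode_weight hF ω hω]; decide +kernel
  · rw [H44.ncard_hexacode_weight hF ω hω]; decide +kernel

end Cfsg.Agent.S1610
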