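import Cfsg.Statements.S1611
import Cfsg.Agent.H87.HexacodeAut
import Mathlib.GroupTheory.SpecificGroups.Alternating
-- import your own Cfsg.Agent.* helpers here

set_option autoImplicit false
open Cfsg

namespace Cfsg.Agent.S1611

open Cfsg.Agent.H44 Cfsg.Agent.H87.HexAut

variable {F : Type*} [Field F] [Fintype F]

/-- Preserving the hexacode. -/
def Keeps (ω : F) (σ : Equiv.Perm (Fin 6)) (c : Fin 6 → Fˣ) : Prop :=
  ∀ x ∈ Cfsg.hexacode F ω, Cfsg.monomialMap σ c x ∈ Cfsg.hexacode F ω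

omit [Fintype F] in
theorem Keeps.mul {ω : F} {σ τ : Equiv.Perm (Fin 6)} {c d : Fin 6 → Fˣ} (h : Keeps ω σ c) (h' : Keeps ω τ d) :
    Keeps ω (σ * τ) (fun i => c i * d (σ.symm i)) := by
  intro x hx
  have := h _ (h' x hx)
  convert this using 1
  funext i
  simp [Cfsg.monomialMap, Equiv.Perm.mul_def, mul_assoc]

omit [Fintype F] in
theorem Keeps.smul {ω : F} {σ : Equiv.Perm (Fin 6)} {c : Fin 6 → Fˣ} (h : Keeps ω σ c) (t : Fˣ) :
    Keeps ω σ (fun i => t * c i) := by
  intro x hx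
  have := (Cfsg.hexacode F ω).smul_mem (t : F) (h x hx)
  convert this using 1
  funext i
  simp [Cfsg.monomialMap, mul_assoc]

variable (hF : Fintype.card F = 4) (ω : F) (hω : ω ^ 2 + ω + 1 = 0)

include hF hω in
theorem keeps_iff (σ : Equiv.Perm (Fin 6)) (e : Fin 6 → Fin 3) (c : Fin 6 → Fˣ)
    (hc : ∀ i, (c i : F) = k4phi ω (pw (e i))) : Keeps ω σ c ↔ Good σ e := by
  have hinj := (k4phi_bijective hF ω hω).1
  have hmap : ∀ y : Fin 6 → K4, monomialMap σ c (fun i => k4phi ω (y i)) =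
      fun i => k4phi ω (k4mul (pw (e i)) (y (σ.symm i))) := by
    intro y; funext i
    simp [Cfsg.monomialMap, hc, k4phi_mul hF ω hω]
  have hmem : ∀ y : Fin 6 → K4, (fun i => k4phi ω (y i)) ∈ hexacode F ω ↔ inCode y := by
    intro y
    rw [hexacode_mem_iff hF ω hω, inCode_iff]
    exact ⟨fun ⟨u, hu⟩ => ⟨u, funext fun i => hinj (congrFun hu i)⟩, fun ⟨u, hu⟩ => ⟨u, by rw [hu]⟩⟩
  have hrow : ∀ r, inCode (hexRows r) := by decide
  constructor
  · intro h r
    rw [← hmem, ← hmap]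
    exact h _ ((hmem _).mpr (hrow r))
  · intro h x hx
    obtain ⟨u, rfl⟩ := (hexacode_mem_iff hF ω hω x).mp hx
    let L : (Fin 6 → F) →ₗ[F] (Fin 6 → F) :=
      { toFun := monomialMap σ c
        map_add' := fun a b => by funext i; simp [Cfsg.monomialMap, mul_add]
        map_smul' := fun t a => by funext i; simp [Cfsg.monomialMap, mul_left_comm] }
    have heq : (fun i => k4phi ω (hexEnc u i)) = k4phi ω u.1 • (fun i => k4phi ω (hexRows 0 i)) +
        (k4phi ω u.2.1 • (fun i => k4phi ω (hexRows 1 i)) + k4phi ω u.2.2 • (fun i => k4phi ω (hexRows 2 i))) := by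
      funext i
      simp [hexEnc, k4phi_add hF, k4phi_mul hF ω hω]
    change L (fun i => k4phi ω (hexEnc u i)) ∈ hexacode F ω
    rw [heq, map_add, map_add, map_smul, map_smul, map_smul]
    have hL : ∀ r, L (fun i => k4phi ω (hexRows r i)) ∈ hexacode F ω := fun r => by
      change monomialMap σ c (fun i => k4phi ω (hexRows r i)) ∈ hexacode F ω
      rw [hmap, hmem]; exact h r
    exact add_mem (Submodule.smul_mem _ _ (hL 0)) (add_mem (Submodule.smul_mem _ _ (hL 1)) (Submodule.smul_mem _ _ (hL 2)))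

include hF hω in
theorem exists_exp (u : Fˣ) : ∃ e : Fin 3, (u : F) = k4phi ω (pw e) := by
  obtain ⟨y, hy⟩ := (k4phi_bijective hF ω hω).2 (u : F)
  have hne : y ≠ 0 := fun h => u.ne_zero (by rw [← hy, h]; exact (k4phi_eq_zero hF ω hω).mpr rfl)
  obtain ⟨e, he⟩ := (by decide : ∀ y : K4, y ≠ 0 → ∃ e, pw e = y) y hne
  exact ⟨e, by rw [he, hy]⟩

include hF hω in
theorem keeps_exists_exp {σ : Equiv.Perm (Fin 6)} {c : Fin 6 → Fˣ} (h : Keeps ω σ c) :
    ∃ e, (∀ i, (c i : F) = k4phi ω (pw (e i))) ∧ Good σ e := by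
  choose e he using fun i => exists_exp hF ω hω (c i)
  exact ⟨e, he, (keeps_iff hF ω hω σ e c he).mp h⟩

include hF hω in
theorem exists_keeps {σ : Equiv.Perm (Fin 6)} (h : ∃ e, Good σ e) : ∃ c, Keeps ω σ c := by
  obtain ⟨e, he⟩ := h
  have hne : ∀ i, k4phi ω (pw (e i)) ≠ 0 := fun i h => by
    have := (k4phi_eq_zero hF ω hω).mp h
    exact (by decide : ∀ j, pw j ≠ 0) (e i) this
  exact ⟨fun i => Units.mk0 _ (hne i), (keeps_iff hF ω hω σ e _ fun i => rfl).mpr he⟩

include hF hω in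
theorem scalar {c : Fin 6 → Fˣ} (h : Keeps ω 1 c) (i : Fin 6) : c i = c 0 := by
  obtain ⟨e, he, hg⟩ := keeps_exists_exp hF ω hω h
  ext
  rw [he i, he 0, good_one e hg i]

/-- The permutation parts. -/
def parts (ω : F) : Subgroup (Equiv.Perm (Fin 6)) where
  carrier := {σ | ∃ c, Keeps ω σ c}
  one_mem' := ⟨fun _ => 1, fun x hx => by
    have : Cfsg.monomialMap (1 : Equiv.Perm (Fin 6)) (fun _ => (1 : Fˣ)) x = x := by
      funext i; simp [Cfsg.monomialMap, Equiv.Perm.one_def]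
    rw [this]; exact hx⟩
  mul_mem' := fun ⟨_, hc⟩ ⟨_, hd⟩ => ⟨_, hc.mul hd⟩
  inv_mem' := fun {σ} ⟨c, hc⟩ => by
    have hp : ∀ n : ℕ, ∃ d, Keeps ω (σ ^ n) d := by
      intro n
      induction n with
      | zero => exact ⟨fun _ => 1, fun x hx => by
          have : Cfsg.monomialMap (σ ^ 0) (fun _ => (1 : Fˣ)) x = x := by funext i; simp [Cfsg.monomialMap, Equiv.Perm.one_def]
          rw [this]; exact hx⟩
      | succ n ih => obtain ⟨d, hd⟩ := ih; exact ⟨_, by rw [pow_succ]; exact hd.mul hc⟩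
    have : σ⁻¹ = σ ^ (orderOf σ - 1) := by
      rw [inv_eq_iff_mul_eq_one, ← pow_succ', Nat.sub_add_cancel (orderOf_pos σ), pow_orderOf_eq_one]
    show ∃ d, Keeps ω σ⁻¹ d
    rw [this]; exact hp _

include hF hω in
theorem parts_eq : parts ω = alternatingGroup (Fin 6) := by
  set s : Equiv.Perm (Fin 6) := Equiv.swap 0 1 with hs
  have hss : s * s = 1 := Equiv.swap_mul_self 0 1
  have hns : s ∉ parts ω := fun ⟨c, hc⟩ => by
    obtain ⟨e, -, hg⟩ := keeps_exists_exp hF ω hω hc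
    exact not_good_swap e hg
  have hsw : ∀ a b : Fin 6, a ≠ b → Equiv.swap a b * s ∈ parts ω := fun a b hab =>
    exists_keeps hF ω hω (good_swap_pair a b hab)
  have hsw' : ∀ a b : Fin 6, a ≠ b → s * Equiv.swap a b ∈ parts ω := fun a b hab => by
    have := inv_mem (hsw a b hab)
    rw [mul_inv_rev] at this
    simpa [hs, Equiv.swap_inv] using this
  have hall : ∀ σ : Equiv.Perm (Fin 6),
      (Equiv.Perm.sign σ = 1 → σ ∈ parts ω ∧ s * σ * s ∈ parts ω) ∧
        (Equiv.Perm.sign σ = -1 → σ * s ∈ parts ω ∧ s * σ ∈ parts ω) := by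
    intro σ
    induction σ using Equiv.Perm.swap_induction_on with
    | one =>
      exact ⟨fun _ => ⟨one_mem _, by rw [mul_one, hss]; exact one_mem _⟩, fun h => absurd h (by simp)⟩
    | swap_mul f x y hxy ih =>
      rw [Equiv.Perm.sign_mul, Equiv.Perm.sign_swap hxy]
      refine ⟨fun h => ?_, fun h => ?_⟩
      · have hf : Equiv.Perm.sign f = -1 := by
          rcases Int.units_eq_one_or (Equiv.Perm.sign f) with h1 | h1 <;> simp_all
        constructor
        · have := mul_mem (hsw x y hxy) (ih.2 hf).2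
          rwa [show Equiv.swap x y * s * (s * f) = Equiv.swap x y * (s * s) * f by group, hss, mul_one] at this
        · have := mul_mem (hsw' x y hxy) (ih.2 hf).1
          rwa [show s * Equiv.swap x y * (f * s) = s * (Equiv.swap x y * f) * s by group] at this
      · have hf : Equiv.Perm.sign f = 1 := by
          rcases Int.units_eq_one_or (Equiv.Perm.sign f) with h1 | h1 <;> simp_all
        constructor
        · have := mul_mem (hsw x y hxy) (ih.1 hf).2
          rwa [show Equiv.swap x y * s * (s * f * s) = Equiv.swap x y * (s * s) * f * s by group, hss, mul_one] at this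
        · have := mul_mem (hsw' x y hxy) (ih.1 hf).1
          rwa [mul_assoc] at this
  ext σ
  rw [Equiv.Perm.mem_alternatingGroup]
  refine ⟨fun h => ?_, fun h => ((hall σ).1 h).1⟩
  rcases Int.units_eq_one_or (Equiv.Perm.sign σ) with h1 | h1
  · exact h1
  · exfalso
    have := mul_mem (inv_mem h) ((hall σ).2 h1).1
    rw [inv_mul_cancel_left] at this
    exact hns this

include hF hω in
theorem fibre {σ : Equiv.Perm (Fin 6)} {c c' : Fin 6 → Fˣ} (h : Keeps ω σ c) (h' : Keeps ω σ c') :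
    ∃ t : Fˣ, c' = fun i => t * c i := by
  obtain ⟨d, hd⟩ : σ⁻¹ ∈ parts ω := inv_mem ⟨c, h⟩
  have e1 : Keeps ω 1 (fun i => c i * d (σ.symm i)) := by
    have := h.mul hd; rwa [mul_inv_cancel] at this
  have e2 : Keeps ω 1 (fun i => c' i * d (σ.symm i)) := by
    have := h'.mul hd; rwa [mul_inv_cancel] at this
  refine ⟨c' 0 * (c 0)⁻¹, funext fun i => ?_⟩
  have a1 : c i * d (σ.symm i) = c 0 * d (σ.symm 0) := scalar hF ω hω e1 i
  have a2 : c' i * d (σ.symm i) = c' 0 * d (σ.symm 0) := scalar hF ω hω e2 i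
  apply mul_right_cancel (b := d (σ.symm i))
  rw [a2, mul_assoc (c' 0 * (c 0)⁻¹), a1, ← mul_assoc, inv_mul_cancel_right]

/-- The monomial automorphism group of the hexacode has order 1080: its diagonal part is the scalars and its permutation parts form the alternating group of degree 6. -/
theorem result (F : Type*) [Field F] [Fintype F] [DecidableEq F] (hF : Fintype.card F = 4) (ω : F) (hω : ω ^ 2 + ω + 1 = 0) : Nat.card {f : Equiv.Perm (Fin 6) × (Fin 6 → Fˣ) // (∀ x ∈ Cfsg.hexacode F ω, Cfsg.monomialMap f.1 f.2 x ∈ Cfsg.hexacode F ω)} = 1080 ∧ (∀ c : Fin 6 → Fˣ, (∀ x ∈ Cfsg.hexacode F ω, Cfsg.monomialMap 1 c x ∈ Cfsg.hexacode F ω) → ∀ i j, c i = c j) ∧ {σ : Equiv.Perm (Fin 6) | ∃ c : Fin 6 → Fˣ, (∀ x ∈ Cfsg.hexacode F ω, Cfsg.monomialMap σ c x ∈ Cfsg.hexacode F ω)} = (alternatingGroup (Fin 6) : Set (Equiv.Perm (Fin 6))) := by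
  classical
  refine ⟨?_, fun c hc i j => by rw [scalar hF ω hω hc i, scalar hF ω hω hc j], ?_⟩
  · have hex : ∀ σ : ↥(alternatingGroup (Fin 6)), ∃ c, Keeps ω σ.1 c := fun σ => by
      have : σ.1 ∈ parts ω := by rw [parts_eq hF ω hω]; exact σ.2
      exact this
    choose c0 hc0 using hex
    let f : ↥(alternatingGroup (Fin 6)) × Fˣ → {f : Equiv.Perm (Fin 6) × (Fin 6 → Fˣ) //
        ∀ x ∈ Cfsg.hexacode F ω, Cfsg.monomialMap f.1 f.2 x ∈ Cfsg.hexacode F ω} :=
      fun p => ⟨(p.1.1, fun i => p.2 * c0 p.1 i), (hc0 p.1).smul p.2⟩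
    have hf : Function.Bijective f := by
      constructor
      · rintro ⟨σ, t⟩ ⟨τ, u⟩ h
        have h1 : σ = τ := Subtype.ext (congrArg (fun z => z.1.1) h)
        subst h1
        have h2 := congrFun (congrArg (fun z => z.1.2) h) 0
        exact Prod.ext rfl (mul_right_cancel h2)
      · rintro ⟨⟨σ, c⟩, hc⟩
        have hσ : σ ∈ alternatingGroup (Fin 6) := by rw [← parts_eq hF ω hω]; exact ⟨c, hc⟩
        obtain ⟨t, ht⟩ := fibre hF ω hω (hc0 ⟨σ, hσ⟩) hc
        exact ⟨(⟨σ, hσ⟩, t), Subtype.ext (Prod.ext rfl ht.symm)⟩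
    rw [← Nat.card_eq_of_bijective f hf, Nat.card_prod, Nat.card_units, Nat.card_eq_fintype_card (α := F), hF,
      Nat.card_eq_fintype_card]
    have := two_mul_card_alternatingGroup (α := Fin 6)
    rw [Fintype.card_perm, Fintype.card_fin] at this
    rw [show Nat.factorial 6 = 720 from rfl] at this
    omega
  · rw [← parts_eq hF ω hω]
    rfl

end Cfsg.Agent.S1611
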