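import Cfsg.Statements.S1612
import Cfsg.Agent.H44.FischerDx


set_option autoImplicit false
open Cfsg
open scoped Pointwise

namespace Cfsg.Agent.S1612

/-- The members of a 3-transposition set in a 2-group commute pairwise. -/
theorem commute_of_isPGroup {G : Type*} [Group G] {D : Set G} (hD : IsThreeTranspositionSet D)
    {S : Subgroup G} (hS : IsPGroup 2 S) {a b : G} (ha : a ∈ D) (hb : b ∈ D) (haS : a ∈ S)
    (hbS : b ∈ S) : Commute a b := by
  by_contra hc
  have h3 := H44.tt_cube hD ha hb hc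
  obtain ⟨k, hk⟩ := hS ⟨a * b, mul_mem haS hbS⟩
  have hk' : (a * b) ^ 2 ^ k = 1 := by simpa using congrArg Subtype.val hk
  have hdvd : orderOf (a * b) ∣ Nat.gcd 3 (2 ^ k) :=
    Nat.dvd_gcd (orderOf_dvd_of_pow_eq_one h3) (orderOf_dvd_of_pow_eq_one hk')
  rw [Nat.Coprime.gcd_eq_one (by exact (Nat.Coprime.pow_right k (by norm_num))), Nat.dvd_one,
    orderOf_eq_one_iff] at hdvd
  exact hc (by rw [eq_inv_of_mul_eq_one_left hdvd, H44.tt_inv hD hb])

/-- A commuting set of transpositions generates a 2-group. -/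
theorem isPGroup_closure {G : Type*} [Group G] {D : Set G} (hD : IsThreeTranspositionSet D)
    {E : Set G} (hE : E ⊆ D) (hc : ∀ a ∈ E, ∀ b ∈ E, Commute a b) :
    IsPGroup 2 (Subgroup.closure E) := by
  intro g
  refine ⟨1, Subtype.ext ?_⟩
  rw [Subgroup.coe_pow, Subgroup.coe_one, pow_one]
  have hcent : ∀ z ∈ Subgroup.closure E, ∀ a ∈ E, Commute a z := by
    intro z hz
    induction hz using Subgroup.closure_induction with
    | mem z hz => exact fun a ha => hc a ha z hz
    | one => exact fun a _ => Commute.one_right a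
    | mul p q _ _ hp hq => exact fun a ha => (hp a ha).mul_right (hq a ha)
    | inv p _ hp => exact fun a ha => (hp a ha).inv_right
  have key : ∀ z ∈ Subgroup.closure E, z * z = 1 ∧ ∀ w ∈ Subgroup.closure E, Commute z w := by
    intro z hz
    induction hz using Subgroup.closure_induction with
    | mem z hz => exact ⟨H44.tt_mul_self hD (hE hz), fun w hw => hcent w hw z hz⟩
    | one => exact ⟨one_mul 1, fun w _ => Commute.one_left w⟩
    | mul p q _ hq' hp hq =>
      refine ⟨?_, fun w hw => (hp.2 w hw).mul_left (hq.2 w hw)⟩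
      calc p * q * (p * q) = p * (q * p) * q := by group
        _ = p * (p * q) * q := by rw [(hp.2 q hq').eq]
        _ = (p * p) * (q * q) := by group
        _ = 1 := by rw [hp.1, hq.1, one_mul]
    | inv p _ hp => exact ⟨by rw [← mul_inv_rev, hp.1, inv_one], fun w hw => (hp.2 w hw).inv_left⟩
  rw [pow_two]
  exact (key g g.2).1

/-- A largest commuting set is the intersection of the class with any 2-subgroup containing it. -/
theorem eq_inter {G : Type*} [Group G] [Finite G] {D : Set G} (hD : IsThreeTranspositionSet D)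
    {E : Set G} (hE : E ⊆ D)
    (hmax : ∀ E' : Set G, E' ⊆ D → (∀ a ∈ E', ∀ b ∈ E', Commute a b) → E'.ncard ≤ E.ncard)
    {S : Subgroup G} (hS : IsPGroup 2 S) (hES : E ⊆ S) : E = D ∩ S :=
  Set.eq_of_subset_of_ncard_le (Set.subset_inter hE hES)
    (hmax _ Set.inter_subset_left fun _ ha _ hb => commute_of_isPGroup hD hS ha.1 hb.1 ha.2 hb.2)
    (Set.toFinite _)

/-- In a 3-transposition group (no solvable normal subgroup, perfect derived group), the normaliser of a commuting set of transpositions of maximum size contains a Sylow 2-subgroup and is doubly transitive on the set. -/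
theorem result {G : Type*} [Group G] [Finite G] (hsol : ∀ N : Subgroup G, N.Normal → Group.IsSolvable ↥N → N = ⊥) (hperf : ⁅commutator G, commutator G⁆ = commutator G) {D : Set G} (hD : Cfsg.IsThreeTranspositionClass D) {E : Set G} (hE : E ⊆ D) (hc : ∀ a ∈ E, ∀ b ∈ E, Commute a b) (hmax : ∀ E' : Set G, E' ⊆ D → (∀ a ∈ E', ∀ b ∈ E', Commute a b) → E'.ncard ≤ E.ncard) : (∃ P : Sylow 2 G, (P : Subgroup G) ≤ Subgroup.normalizer E) ∧ ∀ a ∈ E, ∀ b ∈ E, ∀ c ∈ E, ∀ d ∈ E, a ≠ b → c ≠ d → ∃ g ∈ Subgroup.normalizer E, g * a * g⁻¹ = c ∧ g * b * g⁻¹ = d := by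
  haveI : Fact (Nat.Prime 2) := ⟨Nat.prime_two⟩
  constructor
  · obtain ⟨P, hP⟩ := (isPGroup_closure hD.1 hE hc).exists_le_sylow
    have hEP := eq_inter hD.1 hE hmax P.isPGroup' fun e he => hP (Subgroup.subset_closure he)
    refine ⟨P, fun g hg => ?_⟩
    rw [Subgroup.mem_set_normalizer_iff]
    intro n
    rw [hEP]
    refine and_congr ⟨fun h => H44.tt_invariant hD g h, fun h => ?_⟩ ⟨fun h => ?_, fun h => ?_⟩
    · have := H44.tt_invariant hD g⁻¹ h
      rwa [show g⁻¹ * (g * n * g⁻¹) * g⁻¹⁻¹ = n by group] at this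
    · exact mul_mem (mul_mem hg h) (inv_mem hg)
    · have := mul_mem (mul_mem (inv_mem hg) h) hg
      rwa [show g⁻¹ * (g * n * g⁻¹) * g = n by group] at this
  · intro a ha b hb c hc' d hd hab hcd
    obtain ⟨g₁, hg₁⟩ := H44.tt_class_conj hD (hE ha) (hE hc')
    have hdx : H44.InDx D c (g₁ * b * g₁⁻¹) := by
      refine ⟨H44.tt_invariant hD g₁ (hE hb), ?_, ?_⟩
      · intro e; rw [← hg₁] at e; exact hab (mul_left_cancel (mul_right_cancel e)).symm
      · rw [← hg₁]; exact (H44.commute_conj_iff g₁ a b).2 (hc a ha b hb)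
    have hdd : H44.InDx D c d := ⟨hE hd, Ne.symm hcd, hc c hc' d hd⟩
    obtain ⟨g₂, hg₂, hg₂b⟩ := H44.dx_conjugate hD hsol (hE hc') hdx hdd
    have hg₂c : Commute g₂ c := by
      have hcl : Subgroup.closure {q : G | q ∈ D ∧ q ≠ c ∧ Commute c q} ≤
          Subgroup.centralizer ({c} : Set G) := by
        rw [Subgroup.closure_le]
        intro q hq
        rw [SetLike.mem_coe, Subgroup.mem_centralizer_singleton_iff]
        exact hq.2.2.symm
      exact Subgroup.mem_centralizer_singleton_iff.1 (hcl hg₂)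
    set g := g₂ * g₁ with hgdef
    have hga : g * a * g⁻¹ = c := by
      rw [hgdef, show g₂ * g₁ * a * (g₂ * g₁)⁻¹ = g₂ * (g₁ * a * g₁⁻¹) * g₂⁻¹ by group, hg₁,
        hg₂c.eq, mul_inv_cancel_right]
    have hgb : g * b * g⁻¹ = d := by
      rw [hgdef, show g₂ * g₁ * b * (g₂ * g₁)⁻¹ = g₂ * (g₁ * b * g₁⁻¹) * g₂⁻¹ by group, hg₂b]
    set E₁ : Set G := (fun e => g * e * g⁻¹) '' E with hE₁
    have hE₁D : E₁ ⊆ D := by rintro _ ⟨e, he, rfl⟩; exact H44.tt_invariant hD g (hE he)
    have hE₁c : ∀ p ∈ E₁, ∀ q ∈ E₁, Commute p q := by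
      rintro _ ⟨p, hp, rfl⟩ _ ⟨q, hq, rfl⟩
      exact (H44.commute_conj_iff g p q).2 (hc p hp q hq)
    have hmax₁ : ∀ E' : Set G, E' ⊆ D → (∀ a ∈ E', ∀ b ∈ E', Commute a b) → E'.ncard ≤ E₁.ncard := by
      intro E' h1 h2
      rw [hE₁, Set.ncard_image_of_injective _ (fun p q e => mul_left_cancel (mul_right_cancel e))]
      exact hmax E' h1 h2
    let C : Subgroup G := Subgroup.centralizer ({c, d} : Set G)
    have hin : ∀ F : Set G, (∀ p ∈ F, ∀ q ∈ F, Commute p q) → c ∈ F → d ∈ F → F ⊆ (C : Set G) := by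
      intro F hF hcF hdF p hp
      rw [SetLike.mem_coe, Subgroup.mem_centralizer_iff]
      rintro q (rfl | rfl)
      · exact hF q hcF p hp
      · exact hF q hdF p hp
    have hEC : Subgroup.closure E ≤ C := (Subgroup.closure_le C).2 (hin E hc hc' hd)
    have hE₁C : Subgroup.closure E₁ ≤ C := (Subgroup.closure_le C).2
      (hin E₁ hE₁c ⟨a, ha, hga⟩ ⟨b, hb, hgb⟩)
    obtain ⟨S, hS⟩ := ((isPGroup_closure hD.1 hE hc).comap_of_injective C.subtype
      C.subtype_injective).exists_le_sylow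
    obtain ⟨S₁, hS₁⟩ := ((isPGroup_closure hD.1 hE₁D hE₁c).comap_of_injective C.subtype
      C.subtype_injective).exists_le_sylow
    have hEeq : E = D ∩ ((S : Subgroup C).map C.subtype : Set G) :=
      eq_inter hD.1 hE hmax (S.isPGroup'.map _) fun e he =>
        ⟨⟨e, hEC (Subgroup.subset_closure he)⟩, hS (Subgroup.subset_closure he), rfl⟩
    have hE₁eq : E₁ = D ∩ ((S₁ : Subgroup C).map C.subtype : Set G) :=
      eq_inter hD.1 hE₁D hmax₁ (S₁.isPGroup'.map _) fun e he =>
        ⟨⟨e, hE₁C (Subgroup.subset_closure he)⟩, hS₁ (Subgroup.subset_closure he), rfl⟩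
    obtain ⟨h, hh⟩ := MulAction.exists_smul_eq C S₁ S
    have hmove : ∀ p ∈ E₁, (h : G) * p * (h : G)⁻¹ ∈ E := by
      intro p hp
      rw [hE₁eq] at hp
      obtain ⟨hpD, q, hq, rfl⟩ := hp
      rw [hEeq]
      refine ⟨H44.tt_invariant hD _ hpD, h * q * h⁻¹, ?_, rfl⟩
      rw [← hh, Sylow.coe_subgroup_smul]
      exact Subgroup.smul_mem_pointwise_smul q (MulAut.conj h) _ hq
    refine ⟨(h : G) * g, ?_, ?_, ?_⟩
    · set f : G → G := fun n => ((h : G) * g) * n * ((h : G) * g)⁻¹ with hf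
      have hfi : Function.Injective f := fun p q e => mul_left_cancel (mul_right_cancel e)
      have hfE : f '' E ⊆ E := by
        rintro _ ⟨n, hn, rfl⟩
        have := hmove _ ⟨n, hn, rfl⟩
        rwa [show (h : G) * (g * n * g⁻¹) * (h : G)⁻¹ = f n by rw [hf]; group] at this
      have hfeq : f '' E = E := Set.eq_of_subset_of_ncard_le hfE
        (by rw [Set.ncard_image_of_injective _ hfi]) (Set.toFinite _)
      rw [Subgroup.mem_set_normalizer_iff]
      intro n
      refine ⟨fun hn => hfE ⟨n, hn, rfl⟩, fun hn => ?_⟩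
      rw [← hfeq] at hn
      obtain ⟨m, hm, hme⟩ := hn
      rwa [← hfi hme]
    · rw [show (h : G) * g * a * ((h : G) * g)⁻¹ = (h : G) * (g * a * g⁻¹) * (h : G)⁻¹ by group, hga,
        ← Subgroup.mem_centralizer_iff.1 h.2 c (Or.inl rfl), mul_inv_cancel_right]
    · rw [show (h : G) * g * b * ((h : G) * g)⁻¹ = (h : G) * (g * b * g⁻¹) * (h : G)⁻¹ by group, hgb,
        ← Subgroup.mem_centralizer_iff.1 h.2 d (Or.inr rfl), mul_inv_cancel_right]

end Cfsg.Agent.S1612
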