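import Cfsg.Statements.S1617
import Cfsg.Agent.H91.OddProd.Main
import Cfsg.Agent.Thompson.BaerSuzuki

set_option autoImplicit false
open Cfsg

namespace Cfsg.Agent.S1617

open Subgroup in
/-- A group generated by two involutions with product of order dividing `4` is a 2-group. -/
theorem isPGroup_pair {G : Type*} [Group G] {a b : G} (ha : a * a = 1)
    (hb : b * b = 1) (h : (a * b) ^ 4 = 1) : IsPGroup 2 (closure ({a, b} : Set G)) := by
  haveI : Fact (Nat.Prime 2) := ⟨Nat.prime_two⟩
  have hA : IsPGroup 2 (zpowers a) := by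
    refine IsPGroup.of_card_dvd_pow (n := 1) ?_
    rw [Nat.card_zpowers, pow_one]
    exact orderOf_dvd_of_pow_eq_one (by rw [sq, ha])
  have hC : IsPGroup 2 (zpowers (a * b)) := by
    refine IsPGroup.of_card_dvd_pow (n := 2) ?_
    rw [Nat.card_zpowers]
    exact orderOf_dvd_of_pow_eq_one h
  have hai := H91.OddProd.inv_self ha
  have hn : zpowers a ≤ normalizer (zpowers (a * b)) := by
    refine zpowers_le.mpr ?_
    have hstab : ∀ w ∈ zpowers (a * b), a * w * a⁻¹ ∈ zpowers (a * b) := by
      intro w hw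
      obtain ⟨i, rfl⟩ := mem_zpowers_iff.mp hw
      rw [← conj_zpow, hai, ← mul_assoc, ha, one_mul, ← H91.OddProd.mul_inv_flip ha hb, inv_zpow]
      exact inv_mem (zpow_mem (mem_zpowers _) i)
    rw [mem_normalizer_iff]
    intro w
    refine ⟨hstab w, fun hw => ?_⟩
    have h1 := hstab _ hw
    rw [hai] at h1
    simpa [mul_assoc, ha, H91.OddProd.mul_cancel ha] using h1
  refine (hA.to_sup_of_normal_right' hC hn).to_le ((closure_le _).mpr ?_)
  rintro z (rfl | rfl)
  · exact mem_sup_left (mem_zpowers _)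
  · have := mul_mem (mem_sup_left (T := zpowers (a * z)) (mem_zpowers a))
      (mem_sup_right (S := zpowers a) (mem_zpowers (a * z)))
    rwa [H91.OddProd.mul_cancel ha] at this

/-- The order of a product does not change under conjugation. -/
theorem orderOf_conj_mul {G : Type*} [Group G] (g a b : G) :
    orderOf (g * a * g⁻¹ * (g * b * g⁻¹)) = orderOf (a * b) := by
  rw [show g * a * g⁻¹ * (g * b * g⁻¹) = MulAut.conj g (a * b) by
    simp [mul_assoc]]
  exact orderOf_injective (MulAut.conj g).toMonoidHom (MulAut.conj g).injective _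

/-- A generating conjugacy class of involutions on which the group (with trivial solvable radical) acts with rank 3 is a class of 3-transpositions. -/
theorem result {G : Type*} [Group G] [Finite G] (hsol : ∀ N : Subgroup G, N.Normal → Group.IsSolvable ↥N → N = ⊥) {D : Set G} (hinv : ∀ d ∈ D, orderOf d = 2) (hconj : ∃ d ∈ D, D = conjugatesOf d) (hgen : Subgroup.closure D = ⊤) (hrank : ∀ x ∈ D, ∃ y ∈ D, ∃ z ∈ D, {w : G | ∃ g : G, Commute g x ∧ g * y * g⁻¹ = w} ≠ {w : G | ∃ g : G, Commute g x ∧ g * x * g⁻¹ = w} ∧ {w : G | ∃ g : G, Commute g x ∧ g * z * g⁻¹ = w} ≠ {w : G | ∃ g : G, Commute g x ∧ g * x * g⁻¹ = w} ∧ {w : G | ∃ g : G, Commute g x ∧ g * y * g⁻¹ = w} ≠ {w : G | ∃ g : G, Commute g x ∧ g * z * g⁻¹ = w} ∧ D = {w : G | ∃ g : G, Commute g x ∧ g * x * g⁻¹ = w} ∪ {w : G | ∃ g : G, Commute g x ∧ g * y * g⁻¹ = w} ∪ {w : G | ∃ g : G, Commute g x ∧ g * z * g⁻¹ = w}) : Cfsg.IsThreeTranspositionClass D := by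
  classical
  haveI : Fact (Nat.Prime 2) := ⟨Nat.prime_two⟩
  obtain ⟨d₀, hd₀, hDeq⟩ := hconj
  have hD : ∀ d ∈ D, ∀ g : G, g * d * g⁻¹ ∈ D := by
    intro d hd g
    rw [hDeq] at hd ⊢
    exact IsConj.trans (show IsConj d₀ d from hd) (isConj_iff.mpr ⟨g, rfl⟩)
  have hcls : ∀ a ∈ D, ∀ b ∈ D, IsConj a b := by
    intro a ha b hb
    rw [hDeq] at ha hb
    exact (show IsConj d₀ a from ha).symm.trans (show IsConj d₀ b from hb)
  have hsq : ∀ d ∈ D, d * d = 1 := fun d hd => by
    rw [← sq, ← hinv d hd, pow_orderOf_eq_one]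
  have hne1 : ∀ d ∈ D, d ≠ 1 := fun d hd h1 => by
    have := hinv d hd
    rw [h1, orderOf_one] at this
    omega
  have hcentral : ∀ x ∈ D, ¬ ∀ d ∈ D, Commute x d := by
    intro x hx hall
    refine hne1 x hx ?_
    have hz : x ∈ Subgroup.center G := by
      rw [Subgroup.mem_center_iff]
      intro g
      have hle : Subgroup.closure D ≤ Subgroup.centralizer ({x} : Set G) :=
        (Subgroup.closure_le _).mpr fun d hd =>
          Subgroup.mem_centralizer_singleton_iff.mpr (hall d hd).eq.symm
      exact Subgroup.mem_centralizer_singleton_iff.mp (hle (hgen ▸ Subgroup.mem_top g))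
    rw [hsol (Subgroup.center G) inferInstance (Group.isSolvable_of_comm fun u v =>
      Subtype.ext (Subgroup.mem_center_iff.mp v.2 u)), Subgroup.mem_bot] at hz
    exact hz
  -- the suborbits
  have hnon : ∀ x ∈ D, ∃ z ∈ D, ¬ Commute x z ∧
      ∀ w ∈ D, ¬ Commute x w → orderOf (x * w) = orderOf (x * z) := by
    intro x hx
    obtain ⟨y, hy, z, hz, hy1, hz1, hyz, hunion⟩ := hrank x hx
    have horb : ∀ u w : G, (∃ g : G, Commute g x ∧ g * u * g⁻¹ = w) →
        (Commute x w ↔ Commute x u) ∧ orderOf (x * w) = orderOf (x * u) := by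
      rintro u w ⟨g, hg, rfl⟩
      have hgx : g * x * g⁻¹ = x := by rw [hg.eq, mul_inv_cancel_right]
      refine ⟨?_, ?_⟩
      · conv_lhs => rw [← hgx]
        exact Commute.conj_iff g
      · conv_lhs => rw [← hgx]
        exact orderOf_conj_mul g x u
    have hxO : ∀ u : G, (∃ g : G, Commute g x ∧ g * u * g⁻¹ = x) → u = x := by
      rintro u ⟨g, hg, hgu⟩
      have hgx : g * x * g⁻¹ = x := by rw [hg.eq, mul_inv_cancel_right]
      simpa using hgu.trans hgx.symm
    have hsplit : ∀ w ∈ D, w = x ∨ (∃ g : G, Commute g x ∧ g * y * g⁻¹ = w) ∨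
        (∃ g : G, Commute g x ∧ g * z * g⁻¹ = w) := by
      intro w hw
      rw [hunion] at hw
      rcases hw with (⟨g, hg, hgw⟩ | hw) | hw
      · exact Or.inl (by rw [← hgw, hg.eq, mul_inv_cancel_right])
      · exact Or.inr (Or.inl hw)
      · exact Or.inr (Or.inr hw)
    have hyx : y ≠ x := fun hh => hy1 (by rw [hh])
    have hzx : z ≠ x := fun hh => hz1 (by rw [hh])
    have hor : Commute x y ∨ Commute x z := by
      by_contra hcon
      rw [not_or] at hcon
      refine hcentral x hx fun d _ => H91.OddProd.central_of_isolated hsol (hinv x hx) ?_ d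
      intro g hg
      rcases hsplit _ (hD x hx g) with h | h | h
      · exact h
      · exact absurd ((horb y _ h).1.mp hg) hcon.1
      · exact absurd ((horb z _ h).1.mp hg) hcon.2
    have hboth : ¬ (Commute x y ∧ Commute x z) := by
      rintro ⟨h1, h2⟩
      refine hcentral x hx fun d hd => ?_
      rcases hsplit d hd with rfl | h | h
      · exact Commute.refl _
      · exact (horb y d h).1.mpr h1
      · exact (horb z d h).1.mpr h2
    rcases hor with h1 | h1
    · refine ⟨z, hz, fun h2 => hboth ⟨h1, h2⟩, fun w hw hn => ?_⟩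
      rcases hsplit w hw with rfl | h | h
      · exact absurd (Commute.refl _) hn
      · exact absurd ((horb y w h).1.mpr h1) hn
      · exact (horb z w h).2
    · refine ⟨y, hy, fun h2 => hboth ⟨h2, h1⟩, fun w hw hn => ?_⟩
      rcases hsplit w hw with rfl | h | h
      · exact absurd (Commute.refl _) hn
      · exact (horb y w h).2
      · exact absurd ((horb z w h).1.mpr h1) hn
  -- all non-commuting products have the same order
  obtain ⟨z₀, hz₀, hxz, huni⟩ := hnon d₀ hd₀
  set n := orderOf (d₀ * z₀) with hn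
  have hall : ∀ a ∈ D, ∀ b ∈ D, ¬ Commute a b → orderOf (a * b) = n := by
    intro a ha b hb hab
    obtain ⟨g, hg⟩ := isConj_iff.mp (hcls a ha d₀ hd₀)
    rw [← orderOf_conj_mul g a b, hg]
    refine huni _ (hD b hb g) ?_
    rw [← hg, Commute.conj_iff]
    exact hab
  have hn3 : 3 ≤ n := by
    have hpos : 0 < n := orderOf_pos _
    have h2 : (d₀ * z₀) * (d₀ * z₀) ≠ 1 := fun hh =>
      hxz (H91.OddProd.commute_of_sq (hsq _ hd₀) (hsq _ hz₀) hh)
    by_contra hcon
    apply h2
    rw [← sq, ← orderOf_dvd_iff_pow_eq_one, ← hn]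
    have : n = 1 ∨ n = 2 := by omega
    rcases this with h | h <;> simp [h]
  set x := d₀
  have hxi := hsq x hd₀
  -- squares of powers of `x z₀` are products of members
  have hkey : ∀ i : ℕ, (x * z₀) ^ (4 * i) = 1 ∨ orderOf ((x * z₀) ^ (2 * i)) = n := by
    intro i
    set g := (x * z₀) ^ i with hg
    have hflip : x * g⁻¹ = g * x := by
      rw [hg, ← inv_pow, H91.OddProd.mul_inv_flip hxi (hsq _ hz₀)]
      exact SemiconjBy.pow_right (by
        show x * (z₀ * x) = x * z₀ * x
        rw [mul_assoc]) i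
    have hw : g⁻¹ * x * g ∈ D := by simpa using hD x hd₀ g⁻¹
    have hprod : x * (g⁻¹ * x * g) = g * g := by
      rw [← mul_assoc, ← mul_assoc, hflip, mul_assoc g x x, hxi, mul_one]
    by_cases hc : Commute x (g⁻¹ * x * g)
    · left
      have h1 := H91.OddProd.sq_of_commute hxi (hsq _ hw) hc
      rw [hprod, hg, ← pow_add, ← pow_add] at h1
      rw [show 4 * i = i + i + (i + i) by ring]
      exact h1
    · right
      have h1 := hall x hd₀ _ hw hc
      rw [hprod, hg, ← pow_add] at h1
      rw [show 2 * i = i + i by ring]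
      exact h1
  suffices hn' : n = 3 by
    refine ⟨⟨hinv, fun a ha b hb => ?_⟩, ⟨x, hd₀, hDeq⟩, hgen⟩
    by_cases hab : Commute a b
    · left; rw [sq]; exact H91.OddProd.sq_of_commute (hsq a ha) (hsq b hb) hab
    · right; rw [← hn', ← hall a ha b hb hab, pow_orderOf_eq_one]
  rcases Nat.even_or_odd n with he | ho
  · -- products of order four
    exfalso
    have h4 : (x * z₀) ^ 4 = 1 := by
      rcases hkey 1 with h | h
      · simpa using h
      · rw [mul_one] at h
        have h2 := (orderOf_pow_of_dvd (x := x * z₀) (n := 2) (by norm_num)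
          (hn ▸ he.two_dvd))
        rw [h, ← hn] at h2
        omega
    have hp4 : ∀ a ∈ D, ∀ b ∈ D, (a * b) ^ 4 = 1 := by
      intro a ha b hb
      by_cases hab : Commute a b
      · rw [show (4 : ℕ) = 2 * 2 from rfl, pow_mul, sq (a * b),
          H91.OddProd.sq_of_commute (hsq a ha) (hsq b hb) hab, one_pow]
      · rw [← orderOf_dvd_iff_pow_eq_one, hall a ha b hb hab, hn]
        exact orderOf_dvd_of_pow_eq_one h4
    obtain ⟨N, hN, hNp, hxN⟩ := Thompson.baer_suzuki (p := 2) (x := x) fun g =>
      isPGroup_pair hxi (hsq _ (hD x hd₀ g)) (hp4 x hd₀ _ (hD x hd₀ g))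
    haveI := hNp.isNilpotent
    have hb := hsol N hN inferInstance
    rw [hb, Subgroup.mem_bot] at hxN
    exact hne1 x hd₀ hxN
  · have hprime : n.Prime := by
      rw [Nat.prime_def]
      refine ⟨by omega, fun m hm => ?_⟩
      have hm0 : 0 < m := Nat.pos_of_dvd_of_pos hm (by omega)
      rcases hkey m with h | h
      · right
        have h1 : n ∣ 4 * m := hn ▸ orderOf_dvd_of_pow_eq_one h
        have hcop : Nat.Coprime n 4 := by
          rw [show (4 : ℕ) = 2 ^ 2 from rfl]
          exact (Nat.coprime_two_right.mpr ho).pow_right 2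
        have h2 : n ∣ m := hcop.dvd_of_dvd_mul_left h1
        exact Nat.dvd_antisymm hm h2
      · left
        have h2 : (n / m) ∣ n := Nat.div_dvd_of_dvd hm
        have h3 : orderOf ((x * z₀) ^ (2 * m)) ∣ n / m := by
          refine orderOf_dvd_of_pow_eq_one ?_
          rw [← pow_mul, mul_assoc, Nat.mul_div_cancel' hm, mul_comm, pow_mul, hn,
            pow_orderOf_eq_one, one_pow]
        rw [h] at h3
        have h4 := Nat.le_of_dvd (Nat.div_pos (Nat.le_of_dvd (by omega) hm) hm0) h3
        by_contra hm1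
        exact absurd (Nat.div_lt_self (by omega) (by omega : 1 < m)) (not_lt.mpr h4)
    by_contra hn3'
    have h5 : 5 ≤ n := by
      obtain ⟨k, hk⟩ := ho
      omega
    have hG : Group.IsSolvable G := H91.OddProd.isSolvable_of_generated hprime h5 hsq hD
      (fun a ha b hb => by
        by_cases hab : Commute a b
        · exact Or.inl hab
        · exact Or.inr (by rw [← hall a ha b hb hab, pow_orderOf_eq_one])) hgen
    have hb := hsol ⊤ inferInstance inferInstance
    exact hne1 x hd₀ (Subgroup.mem_bot.mp (hb ▸ Subgroup.mem_top x))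

end Cfsg.Agent.S1617
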