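import Cfsg.Statements.S1622
import Cfsg.Agent.Compute.J2.Facts

set_option autoImplicit false
open Quaternion
open Cfsg

namespace Cfsg.Agent.S1622

/-- The reflection group is transitive on its 315 reflections by conjugation. -/
theorem result (f f' : Equiv.Perm ↥Cfsg.Spor.icoLeech) (hf : Cfsg.Spor.IsIcoReflection f) (hf' : Cfsg.Spor.IsIcoReflection f') : ∃ g ∈ Cfsg.Spor.twoJ2, g * f * g⁻¹ = f' := by
  obtain ⟨k, hk, rfl⟩ := (Agent.Compute.J2.isReflection_iff f).1 hf
  obtain ⟨k2, hk2, rfl⟩ := (Agent.Compute.J2.isReflection_iff f').1 hf'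
  obtain ⟨i, rfl⟩ := Agent.Compute.J2.exists_line_idx hk
  obtain ⟨j, rfl⟩ := Agent.Compute.J2.exists_line_idx hk2
  obtain ⟨a, ha⟩ := Agent.Compute.J2.exists_conj_zero i
  obtain ⟨b, hb⟩ := Agent.Compute.J2.exists_conj_zero j
  refine ⟨b.1 * a.1⁻¹, mul_mem b.2 (inv_mem a.2), ?_⟩
  have hi := congrArg Subtype.val ha
  have hj := congrArg Subtype.val hb
  simp only [Subgroup.coe_mul, Subgroup.coe_inv, Agent.Compute.J2.refl2] at hi hj
  rw [← hi, ← hj]
  group

end Cfsg.Agent.S1622
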