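import Cfsg.Statements.S1623
import Cfsg.Agent.Compute.J2.Cent

set_option autoImplicit false
open Quaternion
open Cfsg

namespace Cfsg.Agent.S1623

/-- A reflection centraliser in the Hall–Janko group is an extension of an extraspecial group of order 32 by the alternating group of degree 5. -/
theorem result (f : Equiv.Perm ↥Cfsg.Spor.icoLeech) (hf : Cfsg.Spor.IsIcoReflection f) (hfm : f ∈ Cfsg.Spor.twoJ2) : ∃ (Q : Subgroup ↥(Subgroup.centralizer {(QuotientGroup.mk ⟨f, hfm⟩ : Cfsg.Spor.J2)})) (_ : Q.Normal), Nat.card Q = 32 ∧ Cfsg.IsExtraspecial 2 Q ∧ Nonempty (↥(Subgroup.centralizer {(QuotientGroup.mk ⟨f, hfm⟩ : Cfsg.Spor.J2)}) ⧸ Q ≃* alternatingGroup (Fin 5)) := by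
  obtain ⟨k, hk, rfl⟩ := (Agent.Compute.J2.isReflection_iff f).1 hf
  obtain ⟨i, rfl⟩ := Agent.Compute.J2.exists_line_idx hk
  set x : Cfsg.Spor.J2 := QuotientGroup.mk ⟨_, hfm⟩ with hx
  have hq : Agent.Compute.J2.equivJ2 x = Agent.Compute.J2.tQ i := by
    rw [hx, Agent.Compute.J2.equivJ2_mk, Agent.Compute.J2.tQ_eq_quo]
    rfl
  obtain ⟨e⟩ := Agent.Compute.J2.exists_equiv_cent _
    (Agent.Compute.J2.tQ_conj ⟨_, Agent.Compute.J2.autTwo_lt⟩ i)
  have h : (Subgroup.centralizer {x}).map Agent.Compute.J2.equivJ2.toMonoidHom =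
      Subgroup.centralizer {Agent.Compute.J2.tQ i} := by
    ext c
    rw [Subgroup.mem_map_equiv, Subgroup.mem_centralizer_singleton_iff,
      Subgroup.mem_centralizer_singleton_iff, ← hq]
    constructor
    · intro h
      apply Agent.Compute.J2.equivJ2.symm.injective
      rw [map_mul, map_mul, MulEquiv.symm_apply_apply, h]
    · intro h
      apply Agent.Compute.J2.equivJ2.injective
      rw [map_mul, map_mul, MulEquiv.apply_symm_apply, h]
  exact Agent.Compute.J2.cent_structure_of_equiv (e.trans ((MulEquiv.subgroupCongr h.symm).trans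
    (Agent.Compute.J2.equivJ2.subgroupMap (Subgroup.centralizer {x})).symm))

end Cfsg.Agent.S1623
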