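import Cfsg.Statements.S1624
import Cfsg.Agent.Compute.J2.Orbital

set_option autoImplicit false
open Quaternion
open Cfsg

namespace Cfsg.Agent.S1624

/-- The Hall–Janko group contains PSU(3, 3) with index 100 and acts on the 100 cosets with rank 3 and subdegrees 1, 36, 63. -/
theorem result : ∃ H : Subgroup Cfsg.Spor.J2, H.index = 100 ∧ (∃ (F : Type) (_ : Field F) (_ : Fintype F), Fintype.card F = 9 ∧ Nonempty (↥H ≃* Cfsg.PSU 3 F 3)) ∧ ∃ c₁ c₂ : Cfsg.Spor.J2 ⧸ H, (MulAction.orbit ↥H c₁).ncard = 36 ∧ (MulAction.orbit ↥H c₂).ncard = 63 := by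
  let φ := Agent.Compute.J2.equivJ2.toMonoidHom
  letI : MulAction Cfsg.Spor.J2 (Fin 100) := MulAction.compHom (Fin 100) φ
  let H : Subgroup Cfsg.Spor.J2 := MulAction.stabilizer Cfsg.Spor.J2 (0 : Fin 100)
  have hH : H = Agent.Compute.J2.stab0.comap φ := rfl
  have e : ↥H ≃* ↥Agent.Compute.J2.stab0 :=
    (Agent.Compute.J2.equivJ2.subgroupMap H).trans (MulEquiv.subgroupCongr (by
      rw [hH]; exact Subgroup.map_comap_eq_self_of_surjective Agent.Compute.J2.equivJ2.surjective _))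
  refine ⟨H, ?_, ?_, ?_⟩
  · have h := H.card_mul_index
    rw [Agent.Compute.J2.card_J2, Nat.card_congr e.toEquiv, Agent.Compute.J2.card_stab0] at h
    omega
  · obtain ⟨F, i1, i2, h, ⟨e'⟩⟩ := Agent.Compute.J2.exists_psu
    exact ⟨F, i1, i2, h, ⟨e.trans e'⟩⟩
  · let Φ : Cfsg.Spor.J2 ⧸ H → Fin 100 := MulAction.ofQuotientStabilizer Cfsg.Spor.J2 (0 : Fin 100)
    have hinj : Function.Injective Φ := MulAction.injective_ofQuotientStabilizer _ _
    have hsurj : Function.Surjective Φ := by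
      refine (hinj.bijective_of_nat_card_le ?_).2
      have h := H.card_mul_index
      rw [Agent.Compute.J2.card_J2, Nat.card_congr e.toEquiv, Agent.Compute.J2.card_stab0] at h
      rw [Nat.card_fin, ← Subgroup.index_eq_card]
      omega
    have key : ∀ x : Fin 100, ∃ c : Cfsg.Spor.J2 ⧸ H, (MulAction.orbit ↥H c).ncard =
        (MulAction.orbit Agent.Compute.J2.stab0 x : Set (Fin 100)).ncard := by
      intro x
      obtain ⟨c, rfl⟩ := hsurj x
      refine ⟨c, ?_⟩
      rw [← Set.ncard_image_of_injective _ hinj]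
      congr 1
      have hequiv : ∀ (g : Cfsg.Spor.J2), Φ (g • c) = φ g • Φ c := fun g =>
        MulAction.ofQuotientStabilizer_smul _ _ g c
      ext y
      constructor
      · rintro ⟨_, ⟨g, rfl⟩, rfl⟩
        exact ⟨⟨φ g.1, g.2⟩, (hequiv g.1).symm⟩
      · rintro ⟨g, rfl⟩
        obtain ⟨g', hg'⟩ := Agent.Compute.J2.equivJ2.surjective g.1
        have hm : g' ∈ H := by
          show φ g' • (0 : Fin 100) = 0
          show Agent.Compute.J2.equivJ2 g' • (0 : Fin 100) = 0
          rw [hg']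
          exact g.2
        refine ⟨_, ⟨⟨g', hm⟩, rfl⟩, ?_⟩
        refine (hequiv g').trans ?_
        show Agent.Compute.J2.equivJ2 g' • Φ c = g.1 • Φ c
        rw [hg']
    obtain ⟨c₁, h1⟩ := key Agent.Compute.J2.pP
    obtain ⟨c₂, h2⟩ := key 1
    exact ⟨c₁, c₂, h1.trans Agent.Compute.J2.card_orbit36, h2.trans Agent.Compute.J2.card_orbit63⟩

end Cfsg.Agent.S1624
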