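import Cfsg.Statements.S1628
import Cfsg.Agent.H44.RuEven


set_option autoImplicit false
open Cfsg

namespace Cfsg.Agent.S1628

/-- The Conway–Wales lattice as stored is even with no vectors of true norm 2: stored norms are multiples of 8, never equal to 8, and the minimum over nonzero vectors is 16. -/
theorem result : (∀ x ∈ Cfsg.Spor.ruLattice, (8 : ℤ) ∣ Cfsg.Spor.ruNorm x) ∧ (∀ x ∈ Cfsg.Spor.ruLattice, Cfsg.Spor.ruNorm x ≠ 8) ∧ (∀ x ∈ Cfsg.Spor.ruLattice, x ≠ 0 → 16 ≤ Cfsg.Spor.ruNorm x) ∧ ∃ x ∈ Cfsg.Spor.ruLattice, Cfsg.Spor.ruNorm x = 16 := by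
  have h8 : ∀ x ∈ Cfsg.Spor.ruLattice, (8 : ℤ) ∣ Cfsg.Spor.ruNorm x := fun x hx =>
    H44.Rud.norm_eight (H44.Rud.ruLattice_le hx)
  have hne : ∀ x ∈ Cfsg.Spor.ruLattice, Cfsg.Spor.ruNorm x ≠ 8 := fun x hx h => by
    have e : (fun p => H44.Rud.pPow 0 * x p) = x := funext fun p => one_mul _
    exact H44.Rud.norm_ne_eight 4 0 rfl x (e.symm ▸ H44.Rud.ruLattice_le hx) (e.symm ▸ h)
  refine ⟨h8, hne, fun x hx h0 => ?_, Cfsg.Spor.ruTable.getD 0 0, ?_, ?_⟩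
  · obtain ⟨k, hk⟩ := h8 x hx
    have h1 : 1 ≤ Cfsg.Spor.ruNorm x := by
      obtain ⟨p, hp⟩ := Function.ne_iff.1 h0
      refine le_trans (H44.Rud.one_le_norm hp) ?_
      exact Finset.single_le_sum (f := fun q => (x q).norm)
        (fun q _ => GaussianInt.norm_nonneg _) (Finset.mem_univ p)
    have := hne x hx
    omega
  · rw [Cfsg.Spor.ruLattice, AddSubgroup.mem_sInf]
    intro L hL
    exact hL.1 _ (by simp [Cfsg.Spor.ruTable])
  · decide +kernel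

end Cfsg.Agent.S1628
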