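import Mathlib

/-! Coefficients of the weight twelve level one form with expansion `1 + 0 q + ⋯`. -/

set_option autoImplicit false

namespace Cfsg.Agent.S1632Aux

open ModularForm UpperHalfPlane ModularFormClass EisensteinSeries PowerSeries
open scoped MatrixGroups

lemma coeff_E₄ :
    (qExpansion 1 E₄).coeff 0 = 1 ∧ (qExpansion 1 E₄).coeff 1 = 240 ∧
    (qExpansion 1 E₄).coeff 2 = 2160 ∧ (qExpansion 1 E₄).coeff 3 = 6720 ∧
    (qExpansion 1 E₄).coeff 4 = 17520 := by
  refine ⟨?_, ?_, ?_, ?_, ?_⟩ <;>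
  norm_num [E_qExpansion_coeff _ ⟨2, rfl⟩, show bernoulli 4 = -1 / 30 by decide +kernel,
    show ArithmeticFunction.sigma 3 1 = 1 by decide +kernel,
    show ArithmeticFunction.sigma 3 2 = 9 by decide +kernel,
    show ArithmeticFunction.sigma 3 3 = 28 by decide +kernel,
    show ArithmeticFunction.sigma 3 4 = 73 by decide +kernel]

lemma coeff_E₆ :
    (qExpansion 1 E₆).coeff 0 = 1 ∧ (qExpansion 1 E₆).coeff 1 = -504 ∧
    (qExpansion 1 E₆).coeff 2 = -16632 ∧ (qExpansion 1 E₆).coeff 3 = -122976 ∧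
    (qExpansion 1 E₆).coeff 4 = -532728 := by
  refine ⟨?_, ?_, ?_, ?_, ?_⟩ <;>
  norm_num [E_qExpansion_coeff _ ⟨3, rfl⟩, show bernoulli 6 = 1 / 42 by decide +kernel,
    show ArithmeticFunction.sigma 5 1 = 1 by decide +kernel,
    show ArithmeticFunction.sigma 5 2 = 33 by decide +kernel,
    show ArithmeticFunction.sigma 5 3 = 244 by decide +kernel,
    show ArithmeticFunction.sigma 5 4 = 1057 by decide +kernel]

/-- The combination `(7/12) E₄³ + (5/12) E₆²`. -/
noncomputable def target : ModularForm 𝒮ℒ 12 :=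
  (7 / 12 : ℂ) • ModularForm.mcast (by decide) (E₄.pow 3) +
    (5 / 12 : ℂ) • ModularForm.mcast (by decide) (E₆.pow 2)

lemma target_qExpansion : qExpansion 1 target =
    (7 / 12 : ℂ) • (qExpansion 1 E₄ * qExpansion 1 E₄ * qExpansion 1 E₄) +
      (5 / 12 : ℂ) • (qExpansion 1 E₆ * qExpansion 1 E₆) := by
  rw [target, FunLike.coe_add, ModularForm.qExpansion_add one_pos one_mem_strictPeriods_SL]
  rw [FunLike.coe_smul, FunLike.coe_smul,
    ModularForm.qExpansion_smul one_pos one_mem_strictPeriods_SL,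
    ModularForm.qExpansion_smul one_pos one_mem_strictPeriods_SL]
  simp only [coe_mcast, ModularForm.qExpansion_pow one_pos one_mem_strictPeriods_SL]
  ring_nf

lemma target_coeff :
    (qExpansion 1 target).coeff 0 = 1 ∧ (qExpansion 1 target).coeff 1 = 0 ∧
    (qExpansion 1 target).coeff 2 = 196560 ∧ (qExpansion 1 target).coeff 3 = 16773120 ∧
    (qExpansion 1 target).coeff 4 = 398034000 := by
  obtain ⟨a0, a1, a2, a3, a4⟩ := coeff_E₄
  obtain ⟨b0, b1, b2, b3, b4⟩ := coeff_E₆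
  rw [target_qExpansion]
  refine ⟨?_, ?_, ?_, ?_, ?_⟩ <;>
  norm_num [PowerSeries.coeff_mul, Finset.Nat.antidiagonal_succ,
    -PowerSeries.coeff_zero_eq_constantCoeff, a0, a1, a2, a3, a4, b0, b1, b2, b3, b4]

lemma coeff_eq (f : ModularForm 𝒮ℒ 12) (h0 : (qExpansion 1 f).coeff 0 = 1)
    (h1 : (qExpansion 1 f).coeff 1 = 0) :
    (qExpansion 1 f).coeff 2 = 196560 ∧ (qExpansion 1 f).coeff 3 = 16773120 ∧
    (qExpansion 1 f).coeff 4 = 398034000 := by
  obtain ⟨t0, t1, t2, t3, t4⟩ := target_coeff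
  have hq : qExpansion 1 (f - target) = qExpansion 1 f - qExpansion 1 target :=
    ModularForm.qExpansion_sub one_pos one_mem_strictPeriods_SL f target
  have : f - target = 0 := by
    refine ModularForm.sturm_bound_levelOne_nat (k := 12) (f := f - target) ?_
    refine lt_of_lt_of_le (b := ((2 : ℕ) : ℕ∞)) (by norm_num) (PowerSeries.nat_le_order _ _ ?_)
    intro i hi
    rw [show ((f - target : ModularForm 𝒮ℒ 12) : ℍ → ℂ) = (f : ℍ → ℂ) - target from rfl] at *
    rw [hq, map_sub]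
    interval_cases i
    · rw [h0, t0, sub_self]
    · rw [h1, t1, sub_self]
  rw [sub_eq_zero.1 this]
  exact ⟨t2, t3, t4⟩

end Cfsg.Agent.S1632Aux
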