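import Cfsg.Statements.S1632
import Cfsg.Agent.Arith.ThetaSeries
import Cfsg.Agent.S1632Aux
-- import your own Cfsg.Agent.* helpers here

set_option autoImplicit false
open Matrix
open Cfsg

namespace Cfsg.Agent.S1632

/-- An even unimodular lattice of rank 24 without roots has 196560, 16773120 and 398034000 vectors of norms 4, 6 and 8. -/
theorem result (B : Matrix (Fin 24) (Fin 24) ℤ) (hsymm : B.IsSymm) (hpos : ∀ x : Fin 24 → ℤ, x ≠ 0 → 0 < x ⬝ᵥ (B *ᵥ x)) (heven : ∀ x : Fin 24 → ℤ, (2 : ℤ) ∣ x ⬝ᵥ (B *ᵥ x)) (hdet : B.det = 1) (h2 : ∀ x : Fin 24 → ℤ, x ⬝ᵥ (B *ᵥ x) ≠ 2) : {x : Fin 24 → ℤ | x ⬝ᵥ (B *ᵥ x) = 4}.ncard = 196560 ∧ {x : Fin 24 → ℤ | x ⬝ᵥ (B *ᵥ x) = 6}.ncard = 16773120 ∧ {x : Fin 24 → ℤ | x ⬝ᵥ (B *ᵥ x) = 8}.ncard = 398034000 := by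
  have h : Cfsg.Agent.Arith.ThetaSeries.EvenUnimodular B := ⟨hsymm, hpos, heven, hdet⟩
  have key := fun m => Cfsg.Agent.Arith.ThetaSeries.coeff_thetaForm h m
  have hN0 : {x : Fin 24 → ℤ | Cfsg.Agent.Arith.ThetaSeries.halfNorm B x = 0} = {0} := by
    ext x
    rw [← Cfsg.Agent.Arith.ThetaSeries.ncard_norm h, Set.mem_ofPred_eq, Set.mem_singleton_iff]
    refine ⟨fun hx => ?_, fun hx => by simp [hx]⟩
    by_contra hne
    exact (hpos x hne).ne' (by simpa using hx)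
  have hN1 : {x : Fin 24 → ℤ | Cfsg.Agent.Arith.ThetaSeries.halfNorm B x = 1} = ∅ := by
    rw [← Cfsg.Agent.Arith.ThetaSeries.ncard_norm h]
    ext x
    simpa using h2 x
  have main := Cfsg.Agent.S1632Aux.coeff_eq (Cfsg.Agent.Arith.ThetaSeries.thetaForm h)
    (by simp [key, hN0, -PowerSeries.coeff_zero_eq_constantCoeff])
    (by simp [key, hN1, -PowerSeries.coeff_zero_eq_constantCoeff])
  obtain ⟨c2, c3, c4⟩ := main
  rw [key] at c2 c3 c4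
  have e2 := Cfsg.Agent.Arith.ThetaSeries.ncard_norm h 2
  have e3 := Cfsg.Agent.Arith.ThetaSeries.ncard_norm h 3
  have e4 := Cfsg.Agent.Arith.ThetaSeries.ncard_norm h 4
  simp only [Nat.cast_ofNat, show (2 : ℤ) * 2 = 4 by norm_num, show (2 : ℤ) * 3 = 6 by norm_num,
    show (2 : ℤ) * 4 = 8 by norm_num] at e2 e3 e4
  rw [e2, e3, e4]
  exact ⟨by exact_mod_cast c2, by exact_mod_cast c3, by exact_mod_cast c4⟩

end Cfsg.Agent.S1632
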