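import Cfsg.Statements.S1635
import Cfsg.Agent.H44.Punctured


set_option autoImplicit false
open Cfsg

namespace Cfsg.Agent.S1635

/-- Coset leaders of the length-24 code: a coset contains a unique word of weight ≤ 3, or else exactly six words of weight 4 and none lighter. -/
theorem result (w : Cfsg.GolayPt → ZMod 2) : ({v : Cfsg.GolayPt → ZMod 2 | hammingNorm v ≤ 4 ∧ w - v ∈ Cfsg.golayCode}.ncard = 1 ∧ ∃ v : Cfsg.GolayPt → ZMod 2, hammingNorm v ≤ 3 ∧ w - v ∈ Cfsg.golayCode) ∨ ({v : Cfsg.GolayPt → ZMod 2 | hammingNorm v ≤ 4 ∧ w - v ∈ Cfsg.golayCode}.ncard = 6 ∧ ∀ v : Cfsg.GolayPt → ZMod 2, w - v ∈ Cfsg.golayCode → hammingNorm v ≤ 4 → hammingNorm v = 4) := by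
  classical
  let T : ℕ → Finset (GolayPt → ZMod 2) := fun k => Finset.univ.filter fun v => hammingNorm v = k
  let π : (GolayPt → ZMod 2) → (GolayPt → ZMod 2) ⧸ golayCode := Submodule.Quotient.mk
  let L : Finset (GolayPt → ZMod 2) := Finset.univ.filter fun v => hammingNorm v ≤ 3
  have hLc : L.card = 2325 := by
    have hB : L = T 0 ∪ T 1 ∪ T 2 ∪ T 3 := by ext v; simp only [L, T, Finset.mem_union, Finset.mem_filter, Finset.mem_univ, true_and]; omega
    have hd : ∀ i j, i ≠ j → Disjoint (T i) (T j) := fun i j h =>
      Finset.disjoint_left.2 fun v hi hj => h ((Finset.mem_filter.1 hi).2.symm.trans (Finset.mem_filter.1 hj).2)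
    rw [hB, Finset.card_union_of_disjoint, Finset.card_union_of_disjoint, Finset.card_union_of_disjoint]
    · simp only [T, H44.card_words_norm_eq, Fintype.card_option, ZMod.card]
      decide +kernel
    · exact hd 0 1 (by norm_num)
    · exact Finset.disjoint_union_left.2 ⟨hd 0 2 (by norm_num), hd 1 2 (by norm_num)⟩
    · exact Finset.disjoint_union_left.2 ⟨Finset.disjoint_union_left.2
        ⟨hd 0 3 (by norm_num), hd 1 3 (by norm_num)⟩, hd 2 3 (by norm_num)⟩
  have h4c : (T 4).card = 10626 := by
    simp only [T, H44.card_words_norm_eq, Fintype.card_option, ZMod.card]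
    decide +kernel
  have hdiff : ∀ v v' : GolayPt → ZMod 2, π v = π v' → v ≠ v' →
      8 ≤ (support₂ (v + v')).card := by
    intro v v' h hne
    have hm : v + v' ∈ golayCode := by
      have := (Submodule.Quotient.eq _).1 h
      rwa [sub_eq_add_neg, show (-v' : GolayPt → ZMod 2) = v' from funext fun x => ZMod.neg_eq_self_mod_two _] at this
    have h0 : (support₂ (v + v')).card ≠ 0 := by
      rw [Ne, Finset.card_eq_zero]
      intro e
      apply hne
      funext x
      have hx : v x + v' x = 0 := by
        by_contra hc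
        have : x ∈ support₂ (v + v') := by simp [support₂, hc]
        simp [e] at this
      exact (add_eq_zero_iff_eq_neg.1 hx).trans (ZMod.neg_eq_self_mod_two _)
    rcases Golay.card_support hm with e | e | e | e | e <;> omega
  have hnorm : ∀ v v' : GolayPt → ZMod 2, π v = π v' → v ≠ v' → hammingNorm v ≤ 4 → hammingNorm v' ≤ 4 →
      hammingNorm v = 4 ∧ hammingNorm v' = 4 ∧ Disjoint (support₂ v) (support₂ v') := by
    intro v v' h hne h1 h2
    have h8 := hdiff v v' h hne
    rw [Golay.hammingNorm_eq] at h1 h2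
    rw [Golay.hammingNorm_eq, Golay.hammingNorm_eq]
    have hle : (support₂ (v + v')).card ≤ (support₂ v ∪ support₂ v').card := by
      refine Finset.card_le_card fun x hx => ?_
      rw [Golay.support₂_add, Finset.mem_symmDiff] at hx
      rw [Finset.mem_union]
      rcases hx with ⟨h, -⟩ | ⟨h, -⟩ <;> [left; right] <;> exact h
    have hu := Finset.card_union_add_card_inter (support₂ v) (support₂ v')
    refine ⟨by omega, by omega, ?_⟩
    rw [Finset.disjoint_iff_inter_eq_empty, ← Finset.card_eq_zero]
    omega
  have hL : Set.InjOn π ↑L := by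
    intro v hv v' hv' h
    by_contra hne
    simp only [L, Finset.coe_filter, Finset.mem_univ, true_and, Set.mem_setOf_eq] at hv hv'
    obtain ⟨h4, -, -⟩ := hnorm v v' h hne (by omega) (by omega)
    omega
  have hfib : ∀ b, ((T 4).filter fun v => π v = b).card ≤ 6 := by
    intro b
    have hd : (((T 4).filter fun v => π v = b) : Set (GolayPt → ZMod 2)).PairwiseDisjoint support₂ := by
      intro v hv v' hv' hne
      simp only [Finset.coe_filter, Set.mem_setOf_eq, T, Finset.mem_filter, Finset.mem_univ, true_and] at hv hv'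
      exact (hnorm v v' (hv.2.trans hv'.2.symm) hne (by omega) (by omega)).2.2
    have := Finset.card_biUnion hd
    have hle := Finset.card_le_univ (((T 4).filter fun v => π v = b).biUnion support₂)
    rw [this, Finset.sum_congr rfl (g := fun _ => 4) (fun v hv => by
      have := (Finset.mem_filter.1 (Finset.mem_filter.1 hv).1).2
      rwa [Golay.hammingNorm_eq] at this), Finset.sum_const, Fintype.card_option, ZMod.card,
      smul_eq_mul] at hle
    omega
  have hdisj : Disjoint (L.image π) ((T 4).image π) := by
    rw [Finset.disjoint_left]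
    intro b hb hb'
    obtain ⟨v, hv, rfl⟩ := Finset.mem_image.1 hb
    obtain ⟨v', hv', he⟩ := Finset.mem_image.1 hb'
    simp only [L, T, Finset.mem_filter, Finset.mem_univ, true_and] at hv hv'
    have := (hnorm v v' he.symm (fun e => by subst e; omega) (by omega) (by omega)).1
    omega
  have hq : Fintype.card ((GolayPt → ZMod 2) ⧸ golayCode) = 4096 := by
    have h1 := Submodule.card_eq_card_quotient_mul_card golayCode
    rw [Golay.card_golayCode, Nat.card_fun, Nat.card_zmod, Nat.card_eq_fintype_card (α := Option _),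
      Fintype.card_option, ZMod.card, Nat.card_eq_fintype_card] at h1
    norm_num at h1
    omega
  have h4i : (T 4).card ≤ 6 * ((T 4).image π).card :=
    Finset.card_le_mul_card_image _ 6 fun b _ => hfib b
  have hsum := Finset.card_le_univ (L.image π ∪ (T 4).image π)
  rw [Finset.card_union_of_disjoint hdisj, Finset.card_image_of_injOn hL, hLc, hq] at hsum
  have h4 : ((T 4).image π).card = 1771 := by omega
  have hall : L.image π ∪ (T 4).image π = Finset.univ := by
    apply Finset.eq_univ_of_card
    rw [Finset.card_union_of_disjoint hdisj, Finset.card_image_of_injOn hL, hLc, h4, hq]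
  have hmem : ∀ v : GolayPt → ZMod 2, w - v ∈ golayCode ↔ π v = π w := fun v => by
    rw [eq_comm]; exact (Submodule.Quotient.eq _).symm
  rcases Finset.mem_union.1 (hall.symm ▸ Finset.mem_univ (π w)) with hw | hw
  · obtain ⟨v, hv, hvw⟩ := Finset.mem_image.1 hw
    simp only [L, Finset.mem_filter, Finset.mem_univ, true_and] at hv
    refine Or.inl ⟨?_, v, hv, (hmem v).2 hvw⟩
    rw [Set.ncard_eq_one]
    refine ⟨v, Set.eq_singleton_iff_unique_mem.2 ⟨⟨by omega, (hmem v).2 hvw⟩, fun v' hv' => ?_⟩⟩
    by_contra hne
    have := (hnorm v v' (hvw.trans ((hmem v').1 hv'.2).symm) (Ne.symm hne) (by omega) hv'.1).1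
    omega
  · have hnone : ∀ v, w - v ∈ golayCode → hammingNorm v ≤ 4 → hammingNorm v = 4 := by
      intro v hv hle
      by_contra hne
      exact Finset.disjoint_left.1 hdisj
        (Finset.mem_image.2 ⟨v, by simp [L]; omega, (hmem v).1 hv⟩) hw
    refine Or.inr ⟨?_, hnone⟩
    have hset : {v : GolayPt → ZMod 2 | hammingNorm v ≤ 4 ∧ w - v ∈ golayCode} =
        ↑((T 4).filter fun v => π v = π w) := by
      ext v
      simp only [T, Finset.coe_filter, Finset.mem_filter, Finset.mem_univ, true_and, Set.mem_setOf_eq, ← hmem]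
      exact ⟨fun h => ⟨hnone v h.2 h.1, h.2⟩, fun h => ⟨h.1.le, h.2⟩⟩
    rw [hset, Set.ncard_coe_finset]
    refine le_antisymm (hfib _) ?_
    have hs := Finset.card_eq_sum_card_image π (T 4)
    rw [← Finset.add_sum_erase _ _ hw, h4c] at hs
    have hr := Finset.sum_le_card_nsmul (((T 4).image π).erase (π w))
      (fun b => ((T 4).filter fun v => π v = b).card) 6 (fun b _ => hfib b)
    rw [Finset.card_erase_of_mem hw, h4, smul_eq_mul] at hr
    omega

end Cfsg.Agent.S1635
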