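import Cfsg.Statements.S1637
import Cfsg.Agent.H44.Punctured


set_option autoImplicit false
open Cfsg

namespace Cfsg.Agent.S1637

/-- The punctured length-23 code is a perfect 3-error-correcting code: each word of length 23 is within distance 3 of exactly one codeword. -/
theorem result (u : ZMod 23 → ZMod 2) : ∃! c : ZMod 23 → ZMod 2, c ∈ {u : ZMod 23 → ZMod 2 | ∃ w ∈ Cfsg.golayCode, ∀ x : ZMod 23, u x = w (some x)} ∧ hammingDist u c ≤ 3 := by
  show ∃! c, c ∈ H44.punctCode ∧ hammingDist u c ≤ 3
  classical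
  let P : Finset (ZMod 23 → ZMod 2) := H44.punctCode.toFinite.toFinset
  let T : ℕ → Finset (ZMod 23 → ZMod 2) := fun k => Finset.univ.filter fun v => hammingNorm v = k
  let Ball : Finset (ZMod 23 → ZMod 2) := Finset.univ.filter fun v => hammingNorm v ≤ 3
  have hB : Ball = T 0 ∪ T 1 ∪ T 2 ∪ T 3 := by
    ext v; simp only [Ball, T, Finset.mem_union, Finset.mem_filter, Finset.mem_univ, true_and]; omega
  have hBc : Ball.card = 2048 := by
    have hd : ∀ i j, i ≠ j → Disjoint (T i) (T j) := fun i j h =>
      Finset.disjoint_left.2 fun v hi hj => h ((Finset.mem_filter.1 hi).2.symm.trans (Finset.mem_filter.1 hj).2)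
    rw [hB, Finset.card_union_of_disjoint, Finset.card_union_of_disjoint, Finset.card_union_of_disjoint]
    · simp only [T, H44.card_words_norm_eq, ZMod.card]
      decide
    · exact hd 0 1 (by norm_num)
    · exact Finset.disjoint_union_left.2 ⟨hd 0 2 (by norm_num), hd 1 2 (by norm_num)⟩
    · exact Finset.disjoint_union_left.2 ⟨Finset.disjoint_union_left.2
        ⟨hd 0 3 (by norm_num), hd 1 3 (by norm_num)⟩, hd 2 3 (by norm_num)⟩
  have hPc : P.card = 4096 := by
    rw [← Set.ncard_eq_toFinset_card]; exact H44.ncard_punctCode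
  have hdd : ∀ x y : ZMod 23 → ZMod 2, hammingDist x y = hammingNorm (x + y) := fun x y => by
    rw [hammingDist_eq_hammingNorm, show (-x : ZMod 23 → ZMod 2) = x from funext fun i => ZMod.neg_eq_self_mod_two _]
  have hneg : ∀ x y : ZMod 23 → ZMod 2, x - y = x + y := fun x y => by
    rw [sub_eq_add_neg, show (-y : ZMod 23 → ZMod 2) = y from funext fun i => ZMod.neg_eq_self_mod_two _]
  have hinj : Set.InjOn (fun q : (ZMod 23 → ZMod 2) × (ZMod 23 → ZMod 2) => q.1 + q.2) ↑(P ×ˢ Ball) := by
    rintro ⟨c, e⟩ h ⟨c', e'⟩ h' heq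
    simp only [Finset.coe_product, Set.mem_prod, Finset.mem_coe, P, Set.Finite.mem_toFinset, Ball,
      Finset.mem_filter, Finset.mem_univ, true_and] at h h'
    simp only at heq
    by_cases hc : c = c'
    · subst hc; rw [add_left_cancel heq]
    exfalso
    have h7 := H44.punctCode_dist h.1 h'.1 hc
    have hce : c - c' = e' - e := by rw [sub_eq_sub_iff_add_eq_add, add_comm e', ← heq]
    have ht := hammingDist_triangle e' 0 e
    rw [hammingDist_zero_right, hammingDist_zero_left, hdd] at ht
    rw [hce, hneg] at h7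
    omega
  have hsurj : (P ×ˢ Ball).image (fun q => q.1 + q.2) = Finset.univ := by
    apply Finset.eq_univ_of_card
    rw [Finset.card_image_of_injOn hinj, Finset.card_product, hPc, hBc, Fintype.card_fun, ZMod.card, ZMod.card]
    norm_num
  obtain ⟨⟨c, e⟩, hq, rfl⟩ := Finset.mem_image.1 (hsurj.symm ▸ Finset.mem_univ u)
  simp only [Finset.mem_product, P, Set.Finite.mem_toFinset, Ball, Finset.mem_filter, Finset.mem_univ,
    true_and] at hq
  refine ⟨c, ⟨hq.1, ?_⟩, fun c' hc' => ?_⟩
  · show hammingDist (c + e) c ≤ 3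
    rw [hdd, ← hneg, add_sub_cancel_left]
    exact hq.2
  · have h3 : hammingNorm (c + e - c') ≤ 3 := by rw [hneg, ← hdd]; exact hc'.2
    have := hinj (x₁ := (c', c + e - c')) (x₂ := (c, e))
      (by simpa [P, Ball] using And.intro hc'.1 h3) (by simpa [P, Ball] using hq) (by simp)
    exact congrArg Prod.fst this

end Cfsg.Agent.S1637
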