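import Cfsg.Statements.S1638
import Cfsg.Agent.H44.M22Orbits


set_option autoImplicit false
open scoped Pointwise
open Cfsg

namespace Cfsg.Agent.S1638

open Cfsg.Agent.Golay Cfsg.Agent.H44

lemma pair_mem : ∀ a b : GolayPt, a ≠ b → a ≠ pt 23 → a ≠ pt 0 → b ≠ pt 23 → b ≠ pt 0 →
    maskOf {a, b} ∈ duadList := by
  decide +kernel

lemma duadList_all : (duadList.all fun t => decide (t < 2 ^ 24) && (popCnt t == 2) &&
    !t.testBit 23 && !t.testBit 0) = true := by
  decide +kernel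

lemma mem_duadList {t : Finset GolayPt} :
    maskOf t ∈ duadList ↔ t.card = 2 ∧ pt 23 ∉ t ∧ pt 0 ∉ t := by
  constructor
  · intro h
    have h' := List.all_eq_true.1 duadList_all _ h
    simp only [Bool.and_eq_true, beq_iff_eq, Bool.not_eq_true', popCnt_maskOf] at h'
    refine ⟨h'.1.1.2, ?_, ?_⟩
    · rw [pt_mem_iff (by norm_num), h'.1.2]; simp
    · rw [pt_mem_iff (by norm_num), h'.2]; simp
  · rintro ⟨h2, h23, h0⟩
    obtain ⟨a, b, hab, rfl⟩ := Finset.card_eq_two.1 h2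
    simp only [Finset.mem_insert, Finset.mem_singleton, not_or] at h23 h0
    exact pair_mem a b hab (Ne.symm h23.1) (Ne.symm h0.1) (Ne.symm h23.2) (Ne.symm h0.2)

lemma disjoint_iff_mask (t : Finset GolayPt) :
    Disjoint (ptSet duadRoot) t ↔ (maskOf t &&& duadRoot == 0) = true := by
  rw [beq_iff_eq, Finset.disjoint_iff_inter_eq_empty, Finset.inter_comm]
  conv_lhs => rw [← ptSet_maskOf t, ← ptSet_and, ← ptSet_zero]
  exact ⟨ptSet_injOn (and_lt_full (maskOf_lt t)) (by norm_num), congrArg ptSet⟩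

lemma prop_iff_mask (t : Finset GolayPt) :
    (∃ o ∈ octads, pt 23 ∈ o ∧ pt 0 ∈ o ∧ ptSet duadRoot ∪ t ⊆ o) ↔
      duadProp (maskOf t) = true := by
  have hu : ptSet duadRoot ∪ t = ptSet (duadRoot ||| maskOf t) := by
    rw [ptSet_or, ptSet_maskOf]
  have hlt : duadRoot ||| maskOf t < 2 ^ 24 := Nat.or_lt_two_pow (by decide) (maskOf_lt t)
  rw [duadProp, List.any_eq_true]
  constructor
  · rintro ⟨o, ho, h23, h0, hsub⟩
    refine ⟨maskOf o, mem_hexList.2 ⟨ho, h23, h0⟩, beq_iff_eq.2 ?_⟩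
    refine ptSet_injOn (and_lt_full hlt) hlt ?_
    rw [ptSet_and, ptSet_maskOf, ← hu, Finset.inter_eq_left.2 hsub]
  · rintro ⟨m, hm, h⟩
    have hm' : maskOf (ptSet m) ∈ hexList := by
      rwa [octadList_ptSet_maskOf (List.mem_filter.1 hm).1]
    obtain ⟨ho, h23, h0⟩ := mem_hexList.1 hm'
    refine ⟨ptSet m, ho, h23, h0, ?_⟩
    rw [hu, ← eq_of_beq h, ptSet_and]
    exact Finset.inter_subset_right

lemma exists_base {p q : GolayPt} (hpq : p ≠ q) {s : Finset GolayPt}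
    (hs : s.card = 2 ∧ p ∉ s ∧ q ∉ s) :
    ∃ g ∈ M24, g p = pt 23 ∧ g q = pt 0 ∧ g • s = ptSet duadRoot := by
  obtain ⟨h2, hp, hq⟩ := hs
  obtain ⟨a, b, hab, rfl⟩ := Finset.card_eq_two.1 h2
  simp only [Finset.mem_insert, Finset.mem_singleton, not_or] at hp hq
  obtain ⟨g, hg⟩ := exists_M24_map_points (k := 4) (by norm_num)
    (a := ![p, q, a, b]) (b := ![pt 23, pt 0, pt 1, pt 2])
    (by intro i j; fin_cases i <;> fin_cases j <;>
          simp [hpq, hpq.symm, hab, hab.symm, hp.1, hp.2, hq.1, hq.2, Ne.symm hp.1, Ne.symm hp.2,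
            Ne.symm hq.1, Ne.symm hq.2])
    (by decide)
  refine ⟨g, g.2, hg 0, hg 1, ?_⟩
  have h6 : ptSet duadRoot = ({pt 1, pt 2} : Finset GolayPt) := by decide +kernel
  have ha : (g : Equiv.Perm GolayPt) a = pt 1 := hg 2
  have hb : (g : Equiv.Perm GolayPt) b = pt 2 := hg 3
  rw [h6, Finset.smul_finset_insert, Finset.smul_finset_singleton, Equiv.Perm.smul_def,
    Equiv.Perm.smul_def, ha, hb]

lemma prop_transport {g : Equiv.Perm GolayPt} (hg : g ∈ M24) {p q : GolayPt} (hgp : g p = pt 23)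
    (hgq : g q = pt 0) {s : Finset GolayPt} (hgs : g • s = ptSet duadRoot) (t : Finset GolayPt) :
    (∃ o ∈ octads, p ∈ o ∧ q ∈ o ∧ s ∪ t ⊆ o) ↔ duadProp (maskOf (g • t)) = true := by
  rw [← prop_iff_mask]
  constructor
  · rintro ⟨o, ho, h1, h2, h3⟩
    refine ⟨g • o, smul_mem_octads hg ho, ?_⟩
    rw [← hgp, ← hgq, apply_mem_smul_iff, apply_mem_smul_iff, ← hgs, ← Finset.smul_finset_union,
      Finset.smul_finset_subset_smul_finset_iff]
    exact ⟨h1, h2, h3⟩
  · rintro ⟨o, ho, h⟩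
    refine ⟨g⁻¹ • o, smul_mem_octads (inv_mem hg) ho, ?_⟩
    rw [← smul_inv_smul g o, ← hgp, ← hgq, apply_mem_smul_iff, apply_mem_smul_iff, ← hgs,
      ← Finset.smul_finset_union, Finset.smul_finset_subset_smul_finset_iff] at h
    exact h

lemma card_side {g : Equiv.Perm GolayPt} (hg : g ∈ M24) {p q : GolayPt} (hgp : g p = pt 23)
    (hgq : g q = pt 0) (t : Finset GolayPt) :
    (t.card = 2 ∧ p ∉ t ∧ q ∉ t) ↔ maskOf (g • t) ∈ duadList := by
  rw [mem_duadList, Finset.card_smul_finset, ← hgp, ← hgq, apply_mem_smul_iff, apply_mem_smul_iff]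

lemma ncard_class {g : Equiv.Perm GolayPt} (hg : g ∈ M24) {p q : GolayPt} (hgp : g p = pt 23)
    (hgq : g q = pt 0) {s : Finset GolayPt} (hgs : g • s = ptSet duadRoot) (b : Bool) :
    {t : Finset GolayPt | (t.card = 2 ∧ p ∉ t ∧ q ∉ t) ∧ Disjoint s t ∧
      ((∃ o ∈ octads, p ∈ o ∧ q ∈ o ∧ s ∪ t ⊆ o) ↔ b = true)}.ncard
      = (duadList.filter fun t => (t &&& duadRoot == 0) && (duadProp t == b)).length := by
  have hnd : (duadList.filter fun t => (t &&& duadRoot == 0) && (duadProp t == b)).Nodup := by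
    have h := (isIncr_nodup duad_cert.2.2.2).filter fun t => duadProp t == b
    rw [List.filter_filter] at h
    simpa [Bool.and_comm] using h
  have hlt : ∀ m ∈ duadList.filter fun t => (t &&& duadRoot == 0) && (duadProp t == b),
      m < 2 ^ 24 := by
    intro m hm
    have h' := List.all_eq_true.1 duadList_all _ (List.mem_filter.1 hm).1
    simp only [Bool.and_eq_true, decide_eq_true_eq] at h'
    exact h'.1.1.1
  rw [← ncard_maskOf_mem hnd hlt]
  refine ncard_eq_of_perm g fun t => ?_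
  simp only [Set.mem_ofPred_eq, List.mem_filter, Bool.and_eq_true]
  rw [← disjoint_iff_mask, ← hgs, Finset.disjoint_iff_inter_eq_empty (s := g • s),
    ← Finset.smul_finset_inter, Finset.smul_finset_eq_empty, ← Finset.disjoint_iff_inter_eq_empty,
    ← card_side hg hgp hgq, beq_iff_eq]
  rw [prop_transport hg hgp hgq hgs t, ← Bool.eq_iff_iff]

/-- Fix two points p ≠ q and a pair s of two further points. Among the pairs avoiding p, q and disjoint from s, exactly 30 lie in an octad together with p, q and s and exactly 160 do not; and any two pairs other than s that meet s in equally many points and agree on that octad property are carried to one another by an element of the group of the length-24 code fixing p, q and s. -/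
theorem result (p q : Cfsg.GolayPt) (hpq : p ≠ q) (s : Finset Cfsg.GolayPt) (hs : (s.card = 2 ∧ p ∉ s ∧ q ∉ s)) : {t : Finset Cfsg.GolayPt | (t.card = 2 ∧ p ∉ t ∧ q ∉ t) ∧ Disjoint s t ∧ (∃ o ∈ Cfsg.octads, p ∈ o ∧ q ∈ o ∧ s ∪ t ⊆ o)}.ncard = 30 ∧ {t : Finset Cfsg.GolayPt | (t.card = 2 ∧ p ∉ t ∧ q ∉ t) ∧ Disjoint s t ∧ ¬ (∃ o ∈ Cfsg.octads, p ∈ o ∧ q ∈ o ∧ s ∪ t ⊆ o)}.ncard = 160 ∧ ∀ t t' : Finset Cfsg.GolayPt, (t.card = 2 ∧ p ∉ t ∧ q ∉ t) → (t'.card = 2 ∧ p ∉ t' ∧ q ∉ t') → t ≠ s → t' ≠ s → (s ∩ t).card = (s ∩ t').card → ((∃ o ∈ Cfsg.octads, p ∈ o ∧ q ∈ o ∧ s ∪ t ⊆ o) ↔ (∃ o ∈ Cfsg.octads, p ∈ o ∧ q ∈ o ∧ s ∪ t' ⊆ o)) → ∃ g : Equiv.Perm Cfsg.GolayPt, g ∈ Cfsg.M24 ∧ g p = p ∧ g q = q ∧ g • s = s ∧ g • t = t' := by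
  classical
  obtain ⟨g, hg, hgp, hgq, hgs⟩ := exists_base hpq hs
  refine ⟨?_, ?_, fun t t' ht ht' _ _ hcard hprop => ?_⟩
  · have h := ncard_class hg hgp hgq hgs true
    simp only [iff_true, beq_true] at h
    exact h.trans duad_cert.2.1
  · have h := ncard_class hg hgp hgq hgs false
    simp only [Bool.false_eq_true, iff_false, beq_false] at h
    exact h.trans duad_cert.2.2.1
  have hkey : duadKey (maskOf (g • t)) = duadKey (maskOf (g • t')) := by
    rw [duadKey, duadKey, ← card_inter_ptSet, ← card_inter_ptSet, ← hgs, card_inter_smul,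
      card_inter_smul, hcard]
    rw [Bool.eq_iff_iff.2 ((prop_transport hg hgp hgq hgs t).symm.trans
      (hprop.trans (prop_transport hg hgp hgq hgs t')))]
  obtain ⟨σ, hσ, hσ'⟩ := exists_smul_of_classes' duad_cert.1 ((card_side hg hgp hgq t).1 ht)
    ((card_side hg hgp hgq t').1 ht') hkey
  obtain ⟨h23, h0⟩ := stab_maskTwo hσ
  exact ⟨g⁻¹ * σ * g, conj_mem_M24 hg hσ.1, conj_apply_eq g σ hgp h23, conj_apply_eq g σ hgq h0,
    conj_smul_eq g σ hgs hgs (hσ.2.1 _ (by simp)), conj_smul_eq g σ rfl rfl hσ'⟩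

end Cfsg.Agent.S1638
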