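import Cfsg.Statements.S1641
import Cfsg.Agent.H92.CoThreeFrames
import Cfsg.Agent.H92.CoThreeSubA
import Cfsg.Agent.H92.CoThreeSubB
import Cfsg.Agent.H92.CoThreeSubC

set_option autoImplicit false
open Cfsg

namespace Cfsg.Agent.S1641

open Cfsg.Agent.Golay Cfsg.Agent.H92.LeechOrbit

/-- The third Conway group acts on the 11178 cosets of the Higman–Sims group with rank 5 and subdegrees 1, 352, 1100, 4125, 5600. -/
theorem result (u x : ↥Cfsg.leechLattice) (hu : Cfsg.sqNorm (u : Cfsg.GolayPt → ℤ) = 48) (hx : x ∈ {x : ↥Cfsg.leechLattice | Cfsg.sqNorm (x : Cfsg.GolayPt → ℤ) = 32 ∧ Cfsg.dotInt (u : Cfsg.GolayPt → ℤ) (x : Cfsg.GolayPt → ℤ) = -16}) : ∃ y₁ ∈ {x : ↥Cfsg.leechLattice | Cfsg.sqNorm (x : Cfsg.GolayPt → ℤ) = 32 ∧ Cfsg.dotInt (u : Cfsg.GolayPt → ℤ) (x : Cfsg.GolayPt → ℤ) = -16}, ∃ y₂ ∈ {x : ↥Cfsg.leechLattice | Cfsg.sqNorm (x : Cfsg.GolayPt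 → ℤ) = 32 ∧ Cfsg.dotInt (u : Cfsg.GolayPt → ℤ) (x : Cfsg.GolayPt → ℤ) = -16}, ∃ y₃ ∈ {x : ↥Cfsg.leechLattice | Cfsg.sqNorm (x : Cfsg.GolayPt → ℤ) = 32 ∧ Cfsg.dotInt (u : Cfsg.GolayPt → ℤ) (x : Cfsg.GolayPt → ℤ) = -16}, ∃ y₄ ∈ {x : ↥Cfsg.leechLattice | Cfsg.sqNorm (x : Cfsg.GolayPt → ℤ) = 32 ∧ Cfsg.dotInt (u : Cfsg.GolayPt → ℤ) (x : Cfsg.GolayPt → ℤ) = -16}, (MulAction.orbit ↥(MulAction.stabilizer ↥Cfsg.Co0 u ⊓ MulAction.stabilizer ↥Cfsg.Co0 x) y₁).ncard = 352 ∧ (MulAction.orbit ↥(MulAction.stabilizer ↥Cfsg.Co0 u ⊓ MulAction.stabilizer ↥Cfsg.Co0 x) y₂).ncard = 1100 ∧ (MulAction.orbit ↥(MulAction.stabilizer ↥Cfsg.Co0 u ⊓ MulAction.stabilizer ↥Cfsg.Co0 x) y₃).ncard = 4125 ∧ (MulAction.orbit ↥(MulAction.stabilizer ↥Cfsg.Co0 u ⊓ MulAction.stabilizer ↥Cfsg.Co0 x) y₄).ncard = 5600 ∧ {x : ↥Cfsg.leechLattice | Cfsg.sqNorm (x : Cfsg.GolayPt → ℤ) = 32 ∧ Cfsg.dotInt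 (u : Cfsg.GolayPt → ℤ) (x : Cfsg.GolayPt → ℤ) = -16} = {x} ∪ MulAction.orbit ↥(MulAction.stabilizer ↥Cfsg.Co0 u ⊓ MulAction.stabilizer ↥Cfsg.Co0 x) y₁ ∪ MulAction.orbit ↥(MulAction.stabilizer ↥Cfsg.Co0 u ⊓ MulAction.stabilizer ↥Cfsg.Co0 x) y₂ ∪ MulAction.orbit ↥(MulAction.stabilizer ↥Cfsg.Co0 u ⊓ MulAction.stabilizer ↥Cfsg.Co0 x) y₃ ∪ MulAction.orbit ↥(MulAction.stabilizer ↥Cfsg.Co0 u ⊓ MulAction.stabilizer ↥Cfsg.Co0 x) y₄ := by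
  obtain ⟨k, hF⟩ := frame_co3 u hu
  obtain ⟨hx1, hx2⟩ := hx
  have hx' : x ∈ atSet [(u, -16)] := ⟨hx1, by simp [hx2]⟩
  have hroot : Nat.beq (co3Cert.code co3Cert.root) x32Code = true := by decide +kernel
  have key : ∀ (C : Cert) (d : ℤ), certOK C = true → Cover C →
      C.refs = co3Cert.refs ++ [(x32Code, d)] → 0 < C.N →
      ∃ y ∈ atSet [(u, -16)],
        MulAction.orbit ↥(MulAction.stabilizer ↥Cfsg.Co0 u ⊓ MulAction.stabilizer ↥Cfsg.Co0 x) y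
          = atSet ([(u, -16)] ++ [(x, d)]) ∧
        (MulAction.orbit ↥(MulAction.stabilizer ↥Cfsg.Co0 u ⊓ MulAction.stabilizer ↥Cfsg.Co0 x) y).ncard
          = C.N := by
    intro C d hok hcov hrefs hpos
    obtain ⟨k', hK⟩ := hF.extend co3Cert_ok co3Cert_cover (C' := C) (d := d) hroot hrefs hx'
    have hn := hK.ncard hok hcov
    obtain ⟨y, hy⟩ := Set.nonempty_of_ncard_ne_zero (s := atSet ([(u, -16)] ++ [(x, d)]))
      (by omega)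
    have ho := hK.orbit hok hcov (H := MulAction.stabilizer ↥Cfsg.Co0 u ⊓ MulAction.stabilizer ↥Cfsg.Co0 x)
      (fun g => by simp [Subgroup.mem_inf, MulAction.mem_stabilizer_iff]) hy
    exact ⟨y, ⟨hy.1, fun p hp => hy.2 p (List.mem_append_left _ hp)⟩, ho, by rw [ho, hn]⟩
  have e : atSet [(u, -16)] = {x : ↥Cfsg.leechLattice | Cfsg.sqNorm (x : Cfsg.GolayPt → ℤ) = 32 ∧
      Cfsg.dotInt (u : Cfsg.GolayPt → ℤ) (x : Cfsg.GolayPt → ℤ) = -16} := by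
    ext z; simp [atSet]
  rw [← e]
  obtain ⟨y₁, h1, o1, e1⟩ := key co3NegCert (-8) co3NegCert_ok co3NegCert_cover rfl (by decide)
  obtain ⟨y₂, h2, o2, e2⟩ := key co3HighCert 16 co3HighCert_ok co3HighCert_cover rfl (by decide)
  obtain ⟨y₃, h3, o3, e3⟩ := key co3ZeroCert 0 co3ZeroCert_ok co3ZeroCert_cover rfl (by decide)
  obtain ⟨y₄, h4, o4, e4⟩ := key co3LowCert 8 co3LowCert_ok co3LowCert_cover rfl (by decide)
  refine ⟨y₁, h1, y₂, h2, y₃, h3, y₄, h4, e1, e2, e3, e4, ?_⟩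
  rw [o1, o2, o3, o4]
  refine Set.Subset.antisymm (fun y hy => ?_) ?_
  · by_cases hne : y = x
    · subst hne; simp
    have := hF.cases co3Cert_ok co3Cert_cover hroot (ds := [-8, 16, 0, 8]) (by decide +kernel) hx' hy hne
    simp only [List.mem_cons, List.not_mem_nil, or_false] at this
    obtain ⟨hn, hd⟩ := hy
    have hd' := hd (u, -16) (by simp)
    simp only [Set.mem_union, Set.mem_singleton_iff, atSet, Set.mem_setOf_eq, List.cons_append,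
      List.nil_append, List.forall_mem_cons, List.mem_singleton, forall_eq]
    rcases this with h | h | h | h
    · exact Or.inl (Or.inl (Or.inl (Or.inr ⟨hn, hd', h⟩)))
    · exact Or.inl (Or.inl (Or.inr ⟨hn, hd', h⟩))
    · exact Or.inl (Or.inr ⟨hn, hd', h⟩)
    · exact Or.inr ⟨hn, hd', h⟩
  · rintro y ((((hy | hy) | hy) | hy) | hy)
    · rw [hy]; exact hx'
    all_goals exact ⟨hy.1, fun p hp => hy.2 p (List.mem_append_left _ hp)⟩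

end Cfsg.Agent.S1641
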