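import Cfsg.Statements.S1642
import Cfsg.Agent.H92.CoThreeFrames
import Cfsg.Agent.H92.HSOrbit

set_option autoImplicit false
open Cfsg

namespace Cfsg.Agent.S1642

open Cfsg.Agent.Golay Cfsg.Agent.H92.LeechOrbit

/-- A point is moved by a monomial step, after a word. -/
noncomputable def moved (m : List Atom) (e : Atom) (n : ℕ) : Bool :=
  match e, m with
  | .mono _ S T, [.mono _ S' T', .zeta] =>
    chk m n (zetaApp (monoApp S' T' n)) && nzOK (zetaApp (monoApp S' T' n)) &&
      (List.range 24).any fun i =>
        fld (monoApp S T (zetaApp (monoApp S' T' n))) i != fld (zetaApp (monoApp S' T' n)) i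
  | _, _ => false

lemma moved_spec {m : List Atom} {e : Atom} (he : atomOK e = true) (hm : m.all atomOK = true)
    {n : ℕ} (h : moved m e n = true) {z : Cfsg.leechLattice} (hz : z.1 = dec n) :
    ¬ atomEl e • wordEl m • z = wordEl m • z := by
  match e, m, h with
  | .mono s S T, [.mono s' S' T', .zeta], h =>
    simp only [moved, Bool.and_eq_true, List.any_eq_true, bne_iff_ne] at h
    obtain ⟨⟨h1, h2⟩, i, hi, hne⟩ := h
    intro hh
    have a := chk_sound hm h1 hz
    have b : (atomEl (.mono s S T) • wordEl [.mono s' S' T', .zeta] • z : Cfsg.leechLattice).1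
        = dec (monoApp S T (zetaApp (monoApp S' T' n))) :=
      monoRel_sound he (by rw [monoRel, h2, Bool.true_and]; exact Nat.beq_refl _) a
    rw [hh, a] at b
    have := congrFun b (pt i)
    simp only [dec, idx_pt i (List.mem_range.1 hi)] at this
    omega

/-- A monomial atom whose table and signs square to the identity. -/
lemma involution_of_table {s S T : ℕ} (hok : atomOK (.mono s S T) = true)
    (h : ∀ i < 24, app T (app T i) = i ∧ s.testBit (app T i) = s.testBit i) :
    atomEl (.mono s S T) * atomEl (.mono s S T) = (1 : Cfsg.Co0) := by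
  have hT : validT T = true := by
    simp only [atomOK, Bool.and_eq_true] at hok; exact validT_of_inM24 hok.1.2
  refine Subtype.ext (Equiv.ext fun z => Subtype.ext (funext fun q => ?_))
  show (atomEl (.mono s S T) • atomEl (.mono s S T) • z : Cfsg.leechLattice).1 q = z.1 q
  obtain ⟨h1, h2⟩ := h (idx q) (idx_lt q)
  have hlt := (validT_bijective hT).2 _ (idx_lt q)
  have e1 := monoEl_apply hok (atomEl (.mono s S T) • z) (pt (app T (idx q)))
  have e2 := monoEl_apply hok z q
  rw [idx_pt _ hlt, h1, pt_idx] at e1
  rw [e1, e2, h2]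
  cases s.testBit (idx q) <;> simp

set_option maxRecDepth 4000 in
/-- Some involution of the Higman–Sims group acts without fixed points on its 100 points. -/
theorem result (v w : ↥Cfsg.leechLattice) (hv : Cfsg.sqNorm (v : Cfsg.GolayPt → ℤ) = 48) (hw : Cfsg.sqNorm (w : Cfsg.GolayPt → ℤ) = 48) (hvw : Cfsg.dotInt (v : Cfsg.GolayPt → ℤ) (w : Cfsg.GolayPt → ℤ) = -32) : ∃ g : ↥Cfsg.Co0, g • v = v ∧ g • w = w ∧ orderOf g = 2 ∧ ∀ x ∈ {x : ↥Cfsg.leechLattice | Cfsg.sqNorm (x : Cfsg.GolayPt → ℤ) = 32 ∧ Cfsg.dotInt (v : Cfsg.GolayPt → ℤ) (x : Cfsg.GolayPt → ℤ) = 24 ∧ Cfsg.dotInt (w : Cfsg.GolayPt → ℤ) (x : Cfsg.GolayPt → ℤ) = -24}, g • x ≠ x := by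
  obtain ⟨k, hv', hw'⟩ := exists_move_pair v w hv hw hvw
  have hF : Frame hsCert [(v, 24), (w, -24)] k := by
    show [((k • v : Cfsg.leechLattice).1, (24 : ℤ)), ((k • w : Cfsg.leechLattice).1, (-24 : ℤ))] = _
    rw [hv', hw']
    rfl
  set ε : Atom := Atom.mono 8295236 330117325286110780631023872 195061771876576011690458442646955043
  set m : List Atom := [Atom.mono 2412863 19347536705577514358083857 760721723038204094784385347809884428, Atom.zeta]
  have hok : atomOK ε = true ∧ m.all atomOK = true := by decide +kernel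
  have hfix : ((chk m u48Code (zetaApp (monoApp 19347536705577514358083857 760721723038204094784385347809884428 u48Code)) &&
      rel ε (zetaApp (monoApp 19347536705577514358083857 760721723038204094784385347809884428 u48Code))
        (zetaApp (monoApp 19347536705577514358083857 760721723038204094784385347809884428 u48Code))) &&
      (chk m w48Code (zetaApp (monoApp 19347536705577514358083857 760721723038204094784385347809884428 w48Code)) &&
      rel ε (zetaApp (monoApp 19347536705577514358083857 760721723038204094784385347809884428 w48Code))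
        (zetaApp (monoApp 19347536705577514358083857 760721723038204094784385347809884428 w48Code)))) = true := by
    decide +kernel
  simp only [Bool.and_eq_true] at hfix
  have hfree : (allBelow hsCert.N fun i => moved m ε (hsCert.code i)) = true := by decide +kernel
  set E : Cfsg.Co0 := atomEl ε
  set J : Cfsg.Co0 := (wordEl m * k)⁻¹ * E * (wordEl m * k)
  have fixRef : ∀ {z : Cfsg.leechLattice} {n n' : ℕ}, (k • z : Cfsg.leechLattice).1 = dec n →
      chk m n n' = true → rel ε n' n' = true → J • z = z := by
    intro z n n' h1 h2 h3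
    have a := chk_sound hok.2 h2 h1
    have b : E • wordEl m • k • z = wordEl m • k • z :=
      Subtype.ext ((rel_sound hok.1 h3 a).trans a.symm)
    simp only [J, mul_smul, mul_inv_rev, b, inv_smul_smul]
  have hJv : J • v = v := fixRef (congrArg Subtype.val hv') hfix.1.1 hfix.1.2
  have hJw : J • w = w := fixRef (congrArg Subtype.val hw') hfix.2.1 hfix.2.2
  have free : ∀ x ∈ atSet [(v, 24), (w, -24)], J • x ≠ x := by
    intro x hx he
    obtain ⟨n, hn, hnx⟩ := hF.test hsCert_cover (p := fun i => moved m ε i) hfree hx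
    have hmv := moved_spec hok.1 hok.2 (z := k • x) hn hnx
    have h1 : (wordEl m * k)⁻¹ • E • (wordEl m * k) • x = x := by
      rw [← mul_smul, ← mul_smul]
      exact he
    rw [inv_smul_eq_iff, mul_smul] at h1
    exact hmv h1
  have hne : E ≠ 1 := by
    intro h
    obtain ⟨x, hx⟩ := Set.nonempty_of_ncard_ne_zero (s := atSet [(v, 24), (w, -24)])
      (by rw [hF.ncard hsCert_ok hsCert_cover]; decide)
    exact free x hx (by simp [J, h])
  have hsq : E * E = 1 := involution_of_table hok.1 (by decide +kernel)
  refine ⟨J, hJv, hJw, ?_, ?_⟩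
  · rw [show J = MulAut.conj (wordEl m * k)⁻¹ E by simp [J, MulAut.conj_apply, mul_assoc],
      MulEquiv.orderOf_eq, orderOf_eq_prime_iff]
    exact ⟨by rw [pow_two, hsq], hne⟩
  · rintro x ⟨a, b, c⟩
    exact free x ⟨a, by simp [b, c]⟩

end Cfsg.Agent.S1642
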