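import Cfsg.Statements.S1643
import Cfsg.Agent.H44.L23Max
import Cfsg.Agent.Golay.Transport


set_option autoImplicit false
open scoped Pointwise
open Cfsg

namespace Cfsg.Agent.S1643

open Cfsg.Agent.Golay Cfsg.Agent.H44

lemma coatom_line : IsCoatom (line23.subgroupOf M24) := by
  refine ⟨fun h => ?_, fun H hlt => ?_⟩
  · rw [Subgroup.subgroupOf_eq_top] at h
    have := Subgroup.card_dvd_of_le h
    rw [card_line23, card_M24] at this
    norm_num at this
  · have hle : H.map M24.subtype ≤ M24 := Subgroup.map_subtype_le _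
    have hge : line23 ≤ H.map M24.subtype := fun σ hσ =>
      ⟨⟨σ, line23_le hσ⟩, hlt.le (show (⟨σ, line23_le hσ⟩ : M24) ∈ line23.subgroupOf M24 from hσ), rfl⟩
    rcases eq_or_eq_of_line23_le hge hle with h | h
    · refine absurd ?_ hlt.ne
      ext x
      rw [Subgroup.mem_subgroupOf, ← h]
      exact ⟨fun ⟨y, hy, e⟩ => (Subtype.ext e : y = x) ▸ hy, fun hx => ⟨x, hx, rfl⟩⟩
    · refine eq_top_iff.2 fun x _ => ?_
      obtain ⟨y, hy, e⟩ : (x : Equiv.Perm GolayPt) ∈ H.map M24.subtype := h.symm ▸ x.2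
      exact (Subtype.ext e : y = x) ▸ hy

lemma coatom_frob :
    IsCoatom ((frob253.subgroupOf M24).subgroupOf (MulAction.stabilizer M24 (none : GolayPt))) := by
  set S := MulAction.stabilizer M24 (none : GolayPt) with hS
  have hbase : baseTwentyThree = Spor.M23 := spor_M23_eq.symm
  have hSmap : S.map M24.subtype = baseTwentyThree := by rw [hS, stabilizer_M24_none, hbase]
  have hmem : ∀ σ ∈ frob253, ∃ x : S, ((x : M24) : Equiv.Perm GolayPt) = σ := by
    intro σ hσ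
    have : σ ∈ S.map M24.subtype := hSmap ▸ frob253_le hσ
    obtain ⟨y, hy, e⟩ := this
    exact ⟨⟨y, hy⟩, e⟩
  refine ⟨fun h => ?_, fun H hlt => ?_⟩
  · have : baseTwentyThree ≤ frob253 := by
      intro σ hσ
      rw [← hSmap] at hσ
      obtain ⟨y, hy, rfl⟩ := hσ
      exact (Subgroup.eq_top_iff' _).1 h ⟨y, hy⟩
    have := Subgroup.card_dvd_of_le this
    rw [card_frob253, card_baseTwentyThree] at this
    norm_num at this
  · have hle : (H.map S.subtype).map M24.subtype ≤ baseTwentyThree :=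
      hSmap ▸ Subgroup.map_mono (Subgroup.map_subtype_le _)
    have hge : frob253 ≤ (H.map S.subtype).map M24.subtype := by
      intro σ hσ
      obtain ⟨x, hx⟩ := hmem σ hσ
      refine ⟨(x : M24), ⟨x, hlt.le ?_, rfl⟩, hx⟩
      show ((x : M24) : Equiv.Perm GolayPt) ∈ frob253
      exact hx ▸ hσ
    have key : ∀ x : S, ((x : M24) : Equiv.Perm GolayPt) ∈ (H.map S.subtype).map M24.subtype → x ∈ H := by
      rintro x ⟨y, ⟨z, hz, rfl⟩, e⟩
      exact (Subtype.ext (Subtype.ext e) : z = x) ▸ hz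
    rcases eq_or_eq_of_frob253_le hge hle with h | h
    · refine absurd (le_antisymm hlt.le fun x hx => ?_) hlt.ne
      show ((x : M24) : Equiv.Perm GolayPt) ∈ frob253
      rw [← h]
      exact ⟨_, ⟨x, hx, rfl⟩, rfl⟩
    · refine eq_top_iff.2 fun x _ => key x ?_
      rw [h, ← hSmap]
      exact ⟨_, x.2, rfl⟩

/-- PSL(2, 23) = ⟨t ↦ t+1, t ↦ u t (u square), t ↦ −1/t⟩ is maximal of order 6072 in the group of the length-24 code, and its point stabiliser 23:11 (order 253) is maximal in the Mathieu group of degree 23. -/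
theorem result : (Subgroup.closure ({Equiv.optionCongr (Equiv.addRight (1 : ZMod 23)), Cfsg.projInv} ∪ {g : Equiv.Perm Cfsg.GolayPt | ∃ u : (ZMod 23)ˣ, IsSquare u ∧ g = Equiv.optionCongr (Units.mulLeft u)}) ≤ Cfsg.M24 ∧ Nat.card ↥(Subgroup.closure ({Equiv.optionCongr (Equiv.addRight (1 : ZMod 23)), Cfsg.projInv} ∪ {g : Equiv.Perm Cfsg.GolayPt | ∃ u : (ZMod 23)ˣ, IsSquare u ∧ g = Equiv.optionCongr (Units.mulLeft u)})) = 6072 ∧ IsCoatom ((Subgroup.closure ({Equiv.optionCongr (Equiv.addRight (1 : ZMod 23)), Cfsg.projInv} ∪ {g : Equiv.Perm Cfsg.GolayPt | ∃ u : (ZMod 23)ˣ, IsSquare u ∧ g = Equiv.optionCongr (Units.mulLeft u)})).subgroupOf Cfsg.M24)) ∧ (Subgroup.closure ({Equiv.optionCongr (Equiv.addRight (1 : ZMod 23))} ∪ {g : Equiv.Perm Cfsg.GolayPt | ∃ u : (ZMod 23)ˣ, IsSquare u ∧ g = Equiv.optionCongr (Units.mulLeft u)}) ≤ Cfsg.M24 ⊓ MulAction.stabilizer (Equiv.Perm Cfsg.GolayPt) (none : Cfsg.GolayPt) ∧ Nat.card ↥(Subgroup.closure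 ({Equiv.optionCongr (Equiv.addRight (1 : ZMod 23))} ∪ {g : Equiv.Perm Cfsg.GolayPt | ∃ u : (ZMod 23)ˣ, IsSquare u ∧ g = Equiv.optionCongr (Units.mulLeft u)})) = 253 ∧ IsCoatom (((Subgroup.closure ({Equiv.optionCongr (Equiv.addRight (1 : ZMod 23))} ∪ {g : Equiv.Perm Cfsg.GolayPt | ∃ u : (ZMod 23)ˣ, IsSquare u ∧ g = Equiv.optionCongr (Units.mulLeft u)})).subgroupOf Cfsg.M24).subgroupOf (MulAction.stabilizer Cfsg.M24 (none : Cfsg.GolayPt)))) := by
  have hle : frob253 ≤ Cfsg.M24 ⊓ MulAction.stabilizer (Equiv.Perm Cfsg.GolayPt) (none : Cfsg.GolayPt) :=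
    fun σ hσ => by
      have h : σ ∈ Spor.M23 := by rw [spor_M23_eq]; exact frob253_le hσ
      exact h
  exact ⟨⟨line23_le, card_line23, coatom_line⟩, hle, card_frob253, coatom_frob⟩

end Cfsg.Agent.S1643
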