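import Cfsg.Statements.S1679
import Cfsg.Agent.H59.SuzG2

set_option autoImplicit false
open Cfsg

namespace Cfsg.Agent.S1679

open Cfsg.Agent.H45 in
theorem sub_eq : (((Subgroup.closure ({Cfsg.Spor.Suz.a, Cfsg.Spor.Suz.b, Cfsg.Spor.Suz.c, Cfsg.Spor.Suz.d, Cfsg.Spor.Suz.e, Cfsg.Spor.Suz.f} : Set (FreeGroup Cfsg.Spor.Suz.Gen))).map (PresentedGroup.mk (Cfsg.Spor.coxRelators Cfsg.Spor.Suz.edges ∪ {r | r ∈ Cfsg.Spor.Suz.extra}))) : Subgroup Cfsg.Spor.Suz) = SuzMain.H := by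
  rw [MonoidHom.map_closure]
  change _ = SuzPres.pres.wsub SuzI1782.subWords
  rw [Pres.wsub]
  congr 1
  have he : ∀ i, evalW SuzPres.pres.e [i] = SuzPres.pres.e i := fun i => mul_one _
  ext g
  constructor
  · rintro ⟨r, hr, rfl⟩
    simp only [Set.mem_insert_iff, Set.mem_singleton_iff] at hr
    rcases hr with rfl | rfl | rfl | rfl | rfl | rfl
    exacts [⟨[0], by simp [SuzI1782.subWords], (he 0).trans rfl⟩,
      ⟨[1], by simp [SuzI1782.subWords], (he 1).trans rfl⟩,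
      ⟨[2], by simp [SuzI1782.subWords], (he 2).trans rfl⟩,
      ⟨[3], by simp [SuzI1782.subWords], (he 3).trans rfl⟩,
      ⟨[4], by simp [SuzI1782.subWords], (he 4).trans rfl⟩,
      ⟨[5], by simp [SuzI1782.subWords], (he 5).trans rfl⟩]
  · rintro ⟨w, hw, rfl⟩
    simp only [SuzI1782.subWords, List.mem_cons, List.not_mem_nil, or_false] at hw
    rcases hw with rfl | rfl | rfl | rfl | rfl | rfl
    exacts [⟨Cfsg.Spor.Suz.a, by simp, ((he 0).trans rfl).symm⟩,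
      ⟨Cfsg.Spor.Suz.b, by simp, ((he 1).trans rfl).symm⟩,
      ⟨Cfsg.Spor.Suz.c, by simp, ((he 2).trans rfl).symm⟩,
      ⟨Cfsg.Spor.Suz.d, by simp, ((he 3).trans rfl).symm⟩,
      ⟨Cfsg.Spor.Suz.e, by simp, ((he 4).trans rfl).symm⟩,
      ⟨Cfsg.Spor.Suz.f, by simp, ((he 5).trans rfl).symm⟩]

/-- In the presented sporadic Suzuki group (generators a, …, g), the subgroup generated by the images of a, …, f is isomorphic to the adjoint Chevalley group of type G₂ over a field with four elements. -/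
theorem result : ∃ (K : Type) (_ : Field K) (_ : Fintype K), Fintype.card K = 4 ∧ Nonempty ((((Subgroup.closure ({Cfsg.Spor.Suz.a, Cfsg.Spor.Suz.b, Cfsg.Spor.Suz.c, Cfsg.Spor.Suz.d, Cfsg.Spor.Suz.e, Cfsg.Spor.Suz.f} : Set (FreeGroup Cfsg.Spor.Suz.Gen))).map (PresentedGroup.mk (Cfsg.Spor.coxRelators Cfsg.Spor.Suz.edges ∪ {r | r ∈ Cfsg.Spor.Suz.extra})))) ≃* Cfsg.Lie.chevG2.group K) := by
  rw [sub_eq]
  exact ⟨Cfsg.Agent.H59.HeSp4.F4, inferInstance, inferInstance, Cfsg.Agent.H59.HeSp4.card_F4,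
    Cfsg.Agent.H59.SuzG2.exists_equiv⟩

end Cfsg.Agent.S1679
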