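import Cfsg.Statements.S1680
import Cfsg.Agent.H45.SuzMain

set_option autoImplicit false
open Cfsg

namespace Cfsg.Agent.S1680

open Cfsg.Agent.H45 in
theorem sub_eq : (((Subgroup.closure ({Cfsg.Spor.Suz.a, Cfsg.Spor.Suz.b, Cfsg.Spor.Suz.c, Cfsg.Spor.Suz.d, Cfsg.Spor.Suz.e, Cfsg.Spor.Suz.f} : Set (FreeGroup Cfsg.Spor.Suz.Gen))).map (PresentedGroup.mk (Cfsg.Spor.coxRelators Cfsg.Spor.Suz.edges ∪ {r | r ∈ Cfsg.Spor.Suz.extra}))) : Subgroup Cfsg.Spor.Suz) = SuzMain.H := by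
  change _ = SuzPres.pres.wsub SuzI1782.subWords
  rw [Pres.wsub, MonoidHom.map_closure]
  congr 1
  have he : ∀ i, evalW SuzPres.pres.e [i] = SuzPres.pres.e i := fun i => mul_one _
  ext g
  constructor
  · rintro ⟨r, hr, rfl⟩
    simp only [Set.mem_insert_iff, Set.mem_singleton_iff] at hr
    rcases hr with rfl | rfl | rfl | rfl | rfl | rfl
    exacts [⟨[0], by decide, (he 0).trans rfl⟩, ⟨[1], by decide, (he 1).trans rfl⟩,
      ⟨[2], by decide, (he 2).trans rfl⟩, ⟨[3], by decide, (he 3).trans rfl⟩,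
      ⟨[4], by decide, (he 4).trans rfl⟩, ⟨[5], by decide, (he 5).trans rfl⟩]
  · rintro ⟨w, hw, rfl⟩
    simp only [SuzI1782.subWords, List.mem_cons, List.not_mem_nil, or_false] at hw
    rcases hw with rfl | rfl | rfl | rfl | rfl | rfl
    exacts [⟨Cfsg.Spor.Suz.a, by simp, ((he 0).trans rfl).symm⟩,
      ⟨Cfsg.Spor.Suz.b, by simp, ((he 1).trans rfl).symm⟩,
      ⟨Cfsg.Spor.Suz.c, by simp, ((he 2).trans rfl).symm⟩,
      ⟨Cfsg.Spor.Suz.d, by simp, ((he 3).trans rfl).symm⟩,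
      ⟨Cfsg.Spor.Suz.e, by simp, ((he 4).trans rfl).symm⟩,
      ⟨Cfsg.Spor.Suz.f, by simp, ((he 5).trans rfl).symm⟩]


/-- In the presented sporadic Suzuki group, let H be the subgroup generated by the images of a, …, f. Then H has index 1782, H has orbits of sizes 416 and 1365 on the cosets of H other than H itself (with the index 1782 this makes the action rank 3). -/
theorem result : (((Subgroup.closure ({Cfsg.Spor.Suz.a, Cfsg.Spor.Suz.b, Cfsg.Spor.Suz.c, Cfsg.Spor.Suz.d, Cfsg.Spor.Suz.e, Cfsg.Spor.Suz.f} : Set (FreeGroup Cfsg.Spor.Suz.Gen))).map (PresentedGroup.mk (Cfsg.Spor.coxRelators Cfsg.Spor.Suz.edges ∪ {r | r ∈ Cfsg.Spor.Suz.extra})))).index = 1782 ∧ ∃ q₁ q₂ : Cfsg.Spor.Suz ⧸ (((Subgroup.closure ({Cfsg.Spor.Suz.a, Cfsg.Spor.Suz.b, Cfsg.Spor.Suz.c, Cfsg.Spor.Suz.d, Cfsg.Spor.Suz.e, Cfsg.Spor.Suz.f} : Set (FreeGroup Cfsg.Spor.Suz.Gen))).map (PresentedGroup.mk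 (Cfsg.Spor.coxRelators Cfsg.Spor.Suz.edges ∪ {r | r ∈ Cfsg.Spor.Suz.extra})))), (MulAction.orbit (((Subgroup.closure ({Cfsg.Spor.Suz.a, Cfsg.Spor.Suz.b, Cfsg.Spor.Suz.c, Cfsg.Spor.Suz.d, Cfsg.Spor.Suz.e, Cfsg.Spor.Suz.f} : Set (FreeGroup Cfsg.Spor.Suz.Gen))).map (PresentedGroup.mk (Cfsg.Spor.coxRelators Cfsg.Spor.Suz.edges ∪ {r | r ∈ Cfsg.Spor.Suz.extra})))) q₁).ncard = 416 ∧ (MulAction.orbit (((Subgroup.closure ({Cfsg.Spor.Suz.a, Cfsg.Spor.Suz.b, Cfsg.Spor.Suz.c, Cfsg.Spor.Suz.d, Cfsg.Spor.Suz.e, Cfsg.Spor.Suz.f} : Set (FreeGroup Cfsg.Spor.Suz.Gen))).map (PresentedGroup.mk (Cfsg.Spor.coxRelators Cfsg.Spor.Suz.edges ∪ {r | r ∈ Cfsg.Spor.Suz.extra})))) q₂).ncard = 1365 := by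
  rw [sub_eq]
  exact ⟨Cfsg.Agent.H45.SuzMain.H_index, Cfsg.Agent.H45.SuzMain.suborbits⟩

end Cfsg.Agent.S1680
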