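import Cfsg.Statements.S1681
import Cfsg.Agent.H45.SuzU4

set_option autoImplicit false
open Cfsg

namespace Cfsg.Agent.S1681

open Cfsg.Agent.H45 in
theorem sub_eq : (((Subgroup.closure ({Cfsg.Spor.Suz.a, Cfsg.Spor.Suz.b, Cfsg.Spor.Suz.c, Cfsg.Spor.Suz.d, Cfsg.Spor.Suz.f, Cfsg.Spor.Suz.g} : Set (FreeGroup Cfsg.Spor.Suz.Gen))).map (PresentedGroup.mk (Cfsg.Spor.coxRelators Cfsg.Spor.Suz.edges ∪ {r | r ∈ Cfsg.Spor.Suz.extra}))) : Subgroup Cfsg.Spor.Suz) = SuzU4.H := by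
  change _ = SuzPres.pres.wsub SuzI22880.subWords
  rw [Pres.wsub, MonoidHom.map_closure]
  congr 1
  have he : ∀ i, evalW SuzPres.pres.e [i] = SuzPres.pres.e i := fun i => mul_one _
  ext g
  constructor
  · rintro ⟨r, hr, rfl⟩
    simp only [Set.mem_insert_iff, Set.mem_singleton_iff] at hr
    rcases hr with rfl | rfl | rfl | rfl | rfl | rfl
    exacts [⟨[0], by decide, (he 0).trans rfl⟩,
      ⟨[1], by decide, (he 1).trans rfl⟩,
      ⟨[2], by decide, (he 2).trans rfl⟩,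
      ⟨[3], by decide, (he 3).trans rfl⟩,
      ⟨[5], by decide, (he 5).trans rfl⟩,
      ⟨[6], by decide, (he 6).trans rfl⟩]
  · rintro ⟨w, hw, rfl⟩
    simp only [SuzI22880.subWords, List.mem_cons, List.not_mem_nil, or_false] at hw
    rcases hw with rfl | rfl | rfl | rfl | rfl | rfl
    exacts [⟨Cfsg.Spor.Suz.a, by simp, ((he 0).trans rfl).symm⟩,
      ⟨Cfsg.Spor.Suz.b, by simp, ((he 1).trans rfl).symm⟩,
      ⟨Cfsg.Spor.Suz.c, by simp, ((he 2).trans rfl).symm⟩,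
      ⟨Cfsg.Spor.Suz.d, by simp, ((he 3).trans rfl).symm⟩,
      ⟨Cfsg.Spor.Suz.f, by simp, ((he 5).trans rfl).symm⟩,
      ⟨Cfsg.Spor.Suz.g, by simp, ((he 6).trans rfl).symm⟩]


/-- In the presented sporadic Suzuki group (generators a, …, g), the subgroup generated by the images of a, b, c, d, f, g has index 22880. -/
theorem result : (((Subgroup.closure ({Cfsg.Spor.Suz.a, Cfsg.Spor.Suz.b, Cfsg.Spor.Suz.c, Cfsg.Spor.Suz.d, Cfsg.Spor.Suz.f, Cfsg.Spor.Suz.g} : Set (FreeGroup Cfsg.Spor.Suz.Gen))).map (PresentedGroup.mk (Cfsg.Spor.coxRelators Cfsg.Spor.Suz.edges ∪ {r | r ∈ Cfsg.Spor.Suz.extra})))).index = 22880 := by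
  rw [sub_eq]
  exact Cfsg.Agent.H45.SuzU4.H_index

end Cfsg.Agent.S1681
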