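import Cfsg.Statements.S1687
import Cfsg.Agent.H45.Fi22Top

set_option autoImplicit false
open Cfsg

namespace Cfsg.Agent.S1687

open Cfsg.Agent.H45 in
theorem sub_eq : (((Subgroup.closure ({Cfsg.Spor.Fi22.a, Cfsg.Spor.Fi22.c, Cfsg.Spor.Fi22.d, Cfsg.Spor.Fi22.e, Cfsg.Spor.Fi22.f, Cfsg.Spor.Fi22.g, Cfsg.Spor.Fi22.h, Cfsg.Spor.Fi22.i, (Cfsg.Spor.Fi22.a * Cfsg.Spor.Fi22.b * Cfsg.Spor.Fi22.c * Cfsg.Spor.Fi22.d * Cfsg.Spor.Fi22.e * Cfsg.Spor.Fi22.h) ^ 5} : Set (FreeGroup Cfsg.Spor.Fi22.Gen))).map (PresentedGroup.mk (Cfsg.Spor.coxRelators Cfsg.Spor.Fi22.edges ∪ {r | r ∈ Cfsg.Spor.Fi22.extra}))) : Subgroup Cfsg.Spor.Fi22) = Fi22Main.H := by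
  change _ = Fi22Pres.pres.wsub Fi22I3510.subWords
  rw [Pres.wsub, MonoidHom.map_closure]
  congr 1
  have he : ∀ i, evalW Fi22Pres.pres.e [i] = Fi22Pres.pres.e i := fun i => mul_one _
  have h6 : evalW Fi22Pres.pres.e (List.replicate 5 [0, 1, 2, 3, 4, 7]).flatten = PresentedGroup.mk _
      ((Cfsg.Spor.Fi22.a * Cfsg.Spor.Fi22.b * Cfsg.Spor.Fi22.c * Cfsg.Spor.Fi22.d * Cfsg.Spor.Fi22.e * Cfsg.Spor.Fi22.h) ^ 5) := by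
    rw [evalW_pow, map_pow, map_mul, map_mul, map_mul, map_mul, map_mul]
    simp only [evalW, List.map_cons, List.map_nil, List.prod_cons, List.prod_nil, mul_one, mul_assoc]
    rfl
  ext g
  constructor
  · rintro ⟨r, hr, rfl⟩
    simp only [Set.mem_insert_iff, Set.mem_singleton_iff] at hr
    rcases hr with rfl | rfl | rfl | rfl | rfl | rfl | rfl | rfl | rfl
    exacts [⟨[0], by simp [Fi22I3510.subWords], (he 0).trans rfl⟩,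
      ⟨[2], by simp [Fi22I3510.subWords], (he 2).trans rfl⟩,
      ⟨[3], by simp [Fi22I3510.subWords], (he 3).trans rfl⟩,
      ⟨[4], by simp [Fi22I3510.subWords], (he 4).trans rfl⟩,
      ⟨[5], by simp [Fi22I3510.subWords], (he 5).trans rfl⟩,
      ⟨[6], by simp [Fi22I3510.subWords], (he 6).trans rfl⟩,
      ⟨[7], by simp [Fi22I3510.subWords], (he 7).trans rfl⟩,
      ⟨[8], by simp [Fi22I3510.subWords], (he 8).trans rfl⟩,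
      ⟨(List.replicate 5 [0, 1, 2, 3, 4, 7]).flatten, by simp [Fi22I3510.subWords], h6⟩]
  · rintro ⟨w, hw, rfl⟩
    simp only [Fi22I3510.subWords, List.mem_cons, List.not_mem_nil, or_false] at hw
    rcases hw with rfl | rfl | rfl | rfl | rfl | rfl | rfl | rfl | rfl
    exacts [⟨Cfsg.Spor.Fi22.a, by simp, ((he 0).trans rfl).symm⟩,
      ⟨Cfsg.Spor.Fi22.c, by simp, ((he 2).trans rfl).symm⟩,
      ⟨Cfsg.Spor.Fi22.d, by simp, ((he 3).trans rfl).symm⟩,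
      ⟨Cfsg.Spor.Fi22.e, by simp, ((he 4).trans rfl).symm⟩,
      ⟨Cfsg.Spor.Fi22.f, by simp, ((he 5).trans rfl).symm⟩,
      ⟨Cfsg.Spor.Fi22.g, by simp, ((he 6).trans rfl).symm⟩,
      ⟨Cfsg.Spor.Fi22.h, by simp, ((he 7).trans rfl).symm⟩,
      ⟨Cfsg.Spor.Fi22.i, by simp, ((he 8).trans rfl).symm⟩,
      ⟨_, by simp, h6.symm⟩]


/-- In the presented Fischer group Fi₂₂, let H be the subgroup generated by the images of a, c, d, e, f, g, h, i and (abcdeh)^5. Then H has index 3510, H has orbits of sizes 693 and 2816 on the cosets of H other than H itself. -/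
theorem result : (((Subgroup.closure ({Cfsg.Spor.Fi22.a, Cfsg.Spor.Fi22.c, Cfsg.Spor.Fi22.d, Cfsg.Spor.Fi22.e, Cfsg.Spor.Fi22.f, Cfsg.Spor.Fi22.g, Cfsg.Spor.Fi22.h, Cfsg.Spor.Fi22.i, (Cfsg.Spor.Fi22.a * Cfsg.Spor.Fi22.b * Cfsg.Spor.Fi22.c * Cfsg.Spor.Fi22.d * Cfsg.Spor.Fi22.e * Cfsg.Spor.Fi22.h) ^ 5} : Set (FreeGroup Cfsg.Spor.Fi22.Gen))).map (PresentedGroup.mk (Cfsg.Spor.coxRelators Cfsg.Spor.Fi22.edges ∪ {r | r ∈ Cfsg.Spor.Fi22.extra})))).index = 3510 ∧ ∃ q₁ q₂ : Cfsg.Spor.Fi22 ⧸ (((Subgroup.closure ({Cfsg.Spor.Fi22.a, Cfsg.Spor.Fi22.c, Cfsg.Spor.Fi22.d, Cfsg.Spor.Fi22.e, Cfsg.Spor.Fi22.f, Cfsg.Spor.Fi22.g, Cfsg.Spor.Fi22.h, Cfsg.Spor.Fi22.i, (Cfsg.Spor.Fi22.a * Cfsg.Spor.Fi22.b * Cfsg.Spor.Fi22.c * Cfsg.Spor.Fi22.d * Cfsg.Spor.Fi22.e * Cfsg.Spor.Fi22.h) ^ 5} : Set (FreeGroup Cfsg.Spor.Fi22.Gen))).map (PresentedGroup.mk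 (Cfsg.Spor.coxRelators Cfsg.Spor.Fi22.edges ∪ {r | r ∈ Cfsg.Spor.Fi22.extra})))), (MulAction.orbit (((Subgroup.closure ({Cfsg.Spor.Fi22.a, Cfsg.Spor.Fi22.c, Cfsg.Spor.Fi22.d, Cfsg.Spor.Fi22.e, Cfsg.Spor.Fi22.f, Cfsg.Spor.Fi22.g, Cfsg.Spor.Fi22.h, Cfsg.Spor.Fi22.i, (Cfsg.Spor.Fi22.a * Cfsg.Spor.Fi22.b * Cfsg.Spor.Fi22.c * Cfsg.Spor.Fi22.d * Cfsg.Spor.Fi22.e * Cfsg.Spor.Fi22.h) ^ 5} : Set (FreeGroup Cfsg.Spor.Fi22.Gen))).map (PresentedGroup.mk (Cfsg.Spor.coxRelators Cfsg.Spor.Fi22.edges ∪ {r | r ∈ Cfsg.Spor.Fi22.extra})))) q₁).ncard = 693 ∧ (MulAction.orbit (((Subgroup.closure ({Cfsg.Spor.Fi22.a, Cfsg.Spor.Fi22.c, Cfsg.Spor.Fi22.d, Cfsg.Spor.Fi22.e, Cfsg.Spor.Fi22.f, Cfsg.Spor.Fi22.g, Cfsg.Spor.Fi22.h, Cfsg.Spor.Fi22.i, (Cfsg.Spor.Fi22.a * Cfsg.Spor.Fi22.b * Cfsg.Spor.Fi22.c * Cfsg.Spor.Fi22.d * Cfsg.Spor.Fi22.e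 * Cfsg.Spor.Fi22.h) ^ 5} : Set (FreeGroup Cfsg.Spor.Fi22.Gen))).map (PresentedGroup.mk (Cfsg.Spor.coxRelators Cfsg.Spor.Fi22.edges ∪ {r | r ∈ Cfsg.Spor.Fi22.extra})))) q₂).ncard = 2816 := by
  rw [sub_eq]
  exact ⟨Cfsg.Agent.H45.Fi22Main.H_index, Cfsg.Agent.H45.Fi22Top.suborbits⟩

end Cfsg.Agent.S1687
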