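import Cfsg.Statements.S1685
import Cfsg.Agent.H45.Fi22Top

set_option autoImplicit false
open Cfsg

namespace Cfsg.Agent.S1685

open Cfsg.Agent.H45 in
theorem sub_eq : (((Subgroup.closure ({Cfsg.Spor.Fi22.b, Cfsg.Spor.Fi22.c, Cfsg.Spor.Fi22.d, Cfsg.Spor.Fi22.e, Cfsg.Spor.Fi22.f, Cfsg.Spor.Fi22.g, Cfsg.Spor.Fi22.h, Cfsg.Spor.Fi22.i} : Set (FreeGroup Cfsg.Spor.Fi22.Gen))).map (PresentedGroup.mk (Cfsg.Spor.coxRelators Cfsg.Spor.Fi22.edges ∪ {r | r ∈ Cfsg.Spor.Fi22.extra}))) : Subgroup Cfsg.Spor.Fi22) = Fi22Main.H' := by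
  change _ = Fi22Pres.pres.wsub Fi22I14080.subWords
  rw [Pres.wsub, MonoidHom.map_closure]
  congr 1
  have he : ∀ i, evalW Fi22Pres.pres.e [i] = Fi22Pres.pres.e i := fun i => mul_one _
  ext g
  constructor
  · rintro ⟨r, hr, rfl⟩
    simp only [Set.mem_insert_iff, Set.mem_singleton_iff] at hr
    rcases hr with rfl | rfl | rfl | rfl | rfl | rfl | rfl | rfl
    exacts [⟨[1], by simp [Fi22I14080.subWords], (he 1).trans rfl⟩,
      ⟨[2], by simp [Fi22I14080.subWords], (he 2).trans rfl⟩,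
      ⟨[3], by simp [Fi22I14080.subWords], (he 3).trans rfl⟩,
      ⟨[4], by simp [Fi22I14080.subWords], (he 4).trans rfl⟩,
      ⟨[5], by simp [Fi22I14080.subWords], (he 5).trans rfl⟩,
      ⟨[6], by simp [Fi22I14080.subWords], (he 6).trans rfl⟩,
      ⟨[7], by simp [Fi22I14080.subWords], (he 7).trans rfl⟩,
      ⟨[8], by simp [Fi22I14080.subWords], (he 8).trans rfl⟩]
  · rintro ⟨w, hw, rfl⟩
    simp only [Fi22I14080.subWords, List.mem_cons, List.not_mem_nil, or_false] at hw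
    rcases hw with rfl | rfl | rfl | rfl | rfl | rfl | rfl | rfl
    exacts [⟨Cfsg.Spor.Fi22.b, by simp, ((he 1).trans rfl).symm⟩,
      ⟨Cfsg.Spor.Fi22.c, by simp, ((he 2).trans rfl).symm⟩,
      ⟨Cfsg.Spor.Fi22.d, by simp, ((he 3).trans rfl).symm⟩,
      ⟨Cfsg.Spor.Fi22.e, by simp, ((he 4).trans rfl).symm⟩,
      ⟨Cfsg.Spor.Fi22.f, by simp, ((he 5).trans rfl).symm⟩,
      ⟨Cfsg.Spor.Fi22.g, by simp, ((he 6).trans rfl).symm⟩,
      ⟨Cfsg.Spor.Fi22.h, by simp, ((he 7).trans rfl).symm⟩,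
      ⟨Cfsg.Spor.Fi22.i, by simp, ((he 8).trans rfl).symm⟩]


/-- In the presented Fischer group Fi₂₂ (generators a, …, i), the subgroup generated by the images of b, c, d, e, f, g, h, i has index 14080. -/
theorem result : (((Subgroup.closure ({Cfsg.Spor.Fi22.b, Cfsg.Spor.Fi22.c, Cfsg.Spor.Fi22.d, Cfsg.Spor.Fi22.e, Cfsg.Spor.Fi22.f, Cfsg.Spor.Fi22.g, Cfsg.Spor.Fi22.h, Cfsg.Spor.Fi22.i} : Set (FreeGroup Cfsg.Spor.Fi22.Gen))).map (PresentedGroup.mk (Cfsg.Spor.coxRelators Cfsg.Spor.Fi22.edges ∪ {r | r ∈ Cfsg.Spor.Fi22.extra})))).index = 14080 := by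
  rw [sub_eq]
  exact Cfsg.Agent.H45.Fi22Top.H'_index

end Cfsg.Agent.S1685
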