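import Cfsg.Statements.S1706
import Cfsg.Agent.H25.Th.Main
import Cfsg.Agent.H32.ThRep.Order

set_option autoImplicit false
open Cfsg

namespace Cfsg.Agent.S1706

/-- In the presented Thompson sporadic group (generators a, b, c, d, e, s, t, u), the subgroup generated by the images of a, b, c, d, e, s, t has index 143127000. -/
theorem result : (((Subgroup.closure ({Cfsg.Spor.Th.a, Cfsg.Spor.Th.b, Cfsg.Spor.Th.c, Cfsg.Spor.Th.d, Cfsg.Spor.Th.e, Cfsg.Spor.Th.s, Cfsg.Spor.Th.t} : Set (FreeGroup Cfsg.Spor.Th.Gen))).map (PresentedGroup.mk (Cfsg.Spor.coxRelators Cfsg.Spor.Th.edges ∪ {r | r ∈ Cfsg.Spor.Th.extra})))).index = 143127000 := by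
  rw [show (Subgroup.closure ({Cfsg.Spor.Th.a, Cfsg.Spor.Th.b, Cfsg.Spor.Th.c, Cfsg.Spor.Th.d,
      Cfsg.Spor.Th.e, Cfsg.Spor.Th.s, Cfsg.Spor.Th.t} : Set (FreeGroup Cfsg.Spor.Th.Gen))).map
      (PresentedGroup.mk (Cfsg.Spor.coxRelators Cfsg.Spor.Th.edges ∪
        {r | r ∈ Cfsg.Spor.Th.extra})) = Cfsg.Agent.H40.Th.HH from ?_]
  · exact (Cfsg.Agent.H32.ThRep.card_and_index Cfsg.Agent.H25.Th.finite
      Cfsg.Agent.H25.Th.card_le Cfsg.Agent.H25.Th.card_HH_le.2 Cfsg.Agent.H25.Th.index_le).2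
  · rw [MonoidHom.map_closure]
    simp only [Set.image_insert_eq, Set.image_singleton]
    rfl

end Cfsg.Agent.S1706
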