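import Cfsg.Statements.S1712
import Cfsg.Agent.H56.J4.Order
import Cfsg.Agent.H46.J4Low.Card

set_option autoImplicit false
open Cfsg

namespace Cfsg.Agent.S1712

open Cfsg.Agent.H56.J4 in
theorem index_HH : HH.index = 173067389 := by
  haveI : Finite Cfsg.Agent.H56.J4.J := Cfsg.Agent.H56.J4.E.finite_J
  exact (Cfsg.Agent.H46.J4Low.card_eq
    (Cfsg.Agent.H56.J4.E.HH_card_le.2.trans (by norm_num))).2

open Cfsg.Agent.H56.J4 in
theorem hh_word : hh = (jy * ((jy * jx) ^ 4 * jy⁻¹ * jx)⁻¹ * jt *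
    ((jy * jx) ^ 4 * jy⁻¹ * jx)) ^ 3 := by
  have hv : (vH.map jl).prod = (jy * jx) ^ 4 * jy⁻¹ * jx := by
    simp [vH, jl_zero, jl_one, jl_two, pow_succ, mul_assoc]
  rw [hh, hv]
  simp only [mul_assoc]

/-- In the presented fourth Janko group (generators x, y, t), the subgroup generated by the images of x, y and (y * w⁻¹ * t * w) ^ 3 with w = (y * x) ^ 4 * y⁻¹ * x has index 173067389. -/
theorem result : (((Subgroup.closure ({Cfsg.Spor.J4.x, Cfsg.Spor.J4.y, (Cfsg.Spor.J4.y * ((Cfsg.Spor.J4.y * Cfsg.Spor.J4.x) ^ 4 * Cfsg.Spor.J4.y⁻¹ * Cfsg.Spor.J4.x)⁻¹ * Cfsg.Spor.J4.t * ((Cfsg.Spor.J4.y * Cfsg.Spor.J4.x) ^ 4 * Cfsg.Spor.J4.y⁻¹ * Cfsg.Spor.J4.x)) ^ 3} : Set (FreeGroup Cfsg.Spor.J4.Gen))).map (PresentedGroup.mk (Cfsg.Spor.coxRelators Cfsg.Spor.J4.edges ∪ {r | r ∈ Cfsg.Spor.J4.extra})))).index = 173067389 := by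
  refine Eq.trans (congrArg Subgroup.index ?_) index_HH
  rw [MonoidHom.map_closure, Set.image_insert_eq, Set.image_pair, Cfsg.Agent.H56.J4.HH, hh_word]
  simp only [map_pow, map_mul, map_inv]
  rfl

end Cfsg.Agent.S1712
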