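import Cfsg.Statements.S1717
-- import your own Cfsg.Agent.* helpers here

set_option autoImplicit false
open Cfsg

namespace Cfsg.Agent.S1717

open Matrix

private abbrev SL5 : Type := Matrix.SpecialLinearGroup (Fin 5) (ZMod 2)

/-- unitriangular matrices for the order 0,2,3,4,1 of the basis -/
private def uMat (v : Fin 10 → ZMod 2) : Matrix (Fin 5) (Fin 5) (ZMod 2) :=
  !![1, v 3, v 0, v 1, v 2;
     0, 1, 0, 0, 0;
     0, v 6, 1, v 4, v 5;
     0, v 8, 0, 1, v 7;
     0, v 9, 0, 0, 1]

private theorem uMat_det (v : Fin 10 → ZMod 2) : (uMat v).det = 1 := by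
  let σ : Fin 5 ≃ Fin 5 :=
    ⟨![0, 2, 3, 4, 1], ![0, 4, 1, 2, 3], by decide, by decide⟩
  rw [← Matrix.det_submatrix_equiv_self σ, Matrix.det_of_isUpperTriangular]
  · simp [Fin.prod_univ_succ, σ, uMat]
  · intro i j h
    fin_cases i <;> fin_cases j <;> simp_all [σ, uMat]

private def uSL (v : Fin 10 → ZMod 2) : SL5 := ⟨uMat v, uMat_det v⟩

private def vMul (v w : Fin 10 → ZMod 2) : Fin 10 → ZMod 2 :=
  ![v 0 + w 0, v 1 + w 1 + v 0 * w 4, v 2 + w 2 + v 0 * w 5 + v 1 * w 7,
    v 3 + w 3 + v 0 * w 6 + v 1 * w 8 + v 2 * w 9,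
    v 4 + w 4, v 5 + w 5 + v 4 * w 7, v 6 + w 6 + v 4 * w 8 + v 5 * w 9,
    v 7 + w 7, v 8 + w 8 + v 7 * w 9, v 9 + w 9]

private theorem uMat_mul (v w : Fin 10 → ZMod 2) : uMat v * uMat w = uMat (vMul v w) := by
  ext i j
  fin_cases i <;> fin_cases j <;>
    simp [uMat, vMul, Matrix.mul_apply, Fin.sum_univ_succ] <;> ring

private theorem uSL_mul (v w : Fin 10 → ZMod 2) : uSL v * uSL w = uSL (vMul v w) :=
  Subtype.ext (uMat_mul v w)

private theorem uSL_zero : uSL 0 = 1 := by
  apply Subtype.ext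
  simp only [uSL, Matrix.SpecialLinearGroup.coe_one]
  ext i j
  fin_cases i <;> fin_cases j <;> simp [uMat]

private def uMonoid : Submonoid SL5 where
  carrier := Set.range uSL
  one_mem' := ⟨0, uSL_zero⟩
  mul_mem' := by rintro a b ⟨v, rfl⟩ ⟨w, rfl⟩; exact ⟨_, (uSL_mul v w).symm⟩

private def uGroup : Subgroup SL5 :=
  { uMonoid with
    inv_mem' := by
      intro a ha
      have : a⁻¹ ∈ Submonoid.powers a := by
        rw [(isOfFinOrder_of_finite a).mem_powers_iff_mem_zpowers]
        exact inv_mem (Subgroup.mem_zpowers a)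
      exact (Submonoid.powers_le.mpr (show a ∈ uMonoid from ha)) this }

private theorem mem_uGroup {g : SL5} : g ∈ uGroup ↔ ∃ v, uSL v = g := Iff.rfl

private theorem uSL_inj : Function.Injective uSL := by
  intro v w h
  have h' : ∀ i j, uMat v i j = uMat w i j :=
    fun i j => congrFun (congrFun (congrArg Subtype.val h) i) j
  funext k
  fin_cases k
  · simpa [uMat] using h' 0 2
  · simpa [uMat] using h' 0 3
  · simpa [uMat] using h' 0 4
  · simpa [uMat] using h' 0 1
  · simpa [uMat] using h' 2 3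
  · simpa [uMat] using h' 2 4
  · simpa [uMat] using h' 2 1
  · simpa [uMat] using h' 3 4
  · simpa [uMat] using h' 3 1
  · simpa [uMat] using h' 4 1

private theorem card_uGroup : Nat.card uGroup = 2 ^ 10 := by
  rw [← Nat.card_congr (Equiv.ofBijective (fun v => (⟨uSL v, v, rfl⟩ : uGroup))
    ⟨fun a b h => uSL_inj (congrArg Subtype.val h), fun ⟨g, v, hv⟩ => ⟨v, Subtype.ext hv⟩⟩)]
  simp

private theorem not_dvd_card : ¬ 2 ^ 11 ∣ Nat.card SL5 := by
  intro h
  have hinj : Function.Injective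
      (Matrix.SpecialLinearGroup.toGL : SL5 →* GL (Fin 5) (ZMod 2)) :=
    Matrix.SpecialLinearGroup.toGL_injective
  have h2 := h.trans (Subgroup.card_dvd_of_injective _ hinj)
  rw [Matrix.card_GL_field] at h2
  norm_num [Fin.prod_univ_succ] at h2

private theorem vMul_single (v : Fin 10 → ZMod 2) (k : Fin 10) (u : uGroup)
    (hu : uSL v = u) (hc : u ∈ Subgroup.center uGroup) :
    vMul v (Pi.single k 1) = vMul (Pi.single k 1) v := by
  have h := congrArg Subtype.val
    (Subgroup.mem_center_iff.mp hc ⟨uSL (Pi.single k 1), _, rfl⟩)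
  simp only [Subgroup.coe_mul] at h
  rw [← hu, uSL_mul, uSL_mul] at h
  exact (uSL_inj h).symm

private theorem card_center_uGroup : Nat.card (Subgroup.center uGroup) ≤ 2 := by
  classical
  have key : ∀ u : Subgroup.center uGroup, ∃ t : ZMod 2, (u : uGroup).1 = uSL (Pi.single 3 t) := by
    rintro ⟨u, hc⟩
    obtain ⟨v, hv⟩ := mem_uGroup.mp u.2
    have a0 := vMul_single v 0 u hv hc
    have a4 := vMul_single v 4 u hv hc
    have a7 := vMul_single v 7 u hv hc
    have a9 := vMul_single v 9 u hv hc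
    have h4 : v 4 = 0 := by simpa [vMul] using congrFun a0 1
    have h5 : v 5 = 0 := by simpa [vMul] using congrFun a0 2
    have h6 : v 6 = 0 := by simpa [vMul] using congrFun a0 3
    have h0 : v 0 = 0 := by simpa [vMul] using congrFun a4 1
    have h7 : v 7 = 0 := by simpa [vMul] using congrFun a4 5
    have h8 : v 8 = 0 := by simpa [vMul] using congrFun a4 6
    have h1 : v 1 = 0 := by simpa [vMul] using congrFun a7 2
    have h9 : v 9 = 0 := by simpa [vMul] using congrFun a7 8
    have h2 : v 2 = 0 := by simpa [vMul] using congrFun a9 3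
    refine ⟨v 3, ?_⟩
    rw [← hv]
    congr 1
    funext k
    fin_cases k <;> simp [h0, h1, h2, h4, h5, h6, h7, h8, h9]
  choose t ht using key
  have hinj : Function.Injective t := by
    intro a b h
    apply Subtype.ext; apply Subtype.ext
    rw [ht a, ht b, h]
  simpa using Nat.card_le_card_of_injective t hinj


private theorem sylow_of_centralizer {G : Type*} [Group G] [Finite G] (z : G) (hz : orderOf z = 2)
    (C : Subgroup G) (hC : ∀ g, g ∈ C ↔ g * z = z * g) (D : Subgroup SL5) (hUD : uGroup ≤ D)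
    (e : C ≃* D) (T : Sylow 2 C) : ¬ 2 ∣ ((T : Subgroup C).map C.subtype).index := by
  classical
  have : Fact (Nat.Prime 2) := ⟨Nat.prime_two⟩
  let U' : Subgroup C := (uGroup.subgroupOf D).map e.symm.toMonoidHom
  have hU'card : Nat.card U' = 2 ^ 10 := by
    rw [Subgroup.card_map_of_injective e.symm.injective,
      Nat.card_congr (Subgroup.subgroupOfEquivOfLe hUD).toEquiv, card_uGroup]
  have hU'idx : ¬ 2 ∣ U'.index := by
    intro h
    apply not_dvd_card
    have h1 : 2 ^ 10 * 2 ∣ Nat.card C := by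
      rw [← U'.card_mul_index, hU'card]; exact Nat.mul_dvd_mul_left _ h
    rw [Nat.card_congr e.toEquiv] at h1
    have h2 := h1.trans (Subgroup.card_subgroup_dvd_card D)
    rw [pow_succ]; exact h2
  let S0 : Sylow 2 C := (IsPGroup.of_card hU'card).toSylow hU'idx
  let eT : T ≃* uGroup :=
    ((Sylow.equiv T S0).trans
      ((Subgroup.equivMapOfInjective (uGroup.subgroupOf D) e.symm.toMonoidHom
        e.symm.injective).symm)).trans (Subgroup.subgroupOfEquivOfLe hUD)
  have hcT : Nat.card (Subgroup.center (T : Subgroup C)) ≤ 2 := by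
    rw [Nat.card_congr (Subgroup.centerCongr eT).toEquiv]; exact card_center_uGroup
  have hzC : z ∈ C := (hC _).mpr rfl
  have hzcomm : ∀ x : C, x * ⟨z, hzC⟩ = ⟨z, hzC⟩ * x := fun x =>
    Subtype.ext ((hC _).mp x.2)
  have hzT : (⟨z, hzC⟩ : C) ∈ (T : Subgroup C) := by
    have hp : IsPGroup 2 (Subgroup.zpowers (⟨z, hzC⟩ : C)) := by
      apply IsPGroup.of_card (n := 1)
      rw [Nat.card_zpowers, ← orderOf_injective C.subtype C.subtype_injective]
      simpa using hz
    obtain ⟨S1, hS1⟩ := hp.exists_le_sylow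
    obtain ⟨g, hg⟩ := MulAction.exists_smul_eq C S1 T
    rw [← hg]
    change (⟨z, hzC⟩ : C) ∈ ((g • S1 : Sylow 2 C) : Subgroup C)
    rw [Sylow.coe_subgroup_smul, Subgroup.mem_smul_pointwise_iff_exists]
    refine ⟨⟨z, hzC⟩, hS1 (Subgroup.mem_zpowers _), ?_⟩
    rw [MulAut.smul_def, MulAut.conj_apply, hzcomm g, mul_inv_cancel_right]
  have hcentral : ∀ c : C, c ∈ (T : Subgroup C) → (∀ x ∈ (T : Subgroup C), x * c = c * x) →
      c = 1 ∨ c = ⟨z, hzC⟩ := by
    intro c hc hcc
    by_contra hh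
    push_neg at hh
    have hz1 : z ≠ 1 := by intro h; rw [h, orderOf_one] at hz; exact absurd hz (by norm_num)
    let a1 : Subgroup.center (T : Subgroup C) :=
      ⟨⟨⟨z, hzC⟩, hzT⟩, Subgroup.mem_center_iff.mpr fun x => Subtype.ext (hzcomm x.1)⟩
    let a2 : Subgroup.center (T : Subgroup C) :=
      ⟨⟨c, hc⟩, Subgroup.mem_center_iff.mpr fun x => Subtype.ext (hcc x.1 x.2)⟩
    have d1 : (1 : Subgroup.center (T : Subgroup C)) ≠ a1 :=
      fun h => hz1 (congrArg (fun u : Subgroup.center (T : Subgroup C) =>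
        (((u : (T : Subgroup C)) : C) : G)) h).symm
    have d2 : (1 : Subgroup.center (T : Subgroup C)) ≠ a2 :=
      fun h => hh.1 (congrArg (fun u : Subgroup.center (T : Subgroup C) =>
        ((u : (T : Subgroup C)) : C)) h).symm
    have d3 : a1 ≠ a2 :=
      fun h => hh.2 (congrArg (fun u : Subgroup.center (T : Subgroup C) =>
        ((u : (T : Subgroup C)) : C)) h).symm
    have : Fintype (Subgroup.center (T : Subgroup C)) := Fintype.ofFinite _
    have := Fintype.two_lt_card_iff.mpr ⟨1, a1, a2, d1, d2, d3⟩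
    rw [← Nat.card_eq_fintype_card] at this
    omega
  set P := (T : Subgroup C).map C.subtype with hP
  have hPp : IsPGroup 2 P := T.isPGroup'.map _
  obtain ⟨Q, hPQ⟩ := hPp.exists_le_sylow
  suffices hQP : (Q : Subgroup G) ≤ P by
    have he : P = (Q : Subgroup G) := le_antisymm hPQ hQP
    rw [he]; exact Q.not_dvd_index
  by_contra hne
  have : Group.IsNilpotent Q := Q.isPGroup'.isNilpotent
  have hlt : P.subgroupOf Q < ⊤ := by
    rw [lt_top_iff_ne_top, Ne, Subgroup.subgroupOf_eq_top]; exact hne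
  obtain ⟨g, hgN, hgP⟩ := SetLike.exists_of_lt (Group.normalizerCondition_of_isNilpotent _ hlt)
  have hzP : z ∈ P := ⟨⟨z, hzC⟩, hzT, rfl⟩
  have hconj : ∀ x ∈ P, (g : G) * x * (g : G)⁻¹ ∈ P ∧ (g : G)⁻¹ * x * g ∈ P := by
    intro x hx
    have hxQ : x ∈ (Q : Subgroup G) := hPQ hx
    have h1 := (Subgroup.mem_normalizer_iff.mp hgN ⟨x, hxQ⟩).mp hx
    have h2 := (Subgroup.mem_normalizer_iff.mp hgN (g⁻¹ * ⟨x, hxQ⟩ * g)).mpr (by
      simpa [Subgroup.mem_subgroupOf, mul_assoc] using hx)
    exact ⟨by simpa [Subgroup.mem_subgroupOf] using h1,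
      by simpa [Subgroup.mem_subgroupOf] using h2⟩
  have hgz : (g : G) * z * (g : G)⁻¹ = z := by
    obtain ⟨c, hcT', hcv⟩ := (hconj z hzP).1
    simp only [Subgroup.coe_subtype] at hcv
    have hcc : ∀ x ∈ (T : Subgroup C), x * c = c * x := by
      intro x hx
      obtain ⟨y, -, hyv⟩ := (hconj x.1 ⟨x, hx, rfl⟩).2
      simp only [Subgroup.coe_subtype] at hyv
      apply Subtype.ext
      simp only [Subgroup.coe_mul, hcv]
      have hy := (hC _).mp y.2
      rw [hyv] at hy
      calc (x : G) * ((g : G) * z * (g : G)⁻¹)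
          = g * ((g : G)⁻¹ * x * g * z) * (g : G)⁻¹ := by group
        _ = g * (z * ((g : G)⁻¹ * x * g)) * (g : G)⁻¹ := by rw [hy]
        _ = (g : G) * z * (g : G)⁻¹ * x := by group
    rcases hcentral c hcT' hcc with rfl | rfl
    · exfalso
      have hz1 : z = 1 := by
        simpa using (conj_eq_one_iff (a := (g : G)) (b := z)).mp (by simpa using hcv.symm)
      rw [hz1, orderOf_one] at hz
      exact absurd hz (by norm_num)
    · exact hcv.symm
  have hgC : (g : G) ∈ C := (hC _).mpr (by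
    have := congrArg (· * (g : G)) hgz
    simpa using this)
  have hK : IsPGroup 2 ((Q : Subgroup G).comap C.subtype) :=
    Q.isPGroup'.comap_of_injective C.subtype C.subtype_injective
  have hKT := T.is_maximal' hK (fun x hx => hPQ ⟨x, hx, rfl⟩)
  have hgT : (⟨g, hgC⟩ : C) ∈ (T : Subgroup C) := by
    rw [← hKT]; exact g.2
  exact hgP ⟨⟨g, hgC⟩, hgT, rfl⟩


/-- Let G be a finite group with an involution z whose centraliser C is isomorphic to the centraliser of a transvection of SL(5, 2). Then a Sylow 2-subgroup of C, viewed in G, is a Sylow 2-subgroup of G (its index in G is odd). -/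
theorem result {G : Type*} [Group G] [Finite G] (s : Matrix.SpecialLinearGroup (Fin 5) (ZMod 2)) (hs : (s : Matrix (Fin 5) (Fin 5) (ZMod 2)) = Matrix.transvection 0 1 1) (z : G) (hz : orderOf z = 2) (e : (Subgroup.centralizer ({z} : Set G)) ≃* Subgroup.centralizer ({s} : Set (Matrix.SpecialLinearGroup (Fin 5) (ZMod 2)))) (T : Sylow 2 (Subgroup.centralizer ({z} : Set G))) : ¬ 2 ∣ ((T : Subgroup (Subgroup.centralizer ({z} : Set G))).map (Subgroup.subtype (Subgroup.centralizer ({z} : Set G)))).index := by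
  apply sylow_of_centralizer z hz _ (fun g => Subgroup.mem_centralizer_singleton_iff) _ ?_ e T
  intro g hg
  obtain ⟨v, rfl⟩ := mem_uGroup.mp hg
  rw [Subgroup.mem_centralizer_singleton_iff]
  apply Subtype.ext
  rw [Matrix.SpecialLinearGroup.coe_mul, Matrix.SpecialLinearGroup.coe_mul, hs]
  change uMat v * _ = _ * uMat v
  have ht : Matrix.transvection (0 : Fin 5) 1 (1 : ZMod 2) =
      !![1, 1, 0, 0, 0; 0, 1, 0, 0, 0; 0, 0, 1, 0, 0; 0, 0, 0, 1, 0; 0, 0, 0, 0, 1] := by
    decide
  rw [ht]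
  ext i j
  fin_cases i <;> fin_cases j <;>
    simp [uMat, Matrix.mul_apply, Fin.sum_univ_succ] <;> ring

end Cfsg.Agent.S1717
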