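import Cfsg.Statements.S1722
import Cfsg.Agent.H43.JTwo.Five
-- import your own Cfsg.Agent.* helpers here

set_option autoImplicit false
open Cfsg

namespace Cfsg.Agent.S1722

/-- Sylow 5-structure of a group of Hall–Janko type (large-extraspecial hypothesis with Q of order 32, quotient Ω⁻(4, 2), z not weakly closed in Q, more than one class of involutions): a Sylow 5-subgroup P is its own centraliser, has order 25, its normaliser has order 300, and the subgroups of order 5 fall into exactly two conjugacy classes. -/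
theorem result {G : Type*} [Group G] [Finite G] (z : G) (hz : orderOf z = 2) (Q : Subgroup (Subgroup.centralizer ({z} : Set G))) [Q.Normal] (hF : Cfsg.generalizedFittingSubgroup (Subgroup.centralizer ({z} : Set G)) = Q) (hQ : Cfsg.IsExtraspecial 2 Q) (hcard : Nat.card Q = 2 ^ 5) (e : (Subgroup.centralizer ({z} : Set G)) ⧸ Q ≃* Cfsg.Omega (ZMod 2) (Cfsg.quadFormMinus 1 (ZMod 2) 1 1)) (hnwc : ∃ g : G, (∃ hq : g * z * g⁻¹ ∈ Subgroup.centralizer ({z} : Set G), (⟨g * z * g⁻¹, hq⟩ : Subgroup.centralizer ({z} : Set G)) ∈ Q) ∧ g * z * g⁻¹ ≠ z) (hcl : ∃ x y : G, orderOf x = 2 ∧ orderOf y = 2 ∧ ¬ IsConj x y) (P : Sylow 5 G) : Subgroup.centralizer ((P : Subgroup G) : Set G) = P ∧ Nat.card P = 25 ∧ Nat.card (Subgroup.normalizer ((P : Subgroup G) : Set G)) = 300 ∧ ∃ X Y : Subgroup G, Nat.card X = 5 ∧ Nat.card Y = 5 ∧ (∀ g : G, X.map (MulAut.conj g).toMonoidHom ≠ Y) ∧ ∀ W : Subgroup G, Nat.card W = 5 → ∃ g : G, W.map (MulAut.conj g).toMonoidHom = X ∨ W.map (MulAut.conj g).toMonoidHom = Y :=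 by
  haveI : Fact (Nat.Prime 5) := ⟨by norm_num⟩
  obtain ⟨D⟩ := H43.JTwo.jset_of hz Q hF hQ hcard e hnwc hcl
  obtain ⟨t, a, σ, L, f, P₀, F⟩ := D.exists_fset
  obtain ⟨g, hg⟩ := MulAction.exists_smul_eq G P₀ P
  have hconj : (P : Subgroup G) = (P₀ : Subgroup G).map (MulAut.conj g).toMonoidHom := by
    rw [← hg, Sylow.coe_subgroup_smul]; rfl
  refine ⟨?_, (Nat.card_congr (Sylow.equiv P₀ P).toEquiv).symm.trans F.cardP, ?_, F.two_classes⟩
  · have h : ((P₀ : Subgroup G).map (MulAut.conj g).toMonoidHom) =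
        Subgroup.centralizer (((P₀ : Subgroup G).map (MulAut.conj g).toMonoidHom : Subgroup G) : Set G) := by
      ext x
      have hm : ∀ y : G, y ∈ (P₀ : Subgroup G).map (MulAut.conj g).toMonoidHom ↔
          g⁻¹ * y * g ∈ (P₀ : Subgroup G) := fun y => by
        rw [Subgroup.mem_map_equiv, MulAut.conj_symm_apply]
      rw [hm, ← F.cenP, Subgroup.mem_centralizer_iff, Subgroup.mem_centralizer_iff, F.cenP]
      constructor
      · intro h y hy
        have := congrArg (fun w => g * w * g⁻¹) (h _ ((hm y).mp hy))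
        simpa [mul_assoc] using this
      · intro h y hy
        have := congrArg (fun w => g⁻¹ * w * g) (h (g * y * g⁻¹) ((hm _).mpr (by simp only [mul_assoc, inv_mul_cancel_left, inv_mul_cancel, mul_one]; exact hy)))
        simpa [mul_assoc] using this
    rw [hconj]
    exact h.symm
  · have h := Subgroup.map_equiv_normalizer_eq (P₀ : Subgroup G) (MulAut.conj g)
    rw [hconj, ← h, ← F.card_normP]
    exact (Nat.card_congr (Subgroup.equivMapOfInjective _ _ (MulAut.conj g).injective).toEquiv).symm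

end Cfsg.Agent.S1722
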