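import Cfsg.Statements.S1723
import Cfsg.Agent.H43.JTwo.ThreeB
-- import your own Cfsg.Agent.* helpers here

set_option autoImplicit false
open Cfsg

namespace Cfsg.Agent.S1723

/-- Sylow 3-structure of a group of Hall–Janko type (large-extraspecial hypothesis with Q of order 32, quotient Ω⁻(4, 2), z not weakly closed in Q, more than one class of involutions): a Sylow 3-subgroup P is extraspecial of order 27, its normaliser has order 216, and the elements of order 3 form exactly two conjugacy classes. -/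
theorem result {G : Type*} [Group G] [Finite G] (z : G) (hz : orderOf z = 2) (Q : Subgroup (Subgroup.centralizer ({z} : Set G))) [Q.Normal] (hF : Cfsg.generalizedFittingSubgroup (Subgroup.centralizer ({z} : Set G)) = Q) (hQ : Cfsg.IsExtraspecial 2 Q) (hcard : Nat.card Q = 2 ^ 5) (e : (Subgroup.centralizer ({z} : Set G)) ⧸ Q ≃* Cfsg.Omega (ZMod 2) (Cfsg.quadFormMinus 1 (ZMod 2) 1 1)) (hnwc : ∃ g : G, (∃ hq : g * z * g⁻¹ ∈ Subgroup.centralizer ({z} : Set G), (⟨g * z * g⁻¹, hq⟩ : Subgroup.centralizer ({z} : Set G)) ∈ Q) ∧ g * z * g⁻¹ ≠ z) (hcl : ∃ x y : G, orderOf x = 2 ∧ orderOf y = 2 ∧ ¬ IsConj x y) (P : Sylow 3 G) : Cfsg.IsExtraspecial 3 (P : Subgroup G) ∧ Nat.card P = 27 ∧ Nat.card (Subgroup.normalizer ((P : Subgroup G) : Set G)) = 216 ∧ ∃ a b : G, orderOf a = 3 ∧ orderOf b = 3 ∧ ¬ IsConj a b ∧ ∀ c : G, orderOf c = 3 → IsConj c a ∨ IsConj c b := by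
  haveI : Fact (Nat.Prime 3) := ⟨by norm_num⟩
  obtain ⟨D⟩ := H43.JTwo.jset_of hz Q hF hQ hcard e hnwc hcl
  obtain ⟨t, a, σ, L, ρ, P₀, Z⟩ := D.exists_zthree
  obtain ⟨g, hg⟩ := MulAction.exists_smul_eq G P₀ P
  have hconj : (P : Subgroup G) = (P₀ : Subgroup G).map (MulAut.conj g).toMonoidHom := by
    rw [← hg, Sylow.coe_subgroup_smul]; rfl
  have hP : Nat.card (P : Subgroup G) = 27 :=
    (Nat.card_congr (Sylow.equiv P₀ P).toEquiv).symm.trans Z.cardP
  refine ⟨H49.extraspecial_of_card_cube (by rw [hP]; norm_num) fun hab => Z.nonab fun p q => ?_, hP, ?_,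
    ρ, σ, Z.hρ, Z.hσ, fun h => Z.not_conj (Subgroup.mem_zpowers ρ) h.symm, fun c hc => Z.three_classes hc⟩
  · exact (Sylow.equiv P₀ P).injective (by rw [map_mul, map_mul, hab])
  · have h := Subgroup.map_equiv_normalizer_eq (P₀ : Subgroup G) (MulAut.conj g)
    rw [hconj, ← h, ← Z.card_normP.1]
    exact (Nat.card_congr (Subgroup.equivMapOfInjective _ _ (MulAut.conj g).injective).toEquiv).symm

end Cfsg.Agent.S1723
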