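import Cfsg.Statements.S1743
import Cfsg.Agent.H48.GTwoFusion.Model
import Cfsg.Agent.H14.GTwoOrd.Bridge

set_option autoImplicit false
open Cfsg

namespace Cfsg.Agent.S1743

/-- Let G be a finite simple group whose Sylow 2-subgroups are isomorphic to a Sylow 2-subgroup of the Chevalley group of type G₂ over a finite field of odd order, and let S be a Sylow 2-subgroup of G. Then either all involutions of G are conjugate, or S has order 64 and the involutions of G form exactly two conjugacy classes. -/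
theorem result {G : Type*} [Group G] [Finite G] [IsSimpleGroup G]
    {F : Type*} [Field F] [Fintype F] (hF : Odd (Fintype.card F)) (S : Sylow 2 G) (P : Sylow 2 ↥(Cfsg.Lie.chevG2.group F))
    (hS : Nonempty (↥(S : Subgroup G) ≃* ↥(P : Subgroup ↥(Cfsg.Lie.chevG2.group F)))) :
    (∀ x y : G, orderOf x = 2 → orderOf y = 2 → IsConj x y) ∨
      (Nat.card ↥(S : Subgroup G) = 64 ∧ ∃ x y : G, orderOf x = 2 ∧ orderOf y = 2 ∧ ¬ IsConj x y ∧
        ∀ z : G, orderOf z = 2 → IsConj z x ∨ IsConj z y) := by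
  classical
  obtain ⟨S₀, ⟨D₀⟩⟩ := Cfsg.Agent.H48.GTwoFusion.exists_sylow_data (F := F) hF
  obtain ⟨e₁⟩ := Cfsg.Agent.H14.GTwoOrd.nonempty_equiv (F := F)
  have : Fact (Nat.Prime 2) := ⟨Nat.prime_two⟩
  let S₁ : Sylow 2 ↥(Cfsg.Lie.chevG2.group F) := S₀.mapSurjective (f := e₁.toMonoidHom) e₁.surjective
  let f₁ : ↥(S₀ : Subgroup (Cfsg.Lie.G2 F)) ≃* ↥(S₁ : Subgroup ↥(Cfsg.Lie.chevG2.group F)) :=
    (e₁.subgroupMap _).trans (MulEquiv.subgroupCongr (Sylow.coe_mapSurjective (f := e₁.toMonoidHom) e₁.surjective S₀).symm)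
  let f₂ := Sylow.equiv S₁ P
  let D := D₀.ofEquiv ((f₁.trans f₂).trans hS.some.symm)
  refine Cfsg.Agent.H48.GTwoFusion.involution_classes (fun hab => ?_) S D
  have hr : D.r * D.w 1 0 = D.w 1 0 * D.r := hab _ _
  rw [D.r_w, mul_left_inj, D.w_inj] at hr
  obtain ⟨⟨c, hc⟩, -⟩ := hr
  have h4 : (4 : ℤ) ∣ 4 * D.k * c := ⟨D.k * c, by ring⟩
  omega

end Cfsg.Agent.S1743
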