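import Cfsg.Statements.S1753

set_option autoImplicit false
universe u
open Cfsg

namespace Cfsg.Agent.S1753

/-- Let K be any property of groups. (1) If G is a minimal counterexample relative to K — a finite non-abelian simple group not satisfying K such that every finite non-abelian simple group of smaller order satisfies K — then every proper subgroup of G is a K-group (all its non-abelian simple sections satisfy K), since such sections have smaller order than G. (2) Consequently (induction on the order), if every finite non-abelian simple group all of whose proper subgroups are K-groups satisfies K, then every finite non-abelian simple group satisfies K. -/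
theorem result (K : ∀ (X : Type u) [Group X], Prop) :
    (∀ (G : Type u) [Group G], Cfsg.IsMinCounterexampleWith K G → Cfsg.IsKProperWith K G) ∧
      ((∀ (X : Type u) [Group X] [Finite X], IsSimpleGroup X → ¬ IsMulCommutative X → Cfsg.IsKProperWith K X → K X) →
        ∀ (G : Type u) [Group G] [Finite G], IsSimpleGroup G → ¬ IsMulCommutative G → K G) := by
  refine ⟨fun G _ hG => ?_, fun h G _ _ hs hn => ?_⟩
  · obtain ⟨hfin, -, -, -, hmin⟩ := hG
    intro H hH M N _ hs hn
    refine hmin _ hs hn ?_
    exact lt_of_le_of_lt ((Nat.le_of_dvd Nat.card_pos (Subgroup.card_quotient_dvd_card N)).trans (Subgroup.card_le_card_group M))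
      (lt_of_le_of_ne (Subgroup.card_le_card_group H) fun e => hH (Subgroup.eq_top_of_card_eq H e))
  · suffices ∀ n : ℕ, ∀ (X : Type u) [Group X] [Finite X], Nat.card X = n → IsSimpleGroup X →
        ¬ IsMulCommutative X → K X from this _ G rfl hs hn
    intro n
    induction n using Nat.strong_induction_on with
    | _ n ih =>
      intro X _ _ hX hs hn
      refine h X hs hn fun H hH M N _ hs' hn' => ?_
      refine ih _ ?_ (↥M ⧸ N) rfl hs' hn'
      subst hX
      exact lt_of_le_of_lt ((Nat.le_of_dvd Nat.card_pos (Subgroup.card_quotient_dvd_card N)).trans (Subgroup.card_le_card_group M))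
        (lt_of_le_of_ne (Subgroup.card_le_card_group H) fun e => hH (Subgroup.eq_top_of_card_eq H e))

end Cfsg.Agent.S1753
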