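import Cfsg.Statements.S1755
import Cfsg.Agent.H46.TI
import Cfsg.Agent.Components.Basic

set_option autoImplicit false
open Cfsg

namespace Cfsg.Agent.S1755

/-- A cyclic group has at most one involution. -/
theorem unique_involution {A : Type*} [Group A] [Finite A] [IsCyclic A] (x y : A)
    (hx : orderOf x = 2) (hy : orderOf y = 2) : x = y := by
  haveI := Fintype.ofFinite A
  classical
  obtain ⟨g, hg⟩ := IsCyclic.exists_generator (α := A)
  have hd : 2 ∣ Fintype.card A := hx ▸ orderOf_dvd_card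
  have hcard := IsCyclic.card_orderOf_eq_totient (α := A) hd
  rw [Nat.totient_two, Finset.card_eq_one] at hcard
  obtain ⟨w, hw⟩ := hcard
  have h1 : x ∈ ({w} : Finset A) := hw ▸ Finset.mem_filter.mpr ⟨Finset.mem_univ x, hx⟩
  have h2 : y ∈ ({w} : Finset A) := hw ▸ Finset.mem_filter.mpr ⟨Finset.mem_univ y, hy⟩
  rw [Finset.mem_singleton] at h1 h2
  rw [h1, h2]


theorem key {G : Type*} [Group G] [Finite G] (z : G) (hz : orderOf z = 2) (C : Subgroup G)
    (hC : ∀ x : G, x * z = z * x → x ∈ C) (zC : ↥C) (hzC : (zC : G) = z)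
    (hzc : ∀ x : ↥C, x * zC = zC * x) (Q : Subgroup ↥C) [Q.Normal] (hzQ : zC ∈ Q)
    (hQ : Cfsg.IsOfSymplecticType ↥Q) (B : Subgroup ↥Q) (hBc : B.Characteristic)
    (hBa : IsMulCommutative ↥B) (g : G) :
    ((B.map Q.subtype).map C.subtype).map (MulAut.conj g).toMonoidHom = (B.map Q.subtype).map C.subtype ∨
      ((B.map Q.subtype).map C.subtype).map (MulAut.conj g).toMonoidHom ⊓
        (B.map Q.subtype).map C.subtype = ⊥ := by
  by_cases hB : B = ⊥
  · exact Or.inl (by subst hB; simp)
  obtain ⟨hQ2, hchar⟩ := hQ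
  haveI : Fact (Nat.Prime 2) := ⟨Nat.prime_two⟩
  haveI : IsCyclic ↥B := hchar B hBc hBa
  let zQ : ↥Q := ⟨zC, hzQ⟩
  have hzcQ : zQ ∈ Subgroup.center ↥Q :=
    Subgroup.mem_center_iff.mpr fun x => Subtype.ext (hzc x)
  have hz2 : orderOf zQ = 2 := by
    rw [← Subgroup.orderOf_coe zQ, ← Subgroup.orderOf_coe ((zQ : ↥Q) : ↥C)]
    exact (congrArg orderOf hzC).trans hz
  -- the cyclic group Z(Q) has a unique involution
  haveI : IsCyclic ↥(Subgroup.center ↥Q) := hchar _ Subgroup.centerCharacteristic inferInstance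
  have huniq : ∀ x : ↥Q, x ∈ Subgroup.center ↥Q → orderOf x = 2 → x = zQ := fun x hx hx2 => by
    have := unique_involution (⟨x, hx⟩ : ↥(Subgroup.center ↥Q)) ⟨zQ, hzcQ⟩
      (by rw [← Subgroup.orderOf_coe]; exact hx2) (by rw [← Subgroup.orderOf_coe]; exact hz2)
    exact Subtype.ext_iff.mp this
  haveI := hBc
  haveI : B.Normal := Subgroup.normal_of_characteristic B
  obtain ⟨b, hbB, hbc, hb2⟩ := PGroups.exists_mem_center_orderOf_eq hQ2 B hB
  have hzB : zQ ∈ B := huniq b hbc hb2 ▸ hbB
  set B' : Subgroup G := (B.map Q.subtype).map C.subtype with hB'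
  have hzB' : z ∈ B' := ⟨zC, ⟨zQ, hzB, rfl⟩, hzC⟩
  by_cases hint : B'.map (MulAut.conj g).toMonoidHom ⊓ B' = ⊥
  · exact Or.inr hint
  refine Or.inl ?_
  haveI : IsCyclic ↥B' := by
    have e1 := B.equivMapOfInjective Q.subtype Q.subtype_injective
    have e2 := (B.map Q.subtype).equivMapOfInjective C.subtype C.subtype_injective
    exact isCyclic_of_surjective (e1.trans e2).toMonoidHom (e1.trans e2).surjective
  have hB'2 : IsPGroup 2 ↥B' := ((hQ2.to_subgroup B).map _).map _
  obtain ⟨x, hx, hx2⟩ := PGroups.exists_orderOf_eq hB'2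
    (H := (B'.map (MulAut.conj g).toMonoidHom ⊓ B').subgroupOf B')
    (fun h => hint (by
      have := congrArg (Subgroup.map B'.subtype) h
      rwa [Subgroup.subgroupOf_map_subtype, Subgroup.map_bot, inf_assoc, inf_idem] at this))
  have hxz : x = ⟨z, hzB'⟩ := unique_involution x ⟨z, hzB'⟩ hx2
    (by rw [← Subgroup.orderOf_coe]; exact hz)
  obtain ⟨y, hy, hyx⟩ : z ∈ B'.map (MulAut.conj g).toMonoidHom := by
    have := (Subgroup.mem_subgroupOf.mp hx).1
    rwa [hxz] at this
  have hy2 : orderOf y = 2 := by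
    have h2 : orderOf ((MulAut.conj g) y) = 2 := hyx ▸ hz
    rwa [MulEquiv.orderOf_eq] at h2
  have hyz : y = z := Subtype.ext_iff.mp (unique_involution (⟨y, hy⟩ : ↥B') ⟨z, hzB'⟩
    (by rw [← Subgroup.orderOf_coe]; exact hy2) (by rw [← Subgroup.orderOf_coe]; exact hz))
  subst hyz
  have hgC : g ∈ C := by
    refine hC g ?_
    have h1 : g * y * g⁻¹ = y := hyx
    calc g * y = g * y * g⁻¹ * g := by group
      _ = y * g := by rw [h1]
  -- B is normal in C
  haveI : (B.map Q.subtype).Normal := by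
    haveI := hBc
    exact ConjAct.normal_of_characteristic_of_normal
  ext w
  rw [H46.mem_conj_iff]
  constructor
  · rintro ⟨u, hu, huw⟩
    refine ⟨⟨g, hgC⟩ * u * ⟨g, hgC⟩⁻¹, ‹(B.map Q.subtype).Normal›.conj_mem u hu _, ?_⟩
    rw [map_mul, map_mul, map_inv, huw]
    show g * (g⁻¹ * w * g) * g⁻¹ = w
    group
  · rintro ⟨u, hu, rfl⟩
    refine ⟨⟨g, hgC⟩⁻¹ * u * ⟨g, hgC⟩, ?_, rfl⟩
    simpa using ‹(B.map Q.subtype).Normal›.conj_mem u hu (⟨g, hgC⟩⁻¹)


/-- Let G be a finite group and let z be an involution of G such that Q, the generalized Fitting subgroup of the centralizer C of z, is a 2-group of symplectic type (every characteristic abelian subgroup of Q is cyclic). Let B be a characteristic abelian subgroup of Q, viewed as a subgroup of G. Then for every g in G, the conjugate of B by g either equals B or meets B trivially. -/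
theorem result {G : Type*} [Group G] [Finite G] (z : G) (hz : orderOf z = 2) (hQ : Cfsg.IsOfSymplecticType ↥(Cfsg.generalizedFittingSubgroup ↥(Subgroup.centralizer ({z} : Set G))))
    (B : Subgroup ↥(Cfsg.generalizedFittingSubgroup ↥(Subgroup.centralizer ({z} : Set G)))) (hBc : B.Characteristic) (hBa : IsMulCommutative ↥B) (g : G) :
    ((B.map (Cfsg.generalizedFittingSubgroup ↥(Subgroup.centralizer ({z} : Set G))).subtype).map (Subgroup.centralizer ({z} : Set G)).subtype).map (MulAut.conj g).toMonoidHom =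
        (B.map (Cfsg.generalizedFittingSubgroup ↥(Subgroup.centralizer ({z} : Set G))).subtype).map (Subgroup.centralizer ({z} : Set G)).subtype ∨
      ((B.map (Cfsg.generalizedFittingSubgroup ↥(Subgroup.centralizer ({z} : Set G))).subtype).map (Subgroup.centralizer ({z} : Set G)).subtype).map (MulAut.conj g).toMonoidHom ⊓
        (B.map (Cfsg.generalizedFittingSubgroup ↥(Subgroup.centralizer ({z} : Set G))).subtype).map (Subgroup.centralizer ({z} : Set G)).subtype = ⊥ := by
  haveI : Fact (Nat.Prime 2) := ⟨Nat.prime_two⟩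
  let zC : ↥(Subgroup.centralizer ({z} : Set G)) := ⟨z, Subgroup.mem_centralizer_singleton_iff.mpr rfl⟩
  have hzc : ∀ x : ↥(Subgroup.centralizer ({z} : Set G)), x * zC = zC * x := fun x =>
    Subtype.ext (Subgroup.mem_centralizer_singleton_iff.mp x.2)
  refine key z hz _ (fun x h => Subgroup.mem_centralizer_singleton_iff.mpr h) zC rfl hzc _ ?_ hQ B hBc hBa g
  have hn : (Subgroup.zpowers zC).Normal := by
    refine ⟨fun n hn g => ?_⟩
    obtain ⟨k, rfl⟩ := Subgroup.mem_zpowers_iff.mp hn
    have hk : g * zC ^ k = zC ^ k * g := (Commute.zpow_right (hzc g) k).eq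
    rw [hk, mul_inv_cancel_right]
    exact hn
  have hnil : Group.IsNilpotent ↥(Subgroup.zpowers zC) :=
    (IsPGroup.of_card (p := 2) (n := 1) (by
      rw [Nat.card_zpowers, ← Subgroup.orderOf_coe, hz, pow_one])).isNilpotent
  exact Components.fitting_le_genFitting
    (Components.normal_nilpotent_le_fitting hn hnil (Subgroup.mem_zpowers zC))

end Cfsg.Agent.S1755
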