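import Cfsg.Statements.S1756
import Cfsg.Agent.H46.Extraspecial

set_option autoImplicit false
open Cfsg

namespace Cfsg.Agent.S1756

/-- Let Q be an extraspecial 2-subgroup of the finite group G (special with centre of order 2) and t an involution of G normalizing Q such that the centralizer of t in Q has index at most 2 in Q. Then t lies in the product of Q with the centralizer of Q. -/
theorem result {G : Type*} [Group G] [Finite G] (Q : Subgroup G)
    (hQ : Cfsg.IsExtraspecial 2 ↥Q) (t : G) (ht : orderOf t = 2) (htN : t ∈ Subgroup.normalizer (Q : Set G))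
    (hi : (Subgroup.centralizer ({t} : Set G) ⊓ Q).relIndex Q ≤ 2) :
    t ∈ Q ⊔ Subgroup.centralizer (Q : Set G) := by
  have htt : t * t = 1 := by rw [← pow_two, ← ht, pow_orderOf_eq_one]
  obtain ⟨q, hq⟩ := H46.es_inner hQ (Q.normalizerMonoidHom ⟨t, htN⟩)
    (fun x => by
      refine Subtype.ext ?_
      show t * (t * (x : G) * t⁻¹) * t⁻¹ = x
      rw [inv_eq_of_mul_eq_one_right htt]
      calc t * (t * (x : G) * t) * t = (t * t) * x * (t * t) := by simp only [mul_assoc]
        _ = x := by rw [htt, one_mul, mul_one])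
    ((Subgroup.centralizer ({t} : Set G) ⊓ Q).subgroupOf Q)
    (fun x hx => by
      refine Subtype.ext ?_
      show t * (x : G) * t⁻¹ = x
      rw [← Subgroup.mem_centralizer_singleton_iff.mp (Subgroup.mem_subgroupOf.mp hx).1,
        mul_inv_cancel_right])
    hi
  have h1 : (q : G)⁻¹ * t ∈ Subgroup.centralizer (Q : Set G) := by
    rw [Subgroup.mem_centralizer_iff]
    intro x hx
    have := congrArg Subtype.val (hq ⟨x, hx⟩)
    change t * x * t⁻¹ = (q : G) * x * (q : G)⁻¹ at this
    calc x * ((q : G)⁻¹ * t) = (q : G)⁻¹ * ((q : G) * x * (q : G)⁻¹) * t := by group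
      _ = (q : G)⁻¹ * (t * x * t⁻¹) * t := by rw [this]
      _ = (q : G)⁻¹ * t * x := by group
  have := Subgroup.mul_mem_sup q.2 h1
  rwa [mul_inv_cancel_left] at this

end Cfsg.Agent.S1756
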