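import Cfsg.Statements.S1774
import Cfsg.Agent.H46.SympConj
import Cfsg.Agent.Components.Basic

set_option autoImplicit false
open Cfsg

namespace Cfsg.Agent.S1774

section Helpers

open Subgroup

theorem nice_of {G : Type*} [Group G] [Finite G] (z : G) (hz : orderOf z = 2)
    (hQ : Cfsg.IsOfSymplecticType ↥(Cfsg.generalizedFittingSubgroup ↥(centralizer ({z} : Set G))))
    (h4 : ∀ q ∈ (Cfsg.generalizedFittingSubgroup ↥(centralizer ({z} : Set G))).map (centralizer ({z} : Set G)).subtype, q ^ 4 = 1) :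
    H46.Nice z ((Cfsg.generalizedFittingSubgroup ↥(centralizer ({z} : Set G))).map (centralizer ({z} : Set G)).subtype) := by
  haveI : Fact (Nat.Prime 2) := ⟨Nat.prime_two⟩
  set C := centralizer ({z} : Set G)
  set F := Cfsg.generalizedFittingSubgroup ↥C
  let zC : ↥C := ⟨z, mem_centralizer_singleton_iff.mpr rfl⟩
  have hzc : ∀ x : ↥C, x * zC = zC * x := fun x => Subtype.ext (mem_centralizer_singleton_iff.mp x.2)
  have hn : (zpowers zC).Normal := by
    refine ⟨fun n hn g => ?_⟩
    obtain ⟨k, rfl⟩ := mem_zpowers_iff.mp hn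
    rw [(Commute.zpow_right (hzc g) k).eq, mul_inv_cancel_right]
    exact hn
  have hnil : Group.IsNilpotent ↥(zpowers zC) :=
    (IsPGroup.of_card (p := 2) (n := 1) (by
      rw [Nat.card_zpowers, ← Subgroup.orderOf_coe, hz, pow_one])).isNilpotent
  have hzF : zC ∈ F := Components.fitting_le_genFitting
    (Components.normal_nilpotent_le_fitting hn hnil (mem_zpowers zC))
  have hFn : ∀ c : ↥C, ∀ q ∈ F, c * q * c⁻¹ ∈ F := by
    have : F.Normal := inferInstance
    exact fun c q hq => this.conj_mem q hq c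
  have hz2 : z * z = 1 := by rw [← pow_two, ← hz]; exact pow_orderOf_eq_one z
  have hz1 : z ≠ 1 := by intro e; rw [e, orderOf_one] at hz; omega
  let zF : ↥F := ⟨zC, hzF⟩
  have hzcen : zF ∈ center ↥F := mem_center_iff.mpr fun x => Subtype.ext (hzc x.1)
  obtain ⟨⟨hsq, hcomm⟩, hcc⟩ := H46.symp_exp_four hQ
    (fun a => Subtype.ext (Subtype.ext (h4 _ ⟨a.1, a.2, rfl⟩)))
    hzcen (Subtype.ext (Subtype.ext (by simpa [pow_two] using hz2)))
    (fun e => hz1 (congrArg (fun a : ↥F => ((a : ↥C) : G)) e))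
  refine ⟨⟨zC, hzF, rfl⟩, hz2, hz1, ?_, ?_, ?_, ?_, ?_, ?_⟩
  · rintro _ ⟨q, _, rfl⟩
    exact congrArg Subtype.val (hzc q)
  · rintro c hc _ ⟨q, hq, rfl⟩
    exact ⟨_, hFn ⟨c, mem_centralizer_singleton_iff.mpr hc⟩ q hq, rfl⟩
  · intro c hc
    have hcz : c * z = z * c := hc z ⟨zC, hzF, rfl⟩
    refine ⟨⟨c, mem_centralizer_singleton_iff.mpr hcz⟩, ?_, rfl⟩
    exact Components.centralizer_genFitting_le (mem_centralizer_iff.mpr fun q hq =>
      Subtype.ext (hc _ ⟨q, hq, rfl⟩).symm)
  · rintro _ ⟨a, ha, rfl⟩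
    rcases hsq ⟨a, ha⟩ with e | e <;>
      have e' := congrArg (fun a : ↥F => ((a : ↥C) : G)) e
    · exact Or.inl (by simpa [pow_two] using e')
    · exact Or.inr (by simpa [pow_two, zF, zC] using e')
  · rintro _ ⟨a, ha, rfl⟩ _ ⟨b, hb, rfl⟩
    rcases hcomm ⟨a, ha⟩ ⟨b, hb⟩ with e | e <;>
      have e' := congrArg (fun a : ↥F => ((a : ↥C) : G)) e
    · exact Or.inl (by simpa using e')
    · exact Or.inr (by simpa [zF, zC] using e')
  · rintro _ ⟨w, hw, rfl⟩ hw2 hc
    rcases hcc ⟨w, hw⟩ (mem_center_iff.mpr fun q => Subtype.ext (Subtype.ext (hc _ ⟨q.1, q.2, rfl⟩).symm))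
        (Subtype.ext (Subtype.ext (by simpa [pow_two] using hw2))) with e | e <;>
      have e' := congrArg (fun a : ↥F => ((a : ↥C) : G)) e
    · exact Or.inl e'
    · exact Or.inr e'

end Helpers


/-- Let G be a finite group and let z be an involution of G such that Q, the generalized Fitting subgroup of the centralizer C of z, is a 2-group of symplectic type (every characteristic abelian subgroup of Q is cyclic); suppose every element of Q has order dividing 4. Let g ∈ G with z' = g z g⁻¹ ≠ z and z' ∈ Q. Then z lies in the conjugate g Q g⁻¹, and the subgroup X generated by Q and g Q g⁻¹ induces every automorphism of the four-group generated by z and z': for any two distinct non-identity elements u, v of that four-group there is x ∈ X with x z x⁻¹ = u and x z' x⁻¹ = v. -/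
theorem result {G : Type*} [Group G] [Finite G] (z : G) (hz : orderOf z = 2) (hQ : Cfsg.IsOfSymplecticType ↥(Cfsg.generalizedFittingSubgroup ↥(Subgroup.centralizer ({z} : Set G))))
    (h4 : ∀ q ∈ (Cfsg.generalizedFittingSubgroup ↥(Subgroup.centralizer ({z} : Set G))).map (Subgroup.centralizer ({z} : Set G)).subtype, q ^ 4 = 1) (g : G) (hne : g * z * g⁻¹ ≠ z) (hin : g * z * g⁻¹ ∈ (Cfsg.generalizedFittingSubgroup ↥(Subgroup.centralizer ({z} : Set G))).map (Subgroup.centralizer ({z} : Set G)).subtype) :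
    z ∈ ((Cfsg.generalizedFittingSubgroup ↥(Subgroup.centralizer ({z} : Set G))).map (Subgroup.centralizer ({z} : Set G)).subtype).map (MulAut.conj g).toMonoidHom ∧
      ∀ u ∈ Subgroup.closure ({z, g * z * g⁻¹} : Set G), ∀ v ∈ Subgroup.closure ({z, g * z * g⁻¹} : Set G),
        u ≠ 1 → v ≠ 1 → u ≠ v →
          ∃ x ∈ (Cfsg.generalizedFittingSubgroup ↥(Subgroup.centralizer ({z} : Set G))).map (Subgroup.centralizer ({z} : Set G)).subtype ⊔ ((Cfsg.generalizedFittingSubgroup ↥(Subgroup.centralizer ({z} : Set G))).map (Subgroup.centralizer ({z} : Set G)).subtype).map (MulAut.conj g).toMonoidHom, x * z * x⁻¹ = u ∧ x * (g * z * g⁻¹) * x⁻¹ = v := by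
  have hN := nice_of z hz hQ h4
  exact ⟨hN.mem_conj g hne hin, fun u hu v hv hu1 hv1 huv => hN.conj_perm g hne hin hu hv hu1 hv1 huv⟩

end Cfsg.Agent.S1774
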