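import Cfsg.Statements.S1775
import Cfsg.Agent.H46.PCompImage
import Cfsg.Agent.H41.TwoLayer

set_option autoImplicit false
open Cfsg

namespace Cfsg.Agent.S1775

section Helpers

open Subgroup
open scoped commutatorElement

theorem main {G : Type*} [Group G] [Finite G] (x y : G) (hx : orderOf x = 2) (_hxy : x * y = y * x)
    (Y : Subgroup G) (hxY : x ∈ Y) (L : Subgroup G) (hLx : ∀ l ∈ L, l * x = x * l)
    (hLn : ∀ g : G, g * x = x * g → ∀ l ∈ L, g * l * g⁻¹ ∈ L)
    (hB : Cfsg.HasBProperty (↥Y ⧸ Cfsg.oddCore ↥Y)) (J : Subgroup ↥(L ⊓ Y))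
    (hJ : Cfsg.IsPComponent 2 J) :
    Cfsg.IsComponent
        ((((J.map (Subgroup.subtype _)).subgroupOf Y).map (QuotientGroup.mk' (Cfsg.oddCore ↥Y))).subgroupOf
          (centralizer ({(QuotientGroup.mk' (Cfsg.oddCore ↥Y) ⟨x, hxY⟩ : ↥Y ⧸ Cfsg.oddCore ↥Y)} : Set _))) ∧
      ∀ E : Subgroup G, E ≤ centralizer ({x} : Set G) ⊓ Y → Odd (Nat.card ↥E) →
        (∀ j ∈ J.map (Subgroup.subtype _), ∀ e ∈ E, j * e * j⁻¹ ∈ E) →
          ⁅J.map (Subgroup.subtype _), E⁆ ≤ (Cfsg.oddCore ↥Y).map Y.subtype := by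
  classical
  haveI : Fact (Nat.Prime 2) := ⟨Nat.prime_two⟩
  set N := Cfsg.oddCore ↥Y with hN
  have hNcop : (Nat.card ↥N).Coprime 2 := Cores.coprime_card_pPrimeCore
  set q := QuotientGroup.mk' N with hq
  set xY : ↥Y := ⟨x, hxY⟩
  set W := centralizer ({xY} : Set ↥Y) with hW
  set H := centralizer ({q xY} : Set (↥Y ⧸ N)) with hH
  have hWmem : ∀ {w : ↥Y}, w ∈ W ↔ (w : G) * x = x * w := fun {w} => by
    rw [hW, mem_centralizer_singleton_iff]
    exact ⟨fun h => congrArg Subtype.val h, fun h => Subtype.ext h⟩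
  have hWH : W.map q = H := by
    have h1 : ∀ {X : Type _} [Group X] (a : X), centralizer ((zpowers a : Subgroup X) : Set X) =
        centralizer ({a} : Set X) := fun {X} _ a => by
      rw [zpowers_eq_closure, centralizer_closure]
    have h2 := Cores.map_centralizer_of_coprime N hNcop (P := zpowers xY)
      (IsPGroup.of_card (p := 2) (n := 1) (by
        rw [Nat.card_zpowers, ← Subgroup.orderOf_coe, pow_one]; exact hx))
    rw [MonoidHom.map_zpowers, h1, h1] at h2
    exact h2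
  let jW : ↥W →* ↥H := (q.comp W.subtype).codRestrict H fun w => hWH ▸ ⟨w, w.2, rfl⟩
  have hjW : Function.Surjective jW := by
    rintro ⟨b, hb⟩
    rw [← hWH] at hb
    obtain ⟨w, hw, rfl⟩ := hb
    exact ⟨⟨w, hw⟩, rfl⟩
  let ι : ↥(L ⊓ Y) →* ↥W :=
    { toFun := fun a => ⟨⟨a, (mem_inf.mp a.2).2⟩, hWmem.mpr (hLx a (mem_inf.mp a.2).1)⟩
      map_one' := rfl
      map_mul' := fun _ _ => rfl }
  haveI : ι.range.Normal := by
    constructor
    rintro _ ⟨a, rfl⟩ g
    exact ⟨⟨(g : ↥Y) * (a : G) * ((g : ↥Y) : G)⁻¹, mem_inf.mpr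
      ⟨hLn _ (hWmem.mp g.2) a (mem_inf.mp a.2).1,
        mul_mem (mul_mem (g : ↥Y).2 (mem_inf.mp a.2).2) (inv_mem (g : ↥Y).2)⟩⟩, rfl⟩
  let f : ↥(L ⊓ Y) →* ↥H := jW.comp ι
  have hf : ∀ a : ↥(L ⊓ Y), ((f a : ↥H) : ↥Y ⧸ N) = q ⟨a, (mem_inf.mp a.2).2⟩ := fun a => rfl
  have hsub : ∀ A : Subgroup ↥(L ⊓ Y), A.IsSubnormal → (A.map f).IsSubnormal := by
    intro A hA
    have h1 : (A.map ι.rangeRestrict).IsSubnormal := hA.map ι.rangeRestrict_surjective
    have h2 := Components.isSubnormal_map_subtype h1 (Subgroup.Normal.isSubnormal inferInstance)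
    rw [Subgroup.map_map, MonoidHom.subtype_comp_rangeRestrict] at h2
    rw [← Subgroup.map_map]
    exact h2.map hjW
  set K := J.map f with hK
  have hKp : Cfsg.IsPComponent 2 K := by
    refine H46.isPComponent_map hJ f (hsub J hJ.1) ?_ ?_
    · refine Nat.Coprime.coprime_dvd_left ?_ hNcop
      let emb : ↥(L ⊓ Y) →* ↥Y := W.subtype.comp ι
      have hemb : Function.Injective emb := fun a b h =>
        Subtype.ext (congrArg (fun w : ↥Y => (w : G)) h)
      rw [← Subgroup.card_map_of_injective hemb (K := f.ker ⊓ J)]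
      refine Subgroup.card_dvd_of_le ?_
      rintro _ ⟨a, ha, rfl⟩
      have h1 : q ⟨a, (mem_inf.mp a.2).2⟩ = 1 := by
        rw [← hf a, MonoidHom.mem_ker.mp ha.1]; rfl
      exact (QuotientGroup.eq_one_iff _).mp h1
    · rw [← Subgroup.map_map]
      exact hsub _ (Components.isSubnormal_map_subtype (Subgroup.Normal.isSubnormal inferInstance) hJ.1)
  have hqx : orderOf (q xY) = 2 := by
    refine orderOf_eq_prime ?_ fun h => ?_
    · rw [← map_pow, show xY ^ 2 = 1 from Subtype.ext (hx ▸ pow_orderOf_eq_one x), map_one]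
    · have h1 : xY ∈ N := (QuotientGroup.eq_one_iff _).mp h
      have h2 : orderOf (⟨xY, h1⟩ : ↥N) ∣ Nat.card ↥N := orderOf_dvd_natCard _
      rw [Subgroup.orderOf_mk, ← Subgroup.orderOf_coe, show ((xY : ↥Y) : G) = x from rfl, hx] at h2
      exact Nat.prime_two.ne_one (Nat.eq_one_of_dvd_coprimes hNcop h2 dvd_rfl)
  have hBt : ⁅Cfsg.pLayer 2 ↥H, Cfsg.oddCore ↥H⁆ = ⊥ := by
    have h1 := hB (q xY) hqx
    rw [show Cfsg.oddCore (↥Y ⧸ N) = ⊥ from Cores.pPrimeCore_quotient_pPrimeCore, le_bot_iff,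
      Subgroup.map_eq_bot_iff_of_injective _ (Subgroup.subtype_injective _)] at h1
    exact h1
  have hKqs : Cfsg.IsQuasisimple ↥K := Components.quasisimple_of_commutator_core hKp
    (le_bot_iff.mp ((Subgroup.commutator_mono (Components.pComponent_le_pLayer hKp) inf_le_left).trans
      hBt.le))
  have hKc : Cfsg.IsComponent K := ⟨hKp.1, hKqs⟩
  have heq : (((J.map (L ⊓ Y).subtype).subgroupOf Y).map q).subgroupOf H = K := by
    ext b
    constructor
    · intro hb
      obtain ⟨w, hw, hwb⟩ := Subgroup.mem_subgroupOf.mp hb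
      obtain ⟨a, ha, haw⟩ := Subgroup.mem_subgroupOf.mp hw
      refine ⟨a, ha, Subtype.ext ?_⟩
      rw [hf a, ← hwb]
      exact congrArg q (Subtype.ext haw)
    · rintro ⟨a, ha, rfl⟩
      exact Subgroup.mem_subgroupOf.mpr ⟨⟨a, (mem_inf.mp a.2).2⟩,
        Subgroup.mem_subgroupOf.mpr ⟨a, ha, rfl⟩, (hf a).symm⟩
  refine ⟨heq.symm ▸ hKc, fun E hE hodd hinv => ?_⟩
  set EW : Subgroup ↥W := E.comap (Y.subtype.comp W.subtype)
  set EH : Subgroup ↥H := EW.map jW
  have hEH : Odd (Nat.card ↥EH) := by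
    have h1 : Nat.card ↥EH ∣ Nat.card ↥EW := Subgroup.card_map_dvd _ _
    have hinj : Function.Injective (Y.subtype.comp W.subtype) :=
      Y.subtype_injective.comp W.subtype_injective
    have h2 : Nat.card ↥EW ∣ Nat.card ↥E := by
      rw [← Subgroup.card_map_of_injective hinj (K := EW)]
      exact Subgroup.card_dvd_of_le (Subgroup.map_comap_le _ _)
    exact hodd.of_dvd_nat (h1.trans h2)
  have hnorm : K ≤ normalizer (EH : Set ↥H) := by
    have hle : ∀ k ∈ K, EH.map (MulAut.conj k).toMonoidHom ≤ EH := by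
      rintro _ ⟨a, ha, rfl⟩ _ ⟨_, ⟨e, he, rfl⟩, rfl⟩
      exact ⟨ι a * e * (ι a)⁻¹, hinv a ⟨a, ha, rfl⟩ _ he, by simp [f]⟩
    intro k hk
    exact mem_normalizer_iff_map_conj_eq.mpr (Subgroup.eq_of_le_of_card_ge (hle k hk)
      (Subgroup.card_map_of_injective (MulAut.conj k).injective).ge)
  have hcomm := H46.component_commutator_odd hKc (Components.pComponent_pElemClosure_self hKp) hEH hnorm
  rw [Subgroup.commutator_le]
  rintro _ ⟨a, ha, rfl⟩ e he
  have heW : (⟨e, (hE he).2⟩ : ↥Y) ∈ W :=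
    hWmem.mpr (mem_centralizer_singleton_iff.mp (hE he).1)
  have h1 := Components.commute_of_commutator_eq_bot hcomm (⟨a, ha, rfl⟩ : f a ∈ K)
    (⟨⟨⟨e, (hE he).2⟩, heW⟩, he, rfl⟩ : jW ⟨⟨e, (hE he).2⟩, heW⟩ ∈ EH)
  refine ⟨⁅(⟨a, (mem_inf.mp a.2).2⟩ : ↥Y), ⟨e, (hE he).2⟩⁆, ?_, rfl⟩
  rw [SetLike.mem_coe, ← QuotientGroup.eq_one_iff]
  show q ⁅(⟨a, (mem_inf.mp a.2).2⟩ : ↥Y), ⟨e, (hE he).2⟩⁆ = 1
  rw [map_commutatorElement, commutatorElement_eq_one_iff_mul_comm]
  exact congrArg Subtype.val h1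

end Helpers


/-- Let G be a finite group whose generalized Fitting subgroup is a non-abelian simple group and in which every proper section (every quotient H/N of a proper subgroup H, or of G by a nontrivial normal subgroup) has the B-property. Let x, y be commuting involutions, let D be the intersection of the 2-layer of C_G(x) with C_G(y), and let J be a 2-component of D. Write Q for the quotient of C_G(y) by its largest normal odd-order subgroup. Then (i) the image of J in Q is a component of the centralizer in Q of the image of x; and (ii) for every J-invariant subgroup E of odd order of C_G(x) ∩ C_G(y), the commutator subgroup [J, E] lies in the largest normal odd-order subgroup of C_G(y). -/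
theorem result {G : Type*} [Group G] [Finite G]
    (hF : IsSimpleGroup ↥(Cfsg.generalizedFittingSubgroup G)) (hF' : ¬ IsMulCommutative ↥(Cfsg.generalizedFittingSubgroup G))
    (hsec : ∀ (H : Subgroup G) (N : Subgroup ↥H) [N.Normal], (H ≠ ⊤ ∨ N ≠ ⊥) → Cfsg.HasBProperty (↥H ⧸ N))
    (x y : G) (hx : orderOf x = 2) (hy : orderOf y = 2) (hxy : x * y = y * x)
    (J : Subgroup ↥((Cfsg.pLayer 2 ↥(Subgroup.centralizer ({x} : Set G))).map (Subgroup.centralizer ({x} : Set G)).subtype ⊓ Subgroup.centralizer ({y} : Set G)))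
    (hJ : Cfsg.IsPComponent 2 J) :
    Cfsg.IsComponent
        ((((J.map (Subgroup.subtype _)).subgroupOf (Subgroup.centralizer ({y} : Set G))).map (QuotientGroup.mk' (Cfsg.oddCore ↥(Subgroup.centralizer ({y} : Set G))))).subgroupOf
          (Subgroup.centralizer ({(QuotientGroup.mk' (Cfsg.oddCore ↥(Subgroup.centralizer ({y} : Set G))) ⟨x, Subgroup.mem_centralizer_singleton_iff.mpr hxy⟩ : ↥(Subgroup.centralizer ({y} : Set G)) ⧸ Cfsg.oddCore ↥(Subgroup.centralizer ({y} : Set G)))} : Set _))) ∧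
      ∀ E : Subgroup G, E ≤ Subgroup.centralizer ({x} : Set G) ⊓ Subgroup.centralizer ({y} : Set G) → Odd (Nat.card ↥E) →
        (∀ j ∈ J.map (Subgroup.subtype _), ∀ e ∈ E, j * e * j⁻¹ ∈ E) →
          ⁅J.map (Subgroup.subtype _), E⁆ ≤ (Cfsg.oddCore ↥(Subgroup.centralizer ({y} : Set G))).map (Subgroup.centralizer ({y} : Set G)).subtype := by
  classical
  have hx1 : x ≠ 1 := fun h => by rw [h, orderOf_one] at hx; norm_num at hx
  have hy1 : y ≠ 1 := fun h => by rw [h, orderOf_one] at hy; norm_num at hy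
  have hYtop : Subgroup.centralizer ({y} : Set G) ≠ ⊤ := by
    intro h
    have hyc : y ∈ Subgroup.centralizer (Cfsg.generalizedFittingSubgroup G : Set G) :=
      Subgroup.mem_centralizer_iff.mpr fun a _ =>
        Subgroup.mem_centralizer_singleton_iff.mp (h.symm ▸ Subgroup.mem_top a)
    have hyF := Components.centralizer_genFitting_le (G := G) hyc
    have hyZ : (⟨y, hyF⟩ : ↥(Cfsg.generalizedFittingSubgroup G)) ∈
        Subgroup.center ↥(Cfsg.generalizedFittingSubgroup G) :=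
      Subgroup.mem_center_iff.mpr fun b => Subtype.ext
        (Subgroup.mem_centralizer_singleton_iff.mp (h.symm ▸ Subgroup.mem_top (b : G)))
    rcases (inferInstance : (Subgroup.center ↥(Cfsg.generalizedFittingSubgroup G)).Normal).eq_bot_or_eq_top
      with hb | ht
    · rw [hb, Subgroup.mem_bot] at hyZ
      exact hy1 (congrArg Subtype.val hyZ)
    · exact hF' ⟨⟨fun a b => Subgroup.mem_center_iff.mp (ht.symm ▸ Subgroup.mem_top b) a⟩⟩
  refine main x y hx hxy (Subgroup.centralizer ({y} : Set G)) _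
    ((Cfsg.pLayer 2 ↥(Subgroup.centralizer ({x} : Set G))).map (Subgroup.centralizer ({x} : Set G)).subtype)
    ?_ ?_ (hsec _ _ (Or.inl hYtop)) J hJ
  · rintro _ ⟨l, -, rfl⟩
    exact Subgroup.mem_centralizer_singleton_iff.mp l.2
  · rintro g hg _ ⟨l, hl, rfl⟩
    haveI := H41.pLayer_normal 2 ↥(Subgroup.centralizer ({x} : Set G))
    exact ⟨⟨g, Subgroup.mem_centralizer_singleton_iff.mpr hg⟩ * l *
      ⟨g, Subgroup.mem_centralizer_singleton_iff.mpr hg⟩⁻¹,
      (inferInstance : (Cfsg.pLayer 2 ↥(Subgroup.centralizer ({x} : Set G))).Normal).conj_mem l hl _, rfl⟩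

end Cfsg.Agent.S1775
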