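import Cfsg.Statements.S1781
import Cfsg.Agent.H46.TI

set_option autoImplicit false
open Cfsg

namespace Cfsg.Agent.S1781

/-- Let A be an abelian 2-subgroup of the finite group G such that every conjugate of A equals A or meets A trivially, and let g ∈ G with g A g⁻¹ ≠ A. Then either the subgroup of those elements of A that normalize g A g⁻¹ is an elementary abelian 2-group, or A and g A g⁻¹ commute elementwise. -/
theorem result {G : Type*} [Group G] [Finite G] (A : Subgroup G)
    (hA2 : IsPGroup 2 ↥A) (hAa : IsMulCommutative ↥A)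
    (hti : ∀ h : G, A.map (MulAut.conj h).toMonoidHom = A ∨ A.map (MulAut.conj h).toMonoidHom ⊓ A = ⊥)
    (g : G) (hg : A.map (MulAut.conj g).toMonoidHom ≠ A) :
    Cfsg.IsElementaryAbelian 2 (A ⊓ Subgroup.normalizer ((A.map (MulAut.conj g).toMonoidHom : Subgroup G) : Set G)) ∨
      ⁅A, A.map (MulAut.conj g).toMonoidHom⁆ = ⊥ := by
  set B := A.map (MulAut.conj g).toMonoidHom with hBdef
  by_cases hE : Cfsg.IsElementaryAbelian 2 (A ⊓ Subgroup.normalizer (B : Set G))
  · exact Or.inl hE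
  refine Or.inr ?_
  have hBA : B ⊓ A = ⊥ := (hti g).resolve_left hg
  have hAB : A ⊓ B = ⊥ := by rw [inf_comm]; exact hBA
  have hcomm : IsMulCommutative ↥(A ⊓ Subgroup.normalizer (B : Set G)) := by
    constructor; constructor
    rintro ⟨x, hx⟩ ⟨y, hy⟩
    have h : (⟨x, hx.1⟩ : ↥A) * ⟨y, hy.1⟩ = ⟨y, hy.1⟩ * ⟨x, hx.1⟩ := hAa.is_comm.comm _ _
    exact Subtype.ext (Subtype.ext_iff.mp h :)
  have : ∃ a ∈ A ⊓ Subgroup.normalizer (B : Set G), a ^ 2 ≠ 1 := by
    by_contra h
    push Not at h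
    exact hE ⟨hcomm, h⟩
  obtain ⟨a, ⟨haA, haB⟩, ha2⟩ := this
  have hB2 : IsPGroup 2 ↥B := hA2.map _
  haveI : IsMulCommutative ↥B := Subgroup.map_isMulCommutative A _
  have hk : ∃ k : ℕ, a ^ 2 ^ k = 1 := by
    obtain ⟨k, hk⟩ := hA2 ⟨a, haA⟩
    exact ⟨k, congrArg Subtype.val hk⟩
  have hcent := H46.commute_of_fixed_sq hB2 haB hk fun b hb hba =>
    H46.commute_of_normalize hAB haA hb haB
      (H46.mem_normalizer_of_commute hti (pow_mem haA 2) ha2 hba.symm)
  have hN : B ≤ Subgroup.normalizer (A : Set G) := fun b hb =>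
    H46.mem_normalizer_of_commute hti haA (fun h => ha2 (by rw [h, one_pow])) (hcent b hb).symm
  refine H46.commutator_eq_bot_of_commute
    (H46.ti_commute 2 A B hA2 hB2 ?_ (H46.card_conj A g).ge hAB hN)
  intro h
  have hh : B.map (MulAut.conj h).toMonoidHom = A.map (MulAut.conj (h * g)).toMonoidHom := by
    rw [hBdef, Subgroup.map_map, map_mul]
    rfl
  rcases hti (g⁻¹ * h * g) with he | he
  · left
    rw [hh, hBdef]
    have := congrArg (Subgroup.map (MulAut.conj g).toMonoidHom) he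
    rw [Subgroup.map_map] at this
    rw [← this, show h * g = g * (g⁻¹ * h * g) by group]
    simp only [map_mul]
    rfl
  · right
    rw [eq_bot_iff]
    intro x hx
    rw [Subgroup.mem_inf, hh, hBdef, H46.mem_conj_iff, H46.mem_conj_iff] at hx
    have h1 : g⁻¹ * x * g ∈ A.map (MulAut.conj (g⁻¹ * h * g)).toMonoidHom := by
      rw [H46.mem_conj_iff]
      convert hx.1 using 1
      group
    have h2 : g⁻¹ * x * g = 1 := Subgroup.mem_bot.mp (he ▸ Subgroup.mem_inf.mpr ⟨h1, hx.2⟩)
    rw [Subgroup.mem_bot, ← conj_eq_one_iff (a := g⁻¹), inv_inv]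
    exact h2

end Cfsg.Agent.S1781
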