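import Cfsg.Statements.S1782
import Cfsg.Agent.H46.TIFamily

set_option autoImplicit false
open Cfsg

namespace Cfsg.Agent.S1782

/-- Let S be a finite 2-group and Δ a set of subgroups of S closed under conjugation by S, all of the same order, each with nontrivial Frattini subgroup, and such that two distinct members of Δ meet trivially. Then any two distinct members of Δ commute elementwise. -/
theorem result {S : Type*} [Group S] [Finite S] (hS : IsPGroup 2 S)
    (Δ : Set (Subgroup S)) (hinv : ∀ s : S, ∀ R ∈ Δ, R.map (MulAut.conj s).toMonoidHom ∈ Δ)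
    (hΦ : ∀ R ∈ Δ, frattini ↥R ≠ ⊥) (hord : ∀ R ∈ Δ, ∀ T ∈ Δ, Nat.card ↥R = Nat.card ↥T)
    (hti : ∀ R ∈ Δ, ∀ T ∈ Δ, R = T ∨ R ⊓ T = ⊥) :
    ∀ R ∈ Δ, ∀ T ∈ Δ, R ≠ T → ⁅R, T⁆ = ⊥ := by
  haveI : Fact (Nat.Prime 2) := ⟨Nat.prime_two⟩
  have hsq : ∀ R ∈ Δ, ∃ r ∈ R, r ^ 2 ≠ 1 := by
    intro R hR
    by_contra h
    push Not at h
    refine hΦ R hR (le_bot_iff.mp ?_)
    have h1 : ∀ x : ↥R, x ^ 2 = 1 := fun x => Subtype.ext (by simpa using h x x.2)
    refine PGroups.frattini_le_of_commutator_le (p := 2) ⊥ ?_ (fun x => Subgroup.mem_bot.mpr (h1 x))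
    rw [commutator_def, Subgroup.commutator_le]
    intro a _ b _
    rw [Subgroup.mem_bot, commutatorElement_eq_one_iff_mul_comm]
    calc a * b = (a * b) * (b * a) ^ 2 := by rw [h1 (b * a), mul_one]
      _ = a * (b ^ 2) * a * b * a := by simp only [pow_two, mul_assoc]
      _ = (a ^ 2) * (b * a) := by rw [h1 b, mul_one]; simp only [pow_two, mul_assoc]
      _ = b * a := by rw [h1 a, one_mul]
  intro R hR T hT hne
  exact H46.commutator_eq_bot_of_commute
    (H46.ti_family_commute hS Δ hinv hsq hord hti ⊤ R hR T hT le_top le_top hne)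

end Cfsg.Agent.S1782
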