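import Cfsg.Statements.S1783
import Cfsg.Agent.H46.TIFamily
import Cfsg.Agent.Cores.PCore
import Cfsg.Agent.Components.Basic
import Cfsg.Agent.Coprime.Centralize
import Cfsg.Agent.H61.CharP

set_option autoImplicit false
open Cfsg

namespace Cfsg.Agent.S1783

/-- Let X be a finite group whose generalized Fitting subgroup equals its largest normal 2-subgroup Q, and let A be an abelian 2-subgroup of X such that every conjugate of A equals A or meets A trivially. Let B be the subgroup generated by the squares of the elements of A. Then B lies in Q, and if B is not an elementary abelian 2-group then the normal closure of B in X is commutative. -/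
theorem result {X : Type*} [Group X] [Finite X]
    (hX : Cfsg.generalizedFittingSubgroup X = Cfsg.pCore 2 X) (A : Subgroup X) (hA2 : IsPGroup 2 ↥A) (hAa : IsMulCommutative ↥A)
    (hti : ∀ h : X, A.map (MulAut.conj h).toMonoidHom = A ∨ A.map (MulAut.conj h).toMonoidHom ⊓ A = ⊥) :
    Subgroup.closure ((fun a : X => a ^ 2) '' (A : Set X)) ≤ Cfsg.pCore 2 X ∧
      (¬ Cfsg.IsElementaryAbelian 2 (Subgroup.closure ((fun a : X => a ^ 2) '' (A : Set X))) →
        IsMulCommutative ↥(Subgroup.normalClosure ((fun a : X => a ^ 2) '' (A : Set X)))) := by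
  haveI : Fact (Nat.Prime 2) := ⟨Nat.prime_two⟩
  set Q := Cfsg.pCore 2 X with hQd
  set N : Subgroup X := (frattini ↥Q).map Q.subtype with hN
  have hQ2 : IsPGroup 2 ↥Q := Cores.pCore_isPGroup
  haveI : N.Normal := ConjAct.normal_of_characteristic_of_normal
  -- the kernel of the action on Q/Φ(Q) lies in Q
  set K : Subgroup X :=
    (Subgroup.centralizer ((Q.map (QuotientGroup.mk' N) : Subgroup (X ⧸ N)) : Set (X ⧸ N))).comap
      (QuotientGroup.mk' N) with hK
  haveI : (Q.map (QuotientGroup.mk' N)).Normal :=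
    Subgroup.Normal.map inferInstance _ (QuotientGroup.mk'_surjective N)
  haveI : K.Normal := Subgroup.Normal.comap inferInstance _
  have hKmem : ∀ {c : X}, c ∈ K ↔ ∀ q ∈ Q, c * q * c⁻¹ * q⁻¹ ∈ N := by
    intro c
    rw [hK, Subgroup.mem_comap, Subgroup.mem_centralizer_iff]
    constructor
    · intro hc q hq
      have h1 := hc _ ⟨q, hq, rfl⟩
      rw [← QuotientGroup.eq_one_iff, QuotientGroup.mk_mul, QuotientGroup.mk_mul, QuotientGroup.mk_mul,
        QuotientGroup.mk_inv, QuotientGroup.mk_inv]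
      simp only [QuotientGroup.mk'_apply] at h1
      rw [← h1, mul_inv_cancel_right, mul_inv_cancel]
    · rintro hc _ ⟨q, hq, rfl⟩
      have h1 := (QuotientGroup.eq_one_iff _).mpr (hc q hq)
      rw [QuotientGroup.mk_mul, QuotientGroup.mk_mul, QuotientGroup.mk_mul, QuotientGroup.mk_inv,
        QuotientGroup.mk_inv, mul_inv_eq_one, mul_inv_eq_iff_eq_mul] at h1
      exact h1.symm
  have hKQ : K ≤ Q := by
    refine Cores.le_pCore (H61.isPGroup_of_forall_coprime fun c hc hco => ?_)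
    have hcop : (Nat.card ↥(Subgroup.zpowers c)).Coprime (Nat.card ↥(frattini ↥Q)) := by
      obtain ⟨k, hk⟩ := (IsPGroup.iff_card).mp (hQ2.to_subgroup (frattini ↥Q))
      rw [Nat.card_zpowers, hk]
      exact hco.pow_right k
    have hn : Subgroup.zpowers c ≤ Subgroup.normalizer (Q : Set X) := by
      rw [Subgroup.normalizer_eq_top]; exact le_top
    have := Coprime.le_centralizer_of_frattini hn hcop
      (fun a ha q hq => hKmem.mp ((Subgroup.zpowers_le.mpr hc) ha) q hq)
    have h2 : c ∈ Q := by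
      have h := Components.centralizer_genFitting_le (G := X)
      rw [hX] at h
      exact h (this (Subgroup.mem_zpowers c))
    exact H61.eq_one_of_mem_pGroup hQ2 h2 hco
  have hsqQ : ∀ a ∈ A, a ^ 2 ∈ Q := by
    intro a ha
    by_cases ha2 : a ^ 2 = 1
    · rw [ha2]; exact one_mem Q
    refine hKQ (hKmem.mpr fun q hq => ?_)
    set T := A ⊔ Q
    have hT : IsPGroup 2 ↥T := hA2.to_sup_of_normal_right hQ2
    have hcomm : (q * a * q⁻¹) * a = a * (q * a * q⁻¹) := by
      by_cases he : A.map (MulAut.conj q).toMonoidHom = A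
      · have h1 : q * a * q⁻¹ ∈ A := he ▸ H46.conj_mem_conj q ha
        exact (Subtype.ext_iff.mp (hAa.is_comm.comm (⟨_, h1⟩ : ↥A) ⟨a, ha⟩) :)
      · refine H46.ti_conj_commute hT hti ⟨a, ha, ha2⟩ q 1 ?_ ?_ ?_ _ (H46.conj_mem_conj q ha) a ?_
        · rintro _ ⟨b, hb, rfl⟩
          exact mul_mem (mul_mem (Subgroup.mem_sup_right hq) (Subgroup.mem_sup_left hb))
            (inv_mem (Subgroup.mem_sup_right hq))
        · rw [H46.conj_one_map]; exact le_sup_left
        · rwa [H46.conj_one_map]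
        · rw [H46.conj_one_map]; exact ha
    -- [q, a^2] = [q, a]^2
    have hd : q * a * q⁻¹ * a⁻¹ ∈ Q := by
      rw [mul_assoc q a, mul_assoc]
      exact mul_mem hq ((inferInstance : Q.Normal).conj_mem _ (inv_mem hq) a)
    have hc2 : q * a ^ 2 * q⁻¹ * (a ^ 2)⁻¹ = (q * a * q⁻¹ * a⁻¹) ^ 2 := by
      rw [(Commute.inv_right (show Commute (q * a * q⁻¹) a from hcomm)).mul_pow, conj_pow, inv_pow]
    have hN2 : q * a ^ 2 * q⁻¹ * (a ^ 2)⁻¹ ∈ N := by
      rw [hc2]
      exact ⟨_, PGroups.pow_mem_frattini hQ2 ⟨_, hd⟩, rfl⟩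
    have := inv_mem hN2
    simpa [mul_assoc] using this
  refine ⟨(Subgroup.closure_le _).mpr ?_, ?_⟩
  · rintro _ ⟨a, ha, rfl⟩
    exact hsqQ a ha
  intro hB
  set B := Subgroup.closure ((fun a : X => a ^ 2) '' (A : Set X)) with hBd
  have hBA : B ≤ A := (Subgroup.closure_le _).mpr (by rintro _ ⟨a, ha, rfl⟩; exact pow_mem ha 2)
  have hBQ : B ≤ Q := (Subgroup.closure_le _).mpr (by rintro _ ⟨a, ha, rfl⟩; exact hsqQ a ha)
  have hsq : ∃ b ∈ B, b ^ 2 ≠ 1 := by
    by_contra h
    push Not at h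
    refine hB ⟨?_, h⟩
    constructor; constructor
    rintro ⟨x, hx⟩ ⟨y, hy⟩
    have h : (⟨x, hBA hx⟩ : ↥A) * ⟨y, hBA hy⟩ = ⟨y, hBA hy⟩ * ⟨x, hBA hx⟩ := hAa.is_comm.comm _ _
    exact Subtype.ext (Subtype.ext_iff.mp h :)
  have htiB : ∀ g : X, B.map (MulAut.conj g).toMonoidHom = B ∨
      B.map (MulAut.conj g).toMonoidHom ⊓ B = ⊥ := by
    intro g
    rcases hti g with e | e
    · left
      rw [hBd, MonoidHom.map_closure]
      congr 1
      ext x
      constructor
      · rintro ⟨_, ⟨a, ha, rfl⟩, rfl⟩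
        exact ⟨g * a * g⁻¹, e ▸ H46.conj_mem_conj g ha, by simp⟩
      · rintro ⟨a, ha, rfl⟩
        have ha' : g⁻¹ * a * g ∈ A := H46.mem_conj_iff.mp (e.symm ▸ ha)
        refine ⟨_, ⟨_, ha', rfl⟩, ?_⟩
        show g * (g⁻¹ * a * g) ^ 2 * g⁻¹ = a ^ 2
        rw [← conj_pow]; group
    · right
      rw [eq_bot_iff, ← e]
      exact inf_le_inf (Subgroup.map_mono hBA) hBA
  apply Subgroup.isMulCommutative_closure
  intro x hx y hy
  obtain ⟨x0, hx0, hx'⟩ := Group.mem_conjugatesOfSet_iff.mp hx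
  obtain ⟨g, rfl⟩ := isConj_iff.mp hx'
  obtain ⟨y0, hy0, hy'⟩ := Group.mem_conjugatesOfSet_iff.mp hy
  obtain ⟨h, rfl⟩ := isConj_iff.mp hy'
  have hle : ∀ k : X, B.map (MulAut.conj k).toMonoidHom ≤ Q := by
    rintro k _ ⟨b, hb, rfl⟩
    exact (inferInstance : Q.Normal).conj_mem b (hBQ hb) k
  have hxB := H46.conj_mem_conj g (Subgroup.subset_closure hx0 : x0 ∈ B)
  have hyB := H46.conj_mem_conj h (Subgroup.subset_closure hy0 : y0 ∈ B)
  by_cases he : B.map (MulAut.conj g).toMonoidHom = B.map (MulAut.conj h).toMonoidHom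
  · obtain ⟨u, hu, hu'⟩ := hxB
    obtain ⟨v, hv, hv'⟩ := he ▸ hyB
    rw [← hu', ← hv', ← map_mul, ← map_mul]
    have h' : (⟨u, hBA hu⟩ : ↥A) * ⟨v, hBA hv⟩ = ⟨v, hBA hv⟩ * ⟨u, hBA hu⟩ := hAa.is_comm.comm _ _
    exact congrArg _ (Subtype.ext_iff.mp h' :)
  · exact H46.ti_conj_commute hQ2 htiB hsq g h (hle g) (hle h) he _ hxB _ hyB

end Cfsg.Agent.S1783
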