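import Cfsg.Statements.S1784
import Cfsg.Agent.H46.Extraspecial
import Cfsg.Agent.Components.Basic

set_option autoImplicit false
open Cfsg

namespace Cfsg.Agent.S1784

section Helpers

open Subgroup

theorem abstract_part {P : Type*} [Group P] [Finite P] (h : Cfsg.IsExtraspecial 2 P) (τ : MulAut P)
    (hτ : ∀ x, τ (τ x) = x) (hne : ∃ x, τ x ≠ x) (P0 : Subgroup P)
    (hP0 : ∀ q, q ∈ P0 ↔ τ q * q⁻¹ ∈ center P) :
    closure (Set.range fun q => τ q * q⁻¹) = P0 ⊓ centralizer (P0 : Set P) := by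
  classical
  haveI : Fact (Nat.Prime 2) := ⟨Nat.prime_two⟩
  obtain ⟨c, hc, hc1, hc2, hc'⟩ := H46.es_exists_gen h
  have hfix : ∀ w ∈ center P, τ w = w := by
    intro w hw
    rcases hc' w hw with rfl | rfl
    · exact map_one τ
    · refine (hc' (τ w) (mem_center_iff.mpr fun x => ?_)).resolve_left fun e =>
        hc1 (τ.injective (e.trans (map_one τ).symm))
      rw [← τ.apply_symm_apply x, ← map_mul, ← map_mul, mem_center_iff.mp hw]
  set K := closure (Set.range fun q => τ q * q⁻¹) with hK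
  have hgen : ∀ q, τ q * q⁻¹ ∈ K := fun q => subset_closure ⟨q, rfl⟩
  haveI : K.Normal := by
    refine ⟨fun k hk g => ?_⟩
    induction hk using closure_induction with
    | mem x hx =>
      obtain ⟨r, rfl⟩ := hx
      have e : g * (τ r * r⁻¹) * g⁻¹ = (τ g * g⁻¹)⁻¹ * (τ (g * r) * (g * r)⁻¹) := by
        simp [mul_assoc]
      rw [e]
      exact mul_mem (inv_mem (hgen g)) (hgen (g * r))
    | one => simp
    | mul x y _ _ hx hy =>
      have : g * (x * y) * g⁻¹ = (g * x * g⁻¹) * (g * y * g⁻¹) := by group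
      exact this ▸ mul_mem hx hy
    | inv x _ hx =>
      have : g * x⁻¹ * g⁻¹ = (g * x * g⁻¹)⁻¹ := by group
      exact this ▸ inv_mem hx
  have hKle : K ≤ centralizer (P0 : Set P) ⊓ P0 := (closure_le _).mpr (by
    rintro _ ⟨r, rfl⟩
    refine mem_inf.mpr ⟨mem_centralizer_iff.mpr fun q hq => ?_, ?_⟩
    · -- the commutator of q and r is fixed by τ
      obtain hw := (hP0 q).mp hq
      set w := τ q * q⁻¹
      have hq' : τ q = w * q := (inv_mul_cancel_right (τ q) q).symm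
      have hcm := hfix _ (H46.es_comm_mem h r q)
      rw [map_mul, map_mul, map_mul, map_inv, map_inv, hq', mul_inv_rev] at hcm
      have hcw : ∀ y, y * w = w * y := fun y => mem_center_iff.mp hw y
      have h1 : τ r * q * (τ r)⁻¹ * q⁻¹ = r * q * r⁻¹ * q⁻¹ := by
        rw [← hcm]
        calc τ r * q * (τ r)⁻¹ * q⁻¹ = ((τ r * q * (τ r)⁻¹ * q⁻¹) * w) * w⁻¹ :=
              (mul_inv_cancel_right _ w).symm
          _ = (w * (τ r * q * (τ r)⁻¹ * q⁻¹)) * w⁻¹ := by rw [hcw]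
          _ = (w * τ r) * q * (τ r)⁻¹ * (q⁻¹ * w⁻¹) := by simp only [mul_assoc]
          _ = _ := by rw [← hcw]; simp only [mul_assoc]
      have h2 : τ r * q * (τ r)⁻¹ = r * q * r⁻¹ := mul_right_cancel h1
      have hw' := H46.es_comm_mem h r q
      set w' := r * q * r⁻¹ * q⁻¹
      have hcw' : ∀ y, y * w' = w' * y := fun y => mem_center_iff.mp hw' y
      have h3 : (τ r * r⁻¹) * (r * q * r⁻¹) * (τ r * r⁻¹)⁻¹ = r * q * r⁻¹ := by
        calc (τ r * r⁻¹) * (r * q * r⁻¹) * (τ r * r⁻¹)⁻¹ = τ r * q * (τ r)⁻¹ := by group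
          _ = _ := h2
      have h4 : r * q * r⁻¹ = w' * q := (inv_mul_cancel_right (r * q * r⁻¹) q).symm
      rw [h4] at h3
      have h5 : w' * ((τ r * r⁻¹) * q * (τ r * r⁻¹)⁻¹) = w' * q := by
        calc w' * ((τ r * r⁻¹) * q * (τ r * r⁻¹)⁻¹) = (w' * (τ r * r⁻¹)) * q * (τ r * r⁻¹)⁻¹ := by
              simp only [mul_assoc]
          _ = (τ r * r⁻¹) * (w' * q) * (τ r * r⁻¹)⁻¹ := by rw [← hcw']; simp only [mul_assoc]
          _ = w' * q := h3
      exact (mul_inv_eq_iff_eq_mul.mp (mul_left_cancel h5)).symm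
    · rw [hP0]
      have e : τ (τ r * r⁻¹) * (τ r * r⁻¹)⁻¹ = ((τ r * r⁻¹)⁻¹) ^ 2 := by
        rw [map_mul, map_inv, hτ, pow_two, mul_inv_rev, inv_inv]
      rw [e]
      exact H46.es_sq_mem h _)
  refine le_antisymm (hKle.trans (le_of_eq (inf_comm _ _))) ?_
  -- the other inclusion, by counting
  have hKne : K ≠ ⊥ := fun e => by
    obtain ⟨x, hx⟩ := hne
    exact hx (mul_inv_eq_one.mp (mem_bot.mp (e ▸ hgen x)))
  have hcK : ∀ w ∈ center P, w ∈ K := by
    obtain ⟨x, hx, hxc, hx2⟩ := PGroups.exists_mem_center_orderOf_eq h.1.1 K hKne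
    have hx1 : x ≠ 1 := fun e => by rw [e, orderOf_one] at hx2; norm_num at hx2
    intro w hw
    rcases hc' w hw with rfl | rfl
    · exact one_mem K
    · exact (hc' x hxc).resolve_left hx1 ▸ hx
  have hZP0 : center P ≤ P0 := fun w hw => (hP0 w).mpr (by rw [hfix w hw, mul_inv_cancel]; exact one_mem _)
  let g : (P ⧸ P0) × ↥(center P) → ↥K := fun p =>
    ⟨τ p.1.out * p.1.out⁻¹ * (p.2 : P), mul_mem (hgen _) (hcK _ p.2.2)⟩
  have hg : Function.Injective g := by
    rintro ⟨x, w⟩ ⟨y, v⟩ e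
    have e' : τ x.out * x.out⁻¹ * (w : P) = τ y.out * y.out⁻¹ * (v : P) := congrArg Subtype.val e
    have hxy : x = y := by
      rw [← QuotientGroup.out_eq' x, ← QuotientGroup.out_eq' y, QuotientGroup.eq, hP0]
      have : τ (x.out⁻¹ * y.out) * (x.out⁻¹ * y.out)⁻¹
          = (τ x.out)⁻¹ * (τ y.out * y.out⁻¹) * x.out := by simp [mul_assoc]
      rw [this]
      have e2 : τ y.out * y.out⁻¹ = τ x.out * x.out⁻¹ * ((w : P) * (v : P)⁻¹) := by
        rw [← mul_assoc, e', mul_inv_cancel_right]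
      rw [e2]
      have hwv : (w : P) * (v : P)⁻¹ ∈ center P := mul_mem w.2 (inv_mem v.2)
      have : (τ x.out)⁻¹ * (τ x.out * x.out⁻¹ * ((w : P) * (v : P)⁻¹)) * x.out = (w : P) * (v : P)⁻¹ := by
        calc (τ x.out)⁻¹ * (τ x.out * x.out⁻¹ * ((w : P) * (v : P)⁻¹)) * x.out
            = x.out⁻¹ * (((w : P) * (v : P)⁻¹) * x.out) := by group
          _ = x.out⁻¹ * (x.out * ((w : P) * (v : P)⁻¹)) := by rw [mem_center_iff.mp hwv]
          _ = _ := inv_mul_cancel_left _ _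
      rw [this]
      exact hwv
    subst hxy
    exact Prod.ext rfl (Subtype.ext (mul_left_cancel e'))
  have hcard : P0.index * 2 ≤ Nat.card ↥K := by
    have := Nat.card_le_card_of_injective g hg
    rwa [Nat.card_prod, h.2] at this
  intro x hx
  have hlast : centralizer (P0 : Set P) ≤ K := by
    refine (Subgroup.eq_of_le_of_card_ge (hKle.trans inf_le_left) ?_).ge
    have h1 := H46.es_card_centralizer h P0 hZP0
    rw [← P0.card_mul_index] at h1
    have h3 : Nat.card ↥(centralizer (P0 : Set P)) = P0.index * 2 :=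
      Nat.eq_of_mul_eq_mul_right (Nat.card_pos (α := ↥P0)) (by rw [h1]; ring)
    omega
  exact hlast hx.2

theorem main {G : Type*} [Group G] [Finite G] (z : G) (hz : orderOf z = 2) (C : Subgroup G)
    (zC : ↥C) (hzC : (zC : G) = z) (hzc : ∀ x : ↥C, x * zC = zC * x) (Qc : Subgroup ↥C) [Qc.Normal]
    (hzQ : zC ∈ Qc) (hE : Cfsg.IsExtraspecial 2 ↥Qc)
    (hself : ∀ x : ↥C, (∀ q ∈ Qc, q * x = x * q) → x ∈ Qc)
    (α : G) (hα : orderOf α = 2) (hαC : α ∈ C) (hαQ : α ∉ Qc.map C.subtype)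
    (Q₀ : Subgroup G)
    (hQ₀ : ∀ q : G, q ∈ Q₀ ↔ (q ∈ Qc.map C.subtype ∧ α * q * α⁻¹ * q⁻¹ ∈ zpowers z)) :
    closure ((fun q : G => α * q * α⁻¹ * q⁻¹) '' ((Qc.map C.subtype : Subgroup G) : Set G)) =
        (center ↥Q₀).map Q₀.subtype ∧
      (¬ Q₀ ≤ (Qc.map C.subtype ⊓ centralizer ({α} : Set G)) ⊔ zpowers z →
        ∃ q ∈ Qc.map C.subtype, q * α * q⁻¹ = α * z) := by
  obtain ⟨c, hc, hc1, hc2, hc'⟩ := H46.es_exists_gen hE
  have hzne : z ≠ 1 := fun e => by rw [e, orderOf_one] at hz; norm_num at hz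
  let zQ : ↥Qc := ⟨zC, hzQ⟩
  have hzcQ : zQ ∈ center ↥Qc := mem_center_iff.mpr fun x => Subtype.ext (hzc x)
  have hzeq : zQ = c := (hc' zQ hzcQ).resolve_left fun e => hzne (by
    rw [← hzC]; exact congrArg (fun y : ↥Qc => ((y : ↥C) : G)) e)
  have hval : ∀ w : ↥Qc, ((w : ↥C) : G) ∈ zpowers z ↔ w ∈ center ↥Qc := by
    intro w
    constructor
    · intro hw
      obtain ⟨k, hk⟩ := mem_zpowers_iff.mp hw
      have : w = zQ ^ k := by
        apply Subtype.ext; apply Subtype.ext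
        simp only [SubgroupClass.coe_zpow]
        rw [show (((zQ : ↥Qc) : ↥C) : G) = z from hzC, hk]
      rw [this]
      exact zpow_mem hzcQ k
    · intro hw
      rcases hc' w hw with e | e
      · rw [e]; exact one_mem _
      · rw [e, ← hzeq]
        show (zC : G) ∈ zpowers z
        rw [hzC]; exact mem_zpowers z
  let αC : ↥C := ⟨α, hαC⟩
  let τ : MulAut ↥Qc := MulAut.conjNormal αC
  have hτv : ∀ x : ↥Qc, (((τ x : ↥Qc) : ↥C) : G) = α * ((x : ↥C) : G) * α⁻¹ := fun x => by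
    simp [τ, αC, MulAut.conjNormal_apply]
  have hα2 : α * α = 1 := by rw [← pow_two, ← hα, pow_orderOf_eq_one]
  have hτ2 : ∀ x, τ (τ x) = x := fun x => by
    apply Subtype.ext; apply Subtype.ext
    rw [hτv, hτv, inv_eq_of_mul_eq_one_right hα2]
    calc α * (α * ((x : ↥C) : G) * α) * α = (α * α) * ((x : ↥C) : G) * (α * α) := by
          simp only [mul_assoc]
      _ = _ := by rw [hα2, one_mul, mul_one]
  have hne : ∃ x, τ x ≠ x := by
    by_contra hcon
    push Not at hcon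
    refine hαQ ⟨αC, hself αC fun q hq => Subtype.ext ?_, rfl⟩
    have e := congrArg (fun y : ↥Qc => ((y : ↥C) : G)) (hcon ⟨q, hq⟩)
    simp only [hτv] at e
    show (q : G) * α = α * q
    exact (mul_inv_eq_iff_eq_mul.mp e).symm
  let P0 : Subgroup ↥Qc := Q₀.comap (C.subtype.comp Qc.subtype)
  have hP0 : ∀ q, q ∈ P0 ↔ τ q * q⁻¹ ∈ center ↥Qc := by
    intro q
    rw [← hval]
    show ((q : ↥C) : G) ∈ Q₀ ↔ _
    rw [hQ₀]
    simp only [Subgroup.coe_mul, Subgroup.coe_inv, hτv]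
    exact ⟨fun h => h.2, fun h => ⟨⟨q, q.2, rfl⟩, h⟩⟩
  have hK := abstract_part hE τ hτ2 hne P0 hP0
  constructor
  · have himg : (fun q : G => α * q * α⁻¹ * q⁻¹) '' ((Qc.map C.subtype : Subgroup G) : Set G) =
        (C.subtype.comp Qc.subtype) '' Set.range fun q => τ q * q⁻¹ := by
      ext y
      constructor
      · rintro ⟨_, ⟨q, hq, rfl⟩, rfl⟩
        exact ⟨τ ⟨q, hq⟩ * (⟨q, hq⟩ : ↥Qc)⁻¹, ⟨_, rfl⟩, by simp [hτv]⟩
      · rintro ⟨_, ⟨q, rfl⟩, rfl⟩
        exact ⟨((q : ↥C) : G), ⟨q, q.2, rfl⟩, by simp [hτv]⟩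
    rw [himg, ← MonoidHom.map_closure, hK]
    ext y
    constructor
    · rintro ⟨w, hw, rfl⟩
      refine ⟨⟨((w : ↥C) : G), hw.1⟩, mem_center_iff.mpr fun v => Subtype.ext ?_, rfl⟩
      obtain ⟨v0, hv0, hv0v⟩ := ((hQ₀ _).mp v.2).1
      have h1 := mem_centralizer_iff.mp hw.2 ⟨v0, hv0⟩ (by
        show (v0 : G) ∈ Q₀; exact (show (v0 : G) = v from hv0v).symm ▸ v.2)
      have h2 := congrArg (fun y : ↥Qc => ((y : ↥C) : G)) h1
      simp only [Subgroup.coe_mul] at h2
      show (v : G) * ((w : ↥C) : G) = ((w : ↥C) : G) * v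
      rw [← show (v0 : G) = v from hv0v]
      exact h2
    · rintro ⟨w, hw, rfl⟩
      obtain ⟨w0, hw0, hw0w⟩ := ((hQ₀ _).mp w.2).1
      refine ⟨⟨w0, hw0⟩, mem_inf.mpr ⟨?_, mem_centralizer_iff.mpr fun v hv => ?_⟩, hw0w⟩
      · show (w0 : G) ∈ Q₀
        exact (show (w0 : G) = w from hw0w).symm ▸ w.2
      · apply Subtype.ext; apply Subtype.ext
        have h2 := congrArg Subtype.val (mem_center_iff.mp hw ⟨((v : ↥C) : G), hv⟩)
        show ((v : ↥C) : G) * (w0 : G) = (w0 : G) * ((v : ↥C) : G)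
        rw [show (w0 : G) = w from hw0w]
        exact h2
  · intro hnot
    obtain ⟨q, hq, hqn⟩ := SetLike.not_le_iff_exists.mp hnot
    obtain ⟨hqQ, hqz⟩ := (hQ₀ q).mp hq
    refine ⟨q, hqQ, ?_⟩
    obtain ⟨k, hk⟩ := mem_zpowers_iff.mp hqz
    have hz2 : z * z = 1 := by rw [← pow_two, ← hz, pow_orderOf_eq_one]
    have hdz : α * q * α⁻¹ * q⁻¹ = z := by
      obtain ⟨q0, hq0, rfl⟩ := hqQ
      have hd : τ ⟨q0, hq0⟩ * (⟨q0, hq0⟩ : ↥Qc)⁻¹ ∈ center ↥Qc := (hP0 ⟨q0, hq0⟩).mp hq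
      rcases hc' _ hd with e | e
      · exfalso
        refine hqn (mem_sup_left (mem_inf.mpr ⟨⟨q0, hq0, rfl⟩, mem_centralizer_singleton_iff.mpr ?_⟩))
        have e' := congrArg (fun y : ↥Qc => ((y : ↥C) : G)) (mul_inv_eq_one.mp e)
        simp only [hτv] at e'
        exact (mul_inv_eq_iff_eq_mul.mp e').symm
      · have e' := congrArg (fun y : ↥Qc => ((y : ↥C) : G)) (e.trans hzeq.symm)
        simp only [Subgroup.coe_mul, Subgroup.coe_inv, hτv] at e'
        exact e'.trans hzC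
    have hzα : α * z = z * α := by
      have := congrArg Subtype.val (hzc αC)
      rw [Subgroup.coe_mul, Subgroup.coe_mul, hzC] at this
      exact this
    have e1 : α * q = z * q * α := by rw [← hdz]; group
    calc q * α * q⁻¹ = z⁻¹ * (z * q * α) * q⁻¹ := by group
      _ = z⁻¹ * (α * q) * q⁻¹ := by rw [e1]
      _ = z⁻¹ * α := by group
      _ = α * z := by rw [inv_eq_of_mul_eq_one_right hz2, hzα]

end Helpers


/-- Let G be a finite group and let z be an involution of G such that Q, the generalized Fitting subgroup of the centralizer C of z, is a 2-group of symplectic type (every characteristic abelian subgroup of Q is cyclic); suppose Q is extraspecial, and view Q inside G. Let α be an involution of C that is not in Q, and let Q₀ be the subgroup of those q ∈ Q whose commutator with α lies in the subgroup generated by z. Then (a) the subgroup generated by the commutators α q α⁻¹ q⁻¹, q ∈ Q, equals the centre of Q₀; and (b) if Q₀ is not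 contained in the product of the centralizer of α in Q with the subgroup generated by z, then some element of Q conjugates α to α z. -/
theorem result {G : Type*} [Group G] [Finite G] (z : G) (hz : orderOf z = 2) (hQ : Cfsg.IsOfSymplecticType ↥(Cfsg.generalizedFittingSubgroup ↥(Subgroup.centralizer ({z} : Set G)))) (hE : Cfsg.IsExtraspecial 2 ↥(Cfsg.generalizedFittingSubgroup ↥(Subgroup.centralizer ({z} : Set G))))
    (α : G) (hα : orderOf α = 2) (hαC : α ∈ Subgroup.centralizer ({z} : Set G)) (hαQ : α ∉ (Cfsg.generalizedFittingSubgroup ↥(Subgroup.centralizer ({z} : Set G))).map (Subgroup.centralizer ({z} : Set G)).subtype)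
    (Q₀ : Subgroup G) (hQ₀ : ∀ q : G, q ∈ Q₀ ↔ (q ∈ (Cfsg.generalizedFittingSubgroup ↥(Subgroup.centralizer ({z} : Set G))).map (Subgroup.centralizer ({z} : Set G)).subtype ∧ α * q * α⁻¹ * q⁻¹ ∈ Subgroup.zpowers z)) :
    Subgroup.closure ((fun q : G => α * q * α⁻¹ * q⁻¹) '' ((Cfsg.generalizedFittingSubgroup ↥(Subgroup.centralizer ({z} : Set G))).map (Subgroup.centralizer ({z} : Set G)).subtype : Set G)) = (Subgroup.center ↥Q₀).map Q₀.subtype ∧
      (¬ Q₀ ≤ ((Cfsg.generalizedFittingSubgroup ↥(Subgroup.centralizer ({z} : Set G))).map (Subgroup.centralizer ({z} : Set G)).subtype ⊓ Subgroup.centralizer ({α} : Set G)) ⊔ Subgroup.zpowers z →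
        ∃ q ∈ (Cfsg.generalizedFittingSubgroup ↥(Subgroup.centralizer ({z} : Set G))).map (Subgroup.centralizer ({z} : Set G)).subtype, q * α * q⁻¹ = α * z) := by
  haveI : Fact (Nat.Prime 2) := ⟨Nat.prime_two⟩
  let zC : ↥(Subgroup.centralizer ({z} : Set G)) := ⟨z, Subgroup.mem_centralizer_singleton_iff.mpr rfl⟩
  have hzc : ∀ x : ↥(Subgroup.centralizer ({z} : Set G)), x * zC = zC * x := fun x =>
    Subtype.ext (Subgroup.mem_centralizer_singleton_iff.mp x.2)
  have hn : (Subgroup.zpowers zC).Normal := by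
    refine ⟨fun n hn g => ?_⟩
    obtain ⟨k, rfl⟩ := Subgroup.mem_zpowers_iff.mp hn
    have hk : g * zC ^ k = zC ^ k * g := (Commute.zpow_right (hzc g) k).eq
    rw [hk, mul_inv_cancel_right]
    exact hn
  have hnil : Group.IsNilpotent ↥(Subgroup.zpowers zC) :=
    (IsPGroup.of_card (p := 2) (n := 1) (by
      rw [Nat.card_zpowers, ← Subgroup.orderOf_coe, hz, pow_one])).isNilpotent
  have hzQ : zC ∈ Cfsg.generalizedFittingSubgroup ↥(Subgroup.centralizer ({z} : Set G)) :=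
    Components.fitting_le_genFitting
      (Components.normal_nilpotent_le_fitting hn hnil (Subgroup.mem_zpowers zC))
  exact main z hz _ zC rfl hzc _ hzQ hE
    (fun x hx => Components.centralizer_genFitting_le (Subgroup.mem_centralizer_iff.mpr hx))
    α hα hαC hαQ Q₀ hQ₀

end Cfsg.Agent.S1784
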