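import Cfsg.Statements.S1785
import Cfsg.Agent.PGroups.Basic

set_option autoImplicit false
open Cfsg

namespace Cfsg.Agent.S1785

section Helpers

open Subgroup
open scoped Pointwise

/-- The link relation: two elementary abelian subgroups of order 8 commuting elementwise. -/
abbrev Link {X : Type*} [Group X] (C D : Subgroup X) : Prop :=
  Cfsg.IsElementaryAbelian 2 C ∧ Nat.card ↥C = 8 ∧ Cfsg.IsElementaryAbelian 2 D ∧ Nat.card ↥D = 8 ∧ ⁅C, D⁆ = ⊥

variable {X : Type*} [Group X]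

theorem chain_symm {C D : Subgroup X} (h : Relation.ReflTransGen (Link (X := X)) C D) :
    Relation.ReflTransGen (Link (X := X)) D C := by
  induction h with
  | refl => exact .refl
  | tail _ hl ih =>
    exact Relation.ReflTransGen.head
      ⟨hl.2.2.1, hl.2.2.2.1, hl.1, hl.2.1, (Subgroup.commutator_comm _ _).trans hl.2.2.2.2⟩ ih

theorem comm_bot {A B : Subgroup X} (h : ∀ a ∈ A, ∀ b ∈ B, a * b = b * a) : ⁅A, B⁆ = ⊥ := by
  rw [Subgroup.commutator_eq_bot_iff_le_centralizer]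
  exact fun a ha => Subgroup.mem_centralizer_iff.mpr fun b hb => (h a ha b hb).symm

theorem elem_comm {A : Subgroup X} (hA : Cfsg.IsElementaryAbelian 2 A) {a b : X} (ha : a ∈ A)
    (hb : b ∈ A) : a * b = b * a :=
  (Subtype.ext_iff.mp (hA.1.is_comm.comm (⟨a, ha⟩ : ↥A) ⟨b, hb⟩) :)

theorem elem_mono {A B : Subgroup X} (hA : Cfsg.IsElementaryAbelian 2 A) (h : B ≤ A) :
    Cfsg.IsElementaryAbelian 2 B :=
  ⟨⟨⟨fun a b => Subtype.ext (elem_comm hA (h a.2) (h b.2))⟩⟩, fun a ha => hA.2 a (h ha)⟩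

theorem elem_sup {A B : Subgroup X} (hA : Cfsg.IsElementaryAbelian 2 A)
    (hB : Cfsg.IsElementaryAbelian 2 B) (h : ∀ a ∈ A, ∀ b ∈ B, a * b = b * a) :
    Cfsg.IsElementaryAbelian 2 (A ⊔ B) := by
  have hc : IsMulCommutative ↥(A ⊔ B) := by
    rw [← Subgroup.closure_eq A, ← Subgroup.closure_eq B, ← Subgroup.closure_union]
    apply Subgroup.isMulCommutative_closure
    rintro x (hx | hx) y (hy | hy)
    · exact elem_comm hA hx hy
    · exact h x hx y hy
    · exact (h y hy x hx).symm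
    · exact elem_comm hB hx hy
  refine ⟨hc, fun x hx => ?_⟩
  rw [← Subgroup.closure_eq A, ← Subgroup.closure_eq B, ← Subgroup.closure_union] at hx
  induction hx using Subgroup.closure_induction with
  | mem y hy => exact hy.elim (hA.2 y) (hB.2 y)
  | one => exact one_pow 2
  | mul y z hy hz hy' hz' =>
    rw [Subgroup.closure_union, Subgroup.closure_eq, Subgroup.closure_eq] at hy hz
    have hyz : Commute y z := (Subtype.ext_iff.mp (hc.is_comm.comm (⟨y, hy⟩ : ↥(A ⊔ B)) ⟨z, hz⟩) :)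
    rw [hyz.mul_pow, hy', hz', one_mul]
  | inv y _ hy' => rw [inv_pow, hy', inv_one]

theorem elem_zpowers {a : X} (ha : a ^ 2 = 1) : Cfsg.IsElementaryAbelian 2 (zpowers a) :=
  ⟨inferInstance, fun x hx => by
    obtain ⟨k, rfl⟩ := Subgroup.mem_zpowers_iff.mp hx
    rw [← zpow_natCast (a ^ k), ← zpow_mul, mul_comm, zpow_mul, zpow_natCast, ha, one_zpow]⟩

variable [Finite X]

theorem exists_between (hX : IsPGroup 2 X) {U W : Subgroup X} (_hU : Cfsg.IsElementaryAbelian 2 U)
    (hWU : W ≤ U) {n : ℕ} (hW : Nat.card ↥W = 2 ^ n) (hU8 : 8 ≤ Nat.card ↥U) (hn : n ≤ 3 := by omega) :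
    ∃ M : Subgroup X, True ∧ Nat.card ↥M = 8 ∧ (W ≤ M ∧ M ≤ U) := by
  haveI : Fact (Nat.Prime 2) := ⟨Nat.prime_two⟩
  obtain ⟨k, hk⟩ := IsPGroup.iff_card.mp (hX.to_subgroup U)
  have hk3 : 3 ≤ k := (Nat.pow_le_pow_iff_right (by norm_num : 1 < 2)).mp (by rw [← hk]; exact hU8)
  obtain ⟨K, hK, hWK⟩ := Sylow.exists_subgroup_card_pow_prime_le 2 (m := 3)
    (hk ▸ pow_dvd_pow 2 hk3) (W.subgroupOf U)
    ((Nat.card_congr (Subgroup.subgroupOfEquivOfLe hWU).toEquiv).trans hW) hn
  refine ⟨K.map U.subtype, trivial, by rw [Subgroup.card_map_of_injective U.subtype_injective, hK]; rfl,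
    ?_, Subgroup.map_subtype_le K⟩
  intro x hx
  exact ⟨⟨x, hWU hx⟩, hWK (Subgroup.mem_subgroupOf.mpr hx), rfl⟩

/-- An involution normalising an elementary abelian subgroup `F` fixes at least `√|F|` points. -/
theorem card_le_sq (F : Subgroup X) (hF : Cfsg.IsElementaryAbelian 2 F) (v : X) (hv : v ^ 2 = 1)
    (hvF : ∀ f ∈ F, v * f * v⁻¹ ∈ F) :
    Nat.card ↥F ≤ Nat.card ↥(F ⊓ centralizer ({v} : Set X)) ^ 2 := by
  let φ : ↥F →* ↥F :=
    { toFun := fun f => ⟨v * f * v⁻¹ * f, mul_mem (hvF f f.2) f.2⟩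
      map_one' := Subtype.ext (by simp)
      map_mul' := fun a b => Subtype.ext (by
        show v * ((a : X) * b) * v⁻¹ * ((a : X) * b) = v * a * v⁻¹ * a * (v * b * v⁻¹ * b)
        calc v * ((a : X) * b) * v⁻¹ * ((a : X) * b)
            = (v * a * v⁻¹) * ((v * b * v⁻¹) * (a : X)) * b := by group
          _ = (v * a * v⁻¹) * ((a : X) * (v * b * v⁻¹)) * b := by rw [elem_comm hF (hvF b b.2) a.2]
          _ = _ := by group) }
  have hsq : ∀ f ∈ F, f * f = 1 := fun f hf => by rw [← pow_two]; exact hF.2 f hf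
  have hinv : ∀ f ∈ F, f⁻¹ = f := fun f hf => inv_eq_of_mul_eq_one_right (hsq f hf)
  have hrange : Nat.card ↥φ.range ≤ Nat.card ↥(F ⊓ centralizer ({v} : Set X)) := by
    rw [← Subgroup.card_map_of_injective F.subtype_injective (K := φ.range)]
    refine Subgroup.card_le_of_le ?_
    rintro _ ⟨_, ⟨f, rfl⟩, rfl⟩
    refine Subgroup.mem_inf.mpr ⟨(φ f).2, Subgroup.mem_centralizer_singleton_iff.mpr ?_⟩
    have hvv : v * v = 1 := by rw [← pow_two, hv]
    have hvi : v⁻¹ = v := inv_eq_of_mul_eq_one_right hvv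
    show (v * f * v⁻¹ * f) * v = v * (v * f * v⁻¹ * f)
    calc (v * f * v⁻¹ * f) * v = (v * f * v⁻¹) * ((f : X) * v) := by group
      _ = ((f : X) * (v * f * v⁻¹)) * v := by
          rw [← mul_assoc, elem_comm hF (hvF f f.2) f.2]
      _ = (f : X) * (v * f) := by group
      _ = v * (v * f * v⁻¹ * f) := by
          rw [hvi, ← mul_assoc v (v * (f : X) * v), ← mul_assoc v (v * (f : X)), ← mul_assoc v v, hvv,
            one_mul, mul_assoc]
  have hker : Nat.card ↥φ.ker ≤ Nat.card ↥(F ⊓ centralizer ({v} : Set X)) := by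
    rw [← Subgroup.card_map_of_injective F.subtype_injective (K := φ.ker)]
    refine Subgroup.card_le_of_le ?_
    rintro _ ⟨f, hf, rfl⟩
    have h1 : v * f * v⁻¹ * f = 1 := Subtype.ext_iff.mp (MonoidHom.mem_ker.mp hf)
    refine Subgroup.mem_inf.mpr ⟨f.2, Subgroup.mem_centralizer_singleton_iff.mpr ?_⟩
    have h2 : v * f * v⁻¹ = f := by rw [← hinv f f.2]; rw [hinv f f.2]; exact (eq_inv_of_mul_eq_one_left h1).trans (hinv f f.2)
    show (f : X) * v = v * f
    calc (f : X) * v = v * f * v⁻¹ * v := by rw [h2]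
      _ = v * f := by group
  rw [← Subgroup.card_mul_index φ.ker, Subgroup.index_ker, pow_two]
  exact Nat.mul_le_mul hker hrange

variable (hX : IsPGroup 2 X) (E : Subgroup X) [E.Normal] (hE : Cfsg.IsElementaryAbelian 2 E)
  (hE32 : 32 ≤ Nat.card ↥E)

include hX hE hE32

theorem one_bound {v : X} (hv : v ^ 2 = 1) : 8 ≤ Nat.card ↥(E ⊓ centralizer ({v} : Set X)) := by
  haveI : Fact (Nat.Prime 2) := ⟨Nat.prime_two⟩
  have h := card_le_sq E hE v hv fun f hf => ‹E.Normal›.conj_mem f hf v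
  obtain ⟨k, hk⟩ := IsPGroup.iff_card.mp (hX.to_subgroup (E ⊓ centralizer ({v} : Set X)))
  rw [hk] at h ⊢
  rw [← pow_mul] at h
  have : 5 ≤ k * 2 := (Nat.pow_le_pow_iff_right (by norm_num : 1 < 2)).mp (hE32.trans h)
  exact Nat.pow_le_pow_right two_pos (by omega : 3 ≤ k)

theorem four_bound (V : Subgroup X) (hV : Cfsg.IsElementaryAbelian 2 V) (hV4 : Nat.card ↥V = 4) :
    4 ≤ Nat.card ↥(E ⊓ centralizer (V : Set X)) := by
  haveI : Fact (Nat.Prime 2) := ⟨Nat.prime_two⟩
  have hcard2 : ∀ v ∈ V, Nat.card ↥(zpowers v) ≤ 2 := fun v hv => by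
    rw [Nat.card_zpowers]; exact orderOf_le_of_pow_eq_one two_pos (hV.2 v hv)
  obtain ⟨v, hv, hv1⟩ := SetLike.exists_of_lt (show (⊥ : Subgroup X) < V from
    bot_lt_iff_ne_bot.mpr fun h => by rw [h, Subgroup.card_bot] at hV4; omega)
  obtain ⟨w, hw, hwv⟩ := SetLike.exists_of_lt (show zpowers v < V from
    lt_of_le_of_ne (zpowers_le.mpr hv) fun h => by have := hcard2 v hv; rw [h, hV4] at this; omega)
  have hgen : V ≤ zpowers v ⊔ zpowers w := by
    have hle : zpowers v ⊔ zpowers w ≤ V := sup_le (zpowers_le.mpr hv) (zpowers_le.mpr hw)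
    refine (Subgroup.eq_of_le_of_card_ge hle ?_).ge
    rw [hV4]
    have hlt : zpowers v < zpowers v ⊔ zpowers w :=
      left_lt_sup.mpr fun h => hwv (h (mem_zpowers w))
    obtain ⟨m, hm⟩ := Subgroup.card_dvd_of_le hlt.le
    have h2 : Nat.card ↥(zpowers v) = 2 := by
      refine le_antisymm (hcard2 v hv) ?_
      have : 1 < Nat.card ↥(zpowers v) :=
        Subgroup.one_lt_card_iff_ne_bot _ |>.mpr fun h => hv1 (h ▸ mem_zpowers v)
      omega
    rw [h2] at hm
    rcases m with _ | _ | m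
    · rw [mul_zero] at hm; exact absurd hm Nat.card_pos.ne'
    · exact absurd (Subgroup.eq_of_le_of_card_ge hlt.le (by rw [hm, h2])) hlt.ne
    · omega
  set F := E ⊓ centralizer ({v} : Set X)
  have hF8 : 8 ≤ Nat.card ↥F := one_bound hX E hE hE32 (hV.2 v hv)
  have hwvc : w * v = v * w := elem_comm hV hw hv
  have h := card_le_sq F (elem_mono hE inf_le_left) w (hV.2 w hw) fun f hf => by
    refine Subgroup.mem_inf.mpr ⟨‹E.Normal›.conj_mem f hf.1 w, ?_⟩
    refine mul_mem (mul_mem ?_ hf.2) (inv_mem ?_) <;> exact Subgroup.mem_centralizer_singleton_iff.mpr hwvc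
  have hle : F ⊓ centralizer ({w} : Set X) ≤ E ⊓ centralizer (V : Set X) := by
    intro x hx
    refine Subgroup.mem_inf.mpr ⟨hx.1.1, Subgroup.mem_centralizer_iff.mpr fun u hu => ?_⟩
    have : zpowers v ⊔ zpowers w ≤ centralizer ({x} : Set X) := sup_le
      (zpowers_le.mpr (Subgroup.mem_centralizer_singleton_iff.mpr
        (Subgroup.mem_centralizer_singleton_iff.mp hx.1.2).symm))
      (zpowers_le.mpr (Subgroup.mem_centralizer_singleton_iff.mpr
        (Subgroup.mem_centralizer_singleton_iff.mp hx.2).symm))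
    exact Subgroup.mem_centralizer_singleton_iff.mp (this (hgen hu))
  obtain ⟨k, hk⟩ := IsPGroup.iff_card.mp (hX.to_subgroup (F ⊓ centralizer ({w} : Set X)))
  rw [hk, ← pow_mul] at h
  have h3 : 3 ≤ k * 2 := (Nat.pow_le_pow_iff_right (by norm_num : 1 < 2)).mp (hF8.trans h)
  calc 4 = 2 ^ 2 := rfl
    _ ≤ 2 ^ k := Nat.pow_le_pow_right two_pos (by omega : 2 ≤ k)
    _ = _ := hk.symm
    _ ≤ _ := Subgroup.card_le_of_le hle

theorem chain_big (A : Subgroup X) (hA : Cfsg.IsElementaryAbelian 2 A) (hA8 : Nat.card ↥A = 8)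
    (hbig : 4 ≤ Nat.card ↥(E ⊓ centralizer (A : Set X))) :
    ∃ E0 : Subgroup X, Cfsg.IsElementaryAbelian 2 E0 ∧ Nat.card ↥E0 = 8 ∧ E0 ≤ E ∧
      Relation.ReflTransGen (Link (X := X)) A E0 := by
  haveI : Fact (Nat.Prime 2) := ⟨Nat.prime_two⟩
  set F := E ⊓ centralizer (A : Set X)
  have hcomm : ∀ a ∈ A, ∀ f ∈ F, a * f = f * a := fun a ha f hf =>
    Subgroup.mem_centralizer_iff.mp hf.2 a ha
  by_cases h8 : 8 ≤ Nat.card ↥F
  · obtain ⟨M, -, hM, -, hMF⟩ := exists_between hX (elem_mono hE inf_le_left) (W := ⊥) bot_le (n := 0)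
      (by simp) h8
    exact ⟨M, elem_mono hE (hMF.trans inf_le_left), hM, hMF.trans inf_le_left,
      .single ⟨hA, hA8, elem_mono hE (hMF.trans inf_le_left), hM,
        comm_bot fun a ha b hb => hcomm a ha b (hMF hb)⟩⟩
  obtain ⟨a, haA, haF⟩ : ∃ a ∈ A, a ∉ F := by
    by_contra h
    push Not at h
    have := Subgroup.card_le_of_le (H := A) (K := F) h
    omega
  have hF4 : Nat.card ↥F = 2 ^ 2 := by
    obtain ⟨k, hk⟩ := IsPGroup.iff_card.mp (hX.to_subgroup F)
    rw [hk] at h8 hbig ⊢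
    have : 2 ≤ k := (Nat.pow_le_pow_iff_right (by norm_num : 1 < 2)).mp hbig
    have : ¬ 3 ≤ k := fun h => h8 (Nat.pow_le_pow_right two_pos h)
    congr 1
    omega
  have hU : Cfsg.IsElementaryAbelian 2 (F ⊔ zpowers a) :=
    elem_sup (elem_mono hE inf_le_left) (elem_zpowers (hA.2 a haA)) fun f hf x hx =>
      (hcomm x (zpowers_le.mpr haA hx) f hf).symm
  have hU8 : 8 ≤ Nat.card ↥(F ⊔ zpowers a) := by
    have hlt : F < F ⊔ zpowers a := left_lt_sup.mpr fun h => haF (h (mem_zpowers a))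
    obtain ⟨m, hm⟩ := Subgroup.card_dvd_of_le hlt.le
    rcases m with _ | _ | m
    · rw [mul_zero] at hm; exact absurd hm Nat.card_pos.ne'
    · exact absurd (Subgroup.eq_of_le_of_card_ge hlt.le (by rw [hm]; simp)) hlt.ne
    · rw [hm, hF4]; omega
  obtain ⟨A1, -, hA1, hFA1, hA1U⟩ := exists_between hX hU le_sup_left (n := 2) hF4 hU8
  have hlink : Link A A1 := by
    refine ⟨hA, hA8, elem_mono hU hA1U, hA1, comm_bot fun x hx y hy => ?_⟩
    have hle : F ⊔ zpowers a ≤ centralizer ({x} : Set X) := sup_le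
      (fun f hf => Subgroup.mem_centralizer_singleton_iff.mpr (hcomm x hx f hf).symm)
      (zpowers_le.mpr (Subgroup.mem_centralizer_singleton_iff.mpr (elem_comm hA haA hx)))
    exact (Subgroup.mem_centralizer_singleton_iff.mp (hle (hA1U hy))).symm
  -- C_E(A1) contains C_E(a)
  obtain ⟨M, -, hM, -, hMC⟩ := exists_between hX (elem_mono hE inf_le_left) (W := ⊥) bot_le (n := 0)
    (by simp) (one_bound hX E hE hE32 (hA.2 a haA))
  refine ⟨M, elem_mono hE (hMC.trans inf_le_left), hM, hMC.trans inf_le_left,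
    (Relation.ReflTransGen.single hlink).tail ⟨elem_mono hU hA1U, hA1,
      elem_mono hE (hMC.trans inf_le_left), hM, comm_bot fun y hy e he => ?_⟩⟩
  have hle : F ⊔ zpowers a ≤ centralizer ({e} : Set X) := sup_le
    (fun f hf => Subgroup.mem_centralizer_singleton_iff.mpr (elem_comm hE hf.1 (hMC he).1))
    (zpowers_le.mpr (Subgroup.mem_centralizer_singleton_iff.mpr
      (Subgroup.mem_centralizer_singleton_iff.mp (hMC he).2).symm))
  exact Subgroup.mem_centralizer_singleton_iff.mp (hle (hA1U hy))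

theorem exists_chain_to (A : Subgroup X) (hA : Cfsg.IsElementaryAbelian 2 A) (hA8 : Nat.card ↥A = 8) :
    ∃ E0 : Subgroup X, Cfsg.IsElementaryAbelian 2 E0 ∧ Nat.card ↥E0 = 8 ∧ E0 ≤ E ∧
      Relation.ReflTransGen (Link (X := X)) A E0 := by
  classical
  haveI : Fact (Nat.Prime 2) := ⟨Nat.prime_two⟩
  set F := E ⊓ centralizer (A : Set X) with hFd
  by_cases hbig : 4 ≤ Nat.card ↥F
  · exact chain_big hX E hE hE32 A hA hA8 hbig
  have hFA : ∀ a ∈ A, ∀ f ∈ F, a * f = f * a := fun a ha f hf =>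
    Subgroup.mem_centralizer_iff.mp hf.2 a ha
  -- F is not trivial
  have hd4 : ∀ V : Subgroup X, V ≤ A → Nat.card ↥V = 4 → 4 ≤ Nat.card ↥(E ⊓ centralizer (V : Set X)) :=
    fun V hVA hV => four_bound hX E hE hE32 V (elem_mono hA hVA) hV
  obtain ⟨V0, hV0, hV0A⟩ : ∃ V : Subgroup X, Nat.card ↥V = 4 ∧ V ≤ A := by
    obtain ⟨K, hK⟩ := Sylow.exists_subgroup_card_pow_prime 2 (n := 2) (G := ↥A) (by rw [hA8]; decide)
    exact ⟨K.map A.subtype, by rw [Subgroup.card_map_of_injective A.subtype_injective, hK]; rfl,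
      Subgroup.map_subtype_le K⟩
  have hF1 : F ≠ ⊥ := by
    intro hF
    obtain ⟨x, hxA, hxV⟩ := SetLike.exists_of_lt
      (lt_of_le_of_ne hV0A fun h => by rw [h, hA8] at hV0; omega)
    have h1 := card_le_sq (E ⊓ centralizer (V0 : Set X)) (elem_mono hE inf_le_left) x (hA.2 x hxA)
      fun e he => Subgroup.mem_inf.mpr ⟨‹E.Normal›.conj_mem e he.1 x, by
        refine mul_mem (mul_mem ?_ he.2) (inv_mem ?_) <;>
          exact Subgroup.mem_centralizer_iff.mpr fun u hu => elem_comm hA (hV0A hu) hxA⟩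
    have hle : E ⊓ centralizer (V0 : Set X) ⊓ centralizer ({x} : Set X) ≤ F := by
      intro e he
      refine Subgroup.mem_inf.mpr ⟨he.1.1, Subgroup.mem_centralizer_iff.mpr fun u hu => ?_⟩
      have hgen : A ≤ V0 ⊔ zpowers x := by
        have hsle : V0 ⊔ zpowers x ≤ A := sup_le hV0A (zpowers_le.mpr hxA)
        refine (Subgroup.eq_of_le_of_card_ge hsle ?_).ge
        have hlt : V0 < V0 ⊔ zpowers x := left_lt_sup.mpr fun h => hxV (h (mem_zpowers x))
        obtain ⟨m, hm⟩ := Subgroup.card_dvd_of_le hlt.le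
        rcases m with _ | _ | m
        · rw [mul_zero] at hm; exact absurd hm Nat.card_pos.ne'
        · exact absurd (Subgroup.eq_of_le_of_card_ge hlt.le (by rw [hm]; simp)) hlt.ne
        · rw [hA8, hm, hV0]; omega
      have hsc : V0 ⊔ zpowers x ≤ centralizer ({e} : Set X) := sup_le
        (fun v hv => Subgroup.mem_centralizer_singleton_iff.mpr (Subgroup.mem_centralizer_iff.mp he.1.2 v hv))
        (zpowers_le.mpr (Subgroup.mem_centralizer_singleton_iff.mpr
          (Subgroup.mem_centralizer_singleton_iff.mp he.2).symm))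
      exact Subgroup.mem_centralizer_singleton_iff.mp (hsc (hgen hu))
    have h2 := Subgroup.card_le_of_le hle
    rw [hF, Subgroup.card_bot] at h2
    have h4 := hd4 V0 hV0A hV0
    have h5 : Nat.card ↥(E ⊓ centralizer (V0 : Set X)) ≤ 1 ^ 2 := h1.trans (Nat.pow_le_pow_left h2 2)
    omega
  obtain ⟨f, hf, hf1⟩ := SetLike.exists_of_lt (bot_lt_iff_ne_bot.mpr hF1)
  have hfA : f ∉ A := by
    intro hfA
    obtain ⟨v, hvA, hvf⟩ := SetLike.exists_of_lt (show zpowers f < A from
      lt_of_le_of_ne (zpowers_le.mpr hfA) fun h => by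
        have : Nat.card ↥(zpowers f) ≤ 2 := by
          rw [Nat.card_zpowers]; exact orderOf_le_of_pow_eq_one two_pos (hA.2 f hfA)
        rw [h, hA8] at this; omega)
    have hZ : ∀ a ∈ A, Nat.card ↥(zpowers a) ≤ 2 := fun a ha => by
      rw [Nat.card_zpowers]; exact orderOf_le_of_pow_eq_one two_pos (hA.2 a ha)
    have hsup : ∀ P Q : Subgroup X, P ≤ A → Q ≤ A →
        Nat.card ↥(P ⊔ Q) ≤ Nat.card ↥P * Nat.card ↥Q := by
      intro P Q hP hQ
      have hQP : Q ≤ normalizer (P : Set X) := fun q hq => Subgroup.centralizer_le_normalizer _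
        (Subgroup.mem_centralizer_iff.mpr fun x hx => elem_comm hA (hP hx) (hQ hq))
      rw [← SetLike.coe_sort_coe, Subgroup.coe_mul_of_right_le_normalizer_left P Q hQP, ← Nat.card_prod]
      exact Nat.card_le_card_of_surjective
        (fun y : ↥P × ↥Q => (⟨(y.1 : X) * y.2, Set.mul_mem_mul y.1.2 y.2.2⟩ : ((P : Set X) * (Q : Set X) : Set X)))
        (by rintro ⟨_, a, ha, b, hb, rfl⟩; exact ⟨⟨⟨a, ha⟩, ⟨b, hb⟩⟩, rfl⟩)
    obtain ⟨w, hwA, hwU⟩ := SetLike.exists_of_lt (show zpowers f ⊔ zpowers v < A from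
      lt_of_le_of_ne (sup_le (zpowers_le.mpr hfA) (zpowers_le.mpr hvA)) fun h => by
        have := (hsup _ _ (zpowers_le.mpr hfA) (zpowers_le.mpr hvA)).trans
          (Nat.mul_le_mul (hZ f hfA) (hZ v hvA))
        rw [h, hA8] at this; omega)
    have hVA : zpowers v ⊔ zpowers w ≤ A := sup_le (zpowers_le.mpr hvA) (zpowers_le.mpr hwA)
    have hV4 : Nat.card ↥(zpowers v ⊔ zpowers w) = 4 := by
      refine le_antisymm ((hsup _ _ (zpowers_le.mpr hvA) (zpowers_le.mpr hwA)).trans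
        (Nat.mul_le_mul (hZ v hvA) (hZ w hwA))) ?_
      have hlt : zpowers v < zpowers v ⊔ zpowers w := left_lt_sup.mpr fun h =>
        hwU (Subgroup.mem_sup_right (h (mem_zpowers w)))
      obtain ⟨m, hm⟩ := Subgroup.card_dvd_of_le hlt.le
      have h1 : 1 < Nat.card ↥(zpowers v) :=
        (Subgroup.one_lt_card_iff_ne_bot _).mpr fun h => hvf (by
          have := mem_zpowers v; rw [h, Subgroup.mem_bot] at this; rw [this]; exact one_mem _)
      rcases m with _ | _ | m
      · rw [mul_zero] at hm; exact absurd hm Nat.card_pos.ne'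
      · exact absurd (Subgroup.eq_of_le_of_card_ge hlt.le (by rw [hm]; simp)) hlt.ne
      · rw [hm]; calc 4 = 2 * 2 := rfl
          _ ≤ _ := Nat.mul_le_mul h1 (by omega)
    have hfV : f ∉ zpowers v ⊔ zpowers w := by
      intro h
      apply hwU
      have hle : zpowers f ⊔ zpowers v ≤ zpowers v ⊔ zpowers w := sup_le (zpowers_le.mpr h) le_sup_left
      refine (Subgroup.eq_of_le_of_card_ge hle ?_).ge (Subgroup.mem_sup_right (mem_zpowers w))
      have hlt : zpowers f < zpowers f ⊔ zpowers v := left_lt_sup.mpr fun h => hvf (h (mem_zpowers v))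
      obtain ⟨m, hm⟩ := Subgroup.card_dvd_of_le hlt.le
      have h1 : 1 < Nat.card ↥(zpowers f) :=
        (Subgroup.one_lt_card_iff_ne_bot _).mpr fun h => hf1 (h ▸ mem_zpowers f)
      rcases m with _ | _ | m
      · rw [mul_zero] at hm; exact absurd hm Nat.card_pos.ne'
      · exact absurd (Subgroup.eq_of_le_of_card_ge hlt.le (by rw [hm]; simp)) hlt.ne
      · rw [hV4, hm]; calc 4 = 2 * 2 := rfl
          _ ≤ _ := Nat.mul_le_mul h1 (by omega)
    -- then C_E(V) = C_E(A)
    apply hbig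
    refine (hd4 _ hVA hV4).trans (Subgroup.card_le_of_le ?_)
    intro e he
    refine Subgroup.mem_inf.mpr ⟨he.1, Subgroup.mem_centralizer_iff.mpr fun u hu => ?_⟩
    have hgen : A ≤ (zpowers v ⊔ zpowers w) ⊔ zpowers f := by
      refine (Subgroup.eq_of_le_of_card_ge (sup_le hVA (zpowers_le.mpr hfA)) ?_).ge
      have hlt : zpowers v ⊔ zpowers w < (zpowers v ⊔ zpowers w) ⊔ zpowers f :=
        left_lt_sup.mpr fun h => hfV (h (mem_zpowers f))
      obtain ⟨m, hm⟩ := Subgroup.card_dvd_of_le hlt.le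
      rcases m with _ | _ | m
      · rw [mul_zero] at hm; exact absurd hm Nat.card_pos.ne'
      · exact absurd (Subgroup.eq_of_le_of_card_ge hlt.le (by rw [hm]; simp)) hlt.ne
      · rw [hA8, hm, hV4]; omega
    have hsc : (zpowers v ⊔ zpowers w) ⊔ zpowers f ≤ centralizer ({e} : Set X) := sup_le
      (fun x hx => Subgroup.mem_centralizer_singleton_iff.mpr (Subgroup.mem_centralizer_iff.mp he.2 x hx))
      (zpowers_le.mpr (Subgroup.mem_centralizer_singleton_iff.mpr (elem_comm hE hf.1 he.1)))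
    exact Subgroup.mem_centralizer_singleton_iff.mp (hsc (hgen hu))
  -- A1 = V0 together with f
  have hfV0 : f ∉ V0 := fun h => hfA (hV0A h)
  have hU : Cfsg.IsElementaryAbelian 2 (V0 ⊔ zpowers f) :=
    elem_sup (elem_mono hA hV0A) (elem_zpowers (hE.2 f hf.1)) fun v hv x hx =>
      hFA v (hV0A hv) x (zpowers_le.mpr hf hx)
  have hU8 : 8 ≤ Nat.card ↥(V0 ⊔ zpowers f) := by
    have hlt : V0 < V0 ⊔ zpowers f := left_lt_sup.mpr fun h => hfV0 (h (mem_zpowers f))
    obtain ⟨m, hm⟩ := Subgroup.card_dvd_of_le hlt.le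
    rcases m with _ | _ | m
    · rw [mul_zero] at hm; exact absurd hm Nat.card_pos.ne'
    · exact absurd (Subgroup.eq_of_le_of_card_ge hlt.le (by rw [hm]; simp)) hlt.ne
    · rw [hm, hV0]; omega
  obtain ⟨A1, -, hA1, -, hA1U⟩ := exists_between hX hU le_sup_left (n := 2) hV0 hU8
  have hlink : Link A A1 := by
    refine ⟨hA, hA8, elem_mono hU hA1U, hA1, comm_bot fun x hx y hy => ?_⟩
    have hle : V0 ⊔ zpowers f ≤ centralizer ({x} : Set X) := sup_le
      (fun v hv => Subgroup.mem_centralizer_singleton_iff.mpr (elem_comm hA (hV0A hv) hx))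
      (zpowers_le.mpr (Subgroup.mem_centralizer_singleton_iff.mpr (hFA x hx f hf).symm))
    exact (Subgroup.mem_centralizer_singleton_iff.mp (hle (hA1U hy))).symm
  have hbig1 : 4 ≤ Nat.card ↥(E ⊓ centralizer (A1 : Set X)) := by
    refine (hd4 V0 hV0A hV0).trans (Subgroup.card_le_of_le ?_)
    intro e he
    refine Subgroup.mem_inf.mpr ⟨he.1, Subgroup.mem_centralizer_iff.mpr fun y hy => ?_⟩
    have hle : V0 ⊔ zpowers f ≤ centralizer ({e} : Set X) := sup_le
      (fun v hv => Subgroup.mem_centralizer_singleton_iff.mpr (Subgroup.mem_centralizer_iff.mp he.2 v hv))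
      (zpowers_le.mpr (Subgroup.mem_centralizer_singleton_iff.mpr (elem_comm hE hf.1 he.1)))
    exact Subgroup.mem_centralizer_singleton_iff.mp (hle (hA1U hy))
  obtain ⟨E0, h1, h2, h3, h4⟩ := chain_big hX E hE hE32 A1 (elem_mono hU hA1U) hA1 hbig1
  exact ⟨E0, h1, h2, h3, h4.head hlink⟩

end Helpers

/-- Let X be a finite 2-group having a normal elementary abelian subgroup of order at least 32. Then (a) for any two elementary abelian subgroups A, B of X of order 8 there is a chain A = A₁, A₂, …, Aₙ = B of elementary abelian subgroups of order 8 in which consecutive members commute elementwise; and (b) every elementary abelian subgroup of X of order 4 is contained in an elementary abelian subgroup of order 8. -/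
theorem result {X : Type*} [Group X] [Finite X]
    (hX : IsPGroup 2 X) (E : Subgroup X) [E.Normal] (hE : Cfsg.IsElementaryAbelian 2 E) (hE32 : 32 ≤ Nat.card ↥E) :
    (∀ A B : Subgroup X, Cfsg.IsElementaryAbelian 2 A → Nat.card ↥A = 8 → Cfsg.IsElementaryAbelian 2 B → Nat.card ↥B = 8 →
        Relation.ReflTransGen
          (fun C D : Subgroup X => Cfsg.IsElementaryAbelian 2 C ∧ Nat.card ↥C = 8 ∧ Cfsg.IsElementaryAbelian 2 D ∧ Nat.card ↥D = 8 ∧ ⁅C, D⁆ = ⊥)
          A B) ∧
      (∀ V : Subgroup X, Cfsg.IsElementaryAbelian 2 V → Nat.card ↥V = 4 →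
        ∃ A : Subgroup X, V ≤ A ∧ Cfsg.IsElementaryAbelian 2 A ∧ Nat.card ↥A = 8) := by
  haveI : Fact (Nat.Prime 2) := ⟨Nat.prime_two⟩
  constructor
  · intro A B hA hA8 hB hB8
    obtain ⟨A', hA', hA'8, hA'E, hAA'⟩ := exists_chain_to hX E hE hE32 A hA hA8
    obtain ⟨B', hB', hB'8, hB'E, hBB'⟩ := exists_chain_to hX E hE hE32 B hB hB8
    refine (hAA'.tail ⟨hA', hA'8, hB', hB'8, ?_⟩).trans (chain_symm hBB')
    exact comm_bot fun a ha b hb => elem_comm hE (hA'E ha) (hB'E hb)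
  · intro V hV hV4
    haveI := hV.1
    have hC4 := four_bound hX E hE hE32 V hV hV4
    set C := E ⊓ Subgroup.centralizer (V : Set X)
    have hU : Cfsg.IsElementaryAbelian 2 (V ⊔ C) := elem_sup hV (elem_mono hE inf_le_left)
      fun a ha b hb => Subgroup.mem_centralizer_iff.mp hb.2 a ha
    by_cases h8 : 8 ≤ Nat.card ↥(V ⊔ C)
    · obtain ⟨M, hM, hM8, hVM⟩ := exists_between hX hU le_sup_left (n := 2) (by rw [hV4]; rfl) h8
      exact ⟨M, hVM.1, elem_mono hU hVM.2, hM8⟩
    · have hVU : V = V ⊔ C := by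
        refine Subgroup.eq_of_le_of_card_ge le_sup_left ?_
        obtain ⟨k, hk⟩ := IsPGroup.iff_card.mp (hX.to_subgroup (V ⊔ C))
        rw [hk] at h8 ⊢
        rw [hV4]
        by_contra h
        exact h8 (by
          have : 2 < k := by
            by_contra hk'
            exact h (Nat.pow_le_pow_right two_pos (by omega : k ≤ 2))
          exact Nat.pow_le_pow_right two_pos this)
      have hVE : V ≤ E := by
        have hCV : C ≤ V := hVU ▸ le_sup_right
        have := Subgroup.eq_of_le_of_card_ge hCV (by omega)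
        exact this ▸ inf_le_left
      obtain ⟨M, hM, hM8, hVM⟩ := exists_between hX hE hVE (n := 2) (by rw [hV4]; rfl) (by omega)
      exact ⟨M, hVM.1, elem_mono hE hVM.2, hM8⟩

end Cfsg.Agent.S1785
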