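import Cfsg.Statements.S1786
import Cfsg.Agent.H46.TISL
import Cfsg.Agent.H46.SympExpFour
import Cfsg.Agent.Components.Basic
import Cfsg.Agent.Cores.PCore

set_option autoImplicit false
open Cfsg

namespace Cfsg.Agent.S1786

section Helpers

open Subgroup
open scoped commutatorElement

theorem main {G : Type*} [Group G] [Finite G] (V Q : Subgroup G) (hV : Cfsg.IsElementaryAbelian 2 V)
    (h2 : ∀ A : Subgroup G, V ≤ A → A ≤ normalizer (V : Set G) → IsMulCommutative ↥A →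
      (∀ m ∈ normalizer (V : Set G), ∀ a ∈ A, m * a * m⁻¹ ∈ A) → A = V)
    (hti : ∀ x : G, V.map (MulAut.conj x).toMonoidHom = V ∨ V.map (MulAut.conj x).toMonoidHom ⊓ V = ⊥)
    (g : G) (hg : V.map (MulAut.conj g).toMonoidHom ≠ V) (hgQ : V.map (MulAut.conj g).toMonoidHom ≤ Q)
    (hQN : Q ≤ normalizer (V : Set G)) (hQp : IsPGroup 2 ↥Q)
    (hQn : ∀ m ∈ normalizer (V : Set G), ∀ q ∈ Q, m * q * m⁻¹ ∈ Q)
    (hQmax : ∀ A : Subgroup G, A ≤ normalizer (V : Set G) → IsPGroup 2 ↥A →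
      (∀ m ∈ normalizer (V : Set G), ∀ a ∈ A, m * a * m⁻¹ ∈ A) → A ≤ Q)
    (hQc : ∀ c ∈ normalizer (V : Set G), (∀ q ∈ Q, c * q = q * c) → c ∈ Q) :
    let P : Subgroup G := Q ⊓ centralizer (V : Set G)
    let W : Subgroup G := V ⊔ V.map (MulAut.conj g).toMonoidHom
    let H : Subgroup G := P ⊔ P.map (MulAut.conj g).toMonoidHom
    V ≤ Q.map (MulAut.conj g).toMonoidHom ∧
      (∀ w ∈ W, w ≠ 1 → ∃! U : Subgroup G, (∃ x : G, U = V.map (MulAut.conj x).toMonoidHom) ∧ U ≤ W ∧ w ∈ U) ∧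
      H ≤ normalizer (W : Set G) ∧
      (∀ hN : ((centralizer (W : Set G)).subgroupOf H).Normal, ∃ (F : Type) (_ : Field F) (_ : Fintype F), Fintype.card F = Nat.card ↥V ∧
        Nonempty (↥H ⧸ (centralizer (W : Set G)).subgroupOf H ≃* Matrix.SpecialLinearGroup (Fin 2) F)) ∧
      P = Q ∧ (frattini ↥Q).map Q.subtype = V ∧ (center ↥Q).map Q.subtype = V ∧ (commutator ↥Q).map Q.subtype = V := by
  intro P W H
  haveI : Fact (Nat.Prime 2) := ⟨Nat.prime_two⟩
  have hVc : ∀ a ∈ V, ∀ b ∈ V, a * b = b * a := fun a ha b hb =>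
    haveI := hV.1
    congrArg Subtype.val (mul_comm' (⟨a, ha⟩ : ↥V) ⟨b, hb⟩)
  have hV2 : IsPGroup 2 ↥V := fun v => ⟨1, Subtype.ext (by simpa using hV.2 v v.2)⟩
  have hVN : V ≤ normalizer (V : Set G) := le_normalizer
  have hVn : ∀ m ∈ normalizer (V : Set G), ∀ v ∈ V, m * v * m⁻¹ ∈ V := fun m hm v hv =>
    (mem_normalizer_iff.mp hm v).mp hv
  have hVQ : V ≤ Q := hQmax V hVN hV2 hVn
  have hCN : centralizer (V : Set G) ≤ normalizer (V : Set G) := by
    intro x hx
    refine mem_normalizer_iff.mpr fun v => ⟨fun hv => ?_, fun hv => ?_⟩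
    · rwa [← mem_centralizer_iff.mp hx v hv, mul_inv_cancel_right]
    · have e := mem_centralizer_iff.mp (inv_mem hx) _ hv
      have : v = x * v * x⁻¹ := by
        calc v = x⁻¹ * (x * v * x⁻¹) * x := by group
          _ = x * v * x⁻¹ := by rw [← e, inv_mul_cancel_right]
      rwa [this]
  have hPmem : ∀ p, p ∈ P ↔ p ∈ Q ∧ ∀ v ∈ V, p * v = v * p := fun p =>
    ⟨fun hp => ⟨hp.1, fun v hv => (mem_centralizer_iff.mp hp.2 v hv).symm⟩,
      fun hp => ⟨hp.1, mem_centralizer_iff.mpr fun v hv => (hp.2 v hv).symm⟩⟩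
  have hVP : V ≤ P := fun v hv => (hPmem v).mpr ⟨hVQ hv, fun w hw => hVc v hv w hw⟩
  have hPn : ∀ m ∈ normalizer (V : Set G), ∀ p ∈ P, m * p * m⁻¹ ∈ P := by
    intro m hm p hp
    refine (hPmem _).mpr ⟨hQn m hm p hp.1, fun v hv => ?_⟩
    have h1 := ((hPmem p).mp hp).2 _ (hVn _ (inv_mem hm) v hv)
    calc m * p * m⁻¹ * v = m * (p * (m⁻¹ * v * m⁻¹⁻¹)) * m⁻¹ := by group
      _ = _ := by rw [h1]; group
  have hZ : ∀ p ∈ P, (∀ q ∈ P, p * q = q * p) → p ∈ V := by
    intro p hp hpc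
    let A : Subgroup G := P ⊓ centralizer (P : Set G)
    have hA : A = V := by
      refine h2 A (le_inf hVP fun v hv => mem_centralizer_iff.mpr fun q hq => ((hPmem q).mp hq).2 v hv)
        (inf_le_left.trans (inf_le_right.trans hCN))
        ⟨⟨fun a b => Subtype.ext (mem_centralizer_iff.mp b.2.2 a a.2.1)⟩⟩ fun m hm a ha => ?_
      refine ⟨hPn m hm a ha.1, mem_centralizer_iff.mpr fun q hq => ?_⟩
      have h1 := mem_centralizer_iff.mp ha.2 _ (hPn _ (inv_mem hm) q hq)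
      calc q * (m * a * m⁻¹) = m * ((m⁻¹ * q * m⁻¹⁻¹) * a) * m⁻¹ := by group
        _ = _ := by rw [h1]; group
    exact hA ▸ ⟨hp, mem_centralizer_iff.mpr fun q hq => (hpc q hq).symm⟩
  have hcP : ∀ c, (∀ p ∈ P, c * p = p * c) → c ∈ V := by
    have hCP : ∀ c, (∀ p ∈ P, c * p = p * c) → c ∈ normalizer (V : Set G) := fun c hc =>
      hCN (mem_centralizer_iff.mpr fun v hv => (hc v (hVP hv)).symm)
    suffices hsq : centralizer (P : Set G) ≤ Q from fun c hc =>
      hZ c ((hPmem c).mpr ⟨hsq (mem_centralizer_iff.mpr fun p hp => (hc p hp).symm),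
        fun v hv => hc v (hVP hv)⟩) hc
    refine hQmax _ (fun c hc => hCP c fun p hp => (mem_centralizer_iff.mp hc p hp).symm) ?_ fun m hm a ha =>
      mem_centralizer_iff.mpr fun q hq => by
        have h1 := mem_centralizer_iff.mp ha _ (hPn _ (inv_mem hm) q hq)
        calc q * (m * a * m⁻¹) = m * ((m⁻¹ * q * m⁻¹⁻¹) * a) * m⁻¹ := by group
          _ = _ := by rw [h1]; group
    intro ⟨c, hc⟩
    have hcc : ∀ p ∈ P, c * p = p * c := fun p hp => (mem_centralizer_iff.mp hc p hp).symm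
    have hcN := hCP c hcc
    have hc2 : c * c ∈ Q := by
      refine hQc _ (mul_mem hcN hcN) fun q hq => ?_
      set u := q⁻¹ * (c * q * c⁻¹) with hu
      have huQ : u ∈ Q := mul_mem (inv_mem hq) (hQn c hcN q hq)
      have huP : ∀ p ∈ P, u * p = p * u := by
        intro p hp
        have hp' : q * p * q⁻¹ ∈ P := hPn q (hQN hq) p hp
        calc u * p = q⁻¹ * (c * q * (c⁻¹ * p)) := by rw [hu]; group
          _ = q⁻¹ * (c * q * (p * c⁻¹)) := by
              rw [show c⁻¹ * p = p * c⁻¹ from (Commute.inv_left (show Commute c p from hcc p hp)).eq]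
          _ = q⁻¹ * (c * (q * p * q⁻¹)) * q * c⁻¹ := by group
          _ = q⁻¹ * ((q * p * q⁻¹) * c) * q * c⁻¹ := by rw [hcc _ hp']
          _ = p * u := by rw [hu]; group
      have huV : u ∈ V := hZ u ((hPmem u).mpr ⟨huQ, fun v hv => huP v (hVP hv)⟩) huP
      have h1 : c * q * c⁻¹ = q * u := by rw [hu]; group
      have h3 : c * u * c⁻¹ = u := by rw [hcc u (hVP huV), mul_inv_cancel_right]
      have h4 : (c * c) * q * (c * c)⁻¹ = q := by
        calc (c * c) * q * (c * c)⁻¹ = c * (c * q * c⁻¹) * c⁻¹ := by group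
          _ = (c * q * c⁻¹) * (c * u * c⁻¹) := by
              conv_lhs => rw [h1]
              group
          _ = q * (u * u) := by rw [h3, h1, mul_assoc]
          _ = q := by rw [← pow_two, hV.2 u huV, mul_one]
      exact mul_inv_eq_iff_eq_mul.mp h4
    obtain ⟨k, hk⟩ := hQp ⟨c * c, hc2⟩
    refine ⟨k + 1, Subtype.ext ?_⟩
    rw [SubmonoidClass.coe_pow, pow_succ', pow_mul, pow_two]
    exact congrArg Subtype.val hk
  have hPp : IsPGroup 2 ↥P := hQp.to_le inf_le_left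
  -- class two
  have hcenP : ∀ p : ↥P, p ∈ center ↥P ↔ (p : G) ∈ V := fun p =>
    ⟨fun h => hZ p p.2 fun q hq => (congrArg Subtype.val (mem_center_iff.mp h ⟨q, hq⟩) : _).symm,
      fun h => mem_center_iff.mpr fun q => Subtype.ext (((hPmem q).mp q.2).2 p h)⟩
  have hcls0 : commutator ↥P ≤ center ↥P := by
    by_contra hncl
    obtain ⟨n, hn, hnZ, hnc⟩ := H46.exists_zTwo_noncentral hPp hncl
    let L : Subgroup ↥P := commutator ↥P ⊓ H46.zTwo ↥P
    have hAc : ∀ a ∈ L ⊔ center ↥P, ∀ b ∈ L ⊔ center ↥P, a * b = b * a := by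
      have h1 : L ⊔ center ↥P ≤ centralizer ((L ⊔ center ↥P : Subgroup ↥P) : Set ↥P) := by
        have h0 : L ⊔ center ↥P ≤ centralizer (L : Set ↥P) := sup_le
          (fun a ha => mem_centralizer_iff.mpr fun b hb => H46.zTwo_comm_commutator hb.2 ha.1) (center_le_centralizer _)
        refine sup_le (fun a ha => mem_centralizer_iff.mpr fun b hb => ?_) (center_le_centralizer _)
        exact (mem_centralizer_iff.mp (h0 hb) a ha).symm
      exact fun a ha b hb => (mem_centralizer_iff.mp (h1 hb) a ha)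
    have hLch : ∀ e : ↥P ≃* ↥P, ∀ a ∈ L ⊔ center ↥P, e a ∈ L ⊔ center ↥P := by
      intro e a ha
      have h1 : (L ⊔ center ↥P).map e.toMonoidHom ≤ L ⊔ center ↥P := by
        rw [Subgroup.map_sup]
        exact sup_le_sup ((map_inf_le _ _ _).trans (inf_le_inf (characteristic_iff_map_le.mp inferInstance e)
          (characteristic_iff_map_le.mp inferInstance e))) (characteristic_iff_map_le.mp inferInstance e)
      exact h1 ⟨a, ha, rfl⟩
    have hA := h2 ((L ⊔ center ↥P).map P.subtype)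
      (fun v hv => ⟨⟨v, hVP hv⟩, mem_sup_right ((hcenP _).mpr hv), rfl⟩)
      ((map_subtype_le _).trans (inf_le_right.trans hCN))
      ⟨⟨fun a b => by
        obtain ⟨a', ha', ea⟩ := a.2
        obtain ⟨b', hb', eb⟩ := b.2
        refine Subtype.ext ?_
        show (a : G) * b = b * a
        rw [← ea, ← eb]
        exact congrArg Subtype.val (hAc a' ha' b' hb')⟩⟩
      (by
        rintro m hm _ ⟨a, ha, rfl⟩
        let e : ↥P ≃* ↥P :=
          { toFun := fun p => ⟨m * p * m⁻¹, hPn m hm p p.2⟩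
            invFun := fun p => ⟨m⁻¹ * p * m⁻¹⁻¹, hPn _ (inv_mem hm) p p.2⟩
            left_inv := fun p => Subtype.ext (by group)
            right_inv := fun p => Subtype.ext (by group)
            map_mul' := fun p q => Subtype.ext (by
              show m * (p * q : G) * m⁻¹ = m * p * m⁻¹ * (m * q * m⁻¹)
              group) }
        exact ⟨e a, hLch e a ha, rfl⟩)
    exact hnc ((hcenP n).mpr (hA ▸ ⟨n, mem_sup_left ⟨hn, hnZ⟩, rfl⟩))
  have hcls : ∀ a ∈ P, ∀ b ∈ P, a * b * a⁻¹ * b⁻¹ ∈ V := fun a ha b hb =>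
    (hcenP _).mp (hcls0 (Subgroup.commutator_mem_commutator (g₁ := (⟨a, ha⟩ : ↥P)) (g₂ := ⟨b, hb⟩) (mem_top _) (mem_top _)))
  have hpsq : ∀ a ∈ P, a * a ∈ V := by
    intro a ha
    refine hZ _ (mul_mem ha ha) fun q hq => ?_
    set k := a * q * a⁻¹ * q⁻¹ with hk
    have hkV : k ∈ V := hcls a ha q hq
    have h1 : a * q = k * (q * a) := by rw [hk]; group
    calc a * a * q = a * (k * (q * a)) := by rw [mul_assoc, h1]
      _ = k * (a * q) * a := by rw [← mul_assoc a k, ((hPmem a).mp ha).2 k hkV]; group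
      _ = k * k * (q * (a * a)) := by rw [h1]; group
      _ = q * (a * a) := by rw [← pow_two k, hV.2 k hkV, one_mul]
  have hnc : ∀ x : G, V.map (MulAut.conj x).toMonoidHom ≠ V → V.map (MulAut.conj x).toMonoidHom ≤ P →
      ∃ m ∈ normalizer (V : Set G), ∃ a ∈ V.map (MulAut.conj x).toMonoidHom,
        ∃ b ∈ V.map (MulAut.conj x).toMonoidHom, (m * a * m⁻¹) * b ≠ b * (m * a * m⁻¹) := by
    intro x hx hxP
    by_contra hh
    push Not at hh
    set V₁ := V.map (MulAut.conj x).toMonoidHom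
    let S : Set G := (V : Set G) ∪ {y | ∃ m ∈ normalizer (V : Set G), ∃ a ∈ V₁, y = m * a * m⁻¹}
    have hSP : closure S ≤ P := by
      rw [closure_le]
      rintro y (hy | ⟨m, hm, a, ha, rfl⟩)
      · exact hVP hy
      · exact hPn m hm a (hxP ha)
    have hgen : ∀ y ∈ S, ∀ y' ∈ S, y * y' = y' * y := by
      rintro y (hy | ⟨m, hm, a, ha, rfl⟩) y' (hy' | ⟨m', hm', a', ha', rfl⟩)
      · exact hVc y hy y' hy'
      · exact (((hPmem _).mp (hPn m' hm' a' (hxP ha'))).2 y hy).symm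
      · exact ((hPmem _).mp (hPn m hm a (hxP ha))).2 y' hy'
      · have h1 := hh (m'⁻¹ * m) (mul_mem (inv_mem hm') hm) a ha a' ha'
        calc m * a * m⁻¹ * (m' * a' * m'⁻¹) = m' * ((m'⁻¹ * m * a * (m'⁻¹ * m)⁻¹) * a') * m'⁻¹ := by group
          _ = _ := by rw [h1]; group
    have hcc : closure S ≤ centralizer (closure S : Set G) := by
      rw [closure_le]
      intro y hy
      rw [SetLike.mem_coe, centralizer_closure, mem_centralizer_iff]
      exact fun y' hy' => hgen y' hy' y hy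
    have hA := h2 (closure S) (fun v hv => subset_closure (Or.inl hv)) (hSP.trans (inf_le_right.trans hCN))
      ⟨⟨fun a b => Subtype.ext (mem_centralizer_iff.mp (hcc b.2) a a.2)⟩⟩ (fun m hm a ha => by
        have h1 : (closure S).map (MulAut.conj m).toMonoidHom ≤ closure S := by
          rw [MonoidHom.map_closure, closure_le]
          rintro _ ⟨y, hy | ⟨m', hm', a', ha', rfl⟩, rfl⟩
          · exact subset_closure (Or.inl (hVn m hm y hy))
          · exact subset_closure (Or.inr ⟨m * m', mul_mem hm hm', a', ha', by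
              show m * (m' * a' * m'⁻¹) * m⁻¹ = _
              group⟩)
        exact h1 ⟨a, ha, rfl⟩)
    have hle : V₁ ≤ V := fun a ha => by
      rw [← hA]
      exact subset_closure (Or.inr ⟨1, one_mem _, a, ha, by group⟩)
    exact hx (eq_of_le_of_card_ge hle (H46.card_conj V x).ge)
  have hctx : H46.TICtx V P :=
    ⟨fun v hv => by rw [← pow_two]; exact hV.2 v hv, hti, hVP, fun p hp v hv => ((hPmem p).mp hp).2 v hv, hPn,
      hcls, hpsq, hcP, hnc⟩
  -- `V' ≤ P`
  set V' := V.map (MulAut.conj g).toMonoidHom with hV'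
  have hV'p : IsPGroup 2 ↥V' := hQp.to_le hgQ
  have hti' := (hctx.map g).ti
  rw [← hV'] at hti'
  have hinf : V ⊓ V' = ⊥ := by rw [inf_comm]; exact (hti g).resolve_left hg
  have hcomm := H46.ti_commute 2 V V' hV2 hV'p hti' (H46.card_conj V g).ge hinf (hgQ.trans hQN)
  have hV'P : V' ≤ P := fun u hu => (hPmem u).mpr ⟨hgQ hu, fun v hv => (hcomm v hv u hu).symm⟩
  have h : H46.TIPair V P V' := ⟨hctx, ⟨g, hV'⟩, hg, hV'P⟩
  have hs := h.swap hV'
  refine ⟨(h.symm hV').trans (map_mono inf_le_left), ?_, ?_, fun hN => h.sl_two hV' hN, ?_⟩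
  · intro w hw hw1
    have hex : ∃ U : Subgroup G, (∃ x : G, U = V.map (MulAut.conj x).toMonoidHom) ∧ U ≤ W ∧ w ∈ U := by
      rcases h.exists_conj_mem hw with hwV | ⟨p, hp, hwp⟩
      · exact ⟨V, ⟨1, (H46.conj_eq_of_mem_normalizer (one_mem _)).symm⟩, le_sup_left, hwV⟩
      · refine ⟨_, ⟨p * g, ?_⟩, h.conj_le_W hp, hwp⟩
        rw [hV', Subgroup.map_map, map_mul]
        rfl
    obtain ⟨U, ⟨x, hx⟩, hUW, hwU⟩ := hex
    refine ⟨U, ⟨⟨x, hx⟩, hUW, hwU⟩, ?_⟩
    rintro U' ⟨⟨x', rfl⟩, -, hwU'⟩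
    subst hx
    exact h.conj_eq_of_mem hw1 hwU' hwU
  · refine sup_le (fun p hp => ?_) (fun r hr => ?_)
    · refine mem_normalizer_iff.mpr fun w => ⟨fun hw => h.W_normal hp hw, fun hw => ?_⟩
      have := h.W_normal (inv_mem hp) hw
      rwa [show p⁻¹ * (p * w * p⁻¹) * p⁻¹⁻¹ = w by group] at this
    · show r ∈ normalizer ((V ⊔ V' : Subgroup G) : Set G)
      rw [sup_comm]
      refine mem_normalizer_iff.mpr fun w => ⟨fun hw => hs.W_normal hr hw, fun hw => ?_⟩
      have := hs.W_normal (inv_mem hr) hw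
      rwa [show r⁻¹ * (r * w * r⁻¹) * r⁻¹⁻¹ = w by group] at this
  -- `P = Q`
  obtain ⟨u, hu, hu1⟩ := h.exists_v'_ne
  have htrans : ∀ v ∈ V, v ≠ 1 → ∃ x : G, x * v * x⁻¹ = u := by
    intro v hv hv1
    obtain ⟨r, -, hr⟩ := hs.conj_full hv hv1 hu
    obtain ⟨p, -, hp⟩ := h.conj_full hu hu1 hv
    refine ⟨p⁻¹ * r, ?_⟩
    rw [show p⁻¹ * r * v * (p⁻¹ * r)⁻¹ = p⁻¹ * (r * v * r⁻¹) * p by group, hr,
      ((hPmem u).mp (hV'P hu)).2 v hv, ← hp]
    group
  have hPQ : P = Q := by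
    refine le_antisymm inf_le_left fun q hq => (hPmem q).mpr ⟨hq, ?_⟩
    let VQ : Subgroup ↥Q := V.subgroupOf Q
    haveI : VQ.Normal := ⟨fun v hv q => mem_subgroupOf.mpr (hVn q (hQN q.2) v (mem_subgroupOf.mp hv))⟩
    obtain ⟨v₁, hv₁, hv₁1⟩ := h.exists_v_ne
    have hne : VQ ≠ ⊥ := by
      intro e
      have h0 : (⟨v₁, hVQ hv₁⟩ : ↥Q) ∈ VQ := mem_subgroupOf.mpr hv₁
      rw [e, Subgroup.mem_bot] at h0
      exact hv₁1 (congrArg Subtype.val h0)
    obtain ⟨⟨v₀, hv₀'⟩, hv₀1⟩ := ne_bot_iff_exists_ne_one.mp (PGroups.inf_center_ne_bot hQp VQ hne)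
    obtain ⟨hv₀, hv₀c⟩ := mem_inf.mp hv₀'
    have hv₀V : (v₀ : G) ∈ V := mem_subgroupOf.mp hv₀
    have hv₀1' : (v₀ : G) ≠ 1 := fun e => hv₀1 (Subtype.ext (Subtype.ext e))
    intro v hv
    by_cases hv1 : v = 1
    · rw [hv1, mul_one, one_mul]
    obtain ⟨x₁, hx₁⟩ := htrans _ hv₀V hv₀1'
    obtain ⟨x₂, hx₂⟩ := htrans v hv hv1
    set x := x₂⁻¹ * x₁ with hx
    have hxv : x * v₀ * x⁻¹ = v := by
      rw [hx, show x₂⁻¹ * x₁ * v₀ * (x₂⁻¹ * x₁)⁻¹ = x₂⁻¹ * (x₁ * v₀ * x₁⁻¹) * x₂ by group, hx₁, ← hx₂]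
      group
    have hxN : x ∈ normalizer (V : Set G) := by
      refine H46.mem_normalizer_of_conj_eq ?_
      have h1 := h.conj_eq_of_mem (x := x) (y := 1) hv1 ⟨v₀, hv₀V, hxv⟩ ⟨v, hv, by simp⟩
      rw [h1]
      exact H46.conj_eq_of_mem_normalizer (one_mem _)
    have hq' : x⁻¹ * q * x ∈ Q := by simpa using hQn _ (inv_mem hxN) q hq
    have h1 : x⁻¹ * q * x * v₀ = v₀ * (x⁻¹ * q * x) :=
      congrArg Subtype.val (mem_center_iff.mp hv₀c ⟨_, hq'⟩)
    calc q * v = x * (x⁻¹ * q * x * v₀) * x⁻¹ := by rw [← hxv]; group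
      _ = x * (v₀ * (x⁻¹ * q * x)) * x⁻¹ := by rw [h1]
      _ = v * q := by rw [← hxv]; group
  have hQP : ∀ q ∈ Q, q ∈ P := fun q hq => hPQ.symm ▸ hq
  have hcomV : (commutator ↥Q).map Q.subtype = V := by
    apply le_antisymm
    · rw [_root_.commutator_def, Subgroup.map_commutator, ← MonoidHom.range_eq_map, range_subtype, Subgroup.commutator_le]
      exact fun a ha b hb => hcls a (hQP a ha) b (hQP b hb)
    · intro v hv
      obtain ⟨p, hp, e⟩ := h.conj_full hu hu1 hv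
      refine ⟨⁅(⟨p, hp.1⟩ : ↥Q), ⟨u, hgQ hu⟩⁆, commutator_mem_commutator (mem_top _) (mem_top _), ?_⟩
      show p * u * p⁻¹ * u⁻¹ = v
      rw [e, mul_inv_cancel_right]
  refine ⟨hPQ, le_antisymm ?_ ?_, ?_, hcomV⟩
  · let VQ : Subgroup ↥Q := V.subgroupOf Q
    haveI : VQ.Normal := ⟨fun v hv q => mem_subgroupOf.mpr (hVn q (hQN q.2) v (mem_subgroupOf.mp hv))⟩
    have h1 : frattini ↥Q ≤ VQ := PGroups.frattini_le_of_commutator_le (p := 2) VQ
      (fun c hc => mem_subgroupOf.mpr (hcomV ▸ ⟨c, hc, rfl⟩))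
      (fun x => mem_subgroupOf.mpr (by rw [SubmonoidClass.coe_pow, pow_two]; exact hpsq x (hQP x x.2)))
    rintro _ ⟨x, hx, rfl⟩
    exact mem_subgroupOf.mp (h1 hx)
  · conv_lhs => rw [← hcomV]
    exact map_mono (PGroups.commutator_le_frattini hQp)
  · apply le_antisymm
    · rintro _ ⟨z, hz, rfl⟩
      exact hZ z (hQP z z.2) fun q hq => (congrArg Subtype.val (mem_center_iff.mp hz ⟨q, hq.1⟩) : _).symm
    · exact fun v hv => ⟨⟨v, hVQ hv⟩, mem_center_iff.mpr fun q => Subtype.ext (((hPmem q).mp (hQP q q.2)).2 v hv), rfl⟩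

end Helpers


/-- Let G be a finite group, V an elementary abelian 2-subgroup of G and M the normalizer of V; write Q for the largest normal 2-subgroup of M. Suppose (1) the generalized Fitting subgroup of M equals Q; (2) V is a maximal abelian normal subgroup of M; (3) every conjugate of V equals V or meets V trivially, and for some g ∈ G the conjugate V' = g V g⁻¹ is different from V and contained in Q. Let P be the centralizer of V in Q, W the subgroup generated by V and V', and H the subgroup generated by P and g P g⁻¹. Then: (a) V is contained in g Q g⁻¹; (b) every non-identity element of W lies in exactly one conjugate of V contained in W, H normalizes W, and H modulo the centralizer of W in H is isomorphic to the special linear group of dimension 2 over the field with |V| elements; (c) P = Q, and V equals the Frattini subgroup, the centre and the commutator subgroup of Q. -/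
theorem result {G : Type*} [Group G] [Finite G] (V : Subgroup G)
    (hV : Cfsg.IsElementaryAbelian 2 V)
    (h1 : (Cfsg.generalizedFittingSubgroup ↥(Subgroup.normalizer (V : Set G))).map (Subgroup.normalizer (V : Set G)).subtype =
      (Cfsg.pCore 2 ↥(Subgroup.normalizer (V : Set G))).map (Subgroup.normalizer (V : Set G)).subtype)
    (h2 : ∀ A : Subgroup G, V ≤ A → A ≤ Subgroup.normalizer (V : Set G) → IsMulCommutative ↥A →
      (∀ m ∈ Subgroup.normalizer (V : Set G), ∀ a ∈ A, m * a * m⁻¹ ∈ A) → A = V)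
    (hti : ∀ x : G, V.map (MulAut.conj x).toMonoidHom = V ∨ V.map (MulAut.conj x).toMonoidHom ⊓ V = ⊥)
    (g : G) (hg : V.map (MulAut.conj g).toMonoidHom ≠ V)
    (hgQ : V.map (MulAut.conj g).toMonoidHom ≤ (Cfsg.pCore 2 ↥(Subgroup.normalizer (V : Set G))).map (Subgroup.normalizer (V : Set G)).subtype) :
    let Q : Subgroup G := (Cfsg.pCore 2 ↥(Subgroup.normalizer (V : Set G))).map (Subgroup.normalizer (V : Set G)).subtype
    let P : Subgroup G := Q ⊓ Subgroup.centralizer (V : Set G)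
    let W : Subgroup G := V ⊔ V.map (MulAut.conj g).toMonoidHom
    let H : Subgroup G := P ⊔ P.map (MulAut.conj g).toMonoidHom
    V ≤ Q.map (MulAut.conj g).toMonoidHom ∧
      (∀ w ∈ W, w ≠ 1 → ∃! U : Subgroup G, (∃ x : G, U = V.map (MulAut.conj x).toMonoidHom) ∧ U ≤ W ∧ w ∈ U) ∧
      H ≤ Subgroup.normalizer (W : Set G) ∧
      (∀ hN : ((Subgroup.centralizer (W : Set G)).subgroupOf H).Normal, ∃ (F : Type) (_ : Field F) (_ : Fintype F), Fintype.card F = Nat.card ↥V ∧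
        Nonempty (↥H ⧸ (Subgroup.centralizer (W : Set G)).subgroupOf H ≃* Matrix.SpecialLinearGroup (Fin 2) F)) ∧
      P = Q ∧ (frattini ↥Q).map Q.subtype = V ∧ (Subgroup.center ↥Q).map Q.subtype = V ∧ (commutator ↥Q).map Q.subtype = V := by
  haveI : Fact (Nat.Prime 2) := ⟨Nat.prime_two⟩
  set M := Subgroup.normalizer (V : Set G)
  refine main V _ hV h2 hti g hg hgQ (Subgroup.map_subtype_le _)
    ((Cores.pCore_isPGroup (p := 2) (G := ↥M)).map _) ?_ ?_ ?_
  · rintro m hm _ ⟨q, hq, rfl⟩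
    exact ⟨_, (inferInstance : (Cfsg.pCore 2 ↥M).Normal).conj_mem q hq ⟨m, hm⟩, rfl⟩
  · intro A hAM hA hAn a ha
    have hn : (A.subgroupOf M).Normal :=
      ⟨fun x hx m => Subgroup.mem_subgroupOf.mpr (hAn m m.2 x (Subgroup.mem_subgroupOf.mp hx))⟩
    have hle := Cores.le_pCore (hN := hn) (hA.of_equiv (Subgroup.subgroupOfEquivOfLe hAM).symm)
    exact ⟨⟨a, hAM ha⟩, hle (Subgroup.mem_subgroupOf.mpr ha), rfl⟩
  · intro c hc hcc
    rw [← h1]
    refine ⟨⟨c, hc⟩, ?_, rfl⟩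
    refine Components.centralizer_genFitting_le (Subgroup.mem_centralizer_iff.mpr fun q hq => Subtype.ext ?_)
    exact (hcc _ (h1 ▸ Subgroup.mem_map_of_mem _ hq)).symm

end Cfsg.Agent.S1786
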