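import Mathlib
import Cfsg.Statements.S1850
import Cfsg.Agent.Components.PLocalMore
-- import your own Cfsg.Agent.* helpers here

set_option autoImplicit false
open Cfsg

namespace Cfsg.Agent.S1850

open Cfsg.Agent.Components
set_option linter.style.haveILetI false

/-- Let G be a non-abelian finite simple QTKE-group and T a Sylow 2-subgroup of G. If U is a nontrivial 2-subgroup of G with U ∩ Z(T) ≠ 1, then F*(N_G(U)) = O₂(N_G(U)). -/
theorem result {G : Type*} [Group G] [Finite G] [IsSimpleGroup G]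
    (hG : ¬ IsMulCommutative G) (hQ : Cfsg.IsQTKE G) (T : Sylow 2 G) (U : Subgroup G)
    (hU : IsPGroup 2 ↥U) (hZ : U ⊓ ((T : Subgroup G) ⊓ Subgroup.centralizer ((T : Subgroup G) : Set G)) ≠ ⊥) :
    Subgroup.normalizer (U : Set G) ∈ Cfsg.calHe G := by
  haveI : Fact (Nat.Prime 2) := ⟨Nat.prime_two⟩
  obtain ⟨z, hz, hzo⟩ := (by
    haveI := (Subgroup.nontrivial_iff_ne_bot _).mpr hZ
    obtain ⟨n, hn, hc⟩ := ((hU.to_le (inf_le_left : U ⊓ ((T : Subgroup G) ⊓
      Subgroup.centralizer ((T : Subgroup G) : Set G)) ≤ U))).nontrivial_iff_card.mp inferInstance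
    obtain ⟨z, hz⟩ := exists_prime_orderOf_dvd_card' 2 (hc ▸ dvd_pow_self 2 (ne_of_gt hn))
    exact ⟨z, z.2, by rw [Subgroup.orderOf_coe, hz]⟩ :
      ∃ z ∈ U ⊓ ((T : Subgroup G) ⊓ Subgroup.centralizer ((T : Subgroup G) : Set G)), orderOf z = 2)
  set Z := Subgroup.zpowers z with hZdef
  have hZU : Z ≤ U := Subgroup.zpowers_le.mpr hz.1
  have hTC : (T : Subgroup G) ≤ Subgroup.centralizer (Z : Set G) :=
    Subgroup.le_centralizer_iff.mp (Subgroup.zpowers_le.mpr hz.2.2)
  have hZ2 : IsPGroup 2 Z := hU.to_le hZU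
  have hZ1 : Z ≠ ⊥ := fun h => by
    rw [hZdef, Subgroup.zpowers_eq_bot] at h
    rw [h, orderOf_one] at hzo
    exact absurd hzo (by decide)
  set N := Subgroup.normalizer (Z : Set G) with hN
  have hM : Cfsg.generalizedFittingSubgroup N = Cfsg.pCore 2 N :=
    genFitting_eq_pCore_iff.mpr
      (hQ.2.2 N ⟨Z, hZ2, hZ1, rfl⟩ ⟨T, hTC.trans (Subgroup.centralizer_le_normalizer _)⟩)
  set C := Subgroup.centralizer (Z : Set G) with hC
  have hCN : C ≤ N := Subgroup.centralizer_le_normalizer _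
  have hn : (C.subgroupOf N).Normal :=
    Subgroup.normal_subgroupOf_of_le_normalizer (normalizer_le_normalizer_centralizer Z)
  have hCF : Cfsg.generalizedFittingSubgroup C = Cfsg.pCore 2 C :=
    (genFitting_eq_pCore_congr (Subgroup.subgroupOfEquivOfLe hCN)).mp
      (genFitting_eq_pCore_of_isSubnormal (Subgroup.Normal.isSubnormal hn) hM)
  exact genFitting_normalizer_of_centralizer hU (genFitting_centralizer_mono hU hZU hCF)

end Cfsg.Agent.S1850
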