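import Mathlib
import Cfsg.Statements.S1851
import Cfsg.Agent.H47.CalL
-- import your own Cfsg.Agent.* helpers here

set_option autoImplicit false
open Cfsg

namespace Cfsg.Agent.S1851

open Subgroup Cfsg.Agent Cfsg.Agent.H47.CalL
open scoped commutatorElement
set_option linter.style.haveILetI false

/-- Let G be a non-abelian finite simple QTKE-group and T a Sylow 2-subgroup of G, and let L be a member of ℒ_f(G, T) (a member of ℒ(G, T) that lies in 𝒳 — L ≠ 1, L = O²(L), F*(L) = O₂(L) — and acts nontrivially on Ω₁(Z(O₂(L)))). Then (1) every member K of ℒ(G, T) containing L is again in ℒ_f(G, T) (a sharper form of (1) also compares the modules [Ω₁(Z(R)), L] and [Ω₁(Z(R')), K] for suitable 2-subgroups R, R'; that comparison is not included); and (2) if L is maximal under inclusion among the members of ℒ_f(G, T), then L is a maximal member of ℒ(G, T), hence a member of ℒ_f*(G, T). -/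
theorem result {G : Type*} [Group G] [Finite G] [IsSimpleGroup G]
    (hG : ¬ IsMulCommutative G) (hQ : Cfsg.IsQTKE G) (T : Sylow 2 G) (L : Subgroup G)
    (hL : L ∈ Cfsg.calLf (T : Subgroup G)) :
    (∀ K ∈ Cfsg.calL (T : Subgroup G), L ≤ K → K ∈ Cfsg.calLf (T : Subgroup G)) ∧
    ((∀ K ∈ Cfsg.calLf (T : Subgroup G), L ≤ K → K = L) → L ∈ Cfsg.calLfMax (T : Subgroup G)) := by
  haveI : Fact (Nat.Prime 2) := ⟨Nat.prime_two⟩
  have main : ∀ K ∈ Cfsg.calL (T : Subgroup G), L ≤ K → K ∈ Cfsg.calLf (T : Subgroup G) := by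
    intro K hK hLK
    obtain ⟨fL, hPT⟩ := calL_facts hQ.2.2 T hL.1
    obtain ⟨fK, hQT⟩ := calL_facts hQ.2.2 T hK
    refine ⟨hK, ⟨fK.ne_bot, fK.oddGen, fK.charTwo⟩, fun hKV => hL.2.2 ?_⟩
    rw [omegaZ_core_le_centralizer_iff, fK.core] at hKV
    set Q := (Cfsg.pCore 2 ↥(K ⊔ (T : Subgroup G))).map (K ⊔ (T : Subgroup G)).subtype
    set P := (Cfsg.pCore 2 ↥(L ⊔ (T : Subgroup G))).map (L ⊔ (T : Subgroup G)).subtype
    have hHH : L ⊔ (T : Subgroup G) ≤ K ⊔ (T : Subgroup G) := sup_le_sup_right hLK _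
    have hQP : Q ≤ P := by
      haveI : (Q.subgroupOf (L ⊔ (T : Subgroup G))).Normal :=
        Subgroup.normal_subgroupOf_of_le_normalizer (hHH.trans fK.normal)
      rw [← Subgroup.map_subgroupOf_eq_of_le (hQT.trans (le_sup_right : (T : Subgroup G) ≤ L ⊔ T))]
      exact Subgroup.map_mono (Cores.le_pCore fK.pgroup.comap_subtype)
    -- `K` centralizes `Ω₁(Z(Q))`
    have hn : K ≤ Subgroup.normalizer (omegaZ Q : Set G) :=
      (fK.le.trans fK.normal).trans (normalizer_le_omegaZ Q)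
    have hcom : ⁅omegaZ Q, K⁆ ≤ omegaZ (Q ⊓ K) := by
      rw [Subgroup.commutator_le]
      intro z hz k hk
      obtain ⟨hzQ, hzc, -⟩ := mem_omegaZ hz
      have hcz : ⁅z, k⁆ ∈ omegaZ Q := by
        rw [commutatorElement_def, mul_assoc z, mul_assoc z]
        exact mul_mem hz (Coprime.conj_mem (hn hk) (inv_mem hz))
      obtain ⟨h1, h2, h3⟩ := mem_omegaZ hcz
      have hK' : ⁅z, k⁆ ∈ K := by
        rw [commutatorElement_def]
        exact mul_mem (Coprime.conj_mem (fK.normalizes hzQ) hk) (inv_mem hk)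
      exact mem_omegaZ_mk (Subgroup.mem_inf.mpr ⟨h1, hK'⟩)
        (Subgroup.centralizer_le (SetLike.coe_subset_coe.mpr inf_le_left) h2) h3
    have hQK : omegaZ Q ≤ Subgroup.centralizer (K : Set G) := by
      rw [← Subgroup.commutator_eq_bot_iff_le_centralizer]
      refine Components.commutator_eq_bot_of_perfect' fK.perfect ?_
      rw [Subgroup.commutator_eq_bot_iff_le_centralizer]
      exact hcom.trans hKV
    refine fL.centralizes_of_centralizes fun z hz => ?_
    obtain ⟨h1, h2, h3⟩ := mem_omegaZ hz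
    have hzQ : z ∈ Subgroup.centralizer (Q : Set G) :=
      Subgroup.centralizer_le (SetLike.coe_subset_coe.mpr hQP) h2
    exact Subgroup.centralizer_le (SetLike.coe_subset_coe.mpr hLK) (hQK (mem_omegaZ_mk
      (fK.selfCentralizing (Subgroup.mem_inf.mpr ⟨hHH (fL.leH h1), hzQ⟩)) hzQ h3))
  exact ⟨main, fun hmax => ⟨⟨hL.1, fun K hK hLK => hmax K (main K hK hLK) hLK⟩, hL.2⟩⟩

end Cfsg.Agent.S1851
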