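import Cfsg.Statements.S1892
import Cfsg.Agent.Cores.Constrained
import Cfsg.Agent.Coprime.Centralize
import Cfsg.Agent.Coprime.Commutator

set_option autoImplicit false
open Cfsg

namespace Cfsg.Agent.S1892

/-- Let S be a finite p-solvable group with no nontrivial normal subgroup of order prime to p, A a p-subgroup of S, and Q a nontrivial A-invariant subgroup of order prime to p with [A, Q] = Q. Then the commutator [O_p(S), A, Q] is nontrivial. -/
theorem result {S : Type*} [Group S] [Finite S] {p : ℕ} [Fact p.Prime]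
    (hS : Cfsg.IsPSolvable p S) (hred : Cfsg.pPrimeCore p S = ⊥)
    (A Q : Subgroup S) (hA : IsPGroup p A) (hQ : ¬ p ∣ Nat.card Q) (hQ1 : Q ≠ ⊥)
    (hinv : ∀ a ∈ A, ∀ x ∈ Q, a * x * a⁻¹ ∈ Q) (hAQ : ⁅A, Q⁆ = Q) :
    ⁅⁅Cfsg.pCore p S, A⁆, Q⁆ ≠ ⊥ := by
  intro hbot
  set P := Cfsg.pCore p S with hPdef
  have hPp : IsPGroup p P := Cfsg.Agent.Cores.pCore_isPGroup
  haveI : P.Normal := Cfsg.pCore_normal p S
  have hPtop : ∀ H : Subgroup S, H ≤ Subgroup.normalizer (P : Set S) := fun H => by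
    rw [Subgroup.normalizer_eq_top_iff.2 inferInstance]; exact le_top
  set C := ⁅P, A⁆ with hCdef
  have hC : C ≤ P := Subgroup.commutator_le_left P A
  have hPC : P ≤ Subgroup.normalizer (C : Set S) := Subgroup.normalizer_commutator_ge_left P A
  have hAC : A ≤ Subgroup.normalizer (C : Set S) := fun g hg =>
    Cfsg.Agent.Coprime.mem_normalizer_commutator (hPtop A hg) (Subgroup.le_normalizer hg)
  have hQC : Q ≤ Subgroup.centralizer (C : Set S) :=
    Subgroup.le_centralizer_iff.1 (Subgroup.commutator_eq_bot_iff_le_centralizer.1 hbot)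
  have hcop : (Nat.card Q).Coprime (Nat.card P) := by
    obtain ⟨k, hk⟩ := hPp.exists_card_eq
    rw [hk]
    exact Nat.Coprime.pow_right k ((Fact.out : p.Prime).coprime_iff_not_dvd.2 hQ).symm
  have hQP : ⁅P, Q⁆ ≤ C := by
    rw [Subgroup.commutator_comm, ← hAQ]
    refine Cfsg.Agent.Coprime.commutator_rotate_le hAC (hQC.trans (Subgroup.centralizer_le_normalizer _)) hPC ?_ ?_
    · exact Subgroup.commutator_mono (Subgroup.commutator_le_right Q P) le_rfl
    · exact hbot.le.trans bot_le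
  have h := Cfsg.Agent.Coprime.le_centralizer_of_commutator_le (hPtop Q) hcop hQP hQC
  have h2 : Q ≤ P := h.trans (Cfsg.Agent.Cores.centralizer_pCore_le hS hred)
  refine hQ1 (le_bot_iff.1 ?_)
  rw [← Cfsg.Agent.Coprime.inf_eq_bot hcop]
  exact le_inf le_rfl h2

end Cfsg.Agent.S1892
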