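import Cfsg.Statements.S1893
import Cfsg.Agent.Components.SCNSolvable
import Cfsg.Agent.Cores.Basic

set_option autoImplicit false
open Cfsg
open Cfsg.Agent.Components

namespace Cfsg.Agent.S1893

/-- Let S be a finite solvable group, π a set of primes containing neither 2 nor 3, H a Hall π-subgroup of S, and A a self-centralizing normal subgroup of the Fitting subgroup F(H). Then C_S(A) = A × D for a normal subgroup D of C_S(A) whose order has no prime divisor in π. -/
theorem result {S : Type*} [Group S] [Finite S] [Group.IsSolvable S]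
    (π : Set ℕ) (h2 : 2 ∉ π) (h3 : 3 ∉ π) (H : Subgroup S) (hH : Cfsg.IsPiHall π H)
    (A : Subgroup S) (hA : Cfsg.IsSCN ((Cfsg.fittingSubgroup H).map H.subtype) A) :
    ∃ D : Subgroup S, D ≤ Subgroup.centralizer (A : Set S) ∧
      (∀ c ∈ Subgroup.centralizer (A : Set S), ∀ d ∈ D, c * d * c⁻¹ ∈ D) ∧
      A ⊓ D = ⊥ ∧ A ⊔ D = Subgroup.centralizer (A : Set S) ∧
      ∀ q : ℕ, q.Prime → q ∣ Nat.card D → q ∉ π := by
  obtain ⟨hAF, hFN, hFC⟩ := hA
  set FH := (Cfsg.fittingSubgroup ↥H).map H.subtype with hFH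
  set C := Subgroup.centralizer (A : Set S) with hC
  have hAC : A ≤ C := hFC.ge.trans inf_le_right
  have hAH : A ≤ H := hAF.trans (Subgroup.map_subtype_le _)
  set O := piCore πᶜ S with hO
  have hOpi := Cores.piCore_isPiNumber (G := S) πᶜ
  set f := QuotientGroup.mk' O with hf
  have hfs : Function.Surjective f := QuotientGroup.mk'_surjective O
  have hHO : H ⊓ O = ⊥ := (Subgroup.disjoint_of_coprime_natCard
    ((Hall.IsPiHall.isPiNumber_card hH).coprime hOpi)).eq_bot
  have hinj : ∀ x ∈ H, ∀ y ∈ H, f x = f y → x = y := by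
    intro x hx y hy h
    have hm : x⁻¹ * y ∈ H ⊓ O := ⟨H.mul_mem (H.inv_mem hx) hy, QuotientGroup.eq.1 h⟩
    rw [hHO, Subgroup.mem_bot, inv_mul_eq_one] at hm
    exact hm
  -- the Fitting subgroup of the quotient
  set F := Cfsg.fittingSubgroup (S ⧸ O) with hF
  have hHall : Cfsg.IsPiHall π (H.map f) := Hall.IsPiHall.map hfs hH
  have hcore : ∀ q : ℕ, q.Prime → q ∉ π → Cfsg.pCore q (S ⧸ O) = ⊥ := by
    intro q hq hqπ
    have := Fact.mk hq
    refine eq_bot_iff.2 ((Cores.le_piCore (π := πᶜ) (fun r hr hrd => ?_)).trans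
      (Cores.piCore_quotient_piCore (G := S) πᶜ).le)
    obtain ⟨i, hi⟩ := IsPGroup.iff_card.1 (Cores.pCore_isPGroup (p := q) (G := S ⧸ O))
    rw [hi] at hrd
    rw [(Nat.prime_dvd_prime_iff_eq hr hq).1 (hr.dvd_of_dvd_pow hrd)]
    exact hqπ
  have hFH' : F ≤ FH.map f := by
    have hFle : F ≤ H.map f := by
      rw [hF, fitting_eq_iSup_pCore]
      refine iSup_le fun q => ?_
      by_cases hq : (q : ℕ) ∈ π
      · have := Fact.mk (Nat.mem_primeFactors.1 q.2).1
        refine Hall.IsPiHall.normal_le hHall fun r hr hrd => ?_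
        obtain ⟨i, hi⟩ := IsPGroup.iff_card.1 (Cores.pCore_isPGroup (p := (q : ℕ)) (G := S ⧸ O))
        rw [hi] at hrd
        rw [(Nat.prime_dvd_prime_iff_eq hr (Nat.mem_primeFactors.1 q.2).1).1 (hr.dvd_of_dvd_pow hrd)]
        exact hq
      · rw [hcore q (Nat.mem_primeFactors.1 q.2).1 hq]; exact bot_le
    have hFnil : Group.IsNilpotent F := by
      have := map_fitting_isNilpotent (G := S ⧸ O) (⊤ : Subgroup (S ⧸ O))
      refine isNilpotent_of_le this ?_
      exact (map_equiv_fitting (Subgroup.topEquiv (G := S ⧸ O))).ge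
    let M : Subgroup H := F.comap (f.comp H.subtype)
    have hMn : M.Normal := inferInstance
    have hMnil : Group.IsNilpotent M := by
      let g : M →* F := ((f.comp H.subtype).comp M.subtype).codRestrict F fun m => m.2
      refine Subgroup.isNilpotent_of_ker_le_center g (le_trans (le_of_eq
        ((MonoidHom.ker_eq_bot_iff g).2 fun a b h => Subtype.ext (Subtype.ext
          (hinj _ a.1.2 _ b.1.2 (congrArg Subtype.val h))))) bot_le)
    intro x hx
    obtain ⟨h, hh, rfl⟩ := hFle hx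
    exact ⟨h, ⟨⟨h, hh⟩, normal_nilpotent_le_fitting hMn hMnil hx, rfl⟩, rfl⟩
  set A' := A.map f with hA'
  have hFN' : F ≤ Subgroup.normalizer (A' : Set (S ⧸ O)) := by
    refine hFH'.trans ?_
    rintro _ ⟨x, hx, rfl⟩
    refine Coprime.mem_normalizer_of_map_conj ?_
    rw [hA', Subgroup.map_map]
    conv_rhs => rw [← Coprime.map_conj_eq (hFN hx), Subgroup.map_map]
    congr 1
  have hFC' : F ⊓ Subgroup.centralizer (A' : Set (S ⧸ O)) ≤ A' := by
    rintro _ ⟨hx, hc⟩
    obtain ⟨x, hxF, rfl⟩ := hFH' hx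
    refine ⟨x, hFC.le ⟨hxF, Subgroup.mem_centralizer_iff.2 fun a ha => ?_⟩, rfl⟩
    refine hinj _ (mul_mem (hAH ha) (Subgroup.map_subtype_le _ hxF)) _
      (mul_mem (Subgroup.map_subtype_le _ hxF) (hAH ha)) ?_
    rw [map_mul, map_mul]
    exact Subgroup.mem_centralizer_iff.1 hc _ ⟨a, ha, rfl⟩
  -- π-subgroups of the centralizer
  have key : ∀ K : Subgroup S, A ≤ K → K ≤ C → Hall.IsPiNumber π (Nat.card K) → K = A := by
    intro K hAK hKC hK
    have hKA : K ≤ A ⊔ O := by
      have : ∀ (p : ℕ) [Fact p.Prime] (P : Sylow p K), (P : Subgroup K).map K.subtype ≤ A ⊔ O := by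
        intro p hp P
        rintro _ ⟨x, hx, rfl⟩
        obtain ⟨k, hk⟩ := P.isPGroup' ⟨x, hx⟩
        have hk' : (x : S) ^ p ^ k = 1 := congrArg Subtype.val (congrArg Subtype.val hk)
        by_cases hx1 : x = 1
        · subst hx1; exact one_mem _
        have hpd : p ∣ Nat.card K := by
          obtain ⟨j, -, hj⟩ := (Nat.dvd_prime_pow hp.out).1
            (orderOf_dvd_of_pow_eq_one (congrArg Subtype.val hk))
          refine (dvd_trans ?_ (orderOf_dvd_natCard x))
          rw [hj]
          refine dvd_pow_self p fun h0 => hx1 (orderOf_eq_one_iff.1 (by rw [hj, h0, pow_zero]))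
        have h5 : 5 ≤ p := by
          have hpπ := hK p hp.out hpd
          have h4 : p ≠ 4 := fun h => absurd hp.out (by rw [h]; decide)
          have := hp.out.two_le
          by_contra hlt
          interval_cases p <;> simp_all
        have hst : Thompson.StableOnNormal p (S ⧸ O) := Thompson.stableOnNormal_of_sl2_free
          (by omega) (Thompson.not_hasSection_sl2_of_isPSolvable h5 Cores.isPSolvable_of_isSolvable)
        have hfx : f x ∈ Subgroup.centralizer (A' : Set (S ⧸ O)) := by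
          rw [Subgroup.mem_centralizer_iff]
          rintro _ ⟨a, ha, rfl⟩
          rw [← map_mul, ← map_mul, Subgroup.mem_centralizer_iff.1 (hKC x.2) a ha]
        have := mem_fitting_of_centralizes h5 hst A' hFN' hFC' hfx (k := k)
          (by rw [← map_pow, hk', map_one])
        obtain ⟨a, ha, hax⟩ := hFC' ⟨this, hfx⟩
        have h2 : a⁻¹ * (x : S) ∈ O := QuotientGroup.eq.1 hax
        simpa using Subgroup.mul_mem _ (Subgroup.mem_sup_left (T := O) ha)
          (Subgroup.mem_sup_right (S := A) h2)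
      have htop := eq_top_of_forall_sylow ((A ⊔ O).subgroupOf K) fun p _ =>
        ⟨Classical.arbitrary _, fun x hx => this p _ ⟨x, hx, rfl⟩⟩
      exact fun x hx => (htop.ge (Subgroup.mem_top (⟨x, hx⟩ : K)) :)
    refine le_antisymm (fun x hx => ?_) hAK
    obtain ⟨o, ho, a, ha, rfl⟩ := (Coprime.mem_sup_iff
      (by rw [Subgroup.normalizer_eq_top]; exact le_top : A ≤ Subgroup.normalizer (O : Set S))).1
      (sup_comm A O ▸ hKA hx)
    have h1 : o ∈ K ⊓ O := ⟨by simpa using Subgroup.mul_mem _ hx (Subgroup.inv_mem _ (hAK ha)), ho⟩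
    rw [(Subgroup.disjoint_of_coprime_natCard (hK.coprime hOpi)).eq_bot,
      Subgroup.mem_bot] at h1
    rwa [h1, one_mul]
  -- the complement
  obtain ⟨T, hT, hAT⟩ := Hall.HallDom.exists_le (Hall.hallDom_of_isSolvable π ↥C)
    (U := A.subgroupOf C) (by
      rw [Nat.card_congr (Subgroup.subgroupOfEquivOfLe hAC).toEquiv]
      exact Hall.isPiNumber_card_mono hAH (Hall.IsPiHall.isPiNumber_card hH))
  have hTA : T = A.subgroupOf C := by
    have h := key (T.map C.subtype)
      (fun a ha => ⟨⟨a, hAC ha⟩, hAT ha, rfl⟩) (Subgroup.map_subtype_le _)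
      (by rw [Subgroup.card_map_of_injective (Subgroup.subtype_injective _)]
          exact Hall.IsPiHall.isPiNumber_card hT)
    rw [← h, Subgroup.subgroupOf, Subgroup.comap_map_eq_self_of_injective
      (Subgroup.subtype_injective _)]
  subst hTA
  have hcent : A.subgroupOf C ≤ Subgroup.center C := fun a ha => Subgroup.mem_center_iff.2 fun g =>
    Subtype.ext (Subgroup.mem_centralizer_iff.1 g.2 a ha).symm
  have : (A.subgroupOf C).Normal :=
    ⟨fun a ha g => by rwa [Subgroup.mem_center_iff.1 (hcent ha) g, mul_inv_cancel_right]⟩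
  obtain ⟨D, hD⟩ := Subgroup.exists_right_complement'_of_coprime (Hall.IsPiHall.coprime hT)
  refine ⟨D.map C.subtype, Subgroup.map_subtype_le _, ?_, ?_, ?_, ?_⟩
  · rintro c hc _ ⟨d, hd, rfl⟩
    obtain ⟨⟨a, e⟩, he⟩ := hD.2 (⟨c, hc⟩ : C)
    refine ⟨(e : C) * d * (e : C)⁻¹, mul_mem (mul_mem e.2 hd) (inv_mem e.2), ?_⟩
    have hac := Subgroup.mem_center_iff.1 (hcent a.2)
    have he' : (⟨c, hc⟩ : C) * d * (⟨c, hc⟩ : C)⁻¹ = (e : C) * d * (e : C)⁻¹ := by
      rw [← he]
      calc (a : C) * e * d * ((a : C) * e)⁻¹ = (a : C) * ((e : C) * d * (e : C)⁻¹) * (a : C)⁻¹ := by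
            group
        _ = _ := by rw [← hac, mul_inv_cancel_right]
    exact (congrArg Subtype.val he').symm
  · rw [eq_bot_iff]
    rintro x ⟨hxA, d, hd, rfl⟩
    have : d ∈ A.subgroupOf C ⊓ D := ⟨hxA, hd⟩
    rw [hD.disjoint.eq_bot, Subgroup.mem_bot] at this
    simp [this]
  · refine le_antisymm (sup_le hAC (Subgroup.map_subtype_le _)) fun c hc => ?_
    obtain ⟨⟨a, e⟩, he⟩ := hD.2 (⟨c, hc⟩ : C)
    have : c = ((a : C) : S) * ((e : C) : S) := (congrArg Subtype.val he).symm
    rw [this]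
    exact Subgroup.mul_mem _ (Subgroup.mem_sup_left a.2) (Subgroup.mem_sup_right ⟨e, e.2, rfl⟩)
  · intro q hq hqd
    rw [Subgroup.card_map_of_injective (Subgroup.subtype_injective _), ← (Subgroup.IsComplement'.symm hD).index_eq_card] at hqd
    exact fun hqπ => hT.2 q hq hqπ hqd

end Cfsg.Agent.S1893
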