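import Cfsg.Statements.S1897
import Cfsg.Agent.H27.SylowModel
import Cfsg.Agent.Unitary.Center
import Cfsg.Agent.Linear.Order

set_option autoImplicit false
set_option Elab.async false
open Cfsg

namespace Cfsg.Agent.S1897

open Matrix Cfsg.Agent.H27.SylowModel

def tW : ℕ := 3765936867691076677608600187680322645852613855439372338317503874653864091053334166732500628307002938559881611379218965264847858913534023625405953217261489521927715214472886425431660252344871777079768753371077704901666282588847837764859504677948966177022662891854029287070025010411823770012972731455562958866722449405617578651769900943537289707483031709918287205817880072314485051433531198454621550287013826449962388533258676555867246451773660244485124839787468153987433584446565414347031798830086843158611556027061630911856405421166570112081033461756562342202710650381193077226395327364434753496727634346497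

def uW : ℕ := 8450406585978954678683226118779587641923359211897007800666861741781923436235186240305171890294057921119468281312870885818458230784780985989169623565977823926301287839327309108350749407227590713188893418172216894230292075604696255639767305868928919692268718912401671038935454835047882065156284895738157670493153597599242904340598941290013653152261028615257375544260758285113651889441661049657869316490585825878885314059574503157061287714697305750276590265778303297638431455246955262301056854246686446420986818580870494048220353272799400658562809084723719562157512437149659997042197829229721198353059993136304280915333087112080236434749752048523895595443866620920040757972267514537846339887010081277835412282117881405578445710839989655705429915350379495698513935706339577813042492617635077334708330207249915470538332150453478183591356276694139563222297210274976787814509639797094388377224944335663857641688174735146525081093197935635661862437488944683941159978792290212368562573377221365428362975522064684589205187868787945108187075176747552435282801305742053109493965082155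35714431982557204047738261579948574096024720287016407291482946476347818173286874655154541809238757786657462792313041343634736291264146330954946800280966379729165197044989188307237717796004459426995277686863841079305905746571372341365406453598762738638636105357947616646435323290151699505616630525549193707262037997891452302752558597900294514822781895348211644611088430579643478143039643183977969635486086355326532393017683804524547656016524828429956630239312345813152111799361881290059806574092046383477475492233087992526533322146000546216606389668145247655552061120801147269645612855763014356434500587483492632154638960464847600783262210146833919022527875716910647654997416876950951083543177234104695376669520905843989499013265497930078036754433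

def tblW : ℕ := 91366771681620070692212181580429176884644054793643466543730979358616699661820538630481739673633629962393746376536987969273420224418524139260023706443402778696374170006115745952241839268868850529025494123737891701957775325167895478853384755058342614028528308610375254324582483247197777553096880465885796661653046034295872543012411110495272508702895498297771186583142242659338109984876284136703206227449374575972433211661619829454427355876346637710280987973006923481640094271689943165695057384249660951803858126748229766839697974416541347609064071251752560410914806990521635540694325738821003922008293134285082550098935928684552949650888364538061047235691384139145714192494833481817812354619310013627819030853023169726784116494965977175860472806509693294385332673775468323685969522522408864290532780414670471681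

def gens : Fin 2 → Fin 168 := ![1, 2]

def tbl (i : Fin 168) (s : Fin 2) : Fin 168 := ⟨dig 8 tblW (2 * i.1 + s.1) % 168, Nat.mod_lt _ (by norm_num)⟩

theorem reach : ∀ i : Fin 168, i = 0 ∨ ∃ j s, j < i ∧ tbl j s = i := by decide +kernel

/-- entries over `ZMod 7` -/
def te (i : Fin 168) (r c : Fin 2) : ZMod 7 := (dig 3 tW (4 * i.1 + 2 * r.1 + c.1) : ℕ)

/-- pairs standing for `a + b ι`, `ι ^ 2 = -1` -/
def ue (i : Fin 168) (r c : Fin 3) : ZMod 3 × ZMod 3 :=
  ((dig 2 uW (2 * (9 * i.1 + 3 * r.1 + c.1)) : ℕ), (dig 2 uW (2 * (9 * i.1 + 3 * r.1 + c.1) + 1) : ℕ))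

def pmul (x y : ZMod 3 × ZMod 3) : ZMod 3 × ZMod 3 := (x.1 * y.1 - x.2 * y.2, x.1 * y.2 + x.2 * y.1)

def pconj (x : ZMod 3 × ZMod 3) : ZMod 3 × ZMod 3 := (x.1, -x.2)

theorem te_det : ∀ i, te i 0 0 * te i 1 1 - te i 0 1 * te i 1 0 = 1 := by decide +kernel

theorem te_mul : ∀ i s, (∀ r c, (∑ x, te i r x * te (gens s) x c) = te (tbl i s) r c) ∨
    ∀ r c, (∑ x, te i r x * te (gens s) x c) = - te (tbl i s) r c := by decide +kernel

theorem te_zero : (∀ r c, te 0 r c = if r = c then 1 else 0) ∨
    ∀ r c, te 0 r c = - (if r = c then 1 else 0) := by decide +kernel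

/-- a code of a matrix up to sign -/
def teKey (i : Fin 168) : ℕ :=
  min ((te i 0 0).val + 7 * (te i 0 1).val + 49 * (te i 1 0).val + 343 * (te i 1 1).val)
    ((- te i 0 0).val + 7 * (- te i 0 1).val + 49 * (- te i 1 0).val + 343 * (- te i 1 1).val)

theorem teKey_nodup : ((List.finRange 168).map teKey).Nodup := by decide +kernel

theorem te_inj (i j : Fin 168)
    (h : (∀ r c, te i r c = te j r c) ∨ ∀ r c, te i r c = - te j r c) : i = j := by
  refine List.inj_on_of_nodup_map teKey_nodup (List.mem_finRange i) (List.mem_finRange j) ?_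
  unfold teKey
  rcases h with h | h <;> simp only [h, neg_neg]
  exact min_comm _ _

theorem ue_mul : ∀ i s r c, pmul (ue i r 0) (ue (gens s) 0 c) + pmul (ue i r 1) (ue (gens s) 1 c) +
    pmul (ue i r 2) (ue (gens s) 2 c) = ue (tbl i s) r c := by decide +kernel

theorem ue_zero : ∀ r c, ue 0 r c = if r = c then (1, 0) else (0, 0) := by decide +kernel

theorem ue_ne : ∀ i : Fin 168, i ≠ 0 → ¬ ∀ r c, ue i r c = ue 0 r c := by decide +kernel

theorem ue_gram : ∀ i r c, pmul (ue i 0 r) (pconj (ue i 0 c)) + pmul (ue i 1 r) (pconj (ue i 1 c)) +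
    pmul (ue i 2 r) (pconj (ue i 2 c)) = ue 0 r c := by decide +kernel

theorem ue_det : ∀ i,
    pmul (pmul (ue i 0 0) (ue i 1 1)) (ue i 2 2) - pmul (pmul (ue i 0 0) (ue i 1 2)) (ue i 2 1) -
      pmul (pmul (ue i 0 1) (ue i 1 0)) (ue i 2 2) + pmul (pmul (ue i 0 1) (ue i 1 2)) (ue i 2 0) +
      pmul (pmul (ue i 0 2) (ue i 1 0)) (ue i 2 1) - pmul (pmul (ue i 0 2) (ue i 1 1)) (ue i 2 0) = (1, 0) := by
  decide +kernel

theorem sum_sq : ∀ a b c d : ZMod 3, (a - c) ^ 2 = -((b - d) ^ 2) → (a, b) = (c, d) := by decide +kernel

theorem ev_inj {F : Type*} [Field F] (κ : ZMod 3 →+* F) {ι : F} (hι : -1 = ι * ι) (x y : ZMod 3 × ZMod 3)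
    (h : κ x.1 + κ x.2 * ι = κ y.1 + κ y.2 * ι) : x = y := by
  have : Fact (Nat.Prime 3) := ⟨Nat.prime_three⟩
  have h2 : (κ (x.1 - y.1)) ^ 2 = κ (-((x.2 - y.2) ^ 2)) := by
    simp only [map_sub, map_neg, map_pow]
    linear_combination (κ x.1 - κ y.1 - (κ x.2 - κ y.2) * ι) * h - (κ x.2 - κ y.2) ^ 2 * hι
  have h3 : (x.1 - y.1) ^ 2 = -((x.2 - y.2) ^ 2) := κ.injective (by rw [map_pow]; exact h2)
  exact sum_sq x.1 x.2 y.1 y.2 h3

theorem exists_hom {F : Type*} [Field F] [Fintype F] (hF : Fintype.card F = 9)
    {K : Type*} [Field K] [Fintype K] (hK : Fintype.card K = 7) :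
    ∃ f : Matrix.ProjectiveSpecialLinearGroup (Fin 2) K →* Cfsg.PSU 3 F 3, Function.Injective f := by
  classical
  have : Fact (Nat.Prime 7) := ⟨by norm_num⟩
  have : Fact (Nat.Prime 3) := ⟨Nat.prime_three⟩
  let φ : ZMod 7 ≃+* K := ZMod.ringEquivOfPrime K (by norm_num) hK
  have : CharP F 3 := charP_of_card_eq_prime_pow (f := 2) (by rw [hF]; norm_num)
  let κ : ZMod 3 →+* F := ZMod.castHom dvd_rfl F
  obtain ⟨ι, hι⟩ : IsSquare (-1 : F) := FiniteField.isSquare_neg_one_iff.2 (by rw [hF]; norm_num)
  have hF' : Fintype.card F = 3 ^ 2 := by rw [hF]; norm_num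
  let ev : ZMod 3 × ZMod 3 → F := fun x => κ x.1 + κ x.2 * ι
  have ev_add : ∀ x y, ev (x + y) = ev x + ev y := fun x y => by simp [ev]; ring
  have ev_sub : ∀ x y, ev (x - y) = ev x - ev y := fun x y => by simp [ev]; ring
  have ev_mul : ∀ x y, ev (pmul x y) = ev x * ev y := fun x y => by
    simp [ev, pmul]
    linear_combination (κ x.2 * κ y.2) * hι
  have ev_conj : ∀ x, ev (pconj x) = ev x ^ 3 := fun x => by
    have h3 : ∀ a : ZMod 3, κ a ^ 3 = κ a := fun a => by rw [← map_pow, ZMod.pow_card]
    have hi : ι ^ 3 = -ι := by linear_combination (-ι) * hι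
    rw [show ev x = κ x.1 + κ x.2 * ι from rfl, add_pow_char, mul_pow, h3, h3, hi]
    simp [ev, pconj]
  have ev_one : ev (1, 0) = 1 := by simp [ev]
  have ev_ue_zero : ∀ r c, ev (ue 0 r c) = (1 : Matrix (Fin 3) (Fin 3) F) r c := fun r c => by
    rw [ue_zero r c, Matrix.one_apply]
    split_ifs <;> simp [ev]
  let M : Fin 168 → Matrix (Fin 3) (Fin 3) F := fun i => Matrix.of fun r c => ev (ue i r c)
  have hM : ∀ i, (M i)ᵀ * (M i).map (fun x => x ^ 3) = 1 := fun i => by
    ext r c
    rw [← ev_ue_zero, ← ue_gram i r c, ev_add, ev_add, ev_mul, ev_mul, ev_mul, ev_conj, ev_conj, ev_conj]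
    simp [M, Matrix.mul_apply, Fin.sum_univ_three]
  have hdet : ∀ i, (M i).det = 1 := fun i => by
    rw [Matrix.det_fin_three, ← ev_one, ← ue_det i]
    simp [M, ev_add, ev_sub, ev_mul]
  let U : Fin 168 → Cfsg.SU 3 F 3 := fun i => ⟨⟨M i, hdet i⟩,
    (Cfsg.Agent.Unitary.preserves_iff_transpose_mul hF').2 (hM i)⟩
  have hU : ∀ i s, U i * U (gens s) = U (tbl i s) := fun i s => by
    refine Subtype.ext (Subtype.ext ?_)
    change M i * M (gens s) = M (tbl i s)
    ext r c
    simp [M, Matrix.mul_apply, Fin.sum_univ_three, ← ue_mul i s r c, ev_add, ev_mul]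
  have hU1 : U 0 = 1 := by
    refine Subtype.ext (Subtype.ext ?_)
    change M 0 = 1
    ext r c
    exact ev_ue_zero r c
  let T0 : Fin 168 → Matrix.SpecialLinearGroup (Fin 2) K := fun i =>
    ⟨(Matrix.of (te i)).map φ, by
      rw [Matrix.det_fin_two]
      simp [← map_mul, ← map_sub, te_det i]⟩
  let T : Fin 168 → Matrix.ProjectiveSpecialLinearGroup (Fin 2) K := fun i => QuotientGroup.mk (T0 i)
  have hpm : ∀ x y : Matrix.SpecialLinearGroup (Fin 2) K, (y = x ∨ y = -x) →
      (QuotientGroup.mk x : Matrix.ProjectiveSpecialLinearGroup (Fin 2) K) = QuotientGroup.mk y := by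
    intro x y h
    refine QuotientGroup.eq.2 ?_
    rcases h with rfl | rfl
    · rw [inv_mul_cancel]; exact one_mem _
    · rw [mul_neg, inv_mul_cancel]
      refine Subgroup.mem_center_iff.2 fun z => ?_
      rw [mul_neg, mul_one, neg_mul, one_mul]
  have hT : ∀ i s, T i * T (gens s) = T (tbl i s) := fun i s => by
    change (QuotientGroup.mk (T0 i * T0 (gens s)) : Matrix.ProjectiveSpecialLinearGroup (Fin 2) K) = _
    refine hpm _ _ ?_
    rcases te_mul i s with h | h
    · refine Or.inl (Subtype.ext ?_)
      change (Matrix.of (te (tbl i s))).map φ = (Matrix.of (te i)).map φ * (Matrix.of (te (gens s))).map φ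
      ext r c
      have e := congrArg φ (h r c)
      simp at e
      simp [Matrix.mul_apply, e]
    · refine Or.inr (Subtype.ext ?_)
      change (Matrix.of (te (tbl i s))).map φ = -((Matrix.of (te i)).map φ * (Matrix.of (te (gens s))).map φ)
      ext r c
      have e := congrArg φ (h r c)
      simp at e
      simp [Matrix.mul_apply, e]
  have hT1 : T 0 = 1 := by
    refine hpm _ 1 ?_
    rcases te_zero with h | h
    · refine Or.inl (Subtype.ext ?_)
      change (1 : Matrix (Fin 2) (Fin 2) K) = (Matrix.of (te 0)).map φ
      ext r c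
      simp [h r c, apply_ite φ, Matrix.one_apply]
    · refine Or.inr (Subtype.ext ?_)
      change (1 : Matrix (Fin 2) (Fin 2) K) = -((Matrix.of (te 0)).map φ)
      ext r c
      simp [h r c, apply_ite φ, Matrix.one_apply]
  have hTinj : Function.Injective T := fun i j hij => by
    have hz : (T0 i)⁻¹ * T0 j ∈ Subgroup.center _ := QuotientGroup.eq.1 hij
    obtain ⟨a, ha, hc⟩ := Matrix.SpecialLinearGroup.mem_center_iff.1 hz
    have hsq : a = 1 ∨ a = -1 := by
      rw [← mul_self_eq_one_iff, ← pow_two]
      simpa using ha
    have hj : (T0 j : Matrix (Fin 2) (Fin 2) K) = a • (T0 i : Matrix (Fin 2) (Fin 2) K) := by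
      have e : T0 j = T0 i * ((T0 i)⁻¹ * T0 j) := (mul_inv_cancel_left _ _).symm
      rw [e, Matrix.SpecialLinearGroup.coe_mul, ← hc, Matrix.scalar_apply, ← Matrix.smul_one_eq_diagonal,
        Matrix.mul_smul, Matrix.mul_one]
    refine (te_inj j i ?_).symm
    rcases hsq with rfl | rfl
    · refine Or.inl fun r c => φ.injective ?_
      simpa [T0] using congrFun (congrFun hj r) c
    · refine Or.inr fun r c => φ.injective ?_
      simpa [T0] using congrFun (congrFun hj r) c
  obtain ⟨P, f, hP, hf⟩ := exists_model (T := T) (U := U) (z := (0 : Fin 168)) (g := gens)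
    (tbl := tbl) hTinj hT1 hU1 hT hU reach
  have hcard : Nat.card (Matrix.ProjectiveSpecialLinearGroup (Fin 2) K) = 168 := by
    have h := Cfsg.Agent.Linear.card_PSL_two_mul (F := K)
    rw [hK, show Nat.gcd 2 (7 - 1) = 2 by decide, show (7 : ℕ) * (7 ^ 2 - 1) = 336 by decide] at h
    omega
  have htop : P = ⊤ := Subgroup.eq_top_of_card_eq P (by rw [hP, hcard])
  have hinj : Function.Injective f := (injective_iff_map_eq_one f).2 fun x hx => by
    obtain ⟨i, hi, hfi⟩ := hf x
    by_cases h0 : i = 0
    · subst h0; exact Subtype.ext (hi.trans hT1)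
    · exfalso
      rw [hx] at hfi
      refine ue_ne i h0 fun r c => ?_
      have e := congrFun (congrFun (congrArg (fun y : Cfsg.SU 3 F 3 =>
        ((y : Matrix.SpecialLinearGroup (Fin 3) F) : Matrix (Fin 3) (Fin 3) F)) (hfi.symm.trans hU1.symm)) r) c
      exact ev_inj κ hι _ _ e
  have hcen : Subgroup.center (Cfsg.SU 3 F 3) = ⊥ := Subgroup.eq_bot_of_card_eq _ <| by
    rw [Cfsg.Agent.Unitary.card_center_SU hF' (by norm_num)]; rfl
  refine ⟨((QuotientGroup.mk' _).comp f).comp
    ((MulEquiv.subgroupCongr htop).trans Subgroup.topEquiv).symm.toMonoidHom, ?_⟩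
  rw [MonoidHom.coe_comp]
  refine Function.Injective.comp ?_ (MulEquiv.injective _)
  refine (injective_iff_map_eq_one _).2 fun x hx => (injective_iff_map_eq_one f).1 hinj x ?_
  have h : f x ∈ Subgroup.center (Cfsg.SU 3 F 3) := (QuotientGroup.eq_one_iff _).1 hx
  rwa [hcen, Subgroup.mem_bot] at h


/-- The projective special unitary group PSU₃(3) (realised over the field with 9 elements) has a subgroup isomorphic to PSL₂(7). -/
theorem result {F : Type*} [Field F] [Fintype F] (hF : Fintype.card F = 9)
    {K : Type*} [Field K] [Fintype K] (hK : Fintype.card K = 7) :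
    ∃ H : Subgroup (Cfsg.PSU 3 F 3), Nonempty (H ≃* Matrix.ProjectiveSpecialLinearGroup (Fin 2) K) := by
  obtain ⟨f, hf⟩ := exists_hom hF hK
  exact ⟨f.range, ⟨(MonoidHom.ofInjective hf).symm⟩⟩

end Cfsg.Agent.S1897
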