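import Cfsg.Statements.S1899


set_option autoImplicit false
open Cfsg

namespace Cfsg.Agent.S1899

theorem fixed_of_sq_fixed {A : Type*} [CommGroup A] {n : ℕ} (hn : Odd n) (d : MulAut A)
    (hd : d ^ n = 1) {x : A} (h : (d ^ 2) x = x) : d x = x := by
  obtain ⟨m, hm⟩ := hn
  have h4 : ∀ k : ℕ, ((d ^ 2) ^ k) x = x := by
    intro k
    induction k with
    | zero => simp
    | succ k ih => rw [pow_succ, MulAut.mul_apply, h, ih]
  have h5 : (d ^ n) x = x := by rw [hd, MulAut.one_apply]
  rwa [hm, pow_succ', MulAut.mul_apply, pow_mul, h4] at h5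

/-- Let a dihedral group of order 2n, n odd and n > 1, act on a finite abelian 2-group A through automorphisms d and t with d^n = 1, t² = 1 and t d t⁻¹ = d⁻¹, and suppose that d fixes only the identity. Then A is the internal direct product of C_A(t) and its image under d. -/
theorem result {A : Type*} [CommGroup A] [Finite A] (hA : IsPGroup 2 A)
    {n : ℕ} (hn : Odd n) (hn1 : 1 < n) (d t : MulAut A) (hd : d ^ n = 1) (ht : t ^ 2 = 1) (hdt : t * d * t⁻¹ = d⁻¹)
    (hfix : ∀ a : A, d a = a → a = 1) :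
    (MulEquiv.toMonoidHom t).eqLocus (MonoidHom.id A) ⊓ ((MulEquiv.toMonoidHom t).eqLocus (MonoidHom.id A)).map d.toMonoidHom = ⊥ ∧
      (MulEquiv.toMonoidHom t).eqLocus (MonoidHom.id A) ⊔ ((MulEquiv.toMonoidHom t).eqLocus (MonoidHom.id A)).map d.toMonoidHom = ⊤ := by
  have htt : ∀ a, t (t a) = a := fun a => by
    rw [← MulAut.mul_apply, ← pow_two, ht, MulAut.one_apply]
  have htinv : t⁻¹ = t := inv_eq_of_mul_eq_one_right (by rw [← pow_two, ht])
  have hdt' : t * d = d⁻¹ * t := mul_inv_eq_iff_eq_mul.mp hdt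
  have hC : ∀ a, a ∈ (MulEquiv.toMonoidHom t).eqLocus (MonoidHom.id A) ↔ t a = a := fun a => Iff.rfl
  refine ⟨?_, ?_⟩
  · rw [eq_bot_iff]
    rintro b ⟨hb, c, hc, rfl⟩
    replace hc : t c = c := hc
    have hb : t (d c) = d c := hb
    have h1 : d c = d⁻¹ c := by
      rw [← hb, ← MulAut.mul_apply, hdt', MulAut.mul_apply, hc]
    have h2 : (d ^ 2) c = c := by
      rw [pow_two, MulAut.mul_apply, h1, ← MulAut.mul_apply, mul_inv_cancel, MulAut.one_apply]
    have := hfix c (fixed_of_sq_fixed hn d hd h2)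
    subst this
    simp
  · rw [eq_top_iff]
    intro a _
    set C := (MulEquiv.toMonoidHom t).eqLocus (MonoidHom.id A)
    have hdd : ∀ x : A, x / (d ^ 2) x ∈ C ⊔ C.map d.toMonoidHom := by
      intro x
      have h1 : ∀ y : A, y * t y ∈ C := fun y => by
        rw [hC, map_mul, htt, mul_comm]
      have e : t (d⁻¹ (t x)) = d x := by
        rw [← MulAut.mul_apply, ← MulAut.mul_apply]
        have : t * d⁻¹ * t = d := by
          have := congrArg (fun z => z⁻¹) hdt
          simpa [mul_assoc, htinv] using this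
        rw [this]
      have h2 : t x * (d ^ 2) x ∈ C.map d.toMonoidHom :=
        ⟨d⁻¹ (t x) * t (d⁻¹ (t x)), h1 _, by
          show d (d⁻¹ (t x) * t (d⁻¹ (t x))) = _
          rw [e, map_mul, ← MulAut.mul_apply, mul_inv_cancel, MulAut.one_apply, pow_two,
            MulAut.mul_apply]⟩
      have := (C ⊔ C.map d.toMonoidHom).div_mem (Subgroup.mem_sup_left (h1 x))
        (Subgroup.mem_sup_right h2)
      rwa [mul_comm x (t x), mul_div_mul_left_eq_div] at this
    have hinj : Function.Injective (fun x : A => x / (d ^ 2) x) := by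
      intro x y hxy
      simp only at hxy
      have h6 : (d ^ 2) (x / y) = x / y := by
        rw [map_div]; exact (div_eq_div_iff_div_eq_div.mp hxy).symm
      exact div_eq_one.mp (hfix _ (fixed_of_sq_fixed hn d hd h6))
    obtain ⟨x, rfl⟩ := (Finite.injective_iff_surjective.mp hinj) a
    exact hdd x

end Cfsg.Agent.S1899
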