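import Cfsg.Statements.S1900
import Cfsg.Agent.Coprime.Generation
import Cfsg.Agent.Coprime.Action
import Cfsg.Agent.H48.SylowCore
import Mathlib.GroupTheory.Nilpotent
import Mathlib.GroupTheory.SpecificGroups.Cyclic


set_option autoImplicit false
open Cfsg

namespace Cfsg.Agent.S1900

open Subgroup

/-- The shifted elements exhaust a fixed-point-free invariant subgroup. -/
theorem exists_eq_inv_mul_conj {G : Type*} [Group G] [Finite G] {C : Subgroup G} {x : G}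
    (hC : ∀ b ∈ C, x * b * x⁻¹ ∈ C) (hfix : ∀ b ∈ C, x * b = b * x → b = 1) {d : G} (hd : d ∈ C) :
    ∃ b ∈ C, d = b⁻¹ * (x * b * x⁻¹) := by
  let f : C → C := fun b => ⟨(b : G)⁻¹ * (x * b * x⁻¹), C.mul_mem (C.inv_mem b.2) (hC b b.2)⟩
  have hf : Function.Injective f := by
    intro b c h
    have h' : (b : G)⁻¹ * (x * b * x⁻¹) = (c : G)⁻¹ * (x * c * x⁻¹) := congrArg Subtype.val h
    have h2 : x * ((c : G) * (b : G)⁻¹)⁻¹ * x⁻¹ = ((c : G) * (b : G)⁻¹)⁻¹ := by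
      have h3 := congrArg (fun y => (b : G) * y * (x * c * x⁻¹)⁻¹) h'
      simpa [mul_assoc] using h3
    have h4 := hfix _ (C.inv_mem (C.mul_mem c.2 (C.inv_mem b.2))) (mul_inv_eq_iff_eq_mul.mp h2)
    exact Subtype.ext (mul_inv_eq_one.mp (inv_eq_one.mp h4)).symm
  obtain ⟨b, hb⟩ := (Finite.injective_iff_surjective.mp hf) ⟨d, hd⟩
  exact ⟨b, b.2, (congrArg Subtype.val hb).symm⟩

/-- One step: commutators lying in a subgroup central modulo `N` lie in `C₂ ⊔ N`. -/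
theorem comm_mem_sup {G : Type*} [Group G] [Finite G] {P N N' C₁ C₂ : Subgroup G} {x : G}
    [N.Normal] (hN' : N' ≤ P) (hxN' : ∀ w ∈ N', x * w * x⁻¹ ∈ N')
    (hcent : ∀ w ∈ N', ∀ g ∈ P, g * w * g⁻¹ * w⁻¹ ∈ N) (hgen : N' ≤ (N' ⊓ C₁) ⊔ (N' ⊓ C₂))
    (h1 : ∀ a ∈ C₁, x * a = a * x) (hC₁ : C₁ ≤ P) (hC₂ : C₂ ≤ P)
    (hxC₂ : ∀ b ∈ C₂, x * b * x⁻¹ ∈ C₂) (hfix : ∀ b ∈ C₂, x * b = b * x → b = 1)
    (hab : ∀ a ∈ C₁, ∀ b ∈ C₂, a * b * a⁻¹ * b⁻¹ ∈ N') {a b : G} (ha : a ∈ C₁) (hb : b ∈ C₂) :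
    a * b * a⁻¹ * b⁻¹ ∈ C₂ ⊔ N := by
  let f := QuotientGroup.mk' N
  have hker : ∀ g : G, f g = 1 ↔ g ∈ N := fun g => QuotientGroup.eq_one_iff g
  have hcomm : ∀ w ∈ N', ∀ g ∈ P, f g * f w = f w * f g := fun w hw g hg => by
    have h := (hker _).mpr (hcent w hw g hg)
    simp only [map_mul, map_inv] at h
    exact mul_inv_eq_iff_eq_mul.mp (mul_inv_eq_one.mp h)
  have hmem : ∀ g : G, f g ∈ C₂.map f → g ∈ C₂ ⊔ N := fun g hg => by
    have : g ∈ (C₂.map f).comap f := hg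
    rwa [comap_map_eq, QuotientGroup.ker_mk'] at this
  apply hmem
  -- shifts of elements of `N'`
  let K : Subgroup G :=
    { carrier := {w | w ∈ N' ∧ f (x * w * x⁻¹ * w⁻¹) ∈ C₂.map f}
      one_mem' := ⟨one_mem _, by simp⟩
      mul_mem' := fun {v w} hv hw => ⟨mul_mem hv.1 hw.1, by
        have e : f (x * (v * w) * x⁻¹ * (v * w)⁻¹) =
            f (x * v * x⁻¹ * v⁻¹) * f (x * w * x⁻¹ * w⁻¹) := by
          have h := hcomm _ (mul_mem (hxN' w hw.1) (inv_mem hw.1)) v (hN' hv.1)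
          calc f (x * (v * w) * x⁻¹ * (v * w)⁻¹)
              = f (x * v * x⁻¹) * f (x * w * x⁻¹ * w⁻¹) * (f v)⁻¹ := by
                simp only [map_mul, map_inv]; group
            _ = f (x * v * x⁻¹) * ((f v)⁻¹ * f (x * w * x⁻¹ * w⁻¹)) := by
                rw [mul_assoc, (Commute.inv_left (show Commute (f v) _ from h)).eq]
            _ = _ := by simp only [map_mul, map_inv]; group
        rw [e]; exact mul_mem hv.2 hw.2⟩
      inv_mem' := fun {v} hv => ⟨inv_mem hv.1, by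
        have h := hcomm v hv.1 _ (hN' (hxN' v hv.1))
        have e : f (x * v⁻¹ * x⁻¹ * v⁻¹⁻¹) = (f (x * v * x⁻¹ * v⁻¹))⁻¹ := by
          calc f (x * v⁻¹ * x⁻¹ * v⁻¹⁻¹) = (f (x * v * x⁻¹))⁻¹ * f v := by
                simp only [map_mul, map_inv]; group
            _ = f v * (f (x * v * x⁻¹))⁻¹ := ((Commute.inv_left (show Commute _ (f v) from h))).eq
            _ = _ := by simp only [map_mul, map_inv]; group
        rw [e]; exact inv_mem hv.2⟩ }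
  have hK : N' ≤ K := hgen.trans (sup_le
    (fun w hw => ⟨hw.1, by rw [h1 w hw.2, mul_inv_cancel_right, mul_inv_cancel, map_one]; exact one_mem _⟩)
    (fun w hw => ⟨hw.1, mem_map_of_mem f (mul_mem (hxC₂ w hw.2) (inv_mem hw.2))⟩))
  obtain ⟨d, hd, rfl⟩ := exists_eq_inv_mul_conj hxC₂ hfix hb
  set w := a * d * a⁻¹ * d⁻¹ with hw
  have hwN' : w ∈ N' := hab a ha d hd
  have hxd := hxC₂ d hd
  have hax : a * x = x * a := (h1 a ha).symm
  have hw2 := hxN' w hwN'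
  have e : f (a * (d⁻¹ * (x * d * x⁻¹)) * a⁻¹ * (d⁻¹ * (x * d * x⁻¹))⁻¹) =
      f (x * w * x⁻¹ * w⁻¹) := by
    have e0 : x * w * x⁻¹ = a * (x * d * x⁻¹) * a⁻¹ * (x * d * x⁻¹)⁻¹ := by
      calc x * w * x⁻¹ = (x * a) * d * (x * a)⁻¹ * (x * d⁻¹ * x⁻¹) * 1 := by rw [hw]; group
        _ = (a * x) * d * (a * x)⁻¹ * (x * d⁻¹ * x⁻¹) * 1 := by rw [hax]
        _ = _ := by group
    have c1 := hcomm _ (inv_mem hwN') d⁻¹ (inv_mem (hC₂ hd))
    have c2 := hcomm _ hw2 d⁻¹ (inv_mem (hC₂ hd))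
    have c3 := hcomm _ (inv_mem hwN') _ (hN' hw2)
    calc f (a * (d⁻¹ * (x * d * x⁻¹)) * a⁻¹ * (d⁻¹ * (x * d * x⁻¹))⁻¹)
        = f (d⁻¹ * w⁻¹ * (x * w * x⁻¹) * d) := by rw [e0, hw]; congr 1; group
      _ = f d⁻¹ * f w⁻¹ * f (x * w * x⁻¹) * f d := by simp only [map_mul]
      _ = f w⁻¹ * (f d⁻¹ * f (x * w * x⁻¹)) * f d := by rw [c1]; group
      _ = f w⁻¹ * f (x * w * x⁻¹) * (f d⁻¹ * f d) := by rw [c2]; group
      _ = f (x * w * x⁻¹) * f w⁻¹ := by rw [← map_mul f d⁻¹, inv_mul_cancel, map_one, mul_one, c3]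
      _ = _ := by rw [← map_mul]
  rw [e]
  exact (hK hwN').2

/-- Let S = PQ be a finite group with P a normal Sylow p-subgroup and Q elementary abelian of order q², q a prime different from p. If exactly two subgroups X₁, X₂ of order q in Q have a nontrivial centralizer in P, then P is the internal direct product of C_P(X₁) and C_P(X₂): they commute elementwise, meet trivially and generate P. -/
theorem result {S : Type*} [Group S] [Finite S] {p q : ℕ} [Fact p.Prime] [Fact q.Prime] (hpq : p ≠ q)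
    (P : Sylow p S) [(P : Subgroup S).Normal] (Q : Subgroup S) (hQ : Cfsg.IsElementaryAbelian q Q) (hQc : Nat.card Q = q ^ 2)
    (hS : (P : Subgroup S) ⊔ Q = ⊤)
    (X₁ X₂ : Subgroup S) (h₁ : X₁ ≤ Q) (h₂ : X₂ ≤ Q) (h₁₂ : X₁ ≠ X₂) (hc₁ : Nat.card X₁ = q) (hc₂ : Nat.card X₂ = q)
    (hf₁ : (P : Subgroup S) ⊓ Subgroup.centralizer (X₁ : Set S) ≠ ⊥)
    (hf₂ : (P : Subgroup S) ⊓ Subgroup.centralizer (X₂ : Set S) ≠ ⊥)
    (honly : ∀ X : Subgroup S, X ≤ Q → Nat.card X = q →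
      (P : Subgroup S) ⊓ Subgroup.centralizer (X : Set S) ≠ ⊥ → X = X₁ ∨ X = X₂) :
    ⁅(P : Subgroup S) ⊓ Subgroup.centralizer (X₁ : Set S), (P : Subgroup S) ⊓ Subgroup.centralizer (X₂ : Set S)⁆ = ⊥ ∧
      ((P : Subgroup S) ⊓ Subgroup.centralizer (X₁ : Set S)) ⊓ ((P : Subgroup S) ⊓ Subgroup.centralizer (X₂ : Set S)) = ⊥ ∧
      ((P : Subgroup S) ⊓ Subgroup.centralizer (X₁ : Set S)) ⊔ ((P : Subgroup S) ⊓ Subgroup.centralizer (X₂ : Set S)) = P := by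
  classical
  have hq : q.Prime := Fact.out
  have hp : p.Prime := Fact.out
  haveI hQcomm : IsMulCommutative Q := hQ.1
  set C₁ := (P : Subgroup S) ⊓ centralizer (X₁ : Set S) with hC₁
  set C₂ := (P : Subgroup S) ⊓ centralizer (X₂ : Set S) with hC₂
  have hQP : ∀ K : Subgroup S, K.Normal → Q ≤ normalizer (K : Set S) := fun K hK => by
    haveI := hK
    exact fun g _ => H48.mem_normalizer_of_normal g
  obtain ⟨k, hk⟩ := IsPGroup.iff_card.mp P.isPGroup'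
  have hcop : ∀ K : Subgroup S, K ≤ (P : Subgroup S) → (Nat.card Q).Coprime (Nat.card K) := by
    intro K hK
    refine Nat.Coprime.coprime_dvd_right (card_dvd_of_le hK) ?_
    rw [hQc, hk]
    exact Nat.Coprime.pow 2 k ((Nat.coprime_primes hq hp).mpr hpq.symm)
  have hQnc : ¬ IsCyclic Q := by
    intro hc
    obtain ⟨g, hg⟩ := hc.exists_ofOrder_eq_natCard
    have h := orderOf_dvd_of_pow_eq_one (Subtype.ext (hQ.2 g g.2) : g ^ q = 1)
    rw [hg, hQc] at h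
    have := Nat.le_of_dvd hq.pos h
    nlinarith [hq.two_le]
  have hcyc : ∀ b ∈ Q, b ≠ 1 → Nat.card (zpowers b) = q := fun b hb hb1 => by
    rw [Nat.card_zpowers]
    exact orderOf_eq_prime (hQ.2 b hb) hb1
  have hzc : ∀ b : S, centralizer ({b} : Set S) ≤ centralizer ((zpowers b : Subgroup S) : Set S) := by
    intro b g hg
    refine mem_centralizer_iff.mpr ?_
    rintro _ ⟨n, rfl⟩
    exact (Commute.zpow_right (show Commute g b from mem_centralizer_singleton_iff.mp hg) n).eq.symm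
  have hgenall : ∀ K : Subgroup S, K.Normal → K ≤ (P : Subgroup S) → K ≤ (K ⊓ C₁) ⊔ (K ⊓ C₂) := by
    intro K hK hKP
    refine Coprime.le_of_centralizer_noncyclic_le hQnc (hQP K hK) (hcop K hKP) fun b hb hb1 => ?_
    by_cases hne : (P : Subgroup S) ⊓ centralizer ((zpowers b : Subgroup S) : Set S) = ⊥
    · refine (le_of_eq (le_bot_iff.mp ?_)).trans bot_le
      rw [← hne]
      exact inf_le_inf hKP (hzc b)
    · rcases honly _ (zpowers_le.mpr hb) (hcyc b hb hb1) hne with h | h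
      · exact le_sup_of_le_left (le_inf inf_le_left (inf_le_inf hKP (h ▸ hzc b)))
      · exact le_sup_of_le_right (le_inf inf_le_left (inf_le_inf hKP (h ▸ hzc b)))
  -- a third subgroup of order `q`
  have hCQ : (P : Subgroup S) ⊓ centralizer (Q : Set S) = ⊥ := by
    by_contra hne
    have hmem : ∀ b ∈ Q, b ∈ X₁ ∨ b ∈ X₂ := by
      intro b hb
      by_cases hb1 : b = 1
      · exact .inl (hb1 ▸ one_mem _)
      rcases honly _ (zpowers_le.mpr hb) (hcyc b hb hb1) (fun h => hne (le_bot_iff.mp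
        (h ▸ inf_le_inf_left _ (centralizer_le (zpowers_le.mpr hb))))) with h | h
      · exact .inl (h ▸ mem_zpowers b)
      · exact .inr (h ▸ mem_zpowers b)
    obtain ⟨a, ha, ha'⟩ : ∃ a ∈ X₁, a ∉ X₂ := by
      by_contra! h
      exact h₁₂ (Subgroup.eq_of_le_of_card_ge h (by rw [hc₁, hc₂]))
    obtain ⟨b, hb, hb'⟩ : ∃ b ∈ X₂, b ∉ X₁ := by
      by_contra! h
      exact h₁₂ (Subgroup.eq_of_le_of_card_ge h (by rw [hc₁, hc₂])).symm
    rcases hmem _ (mul_mem (h₁ ha) (h₂ hb)) with h | h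
    · exact hb' (by simpa using X₁.mul_mem (X₁.inv_mem ha) h)
    · exact ha' (by simpa using X₂.mul_mem h (X₂.inv_mem hb))
  have hgenQ : X₁ ⊔ X₂ = Q := by
    refine Subgroup.eq_of_le_of_card_ge (sup_le h₁ h₂) ?_
    have hdvd := card_dvd_of_le (sup_le h₁ h₂)
    rw [hQc] at hdvd ⊢
    obtain ⟨j, hj, hje⟩ := (Nat.dvd_prime_pow hq).mp hdvd
    rw [hje]
    rcases (show j = 0 ∨ j = 1 ∨ j = 2 by omega) with rfl | rfl | rfl
    · have := Subgroup.card_le_of_le (le_sup_left : X₁ ≤ X₁ ⊔ X₂)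
      rw [hje, hc₁, pow_zero] at this
      exact absurd this (not_le.mpr hq.one_lt)
    · have e1 := Subgroup.eq_of_le_of_card_ge (le_sup_left : X₁ ≤ X₁ ⊔ X₂) (by rw [hje, hc₁, pow_one])
      have e2 := Subgroup.eq_of_le_of_card_ge (le_sup_right : X₂ ≤ X₁ ⊔ X₂) (by rw [hje, hc₂, pow_one])
      exact absurd (e1.trans e2.symm) h₁₂
    · exact le_rfl
  have hinf : C₁ ⊓ C₂ = ⊥ := by
    refine le_bot_iff.mp (hCQ ▸ ?_)
    intro g hg
    refine mem_inf.mpr ⟨hg.1.1, ?_⟩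
    rw [← hgenQ]
    exact le_centralizer_iff.mp (sup_le (le_centralizer_iff.mp (zpowers_le.mpr hg.1.2))
      (le_centralizer_iff.mp (zpowers_le.mpr hg.2.2))) (mem_zpowers g)
  refine ⟨?_, hinf, le_antisymm (sup_le inf_le_left inf_le_left)
    ((hgenall _ inferInstance le_rfl).trans (sup_le_sup inf_le_right inf_le_right))⟩
  rw [eq_bot_iff, commutator_le]
  intro a ha b hb
  rw [mem_bot]
  -- elements generating `X₁`, `X₂`
  have hgenX : ∀ X : Subgroup S, Nat.card X = q → ∃ x ∈ X, zpowers x = X := fun X hX => by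
    obtain ⟨⟨x, hx⟩, hx1⟩ := Subgroup.ne_bot_iff_exists_ne_one.mp
      (fun h : X = ⊥ => hq.one_lt.ne (by rw [← hX, h, card_bot]))
    refine ⟨x, hx, Subgroup.eq_of_le_of_card_ge (zpowers_le.mpr hx) ?_⟩
    rw [hX, Nat.card_zpowers]
    have hd : orderOf x ∣ q := hX ▸ orderOf_dvd_natCard X hx
    rcases (Nat.dvd_prime hq).mp hd with h | h
    · exact absurd (Subtype.ext (orderOf_eq_one_iff.mp h)) hx1
    · rw [h]
  obtain ⟨x₁, hx₁, hX₁⟩ := hgenX X₁ hc₁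
  obtain ⟨x₂, hx₂, hX₂⟩ := hgenX X₂ hc₂
  have hmemC : ∀ X : Subgroup S, ∀ x, zpowers x = X → ∀ g,
      g ∈ (P : Subgroup S) ⊓ centralizer (X : Set S) ↔ g ∈ (P : Subgroup S) ∧ x * g = g * x := by
    intro X x hX g
    subst hX
    refine ⟨fun h => ⟨h.1, (mem_centralizer_iff.mp h.2 x (mem_zpowers x))⟩, fun h => ⟨h.1, ?_⟩⟩
    exact hzc x (mem_centralizer_singleton_iff.mpr h.2.symm)
  have hQc' : ∀ x ∈ Q, ∀ y ∈ Q, x * y = y * x := fun x hx y hy =>
    congrArg Subtype.val (IsMulCommutative.is_comm.comm (⟨x, hx⟩ : Q) ⟨y, hy⟩)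
  have hinv : ∀ x ∈ Q, ∀ y ∈ Q, ∀ g ∈ (P : Subgroup S), y * g = g * y →
      x * g * x⁻¹ ∈ (P : Subgroup S) ∧ y * (x * g * x⁻¹) = x * g * x⁻¹ * y := by
    intro x hx y hy g hg hyg
    refine ⟨(inferInstance : (P : Subgroup S).Normal).conj_mem g hg x, ?_⟩
    have e := hQc' x hx y hy
    calc y * (x * g * x⁻¹) = (y * x) * g * x⁻¹ := by group
      _ = x * (y * g) * x⁻¹ := by rw [← e]; group
      _ = x * g * (y * x⁻¹) := by rw [hyg]; group
      _ = x * g * (x⁻¹ * y) := by rw [hQc' x⁻¹ (Q.inv_mem hx) y hy]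
      _ = _ := by group
  -- descending the upper central series of `P`
  let Z : ℕ → Subgroup S := fun i => (Subgroup.upperCentralSeries (P : Subgroup S) i).map (P : Subgroup S).subtype
  suffices hs : ∀ i : ℕ, (∀ a ∈ C₁, ∀ b ∈ C₂, a * b * a⁻¹ * b⁻¹ ∈ Z i) → a * b * a⁻¹ * b⁻¹ = 1 by
    haveI : Group.IsNilpotent (P : Subgroup S) := P.isPGroup'.isNilpotent
    obtain ⟨n, hn⟩ := Group.IsNilpotent.nilpotent (P : Subgroup S)
    refine hs n fun a ha b hb => ?_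
    simp only [Z, hn, ← MonoidHom.range_eq_map, range_subtype]
    exact mul_mem (mul_mem (mul_mem ha.1 hb.1) (inv_mem ha.1)) (inv_mem hb.1)
  intro i
  induction i with
  | zero =>
    intro h
    have := h a ha b hb
    simpa [Z, Subgroup.upperCentralSeries_zero] using this
  | succ i ih =>
    intro h
    apply ih
    intro a ha b hb
    haveI hNn : ∀ j, (Z j).Normal := fun j => by
      exact ConjAct.normal_of_characteristic_of_normal
    have hcent : ∀ w ∈ Z (i + 1), ∀ g ∈ (P : Subgroup S), g * w * g⁻¹ * w⁻¹ ∈ Z i := by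
      rintro _ ⟨w, hw, rfl⟩ g hg
      refine ⟨(w * ⟨g, hg⟩ * w⁻¹ * ⟨g, hg⟩⁻¹)⁻¹, inv_mem (Subgroup.mem_upperCentralSeries_succ_iff.mp hw _), ?_⟩
      simp [mul_assoc]
    have k₁ : a * b * a⁻¹ * b⁻¹ ∈ C₂ ⊔ Z i := by
      refine comm_mem_sup (N := Z i) (N' := Z (i + 1)) (x := x₁) (P := (P : Subgroup S)) (map_subtype_le _)
        (fun w hw => (hNn (i + 1)).conj_mem w hw x₁) hcent (hgenall _ (hNn _) (map_subtype_le _))
        (fun a ha => ((hmemC X₁ x₁ hX₁ a).mp ha).2) inf_le_left inf_le_left ?_ ?_ h ha hb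
      · intro b hb
        obtain ⟨hb1, hb2⟩ := (hmemC X₂ x₂ hX₂ b).mp hb
        exact (hmemC X₂ x₂ hX₂ _).mpr (hinv x₁ (h₁ hx₁) x₂ (h₂ hx₂) b hb1 hb2)
      · intro b hb hbx
        exact mem_bot.mp (hinf ▸ mem_inf.mpr ⟨(hmemC X₁ x₁ hX₁ b).mpr ⟨hb.1, hbx⟩, hb⟩)
    have k₂ : a * b * a⁻¹ * b⁻¹ ∈ C₁ ⊔ Z i := by
      have hh : b * a * b⁻¹ * a⁻¹ ∈ C₁ ⊔ Z i := by
        refine comm_mem_sup (N := Z i) (N' := Z (i + 1)) (x := x₂) (P := (P : Subgroup S)) (map_subtype_le _)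
          (fun w hw => (hNn (i + 1)).conj_mem w hw x₂) hcent
          ((hgenall _ (hNn _) (map_subtype_le _)).trans (sup_comm _ _).le)
          (fun a ha => ((hmemC X₂ x₂ hX₂ a).mp ha).2) inf_le_left inf_le_left ?_ ?_
          (fun b hb a ha => by simpa [mul_assoc] using inv_mem (h a ha b hb)) hb ha
        · intro a ha
          obtain ⟨ha1, ha2⟩ := (hmemC X₁ x₁ hX₁ a).mp ha
          exact (hmemC X₁ x₁ hX₁ _).mpr (hinv x₂ (h₂ hx₂) x₁ (h₁ hx₁) a ha1 ha2)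
        · intro a ha hax
          exact mem_bot.mp (hinf ▸ mem_inf.mpr ⟨ha, (hmemC X₂ x₂ hX₂ a).mpr ⟨ha.1, hax⟩⟩)
      simpa [mul_assoc] using inv_mem hh
    set g := a * b * a⁻¹ * b⁻¹ with hg
    have hgP : g ∈ (P : Subgroup S) :=
      mul_mem (mul_mem (mul_mem ha.1 hb.1) (inv_mem ha.1)) (inv_mem hb.1)
    -- `g` is fixed modulo `Z i` by `Q`
    have hkill : ∀ x ∈ Q, ∀ C : Subgroup S, (∀ c ∈ C, x * c = c * x) → g ∈ C ⊔ Z i →
        x * g * x⁻¹ * g⁻¹ ∈ Z i := by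
      intro x _ C hC hgC
      obtain ⟨c, hc, n, hn, hcn⟩ := Subgroup.mem_sup_of_normal_right.mp hgC
      rw [← hcn]
      have e : x * (c * n) * x⁻¹ * (c * n)⁻¹ = c * ((x * n * x⁻¹) * n⁻¹) * c⁻¹ := by
        calc x * (c * n) * x⁻¹ * (c * n)⁻¹ = (x * c) * n * x⁻¹ * (c * n)⁻¹ := by group
          _ = _ := by rw [hC c hc]; group
      rw [e]
      exact (hNn i).conj_mem _ (mul_mem ((hNn i).conj_mem n hn x) (inv_mem hn)) c
    let K : Subgroup S := (centralizer ({QuotientGroup.mk' (Z i) g} : Set (S ⧸ Z i))).comap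
      (QuotientGroup.mk' (Z i))
    have hKmem : ∀ x, x * g * x⁻¹ * g⁻¹ ∈ Z i ↔ x ∈ K := fun x => by
      show _ ↔ QuotientGroup.mk' (Z i) x ∈ centralizer _
      rw [mem_centralizer_singleton_iff, ← QuotientGroup.eq_one_iff]
      simp only [QuotientGroup.mk'_apply, QuotientGroup.mk_mul, QuotientGroup.mk_inv]
      exact ⟨fun h => mul_inv_eq_iff_eq_mul.mp (mul_inv_eq_one.mp h),
        fun h => mul_inv_eq_one.mpr (mul_inv_eq_iff_eq_mul.mpr h)⟩
    have hQK : Q ≤ K := by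
      rw [← hgenQ, ← hX₁, ← hX₂]
      exact sup_le (zpowers_le.mpr ((hKmem _).mp (hkill x₁ (h₁ hx₁) C₁
        (fun c hc => ((hmemC X₁ x₁ hX₁ c).mp hc).2) k₂)))
        (zpowers_le.mpr ((hKmem _).mp (hkill x₂ (h₂ hx₂) C₂
        (fun c hc => ((hmemC X₂ x₂ hX₂ c).mp hc).2) k₁)))
    obtain ⟨c, hc, hgc⟩ := Coprime.exists_centralizer_mem_of_comm_mem (hQP _ inferInstance)
      (hcop _ le_rfl) (.inl Coprime.isSolvable_of_isMulCommutative) (map_subtype_le _)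
      (fun s _ => H48.mem_normalizer_of_normal s) (hQP _ (hNn i)) hgP
      (fun x hx => (hKmem x).mpr (hQK hx))
    rw [hCQ, mem_bot] at hc
    subst hc
    rwa [mul_one, inv_mem_iff] at hgc

end Cfsg.Agent.S1900
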