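import Cfsg.Statements.S1901
import Mathlib.GroupTheory.Sylow


set_option autoImplicit false
open Cfsg

namespace Cfsg.Agent.S1901

open Subgroup

variable {G : Type*} [Group G]

theorem mem_of_pow_mem_of_coprime {H : Subgroup G} {g : G} {a b : ℕ} (hab : a.Coprime b)
    (ha : g ^ a ∈ H) (hb : g ^ b ∈ H) : g ∈ H := by
  have h := H.mul_mem (H.zpow_mem ha (Nat.gcdA a b)) (H.zpow_mem hb (Nat.gcdB a b))
  rwa [← zpow_natCast g a, ← zpow_natCast g b, ← zpow_mul, ← zpow_mul, ← zpow_add,
    ← Nat.gcd_eq_gcd_ab, Nat.coprime_iff_gcd_eq_one.mp hab, Nat.cast_one, zpow_one] at h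

theorem pow_relIndex_mem {A B : Subgroup G} [A.Normal] {g : G} (hg : g ∈ B) :
    g ^ A.relIndex B ∈ A := by
  have := Subgroup.pow_index_mem (A.subgroupOf B) ⟨g, hg⟩
  simpa [mem_subgroupOf, relIndex] using this

/-- Let G be a finite p-solvable group and Q a subgroup of order prime to p such that p divides the index of C_G(Q) in N_G(Q). Then Q normalizes no Sylow p-subgroup of G. -/
theorem result {G : Type*} [Group G] [Finite G] {p : ℕ} [Fact p.Prime]
    (hG : Cfsg.IsPSolvable p G) (Q : Subgroup G) (hQ : ¬ p ∣ Nat.card Q)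
    (hA : p ∣ (Subgroup.centralizer (Q : Set G)).relIndex (Subgroup.normalizer (Q : Set G)))
    (P : Sylow p G) : ¬ Q ≤ Subgroup.normalizer ((P : Subgroup G) : Set G) := by
  classical
  intro hQP
  obtain ⟨n, H, h0, hn, hmono, hnorm, hfac⟩ := hG
  have hp : p.Prime := Fact.out
  have hQo : ∀ q ∈ Q, (orderOf q).Coprime p := fun q hq =>
    (hp.coprime_iff_not_dvd.mpr fun hd => hQ (hd.trans (Subgroup.orderOf_dvd_natCard Q hq))).symm
  obtain ⟨x, hxN, hxC, k, hxk⟩ : ∃ x ∈ normalizer (Q : Set G), x ∉ centralizer (Q : Set G) ∧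
      ∃ k : ℕ, x ^ p ^ k = 1 := by
    by_contra! hall
    obtain ⟨T⟩ : Nonempty (Sylow p (normalizer (Q : Set G))) := inferInstance
    have hTC : (T : Subgroup (normalizer (Q : Set G))) ≤
        (centralizer (Q : Set G)).subgroupOf (normalizer (Q : Set G)) := by
      intro t ht
      by_contra htC
      obtain ⟨k, hk⟩ := T.isPGroup' ⟨t, ht⟩
      exact hall t t.2 htC k (congrArg (fun u : T => ((u : normalizer (Q : Set G)) : G)) hk)
    exact T.not_dvd_index (hA.trans (index_dvd_of_le hTC))
  apply hxC
  suffices hsuff : ∀ i : Fin (n + 1), ∀ q ∈ Q, x * q * x⁻¹ * q⁻¹ ∈ H i by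
    refine mem_centralizer_iff.mpr fun q hq => ?_
    have := hsuff 0 q hq
    rw [h0, mem_bot, mul_inv_eq_one, mul_inv_eq_iff_eq_mul] at this
    exact this.symm
  intro i
  induction i using Fin.reverseInduction with
  | last => intro q _; rw [hn]; exact mem_top _
  | cast i ih =>
    haveI := hnorm i.castSucc
    haveI := hnorm i.succ
    set A := H i.castSucc with hA'
    set B := H i.succ with hB'
    have hAB : A ≤ B := hmono (Fin.le_iff_val_le_val.mpr (by simp))
    have hcQ : ∀ q ∈ Q, x * q * x⁻¹ * q⁻¹ ∈ Q := fun q hq =>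
      mul_mem ((mem_normalizer_iff.mp hxN q).mp hq) (inv_mem hq)
    rcases hfac i with ⟨m, hm⟩ | hcop
    · intro q hq
      have h1 := pow_relIndex_mem (A := A) (ih q hq)
      rw [hm] at h1
      exact mem_of_pow_mem_of_coprime (Nat.Coprime.pow_left m (hQo _ (hcQ q hq)).symm) h1
        (by rw [pow_orderOf_eq_one]; exact A.one_mem)
    · let f := QuotientGroup.mk' A
      let R : Subgroup G := Q ⊓ B
      set K := (centralizer ((R.map f : Subgroup (G ⧸ A)) : Set (G ⧸ A))).comap f with hK
      have hPK : (P : Subgroup G) ≤ K := by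
        intro g hg
        refine mem_comap.mpr (mem_centralizer_iff.mpr ?_)
        rintro _ ⟨r, hr, rfl⟩
        have hrP : r * g * r⁻¹ * g⁻¹ ∈ (P : Subgroup G) :=
          mul_mem ((mem_normalizer_iff.mp (hQP hr.1) g).mp hg) (inv_mem hg)
        have hrB : r * g * r⁻¹ * g⁻¹ ∈ B := by
          have := B.mul_mem hr.2 ((hnorm i.succ).conj_mem _ (B.inv_mem hr.2) g)
          simpa [mul_assoc, hB'] using this
        obtain ⟨j, hj⟩ := P.isPGroup' ⟨_, hrP⟩
        have hj' : (r * g * r⁻¹ * g⁻¹) ^ p ^ j = 1 := congrArg Subtype.val hj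
        have hmem : r * g * r⁻¹ * g⁻¹ ∈ A := mem_of_pow_mem_of_coprime
          (Nat.Coprime.pow_right j hcop) (pow_relIndex_mem hrB) (by rw [hj']; exact A.one_mem)
        have h2 : f (r * g * r⁻¹ * g⁻¹) = 1 := (QuotientGroup.eq_one_iff _).mpr hmem
        simp only [map_mul, map_inv, mul_inv_eq_one] at h2
        exact mul_inv_eq_iff_eq_mul.mp h2
      have hxK' : x ∈ normalizer (K : Set G) := by
        have key : ∀ y ∈ normalizer (Q : Set G), ∀ g ∈ K, y * g * y⁻¹ ∈ K := by
          intro y hy g hg
          refine mem_comap.mpr (mem_centralizer_iff.mpr ?_)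
          rintro _ ⟨r, hr, rfl⟩
          have hr' : y⁻¹ * r * y ∈ R := mem_inf.mpr
            ⟨by simpa using (mem_normalizer_iff.mp (inv_mem hy) r).mp hr.1,
              by simpa using (hnorm i.succ).conj_mem r hr.2 y⁻¹⟩
          have h3 := mem_centralizer_iff.mp (mem_comap.mp hg) _ (mem_map_of_mem f hr')
          calc f r * f (y * g * y⁻¹) = f y * (f (y⁻¹ * r * y) * f g) * (f y)⁻¹ := by
                simp only [map_mul, map_inv]; group
            _ = f y * (f g * f (y⁻¹ * r * y)) * (f y)⁻¹ := by rw [h3]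
            _ = f (y * g * y⁻¹) * f r := by simp only [map_mul, map_inv]; group
        refine mem_normalizer_iff.mpr fun g => ⟨key x hxN g, fun hg => ?_⟩
        simpa [mul_assoc] using key x⁻¹ (inv_mem hxN) _ hg
      have hxK : x ∈ K := by
        have hle : K ≤ K ⊔ zpowers x := le_sup_left
        haveI : (K.subgroupOf (K ⊔ zpowers x)).Normal :=
          normal_subgroupOf_iff_le_normalizer hle |>.mpr
            (sup_le le_normalizer (zpowers_le.mpr hxK'))
        have h1 : x ^ K.relIndex (K ⊔ zpowers x) ∈ K := by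
          have := Subgroup.pow_index_mem (K.subgroupOf (K ⊔ zpowers x))
            ⟨x, mem_sup_right (mem_zpowers x)⟩
          simpa [mem_subgroupOf, relIndex] using this
        refine mem_of_pow_mem_of_coprime (Nat.Coprime.pow_left k ?_) (by rw [hxk]; exact K.one_mem) h1
        exact hp.coprime_iff_not_dvd.mpr fun hd => P.not_dvd_index
          ((hd.trans (relIndex_dvd_index_of_le hle)).trans (index_dvd_of_le hPK))
      intro q hq
      set c := x * q * x⁻¹ * q⁻¹ with hc
      have hcR : c ∈ R := mem_inf.mpr ⟨hcQ q hq, ih q hq⟩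
      have hcomm : Commute (f c) (f x) :=
        mem_centralizer_iff.mp (mem_comap.mp hxK) _ (mem_map_of_mem f hcR)
      have hpow : ∀ j : ℕ, f x ^ j * f q = f c ^ j * f q * f x ^ j := by
        intro j
        induction j with
        | zero => simp
        | succ j hj =>
          have e : f x * f q = f c * f q * f x := by rw [hc]; simp only [map_mul, map_inv]; group
          calc f x ^ (j + 1) * f q = f x * (f x ^ j * f q) := by rw [pow_succ']; group
            _ = f x * (f c ^ j * f q * f x ^ j) := by rw [hj]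
            _ = (f x * f c ^ j) * f q * f x ^ j := by group
            _ = (f c ^ j * f x) * f q * f x ^ j := by rw [(hcomm.pow_left j).eq]
            _ = f c ^ j * (f x * f q) * f x ^ j := by group
            _ = f c ^ j * (f c * f q * f x) * f x ^ j := by rw [e]
            _ = f c ^ (j + 1) * f q * f x ^ (j + 1) := by rw [pow_succ (f c), pow_succ' (f x)]; group
      have h4 := hpow (p ^ k)
      rw [← map_pow f x, hxk, map_one, one_mul, mul_one, eq_comm, mul_eq_right, ← map_pow f c] at h4
      refine mem_of_pow_mem_of_coprime (Nat.Coprime.pow_left k (hQo c (hcQ q hq)).symm)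
        ((QuotientGroup.eq_one_iff _).mp h4) (by rw [pow_orderOf_eq_one]; exact A.one_mem)

end Cfsg.Agent.S1901
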