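import Cfsg.Statements.S1902
import Cfsg.Agent.H48.FpfPrimeOmega
import Cfsg.Agent.H48.SylowCore
import Cfsg.Agent.Cores.Constrained
import Cfsg.Agent.Coprime.Centralize
import Cfsg.Agent.Coprime.Action


set_option autoImplicit false
open Cfsg

namespace Cfsg.Agent.S1902

open Subgroup H48

variable {G : Type*} [Group G] [Finite G] {p : ℕ} [Fact p.Prime]

/-- The case `O_{p'}(G) = 1`. -/
theorem eq_bot_of_core_bot (hp : p ≠ 2) (hG : Cfsg.IsPSolvable p G) (hcore : Cfsg.pPrimeCore p G = ⊥)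
    (B : Subgroup G) (hBc : ∀ x ∈ B, ∀ y ∈ B, x * y = y * x)
    (b : G) (hb : b ∈ B) (hbo : orderOf b = p)
    (hB : ∀ x ∈ Cfsg.pCore p G, x ^ p = 1 → b * x = x * b → x ∈ B)
    (Q : Subgroup G) (hQ : ¬ p ∣ Nat.card Q) (hinv : B ≤ normalizer (Q : Set G)) : Q = ⊥ := by
  classical
  have hpp : p.Prime := Fact.out
  set R := Cfsg.pCore p G with hR
  have hRp : IsPGroup p R := Cores.pCore_isPGroup
  have hRn : ∀ X : Subgroup G, X ≤ normalizer (R : Set G) := fun X g _ => mem_normalizer_of_normal g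
  have hQcop : (Nat.card Q).Coprime p := (hpp.coprime_iff_not_dvd.mpr hQ).symm
  have hQR : Q ⊓ R = ⊥ := Coprime.inf_eq_bot (by
    obtain ⟨n, hn⟩ := IsPGroup.iff_card.mp hRp
    rw [hn]; exact hQcop.pow_right n)
  have hCR : ∀ X : Subgroup G, X ≤ Q → X ≤ centralizer (R : Set G) → X = ⊥ := fun X hXQ hXR =>
    le_bot_iff.mp (le_trans (le_inf hXQ (hXR.trans (Cores.centralizer_pCore_le hG hcore))) hQR.le)
  -- `Q` centralizes the elements of order `p` of `C_R(b)`
  have hfix : ∀ x ∈ R, x ^ p = 1 → b * x = x * b → Q ≤ centralizer ({x} : Set G) := by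
    intro x hx hxp hxb q hq
    have hxn : x ∈ normalizer (Q : Set G) := hinv (hB x hx hxp hxb)
    have h1 : x * q * x⁻¹ * q⁻¹ ∈ Q ⊓ R := by
      refine mem_inf.mpr ⟨Q.mul_mem ((mem_normalizer_iff.mp hxn q).mp hq) (Q.inv_mem hq), ?_⟩
      have := R.mul_mem hx ((mem_normalizer_iff.mp (mem_normalizer_of_normal (K := R) q) x⁻¹).mp
        (R.inv_mem hx))
      simpa [mul_assoc] using this
    rw [hQR, mem_bot, mul_inv_eq_one, mul_inv_eq_iff_eq_mul] at h1
    exact mem_centralizer_singleton_iff.mpr h1.symm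
  set Z := zpowers b with hZ
  have hZQ : Z ≤ normalizer (Q : Set G) := zpowers_le.mpr (hinv hb)
  have hZp : IsPGroup p Z := IsPGroup.of_card (n := 1) (by rw [Nat.card_zpowers, hbo, pow_one])
  have hC : Q ⊓ centralizer (Z : Set G) = ⊥ := by
    refine hCR _ inf_le_left ?_
    set Q0 := Q ⊓ centralizer (Z : Set G) with hQ0
    have hQ0c : (Nat.card Q0).Coprime p := hQcop.coprime_dvd_left (card_dvd_of_le inf_le_left)
    refine Coprime.thompson_AxB hZp hQ0c (le_centralizer_iff.mp inf_le_right) R hRp (hRn _) (hRn _) ?_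
    rw [le_centralizer_iff]
    refine Cfsg.Agent.S1443.result p hp _ ⊥ Q0 (hRp.to_le inf_le_left) bot_le
      ⟨inferInstance, fun a ha => by rw [mem_bot.mp ha, one_pow]⟩ ?_ hQ0c
      (fun x hx hxo => inf_le_left.trans (hfix x hx.1.1 (hxo ▸ pow_orderOf_eq_one x)
        (mem_centralizer_iff.mp hx.1.2 b (mem_zpowers b))))
    intro q hq
    refine mem_normalizer_of_cj_eq ?_
    rw [cj_inf, cj_eq_of_mem_normalizer (hRn Q0 hq)]
    congr 1
    refine cj_eq_self_of_le (cj_le.mpr fun x hx => mem_centralizer_iff.mpr fun z hz => ?_)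
    have e1 := mem_centralizer_iff.mp hx z hz
    have e2 := mem_centralizer_iff.mp hq.2 z hz
    have e3 : Commute z (q * x * q⁻¹) :=
      ((show Commute z q from e2).mul_right (show Commute z x from e1)).mul_right
        (show Commute z q from e2).inv_right
    exact e3.eq
  by_contra hQne
  have hcopZ : (Nat.card Z).Coprime (Nat.card Q) := by
    rw [Nat.card_zpowers, hbo]; exact hQcop.symm
  obtain ⟨r, hr, hrQ⟩ := Nat.exists_prime_and_dvd (mt card_eq_one.mp hQne)
  haveI : Fact r.Prime := ⟨hr⟩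
  obtain ⟨S, hS⟩ := Coprime.exists_invariant_sylow hZQ hcopZ
    (Or.inl (Coprime.isSolvable_zpowers b)) r
  set T : Subgroup G := (S : Subgroup Q).map Q.subtype with hT
  have hSne : Nontrivial S := by
    rw [nontrivial_iff_ne_bot]
    intro h
    have := S.dvd_card_of_dvd_card hrQ
    rw [h, card_bot] at this
    exact hr.not_dvd_one this
  haveI := S.isPGroup'.center_nontrivial
  set A : Subgroup G := (center S).map ((Q.subtype).comp (S : Subgroup Q).subtype) with hA
  have hAne : A ≠ ⊥ := by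
    have hinj : Function.Injective ⇑((Q.subtype).comp (S : Subgroup Q).subtype) :=
      fun x y h => Subtype.ext (Subtype.ext h)
    rw [hA, Ne, map_eq_bot_iff_of_injective _ hinj]
    exact (nontrivial_iff_ne_bot _).mp inferInstance
  have hAT : ∀ a, a ∈ A ↔ a ∈ T ∧ ∀ t ∈ T, t * a = a * t := by
    intro a
    constructor
    · rintro ⟨z, hz, rfl⟩
      refine ⟨⟨(z : Q), z.2, rfl⟩, ?_⟩
      rintro _ ⟨t, ht, rfl⟩
      exact congrArg (fun x : S => ((x : Q) : G)) (mem_center_iff.mp hz ⟨t, ht⟩)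
    · rintro ⟨⟨t, ht, rfl⟩, hc⟩
      exact ⟨⟨t, ht⟩, mem_center_iff.mpr fun s => Subtype.ext (Subtype.ext
        (hc _ ⟨(s : Q), s.2, rfl⟩)), rfl⟩
  have hAQ : A ≤ Q := fun a ha => map_subtype_le _ ((hAT a).mp ha).1
  have hbA : b ∈ normalizer (A : Set G) := by
    have hbT : b ∈ normalizer (T : Set G) := hS (mem_zpowers b)
    refine mem_normalizer_of_cj_eq (cj_eq_self_of_le (cj_le.mpr fun a ha => ?_))
    obtain ⟨h1, h2⟩ := (hAT a).mp ha
    refine (hAT _).mpr ⟨(mem_normalizer_iff.mp hbT a).mp h1, fun t ht => ?_⟩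
    have h3 := h2 (b⁻¹ * t * b) ((mem_normalizer_iff''.mp hbT t).mp ht)
    calc t * (b * a * b⁻¹) = b * ((b⁻¹ * t * b) * a) * b⁻¹ := by group
      _ = b * a * b⁻¹ * t := by rw [h3]; group
  refine hAne (hCR A hAQ (le_centralizer_of_fpf_prime hp hRp (hQcop.coprime_dvd_left
    (card_dvd_of_le hAQ)) ?_ (hRn A) hbA (mem_normalizer_of_normal b) hbo ?_
    (fun x hx hxp hxb => hAQ.trans (hfix x hx hxp hxb))))
  · exact fun x hx y hy => ((hAT y).mp hy).2 x ((hAT x).mp hx).1
  · intro x hx hxb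
    rw [← mem_bot, ← hC]
    exact mem_inf.mpr ⟨hAQ hx, by
      rw [hZ, zpowers_eq_closure, centralizer_closure]
      exact mem_centralizer_singleton_iff.mpr hxb.symm⟩

/-- Let p be an odd prime, G a finite p-solvable group, and B an elementary abelian subgroup of order p² such that B is the subgroup generated by the elements of order p of some Sylow p-subgroup of C_G(b₀), for some nontrivial b₀ ∈ B. Then every B-invariant subgroup of G of order prime to p lies in O_{p'}(G). -/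
theorem result {G : Type*} [Group G] [Finite G] {p : ℕ} [Fact p.Prime] (hp : p ≠ 2)
    (hG : Cfsg.IsPSolvable p G) (B : Subgroup G) (hB : Cfsg.IsElementaryAbelian p B) (hBc : Nat.card B = p ^ 2)
    (b₀ : G) (hb₀ : b₀ ∈ B) (hb₁ : b₀ ≠ 1) (P : Sylow p ↥(Subgroup.centralizer ({b₀} : Set G)))
    (hBP : B = Subgroup.closure {x : G | x ∈ ((P : Subgroup ↥(Subgroup.centralizer ({b₀} : Set G))).map
      (Subgroup.centralizer ({b₀} : Set G)).subtype : Subgroup G) ∧ orderOf x = p})
    (Q : Subgroup G) (hQ : ¬ p ∣ Nat.card Q) (hinv : ∀ b ∈ B, ∀ x ∈ Q, b * x * b⁻¹ ∈ Q) :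
    Q ≤ Cfsg.pPrimeCore p G := by
  classical
  have hpp : p.Prime := Fact.out
  set K := Cfsg.pPrimeCore p G with hK
  set π : G →* G ⧸ K := QuotientGroup.mk' K with hπ
  have hKcop : (Nat.card K).Coprime p := Cores.coprime_card_pPrimeCore
  have hcore : Cfsg.pPrimeCore p (G ⧸ K) = ⊥ := Cores.pPrimeCore_quotient_pPrimeCore
  have hker : ∀ x : G, π x = 1 → x ^ p = 1 → x = 1 := fun x hx hxp =>
    orderOf_eq_one_iff.mp (Nat.eq_one_of_dvd_coprimes hKcop
      (K.orderOf_dvd_natCard ((QuotientGroup.eq_one_iff x).mp hx)) (orderOf_dvd_of_pow_eq_one hxp))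
  have hbo : orderOf (π b₀) = p := orderOf_eq_prime (by rw [← map_pow, hB.2 b₀ hb₀, map_one])
    fun h => hb₁ (hker b₀ h (hB.2 b₀ hb₀))
  have hbo' : orderOf b₀ = p := orderOf_eq_prime (hB.2 b₀ hb₀) hb₁
  suffices h : Q.map π = ⊥ by
    rwa [Subgroup.map_eq_bot_iff, QuotientGroup.ker_mk'] at h
  refine eq_bot_of_core_bot hp (Cores.isPSolvable_quotient hG K) hcore (B.map π) ?_ (π b₀)
    (mem_map_of_mem _ hb₀) hbo ?_ (Q.map π) (fun h => hQ (h.trans (Q.card_map_dvd π))) ?_
  · rintro _ ⟨x, hx, rfl⟩ _ ⟨y, hy, rfl⟩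
    rw [← map_mul, ← map_mul]
    exact congrArg π (congrArg Subtype.val (hB.1.is_comm.comm ⟨x, hx⟩ ⟨y, hy⟩))
  · intro x hx hxp hxb
    let C : Subgroup G := centralizer ({b₀} : Set G)
    have hCeq : C.map π = centralizer ({π b₀} : Set (G ⧸ K)) := by
      have h := Cores.map_centralizer_of_coprime K hKcop (P := zpowers b₀)
        (IsPGroup.of_card (n := 1) (by rw [Nat.card_zpowers, hbo', pow_one]))
      rw [MonoidHom.map_zpowers, zpowers_eq_closure, centralizer_closure, zpowers_eq_closure,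
        centralizer_closure] at h
      exact h
    set f := π.subgroupMap C with hf
    have hfs : Function.Surjective f := π.subgroupMap_surjective C
    set R' : Subgroup (C.map π) := (Cfsg.pCore p (G ⧸ K)).subgroupOf (C.map π) with hR'
    have hR'p : IsPGroup p R' := Cores.pCore_isPGroup.comap_subtype
    haveI : R'.Normal := (inferInstance : (Cfsg.pCore p (G ⧸ K)).Normal).comap _
    obtain ⟨S, hS⟩ := hR'p.exists_le_sylow
    let S' : Sylow p (C.map π) := P.mapSurjective hfs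
    obtain ⟨g, hg⟩ := MulAction.exists_smul_eq (C.map π) S S'
    have hxC : x ∈ C.map π := hCeq ▸ mem_centralizer_singleton_iff.mpr hxb.symm
    have hxR : (⟨x, hxC⟩ : C.map π) ∈ R' := hx
    have hxS' : (⟨x, hxC⟩ : C.map π) ∈ (S' : Subgroup _) := by
      rw [← hg, Sylow.coe_subgroup_smul]
      refine mem_pointwise_smul_iff_inv_smul_mem.mpr (hS ?_)
      rw [← map_inv, MulAut.smul_def, MulAut.conj_apply]
      exact Subgroup.Normal.conj_mem inferInstance _ hxR _
    rw [Sylow.coe_mapSurjective] at hxS'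
    obtain ⟨y, hy, hyx⟩ := hxS'
    have hyx' : π (y : G) = x := congrArg Subtype.val hyx
    have hyp : (y : G) ^ p = 1 := by
      have h1 : π ((y : G) ^ p) = 1 := by rw [map_pow, hyx', hxp]
      obtain ⟨n, hn⟩ := IsPGroup.iff_orderOf.mp P.isPGroup' ⟨y ^ p, pow_mem hy p⟩
      rw [Subgroup.orderOf_mk, ← Subgroup.orderOf_coe] at hn
      push_cast at hn
      exact orderOf_eq_one_iff.mp (Nat.eq_one_of_dvd_coprimes (hKcop.pow_right n)
        (K.orderOf_dvd_natCard ((QuotientGroup.eq_one_iff _).mp h1)) hn.dvd)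
    rw [← hyx']
    refine mem_map_of_mem _ ?_
    by_cases hy1 : (y : G) = 1
    · rw [hy1]; exact B.one_mem
    rw [hBP]
    exact Subgroup.subset_closure ⟨mem_map_of_mem C.subtype hy, orderOf_eq_prime hyp hy1⟩
  · rintro _ ⟨x, hx, rfl⟩
    refine mem_normalizer_of_cj_eq (cj_eq_self_of_le (cj_le.mpr ?_))
    rintro _ ⟨q, hq, rfl⟩
    exact ⟨x * q * x⁻¹, hinv x hx q hq, by simp⟩

end Cfsg.Agent.S1902
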