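import Cfsg.Statements.S1904
import Cfsg.Agent.H91.Scn.Two

set_option autoImplicit false
open Cfsg

namespace Cfsg.Agent.S1904

/-- Let X be a finite nonabelian 2-group with no normal abelian subgroup that is self-centralizing and contains an elementary abelian subgroup of order 8. Suppose a group A of automorphisms of X of odd order satisfies [X, A] = X. Then X is the quaternion group of order 8, or X is special of order 64 with exactly three involutions, all central, or X is extraspecial of order 32 with exactly eleven involutions (the central product of a quaternion group and a dihedral group of order 8). -/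
theorem result {X : Type*} [Group X] [Finite X] (hX : IsPGroup 2 X) (hna : ¬ IsMulCommutative X)
    (hscn : ¬ ∃ A : Subgroup X, A.Normal ∧ Subgroup.centralizer (A : Set X) = A ∧
      ∃ E : Subgroup X, E ≤ A ∧ Cfsg.IsElementaryAbelian 2 E ∧ Nat.card E = 8)
    (A : Subgroup (MulAut X)) (hA : Odd (Nat.card A))
    (hXA : Subgroup.closure {g : X | ∃ φ ∈ A, ∃ x : X, g = x⁻¹ * φ x} = ⊤) :
    Nonempty (X ≃* QuaternionGroup 2) ∨
      (Cfsg.IsSpecial 2 X ∧ Nat.card X = 64 ∧ Nat.card {x : X // orderOf x = 2} = 3 ∧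
        ∀ x : X, orderOf x = 2 → x ∈ Subgroup.center X) ∨
      (Cfsg.IsExtraspecial 2 X ∧ Nat.card X = 32 ∧ Nat.card {x : X // orderOf x = 2} = 11) := by
  haveI : Fact (Nat.Prime 2) := ⟨Nat.prime_two⟩
  have hsmall : ∀ E : Subgroup X, E.Normal → IsMulCommutative E → (∀ x ∈ E, x ^ 2 = 1) →
      Nat.card E ≤ 4 := by
    intro E hEn hEc hE2
    by_contra hE
    haveI := hEn
    obtain ⟨B, hBn, hBc, hEB, hmax⟩ := Cfsg.Agent.PGroups.exists_maximal_normal_abelian E hEc
    haveI := hBn
    obtain ⟨n, hn⟩ := IsPGroup.iff_card.mp (hX.to_subgroup E)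
    have h3 : 3 ≤ n := by
      rw [hn, show 4 = 2 ^ 2 from rfl] at hE
      by_contra h
      exact hE (Nat.pow_le_pow_right (by norm_num) (by omega))
    obtain ⟨H, hH⟩ := Sylow.exists_subgroup_card_pow_prime 2 (G := E) (n := 3)
      (by rw [hn]; exact pow_dvd_pow 2 h3)
    refine hscn ⟨B, hBn, Cfsg.Agent.PGroups.centralizer_eq_self hX hBc hmax, H.map E.subtype,
      (Subgroup.map_subtype_le H).trans hEB, ⟨?_, ?_⟩, ?_⟩
    · exact Cfsg.Agent.PGroups.isMulCommutative_of_comm fun x hx y hy =>
        Cfsg.Agent.PGroups.comm_of_isMulCommutative hEc (Subgroup.map_subtype_le H hx)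
          (Subgroup.map_subtype_le H hy)
    · exact fun a ha => hE2 a (Subgroup.map_subtype_le H ha)
    · rw [Nat.card_congr (H.equivMapOfInjective _ E.subtype_injective).toEquiv.symm, hH]
      norm_num
  have c : Cfsg.Agent.H91.Scn.Ctx X A := ⟨hX, hA, hXA, hna, hsmall⟩
  obtain ⟨W, S⟩ := c.exists_struct
  have hsp : Cfsg.IsSpecial 2 X := ⟨hX, S.frat.trans S.center.symm, S.comm.trans S.center.symm⟩
  rcases S.card with h2 | h4
  · rcases S.result_two c h2 with h | ⟨hc, hi⟩
    · exact Or.inl h
    · exact Or.inr (Or.inr ⟨⟨hsp, by rw [S.center, h2]⟩, hc, hi⟩)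
  · obtain ⟨hc, hi⟩ := S.result_four c h4
    refine Or.inr (Or.inl ⟨hsp, hc, hi, fun x hx => ?_⟩)
    rw [S.center]
    refine S.invol h4 x ?_
    rw [← sq, ← hx, pow_orderOf_eq_one]

end Cfsg.Agent.S1904
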