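import Cfsg.Statements.S1905
import Cfsg.Agent.S2899
import Cfsg.Agent.H39.StronglyEmbedded
import Cfsg.Agent.H26.StronglyEmbedded


set_option autoImplicit false
open Cfsg

namespace Cfsg.Agent.S1905

open Subgroup

/-- Let M be a subgroup of even order of a finite group S such that M contains the centralizer in S of each of its involutions and the normal core of M in S has odd order. Then all involutions of S are conjugate. If moreover N_S(X) ≤ M for a Sylow 2-subgroup X of M and I is an involution in the centre of X, then all involutions of M are conjugate in M and M = M₀ C_M(I) for some subgroup M₀ of M of odd order. -/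
theorem result {S : Type*} [Group S] [Finite S] (M : Subgroup S) (hM : Even (Nat.card M))
    (hC : ∀ i ∈ M, orderOf i = 2 → Subgroup.centralizer ({i} : Set S) ≤ M) (hcore : Odd (Nat.card M.normalCore)) :
    (∀ x y : S, orderOf x = 2 → orderOf y = 2 → IsConj x y) ∧
      ∀ (X : Sylow 2 M) (I : M), I ∈ (Subgroup.center ↥(X : Subgroup ↥M)).map (X : Subgroup ↥M).subtype → orderOf I = 2 →
        Subgroup.normalizer (((X : Subgroup M).map M.subtype : Subgroup S) : Set S) ≤ M →
        (∀ x y : M, orderOf x = 2 → orderOf y = 2 → IsConj x y) ∧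
          ∃ M₀ : Subgroup M, Odd (Nat.card M₀) ∧
            ∀ m : M, ∃ a ∈ M₀, ∃ c ∈ Subgroup.centralizer ({I} : Set M), m = a * c := by
  classical
  have hne : M ≠ ⊤ := by
    rintro rfl
    have h : (⊤ : Subgroup S).normalCore = ⊤ := normalCore_eq_self ⊤
    rw [h] at hcore
    exact Nat.not_even_iff_odd.mpr hcore hM
  obtain ⟨t₀, ht₀, ht₀M⟩ : ∃ t : S, orderOf t = 2 ∧ t ∈ M := by
    obtain ⟨t, ht⟩ := exists_prime_orderOf_dvd_card' 2 (even_iff_two_dvd.mp hM)
    exact ⟨t, by rw [Subgroup.orderOf_coe, ht], t.2⟩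
  obtain ⟨y₀, hy₀, hy₀M⟩ : ∃ y : S, orderOf y = 2 ∧ y ∉ M := by
    by_contra! h
    have hmem : t₀ ∈ M.normalCore := fun g => h _ (by rw [H39.orderOf_conj, ht₀])
    have := hcore.of_dvd_nat (orderOf_dvd_natCard M.normalCore hmem)
    rw [ht₀] at this
    exact absurd this (by decide)
  have key : ∀ i y : S, orderOf i = 2 → i ∈ M → orderOf y = 2 → y ∉ M → IsConj i y := by
    intro i y hi hiM hy hyM
    rcases Nat.even_or_odd (orderOf (y * i)) with he | ho
    · obtain ⟨w, hw, -, hwi, hwy⟩ := H39.exists_central_involution hi hy he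
      have hwM : w ∈ M := hC i hiM hi (mem_centralizer_singleton_iff.mpr hwi.eq)
      exact absurd (hC w hwM hw (mem_centralizer_singleton_iff.mpr hwy.eq.symm)) hyM
    · obtain ⟨k, -, -, -, hk⟩ := H39.exists_conj_of_odd hi hy ho
      exact isConj_iff.mpr ⟨k, hk⟩
  have hall : ∀ x : S, orderOf x = 2 → IsConj x t₀ := by
    intro x hx
    by_cases hxM : x ∈ M
    · exact (key x y₀ hx hxM hy₀ hy₀M).trans (key t₀ y₀ ht₀ ht₀M hy₀ hy₀M).symm
    · exact (key t₀ x ht₀ ht₀M hx hxM).symm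
  refine ⟨fun x y hx hy => (hall x hx).trans (hall y hy).symm, fun X I _ hI hN => ?_⟩
  have hse : Cfsg.IsStronglyEmbedded M := by
    have hp : Cfsg.IsStronglyPEmbedded 2 M := (S2899.result M hne X).mpr
      ⟨fun x hx hxo => hC x (map_subtype_le _ hx) hxo, hN⟩
    refine (H26.isStronglyEmbedded_iff_involution M hne hM).mpr fun t ht ht2 g hg => ?_
    refine H60.pEmb_mem_of_conj hp (R := zpowers t)
      (IsPGroup.of_card (n := 1) (by rw [Nat.card_zpowers, ht2, pow_one])) ?_ (zpowers_le.mpr ht) ?_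
    · rw [Ne, zpowers_eq_bot]
      exact H39.ne_one_of_orderOf_eq_two ht2
    · rintro _ ⟨_, ⟨n, rfl⟩, rfl⟩
      simpa using M.zpow_mem hg n
  obtain ⟨u, hu⟩ : ∃ u : S, u ∉ M := ⟨y₀, hy₀M⟩
  have htr : ∀ a b : M, orderOf a = 2 → orderOf b = 2 →
      ∃ d : M, (d : S) ∈ M ⊓ M.map (MulAut.conj u).toMonoidHom ∧ d * a * d⁻¹ = b := by
    intro a b ha hb
    obtain ⟨d, hd, hd'⟩ := H39.se_transitive hse hu (s := (a : S)) (t := (b : S))
      (by rw [Subgroup.orderOf_coe, ha]) a.2 (by rw [Subgroup.orderOf_coe, hb]) b.2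
    exact ⟨⟨d, hd.1⟩, hd, Subtype.ext hd'⟩
  refine ⟨fun a b ha hb => ?_, (M ⊓ M.map (MulAut.conj u).toMonoidHom).subgroupOf M, ?_, fun m => ?_⟩
  · obtain ⟨d, -, hd⟩ := htr a b ha hb
    exact isConj_iff.mpr ⟨d, hd⟩
  · rw [Nat.card_congr (Subgroup.subgroupOfEquivOfLe inf_le_left).toEquiv]
    exact hse.2.2 u hu
  · obtain ⟨d, hd, hd'⟩ := htr I (m * I * m⁻¹) hI (by rw [H39.orderOf_conj, hI])
    refine ⟨d, hd, d⁻¹ * m, mem_centralizer_singleton_iff.mpr ?_, by group⟩
    calc d⁻¹ * m * I = d⁻¹ * (m * I * m⁻¹) * m := by group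
      _ = I * (d⁻¹ * m) := by rw [← hd']; group

end Cfsg.Agent.S1905
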