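import Cfsg.Statements.S1910
import Cfsg.Agent.H48.SylowIn
import Mathlib.GroupTheory.Perm.Cycle.Type


set_option autoImplicit false
open Cfsg

namespace Cfsg.Agent.S1910

open Subgroup H48

theorem eq_one_of_two_group_odd {G : Type*} [Group G] [Finite G] {T K : Subgroup G}
    (hT : IsPGroup 2 T) (hK : Odd (Nat.card K)) {x : G} (hx : x ∈ T) (hx' : x ∈ K) : x = 1 := by
  obtain ⟨k, hk⟩ := hT ⟨x, hx⟩
  exact orderOf_eq_one_iff.mp (Nat.eq_one_of_dvd_coprimes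
    ((Nat.coprime_two_left.mpr (hK.of_dvd_nat (orderOf_dvd_natCard K hx'))).pow_left k)
    (orderOf_dvd_of_pow_eq_one (congrArg Subtype.val hk)) dvd_rfl)

theorem isTightlyEmbedded_cj {G : Type*} [Group G] [Finite G] {Q : Subgroup G}
    (hQ : Cfsg.IsTightlyEmbedded Q) (g : G) : Cfsg.IsTightlyEmbedded (cj g Q) := by
  refine ⟨(card_cj g Q).symm ▸ hQ.1, fun h hh => ?_⟩
  have hn : g⁻¹ * h * g ∉ normalizer (Q : Set G) := by
    intro hn
    apply hh
    refine mem_normalizer_of_cj_eq ?_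
    rw [cj_cj, show h * g = g * (g⁻¹ * h * g) by group, ← cj_cj g (g⁻¹ * h * g),
      cj_eq_of_mem_normalizer hn]
  have e : cj g Q ⊓ (cj g Q).map (MulAut.conj h).toMonoidHom = cj g (Q ⊓ cj (g⁻¹ * h * g) Q) := by
    rw [cj_inf, cj_cj g (g⁻¹ * h * g), show g * (g⁻¹ * h * g) = h * g by group]
    show cj g Q ⊓ cj h (cj g Q) = _
    rw [cj_cj]
  rw [e, card_cj]
  exact hQ.2 _ hn

/-- The injection of `T` into `N_S(T) ∩ Q`. -/
theorem key {G : Type*} [Group G] [Finite G] {Q : Subgroup G} (hQ : Cfsg.IsTightlyEmbedded Q)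
    {g : G} (hg : g ∉ normalizer (Q : Set G)) {T : Subgroup G} (hT1 : T ≠ ⊥)
    (hT : IsSylowIn 2 T (cj g Q ⊓ normalizer (Q : Set G))) {S : Subgroup G}
    (hS : IsSylowIn 2 S (Q ⊔ T)) (hTS : T ≤ S) :
    T ⊓ Q = ⊥ ∧ ⁅T, S ⊓ normalizer (T : Set G) ⊓ Q⁆ = ⊥ ∧
      T ⊔ (S ⊓ normalizer (T : Set G) ⊓ Q) = S ⊓ normalizer (T : Set G) ∧
      S ⊓ normalizer (T : Set G) ⊓ Q ≤ normalizer ((cj g Q : Subgroup G) : Set G) ∧
      Nat.card T ≤ Nat.card ↥(S ⊓ normalizer (T : Set G) ⊓ Q) ∧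
      (Nat.card ↥(S ⊓ normalizer (T : Set G) ⊓ Q) ≤ Nat.card T →
        Nonempty (↥(S ⊓ normalizer (T : Set G) ⊓ Q) ≃* T)) := by
  classical
  set N := S ⊓ normalizer (T : Set G) with hN
  set R := N ⊓ Q with hR
  have hTN : T ≤ normalizer (Q : Set G) := hT.le.trans inf_le_right
  have hTQ' : T ≤ cj g Q := hT.le.trans inf_le_left
  have hd : T ⊓ Q = ⊥ := by
    refine le_bot_iff.mp fun x hx => ?_
    exact mem_bot.mpr (eq_one_of_two_group_odd hT.isPGroup (hQ.2 g hg) hx.1 ⟨hx.2, hTQ' hx.1⟩)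
  have hcomm : ∀ t ∈ T, ∀ r ∈ R, t * r = r * t := by
    intro t ht r hr
    have h1 : t * r * t⁻¹ * r⁻¹ ∈ T := by
      have := T.mul_mem ht ((mem_normalizer_iff.mp hr.1.2 t⁻¹).mp (T.inv_mem ht))
      simpa [mul_assoc] using this
    have h2 : t * r * t⁻¹ * r⁻¹ ∈ Q :=
      Q.mul_mem ((mem_normalizer_iff.mp (hTN ht) r).mp hr.2) (Q.inv_mem hr.2)
    have h3 : t * r * t⁻¹ * r⁻¹ ∈ T ⊓ Q := mem_inf.mpr ⟨h1, h2⟩
    rw [hd, mem_bot] at h3
    exact mul_inv_eq_iff_eq_mul.mp (mul_inv_eq_one.mp h3)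
  have hmem : ∀ s ∈ S, ∃ q ∈ S ⊓ Q, ∃ t ∈ T, s = q * t := by
    intro s hs
    obtain ⟨q, hq, t, ht, rfl⟩ := (Coprime.mem_sup_iff hTN).mp (hS.le hs)
    exact ⟨q, mem_inf.mpr ⟨by simpa using S.mul_mem hs (S.inv_mem (hTS ht)), hq⟩, t, ht, rfl⟩
  have hprod : T ⊔ R = N := by
    refine le_antisymm (sup_le (le_inf hTS le_normalizer) inf_le_left) fun n hn => ?_
    obtain ⟨q, hq, t, ht, rfl⟩ := hmem n hn.1
    have hqN : q ∈ N := by
      have := N.mul_mem hn (N.inv_mem ⟨hTS ht, le_normalizer ht⟩)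
      simpa using this
    exact mul_mem (mem_sup_right ⟨hqN, hq.2⟩) (mem_sup_left ht)
  -- elements moving an element of `T` inside the conjugate normalize it
  have hfus : ∀ r : G, ∀ t ∈ T, t ≠ 1 → r * t * r⁻¹ ∈ T →
      r ∈ normalizer ((cj g Q : Subgroup G) : Set G) := by
    intro r t ht ht1 hrt
    by_contra hr
    apply ht1
    have h := eq_one_of_two_group_odd hT.isPGroup ((isTightlyEmbedded_cj hQ g).2 r hr) hrt
      ⟨hTQ' hrt, conj_mem_cj (hTQ' ht)⟩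
    exact conj_eq_one_iff.mp h
  have hRN : R ≤ normalizer ((cj g Q : Subgroup G) : Set G) := by
    intro r hr
    obtain ⟨⟨t, ht⟩, ht1⟩ := ne_bot_iff_exists_ne_one.mp hT1
    refine hfus r t ht (fun h => ht1 (Subtype.ext h)) ?_
    rw [← hcomm t ht r hr, mul_inv_cancel_right]
    exact ht
  refine ⟨hd, ?_, hprod, hRN, ?_⟩
  · rw [eq_bot_iff, commutator_le]
    intro t ht r hr
    rw [mem_bot, commutatorElement_def, hcomm t ht r hr]
    group
  by_cases hNS : N = S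
  · -- `R` is a Sylow subgroup of `Q`
    have hR' : R = S ⊓ Q := by rw [hR, hNS]
    have hRsyl : IsSylowIn 2 R Q := by
      refine ⟨inf_le_right, hS.isPGroup.to_le (inf_le_left.trans inf_le_left), fun hdvd => hS.ndvd ?_⟩
      have h1 := Coprime.card_sup hTN ((inf_comm Q T).trans hd)
      have hTR : T ≤ normalizer (R : Set G) := by
        intro t ht
        refine mem_normalizer_iff.mpr fun r => ⟨fun hr => ?_, fun hr => ?_⟩
        · rw [hcomm t ht r hr, mul_inv_cancel_right]; exact hr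
        · have h := hcomm t⁻¹ (T.inv_mem ht) _ hr
          have h' : r = t * r * t⁻¹ := by
            calc r = t⁻¹ * (t * r * t⁻¹) * t := by group
              _ = t * r * t⁻¹ * t⁻¹ * t := by rw [h]
              _ = _ := by group
          exact h' ▸ hr
      have h2 := Coprime.card_sup hTR (le_bot_iff.mp
        (hd ▸ fun x hx => mem_inf.mpr ⟨hx.2, hx.1.2⟩))
      rw [sup_comm R T, hprod, hNS] at h2
      have h3 := relIndex_mul_relIndex ⊥ S (Q ⊔ T) bot_le hS.le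
      rw [relIndex_bot_left, relIndex_bot_left, h1] at h3
      have h4 := relIndex_mul_relIndex ⊥ R Q bot_le inf_le_right
      rw [relIndex_bot_left, relIndex_bot_left] at h4
      have h5 : S.relIndex (Q ⊔ T) = R.relIndex Q := by
        rw [h2, ← h4] at h3
        refine Nat.eq_of_mul_eq_mul_left (Nat.mul_pos (Nat.card_pos (α := R)) (Nat.card_pos (α := T))) ?_
        rw [h3]; ring
      exact h5.symm ▸ hdvd
    have hTg : IsPGroup 2 (cj g⁻¹ T : Subgroup G) := isPGroup_cj hT.isPGroup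
    have hTgQ : cj g⁻¹ T ≤ Q := by
      have := cj_mono (g := g⁻¹) hTQ'
      rwa [cj_inv_cj] at this
    refine ⟨(card_cj g⁻¹ T).symm.trans_le (hRsyl.card_le hTg hTgQ), fun hle => ?_⟩
    obtain ⟨k, -, hk⟩ := (hRsyl.of_card hTgQ hTg (by rwa [card_cj])).exists_conj hRsyl
    rw [← hk, cj_cj]
    exact ⟨(T.equivMapOfInjective _ (MulAut.conj (k * g⁻¹)).injective).symm⟩
  · -- project a second conjugate of `T` into `R`
    obtain ⟨r, ⟨hrS, hrn⟩, hrN⟩ : ∃ r ∈ S ⊓ normalizer (N : Set G), r ∉ N := by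
      by_contra! h
      exact absurd (Subgroup.card_le_of_le h)
        (not_le.mpr (card_lt_card_inf_normalizer hS.isPGroup inf_le_left hNS))
    have hrQ : r ∈ normalizer (Q : Set G) := (sup_le le_normalizer hTN) (hS.le hrS)
    have hdisj : ∀ t ∈ T, r * t * r⁻¹ ∈ T → t = 1 := by
      intro t ht hrt
      by_contra ht1
      have hrQ' := hfus r t ht ht1 hrt
      apply hrN
      refine mem_inf.mpr ⟨hrS, mem_normalizer_of_cj_eq (cj_eq_self_of_le (cj_le.mpr fun x hx => ?_))⟩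
      have hTmax : T = S ⊓ (cj g Q ⊓ normalizer (Q : Set G)) :=
        hT.eq_of_le (hS.isPGroup.to_le inf_le_left) inf_le_right (le_inf hTS hT.le)
      rw [hTmax]
      exact mem_inf.mpr ⟨S.mul_mem (S.mul_mem hrS (hTS hx)) (S.inv_mem hrS),
        mem_inf.mpr ⟨(mem_normalizer_iff.mp hrQ' x).mp (hTQ' hx),
          mul_mem (mul_mem hrQ (hTN hx)) (inv_mem hrQ)⟩⟩
    have hex : ∀ t : T, ∃ a : R, ∃ b ∈ T, r * (t : G) * r⁻¹ = b * a := by
      intro t
      have h : r * (t : G) * r⁻¹ ∈ T ⊔ R := by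
        rw [hprod]; exact (mem_normalizer_iff.mp hrn _).mp ⟨hTS t.2, le_normalizer t.2⟩
      have hRT : R ≤ normalizer (T : Set G) := inf_le_left.trans inf_le_right
      obtain ⟨b, hb, a, ha, hba⟩ := (Coprime.mem_sup_iff hRT).mp h
      exact ⟨⟨a, ha⟩, b, hb, hba.symm⟩
    choose a b hb hab using hex
    have huniq : ∀ (a₁ a₂ : G), a₁ ∈ R → a₂ ∈ R → ∀ b₁ ∈ T, ∀ b₂ ∈ T, b₁ * a₁ = b₂ * a₂ →
        a₁ = a₂ := by
      intro a₁ a₂ h1 h2 b₁ hb₁ b₂ hb₂ he
      have h : b₂⁻¹ * b₁ ∈ T ⊓ Q := by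
        refine mem_inf.mpr ⟨T.mul_mem (T.inv_mem hb₂) hb₁, ?_⟩
        have e : b₂⁻¹ * b₁ = a₂ * a₁⁻¹ := by
          calc b₂⁻¹ * b₁ = b₂⁻¹ * (b₁ * a₁) * a₁⁻¹ := by group
            _ = _ := by rw [he]; group
        rw [e]; exact Q.mul_mem h2.2 (Q.inv_mem h1.2)
      rw [hd, mem_bot, inv_mul_eq_one] at h
      rw [h] at he
      exact (mul_left_cancel he)
    let f : T →* R := MonoidHom.mk' a fun s t => Subtype.ext (huniq _ _ (a (s * t)).2
      (mul_mem (a s).2 (a t).2) _ (hb (s * t)) _ (mul_mem (hb s) (hb t)) (by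
        rw [← hab]
        calc r * ((s * t : T) : G) * r⁻¹ = (r * (s : G) * r⁻¹) * (r * (t : G) * r⁻¹) := by
              push_cast; group
          _ = (b s * a s) * (b t * a t) := by rw [hab, hab]
          _ = b s * ((a s : G) * b t) * a t := by group
          _ = b s * (b t * (a s : G)) * a t := by rw [hcomm _ (hb t) _ (a s).2]
          _ = _ := by push_cast; group))
    have hf : Function.Injective f := (injective_iff_map_eq_one f).mpr fun t ht => by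
      refine Subtype.ext (hdisj t t.2 ?_)
      rw [hab, show ((a t : R) : G) = 1 from congrArg Subtype.val ht, mul_one]
      exact hb t
    refine ⟨Nat.card_le_card_of_injective f hf, fun hle => ?_⟩
    exact ⟨(MulEquiv.ofBijective f ((Nat.bijective_iff_injective_and_card f).mpr
      ⟨hf, le_antisymm (Nat.card_le_card_of_injective f hf) hle⟩)).symm⟩

/-- Let Q be a tightly embedded subgroup of a finite group G, g an element outside N_G(Q), T a nontrivial Sylow 2-subgroup of Q^g ∩ N_G(Q), and S a Sylow 2-subgroup of QT containing T. Then T ∩ Q = 1, and N_S(T) is the direct product of T and N_S(T) ∩ Q, with N_S(T) ∩ Q isomorphic to T. -/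
theorem result {G : Type*} [Group G] [Finite G] (Q : Subgroup G) (hQ : Cfsg.IsTightlyEmbedded Q)
    (g : G) (hg : g ∉ Subgroup.normalizer (Q : Set G))
    (T : Subgroup G) (hT1 : T ≠ ⊥) (hT : T ≤ Q.map (MulAut.conj g).toMonoidHom ⊓ Subgroup.normalizer (Q : Set G))
    (hTsyl : IsPGroup 2 T ∧ ¬ 2 ∣ T.relIndex (Q.map (MulAut.conj g).toMonoidHom ⊓ Subgroup.normalizer (Q : Set G)))
    (S : Subgroup G) (hTS : T ≤ S) (hS : S ≤ Q ⊔ T) (hSsyl : IsPGroup 2 S ∧ ¬ 2 ∣ S.relIndex (Q ⊔ T)) :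
    T ⊓ Q = ⊥ ∧
      T ⊓ (S ⊓ Subgroup.normalizer (T : Set G) ⊓ Q) = ⊥ ∧
      ⁅T, S ⊓ Subgroup.normalizer (T : Set G) ⊓ Q⁆ = ⊥ ∧
      T ⊔ (S ⊓ Subgroup.normalizer (T : Set G) ⊓ Q) = S ⊓ Subgroup.normalizer (T : Set G) ∧
      Nonempty (↥(S ⊓ Subgroup.normalizer (T : Set G) ⊓ Q) ≃* T) := by
  obtain ⟨hd, hcomm, hprod, hRN, hle, hiso⟩ := key hQ hg hT1 ⟨hT, hTsyl.1, hTsyl.2⟩
    ⟨hS, hSsyl.1, hSsyl.2⟩ hTS
  refine ⟨hd, le_bot_iff.mp (hd ▸ inf_le_inf_left T inf_le_right), hcomm, hprod, hiso ?_⟩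
  set R := S ⊓ normalizer (T : Set G) ⊓ Q with hR
  set Q' := H48.cj g Q with hQ'
  have hg' : g⁻¹ ∉ normalizer (Q' : Set G) := by
    intro h
    apply hg
    have h1 := H48.cj_eq_of_mem_normalizer h
    rw [hQ', H48.cj_inv_cj] at h1
    exact H48.mem_normalizer_of_cj_eq h1.symm
  obtain ⟨R₁, hR₁, hRR₁⟩ := H48.exists_isSylowIn_ge (p := 2)
    (Q := R) (H := H48.cj g⁻¹ Q' ⊓ normalizer (Q' : Set G))
    (hSsyl.1.to_le (inf_le_left.trans inf_le_left))
    (le_inf (by rw [hQ', H48.cj_inv_cj]; exact inf_le_right) hRN)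
  have hR₁1 : R₁ ≠ ⊥ := fun h => hT1 (card_eq_one.mp (le_antisymm
    (hle.trans (by rw [h] at hRR₁; rw [le_bot_iff.mp hRR₁, card_bot])) Nat.card_pos))
  obtain ⟨S₁, hS₁, hR₁S⟩ := H48.exists_isSylowIn_ge (p := 2) (Q := R₁) (H := Q' ⊔ R₁)
    hR₁.isPGroup le_sup_right
  obtain ⟨-, -, -, hR₂N, hle₁, -⟩ := key (isTightlyEmbedded_cj hQ g) hg' hR₁1 hR₁ hS₁ hR₁S
  rw [H48.cj_inv_cj] at hR₂N
  refine (Subgroup.card_le_of_le hRR₁).trans (hle₁.trans ?_)
  exact (IsSylowIn.card_le ⟨hT, hTsyl.1, hTsyl.2⟩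
    (hS₁.isPGroup.to_le (inf_le_left.trans inf_le_left)) (le_inf inf_le_right hR₂N))

end Cfsg.Agent.S1910
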