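import Cfsg.Statements.S1914
import Cfsg.Agent.Components.Basic
import Cfsg.Agent.H7FourGroup.FourMain

set_option autoImplicit false
open Cfsg

namespace Cfsg.Agent.S1914

/-- Let A be a semisimple subgroup (a central product of quasisimple groups, A = E(A)) of a finite group and t an involution normalizing A such that the Sylow 2-subgroups of C_A(t) are cyclic of order 4. Then A has 2-rank exactly 1. -/
theorem result {G : Type*} [Group G] [Finite G] (A : Subgroup G) (hA : Cfsg.layer ↥A = ⊤)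
    (t : G) (ht : orderOf t = 2) (htA : t ∈ Subgroup.normalizer (A : Set G))
    (hC : ∀ R : Sylow 2 ↥(A ⊓ Subgroup.centralizer ({t} : Set G)), IsCyclic R ∧ Nat.card R = 4) :
    Cfsg.PRankLE 2 1 A ∧ ¬ Cfsg.PRankLE 2 0 A := by
  haveI := Fact.mk Nat.prime_two
  set H : Subgroup G := A ⊓ Subgroup.centralizer ({t} : Set G) with hH
  obtain ⟨R⟩ : Nonempty (Sylow 2 ↥H) := inferInstance
  obtain ⟨hRc, hR4⟩ := hC R
  obtain ⟨g, hg⟩ := hRc.exists_ofOrder_eq_natCard
  set r : G := ((g : ↥H) : G) with hr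
  have hr4 : orderOf r = 4 := by
    rw [hr, Subgroup.orderOf_coe, Subgroup.orderOf_coe, hg, hR4]
  have hrA : r ∈ A := (g : ↥H).2.1
  have htr : Commute t r := (Subgroup.mem_centralizer_singleton_iff.1 (g : ↥H).2.2).symm
  have ht2 : t * t = 1 := by rw [← pow_two, ← ht, pow_orderOf_eq_one]
  have hrr : r * r * (r * r) = 1 := by
    rw [← pow_two r, ← pow_add, show 2 + 2 = orderOf r by rw [hr4], pow_orderOf_eq_one]
  have hr2 : r * r ≠ 1 := fun h => by
    have := orderOf_dvd_of_pow_eq_one ((pow_two r).trans h)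
    rw [hr4] at this
    omega
  refine ⟨?_, fun h0 => ?_⟩
  swap
  · have h := h0 (Subgroup.zpowers (⟨r * r, mul_mem hrA hrA⟩ : ↥A))
      (IsCyclic.isMulCommutative) (by
        rintro _ ⟨i, rfl⟩
        show ((⟨r * r, mul_mem hrA hrA⟩ : ↥A) ^ i) ^ 2 = 1
        rw [← zpow_natCast, ← zpow_mul, mul_comm, zpow_mul, zpow_natCast, pow_two,
          show (⟨r * r, mul_mem hrA hrA⟩ : ↥A) * ⟨r * r, mul_mem hrA hrA⟩ = 1 from Subtype.ext hrr,
          one_zpow])
    rw [Nat.card_zpowers, Subgroup.orderOf_mk, pow_zero] at h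
    have h1 := orderOf_pos (r * r)
    exact hr2 (orderOf_eq_one_iff.1 (by omega))
  set X := A ⊔ Subgroup.zpowers t with hX
  have hperf : ⁅A, A⁆ = A := by
    have h1 : ⁅Cfsg.layer ↥A, Cfsg.layer ↥A⁆ = Cfsg.layer ↥A := Components.layer_perfect
    rw [hA] at h1
    have h2 := congrArg (Subgroup.map A.subtype) h1
    rwa [Subgroup.map_commutator, ← MonoidHom.range_eq_map, Subgroup.range_subtype] at h2
  haveI hn : (A.subgroupOf X).Normal := Subgroup.normal_subgroupOf_of_le_normalizer
    (sup_le Subgroup.le_normalizer (Subgroup.zpowers_le.2 htA))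
  let tX : ↥X := ⟨t, Subgroup.mem_sup_right (Subgroup.mem_zpowers t)⟩
  let rX : ↥X := ⟨r, Subgroup.mem_sup_left hrA⟩
  have htrX : Commute tX rX := Subtype.ext htr
  have hnorm : Subgroup.zpowers tX ≤ Subgroup.normalizer ((Subgroup.zpowers rX : Subgroup ↥X) : Set ↥X) := by
    refine Subgroup.zpowers_le.2 (Subgroup.centralizer_le_normalizer _ ?_)
    rw [Subgroup.mem_centralizer_iff]
    rintro _ ⟨i, rfl⟩
    exact (htrX.zpow_right i).symm.eq
  have hpair : IsPGroup 2 ↥(Subgroup.zpowers tX ⊔ Subgroup.zpowers rX) :=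
    IsPGroup.to_sup_of_normal_right'
      (H7Four.isPGroup_two_zpowers (n := 1) (Subtype.ext (by
        show t ^ 2 ^ 1 = 1
        rw [pow_one, pow_two, ht2])))
      (H7Four.isPGroup_two_zpowers (n := 2) (Subtype.ext (by
        show r ^ 2 ^ 2 = 1
        rw [show 2 ^ 2 = orderOf r by rw [hr4]; rfl, pow_orderOf_eq_one]))) hnorm
  obtain ⟨T, hT⟩ := hpair.exists_le_sylow
  have hfix : ∀ P : Subgroup ↥X, P ≤ A.subgroupOf X → IsPGroup 2 P → (∀ x ∈ P, Commute tX x) →
      Nat.card P ≤ 4 := by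
    intro P hPA hP hcomm
    have hle : P.map X.subtype ≤ H := by
      rintro _ ⟨x, hx, rfl⟩
      exact ⟨hPA hx, Subgroup.mem_centralizer_singleton_iff.2
        (congrArg Subtype.val (hcomm x hx).symm.eq)⟩
    obtain ⟨S, hS⟩ := ((hP.map X.subtype).of_equiv (Subgroup.subgroupOfEquivOfLe hle).symm).exists_le_sylow
    calc Nat.card P = Nat.card ↥((P.map X.subtype).subgroupOf H) := by
          rw [Nat.card_congr (Subgroup.subgroupOfEquivOfLe hle).toEquiv,
            Subgroup.card_map_of_injective X.subtype_injective]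
      _ ≤ Nat.card ↥(S : Subgroup ↥H) := Subgroup.card_le_of_le hS
      _ = 4 := (hC S).2
  have hgen : ∀ x : ↥X, x ∈ A.subgroupOf X ∨ tX * x ∈ A.subgroupOf X := by
    intro x
    have hx : x ∈ (A.subgroupOf X ⊔ Subgroup.zpowers tX : Subgroup ↥X) := by
      have h1 : Subgroup.zpowers tX = (Subgroup.zpowers t).subgroupOf X := by
        apply Subgroup.map_injective X.subtype_injective
        rw [MonoidHom.map_zpowers, Subgroup.map_subgroupOf_eq_of_le le_sup_right]
        rfl
      rw [h1, ← Subgroup.subgroupOf_sup le_sup_left le_sup_right, Subgroup.subgroupOf_self]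
      trivial
    rw [← SetLike.mem_coe, Subgroup.normal_mul] at hx
    obtain ⟨a, ha, _, ⟨i, rfl⟩, rfl⟩ := Set.mem_mul.1 hx
    have htt : tX * tX = 1 := Subtype.ext ht2
    rcases Int.even_or_odd' i with ⟨j, rfl | rfl⟩
    · left
      simp only [zpow_mul, zpow_two, htt, one_zpow, mul_one]
      exact ha
    · right
      simp only [zpow_add, zpow_mul, zpow_two, htt, one_zpow, one_mul, zpow_one]
      have h := hn.conj_mem a ha tX
      rwa [show tX⁻¹ = tX from inv_eq_of_mul_eq_one_right htt, mul_assoc] at h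
  intro B hBc hB2
  classical
  by_contra hlt
  haveI := Fintype.ofFinite ↥B
  rw [not_le, Nat.card_eq_fintype_card, pow_one] at hlt
  obtain ⟨a, ha⟩ : ∃ a : ↥B, a ≠ 1 := Fintype.exists_ne_of_one_lt_card (by omega) 1
  obtain ⟨b, hb⟩ : ∃ b : ↥B, b ∉ ({1, a} : Finset ↥B) := by
    by_contra h
    push Not at h
    have := (Finset.card_le_card (fun x _ => h x : (Finset.univ : Finset ↥B) ⊆ {1, a})).trans
      Finset.card_le_two
    rw [Finset.card_univ] at this
    omega
  simp only [Finset.mem_insert, Finset.mem_singleton, not_or] at hb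
  have hsq : ∀ g : ↥B, ((g : ↥A) : G) * ((g : ↥A) : G) = 1 := fun g => by
    rw [← pow_two]; exact congrArg Subtype.val (hB2 g g.2)
  have h := H7Four.eq_of_commute_involutions (A.subgroupOf X)
    (by
      apply Subgroup.map_injective X.subtype_injective
      rw [Subgroup.map_commutator, Subgroup.map_subgroupOf_eq_of_le le_sup_left, hperf])
    T tX rX (hT (Subgroup.mem_sup_left (Subgroup.mem_zpowers tX))) (Subtype.ext ht2)
    (hT (Subgroup.mem_sup_right (Subgroup.mem_zpowers rX))) hrA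
    (by rw [Subgroup.orderOf_mk, hr4]) htrX hgen hfix
    (x := ⟨((a : ↥A) : G), Subgroup.mem_sup_left (a : ↥A).2⟩)
    (y := ⟨((b : ↥A) : G), Subgroup.mem_sup_left (b : ↥A).2⟩)
    (a : ↥A).2 (b : ↥A).2 (Subtype.ext (hsq a)) (Subtype.ext (hsq b))
    (fun h => ha (Subtype.ext (Subtype.ext (congrArg (fun g : ↥X => (g : G)) h :))))
    (fun h => hb.1 (Subtype.ext (Subtype.ext (congrArg (fun g : ↥X => (g : G)) h :))))
    (Subtype.ext (congrArg (fun g : ↥B => ((g : ↥A) : G)) (hBc.is_comm.comm a b)))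
  exact hb.2 (Subtype.ext (Subtype.ext (congrArg (fun g : ↥X => (g : G)) h :))).symm

end Cfsg.Agent.S1914
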