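import Cfsg.Statements.S1915
import Cfsg.Agent.Components.Basic
import Cfsg.Agent.H7FourGroup.Core

set_option autoImplicit false
open Cfsg

namespace Cfsg.Agent.S1915

variable {G : Type*} [Group G]

/-- The subgroup `{1, x, y, xy}` for commuting involutions. -/
def klein {x y : G} (hx : x * x = 1) (hy : y * y = 1) (hxy : Commute x y) : Subgroup G where
  carrier := {g | g = 1 ∨ g = x ∨ g = y ∨ g = x * y}
  one_mem' := Or.inl rfl
  mul_mem' := by
    have e1 : y * x = x * y := hxy.eq.symm
    have e2 : x * (x * y) = y := by rw [← mul_assoc, hx, one_mul]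
    have e3 : x * y * x = y := by rw [mul_assoc, e1, e2]
    have e4 : y * (x * y) = x := by rw [← mul_assoc, e1, mul_assoc, hy, mul_one]
    have e5 : x * y * y = x := by rw [mul_assoc, hy, mul_one]
    have e6 : x * y * (x * y) = 1 := by rw [mul_assoc, e4, hx]
    rintro a b (rfl | rfl | rfl | rfl) (rfl | rfl | rfl | rfl) <;>
      simp only [Set.mem_setOf_eq, one_mul, mul_one, hx, hy, e1, e2, e3, e4, e5, e6, true_or, or_true]
  inv_mem' := by
    have hxi := inv_eq_of_mul_eq_one_right hx
    have hyi := inv_eq_of_mul_eq_one_right hy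
    rintro a (rfl | rfl | rfl | rfl) <;>
      simp [mul_inv_rev, hxi, hyi, hxy.eq.symm]

theorem mem_klein {x y : G} (hx : x * x = 1) (hy : y * y = 1) (hxy : Commute x y) {g : G} :
    g ∈ klein hx hy hxy ↔ g = 1 ∨ g = x ∨ g = y ∨ g = x * y := Iff.rfl

/-- In a group of 2-rank at most one commuting involutions coincide. -/
theorem eq_of_rank_one [Finite G] (h : Cfsg.PRankLE 2 1 G) {x y : G} (hx : x * x = 1) (hy : y * y = 1)
    (hx1 : x ≠ 1) (hy1 : y ≠ 1) (hxy : Commute x y) : x = y := by
  classical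
  by_contra hne
  haveI := Fintype.ofFinite G
  have hc : ∀ a ∈ klein hx hy hxy, ∀ b ∈ klein hx hy hxy, Commute a b := by
    intro a ha b hb
    rcases (mem_klein hx hy hxy).1 ha with rfl | rfl | rfl | rfl <;>
      rcases (mem_klein hx hy hxy).1 hb with rfl | rfl | rfl | rfl <;>
        simp [Commute.one_left, Commute.one_right, hxy, hxy.symm, Commute.mul_left, Commute.mul_right]
  have h1 := h (klein hx hy hxy) ⟨⟨fun a b => Subtype.ext (hc a a.2 b b.2)⟩⟩ fun a ha => by
    rw [pow_two]
    rcases (mem_klein hx hy hxy).1 ha with rfl | rfl | rfl | rfl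
    · exact one_mul 1
    · exact hx
    · exact hy
    · rw [hxy.symm.mul_mul_mul_comm, hx, hy, one_mul]
  have h2 : ({1, x, y} : Finset G).card ≤ Nat.card (klein hx hy hxy) := by
    rw [Nat.card_eq_fintype_card]
    refine le_trans (Finset.card_le_card (t := (Finset.univ : Finset (klein hx hy hxy)).image Subtype.val)
      fun g hg => ?_) (Finset.card_image_le.trans_eq Finset.card_univ)
    simp only [Finset.mem_insert, Finset.mem_singleton] at hg
    exact Finset.mem_image.2 ⟨⟨g, (mem_klein hx hy hxy).2 (by tauto)⟩, Finset.mem_univ _, rfl⟩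
  rw [Finset.card_insert_of_notMem (by simp [Ne.symm hx1, Ne.symm hy1]), Finset.card_pair hne] at h2
  omega

open Subgroup in
/-- Let A be a semisimple subgroup (A = E(A)) of a finite group and U a Klein four-group normalizing A. If the subgroup of A generated by the normalizers N_A(V) of the nontrivial subgroups V of U has 2-rank exactly 1, then A has 2-rank exactly 1. -/
theorem result {G : Type*} [Group G] [Finite G] (A : Subgroup G) (hA : Cfsg.layer ↥A = ⊤)
    (U : Subgroup G) (hU : IsKleinFour U) (hUA : U ≤ Subgroup.normalizer (A : Set G))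
    (hΓ : Cfsg.PRankLE 2 1 ↥(⨆ V : {V : Subgroup G // V ≤ U ∧ V ≠ ⊥}, A ⊓ Subgroup.normalizer ((V : Subgroup G) : Set G)) ∧
      ¬ Cfsg.PRankLE 2 0 ↥(⨆ V : {V : Subgroup G // V ≤ U ∧ V ≠ ⊥}, A ⊓ Subgroup.normalizer ((V : Subgroup G) : Set G))) :
    Cfsg.PRankLE 2 1 A ∧ ¬ Cfsg.PRankLE 2 0 A := by
  set Γ := ⨆ V : {V : Subgroup G // V ≤ U ∧ V ≠ ⊥}, A ⊓ Subgroup.normalizer ((V : Subgroup G) : Set G)
    with hΓdef
  have hΓA : Γ ≤ A := iSup_le fun _ => inf_le_left
  refine ⟨?_, fun h0 => hΓ.2 fun B hBc hB2 => ?_⟩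
  swap
  · have h := h0 (B.map (inclusion hΓA)) ⟨⟨fun a b => by
        obtain ⟨_, a', ha', rfl⟩ := a
        obtain ⟨_, b', hb', rfl⟩ := b
        refine Subtype.ext ?_
        show inclusion hΓA a' * inclusion hΓA b' = inclusion hΓA b' * inclusion hΓA a'
        have hc : a' * b' = b' * a' :=
          congrArg Subtype.val (hBc.is_comm.comm (⟨a', ha'⟩ : B) ⟨b', hb'⟩)
        rw [← map_mul, ← map_mul, hc]⟩⟩ (by
      rintro _ ⟨a, ha, rfl⟩
      rw [← map_pow, hB2 a ha, map_one])
    rwa [Nat.card_congr (B.equivMapOfInjective _ (inclusion_injective hΓA)).toEquiv]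
  -- pass to `X = A ⊔ U`
  haveI := Fact.mk Nat.prime_two
  set X := A ⊔ U with hX
  have hperf : ⁅A, A⁆ = A := by
    have h1 : ⁅Cfsg.layer ↥A, Cfsg.layer ↥A⁆ = Cfsg.layer ↥A := Components.layer_perfect
    rw [hA] at h1
    have h2 := congrArg (Subgroup.map A.subtype) h1
    rwa [Subgroup.map_commutator, ← MonoidHom.range_eq_map, Subgroup.range_subtype] at h2
  have hXn : X ≤ normalizer (A : Set G) := sup_le le_normalizer hUA
  have hUsq : ∀ u ∈ U, u * u = 1 := fun u hu =>
    congrArg Subtype.val (IsKleinFour.mul_self (⟨u, hu⟩ : U))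
  have hU2 : IsPGroup 2 ↥(U.subgroupOf X) :=
    (IsPGroup.of_card (n := 2) (hU.card_four.trans (by norm_num))).of_equiv
      (subgroupOfEquivOfLe (le_sup_right : U ≤ X)).symm
  obtain ⟨T, hT⟩ := hU2.exists_le_sylow
  have hn : (A.subgroupOf X).Normal := normal_subgroupOf_of_le_normalizer hXn
  have hmapX : ∀ {B : Subgroup G}, B ≤ X → (B.subgroupOf X).map X.subtype = B := fun {B} h =>
    Components.map_subgroupOf h
  let D : H7Four.Ctx ↥X :=
    { A := A.subgroupOf X
      U := U.subgroupOf X
      T := T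
      normal := hn
      perf := by
        apply Subgroup.map_injective X.subtype_injective
        rw [Subgroup.map_commutator, hmapX le_sup_left, hperf]
      hUT := hT
      hU2 := fun u hu => Subtype.ext (hUsq (u : G) hu)
      hU4 := by
        rw [Nat.card_congr (subgroupOfEquivOfLe (le_sup_right : U ≤ X)).toEquiv, hU.card_four]
      gen := fun g => by
        haveI := hn
        have htop : (g : ↥X) ∈ (A.subgroupOf X ⊔ U.subgroupOf X : Subgroup ↥X) := by
          rw [← Subgroup.subgroupOf_sup le_sup_left le_sup_right, Subgroup.subgroupOf_self]; trivial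
        rw [← SetLike.mem_coe, normal_mul] at htop
        obtain ⟨a, ha, u, hu, h⟩ := Set.mem_mul.mp htop
        exact ⟨a, ha, u, hu, h.symm⟩
      uniq := by
        intro u hu hu1 x hx y hy hx2 hy2 hx1 hy1 hux huy hxy
        have hmem : ∀ g : ↥X, g ∈ A.subgroupOf X → Commute u g → (g : G) ∈ Γ := by
          intro g hg hug
          refine mem_iSup_of_mem (⟨zpowers (u : G), zpowers_le.2 hu, fun h =>
            hu1 (Subtype.ext (zpowers_eq_bot.1 h))⟩ : {V : Subgroup G // V ≤ U ∧ V ≠ ⊥}) ⟨hg, ?_⟩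
          refine mem_normalizer_iff.2 fun m => ?_
          have hc : Commute (u : G) (g : G) := congrArg Subtype.val hug.eq
          constructor
          · rintro ⟨i, rfl⟩
            exact ⟨i, by simp [(hc.zpow_left i).symm.eq]⟩
          · rintro ⟨i, hi⟩
            refine ⟨i, ?_⟩
            have h2 : (g : G) * u ^ i = u ^ i * g := (hc.zpow_left i).symm.eq
            have h3 : u.1 ^ i * (g : G) = g * m := mul_inv_eq_iff_eq_mul.1 hi.symm |>.symm
            exact mul_left_cancel (h2.trans h3)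
        have h := eq_of_rank_one hΓ.1 (x := ⟨(x : G), hmem x hx hux⟩) (y := ⟨(y : G), hmem y hy huy⟩)
          (Subtype.ext (congrArg (fun g : ↥X => (g : G)) hx2 :))
          (Subtype.ext (congrArg (fun g : ↥X => (g : G)) hy2 :))
          (fun h => hx1 (Subtype.ext (congrArg (fun g : ↥Γ => (g : G)) h :)))
          (fun h => hy1 (Subtype.ext (congrArg (fun g : ↥Γ => (g : G)) h :)))
          (Subtype.ext (congrArg (fun g : ↥X => (g : G)) hxy.eq :))
        exact Subtype.ext (congrArg (fun g : ↥Γ => (g : G)) h :) }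
  intro B hBc hB2
  classical
  by_contra hlt
  haveI := Fintype.ofFinite ↥B
  rw [not_le, Nat.card_eq_fintype_card, pow_one] at hlt
  obtain ⟨a, ha⟩ : ∃ a : ↥B, a ≠ 1 := Fintype.exists_ne_of_one_lt_card (by omega) 1
  obtain ⟨b, hb⟩ : ∃ b : ↥B, b ∉ ({1, a} : Finset ↥B) := by
    by_contra h
    push Not at h
    have := (Finset.card_le_card (fun x _ => h x : (Finset.univ : Finset ↥B) ⊆ {1, a})).trans
      Finset.card_le_two
    rw [Finset.card_univ] at this
    omega
  simp only [Finset.mem_insert, Finset.mem_singleton, not_or] at hb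
  have hsq : ∀ g : ↥B, ((g : ↥A) : G) * ((g : ↥A) : G) = 1 := fun g => by
    rw [← pow_two]; exact congrArg Subtype.val (hB2 g g.2)
  have h := H7Four.involution_unique D
    (x := ⟨((a : ↥A) : G), mem_sup_left (a : ↥A).2⟩) (y := ⟨((b : ↥A) : G), mem_sup_left (b : ↥A).2⟩)
    (a : ↥A).2 (b : ↥A).2 (Subtype.ext (hsq a)) (Subtype.ext (hsq b))
    (fun h => ha (Subtype.ext (Subtype.ext (congrArg (fun g : ↥X => (g : G)) h :))))
    (fun h => hb.1 (Subtype.ext (Subtype.ext (congrArg (fun g : ↥X => (g : G)) h :))))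
    (Subtype.ext (congrArg (fun g : ↥B => ((g : ↥A) : G)) (hBc.is_comm.comm a b)))
  exact hb.2 (Subtype.ext (Subtype.ext (congrArg (fun g : ↥X => (g : G)) h :))).symm

end Cfsg.Agent.S1915
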