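import Cfsg.Statements.S1921
import Cfsg.Agent.Components.Basic
-- import your own Cfsg.Agent.* helpers here

set_option autoImplicit false
open Cfsg

namespace Cfsg.Agent.S1921

open Cfsg.Agent.Components
open scoped commutatorElement
set_option linter.style.haveILetI false

/-- Let a be an involution of a finite group H and L a component of H with a L a⁻¹ ≠ L; put M = ⟨L, aLa⁻¹⟩ and let J be the subgroup generated by the elements x · a x a⁻¹ with x ∈ L (the diagonal). Then every element of M outside J·Z(M) generates M together with J. -/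
theorem result {H : Type*} [Group H] [Finite H] (a : H) (ha : orderOf a = 2) (L : Subgroup H) (hL : Cfsg.IsComponent L)
    (hLa : L.map (MulAut.conj a).toMonoidHom ≠ L) (x : H) (hxM : x ∈ L ⊔ L.map (MulAut.conj a).toMonoidHom)
    (hxJ : x ∉ Subgroup.closure {y : H | ∃ l ∈ L, y = l * (a * l * a⁻¹)} ⊔
      ((L ⊔ L.map (MulAut.conj a).toMonoidHom) ⊓ Subgroup.centralizer ((L ⊔ L.map (MulAut.conj a).toMonoidHom : Subgroup H) : Set H))) :
    Subgroup.closure {y : H | ∃ l ∈ L, y = l * (a * l * a⁻¹)} ⊔ Subgroup.zpowers x = L ⊔ L.map (MulAut.conj a).toMonoidHom := by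
  set L' := L.map (MulAut.conj a).toMonoidHom with hL'
  set D := Subgroup.closure {y : H | ∃ l ∈ L, y = l * (a * l * a⁻¹)} with hD
  set M := L ⊔ L' with hM
  have hc : ⁅L, L'⁆ = ⊥ := components_commute hL (component_conj hL a) (Ne.symm hLa)
  have hgen : ∀ l ∈ L, l * (a * l * a⁻¹) ∈ D := fun l hl => Subgroup.subset_closure ⟨l, hl, rfl⟩
  have hDM : D ≤ M := (Subgroup.closure_le _).mpr (by
    rintro y ⟨l, hl, rfl⟩
    exact M.mul_mem (Subgroup.mem_sup_left hl) (Subgroup.mem_sup_right ⟨l, hl, rfl⟩))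
  refine le_antisymm (sup_le hDM (Subgroup.zpowers_le.mpr hxM)) ?_
  set T := D ⊔ Subgroup.zpowers x with hT
  have hnT : L ≤ Subgroup.normalizer ((L ⊓ T : Subgroup H) : Set H) := by
    have key : ∀ l ∈ L, ∀ t ∈ L ⊓ T, l * t * l⁻¹ ∈ L ⊓ T := by
      intro l hl t ht
      refine ⟨L.mul_mem (L.mul_mem hl ht.1) (L.inv_mem hl), ?_⟩
      have hd : l * (a * l * a⁻¹) ∈ T := Subgroup.mem_sup_left (hgen l hl)
      have h2 := T.mul_mem (T.mul_mem hd ht.2) (T.inv_mem hd)
      have hcm : a * l * a⁻¹ * t = t * (a * l * a⁻¹) :=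
        (commute_of_commutator_eq_bot hc ht.1 ⟨l, hl, rfl⟩).symm
      have he : l * (a * l * a⁻¹) * t * (l * (a * l * a⁻¹))⁻¹ = l * t * l⁻¹ := by
        rw [mul_assoc l _ t, hcm]
        group
      rwa [he] at h2
    intro l hl
    refine Subgroup.mem_normalizer_iff.mpr fun t => ⟨key l hl t, fun h => ?_⟩
    simpa [mul_assoc] using key l⁻¹ (L.inv_mem hl) _ h
  obtain ⟨l, hl, m, hm, hlm⟩ : ∃ l ∈ L, ∃ m ∈ L', l * m = x := by
    have h1 := hxM
    rw [hM, ← SetLike.mem_coe, Subgroup.coe_mul_of_left_le_normalizer_right _ _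
      (le_normalizer_of_commutator_eq_bot hc)] at h1
    exact h1
  obtain ⟨k, hk, rfl⟩ := hm
  simp only [MulEquiv.coe_toMonoidHom, MulAut.conj_apply] at hlm
  have hxe : x = l * k⁻¹ * (k * (a * k * a⁻¹)) := by rw [← hlm]; group
  have hy : l * k⁻¹ ∈ L := L.mul_mem hl (L.inv_mem hk)
  have hyT : l * k⁻¹ ∈ T := by
    have : l * k⁻¹ = x * (k * (a * k * a⁻¹))⁻¹ := by rw [hxe]; group
    rw [this]
    exact T.mul_mem (Subgroup.mem_sup_right (Subgroup.mem_zpowers x))
      (T.inv_mem (Subgroup.mem_sup_left (hgen k hk)))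
  have hLT : L ≤ T := by
    refine ((qsSub_normal hL.2 hnT).resolve_right fun h => hxJ ?_).trans inf_le_right
    rw [hxe]
    refine Subgroup.mul_mem _ (Subgroup.mem_sup_right
      ⟨Subgroup.mem_sup_left hy, ?_⟩) (Subgroup.mem_sup_left (hgen k hk))
    rw [← inf_assoc, inf_idem] at h
    have hMc : M ≤ Subgroup.centralizer {l * k⁻¹} := sup_le
      (fun w hw => Subgroup.mem_centralizer_singleton_iff.mpr
        (commute_of_commutator_eq_bot h hw ⟨hy, hyT⟩))
      (fun w hw => Subgroup.mem_centralizer_singleton_iff.mpr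
        (commute_of_commutator_eq_bot hc hy hw).symm)
    exact Subgroup.mem_centralizer_iff.mpr
      fun w hw => Subgroup.mem_centralizer_singleton_iff.mp (hMc hw)
  refine sup_le hLT ?_
  rintro _ ⟨w, hw, rfl⟩
  have : a * w * a⁻¹ = w⁻¹ * (w * (a * w * a⁻¹)) := by group
  show a * w * a⁻¹ ∈ T
  rw [this]
  exact T.mul_mem (T.inv_mem (hLT hw)) (Subgroup.mem_sup_left (hgen w hw))

end Cfsg.Agent.S1921
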