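import Cfsg.Statements.S1922
import Cfsg.Agent.H39.Dihedral
import Cfsg.Agent.H48.SylowIn
import Cfsg.Agent.PGroups.Basic
import Mathlib.GroupTheory.GroupAction.Quotient


set_option autoImplicit false
open Cfsg

namespace Cfsg.Agent.S1922

open Subgroup

universe v

variable {G : Type*} [Group G]

/-- Two involutions with product of even order `2 * m`: the element `(b * a) ^ m`. -/
theorem central_prod [Finite G] {a b : G} (ha : orderOf a = 2) (hb : orderOf b = 2)
    (he : Even (orderOf (b * a))) :
    ∃ m : ℕ, orderOf ((b * a) ^ m) = 2 ∧ Commute ((b * a) ^ m) a ∧ Commute ((b * a) ^ m) b ∧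
      (IsConj a (a * (b * a) ^ m) ∨ IsConj b (a * (b * a) ^ m)) := by
  obtain ⟨m, hm⟩ := he
  have hpos := orderOf_pos (b * a)
  have hinv := H39.conj_mul_involutions ha hb
  set d := b * a with hd
  have hw : orderOf (d ^ m) = 2 := by
    rw [orderOf_pow_of_dvd (by omega) (hm ▸ ⟨2, by ring⟩), hm]
    exact Nat.div_eq_of_eq_mul_left (by omega) (by ring)
  have hwinv : (d ^ m)⁻¹ = d ^ m := H39.inv_eq_of_orderOf_eq_two hw
  have hca : a * d ^ m = d ^ m * a := by
    have h : a * d ^ m * a⁻¹ = d ^ m := by rw [← conj_pow, hinv, inv_pow, hwinv]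
    exact mul_inv_eq_iff_eq_mul.mp h
  have hbd : b = d * a := by
    rw [hd, mul_assoc, H39.mul_self_of_orderOf_eq_two ha, mul_one]
  refine ⟨m, hw, hca.symm, ?_, ?_⟩
  · rw [hbd]
    exact ((Commute.refl d).pow_left m).mul_right hca.symm
  rw [hca]
  obtain ⟨i, rfl | rfl⟩ := Nat.even_or_odd' m
  · refine .inl (isConj_iff.mpr ⟨d ^ (i : ℤ), ?_⟩)
    have h := H39.zpow_conj_mul hinv (i : ℤ) 0
    rw [zpow_zero, one_mul] at h
    rw [h, ← zpow_natCast]
    push_cast
    rw [zero_add]
  · refine .inr (isConj_iff.mpr ⟨d ^ (i : ℤ), ?_⟩)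
    have h := H39.zpow_conj_mul hinv (i : ℤ) 1
    rw [zpow_one, ← hbd] at h
    rw [h, ← zpow_natCast, add_comm]
    push_cast
    rfl

/-- The hypotheses: `z` and its products with commuting conjugates lie in one conjugate of `H`. -/
structure Hyp (z : G) (H : Subgroup G) : Prop where
  inv : orderOf z = 2
  proper : H ≠ ⊤
  fix : ∀ g : G, g⁻¹ * z * g ∈ H ↔ g ∈ H
  prod : ∀ t : G, IsConj z t → t ≠ z → t * z = z * t → ∀ g : G, g⁻¹ * (z * t) * g ∈ H ↔ g ∈ H

namespace Hyp

variable {z : G} {H : Subgroup G} (h : Hyp z H)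
include h

theorem mem : z ∈ H := by simpa using (h.fix 1).mpr (one_mem H)

theorem centralizer_le : centralizer ({z} : Set G) ≤ H := fun g hg => (h.fix g).mp (by
  rw [mul_assoc, ← mem_centralizer_singleton_iff.mp hg, inv_mul_cancel_left]; exact h.mem)

theorem mem_of_conj {g : G} (hg : g * z * g⁻¹ ∈ H) : g ∈ H :=
  inv_mem_iff.mp ((h.fix g⁻¹).mp (by simpa using hg))

theorem prod_spec [Finite G] {b w : G} (hw : orderOf w = 2) (hwz : Commute w z)
    (hb : IsConj z b) (hc : IsConj z (z * w) ∨ IsConj b (z * w)) :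
    w ∈ H ∧ ∀ g : G, g⁻¹ * w * g ∈ H → g ∈ H := by
  have ht : IsConj z (z * w) := hc.elim id fun hc => hb.trans hc
  have hne : z * w ≠ z := fun he => H39.ne_one_of_orderOf_eq_two hw (mul_eq_left.mp he)
  have hcomm : z * w * z = z * (z * w) := by rw [mul_assoc, hwz.eq]
  have e : z * (z * w) = w := by
    rw [← mul_assoc, H39.mul_self_of_orderOf_eq_two h.inv, one_mul]
  have hp := h.prod (z * w) ht hne hcomm
  rw [e] at hp
  exact ⟨by simpa using (hp 1).mpr (one_mem H), fun g => (hp g).mp⟩

/-- Conjugates of `z` outside `H` have product of odd order with `z`. -/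
theorem odd_prod [Finite G] {g : G} (hg : g ∉ H) : Odd (orderOf (g * z * g⁻¹ * z)) := by
  by_contra hodd
  obtain ⟨m, hw, hwa, hwb, hc⟩ := central_prod h.inv
    ((H39.orderOf_conj g z).trans h.inv) (Nat.not_odd_iff_even.mp hodd)
  set w := (g * z * g⁻¹ * z) ^ m
  obtain ⟨hwH, hws⟩ := h.prod_spec hw hwa (isConj_iff.mpr ⟨g, rfl⟩) hc
  refine hg (h.mem_of_conj (hws _ ?_))
  rw [mul_assoc, hwb.eq, inv_mul_cancel_left]
  exact hwH

end Hyp

theorem not_dvd_index (n : ℕ) : ∀ (G : Type v) [Group G] [Finite G], Nat.card G = n →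
    ∀ (z : G) (H : Subgroup G), Hyp z H → ¬ 2 ∣ (centralizer ({z} : Set G)).index := by
  induction n using Nat.strong_induction_on with
  | h n IH =>
    intro G _ _ hn z H hz heven
    classical
    haveI : Fact (Nat.Prime 2) := ⟨Nat.prime_two⟩
    set C := centralizer ({z} : Set G) with hCdef
    -- a Sylow subgroup containing `z`
    obtain ⟨S, hzS⟩ : ∃ S : Sylow 2 G, z ∈ (S : Subgroup G) := by
      obtain ⟨S, hS⟩ := (IsPGroup.of_card (G := zpowers z) (p := 2) (n := 1)
        (by rw [Nat.card_zpowers, hz.inv, pow_one])).exists_le_sylow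
      exact ⟨S, hS (mem_zpowers z)⟩
    have hSH : (S : Subgroup G) ≤ H := by
      by_contra hle
      have hne : (S : Subgroup G) ⊓ H ≠ (S : Subgroup G) := fun he => hle (inf_eq_left.mp he)
      obtain ⟨r, ⟨hrS, hrn⟩, hr⟩ : ∃ r ∈ (S : Subgroup G) ⊓
          normalizer (((S : Subgroup G) ⊓ H : Subgroup G) : Set G), r ∉ (S : Subgroup G) ⊓ H := by
        by_contra! hall
        exact absurd (Subgroup.card_le_of_le hall)
          (not_le.mpr (H48.card_lt_card_inf_normalizer S.isPGroup' inf_le_left hne))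
      exact hr ⟨hrS, hz.mem_of_conj ((mem_normalizer_iff.mp hrn z).mp ⟨hzS, hz.mem⟩).2⟩
    have hnc : ∀ k : G, ¬ ∀ s ∈ (S : Subgroup G), s * (k * z * k⁻¹) = k * z * k⁻¹ * s := by
      intro k hk
      have hle : (S : Subgroup G) ≤ C.map (MulAut.conj k).toMonoidHom := fun s hs => by
        refine ⟨k⁻¹ * s * k, mem_centralizer_singleton_iff.mpr ?_, by simp [mul_assoc]⟩
        calc k⁻¹ * s * k * z = k⁻¹ * (s * (k * z * k⁻¹)) * k := by group
          _ = z * (k⁻¹ * s * k) := by rw [hk s hs]; group
      have hd := index_dvd_of_le hle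
      rw [Subgroup.index_map_of_bijective (MulAut.conj k).bijective] at hd
      exact S.not_dvd_index (heven.trans hd)
    have hrel : 2 ∣ C.relIndex H := by
      rw [← relIndex_mul_index hz.centralizer_le] at heven
      exact (Nat.prime_two.dvd_mul.mp heven).resolve_right fun hd =>
        S.not_dvd_index (hd.trans (index_dvd_of_le hSH))
    -- noncentral involutions commuting with `z`
    have hL0 : ∀ x : G, orderOf x = 2 → Commute x z → centralizer ({x} : Set G) ≠ ⊤ →
        centralizer ({x} : Set G) ≤ H := by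
      intro x hx hxz hne
      by_contra hle
      set K := centralizer ({x} : Set G) with hK
      have hzK : z ∈ K := mem_centralizer_singleton_iff.mpr hxz.eq.symm
      have hxH : x ∈ H := hz.centralizer_le (mem_centralizer_singleton_iff.mpr hxz.eq)
      have hcard : Nat.card K < n := by
        rw [← hn]
        exact lt_of_le_of_ne K.card_le_card_group fun hc => hne (eq_top_of_card_eq K hc)
      have hKH : Hyp (⟨z, hzK⟩ : K) (H.subgroupOf K) := by
        refine ⟨by rw [Subgroup.orderOf_mk]; exact hz.inv,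
          fun he => hle (subgroupOf_eq_top.mp he), fun g => ?_, fun t ht htne htc g => ?_⟩
        · rw [mem_subgroupOf, mem_subgroupOf]
          exact hz.fix g
        · rw [mem_subgroupOf, mem_subgroupOf]
          obtain ⟨c, hc⟩ := isConj_iff.mp ht
          exact hz.prod (t : G) (isConj_iff.mpr ⟨c, congrArg Subtype.val hc⟩)
            (fun he => htne (Subtype.ext he)) (congrArg Subtype.val htc) g
      have hodd := IH _ hcard K rfl _ _ hKH
      have hCK : centralizer ({(⟨z, hzK⟩ : K)} : Set K) = C.subgroupOf K := by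
        ext g
        rw [mem_subgroupOf, hCdef, mem_centralizer_singleton_iff, mem_centralizer_singleton_iff,
          Subtype.ext_iff]
        rfl
      rw [hCK] at hodd
      obtain ⟨g, hgK, hgH⟩ := SetLike.not_le_iff_exists.mp hle
      let X : Subgroup H := zpowers ⟨x, hxH⟩
      have hXp : IsPGroup 2 X := IsPGroup.of_card (n := 1) (by
        rw [Nat.card_zpowers, Subgroup.orderOf_mk, hx, pow_one])
      let f : ↥(H ⊓ K) ⧸ C.subgroupOf (H ⊓ K) → H ⧸ C.subgroupOf H :=
        Quotient.map' (fun k => ⟨(k : G), k.2.1⟩) fun a b hab => by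
          rw [QuotientGroup.leftRel_apply, mem_subgroupOf] at hab ⊢
          exact hab
      have hf : Function.Injective f := by
        intro a b hab
        induction a using QuotientGroup.induction_on with | _ a => ?_
        induction b using QuotientGroup.induction_on with | _ b => ?_
        have h1 := QuotientGroup.eq.mp hab
        rw [mem_subgroupOf] at h1
        exact QuotientGroup.eq.mpr (mem_subgroupOf.mpr h1)
      have hrange : Set.range f = MulAction.fixedPoints X (H ⧸ C.subgroupOf H) := by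
        ext q
        constructor
        · rintro ⟨a, rfl⟩
          induction a using QuotientGroup.induction_on with | _ a => ?_
          intro y
          obtain ⟨y, i, rfl⟩ := y
          refine (QuotientGroup.eq (s := C.subgroupOf H)).mpr ?_
          rw [mem_subgroupOf, hCdef, mem_centralizer_singleton_iff]
          have hax : Commute (a : G) x := mem_centralizer_singleton_iff.mp a.2.2
          push_cast
          have e : ((x : G) ^ i * (a : G))⁻¹ * (a : G) = (x ^ i)⁻¹ := by
            rw [← (hax.zpow_right i).eq, mul_inv_rev, mul_assoc, inv_mul_cancel, mul_one]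
          show ((x : G) ^ i * (a : G))⁻¹ * (a : G) * z = z * (((x : G) ^ i * (a : G))⁻¹ * (a : G))
          rw [e]
          exact (hxz.zpow_left i).inv_left.eq
        · intro hq
          induction q using QuotientGroup.induction_on with | _ a => ?_
          have h1 : ((⟨x, hxH⟩ * a : H) : H ⧸ C.subgroupOf H) = (a : H ⧸ C.subgroupOf H) :=
            hq ⟨⟨x, hxH⟩, mem_zpowers _⟩
          have h2 := QuotientGroup.eq.mp h1
          rw [mem_subgroupOf, hCdef, mem_centralizer_singleton_iff] at h2
          push_cast at h2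
          -- `x` commutes with the conjugate of `z` by `a`
          set c := (a : G) * z * (a : G)⁻¹ with hc
          have hxc : x * c = c * x := by
            refine (Commute.inv_left_iff.mp (show Commute x⁻¹ c from ?_)).eq
            calc x⁻¹ * c = (a : G) * ((x * (a : G))⁻¹ * (a : G) * z) * (a : G)⁻¹ := by rw [hc]; group
              _ = c * x⁻¹ := by rw [h2, hc]; group
          have hgy : (a : G)⁻¹ * g ∉ H := fun hm => hgH (by simpa using H.mul_mem a.2 hm)
          have ho : Odd (orderOf (g * z * g⁻¹ * c)) := by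
            have := hz.odd_prod hgy
            rw [← H39.orderOf_conj (a : G)] at this
            simpa [hc, mul_assoc] using this
          have hyK : g * z * g⁻¹ ∈ K := K.mul_mem (K.mul_mem hgK hzK) (K.inv_mem hgK)
          have hcK : c ∈ K := mem_centralizer_singleton_iff.mpr hxc.symm
          obtain ⟨k, hk, -, -, hkc⟩ := H39.exists_conj_of_odd (a := c) (b := g * z * g⁻¹)
            ((H39.orderOf_conj _ _).trans hz.inv) ((H39.orderOf_conj _ _).trans hz.inv) ho
          have hkK : k ∈ K := (zpowers_le.mpr (K.mul_mem hyK hcK)) hk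
          -- `k⁻¹ * g` carries `z` to `c`
          have hl : (k⁻¹ * g) * z * (k⁻¹ * g)⁻¹ = c := by
            calc (k⁻¹ * g) * z * (k⁻¹ * g)⁻¹ = k⁻¹ * (g * z * g⁻¹) * k := by group
              _ = c := by rw [← hkc]; group
          have hlH : k⁻¹ * g ∈ H := hz.mem_of_conj (by
            rw [hl, hc]; exact H.mul_mem (H.mul_mem a.2 hz.mem) (H.inv_mem a.2))
          refine ⟨((⟨k⁻¹ * g, hlH, K.mul_mem (K.inv_mem hkK) hgK⟩ : ↥(H ⊓ K)) : _ ⧸ _), ?_⟩
          refine (QuotientGroup.eq (s := C.subgroupOf H)).mpr ?_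
          rw [mem_subgroupOf, hCdef, mem_centralizer_singleton_iff]
          show (k⁻¹ * g)⁻¹ * (a : G) * z = z * ((k⁻¹ * g)⁻¹ * (a : G))
          calc (k⁻¹ * g)⁻¹ * (a : G) * z = (k⁻¹ * g)⁻¹ * c * (a : G) := by rw [hc]; group
            _ = z * ((k⁻¹ * g)⁻¹ * (a : G)) := by rw [← hl]; group
      have hmod := hXp.card_modEq_card_fixedPoints (H ⧸ C.subgroupOf H)
      have hfix : Nat.card (MulAction.fixedPoints X (H ⧸ C.subgroupOf H)) =
          (C.subgroupOf (H ⊓ K)).index := by
        rw [← hrange, ← Nat.card_congr (Equiv.ofInjective f hf)]; rfl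
      rw [hfix] at hmod
      have hev : 2 ∣ (C.subgroupOf (H ⊓ K)).index :=
        Nat.modEq_zero_iff_dvd.mp (hmod.symm.trans (Nat.modEq_zero_iff_dvd.mpr hrel))
      apply hodd
      refine hev.trans ?_
      have hle' : C ⊓ K ≤ H ⊓ K := inf_le_inf_right K hz.centralizer_le
      have e1 : (C.subgroupOf (H ⊓ K)).index = (C ⊓ K).relIndex (H ⊓ K) := by
        rw [relIndex]
        congr 1
        ext a
        simp only [mem_subgroupOf, mem_inf]
        exact ⟨fun ha => ⟨ha, a.2.2⟩, And.left⟩
      have e2 : (C.subgroupOf K).index = (C ⊓ K).relIndex K := (inf_relIndex_right C K).symm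
      rw [e1, e2, ← relIndex_mul_relIndex (C ⊓ K) (H ⊓ K) K hle' inf_le_right]
      exact Dvd.intro _ rfl
    have hL : ∀ (k x : G), orderOf x = 2 → Commute x (k * z * k⁻¹) →
        centralizer ({x} : Set G) ≠ ⊤ → ∀ a ∈ centralizer ({x} : Set G), k⁻¹ * a * k ∈ H := by
      intro k x hx hxz hne a ha
      refine hL0 (k⁻¹ * x * k) ?_ ?_ ?_ (mem_centralizer_singleton_iff.mpr ?_)
      · rw [← hx, ← H39.orderOf_conj k⁻¹ x, inv_inv]
      · calc k⁻¹ * x * k * z = k⁻¹ * (x * (k * z * k⁻¹)) * k := by group
          _ = z * (k⁻¹ * x * k) := by rw [hxz.eq]; group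
      · intro htop
        refine hne (eq_top_iff.mpr fun b _ => mem_centralizer_singleton_iff.mpr ?_)
        have h1 := mem_centralizer_singleton_iff.mp (htop.ge (mem_top (k⁻¹ * b * k)))
        calc b * x = k * ((k⁻¹ * b * k) * (k⁻¹ * x * k)) * k⁻¹ := by group
          _ = x * b := by rw [h1]; group
      · have h1 := mem_centralizer_singleton_iff.mp ha
        calc k⁻¹ * a * k * (k⁻¹ * x * k) = k⁻¹ * (a * x) * k := by group
          _ = k⁻¹ * x * k * (k⁻¹ * a * k) := by rw [h1]; group
    -- a central involution of the Sylow subgroup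
    obtain ⟨v, hvS, hv, hvc⟩ : ∃ v ∈ (S : Subgroup G), orderOf v = 2 ∧
        ∀ s ∈ (S : Subgroup G), s * v = v * s := by
      have hne : (⊤ : Subgroup (S : Subgroup G)) ≠ ⊥ := fun he => by
        have h1 := he.le (mem_top (⟨z, hzS⟩ : (S : Subgroup G)))
        rw [mem_bot] at h1
        exact H39.ne_one_of_orderOf_eq_two hz.inv (congrArg Subtype.val h1)
      obtain ⟨v, -, hvc, hv⟩ := PGroups.exists_mem_center_orderOf_eq S.isPGroup' ⊤ hne
      exact ⟨v, v.2, by rw [Subgroup.orderOf_coe, hv], fun s hs =>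
        congrArg Subtype.val (mem_center_iff.mp hvc ⟨s, hs⟩)⟩
    have hvnot : ∀ k : G, k * z * k⁻¹ ≠ v := fun k hk => hnc k (hk.symm ▸ hvc)
    have hvz : Commute v z := (hvc z hzS).symm
    have hvne : centralizer ({v} : Set G) ≠ ⊤ := by
      intro htop
      have hcent : ∀ a : G, a * v = v * a := fun a =>
        mem_centralizer_singleton_iff.mp (htop.ge (mem_top a))
      have hvH : v ∈ H := hSH hvS
      have hzv : ¬ IsConj z (z * v) := by
        intro hc
        obtain ⟨g, hg⟩ : ∃ g, g ∉ H := by
          by_contra! hall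
          exact hz.proper (eq_top_iff.mpr fun a _ => hall a)
        refine hg ((hz.prod_spec hv hvz (IsConj.refl z) (Or.inl hc)).2 g ?_)
        rw [mul_assoc, ← hcent g, inv_mul_cancel_left]
        exact hvH
      haveI : (zpowers v).Normal := ⟨fun a ha g => by
        obtain ⟨i, rfl⟩ := ha
        show g * v ^ i * g⁻¹ ∈ zpowers v
        rw [((show Commute g v from hcent g).zpow_right i).eq, mul_inv_cancel_right]
        exact ⟨i, rfl⟩⟩
      let f := QuotientGroup.mk' (zpowers v)
      have hf : ∀ a : G, f a = 1 → a = 1 ∨ a = v := by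
        intro a ha
        obtain ⟨i, hi⟩ := (QuotientGroup.eq_one_iff a).mp ha
        obtain ⟨j, rfl | rfl⟩ := Int.even_or_odd' i
        · left; rw [← hi]; show v ^ (2 * j) = 1
          rw [zpow_mul, zpow_ofNat, ← hv, pow_orderOf_eq_one, one_zpow]
        · right; rw [← hi]; show v ^ (2 * j + 1) = v
          rw [zpow_add, zpow_mul, zpow_ofNat, ← hv, pow_orderOf_eq_one, one_zpow, one_mul, zpow_one]
      have hcomap : ∀ a : G, f a ∈ H.map f ↔ a ∈ H := by
        refine fun a => ⟨fun ha => ?_, mem_map_of_mem f⟩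
        have h1 : a ∈ (H.map f).comap f := ha
        rw [comap_map_eq, QuotientGroup.ker_mk'] at h1
        exact (sup_le le_rfl (zpowers_le.mpr hvH)) h1
      have hq : Hyp (f z) (H.map f) := by
        refine ⟨orderOf_eq_prime (by rw [← map_pow, ← hz.inv, pow_orderOf_eq_one, map_one])
          (fun h1 => ?_), fun he => hz.proper (eq_top_iff.mpr fun a _ =>
          (hcomap a).mp (he ▸ mem_top _)), fun g => ?_, fun t ht htne htc g => ?_⟩
        · rcases hf z h1 with h2 | h2
          · exact H39.ne_one_of_orderOf_eq_two hz.inv h2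
          · exact hvnot 1 (by rw [one_mul, inv_one, mul_one]; exact h2)
        · obtain ⟨g, rfl⟩ := QuotientGroup.mk'_surjective _ g
          rw [← map_inv, ← map_mul, ← map_mul, hcomap, hcomap]
          exact hz.fix g
        · obtain ⟨g, rfl⟩ := QuotientGroup.mk'_surjective _ g
          obtain ⟨k', hk'⟩ := isConj_iff.mp ht
          obtain ⟨k, rfl⟩ := QuotientGroup.mk'_surjective _ k'
          rw [← map_inv, ← map_mul, ← map_mul] at hk'
          set t0 := k * z * k⁻¹ with ht0
          subst hk'
          have hne0 : t0 ≠ z := fun he => htne (congrArg f he)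
          have hcom0 : t0 * z = z * t0 := by
            rcases hf (t0⁻¹ * (z * t0 * z⁻¹)) (by
              rw [map_mul, map_mul, map_mul, map_inv, map_inv, ← htc, mul_inv_cancel_right,
                inv_mul_cancel]) with h2 | h2
            · rw [inv_mul_eq_one] at h2
              exact eq_mul_inv_iff_mul_eq.mp h2
            · exfalso
              apply hzv
              rw [inv_mul_eq_iff_eq_mul] at h2
              refine isConj_iff.mpr ⟨k⁻¹ * z * k, ?_⟩
              calc k⁻¹ * z * k * z * (k⁻¹ * z * k)⁻¹ = k⁻¹ * (z * t0 * z⁻¹) * k := by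
                    rw [ht0]; group
                _ = z * v := by
                    rw [h2, ht0]
                    calc k⁻¹ * (k * z * k⁻¹ * v) * k = z * (k⁻¹ * (v * k)) := by group
                      _ = z * v := by rw [← hcent k, inv_mul_cancel_left]
          rw [← map_mul, ← map_inv, ← map_mul, ← map_mul, hcomap, hcomap]
          exact hz.prod t0 (isConj_iff.mpr ⟨k, rfl⟩) hne0 hcom0 g
      have hcard : Nat.card (G ⧸ zpowers v) < n := by
        have h1 := card_eq_card_quotient_mul_card_subgroup (zpowers v)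
        rw [Nat.card_zpowers, hv] at h1
        have h2 : 0 < Nat.card (G ⧸ zpowers v) := Nat.card_pos
        omega
      have hodd := IH _ hcard (G ⧸ zpowers v) rfl _ _ hq
      apply hodd
      have heq : (centralizer ({f z} : Set (G ⧸ zpowers v))).comap f = C := by
        ext a
        rw [mem_comap, hCdef, mem_centralizer_singleton_iff, mem_centralizer_singleton_iff]
        refine ⟨fun ha => ?_, fun ha => by rw [← map_mul, ha, map_mul]⟩
        rcases hf (z⁻¹ * (a * z * a⁻¹)) (by
          rw [map_mul, map_mul, map_mul, map_inv, map_inv, ha, mul_inv_cancel_right,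
            inv_mul_cancel]) with h2 | h2
        · rw [inv_mul_eq_one] at h2
          exact (eq_mul_inv_iff_mul_eq.mp h2).symm
        · exact absurd (isConj_iff.mpr ⟨a, inv_mul_eq_iff_eq_mul.mp h2⟩) hzv
      rwa [← index_comap_of_surjective _ (QuotientGroup.mk'_surjective (zpowers v)), heq]
    have hCv : centralizer ({v} : Set G) ≤ H := hL0 v hv hvz hvne
    -- `v` lies in no other conjugate of `H`
    have hstrong : ∀ g : G, g⁻¹ * v * g ∈ H → g ∈ H := by
      intro g hg
      obtain ⟨x, hxH, hx⟩ := (show H48.IsSylowIn 2 (S : Subgroup G) H from ⟨hSH, S.isPGroup',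
        fun hd => S.not_dvd_index (hd.trans (relIndex_dvd_index_of_le hSH))⟩).exists_cj_le
        (Q := zpowers (g⁻¹ * v * g)) (IsPGroup.of_card (n := 1) (by
          rw [Nat.card_zpowers, pow_one, ← hv, ← H39.orderOf_conj g⁻¹ v, inv_inv]))
        (zpowers_le.mpr hg)
      set k := x * g⁻¹ with hk
      set p := k * v * k⁻¹ with hp
      have hpS : p ∈ (S : Subgroup G) := by
        have h1 := hx (H48.conj_mem_cj (mem_zpowers (g⁻¹ * v * g)))
        rw [hp, hk]
        simpa [mul_assoc] using h1
      have hpo : orderOf p = 2 := (H39.orderOf_conj _ _).trans hv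
      -- an element of the same kind as `z` commuting with `p`
      obtain ⟨e, hep, heH, hes⟩ : ∃ e : G, Commute e p ∧ e ∈ H ∧
          ∀ g : G, g⁻¹ * e * g ∈ H → g ∈ H := by
        by_cases hzz : p * z * p⁻¹ = z
        · exact ⟨z, (mul_inv_eq_iff_eq_mul.mp hzz).symm, hz.mem, fun g => (hz.fix g).mp⟩
        set z' := p * z * p⁻¹ with hz'
        have hz'o : orderOf z' = 2 := (H39.orderOf_conj _ _).trans hz.inv
        have hd : z' * z ∈ (S : Subgroup G) := mul_mem (mul_mem (mul_mem hpS hzS) (inv_mem hpS)) hzS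
        have he : Even (orderOf (z' * z)) := by
          obtain ⟨a, ha⟩ := IsPGroup.iff_orderOf.mp S.isPGroup' ⟨_, hd⟩
          rw [Subgroup.orderOf_mk] at ha
          rcases a with _ | a
          · refine absurd ?_ hzz
            rw [pow_zero, orderOf_eq_one_iff] at ha
            rw [eq_inv_of_mul_eq_one_left ha, H39.inv_eq_of_orderOf_eq_two hz.inv]
          · rw [ha]; exact Nat.even_pow.mpr ⟨even_two, by omega⟩
        obtain ⟨m, hw, hwa, -, hc⟩ := central_prod hz.inv hz'o he
        obtain ⟨hwH, hws⟩ := hz.prod_spec hw hwa (isConj_iff.mpr ⟨p, rfl⟩) hc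
        refine ⟨_, ?_, hwH, hws⟩
        have h1 : p * (z' * z) * p⁻¹ = (z' * z)⁻¹ := by
          rw [show (z' * z)⁻¹ = z * z' by rw [mul_inv_rev z' z, H39.inv_eq_of_orderOf_eq_two hz.inv,
            H39.inv_eq_of_orderOf_eq_two hz'o], hz']
          have hpp := H39.mul_self_of_orderOf_eq_two hpo
          have hpi := H39.inv_eq_of_orderOf_eq_two hpo
          calc p * (p * z * p⁻¹ * z) * p⁻¹ = (p * p) * z * (p⁻¹ * z * p⁻¹) := by group
            _ = z * (p * z * p⁻¹) := by rw [hpp, one_mul, hpi]
        have h2 : p * (z' * z) ^ m * p⁻¹ = (z' * z) ^ m := by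
          rw [← conj_pow, h1, inv_pow, H39.inv_eq_of_orderOf_eq_two hw]
        exact (mul_inv_eq_iff_eq_mul.mp h2).symm
      have h1 : k⁻¹ * e * k ∈ centralizer ({v} : Set G) := mem_centralizer_singleton_iff.mpr (by
        calc k⁻¹ * e * k * v = k⁻¹ * (e * p) * k := by rw [hp]; group
          _ = v * (k⁻¹ * e * k) := by rw [hep.eq, hp]; group)
      have h2 : k ∈ H := hes k (hCv h1)
      have h3 : g⁻¹ ∈ H := by simpa [hk] using H.mul_mem (H.inv_mem hxH) h2
      exact inv_mem_iff.mp h3
    -- a conjugate of `z` outside `H`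
    obtain ⟨g, hg⟩ : ∃ g, g ∉ H := by
      by_contra! hall
      exact hz.proper (eq_top_iff.mpr fun a _ => hall a)
    set y := g * z * g⁻¹ with hy
    have hyo : orderOf y = 2 := (H39.orderOf_conj g z).trans hz.inv
    rcases Nat.even_or_odd (orderOf (v * y)) with he | ho
    swap
    · obtain ⟨k, -, -, -, hk⟩ := H39.exists_conj_of_odd hyo hv ho
      exact hvnot (k * g) (by rw [← hk, hy]; group)
    obtain ⟨m, hw, hwy, hwv, hc⟩ := central_prod hyo hv he
    set w := (v * y) ^ m
    have hwne : centralizer ({w} : Set G) ≠ ⊤ := by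
      intro htop
      have hcent : ∀ a : G, a * w = w * a := fun a =>
        mem_centralizer_singleton_iff.mp (htop.ge (mem_top a))
      rcases hc with hc | hc
      · -- `w` is the product of `y` and a commuting conjugate
        have hc' : IsConj z (z * w) := by
          obtain ⟨c, hc⟩ := isConj_iff.mp hc
          refine isConj_iff.mpr ⟨g⁻¹ * c * g, ?_⟩
          calc g⁻¹ * c * g * z * (g⁻¹ * c * g)⁻¹ = g⁻¹ * (c * y * c⁻¹) * g := by rw [hy]; group
            _ = g⁻¹ * (g * z * g⁻¹ * w) * g := by rw [hc, hy]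
            _ = z * (g⁻¹ * (w * g)) := by group
            _ = z * w := by rw [← hcent g, inv_mul_cancel_left]
        obtain ⟨hwH, hws⟩ := hz.prod_spec hw (hcent z).symm (IsConj.refl z) (Or.inl hc')
        exact hg (hws g (by rw [mul_assoc, ← hcent g, inv_mul_cancel_left]; exact hwH))
      · obtain ⟨c, hc⟩ := isConj_iff.mp hc
        refine hnc (c⁻¹ * g) fun s hs => ?_
        have h1 : c⁻¹ * g * z * (c⁻¹ * g)⁻¹ = v * w⁻¹ := by
          calc c⁻¹ * g * z * (c⁻¹ * g)⁻¹ = c⁻¹ * (y * w) * (w⁻¹ * c) := by rw [hy]; group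
            _ = c⁻¹ * (c * v * c⁻¹) * (c * w⁻¹) := by
              rw [hc, ((show Commute c w from hcent c).inv_right).eq]
            _ = v * w⁻¹ := by group
        rw [h1]
        exact ((show Commute s v from hvc s hs).mul_right (show Commute s w from hcent s).inv_right).eq
    exact hg (hstrong g (hL g w hw (hy ▸ hwy) hwne v
      (mem_centralizer_singleton_iff.mpr hwv.eq.symm)))

/-- Let z be an involution of a finite group G and H a proper subgroup such that z lies in gHg⁻¹ exactly when g ∈ H. Then the following are equivalent: (1) for every conjugate t ≠ z of z commuting with z, the product zt lies in gHg⁻¹ exactly when g ∈ H; (2) z lies in the centre of some Sylow 2-subgroup of G, and for every conjugate t ≠ z of z commuting with z, the centralizer of zt is contained in H. -/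
theorem result {G : Type*} [Group G] [Finite G] (z : G) (hz : orderOf z = 2) (H : Subgroup G) (hH : H ≠ ⊤)
    (h0 : ∀ g : G, z ∈ H.map (MulAut.conj g).toMonoidHom ↔ g ∈ H) :
    (∀ t : G, IsConj z t → t ≠ z → t * z = z * t → ∀ g : G, z * t ∈ H.map (MulAut.conj g).toMonoidHom ↔ g ∈ H) ↔
      ((∃ P : Sylow 2 G, z ∈ (Subgroup.center ↥(P : Subgroup G)).map (P : Subgroup G).subtype) ∧
        ∀ t : G, IsConj z t → t ≠ z → t * z = z * t → Subgroup.centralizer ({z * t} : Set G) ≤ H) := by
  classical
  haveI : Fact (Nat.Prime 2) := ⟨Nat.prime_two⟩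
  have hmem : ∀ (a g : G), a ∈ H.map (MulAut.conj g).toMonoidHom ↔ g⁻¹ * a * g ∈ H := fun a g =>
    H48.mem_cj
  have hh0 : ∀ g : G, g⁻¹ * z * g ∈ H ↔ g ∈ H := fun g => (hmem z g).symm.trans (h0 g)
  have hzH : z ∈ H := by simpa using (hh0 1).mpr (one_mem H)
  constructor
  · intro h1
    have hyp : Hyp z H := ⟨hz, hH, hh0, fun t ht htne htc g =>
      (hmem _ g).symm.trans (h1 t ht htne htc g)⟩
    refine ⟨?_, fun t ht htne htc g hg => ?_⟩
    · have hodd := not_dvd_index _ G rfl z H hyp
      obtain ⟨T, hT, -⟩ := H48.exists_isSylowIn_ge (p := 2) (Q := (⊥ : Subgroup G))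
        (H := centralizer ({z} : Set G)) IsPGroup.of_bot bot_le
      have hidx : ¬ 2 ∣ T.index := fun hd => by
        rw [← relIndex_mul_index hT.le] at hd
        exact (Nat.prime_two.dvd_mul.mp hd).elim hT.ndvd hodd
      let P : Sylow 2 G := hT.isPGroup.toSylow hidx
      have hzP : z ∈ (P : Subgroup G) := by
        have hle : (P : Subgroup G) ⊔ zpowers z = (P : Subgroup G) := by
          refine P.is_maximal' (P.isPGroup'.to_sup_of_normal_left'
            (IsPGroup.of_card (n := 1) (by rw [Nat.card_zpowers, hz, pow_one]))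
            (zpowers_le.mpr ?_)) le_sup_left
          refine centralizer_le_normalizer _ (mem_centralizer_iff.mpr fun a ha => ?_)
          exact mem_centralizer_singleton_iff.mp (hT.le ha)
        exact hle ▸ mem_sup_right (mem_zpowers z)
      refine ⟨P, ⟨z, hzP⟩, mem_center_iff.mpr fun a => Subtype.ext ?_, rfl⟩
      exact mem_centralizer_singleton_iff.mp (hT.le a.2)
    · refine (h1 t ht htne htc g).mp ((hmem _ g).mpr ?_)
      rw [mul_assoc, ← mem_centralizer_singleton_iff.mp hg, inv_mul_cancel_left]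
      simpa using (hmem _ 1).mp ((h1 t ht htne htc 1).mpr (one_mem H))
  · rintro ⟨⟨P, hzP⟩, h2⟩ t ht htne htc g
    obtain ⟨⟨z', hz'P⟩, hzc, hzz⟩ := hzP
    obtain rfl : z' = z := hzz
    have hPC : (P : Subgroup G) ≤ H := fun s hs => (hh0 s).mp (by
      have h3 : s * z' = z' * s := congrArg Subtype.val (mem_center_iff.mp hzc ⟨s, hs⟩)
      rw [mul_assoc, ← h3, inv_mul_cancel_left]
      exact hzH)
    have hu : z' * t ∈ H := h2 t ht htne htc (mem_centralizer_singleton_iff.mpr rfl)
    rw [hmem]
    refine ⟨fun hg => ?_, fun hg => H.mul_mem (H.mul_mem (H.inv_mem hg) hu) hg⟩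
    have hu2 : orderOf (z' * t) = 2 := by
      obtain ⟨c, hc⟩ := isConj_iff.mp ht
      refine orderOf_eq_prime ?_ fun he => htne ?_
      · rw [sq]
        calc z' * t * (z' * t) = z' * (t * z') * t := by group
          _ = (z' * z') * (t * t) := by rw [htc]; group
          _ = 1 := by
            rw [H39.mul_self_of_orderOf_eq_two hz, H39.mul_self_of_orderOf_eq_two
              (by rw [← hc, H39.orderOf_conj, hz]), one_mul]
      · exact (eq_inv_of_mul_eq_one_right he).trans (H39.inv_eq_of_orderOf_eq_two hz)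
    obtain ⟨x, hxH, hx⟩ := (show H48.IsSylowIn 2 (P : Subgroup G) H from ⟨hPC, P.isPGroup',
      fun hd => P.not_dvd_index (hd.trans (relIndex_dvd_index_of_le hPC))⟩).exists_cj_le
      (Q := zpowers (g⁻¹ * (z' * t) * g)) (IsPGroup.of_card (n := 1) (by
        rw [Nat.card_zpowers, pow_one, ← hu2, ← H39.orderOf_conj g⁻¹ (z' * t), inv_inv]))
      (zpowers_le.mpr hg)
    set k := x * g⁻¹ with hk
    have hp : k * (z' * t) * k⁻¹ ∈ (P : Subgroup G) := by
      have h1 := hx (H48.conj_mem_cj (mem_zpowers (g⁻¹ * (z' * t) * g)))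
      rw [hk]
      simpa [mul_assoc] using h1
    have hc' : k * (z' * t) * k⁻¹ * z' = z' * (k * (z' * t) * k⁻¹) :=
      congrArg Subtype.val (mem_center_iff.mp hzc ⟨_, hp⟩)
    have h5 : k⁻¹ * z' * k ∈ H := h2 t ht htne htc (mem_centralizer_singleton_iff.mpr (by
      calc k⁻¹ * z' * k * (z' * t) = k⁻¹ * (z' * (k * (z' * t) * k⁻¹)) * k := by group
        _ = z' * t * (k⁻¹ * z' * k) := by rw [← hc']; group))
    have h3 : g⁻¹ ∈ H := by simpa [hk] using H.mul_mem (H.inv_mem hxH) ((hh0 k).mp h5)
    exact inv_mem_iff.mp h3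

end Cfsg.Agent.S1922
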