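import Cfsg.Statements.S1924
import Cfsg.Agent.Fusion.PResidual
import Cfsg.Agent.H48.SylowCore
import Mathlib.GroupTheory.Perm.Cycle.Type
import Mathlib.GroupTheory.GroupAction.Quotient
import Mathlib.GroupTheory.SpecificGroups.Dihedral


set_option autoImplicit false
open Cfsg

namespace Cfsg.Agent.S1924

open Subgroup Equiv Equiv.Perm

universe u

theorem sign_eq_neg_one_of_free {α : Type*} [Fintype α] [DecidableEq α] (σ : Perm α) {n k : ℕ}
    (hn : Even n) (hσ : σ ^ n = 1) (hfree : ∀ j, 0 < j → j < n → ∀ a, (σ ^ j) a ≠ a)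
    (hn1 : 1 < n) (hcard : Fintype.card α = n * k) (hk : Odd k) : sign σ = -1 := by
  have hall : ∀ l ∈ σ.cycleType, l = n := by
    intro l hl
    have h2 := two_le_of_mem_cycleType hl
    have hdvd : l ∣ n := (dvd_of_mem_cycleType hl).trans (orderOf_dvd_of_pow_eq_one hσ)
    by_contra hne
    rw [cycleType_def, Multiset.mem_map] at hl
    obtain ⟨c, hc, hcl⟩ := hl
    have hc1 := mem_cycleFactorsFinset_iff.mp hc
    simp only [Function.comp_apply] at hcl
    obtain ⟨a, ha⟩ : c.support.Nonempty := Finset.card_pos.mp (by omega)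
    have hpow : ∀ j : ℕ, (σ ^ j) a = (c ^ j) a := by
      intro j
      induction j with
      | zero => rfl
      | succ j hj =>
        rw [pow_succ', pow_succ', mul_apply, mul_apply, hj]
        exact (hc1.2 _ (pow_apply_mem_support.mpr ha)).symm
    refine hfree l (by omega) (lt_of_le_of_ne (Nat.le_of_dvd (by omega) hdvd) hne) a ?_
    rw [hpow, ← hcl, ← hc1.1.orderOf, pow_orderOf_eq_one]
    rfl
  have hsupp : σ.support = Finset.univ := Finset.eq_univ_of_forall fun a => by
    rw [mem_support]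
    simpa using hfree 1 Nat.one_pos hn1 a
  have hsum := σ.sum_cycleType
  rw [hsupp, Finset.card_univ, hcard, Multiset.eq_replicate_card.mpr hall, Multiset.sum_replicate,
    smul_eq_mul, mul_comm n k] at hsum
  have hc := Nat.eq_of_mul_eq_mul_right (by omega) hsum
  rw [sign_of_cycleType, σ.sum_cycleType, hsupp, Finset.card_univ, hcard, hc]
  exact Odd.neg_one_pow ((hn.mul_right k).add_odd hk)

/-- The kernel of the sign of the action on the cosets of `M`. -/
noncomputable def signKer {G : Type*} [Group G] [Finite G] (M : Subgroup G) : Subgroup G :=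
  letI := Fintype.ofFinite (G ⧸ M)
  letI := Classical.decEq (G ⧸ M)
  (sign.comp (MulAction.toPermHom G (G ⧸ M))).ker

instance {G : Type*} [Group G] [Finite G] (M : Subgroup G) : (signKer M).Normal := by
  unfold signKer; infer_instance

theorem pResidual_le_signKer {G : Type*} [Group G] [Finite G] (M : Subgroup G) :
    Cfsg.pResidual 2 G ≤ signKer M :=
  Fusion.pResidual_le_ker (fun u => ⟨1, by rw [pow_one]; exact Int.units_sq u⟩) _

/-- An element acting freely with an odd number of orbits on a coset space is odd. -/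
theorem signKer_spec {G : Type*} [Group G] [Finite G] (M : Subgroup G) (r : G) {n k : ℕ}
    (hn : Even n) (hn1 : 1 < n) (hr : r ^ n = 1) (hidx : M.index = n * k) (hk : Odd k)
    (hfree : ∀ j, 0 < j → j < n → ∀ g : G, g * r ^ j * g⁻¹ ∉ M) :
    (signKer M).index = 2 ∧ r ∉ signKer M := by
  classical
  letI : Fintype (G ⧸ M) := Fintype.ofFinite _
  let φ : G →* ℤˣ := sign.comp (MulAction.toPermHom G (G ⧸ M))
  have hker : signKer M = φ.ker := by
    ext g
    simp only [signKer, MonoidHom.mem_ker, φ]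
    convert Iff.rfl
  have hφr : φ r = -1 := by
    refine sign_eq_neg_one_of_free (k := k) _ hn (by rw [← map_pow, hr, map_one]) ?_ hn1
      (by rw [← Nat.card_eq_fintype_card]; exact hidx) hk
    intro j h0 hj a
    induction a using QuotientGroup.induction_on with | _ g => ?_
    rw [← map_pow]
    intro h
    have h1 : ((r ^ j * g : G) : G ⧸ M) = (g : G ⧸ M) := h
    have h2 := M.inv_mem (QuotientGroup.eq.mp h1.symm)
    have h3 := hfree j h0 hj g⁻¹
    apply h3
    simpa [mul_assoc] using M.inv_mem h2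
  have hφ : Function.Surjective φ := fun u => by
    rcases Int.units_eq_one_or u with rfl | rfl
    · exact ⟨1, map_one φ⟩
    · exact ⟨r, hφr⟩
  rw [hker]
  refine ⟨?_, fun h => ?_⟩
  · rw [Subgroup.index_ker, MonoidHom.range_eq_top.mpr hφ, card_top, Nat.card_eq_fintype_card]
    rfl
  · rw [MonoidHom.mem_ker, hφr] at h
    exact absurd h (by decide)

theorem pow_notMem_pResidual (m : ℕ) : ∀ {G : Type u} [Group G] [Finite G] (T : Subgroup G) (r : G)
    {k : ℕ}, r ^ 2 ^ (m + 1) = 1 → T.index = 2 ^ (m + 1) * k → Odd k →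
    T ≤ Cfsg.pResidual 2 G → (∀ g : G, g * r ^ 2 ^ m * g⁻¹ ∉ T) →
    r ^ 2 ^ m ∉ Cfsg.pResidual 2 G := by
  induction m with
  | zero =>
    intro G _ _ T r k hr hidx hk hT hc
    rw [pow_zero, pow_one] at hc ⊢
    obtain ⟨-, hrG⟩ := signKer_spec T r (n := 2) even_two one_lt_two
      (by simpa using hr) (by simpa using hidx) hk (fun j h0 hj g => by
        obtain rfl : j = 1 := by omega
        rw [pow_one]; exact hc g)
    exact fun h => hrG (pResidual_le_signKer T h)
  | succ m ih =>
    intro G _ _ T r k hr hidx hk hT hc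
    have hfree : ∀ j, 0 < j → j < 2 ^ (m + 1 + 1) → ∀ g : G, g * r ^ j * g⁻¹ ∉ T := by
      intro j h0 hj g hg
      obtain ⟨a, o, ho, rfl⟩ := Nat.exists_eq_two_pow_mul_odd h0.ne'
      have ha : a ≤ m + 1 := by
        by_contra! h
        have h2 : 2 ^ (m + 1 + 1) ≤ 2 ^ a * o :=
          (Nat.pow_le_pow_right (by norm_num) h).trans (Nat.le_mul_of_pos_right _ ho.pos)
        omega
      obtain ⟨b, hb⟩ := Nat.exists_eq_add_of_le ha
      have h1 := T.pow_mem hg (2 ^ b)
      rw [conj_pow, ← pow_mul] at h1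
      obtain ⟨q, rfl⟩ := ho
      refine hc g ?_
      have e : r ^ (2 ^ a * (2 * q + 1) * 2 ^ b) = r ^ 2 ^ (m + 1) := by
        have e1 : 2 ^ a * (2 * q + 1) * 2 ^ b = 2 ^ (m + 1) + 2 ^ (m + 1 + 1) * q := by
          rw [pow_succ 2 (m + 1), hb, pow_add]
          ring
        rw [e1, pow_add, pow_mul, hr, one_pow, mul_one]
      rwa [e] at h1
    obtain ⟨hidx', -⟩ := signKer_spec T r
      (Nat.even_pow.mpr ⟨even_two, by omega⟩) (Nat.one_lt_two_pow (by omega)) hr hidx hk hfree
    set G' := signKer T with hG'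
    have hle := pResidual_le_signKer T
    have hr2 : r ^ 2 ∈ G' := hidx' ▸ Subgroup.pow_index_mem G' r
    have hres : Cfsg.pResidual 2 G ≤ (Cfsg.pResidual 2 G').map G'.subtype :=
      Fusion.pResidual_le.mpr fun g hg =>
        Fusion.mem_pResidual_subgroup (hle (Fusion.mem_pResidual hg)) hg
    have hTG : T ≤ G' := hT.trans hle
    have hrel : (T.subgroupOf G').index = 2 ^ (m + 1) * k := by
      have h := relIndex_mul_index hTG
      rw [hidx, hidx', pow_succ, relIndex] at h
      linarith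
    have key := ih (T.subgroupOf G') ⟨r ^ 2, hr2⟩ (k := k) (Subtype.ext (by
        push_cast
        rw [← pow_mul, ← pow_succ', hr])) hrel hk
      (fun t ht => by
        obtain ⟨u, hu, hut⟩ := hres (hT (mem_subgroupOf.mp ht))
        rwa [← G'.subtype_injective hut])
      (fun g hg => hc g (by
        have := mem_subgroupOf.mp hg
        push_cast at this
        rwa [← pow_mul, ← pow_succ'] at this))
    intro h
    obtain ⟨u, hu, hur⟩ := hres h
    apply key
    have hue : (⟨r ^ 2, hr2⟩ : G') ^ 2 ^ m = u := Subtype.ext (by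
      push_cast
      rw [← pow_mul, ← pow_succ']
      exact hur.symm)
    exact hue ▸ hu

theorem exists_involution_compl {G : Type*} [Group G] [Finite G] {D C : Subgroup G} (hCD : C ≤ D)
    (hDih : ∃ n : ℕ, 2 ≤ n ∧ Nonempty (↥D ≃* DihedralGroup n)) (hC : IsCyclic ↥C)
    (hCi : C.relIndex D = 2) : ∀ x ∈ D, x ∉ C → orderOf x = 2 := by
  obtain ⟨n, hn, ⟨e⟩⟩ := hDih
  haveI : NeZero n := ⟨by omega⟩
  have hcD : Nat.card D = 2 * n := by rw [Nat.card_congr e.toEquiv, DihedralGroup.nat_card]
  have hcC : Nat.card C = n := by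
    have h := relIndex_mul_relIndex ⊥ C D bot_le hCD
    rw [relIndex_bot_left, relIndex_bot_left, hCi, hcD] at h
    omega
  intro x hxD hxC
  rcases hx : e ⟨x, hxD⟩ with i | i
  swap
  · rw [← DihedralGroup.orderOf_sr i, ← hx, MulEquiv.orderOf_eq, Subgroup.orderOf_mk]
  rcases eq_or_ne n 2 with rfl | hn2
  · rw [← Subgroup.orderOf_mk (a := x) (ha := hxD), ← MulEquiv.orderOf_eq e, hx]
    have hi : i ≠ 0 := by
      rintro rfl
      apply hxC
      have : (⟨x, hxD⟩ : D) = 1 := e.injective (by rw [hx, map_one]; rfl)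
      have h1 : x = 1 := congrArg Subtype.val this
      exact h1 ▸ C.one_mem
    revert hi
    fin_cases i
    · intro hi; exact absurd rfl hi
    · intro _
      refine orderOf_eq_prime (by rw [sq]; decide) (by decide)
  exfalso
  apply hxC
  obtain ⟨c, hc⟩ := hC.exists_ofOrder_eq_natCard
  have hj : orderOf (e ⟨c, hCD c.2⟩) = n := by
    rw [MulEquiv.orderOf_eq, Subgroup.orderOf_mk, Subgroup.orderOf_coe, hc, hcC]
  rcases hec : e ⟨c, hCD c.2⟩ with j | j
  · rw [hec] at hj
    have hgen : DihedralGroup.r i ∈ zpowers (DihedralGroup.r j) := by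
      have hle : zpowers (DihedralGroup.r j) ≤ zpowers (DihedralGroup.r (1 : ZMod n)) :=
        zpowers_le.mpr ⟨(j.val : ℤ), by simp⟩
      rw [Subgroup.eq_of_le_of_card_ge hle
        (by rw [Nat.card_zpowers, Nat.card_zpowers, hj, DihedralGroup.orderOf_r_one])]
      exact ⟨(i.val : ℤ), by simp⟩
    obtain ⟨t, ht⟩ := hgen
    have : (⟨x, hxD⟩ : D) = ⟨c, hCD c.2⟩ ^ t := e.injective (by rw [map_zpow, hec, hx, ← ht])
    have h2 : x = (c : G) ^ t := congrArg Subtype.val this
    exact h2 ▸ C.zpow_mem c.2 t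
  · rw [hec, DihedralGroup.orderOf_sr] at hj
    exact absurd hj.symm hn2

/-- A consequence of Thompson's transfer lemma. Let G be a finite group, L a subgroup with O²(L) = L, T a Sylow 2-subgroup of L and S a Sylow 2-subgroup of G containing T. Suppose D ≤ S is a dihedral subgroup of order at least 4 (the four-group counts) with D ∩ T = 1 and S = TD as a set of products (so |S| = |T|·|D|), and C ≤ D is cyclic of index 2 in D. If no involution of D outside C is G-conjugate to an involution of the subgroup generated by T and C, and the involution of C is not G-conjugate to any involution of T, then G has a normal subgroup K, containing every Sylow 2-subgroup of L as a Sylow 2-subgroup, with G = KD. -/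
theorem result {G : Type*} [Group G] [Finite G] (L T S D C : Subgroup G) (hL : Cfsg.pResidual 2 ↥L = ⊤)
    (hTL : T ≤ L) (hT2 : IsPGroup 2 T) (hTsyl : ¬ 2 ∣ T.relIndex L)
    (hS2 : IsPGroup 2 S) (hSsyl : ¬ 2 ∣ S.index) (hTS : T ≤ S)
    (hDS : D ≤ S) (hDih : ∃ n : ℕ, 2 ≤ n ∧ Nonempty (↥D ≃* DihedralGroup n)) (hDT : D ⊓ T = ⊥) (hTD : T ⊔ D = S) (hTDc : Nat.card T * Nat.card D = Nat.card S)
    (hCD : C ≤ D) (hC : IsCyclic ↥C) (hCi : C.relIndex D = 2)
    (h1 : ∀ x ∈ D, x ∉ C → orderOf x = 2 → ∀ g : G, g * x * g⁻¹ ∈ T ⊔ C → False)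
    (h2 : ∀ c ∈ C, orderOf c = 2 → ∀ g : G, g * c * g⁻¹ ∈ T → False) :
    ∃ K : Subgroup G, K.Normal ∧ K ⊔ D = ⊤ ∧
      ∀ T' : Subgroup G, T' ≤ L → IsPGroup 2 T' → ¬ 2 ∣ T'.relIndex L → T' ≤ K ∧ ¬ 2 ∣ T'.relIndex K := by
  classical
  have hinv := exists_involution_compl hCD hDih hC hCi
  obtain ⟨n, hn, ⟨e⟩⟩ := hDih
  haveI : NeZero n := ⟨by omega⟩
  have hcD : Nat.card D = 2 * n := by rw [Nat.card_congr e.toEquiv, DihedralGroup.nat_card]
  have hcC : Nat.card C = n := by
    have h := relIndex_mul_relIndex ⊥ C D bot_le hCD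
    rw [relIndex_bot_left, relIndex_bot_left, hCi, hcD] at h
    omega
  have hTD' : ∀ s ∈ S, ∃ t ∈ T, ∃ d ∈ D, s = t * d := by
    intro s hs
    let f : T × D → S := fun td => ⟨td.1.1 * td.2.1, S.mul_mem (hTS td.1.2) (hDS td.2.2)⟩
    have hf : Function.Injective f := fun a b h => mul_injective_of_disjoint
      (disjoint_iff.mpr ((inf_comm T D).trans hDT)) (congrArg Subtype.val h)
    obtain ⟨⟨t, d⟩, htd⟩ := ((Nat.bijective_iff_injective_and_card f).mpr
      ⟨hf, by rw [Nat.card_prod, hTDc]⟩).2 ⟨s, hs⟩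
    exact ⟨t, t.2, d, d.2, (congrArg Subtype.val htd).symm⟩
  have hS : ∃ P : Sylow 2 G, (P : Subgroup G) = S := ⟨hS2.toSylow hSsyl, rfl⟩
  set M := T ⊔ C with hM
  have hMS : M ≤ S := sup_le hTS (hCD.trans hDS)
  have hDM : ∀ d ∈ D, d ∈ M → d ∈ C := by
    intro d hd hdM
    by_contra hdC
    exact h1 d hd hdC (hinv d hd hdC) 1 (by simpa using hdM)
  obtain ⟨x, hxD, hxC⟩ : ∃ x ∈ D, x ∉ C := by
    by_contra! h
    rw [relIndex_eq_one.mpr h] at hCi
    exact absurd hCi (by norm_num)
  -- the first step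
  have hMc : Nat.card M = Nat.card T * n := by
    let f : T × C → M := fun td => ⟨td.1.1 * td.2.1, M.mul_mem (mem_sup_left td.1.2) (mem_sup_right td.2.2)⟩
    have hf : Function.Bijective f := by
      refine ⟨fun a b h => ?_, fun m => ?_⟩
      · obtain ⟨h3, h4⟩ := Prod.ext_iff.mp (mul_injective_of_disjoint
          (disjoint_iff.mpr ((inf_comm T D).trans hDT))
          (a₁ := (a.1, (⟨a.2.1, hCD a.2.2⟩ : D))) (a₂ := (b.1, (⟨b.2.1, hCD b.2.2⟩ : D)))
          (congrArg Subtype.val h))
        have h4' : ((a.2 : C) : G) = ((b.2 : C) : G) := congrArg (fun d : D => (d : G)) h4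
        exact Prod.ext h3 (Subtype.ext h4')
      · obtain ⟨t, ht, d, hd, htd⟩ := hTD' m (hMS m.2)
        have hdM : d ∈ M := by
          have h := M.mul_mem (M.inv_mem (mem_sup_left ht)) m.2
          rwa [htd, inv_mul_cancel_left] at h
        exact ⟨(⟨t, ht⟩, ⟨d, hDM d hd hdM⟩), Subtype.ext htd.symm⟩
    rw [← Nat.card_congr (Equiv.ofBijective f hf), Nat.card_prod, hcC]
  have hodd : Odd S.index := Nat.not_even_iff_odd.mp fun h => hSsyl (even_iff_two_dvd.mp h)
  have hMidx : M.index = 2 * S.index := by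
    have h3 := Subgroup.card_mul_index M
    rw [← Subgroup.card_mul_index S, ← hTDc, hcD, hMc] at h3
    have h4 : Nat.card T * n * M.index = Nat.card T * n * (2 * S.index) := by rw [h3]; ring
    exact Nat.eq_of_mul_eq_mul_left (Nat.mul_pos Nat.card_pos (by omega)) h4
  set K := Cfsg.pResidual 2 G with hKdef
  have hLK : L ≤ K := by
    have := Fusion.pResidual_subgroup_le (p := 2) L
    rwa [hL, ← MonoidHom.range_eq_map, range_subtype] at this
  have hTK : T ≤ K := hTL.trans hLK
  have hout : ∀ y ∈ D, y ∉ C → (signKer M).index = 2 ∧ y ∉ signKer M := by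
    intro y hy hyC
    have ho := hinv y hy hyC
    exact signKer_spec M y (n := 2) even_two one_lt_two
      (ho ▸ pow_orderOf_eq_one y) hMidx hodd (fun j h0 hj g => by
        obtain rfl : j = 1 := by omega
        rw [pow_one]; exact fun h => h1 y hy hyC ho g h)
  have hxK : ∀ y ∈ D, y ∉ C → y ∉ K := fun y hy hyC h =>
    (hout y hy hyC).2 (pResidual_le_signKer M h)
  obtain ⟨r, hr⟩ := hC.exists_ofOrder_eq_natCard
  rw [hcC] at hr
  obtain ⟨m, rfl⟩ : ∃ m, n = 2 ^ (m + 1) := by
    obtain ⟨j, hj⟩ := IsPGroup.iff_card.mp (hS2.to_le (hCD.trans hDS))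
    rw [hcC] at hj
    rcases j with _ | j
    · omega
    · exact ⟨j, hj⟩
  have hr' : orderOf (r : G) = 2 ^ (m + 1) := by rw [Subgroup.orderOf_coe, hr]
  have hTidx : T.index = 2 ^ (m + 1) * (4 * S.index / 2) := by
    rw [show 4 * S.index / 2 = 2 * S.index by omega]
    have h3 := Subgroup.card_mul_index T
    rw [← Subgroup.card_mul_index S, ← hTDc, hcD] at h3
    have h4 : Nat.card T * T.index = Nat.card T * (2 ^ (m + 1) * (2 * S.index)) := by rw [h3]; ring
    exact Nat.eq_of_mul_eq_mul_left Nat.card_pos h4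
  have hcK : (r : G) ^ 2 ^ m ∉ K := by
    obtain ⟨hidx', hxG⟩ := hout x hxD hxC
    set G' := signKer M with hG'
    have hle := pResidual_le_signKer M
    have hrG : (r : G) ∈ G' := by
      by_contra hrG
      have hxr : x * (r : G) ∈ D := D.mul_mem hxD (hCD r.2)
      have hxrC : x * (r : G) ∉ C := fun h => hxC (by simpa using C.mul_mem h (C.inv_mem r.2))
      exact (hout _ hxr hxrC).2 ((Subgroup.mul_mem_iff_of_index_two hidx').mpr
        ⟨fun h => absurd h hxG, fun h => absurd h hrG⟩)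
    have hTG : T ≤ G' := hTK.trans hle
    have hres : K ≤ (Cfsg.pResidual 2 G').map G'.subtype :=
      Fusion.pResidual_le.mpr fun g hg =>
        Fusion.mem_pResidual_subgroup (hle (Fusion.mem_pResidual hg)) hg
    have key := pow_notMem_pResidual m (T.subgroupOf G') ⟨r, hrG⟩ (k := S.index)
      (Subtype.ext (by push_cast; rw [← hr', pow_orderOf_eq_one]))
      (by
        have h := relIndex_mul_index hTG
        rw [hTidx, hidx', show 4 * S.index / 2 = 2 * S.index by omega, relIndex] at h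
        linarith) hodd
      (fun t ht => by
        obtain ⟨u, hu, hut⟩ := hres (hTK (mem_subgroupOf.mp ht))
        rwa [← G'.subtype_injective hut])
      (fun g hg => by
        have h6 := mem_subgroupOf.mp hg
        push_cast at h6
        refine h2 _ (C.pow_mem r.2 _) ?_ g h6
        rw [orderOf_pow_of_dvd (by positivity) (hr' ▸ pow_dvd_pow 2 (Nat.le_succ m)), hr',
          pow_succ, Nat.mul_div_cancel_left _ (by positivity)])
    intro h
    obtain ⟨u, hu, hur⟩ := hres h
    have hue : (⟨r, hrG⟩ : G') ^ 2 ^ m = u := Subtype.ext (by push_cast; exact hur.symm)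
    exact key (hue ▸ hu)
  have hDK : ∀ d ∈ D, d ∈ K → d = 1 := by
    intro d hd hdK
    by_contra hne
    have hdC : d ∈ C := by
      by_contra h
      exact hxK d hd h hdK
    apply hcK
    obtain ⟨a, ha⟩ := (IsPGroup.iff_orderOf.mp (hS2.to_le (hCD.trans hDS))) ⟨d, hdC⟩
    rw [Subgroup.orderOf_mk] at ha
    rcases a with _ | a
    · exact absurd (orderOf_eq_one_iff.mp (by simpa using ha)) hne
    have ho2 : orderOf (⟨d ^ 2 ^ a, C.pow_mem hdC _⟩ : C) = orderOf (r ^ 2 ^ m) := by
      rw [Subgroup.orderOf_mk, orderOf_pow_of_dvd (by positivity) (ha ▸ pow_dvd_pow 2 (Nat.le_succ a)),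
        ha, ← Subgroup.orderOf_coe (r ^ 2 ^ m), SubgroupClass.coe_pow,
        orderOf_pow_of_dvd (by positivity) (hr' ▸ pow_dvd_pow 2 (Nat.le_succ m)), hr',
        Nat.pow_div (Nat.le_succ a) (by norm_num), Nat.pow_div (Nat.le_succ m) (by norm_num)]
      simp
    haveI : IsCyclic C := hC
    haveI : Fintype C := Fintype.ofFinite _
    set u : C := ⟨d ^ 2 ^ a, C.pow_mem hdC _⟩ with hu
    have hv2 : orderOf (r ^ 2 ^ m) = 2 := by
      rw [orderOf_pow_of_dvd (by positivity) (hr ▸ pow_dvd_pow 2 (Nat.le_succ m)), hr,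
        Nat.pow_div (Nat.le_succ m) (by norm_num)]
      simp
    have huv : u = r ^ 2 ^ m := by
      by_contra hne'
      have h8 := IsCyclic.card_pow_eq_one_le (α := C) (n := 2) two_pos
      have h9 : ({1, u, r ^ 2 ^ m} : Finset C) ⊆ Finset.univ.filter (fun x => x ^ 2 = 1) := by
        intro y hy
        simp only [Finset.mem_insert, Finset.mem_singleton] at hy
        refine Finset.mem_filter.mpr ⟨Finset.mem_univ _, ?_⟩
        rcases hy with rfl | rfl | rfl
        · exact one_pow 2
        · exact (ho2.trans hv2) ▸ pow_orderOf_eq_one u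
        · exact (congrArg ((r ^ 2 ^ m) ^ ·) hv2.symm).trans (pow_orderOf_eq_one _)
      have h10 := (Finset.card_le_card h9).trans h8
      have hu1 : (1 : C) ≠ u := fun h => by simp [← h, hv2] at ho2
      have hv1 : (1 : C) ≠ r ^ 2 ^ m := fun h => by simp [← h] at hv2
      rw [Finset.card_insert_of_notMem (by simp [hu1, hv1]), Finset.card_pair hne'] at h10
      omega
    have ht' : d ^ 2 ^ a = (r : G) ^ 2 ^ m := congrArg Subtype.val huv
    exact ht' ▸ K.pow_mem hdK _
  have hSK : S ⊓ K = T := by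
    refine le_antisymm (fun s hs => ?_) (le_inf hTS hTK)
    obtain ⟨t, ht, d, hd, rfl⟩ := hTD' s hs.1
    have hdK : d ∈ K := by
      have h := K.mul_mem (K.inv_mem (hTK ht)) hs.2
      rwa [inv_mul_cancel_left] at h
    rw [hDK d hd hdK, mul_one]
    exact ht
  obtain ⟨P, rfl⟩ := hS
  refine ⟨K, inferInstance, ?_, fun T' hT'L hT'2 hT'syl => ?_⟩
  · refine top_le_iff.mp ((Fusion.sylow_sup_pResidual P).ge.trans (sup_le ?_ le_sup_left))
    rw [← hTD]
    exact sup_le (hTK.trans le_sup_left) le_sup_right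
  · have hT : H48.IsSylowIn 2 T K := hSK ▸ H48.isSylowIn_inf_normal P K
    have hTL' : H48.IsSylowIn 2 T L := ⟨hTL, hT2, hTsyl⟩
    have hT'L' : H48.IsSylowIn 2 T' L := ⟨hT'L, hT'2, hT'syl⟩
    obtain ⟨g, -, hg⟩ := hTL'.exists_conj hT'L'
    refine ⟨hT'L.trans hLK, (hT.of_card (hT'L.trans hLK) hT'2 ?_).ndvd⟩
    rw [← hg, H48.card_cj]

end Cfsg.Agent.S1924
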