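import Cfsg.Statements.S3041
import Cfsg.Agent.H24.Flav.Cases
import Cfsg.Agent.H24.Flav.Reduce
import Cfsg.Agent.H24.Flav.Finish
import Cfsg.Agent.H24.Fpf.Rep

set_option autoImplicit false
open Cfsg

namespace Cfsg.Agent.S3041

open Cfsg.Agent.H8.Shult Cfsg.Agent.H24.Flav
open scoped commutatorElement

/-- A fixed-point result of Shult type. Let X be a finite group with a normal subgroup G and a subgroup R of prime order r not dividing |G| such that X = GR, and let ρ be a faithful irreducible representation of X on a nonzero finite-dimensional vector space V over a field of prime characteristic in which R has no nonzero fixed vector. Then either [G, R] = 1, or r has the form 2^m + 1 and [G, R] is a non-abelian special 2-group. -/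
theorem result {X : Type*} [Group X] [Finite X] (G R : Subgroup X) [G.Normal] (hX : G ⊔ R = ⊤) (r : ℕ) (hr : r.Prime)
    (hR : Nat.card R = r) (hcop : ¬ r ∣ Nat.card G)
    {k : Type*} [Field k] {p : ℕ} [Fact p.Prime] [CharP k p] {V : Type*} [AddCommGroup V] [Module k V] [FiniteDimensional k V] [Nontrivial V]
    (ρ : Representation k X V) (hfaith : Function.Injective ρ)
    (hirr : ∀ W : Submodule k V, (∀ x : X, W.map (ρ x) ≤ W) → W = ⊥ ∨ W = ⊤)
    (hfix : ∀ v : V, (∀ x ∈ R, ρ x v = v) → v = 0) :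
    ⁅G, R⁆ = ⊥ ∨ ((∃ m : ℕ, r = 2 ^ m + 1) ∧ ¬ IsMulCommutative ↥⁅G, R⁆ ∧ Cfsg.IsSpecial 2 ↥⁅G, R⁆) := by
  classical
  have hrF : Fact r.Prime := ⟨hr⟩
  have hp : p.Prime := Fact.out
  obtain ⟨⟨x₀, hx₀⟩, hgen⟩ := (isCyclic_of_prime_card hR).exists_generator
  have hRz : R = Subgroup.zpowers x₀ := by
    refine le_antisymm (fun y hy => ?_) (Subgroup.zpowers_le.mpr hx₀)
    obtain ⟨i, hi⟩ := Subgroup.mem_zpowers_iff.mp (hgen ⟨y, hy⟩)
    exact ⟨i, congrArg Subtype.val hi⟩
  have hx₀r : x₀ ^ r = 1 := by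
    have h : (⟨x₀, hx₀⟩ : R) ^ Nat.card R = 1 := pow_card_eq_one'
    rw [hR] at h
    exact congrArg Subtype.val h
  let a : MulAut G := MulAut.conjNormal x₀
  have ha : Coprimely a r := ⟨hr, by rw [show a ^ r = MulAut.conjNormal (x₀ ^ r) from (map_pow _ _ _).symm,
    hx₀r, map_one], hcop⟩
  let ρG : G →* Module.End k V := MonoidHom.comp ρ G.subtype
  let T : Module.End k V := ρ x₀
  have hinj : Function.Injective ρG := hfaith.comp G.subtype_injective
  have hTfix : ∀ v, T v = v → v = 0 := fun v hv => hfix v fun x hx => by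
    let S : Subgroup X :=
      { carrier := {g | ρ g v = v}
        one_mem' := by show ρ 1 v = v; rw [map_one]; rfl
        mul_mem' := fun {g h} hg hh => by
          show ρ (g * h) v = v
          rw [map_mul, Module.End.mul_apply, show ρ h v = v from hh, show ρ g v = v from hg]
        inv_mem' := fun {g} hg => by
          show ρ g⁻¹ v = v
          nth_rewrite 1 [← show ρ g v = v from hg]
          rw [← Module.End.mul_apply, ← map_mul, inv_mul_cancel, map_one]; rfl }
    exact (hRz ▸ (Subgroup.zpowers_le.mpr (show x₀ ∈ S from hv))) hx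
  have hTr : T ^ r = 1 := by rw [← map_pow, hx₀r, map_one]
  have hRD : RepData a r ρG T := H24.Fpf.repData_of_fpf (fun g => by
    show ρ x₀ * ρ (g : X) = ρ ((a g : G) : X) * ρ x₀
    rw [← map_mul, ← map_mul, MulAut.conjNormal_apply, inv_mul_cancel_right]) hTr hTfix
  have hrk : (r : k) ≠ 0 := by
    intro h
    obtain rfl : r = p := ((Nat.prime_dvd_prime_iff_eq hp hr).mp ((CharP.cast_eq_zero_iff k p r).mp h)).symm
    have : CharP (Module.End k V) r :=
      charP_of_injective_algebraMap (algebraMap k (Module.End k V)).injective r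
    have h1 : (T - 1) ^ r = 0 := by
      rw [sub_pow_char_of_commute (p := r) (Commute.one_right T), one_pow, hTr, sub_self]
    have h2 : ∀ (n : ℕ) (v : V), ((T - 1) ^ n) v = 0 → v = 0 := by
      intro n
      induction n with
      | zero => intro v hv; simpa using hv
      | succ n ih =>
        intro v hv
        rw [pow_succ, Module.End.mul_apply] at hv
        exact hTfix v (sub_eq_zero.mp (ih _ hv))
    obtain ⟨v, hv⟩ := exists_ne (0 : V)
    exact hv (h2 r v (by rw [h1, LinearMap.zero_apply]))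
  -- the commutator subgroup
  set U := disp a (⊤ : Subgroup G) with hU
  have hGR : ⁅G, R⁆ = U.map G.subtype := by
    refine le_antisymm (Subgroup.commutator_le.mpr fun g hg y hy => ?_) ?_
    · rw [hRz] at hy
      obtain ⟨i, rfl⟩ := mem_powers_iff_mem_zpowers.mpr hy
      have key : ∀ (i : ℕ) (h : G), h⁻¹ * (a ^ i) h ∈ U := by
        intro i
        induction i with
        | zero => intro h; simp
        | succ i ih =>
          intro h
          have := mul_mem (mem_disp (a := a) (Subgroup.mem_top h)) (ih (a h))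
          rwa [mul_assoc, mul_inv_cancel_left, ← MulAut.mul_apply, ← pow_succ] at this
      refine ⟨_, key i ⟨g⁻¹, inv_mem hg⟩, ?_⟩
      show (g⁻¹)⁻¹ * (((a ^ i) ⟨g⁻¹, inv_mem hg⟩ : G) : X) = ⁅g, x₀ ^ i⁆
      rw [show a ^ i = MulAut.conjNormal (x₀ ^ i) from (map_pow _ _ _).symm, MulAut.conjNormal_apply,
        commutatorElement_def, inv_inv]
      group
    · rw [Subgroup.map_le_iff_le_comap, hU, disp, Subgroup.closure_le]
      rintro _ ⟨h, -, rfl⟩
      show (((h⁻¹ * a h : G)) : X) ∈ ⁅G, R⁆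
      rw [Subgroup.coe_mul, MulAut.conjNormal_apply, show ((h⁻¹ : G) : X) * (x₀ * (h : X) * x₀⁻¹) =
        ⁅((h⁻¹ : G) : X), x₀⁆ by simp [commutatorElement_def, mul_assoc]]
      exact Subgroup.commutator_mem_commutator (h⁻¹).2 hx₀
  -- invariant normal `p`-subgroups are trivial
  have htriv : ∀ P : Subgroup G, P.Normal → Inv a P → IsPGroup p P → P = ⊥ := by
    intro P hPn hPa hPp
    let N := P.map G.subtype
    have hN : N.Normal := by
      refine Subgroup.normalizer_eq_top_iff.mp (top_le_iff.mp (hX ▸ sup_le ?_ ?_))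
      · refine Subgroup.le_normalizer_iff.mpr fun g hg x hx => ?_
        obtain ⟨y, hy, rfl⟩ := hx
        exact ⟨⟨g, hg⟩ * y * ⟨g, hg⟩⁻¹, hPn.conj_mem y hy _, rfl⟩
      · rw [hRz, Subgroup.zpowers_le]
        refine Coprime.mem_normalizer_of_map_conj (Subgroup.eq_of_le_of_card_ge ?_
          (Coprime.card_map_conj x₀ N).ge)
        rintro _ ⟨_, ⟨y, hy, rfl⟩, rfl⟩
        exact ⟨a y, hPa y hy, by simp [a, MulAut.conjNormal_apply]⟩
    let S : Submodule k V := ⨅ n : N, LinearMap.ker (ρ n - 1)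
    have hmem : ∀ v, v ∈ S ↔ ∀ n ∈ N, ρ n v = v := fun v => by
      simp [S, Submodule.mem_iInf, sub_eq_zero]
    obtain ⟨v, hv⟩ := exists_ne (0 : V)
    obtain ⟨w, hw0, hw⟩ := exists_fixed_of_pGroup hPp (ρG.comp P.subtype) hv
    have hwS : w ∈ S := (hmem w).mpr fun n hn => by
      obtain ⟨y, hy, rfl⟩ := hn
      exact hw ⟨y, hy⟩
    rcases hirr S (fun x => by
      rintro _ ⟨u, hu, rfl⟩
      refine (hmem _).mpr fun n hn => ?_
      rw [← Module.End.mul_apply, ← map_mul, show n * x = x * (x⁻¹ * n * x) by group, map_mul,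
        Module.End.mul_apply, (hmem u).mp hu _ (by simpa using hN.conj_mem n hn x⁻¹)]) with h | h
    · exact absurd ((Submodule.mem_bot k).mp (h ▸ hwS)) hw0
    · refine (Subgroup.eq_bot_iff_forall _).mpr fun y hy => hinj ?_
      rw [map_one]
      exact LinearMap.ext fun u => (hmem u).mp (h ▸ Submodule.mem_top) _ ⟨y, hy, rfl⟩
  have hUn : U.Normal := disp_top_normal
  have hUa : Inv a U := inv_disp inv_top
  have hdU : disp a U = U := ha.disp_disp inv_top
  have h2F : Fact (Nat.Prime 2) := ⟨Nat.prime_two⟩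
  by_cases hp2 : p = 2
  · subst hp2
    obtain ⟨S, hS⟩ := ha.exists_inv_sylow 2
    have hle : U ≤ (S : Subgroup G) := ha.disp_top_le hS fun l hl Q hQS hQl hQa hmax Q' hQQ' hQ'a => by
      have : Fact l.Prime := ⟨hl⟩
      by_cases hl2 : l = 2
      · subst hl2
        have hQ : Q = (S : Subgroup G) := Subgroup.eq_of_le_of_card_ge hQS (hmax _ le_rfl S.2)
        have hQ' : (Q' : Subgroup G) = (S : Subgroup G) := by
          refine (Subgroup.eq_of_le_of_card_ge (hQ ▸ hQQ') ?_).symm
          rw [Q'.card_eq_multiplicity, S.card_eq_multiplicity]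
        exact (disp_le hQ'a).trans hQ'.le
      · rw [disp_eq_bot_iff.mpr (H24.Fpf.le_fixedBy_of_qgroup hRD ha hinj hrk hl hl2 (fun h => hl2
          ((Nat.prime_dvd_prime_iff_eq hp hl).mp ((CharP.cast_eq_zero_iff k 2 l).mp h)).symm) Q'.2 hQ'a)]
        exact bot_le
    left
    rw [hGR, htriv U hUn hUa (S.2.to_le hle), Subgroup.map_bot]
  -- `U` is a `2`-group
  let K := AlgebraicClosure k
  have : CharP K p := charP_of_injective_algebraMap (algebraMap k K).injective p
  let ρK := H24.Fpf.baseRep k K ρG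
  let TK : Module.End K (TensorProduct k K V) := Module.End.baseChangeHom k K V T
  have hRK : RepData a r ρK TK := H24.Fpf.repData_baseChange K hRD
  have hinjK : Function.Injective ρK := H24.Fpf.baseRep_injective K hinj
  have hrp : r ≠ p := fun h => hrk ((CharP.cast_eq_zero_iff k p r).mpr h.symm.dvd)
  obtain ⟨P, -, hP, hPa, hPn, htwo⟩ := ptwo_of_no_cfg hp2 hrp
    (fun H _ _ b W _ _ _ σ S M => M.false) _ _ G a rfl ha _ ρK TK rfl hRK hinjK
  have hPbot := htriv P (Subgroup.normalizer_eq_top_iff.mp (top_le_iff.mp hPn)) hPa hP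
  have hU2 : IsPGroup 2 U := fun x => by
    obtain ⟨j, hj⟩ := htwo x x.2
    exact ⟨j, Subtype.ext (Subgroup.mem_bot.mp (hPbot ▸ hj))⟩
  by_cases hU0 : U = ⊥
  · left
    rw [hGR, hU0, Subgroup.map_bot]
  right
  have h2K : (2 : K) ≠ 0 := fun h => hp2
    ((Nat.prime_dvd_prime_iff_eq hp Nat.prime_two).mp ((CharP.cast_eq_zero_iff K p 2).mp (by exact_mod_cast h)))
  have hrK : (r : K) ≠ 0 := fun h => hrp
    ((Nat.prime_dvd_prime_iff_eq hp hr).mp ((CharP.cast_eq_zero_iff K p r).mp h)).symm
  have hsp := hRK.special2 ha h2K hinjK hU2 hUa hdU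
  rw [hGR]
  refine ⟨exists_fermat_of_special hRK ha h2K hrK hinjK hU2 hUa hdU hU0, fun hc => ?_,
    isSpecial_congr (Subgroup.equivMapOfInjective U _ G.subtype_injective) (isSpecial_of_special2 hU2 hsp)⟩
  obtain ⟨u, hu, v, hv, huv⟩ := exists_commutator_ne hRK ha h2K hinjK hU2 hUa hdU hU0
  refine huv (commutatorElement_eq_one_iff_mul_comm.mpr (Subtype.ext ?_))
  have h := hc.is_comm.comm (⟨(u : X), ⟨u, hu, rfl⟩⟩ : U.map G.subtype) ⟨(v : X), ⟨v, hv, rfl⟩⟩
  exact congrArg (fun z : U.map G.subtype => (z : X)) h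

end Cfsg.Agent.S3041
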