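import Cfsg.Statements.S1930
import Cfsg.Agent.H63.Flavell.Outer
import Cfsg.Agent.S1265

set_option autoImplicit false
open Cfsg

namespace Cfsg.Agent.S1930

/-- Inside a finite group let G be a nontrivial subgroup and R an r-subgroup (r a prime) normalizing G, with the order of G prime to r. Let p > 3 be a prime with F*(G) = O_p(G), and let P be the intersection of all R-invariant Sylow p-subgroups of G. Then P has a nontrivial characteristic subgroup that is normalized by G. -/
theorem result {X : Type*} [Group X] [Finite X] (G R : Subgroup X) (r : ℕ) [Fact r.Prime] (hR : IsPGroup r ↥R) (hcop : (Nat.card ↥G).Coprime r) (hnorm : R ≤ Subgroup.normalizer (G : Set X)) (hG : G ≠ ⊥) (p : ℕ) [Fact p.Prime] (hp : 3 < p) (hF : Cfsg.generalizedFittingSubgroup ↥G = Cfsg.pCore p ↥G) (P : Subgroup X) (hP : P = ⨅ S : {S : Sylow p ↥G // ∀ a ∈ R, ((S : Subgroup ↥G).map G.subtype).map (MulAut.conj a).toMonoidHom = (S : Subgroup ↥G).map G.subtype}, ((S : Sylow p ↥G) : Subgroup ↥G).map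 G.subtype) : ∃ C : Subgroup ↥P, C.Characteristic ∧ C ≠ ⊥ ∧ G ≤ Subgroup.normalizer ((C.map P.subtype : Subgroup X) : Set X) := by
  classical
  have hp5 : 5 ≤ p := by
    have hpp := (Fact.out : p.Prime)
    rcases Nat.lt_or_ge p 5 with h | h
    · interval_cases p; norm_num at hpp
    · exact h
  have hsolvR : Group.IsSolvable ↥R := by
    haveI : Group.IsNilpotent ↥R := hR.isNilpotent
    infer_instance
  have hcop' : (Nat.card ↥R).Coprime (Nat.card ↥G) := by
    obtain ⟨k, hk⟩ := IsPGroup.iff_card.mp hR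
    rw [hk]; exact hcop.symm.pow_left k
  set H := G ⊔ R with hH
  have hGH : G ≤ H := le_sup_left
  have hRH : R ≤ H := le_sup_right
  set N : Subgroup ↥H := G.subgroupOf H with hN
  set B : Subgroup ↥H := R.subgroupOf H with hB
  set O : Subgroup X := H70.Wielandt.opIn p G with hO
  set T : Subgroup ↥H := O.subgroupOf H with hT
  have hHG : H ≤ Subgroup.normalizer (G : Set X) := sup_le Subgroup.le_normalizer hnorm
  have hHO : H ≤ Subgroup.normalizer (O : Set X) := H63.Flavell.le_normalizer_opIn_of hHG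
  haveI hNn : N.Normal := Subgroup.normal_subgroupOf_of_le_normalizer hHG
  haveI hTn : T.Normal := Subgroup.normal_subgroupOf_of_le_normalizer hHO
  have hOG : O ≤ G := H70.Wielandt.opIn_le p G
  have hNB : N ⊔ B = ⊤ := by
    rw [hN, hB, ← Subgroup.subgroupOf_sup hGH hRH, Subgroup.subgroupOf_self]
  have hcN : Nat.card ↥N = Nat.card ↥G := Nat.card_congr (Subgroup.subgroupOfEquivOfLe hGH).toEquiv
  have hcB : Nat.card ↥B = Nat.card ↥R := Nat.card_congr (Subgroup.subgroupOfEquivOfLe hRH).toEquiv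
  have hsolvB : Group.IsSolvable ↥B :=
    Group.isSolvable_of_isSolvable_injective (f := (Subgroup.subgroupOfEquivOfLe hRH).toMonoidHom)
      (Subgroup.subgroupOfEquivOfLe hRH).injective
  -- `C_G(O_p(G)) ≤ O_p(G)`
  have hCO : ∀ x ∈ G, (∀ t ∈ O, t * x = x * t) → x ∈ O := by
    intro x hx h
    have hmem : (⟨x, hx⟩ : ↥G) ∈ Subgroup.centralizer
        (Cfsg.generalizedFittingSubgroup ↥G : Set ↥G) := by
      rw [hF]
      exact Subgroup.mem_centralizer_iff.mpr fun t ht => Subtype.ext (h _ ⟨t, ht, rfl⟩)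
    have hmem' := Cfsg.Agent.S1265.result hmem
    rw [hF] at hmem'
    exact ⟨_, hmem', rfl⟩
  have hOne : O ≠ ⊥ := fun e => hG <| (Subgroup.eq_bot_iff_forall G).mpr fun x hx => by
    have := hCO x hx (by rw [e]; intro t ht; rw [Subgroup.mem_bot.mp ht]; simp)
    rwa [e, Subgroup.mem_bot] at this
  have hpr : p ≠ r := by
    rintro rfl
    apply hOne
    obtain ⟨k, hk⟩ := IsPGroup.iff_card.mp (H70.Wielandt.isPGroup_opIn (p := p) G)
    have hd : Nat.card ↥O ∣ Nat.card ↥G := Subgroup.card_dvd_of_le hOG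
    exact Subgroup.card_eq_one.mp
      (Nat.eq_one_of_dvd_coprimes (hcop.pow_right k) hd (hk ▸ dvd_rfl))
  -- the invariant Sylow subgroups
  have hne : ∀ U : Subgroup ↥H, H40.IsSylowOf p U N → B ≤ Subgroup.normalizer (U : Set ↥H) →
      ∃ S : {S : Sylow p ↥G // ∀ a ∈ R, ((S : Subgroup ↥G).map G.subtype).map (MulAut.conj a).toMonoidHom =
        (S : Subgroup ↥G).map G.subtype}, ((S : Sylow p ↥G) : Subgroup ↥G).map G.subtype = U.map H.subtype := by
    intro U hU hBU
    have h1 := H63.Flavell.sylowOf_map_hom H.subtype hU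
    rw [hN, Subgroup.map_subgroupOf_eq_of_le hGH] at h1
    let S : Sylow p ↥G := Sylow.ofCard ((U.map H.subtype).subgroupOf G)
      (by rw [Nat.card_congr (Subgroup.subgroupOfEquivOfLe h1.1).toEquiv]; exact h1.2.2)
    have e : (S : Subgroup ↥G).map G.subtype = U.map H.subtype := Subgroup.map_subgroupOf_eq_of_le h1.1
    refine ⟨⟨S, fun a ha => ?_⟩, e⟩
    have hc : (MulAut.conj a).toMonoidHom.comp H.subtype =
        H.subtype.comp (MulAut.conj (⟨a, hRH ha⟩ : ↥H)).toMonoidHom := rfl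
    rw [e, Subgroup.map_map, hc, ← Subgroup.map_map, Coprime.map_conj_eq (hBU (show (⟨a, hRH ha⟩ : ↥H) ∈ B from ha))]
  obtain ⟨U₀, hU₀, hBU₀⟩ := H63.Flavell.exists_inv_sylow (p := p) (K := N) (A := B)
    (by rw [Subgroup.normalizer_eq_top]; exact le_top) (by rw [hcB, hcN]; exact hcop') hsolvB
  obtain ⟨S₀, hS₀⟩ := hne U₀ hU₀ hBU₀
  have hPS₀ : P ≤ ((S₀ : Sylow p ↥G) : Subgroup ↥G).map G.subtype := hP ▸ iInf_le _ S₀
  have hPG : P ≤ G := hPS₀.trans (Subgroup.map_subtype_le _)
  have hPH : P ≤ H := hPG.trans hGH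
  have hPp : IsPGroup p ↥P := ((S₀ : Sylow p ↥G).isPGroup'.map G.subtype).to_le hPS₀
  have hOP : O ≤ P := by
    rw [hP]
    exact le_iInf fun S => Subgroup.map_mono (Cores.pCore_le_sylow _)
  have hTmax : ∀ M : Subgroup ↥H, M.Normal → IsPGroup p ↥M → M ≤ T := by
    intro M hMn hMp
    have hMN : M ≤ N := by
      have e1 : (⊤ : Subgroup ↥H).map (QuotientGroup.mk' N) = B.map (QuotientGroup.mk' N) := by
        rw [← hNB, Subgroup.map_sup, (Subgroup.map_eq_bot_iff N).mpr (QuotientGroup.ker_mk' N).ge, bot_sup_eq]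
      have hr : IsPGroup r ↥(B.map (QuotientGroup.mk' N)) :=
        (hR.comap_of_injective H.subtype H.subtype_injective).map _
      have hd := IsPGroup.disjoint_of_ne p r hpr _ _ (hMp.map (QuotientGroup.mk' N)) hr
      have : M.map (QuotientGroup.mk' N) = ⊥ :=
        le_bot_iff.mp (hd le_rfl ((Subgroup.map_mono le_top).trans e1.le))
      rwa [Subgroup.map_eq_bot_iff, QuotientGroup.ker_mk'] at this
    have hle : M.map H.subtype ≤ O := by
      refine H70.Wielandt.le_opIn_of_normalized ?_ (fun x hx => ?_) (hMp.map _)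
      · rintro _ ⟨x, hx, rfl⟩; exact hMN hx
      · refine Coprime.mem_normalizer_of_map_conj ?_
        have hc : (MulAut.conj x).toMonoidHom.comp H.subtype =
            H.subtype.comp (MulAut.conj (⟨x, hGH hx⟩ : ↥H)).toMonoidHom := rfl
        rw [Subgroup.map_map, hc, ← Subgroup.map_map, Coprime.map_conj_eq
          (by rw [Subgroup.normalizer_eq_top]; exact Subgroup.mem_top _)]
    exact fun x hx => hle ⟨x, hx, rfl⟩
  have key := H63.Flavell.kInf_normal hp5 N B T (P.subgroupOf H) hNB (by rw [hcB, hcN]; exact hcop') hsolvB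
    (fun x hx => hOP hx) (fun x hx => hPG hx)
    ((H70.Wielandt.isPGroup_opIn (p := p) G).comap_of_injective H.subtype H.subtype_injective) hTmax
    (fun y hy hyc hyT x _ => by
      have hyO : (y : X) ∈ O := hCO y hy fun t ht => congrArg Subtype.val
        (Subgroup.mem_centralizer_iff.mp hyT ⟨t, hGH (hOG ht)⟩ ht)
      obtain ⟨k, hk⟩ := H70.Wielandt.isPGroup_opIn (p := p) G ⟨(y : X), hyO⟩
      have hk' : y ^ p ^ k = 1 := Subtype.ext (by simpa using congrArg Subtype.val hk)
      have h1 : orderOf y = 1 :=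
        Nat.eq_one_of_dvd_coprimes (hyc.pow_right k) dvd_rfl (orderOf_dvd_of_pow_eq_one hk')
      rw [orderOf_eq_one_iff.mp h1]; exact Commute.one_left x)
    (hPp.comap_of_injective H.subtype H.subtype_injective)
    (fun s hs U hU hBU => by
      obtain ⟨S, hS⟩ := hne U hU hBU
      obtain ⟨y, hy, e⟩ : (s : X) ∈ U.map H.subtype := hS ▸ (hP ▸ iInf_le _ S : P ≤ _) hs
      exact (Subtype.ext e : y = s) ▸ hy)
  haveI hPne : Nontrivial ↥P := (Subgroup.nontrivial_iff_ne_bot _).mpr fun e => hOne (le_bot_iff.mp (e ▸ hOP))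
  refine ⟨Cfsg.kInfLower ↥P, (H49.kInf_characteristic ↥P).1,
    (H49.kLike_lower.isCharPFunctor p).1 ↥P hPp hPne, ?_⟩
  exact hGH.trans (H49.kLike_lower.normal_of_subgroupOf hPH key)

end Cfsg.Agent.S1930
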