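import Cfsg.Statements.S1932
import Cfsg.Agent.Thompson.FourFree
import Cfsg.Agent.Thompson.ClosedFusion
import Cfsg.Agent.Thompson.Forms
import Cfsg.Agent.Thompson.Section
import Cfsg.Agent.Thompson.Jay
-- import your own Cfsg.Agent.* helpers here

set_option autoImplicit false
open Cfsg

namespace Cfsg.Agent.S1932

/-- Let G be a finite group that is 2-constrained and has no section isomorphic to the symmetric group of degree 4, and let S be a Sylow 2-subgroup of G of nilpotency class at most 2. Then G = N_G(J(S))·O_{2'}(G), where J(S) is the Thompson subgroup generated by the elementary abelian subgroups of S of largest order. -/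
theorem result {G : Type*} [Group G] [Finite G] (hcon : Cfsg.IsPConstrained 2 G) (hS4 : ¬ Cfsg.Involves (Equiv.Perm (Fin 4)) G) (S : Sylow 2 G) (hcl : Subgroup.lowerCentralSeries (S : Subgroup G) 2 = ⊥) : Subgroup.normalizer ((Cfsg.thompsonSubgroupOf 2 (S : Subgroup G)) : Set G) ⊔ Cfsg.pPrimeCore 2 G = ⊤ := by
  haveI : Fact (Nat.Prime 2) := ⟨Nat.prime_two⟩
  rw [Thompson.thompsonSubgroupOf_eq]
  set K := Cfsg.pPrimeCore 2 G
  set π := QuotientGroup.mk' K
  have hK : (Nat.card K).Coprime 2 := Cores.coprime_card_pPrimeCore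
  set S' := S.mapSurjective (QuotientGroup.mk'_surjective K)
  have hfree : ¬ Cfsg.Involves (Equiv.Perm (Fin 4)) (G ⧸ K) := fun h =>
    hS4 (Thompson.hasSection_iff.mp ((Thompson.hasSection_iff.mpr h).of_surjective (QuotientGroup.mk'_surjective K)))
  have hcl' : Subgroup.lowerCentralSeries (S' : Subgroup (G ⧸ K)) 2 = ⊥ := by
    show Subgroup.lowerCentralSeries ((S : Subgroup G).map π) 2 = ⊥
    simp only [Subgroup.lowerCentralSeries_succ, Subgroup.lowerCentralSeries_zero, ← Subgroup.map_commutator] at hcl ⊢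
    rw [hcl, Subgroup.map_bot]
  have hle := Thompson.FourFree.thompson_le_pCore hfree (Thompson.centralizer_pCore_quotient_le hcon) S' hcl'
  -- the Thompson subgroup of the image
  have hinj := Thompson.injective_mk'_comp K hK S.isPGroup'
  have hmap : Thompson.jay 2 (S' : Subgroup (G ⧸ K)) = (Thompson.jay 2 (S : Subgroup G)).map π := by
    show Thompson.jay 2 ((S : Subgroup G).map π) = _
    have h1 : (S : Subgroup G).map π = (⊤ : Subgroup (S : Subgroup G)).map (π.comp (S : Subgroup G).subtype) := by
      rw [← Subgroup.map_map, ← MonoidHom.range_eq_map (S : Subgroup G).subtype, Subgroup.range_subtype]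
    have h2 : Thompson.jay 2 (S : Subgroup G) =
        (Thompson.jay 2 (⊤ : Subgroup (S : Subgroup G))).map (S : Subgroup G).subtype := by
      rw [← Thompson.jay_map _ (S : Subgroup G).subtype_injective, ← MonoidHom.range_eq_map, Subgroup.range_subtype]
    rw [h1, Thompson.jay_map _ hinj, h2, Subgroup.map_map]
  have hnorm : Subgroup.normalizer ((Thompson.jay 2 (S' : Subgroup (G ⧸ K))) : Set (G ⧸ K)) = ⊤ := by
    refine top_le_iff.mp ?_
    rw [← Thompson.jay_eq_of_le hle (Cores.pCore_le_sylow S')]
    haveI := Cfsg.pCore_normal 2 (G ⧸ K)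
    exact (Subgroup.normalizer_eq_top (H := Cfsg.pCore 2 (G ⧸ K))).ge.trans
      (Thompson.normalizer_le_normalizer_jay 2 _)
  refine eq_top_iff.mpr fun g _ => ?_
  obtain ⟨n0, hn0, k, hk, rfl⟩ := Thompson.exists_mem_normalizer_mul K hK (S.isPGroup'.to_le Thompson.jay_le)
    (m := g) (by rw [← hmap, hnorm]; exact Subgroup.mem_top _)
  exact mul_mem (Subgroup.mem_sup_left hn0) (Subgroup.mem_sup_right hk)

end Cfsg.Agent.S1932
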