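import Cfsg.Statements.S1935
import Cfsg.Agent.H31.QuadLimit.Main

set_option autoImplicit false
open Cfsg

namespace Cfsg.Agent.S1935

open Cfsg.Agent.H63
open scoped commutatorElement

/-- Let p ≥ 5 be a prime and, inside an ambient finite group, let G be a p-subgroup acting faithfully by conjugation on an elementary abelian p-subgroup V that it normalizes (only the identity of G centralizes V). Suppose V is an F-module for G: some nontrivial elementary abelian subgroup E of G satisfies #E · #C_V(E) ≥ #V. Then G contains such an offender A that moreover acts quadratically on V ([V, A, A] = 1) and is normal in its normal closure in G. -/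
theorem result {Ω : Type*} [Group Ω] [Finite Ω] (p : ℕ) [Fact p.Prime] (hp : 5 ≤ p) (V G : Subgroup Ω) (hV : Cfsg.IsElementaryAbelian p V) (hG : IsPGroup p ↥G) (hGV : G ≤ Subgroup.normalizer (V : Set Ω)) (hfaith : G ⊓ Subgroup.centralizer (V : Set Ω) = ⊥) (hF : ∃ E : Subgroup Ω, E ≤ G ∧ E ≠ ⊥ ∧ Cfsg.IsElementaryAbelian p E ∧ Nat.card ↥V ≤ Nat.card ↥E * Nat.card ↥(V ⊓ Subgroup.centralizer (E : Set Ω))) : ∃ A : Subgroup Ω, A ≤ G ∧ A ≠ ⊥ ∧ Cfsg.IsElementaryAbelian p A ∧ Nat.card ↥V ≤ Nat.card ↥A * Nat.card ↥(V ⊓ Subgroup.centralizer (A : Set Ω)) ∧ ⁅⁅V, A⁆, A⁆ = ⊥ ∧ ∀ g ∈ Subgroup.closure {x : Ω | ∃ h ∈ G, ∃ a ∈ A, x = h * a * h⁻¹}, ∀ a ∈ A, g * a * g⁻¹ ∈ A := by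
  classical
  haveI := hV.1
  have hN : ∀ (g : ↥G) (v : Ω), v ∈ V → (g : Ω) * v * (g : Ω)⁻¹ ∈ V := fun g v hv =>
    (Subgroup.mem_normalizer_iff.mp (hGV g.2) v).mp hv
  letI : CommGroup ↥V := { (inferInstance : Group ↥V) with mul_comm := mul_comm' }
  letI : DistribMulAction ↥G (Additive ↥V) :=
    { smul := fun g m => Additive.ofMul
        ⟨(g : Ω) * (m.toMul : ↥V) * (g : Ω)⁻¹, hN g _ m.toMul.2⟩
      one_smul := fun m => by
        apply Additive.toMul.injective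
        apply Subtype.ext
        show ((1 : ↥G) : Ω) * (m.toMul : ↥V) * ((1 : ↥G) : Ω)⁻¹ = _
        simp
      mul_smul := fun g g' m => by
        apply Additive.toMul.injective
        apply Subtype.ext
        show ((g * g' : ↥G) : Ω) * (m.toMul : ↥V) * ((g * g' : ↥G) : Ω)⁻¹ =
          (g : Ω) * ((g' : Ω) * (m.toMul : ↥V) * (g' : Ω)⁻¹) * (g : Ω)⁻¹
        rw [Subgroup.coe_mul]
        group
      smul_zero := fun g => by
        apply Additive.toMul.injective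
        apply Subtype.ext
        show (g : Ω) * 1 * (g : Ω)⁻¹ = 1
        simp
      smul_add := fun g a b => by
        apply Additive.toMul.injective
        apply Subtype.ext
        show (g : Ω) * ((a.toMul : ↥V) * (b.toMul : ↥V) : Ω) * (g : Ω)⁻¹ =
          ((g : Ω) * (a.toMul : ↥V) * (g : Ω)⁻¹) * ((g : Ω) * (b.toMul : ↥V) * (g : Ω)⁻¹)
        group }
  let em : Additive ↥V → Ω := fun m => ((m.toMul : ↥V) : Ω)
  have hem_inj : Function.Injective em := fun a b h => Additive.toMul.injective (Subtype.ext h)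
  have hsmul : ∀ (g : ↥G) (m : Additive ↥V), em (g • m) = (g : Ω) * em m * (g : Ω)⁻¹ := fun _ _ => rfl
  have hfix : ∀ (g : ↥G) (m : Additive ↥V), g • m = m ↔ (g : Ω) * em m = em m * g := fun g m => by
    rw [← hem_inj.eq_iff, hsmul, mul_inv_eq_iff_eq_mul]
  have hexp : ∀ m : Additive ↥V, p • m = 0 := fun m => by
    apply Additive.toMul.injective
    apply Subtype.ext
    exact hV.2 _ m.toMul.2
  have hGfaith : ∀ g : ↥G, (∀ m : Additive ↥V, g • m = m) → g = 1 := fun g hg => by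
    refine Subtype.ext (Subgroup.mem_bot.mp (hfaith ▸ Subgroup.mem_inf.mpr ⟨g.2, ?_⟩))
    exact Subgroup.mem_centralizer_iff.mpr fun v hv => ((hfix g (Additive.ofMul ⟨v, hv⟩)).mp (hg _)).symm
  have hcard : ∀ B : Subgroup ↥G, mS (Additive ↥V) B =
      Nat.card ↥(B.map G.subtype) * Nat.card ↥(V ⊓ Subgroup.centralizer ((B.map G.subtype : Subgroup Ω) : Set Ω)) := by
    intro B
    unfold mS
    rw [Subgroup.card_map_of_injective G.subtype_injective]
    congr 1
    refine Nat.card_congr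
      { toFun := fun m => ⟨em m, Subgroup.mem_inf.mpr ⟨m.1.toMul.2, Subgroup.mem_centralizer_iff.mpr ?_⟩⟩
        invFun := fun x => ⟨Additive.ofMul ⟨x.1, (Subgroup.mem_inf.mp x.2).1⟩, fun g hg =>
          (hfix g _).mpr (Subgroup.mem_centralizer_iff.mp (Subgroup.mem_inf.mp x.2).2 _ ⟨g, hg, rfl⟩)⟩
        left_inv := fun _ => rfl
        right_inv := fun _ => rfl }
    rintro _ ⟨g, hg, rfl⟩
    exact (hfix g _).mp (m.2 g hg)
  have hVcard : Nat.card (Additive ↥V) = Nat.card ↥V := Nat.card_congr Additive.toMul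
  obtain ⟨A, hA0, hAc, hAe, hAoff, hAq, hAn⟩ := Cfsg.Agent.H31.QuadLimit.exists_quadratic_offender hp hG
    hexp hGfaith (by
      obtain ⟨E, hE, hE0, hEel, hEoff⟩ := hF
      haveI := hEel.1
      have hmapE : (E.subgroupOf G).map G.subtype = E := by
        rw [Subgroup.subgroupOf_map_subtype, inf_eq_left.mpr hE]
      refine ⟨E.subgroupOf G, fun h => hE0 (by rw [← hmapE, h, Subgroup.map_bot]),
        fun a ha b hb => Subtype.ext (congrArg E.subtype (mul_comm' (⟨(a : Ω), ha⟩ : ↥E) ⟨(b : Ω), hb⟩) :),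
        fun a ha => Subtype.ext (by rw [SubgroupClass.coe_pow]; exact hEel.2 _ ha), ?_⟩
      rw [hcard, hmapE, hVcard]; exact hEoff)
  refine ⟨A.map G.subtype, Subgroup.map_subtype_le A, ?_, ⟨⟨⟨?_⟩⟩, ?_⟩, ?_, ?_, ?_⟩
  · rwa [ne_eq, Subgroup.map_eq_bot_iff_of_injective _ G.subtype_injective]
  · rintro ⟨_, a, ha, rfl⟩ ⟨_, b, hb, rfl⟩
    exact Subtype.ext (congrArg G.subtype (hAc a ha b hb))
  · rintro _ ⟨a, ha, rfl⟩
    rw [← map_pow, hAe a ha, map_one]
  · rw [← hVcard, ← hcard]; exact hAoff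
  · rw [Subgroup.commutator_eq_bot_iff_le_centralizer, Subgroup.commutator_le]
    rintro v hv _ ⟨a, ha, rfl⟩
    set m : Additive ↥V := Additive.ofMul ⟨v, hv⟩
    have e2 : ⁅v, G.subtype a⁆ = (em (a • m - m))⁻¹ := by
      show _ = ((em (a • m)) / em m)⁻¹
      rw [hsmul, commutatorElement_def, div_eq_mul_inv]
      show v * (a : Ω) * v⁻¹ * (a : Ω)⁻¹ = ((a : Ω) * v * (a : Ω)⁻¹ * v⁻¹)⁻¹
      group
    rw [e2]
    refine inv_mem (Subgroup.mem_centralizer_iff.mpr ?_)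
    rintro _ ⟨b, hb, rfl⟩
    exact (hfix b _).mp (hAq a ha b hb m)
  · have hle : Subgroup.closure {x : Ω | ∃ h ∈ G, ∃ a ∈ A.map G.subtype, x = h * a * h⁻¹} ≤
        (Subgroup.closure {x : ↥G | ∃ h : ↥G, ∃ a ∈ A, x = h * a * h⁻¹}).map G.subtype := by
      rw [Subgroup.closure_le]
      rintro _ ⟨h, hh, _, ⟨a, ha, rfl⟩, rfl⟩
      exact ⟨⟨h, hh⟩ * a * ⟨h, hh⟩⁻¹, Subgroup.subset_closure ⟨⟨h, hh⟩, a, ha, rfl⟩, rfl⟩
    intro g hg _ ha
    obtain ⟨g, hg', rfl⟩ := hle hg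
    obtain ⟨a, ha, rfl⟩ := ha
    exact ⟨g * a * g⁻¹, hAn g hg' a ha, rfl⟩

end Cfsg.Agent.S1935
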