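import Cfsg.Statements.S1936
import Cfsg.Agent.H77.PPAb.Count
import Cfsg.Agent.S0205
import Cfsg.Agent.S4068

set_option autoImplicit false
open Cfsg

namespace Cfsg.Agent.S1936

universe u

theorem hyp_subgroup {G : Type u} [Group G] {p : ℕ}
    (h : ∀ H : Subgroup G, (Nat.card ↥H).Coprime p → IsMulCommutative ↥H ∧ ∀ x ∈ H, x ^ (p - 1) = 1)
    (X : Subgroup G) :
    ∀ H : Subgroup X, (Nat.card ↥H).Coprime p → IsMulCommutative ↥H ∧ ∀ x ∈ H, x ^ (p - 1) = 1 := by
  intro K hK
  obtain ⟨h1, h2⟩ := h (K.map X.subtype) (by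
    rwa [Subgroup.card_map_of_injective X.subtype_injective])
  refine ⟨⟨⟨fun a b => ?_⟩⟩, fun x hx => Subtype.ext (h2 x ⟨x, hx, rfl⟩)⟩
  have := congrArg Subtype.val
    (h1.is_comm.comm ⟨(a : X), ⟨a, a.2, rfl⟩⟩ ⟨(b : X), ⟨b, b.2, rfl⟩⟩)
  exact Subtype.ext (Subtype.ext this)

theorem hyp_quotient {G : Type u} [Group G] [Finite G] {p : ℕ} [Fact p.Prime]
    (h : ∀ H : Subgroup G, (Nat.card ↥H).Coprime p → IsMulCommutative ↥H ∧ ∀ x ∈ H, x ^ (p - 1) = 1)
    (N : Subgroup G) [N.Normal] (hN : IsPGroup p N ∨ (Nat.card N).Coprime p) :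
    ∀ H : Subgroup (G ⧸ N), (Nat.card ↥H).Coprime p →
      IsMulCommutative ↥H ∧ ∀ x ∈ H, x ^ (p - 1) = 1 := by
  intro K hK
  set π := QuotientGroup.mk' N with hπ
  set L := K.comap π with hL
  have hNL : N ≤ L := fun x hx => by
    rw [hL, Subgroup.mem_comap, hπ, QuotientGroup.mk'_apply, (QuotientGroup.eq_one_iff x).2 hx]
    exact one_mem _
  have hsurj : Function.Surjective (π.comp L.subtype).rangeRestrict :=
    MonoidHom.rangeRestrict_surjective _
  have hidx : (N.subgroupOf L).index = Nat.card K := by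
    have hker : (π.comp L.subtype).ker = N.subgroupOf L := by
      rw [← MonoidHom.comap_ker, hπ, QuotientGroup.ker_mk']; rfl
    have hrange : (π.comp L.subtype).range = K := by
      rw [MonoidHom.range_comp, Subgroup.range_subtype, hL,
        Subgroup.map_comap_eq_self_of_surjective (QuotientGroup.mk'_surjective N)]
    rw [← hker, Subgroup.index_ker, hrange]
  obtain ⟨C, hCc, hCK⟩ : ∃ C : Subgroup G, (Nat.card C).Coprime p ∧ C.map π = K := by
    rcases hN with hN | hN
    · obtain ⟨k, hk⟩ := IsPGroup.iff_card.1 hN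
      obtain ⟨C, hC⟩ := Subgroup.exists_right_complement'_of_coprime (N := N.subgroupOf L) (by
        rw [hidx, Nat.card_congr (Subgroup.subgroupOfEquivOfLe hNL).toEquiv, hk]
        exact (hK.symm.pow_left k))
      refine ⟨C.map L.subtype, ?_, ?_⟩
      · rw [Subgroup.card_map_of_injective L.subtype_injective, ← hC.symm.index_eq_card, hidx]
        exact hK
      · refine le_antisymm ?_ fun y hy => ?_
        · rintro _ ⟨_, ⟨c, -, rfl⟩, rfl⟩
          exact c.2
        · obtain ⟨x, rfl⟩ := QuotientGroup.mk'_surjective N y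
          obtain ⟨⟨n, c⟩, hnc⟩ := hC.2 ⟨x, hy⟩
          refine ⟨((c : L) : G), ⟨c, c.2, rfl⟩, ?_⟩
          have h1 : ((n : L) : G) * ((c : L) : G) = x := congrArg Subtype.val hnc
          rw [← h1, map_mul]
          have h2 : π ((n : L) : G) = 1 := (QuotientGroup.eq_one_iff _).2 n.2
          rw [h2, one_mul]
    · refine ⟨L, ?_, Subgroup.map_comap_eq_self_of_surjective (QuotientGroup.mk'_surjective N) K⟩
      rw [← Subgroup.card_mul_index (N.subgroupOf L), hidx,
        Nat.card_congr (Subgroup.subgroupOfEquivOfLe hNL).toEquiv]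
      exact hN.mul_left hK
  obtain ⟨h1, h2⟩ := h C hCc
  subst hCK
  refine ⟨⟨⟨?_⟩⟩, ?_⟩
  · rintro ⟨_, a, ha, rfl⟩ ⟨_, b, hb, rfl⟩
    refine Subtype.ext ?_
    have h3 := congrArg Subtype.val (h1.is_comm.comm ⟨a, ha⟩ ⟨b, hb⟩)
    show π a * π b = π b * π a
    rw [← map_mul, ← map_mul]
    exact congrArg π h3
  · rintro _ ⟨a, ha, rfl⟩
    rw [← map_pow, h2 a ha, map_one]

theorem main {p : ℕ} [Fact p.Prime] : ∀ n : ℕ, ∀ (G : Type u) [Group G] [Finite G], Nat.card G = n →
    (∀ H : Subgroup G, (Nat.card ↥H).Coprime p → IsMulCommutative ↥H ∧ ∀ x ∈ H, x ^ (p - 1) = 1) →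
    Group.IsSolvable G := by
  intro n
  induction n using Nat.strong_induction_on with
  | _ n ih =>
  intro G _ _ hn h
  have hp : p.Prime := Fact.out
  have hsub : ∀ X : Subgroup G, X ≠ ⊤ → Group.IsSolvable X := fun X hX =>
    ih _ (hn ▸ lt_of_le_of_ne (Subgroup.card_le_card_group X)
      fun e => hX (Subgroup.eq_top_of_card_eq X e)) X rfl (hyp_subgroup h X)
  by_contra hns
  haveI : Nontrivial G := by
    by_contra htriv
    haveI := not_nontrivial_iff_subsingleton.1 htriv
    exact hns inferInstance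
  have hsimple : IsSimpleGroup G := ⟨fun N hN => by
    by_contra hcon
    push Not at hcon
    haveI := hN
    haveI := hsub N hcon.2
    obtain ⟨q, N', hq, hN'1, hN'N, -, hN'G, hN'q⟩ :=
      Coprime.exists_invariant_normal_pgroup (A := (⊤ : Subgroup G)) (K := N)
        (by rw [Subgroup.normalizer_eq_top N]) inferInstance hcon.1
    haveI : N'.Normal := Subgroup.normalizer_eq_top_iff.1 (top_le_iff.1 hN'G)
    haveI : Fact q.Prime := ⟨hq⟩
    have hor : IsPGroup p N' ∨ (Nat.card N').Coprime p := by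
      by_cases hqp : q = p
      · subst hqp; exact Or.inl hN'q
      · obtain ⟨k, hk⟩ := IsPGroup.iff_card.1 hN'q
        exact Or.inr (hk ▸ ((Nat.coprime_primes hq hp).2 hqp).pow_left k)
    have hlt : Nat.card (G ⧸ N') < Nat.card G := by
      have h1 : 1 < Nat.card N' := (Subgroup.one_lt_card_iff_ne_bot N').2 hN'1
      rw [Subgroup.card_eq_card_quotient_mul_card_subgroup N']
      exact lt_mul_of_one_lt_right Nat.card_pos h1
    haveI := ih _ (hn ▸ hlt) (G ⧸ N') rfl (hyp_quotient h N' hor)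
    haveI := hsub N' fun e => hcon.2 (top_le_iff.1 (e ▸ hN'N))
    exact hns (Group.isSolvable_of_ker_le_range N'.subtype (QuotientGroup.mk' N')
      (by rw [QuotientGroup.ker_mk', Subgroup.range_subtype]))⟩
  have hprimes : ∀ q : ℕ, q.Prime → q ∣ Nat.card G → q ≠ p → q ∣ p - 1 := by
    intro q hq hd hqp
    haveI : Fact q.Prime := ⟨hq⟩
    obtain ⟨y, hy⟩ := exists_prime_orderOf_dvd_card' q hd
    rw [← hy]
    exact orderOf_dvd_of_pow_eq_one ((h (Subgroup.zpowers y) (by
      rw [Nat.card_zpowers, hy]; exact (Nat.coprime_primes hq hp).2 hqp)).2 y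
      (Subgroup.mem_zpowers y))
  have h5 : 5 ≤ p := by
    by_contra h5
    have hp23 : p = 2 ∨ p = 3 := by
      have := hp.two_le
      have : p ≠ 4 := fun e => by rw [e] at hp; norm_num at hp
      omega
    refine hns (S4068.solvable_of_two_primes ?_)
    refine le_trans (Finset.card_le_card (t := {2, 3}) fun q hq => ?_) Finset.card_le_two
    obtain ⟨hq', hd, -⟩ := Nat.mem_primeFactors.1 hq
    by_cases hqp : q = p
    · rcases hp23 with e | e <;> simp [hqp, e]
    · have h1 := Nat.le_of_dvd (by omega) (hprimes q hq' hd hqp)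
      have h2 := hq'.two_le
      simp only [Finset.mem_insert, Finset.mem_singleton]
      omega
  have heven : 2 ∣ Nat.card G := by
    rcases Nat.even_or_odd (Nat.card G) with he | ho
    · exact even_iff_two_dvd.1 he
    · exact absurd (S0205.result ho) hns
  haveI : Fact (Nat.Prime 2) := ⟨Nat.prime_two⟩
  obtain ⟨T⟩ : Nonempty (Sylow 2 G) := inferInstance
  have hT : (Nat.card (T : Subgroup G)).Coprime p := by
    obtain ⟨k, hk⟩ := IsPGroup.iff_card.1 T.isPGroup'
    exact hk ▸ ((Nat.coprime_primes Nat.prime_two hp).2 (by omega)).pow_left k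
  obtain ⟨H, hTH, hH⟩ :=
    (Set.toFinite {K : Subgroup G | (Nat.card K).Coprime p}).exists_le_maximal hT
  exact H77.PPAb.Ctx.false (p := p)
    { simple := hsimple
      nc := fun hc => hns (isSolvable_of_comm fun a b => hc.is_comm.comm a b)
      solv := hsub
      ab := fun K hK a ha b hb =>
        congrArg Subtype.val ((h K hK).1.is_comm.comm ⟨a, ha⟩ ⟨b, hb⟩)
      five := h5
      even := heven
      T := T
      H := H
      T_le := hTH
      H_cop := hH.prop
      H_max := fun K hK hle => le_antisymm (hH.2 hK hle) hle }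

/-- Let p be a prime and G a finite group in which every subgroup of order prime to p is abelian of exponent dividing p − 1. Then G is solvable. -/
theorem result {G : Type*} [Group G] [Finite G] (p : ℕ) [Fact p.Prime] (h : ∀ H : Subgroup G, (Nat.card ↥H).Coprime p → IsMulCommutative ↥H ∧ ∀ x ∈ H, x ^ (p - 1) = 1) : Group.IsSolvable G := by
  exact main (Nat.card G) G rfl h

end Cfsg.Agent.S1936
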