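import Cfsg.Statements.S1939


set_option autoImplicit false
open Cfsg

namespace Cfsg.Agent.S1939

theorem eq_of_mem_pgroup {G : Type*} [Group G] [Finite G] {p : ℕ} [Fact p.Prime] (S : Sylow p G)
    (a : G) (hwc : ∀ g : G, g * a * g⁻¹ ∈ (S : Subgroup G) → g * a * g⁻¹ = a)
    (Q : Subgroup G) (hQ : IsPGroup p Q) (haQ : a ∈ Q) (g : G) (hg : g * a * g⁻¹ ∈ Q) :
    g * a * g⁻¹ = a := by
  obtain ⟨R, hR⟩ := hQ.exists_le_sylow
  obtain ⟨h, hh⟩ := MulAction.exists_smul_eq G S R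
  have hmem : ∀ x ∈ Q, h⁻¹ * x * h ∈ (S : Subgroup G) := by
    intro x hx
    have h1 : x ∈ ((h • S : Sylow p G) : Subgroup G) := by rw [hh]; exact hR hx
    rw [Sylow.coe_subgroup_smul, Subgroup.mem_pointwise_smul_iff_inv_smul_mem] at h1
    simpa [mul_assoc] using h1
  have e1 : h⁻¹ * a * h⁻¹⁻¹ = a := hwc _ (by simpa using hmem a haQ)
  have e2 : (h⁻¹ * g) * a * (h⁻¹ * g)⁻¹ = a := hwc _ (by simpa [mul_assoc] using hmem _ hg)
  calc g * a * g⁻¹ = h * ((h⁻¹ * g) * a * (h⁻¹ * g)⁻¹) * h⁻¹ := by group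
    _ = h * a * h⁻¹ := by rw [e2]
    _ = h * (h⁻¹ * a * h⁻¹⁻¹) * h⁻¹ := by rw [e1]
    _ = a := by group

/-- Let S be a Sylow p-subgroup of the finite group G and a an element of S that is the only G-conjugate of a lying in S. Then every power of a has the same property: for every n, the only G-conjugate of a^n lying in S is a^n. -/
theorem result {G : Type*} [Group G] [Finite G] {p : ℕ} [Fact p.Prime] (S : Sylow p G) (a : G)
    (haS : a ∈ (S : Subgroup G)) (hwc : ∀ g : G, g * a * g⁻¹ ∈ (S : Subgroup G) → g * a * g⁻¹ = a) (n : ℕ) :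
    ∀ g : G, g * a ^ n * g⁻¹ ∈ (S : Subgroup G) → g * a ^ n * g⁻¹ = a ^ n := by
  intro g hb
  set b := g * a ^ n * g⁻¹ with hbdef
  have hza : ∀ s ∈ (S : Subgroup G), s * a = a * s := fun s hs =>
    mul_inv_eq_iff_eq_mul.mp (hwc s (mul_mem (mul_mem hs haS) (inv_mem hs)))
  let C := Subgroup.centralizer ({b} : Set G)
  have haC : a ∈ C := Subgroup.mem_centralizer_singleton_iff.mpr (hza b hb).symm
  have hgC : g * a * g⁻¹ ∈ C := Subgroup.mem_centralizer_singleton_iff.mpr (by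
    rw [hbdef, ← conj_pow]
    exact (Commute.self_pow _ _).eq)
  obtain ⟨k, hk⟩ := (S.isPGroup' ⟨a, haS⟩)
  have hka : a ^ (p ^ k) = 1 := by simpa using congrArg Subtype.val hk
  have hz : ∀ x : C, (x : G) ^ (p ^ k) = 1 → IsPGroup p (Subgroup.zpowers x) := by
    intro x hx
    rintro ⟨y, m, rfl⟩
    refine ⟨k, Subtype.ext ?_⟩
    simp only [Subgroup.coe_pow, OneMemClass.coe_one]
    rw [← zpow_natCast, ← zpow_mul, mul_comm, zpow_mul, zpow_natCast,
      show x ^ (p ^ k) = 1 from Subtype.ext (by simpa using hx), one_zpow]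
  obtain ⟨R, hR⟩ := (hz ⟨a, haC⟩ hka).exists_le_sylow
  obtain ⟨R', hR'⟩ := (hz ⟨g * a * g⁻¹, hgC⟩ (by simp [conj_pow, hka])).exists_le_sylow
  obtain ⟨c, hc⟩ := MulAction.exists_smul_eq C R' R
  have h1 : c * ⟨g * a * g⁻¹, hgC⟩ * c⁻¹ ∈ (R : Subgroup C) := by
    rw [← hc, Sylow.coe_subgroup_smul, Subgroup.mem_pointwise_smul_iff_inv_smul_mem]
    simpa [mul_assoc] using hR' (Subgroup.mem_zpowers _)
  have e : ((c : G) * g) * a * ((c : G) * g)⁻¹ = a := by
    apply eq_of_mem_pgroup S a hwc ((R : Subgroup C).map C.subtype) (R.isPGroup'.map _)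
      ⟨⟨a, haC⟩, hR (Subgroup.mem_zpowers _), rfl⟩
    exact ⟨_, h1, by simp [mul_assoc]⟩
  have e' := congrArg (fun x => x ^ n) e
  simp only [conj_pow] at e'
  have hcb : (c : G) * b = b * c := Subgroup.mem_centralizer_singleton_iff.mp c.2
  rw [← e', show (c : G) * g * a ^ n * ((c : G) * g)⁻¹ = c * b * (c : G)⁻¹ by
    rw [hbdef]; group, hcb, mul_inv_cancel_right]

end Cfsg.Agent.S1939
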