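import Cfsg.Statements.S1940


set_option autoImplicit false
open Cfsg

namespace Cfsg.Agent.S1940

/-- Let the finite group L act by automorphisms on the finite abelian group M, and let N be an L-invariant subgroup of M such that M/N is a p-group on which L acts trivially (every l • m lies in the coset mN). If every element of M is a product of an element of N and an element fixed by a Sylow p-subgroup T of L, then every element of M is a product of an element of N and an element fixed by all of L. -/
theorem result {L : Type*} [Group L] [Finite L] {M : Type*} [CommGroup M] [Finite M] [MulDistribMulAction L M]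
    {p : ℕ} [Fact p.Prime] (N : Subgroup M) (hN : ∀ (l : L) (m : M), m ∈ N → l • m ∈ N)
    (hquot : IsPGroup p (M ⧸ N)) (htriv : ∀ (l : L) (m : M), (l • m) * m⁻¹ ∈ N) (T : Sylow p L)
    (hT : ∀ m : M, ∃ n ∈ N, ∃ c : M, (∀ t ∈ (T : Subgroup L), t • c = c) ∧ m = n * c) :
    ∀ m : M, ∃ n ∈ N, ∃ c : M, (∀ l : L, l • c = c) ∧ m = n * c := by
  classical
  intro m
  obtain ⟨n₀, hn₀, c, hc, hm⟩ := hT m
  haveI : Fintype (L ⧸ (T : Subgroup L)) := Fintype.ofFinite _
  let f : L ⧸ (T : Subgroup L) → M := fun q => Quotient.liftOn' q (fun l => l • c) (by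
    intro a b hab
    rw [QuotientGroup.leftRel_apply] at hab
    have := hc _ hab
    calc a • c = a • ((a⁻¹ * b) • c) := by rw [this]
      _ = b • c := by rw [smul_smul, mul_inv_cancel_left])
  let c' := ∏ q, f q
  have hfix : ∀ l : L, l • c' = c' := by
    intro l
    have e : ∀ q, l • f q = f (l • q) := by
      intro q
      induction q using QuotientGroup.induction_on with
      | _ a => exact smul_smul l a c
    calc l • c' = ∏ q, l • f q := map_prod (MulDistribMulAction.toMonoidHom M l) f Finset.univ
      _ = ∏ q, f (l • q) := Finset.prod_congr rfl fun q _ => e q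
      _ = c' := Fintype.prod_equiv (MulAction.toPerm l) _ _ (fun q => rfl)
  have hbar : ∀ q, ((f q : M) : M ⧸ N) = (m : M ⧸ N) := by
    intro q
    induction q using QuotientGroup.induction_on with
    | _ a =>
      show ((a • c : M) : M ⧸ N) = _
      rw [QuotientGroup.eq_iff_div_mem, hm]
      have := N.mul_mem (htriv a c) (N.inv_mem hn₀)
      simpa [div_eq_mul_inv, mul_assoc, mul_comm c⁻¹] using this
  have hc' : ((c' : M) : M ⧸ N) = (m : M ⧸ N) ^ (T : Subgroup L).index := by
    show QuotientGroup.mk' N c' = _
    rw [map_prod]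
    simp only [QuotientGroup.mk'_apply, hbar, Finset.prod_const, Finset.card_univ]
    rw [Subgroup.index, Nat.card_eq_fintype_card]
  obtain ⟨j, hj⟩ : ∃ j : ℕ, ((m : M ⧸ N) ^ (T : Subgroup L).index) ^ j = (m : M ⧸ N) := by
    obtain ⟨k, hk⟩ := hquot (m : M ⧸ N)
    have hcop : ((T : Subgroup L).index).Coprime (orderOf (m : M ⧸ N)) :=
      Nat.Coprime.coprime_dvd_right (orderOf_dvd_of_pow_eq_one hk)
        (Nat.Coprime.pow_right k ((Fact.out : p.Prime).coprime_iff_not_dvd.mpr T.not_dvd_index).symm)
    exact exists_pow_eq_self_of_coprime hcop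
  refine ⟨m / c' ^ j, ?_, c' ^ j, fun l => by rw [smul_pow', hfix], by simp⟩
  rw [← QuotientGroup.eq_iff_div_mem]
  show _ = ((c' ^ j : M) : M ⧸ N)
  rw [QuotientGroup.mk_pow, hc', hj]

end Cfsg.Agent.S1940
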