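import Cfsg.Statements.S1941
import Cfsg.Agent.Components.PLocal
-- import your own Cfsg.Agent.* helpers here

set_option autoImplicit false
open Cfsg

namespace Cfsg.Agent.S1941

open Cfsg.Agent.Components
open scoped commutatorElement
set_option linter.style.haveILetI false

/-- Let G be a finite group with no nontrivial normal subgroup of order prime to p, T a Sylow p-subgroup of G and E(G) the layer of G (the subgroup generated by its components). An automorphism of G of p-power order that fixes T and E(G) elementwise is inner. -/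
theorem result {G : Type*} [Group G] [Finite G] {p : ℕ} [Fact p.Prime] (hcore : Cfsg.pPrimeCore p G = ⊥)
    (T : Sylow p G) (α : MulAut G) (hα : ∃ j : ℕ, orderOf α = p ^ j) (hfixT : ∀ x ∈ (T : Subgroup G), α x = x)
    (hfixE : ∀ x ∈ Cfsg.layer G, α x = x) : ∃ g : G, ∀ x : G, α x = g * x * g⁻¹ := by
  classical
  haveI := isNilpotent_pCore (G := G) (p := p)
  have hOT : Cfsg.pCore p G ≤ T := Cfsg.Agent.Cores.pCore_le_sylow T
  have hfixF : ∀ x ∈ Cfsg.generalizedFittingSubgroup G, α x = x := by
    intro x hx
    obtain ⟨e, he, f, hf, rfl⟩ := Subgroup.mem_sup_of_normal_right.mp hx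
    rw [map_mul, hfixE e he, hfixT f (hOT (fitting_le_pCore hcore hf))]
  set Z := Subgroup.centralizer (Cfsg.generalizedFittingSubgroup G : Set G) with hZdef
  have hZn : Z.Normal := inferInstance
  have hZF : Z ≤ Cfsg.generalizedFittingSubgroup G := centralizer_genFitting_le
  have hZab : ∀ a ∈ Z, ∀ b ∈ Z, a * b = b * a := fun a ha b hb =>
    Subgroup.mem_centralizer_iff.mp hb a (hZF ha)
  haveI : IsMulCommutative Z := ⟨⟨fun a b => Subtype.ext (hZab a a.2 b b.2)⟩⟩
  have hZp : IsPGroup p Z := by
    haveI : Group.IsNilpotent Z := by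
      open scoped IsMulCommutative in infer_instance
    exact (isPGroup_pCore p).to_le
      ((normal_nilpotent_le_fitting hZn inferInstance).trans (fitting_le_pCore hcore))
  have hcZ : ∀ g : G, g⁻¹ * α g ∈ Z := by
    intro g
    refine Subgroup.mem_centralizer_iff.mpr fun y hy => ?_
    have h1 : α (g * y * g⁻¹) = g * y * g⁻¹ := hfixF _
      ((inferInstance : (Cfsg.generalizedFittingSubgroup G).Normal).conj_mem y hy g)
    rw [map_mul, map_mul, hfixF y hy, map_inv] at h1
    calc y * (g⁻¹ * α g) = g⁻¹ * (g * y * g⁻¹) * α g := by group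
      _ = g⁻¹ * (α g * y * (α g)⁻¹) * α g := by rw [h1]
      _ = g⁻¹ * α g * y := by group
  open scoped IsMulCommutative in
  let c : G → Z := fun g => ⟨g⁻¹ * α g, hcZ g⟩
  let φ : G → (Z →* Z) := fun h =>
    { toFun := fun z => ⟨h⁻¹ * z * h, by simpa using hZn.conj_mem _ z.2 h⁻¹⟩
      map_one' := Subtype.ext (by simp)
      map_mul' := fun a b => Subtype.ext (by
        show h⁻¹ * ((a : G) * b) * h = h⁻¹ * a * h * (h⁻¹ * b * h)
        group) }
  have hc : ∀ g h, c (g * h) = φ h (c g) * c h := fun g h => Subtype.ext (by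
    show (g * h)⁻¹ * α (g * h) = h⁻¹ * (g⁻¹ * α g) * h * (h⁻¹ * α h)
    rw [map_mul]; group)
  have hcT : ∀ t ∈ (T : Subgroup G), ∀ g, c (t * g) = c g := fun t ht g => Subtype.ext (by
    show (t * g)⁻¹ * α (t * g) = g⁻¹ * α g
    rw [map_mul, hfixT t ht]; group)
  let Q := Quotient (QuotientGroup.rightRel (T : Subgroup G))
  let cq : Q → Z := Quotient.lift c (fun a b hab => by
    have hab' : b * a⁻¹ ∈ (T : Subgroup G) := QuotientGroup.rightRel_apply.mp hab
    have := hcT _ hab' a
    rw [mul_assoc, inv_mul_cancel, mul_one] at this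
    exact this.symm)
  let act : G → Q ≃ Q := fun h =>
    { toFun := Quotient.map' (fun g => g * h) (fun a b hab => by
        rw [QuotientGroup.rightRel_apply] at hab ⊢
        simpa [mul_assoc] using hab)
      invFun := Quotient.map' (fun g => g * h⁻¹) (fun a b hab => by
        rw [QuotientGroup.rightRel_apply] at hab ⊢
        simpa [mul_assoc] using hab)
      left_inv := fun q => by
        induction q using Quotient.inductionOn' with
        | h g => simp [Quotient.map'_mk'']
      right_inv := fun q => by
        induction q using Quotient.inductionOn' with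
        | h g => simp [Quotient.map'_mk''] }
  haveI : Fintype Q := Fintype.ofFinite Q
  open scoped IsMulCommutative in
  have key : ∃ z : Z, ∀ h, (z : G) = h⁻¹ * (z : G) * h * (c h : G) := by
    set F : Z := ∏ q, cq q with hF
    have hn : (Fintype.card Q).Coprime (Nat.card Z) := by
      obtain ⟨m, hm⟩ := IsPGroup.iff_card.mp hZp
      rw [hm]
      refine Nat.Coprime.pow_right m ?_
      rw [← Nat.card_eq_fintype_card]
      have he : Nat.card Q = (T : Subgroup G).index := Nat.card_congr (QuotientGroup.quotientRightRelEquivQuotientLeftRel _)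
      rw [he]
      exact (Nat.coprime_comm.mp ((Fact.out : p.Prime).coprime_iff_not_dvd.mpr T.not_dvd_index))
    have hFh : ∀ h, F = φ h F * c h ^ Fintype.card Q := by
      intro h
      calc F = ∏ q, cq (act h q) := (Equiv.prod_comp (act h) cq).symm
        _ = ∏ q, (φ h (cq q) * c h) := Finset.prod_congr rfl fun q _ => by
              induction q using Quotient.inductionOn' with
              | h g => exact hc g h
        _ = φ h F * c h ^ Fintype.card Q := by
              rw [Finset.prod_mul_distrib, Finset.prod_const, Finset.card_univ, map_prod]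
    refine ⟨(powCoprime (Nat.coprime_comm.mp hn)).symm F, fun h => ?_⟩
    set z := (powCoprime (Nat.coprime_comm.mp hn)).symm F
    have hz : z ^ Fintype.card Q = F := (powCoprime (Nat.coprime_comm.mp hn)).apply_symm_apply F
    have h1 : z ^ Fintype.card Q = (φ h z * c h) ^ Fintype.card Q := by
      rw [mul_pow, ← map_pow (φ h), hz]
      exact hFh h
    exact congrArg Subtype.val ((powCoprime (Nat.coprime_comm.mp hn)).injective h1)
  obtain ⟨z, hz⟩ := key
  refine ⟨(z : G)⁻¹, fun g => ?_⟩
  have h1 := hz g
  simp only [c] at h1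
  calc α g = g * (g⁻¹ * α g) := by group
    _ = g * ((g⁻¹ * (z : G) * g)⁻¹ * (z : G)) := by
        rw [show g⁻¹ * α g = (g⁻¹ * (z : G) * g)⁻¹ * (z : G) from
          eq_inv_mul_iff_mul_eq.mpr h1.symm]
    _ = (z : G)⁻¹ * g * (z : G)⁻¹⁻¹ := by group

end Cfsg.Agent.S1941
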