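import Cfsg.Statements.S1944
import Cfsg.Agent.H48.SylowCore


set_option autoImplicit false
open Cfsg

namespace Cfsg.Agent.S1944

open Subgroup

theorem exists_complement {G : Type*} [Group G] [Finite G] {p : ℕ} [Fact p.Prime]
    {N S V W Z : Subgroup G} (hSN : S ≤ N) (hcop : ¬ p ∣ S.relIndex N) (hS : IsPGroup p S)
    (hV : ∀ a ∈ V, ∀ b ∈ V, a * b = b * a) (hNV : ∀ n ∈ N, ∀ v ∈ V, n * v * n⁻¹ ∈ V)
    (hZV : Z ≤ V) (hZS : Z ≤ centralizer (S : Set G)) (hWZ : W ≤ Z) (hWp : W ≤ S)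
    (hW : ∀ v : G, v ∈ W ↔ v ∈ V ∧ ∀ n ∈ N, n * v = v * n) :
    ∃ K : Subgroup G, K ≤ Z ∧ W ⊓ K = ⊥ ∧ W ⊔ K = Z := by
  classical
  letI : CommGroup V :=
    { (inferInstance : Group V) with mul_comm := fun a b => Subtype.ext (hV a a.2 b b.2) }
  letI : Fintype (N ⧸ S.subgroupOf N) := Fintype.ofFinite _
  let f : Z → N ⧸ S.subgroupOf N → V := fun v q => Quotient.liftOn' q
    (fun n => ⟨(n : G) * v * (n : G)⁻¹, hNV n n.2 v (hZV v.2)⟩) (fun a b hab => by
      rw [QuotientGroup.leftRel_apply, mem_subgroupOf] at hab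
      refine Subtype.ext ?_
      have h1 := mem_centralizer_iff.mp (hZS v.2) _ hab
      push_cast at h1
      calc (a : G) * v * (a : G)⁻¹
          = (a : G) * (((a : G)⁻¹ * b) * v * ((a : G)⁻¹ * b)⁻¹) * (a : G)⁻¹ := by
            rw [h1, mul_inv_cancel_right]
        _ = (b : G) * v * (b : G)⁻¹ := by group)
  have hf : ∀ u v q, f (u * v) q = f u q * f v q := by
    intro u v q
    induction q using QuotientGroup.induction_on with | _ n => ?_
    refine Subtype.ext ?_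
    show (n : G) * ((u : G) * v) * (n : G)⁻¹ = ((n : G) * u * (n : G)⁻¹) * ((n : G) * v * (n : G)⁻¹)
    group
  let T : Z →* V := MonoidHom.mk' (fun v => ∏ q, f v q) fun u v => by
    simp_rw [hf]; exact Finset.prod_mul_distrib
  have hfix : ∀ v : Z, (T v : G) ∈ W := by
    refine fun v => (hW _).mpr ⟨(T v).2, fun m hm => ?_⟩
    let c : V →* V := MonoidHom.mk'
      (fun x => ⟨m * (x : G) * m⁻¹, hNV m hm x x.2⟩) fun x y => Subtype.ext (by
        show m * ((x : G) * y) * m⁻¹ = (m * x * m⁻¹) * (m * y * m⁻¹)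
        group)
    have h1 : c (T v) = T v := by
      show c (∏ q, f v q) = ∏ q, f v q
      rw [map_prod]
      refine Fintype.prod_equiv (MulAction.toPerm (⟨m, hm⟩ : N)) _ _ fun q => ?_
      induction q using QuotientGroup.induction_on with | _ n => ?_
      refine Subtype.ext ?_
      show m * ((n : G) * v * (n : G)⁻¹) * m⁻¹ = (m * n) * (v : G) * (m * n)⁻¹
      group
    have h2 : m * (T v : G) * m⁻¹ = T v := congrArg Subtype.val h1
    exact mul_inv_eq_iff_eq_mul.mp h2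
  set k := Nat.card (N ⧸ S.subgroupOf N) with hk
  have hpow : ∀ v : Z, (v : G) ∈ W → (T v : G) = (v : G) ^ k := by
    intro v hv
    have h1 : ∀ q, f v q = ⟨v, hZV v.2⟩ := by
      intro q
      induction q using QuotientGroup.induction_on with | _ n => ?_
      refine Subtype.ext ?_
      show (n : G) * v * (n : G)⁻¹ = v
      rw [mul_inv_eq_iff_eq_mul]
      exact ((hW _).mp hv).2 n n.2
    show ((∏ q, f v q : V) : G) = _
    rw [Finset.prod_congr rfl fun q _ => h1 q, Finset.prod_const, Finset.card_univ,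
      hk, Nat.card_eq_fintype_card, SubmonoidClass.coe_pow]
  have hkc : (Nat.card W).Coprime k := by
    obtain ⟨e, he⟩ := IsPGroup.iff_card.mp (hS.to_le hWp)
    rw [he]
    exact Nat.Coprime.pow_left e ((Fact.out : p.Prime).coprime_iff_not_dvd.mpr hcop)
  refine ⟨T.ker.map Z.subtype, map_subtype_le _, ?_, ?_⟩
  · rw [eq_bot_iff]
    rintro x ⟨hx, ⟨v, hv, rfl⟩⟩
    have h1 := hpow v hx
    rw [show T v = 1 from hv, coe_one] at h1
    have h2 : (powCoprime hkc) ⟨v, hx⟩ = (powCoprime hkc) 1 := by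
      refine Subtype.ext ?_
      simpa using h1.symm
    exact mem_bot.mpr (congrArg Subtype.val ((powCoprime hkc).injective h2))
  · refine le_antisymm (sup_le hWZ (map_subtype_le _)) fun z hz => ?_
    set w := (powCoprime hkc).symm ⟨T ⟨z, hz⟩, hfix _⟩
    have hw : (w : G) ^ k = T ⟨z, hz⟩ := congrArg Subtype.val ((powCoprime hkc).apply_symm_apply _)
    have hker : (⟨(w : G), hWZ w.2⟩ : Z)⁻¹ * ⟨z, hz⟩ ∈ T.ker := by
      rw [MonoidHom.mem_ker, map_mul, map_inv, inv_mul_eq_one]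
      exact Subtype.ext ((hpow _ w.2).trans hw)
    have h3 := (W ⊔ T.ker.map Z.subtype).mul_mem (mem_sup_left w.2)
      (mem_sup_right (mem_map_of_mem Z.subtype hker))
    simpa using h3

/-- Let S be a Sylow p-subgroup of the finite group G and suppose that the centre Z(S) lies in O_{p',p}(G). The elements of S each of which is its only G-conjugate in S form a subgroup W of Z(S); W is then a direct factor of Z(S): there is a subgroup K of Z(S) with W ∩ K = 1 and WK = Z(S). -/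
theorem result {G : Type*} [Group G] [Finite G] {p : ℕ} [Fact p.Prime] (S : Sylow p G)
    (hZ : ((S : Subgroup G) ⊓ Subgroup.centralizer ((S : Subgroup G) : Set G)) ≤ Cfsg.pPrimePCore p G) :
    ∃ W K : Subgroup G, (∀ x : G, x ∈ W ↔ (x ∈ (S : Subgroup G) ∧ ∀ g : G, g * x * g⁻¹ ∈ (S : Subgroup G) → g * x * g⁻¹ = x)) ∧
      K ≤ ((S : Subgroup G) ⊓ Subgroup.centralizer ((S : Subgroup G) : Set G)) ∧ W ⊓ K = ⊥ ∧ W ⊔ K = ((S : Subgroup G) ⊓ Subgroup.centralizer ((S : Subgroup G) : Set G)) := by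
  set H := H48.sylowCore S with hH
  set N := normalizer (H : Set G) with hN
  have hSN : (S : Subgroup G) ≤ N := H48.le_normalizer_sylowCore S
  set V := H ⊓ centralizer (H : Set G)
  set W := H ⊓ centralizer (N : Set G)
  set Z := (S : Subgroup G) ⊓ centralizer ((S : Subgroup G) : Set G) with hZdef
  have hWZ : W ≤ Z := inf_le_inf inf_le_left (centralizer_le hSN)
  have hcop : ¬ p ∣ (S : Subgroup G).relIndex N := fun hd =>
    S.not_dvd_index (hd.trans (relIndex_dvd_index_of_le hSN))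
  obtain ⟨K, hK1, hK2, hK3⟩ := exists_complement (p := p) (V := V) (W := W) (Z := Z) hSN hcop
    S.isPGroup' (fun a ha b hb => mem_centralizer_iff.mp hb.2 a ha.1) (fun n hn v hv =>
      mem_inf.mpr ⟨(mem_normalizer_iff.mp hn v).mp hv.1, mem_centralizer_iff.mpr fun h hh => by
        have h1 := mem_centralizer_iff.mp hv.2 (n⁻¹ * h * n) (by
          simpa using (mem_normalizer_iff.mp (inv_mem hn) h).mp hh)
        calc h * (n * v * n⁻¹) = n * (n⁻¹ * h * n * v) * n⁻¹ := by group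
          _ = n * v * n⁻¹ * h := by rw [h1]; group⟩)
    (fun z hz => mem_inf.mpr ⟨mem_inf.mpr ⟨hz.1, hZ hz⟩, centralizer_le inf_le_left hz.2⟩)
    inf_le_right hWZ (hWZ.trans inf_le_left) (fun v => ⟨fun hv =>
      ⟨mem_inf.mpr ⟨hv.1, centralizer_le (le_normalizer : H ≤ N) hv.2⟩,
        fun n hn => mem_centralizer_iff.mp hv.2 n hn⟩,
      fun hv => mem_inf.mpr ⟨hv.1.1, mem_centralizer_iff.mpr hv.2⟩⟩)
  refine ⟨W, K, fun x => ⟨fun hx => ⟨hx.1.1, fun g hg => ?_⟩, fun ⟨hx, hcl⟩ => ?_⟩, hK1, hK2, hK3⟩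
  · obtain ⟨n, hn, hnx⟩ := H48.exists_normalizer_conj S hx.1.1 hg rfl
    rw [← hnx, mul_inv_eq_iff_eq_mul]
    exact mem_centralizer_iff.mp hx.2 n hn
  · have hxZ : x ∈ Z := mem_inf.mpr ⟨hx, mem_centralizer_iff.mpr fun s hs =>
      mul_inv_eq_iff_eq_mul.mp (hcl s (mul_mem (mul_mem hs hx) (inv_mem hs)))⟩
    have hxH : x ∈ H := mem_inf.mpr ⟨hx, hZ hxZ⟩
    exact mem_inf.mpr ⟨hxH, mem_centralizer_iff.mpr fun n hn =>
      mul_inv_eq_iff_eq_mul.mp (hcl n ((mem_normalizer_iff.mp hn x).mp hxH).1)⟩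

end Cfsg.Agent.S1944
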