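import Cfsg.Statements.S1945
import Cfsg.Agent.S1944
import Cfsg.Agent.Cores.Constrained
import Cfsg.Agent.Signalizer.NormControl
-- import your own Cfsg.Agent.* helpers here

set_option autoImplicit false
open Cfsg

namespace Cfsg.Agent.S1945

open Subgroup


/-- Let S be a Sylow p-subgroup of the finite group G, and assume that p is odd or that G is solvable. The elements of S each of which is its only G-conjugate in S form a subgroup W of Z(S); W is then a direct factor of Z(S): there is a subgroup K of Z(S) with W ∩ K = 1 and WK = Z(S). (For p = 2 and G not solvable this can fail.) -/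
theorem result {G : Type*} [Group G] [Finite G] {p : ℕ} [Fact p.Prime] (S : Sylow p G) (h : p ≠ 2 ∨ Group.IsSolvable G) :
    ∃ W K : Subgroup G, (∀ x : G, x ∈ W ↔ (x ∈ (S : Subgroup G) ∧ ∀ g : G, g * x * g⁻¹ ∈ (S : Subgroup G) → g * x * g⁻¹ = x)) ∧
      K ≤ ((S : Subgroup G) ⊓ Subgroup.centralizer ((S : Subgroup G) : Set G)) ∧ W ⊓ K = ⊥ ∧ W ⊔ K = ((S : Subgroup G) ⊓ Subgroup.centralizer ((S : Subgroup G) : Set G)) := by
  by_cases hp2 : p = 2
  · -- solvable case: the centre lies in `O_{p',p}`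
    have : Group.IsSolvable G := h.resolve_left (fun h2 => h2 hp2)
    refine S1944.result S fun z hz => ?_
    set π := QuotientGroup.mk' (pPrimeCore p G)
    have : Group.IsSolvable (G ⧸ pPrimeCore p G) := inferInstance
    have h1 : π z ∈ centralizer (pCore p (G ⧸ pPrimeCore p G) : Set (G ⧸ pPrimeCore p G)) := by
      refine mem_centralizer_iff.mpr fun y hy => ?_
      have hle := IsPGroup.le_sylow_of_normal (Cores.pCore_isPGroup (p := p) (G := G ⧸ pPrimeCore p G))
        (S.mapSurjective (QuotientGroup.mk'_surjective (pPrimeCore p G)))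
      obtain ⟨s, hs, rfl⟩ := hle hy
      rw [← map_mul, ← map_mul, mem_centralizer_iff.mp hz.2 s hs]
    exact Cores.centralizer_pCore_le_of_centralizer Cores.isPSolvable_of_isSolvable
      (Cores.pPrimeCore_quotient_pPrimeCore) h1
  set J := Thompson.jay 0 (S : Subgroup G) with hJ
  set N := normalizer (J : Set G)
  set Z := (S : Subgroup G) ⊓ centralizer ((S : Subgroup G) : Set G)
  set V := Thompson.zjay 0 (S : Subgroup G)
  set W := Z ⊓ centralizer (N : Set G)
  have hSN : (S : Subgroup G) ≤ N :=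
    le_normalizer.trans (Thompson.normalizer_le_normalizer_jay 0 _)
  have hcop : ¬ p ∣ (S : Subgroup G).relIndex N := fun hd =>
    S.not_dvd_index (hd.trans (relIndex_dvd_index_of_le hSN))
  obtain ⟨B, hB⟩ := Thompson.maxIn_nonempty 0 (S : Subgroup G)
  have hZV : Z ≤ V := fun z hz => mem_inf.mpr ⟨Thompson.le_jay hB (Thompson.mem_of_mem_centralizer hB hz.1
    (centralizer_le hB.1 hz.2) (pow_zero z)), centralizer_le Thompson.jay_le hz.2⟩
  obtain ⟨K, hK1, hK2, hK3⟩ := S1944.exists_complement (p := p) (V := V) (W := W) (Z := Z) hSN hcop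
    S.isPGroup' (fun a ha b hb => Thompson.zjay_comm ha hb)
    (fun n hn v hv => mem_inf.mpr ⟨(mem_normalizer_iff.mp hn v).mp hv.1,
      mem_centralizer_iff.mpr fun j hj => by
        have h1 := mem_centralizer_iff.mp hv.2 (n⁻¹ * j * n) (by
          simpa using (mem_normalizer_iff.mp (inv_mem hn) j).mp hj)
        calc j * (n * v * n⁻¹) = n * (n⁻¹ * j * n * v) * n⁻¹ := by group
          _ = n * v * n⁻¹ * j := by rw [h1]; group⟩)
    hZV inf_le_right inf_le_left (inf_le_left.trans inf_le_left) (fun v => ⟨fun hv =>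
      ⟨hZV hv.1, fun n hn => mem_centralizer_iff.mp hv.2 n hn⟩, fun hv =>
      mem_inf.mpr ⟨mem_inf.mpr ⟨Thompson.zjay_le hv.1, mem_centralizer_iff.mpr fun s hs => hv.2 s (hSN hs)⟩,
        mem_centralizer_iff.mpr hv.2⟩⟩)
  refine ⟨W, K, fun x => ⟨fun hx => ⟨hx.1.1, fun g hg => ?_⟩, fun ⟨hx, hcl⟩ => ?_⟩, hK1, hK2, hK3⟩
  · exact Signalizer.NormControl.isolated_of_normalizer_jay hp2 S hx.1.1
      (fun s hs => mem_centralizer_iff.mp hx.1.2 s hs) (fun n hn => mem_centralizer_iff.mp hx.2 n hn) hg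
  · have hxZ : x ∈ Z := mem_inf.mpr ⟨hx, mem_centralizer_iff.mpr fun s hs =>
      mul_inv_eq_iff_eq_mul.mp (hcl s (mul_mem (mul_mem hs hx) (inv_mem hs)))⟩
    exact mem_inf.mpr ⟨hxZ, mem_centralizer_iff.mpr fun n hn => mul_inv_eq_iff_eq_mul.mp
      (hcl n (Thompson.jay_le ((mem_normalizer_iff.mp hn x).mp (hZV hxZ).1)))⟩

end Cfsg.Agent.S1945
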