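import Cfsg.Statements.S1946
import Cfsg.Agent.Fusion.Complements
import Cfsg.Agent.Coprime.Centralize


set_option autoImplicit false
open Cfsg

namespace Cfsg.Agent.S1946

open Subgroup
open scoped commutatorElement

/-- Let P be a Sylow p-subgroup of the finite group G. Then G has a normal p-complement if and only if P controls the fusion of its elements of order dividing p (dividing 4 when p = 2): whenever such an element a of P has a G-conjugate g a g⁻¹ in P, that conjugate is already x a x⁻¹ for some x in P. -/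
theorem result {G : Type*} [Group G] [Finite G] {p : ℕ} [Fact p.Prime] (P : Sylow p G) :
    Cfsg.HasNormalPComplement p G ↔
      ∀ a ∈ (P : Subgroup G), (a ^ p = 1 ∨ (p = 2 ∧ a ^ 4 = 1)) → ∀ g : G, g * a * g⁻¹ ∈ (P : Subgroup G) →
        ∃ x ∈ (P : Subgroup G), g * a * g⁻¹ = x * a * x⁻¹ := by
  classical
  have hp : p.Prime := Fact.out
  constructor
  · intro hc a ha _ g hg
    have hinf := (Fusion.hasNormalPComplement_iff_inf_eq_bot P).mp hc
    obtain ⟨x, hx, k, hk, rfl⟩ := Subgroup.mem_sup_of_normal_right.mp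
      ((Fusion.sylow_sup_pResidual P).ge (mem_top g) : g ∈ (P : Subgroup G) ⊔ Cfsg.pResidual p G)
    refine ⟨x, hx, ?_⟩
    have h1 : k * a * k⁻¹ ∈ (P : Subgroup G) := by
      have := mul_mem (mul_mem (inv_mem hx) hg) hx
      simpa [mul_assoc] using this
    have h2 : k * a * k⁻¹ * a⁻¹ ∈ (P : Subgroup G) ⊓ Cfsg.pResidual p G := by
      refine mem_inf.mpr ⟨mul_mem h1 (inv_mem ha), ?_⟩
      simpa [mul_assoc] using mul_mem hk
        ((inferInstance : (Cfsg.pResidual p G).Normal).conj_mem _ (inv_mem hk) a)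
    rw [hinf, mem_bot, mul_inv_eq_one] at h2
    calc x * k * a * (x * k)⁻¹ = x * (k * a * k⁻¹) * x⁻¹ := by group
      _ = x * a * x⁻¹ := by rw [h2]
  · intro h
    refine Fusion.hasNormalPComplement_of_fix P fun Q hQ g hg hgp => ?_
    set γ := (P : Subgroup G).lowerCentralSeries with hγ
    haveI : Group.IsNilpotent (P : Subgroup G) := P.isPGroup'.isNilpotent
    obtain ⟨n, hn⟩ := (Subgroup.isNilpotent_iff_lowerCentralSeries _).mp this
    suffices key : ∀ j, ∀ i, n = i + j → ∀ x ∈ Q ⊓ γ i, (x ^ p = 1 ∨ p = 2 ∧ x ^ 4 = 1) →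
        g * x * g⁻¹ = x by
      intro x hx hxp
      exact key n 0 (by omega) x ⟨hx, hQ hx⟩ hxp
    intro j
    induction j with
    | zero =>
      intro i hi x hx _
      have h1 : x ∈ γ n := hi ▸ hx.2
      rw [hγ, hn, mem_bot] at h1
      simp [h1]
    | succ j ih =>
      intro i hi x hx hxp
      set H := closure {y | y ∈ Q ⊓ γ i ∧ (y ^ p = 1 ∨ p = 2 ∧ y ^ 4 = 1)} with hH
      have hHQ : H ≤ Q ⊓ γ i := (closure_le _).mpr fun y hy => hy.1
      have hγn : (P : Subgroup G) ≤ normalizer (γ (i + 1) : Set G) :=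
        (P : Subgroup G).self_le_normalizer_lowerCentralSeries _
      -- the action on generators
      have hgen : ∀ y ∈ Q ⊓ γ i, (y ^ p = 1 ∨ p = 2 ∧ y ^ 4 = 1) →
          g * y * g⁻¹ ∈ Q ⊓ γ i ∧ g * y * g⁻¹ * y⁻¹ ∈ γ (i + 1) := by
        intro y hy hyp
        have hyQ : g * y * g⁻¹ ∈ Q := (mem_normalizer_iff.mp hg y).mp hy.1
        obtain ⟨z, hz, hzy⟩ := h y (hQ hy.1) hyp g (hQ hyQ)
        have hzγ : z * y * z⁻¹ * y⁻¹ ∈ γ (i + 1) := by
          have h1 : ⁅y, z⁆ ∈ γ (i + 1) := by
            rw [hγ, Subgroup.lowerCentralSeries_succ]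
            exact commutator_mem_commutator hy.2 hz
          rw [show z * y * z⁻¹ * y⁻¹ = ⁅y, z⁆⁻¹ by rw [commutatorElement_def]; group]
          exact inv_mem h1
        rw [hzy]
        refine ⟨mem_inf.mpr ⟨hzy ▸ hyQ, ?_⟩, hzγ⟩
        simpa using (γ i).mul_mem ((P : Subgroup G).lowerCentralSeries_antitone (Nat.le_succ i) hzγ) hy.2
      have hgH : ∀ y ∈ H, g * y * g⁻¹ ∈ H ∧ g * y * g⁻¹ * y⁻¹ ∈ γ (i + 1) := by
        intro y hy
        induction hy using closure_induction with
        | mem y hy =>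
          obtain ⟨h1, h2⟩ := hgen y hy.1 hy.2
          refine ⟨subset_closure ⟨h1, ?_⟩, h2⟩
          rcases hy.2 with h3 | ⟨h3, h4⟩
          · exact Or.inl (by rw [conj_pow, h3, mul_one, mul_inv_cancel])
          · exact Or.inr ⟨h3, by rw [conj_pow, h4, mul_one, mul_inv_cancel]⟩
        | one => simp [one_mem]
        | mul a b ha hb iha ihb =>
          refine ⟨by simpa [mul_assoc] using mul_mem iha.1 ihb.1, ?_⟩
          have haP : a ∈ (P : Subgroup G) := hQ (hHQ ha).1
          have h5 := mul_mem ((mem_normalizer_iff.mp (hγn (hQ (hHQ iha.1).1)) _).mp ihb.2) iha.2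
          simpa [mul_assoc] using h5
        | inv a ha iha =>
          refine ⟨by simpa [mul_assoc] using inv_mem iha.1, ?_⟩
          have h5 := inv_mem ((mem_normalizer_iff.mp (hγn (inv_mem (hQ (hHQ iha.1).1))) _).mp iha.2)
          simpa [mul_assoc] using h5
      set K := H ⊓ γ (i + 1) with hK
      have hgN : g ∈ normalizer (H : Set G) :=
        Coprime.mem_normalizer_of_map_conj (eq_of_le_of_card_ge (map_le_iff_le_comap.mpr
          fun y hy => (hgH y hy).1) (card_map_of_injective (MulAut.conj g).injective).ge)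
      have hgK : g ∈ normalizer (K : Set G) := by
        refine Coprime.mem_normalizer_of_map_conj (eq_of_le_of_card_ge (map_le_iff_le_comap.mpr
          fun y hy => ?_) (card_map_of_injective (MulAut.conj g).injective).ge)
        refine mem_inf.mpr ⟨(hgH y hy.1).1, ?_⟩
        have h6 := mul_mem (hgH y hy.1).2 hy.2
        simpa using h6
      have hcK : g ∈ centralizer (K : Set G) := by
        have hKp : IsPGroup p K := P.isPGroup'.to_le ((inf_le_left.trans hHQ).trans (inf_le_left.trans hQ))
        exact Fusion.mem_centralizer_of_fix hKp hgK hgp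
          (fun y hy hyp => ih (i + 1) (by omega) y ⟨(hHQ hy.1).1, hy.2⟩ (Or.inl hyp))
          (fun hp2 y hy hyp => ih (i + 1) (by omega) y ⟨(hHQ hy.1).1, hy.2⟩ (Or.inr ⟨hp2, hyp⟩))
      let s : ℕ → Subgroup G := fun m => if m = 0 then H else if m = 1 then K else ⊥
      have hcop : (Nat.card (zpowers g)).Coprime (Nat.card (s 0)) := by
        obtain ⟨k, hk⟩ := IsPGroup.iff_card.mp
          (P.isPGroup'.to_le ((show s 0 ≤ _ from hHQ).trans (inf_le_left.trans hQ)))
        rw [Nat.card_zpowers, hk]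
        exact hgp.pow_right k
      have hcomm : ∀ y ∈ H, ∀ m : ℕ, g ^ m * y * (g ^ m)⁻¹ * y⁻¹ ∈ K := by
        intro y hy m
        induction m with
        | zero => simp [one_mem]
        | succ m ihm =>
          have hm : g ^ m * y * (g ^ m)⁻¹ ∈ H := by
            simpa using mul_mem ihm.1 hy
          have h7 : g * (g ^ m * y * (g ^ m)⁻¹) * g⁻¹ * (g ^ m * y * (g ^ m)⁻¹)⁻¹ ∈ K :=
            mem_inf.mpr ⟨mul_mem (hgH _ hm).1 (inv_mem hm), (hgH _ hm).2⟩
          have h8 := K.mul_mem h7 ihm
          have e : g ^ (m + 1) * y * (g ^ (m + 1))⁻¹ * y⁻¹ =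
              g * (g ^ m * y * (g ^ m)⁻¹) * g⁻¹ * (g ^ m * y * (g ^ m)⁻¹)⁻¹ *
                (g ^ m * y * (g ^ m)⁻¹ * y⁻¹) := by rw [pow_succ']; group
          rw [e]; exact h8
      have hZ := Coprime.le_centralizer_of_series (A := zpowers g) 2 s hcop
        (fun m hm => by
          rcases (show m = 0 ∨ m = 1 by omega) with rfl | rfl
          · simp [s, hK]
          · simp [s])
        (fun m hm => by
          rcases (show m = 0 ∨ m = 1 by omega) with rfl | rfl
          · simp only [s, if_true, Nat.reduceAdd, one_ne_zero, if_false]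
            rw [commutator_le]
            intro y hy a ha
            obtain ⟨m, -, rfl⟩ := Finset.mem_image.mp (mem_zpowers_iff_mem_range_orderOf.mp ha)
            rw [show ⁅y, g ^ m⁆ = (g ^ m * y * (g ^ m)⁻¹ * y⁻¹)⁻¹ by rw [commutatorElement_def]; group]
            exact inv_mem (hcomm y hy m)
          · simp only [s, one_ne_zero, if_false, if_true, Nat.reduceAdd, OfNat.ofNat_ne_zero,
              Nat.succ_ne_self]
            rw [commutator_le]
            intro y hy a ha
            rw [mem_bot, commutatorElement_eq_one_iff_mul_comm]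
            exact mem_centralizer_iff.mp (zpowers_le.mpr hcK ha) y hy)
        (by simp [s])
      have hxH : x ∈ H := subset_closure ⟨hx, hxp⟩
      have hcom := mem_centralizer_iff.mp (hZ (mem_zpowers g)) x (show x ∈ s 0 from hxH)
      rw [← hcom, mul_inv_cancel_right]

end Cfsg.Agent.S1946
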