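import Cfsg.Statements.S1947
import Cfsg.Agent.Fusion.Complements
import Cfsg.Agent.Coprime.Centralize

set_option autoImplicit false
open Cfsg

namespace Cfsg.Agent.S1947

/-- Let G be a finite group and p a prime. If every element of G of order dividing p (dividing 4 when p = 2) lies in some fixed term Z_n(G) of the upper central series, then G has a normal p-complement. -/
theorem result {G : Type*} [Group G] [Finite G] {p : ℕ} [Fact p.Prime] (n : ℕ)
    (h : ∀ a : G, (a ^ p = 1 ∨ (p = 2 ∧ a ^ 4 = 1)) → a ∈ Subgroup.upperCentralSeries G n) : Cfsg.HasNormalPComplement p G := by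
  have hp : p.Prime := Fact.out
  obtain ⟨P⟩ : Nonempty (Sylow p G) := inferInstance
  refine Fusion.hasNormalPComplement_of_fix P fun Q hQ g hg hgp x hx hxp => ?_
  let s : ℕ → Subgroup G := fun i => Q ⊓ Subgroup.upperCentralSeries G (n - i)
  have hcop : (Nat.card (Subgroup.zpowers g)).Coprime (Nat.card (s 0)) := by
    obtain ⟨k, hk⟩ := IsPGroup.iff_card.mp (P.isPGroup'.to_le ((inf_le_left : s 0 ≤ Q).trans hQ))
    rw [Nat.card_zpowers, hk]
    exact hgp.pow_right k
  have hZ : Subgroup.zpowers g ≤ Subgroup.centralizer (s 0 : Set G) := by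
    refine Coprime.le_centralizer_of_series n s hcop (fun i _ => ?_) (fun i hi => ?_) ?_
    · exact inf_le_inf_left _ (Subgroup.upperCentralSeries_mono G (by omega))
    · refine le_inf ?_ ?_
      · exact (Subgroup.commutator_mono inf_le_left le_rfl).trans
          (Coprime.commutator_le_left_of_normalizer (Subgroup.zpowers_le.mpr hg))
      · rw [Subgroup.commutator_le]
        intro a ha b _
        have h1 : n - i = (n - (i + 1)) + 1 := by omega
        have h2 := ha.2
        rw [h1] at h2
        replace h2 := (Subgroup.mem_upperCentralSeries_succ_iff (G := G)).mp h2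
        exact h2 b
    · simp only [s, Nat.sub_self, Subgroup.upperCentralSeries_zero, inf_bot_eq]
  have hxs : x ∈ s 0 := ⟨hx, h x hxp⟩
  rw [← Subgroup.mem_centralizer_iff.mp (hZ (Subgroup.mem_zpowers g)) x hxs, mul_inv_cancel_right]

end Cfsg.Agent.S1947
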