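import Cfsg.Statements.S1948
import Cfsg.Agent.H48.SylowCore


set_option autoImplicit false
open Cfsg

namespace Cfsg.Agent.S1948

open Subgroup

theorem isPConstrained_of_sup {G : Type*} [Group G] [Finite G] {p : ℕ} [Fact p.Prime]
    (S : Sylow p G) (h : normalizer ((S : Subgroup G) : Set G) ⊔ Cfsg.pPrimeCore p G = ⊤) :
    Cfsg.IsPConstrained p G := by
  set D := Cfsg.pPrimeCore p G
  refine Cores.isPConstrained_of_isPSolvable (Cores.isPSolvable_of_normal_of_quotient D
    (Cores.isPSolvable_of_coprime Cores.coprime_card_pPrimeCore) ?_)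
  let M : Sylow p (G ⧸ D) := S.mapSurjective (QuotientGroup.mk'_surjective D)
  have hM : (M : Subgroup (G ⧸ D)) = (S : Subgroup G).map (QuotientGroup.mk' D) := rfl
  haveI : (M : Subgroup (G ⧸ D)).Normal := by
    refine ⟨fun x hx q => ?_⟩
    obtain ⟨g, rfl⟩ := QuotientGroup.mk'_surjective D q
    have hg : g ∈ normalizer ((S : Subgroup G) : Set G) ⊔ D := h ▸ mem_top g
    obtain ⟨n, hn, d, hd, rfl⟩ := Subgroup.mem_sup_of_normal_right.mp hg
    rw [hM] at hx ⊢
    obtain ⟨s, hs, rfl⟩ := hx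
    refine ⟨n * s * n⁻¹, (mem_normalizer_iff.mp hn s).mp hs, ?_⟩
    simp [(QuotientGroup.eq_one_iff d).mpr hd]
  refine Cores.isPSolvable_of_normal_of_quotient (M : Subgroup (G ⧸ D))
    (Cores.isPSolvable_of_isPGroup M.isPGroup') (Cores.isPSolvable_of_coprime ?_)
  rw [← Subgroup.index_eq_card]
  exact ((Fact.out : p.Prime).coprime_iff_not_dvd.mpr M.not_dvd_index).symm

/-- Let S be a Sylow p-subgroup of the finite group G. Then G = N_G(S)·O_{p'}(G) if and only if G is p-constrained and N_G(S) controls fusion in S, in the sense that whenever a subgroup Q of S has a conjugate g Q g⁻¹ inside S, the element g is a product n c with n normalizing S and c centralizing Q. -/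
theorem result {G : Type*} [Group G] [Finite G] {p : ℕ} [Fact p.Prime] (S : Sylow p G) :
    Subgroup.normalizer ((S : Subgroup G) : Set G) ⊔ Cfsg.pPrimeCore p G = ⊤ ↔
      (Cfsg.IsPConstrained p G ∧
        ∀ Q : Subgroup G, Q ≤ (S : Subgroup G) → ∀ g : G, Q.map (MulAut.conj g).toMonoidHom ≤ (S : Subgroup G) →
          ∃ n ∈ Subgroup.normalizer ((S : Subgroup G) : Set G), ∃ c ∈ Subgroup.centralizer (Q : Set G), g = n * c) := by
  classical
  set D := Cfsg.pPrimeCore p G with hD
  constructor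
  · intro h
    refine ⟨isPConstrained_of_sup S h, fun Q hQ g hg => ?_⟩
    obtain ⟨n, hn, d, hd, rfl⟩ := Subgroup.mem_sup_of_normal_right.mp (h ▸ mem_top g : g ∈ _ ⊔ D)
    refine ⟨n, hn, d, mem_centralizer_iff.mpr fun q hq => ?_, rfl⟩
    have h1 : d * q * d⁻¹ ∈ (S : Subgroup G) := by
      have h2 : n * d * q * (n * d)⁻¹ ∈ (S : Subgroup G) := hg ⟨q, hq, rfl⟩
      have h3 := (mem_normalizer_iff'.mp hn (d * q * d⁻¹ * n⁻¹)).mp
      refine (mem_normalizer_iff.mp hn (d * q * d⁻¹)).mpr ?_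
      simpa [mul_assoc] using h2
    have h4 : d * q * d⁻¹ * q⁻¹ ∈ (S : Subgroup G) ⊓ D :=
      mem_inf.mpr ⟨mul_mem h1 (inv_mem (hQ hq)), by
        simpa [mul_assoc] using mul_mem hd ((inferInstance : D.Normal).conj_mem _ (inv_mem hd) q)⟩
    rw [Cores.disjoint_of_isPGroup_of_coprime S.isPGroup' Cores.coprime_card_pPrimeCore, mem_bot,
      mul_inv_eq_one, mul_inv_eq_iff_eq_mul] at h4
    exact h4.symm
  · rintro ⟨hc, hf⟩
    refine eq_top_iff.mpr fun g _ => ?_
    obtain ⟨d, hd, n', hn', rfl⟩ := H48.exists_mul_normalizer S g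
    obtain ⟨n, hn, c, hc', rfl⟩ := hf (H48.sylowCore S) inf_le_left n'
      ((H48.cj_eq_of_mem_normalizer hn').le.trans inf_le_left)
    refine mul_mem (mem_sup_right hd) (mul_mem (mem_sup_left hn) ?_)
    have hcent := hc (H48.isSylowIn_sylowCore S).toSylow
    rw [H48.IsSylowIn.coe_toSylow, subgroupOf_map_subtype, inf_eq_left.mpr inf_le_right] at hcent
    exact sup_le le_sup_right ((inf_le_left.trans le_normalizer).trans le_sup_left)
      ((H48.pPrimePCore_eq_sup S).le (hcent hc'))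

end Cfsg.Agent.S1948
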