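import Cfsg.Statements.S1950
import Cfsg.Agent.H81.CyclicPair.Count
import Cfsg.Agent.H76.CyclicSylow

set_option autoImplicit false
open Cfsg

namespace Cfsg.Agent.S1950

universe u

theorem isPSolvable_of_pairs {p : ℕ} [Fact p.Prime] :
    ∀ n : ℕ, ∀ {G : Type u} [Group G] [Finite G], Nat.card G = n → ∀ P : Sylow p G,
      IsCyclic (P : Subgroup G) →
      (∀ x y : G, orderOf x = p → orderOf y = p →
        Cfsg.IsPSolvable p ↥(Subgroup.closure ({x, y} : Set G))) → Cfsg.IsPSolvable p G := by
  intro n
  induction n using Nat.strong_induction_on with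
  | _ n ih =>
  intro G _ _ hn P hP hc
  have hp : p.Prime := Fact.out
  by_cases hdvd : p ∣ Nat.card G
  swap
  · exact Cfsg.Agent.Cores.isPSolvable_of_coprime (hp.coprime_iff_not_dvd.2 hdvd).symm
  by_cases hN : ∀ N : Subgroup G, N.Normal → N = ⊥ ∨ N = ⊤
  · by_cases hcomm : ∀ v w : G, v * w = w * v
    · haveI : Group.IsSolvable G := Group.isSolvable_of_comm hcomm
      exact Cfsg.Agent.Cores.isPSolvable_of_isSolvable
    · push Not at hcomm
      haveI : Nontrivial G :=
        Finite.one_lt_card_iff_nontrivial.1 (hp.one_lt.trans_le (Nat.le_of_dvd Nat.card_pos hdvd))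
      haveI : IsSimpleGroup G := ⟨fun N hN' => hN N hN'⟩
      have h2 := Cfsg.Agent.H81.CyclicPair.eq_two hcomm P hP hdvd hc
      exfalso
      subst h2
      have hNC : Subgroup.normalizer ((P : Subgroup G) : Set G) ≤
          Subgroup.centralizer ((P : Subgroup G) : Set G) :=
        IsCyclic.normalizer_le_centralizer
          (Nat.minFac_eq_two_iff _ |>.2 hdvd) hP
      obtain ⟨Q, N, hN', hQN⟩ :=
        Cfsg.Agent.Fusion.hasNormalPComplement_of_normalizer_le_centralizer P hNC
      obtain ⟨v, w, hvw⟩ := hcomm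
      rcases hN N hN' with rfl | rfl
      · have htop := hQN.card_mul_card
        rw [Subgroup.card_bot, one_mul] at htop
        have hPtop : (P : Subgroup G) = ⊤ :=
          Subgroup.eq_top_of_card_eq _ (by rw [← Nat.card_congr (Q.equiv P).toEquiv, htop])
        have := (IsCyclic.commGroup (α := (P : Subgroup G))).mul_comm
          ⟨v, hPtop ▸ Subgroup.mem_top v⟩ ⟨w, hPtop ▸ Subgroup.mem_top w⟩
        exact hvw (congrArg Subtype.val this)
      · have htop := hQN.card_mul_card
        rw [Subgroup.card_top] at htop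
        have h1 : Nat.card (Q : Subgroup G) = 1 := (Nat.mul_eq_left Nat.card_pos.ne').1 htop
        obtain ⟨k, hk⟩ := IsPGroup.iff_card.1 Q.isPGroup'
        refine Q.not_dvd_index ?_
        rwa [← Subgroup.card_mul_index (Q : Subgroup G), h1, one_mul] at hdvd
  push Not at hN
  obtain ⟨N, hNn, hbot, htop⟩ := hN
  by_cases h1 : p ∣ Nat.card N
  · by_cases h2 : p ∣ N.index
    · exact Cfsg.Agent.H76.isPSolvable_of_cyclic_sylow P hP N h1 h2
    refine Cfsg.Agent.Cores.isPSolvable_of_normal_of_quotient N ?_
      (Cfsg.Agent.Cores.isPSolvable_of_coprime (hp.coprime_iff_not_dvd.2 h2).symm)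
    obtain ⟨R⟩ : Nonempty (Sylow p N) := inferInstance
    obtain ⟨Q, hQ⟩ := (R.isPGroup'.map N.subtype).exists_le_sylow
    haveI : IsCyclic (Q : Subgroup G) := (Q.equiv P).symm.isCyclic.1 hP
    have hR : IsCyclic (R : Subgroup N) := by
      haveI : IsCyclic ((R : Subgroup N).map N.subtype) :=
        isCyclic_of_injective (Subgroup.inclusion hQ) (Subgroup.inclusion_injective hQ)
      exact ((R : Subgroup N).equivMapOfInjective N.subtype N.subtype_injective).isCyclic.2 ‹_›
    refine ih (Nat.card N) ?_ rfl R hR fun x y hx hy => ?_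
    · rw [← hn]
      refine lt_of_le_of_ne (Subgroup.card_le_card_group N) fun h => htop ?_
      exact Subgroup.eq_top_of_card_eq N h
    · have hmap : (Subgroup.closure ({x, y} : Set N)).map N.subtype =
          Subgroup.closure ({(x : G), (y : G)} : Set G) := by
        rw [MonoidHom.map_closure, Set.image_pair]
        rfl
      let φ : Subgroup.closure ({x, y} : Set N) ≃* Subgroup.closure ({(x : G), (y : G)} : Set G) :=
        ((Subgroup.closure ({x, y} : Set N)).equivMapOfInjective _ N.subtype_injective).trans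
          (MulEquiv.subgroupCongr hmap)
      exact Cfsg.Agent.Cores.isPSolvable_of_surjective
        (hc x y (by rw [Subgroup.orderOf_coe]; exact hx) (by rw [Subgroup.orderOf_coe]; exact hy))
        φ.symm.toMonoidHom φ.symm.surjective
  · refine Cfsg.Agent.Cores.isPSolvable_of_normal_of_quotient N
      (Cfsg.Agent.Cores.isPSolvable_of_coprime (hp.coprime_iff_not_dvd.2 h1).symm) ?_
    have hs := QuotientGroup.mk'_surjective N
    let R := P.mapSurjective hs
    have hR : IsCyclic (R : Subgroup (G ⧸ N)) := by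
      rw [Sylow.coe_mapSurjective]
      exact isCyclic_of_surjective _ ((QuotientGroup.mk' N).subgroupMap_surjective (P : Subgroup G))
    have hlift : ∀ v : G ⧸ N, orderOf v = p → ∃ x : G, orderOf x = p ∧ QuotientGroup.mk' N x = v := by
      intro v hv
      obtain ⟨x, rfl⟩ := hs v
      refine ⟨Cfsg.Agent.BlockBasic.pPart (p := p) x, ?_, ?_⟩
      · obtain ⟨k, hk⟩ := Cfsg.Agent.BlockBasic.exists_orderOf_pPart (p := p) x
        have hreg := Cfsg.Agent.BlockBasic.not_dvd_orderOf_pReg (p := p) x
        have hm1 : QuotientGroup.mk' N (Cfsg.Agent.BlockBasic.pReg (p := p) x) ^ p = 1 →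
            QuotientGroup.mk' N (Cfsg.Agent.BlockBasic.pReg (p := p) x) = 1 := fun h => by
          rw [← orderOf_eq_one_iff]
          exact Nat.eq_one_of_dvd_coprimes (hp.coprime_iff_not_dvd.2 hreg)
            (orderOf_dvd_of_pow_eq_one h) (orderOf_map_dvd _ _)
        have hc' := (Cfsg.Agent.BlockBasic.commute_pPart_pReg (p := p) x).map (QuotientGroup.mk' N)
        have hvp : (QuotientGroup.mk' N (Cfsg.Agent.BlockBasic.pPart (p := p) x)) ^ p = 1 := by
          have h1' : QuotientGroup.mk' N (Cfsg.Agent.BlockBasic.pPart (p := p) x) ^ p *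
              QuotientGroup.mk' N (Cfsg.Agent.BlockBasic.pReg (p := p) x) ^ p = 1 := by
            rw [← hc'.mul_pow, ← map_mul, Cfsg.Agent.BlockBasic.pPart_mul_pReg, ← hv]
            exact pow_orderOf_eq_one _
          have ho1 : orderOf (QuotientGroup.mk' N (Cfsg.Agent.BlockBasic.pPart (p := p) x) ^ p) ∣
              p ^ k := (orderOf_pow_dvd p).trans (hk ▸ orderOf_map_dvd _ _)
          have ho2 : orderOf (QuotientGroup.mk' N (Cfsg.Agent.BlockBasic.pPart (p := p) x) ^ p) ∣
              orderOf (Cfsg.Agent.BlockBasic.pReg (p := p) x) := by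
            rw [eq_inv_of_mul_eq_one_left h1', orderOf_inv]
            exact (orderOf_pow_dvd p).trans (orderOf_map_dvd _ _)
          rw [← orderOf_eq_one_iff]
          exact Nat.eq_one_of_dvd_coprimes ((hp.coprime_iff_not_dvd.2 hreg).pow_left k) ho1 ho2
        have hxp : Cfsg.Agent.BlockBasic.pPart (p := p) x ^ p = 1 := by
          rw [← map_pow, QuotientGroup.mk'_apply, QuotientGroup.eq_one_iff] at hvp
          rw [← orderOf_eq_one_iff]
          refine Nat.eq_one_of_dvd_coprimes ((hp.coprime_iff_not_dvd.2 h1).pow_left k)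
            (hk ▸ orderOf_pow_dvd p) ?_
          have := orderOf_dvd_natCard (⟨_, hvp⟩ : N)
          rwa [Subgroup.orderOf_mk] at this
        refine orderOf_eq_prime hxp fun h => ?_
        have hr : QuotientGroup.mk' N (Cfsg.Agent.BlockBasic.pReg (p := p) x) =
            QuotientGroup.mk' N x := by
          conv_rhs => rw [← Cfsg.Agent.BlockBasic.pPart_mul_pReg (p := p) x]
          rw [map_mul, h, map_one, one_mul]
        have h3 := orderOf_map_dvd (QuotientGroup.mk' N) (Cfsg.Agent.BlockBasic.pReg (p := p) x)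
        rw [hr, hv] at h3
        exact hreg h3
      · have hreg := Cfsg.Agent.BlockBasic.not_dvd_orderOf_pReg (p := p) x
        have hc' := (Cfsg.Agent.BlockBasic.commute_pPart_pReg (p := p) x).map (QuotientGroup.mk' N)
        obtain ⟨k, hk⟩ := Cfsg.Agent.BlockBasic.exists_orderOf_pPart (p := p) x
        have hco : (orderOf (QuotientGroup.mk' N (Cfsg.Agent.BlockBasic.pPart (p := p) x))).Coprime
            (orderOf (QuotientGroup.mk' N (Cfsg.Agent.BlockBasic.pReg (p := p) x))) := by
          refine Nat.Coprime.coprime_dvd_left (hk ▸ orderOf_map_dvd _ _) ?_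
          exact Nat.Coprime.coprime_dvd_right (orderOf_map_dvd _ _)
            ((hp.coprime_iff_not_dvd.2 hreg).pow_left k)
        have h3 := hc'.orderOf_mul_eq_mul_orderOf_of_coprime hco
        rw [← map_mul, Cfsg.Agent.BlockBasic.pPart_mul_pReg, hv] at h3
        have h4 : orderOf (QuotientGroup.mk' N (Cfsg.Agent.BlockBasic.pReg (p := p) x)) = 1 := by
          refine ((hp.eq_one_or_self_of_dvd _ ⟨_, h3.trans (mul_comm _ _)⟩).resolve_right fun h => ?_)
          exact hreg (h.symm.dvd.trans (orderOf_map_dvd _ _))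
        rw [orderOf_eq_one_iff] at h4
        conv_rhs => rw [← Cfsg.Agent.BlockBasic.pPart_mul_pReg (p := p) x, map_mul, h4, mul_one]
    refine ih (Nat.card (G ⧸ N)) ?_ rfl R hR fun v w hv hw => ?_
    · rw [← hn]
      change N.index < Nat.card G
      rw [← Subgroup.card_mul_index N]
      exact lt_mul_of_one_lt_left (Nat.pos_of_ne_zero Subgroup.index_ne_zero_of_finite)
        (Subgroup.one_lt_card_iff_ne_bot _ |>.2 hbot)
    · obtain ⟨x, hx, rfl⟩ := hlift v hv
      obtain ⟨y, hy, rfl⟩ := hlift w hw
      have hmap : (Subgroup.closure ({x, y} : Set G)).map (QuotientGroup.mk' N) =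
          Subgroup.closure ({QuotientGroup.mk' N x, QuotientGroup.mk' N y} : Set (G ⧸ N)) := by
        rw [MonoidHom.map_closure, Set.image_pair]
      exact Cfsg.Agent.Cores.isPSolvable_of_surjective (hc x y hx hy)
        ((MulEquiv.subgroupCongr hmap).toMonoidHom.comp
          ((QuotientGroup.mk' N).subgroupMap (Subgroup.closure ({x, y} : Set G))))
        ((MulEquiv.subgroupCongr hmap).surjective.comp
          ((QuotientGroup.mk' N).subgroupMap_surjective _))

/-- Let G be a finite group whose Sylow p-subgroups are cyclic. Then G is p-solvable if and only if every two elements of order p of G generate a p-solvable subgroup. -/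
theorem result {G : Type*} [Group G] [Finite G] {p : ℕ} [Fact p.Prime] (P : Sylow p G) (hP : IsCyclic ↥(P : Subgroup G)) :
    Cfsg.IsPSolvable p G ↔ ∀ x y : G, orderOf x = p → orderOf y = p → Cfsg.IsPSolvable p ↥(Subgroup.closure ({x, y} : Set G)) := by
  exact ⟨fun h _ _ _ _ => Cfsg.Agent.Cores.isPSolvable_subgroup h _,
    isPSolvable_of_pairs _ rfl P hP⟩

end Cfsg.Agent.S1950
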