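import Cfsg.Statements.S1952
import Mathlib.FieldTheory.Finite.Basic
import Mathlib.Data.Finite.Perm
import Mathlib.Algebra.Field.ZMod
import Mathlib.GroupTheory.Perm.Cycle.Type
import Mathlib.GroupTheory.GroupAction.Quotient
import Mathlib.GroupTheory.Sylow
import Mathlib.LinearAlgebra.Dual.Lemmas
import Mathlib.Algebra.Module.ZMod
import Mathlib.NumberTheory.Padics.PadicVal.Basic


set_option autoImplicit false
open Cfsg

namespace Cfsg.Agent.S1952

open Subgroup


/-- A shift-invariant space containing a vector of nonzero sum is everything. -/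
theorem shift_invariant_eq_top {p : ℕ} [Fact p.Prime] (W : Submodule (ZMod p) (ZMod p → ZMod p))
    (hT : ∀ w ∈ W, (fun i => w (i + 1)) ∈ W) {v : ZMod p → ZMod p} (hv : v ∈ W)
    (hs : ∑ i, v i ≠ 0) : W = ⊤ := by
  classical
  by_contra hW
  obtain ⟨φ, hφ, hφW⟩ := Submodule.exists_dual_map_eq_bot_of_lt_top (lt_top_iff_ne_top.mpr hW)
    inferInstance
  let U : Submodule (ZMod p) (ZMod p → ZMod p) :=
    { carrier := {c | ∀ w ∈ W, ∑ i, c i * w i = 0}
      add_mem' := fun {a b} ha hb w hw => by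
        simp only [Pi.add_apply, add_mul, Finset.sum_add_distrib, ha w hw, hb w hw, add_zero]
      zero_mem' := fun w _ => by simp
      smul_mem' := fun r a ha w hw => by
        simp only [Pi.smul_apply, smul_eq_mul, mul_assoc, ← Finset.mul_sum, ha w hw, mul_zero] }
  have hcU : (fun i => φ (Pi.single i 1)) ∈ U := by
    intro w hw
    have h1 : φ w = 0 := by
      have : φ w ∈ W.map φ := Submodule.mem_map_of_mem hw
      rwa [hφW, Submodule.mem_bot] at this
    rw [← h1]
    conv_rhs => rw [pi_eq_sum_univ w, map_sum]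
    refine Finset.sum_congr rfl fun i _ => ?_
    rw [map_smul, smul_eq_mul, mul_comm]
    congr 1
    show φ (Pi.single i 1) = _
    congr 1
    funext j
    simp [Pi.single_apply, eq_comm]
  have hc0 : (fun i => φ (Pi.single i 1)) ≠ 0 := by
    intro h0
    refine hφ (LinearMap.pi_ext fun i x => ?_)
    have : Pi.single i x = x • (Pi.single i (1 : ZMod p) : ZMod p → ZMod p) := by
      rw [← Pi.single_smul]; simp
    rw [this, map_smul, show φ (Pi.single i 1) = 0 from congrFun h0 i, smul_zero, LinearMap.zero_apply]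
  have hUT : ∀ c ∈ U, (fun i => c (i - 1)) ∈ U := by
    intro c hc w hw
    rw [← hc _ (hT w hw)]
    exact Fintype.sum_equiv (Equiv.subRight 1) _ _ fun i => by simp
  let sh : U → U := fun c => ⟨fun i => c.1 (i - 1), hUT _ c.2⟩
  have hinj : Function.Injective sh := fun a b h => Subtype.ext (funext fun i => by
    simpa [sh] using congrFun (congrArg Subtype.val h) (i + 1))
  let σ : Equiv.Perm U := Equiv.ofBijective sh ((Finite.injective_iff_bijective).mp hinj)
  have hσ : ∀ (n : ℕ) (c : U) (i : ZMod p), ((σ ^ n) c).1 i = c.1 (i - n) := by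
    intro n
    induction n with
    | zero => simp
    | succ n hn =>
      intro c i
      rw [pow_succ', Equiv.Perm.mul_apply]
      show ((σ ^ n) c).1 (i - 1) = _
      rw [hn]
      push_cast
      ring_nf
  have hσp : σ ^ p ^ 1 = 1 := Equiv.ext fun c => Subtype.ext (funext fun i => by
    rw [pow_one, hσ]; simp)
  letI : Fintype U := Fintype.ofFinite _
  have hdvd : p ∣ Fintype.card U := by
    haveI : Nontrivial U := ⟨⟨⟨_, hcU⟩, 0, fun h => hc0 (congrArg Subtype.val h)⟩⟩
    obtain ⟨n, hn⟩ : ∃ n, Fintype.card U = p ^ n :=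
      ⟨_, by rw [Module.card_eq_pow_finrank (K := ZMod p), ZMod.card]⟩
    have hn0 : n ≠ 0 := by
      intro h
      have := Fintype.one_lt_card (α := U)
      rw [hn, h, pow_zero] at this
      exact lt_irrefl 1 this
    exact hn ▸ dvd_pow_self p hn0
  obtain ⟨b, hb, hb0⟩ := Equiv.Perm.exists_fixed_point_of_prime' hdvd hσp (a := 0)
    (Subtype.ext (funext fun i => rfl))
  have hconst : ∀ i, b.1 i = b.1 0 := by
    intro i
    have h2 : (σ ^ i.val) b = b := Function.IsFixedPt.perm_pow hb i.val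
    have h3 := hσ i.val b i
    rw [h2, ZMod.natCast_val, ZMod.cast_id, sub_self] at h3
    exact h3
  have h4 := b.2 v hv
  simp_rw [hconst, ← Finset.mul_sum] at h4
  refine hb0 (Subtype.ext (funext fun i => ?_))
  rw [hconst i]
  exact (mul_eq_zero.mp h4).resolve_right hs

theorem exists_addMonoidHom_ne_zero {p : ℕ} [Fact p.Prime] {V : Type*} [AddCommGroup V]
    [Module (ZMod p) V] {v : V} (hv : v ≠ 0) : ∃ φ : V →+ ZMod p, φ v ≠ 0 := by
  obtain ⟨φ, hφ⟩ := not_forall.mp fun h =>
    hv ((Module.forall_dual_apply_eq_zero_iff (ZMod p) v).mp h)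
  exact ⟨φ.toAddMonoidHom, hφ⟩

theorem exists_hom_zmod {P : Type*} [Group P] [Finite P] {p : ℕ} [Fact p.Prime] {A : Subgroup P}
    (hA : Cfsg.IsElementaryAbelian p A) {z : P} (hz : z ∈ A) (hz1 : z ≠ 1) :
    ∃ l : P → ZMod p, (∀ a ∈ A, ∀ b ∈ A, l (a * b) = l a + l b) ∧ l z ≠ 0 := by
  classical
  letI : CommGroup A := { (inferInstance : Group A) with mul_comm := hA.1.is_comm.comm }
  have hp0 : ∀ a : Additive A, p • a = 0 := fun a => by
    apply Additive.toMul.injective
    apply Subtype.ext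
    simpa using hA.2 _ (Additive.toMul a).2
  letI : Module (ZMod p) (Additive A) := AddCommGroup.zmodModule hp0
  have hne : (Additive.ofMul ⟨z, hz⟩ : Additive A) ≠ 0 := fun h =>
    hz1 (congrArg Subtype.val (Additive.ofMul.injective (h.trans ofMul_one.symm)))
  obtain ⟨φ, hφ⟩ := exists_addMonoidHom_ne_zero (p := p) hne
  refine ⟨fun g => if h : g ∈ A then φ (Additive.ofMul ⟨g, h⟩) else 0, fun a ha b hb => ?_, ?_⟩
  · simp only [ha, hb, mul_mem ha hb, dite_true]
    rw [← map_add]
    rfl
  · simpa [hz] using hφ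

theorem card_sylow_perm_sq {p : ℕ} [hp : Fact p.Prime] (Q : Sylow p (Equiv.Perm (Fin (p ^ 2)))) :
    Nat.card Q = p ^ (p + 1) := by
  rw [Sylow.card_eq_multiplicity, Nat.card_perm, Nat.card_fin, Nat.factorization_def _ hp.out,
    sq, padicValNat_factorial_mul]
  congr 1
  have h := padicValNat_factorial_mul (p := p) 1
  rw [mul_one, Nat.factorial_one, padicValNat.one] at h
  omega

/-- Let P be a finite p-group with a normal elementary abelian subgroup A of index p, and let x ∈ A and y ∈ P with y outside A. If the product of the p conjugates y^(-i) x y^i (i = 0, …, p−1) is not the identity, then the wreath product Z_p ≀ Z_p, realised as a Sylow p-subgroup of the symmetric group of degree p², is a homomorphic image of P. -/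
theorem result {P : Type*} [Group P] [Finite P] {p : ℕ} [Fact p.Prime] (hP : IsPGroup p P) (A : Subgroup P) [A.Normal]
    (hA : Cfsg.IsElementaryAbelian p A) (hidx : A.index = p) (x y : P) (hx : x ∈ A) (hy : y ∉ A)
    (hprod : ((List.range p).map (fun i => (y ^ i)⁻¹ * x * y ^ i)).prod ≠ 1) :
    ∃ (Q : Sylow p (Equiv.Perm (Fin (p ^ 2)))) (f : P →* ↥(Q : Subgroup (Equiv.Perm (Fin (p ^ 2))))), Function.Surjective f := by
  classical
  have hp : p.Prime := Fact.out
  haveI : NeZero p := ⟨hp.ne_zero⟩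
  have hcomm : ∀ a ∈ A, ∀ b ∈ A, a * b = b * a := fun a ha b hb =>
    congrArg Subtype.val (hA.1.is_comm.comm ⟨a, ha⟩ ⟨b, hb⟩)
  have hcA : ∀ i : ℕ, ∀ a ∈ A, (y ^ i)⁻¹ * a * y ^ i ∈ A := fun i a ha => by
    simpa using (inferInstance : A.Normal).conj_mem a ha (y ^ i)⁻¹
  set L := (List.range p).map (fun i => (y ^ i)⁻¹ * x * y ^ i) with hL
  have hLA : ∀ g ∈ L, g ∈ A := by
    intro g hg
    obtain ⟨i, -, rfl⟩ := List.mem_map.mp hg
    exact hcA i x hx
  obtain ⟨l, hl, hlz⟩ := exists_hom_zmod hA (A.list_prod_mem hLA) hprod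
  have hl1 : l 1 = 0 := by
    have h := hl 1 A.one_mem 1 A.one_mem
    rw [mul_one] at h
    exact (add_right_cancel (a := 0) (by rw [zero_add]; exact h)).symm
  have hlsum : ∀ M : List P, (∀ g ∈ M, g ∈ A) → l M.prod = (M.map l).sum := by
    intro M
    induction M with
    | nil => simpa using hl1
    | cons g M hM =>
      intro h
      rw [List.prod_cons, List.map_cons, List.sum_cons,
        hl g (h g (by simp)) _ (A.list_prod_mem fun a ha => h a (by simp [ha])),
        hM fun a ha => h a (by simp [ha])]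
  let B : Subgroup P :=
    { carrier := {a | a ∈ A ∧ l a = 0}
      one_mem' := ⟨A.one_mem, hl1⟩
      mul_mem' := fun {a b} ha hb => ⟨A.mul_mem ha.1 hb.1, by rw [hl a ha.1 b hb.1, ha.2, hb.2, add_zero]⟩
      inv_mem' := fun {a} ha => ⟨A.inv_mem ha.1, by
        have h := hl a ha.1 a⁻¹ (A.inv_mem ha.1)
        rw [mul_inv_cancel, hl1, ha.2, zero_add] at h
        exact h.symm⟩ }
  have hBA : B ≤ A := fun a ha => ha.1
  let lam : A →* Multiplicative (ZMod p) := MonoidHom.mk' (fun a => Multiplicative.ofAdd (l a))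
    fun a b => by simp [hl a a.2 b b.2]
  have hBidx : B.index = p ^ 2 := by
    rw [← relIndex_mul_index hBA, hidx, sq]
    congr 1
    have hker : B.subgroupOf A = lam.ker := by
      ext a
      show ((a : P) ∈ A ∧ l a = 0) ↔ Multiplicative.ofAdd (l a) = 1
      simp
    show (B.subgroupOf A).index = p
    rw [hker, Subgroup.index_ker]
    have h1 := Subgroup.card_subgroup_dvd_card lam.range
    rw [Nat.card_congr (Multiplicative.toAdd (α := ZMod p)), Nat.card_zmod] at h1
    rcases (Nat.dvd_prime hp).mp h1 with h2 | h2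
    · exfalso
      have h3 : (⟨_, A.list_prod_mem hLA⟩ : A) ∈ lam.ker := by
        rw [MonoidHom.mem_ker]
        exact mem_bot.mp ((Subgroup.card_eq_one.mp h2).le ⟨_, rfl⟩)
      exact hlz (by simpa [lam] using h3)
    · exact h2
  let e : P ⧸ B ≃ Fin (p ^ 2) := Finite.equivFinOfCardEq hBidx
  let f : P →* Equiv.Perm (Fin (p ^ 2)) :=
    (e.permCongrHom.toMonoidHom).comp (MulAction.toPermHom P (P ⧸ B))
  have hfker : f.ker = B.normalCore := by
    rw [normalCore_eq_ker]
    ext g
    simp [f]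
  have hfp : IsPGroup p f.range := by
    rw [MonoidHom.range_eq_map]
    exact (hP.to_subgroup ⊤).map f
  obtain ⟨Q, hQ⟩ := hfp.exists_le_sylow
  -- the big image
  have hyp : y ^ p ∈ A := hidx ▸ pow_index_mem A y
  let Φ : A →* Multiplicative (ZMod p → ZMod p) := MonoidHom.mk'
    (fun a => Multiplicative.ofAdd fun i => l ((y ^ i.val)⁻¹ * (a : P) * y ^ i.val)) fun a b => by
      rw [← ofAdd_add]
      refine congrArg _ (funext fun i => ?_)
      rw [Pi.add_apply, ← hl _ (hcA _ _ a.2) _ (hcA _ _ b.2)]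
      push_cast
      group
  have hmod : ∀ n : ℕ, ∀ a ∈ A, (y ^ n)⁻¹ * a * y ^ n = (y ^ (n % p))⁻¹ * a * y ^ (n % p) := by
    intro n a ha
    have h1 := hcomm _ (hcA (n % p) a ha) _ (pow_mem hyp (n / p))
    conv_lhs => rw [← Nat.mod_add_div n p, pow_add, pow_mul, mul_inv_rev]
    calc ((y ^ p) ^ (n / p))⁻¹ * (y ^ (n % p))⁻¹ * a * (y ^ (n % p) * (y ^ p) ^ (n / p))
        = ((y ^ p) ^ (n / p))⁻¹ * ((y ^ (n % p))⁻¹ * a * y ^ (n % p) * (y ^ p) ^ (n / p)) := by group
      _ = _ := by rw [h1, inv_mul_cancel_left]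
  let W : Submodule (ZMod p) (ZMod p → ZMod p) :=
    AddSubgroup.toZModSubmodule p (Subgroup.toAddSubgroup' Φ.range)
  have hWmem : ∀ w, w ∈ W ↔ Multiplicative.ofAdd w ∈ Φ.range := fun w => Iff.rfl
  have hWtop : W = ⊤ := by
    refine shift_invariant_eq_top W (fun w hw => ?_) ((hWmem _).mpr ⟨⟨x, hx⟩, rfl⟩) ?_
    · obtain ⟨a, ha⟩ := (hWmem w).mp hw
      refine (hWmem _).mpr ⟨⟨_, hcA 1 _ a.2⟩, congrArg Multiplicative.ofAdd (funext fun i => ?_)⟩
      rw [← show _ = w from Multiplicative.ofAdd.injective ha]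
      show l ((y ^ i.val)⁻¹ * ((y ^ 1)⁻¹ * a * y ^ 1) * y ^ i.val) =
        l ((y ^ (i + 1).val)⁻¹ * a * y ^ (i + 1).val)
      congr 1
      rw [ZMod.val_add, ZMod.val_one_eq_one_mod, Nat.add_mod_mod, ← hmod (i.val + 1) a a.2,
        add_comm i.val 1, pow_add]
      group
    · have h1 : ∑ i : ZMod p, l ((y ^ i.val)⁻¹ * x * y ^ i.val) = l L.prod := by
        rw [hlsum L hLA, hL, List.map_map]
        rw [show ((List.range p).map (l ∘ fun i => (y ^ i)⁻¹ * x * y ^ i)).sum =
          ∑ i ∈ Finset.range p, l ((y ^ i)⁻¹ * x * y ^ i) from rfl]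
        rw [← Fin.sum_univ_eq_sum_range]
        exact Fintype.sum_equiv (ZMod.finEquiv p).symm.toEquiv _ _ fun i => by
          obtain ⟨j, rfl⟩ := (ZMod.finEquiv p).surjective i
          simp only [RingEquiv.toEquiv_eq_coe, EquivLike.coe_coe, RingEquiv.symm_apply_apply]
          cases p with
          | zero => exact j.elim0
          | succ n => rfl
      exact fun h => hlz (h1.symm.trans h)
  have hΦ : Function.Surjective Φ := fun w => by
    obtain ⟨a, ha⟩ := (hWmem (Multiplicative.toAdd w)).mp (hWtop ▸ Submodule.mem_top)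
    exact ⟨a, ha⟩
  have hlow : p ^ (p + 1) ≤ B.normalCore.index := by
    have hcoreA : B.normalCore ≤ A := (normalCore_le B).trans hBA
    rw [← relIndex_mul_index hcoreA, hidx, pow_succ]
    refine Nat.mul_le_mul_right p ?_
    have hle : B.normalCore.subgroupOf A ≤ Φ.ker := by
      intro a ha
      rw [MonoidHom.mem_ker]
      refine Multiplicative.toAdd.injective (funext fun i => ?_)
      have h1 := (B.normalCore_le ((normalCore_normal B).conj_mem _ (mem_subgroupOf.mp ha) (y ^ i.val)⁻¹))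
      have h2 : l ((y ^ i.val)⁻¹ * (a : P) * ((y ^ i.val)⁻¹)⁻¹) = 0 := h1.2
      simpa [Φ] using h2
    calc p ^ p = Φ.ker.index := by
          rw [Subgroup.index_ker, MonoidHom.range_eq_top.mpr hΦ, card_top,
            Nat.card_congr (Multiplicative.toAdd (α := ZMod p → ZMod p)), Nat.card_fun, Nat.card_zmod]
      _ ≤ (B.normalCore.subgroupOf A).index := Nat.le_of_dvd
          (Nat.pos_of_ne_zero index_ne_zero_of_finite) (index_dvd_of_le hle)
  have heq : f.range = (Q : Subgroup _) := by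
    refine Subgroup.eq_of_le_of_card_ge hQ ?_
    rw [card_sylow_perm_sq, ← Subgroup.index_ker, hfker]
    exact hlow
  refine ⟨Q, f.codRestrict _ fun g => heq ▸ ⟨g, rfl⟩, fun q => ?_⟩
  obtain ⟨g, hg⟩ := heq.ge q.2
  exact ⟨g, Subtype.ext hg⟩

end Cfsg.Agent.S1952
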