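import Cfsg.Statements.S1953
import Cfsg.Agent.Fusion.SelfCentralFunctor
import Cfsg.Agent.Thompson.QdLocal
import Cfsg.Agent.H49.StrongFusionForms
-- import your own Cfsg.Agent.* helpers here

set_option autoImplicit false
open Cfsg

namespace Cfsg.Agent.S1953

open Subgroup
open Cfsg.Agent.Thompson (HasSection)
open Cfsg.Agent.H48 (cj cj_le IsSylowIn)

universe u

theorem relIndex_sup_dvd_card {G : Type*} [Group G] [Finite G] (A L : Subgroup G)
    (h : A ≤ normalizer (L : Set G)) : A.relIndex (L ⊔ A) ∣ Nat.card L := by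
  refine (?_ : A.relIndex (L ⊔ A) = A.relIndex L) ▸ A.relIndex_dvd_card L
  refine (Nat.card_congr (Equiv.ofBijective
    (Subgroup.quotientSubgroupOfEmbeddingOfLE A (le_sup_left : L ≤ L ⊔ A)) ⟨Function.Embedding.injective _, ?_⟩)).symm
  intro q
  induction q using QuotientGroup.induction_on with | _ x => ?_
  obtain ⟨x, hx⟩ := x
  have hx' := hx
  rw [← SetLike.mem_coe, coe_mul_of_right_le_normalizer_left L A h] at hx'
  obtain ⟨l, hl, a, ha, rfl⟩ := hx'
  refine ⟨(⟨l, hl⟩ : L), QuotientGroup.eq.mpr ?_⟩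
  rw [mem_subgroupOf]
  show l⁻¹ * (l * a) ∈ A
  rw [inv_mul_cancel_left]
  exact ha

set_option maxHeartbeats 1000000 in
/-- If no automizer of a `p`-subgroup has a section `SL₂(p)`, then `Qd(p)` is not involved. -/
theorem qd_free {G : Type*} [Group G] [Finite G] {p : ℕ} [Fact p.Prime]
    (hfree : ∀ Q : Subgroup G, IsPGroup p ↥Q → ¬ ∃ (H K : Subgroup G) (_ : (K.subgroupOf H).Normal),
      Subgroup.centralizer (Q : Set G) ≤ K ∧ K ≤ H ∧ H ≤ Subgroup.normalizer (Q : Set G) ∧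
      Nonempty ((↥H ⧸ K.subgroupOf H) ≃* Matrix.SpecialLinearGroup (Fin 2) (ZMod p))) :
    ¬ HasSection (qd p) G := by
  intro h
  obtain ⟨M, φ0, hφ0⟩ := h
  let φ : M →* ↥(qdOver (ZMod p)) :=
    (MulEquiv.subgroupCongr (show qd p = qdOver (ZMod p) from rfl)).toMonoidHom.comp φ0
  have hφ : Function.Surjective φ :=
    (MulEquiv.subgroupCongr (show qd p = qdOver (ZMod p) from rfl)).surjective.comp hφ0
  have : (H58.Qd.trans (ZMod p)).Normal := MonoidHom.normal_ker _
  set W := (H58.Qd.trans (ZMod p)).comap φ with hW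
  obtain ⟨T⟩ := (inferInstance : Nonempty (Sylow p W))
  set U := (T : Subgroup W).map W.subtype with hU
  have hfr : normalizer (U : Set M) ⊔ W = ⊤ := Sylow.normalizer_sup_eq_top T
  -- `T` maps onto the translations
  let φW : W →* ↥(H58.Qd.trans (ZMod p)) := φ.subgroupComap (H58.Qd.trans (ZMod p))
  have hφW : Function.Surjective φW := fun ⟨x, hx⟩ => by
    obtain ⟨m, rfl⟩ := hφ x
    exact ⟨⟨m, hx⟩, rfl⟩
  have hTon : ((T.mapSurjective hφW : Sylow p _) : Subgroup ↥(H58.Qd.trans (ZMod p))) = ⊤ :=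
    ((T.mapSurjective hφW).3 ((H58.Qd.trans_isPGroup (p := p) (F := ZMod p)).to_subgroup ⊤) le_top).symm
  let ψ : M →* Matrix.SpecialLinearGroup (Fin 2) (ZMod p) := H58.Qd.toSL2.comp φ
  have hψC : ∀ c : M, c ∈ centralizer (U : Set M) → ψ c = 1 := by
    intro c hc
    have hcomm : ∀ w : Fin 2 → ZMod p, φ c * H58.Qd.mk 1 w = H58.Qd.mk 1 w * φ c := by
      intro w
      have hw : H58.Qd.mk 1 w ∈ H58.Qd.trans (ZMod p) := (H58.Qd.mem_trans_iff _).mpr ⟨w, rfl⟩
      have h1 : (⟨_, hw⟩ : H58.Qd.trans (ZMod p)) ∈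
          ((T.mapSurjective hφW : Sylow p _) : Subgroup ↥(H58.Qd.trans (ZMod p))) := by
        rw [hTon]; exact mem_top _
      rw [Sylow.coe_mapSurjective] at h1
      obtain ⟨m, hm, hmw⟩ := h1
      have hmw' : φ (m : M) = H58.Qd.mk 1 w := congrArg Subtype.val hmw
      rw [← hmw', ← map_mul, ← map_mul, ← mem_centralizer_iff.mp hc (m : M) (mem_map_of_mem _ hm)]
    obtain ⟨A, v, hAv⟩ : ∃ A v, φ c = H58.Qd.mk A v := ⟨_, _, H58.Qd.eq_mk (φ c)⟩
    show H58.Qd.toSL2 (φ c) = 1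
    rw [hAv, H58.Qd.toSL2_mk]
    have key : ∀ w : Fin 2 → ZMod p,
        (A : Matrix (Fin 2) (Fin 2) (ZMod p)).mulVec w = w := by
      intro w
      have h1 := hcomm w
      rw [hAv, H58.Qd.mk_mul, H58.Qd.mk_mul] at h1
      have h2 := congrArg (fun x => H58.Qd.ent x 0 2) h1
      have h3 := congrArg (fun x => H58.Qd.ent x 1 2) h1
      simp only [H58.Qd.ent_mk_02, H58.Qd.ent_mk_12, Matrix.SpecialLinearGroup.coe_one,
        Matrix.one_mulVec, Pi.add_apply] at h2 h3
      funext i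
      fin_cases i
      · exact add_right_cancel (h2.trans (add_comm _ _))
      · exact add_right_cancel (h3.trans (add_comm _ _))
    apply Matrix.SpecialLinearGroup.ext
    intro i j
    have h1 := congrFun (key (Pi.single j 1)) i
    rw [Matrix.mulVec_single_one] at h1
    rw [Matrix.SpecialLinearGroup.coe_one, Matrix.one_apply]
    simpa [Pi.single_apply] using h1
  -- pass to `G`
  set U₀ := U.map M.subtype with hU₀
  set C := centralizer (U₀ : Set G)
  set N := (normalizer (U : Set M)).map M.subtype with hN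
  have hNn : N ≤ normalizer (U₀ : Set G) := by
    rintro _ ⟨n, hn, rfl⟩
    refine H48.mem_normalizer_of_cj_eq (H48.cj_eq_self_of_le (cj_le.mpr ?_))
    rintro _ ⟨u, hu, rfl⟩
    exact ⟨n * u * n⁻¹, (mem_normalizer_iff.mp hn u).mp hu, by simp⟩
  have hCN : ∀ g ∈ normalizer (U₀ : Set G), ∀ c ∈ C, g * c * g⁻¹ ∈ C := fun g hg c hc =>
    mem_centralizer_iff.mpr fun u hu => by
      have h1 := mem_centralizer_iff.mp hc (g⁻¹ * u * g) (by
        simpa using (mem_normalizer_iff.mp (inv_mem hg) u).mp hu)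
      calc u * (g * c * g⁻¹) = g * (g⁻¹ * u * g * c) * g⁻¹ := by group
        _ = g * c * g⁻¹ * u := by rw [h1]; group
  have hNC : N ≤ normalizer (C : Set G) := fun g hg => H48.mem_normalizer_of_cj_eq
    (H48.cj_eq_self_of_le (cj_le.mpr (hCN g (hNn hg))))
  let f : ↥N →* Matrix.SpecialLinearGroup (Fin 2) (ZMod p) :=
    (ψ.comp (normalizer (U : Set M)).subtype).comp
      ((normalizer (U : Set M)).equivMapOfInjective M.subtype M.subtype_injective).symm.toMonoidHom
  have hf : ∀ (m : M) (hm : m ∈ normalizer (U : Set M)),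
      f ⟨M.subtype m, mem_map_of_mem _ hm⟩ = ψ m := by
    intro m hm
    have h1 : ((normalizer (U : Set M)).equivMapOfInjective M.subtype M.subtype_injective).symm
        ⟨M.subtype m, mem_map_of_mem _ hm⟩ = ⟨m, hm⟩ := by
      rw [MulEquiv.symm_apply_eq]; rfl
    exact congrArg (fun z : normalizer (U : Set M) => ψ (z : M)) h1
  have hfsurj : Function.Surjective f := fun A => by
    obtain ⟨m, hm⟩ := hφ (H58.Qd.mk A 0)
    obtain ⟨n, hn, w, hw, hnw⟩ := mem_sup_of_normal_right.mp (hfr.ge (mem_top m))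
    refine ⟨⟨M.subtype n, mem_map_of_mem _ hn⟩, (hf n hn).trans ?_⟩
    show H58.Qd.toSL2 (φ n) = A
    have hw1 : H58.Qd.toSL2 (φ w) = 1 := hw
    rw [← hnw, map_mul] at hm
    have h2 := congrArg H58.Qd.toSL2 hm
    rwa [map_mul, hw1, mul_one, H58.Qd.toSL2_mk] at h2
  have hker : ∀ x : ↥N, (x : G) ∈ C → f x = 1 := by
    rintro ⟨_, m, hm, rfl⟩ hc
    refine (hf m hm).trans (hψC m (mem_centralizer_iff.mpr fun u hu => Subtype.ext ?_))
    exact mem_centralizer_iff.mp hc (u : G) (mem_map_of_mem M.subtype hu)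
  set K := f.ker.map N.subtype ⊔ C with hK
  set H := N ⊔ C with hH
  have hHN : H ≤ normalizer (U₀ : Set G) := sup_le hNn (centralizer_le_normalizer _)
  have hKH : K ≤ H := sup_le_sup (map_subtype_le _) le_rfl
  have hKn : H ≤ normalizer (K : Set G) := by
    intro g hg
    rw [← SetLike.mem_coe, hH, coe_mul_of_left_le_normalizer_right N C hNC] at hg
    obtain ⟨n, hn, c, hc, rfl⟩ := hg
    refine mul_mem ?_ (le_normalizer ((le_sup_right : C ≤ K) hc))
    refine H48.mem_normalizer_of_cj_eq (H48.cj_eq_self_of_le ?_)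
    rw [hK, cj, Subgroup.map_sup]
    refine sup_le_sup (cj_le.mpr ?_) (cj_le.mpr (hCN n (hNn hn)))
    intro z hz
    obtain ⟨k, hk, rfl⟩ := mem_map.mp hz
    let n' : ↥N := ⟨n, hn⟩
    refine mem_map.mpr ⟨n' * k * n'⁻¹, ?_, ?_⟩
    · rw [MonoidHom.mem_ker] at hk ⊢
      rw [map_mul, map_mul, hk, mul_one, map_inv, mul_inv_cancel]
    · rw [map_mul, map_mul, map_inv]
      rfl
  have hKnorm : (K.subgroupOf H).Normal := normal_subgroupOf_of_le_normalizer hKn
  refine hfree U₀ (((T.isPGroup'.map _).map _)) ⟨H, K, hKnorm, le_sup_right, hKH, hHN, ?_⟩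
  let g : ↥N →* ↥H ⧸ K.subgroupOf H :=
    (QuotientGroup.mk' (K.subgroupOf H)).comp (Subgroup.inclusion le_sup_left)
  have hgsurj : Function.Surjective g := by
    intro q
    induction q using QuotientGroup.induction_on with | _ x => ?_
    obtain ⟨x, hx⟩ := x
    have hx' := hx
    rw [← SetLike.mem_coe, hH, coe_mul_of_left_le_normalizer_right N C hNC] at hx'
    obtain ⟨n, hn, c, hc, rfl⟩ := hx'
    refine ⟨⟨n, hn⟩, QuotientGroup.eq.mpr ?_⟩
    rw [mem_subgroupOf]
    show n⁻¹ * (n * c) ∈ K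
    rw [inv_mul_cancel_left]
    exact (le_sup_right : C ≤ K) hc
  have hgker : g.ker = f.ker := by
    ext x
    rw [MonoidHom.mem_ker, MonoidHom.mem_ker]
    show ((Subgroup.inclusion le_sup_left x : H) : H ⧸ K.subgroupOf H) = 1 ↔ _
    rw [QuotientGroup.eq_one_iff, mem_subgroupOf]
    constructor
    · intro hx
      have hx' : (x : G) ∈ ((f.ker.map N.subtype ⊔ C : Subgroup G) : Set G) := hx
      rw [coe_mul_of_left_le_normalizer_right _ C ((map_subtype_le _).trans hNC)] at hx'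
      obtain ⟨_, ⟨k, hk, rfl⟩, c, hc, hkc⟩ := hx'
      have hxk : f (k⁻¹ * x) = 1 := hker (k⁻¹ * x) (by
        have : ((k⁻¹ * x : ↥N) : G) = c := by
          show (k : G)⁻¹ * (x : G) = c
          rw [← hkc, Subgroup.coe_subtype, inv_mul_cancel_left]
        rw [this]; exact hc)
      rwa [map_mul, map_inv, show f k = 1 from hk, inv_one, one_mul] at hxk
    · intro hx
      exact (le_sup_left : f.ker.map N.subtype ≤ K) ⟨x, hx, rfl⟩
  exact ⟨((QuotientGroup.quotientKerEquivOfSurjective g hgsurj).symm.trans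
    (QuotientGroup.quotientMulEquivOfEq hgker)).trans (QuotientGroup.quotientKerEquivOfSurjective f hfsurj)⟩


/-- Let p be an odd prime and P a Sylow p-subgroup of the finite group G, and suppose that for no p-subgroup Q of G does N_G(Q)/C_G(Q) have a section isomorphic to SL₂(p). Call a subgroup Q of P centric-radical when Z(Q) is a Sylow p-subgroup of C_G(Q) and the only normal subgroup X of N_G(Q) containing Q·C_G(Q) such that the index of Q·C_G(Q) in X is a power of p is Q·C_G(Q) itself (that is, N_G(Q)/Q·C_G(Q) has no nontrivial normal p-subgroup). Then there is a centric-radical subgroup Q of P contained in every centric-radical subgroup of P; it is normal in P, and N_G(Q) controls strong fusion in P: whenever a subgroup A of P has g A g⁻¹ ≤ P, the element g is a product h c with h in N_G(Q) and c centralizing A. -/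
theorem result {G : Type*} [Group G] [Finite G] {p : ℕ} [Fact p.Prime] (hp : p ≠ 2) (P : Sylow p G)
    (hfree : ∀ Q : Subgroup G, IsPGroup p ↥Q → ¬ ∃ (H K : Subgroup G) (_ : (K.subgroupOf H).Normal),
      Subgroup.centralizer (Q : Set G) ≤ K ∧ K ≤ H ∧ H ≤ Subgroup.normalizer (Q : Set G) ∧
      Nonempty ((↥H ⧸ K.subgroupOf H) ≃* Matrix.SpecialLinearGroup (Fin 2) (ZMod p)))
    (cr : Subgroup G → Prop)
    (hcr : ∀ Q : Subgroup G, cr Q ↔ (Q ≤ (P : Subgroup G) ∧
      (∃ R : Sylow p ↥(Subgroup.centralizer (Q : Set G)),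
        (R : Subgroup ↥(Subgroup.centralizer (Q : Set G))).map (Subgroup.centralizer (Q : Set G)).subtype = Q ⊓ Subgroup.centralizer (Q : Set G)) ∧
      ∀ X : Subgroup G, X ≤ Subgroup.normalizer (Q : Set G) →
        (∀ n ∈ Subgroup.normalizer (Q : Set G), X.map (MulAut.conj n).toMonoidHom = X) →
        Q ⊔ Subgroup.centralizer (Q : Set G) ≤ X → (∃ k : ℕ, (Q ⊔ Subgroup.centralizer (Q : Set G)).relIndex X = p ^ k) →
        X = Q ⊔ Subgroup.centralizer (Q : Set G))) :
    ∃ Q : Subgroup G, cr Q ∧ (∀ R : Subgroup G, cr R → Q ≤ R) ∧ (∀ x ∈ (P : Subgroup G), Q.map (MulAut.conj x).toMonoidHom = Q) ∧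
      ∀ A : Subgroup G, A ≤ (P : Subgroup G) → ∀ g : G, A.map (MulAut.conj g).toMonoidHom ≤ (P : Subgroup G) →
        ∃ h ∈ Subgroup.normalizer (Q : Set G), ∃ c ∈ Subgroup.centralizer (A : Set G), g = h * c := by
  have hpp : p.Prime := Fact.out
  have hst : IsNormalizerPStable p G := fun R hR g hg hq =>
    Thompson.isNormalizerPStable_of_qd_free hp (qd_free hfree) R hR hg hq
  have hsfc := Fusion.Stable.sfc_kz hp (Nat.card G) G rfl hst
  set Q₀ := inducedFunctor Fusion.Stable.kzFun (P : Subgroup G) with hQ₀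
  have hPp := P.isPGroup'
  let Ctl : Subgroup G → Prop := fun Q => ∀ A : Set G, A ⊆ (P : Subgroup G) → ∀ g : G,
    (∀ a ∈ A, g * a * g⁻¹ ∈ (P : Subgroup G)) →
      ∃ h ∈ normalizer (Q : Set G), ∀ a ∈ A, h * a * h⁻¹ = g * a * g⁻¹
  let Good : Subgroup G → Prop := fun Q =>
    Q₀ ≤ Q ∧ Q ≤ (P : Subgroup G) ∧ (∀ x ∈ (P : Subgroup G), cj x Q = Q) ∧ Ctl Q
  have hQ₀good : Good Q₀ := by
    refine ⟨le_rfl, Fusion.inducedFunctor_le _, fun x hx => ?_, fun A hA g hg => ?_⟩
    · rw [hQ₀, cj, ← Fusion.inducedFunctor_map Fusion.Stable.isCharPFunctor_kzFun _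
        (MulAut.conj x).injective hPp]
      exact congrArg _ (H48.cj_eq_of_mem_normalizer (le_normalizer hx))
    · obtain ⟨k, hk, e⟩ := hsfc P A g hA (by rintro _ ⟨a, ha, rfl⟩; exact hg a ha)
      rw [H49.stepSet_singleton] at hk
      exact ⟨k, H49.steps_mem_of_subgroup hk, e⟩
  obtain ⟨Q, ⟨hQ₀Q, hQP, hQn, hQctl⟩, hmax⟩ := Set.exists_max_image {Q | Good Q}
    (fun Q : Subgroup G => Nat.card Q) (Set.toFinite _) ⟨Q₀, hQ₀good⟩
  set NQ := normalizer (Q : Set G) with hNQ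
  set C := centralizer (Q : Set G) with hC
  have hPN : (P : Subgroup G) ≤ NQ := fun x hx => H48.mem_normalizer_of_cj_eq (hQn x hx)
  have hCN : C ≤ NQ := centralizer_le_normalizer _
  have hCn : ∀ g ∈ NQ, ∀ c ∈ C, g * c * g⁻¹ ∈ C := fun g hg c hc => mem_centralizer_iff.mpr fun u hu => by
    have h1 := mem_centralizer_iff.mp hc (g⁻¹ * u * g) (by
      simpa using (mem_normalizer_iff.mp (inv_mem hg) u).mp hu)
    calc u * (g * c * g⁻¹) = g * (g⁻¹ * u * g * c) * g⁻¹ := by group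
      _ = g * c * g⁻¹ * u := by rw [h1]; group
  have hPNs : IsSylowIn p (P : Subgroup G) NQ := ⟨hPN, hPp, fun hd =>
    P.not_dvd_index (hd.trans (relIndex_dvd_index_of_le hPN))⟩
  -- normal subgroups of `N(Q)` meet `P` in Sylow subgroups
  have hnor : ∀ X : Subgroup G, X ≤ NQ → (∀ g ∈ NQ, cj g X ≤ X) →
      IsSylowIn p ((P : Subgroup G) ⊓ X) X := by
    intro X hX hXn
    obtain ⟨R, hR, -⟩ := H48.exists_isSylowIn_ge (p := p) (Q := (⊥ : Subgroup G)) IsPGroup.of_bot (bot_le (a := X))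
    obtain ⟨v, hv, hvR⟩ := hPNs.exists_cj_le hR.isPGroup (hR.le.trans hX)
    refine hR.of_card inf_le_right (hPp.to_le inf_le_left) ?_
    rw [← H48.card_cj v R]
    exact Subgroup.card_le_of_le (le_inf hvR ((H48.cj_mono hR.le).trans (hXn v hv)))
  have hCP : (P : Subgroup G) ⊓ C = Q ⊓ C := by
    refine le_antisymm (fun x hx => ⟨?_, hx.2⟩) (inf_le_inf hQP le_rfl)
    apply hQ₀Q
    have h1 : (⟨x, hx.1⟩ : (P : Subgroup G)) ∈ centralizer
        ((Fusion.Stable.kzFun ↥(P : Subgroup G) : Subgroup ↥(P : Subgroup G)) : Set ↥(P : Subgroup G)) :=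
      mem_centralizer_iff.mpr fun y hy => Subtype.ext
        (mem_centralizer_iff.mp hx.2 (y : G) (hQ₀Q (mem_map_of_mem _ hy)))
    exact ⟨_, Fusion.Stable.centralizer_kzFun_le _ hPp h1, rfl⟩
  have hZC : IsSylowIn p (Q ⊓ C) C := hCP ▸ hnor C hCN (fun g hg => cj_le.mpr (hCn g hg))
  -- radicality
  have hrad : ∀ X : Subgroup G, X ≤ NQ → (∀ n ∈ NQ, X.map (MulAut.conj n).toMonoidHom = X) →
      Q ⊔ C ≤ X → (∃ k : ℕ, (Q ⊔ C).relIndex X = p ^ k) → X = Q ⊔ C := by
    intro X hX hXn hQX hk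
    set P₀ := (P : Subgroup G) ⊓ X with hP₀
    have hS₀ : IsSylowIn p P₀ X := hnor X hX fun g hg => (hXn g hg).le
    have hQP₀ : Q ≤ P₀ := le_inf hQP (le_sup_left.trans hQX)
    have hX' : X = P₀ ⊔ C := by
      refine le_antisymm ?_ (sup_le inf_le_right (le_sup_right.trans hQX))
      rw [← Subgroup.relIndex_eq_one]
      obtain ⟨k, hk⟩ := hk
      have h1 : (P₀ ⊔ C).relIndex X ∣ p ^ k :=
        hk ▸ Subgroup.relIndex_dvd_of_le_left X (sup_le_sup hQP₀ le_rfl)
      have h2 : (P₀ ⊔ C).relIndex X ∣ P₀.relIndex X := Subgroup.relIndex_dvd_of_le_left X le_sup_left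
      obtain ⟨i, -, hi⟩ := (Nat.dvd_prime_pow hpp).mp h1
      rcases i with _ | i
      · simpa using hi
      · exact absurd ((hi ▸ dvd_pow_self p (Nat.succ_ne_zero i)).trans h2) hS₀.ndvd
    have hP₀n : ∀ x ∈ (P : Subgroup G), cj x P₀ = P₀ := fun x hx => by
      rw [hP₀, H48.cj_inf, H48.cj_eq_of_mem_normalizer (le_normalizer hx)]
      exact congrArg ((P : Subgroup G) ⊓ ·) (hXn x (hPN hx))
    have hP₀N : P₀ ≤ NQ := inf_le_left.trans hPN
    have hfac : ∀ g ∈ NQ, ∃ n ∈ normalizer (P₀ : Set G), ∃ c ∈ C, g = n * c := by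
      intro g hg
      have h1 : IsSylowIn p (cj g P₀) X := by
        have := hS₀.cj g
        rwa [show cj g X = X from hXn g hg] at this
      obtain ⟨x, hx, hxe⟩ := h1.exists_conj hS₀
      rw [H48.cj_cj] at hxe
      have hx' : x ∈ ((P₀ ⊔ C : Subgroup G) : Set G) := hX' ▸ hx
      rw [coe_mul_of_left_le_normalizer_right P₀ C
        (fun s hs => H48.mem_normalizer_of_cj_eq (H48.cj_eq_self_of_le (cj_le.mpr (hCn s (hP₀N hs)))))] at hx'
      obtain ⟨s, hs, c, hc, rfl⟩ := hx'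
      have hn : c * g ∈ normalizer (P₀ : Set G) := by
        have h2 := mul_mem (inv_mem (le_normalizer hs)) (H48.mem_normalizer_of_cj_eq hxe)
        simpa [mul_assoc] using h2
      refine ⟨c * g, hn, g⁻¹ * c⁻¹ * g, ?_, by group⟩
      simpa using hCn g⁻¹ (inv_mem hg) c⁻¹ (inv_mem hc)
    -- the normal `p`-complement of `C(Q)`
    have hZn : ((Q ⊓ C).subgroupOf C).Normal := ⟨fun z hz g => by
      have h1 : (g : G) * z = z * g := (mem_centralizer_iff.mp g.2 (z : G) hz.1).symm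
      rw [show g * z = z * g from Subtype.ext h1, mul_inv_cancel_right]
      exact hz⟩
    obtain ⟨j, hj⟩ := IsPGroup.iff_card.mp (hZC.isPGroup.comap_subtype (K := C))
    have hZidx : Nat.Coprime p ((Q ⊓ C).subgroupOf C).index := hpp.coprime_iff_not_dvd.mpr hZC.ndvd
    obtain ⟨K', hK'⟩ := Subgroup.exists_right_complement'_of_coprime (N := (Q ⊓ C).subgroupOf C)
      (hj.symm ▸ hZidx.pow_left j)
    set K := K'.map C.subtype with hK
    have hKcard : Nat.Coprime p (Nat.card K) := by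
      rw [hK, card_map_of_injective C.subtype_injective, ← hK'.symm.index_eq_card]; exact hZidx
    have hdec : ∀ c ∈ C, ∃ z ∈ Q ⊓ C, ∃ k ∈ K, c = z * k := by
      intro c hc
      obtain ⟨⟨⟨z, hz⟩, ⟨k, hk⟩⟩, hzk⟩ := hK'.2 ⟨c, hc⟩
      exact ⟨z, hz, k, mem_map_of_mem _ hk, (congrArg Subtype.val hzk).symm⟩
    have hKn : ∀ g ∈ NQ, ∀ k ∈ K, g * k * g⁻¹ ∈ K := by
      intro g hg k hk
      obtain ⟨z, hz, k₁, hk₁, hyk⟩ := hdec _ (hCn g hg k (map_subtype_le _ hk))
      suffices hz1 : z = 1 by rw [hyk, hz1, one_mul]; exact hk₁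
      have hord : ∀ w ∈ K, w ^ Nat.card K = 1 := fun w hw =>
        congrArg Subtype.val (pow_card_eq_one' (x := (⟨w, hw⟩ : K)))
      have hcomm : Commute z k₁ := mem_centralizer_iff.mp (map_subtype_le _ hk₁) z hz.1
      have h1 : z ^ Nat.card K = 1 := by
        have h2 := congrArg (· ^ Nat.card K) hyk
        simp only [conj_pow, hord k hk, mul_one, mul_inv_cancel, hcomm.mul_pow, hord k₁ hk₁] at h2
        exact h2.symm
      obtain ⟨i, hi⟩ := hZC.isPGroup ⟨z, hz⟩
      have h3 : z ^ p ^ i = 1 := congrArg Subtype.val hi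
      have := (pow_gcd_eq_one (a := z) (m := p ^ i) (n := Nat.card K)).mpr ⟨h3, h1⟩
      rwa [(hKcard.pow_left i).gcd_eq_one, pow_one] at this
    have hgood : Good P₀ := by
      refine ⟨hQ₀Q.trans hQP₀, inf_le_left, hP₀n, fun A hA g hg => ?_⟩
      obtain ⟨h, hh, he⟩ := hQctl A hA g hg
      obtain ⟨n₀, hn₀, c, hc, rfl⟩ := hfac h hh
      obtain ⟨z, hz, k, hk, rfl⟩ := hdec c hc
      set n := n₀ * z with hn'
      have hn : n ∈ normalizer (P₀ : Set G) := mul_mem hn₀ (le_normalizer (hQP₀ hz.1))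
      have hPP₀ : (P : Subgroup G) ≤ normalizer (P₀ : Set G) :=
        fun x hx => H48.mem_normalizer_of_cj_eq (hP₀n x hx)
      set A₀ := closure A
      have hA₀P : A₀ ≤ (P : Subgroup G) := (closure_le _).mpr hA
      set L := K ⊓ normalizer (P₀ : Set G) with hL
      have hLn : ∀ x ∈ A₀, ∀ l ∈ L, x * l * x⁻¹ ∈ L := fun x hx l hl =>
        mem_inf.mpr ⟨hKn x (hPN (hA₀P hx)) l hl.1,
          mul_mem (mul_mem (hPP₀ (hA₀P hx)) hl.2) (inv_mem (hPP₀ (hA₀P hx)))⟩
      have hAL : A₀ ≤ normalizer (L : Set G) :=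
        fun x hx => H48.mem_normalizer_of_cj_eq (H48.cj_eq_self_of_le (cj_le.mpr (hLn x hx)))
      have hd : ∀ a ∈ A, k * a * k⁻¹ * a⁻¹ ∈ L := by
        intro a ha
        refine mem_inf.mpr ⟨?_, mul_mem ?_ (inv_mem (hPP₀ (hA ha)))⟩
        · have := mul_mem hk (hKn a (hPN (hA ha)) k⁻¹ (inv_mem hk))
          simpa [mul_assoc] using this
        · have h1 := he a ha
          have h2 : k * a * k⁻¹ = n⁻¹ * (g * a * g⁻¹) * n := by rw [← h1, hn']; group
          rw [h2]
          exact mul_mem (mul_mem (inv_mem hn) (hPP₀ (hg a ha))) hn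
      have hB : cj k A₀ ≤ L ⊔ A₀ := by
        rw [cj, MonoidHom.map_closure, closure_le]
        rintro _ ⟨a, ha, rfl⟩
        have := mul_mem (mem_sup_left (T := A₀) (hd a ha)) (mem_sup_right (S := L) (subset_closure ha))
        simpa [mul_assoc] using this
      have hLcop : ¬ p ∣ Nat.card L := fun h => (hpp.coprime_iff_not_dvd.mp hKcard)
        (h.trans (Subgroup.card_dvd_of_le inf_le_left))
      have hAsyl : IsSylowIn p A₀ (L ⊔ A₀) := by
        refine ⟨le_sup_right, hPp.to_le hA₀P, fun h => hLcop (h.trans ?_)⟩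
        exact relIndex_sup_dvd_card A₀ L hAL
      have hBsyl : IsSylowIn p (cj k A₀) (L ⊔ A₀) :=
        hAsyl.of_card hB (H48.isPGroup_cj (hPp.to_le hA₀P)) (H48.card_cj _ _).ge
      obtain ⟨x, hx, hxe⟩ := hAsyl.exists_conj hBsyl
      rw [← SetLike.mem_coe, coe_mul_of_right_le_normalizer_left L A₀ hAL] at hx
      obtain ⟨l, hl, a₀, ha₀, rfl⟩ := hx
      rw [← H48.cj_cj, H48.cj_eq_of_mem_normalizer (le_normalizer ha₀)] at hxe
      refine ⟨n * l, mul_mem hn hl.2, fun a ha => ?_⟩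
      have haB : l * a * l⁻¹ ∈ cj k A₀ := hxe ▸ H48.conj_mem_cj (subset_closure ha)
      have h1 : (l * a * l⁻¹) * (k * a * k⁻¹)⁻¹ ∈ cj k A₀ :=
        mul_mem haB (inv_mem (H48.conj_mem_cj (subset_closure ha)))
      have h2 : (l * a * l⁻¹) * (k * a * k⁻¹)⁻¹ ∈ L := by
        have h3 : l * (a * l⁻¹ * a⁻¹) * (k * a * k⁻¹ * a⁻¹)⁻¹ ∈ L :=
          mul_mem (mul_mem hl (hLn a (subset_closure ha) l⁻¹ (inv_mem hl))) (inv_mem (hd a ha))
        simpa [mul_assoc] using h3
      have h4 : (l * a * l⁻¹) * (k * a * k⁻¹)⁻¹ = 1 := by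
        obtain ⟨i, hi⟩ := (H48.isPGroup_cj (hPp.to_le hA₀P)) ⟨_, h1⟩
        have h3 : ((l * a * l⁻¹) * (k * a * k⁻¹)⁻¹) ^ p ^ i = 1 := congrArg Subtype.val hi
        have h5 : ((l * a * l⁻¹) * (k * a * k⁻¹)⁻¹) ^ Nat.card L = 1 :=
          congrArg Subtype.val (pow_card_eq_one' (x := (⟨_, h2⟩ : L)))
        have := (pow_gcd_eq_one (m := p ^ i) (n := Nat.card L)).mpr ⟨h3, h5⟩
        rwa [((hpp.coprime_iff_not_dvd.mpr hLcop).pow_left i).gcd_eq_one, pow_one] at this
      calc n * l * a * (n * l)⁻¹ = n * (l * a * l⁻¹) * n⁻¹ := by group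
        _ = n * (k * a * k⁻¹) * n⁻¹ := by rw [mul_inv_eq_one.mp h4]
        _ = g * a * g⁻¹ := by rw [← he a ha, hn']; group
    have hPQ : P₀ = Q := (Subgroup.eq_of_le_of_card_ge hQP₀ (hmax P₀ hgood)).symm
    rw [hX', hPQ]
  refine ⟨Q, (hcr Q).mpr ⟨hQP, ⟨hZC.toSylow, ?_⟩, hrad⟩, ?_, hQn, ?_⟩
  · rw [hZC.coe_toSylow]
    exact map_subgroupOf_eq_of_le hZC.le
  · intro R hR
    set CR := centralizer (R : Set G) with hCRdef
    obtain ⟨hRP, ⟨RC, hRC⟩, hRrad⟩ := (hcr R).mp hR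
    have hCR : (P : Subgroup G) ⊓ CR ≤ R := by
      have h1 : IsSylowIn p (R ⊓ CR) CR := by rw [← hRC]; exact H48.isSylowIn_map CR RC
      have h2 : R ⊓ CR = (P : Subgroup G) ⊓ CR :=
        h1.eq_of_le (hPp.to_le inf_le_left) inf_le_right (inf_le_inf hRP le_rfl)
      exact h2 ▸ inf_le_left
    set Y := Q ⊓ normalizer (R : Set G)
    have hconj : ∀ g ∈ normalizer (R : Set G), (Y ⊔ (R ⊔ CR)).map (MulAut.conj g).toMonoidHom = Y ⊔ (R ⊔ CR) := by
      intro g hg
      obtain ⟨h, hh, he⟩ := hQctl (R : Set G) hRP g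
        (fun r hr => hRP ((mem_normalizer_iff.mp hg r).mp hr))
      have hhR : h ∈ normalizer (R : Set G) := by
        refine H48.mem_normalizer_of_cj_eq (H48.cj_eq_self_of_le (cj_le.mpr fun r hr => ?_))
        rw [he r hr]; exact (mem_normalizer_iff.mp hg r).mp hr
      have hc : h⁻¹ * g ∈ CR := mem_centralizer_iff.mpr fun r hr => by
        calc r * (h⁻¹ * g) = h⁻¹ * (h * r * h⁻¹) * g := by group
          _ = h⁻¹ * g * r := by rw [he r hr]; group
      have hgm : g ∈ normalizer ((Y ⊔ (R ⊔ CR) : Subgroup G) : Set G) := by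
        rw [show g = h * (h⁻¹ * g) by group]
        refine mul_mem (H48.mem_normalizer_of_cj_eq ?_)
          (le_normalizer ((le_sup_right.trans (le_sup_right : R ⊔ CR ≤ Y ⊔ (R ⊔ CR))) hc))
        rw [cj, Subgroup.map_sup, Subgroup.map_sup]
        refine congrArg₂ (· ⊔ ·) ?_ (congrArg₂ (· ⊔ ·) (H48.cj_eq_of_mem_normalizer hhR) ?_)
        · show cj h (Q ⊓ normalizer (R : Set G)) = Q ⊓ normalizer (R : Set G)
          rw [H48.cj_inf, H48.cj_eq_of_mem_normalizer hh,
            H48.cj_eq_of_mem_normalizer (le_normalizer hhR)]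
        · refine H48.cj_eq_self_of_le (cj_le.mpr fun c hc' => mem_centralizer_iff.mpr fun u hu => ?_)
          have h1 := mem_centralizer_iff.mp hc' (h⁻¹ * u * h) (by
            simpa using (mem_normalizer_iff.mp (inv_mem hhR) u).mp hu)
          calc u * (h * c * h⁻¹) = h * (h⁻¹ * u * h * c) * h⁻¹ := by group
            _ = h * c * h⁻¹ * u := by rw [h1]; group
      exact H48.cj_eq_of_mem_normalizer hgm
    have hRCle : R ⊔ CR ≤ normalizer (R : Set G) := sup_le le_normalizer (centralizer_le_normalizer _)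
    have hidx : ∃ k : ℕ, (R ⊔ CR).relIndex (Y ⊔ (R ⊔ CR)) = p ^ k := by
      have hYn : Y ≤ normalizer ((R ⊔ CR : Subgroup G) : Set G) := fun y hy => by
        refine H48.mem_normalizer_of_cj_eq ?_
        rw [cj, Subgroup.map_sup]
        refine congrArg₂ (· ⊔ ·) (H48.cj_eq_of_mem_normalizer hy.2) ?_
        refine H48.cj_eq_self_of_le (cj_le.mpr fun c hc' => mem_centralizer_iff.mpr fun u hu => ?_)
        have h1 := mem_centralizer_iff.mp hc' (y⁻¹ * u * y) (by
          simpa using (mem_normalizer_iff.mp (inv_mem hy.2) u).mp hu)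
        calc u * (y * c * y⁻¹) = y * (y⁻¹ * u * y * c) * y⁻¹ := by group
          _ = y * c * y⁻¹ * u := by rw [h1]; group
      obtain ⟨i, hi⟩ := IsPGroup.iff_card.mp ((hPp.to_le (inf_le_left.trans hQP) : IsPGroup p Y))
      have h1 : (R ⊔ CR).relIndex (Y ⊔ (R ⊔ CR)) ∣ p ^ i := by
        rw [← hi, sup_comm]
        have : ((R ⊔ CR).subgroupOf ((R ⊔ CR) ⊔ Y)).Normal :=
          normal_subgroupOf_of_le_normalizer (sup_le le_normalizer hYn)
        rw [sup_comm]
        refine (?_ : (R ⊔ CR).relIndex (Y ⊔ (R ⊔ CR)) = (R ⊔ CR).relIndex Y) ▸ relIndex_dvd_card _ _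
        refine (Nat.card_congr (Equiv.ofBijective (Subgroup.quotientSubgroupOfEmbeddingOfLE (R ⊔ CR)
          (le_sup_left : Y ≤ Y ⊔ (R ⊔ CR))) ⟨Function.Embedding.injective _, ?_⟩)).symm
        intro q
        induction q using QuotientGroup.induction_on with | _ x => ?_
        obtain ⟨x, hx⟩ := x
        have hx' := hx
        rw [← SetLike.mem_coe, coe_mul_of_left_le_normalizer_right Y (R ⊔ CR) hYn] at hx'
        obtain ⟨l, hl, a, ha, rfl⟩ := hx'
        refine ⟨(⟨l, hl⟩ : Y), QuotientGroup.eq.mpr ?_⟩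
        rw [mem_subgroupOf]
        show l⁻¹ * (l * a) ∈ R ⊔ CR
        rw [inv_mul_cancel_left]
        exact ha
      obtain ⟨j, -, hj⟩ := (Nat.dvd_prime_pow hpp).mp h1
      exact ⟨j, hj⟩
    have hY : Y ≤ R := by
      have h1 := hRrad _ (sup_le inf_le_right hRCle) hconj le_sup_right hidx
      intro y hy
      have h2 : y ∈ ((R ⊔ CR : Subgroup G) : Set G) := h1.le ((le_sup_left : Y ≤ Y ⊔ (R ⊔ CR)) hy)
      rw [coe_mul_of_right_le_normalizer_left R CR (centralizer_le_normalizer _)] at h2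
      obtain ⟨r, hr, c, hc, rfl⟩ := h2
      refine mul_mem hr (hCR ⟨?_, hc⟩)
      have h3 := mul_mem (inv_mem (hRP hr)) (hQP hy.1)
      rw [inv_mul_cancel_left] at h3
      exact h3
    by_contra hQR
    have hRPn : R ≤ normalizer (Q : Set G) := hRP.trans hPN
    have hlt := H48.card_lt_card_inf_normalizer (hPp.to_le (sup_le hRP hQP)) (le_sup_left : R ≤ R ⊔ Q)
      fun h => hQR (le_sup_right.trans h.ge)
    refine absurd hlt (not_lt.mpr (Subgroup.card_le_of_le fun t ht => ?_))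
    have h2 : t ∈ ((R ⊔ Q : Subgroup G) : Set G) := ht.1
    rw [coe_mul_of_left_le_normalizer_right R Q hRPn] at h2
    obtain ⟨r, hr, q, hq, rfl⟩ := h2
    refine mul_mem hr (hY ⟨hq, ?_⟩)
    simpa using mul_mem (inv_mem (le_normalizer hr)) ht.2
  · intro A hA g hg
    obtain ⟨h, hh, he⟩ := hQctl (A : Set G) hA g fun a ha => hg (mem_map_of_mem _ ha)
    refine ⟨h, hh, h⁻¹ * g, mem_centralizer_iff.mpr fun a ha => ?_, by group⟩
    calc a * (h⁻¹ * g) = h⁻¹ * (h * a * h⁻¹) * g := by group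
      _ = h⁻¹ * g * a := by rw [he a ha]; group

end Cfsg.Agent.S1953
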