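import Cfsg.Statements.S1954
import Cfsg.Agent.H48.SylowCore
import Cfsg.Agent.Fusion.Complements


set_option autoImplicit false
open Cfsg

namespace Cfsg.Agent.S1954

open Subgroup H48

variable {G : Type*} [Group G]

/-- `y` acts on `A` like an element of `M`. -/
def Rel (M : Subgroup G) (A : Subgroup G) (y : G) : Prop :=
  ∃ h ∈ M, ∀ a ∈ A, h * a * h⁻¹ = y * a * y⁻¹

theorem Rel.of_mem {M A : Subgroup G} {y : G} (hy : y ∈ M) : Rel M A y := ⟨y, hy, fun _ _ => rfl⟩

theorem Rel.mono {M A B : Subgroup G} {y : G} (h : Rel M B y) (hAB : A ≤ B) : Rel M A y := by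
  obtain ⟨k, hk, he⟩ := h
  exact ⟨k, hk, fun a ha => he a (hAB ha)⟩

theorem Rel.comp {M A B : Subgroup G} {x y : G} (hx : Rel M A x) (hxA : cj x A ≤ B)
    (hy : Rel M B y) : Rel M A (y * x) := by
  obtain ⟨h, hh, he⟩ := hx
  obtain ⟨k, hk, he'⟩ := hy
  refine ⟨k * h, M.mul_mem hk hh, fun a ha => ?_⟩
  calc k * h * a * (k * h)⁻¹ = k * (h * a * h⁻¹) * k⁻¹ := by group
    _ = k * (x * a * x⁻¹) * k⁻¹ := by rw [he a ha]
    _ = y * (x * a * x⁻¹) * y⁻¹ := he' _ (hxA (conj_mem_cj ha))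
    _ = y * x * a * (y * x)⁻¹ := by group

theorem Rel.inv {M A : Subgroup G} {x : G} (h : Rel M A x) : Rel M (cj x A) x⁻¹ := by
  obtain ⟨k, hk, he⟩ := h
  refine ⟨k⁻¹, M.inv_mem hk, ?_⟩
  rintro _ ⟨a, ha, rfl⟩
  show k⁻¹ * (x * a * x⁻¹) * k⁻¹⁻¹ = x⁻¹ * (x * a * x⁻¹) * x⁻¹⁻¹
  calc k⁻¹ * (x * a * x⁻¹) * k⁻¹⁻¹ = k⁻¹ * (k * a * k⁻¹) * k := by rw [he a ha, inv_inv]
    _ = x⁻¹ * (x * a * x⁻¹) * x⁻¹⁻¹ := by group

/-- Let N be a normal subgroup of the finite group G, P a Sylow p-subgroup of G, and V a subgroup of P ∩ N normal in P ∩ N such that N_N(V) controls strong fusion in P ∩ N with respect to N (whenever a subgroup A of P ∩ N has n A n⁻¹ ≤ P ∩ N for some n in N, then n = h c with h in N_N(V) and c in C_N(A)). Let W be the subgroup generated by the conjugates of V under N_G(P ∩ N). Then N_G(W) controls strong fusion in P with respect to G. -/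
theorem result {G : Type*} [Group G] [Finite G] {p : ℕ} [Fact p.Prime] (N : Subgroup G) [N.Normal] (P : Sylow p G) (V : Subgroup G)
    (hV : V ≤ (P : Subgroup G) ⊓ N) (hVn : ∀ x ∈ (P : Subgroup G) ⊓ N, V.map (MulAut.conj x).toMonoidHom = V)
    (hctrl : ∀ A : Subgroup G, A ≤ (P : Subgroup G) ⊓ N → ∀ n ∈ N, A.map (MulAut.conj n).toMonoidHom ≤ (P : Subgroup G) ⊓ N →
      ∃ h ∈ N ⊓ Subgroup.normalizer (V : Set G), ∃ c ∈ N ⊓ Subgroup.centralizer (A : Set G), n = h * c)
    (W : Subgroup G) (hW : W = Subgroup.closure (⋃ x ∈ Subgroup.normalizer (((P : Subgroup G) ⊓ N : Subgroup G) : Set G),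
      ((V.map (MulAut.conj x).toMonoidHom : Subgroup G) : Set G))) :
    ∀ A : Subgroup G, A ≤ (P : Subgroup G) → ∀ g : G, A.map (MulAut.conj g).toMonoidHom ≤ (P : Subgroup G) →
        ∃ h ∈ Subgroup.normalizer (W : Set G), ∃ c ∈ Subgroup.centralizer (A : Set G), g = h * c := by
  classical
  have hp : p.Prime := Fact.out
  set R := (P : Subgroup G) ⊓ N with hR
  set NR := normalizer (R : Set G) with hNR
  set M := normalizer (W : Set G) with hM
  have hRsyl : IsSylowIn p R N := isSylowIn_inf_normal P N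
  have hNn : ∀ g : G, cj g N = N := fun g => cj_eq_of_mem_normalizer (mem_normalizer_of_normal g)
  have hfr : ∀ g : G, ∃ n ∈ N, ∃ x ∈ NR, g = n * x := by
    intro g
    obtain ⟨x, hx, hxe⟩ := (show IsSylowIn p (cj g R) N from hNn g ▸ hRsyl.cj g).exists_conj hRsyl
    rw [cj_cj] at hxe
    exact ⟨x⁻¹, N.inv_mem hx, x * g, mem_normalizer_of_cj_eq hxe, by group⟩
  have hPNR : (P : Subgroup G) ≤ NR := fun x hx => mem_normalizer_of_cj_eq (by
    rw [cj_inf, cj_eq_of_mem_normalizer (le_normalizer hx), hNn])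
  have hVW : ∀ y ∈ NR, cj y V ≤ W := fun y hy v hv => hW ▸ subset_closure (Set.mem_biUnion hy hv)
  have hWR : W ≤ R := by
    rw [hW, closure_le]
    intro v hv
    simp only [Set.mem_iUnion, SetLike.mem_coe] at hv
    obtain ⟨y, hy, hv⟩ := hv
    exact (cj_mono hV).trans (cj_eq_of_mem_normalizer hy).le hv
  have hcrit : ∀ g : G, (∀ y ∈ NR, ∃ y' ∈ NR, cj g (cj y V) = cj y' V) → g ∈ M := by
    intro g hg
    refine mem_normalizer_of_cj_eq (cj_eq_self_of_le ?_)
    rw [cj, map_le_iff_le_comap]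
    conv_lhs => rw [hW]
    rw [closure_le]
    intro v hv
    simp only [Set.mem_iUnion, SetLike.mem_coe] at hv
    obtain ⟨y, hy, hv⟩ := hv
    obtain ⟨y', hy', he⟩ := hg y hy
    exact hVW y' hy' (he.le (mem_map_of_mem _ hv))
  have hNRM : NR ≤ M := fun g hg => hcrit g fun y hy => ⟨g * y, mul_mem hg hy, cj_cj g y V⟩
  have hPM : (P : Subgroup G) ≤ M := hPNR.trans hNRM
  -- the conjugates of `V` are weakly closed
  have hwc : ∀ g : G, ∀ y ∈ NR, cj g (cj y V) ≤ R → ∃ y' ∈ NR, cj g (cj y V) = cj y' V := by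
    intro g y _ hle
    obtain ⟨n, hn, x, hx, he⟩ := hfr (g * y)
    refine ⟨x, hx, ?_⟩
    rw [cj_cj, he] at hle ⊢
    have e : n * x = x * (x⁻¹ * n * x) := by group
    rw [e, ← cj_cj] at hle ⊢
    set n' := x⁻¹ * n * x
    have hn' : n' ∈ N := by simpa using (inferInstance : N.Normal).conj_mem n hn x⁻¹
    have hle' : cj n' V ≤ R := by
      have h1 := cj_mono (g := x⁻¹) hle
      rwa [cj_inv_cj, cj_eq_of_mem_normalizer (inv_mem hx)] at h1
    obtain ⟨h, hh, c, hc, hne⟩ := hctrl V hV n' hn' hle'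
    rw [hne, ← cj_cj h c, cj_eq_of_mem_normalizer (centralizer_le_normalizer _ hc.2),
      cj_eq_of_mem_normalizer hh.2]
  -- fusion inside `N`
  have hRN : ∀ m : ℕ, ∀ A : Subgroup G, A ≤ R → Nat.card R - Nat.card A = m →
      ∀ n ∈ N, cj n A ≤ R → Rel (N ⊓ M) A n := by
    intro m
    induction m using Nat.strong_induction_on with
    | h m IH =>
      intro A hA hm n hn hnA
      by_cases hall : ∀ y ∈ NR, cj y V ≤ A
      · exact Rel.of_mem (mem_inf.mpr ⟨hn, hcrit n fun y hy =>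
          hwc n y hy ((cj_mono (hall y hy)).trans hnA)⟩)
      push Not at hall
      obtain ⟨y, hy, hyA⟩ := hall
      set n' := y⁻¹ * n * y with hn'
      have hn'N : n' ∈ N := by simpa using (inferInstance : N.Normal).conj_mem n hn y⁻¹
      have hyR : cj y⁻¹ R = R := cj_eq_of_mem_normalizer (inv_mem hy)
      obtain ⟨h, hh, c, hc, hne⟩ := hctrl (cj y⁻¹ A) ((cj_mono hA).trans hyR.le) n' hn'N (by
        show cj n' (cj y⁻¹ A) ≤ R
        rw [cj_cj, show n' * y⁻¹ = y⁻¹ * n by rw [hn']; group, ← cj_cj]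
        exact (cj_mono hnA).trans hyR.le)
      set h' := y * h * y⁻¹ with hh'
      have hh'N : h' ∈ N := (inferInstance : N.Normal).conj_mem h hh.1 y
      have hagree : ∀ a ∈ A, h' * a * h'⁻¹ = n * a * n⁻¹ := by
        intro a ha
        have h1 : c * (y⁻¹ * a * y) = (y⁻¹ * a * y) * c :=
          (mem_centralizer_iff.mp hc.2 _ (by simpa using conj_mem_cj (g := y⁻¹) ha)).symm
        calc h' * a * h'⁻¹ = y * h * (y⁻¹ * a * y) * c * c⁻¹ * h⁻¹ * y⁻¹ := by rw [hh']; group
          _ = y * (h * c) * (y⁻¹ * a * y) * (h * c)⁻¹ * y⁻¹ := by rw [mul_assoc (y * h), ← h1]; group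
          _ = n * a * n⁻¹ := by rw [← hne, hn']; group
      have hh'V : cj h' (cj y V) = cj y V := by
        rw [cj_cj, show h' * y = y * h by rw [hh']; group, ← cj_cj, cj_eq_of_mem_normalizer hh.2]
      have hlt : Nat.card A < Nat.card ↥(A ⊔ cj y V) := by
        by_contra hle
        exact hyA ((eq_of_le_of_card_le le_sup_left (not_lt.mp hle)).ge.trans' le_sup_right)
      have hsupR : A ⊔ cj y V ≤ R := sup_le hA ((cj_mono hV).trans (cj_eq_of_mem_normalizer hy).le)
      have hle2 := Subgroup.card_le_of_le hsupR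
      have hrec := IH _ (by omega) (A ⊔ cj y V) hsupR rfl h' hh'N (by
        rw [cj, Subgroup.map_sup]
        refine sup_le ?_ (hh'V.le.trans ((cj_mono hV).trans (cj_eq_of_mem_normalizer hy).le))
        rintro _ ⟨a, ha, rfl⟩
        show h' * a * h'⁻¹ ∈ R
        rw [hagree a ha]
        exact hnA (conj_mem_cj ha))
      obtain ⟨k, hk, hke⟩ := hrec
      exact ⟨k, hk, fun a ha => (hke a (mem_sup_left ha)).trans (hagree a ha)⟩
  -- fusion in `P`
  suffices main : ∀ m : ℕ, ∀ A : Subgroup G, A ≤ (P : Subgroup G) →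
      Nat.card (P : Subgroup G) - Nat.card A = m → ∀ g : G, cj g A ≤ (P : Subgroup G) → Rel M A g by
    intro A hA g hg
    obtain ⟨h, hh, he⟩ := main _ A hA rfl g hg
    refine ⟨h, hh, h⁻¹ * g, mem_centralizer_iff.mpr fun a ha => ?_, (mul_inv_cancel_left h g).symm⟩
    calc a * (h⁻¹ * g) = h⁻¹ * (h * a * h⁻¹) * g := by group
      _ = h⁻¹ * g * a := by rw [he a ha]; group
  intro m
  induction m using Nat.strong_induction_on with
  | h m IH =>
    intro A hA hm g hg
    by_cases hAP : A = (P : Subgroup G)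
    · subst hAP
      refine Rel.of_mem (hNRM (mem_normalizer_of_cj_eq ?_))
      rw [cj_inf, cj_eq_self_of_le hg, hNn]
    have hIH : ∀ B : Subgroup G, B ≤ (P : Subgroup G) → Nat.card A < Nat.card B →
        ∀ y : G, cj y B ≤ (P : Subgroup G) → Rel M B y := by
      intro B hB hlt y hy
      refine IH _ ?_ B hB rfl y hy
      have := Subgroup.card_le_of_le hB
      omega
    -- a fully normalized conjugate
    obtain ⟨k₀, hk₀, hmax⟩ := Set.exists_max_image {k : G | cj k A ≤ (P : Subgroup G)}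
      (fun k => Nat.card ↥((P : Subgroup G) ⊓ normalizer ((cj k A : Subgroup G) : Set G)))
      (Set.toFinite _) ⟨1, by rw [Set.mem_setOf_eq, cj_one]; exact hA⟩
    set Q := cj k₀ A with hQdef
    set NQ := normalizer (Q : Set G) with hNQ
    set T := (P : Subgroup G) ⊓ NQ with hTdef
    have hQT : Q ≤ T := le_inf hk₀ le_normalizer
    have hT : IsSylowIn p T NQ := by
      obtain ⟨T', hT', hle⟩ := exists_isSylowIn_ge (p := p) (Q := T) (H := NQ)
        (P.isPGroup'.to_le inf_le_left) inf_le_right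
      refine hT'.of_card inf_le_right (P.isPGroup'.to_le inf_le_left) ?_
      obtain ⟨y, -, hy⟩ := (isSylowIn_sylow P).exists_cj_le hT'.isPGroup le_top
      have hyk : cj (y * k₀) A ≤ (P : Subgroup G) := by
        rw [← cj_cj]; exact (cj_mono (hQT.trans hle)).trans hy
      have h1 : cj y T' ≤ (P : Subgroup G) ⊓ normalizer ((cj (y * k₀) A : Subgroup G) : Set G) := by
        rw [← cj_cj, ← cj_normalizer]
        exact le_inf hy (cj_mono hT'.le)
      have h2 := Subgroup.card_le_of_le h1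
      rw [card_cj] at h2
      exact h2.trans (hmax _ hyk)
    -- moving `A` and its image to `Q`
    have hmove : ∀ B : Subgroup G, B ≤ (P : Subgroup G) → Nat.card B = Nat.card A →
        ∀ k : G, cj k B = Q → ∃ k', cj k' B = Q ∧ Rel M B k' := by
      intro B hB hcard k hk
      have hne : B ≠ (P : Subgroup G) := fun h => hAP (eq_of_le_of_card_le hA (by rw [← hcard, h]))
      have hgt := card_lt_card_inf_normalizer P.isPGroup' hB hne
      obtain ⟨x, hx, hxle⟩ := hT.exists_cj_le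
        (Q := cj k ((P : Subgroup G) ⊓ normalizer (B : Set G)))
        (isPGroup_cj (P.isPGroup'.to_le inf_le_left))
        ((cj_mono inf_le_right).trans (by rw [cj_normalizer, hk]))
      rw [cj_cj] at hxle
      refine ⟨x * k, by rw [← cj_cj, hk, cj_eq_of_mem_normalizer hx],
        (hIH _ inf_le_left (by omega) _ (hxle.trans inf_le_left)).mono (le_inf hB le_normalizer)⟩
    obtain ⟨k, hk, hkrel⟩ := hmove A hA rfl k₀ rfl
    obtain ⟨k', hk', hk'rel⟩ := hmove (cj g A) hg (card_cj g A) (k₀ * g⁻¹) (by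
      rw [cj_cj, inv_mul_cancel_right])
    -- it remains to treat the normalizer of `Q`
    suffices hx : ∀ x ∈ NQ, Rel M Q x by
      have hxm : k' * g * k⁻¹ ∈ NQ := mem_normalizer_of_cj_eq (by
        conv_lhs => rw [← hk, cj_cj, inv_mul_cancel_right, ← cj_cj]
        exact hk')
      have h4 : Rel M A (k'⁻¹ * (k' * g * k⁻¹ * k)) := by
        refine Rel.comp (B := Q) (hkrel.comp hk.le (hx _ hxm)) ?_ ?_
        · rw [← cj_cj, hk, cj_eq_of_mem_normalizer hxm]
        · exact hk' ▸ hk'rel.inv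
      rwa [show k'⁻¹ * (k' * g * k⁻¹ * k) = g by group] at h4
    have hQP : Q ≤ (P : Subgroup G) := hk₀
    have hcardQ : Nat.card Q = Nat.card A := card_cj k₀ A
    have hbig : ∀ B : Subgroup G, B ≤ (P : Subgroup G) → ¬ B ≤ Q → ∀ y ∈ normalizer (B : Set G),
        y ∈ NQ → Rel M Q y := by
      intro B hB hBQ y hyB hyQ
      have hlt : Nat.card A < Nat.card ↥(Q ⊔ B) := by
        rw [← hcardQ]
        by_contra hle
        exact hBQ ((eq_of_le_of_card_le le_sup_left (not_lt.mp hle)).ge.trans' le_sup_right)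
      refine (hIH _ (sup_le hQP hB) hlt y ?_).mono le_sup_left
      rw [cj, Subgroup.map_sup]
      exact sup_le ((cj_eq_of_mem_normalizer hyQ).le.trans hQP) ((cj_eq_of_mem_normalizer hyB).le.trans hB)
    intro x hx
    by_cases hWQ : W ≤ Q
    · exact Rel.of_mem (hcrit x fun y hy => hwc x y hy (le_inf
        (((cj_mono ((hVW y hy).trans hWQ)).trans (cj_eq_of_mem_normalizer hx).le).trans hQP)
        ((cj_mono ((hVW y hy).trans (hWR.trans inf_le_right))).trans (hNn x).le)))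
    -- `N ∩ N(Q)`
    set X := N ⊓ NQ with hX
    have hR1 : IsSylowIn p (T ⊓ N) X := by
      obtain ⟨U, hU, hle⟩ := exists_isSylowIn_ge (p := p) (Q := T ⊓ N) (H := X)
        (P.isPGroup'.to_le (inf_le_left.trans inf_le_left)) (le_inf inf_le_right (inf_le_left.trans inf_le_right))
      refine hU.of_card (le_inf inf_le_right (inf_le_left.trans inf_le_right))
        (P.isPGroup'.to_le (inf_le_left.trans inf_le_left)) ?_
      obtain ⟨u, huQ, hu⟩ := hT.exists_cj_le hU.isPGroup (hU.le.trans inf_le_right)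
      rw [← card_cj u]
      exact Subgroup.card_le_of_le (le_inf hu ((cj_mono (hU.le.trans inf_le_left)).trans (hNn u).le))
    have hR1Q : ¬ T ⊓ N ≤ Q := by
      intro hle
      apply hWQ
      have hWN : W ≤ (P : Subgroup G) := hWR.trans inf_le_left
      have hQW : Q ≤ normalizer (W : Set G) := hQP.trans hPM
      by_contra hWQ'
      have hne : Q ≠ Q ⊔ W := fun h => hWQ' (h.symm ▸ le_sup_right)
      obtain ⟨z, ⟨hz, hzN⟩, hzQ⟩ : ∃ z ∈ (Q ⊔ W) ⊓ NQ, z ∉ Q := by
        by_contra! hall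
        exact absurd (Subgroup.card_le_of_le hall) (not_le.mpr (card_lt_card_inf_normalizer
          (P.isPGroup'.to_le (sup_le hQP hWN)) le_sup_left hne))
      obtain ⟨w, hw, q, hq, rfl⟩ := (Coprime.mem_sup_iff hQW).mp (sup_comm Q W ▸ hz)
      apply hzQ
      refine Q.mul_mem (hle (mem_inf.mpr ⟨mem_inf.mpr ⟨hWN hw, ?_⟩, (hWR hw).2⟩)) hq
      simpa using NQ.mul_mem (hzN : w * q ∈ NQ) (NQ.inv_mem (le_normalizer hq : q ∈ NQ))
    -- Frattini in `N(Q)`
    have hXn : ∀ y ∈ NQ, cj y X = X := fun y hy => by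
      rw [cj_inf, hNn, cj_eq_of_mem_normalizer (le_normalizer hy)]
    obtain ⟨u, hu, hux⟩ := (show IsSylowIn p (cj x (T ⊓ N)) X from hXn x hx ▸ hR1.cj x).exists_conj hR1
    rw [cj_cj] at hux
    have huxQ : u * x ∈ NQ := mul_mem hu.2 hx
    have hrel1 := hbig _ (inf_le_left.trans inf_le_left) hR1Q _ (mem_normalizer_of_cj_eq hux) huxQ
    suffices hn : ∀ n ∈ X, Rel M Q n by
      have := hrel1.comp (cj_eq_of_mem_normalizer huxQ).le (hn u⁻¹ (X.inv_mem hu))
      rwa [inv_mul_cancel_left] at this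
    set Q0 := Q ⊓ N with hQ0
    set C0 := centralizer (Q0 : Set G) with hC0
    set Xc := X ⊓ C0 with hXc
    have hQ0n : ∀ y ∈ NQ, y ∈ normalizer (Q0 : Set G) := fun y hy => mem_normalizer_of_cj_eq (by
      rw [cj_inf, cj_eq_of_mem_normalizer hy, hNn])
    have hC0n : ∀ y ∈ normalizer (Q0 : Set G), cj y C0 = C0 := by
      intro y hy
      refine cj_eq_self_of_le (cj_le.mpr fun c hc => mem_centralizer_iff.mpr fun a ha => ?_)
      have h1 := mem_centralizer_iff.mp hc (y⁻¹ * a * y)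
        (by simpa using (mem_normalizer_iff.mp (inv_mem hy) a).mp ha)
      calc a * (y * c * y⁻¹) = y * (y⁻¹ * a * y * c) * y⁻¹ := by group
        _ = y * c * y⁻¹ * a := by rw [h1]; group
    have hXcn : ∀ y ∈ NQ, cj y Xc = Xc := fun y hy => by
      rw [cj_inf, hXn y hy, hC0n y (hQ0n y hy)]
    set R2 := T ⊓ N ⊓ C0 with hR2
    have hR2X : R2 ≤ Xc := inf_le_inf_right C0 hR1.le
    have hR2s : IsSylowIn p R2 Xc := by
      obtain ⟨U, hU, hle⟩ := exists_isSylowIn_ge (p := p) (Q := R2) (H := Xc)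
        (hR1.isPGroup.to_le inf_le_left) hR2X
      refine hU.of_card hR2X (hR1.isPGroup.to_le inf_le_left) ?_
      obtain ⟨v, hv, hvU⟩ := hR1.exists_cj_le hU.isPGroup (hU.le.trans inf_le_left)
      rw [← card_cj v]
      refine Subgroup.card_le_of_le (le_inf hvU ?_)
      exact ((cj_mono hU.le).trans (hXcn v hv.2).le).trans inf_le_right
    -- elements of `Xc`
    have hXcrel : ∀ c ∈ Xc, Rel M Q c := by
      intro c hc
      set C := Xc ⊓ centralizer (Q : Set G) with hC
      haveI : (C.subgroupOf Xc).Normal := by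
        refine ⟨fun a ha b => ?_⟩
        rw [mem_subgroupOf] at ha ⊢
        refine mem_inf.mpr ⟨(b * a * b⁻¹).2, mem_centralizer_iff.mpr fun q hq => ?_⟩
        have h1 := mem_centralizer_iff.mp ha.2 ((b : G)⁻¹ * q * b) (by
          simpa using (mem_normalizer_iff.mp (inv_mem b.2.1.2) q).mp hq)
        push_cast
        calc q * ((b : G) * a * (b : G)⁻¹) = b * ((b : G)⁻¹ * q * b * a) * (b : G)⁻¹ := by group
          _ = b * a * (b : G)⁻¹ * q := by rw [h1]; group
      have hquot : IsPGroup p (Xc ⧸ C.subgroupOf Xc) := by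
        intro z
        obtain ⟨z, rfl⟩ := QuotientGroup.mk'_surjective _ z
        obtain ⟨a, b, hab, -, hb, ⟨e, hea⟩, hbp⟩ := Fusion.exists_mul_eq_pPart (p := p) z
        have hbC : b ∈ C.subgroupOf Xc := by
          rw [mem_subgroupOf]
          refine mem_inf.mpr ⟨b.2, mem_centralizer_iff.mpr fun q hq => ?_⟩
          set w := (b : G) * q * (b : G)⁻¹ * q⁻¹ with hw
          have hwN : (b : G) * (q * (b : G)⁻¹ * q⁻¹) ∈ N := N.mul_mem b.2.1.1
              ((inferInstance : N.Normal).conj_mem _ (N.inv_mem b.2.1.1) q)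
          have hwQ0 : w ∈ Q0 := mem_inf.mpr ⟨Q.mul_mem ((mem_normalizer_iff.mp b.2.1.2 q).mp hq) (Q.inv_mem hq),
            by simpa [hw, mul_assoc] using hwN⟩
          have hwc : (b : G) * w = w * b := (mem_centralizer_iff.mp b.2.2 w hwQ0).symm
          have hpow : ∀ j : ℕ, (b : G) ^ j * q * ((b : G) ^ j)⁻¹ = w ^ j * q := by
            intro j
            induction j with
            | zero => simp
            | succ j hj =>
              calc (b : G) ^ (j + 1) * q * ((b : G) ^ (j + 1))⁻¹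
                  = (b : G) * ((b : G) ^ j * q * ((b : G) ^ j)⁻¹) * (b : G)⁻¹ := by
                    rw [pow_succ']; group
                _ = ((b : G) * w ^ j) * q * (b : G)⁻¹ := by rw [hj]; group
                _ = w ^ (j + 1) * q := by
                    rw [((show Commute (b : G) w from hwc).pow_right j).eq, pow_succ, hw]; group
          have h1 := hpow (orderOf (b : G))
          rw [pow_orderOf_eq_one, one_mul, inv_one, mul_one, right_eq_mul] at h1
          obtain ⟨i, hi⟩ := IsPGroup.iff_orderOf.mp P.isPGroup' ⟨w, hQP hwQ0.1⟩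
          rw [Subgroup.orderOf_mk] at hi
          have hw1 : w = 1 := orderOf_eq_one_iff.mp (Nat.eq_one_of_dvd_coprimes
            ((show Nat.Coprime (orderOf (b : G)) p by rwa [Subgroup.orderOf_coe]).pow_right i)
            (orderOf_dvd_of_pow_eq_one h1) hi.dvd)
          rw [hw, mul_inv_eq_one, mul_inv_eq_iff_eq_mul] at hw1
          exact hw1.symm
        refine ⟨e, ?_⟩
        have hb1 : QuotientGroup.mk' (C.subgroupOf Xc) b = 1 := (QuotientGroup.eq_one_iff b).mpr hbC
        rw [hab, map_mul, hb1, mul_one, ← map_pow,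
          orderOf_dvd_iff_pow_eq_one.mp hea, map_one]
      obtain ⟨e, he⟩ := IsPGroup.iff_card.mp hquot
      have htop := Fusion.sup_eq_top_of_pow_index (p := p) (K := R2.subgroupOf Xc)
        (N := C.subgroupOf Xc) hR2s.ndvd (n := e) (by rw [Subgroup.index_eq_card, he])
      obtain ⟨r, hr, c', hc', hrc⟩ := Subgroup.mem_sup_of_normal_right.mp (htop.ge (mem_top (⟨c, hc⟩ : Xc)))
      have hrc' : (r : G) * c' = c := congrArg Subtype.val hrc
      refine ⟨r, hPM (mem_subgroupOf.mp hr).1.1.1, fun q hq => ?_⟩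
      rw [← hrc']
      calc (r : G) * q * (r : G)⁻¹ = r * (q * c') * (c' : G)⁻¹ * (r : G)⁻¹ := by group
        _ = r * c' * q * ((r : G) * c')⁻¹ := by
          rw [mem_centralizer_iff.mp (mem_subgroupOf.mp hc').2 q hq]; group
    intro n hn
    by_cases hR2Q : R2 ≤ Q
    swap
    · obtain ⟨v, hv, hvn⟩ := (show IsSylowIn p (cj n R2) Xc from hXcn n hn.2 ▸ hR2s.cj n).exists_conj hR2s
      rw [cj_cj] at hvn
      have hvnQ : v * n ∈ NQ := mul_mem hv.1.2 hn.2
      have hrel2 := hbig R2 (inf_le_left.trans (inf_le_left.trans inf_le_left)) hR2Q _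
        (mem_normalizer_of_cj_eq hvn) hvnQ
      have := hrel2.comp (cj_eq_of_mem_normalizer hvnQ).le (hXcrel v⁻¹ (Xc.inv_mem hv))
      rwa [inv_mul_cancel_left] at this
    -- the action of `n` on `Q0` comes from `M ∩ N(Q)`
    have hQ0R : Q0 ≤ R := inf_le_inf_right N hQP
    obtain ⟨h0, ⟨hh0N, hh0M⟩, hh0e⟩ := hRN _ Q0 hQ0R rfl n hn.1
      ((cj_eq_of_mem_normalizer (hQ0n n hn.2)).le.trans hQ0R)
    set C' := N ⊓ M ⊓ C0 with hC'
    have hQC' : Q ≤ normalizer (C' : Set G) := fun q hq => mem_normalizer_of_cj_eq (by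
      rw [cj_inf, cj_inf, hNn, cj_eq_of_mem_normalizer (le_normalizer (hPM (hQP hq))),
        hC0n q (hQ0n q (le_normalizer hq))])
    have hh0Q : cj h0 Q ≤ C' ⊔ Q := by
      refine cj_le.mpr fun q hq => ?_
      have hq' : n * q * n⁻¹ ∈ Q := (mem_normalizer_iff.mp hn.2 q).mp hq
      have hd : h0 * q * h0⁻¹ * (n * q * n⁻¹)⁻¹ ∈ C' := by
        refine mem_inf.mpr ⟨mem_inf.mpr ⟨?_, M.mul_mem (M.mul_mem (M.mul_mem hh0M (hPM (hQP hq)))
          (M.inv_mem hh0M)) (M.inv_mem (hPM (hQP hq')))⟩, mem_centralizer_iff.mpr fun a ha => ?_⟩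
        · have h1 : h0 * (q * h0⁻¹ * q⁻¹) ∈ N :=
            N.mul_mem hh0N ((inferInstance : N.Normal).conj_mem _ (N.inv_mem hh0N) q)
          have h2 : q * n * q⁻¹ * n⁻¹ ∈ N :=
            N.mul_mem ((inferInstance : N.Normal).conj_mem n hn.1 q) (N.inv_mem hn.1)
          simpa [mul_assoc] using N.mul_mem h1 h2
        · set d := h0 * q * h0⁻¹ * (n * q * n⁻¹)⁻¹ with hd
          set b := n⁻¹ * a * n with hb
          have hbQ : b ∈ Q0 := by simpa [hb] using (mem_normalizer_iff.mp (inv_mem (hQ0n n hn.2)) a).mp ha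
          set b' := q⁻¹ * b * q with hb'
          have hb'Q : b' ∈ Q0 := by
            simpa [hb'] using (mem_normalizer_iff.mp (inv_mem (hQ0n q (le_normalizer hq))) b).mp hbQ
          have key : d * a * d⁻¹ = a := by
            calc d * a * d⁻¹ = h0 * q * h0⁻¹ * (n * b' * n⁻¹) * h0 * q⁻¹ * h0⁻¹ := by
                  rw [hd, hb', hb]; group
              _ = h0 * (q * b' * q⁻¹) * h0⁻¹ := by rw [← hh0e b' hb'Q]; group
              _ = h0 * b * h0⁻¹ := by rw [hb']; group
              _ = a := by rw [hh0e b hbQ, hb]; group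
          exact (mul_inv_eq_iff_eq_mul.mp key).symm
      have h3 := (C' ⊔ Q).mul_mem (mem_sup_left (T := Q) hd) (mem_sup_right (S := C') hq')
      rwa [inv_mul_cancel_right] at h3
    -- `Q` is a Sylow subgroup of `C' ⊔ Q`
    have hQsyl : IsSylowIn p Q (C' ⊔ Q) := by
      obtain ⟨U, hU, hle⟩ := exists_isSylowIn_ge (p := p) (Q := Q) (H := C' ⊔ Q)
        (P.isPGroup'.to_le hQP) le_sup_right
      by_cases hUQ : Q = U
      · exact hUQ.symm ▸ hU
      exfalso
      obtain ⟨z, ⟨hzU, hzN⟩, hzQ⟩ : ∃ z ∈ U ⊓ NQ, z ∉ Q := by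
        by_contra! hall
        exact absurd (Subgroup.card_le_of_le hall)
          (not_le.mpr (card_lt_card_inf_normalizer hU.isPGroup hle hUQ))
      obtain ⟨c, hc, q, hq, rfl⟩ := (Coprime.mem_sup_iff hQC').mp (hU.le hzU)
      have hcU : c ∈ U := by simpa using U.mul_mem hzU (U.inv_mem (hle hq))
      have hcX : c ∈ Xc := mem_inf.mpr ⟨mem_inf.mpr ⟨hc.1.1,
        by simpa using NQ.mul_mem (hzN : c * q ∈ NQ) (NQ.inv_mem (le_normalizer hq : q ∈ NQ))⟩, hc.2⟩
      obtain ⟨v, hv, hvc⟩ := hR2s.exists_cj_le (Q := zpowers c)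
        (hU.isPGroup.to_le (zpowers_le.mpr hcU)) (zpowers_le.mpr hcX)
      have h1 : v * c * v⁻¹ ∈ Q := hR2Q (hvc (conj_mem_cj (mem_zpowers c)))
      exact hzQ (Q.mul_mem ((mem_normalizer_iff.mp hv.1.2 c).mpr h1) hq)
    obtain ⟨h1, hh1, hh1e⟩ := hQsyl.exists_cj_le (Q := cj h0 Q)
      (isPGroup_cj (P.isPGroup'.to_le hQP)) hh0Q
    obtain ⟨c, hc, q, hq, rfl⟩ := (Coprime.mem_sup_iff hQC').mp hh1
    set c1 := q⁻¹ * c * q with hc1
    have hc1C : c1 ∈ C' := by
      simpa [hc1] using (mem_normalizer_iff.mp (inv_mem (hQC' hq)) c).mp hc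
    set h := c1 * h0 with hh
    have hhQ : h ∈ NQ := mem_normalizer_of_cj_eq (cj_eq_self_of_le (by
      have h2 := cj_mono (g := q⁻¹) hh1e
      rw [cj_cj, cj_cj, cj_eq_of_mem_normalizer (inv_mem (le_normalizer hq : q ∈ NQ))] at h2
      rwa [hh, hc1, mul_assoc q⁻¹ c q]))
    have hhX : h ∈ X := mem_inf.mpr ⟨N.mul_mem hc1C.1.1 hh0N, hhQ⟩
    have hhe : h⁻¹ * n ∈ Xc := by
      refine mem_inf.mpr ⟨X.mul_mem (X.inv_mem hhX) hn, mem_centralizer_iff.mpr fun a ha => ?_⟩
      have hna : n * a * n⁻¹ ∈ Q0 := (mem_normalizer_iff.mp (hQ0n n hn.2) a).mp ha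
      have h3 : h * a * h⁻¹ = n * a * n⁻¹ := by
        calc h * a * h⁻¹ = c1 * (h0 * a * h0⁻¹) * c1⁻¹ := by rw [hh]; group
          _ = (c1 * (n * a * n⁻¹)) * c1⁻¹ := by rw [hh0e a ha]
          _ = n * a * n⁻¹ := by
            rw [← mem_centralizer_iff.mp hc1C.2 _ hna, mul_inv_cancel_right]
      calc a * (h⁻¹ * n) = h⁻¹ * (h * a * h⁻¹) * n := by group
        _ = h⁻¹ * n * a := by rw [h3]; group
    have := (hXcrel _ hhe).comp (cj_eq_of_mem_normalizer (mul_mem (inv_mem hhQ) hn.2)).le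
      (Rel.of_mem (M.mul_mem hc1C.1.2 hh0M : h ∈ M))
    rwa [mul_inv_cancel_left] at this

end Cfsg.Agent.S1954
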