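import Cfsg.Statements.S1957
import Cfsg.Agent.H48.SylowIn
import Cfsg.Agent.Cores.PCore
import Cfsg.Agent.PGroups.Basic
import Cfsg.Agent.H38.FourGroup
import Mathlib.GroupTheory.SpecificGroups.KleinFour


set_option autoImplicit false
open Cfsg

namespace Cfsg.Agent.S1957

open Subgroup

/-- Central case: `u` is centralized by a Sylow 2-subgroup `R` of `C(u)` normalizing `U`. -/
theorem le_pCore_centralizer {G : Type*} [Group G] [Finite G] {U R : Subgroup G} {u : G}
    (hu : orderOf u = 2) (hU4 : IsKleinFour ↥U) (huU : u ∈ U)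
    (hchar : Cfsg.IsOfCharacteristicTwo ↥(centralizer ({u} : Set G)))
    (hR : H48.IsSylowIn 2 R (centralizer ({u} : Set G))) (hRU : R ≤ normalizer (U : Set G)) :
    U ≤ (Cfsg.pCore 2 ↥(centralizer ({u} : Set G))).map (centralizer ({u} : Set G)).subtype := by
  set W := centralizer ({u} : Set G) with hW
  set O := (Cfsg.pCore 2 ↥W).map W.subtype with hO
  have hOW : O ≤ W := map_subtype_le _
  have hOR : O ≤ R := by
    have h : (Cfsg.pCore 2 W).map W.subtype ≤ (hR.toSylow : Subgroup W).map W.subtype :=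
      map_mono (Cores.pCore_le_sylow _)
    rw [H48.IsSylowIn.coe_toSylow, subgroupOf_map_subtype] at h
    exact h.trans inf_le_left
  have hcomm : ∀ w ∈ W, w * u = u * w := fun w hw => mem_centralizer_singleton_iff.mp hw
  have hZ : ∀ c ∈ zpowers u, ∀ w ∈ W, w * c * w⁻¹ = c := by
    rintro _ ⟨n, rfl⟩ w hw
    rw [mul_inv_eq_iff_eq_mul]
    exact ((Commute.zpow_right (show Commute w u from hcomm w hw) n)).eq
  have hc2 : ∀ c ∈ zpowers u, c * c = 1 := by
    rintro _ ⟨n, rfl⟩
    rw [← zpow_add, ← two_mul, zpow_mul, zpow_ofNat, ← hu, pow_orderOf_eq_one, one_zpow]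
  have hOn : ∀ w ∈ W, ∀ o ∈ O, w * o * w⁻¹ ∈ O := by
    rintro w hw _ ⟨o, ho, rfl⟩
    exact ⟨_, (inferInstance : (Cfsg.pCore 2 W).Normal).conj_mem o ho ⟨w, hw⟩, rfl⟩
  let B : Subgroup G :=
    { carrier := {w | w ∈ W ∧ ∀ o ∈ O, w * o * w⁻¹ * o⁻¹ ∈ zpowers u}
      one_mem' := ⟨one_mem _, fun o _ => by simp⟩
      mul_mem' := fun {a b} ha hb => ⟨W.mul_mem ha.1 hb.1, fun o ho => by
        have e : a * b * o * (a * b)⁻¹ * o⁻¹ =
            (a * (b * o * b⁻¹ * o⁻¹) * a⁻¹) * (a * o * a⁻¹ * o⁻¹) := by group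
        rw [e, hZ _ (hb.2 o ho) a ha.1]
        exact mul_mem (hb.2 o ho) (ha.2 o ho)⟩
      inv_mem' := fun {a} ha => ⟨W.inv_mem ha.1, fun o ho => by
        have h := ha.2 _ (hOn _ (W.inv_mem ha.1) o ho)
        have h' := inv_mem h
        simpa [mul_assoc] using h'⟩ }
  have hBp : IsPGroup 2 B := by
    intro w
    have h2 : (w : G) * w ∈ O := by
      have hmem : (⟨(w : G) * w, W.mul_mem w.2.1 w.2.1⟩ : W) ∈ Cfsg.pCore 2 W := by
        refine hchar (mem_centralizer_iff.mpr fun o ho => Subtype.ext ?_)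
        have hoO : (o : G) ∈ O := mem_map_of_mem W.subtype ho
        set c := (w : G) * o * (w : G)⁻¹ * (o : G)⁻¹ with hc
        have hcz : c ∈ zpowers u := w.2.2 o hoO
        show (o : G) * (w * w) = w * w * o
        calc (o : G) * (w * w) = (c * c) * o * (w * w) := by rw [hc2 c hcz, one_mul]
          _ = (((w : G) * c * (w : G)⁻¹) * c) * o * (w * w) := by rw [hZ c hcz w w.2.1]
          _ = w * w * o := by rw [hc]; group
      exact ⟨_, hmem, rfl⟩
    obtain ⟨k, hk⟩ := (Cores.pCore_isPGroup.map W.subtype) ⟨_, h2⟩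
    refine ⟨k + 1, Subtype.ext ?_⟩
    have hk' : ((w : G) * w) ^ 2 ^ k = 1 := congrArg Subtype.val hk
    rw [SubgroupClass.coe_pow, pow_succ', pow_mul, sq, hk']
    rfl
  have hBn : (B.subgroupOf W).Normal := by
    refine ⟨fun b hb g => ?_⟩
    rw [mem_subgroupOf] at hb ⊢
    refine ⟨(g * b * g⁻¹).2, fun o ho => ?_⟩
    have h := hb.2 _ (hOn _ (inv_mem g.2) o ho)
    have h2 : (g : G) * ((b : G) * ((g : G)⁻¹ * o * ((g : G)⁻¹)⁻¹) * (b : G)⁻¹ *
        ((g : G)⁻¹ * o * ((g : G)⁻¹)⁻¹)⁻¹) * (g : G)⁻¹ ∈ zpowers u := (hZ _ h g g.2).symm ▸ h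
    simpa [mul_assoc] using h2
  haveI := hU4
  haveI : IsMulCommutative U := ⟨⟨fun a b => mul_comm_of_exponent_two IsKleinFour.exponent_two a b⟩⟩
  have hcU : ∀ a ∈ U, ∀ b ∈ U, a * b = b * a := fun a ha b hb =>
    congrArg Subtype.val (IsMulCommutative.is_comm.comm (⟨a, ha⟩ : U) ⟨b, hb⟩)
  have hidx : ((zpowers u).subgroupOf U).index = 2 := by
    have h := Subgroup.card_mul_index ((zpowers u).subgroupOf U)
    rw [Nat.card_congr (Subgroup.subgroupOfEquivOfLe (zpowers_le.mpr huU)).toEquiv, Nat.card_zpowers,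
      hu, IsKleinFour.card_four] at h
    omega
  have hUB : U ≤ B := by
    intro v hv
    have hvW : v ∈ W := mem_centralizer_singleton_iff.mpr (hcU v hv u huU)
    refine ⟨hvW, fun o ho => ?_⟩
    have hoW := hOW ho
    have hv' : o * v * o⁻¹ ∈ U := (mem_normalizer_iff.mp (hRU (hOR ho)) v).mp hv
    have hdiff : o * v * o⁻¹ * v⁻¹ ∈ zpowers u := by
      have h := (Subgroup.mul_mem_iff_of_index_two hidx
        (a := (⟨o * v * o⁻¹, hv'⟩ : U)) (b := (⟨v, hv⟩ : U)⁻¹)).mpr ⟨fun h => ?_, fun h => ?_⟩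
      · exact mem_subgroupOf.mp h
      · have h1 : o * v * o⁻¹ ∈ zpowers u := mem_subgroupOf.mp h
        have h2 := hZ _ h1 o⁻¹ (W.inv_mem hoW)
        refine inv_mem (mem_subgroupOf.mpr ?_)
        have h3 : v = o * v * o⁻¹ := by
          calc v = o⁻¹ * (o * v * o⁻¹) * o⁻¹⁻¹ := by group
            _ = _ := h2
        show v ∈ zpowers u
        rw [h3]
        exact h1
      · have h1 := mem_subgroupOf.mp ((Subgroup.inv_mem_iff _).mp h)
        refine mem_subgroupOf.mpr ?_
        rw [show ((⟨o * v * o⁻¹, hv'⟩ : U) : G) = o * v * o⁻¹ from rfl, hZ v h1 o hoW]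
        exact h1
    have e : v * o * v⁻¹ * o⁻¹ = (o * v * o⁻¹ * v⁻¹)⁻¹ := by group
    rw [e]
    exact inv_mem hdiff
  refine hUB.trans ?_
  have h := map_mono (f := W.subtype) (Cores.le_pCore (p := 2) (N := B.subgroupOf W) hBp.comap_subtype)
  rw [subgroupOf_map_subtype, inf_eq_left.mpr (show B ≤ W from fun w hw => hw.1)] at h
  exact h

/-- Let `G` be a finite non-abelian simple group in which every local subgroup is solvable and which is of characteristic 2 type. Let `P` be a Sylow 2-subgroup of `G` and `U` a normal subgroup of `P` that is a four-group, with `U` central in `P` if the centre of `P` is not cyclic. Then `U` centralizes every subgroup of odd order of `G` that it normalizes. -/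
theorem result {G : Type*} [Group G] [Finite G]
    [IsSimpleGroup G] (hna : ¬ IsMulCommutative G) (hN : Cfsg.IsNGroup G) (h2 : Cfsg.IsCharacteristicTwoType G)
    (P : Sylow 2 G) (U : Subgroup G) (hUP : U ≤ (P : Subgroup G)) (hUn : (P : Subgroup G) ≤ Subgroup.normalizer (U : Set G))
    (hU4 : IsKleinFour ↥U)
    (hUZ : ¬ IsCyclic ↥((P : Subgroup G) ⊓ Subgroup.centralizer ((P : Subgroup G) : Set G)) →
      U ≤ Subgroup.centralizer ((P : Subgroup G) : Set G))
    (K : Subgroup G) (hK : Odd (Nat.card K)) (hUK : U ≤ Subgroup.normalizer (K : Set G)) :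
    U ≤ Subgroup.centralizer (K : Set G) := by
  classical
  haveI := hU4
  haveI : IsMulCommutative U := ⟨⟨fun a b => mul_comm_of_exponent_two IsKleinFour.exponent_two a b⟩⟩
  have hcU : ∀ a ∈ U, ∀ b ∈ U, a * b = b * a := fun a ha b hb =>
    congrArg Subtype.val (IsMulCommutative.is_comm.comm (⟨a, ha⟩ : U) ⟨b, hb⟩)
  have hsqU : ∀ a ∈ U, a * a = 1 := fun a ha =>
    congrArg Subtype.val (IsKleinFour.mul_self (⟨a, ha⟩ : U))
  have hord : ∀ u ∈ U, u ≠ 1 → orderOf u = 2 := fun u hu hu1 =>
    orderOf_eq_prime (by rw [sq]; exact hsqU u hu) hu1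
  have hloc : ∀ u : G, orderOf u = 2 →
      Cfsg.IsOfCharacteristicTwo ↥(centralizer ({u} : Set G)) := by
    intro u hu
    have hu1 : u ≠ 1 := fun h => by simp [h] at hu
    have heq : normalizer ((zpowers u : Subgroup G) : Set G) = centralizer ({u} : Set G) := by
      refine le_antisymm (fun g hg => mem_centralizer_singleton_iff.mpr ?_) fun g hg => ?_
      · obtain ⟨n, hn⟩ := (mem_normalizer_iff.mp hg u).mp (mem_zpowers u)
        have hn' : u ^ n = u ∨ u ^ n = 1 := by
          obtain ⟨m, rfl | rfl⟩ := Int.even_or_odd' n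
          · exact .inr (by rw [zpow_mul, zpow_ofNat, ← hu, pow_orderOf_eq_one, one_zpow])
          · exact .inl (by
              rw [zpow_add, zpow_mul, zpow_ofNat, ← hu, pow_orderOf_eq_one, one_zpow, one_mul, zpow_one])
        simp only at hn
        rcases hn' with h | h
        · exact mul_inv_eq_iff_eq_mul.mp (hn.symm.trans h)
        · exfalso
          rw [h] at hn
          apply hu1
          have := congrArg (fun y => g⁻¹ * y * g) hn
          simpa [mul_assoc] using this.symm
      · refine centralizer_le_normalizer _ (mem_centralizer_iff.mpr ?_)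
        rintro _ ⟨n, rfl⟩
        exact (Commute.zpow_right (show Commute g u from mem_centralizer_singleton_iff.mp hg) n).eq.symm
    have hp : IsPGroup 2 (zpowers u) := IsPGroup.of_card (n := 1) (by rw [Nat.card_zpowers, hu, pow_one])
    have := h2.2 (zpowers u) hp (by rw [Ne, zpowers_eq_bot]; exact hu1)
    rwa [heq] at this
  have hA : ∀ u ∈ U, u ≠ 1 →
      U ≤ (Cfsg.pCore 2 ↥(centralizer ({u} : Set G))).map (centralizer ({u} : Set G)).subtype := by
    intro u huU hu1
    have hu := hord u huU hu1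
    set W := centralizer ({u} : Set G) with hW
    have hUW : U ≤ W := fun v hv => mem_centralizer_singleton_iff.mpr (hcU v hv u huU)
    by_cases hPu : (P : Subgroup G) ≤ W
    · refine le_pCore_centralizer hu hU4 huU (hloc u hu) ⟨hPu, P.isPGroup', fun hd => ?_⟩ hUn
      exact P.not_dvd_index (hd.trans (relIndex_dvd_index_of_le hPu))
    -- a central involution `z` of `P` in `U`
    obtain ⟨z, hzU, hz1, hzP⟩ : ∃ z ∈ U, z ≠ 1 ∧ ∀ q ∈ (P : Subgroup G), q * z = z * q := by
      haveI : (U.subgroupOf (P : Subgroup G)).Normal :=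
        (normal_subgroupOf_iff_le_normalizer hUP).mpr hUn
      have hne : U.subgroupOf (P : Subgroup G) ≠ ⊥ := by
        intro h
        have h' : (⟨u, hUP huU⟩ : (P : Subgroup G)) ∈ U.subgroupOf (P : Subgroup G) := huU
        rw [h, mem_bot] at h'
        exact hu1 (congrArg Subtype.val h')
      obtain ⟨⟨⟨z, hzP⟩, hz⟩, hz1'⟩ := (Subgroup.ne_bot_iff_exists_ne_one.mp
        (PGroups.inf_center_ne_bot P.isPGroup' (U.subgroupOf (P : Subgroup G)) hne))
      have hz1 : (⟨z, hzP⟩ : (P : Subgroup G)) ≠ 1 := fun h => hz1' (Subtype.ext h)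
      exact ⟨z, mem_subgroupOf.mp hz.1, fun h => hz1 (Subtype.ext h), fun q hq =>
        congrArg Subtype.val (mem_center_iff.mp hz.2 ⟨q, hq⟩)⟩
    have hzu : z ≠ u := by
      rintro rfl
      exact hPu fun q hq => mem_centralizer_singleton_iff.mpr (hzP q hq)
    have helem : ∀ v ∈ U, v = 1 ∨ v = u ∨ v = z ∨ v = u * z := by
      intro v hv
      letI : Fintype U := Fintype.ofFinite _
      have h1 : (⟨u, huU⟩ : U) ≠ 1 := fun h => hu1 (congrArg Subtype.val h)
      have h2 : (⟨z, hzU⟩ : U) ≠ 1 := fun h => hz1 (congrArg Subtype.val h)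
      have h3 : (⟨u, huU⟩ : U) ≠ ⟨z, hzU⟩ := fun h => hzu (congrArg Subtype.val h).symm
      have h4 := IsKleinFour.eq_finset_univ h1 h2 h3
      have h5 := Finset.mem_univ (⟨v, hv⟩ : U)
      rw [← h4] at h5
      simp only [Finset.mem_insert, Finset.mem_singleton] at h5
      rcases h5 with h | h | h | h <;>
        replace h : v = _ := congrArg Subtype.val h <;> simp at h <;> simp [h]
    have horb : ∀ q ∈ (P : Subgroup G), q * u * q⁻¹ = u ∨ q * u * q⁻¹ = u * z := by
      intro q hq
      have hqz : q * z * q⁻¹ = z := mul_inv_eq_iff_eq_mul.mpr (hzP q hq)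
      rcases helem _ ((mem_normalizer_iff.mp (hUn hq) u).mp huU) with h | h | h | h
      · exact absurd (conj_eq_one_iff.mp h) hu1
      · exact .inl h
      · exfalso
        have h' := h.trans hqz.symm
        exact hzu (mul_left_cancel (mul_right_cancel h')).symm
      · exact .inr h
    set P0 := (P : Subgroup G) ⊓ W with hP0
    have hUP0 : U ≤ P0 := le_inf hUP hUW
    obtain ⟨p₀, hp₀, hp₀W⟩ := SetLike.not_le_iff_exists.mp hPu
    have hp₀u : p₀ * u * p₀⁻¹ = u * z := (horb p₀ hp₀).resolve_left fun h =>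
      hp₀W (mem_centralizer_singleton_iff.mpr (mul_inv_eq_iff_eq_mul.mp h))
    have hidx : P0.relIndex (P : Subgroup G) = 2 := by
      refine Subgroup.index_eq_two_iff.mpr ⟨⟨p₀, hp₀⟩, fun b => ?_⟩
      rcases horb (b : G) b.2 with h | h
      · refine Or.inr ⟨mem_subgroupOf.mpr (mem_inf.mpr ⟨b.2,
          mem_centralizer_singleton_iff.mpr (mul_inv_eq_iff_eq_mul.mp h)⟩), fun h' => hp₀W ?_⟩
        have h6 := W.mul_mem (W.inv_mem (mem_centralizer_singleton_iff.mpr
          (mul_inv_eq_iff_eq_mul.mp h) : (b : G) ∈ W)) (mem_subgroupOf.mp h').2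
        simpa using h6
      · refine Or.inl ⟨mem_subgroupOf.mpr (mem_inf.mpr ⟨mul_mem b.2 hp₀,
          mem_centralizer_singleton_iff.mpr ?_⟩), fun h' => ?_⟩
        · apply mul_inv_eq_iff_eq_mul.mp
          show (b : G) * p₀ * u * ((b : G) * p₀)⁻¹ = u
          have hbz : (b : G) * z * (b : G)⁻¹ = z := mul_inv_eq_iff_eq_mul.mpr (hzP b b.2)
          calc (b : G) * p₀ * u * ((b : G) * p₀)⁻¹ = (b : G) * (p₀ * u * p₀⁻¹) * (b : G)⁻¹ := by group
            _ = ((b : G) * u * (b : G)⁻¹) * ((b : G) * z * (b : G)⁻¹) := by rw [hp₀u]; group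
            _ = u := by rw [h, hbz, mul_assoc, hsqU z hzU, mul_one]
        · have h7 := mul_inv_eq_iff_eq_mul.mpr (mem_centralizer_singleton_iff.mp (mem_subgroupOf.mp h').2)
          exact hz1 (mul_left_cancel (((mul_one u).trans h7.symm).trans h).symm)
    have hcyc : IsCyclic ↥((P : Subgroup G) ⊓ centralizer ((P : Subgroup G) : Set G)) := by
      by_contra hc
      exact hPu fun q hq => mem_centralizer_singleton_iff.mpr
        (mem_centralizer_iff.mp (hUZ hc huU) q hq)
    have hZP : ∀ v ∈ (P : Subgroup G), v * v = 1 → (∀ q ∈ (P : Subgroup G), q * v = v * q) →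
        v = 1 ∨ v = z := by
      intro v hv hv2 hvc
      by_contra! hne
      set ZP := (P : Subgroup G) ⊓ centralizer ((P : Subgroup G) : Set G)
      have hvZ : v ∈ ZP := mem_inf.mpr ⟨hv, mem_centralizer_iff.mpr hvc⟩
      have hzZ : z ∈ ZP := mem_inf.mpr ⟨hUP hzU, mem_centralizer_iff.mpr hzP⟩
      haveI := hcyc
      letI : Fintype ZP := Fintype.ofFinite _
      have h8 := IsCyclic.card_pow_eq_one_le (α := ZP) (n := 2) two_pos
      have h9 : ({1, ⟨v, hvZ⟩, ⟨z, hzZ⟩} : Finset ZP) ⊆ Finset.univ.filter (fun x => x ^ 2 = 1) := by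
        intro y hy
        simp only [Finset.mem_insert, Finset.mem_singleton] at hy
        refine Finset.mem_filter.mpr ⟨Finset.mem_univ _, ?_⟩
        rcases hy with rfl | rfl | rfl
        · exact one_pow 2
        · exact Subtype.ext (by simpa [sq] using hv2)
        · exact Subtype.ext (by simpa [sq] using hsqU z hzU)
      have h10 := (Finset.card_le_card h9).trans h8
      rw [Finset.card_insert_of_notMem, Finset.card_pair] at h10
      · omega
      · exact fun h => hne.2 (congrArg Subtype.val h)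
      · simp only [Finset.mem_insert, Finset.mem_singleton, not_or]
        exact ⟨fun h => hne.1 (congrArg Subtype.val h).symm, fun h => hz1 (congrArg Subtype.val h).symm⟩
    -- every element of order dividing two central in `P0` lies in `U`
    have hV : ∀ v ∈ P0, v * v = 1 → (∀ q ∈ P0, q * v = v * q) → v ∈ U := by
      haveI : (P0.subgroupOf (P : Subgroup G)).Normal := Subgroup.normal_of_index_eq_two hidx
      have hconj : ∀ v ∈ P0, p₀ * v * p₀⁻¹ ∈ P0 := fun v hv => mem_subgroupOf.mp
        ((inferInstance : (P0.subgroupOf (P : Subgroup G)).Normal).conj_mem ⟨v, hv.1⟩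
          (mem_subgroupOf.mpr hv) ⟨p₀, hp₀⟩)
      have hconj' : ∀ v ∈ P0, p₀⁻¹ * v * p₀ ∈ P0 := fun v hv => by
        have := (inferInstance : (P0.subgroupOf (P : Subgroup G)).Normal).conj_mem ⟨v, hv.1⟩
          (mem_subgroupOf.mpr hv) (⟨p₀, hp₀⟩⁻¹)
        simpa [mem_subgroupOf] using this
      have hdec : ∀ q ∈ (P : Subgroup G), q ∈ P0 ∨ q * p₀ ∈ P0 := by
        intro q hq
        by_cases h : q ∈ P0
        · exact .inl h
        · right
          have hp' : (⟨p₀, hp₀⟩ : (P : Subgroup G)) ∉ P0.subgroupOf (P : Subgroup G) :=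
            fun h' => hp₀W (mem_subgroupOf.mp h').2
          exact mem_subgroupOf.mp ((Subgroup.mul_mem_iff_of_index_two hidx
            (a := (⟨q, hq⟩ : (P : Subgroup G))) (b := ⟨p₀, hp₀⟩)).mpr
            ⟨fun h' => absurd (mem_subgroupOf.mp h') h, fun h' => absurd h' hp'⟩)
      -- fixed elements
      have hfix : ∀ v ∈ P0, v * v = 1 → (∀ q ∈ P0, q * v = v * q) → p₀ * v = v * p₀ → v ∈ U := by
        intro v hv hv2 hvc hvp
        rcases hZP v hv.1 hv2 (fun q hq => by
          rcases hdec q hq with h | h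
          · exact hvc q h
          · calc q * v = (q * p₀) * (p₀⁻¹ * v) := by group
              _ = (q * p₀) * (v * p₀⁻¹) := by
                rw [(Commute.inv_left (show Commute p₀ v from hvp)).eq]
              _ = v * (q * p₀) * p₀⁻¹ := by rw [← mul_assoc, hvc _ h]
              _ = v * q := by group) with rfl | rfl
        · exact one_mem U
        · exact hzU
      have hp₀2 : p₀ * p₀ ∈ P0 := by
        have h := (Subgroup.mul_mem_iff_of_index_two hidx (a := (⟨p₀, hp₀⟩ : (P : Subgroup G)))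
          (b := ⟨p₀, hp₀⟩)).mpr Iff.rfl
        exact mem_subgroupOf.mp h
      intro v hv hv2 hvc
      set v' := p₀ * v * p₀⁻¹ with hv'
      have hv'c : ∀ q ∈ P0, q * v' = v' * q := fun q hq => by
        calc q * v' = p₀ * ((p₀⁻¹ * q * p₀) * v) * p₀⁻¹ := by rw [hv']; group
          _ = v' * q := by rw [hvc _ (hconj' q hq), hv']; group
      have hv'2 : v' * v' = 1 := by
        rw [hv', show p₀ * v * p₀⁻¹ * (p₀ * v * p₀⁻¹) = p₀ * (v * v) * p₀⁻¹ by group, hv2]; group
      have hcom : v' * v = v * v' := hvc v' (hconj v hv)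
      have hnorm : p₀ * (v * v') = (v * v') * p₀ := by
        calc p₀ * (v * v') = v' * (p₀ * p₀ * v * (p₀ * p₀)⁻¹) * p₀ := by rw [hv']; group
          _ = _ := by rw [hvc _ hp₀2, mul_inv_cancel_right, hcom]
      have hvv : v * v' ∈ U := hfix _ (mul_mem hv (hconj v hv))
        (by rw [mul_assoc, ← mul_assoc v' v v', hcom, mul_assoc v v' v', hv'2, mul_one, hv2])
        (fun q hq => ((Commute.mul_right (show Commute q v from hvc q hq) (hv'c q hq))).eq) hnorm
      -- reduce to a fixed element by multiplying with `u`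
      have hp₀z : p₀ * z = z * p₀ := hzP p₀ hp₀
      rcases hZP (v * v') (hUP hvv) (hsqU _ hvv) (fun q hq => by
        rcases hdec q hq with h | h
        · exact ((Commute.mul_right (show Commute q v from hvc q h) (hv'c q h))).eq
        · calc q * (v * v') = (q * p₀) * (p₀⁻¹ * (v * v')) := by group
            _ = (q * p₀) * ((v * v') * p₀⁻¹) := by
              rw [(Commute.inv_left (show Commute p₀ (v * v') from hnorm)).eq]
            _ = (v * v') * (q * p₀) * p₀⁻¹ := by
              rw [← mul_assoc, ((Commute.mul_right (show Commute (q * p₀) v from hvc _ h) (hv'c _ h))).eq]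
            _ = (v * v') * q := by group) with h | h
      · refine hfix v hv hv2 hvc (mul_inv_eq_iff_eq_mul.mp ?_)
        have h11 : v' = v⁻¹ := eq_inv_of_mul_eq_one_right h
        exact h11.trans (inv_eq_of_mul_eq_one_left hv2)
      · have huc : ∀ q ∈ P0, q * u = u * q := fun q hq => mem_centralizer_singleton_iff.mp hq.2
        have hvu : v * u ∈ U := by
          refine hfix _ (mul_mem hv (hUP0 huU)) ?_
            (fun q hq => ((Commute.mul_right (show Commute q v from hvc q hq) (huc q hq))).eq) ?_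
          · rw [mul_assoc, ← mul_assoc u v u, ← hvc u (hUP0 huU) |>.symm, mul_assoc v u u,
              hsqU u huU, mul_one, hv2]
          · apply mul_inv_eq_iff_eq_mul.mp
            have h11 : v' = v * z := by rw [← h, ← mul_assoc, hv2, one_mul]
            calc p₀ * (v * u) * p₀⁻¹ = v' * (p₀ * u * p₀⁻¹) := by rw [hv']; group
              _ = v * (z * (u * z)) := by rw [h11, hp₀u]; group
              _ = v * u := by rw [hcU u huU z hzU, ← mul_assoc z z u, hsqU z hzU, one_mul]
        simpa using U.mul_mem hvu (U.inv_mem huU)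
    obtain ⟨R, hR, hP0R⟩ := H48.exists_isSylowIn_ge (p := 2) (Q := P0) (H := W)
      (P.isPGroup'.to_le inf_le_left) inf_le_right
    refine le_pCore_centralizer hu hU4 huU (hloc u hu) hR ?_
    have hcP : Nat.card (P : Subgroup G) = Nat.card P0 * 2 := by
      have h := relIndex_mul_relIndex ⊥ P0 (P : Subgroup G) bot_le inf_le_left
      rw [relIndex_bot_left, relIndex_bot_left, hidx] at h
      exact h.symm
    obtain ⟨S, hRS⟩ := hR.isPGroup.exists_le_sylow
    have hRle : Nat.card R ≤ Nat.card P0 * 2 := by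
      rw [← hcP, show Nat.card (P : Subgroup G) = Nat.card (S : Subgroup G) by
        rw [Sylow.card_eq_multiplicity, Sylow.card_eq_multiplicity]]
      exact Subgroup.card_le_of_le hRS
    have hrel := relIndex_mul_relIndex ⊥ P0 R bot_le hP0R
    rw [relIndex_bot_left, relIndex_bot_left] at hrel
    have hrel2 : P0.relIndex R ≤ 2 := Nat.le_of_mul_le_mul_left (hrel ▸ hRle) Nat.card_pos
    intro r hr
    have hconjP0 : ∀ r ∈ R, ∀ q ∈ P0, r * q * r⁻¹ ∈ P0 := by
      have hn : (P0.subgroupOf R).Normal := by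
        have h0 : P0.relIndex R ≠ 0 := index_ne_zero_of_finite
        rcases Nat.lt_or_ge (P0.relIndex R) 2 with h | h
        · have h1 : P0.relIndex R = 1 := by omega
          rw [relIndex_eq_one] at h1
          rw [subgroupOf_eq_top.mpr h1]
          infer_instance
        · exact Subgroup.normal_of_index_eq_two (le_antisymm hrel2 h)
      exact fun r hr q hq => mem_subgroupOf.mp
        (hn.conj_mem ⟨q, hP0R hq⟩ (mem_subgroupOf.mpr hq) ⟨r, hr⟩)
    have key : ∀ r ∈ R, ∀ v ∈ U, r * v * r⁻¹ ∈ U := fun r hr v hv => by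
      refine hV _ (hconjP0 r hr v (hUP0 hv)) ?_ fun q hq => ?_
      · rw [show r * v * r⁻¹ * (r * v * r⁻¹) = r * (v * v) * r⁻¹ by group, hsqU v hv]; group
      · have hq' : r⁻¹ * q * r ∈ P0 := by simpa using hconjP0 r⁻¹ (R.inv_mem hr) q hq
        have hvc : (r⁻¹ * q * r) * v = v * (r⁻¹ * q * r) := by
          rcases helem v hv with rfl | rfl | rfl | rfl
          · simp
          · exact mem_centralizer_singleton_iff.mp hq'.2
          · exact hzP _ hq'.1
          · exact ((show Commute (r⁻¹ * q * r) u from mem_centralizer_singleton_iff.mp hq'.2).mul_right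
              (hzP _ hq'.1)).eq
        calc q * (r * v * r⁻¹) = r * ((r⁻¹ * q * r) * v) * r⁻¹ := by group
          _ = r * v * r⁻¹ * q := by rw [hvc]; group
    exact mem_normalizer_iff.mpr fun v => ⟨key r hr v, fun h => by
      simpa [mul_assoc] using key r⁻¹ (R.inv_mem hr) _ h⟩
  -- generation
  have hC : ∀ u ∈ U, u ≠ 1 → ∀ g ∈ K, Commute g u → g ∈ centralizer (U : Set G) := by
    intro u huU hu1 g hg hgu
    refine mem_centralizer_iff.mpr fun v hv => ?_
    obtain ⟨⟨v', hv'⟩, hvO, rfl⟩ := hA u huU hu1 hv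
    have hgW : g ∈ centralizer ({u} : Set G) := mem_centralizer_singleton_iff.mpr hgu.eq
    set W := centralizer ({u} : Set G)
    have h1 : g * v' * g⁻¹ * v'⁻¹ ∈ (Cfsg.pCore 2 W).map W.subtype :=
      mul_mem (mem_map_of_mem W.subtype
        ((inferInstance : (Cfsg.pCore 2 W).Normal).conj_mem _ hvO ⟨g, hgW⟩))
        (inv_mem (mem_map_of_mem W.subtype hvO))
    have h2 : g * v' * g⁻¹ * v'⁻¹ ∈ K := by
      have := K.mul_mem hg ((mem_normalizer_iff.mp (hUK hv) g⁻¹).mp (K.inv_mem hg))
      simpa [mul_assoc] using this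
    obtain ⟨k, hk⟩ := (Cores.pCore_isPGroup.map W.subtype) ⟨_, h1⟩
    have h3 : orderOf (g * v' * g⁻¹ * v'⁻¹) = 1 := Nat.eq_one_of_dvd_coprimes
      ((Nat.coprime_two_left.mpr (hK.of_dvd_nat (orderOf_dvd_natCard K h2))).pow_left k)
      (orderOf_dvd_of_pow_eq_one (congrArg Subtype.val hk)) dvd_rfl
    rw [orderOf_eq_one_iff, mul_inv_eq_one, mul_inv_eq_iff_eq_mul] at h3
    exact h3.symm
  obtain ⟨x, hx⟩ := exists_prime_orderOf_dvd_card' (G := U) 2 (by rw [IsKleinFour.card_four]; norm_num)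
  have hx1 : (x : G) ≠ 1 := fun h => by
    rw [show x = 1 from Subtype.ext h, orderOf_one] at hx
    omega
  obtain ⟨y, hy⟩ : ∃ y : U, y ∉ zpowers x := by
    by_contra! h
    have := Subgroup.card_le_of_le (show (⊤ : Subgroup U) ≤ zpowers x from fun a _ => h a)
    rw [card_top, IsKleinFour.card_four, Nat.card_zpowers, hx] at this
    omega
  have hy1 : (y : G) ≠ 1 := fun h => hy (by rw [show y = 1 from Subtype.ext h]; exact one_mem _)
  have hxy1 : (x : G) * y ≠ 1 := fun h => hy (by
    rw [show y = x⁻¹ from Subtype.ext (eq_inv_of_mul_eq_one_right h)]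
    exact inv_mem (mem_zpowers x))
  have hnorm : ∀ w ∈ U, ∀ g ∈ K, w * g * w⁻¹ ∈ K := fun w hw g hg =>
    (mem_normalizer_iff.mp (hUK hw) g).mp hg
  refine le_centralizer_iff.mp ?_
  exact H38.le_of_four_group (hsqU x x.2) (hsqU y y.2) (hcU x x.2 y y.2) hK (hnorm x x.2) (hnorm y y.2)
    (hC x x.2 hx1) (hC y y.2 hy1) (hC _ (mul_mem x.2 y.2) hxy1)

end Cfsg.Agent.S1957
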