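import Cfsg.Statements.S1960
import Cfsg.Agent.H48.Local


set_option autoImplicit false
open Cfsg

namespace Cfsg.Agent.S1960

open Subgroup H48

/-- Let p be a prime, G a finite group with Sylow p-subgroup S, and 𝓦 a set of conjugacy functors for p on G. Suppose that 𝓦 controls transfer in N_G(T) for every nonidentity subgroup T of S for which N_S(T) is a Sylow p-subgroup of N_G(T): for a Sylow p-subgroup T' of N_G(T), the intersection of T' with the derived subgroup of N_G(T) is generated by its intersections with the derived subgroups of the normalizers in N_G(T) of the W(T'), W ∈ 𝓦. Then 𝓦 controls transfer in G: S ∩ G' is generated by the subgroups S ∩ (N_G(W(S)))', W ∈ 𝓦. -/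
theorem result {G : Type*} [Group G] [Finite G] {p : ℕ} [Fact p.Prime] (S : Sylow p G) (𝓦 : Set (Subgroup G → Subgroup G)) (h𝓦 : ∀ W ∈ 𝓦, Cfsg.IsConjugacyFunctor p W) (hloc : ∀ T : Subgroup G, T ≤ (S : Subgroup G) → T ≠ ⊥ → ¬ p ∣ ((S : Subgroup G) ⊓ Subgroup.normalizer ((T : Subgroup G) : Set G)).relIndex (Subgroup.normalizer ((T : Subgroup G) : Set G)) → Cfsg.FamilyControlsTransferIn p 𝓦 (Subgroup.normalizer ((T : Subgroup G) : Set G))) : Cfsg.FamilyControlsTransferIn p 𝓦 ⊤ := by
  set J : Subgroup G := ⨆ W ∈ 𝓦, (S : Subgroup G) ⊓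
    ⁅(⊤ : Subgroup G) ⊓ normalizer ((W (S : Subgroup G) : Subgroup G) : Set G),
      (⊤ : Subgroup G) ⊓ normalizer ((W (S : Subgroup G) : Subgroup G) : Set G)⁆ with hJ
  have main := local_induction S (fun A g => ∀ t ∈ A, t⁻¹ * (g * t * g⁻¹) ∈ J)
    (fun V => ((S : Subgroup G) ⊓ normalizer (V : Set G)) ⊓
      ⁅normalizer (V : Set G), normalizer (V : Set G)⁆ ≤ J)
    (fun A h k => conj_transfer_mem) (fun A B h h1 h2 t ht => h1 t (h2 ht)) ?_ ?_ ?_
  · refine ⟨S, le_top, S.isPGroup', by rw [relIndex_top_right]; exact S.not_dvd_index,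
      le_antisymm (inf_commutator_le S J fun t ht g hg => ?_)
        (iSup₂_le fun W _ => inf_le_inf le_rfl (commutator_mono le_top le_top))⟩
    by_cases h1 : t = 1
    · subst h1; simp
    · refine main.1 (zpowers t) (zpowers_le.mpr ht) (by simpa using h1) g ?_ t (mem_zpowers t)
      rw [show H48.cj g (zpowers t) = _ from MonoidHom.map_zpowers _ t, zpowers_le]
      exact hg
  · intro V hV hne hsyl hbig
    obtain ⟨T₀, hle, hp, hidx, hctl⟩ := hloc V hV hne hsyl.ndvd
    set N := normalizer (V : Set G) with hN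
    set R := (S : Subgroup G) ⊓ N with hR
    obtain ⟨k, hk, hkT⟩ := (IsSylowIn.mk hle hp hidx).exists_conj hsyl
    have hkN : H48.cj k N = N := H48.cj_eq_of_mem_normalizer (le_normalizer hk)
    have e : R ⊓ ⁅N, N⁆ = H48.cj k (T₀ ⊓ ⁅N, N⁆) := by
      rw [H48.cj_inf, H48.cj_commutator, hkN, hkT]
    rw [e, hctl, H48.cj, Subgroup.map_iSup]
    refine iSup_le fun W => ?_
    rw [Subgroup.map_iSup]
    refine iSup_le fun hW => ?_
    show H48.cj k _ ≤ J
    rw [H48.cj_inf, H48.cj_commutator, H48.cj_inf, hkN, hkT, H48.cj_normalizer,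
      ← functor_cj (h𝓦 W hW) hp, hkT]
    by_cases hRS : R = (S : Subgroup G)
    · refine le_trans ?_ (le_iSup₂ (f := fun W (_ : W ∈ 𝓦) => (S : Subgroup G) ⊓
        ⁅(⊤ : Subgroup G) ⊓ normalizer ((W (S : Subgroup G) : Subgroup G) : Set G),
          (⊤ : Subgroup G) ⊓ normalizer ((W (S : Subgroup G) : Subgroup G) : Set G)⁆) W hW)
      rw [hRS]
      exact inf_le_inf le_rfl (commutator_mono (inf_le_inf le_top le_rfl) (inf_le_inf le_top le_rfl))
    · have hRp : IsPGroup p R := S.isPGroup'.to_le inf_le_left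
      have hRne : R ≠ ⊥ := fun hb => hne (eq_bot_iff.mpr (hb ▸ le_inf hV le_normalizer))
      refine le_trans (inf_le_inf (le_inf inf_le_left (le_normalizer_functor (h𝓦 W hW) hRp))
        (commutator_mono inf_le_right inf_le_right))
        (hbig (W R) ((functor_le (h𝓦 W hW) hRp).trans inf_le_left)
          (functor_ne_bot (h𝓦 W hW) hRp hRne) ?_)
      exact (card_lt_card_inf_normalizer S.isPGroup' inf_le_left hRS).trans_le
        (card_le_of_le (inf_le_inf le_rfl (normalizer_le_normalizer_functor (h𝓦 W hW) hRp)))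
  · intro V _ _ _ hΦ A y hy hA hA' t ht
    refine hΦ ⟨Subgroup.mul_mem _ (Subgroup.inv_mem _ (hA ht)) (hA' ⟨t, ht, rfl⟩), ?_⟩
    exact conj_diff_mem_commutator (hA ht).2 hy
  · intro V h hV hne l hsyl r1 _ hΦ x hx
    have h1 : h * x * h⁻¹ ∈ J := by
      refine hΦ ⟨l (H48.conj_mem_cj hx.1), ?_⟩
      rw [← H48.cj_normalizer, ← H48.cj_commutator]
      exact H48.conj_mem_cj hx.2
    have h2 := J.mul_mem h1 (J.inv_mem (r1 x hx.1))
    simpa [mul_assoc] using h2

end Cfsg.Agent.S1960
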