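import Cfsg.Statements.S1962
import Cfsg.Agent.H48.Local


set_option autoImplicit false
open Cfsg

namespace Cfsg.Agent.S1962

open Subgroup H48

/-- Local-to-global control of transfer through well-placed subgroups. Let p be a prime, G a finite group with Sylow p-subgroup S, and W a conjugacy functor for p on G. If W controls transfer in N_G(T) for every nonidentity subgroup T of S that is well placed in S with respect to W, then W controls transfer in G: S ∩ G' = S ∩ (N_G(W(S)))'. -/
theorem result {G : Type*} [Group G] [Finite G] {p : ℕ} [Fact p.Prime] (S : Sylow p G) (W : Subgroup G → Subgroup G) (hW : Cfsg.IsConjugacyFunctor p W) (hloc : ∀ T : Subgroup G, T ≠ ⊥ → Cfsg.IsWellPlaced p W (S : Subgroup G) T → Cfsg.ControlsTransferIn p W (Subgroup.normalizer ((T : Subgroup G) : Set G))) : Cfsg.ControlsTransferIn p W ⊤ := by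
  have hS := S.isPGroup'
  set J : Subgroup G := (S : Subgroup G) ⊓
    ⁅(⊤ : Subgroup G) ⊓ normalizer ((W (S : Subgroup G) : Subgroup G) : Set G),
      (⊤ : Subgroup G) ⊓ normalizer ((W (S : Subgroup G) : Subgroup G) : Set G)⁆ with hJ
  have step : ∀ T : Subgroup G, T ≠ ⊥ → Cfsg.IsWellPlaced p W (S : Subgroup G) T →
      ((S : Subgroup G) ⊓ normalizer (T : Set G)) ⊓
        ⁅normalizer (T : Set G), normalizer (T : Set G)⁆ ≤ J := by
    refine wellPlaced_induction hS hW _ fun T hne hT ih => ?_
    obtain ⟨T₀, hle, hp, hidx, hctl⟩ := hloc T hne hT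
    set N := normalizer (T : Set G) with hN
    set R := (S : Subgroup G) ⊓ N with hR
    obtain ⟨k, hk, hkT⟩ := (IsSylowIn.mk hle hp hidx).exists_conj (IsWellPlaced.isSylowIn hS hT)
    have hkN : H48.cj k N = N := H48.cj_eq_of_mem_normalizer (le_normalizer hk)
    have e : R ⊓ ⁅N, N⁆ = H48.cj k (T₀ ⊓ ⁅N, N⁆) := by
      rw [H48.cj_inf, H48.cj_commutator, hkN, hkT]
    rw [e, hctl, H48.cj_inf, H48.cj_commutator, H48.cj_inf, hkN, hkT, H48.cj_normalizer,
      ← functor_cj hW hp, hkT]
    by_cases hRS : R = (S : Subgroup G)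
    · have hRS' : (S : Subgroup G) ⊓ normalizer (T : Set G) = (S : Subgroup G) := hRS
      simp only [hRS']
      exact inf_le_inf le_rfl (commutator_mono (inf_le_inf le_top le_rfl) (inf_le_inf le_top le_rfl))
    · exact le_trans (inf_le_inf (le_inf inf_le_left
        (le_normalizer_functor hW (hS.to_le inf_le_left)))
        (commutator_mono inf_le_right inf_le_right)) (ih hRS)
  refine ⟨S, le_top, hS, by rw [relIndex_top_right]; exact S.not_dvd_index,
    le_antisymm (inf_commutator_le S J fun t ht g hg => ?_)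
      (inf_le_inf le_rfl (commutator_mono le_top le_top))⟩
  have hch : Chain {T : Subgroup G | Cfsg.IsWellPlaced p W (S : Subgroup G) T} {t} g⁻¹ :=
    chain_wellPlaced S hW {t} g⁻¹ (Set.singleton_subset_iff.mpr ht)
      (by rintro _ ⟨a, rfl, rfl⟩; show g⁻¹⁻¹ * a * g⁻¹ ∈ (S : Subgroup G); rwa [inv_inv])
  have key : ∀ {B : Set G} {u : G},
      Chain {T : Subgroup G | Cfsg.IsWellPlaced p W (S : Subgroup G) T} B u →
      ∀ a ∈ B, a⁻¹ * (u⁻¹ * a * u) ∈ J := by
    intro B u hB
    induction hB with
    | nil B => intro a _; simp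
    | cons B T x u hT hx hB h ih =>
      intro a ha
      have h1 : a⁻¹ * (x⁻¹ * a * x) ∈ J := by
        by_cases hne : T = ⊥
        · have : a = 1 := coe_subset_one_of_eq_bot hB hne ha
          subst this; simp
        · refine step T hne hT ⟨?_, ?_⟩
          · exact le_inf hT.1 le_normalizer (mul_mem (inv_mem (hB ha))
              (rimg_subset_of_mem_normalizer hx hB ⟨a, ha, rfl⟩))
          · have := conj_diff_mem_commutator (le_normalizer (hB ha)) (inv_mem hx)
            simpa using this
      have := mul_mem h1 (ih _ ⟨a, ha, rfl⟩)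
      simpa [mul_assoc] using this
  simpa using key hch t rfl

end Cfsg.Agent.S1962
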