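import Cfsg.Statements.S1966
import Cfsg.Agent.H48.Alperin
import Cfsg.Agent.Cores.PCore


set_option autoImplicit false
open Cfsg

namespace Cfsg.Agent.S1966

theorem chain_restrict {G : Type*} [Group G] {𝓕 : Set (Subgroup G)} {O : Subgroup G} [O.Normal]
    {B : Set G} {g : G} (h : H48.Chain 𝓕 B g) :
    (O : Set G) ⊆ B → H48.Chain {T : Subgroup G | T ∈ 𝓕 ∧ O ≤ T} B g := by
  induction h with
  | nil A => exact fun _ => H48.Chain.nil A
  | cons A T x g hT hx hA h ih =>
    intro hO
    refine H48.Chain.cons A T x g ⟨hT, fun a ha => hA (hO ha)⟩ hx hA (ih ?_)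
    intro a ha
    exact ⟨x * a * x⁻¹, hO (Subgroup.Normal.conj_mem inferInstance a ha x), by group⟩

/-- Let p be a prime, G a finite group with Sylow p-subgroup S and 𝓕 a conjugation family for S in G. Then the members of 𝓕 containing O_p(G) still form a conjugation family for S in G. -/
theorem result {G : Type*} [Group G] [Finite G] {p : ℕ} [Fact p.Prime] (S : Sylow p G) (𝓕 : Set (Subgroup G)) (h : Cfsg.IsConjugationFamily 𝓕 (S : Subgroup G)) : Cfsg.IsConjugationFamily {T : Subgroup G | T ∈ 𝓕 ∧ Cfsg.pCore p G ≤ T} (S : Subgroup G) := by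
  rw [H48.isConjugationFamily_iff] at h ⊢
  refine ⟨fun T hT => h.1 T hT.1, fun A g hne hA hg => ?_⟩
  have hO : Cfsg.pCore p G ≤ (S : Subgroup G) := Cores.pCore_le_sylow S
  have hB : H48.Chain 𝓕 (A ∪ (Cfsg.pCore p G : Set G)) g := by
    refine h.2 _ g (hne.mono Set.subset_union_left) (Set.union_subset hA hO) ?_
    rintro _ ⟨a, ha | ha, rfl⟩
    · exact hg ⟨a, ha, rfl⟩
    · have h1 := Subgroup.Normal.conj_mem (inferInstance : (Cfsg.pCore p G).Normal) a ha g⁻¹
      exact hO (by simpa using h1)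
  exact (chain_restrict hB Set.subset_union_right).mono Set.subset_union_left

end Cfsg.Agent.S1966
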