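import Cfsg.Statements.S1968
import Cfsg.Agent.H48.Local
-- import your own Cfsg.Agent.* helpers here

set_option autoImplicit false
open Cfsg

namespace Cfsg.Agent.S1968

/-- Let p be a prime, G a finite group with Sylow p-subgroup S and W a conjugacy functor for p on G with Z(P) ≤ W(P) for every p-subgroup P. Let A be a subgroup of Z(S) normalized by N_G(W(S)) that is not weakly closed in S with respect to G. Then there is a subgroup T of S, well placed in S with respect to W, such that: A ≤ T; N_G(W(N_S(T))) normalizes A; N_S(T) is a Sylow p-subgroup of N_G(T); A ≤ Z(N_S(T)); and A is not weakly closed in N_S(T) with respect to N_G(T), that is, some N_G(T)-conjugate of A other than A lies in N_S(T). -/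
theorem result {G : Type*} [Group G] [Finite G] {p : ℕ} [Fact p.Prime] (S : Sylow p G) (W : Subgroup G → Subgroup G) (hW : Cfsg.IsConjugacyFunctor p W) (hWZ : ∀ P : Subgroup G, IsPGroup p ↥P → P ⊓ Subgroup.centralizer (P : Set G) ≤ W P) (A : Subgroup G) (hAZ : A ≤ (S : Subgroup G) ⊓ Subgroup.centralizer ((S : Subgroup G) : Set G)) (hAN : Subgroup.normalizer ((W (S : Subgroup G) : Subgroup G) : Set G) ≤ Subgroup.normalizer ((A : Subgroup G) : Set G)) (hnwc : ¬ Cfsg.IsWeaklyClosed A (S : Subgroup G)) : ∃ T : Subgroup G, Cfsg.IsWellPlaced p W (S : Subgroup G) T ∧ A ≤ T ∧ Subgroup.normalizer ((W ((S : Subgroup G) ⊓ Subgroup.normalizer ((T : Subgroup G) : Set G)) : Subgroup G) : Set G) ≤ Subgroup.normalizer ((A : Subgroup G) : Set G) ∧ ¬ p ∣ ((S : Subgroup G) ⊓ Subgroup.normalizer ((T : Subgroup G) : Set G)).relIndex (Subgroup.normalizer ((T : Subgroup G) : Set G)) ∧ A ≤ Subgroup.centralizer (((S : Subgroup G) ⊓ Subgroup.normalizer ((T : Subgroup G) : Set G) : Subgroup G) : Set G) ∧ ∃ g ∈ Subgroup.normalizer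 ((T : Subgroup G) : Set G), A.map (MulAut.conj g).toMonoidHom ≤ (S : Subgroup G) ⊓ Subgroup.normalizer ((T : Subgroup G) : Set G) ∧ A.map (MulAut.conj g).toMonoidHom ≠ A := by
  classical
  have hS := S.isPGroup'
  set P : Subgroup G := (S : Subgroup G) with hP
  have hAS : A ≤ P := hAZ.trans inf_le_left
  have hAR : ∀ T : Subgroup G, A ≤ T → T ≤ P →
      A ≤ (P ⊓ Subgroup.normalizer (T : Set G)) ⊓
        Subgroup.centralizer ((P ⊓ Subgroup.normalizer (T : Set G) : Subgroup G) : Set G) :=
    fun T hAT hT a ha => ⟨⟨hT (hAT ha), Subgroup.le_normalizer (hAT ha)⟩,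
      Subgroup.centralizer_le (fun r hr => hr.1) (hAZ ha).2⟩
  by_contra hcon
  push Not at hcon
  have key : ∀ T : Subgroup G, T ≠ ⊥ → IsWellPlaced p W P T → A ≤ T →
      Subgroup.normalizer (T : Set G) ≤ Subgroup.normalizer (A : Set G) := by
    intro T hne hT
    refine H48.wellPlaced_induction hS hW (fun T => A ≤ T →
      Subgroup.normalizer (T : Set G) ≤ Subgroup.normalizer (A : Set G))
      (fun T _ hT ih hAT g hg => ?_) T hne hT
    by_contra hgA
    have hM : Subgroup.normalizer ((W (P ⊓ Subgroup.normalizer (T : Set G)) : Subgroup G) : Set G) ≤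
        Subgroup.normalizer (A : Set G) := by
      by_cases hRS : P ⊓ Subgroup.normalizer (T : Set G) = P
      · rw [hRS]; exact hAN
      · exact ih hRS ((hAR T hAT hT.1).trans (hWZ _ (hS.to_le inf_le_left)))
    have hle : H48.cj g A ≤ P ⊓ Subgroup.normalizer (T : Set G) :=
      (H48.cj_mono hAT).trans ((H48.cj_eq_of_mem_normalizer hg).le.trans
        (le_inf hT.1 Subgroup.le_normalizer))
    exact hgA (H48.mem_normalizer_of_cj_eq (hcon T hT hAT hM (hT.2 0)
      ((hAR T hAT hT.1).trans inf_le_right) g hg hle))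
  refine hnwc ⟨hAS, fun g hg => ?_⟩
  have hchain := H48.chain_wellPlaced S hW (A : Set G) g⁻¹ hAS (by
    rw [H48.rimg_coe, inv_inv]; exact hg)
  suffices h : ∀ (B : Set G) (k : G),
      H48.Chain {T : Subgroup G | IsWellPlaced p W P T} B k → B = (A : Set G) →
      k ∈ Subgroup.normalizer (A : Set G) from
    H48.cj_eq_of_mem_normalizer (inv_inv g ▸ inv_mem (h _ _ hchain rfl))
  intro B k hc
  induction hc with
  | nil B => exact fun _ => one_mem _
  | cons B T y k hT hy hB h ih =>
    intro hBA
    subst hBA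
    have hyA : y ∈ Subgroup.normalizer (A : Set G) := by
      by_cases hne : T = ⊥
      · have hA : A = ⊥ := le_bot_iff.mp (hne ▸ hB)
        exact H48.mem_normalizer_of_cj_eq (by rw [hA]; exact Subgroup.map_bot _)
      · exact key T hne hT hB hy
    refine mul_mem hyA (ih ?_)
    rw [H48.rimg_coe, H48.cj_eq_of_mem_normalizer (inv_mem hyA)]

end Cfsg.Agent.S1968
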