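import Cfsg.Statements.S1971
import Cfsg.Agent.Fusion.TransferInduction
import Cfsg.Agent.Fusion.PComplement
import Cfsg.Agent.PGroups.Basic


set_option autoImplicit false
universe u
open Cfsg

namespace Cfsg.Agent.S1971

open Subgroup
universe v

/-- Normal Sylow subgroup case. -/
theorem not_le_commutator_of_normal {H : Type*} [Group H] [Finite H] {p : ℕ} [Fact p.Prime]
    (S : Sylow p H) [(S : Subgroup H).Normal] (hS : (S : Subgroup H) ≠ ⊥)
    (hN : ∀ g : H, (orderOf g).Coprime p → g ∈ centralizer ((S : Subgroup H) : Set H)) :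
    ¬ (S : Subgroup H) ≤ commutator H := by
  intro hle
  by_cases hSK : (S : Subgroup H) ≤ Cfsg.pResidual p H
  · have hKC : Cfsg.pResidual p H ≤ centralizer ((S : Subgroup H) : Set H) :=
      Fusion.pResidual_le.mpr hN
    have hC : centralizer ((S : Subgroup H) : Set H) = ⊤ := top_le_iff.mp
      ((Fusion.sylow_sup_pResidual S).ge.trans (sup_le (hSK.trans hKC) hKC))
    have hc := Fusion.hasNormalPComplement_of_normalizer_le_centralizer S (hC ▸ le_top)
    exact hS (le_bot_iff.mp (le_trans (le_inf le_rfl hSK)
      ((Fusion.hasNormalPComplement_iff_inf_eq_bot S).mp hc).le))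
  · set Q := H ⧸ Cfsg.pResidual p H
    have hQ : IsPGroup p Q := Fusion.isPGroup_quotient_pResidual
    have hnt : Nontrivial Q := QuotientGroup.nontrivial_iff.mpr fun h => hSK (h ▸ le_top)
    haveI : Group.IsNilpotent Q := hQ.isNilpotent
    refine (IsSolvable.commutator_lt_top_of_nontrivial Q).ne ?_
    rw [eq_top_iff, ← map_top_of_surjective (QuotientGroup.mk' (Cfsg.pResidual p H))
      (QuotientGroup.mk'_surjective _), ← Fusion.sylow_sup_pResidual S, Subgroup.map_sup,
      QuotientGroup.map_mk'_self, sup_bot_eq]
    refine (map_mono hle).trans ?_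
    rw [_root_.commutator_def, map_commutator, _root_.commutator_def]
    exact commutator_mono le_top le_top

theorem exists_index_eq {G : Type*} [Group G] [Finite G] {p : ℕ} [Fact p.Prime] (S : Sylow p G)
    (h : ¬ (S : Subgroup G) ≤ commutator G) : ∃ N : Subgroup G, N.Normal ∧ N.index = p := by
  have hK : Cfsg.pResidual p G ≠ ⊤ := by
    intro hK
    let f : G →* Abelianization G := Abelianization.of
    have hf : Function.Surjective f := QuotientGroup.mk_surjective
    haveI : Group.IsNilpotent (Abelianization G) := inferInstance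
    let S' := S.mapSurjective hf
    have h1 := (Fusion.hasNormalPComplement_iff_inf_eq_bot S').mp
      Fusion.hasNormalPComplement_of_isNilpotent
    rw [← Fusion.map_pResidual_of_surjective f hf, hK, map_top_of_surjective f hf, inf_top_eq] at h1
    refine h fun s hs => ?_
    have h2 : f s ∈ (S' : Subgroup (Abelianization G)) := ⟨s, hs, rfl⟩
    rw [h1, mem_bot] at h2
    exact (QuotientGroup.eq_one_iff s).mp h2
  set Q := G ⧸ Cfsg.pResidual p G
  haveI : Nontrivial Q := QuotientGroup.nontrivial_iff.mpr hK
  obtain ⟨M, hM⟩ : ∃ M : Subgroup Q, IsCoatom M :=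
    ((IsCoatomic.eq_top_or_exists_le_coatom (⊥ : Subgroup Q)).resolve_left bot_ne_top).imp
      fun _ h => h.1
  have hQ : IsPGroup p Q := Fusion.isPGroup_quotient_pResidual
  haveI := PGroups.normal_of_isCoatom hQ hM
  exact ⟨M.comap (QuotientGroup.mk' _), inferInstance, by
    rw [index_comap_of_surjective _ (QuotientGroup.mk'_surjective _)]
    exact PGroups.index_eq_of_isCoatom hQ hM⟩

theorem main {G : Type v} [Group G] [Finite G] {p : ℕ} [Fact p.Prime]
    (W : ∀ (Q : Type v) [Group Q], Subgroup Q) (hW : Cfsg.IsCharPFunctor.{v} p W)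
    (hctl : ∀ (K R : Subgroup G) [hR : (R.subgroupOf K).Normal],
      Cfsg.ControlsTransferIn p (Cfsg.inducedFunctor (G := (↥K ⧸ R.subgroupOf K)) W) ⊤) :
    ∀ (n : ℕ) (H : Type v) [Group H] [Finite H], Fusion.IsSec G H → Nat.card H = n →
      ∀ S : Sylow p H, (S : Subgroup H) ≠ ⊥ →
      (∀ g ∈ normalizer ((S : Subgroup H) : Set H), (orderOf g).Coprime p →
        g ∈ centralizer ((S : Subgroup H) : Set H)) → ¬ (S : Subgroup H) ≤ commutator H := by
  intro n
  induction n using Nat.strong_induction_on with
  | h n IH =>
    intro H _ _ hsec hn S hS hN hle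
    have hW' : ∀ V ∈ ({W} : Set (∀ (Q : Type v) [Group Q], Subgroup Q)),
        Cfsg.IsCharPFunctor.{v} p V := by rintro _ rfl; exact hW
    have hC : Fusion.Ctl {W} p H := by
      obtain ⟨K, R, hn', ⟨e⟩⟩ := hsec.exists_model
      exact ((Fusion.ctl_singleton_iff hW).mp (hctl K R)).congr e hW'
    set A := Cfsg.inducedFunctor (G := H) W (S : Subgroup H) with hA
    set M := normalizer ((A : Subgroup H) : Set H) with hM
    have hSM : (S : Subgroup H) ≤ M := Fusion.le_normalizer_inducedFunctor hW S.isPGroup'
    have hSMc : (S : Subgroup H) ≤ ⁅M, M⁆ := by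
      refine ((le_inf hle le_rfl).trans (hC S)).trans ?_
      refine iSup₂_le fun V hV => ?_
      obtain rfl : V = W := hV
      exact inf_le_right
    by_cases hMtop : M = ⊤
    · haveI hAn : A.Normal := normalizer_eq_top_iff.mp hMtop
      by_cases hSA : (S : Subgroup H) ≤ A
      · have hSA' : (S : Subgroup H) = A := le_antisymm hSA (Fusion.inducedFunctor_le _)
        haveI : (S : Subgroup H).Normal := hSA' ▸ hAn
        exact not_le_commutator_of_normal S hS (fun g hg => hN g
          (by rw [normalizer_eq_top]; exact mem_top g) hg) hle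
      · let f := QuotientGroup.mk' A
        have hf : Function.Surjective f := QuotientGroup.mk'_surjective A
        let S' := S.mapSurjective hf
        have hcS : (S' : Subgroup (H ⧸ A)) = (S : Subgroup H).map f := rfl
        have hS' : (S' : Subgroup (H ⧸ A)) ≠ ⊥ := by
          rw [hcS, Ne, Subgroup.map_eq_bot_iff, QuotientGroup.ker_mk']
          exact hSA
        have hcard : Nat.card (H ⧸ A) < n := by
          have hA1 : A ≠ ⊥ := Fusion.inducedFunctor_ne_bot hW S.isPGroup' hS
          rw [← hn, card_eq_card_quotient_mul_card_subgroup A]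
          exact lt_mul_of_one_lt_right Nat.card_pos ((one_lt_card_iff_ne_bot A).mpr hA1)
        refine IH _ hcard (H ⧸ A) (hsec.quotient A) rfl S' hS' (fun g hg ho => ?_) ?_
        · obtain ⟨g, rfl⟩ := hf g
          rw [hcS] at hg ⊢
          have hgS : g ∈ normalizer ((S : Subgroup H) : Set H) := by
            have hAS : A ≤ (S : Subgroup H) := Fusion.inducedFunctor_le _
            have hcomap : ((S : Subgroup H).map f).comap f = (S : Subgroup H) := by
              rw [comap_map_eq, QuotientGroup.ker_mk', sup_eq_left.mpr hAS]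
            refine mem_normalizer_iff.mpr fun s => ?_
            conv_lhs => rw [← hcomap, mem_comap]
            conv_rhs => rw [← hcomap, mem_comap]
            rw [map_mul, map_mul, map_inv]
            exact mem_normalizer_iff.mp hg (f s)
          obtain ⟨k, hk⟩ := Fusion.exists_pow_coprime (p := p) g
          have hck := hN (g ^ p ^ k) (pow_mem hgS _) hk
          obtain ⟨m, hm⟩ := exists_pow_eq_self_of_coprime (x := f g) (n := p ^ k) (ho.pow_right k).symm
          rw [← hm, ← map_pow, ← map_pow]
          refine mem_centralizer_iff.mpr ?_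
          rintro _ ⟨s, hs, rfl⟩
          rw [← map_mul, ← map_mul, mem_centralizer_iff.mp (pow_mem hck m) s hs]
        · rw [hcS]
          refine (map_mono hle).trans ?_
          rw [_root_.commutator_def, map_commutator, map_top_of_surjective f hf, _root_.commutator_def]
    · let S' := S.subtype hSM
      have hcS : (S' : Subgroup M).map M.subtype = (S : Subgroup H) := by
        rw [Sylow.coe_subtype, subgroupOf_map_subtype, inf_eq_left.mpr hSM]
      have hcard : Nat.card M < n := by
        rw [← hn]
        exact lt_of_le_of_ne M.card_le_card_group fun h => hMtop (eq_top_of_card_eq M h)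
      refine IH _ hcard M (hsec.subgroup M) rfl S' (fun h => hS ?_) (fun g hg ho => ?_) ?_
      · rw [← hcS, h, Subgroup.map_bot]
      · have hg' : (g : H) ∈ normalizer ((S : Subgroup H) : Set H) := by
          rw [← hcS]
          exact le_normalizer_map M.subtype ⟨g, hg, rfl⟩
        have h1 := hN g hg' (by rwa [Subgroup.orderOf_coe])
        exact mem_centralizer_iff.mpr fun s hs => Subtype.ext
          (mem_centralizer_iff.mp h1 s (hcS ▸ ⟨s, hs, rfl⟩))
      · rw [← map_le_map_iff_of_injective M.subtype_injective, hcS, _root_.commutator_def, map_commutator,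
          ← MonoidHom.range_eq_map, range_subtype]
        exact hSMc

/-- Let p be a prime, G a finite group with nontrivial Sylow p-subgroup S, and W an isomorphism-invariant p-group functor (W assigns to every group Q a subgroup W(Q), nontrivial whenever Q is a nontrivial finite p-group, and every isomorphism from a finite p-group Q onto a group R carries W(Q) onto W(R)) that controls transfer in every section of G. If N_G(S)/C_G(S) is a p-group (every element of N_G(S) of order prime to p centralizes S), then G has a normal subgroup of index p. -/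
theorem result {G : Type u} [Group G] [Finite G] {p : ℕ} [Fact p.Prime] (W : ∀ (Q : Type u) [Group Q], Subgroup Q) (hW : Cfsg.IsCharPFunctor.{u} p W) (hctl : ∀ (K R : Subgroup G) [hR : (R.subgroupOf K).Normal], Cfsg.ControlsTransferIn p (Cfsg.inducedFunctor (G := (↥K ⧸ R.subgroupOf K)) W) ⊤) (S : Sylow p G) (hS : (S : Subgroup G) ≠ ⊥) (hN : ∀ g ∈ Subgroup.normalizer (((S : Subgroup G) : Subgroup G) : Set G), (orderOf g).Coprime p → g ∈ Subgroup.centralizer ((S : Subgroup G) : Set G)) : ∃ N : Subgroup G, N.Normal ∧ N.index = p := by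
  refine exists_index_eq S (main W hW hctl _ G ⟨⊤, (⊤ : Subgroup G).subtype, fun g => ⟨⟨g, mem_top g⟩, rfl⟩⟩
    rfl S hS hN)

end Cfsg.Agent.S1971
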