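import Cfsg.Statements.S1981
import Cfsg.Agent.H49.KSeq
-- import your own Cfsg.Agent.* helpers here

set_option autoImplicit false
open Cfsg

namespace Cfsg.Agent.S1981

/-- Let P be a finite p-group generated by its abelian normal subgroups. Then both K-infinity subgroups of P equal P. -/
theorem result {P : Type*} [Group P] [Finite P] {p : ℕ} [Fact p.Prime] (hP : IsPGroup p P) (hgen : ⨆ A ∈ {A : Subgroup P | A.Normal ∧ IsMulCommutative ↥A}, A = ⊤) : Cfsg.kInfLower P = ⊤ ∧ Cfsg.kInfUpper P = ⊤ := by
  constructor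
  · refine eq_top_iff.mpr (hgen.ge.trans (iSup₂_le fun A hA => ?_))
    haveI := hA.1
    exact (le_sSup (H49.normal_abelian_kLower A hA.2 _)).trans
      (le_iSup (fun n => Cfsg.kSeqEven P n) 0)
  · refine eq_top_iff.mpr (le_iInf fun n => ?_)
    rcases n with _ | n
    · exact le_top
    refine hgen.ge.trans (iSup₂_le fun A hA => ?_)
    haveI := hA.1
    exact le_sSup (H49.normal_abelian_kUpper A hA.2 _)

end Cfsg.Agent.S1981
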