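import Cfsg.Statements.S1985
import Cfsg.Agent.H49.EngelControl
import Cfsg.Agent.H49.KFunctor
-- import your own Cfsg.Agent.* helpers here

set_option autoImplicit false
universe u
open Cfsg

namespace Cfsg.Agent.S1985

/-- Let p be an odd prime and G a finite group. Then the lower K-infinity subgroup controls weak closure of elements in G: the lower K-infinity subgroup of every p-subgroup P of G contains Z(P), and for some (equivalently, every) Sylow p-subgroup S of G, with K the lower K-infinity subgroup of S, every element of S commuting with all of N_G(K) is weakly closed in S with respect to G (every G-conjugate of it lying in S equals it). -/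
theorem result {G : Type u} [Group G] [Finite G] {p : ℕ} [Fact p.Prime] (hp : p ≠ 2) : Cfsg.ControlsWeakClosureOfElementsIn p (Cfsg.inducedFunctor (G := G) Cfsg.kInfLower) ⊤ := by
  refine H49.engel_controls _ (H49.kLike_lower.isConjugacyFunctor p)
    (fun P _ => H49.kLike_lower.induced_center_le P) ?_ ⊤
  intro H T hT hTp hnd hn
  obtain ⟨g, hgT, hgV, -, hq⟩ := H49.quadratic_of_not_normal H T hT hTp hnd (Or.inl hn)
  refine ⟨g, hgT, hgV, fun U E _ hU _ _ _ => ?_⟩
  have hp3 : 2 ≤ p - 1 := by
    have := (Fact.out : p.Prime).two_le
    omega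
  obtain ⟨k, hk⟩ : ∃ k, p - 1 = k + 2 := ⟨p - 3, by omega⟩
  have h2 : ∀ k, iterCommutator U (Subgroup.zpowers g) (k + 2) = ⊥ := by
    intro k
    induction k with
    | zero => exact le_bot_iff.mp (hq ▸ Subgroup.commutator_mono (Subgroup.commutator_mono hU le_rfl) le_rfl)
    | succ k ih => rw [H49.iter_succ, ih, Subgroup.commutator_bot_left]
  rw [hk, h2]
  exact bot_le

end Cfsg.Agent.S1985
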