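import Cfsg.Statements.S1988
import Cfsg.Agent.H25.ThompsonApps
import Cfsg.Agent.S1978

set_option autoImplicit false
universe u
open Cfsg

namespace Cfsg.Agent.S1988

/-- Let p be an odd prime, G a finite group with Sylow p-subgroup S and K the lower K-infinity subgroup of S. If N_G(K) has a normal p-complement, or if N_G(K)/C_G(K) is a p-group (every element of N_G(K) of order prime to p centralizes K), then G has a normal p-complement. -/
theorem result {G : Type u} [Group G] [Finite G] {p : ℕ} [Fact p.Prime] (hp : p ≠ 2) (S : Sylow p G) (h : Cfsg.HasNormalPComplement p ↥(Subgroup.normalizer ((Cfsg.inducedFunctor Cfsg.kInfLower (S : Subgroup G) : Subgroup G) : Set G)) ∨ ∀ g ∈ Subgroup.normalizer ((Cfsg.inducedFunctor Cfsg.kInfLower (S : Subgroup G) : Subgroup G) : Set G), (orderOf g).Coprime p → g ∈ Subgroup.centralizer ((Cfsg.inducedFunctor Cfsg.kInfLower (S : Subgroup G) : Subgroup G) : Set G)) : Cfsg.HasNormalPComplement p G := by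
  have hW : Cfsg.IsCharPFunctor.{u} p Cfsg.kInfLower := H49.kLike_lower.isCharPFunctor p
  refine H25.thompson_criterion hW S ?_
    (H25.locHyp_of_sections hW fun K R _ hC _ hPA T _ => H25.kInfLower_normal hp hC hPA T)
  rcases h with h | h
  · exact h
  set K0 := Cfsg.inducedFunctor (G := G) Cfsg.kInfLower (S : Subgroup G) with hK0
  set N := Subgroup.normalizer (K0 : Set G) with hN
  set C := (Subgroup.centralizer (K0 : Set G)).subgroupOf N with hC
  have hSN : (S : Subgroup G) ≤ N :=
    Subgroup.le_normalizer.trans (H25.normalizer_le_normalizer_inducedFunctor hW S.isPGroup')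
  obtain ⟨hKC, -⟩ := Cfsg.Agent.S1978.result (P := (S : Subgroup G)) S.isPGroup'
  have hSC : ∀ x ∈ (S : Subgroup G), x ∈ Subgroup.centralizer (K0 : Set G) → x ∈ K0 := by
    intro x hx hxc
    refine ⟨⟨x, hx⟩, hKC (Subgroup.mem_centralizer_iff.mpr fun y hy => Subtype.ext ?_), rfl⟩
    exact Subgroup.mem_centralizer_iff.mp hxc y (Subgroup.mem_map_of_mem _ hy)
  have hPC : Cfsg.HasNormalPComplement p C := by
    obtain ⟨P⟩ : Nonempty (Sylow p C) := inferInstance
    refine Fusion.hasNormalPComplement_of_normalizer_le_centralizer P fun c _ => ?_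
    refine Subgroup.mem_centralizer_iff.mpr fun x hx => Subtype.ext (Subtype.ext ?_)
    obtain ⟨Q, hQ⟩ := (P.isPGroup'.map C.subtype).exists_le_sylow
    obtain ⟨n, hn⟩ := MulAction.exists_smul_eq N (S.subtype hSN) Q
    have hxQ : (x : N) ∈ Q := hQ (Subgroup.mem_map_of_mem _ hx)
    rw [← hn] at hxQ
    obtain ⟨y, hy, hyx⟩ := hxQ
    have hyS : (y : G) ∈ (S : Subgroup G) := hy
    have e : ((x : N) : G) = n * y * (n : G)⁻¹ := by
      rw [← hyx]; rfl
    have hyC : (y : G) ∈ Subgroup.centralizer (K0 : Set G) := by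
      refine Subgroup.mem_centralizer_iff.mpr fun z hz => ?_
      have := Subgroup.mem_centralizer_iff.mp x.2 _ ((Subgroup.mem_normalizer_iff.mp n.2 z).mp hz)
      calc z * (y : G) = (n : G)⁻¹ * ((n * z * (n : G)⁻¹) * ((x : N) : G)) * n := by rw [e]; group
        _ = (n : G)⁻¹ * (((x : N) : G) * (n * z * (n : G)⁻¹)) * n :=
            congrArg (fun t => (n : G)⁻¹ * t * n) this
        _ = y * z := by rw [e]; group
    have hxK : ((x : N) : G) ∈ K0 :=
      e ▸ (Subgroup.mem_normalizer_iff.mp n.2 _).mp (hSC _ hyS hyC)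
    exact Subgroup.mem_centralizer_iff.mp c.2 _ hxK
  have hres : Cfsg.pResidual p N ≤ C :=
    Fusion.pResidual_le.mpr fun g hg => h g g.2 (by rwa [Subgroup.orderOf_coe])
  have h2 := Fusion.hasNormalPComplement_iff_pResidual.mp
    (Fusion.hasNormalPComplement_of_le hPC hres)
  rw [Fusion.pResidual_pResidual_eq_top, Subgroup.card_top] at h2
  exact Fusion.hasNormalPComplement_iff_pResidual.mpr h2

end Cfsg.Agent.S1988
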