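import Cfsg.Statements.S2763
import Cfsg.Agent.H58.QdSylow

set_option autoImplicit false
open Cfsg

namespace Cfsg.Agent.S2763

/-- In the group Qd(p) (p prime; the natural semidirect product of an elementary abelian group of order p² by SL₂(p)), the normalizer of every nontrivial characteristic subgroup of a Sylow p-subgroup S equals the normalizer of S, which is a proper subgroup; in particular no such characteristic subgroup is normal. -/
theorem result {p : ℕ} [Fact p.Prime] (S : Sylow p ↥(Cfsg.qd p)) (T : Subgroup ↥(S : Subgroup ↥(Cfsg.qd p))) (hT : T ≠ ⊥) (hTc : T.Characteristic) : Subgroup.normalizer ((T.map (S : Subgroup ↥(Cfsg.qd p)).subtype : Subgroup ↥(Cfsg.qd p)) : Set ↥(Cfsg.qd p)) = Subgroup.normalizer ((S : Subgroup ↥(Cfsg.qd p)) : Set ↥(Cfsg.qd p)) ∧ Subgroup.normalizer ((S : Subgroup ↥(Cfsg.qd p)) : Set ↥(Cfsg.qd p)) ≠ ⊤ := by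
  set G := ↥(Cfsg.qd p)
  let U : Sylow p G :=
    { toSubgroup := H58.Qd.sylU (ZMod p)
      isPGroup' := H58.Qd.sylU_isPGroup
      is_maximal' := fun hP hle => H58.Qd.sylU_maximal hP hle }
  obtain ⟨g, hg⟩ := MulAction.exists_smul_eq G S U
  set c : G ≃* G := MulAut.conj g
  have hSU : (S : Subgroup G).map c.toMonoidHom = (U : Subgroup G) := by
    rw [← hg, Sylow.coe_subgroup_smul]; rfl
  let e : ↥(S : Subgroup G) ≃* ↥(U : Subgroup G) :=
    (MulEquiv.subgroupMap c (S : Subgroup G)).trans (MulEquiv.subgroupCongr hSU)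
  set T0 : Subgroup G := (T.map (S : Subgroup G).subtype).map c.toMonoidHom with hT0
  have hTU : T0 ≤ (U : Subgroup G) := hSU ▸ Subgroup.map_mono (Subgroup.map_subtype_le T)
  have hT0ne : T0 ≠ ⊥ := by
    rw [hT0, Ne, Subgroup.map_eq_bot_iff_of_injective _ c.injective,
      Subgroup.map_eq_bot_iff_of_injective _ (S : Subgroup G).subtype_injective]
    exact hT
  have hinv : ∀ α : ↥(U : Subgroup G) ≃* ↥(U : Subgroup G), ∀ M (hM : M ∈ (U : Subgroup G)), M ∈ T0 →
      ((α ⟨M, hM⟩ : ↥(U : Subgroup G)) : G) ∈ T0 := by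
    rintro α M hM ⟨_, ⟨t, ht, rfl⟩, rfl⟩
    have h1 : (e.trans (α.trans e.symm)) t ∈ T := by
      have h := (Subgroup.characteristic_iff_map_eq.1 hTc) (e.trans (α.trans e.symm))
      have : (e.trans (α.trans e.symm)) t ∈ T.map (e.trans (α.trans e.symm)).toMonoidHom := ⟨t, ht, rfl⟩
      rwa [h] at this
    refine ⟨_, ⟨_, h1, rfl⟩, ?_⟩
    have h2 : e (e.symm (α (e t))) = α (e t) := e.apply_symm_apply _
    exact congrArg Subtype.val h2
  have hN := H58.Qd.normalizer_eq_of_invariant (p := p) T0 hTU hT0ne hinv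
  have hmap : ∀ H : Subgroup G, Subgroup.normalizer ((H.map c.toMonoidHom : Subgroup G) : Set G) =
      (Subgroup.normalizer (H : Set G)).map c.toMonoidHom := fun H =>
    (Subgroup.map_equiv_normalizer_eq H c).symm
  constructor
  · apply Subgroup.map_injective (f := c.toMonoidHom) c.injective
    rw [← hmap, ← hmap, hSU]
    exact hN
  · intro htop
    apply H58.Qd.normalizer_sylU_ne_top (F := ZMod p) (p := p)
    have := hmap (S : Subgroup G)
    rw [hSU, htop, Subgroup.map_top_of_surjective _ c.surjective] at this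
    exact this

end Cfsg.Agent.S2763
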