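import Cfsg.Statements.S1989
import Cfsg.Agent.S1987
import Cfsg.Agent.S2763
import Cfsg.Agent.Thompson.Forms
import Cfsg.Agent.H25.ThompsonApps

set_option autoImplicit false
universe u
open Cfsg

namespace Cfsg.Agent.S1989
open Subgroup Matrix in
/-- The translation subgroup of `Qd(p)` contains its centraliser. -/
theorem centralizer_trans_le {p : ℕ} [Fact p.Prime] :
    centralizer ((H58.Qd.trans (ZMod p) : Subgroup _) : Set ↥(Cfsg.qdOver (ZMod p))) ≤
      H58.Qd.trans (ZMod p) := by
  intro M hM
  rw [H58.Qd.trans, MonoidHom.mem_ker]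
  have key : ∀ w : Fin 2 → ZMod p,
      ((H58.Qd.toSL2 M : Matrix.SpecialLinearGroup (Fin 2) (ZMod p)) : Matrix (Fin 2) (Fin 2) (ZMod p)) *ᵥ w = w := by
    intro w
    have h := mem_centralizer_iff.mp hM (H58.Qd.mk 1 w) ((H58.Qd.mem_trans_iff _).mpr ⟨w, rfl⟩)
    rw [H58.Qd.eq_mk M, H58.Qd.mk_mul, H58.Qd.mk_mul] at h
    rw [one_mul, mul_one, Matrix.SpecialLinearGroup.coe_one, Matrix.one_mulVec] at h
    funext i
    refine Fin.forall_fin_two (p := fun i => _ = _).mpr ⟨?_, ?_⟩ i
    · have := congrArg (fun N => H58.Qd.ent N 0 2) h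
      simp only [H58.Qd.ent_mk_02, Pi.add_apply] at this
      linear_combination -this
    · have := congrArg (fun N => H58.Qd.ent N 1 2) h
      simp only [H58.Qd.ent_mk_12, Pi.add_apply] at this
      linear_combination -this
  apply Matrix.SpecialLinearGroup.ext
  intro i j
  have h := congrFun (key (Pi.single j 1)) i
  simp only [Matrix.mulVec_single_one, Matrix.col_apply] at h
  rw [h, Matrix.SpecialLinearGroup.coe_one, Matrix.one_apply, Pi.single_apply]


/-- Let p be an odd prime and G a finite group. Then Qd(p) (the natural semidirect product of an elementary abelian group of order p² by SL₂(p)) is not involved in G if and only if, in every section K/R of G and for every Sylow p-subgroup T of K/R, the lower K-infinity subgroup of T controls strong fusion in K/R. -/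
theorem result {G : Type u} [Group G] [Finite G] {p : ℕ} [Fact p.Prime] (hp : p ≠ 2) : ¬ Cfsg.Involves ↥(Cfsg.qd p) G ↔ ∀ (K R : Subgroup G) [hR : (R.subgroupOf K).Normal], ∀ T : Sylow p (↥K ⧸ R.subgroupOf K), Cfsg.ControlsStrongFusion p (Cfsg.inducedFunctor (G := (↥K ⧸ R.subgroupOf K)) Cfsg.kInfLower (T : Subgroup (↥K ⧸ R.subgroupOf K))) := by
  constructor
  · intro hQ K R _ T
    refine S1987.result hp (fun K' R' _ => ?_) T
    intro P hP g hg hq
    refine Thompson.isNormalizerPStable_of_qd_free hp (fun h => hQ (Thompson.hasSection_iff.mp ?_))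
      P hP hg hq
    exact ((((h.of_surjective (QuotientGroup.mk'_surjective _)).of_injective
      K'.subtype_injective).of_surjective (QuotientGroup.mk'_surjective _)).of_injective
      K.subtype_injective)
  · rintro hctl ⟨K, R, hR, ⟨e⟩⟩
    have := hR
    have : Finite (↥K ⧸ R.subgroupOf K) := inferInstance
    let T : Sylow p (↥K ⧸ R.subgroupOf K) := default
    let Vq : Subgroup ↥(Cfsg.qd p) := H58.Qd.trans (ZMod p)
    have hVqn : Vq.Normal := by
      show (MonoidHom.ker (H58.Qd.toSL2 (F := ZMod p))).Normal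
      infer_instance
    have hVqc : Subgroup.centralizer (Vq : Set ↥(Cfsg.qd p)) ≤ Vq := centralizer_trans_le
    have hVqp : IsPGroup p Vq := H58.Qd.trans_isPGroup
    obtain ⟨w, hw, hw1⟩ : ∃ w ∈ Vq, w ≠ 1 := by
      refine ⟨H58.Qd.mk 1 ![1, 0], (H58.Qd.mem_trans_iff _).mpr ⟨_, rfl⟩, fun h => ?_⟩
      have h2 := congrArg (fun N : ↥(Cfsg.qdOver (ZMod p)) => H58.Qd.ent N 0 2)
        (show H58.Qd.mk (1 : Matrix.SpecialLinearGroup (Fin 2) (ZMod p)) ![1, 0] = 1 from h)
      simp [H58.Qd.ent, H58.Qd.mk] at h2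
    set V := Vq.comap e.toMonoidHom with hV
    have : V.Normal := hVqn.comap _
    have hVp : IsPGroup p V := hVqp.comap_of_injective _ e.injective
    have hVT : ∀ P : Sylow p (↥K ⧸ R.subgroupOf K), V ≤ (P : Subgroup _) := fun P =>
      (Cores.le_pCore hVp).trans (Cores.pCore_le_sylow P)
    have hVc : Subgroup.centralizer (V : Set (↥K ⧸ R.subgroupOf K)) ≤ V := fun x hx => by
      refine hVqc (Subgroup.mem_centralizer_iff.mpr fun y hy => ?_)
      obtain ⟨z, rfl⟩ := e.surjective y
      have := congrArg e (Subgroup.mem_centralizer_iff.mp hx z hy)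
      simpa using this
    set U := Cfsg.inducedFunctor Cfsg.kInfLower.{u} (T : Subgroup (↥K ⧸ R.subgroupOf K)) with hU
    have hW := H49.kLike_lower.{u}
    have hTN : (T : Subgroup (↥K ⧸ R.subgroupOf K)) ≤ Subgroup.normalizer (U : Set _) :=
      Subgroup.le_normalizer.trans
        (H25.normalizer_le_normalizer_inducedFunctor (hW.isCharPFunctor p) T.isPGroup')
    obtain ⟨T', hUT', hA⟩ := hctl K R T
    have htop : Subgroup.normalizer (U : Set (↥K ⧸ R.subgroupOf K)) = ⊤ := by
      refine eq_top_iff.mpr fun g _ => ?_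
      obtain ⟨x, hx, hag⟩ := (hA (V : Set _) (hVT T')).2 g (by
        rintro _ ⟨a, ha, rfl⟩
        exact hVT T' (Subgroup.Normal.conj_mem ‹V.Normal› a ha g))
      have hc : x⁻¹ * g ∈ V := hVc (Subgroup.mem_centralizer_iff.mpr fun a ha => by
        have h1 := hag a ha
        calc a * (x⁻¹ * g) = x⁻¹ * (x * a * x⁻¹) * g := by group
          _ = x⁻¹ * (g * a * g⁻¹) * g := by rw [h1]
          _ = x⁻¹ * g * a := by group)
      have := mul_mem hx (hTN (hVT T hc))
      rwa [mul_inv_cancel_left] at this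
    let S : Sylow p ↥(Cfsg.qd p) := T.mapSurjective (f := e.toMonoidHom) e.surjective
    let e' : ↥(T : Subgroup (↥K ⧸ R.subgroupOf K)) ≃* ↥(S : Subgroup ↥(Cfsg.qd p)) :=
      MulEquiv.subgroupMap e _
    let X := (Cfsg.kInfLower ↥(T : Subgroup (↥K ⧸ R.subgroupOf K))).map e'.toMonoidHom
    have : Nontrivial ↥(T : Subgroup (↥K ⧸ R.subgroupOf K)) := by
      obtain ⟨z, rfl⟩ := e.surjective w
      exact ⟨⟨⟨z, hVT T hw⟩, 1, fun h => hw1 (by rw [show z = 1 from congrArg Subtype.val h, map_one])⟩⟩
    have hX : X ≠ ⊥ := by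
      rw [Ne, Subgroup.map_eq_bot_iff_of_injective _ e'.injective]
      exact (hW.isCharPFunctor p).1 _ T.isPGroup' inferInstance
    have hXc : X.Characteristic := Subgroup.characteristic_iff_map_eq.mpr fun α => by
      show (Subgroup.map _ (Subgroup.map _ _)) = _
      conv_rhs => rw [show X = (Cfsg.kInfLower _).map e'.toMonoidHom from rfl,
        ← hW.map_equiv ((e'.trans α).trans e'.symm), Subgroup.map_map]
      rw [Subgroup.map_map]
      congr 1
      ext t
      simp
    obtain ⟨h1, h2⟩ := S2763.result S X hX hXc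
    have h3 : (X.map (S : Subgroup ↥(Cfsg.qd p)).subtype) = U.map e.toMonoidHom := by
      show (Subgroup.map _ (Subgroup.map _ _)) = (Subgroup.map _ (Subgroup.map _ _))
      rw [Subgroup.map_map, Subgroup.map_map]
      rfl
    rw [h3, ← Subgroup.map_equiv_normalizer_eq, htop,
      Subgroup.map_top_of_surjective _ e.surjective] at h1
    exact h2 h1.symm

end Cfsg.Agent.S1989
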