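import Cfsg.Statements.S1992
import Cfsg.Agent.H49.NormalIndex
import Cfsg.Agent.Hall.WielandtFull
import Cfsg.Agent.S0144
-- import your own Cfsg.Agent.* helpers here

set_option autoImplicit false
open Cfsg

namespace Cfsg.Agent.S1992

/-- Let G be a finite group in which, for every prime q dividing the order of G, every Sylow q-subgroup is its own normalizer. Then the order of G is a power of a single prime (G is a q-group for some prime q; for G trivial any prime works). -/
theorem result {G : Type*} [Group G] [Finite G] (h : ∀ q : ℕ, q.Prime → q ∣ Nat.card G → ∀ Q : Sylow q G, Subgroup.normalizer ((Q : Subgroup G) : Set G) = Q) : ∃ q : ℕ, q.Prime ∧ IsPGroup q G := by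
  rcases subsingleton_or_nontrivial G with hG | hG
  · exact ⟨2, Nat.prime_two, fun g => ⟨0, Subsingleton.elim _ _⟩⟩
  have hcard : Nat.card G ≠ 0 := Nat.card_pos.ne'
  obtain ⟨M, q, hM, hq, hidx⟩ : ∃ (M : Subgroup G) (q : ℕ), M.Normal ∧ q.Prime ∧ M.index = q := by
    by_cases hbig : ∃ p, p.Prime ∧ 5 ≤ p ∧ p ∣ Nat.card G
    · obtain ⟨p, hp, hp5, hpd⟩ := hbig
      haveI := Fact.mk hp
      let S : Sylow p G := default
      obtain ⟨M, hM, hi⟩ := H49.exists_normal_index_p _ G rfl hp5 S (S.ne_bot_of_dvd_card hpd)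
        (fun g hg hgc => by
          rw [h p hp hpd S] at hg
          obtain ⟨k, hk⟩ := S.isPGroup' ⟨g, hg⟩
          have h1 : g ^ p ^ k = 1 := by simpa using congrArg Subtype.val hk
          have : g = 1 := orderOf_eq_one_iff.mp
            (Nat.eq_one_of_dvd_coprimes (hgc.pow_right k) dvd_rfl (orderOf_dvd_of_pow_eq_one h1))
          rw [this]; exact one_mem _)
      exact ⟨M, p, hM, hp, hi⟩
    · push Not at hbig
      obtain ⟨a, m, hm, hcm⟩ :=
        Nat.exists_eq_pow_mul_and_not_dvd hcard 2 (by norm_num)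
      have h3 : ∀ {d : ℕ}, d.Prime → d ∣ m → d = 3 := fun {d} hd hdm => by
        have h2 : d < 5 := by
          by_contra hc
          exact hbig d hd (not_lt.mp hc) (hcm ▸ dvd_mul_of_dvd_right hdm _)
        have := hd.two_le
        interval_cases d
        · exact absurd hdm hm
        · rfl
        · norm_num at hd
      have hm0 : m ≠ 0 := fun h0 => hcard (by rw [hcm, h0, mul_zero])
      haveI := S0144.result (G := G) 2 3 a _ Nat.prime_two Nat.prime_three
        (hcm.trans (by rw [← Nat.eq_prime_pow_of_unique_prime_dvd hm0 h3]))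
      obtain ⟨M, q, hM, hq, hi, -⟩ := Hall.exists_normal_prime_index (G := G)
      exact ⟨M, q, hM, hq, hi⟩
  haveI := hM
  have huniq : ∀ {r : ℕ}, r.Prime → r ∣ Nat.card G → r = q := fun {r} hr hrd => by
    by_contra hne
    haveI := Fact.mk hr
    let R : Sylow r G := default
    have hrn : ¬ r ∣ M.index := by
      rw [hidx]
      exact fun hd => hne ((Nat.prime_dvd_prime_iff_eq hr hq).mp hd)
    have hRM : (R : Subgroup G) ≤ M := by
      intro x hx
      obtain ⟨k, hk⟩ := R.isPGroup' ⟨x, hx⟩
      have hxk : x ^ r ^ k = 1 := by simpa using congrArg Subtype.val hk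
      rw [← QuotientGroup.eq_one_iff, ← orderOf_eq_one_iff]
      refine Nat.eq_one_of_dvd_coprimes (Nat.Coprime.pow_left k (hr.coprime_iff_not_dvd.mpr hrn))
        (orderOf_dvd_of_pow_eq_one ?_) ?_
      · rw [← QuotientGroup.mk_pow, hxk]; rfl
      · rw [Subgroup.index_eq_card]; exact orderOf_dvd_natCard _
    let R' : Sylow r M := R.subtype hRM
    have hF := Sylow.normalizer_sup_eq_top (N := M) R'
    rw [Sylow.coe_subtype, Subgroup.map_subgroupOf_eq_of_le hRM, h r hr hrd R,
      sup_eq_right.mpr hRM] at hF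
    rw [hF, Subgroup.index_top] at hidx
    exact hq.ne_one hidx.symm
  haveI := Fact.mk hq
  exact ⟨q, hq, IsPGroup.of_card (Nat.eq_prime_pow_of_unique_prime_dvd hcard huniq)⟩

end Cfsg.Agent.S1992
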