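import Cfsg.Statements.S1998
import Cfsg.Agent.Fusion.TransferInduction

set_option autoImplicit false
universe u
open Cfsg

namespace Cfsg.Agent.S1998

/-- Let p be a prime, G a finite group with Sylow p-subgroup S, and 𝓦 a nonempty set of isomorphism-invariant p-group functors (W assigns to every group Q a subgroup W(Q), nontrivial whenever Q is a nontrivial finite p-group, and every isomorphism from a finite p-group Q onto a group R carries W(Q) onto W(R)). Suppose the induced conjugacy functors control transfer in every section of G other than G itself, but not in G. Let T be the subgroup generated by the S ∩ (N_G(W(S)))', W ∈ 𝓦, and M = N_G(T ∩ O_p(G)). Then: C_G(O_p(G)) ≤ O_p(G); M is a proper subgroup of G containing every proper subgroup of G that contains S (the unique maximal subgroup over S); [O_p(G), M] ≤ O_p(G) ∩ M' ≤ O_p(G) ∩ T; and every element u of S outside O_p(G) satisfies [X, u, …, u] ≰ Y with p − 1 entries u, for some chief factor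 X/Y of G with X ≤ O_p(G). -/
theorem result {G : Type u} [Group G] [Finite G] {p : ℕ} [Fact p.Prime] (S : Sylow p G) (𝓦 : Set (∀ (Q : Type u) [Group Q], Subgroup Q)) (h𝓦 : ∀ W ∈ 𝓦, Cfsg.IsCharPFunctor.{u} p W) (hne : 𝓦.Nonempty) (hsec : ∀ (K R : Subgroup G) [hR : (R.subgroupOf K).Normal], (K = ⊤ → R ≠ ⊥) → Cfsg.FamilyControlsTransferIn p ((fun W => Cfsg.inducedFunctor (G := (↥K ⧸ R.subgroupOf K)) W) '' 𝓦) ⊤) (hG : ¬ Cfsg.FamilyControlsTransferIn p ((fun W => Cfsg.inducedFunctor (G := G) W) '' 𝓦) ⊤) (T M : Subgroup G) (hT : T = (⨆ W ∈ 𝓦, (S : Subgroup G) ⊓ ⁅Subgroup.normalizer ((Cfsg.inducedFunctor (G := G) W (S : Subgroup G) : Subgroup G) : Set G), Subgroup.normalizer ((Cfsg.inducedFunctor (G := G) W (S : Subgroup G) : Subgroup G) : Set G)⁆)) (hM : M = Subgroup.normalizer ((T ⊓ Cfsg.pCore p G : Subgroup G) : Set G)) : Subgroup.centralizer ((Cfsg.pCore p G : Subgroup G) : Set G) ≤ Cfsg.pCore p G ∧ (M ≠ ⊤ ∧ ∀ H : Subgroup G, (S : Subgroup G) ≤ H →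 H ≠ ⊤ → H ≤ M) ∧ (⁅Cfsg.pCore p G, M⁆ ≤ Cfsg.pCore p G ⊓ ⁅M, M⁆ ∧ Cfsg.pCore p G ⊓ ⁅M, M⁆ ≤ Cfsg.pCore p G ⊓ T) ∧ ∀ u : G, u ∈ (S : Subgroup G) → u ∉ Cfsg.pCore p G → ∃ U V : Subgroup G, Cfsg.IsChiefFactor U V ∧ U ≤ Cfsg.pCore p G ∧ ¬ Cfsg.iterCommutator U (Subgroup.zpowers u) (p - 1) ≤ V := by
  subst hT hM
  have hT' : (⨆ W ∈ 𝓦, (S : Subgroup G) ⊓ ⁅Subgroup.normalizer ((Cfsg.inducedFunctor (G := G) W (S : Subgroup G) : Subgroup G) : Set G), Subgroup.normalizer ((Cfsg.inducedFunctor (G := G) W (S : Subgroup G) : Subgroup G) : Set G)⁆) = Fusion.Tj 𝓦 (S : Subgroup G) := rfl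
  rw [hT']
  have hmin : Fusion.MinimalFailure 𝓦 S := by
    refine ⟨h𝓦, fun K hK => ?_, fun R _ hR => ?_, ?_, ?_⟩
    · haveI : ((⊥ : Subgroup G).subgroupOf K).Normal := by
        rw [Subgroup.bot_subgroupOf]; infer_instance
      exact ((Fusion.ctl_iff h𝓦).mp (hsec K ⊥ (fun h => absurd h hK))).congr
        ((QuotientGroup.quotientMulEquivOfEq (Subgroup.bot_subgroupOf K)).trans
          QuotientGroup.quotientBot) h𝓦
    · exact ((Fusion.ctl_iff h𝓦).mp (hsec ⊤ R (fun _ => hR))).congr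
        (QuotientGroup.congr (R.subgroupOf ⊤) R Subgroup.topEquiv
          (Subgroup.map_subgroupOf_eq_of_le le_top)) h𝓦
    · obtain ⟨W, hW⟩ := hne
      refine le_trans ?_ (Fusion.le_Tj hW _)
      exact le_inf (Subgroup.commutator_le_self _)
        (Subgroup.commutator_mono (Fusion.le_normalizer_inducedFunctor (h𝓦 W hW) S.isPGroup')
          (Fusion.le_normalizer_inducedFunctor (h𝓦 W hW) S.isPGroup'))
    · intro hle
      refine hG ((Fusion.ctl_iff h𝓦).mpr fun R => ?_)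
      obtain ⟨g, hg⟩ := MulAction.exists_smul_eq G S R
      rw [← hg, Fusion.sylow_smul_coe]
      refine le_trans (le_of_eq ?_) ((Subgroup.map_mono hle).trans
        (Fusion.map_Tj_le (MulAut.conj g).toMonoidHom (MulAut.conj g).injective h𝓦 S.isPGroup'))
      rw [Subgroup.map_inf_eq _ _ _ (MulAut.conj g).injective, commutator_def,
        Subgroup.map_commutator, Subgroup.map_top_of_surjective _ (MulAut.conj g).surjective]
  have hS := hmin.ne_pCore hne
  haveI : (Cfsg.pCore p G).Normal := Subgroup.normal_of_characteristic _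
  refine ⟨hmin.centralizer_le, ⟨hmin.M_ne_top hS, fun H h1 h2 => hmin.le_M hS h2 h1⟩, ⟨?_, ?_⟩,
    fun u hu huQ => hmin.engel hS hu huQ⟩
  · exact le_inf (Subgroup.commutator_le_left _ _)
      (Subgroup.commutator_mono ((Cores.pCore_le_sylow S).trans (hmin.le_M_self hS)) le_rfl)
  · exact fun x hx => ⟨hx.1, hmin.proper_le (hmin.M_ne_top hS) (hmin.le_M_self hS)
      ⟨hx.2, Cores.pCore_le_sylow S hx.1⟩⟩

end Cfsg.Agent.S1998
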