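import Cfsg.Statements.S1999
import Cfsg.Agent.Thompson.SfourFusion
-- import your own Cfsg.Agent.* helpers here

set_option autoImplicit false
open Cfsg

namespace Cfsg.Agent.S1999

/-- Let G be a finite group. The symmetric group of degree 4 is not involved in G if and only if, in every section K/R of G, the pair of conjugacy functors {Z, J_e} controls strong fusion (for the prime 2): here Z(P) is the centre and J_e(P) the subgroup generated by the elementary abelian subgroups of P of largest order, and control by the pair means that 2-fusion of tuples inside a Sylow 2-subgroup T of the section is generated, staying inside T, by conjugation inside N(Z(T)) and N(J_e(T)). -/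
theorem result {G : Type*} [Group G] [Finite G] : ¬ Cfsg.Involves (Equiv.Perm (Fin 4)) G ↔ ∀ (K R : Subgroup G) [hR : (R.subgroupOf K).Normal], Cfsg.FamilyControlsStrongFusionIn 2 ({fun P : Subgroup (↥K ⧸ R.subgroupOf K) => P ⊓ Subgroup.centralizer ((P : Subgroup (↥K ⧸ R.subgroupOf K)) : Set (↥K ⧸ R.subgroupOf K)), fun P : Subgroup (↥K ⧸ R.subgroupOf K) => Cfsg.thompsonSubgroupOf 2 P} : Set (Subgroup (↥K ⧸ R.subgroupOf K) → Subgroup (↥K ⧸ R.subgroupOf K))) ⊤ := by
  open Cfsg.Agent.Thompson.FourFree in
  constructor
  · intro h K R _
    have hs := familyControls_sfour_free (sfour_free_section h K R)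
    rwa [show inducedFunctor (G := ↥K ⧸ R.subgroupOf K) zFun = fun P => P ⊓ Subgroup.centralizer (P : Set (↥K ⧸ R.subgroupOf K))
      from funext fun P => inducedFunctor_zFun P] at hs
  · intro h
    refine sfour_free_of_familyControls {zFun, jeFun} ?_ fun K R _ => ?_
    · rintro _ (rfl | rfl)
      exacts [isCharPFunctor_zFun 2, isCharPFunctor_jeFun]
    · have hs := h K R
      rw [Set.image_pair]
      rwa [show inducedFunctor (G := ↥K ⧸ R.subgroupOf K) zFun = fun P => P ⊓ Subgroup.centralizer (P : Set (↥K ⧸ R.subgroupOf K))
        from funext fun P => inducedFunctor_zFun P]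

end Cfsg.Agent.S1999
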