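import Cfsg.Statements.S2000
import Cfsg.Agent.Thompson.SfourFusion
import Cfsg.Agent.Fusion.StableFusion
import Cfsg.Agent.H49.QdFree
-- import your own Cfsg.Agent.* helpers here

set_option autoImplicit false
universe u
open Cfsg

namespace Cfsg.Agent.S2000

/-- Let p be a prime and G a finite group. Then Qd(p) (the natural semidirect product of an elementary abelian group of order p² by SL₂(p)) is not involved in G if and only if there is a set 𝓦 of isomorphism-invariant p-group functors (each nontrivial on nontrivial finite p-groups and carried onto W(R) by every isomorphism from a finite p-group Q onto R, hence with characteristic values on finite p-groups) whose induced conjugacy functors control strong fusion in every section of G. -/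
theorem result {G : Type u} [Group G] [Finite G] {p : ℕ} [Fact p.Prime] : ¬ Cfsg.Involves ↥(Cfsg.qd p) G ↔ ∃ 𝓦 : Set (∀ (Q : Type u) [Group Q], Subgroup Q), (∀ W ∈ 𝓦, Cfsg.IsCharPFunctor.{u} p W) ∧ ∀ (K R : Subgroup G) [hR : (R.subgroupOf K).Normal], Cfsg.FamilyControlsStrongFusionIn p ((fun W => Cfsg.inducedFunctor (G := (↥K ⧸ R.subgroupOf K)) W) '' 𝓦) ⊤ := by
  open Cfsg.Agent.Thompson.FourFree Cfsg.Agent.Fusion.Stable in
  constructor
  · intro h
    rcases eq_or_ne p 2 with rfl | hp
    · obtain ⟨e⟩ := qd_two_equiv
      have h4 : ¬ Involves (Equiv.Perm (Fin 4)) G := fun ⟨K, R, hR, ⟨f⟩⟩ => h ⟨K, R, hR, ⟨f.trans e.symm⟩⟩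
      refine ⟨{zFun, jeFun}, ?_, fun K R _ => ?_⟩
      · rintro _ (rfl | rfl)
        exacts [isCharPFunctor_zFun 2, isCharPFunctor_jeFun]
      · rw [Set.image_pair]
        exact familyControls_sfour_free (sfour_free_section h4 K R)
    · refine ⟨{zjFun}, by rintro _ rfl; exact isCharPFunctor_zjFun p, fun K R _ => ?_⟩
      refine H49.familyControls_of_sfc (sfc_zj hp _ _ rfl ?_)
      exact fun P hP g hg hq => Thompson.isNormalizerPStable_of_qd_free hp (H49.qd_free_section h K R) P hP hg hq
  · rintro ⟨W, hW, h⟩
    exact H49.qd_free_of_sfc_models W hW fun K R _ => H49.sfc_of_familyControls hW (h K R)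

end Cfsg.Agent.S2000
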