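import Cfsg.Statements.S2001
import Cfsg.Agent.Fusion.CentralPair

set_option autoImplicit false
open Cfsg

namespace Cfsg.Agent.S2001

open Subgroup H48
open scoped commutatorElement

universe u

variable {G : Type u} [Group G] [Finite G] {p : ℕ} [Fact p.Prime]

/-- The focal subgroup theorem inside a subgroup `M`. -/
theorem inf_commutator_le_of_diff {M R J : Subgroup G} (hR : IsSylowIn p R M)
    (h : ∀ t ∈ R, ∀ g ∈ M, g * t * g⁻¹ ∈ R → t⁻¹ * (g * t * g⁻¹) ∈ J) :
    R ⊓ ⁅M, M⁆ ≤ J := by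
  let T : Sylow p M := (hR.isPGroup.comap_subtype (K := M)).toSylow hR.ndvd
  have h1 := inf_commutator_le T (J.subgroupOf M) fun t ht g hg => h t ht g g.2 hg
  have h2 := Subgroup.map_mono (f := M.subtype) h1
  rw [map_inf _ _ _ M.subtype_injective, map_commutator, ← MonoidHom.range_eq_map,
    range_subtype] at h2
  refine le_trans ?_ (h2.trans (map_subgroupOf_le _ _))
  exact inf_le_inf (fun r hr => ⟨⟨r, hR.le hr⟩, hr, rfl⟩) le_rfl
where
  map_subgroupOf_le (A B : Subgroup G) : (A.subgroupOf B).map B.subtype ≤ A := by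
    rw [subgroupOf_map_subtype]
    exact inf_le_left

theorem functor_cj_centralizer {V : Subgroup G → Subgroup G} (hV : Cfsg.IsConjugacyFunctor p V)
    {Q : Subgroup G} (hQ : IsPGroup p Q) {k x : G}
    (hx : x ∈ centralizer ((V Q : Subgroup G) : Set G)) :
    k * x * k⁻¹ ∈ centralizer ((V (H48.cj k Q) : Subgroup G) : Set G) := by
  rw [functor_cj hV hQ, mem_centralizer_iff]
  intro v hv
  obtain ⟨w, hw, rfl⟩ := mem_map.1 hv
  have h := mem_centralizer_iff.1 hx w hw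
  simp only [MulEquiv.coe_toMonoidHom, MulAut.conj_apply]
  calc k * w * k⁻¹ * (k * x * k⁻¹) = k * (w * x) * k⁻¹ := by group
    _ = k * (x * w) * k⁻¹ := by rw [h]
    _ = k * x * k⁻¹ * (k * w * k⁻¹) := by group

theorem le_centralizer_functor {V : Subgroup G → Subgroup G}
    (hVZ : ∀ H : Subgroup G, IsPGroup p ↥H →
      V H ≤ H ⊓ Subgroup.centralizer ((H : Subgroup G) : Set G))
    {H : Subgroup G} (hH : IsPGroup p H) : H ≤ centralizer ((V H : Subgroup G) : Set G) :=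
  fun h hh => mem_centralizer_iff.2 fun _ hv =>
    (mem_centralizer_iff.1 (hVZ H hH hv).2 h hh).symm

theorem main (hdiv : p ∣ Nat.card G) (P : Sylow p G) (W V : Subgroup G → Subgroup G)
    (hW : Cfsg.IsConjugacyFunctor p W) (hV : Cfsg.IsConjugacyFunctor p V)
    (hWZ : ∀ H : Subgroup G, IsPGroup p ↥H →
      H ⊓ Subgroup.centralizer ((H : Subgroup G) : Set G) ≤ W H)
    (hVZ : ∀ H : Subgroup G, IsPGroup p ↥H →
      V H ≤ H ⊓ Subgroup.centralizer ((H : Subgroup G) : Set G))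
    (hVmono : ∀ H K : Subgroup G, IsPGroup p ↥H → IsPGroup p ↥K → H ≠ ⊥ → K ≠ ⊥ →
      H ⊓ Subgroup.centralizer ((H : Subgroup G) : Set G) ≤
        K ⊓ Subgroup.centralizer ((K : Subgroup G) : Set G) → V H ≤ V K)
    (hloc : ∀ H : Subgroup G, (P : Subgroup G) ⊓ Subgroup.centralizer (((P : Subgroup G) : Subgroup G) : Set G) ≤ H → H ≤ (P : Subgroup G) → ∃ Q : Subgroup G, Q ≤ Subgroup.normalizer ((H : Subgroup G) : Set G) ∧ IsPGroup p ↥Q ∧ ¬ p ∣ (Q).relIndex (Subgroup.normalizer ((H : Subgroup G) : Set G)) ∧ ∀ x : G, x ∈ Q ⊓ ⁅Subgroup.normalizer ((H : Subgroup G) : Set G), Subgroup.normalizer ((H : Subgroup G) : Set G)⁆ ↔ ∃ a ∈ Q ⊓ ⁅Subgroup.normalizer ((H : Subgroup G) : Set G) ⊓ Subgroup.normalizer ((W Q : Subgroup G) : Set G), Subgroup.normalizer ((H : Subgroup G) : Set G) ⊓ Subgroup.normalizer ((W Q : Subgroup G) : Set G)⁆, ∃ b ∈ Q ⊓ ⁅Subgroup.normalizer ((H : Subgroup G) : Set G) ⊓ Subgroup.centralizer ((V Q : Subgroup G) :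 Set G), Subgroup.normalizer ((H : Subgroup G) : Set G) ⊓ Subgroup.centralizer ((V Q : Subgroup G) : Set G)⁆, x = a * b) :
    ∃ Q : Subgroup G, IsPGroup p ↥Q ∧ ¬ p ∣ Q.index ∧ ∀ x : G, x ∈ Q ⊓ commutator G ↔ ∃ a ∈ Q ⊓ ⁅Subgroup.normalizer ((W Q : Subgroup G) : Set G), Subgroup.normalizer ((W Q : Subgroup G) : Set G)⁆, ∃ b ∈ Q ⊓ ⁅Subgroup.centralizer ((V Q : Subgroup G) : Set G), Subgroup.centralizer ((V Q : Subgroup G) : Set G)⁆, x = a * b := by
  set N₀ := normalizer ((W (P : Subgroup G) : Subgroup G) : Set G) with hN₀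
  set C₀ := centralizer ((V (P : Subgroup G) : Subgroup G) : Set G) with hC₀
  set J : Subgroup G := ((P : Subgroup G) ⊓ ⁅N₀, N₀⁆) ⊔ ((P : Subgroup G) ⊓ ⁅C₀, C₀⁆) with hJ
  have hPN : (P : Subgroup G) ≤ N₀ := le_normalizer_functor hW P.isPGroup'
  have hPC : (P : Subgroup G) ≤ C₀ := le_centralizer_functor hVZ P.isPGroup'
  have hR : Fusion.CentralPair.RelHyp (P : Subgroup G)
      (fun A g => ∀ t ∈ A, t⁻¹ * (g * t * g⁻¹) ∈ J) := by
    refine ⟨fun A h k => conj_transfer_mem, fun A B h h1 h2 t ht => h1 t (h2 ht), ?_,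
      fun A h k h1 he t ht => he t ht ▸ h1 t ht⟩
    rintro A h h1 _ ⟨t, ht, rfl⟩
    have h2 := inv_mem (h1 t ht)
    simpa [mul_assoc] using h2
  have hmem : ∀ H : Subgroup G, (P : Subgroup G) ≤ H → ∀ (A : Set G) (y : G), y ∈ H →
      A ⊆ (P : Subgroup G) → limg A y ⊆ (P : Subgroup G) → ∀ t ∈ A,
        t⁻¹ * (y * t * y⁻¹) ∈ (P : Subgroup G) ⊓ ⁅H, H⁆ := fun H hPH A y hy hA hA' t ht =>
    ⟨Subgroup.mul_mem _ (Subgroup.inv_mem _ (hA ht)) (hA' ⟨t, ht, rfl⟩), conj_diff_mem_commutator (hPH (hA ht)) hy⟩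
  have hall := Fusion.CentralPair.rel_all hdiv hW hWZ hVZ hVmono hR
    (fun A y hy hA hA' t ht => mem_sup_left (hmem _ hPN A y hy hA hA' t ht))
    (fun A y hy hA hA' t ht => mem_sup_right (hmem _ hPC A y hy hA hA' t ht)) ?_
  · refine ⟨P, P.isPGroup', P.not_dvd_index, fun x => ⟨fun hx => ?_, ?_⟩⟩
    · have hxJ : x ∈ J := inf_commutator_le P J (fun t ht g hg =>
        hall {t} g (Set.singleton_subset_iff.2 ht)
          (by rw [limg, Set.image_singleton]; exact Set.singleton_subset_iff.2 hg) t rfl)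
        ⟨hx.1, by rw [← _root_.commutator_def]; exact hx.2⟩
      have hn : (P : Subgroup G) ⊓ ⁅C₀, C₀⁆ ≤
          normalizer (((P : Subgroup G) ⊓ ⁅N₀, N₀⁆ : Subgroup G) : Set G) := by
        refine inf_le_left.trans fun s hs => mem_normalizer_of_cj_eq ?_
        rw [H48.cj_inf, H48.cj_commutator, cj_eq_of_mem_normalizer (le_normalizer hs),
          cj_eq_of_mem_normalizer (le_normalizer (hPN hs))]
      rw [hJ, ← SetLike.mem_coe, coe_mul_of_right_le_normalizer_left _ _ hn] at hxJ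
      obtain ⟨a, ha, b, hb, rfl⟩ := hxJ
      exact ⟨a, ha, b, hb, rfl⟩
    · rintro ⟨a, ha, b, hb, rfl⟩
      exact ⟨mul_mem ha.1 hb.1,
        mul_mem (by rw [_root_.commutator_def]; exact commutator_mono le_top le_top ha.2)
          (by rw [_root_.commutator_def]; exact commutator_mono le_top le_top hb.2)⟩
  · intro X hZ hXS hsyl hin A y hy hA hA' t ht
    obtain ⟨Q, hQN, hQp, hQi, hctl⟩ := hloc X hZ hXS
    set R := (P : Subgroup G) ⊓ normalizer (X : Set G) with hRdef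
    obtain ⟨k, hk, hkQ⟩ := (IsSylowIn.mk hQN hQp hQi).exists_conj hsyl
    have hRp : IsPGroup p R := P.isPGroup'.to_le inf_le_left
    have hpart : ∀ M : Subgroup G, R ≤ M → M ≤ normalizer (X : Set G) →
        (∀ g ∈ M, g ∈ normalizer (X : Set G) ⊓ normalizer ((W R : Subgroup G) : Set G) ∨
          g ∈ normalizer (X : Set G) ⊓ centralizer ((V R : Subgroup G) : Set G)) →
        R ⊓ ⁅M, M⁆ ≤ J := by
      intro M hRM hMN hMm
      refine inf_commutator_le_of_diff (p := p) ⟨hRM, hRp, fun hd => hsyl.ndvd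
        (hd.trans (Dvd.intro _ (relIndex_mul_relIndex R M _ hRM hMN)))⟩ fun u hu g hg hgu => ?_
      exact hin {u} g (hMm g hg) (Set.singleton_subset_iff.2 hu)
        (by rw [limg, Set.image_singleton]; exact Set.singleton_subset_iff.2 hgu) u rfl
    set d := t⁻¹ * (y * t * y⁻¹) with hd
    have hdR : d ∈ R := mul_mem (inv_mem (hA ht)) (hA' ⟨t, ht, rfl⟩)
    have hdC : d ∈ ⁅normalizer (X : Set G), normalizer (X : Set G)⁆ :=
      conj_diff_mem_commutator (hA ht).2 hy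
    have hkN : H48.cj k⁻¹ (normalizer (X : Set G)) = normalizer (X : Set G) :=
      cj_eq_of_mem_normalizer (le_normalizer (inv_mem hk))
    obtain ⟨a, ha, b, hb, hab⟩ := (hctl (k⁻¹ * d * k)).1 ⟨H48.mem_cj.mp (hkQ.symm ▸ hdR), by
      have h1 := H48.conj_mem_cj (g := k⁻¹) hdC
      rw [H48.cj_commutator, hkN, inv_inv] at h1
      exact h1⟩
    have hkN' : H48.cj k (normalizer (X : Set G)) = normalizer (X : Set G) :=
      cj_eq_of_mem_normalizer (le_normalizer hk)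
    have ha' : k * a * k⁻¹ ∈ R ⊓ ⁅normalizer (X : Set G) ⊓ normalizer ((W R : Subgroup G) : Set G),
        normalizer (X : Set G) ⊓ normalizer ((W R : Subgroup G) : Set G)⁆ := by
      have h1 := H48.conj_mem_cj (g := k) ha
      rwa [H48.cj_inf, H48.cj_commutator, H48.cj_inf, hkN', H48.cj_normalizer,
        ← functor_cj hW hQp, hkQ] at h1
    have hb' : k * b * k⁻¹ ∈ R ⊓ ⁅normalizer (X : Set G) ⊓ centralizer ((V R : Subgroup G) : Set G),
        normalizer (X : Set G) ⊓ centralizer ((V R : Subgroup G) : Set G)⁆ := by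
      have h1 := H48.conj_mem_cj (g := k) hb
      rw [H48.cj_inf, H48.cj_commutator, hkQ, H48.cj_inf, hkN'] at h1
      refine inf_le_inf le_rfl (commutator_mono ?_ ?_) h1 <;>
      · refine inf_le_inf le_rfl ?_
        rintro _ ⟨z, hz, rfl⟩
        rw [← hkQ]
        exact functor_cj_centralizer hV hQp hz
    have e : d = k * a * k⁻¹ * (k * b * k⁻¹) := by
      calc d = k * (k⁻¹ * d * k) * k⁻¹ := by group
        _ = _ := by rw [hab]; group
    rw [e]
    refine mul_mem (hpart _ ?_ inf_le_left (fun g hg => Or.inl hg) ha')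
      (hpart _ ?_ inf_le_left (fun g hg => Or.inr hg) hb')
    · exact le_inf inf_le_right (le_normalizer_functor hW hRp)
    · exact le_inf inf_le_right (le_centralizer_functor hVZ hRp)


/-- Let p be a prime dividing the order of the finite group G, P a Sylow p-subgroup, W a conjugacy functor for p on G with Z(H) ≤ W(H) for every nontrivial p-subgroup H, and V a central functor: a conjugacy functor with V(H) ≤ Z(H), and V(H) ≤ V(K) whenever Z(H) ≤ Z(K), for nontrivial p-subgroups H, K. Say that W with V controls transfer in a subgroup L when some Sylow p-subgroup Q of L satisfies Q ∩ L' = (Q ∩ (N_L(W(Q)))')·(Q ∩ (C_L(V(Q)))') as a product of two subgroups. If W with V controls transfer in N_G(H) for every subgroup H with Z(P) ≤ H ≤ P, then W with V controls transfer in G. -/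
theorem result {G : Type*} [Group G] [Finite G] {p : ℕ} [Fact p.Prime] (hdiv : p ∣ Nat.card G) (P : Sylow p G) (W V : Subgroup G → Subgroup G) (hW : Cfsg.IsConjugacyFunctor p W) (hV : Cfsg.IsConjugacyFunctor p V) (hWZ : ∀ H : Subgroup G, IsPGroup p ↥H → H ⊓ Subgroup.centralizer ((H : Subgroup G) : Set G) ≤ W H) (hVZ : ∀ H : Subgroup G, IsPGroup p ↥H → V H ≤ H ⊓ Subgroup.centralizer ((H : Subgroup G) : Set G)) (hVmono : ∀ H K : Subgroup G, IsPGroup p ↥H → IsPGroup p ↥K → H ≠ ⊥ → K ≠ ⊥ → H ⊓ Subgroup.centralizer ((H : Subgroup G) : Set G) ≤ K ⊓ Subgroup.centralizer ((K : Subgroup G) : Set G) → V H ≤ V K) (hloc : ∀ H : Subgroup G, (P : Subgroup G) ⊓ Subgroup.centralizer (((P : Subgroup G) : Subgroup G) : Set G) ≤ H → H ≤ (P : Subgroup G) → ∃ Q : Subgroup G, Q ≤ Subgroup.normalizer ((H : Subgroup G) : Set G) ∧ IsPGroup p ↥Q ∧ ¬ p ∣ (Q).relIndex (Subgroup.normalizer ((H : Subgroup G) : Set G)) ∧ ∀ x : G, x ∈ Q ⊓ ⁅Subgroup.normalizer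 ((H : Subgroup G) : Set G), Subgroup.normalizer ((H : Subgroup G) : Set G)⁆ ↔ ∃ a ∈ Q ⊓ ⁅Subgroup.normalizer ((H : Subgroup G) : Set G) ⊓ Subgroup.normalizer ((W Q : Subgroup G) : Set G), Subgroup.normalizer ((H : Subgroup G) : Set G) ⊓ Subgroup.normalizer ((W Q : Subgroup G) : Set G)⁆, ∃ b ∈ Q ⊓ ⁅Subgroup.normalizer ((H : Subgroup G) : Set G) ⊓ Subgroup.centralizer ((V Q : Subgroup G) : Set G), Subgroup.normalizer ((H : Subgroup G) : Set G) ⊓ Subgroup.centralizer ((V Q : Subgroup G) : Set G)⁆, x = a * b) : ∃ Q : Subgroup G, IsPGroup p ↥Q ∧ ¬ p ∣ Q.index ∧ ∀ x : G, x ∈ Q ⊓ commutator G ↔ ∃ a ∈ Q ⊓ ⁅Subgroup.normalizer ((W Q : Subgroup G) : Set G), Subgroup.normalizer ((W Q : Subgroup G) : Set G)⁆, ∃ b ∈ Q ⊓ ⁅Subgroup.centralizer ((V Q : Subgroup G) : Set G), Subgroup.centralizer ((V Q : Subgroup G) : Set G)⁆, x = a * b := by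
  exact main hdiv P W V hW hV hWZ hVZ hVmono hloc

end Cfsg.Agent.S2001
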