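import Cfsg.Statements.S2002
import Cfsg.Agent.Fusion.CentralPair

set_option autoImplicit false
open Cfsg

namespace Cfsg.Agent.S2002

open Subgroup H48

universe u

variable {G : Type u} [Group G] [Finite G] {p : ℕ} [Fact p.Prime]

theorem steps_inv {M T A : Set G} {g : G} (hM : ∀ x ∈ M, x⁻¹ ∈ M) (h : Steps M T A g) :
    Steps M T (limg A g) g⁻¹ := by
  induction h with
  | nil A hA => rw [inv_one, limg_one]; exact Steps.nil A hA
  | cons A x g hA hx h ih =>
    rw [mul_inv_rev, ← limg_limg]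
    refine ih.trans ?_
    rw [limg_limg, inv_mul_cancel, limg_one]
    have e : limg (limg A x) x⁻¹ = A := by rw [limg_limg, inv_mul_cancel, limg_one]
    have h1 : Steps M T (limg A x) (1 * x⁻¹) := Steps.cons (limg A x) x⁻¹ 1 h.subset (hM x hx)
      (Steps.nil _ (by rw [e]; exact hA))
    rwa [one_mul] at h1

theorem functor_cj_centralizer {V : Subgroup G → Subgroup G} (hV : Cfsg.IsConjugacyFunctor p V)
    {Q : Subgroup G} (hQ : IsPGroup p Q) {k x : G}
    (hx : x ∈ centralizer ((V Q : Subgroup G) : Set G)) :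
    k * x * k⁻¹ ∈ centralizer ((V (H48.cj k Q) : Subgroup G) : Set G) := by
  rw [functor_cj hV hQ, mem_centralizer_iff]
  intro v hv
  obtain ⟨w, hw, rfl⟩ := mem_map.1 hv
  have h := mem_centralizer_iff.1 hx w hw
  simp only [MulEquiv.coe_toMonoidHom, MulAut.conj_apply]
  calc k * w * k⁻¹ * (k * x * k⁻¹) = k * (w * x) * k⁻¹ := by group
    _ = k * (x * w) * k⁻¹ := by rw [h]
    _ = k * x * k⁻¹ * (k * w * k⁻¹) := by group

theorem main (hdiv : p ∣ Nat.card G) (P : Sylow p G) (W V : Subgroup G → Subgroup G)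
    (hW : Cfsg.IsConjugacyFunctor p W) (hV : Cfsg.IsConjugacyFunctor p V)
    (hWZ : ∀ H : Subgroup G, IsPGroup p ↥H →
      H ⊓ Subgroup.centralizer ((H : Subgroup G) : Set G) ≤ W H)
    (hVZ : ∀ H : Subgroup G, IsPGroup p ↥H →
      V H ≤ H ⊓ Subgroup.centralizer ((H : Subgroup G) : Set G))
    (hVmono : ∀ H K : Subgroup G, IsPGroup p ↥H → IsPGroup p ↥K → H ≠ ⊥ → K ≠ ⊥ →
      H ⊓ Subgroup.centralizer ((H : Subgroup G) : Set G) ≤
        K ⊓ Subgroup.centralizer ((K : Subgroup G) : Set G) → V H ≤ V K)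
    (hloc : ∀ H : Subgroup G,
      (P : Subgroup G) ⊓ Subgroup.centralizer (((P : Subgroup G) : Subgroup G) : Set G) ≤ H →
      H ≤ (P : Subgroup G) →
      ∃ Q : Subgroup G, Q ≤ Subgroup.normalizer ((H : Subgroup G) : Set G) ∧ IsPGroup p ↥Q ∧
        ¬ p ∣ (Q).relIndex (Subgroup.normalizer ((H : Subgroup G) : Set G)) ∧
        ∀ (X : Set G) (a : G), X ⊆ Q → a ∈ Subgroup.normalizer ((H : Subgroup G) : Set G) →
          (fun x => a⁻¹ * x * a) '' X ⊆ Q →
          ∃ c ∈ Subgroup.normalizer ((H : Subgroup G) : Set G) ⊓ Subgroup.centralizer X,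
            ∃ (n : ℕ) (b : Fin n → G),
              (∀ i, b i ∈ Subgroup.normalizer ((H : Subgroup G) : Set G) ⊓
                  Subgroup.normalizer ((W Q : Subgroup G) : Set G) ∨
                b i ∈ Subgroup.normalizer ((H : Subgroup G) : Set G) ⊓
                  Subgroup.centralizer ((V Q : Subgroup G) : Set G)) ∧
              a = c * (List.ofFn b).prod ∧
              ∀ k : ℕ, k ≤ n → (fun x => (((List.ofFn b).take k).prod)⁻¹ * x *
                ((List.ofFn b).take k).prod) '' ((fun x => c⁻¹ * x * c) '' X) ⊆ Q) :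
    ∃ Q : Subgroup G, IsPGroup p ↥Q ∧ ¬ p ∣ Q.index ∧ ∀ (X : Set G) (a : G), X ⊆ Q →
      (fun x => a⁻¹ * x * a) '' X ⊆ Q →
      ∃ c ∈ Subgroup.centralizer X, ∃ (n : ℕ) (b : Fin n → G),
        (∀ i, b i ∈ ⊤ ⊓ Subgroup.normalizer ((W Q : Subgroup G) : Set G) ∨
          b i ∈ ⊤ ⊓ Subgroup.centralizer ((V Q : Subgroup G) : Set G)) ∧
        a = c * (List.ofFn b).prod ∧
        ∀ k : ℕ, k ≤ n → (fun x => (((List.ofFn b).take k).prod)⁻¹ * x *
          ((List.ofFn b).take k).prod) '' ((fun x => c⁻¹ * x * c) '' X) ⊆ Q := by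
  set J : Set G := {x | x ∈ normalizer ((W (P : Subgroup G) : Subgroup G) : Set G) ∨
    x ∈ centralizer ((V (P : Subgroup G) : Subgroup G) : Set G)} with hJ
  have hJinv : ∀ x ∈ J, x⁻¹ ∈ J := fun x hx => hx.imp inv_mem inv_mem
  have hone : ∀ A : Set G, ∀ x ∈ J, A ⊆ (P : Subgroup G) → limg A x ⊆ (P : Subgroup G) →
      Agree J ((P : Subgroup G) : Set G) A x := fun A x hx hA hA' =>
    ⟨1 * x, Steps.cons A x 1 hA hx (Steps.nil _ hA'), fun a _ => by rw [one_mul]⟩
  have hR : Fusion.CentralPair.RelHyp (P : Subgroup G) (Agree J ((P : Subgroup G) : Set G)) := by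
    refine ⟨fun A h k => Agree.trans, fun A B h => Agree.mono, ?_, ?_⟩
    · rintro A h ⟨g, hg, e⟩
      refine ⟨g⁻¹, limg_congr e ▸ steps_inv hJinv hg, ?_⟩
      rintro _ ⟨a, ha, rfl⟩
      dsimp only
      nth_rw 1 [← e a ha]
      group
    · rintro A h k ⟨g, hg, e⟩ he
      exact ⟨g, hg, fun a ha => (e a ha).trans (he a ha)⟩
  have hall := Fusion.CentralPair.rel_all hdiv hW hWZ hVZ hVmono hR
    (fun A y hy => hone A y (Or.inl hy)) (fun A y hy => hone A y (Or.inr hy)) ?_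
  · refine ⟨P, P.isPGroup', P.not_dvd_index, fun X a hX ha => ?_⟩
    obtain ⟨g, hg, he⟩ := hall X a⁻¹ hX (by simpa [limg] using ha)
    have hgc : ∀ x ∈ X, g * x * g⁻¹ = a⁻¹ * x * a := fun x hx => by rw [he x hx, inv_inv]
    obtain ⟨n, c, h0, hs, hi, hl⟩ := hg.to_def
    have hfix : ∀ x ∈ X, (a * g)⁻¹ * x * (a * g) = x := fun x hx => by
      have h1 := hgc x hx
      calc (a * g)⁻¹ * x * (a * g) = g⁻¹ * (a⁻¹ * x * a) * g := by group
        _ = x := by rw [← h1]; group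
    refine ⟨a * g, mem_centralizer_iff.2 fun x hx => ?_, n, fun i => c i.castSucc * (c i.succ)⁻¹,
      fun i => ?_, ?_, ?_⟩
    · nth_rw 2 [← hfix x hx]
      group
    · have h1 := hJinv _ (hs i)
      rw [mul_inv_rev, inv_inv] at h1
      exact h1.imp (fun h => ⟨mem_top _, h⟩) (fun h => ⟨mem_top _, h⟩)
    all_goals
      have hpre : ∀ (k : ℕ) (hk : k ≤ n),
          ((List.ofFn fun i : Fin n => c i.castSucc * (c i.succ)⁻¹).take k).prod =
            (c ⟨k, Nat.lt_succ_of_le hk⟩)⁻¹ := by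
        intro k
        induction k with
        | zero => intro _; simpa using h0
        | succ k ih =>
          intro hk
          rw [List.prod_take_succ _ _ (by simpa using hk), ih (Nat.le_of_succ_le hk)]
          simp [Fin.castSucc, Fin.succ, Fin.castAdd, Fin.castLE]
    · have h1 := hpre n le_rfl
      rw [List.take_of_length_le (by simp)] at h1
      rw [h1, show (⟨n, _⟩ : Fin (n + 1)) = Fin.last n from rfl, hl]
      group
    · intro k hk
      rw [hpre k hk, Set.image_image]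
      rintro _ ⟨x, hx, rfl⟩
      dsimp only
      rw [hfix x hx, inv_inv]
      exact hi _ ⟨x, hx, rfl⟩
  · intro X hZ hXS hsyl hin A y hy hA hA'
    obtain ⟨Q, hQN, hQp, hQi, hctl⟩ := hloc X hZ hXS
    set R := (P : Subgroup G) ⊓ normalizer (X : Set G) with hRdef
    obtain ⟨k, hk, hkQ⟩ := (IsSylowIn.mk hQN hQp hQi).exists_conj hsyl
    have hmemQ : ∀ t ∈ R, k⁻¹ * t * k ∈ Q := fun t ht => H48.mem_cj.mp (hkQ.symm ▸ ht)
    have hmemR : ∀ t ∈ Q, k * t * k⁻¹ ∈ R := fun t ht => hkQ ▸ H48.conj_mem_cj ht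
    obtain ⟨c, hc, n, b, hb, hab, hpart⟩ := hctl ((fun t => k⁻¹ * t * k) '' A) (k⁻¹ * y⁻¹ * k)
      (by rintro _ ⟨t, ht, rfl⟩; exact hmemQ t (hA ht))
      (mul_mem (mul_mem (inv_mem hk) (inv_mem hy)) hk)
      (by
        rw [Set.image_image]
        rintro _ ⟨t, ht, rfl⟩
        have h1 := hmemQ _ (hA' ⟨t, ht, rfl⟩)
        simpa [mul_assoc] using h1)
    have hfix : ∀ t ∈ A, c⁻¹ * (k⁻¹ * t * k) * c = k⁻¹ * t * k := fun t ht => by
      have h1 : k⁻¹ * t * k * c = c * (k⁻¹ * t * k) :=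
        mem_centralizer_iff.1 hc.2 _ ⟨t, ht, rfl⟩
      rw [mul_assoc, h1]
      group
    have hin' : ∀ (j : ℕ) (hj : j ≤ n), ∀ t ∈ A,
        k * ((((List.ofFn b).take j).prod)⁻¹ * (k⁻¹ * t * k) * ((List.ofFn b).take j).prod) * k⁻¹
          ∈ R := by
      intro j hj t ht
      exact hmemR _ (hpart j hj ⟨_, ⟨_, ⟨t, ht, rfl⟩, rfl⟩, by dsimp only; rw [hfix t ht]⟩)
    have hrel : ∀ (j : ℕ), j ≤ n → Agree J ((P : Subgroup G) : Set G) A
        (k * (((List.ofFn b).take j).prod)⁻¹ * k⁻¹) := by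
      intro j
      induction j with
      | zero =>
        intro _
        refine ⟨1, Steps.nil A (hA.trans inf_le_left), fun a _ => ?_⟩
        simp
      | succ j ih =>
        intro hj
        have hlt : j < n := hj
        have e : ((List.ofFn b).take (j + 1)).prod = ((List.ofFn b).take j).prod * b ⟨j, hlt⟩ := by
          rw [List.prod_take_succ _ _ (by simpa using hlt)]
          simp
        set π := ((List.ofFn b).take j).prod with hπ
        have e2 : k * (π * b ⟨j, hlt⟩)⁻¹ * k⁻¹ = k * (b ⟨j, hlt⟩)⁻¹ * k⁻¹ * (k * π⁻¹ * k⁻¹) := by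
          group
        rw [e, e2]
        refine (ih (Nat.le_of_succ_le hj)).trans ?_
        refine hin _ _ ?_ ?_ ?_
        · rcases hb ⟨j, hlt⟩ with h | h
          · left
            refine Subgroup.mem_inf.2 ⟨mul_mem (mul_mem hk (inv_mem h.1)) (inv_mem hk), ?_⟩
            rw [← hkQ, functor_cj hW hQp, ← H48.cj_normalizer]
            exact H48.conj_mem_cj (inv_mem h.2)
          · right
            refine Subgroup.mem_inf.2 ⟨mul_mem (mul_mem hk (inv_mem h.1)) (inv_mem hk), ?_⟩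
            rw [← hkQ]
            exact functor_cj_centralizer hV hQp (inv_mem h.2)
        · rintro _ ⟨t, ht, rfl⟩
          have h1 := hin' j (Nat.le_of_succ_le hj) t ht
          simpa [mul_assoc] using h1
        · rintro _ ⟨_, ⟨t, ht, rfl⟩, rfl⟩
          have h1 := hin' (j + 1) hj t ht
          rw [e] at h1
          simpa [mul_assoc] using h1
    have h2 := hrel n le_rfl
    rw [List.take_of_length_le (by simp)] at h2
    refine hR.congr _ _ _ h2 fun t ht => ?_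
    have hyk : y = k * ((List.ofFn b).prod⁻¹ * c⁻¹) * k⁻¹ := by
      rw [← mul_inv_rev, ← hab]; group
    rw [hyk]
    calc k * (List.ofFn b).prod⁻¹ * k⁻¹ * t * (k * (List.ofFn b).prod⁻¹ * k⁻¹)⁻¹
        = k * (List.ofFn b).prod⁻¹ * (k⁻¹ * t * k) * (List.ofFn b).prod * k⁻¹ := by group
      _ = k * (List.ofFn b).prod⁻¹ * (c⁻¹ * (k⁻¹ * t * k) * c) * (List.ofFn b).prod * k⁻¹ := by
        rw [hfix t ht]
      _ = _ := by group


/-- Let p be a prime dividing the order of the finite group G, P a Sylow p-subgroup, W a conjugacy functor for p on G with Z(H) ≤ W(H) for every nontrivial p-subgroup H, and V a central functor (a conjugacy functor with V(H) ≤ Z(H), and V(H) ≤ V(K) whenever Z(H) ≤ Z(K)). Say that W with V controls strong fusion in a subgroup L when some Sylow p-subgroup Q of L has the property: whenever X ⊆ Q and a ∈ L with a⁻¹Xa ⊆ Q, then a = c b with c ∈ C_L(X) and b = b₁ ⋯ bₙ a product of elements each in N_L(W(Q)) or in C_L(V(Q))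 such that every partial conjugate (b₁ ⋯ bₖ)⁻¹ X (b₁ ⋯ bₖ) lies in Q. If W with V controls strong fusion in N_G(H) for every subgroup H with Z(P) ≤ H ≤ P, then W with V controls strong fusion in G. -/
theorem result {G : Type*} [Group G] [Finite G] {p : ℕ} [Fact p.Prime] (hdiv : p ∣ Nat.card G) (P : Sylow p G) (W V : Subgroup G → Subgroup G) (hW : Cfsg.IsConjugacyFunctor p W) (hV : Cfsg.IsConjugacyFunctor p V) (hWZ : ∀ H : Subgroup G, IsPGroup p ↥H → H ⊓ Subgroup.centralizer ((H : Subgroup G) : Set G) ≤ W H) (hVZ : ∀ H : Subgroup G, IsPGroup p ↥H → V H ≤ H ⊓ Subgroup.centralizer ((H : Subgroup G) : Set G)) (hVmono : ∀ H K : Subgroup G, IsPGroup p ↥H → IsPGroup p ↥K → H ≠ ⊥ → K ≠ ⊥ → H ⊓ Subgroup.centralizer ((H : Subgroup G) : Set G) ≤ K ⊓ Subgroup.centralizer ((K : Subgroup G) : Set G) → V H ≤ V K) (hloc : ∀ H : Subgroup G, (P : Subgroup G) ⊓ Subgroup.centralizer (((P : Subgroup G) : Subgroup G) : Set G) ≤ H → H ≤ (P : Subgroup G) →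 ∃ Q : Subgroup G, Q ≤ Subgroup.normalizer ((H : Subgroup G) : Set G) ∧ IsPGroup p ↥Q ∧ ¬ p ∣ (Q).relIndex (Subgroup.normalizer ((H : Subgroup G) : Set G)) ∧ ∀ (X : Set G) (a : G), X ⊆ Q → a ∈ Subgroup.normalizer ((H : Subgroup G) : Set G) → (fun x => a⁻¹ * x * a) '' X ⊆ Q → ∃ c ∈ Subgroup.normalizer ((H : Subgroup G) : Set G) ⊓ Subgroup.centralizer X, ∃ (n : ℕ) (b : Fin n → G), (∀ i, b i ∈ Subgroup.normalizer ((H : Subgroup G) : Set G) ⊓ Subgroup.normalizer ((W Q : Subgroup G) : Set G) ∨ b i ∈ Subgroup.normalizer ((H : Subgroup G) : Set G) ⊓ Subgroup.centralizer ((V Q : Subgroup G) : Set G)) ∧ a = c * (List.ofFn b).prod ∧ ∀ k : ℕ, k ≤ n → (fun x => (((List.ofFn b).take k).prod)⁻¹ * x * ((List.ofFn b).take k).prod) '' ((fun x => c⁻¹ * x * c) '' X) ⊆ Q) : ∃ Q : Subgroup G, IsPGroup p ↥Q ∧ ¬ p ∣ Q.index ∧ ∀ (X : Set G) (a : G), X ⊆ Q → (fun x => a⁻¹ * x * a) '' X ⊆ Q → ∃ c ∈ Subgroup.centralizer X, ∃ (n : ℕ) (b : Fin n → G), (∀ i, b i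 ∈ ⊤ ⊓ Subgroup.normalizer ((W Q : Subgroup G) : Set G) ∨ b i ∈ ⊤ ⊓ Subgroup.centralizer ((V Q : Subgroup G) : Set G)) ∧ a = c * (List.ofFn b).prod ∧ ∀ k : ℕ, k ≤ n → (fun x => (((List.ofFn b).take k).prod)⁻¹ * x * ((List.ofFn b).take k).prod) '' ((fun x => c⁻¹ * x * c) '' X) ⊆ Q := by
  exact main hdiv P W V hW hV hWZ hVZ hVmono hloc

end Cfsg.Agent.S2002
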