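import Cfsg.Statements.S2007
import Cfsg.Agent.Fusion.PComplement
import Cfsg.Agent.H78.SylowCount
-- import your own Cfsg.Agent.* helpers here

set_option autoImplicit false
open Cfsg

namespace Cfsg.Agent.S2007

/-- Let p be a prime, G a finite group with Sylow p-subgroup S, and T a normal subgroup of S containing C_S(T). If N_G(T)/C_G(T) is a p-group (every element of N_G(T) of order prime to p centralizes T), then N_G(T) has a normal p-complement. -/
theorem result {G : Type*} [Group G] [Finite G] {p : ℕ} [Fact p.Prime] (S : Sylow p G) (T : Subgroup G) (hTS : T ≤ (S : Subgroup G)) (hTn : (S : Subgroup G) ≤ Subgroup.normalizer ((T : Subgroup G) : Set G)) (hC : (S : Subgroup G) ⊓ Subgroup.centralizer ((T : Subgroup G) : Set G) ≤ T) (hN : ∀ g ∈ Subgroup.normalizer ((T : Subgroup G) : Set G), (orderOf g).Coprime p → g ∈ Subgroup.centralizer ((T : Subgroup G) : Set G)) : Cfsg.HasNormalPComplement p ↥(Subgroup.normalizer ((T : Subgroup G) : Set G)) := by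
  set N := Subgroup.normalizer ((T : Subgroup G) : Set G)
  set C := (Subgroup.centralizer ((T : Subgroup G) : Set G)).subgroupOf N
  haveI : C.Normal := by
    refine ⟨fun c hc n => ?_⟩
    show ((n * c * n⁻¹ : ↥N) : G) ∈ Subgroup.centralizer (T : Set G)
    refine Subgroup.mem_centralizer_iff.mpr fun t ht => ?_
    have ht' : (n : G)⁻¹ * t * n ∈ T := (Subgroup.mem_normalizer_iff''.mp n.2 t).mp ht
    have h2 := Subgroup.mem_centralizer_iff.mp (show (c : G) ∈ Subgroup.centralizer (T : Set G) from hc) _ ht'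
    calc t * ((n : G) * c * (n : G)⁻¹) = (n : G) * ((n : G)⁻¹ * t * n * c) * (n : G)⁻¹ := by group
      _ = (n : G) * (c * ((n : G)⁻¹ * t * n)) * (n : G)⁻¹ := by rw [h2]
      _ = (n : G) * c * (n : G)⁻¹ * t := by group
  obtain ⟨Q, hQ⟩ := H78.exists_sylow_inf_normal C (S.subtype hTn)
  have hcen : (Q : Subgroup ↥C) ≤ Subgroup.center ↥C := by
    intro x hx
    have h1 : ((x : ↥N) : G) ∈ (S : Subgroup G) ∧ ((x : ↥N) : G) ∈ Subgroup.centralizer (T : Set G) := by
      have h2 : (x : ↥N) ∈ ((S.subtype hTn : Sylow p ↥N) : Subgroup ↥N) ⊓ C :=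
        hQ ▸ Subgroup.mem_map_of_mem C.subtype hx
      exact ⟨h2.1, h2.2⟩
    have hT : ((x : ↥N) : G) ∈ T := hC h1
    refine Subgroup.mem_center_iff.mpr fun c => Subtype.ext (Subtype.ext ?_)
    exact (Subgroup.mem_centralizer_iff.mp (show ((c : ↥N) : G) ∈ Subgroup.centralizer (T : Set G) from c.2)
      _ hT).symm
  have hCc : Cfsg.HasNormalPComplement p ↥C :=
    Fusion.hasNormalPComplement_of_normalizer_le_centralizer Q fun c _ =>
      Subgroup.mem_centralizer_iff.mpr fun x hx => (Subgroup.mem_center_iff.mp (hcen hx) c).symm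
  rw [Fusion.hasNormalPComplement_iff_pResidual] at hCc ⊢
  intro hd
  apply hCc
  have hle : Cfsg.pResidual p ↥N ≤ (Cfsg.pResidual p ↥C).map C.subtype := by
    refine Fusion.pResidual_le.mpr fun n hn => ?_
    have hnC : n ∈ C := hN n n.2 (by rwa [Subgroup.orderOf_coe])
    exact ⟨⟨n, hnC⟩, Fusion.mem_pResidual (by rwa [Subgroup.orderOf_mk]), rfl⟩
  have := hd.trans (Subgroup.card_dvd_of_le hle)
  rwa [Subgroup.card_map_of_injective C.subtype_injective] at this

end Cfsg.Agent.S2007
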