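import Cfsg.Statements.S2008
import Cfsg.Agent.H49.FourGroup
-- import your own Cfsg.Agent.* helpers here

set_option autoImplicit false
open Cfsg

namespace Cfsg.Agent.S2008

/-- Let H be a finite group and z an involution such that every proper normal subgroup of H meets the centralizer of z trivially, and suppose z lies in a Klein four-subgroup E of H all three of whose involutions are conjugate to z in H. Then H has no non-trivial abelian normal subgroup. -/
theorem result {H : Type*} [Group H] [Finite H] (z : H) (hz : orderOf z = 2) (hN : ∀ N : Subgroup H, N.Normal → N ≠ ⊤ → N ⊓ Subgroup.centralizer ({z} : Set H) = ⊥) (E : Subgroup H) (hE : IsKleinFour ↥E) (hzE : z ∈ E) (hc : ∀ e ∈ E, e ≠ 1 → IsConj z e) (N : Subgroup H) [N.Normal] (hab : IsMulCommutative ↥N) : N = ⊥ := by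
  by_cases htop : N = ⊤
  · subst htop
    exfalso
    have hcomm : ∀ a b : H, a * b = b * a := fun a b => setLike_mul_comm (S := Subgroup H) (Subgroup.mem_top a) (Subgroup.mem_top b)
    haveI := hE
    haveI : Fintype ↥E := Fintype.ofFinite _
    classical
    have : (Finset.univ : Finset ↥E) ⊆ {1, ⟨z, hzE⟩} := fun x _ => by
      by_cases hx : (x : H) = 1
      · simp [Subtype.ext_iff, hx]
      · obtain ⟨h, hh⟩ := isConj_iff.mp (hc x x.2 hx)
        rw [hcomm h z, mul_inv_cancel_right] at hh
        exact Finset.mem_insert_of_mem (Finset.mem_singleton.mpr (Subtype.ext hh.symm))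
    have h4 := (Finset.card_le_card this).trans Finset.card_le_two
    rw [Finset.card_univ, ← Nat.card_eq_fintype_card, IsKleinFour.card_four] at h4
    omega
  · exact H49.normal_eq_bot_of_fixedPointFree_four z hz E hE hzE hc N (hN N inferInstance htop)

end Cfsg.Agent.S2008
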