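import Cfsg.Statements.S2011
import Cfsg.Agent.Cores.PCore

set_option autoImplicit false
open Cfsg

namespace Cfsg.Agent.S2011

/-- Let G be a finite group with Sylow p-subgroup P and Q ≤ P. Then Q is centric in the fusion system of G on P (C_P(R) ≤ R for every G-conjugate R of Q lying in P) if and only if C_G(Q) is the internal direct product of Z(Q) = Q ∩ C_G(Q) and the largest normal subgroup of C_G(Q) of order prime to p. -/
theorem result {G : Type*} [Group G] [Finite G] (p : ℕ) [Fact p.Prime] (P : Sylow p G) (Q : Subgroup G) (hQ : Q ≤ P) : (Cfsg.groupFusionSystem (P : Subgroup G)).IsCentric Q ↔ Cfsg.IsInternalDirectProduct (Q ⊓ Subgroup.centralizer (Q : Set G)) ((Cfsg.pPrimeCore p ↥(Subgroup.centralizer (Q : Set G))).map (Subgroup.centralizer (Q : Set G)).subtype) (Subgroup.centralizer (Q : Set G)) := by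
  set C := Subgroup.centralizer (Q : Set G) with hC
  set O := Cfsg.pPrimeCore p ↥C with hO
  have hcomm : ∀ a ∈ Q ⊓ C, ∀ b ∈ O.map C.subtype, a * b = b * a := by
    rintro a ha _ ⟨b, -, rfl⟩
    exact Subgroup.mem_centralizer_iff.mp b.2 a ha.1
  have hQp : IsPGroup p ↥(Q ⊓ C) := (P.isPGroup'.to_le hQ).to_le inf_le_left
  have hdisj : (Q ⊓ C) ⊓ O.map C.subtype = ⊥ := by
    refine Subgroup.inf_eq_bot_of_coprime ?_
    obtain ⟨n, hn⟩ := IsPGroup.iff_card.mp hQp
    rw [hn, Subgroup.card_map_of_injective C.subtype_injective]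
    exact (Cfsg.Agent.Cores.coprime_card_pPrimeCore (p := p) (G := C)).symm.pow_left n
  constructor
  · intro hcen
    refine ⟨inf_le_right, Subgroup.map_subtype_le O, hcomm, hdisj, le_antisymm
      (sup_le inf_le_right (Subgroup.map_subtype_le O)) ?_⟩
    let R : Sylow p C := default
    set Rg := (R : Subgroup C).map C.subtype with hRg
    have hRgC : Rg ≤ C := Subgroup.map_subtype_le _
    have hQn : Q ≤ Subgroup.normalizer (Rg : Set G) := by
      refine le_trans ?_ (Subgroup.centralizer_le_normalizer _)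
      intro q hq
      exact Subgroup.mem_centralizer_iff.mpr fun r hr =>
        (Subgroup.mem_centralizer_iff.mp (hRgC hr) q hq).symm
    have hsup : IsPGroup p ↥(Q ⊔ Rg) :=
      (P.isPGroup'.to_le hQ).to_sup_of_normal_right' (R.isPGroup'.map _) hQn
    obtain ⟨T, hT⟩ := hsup.exists_le_sylow
    obtain ⟨g, hg⟩ := MulAction.exists_smul_eq G T P
    have hconjP : ∀ x ∈ Q ⊔ Rg, g * x * g⁻¹ ∈ (P : Subgroup G) := by
      intro x hx
      rw [← hg, Sylow.coe_subgroup_smul]
      exact ⟨x, hT hx, rfl⟩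
    have hconj : (Cfsg.groupFusionSystem (P : Subgroup G)).IsConj Q (Cfsg.conjHom Q g).range :=
      ⟨Cfsg.conjHom Q g, ⟨hQ, fun x => hconjP _ (Subgroup.mem_sup_left x.2), g, fun x => rfl⟩, rfl⟩
    have hRQ : Rg ≤ Q := by
      intro r hr
      have h1 : g * r * g⁻¹ ∈ (Cfsg.conjHom Q g).range := by
        refine hcen.2 _ hconj ⟨hconjP _ (Subgroup.mem_sup_right hr), ?_⟩
        refine Subgroup.mem_centralizer_iff.mpr ?_
        rintro _ ⟨q, rfl⟩
        show g * (q : G) * g⁻¹ * (g * r * g⁻¹) = g * r * g⁻¹ * (g * (q : G) * g⁻¹)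
        have h := Subgroup.mem_centralizer_iff.mp (hRgC hr) q q.2
        calc g * (q : G) * g⁻¹ * (g * r * g⁻¹) = g * ((q : G) * r) * g⁻¹ := by group
          _ = g * (r * (q : G)) * g⁻¹ := by rw [h]
          _ = _ := by group
      obtain ⟨q, hq⟩ := h1
      have hqr : (q : G) = r := by
        have h' : g * (q : G) * g⁻¹ = g * r * g⁻¹ := hq
        exact mul_left_cancel (mul_right_cancel h')
      exact hqr ▸ q.2
    have hRcen : ∀ r ∈ (R : Subgroup C), ∀ c : C, c * r = r * c := by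
      intro r hr c
      exact Subtype.ext (Subgroup.mem_centralizer_iff.mp c.2 (r : G) (hRQ ⟨r, hr, rfl⟩)).symm
    have hRn : (R : Subgroup C).Normal := ⟨fun r hr c => by
      rw [hRcen r hr c, mul_inv_cancel_right]; exact hr⟩
    obtain ⟨K, hK⟩ := Subgroup.exists_right_complement'_of_coprime (N := (R : Subgroup C))
      R.card_coprime_index
    have hKn : K.Normal := ⟨fun k hk c => by
      obtain ⟨⟨r, k'⟩, hc⟩ := hK.2 c
      dsimp at hc
      have e : c * k * c⁻¹ = (k' : C) * k * (k' : C)⁻¹ := by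
        rw [← hc]
        have h := hRcen r r.2 ((k' : C) * k * (k' : C)⁻¹)
        calc (r : C) * k' * k * ((r : C) * k')⁻¹ = (r : C) * ((k' : C) * k * (k' : C)⁻¹) * (r : C)⁻¹ := by group
          _ = ((k' : C) * k * (k' : C)⁻¹) * r * (r : C)⁻¹ := by rw [h]
          _ = _ := by group
      rw [e]
      exact K.mul_mem (K.mul_mem k'.2 hk) (K.inv_mem k'.2)⟩
    have hKc : (Nat.card K).Coprime p := by
      rw [← hK.symm.index_eq_card]
      exact ((Fact.out : p.Prime).coprime_iff_not_dvd.mpr R.not_dvd_index).symm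
    have hKO : K ≤ O := Cfsg.Agent.Cores.le_pPrimeCore hKc
    intro x hx
    obtain ⟨⟨r, k⟩, hrk⟩ := hK.2 ⟨x, hx⟩
    have hx' : x = ((r : C) : G) * ((k : C) : G) := (congrArg Subtype.val hrk).symm
    rw [hx']
    exact Subgroup.mul_mem_sup ⟨hRQ ⟨r, r.2, rfl⟩, (r : C).2⟩ ⟨k, hKO k.2, rfl⟩
  · rintro ⟨-, -, -, -, hgen⟩
    refine ⟨hQ, ?_⟩
    rintro _ ⟨φ, ⟨-, -, g, hg⟩, rfl⟩ y ⟨hyP, hyC⟩
    have hu : g⁻¹ * y * g ∈ C := by
      refine Subgroup.mem_centralizer_iff.mpr fun q hq => ?_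
      have h := Subgroup.mem_centralizer_iff.mp hyC (φ ⟨q, hq⟩) ⟨⟨q, hq⟩, rfl⟩
      rw [hg] at h
      calc q * (g⁻¹ * y * g) = g⁻¹ * ((g * q * g⁻¹) * y) * g := by group
        _ = g⁻¹ * (y * (g * q * g⁻¹)) * g := by rw [h]
        _ = _ := by group
    rw [← hgen] at hu
    have hn : (Q ⊓ C) ≤ Subgroup.normalizer ((O.map C.subtype : Subgroup G) : Set G) := by
      refine le_trans ?_ (Subgroup.centralizer_le_normalizer _)
      exact fun a ha => Subgroup.mem_centralizer_iff.mpr fun b hb => (hcomm a ha b hb).symm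
    rw [← SetLike.mem_coe, Subgroup.coe_mul_of_left_le_normalizer_right _ _ hn] at hu
    obtain ⟨a, ha, b, hb, hab⟩ := hu
    dsimp at hab
    obtain ⟨i, hi⟩ := P.isPGroup' ⟨y, hyP⟩
    obtain ⟨j, hj⟩ := hQp ⟨a, ha⟩
    have hu1 : (g⁻¹ * y * g) ^ p ^ (i + j) = 1 := by
      have : y ^ p ^ i = 1 := congrArg Subtype.val hi
      have hc : (g⁻¹ * y * g) ^ p ^ i = g⁻¹ * y ^ p ^ i * g := by
        simpa using conj_pow (a := g⁻¹) (b := y) (i := p ^ i)
      rw [pow_add, pow_mul, hc, this, mul_one, inv_mul_cancel, one_pow]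
    have ha1 : a ^ p ^ (i + j) = 1 := by
      have : a ^ p ^ j = 1 := congrArg Subtype.val hj
      rw [pow_add, mul_comm, pow_mul, this, one_pow]
    have hb1 : b ^ p ^ (i + j) = 1 := by
      rw [← hab, Commute.mul_pow (hcomm a ha b hb), ha1, one_mul] at hu1
      exact hu1
    have hbone : b = 1 := by
      rw [← orderOf_eq_one_iff]
      obtain ⟨b', hb', rfl⟩ := hb
      rw [Subgroup.coe_subtype] at hb1 ⊢
      have h1 : orderOf (b' : G) ∣ p ^ (i + j) := orderOf_dvd_of_pow_eq_one hb1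
      have h2 : orderOf (b' : G) ∣ Nat.card O := by
        rw [Subgroup.orderOf_coe]
        exact O.orderOf_dvd_natCard hb'
      exact Nat.eq_one_of_dvd_coprimes
        ((Cfsg.Agent.Cores.coprime_card_pPrimeCore (p := p) (G := C)).pow_right _) h2 h1
    refine ⟨⟨a, ha.1⟩, ?_⟩
    have hau : a = g⁻¹ * y * g := by rw [← hab, hbone, mul_one]
    rw [hg]
    show g * a * g⁻¹ = y
    rw [hau]
    show g * (g⁻¹ * y * g) * g⁻¹ = y
    group

end Cfsg.Agent.S2011
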