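import Cfsg.Statements.S2014
import Cfsg.Agent.Fusion.Alperin

set_option autoImplicit false
open Cfsg

namespace Cfsg.Agent.S2014

/-- Let P be a Sylow p-subgroup of a finite group G and A, C ≤ P subgroups conjugate in G, with C extremal: N_P(C) is a Sylow p-subgroup of N_G(C). Then there is g with gAg⁻¹ = C and g N_P(A) g⁻¹ ≤ N_P(C); moreover, given any h with hAh⁻¹ = C, g can be chosen so that h g⁻¹ lies in O^p(N_G(C)), the subgroup of N_G(C) generated by its elements of order prime to p. -/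
theorem result {G : Type*} [Group G] [Finite G] (p : ℕ) [Fact p.Prime] (P : Sylow p G) (A C : Subgroup G) (hA : A ≤ P) (hC : C ≤ P) (hext : ¬ p ∣ ((P : Subgroup G) ⊓ Subgroup.normalizer ((C : Subgroup G) : Set G)).relIndex (Subgroup.normalizer ((C : Subgroup G) : Set G))) (h : G) (hh : A.map (MulAut.conj h).toMonoidHom = C) : ∃ g : G, A.map (MulAut.conj g).toMonoidHom = C ∧ ((P : Subgroup G) ⊓ Subgroup.normalizer ((A : Subgroup G) : Set G)).map (MulAut.conj g).toMonoidHom ≤ (P : Subgroup G) ⊓ Subgroup.normalizer ((C : Subgroup G) : Set G) ∧ h * g⁻¹ ∈ (Cfsg.pResidual p ↥(Subgroup.normalizer ((C : Subgroup G) : Set G))).map (Subgroup.normalizer ((C : Subgroup G) : Set G)).subtype := by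
  set N := Subgroup.normalizer ((C : Subgroup G) : Set G) with hN
  let T : Sylow p N := (P.isPGroup'.to_le
    (inf_le_left : (P : Subgroup G) ⊓ N ≤ P)).comap_subtype.toSylow hext
  set B := ((P : Subgroup G) ⊓ Subgroup.normalizer ((A : Subgroup G) : Set G)).map
    (MulAut.conj h).toMonoidHom with hB
  have hBN : B ≤ N := by
    rw [hN, ← hh, ← Subgroup.map_equiv_normalizer_eq A (MulAut.conj h)]
    exact Subgroup.map_mono inf_le_right
  obtain ⟨R, hR⟩ := (((P.isPGroup'.to_le (inf_le_left :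
      (P : Subgroup G) ⊓ Subgroup.normalizer ((A : Subgroup G) : Set G) ≤ P)).map
      (MulAut.conj h).toMonoidHom).comap_subtype (K := N)).exists_le_sylow
  obtain ⟨w, hw⟩ := MulAction.exists_smul_eq N R T
  have hdec : w ∈ ((T : Subgroup N) ⊔ Cfsg.pResidual p N : Subgroup N) := by
    rw [Agent.Fusion.sylow_sup_pResidual T]; trivial
  rw [← SetLike.mem_coe, Subgroup.mul_normal] at hdec
  obtain ⟨t, ht, u, hu, htu⟩ := Set.mem_mul.mp hdec
  have huR : u • R = T := by
    have h1 : (t * u) • R = T := htu.symm ▸ hw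
    rw [mul_smul] at h1
    rw [eq_inv_smul_iff.mpr h1]
    exact Sylow.smul_eq_iff_mem_normalizer.mpr (Subgroup.le_normalizer (inv_mem ht))
  refine ⟨(u : G) * h, ?_, ?_, ?_⟩
  · rw [map_mul]
    calc A.map ((MulAut.conj (u : G)) * MulAut.conj h).toMonoidHom
        = (A.map (MulAut.conj h).toMonoidHom).map (MulAut.conj (u : G)).toMonoidHom := by
          rw [Subgroup.map_map]; rfl
      _ = C := by rw [hh]; exact Subgroup.mem_normalizer_iff_map_conj_eq.mp u.2
  · rintro _ ⟨x, hx, rfl⟩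
    have h1 : (⟨_, hBN ⟨x, hx, rfl⟩⟩ : N) ∈ R := hR ⟨x, hx, rfl⟩
    have h2 : (MulAut.conj u).toMonoidHom ⟨_, hBN ⟨x, hx, rfl⟩⟩ ∈ ((u • R : Sylow p N) : Subgroup N) :=
      ⟨_, h1, rfl⟩
    rw [huR] at h2
    have h3 : ((MulAut.conj u).toMonoidHom ⟨_, hBN ⟨x, hx, rfl⟩⟩ : N).1 ∈ (P : Subgroup G) ⊓ N := h2
    simpa [MulAut.conj_apply, mul_assoc] using h3
  · refine ⟨u⁻¹, inv_mem hu, ?_⟩
    simp

end Cfsg.Agent.S2014
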