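import Cfsg.Statements.S2029
import Cfsg.Agent.H29.KM.Main

set_option autoImplicit false
open Cfsg

namespace Cfsg.Agent.S2029

/-- Let p be an odd prime and G a finite group that is both of local characteristic p (p divides its order and every p-local subgroup N satisfies C_N(O_p(N)) ≤ O_p(N)) and of characteristic 2 type (even order and every 2-local subgroup M satisfies C_M(O_2(M)) ≤ O_2(M)). Then every 2-local subgroup of G has p-rank at most 2. -/
theorem result {G : Type*} [Group G] [Finite G] (p : ℕ) [Fact p.Prime] (hp : p ≠ 2) (hGp : Cfsg.IsOfLocalCharacteristic p G) (hG2 : Cfsg.IsCharacteristicTwoType G) : Cfsg.TwoLocalPRankLE p 2 G := by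
  exact H29.KM.twoLocalPRankLE_two hp hG2 fun A B hB _ hAB hA1 =>
    H29.KM.pCore_constrained hGp
      (H47.isPGroup_of_elementaryAbelian (H47.elementaryAbelian_of_le hB hAB)) hA1

end Cfsg.Agent.S2029
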