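import Cfsg.Statements.S2043
import Cfsg.Agent.H40.Co.Two
import Cfsg.Agent.H40.Co.Three
import Cfsg.Agent.H40.Co.Five
import Cfsg.Agent.H40.Co.Seven
import Cfsg.Agent.H34.SylCert.Sound
import Cfsg.Agent.Linear.Mult.CentralQuot
import Cfsg.Agent.Golay.Co1
import Cfsg.Agent.Golay.MinOrbit

set_option autoImplicit false
open Cfsg

namespace Cfsg.Agent.S2043

open Cfsg.Agent.Golay Cfsg.Agent.Linear.Mult

theorem trivialMultiplier_co0 : Cfsg.HasCyclicSchurMultiplier Co0 1 := by
  refine hasTrivialMultiplier_of_noStem fun l hl => ?_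
  by_cases h2 : l = 2
  · exact h2 ▸ H40.Co.noStem_two
  by_cases h3 : l = 3
  · exact h3 ▸ H40.Co.noStem_three
  by_cases h5 : l = 5
  · exact h5 ▸ H40.Co.noStem_five
  by_cases h7 : l = 7
  · exact h7 ▸ H40.Co.noStem_seven
  refine H34.SylCert.noStem_of_not_sq_dvd hl fun hd => ?_
  rw [card_co0, show 8315553613086720000 = (2 ^ 22 * (3 ^ 9 * (5 ^ 4 * 7 ^ 2))) * (11 * 13 * 23)
    by norm_num] at hd
  have hc : ∀ p : ℕ, p.Prime → l ≠ p → ∀ a, Nat.Coprime (l ^ 2) (p ^ a) := fun p hp h a =>
    Nat.Coprime.pow 2 a ((Nat.coprime_primes hl hp).2 h)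
  have hd' := (((hc 2 Nat.prime_two h2 22).mul_right ((hc 3 Nat.prime_three h3 9).mul_right
    ((hc 5 (by norm_num) h5 4).mul_right (hc 7 (by norm_num) h7 2))))).dvd_of_dvd_mul_left hd
  have hle : l ≤ 57 := by have := Nat.le_of_dvd (by norm_num) hd'; nlinarith
  have := hl.two_le
  interval_cases l <;> revert hd' <;> norm_num

/-- The Schur multiplier of the Conway group Co₁ (the automorphism group of the rank-24 lattice modulo its centre) is cyclic of order 2; here the Schur multiplier is described through stem extensions, as in the definitions: surjective homomorphisms onto the group from a finite group, whose kernel is central in that finite group and contained in that finite group's commutator subgroup. -/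
theorem result : Cfsg.HasCyclicSchurMultiplier Cfsg.Spor.Co1 2 := by
  refine hasCyclicSchurMultiplier_of_cover ?_ trivialMultiplier_co0
    (QuotientGroup.mk' (Subgroup.center Co0)) (QuotientGroup.mk'_surjective _)
    (QuotientGroup.ker_mk' _).le ?_ ?_
  · exact H74.Schur.isPerfect_iff.2 co0_perfect
  · rw [QuotientGroup.ker_mk']
    have : Fact (Nat.Prime 2) := ⟨Nat.prime_two⟩
    exact isCyclic_of_prime_card (p := 2) card_center_co0
  · rw [QuotientGroup.ker_mk']
    exact card_center_co0

end Cfsg.Agent.S2043
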