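import Cfsg.Statements.S2044
import Cfsg.Agent.H13.CoTwo.Mult
-- import your own Cfsg.Agent.* helpers here

set_option autoImplicit false
open Cfsg

namespace Cfsg.Agent.S2044

/-- The Schur multiplier of the Conway group Co₂ (the stabiliser of a minimal vector of the rank-24 lattice) is trivial; here the Schur multiplier is described through stem extensions, as in the definitions: surjective homomorphisms onto the group from a finite group, whose kernel is central in that finite group and contained in that finite group's commutator subgroup. -/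
theorem result : Cfsg.HasCyclicSchurMultiplier ↥Cfsg.Spor.Co2 1 := by
  have := Cfsg.Agent.Golay.finite_co0
  obtain ⟨e⟩ := Cfsg.Agent.H13.CoTwo.co2_equiv
  haveI : Finite ↥Cfsg.Spor.Co2 := Finite.of_equiv _ e.toEquiv
  refine Cfsg.Agent.H50.hasTrivialMultiplier_iff.2 fun Γ _ _ σ hσ => ?_
  have hk : (e.symm.toMonoidHom.comp σ).ker = σ.ker := by ext x; simp
  rw [← hk]
  exact Cfsg.Agent.H50.hasTrivialMultiplier_iff.1 Cfsg.Agent.H13.CoTwo.trivialMultiplier Γ
    (e.symm.toMonoidHom.comp σ) ⟨e.symm.surjective.comp hσ.1, hk ▸ hσ.2.1, hk ▸ hσ.2.2⟩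

end Cfsg.Agent.S2044
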