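import Cfsg.Statements.S2045
import Cfsg.Agent.H95.CoThree.Mult

set_option autoImplicit false
open Cfsg

namespace Cfsg.Agent.S2045

/-- The Schur multiplier of the Conway group Co₃ (the stabiliser of a vector of the second shortest length in the rank-24 lattice) is trivial; here the Schur multiplier is described through stem extensions, as in the definitions: surjective homomorphisms onto the group from a finite group, whose kernel is central in that finite group and contained in that finite group's commutator subgroup. -/
theorem result : Cfsg.HasCyclicSchurMultiplier ↥Cfsg.Spor.Co3 1 := by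
  have := Cfsg.Agent.Golay.finite_co0
  obtain ⟨e⟩ := Cfsg.Agent.H95.CoThree.co3_equiv
  haveI : Finite ↥Cfsg.Spor.Co3 := Finite.of_equiv _ e.symm.toEquiv
  have hT := Cfsg.Agent.H95.CoThree.trivialMultiplier
  rw [Cfsg.Agent.H95.CoThree.wGrp_eq] at hT
  refine Cfsg.Agent.H50.hasTrivialMultiplier_iff.2 fun Γ _ _ σ hσ => ?_
  have hk : (e.toMonoidHom.comp σ).ker = σ.ker := by ext x; simp
  rw [← hk]
  exact Cfsg.Agent.H50.hasTrivialMultiplier_iff.1 hT Γ (e.toMonoidHom.comp σ)
    ⟨e.surjective.comp hσ.1, hk ▸ hσ.2.1, hk ▸ hσ.2.2⟩

end Cfsg.Agent.S2045
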