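import Cfsg.Statements.S2051
import Cfsg.Agent.H40.Ru.Main
import Cfsg.Agent.PGroups.RuLatGroup
-- import your own Cfsg.Agent.* helpers here

set_option autoImplicit false
open Cfsg

namespace Cfsg.Agent.S2051

/-- The Schur multiplier of the Rudvalis group (the unitary automorphism group of the rank-28 Gaussian lattice modulo its centre) is cyclic of order 2; here the Schur multiplier is described through stem extensions, as in the definitions: surjective homomorphisms onto the group from a finite group, whose kernel is central in that finite group and contained in that finite group's commutator subgroup. -/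
theorem result : Cfsg.HasCyclicSchurMultiplier Cfsg.Spor.Ru 2 := by
  have hc : Nat.card Cfsg.Spor.fourRu = 4 * 145926144000 := by
    rw [Subgroup.card_eq_card_quotient_mul_card_subgroup (Subgroup.center Cfsg.Spor.fourRu),
      Cfsg.Agent.PGroups.Ru.card_center_four]
    exact (congrArg (· * 4) Cfsg.Agent.PGroups.Ru.card_Ru).trans (Nat.mul_comm _ _)
  have : Finite Cfsg.Spor.fourRu := Nat.finite_of_card_ne_zero (by rw [hc]; norm_num)
  exact Cfsg.Agent.H40.Ru.hasCyclicSchurMultiplier_ru Cfsg.Agent.PGroups.Ru.ruEquiv

end Cfsg.Agent.S2051
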