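import Cfsg.Statements.S2068
import Cfsg.Agent.H46.J4Out.Orbits
import Cfsg.Agent.H56.J4.E.Group
import Cfsg.Agent.H16.J4Low.Main
-- import your own Cfsg.Agent.* helpers here

set_option autoImplicit false
open Cfsg

namespace Cfsg.Agent.S2068

/-- The outer automorphism group of the Janko group J₄ (the finitely presented group of the definitions) is trivial: every automorphism is inner. -/
theorem result : Nat.card (Cfsg.Out Cfsg.Spor.J4) = 1 := by
  have hfin := Cfsg.Agent.H56.J4.E.finite_J
  have hr : Cfsg.Agent.H56.J4.phi.range = Subgroup.closure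
      {PresentedGroup.of Cfsg.Spor.J4.Gen.x, PresentedGroup.of Cfsg.Spor.J4.Gen.y} :=
    Cfsg.Agent.H56.J4.phi_range
  have hcard : Nat.card Cfsg.Spor.J4 = 86775571046077562880 := by
    have hd := Cfsg.Agent.H16.J4Low.card_dvd Cfsg.Agent.H56.J4.phi hr
    refine le_antisymm ?_ (Nat.le_of_dvd Nat.card_pos hd)
    calc Nat.card Cfsg.Spor.J4
        = Nat.card Cfsg.Agent.H56.J4.HH * Cfsg.Agent.H56.J4.HH.index :=
          (Subgroup.card_mul_index _).symm
      _ ≤ 2048 * 244823040 * 173067389 :=
          Nat.mul_le_mul Cfsg.Agent.H56.J4.E.HH_card_le.2 Cfsg.Agent.H56.J4.HH_index_le.2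
      _ = 86775571046077562880 := by norm_num
  exact Cfsg.Agent.H46.J4Out.card_out_of hfin hcard
    (Cfsg.Agent.H16.J4Low.simple Cfsg.Agent.H56.J4.phi hr hcard)

end Cfsg.Agent.S2068
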