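import Cfsg.Statements.S2077
import Cfsg.Agent.H23.RuOut.Main
import Cfsg.Agent.PGroups.RuLatGroup
-- import your own Cfsg.Agent.* helpers here

set_option autoImplicit false
open Cfsg

namespace Cfsg.Agent.S2077

/-- The outer automorphism group of the Rudvalis group (the unitary automorphism group of the rank-28 Gaussian lattice modulo its centre) is trivial: every automorphism is inner. -/
theorem result : Nat.card (Cfsg.Out Cfsg.Spor.Ru) = 1 := by
  have h : ∀ α : MulAut Cfsg.Spor.Ru, ∃ g, MulAut.conj g = α := by
    intro α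
    let e := Cfsg.Agent.PGroups.Ru.ruEquiv
    obtain ⟨g, hg⟩ := Cfsg.Agent.H23.RuOut.inner (e.symm.trans (α.trans e))
    refine ⟨e.symm g, MulEquiv.ext fun x => e.injective ?_⟩
    have := DFunLike.congr_fun hg (e x)
    simp only [MulAut.conj_apply, MulEquiv.trans_apply, MulEquiv.symm_apply_apply] at this
    simp [this]
  rw [Nat.card_eq_one_iff_unique]
  refine ⟨⟨fun a b => ?_⟩, ⟨1⟩⟩
  have hq : ∀ q : Cfsg.Out Cfsg.Spor.Ru, q = 1 := by
    intro q
    induction q using QuotientGroup.induction_on with
    | _ α => exact (QuotientGroup.eq_one_iff α).mpr (h α)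
  rw [hq a, hq b]

end Cfsg.Agent.S2077
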