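import Cfsg.Statements.S2082
import Cfsg.Agent.H87.HNOut.Glue
import Cfsg.Agent.H46.HN.Order
import Cfsg.Agent.H46.HN.Decomp

set_option autoImplicit false
open Cfsg

namespace Cfsg.Agent.S2082

/-- The outer automorphism group of the Harada–Norton group (the finitely presented group of the definitions) has order 2. -/
theorem result : Nat.card (Cfsg.Out Cfsg.Spor.HN) = 2 := by
  exact Cfsg.Agent.H87.HNOut.card_out_of_cert Cfsg.Agent.H46.HN.finite_HN
    Cfsg.Agent.H46.HN.card_HN Cfsg.Agent.H46.HN.decomp

end Cfsg.Agent.S2082
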