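import Cfsg.Statements.S2083
import Cfsg.Agent.H25.Th.Centralizer
import Cfsg.Agent.H67.Th.Glue
import Cfsg.Agent.H83.ThOut.Main

set_option autoImplicit false
open Cfsg

namespace Cfsg.Agent.S2083

/-- The outer automorphism group of the Thompson group (the finitely presented group of the definitions) is trivial: every automorphism is inner. -/
theorem result : Nat.card (Cfsg.Out Cfsg.Spor.Th) = 1 := by
  exact Cfsg.Agent.H83.ThOut.Hyp.card_out
    ⟨Cfsg.Agent.H67.Th.isTh Cfsg.Agent.H25.Th.finite Cfsg.Agent.H25.Th.card_le Cfsg.Agent.H25.Th.centralizer_a,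
      Cfsg.Agent.H40.Th.card_CC Cfsg.Agent.H25.Th.finite, Cfsg.Agent.H25.Th.centralizer_a⟩

end Cfsg.Agent.S2083
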