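import Cfsg.Statements.S2087
import Cfsg.Agent.Linear.Mult.CentralQuot
import Cfsg.Agent.Linear.Mult.SLCommute
import Cfsg.Agent.Linear.Order
import Cfsg.Agent.Linear.Simple
import Cfsg.Agent.S2117
import Cfsg.Agent.S0255
-- import your own Cfsg.Agent.* helpers here

set_option autoImplicit false
open Cfsg Cfsg.Agent Cfsg.Agent.Linear

namespace Cfsg.Agent.S2087

/-- Exceptional Schur multiplier: over the field with 2 elements, PSL₃ has Schur multiplier cyclic of order 2 (here the Schur multiplier is described through stem extensions, as in the definitions). -/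
theorem result {F : Type*} [Field F] [Fintype F] (hF : Fintype.card F = 2) : Cfsg.HasCyclicSchurMultiplier (Matrix.ProjectiveSpecialLinearGroup (Fin 3) F) 2 := by
  classical
  have : Fact (Nat.Prime 7) := ⟨by norm_num⟩
  have h7 : Fintype.card (ZMod 7) = 7 := ZMod.card 7
  obtain ⟨e⟩ := Cfsg.Agent.S0255.result (F := ZMod 7) (K := F) h7 hF
  let π := e.toMonoidHom.comp
    (QuotientGroup.mk' (Subgroup.center (Matrix.SpecialLinearGroup (Fin 2) (ZMod 7))))
  have hker : π.ker = Subgroup.center (Matrix.SpecialLinearGroup (Fin 2) (ZMod 7)) := by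
    ext x; show e (QuotientGroup.mk' _ x) = 1 ↔ _
    rw [e.map_eq_one_iff, ← MonoidHom.mem_ker, QuotientGroup.ker_mk']
  have hperf : Group.IsPerfect (Matrix.SpecialLinearGroup (Fin 2) (ZMod 7)) :=
    ⟨Cfsg.Agent.Linear.commutator_SL_eq_top (Or.inr
      (Cfsg.Agent.Linear.Mult.exists_sq_ne_one (F := ZMod 7) (by omega) (by omega)))⟩
  refine Cfsg.Agent.Linear.Mult.hasCyclicSchurMultiplier_of_cover hperf
    (Cfsg.Agent.S2117.result (by omega) (by omega)) π
    (e.surjective.comp (QuotientGroup.mk'_surjective _)) hker.le ?_ ?_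
  · rw [hker]
    exact isCyclic_of_surjective
      (Matrix.SpecialLinearGroup.center_equiv_rootsOfUnity' (0 : Fin 2)).symm (MulEquiv.surjective _)
  · rw [hker, Cfsg.Agent.Linear.card_center_SL, Fintype.card_fin, h7]
    decide

end Cfsg.Agent.S2087
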