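import Cfsg.Statements.S2088
import Cfsg.Agent.H50.LinFour.Stem
import Cfsg.Agent.H50.LinFour.Bound
import Cfsg.Agent.H74.SchurBasic

set_option autoImplicit false
open Cfsg

namespace Cfsg.Agent.S2088

open Cfsg.Agent.H50.LinFour

/-- the multiplier over the concrete field -/
theorem concrete : Cfsg.HasSchurMultiplier (Matrix.ProjectiveSpecialLinearGroup (Fin 3) K4)
    (Multiplicative (ZMod 3 × ZMod 4 × ZMod 4)) :=
  ⟨⟨cocycle.Ext, inferInstance, inferInstance, toPSL, isStemExtension, exists_equiv⟩,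
    fun _ _ _ _ hσ => exists_surjective K4.card hσ⟩

/-- Exceptional Schur multiplier: over the field with 4 elements, PSL₃ has Schur multiplier isomorphic to the product of cyclic groups of orders 3, 4 and 4 (order 48, not cyclic; here the Schur multiplier is described through stem extensions, as in the definitions). -/
theorem result {F : Type*} [Field F] [Fintype F] (hF : Fintype.card F = 4) : Cfsg.HasSchurMultiplier (Matrix.ProjectiveSpecialLinearGroup (Fin 3) F) (Multiplicative (ZMod 3 × ZMod 4 × ZMod 4)) := by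
  classical
  let f : F ≃+* K4 := FiniteField.ringEquivOfCardEq (hF.trans K4.card.symm)
  let g : Matrix.SpecialLinearGroup (Fin 3) F ≃* Matrix.SpecialLinearGroup (Fin 3) K4 :=
    MulEquiv.ofBijective (Matrix.SpecialLinearGroup.map f.toRingHom)
      ⟨fun a b h => Subtype.ext (Matrix.map_injective f.injective (congrArg Subtype.val h)), fun a =>
        ⟨Matrix.SpecialLinearGroup.map f.symm.toRingHom a, Subtype.ext (Matrix.ext fun i j =>
          f.apply_symm_apply (a.1 i j))⟩⟩
  have hg : (Subgroup.center _).map g.toMonoidHom = Subgroup.center _ := by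
    ext x
    simp only [Subgroup.mem_map, Subgroup.mem_center_iff]
    constructor
    · rintro ⟨y, hy, rfl⟩ z
      obtain ⟨z, rfl⟩ := g.surjective z
      exact (map_mul g z y).symm.trans ((congrArg g (hy z)).trans (map_mul g y z))
    · intro hx
      refine ⟨g.symm x, fun z => g.injective ?_, g.apply_symm_apply x⟩
      rw [map_mul, map_mul, g.apply_symm_apply, hx]
  let e : Matrix.ProjectiveSpecialLinearGroup (Fin 3) F ≃* Matrix.ProjectiveSpecialLinearGroup (Fin 3) K4 :=
    QuotientGroup.congr _ _ g hg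
  have hk : ∀ {Γ : Type _} [Group Γ] (τ : Γ →* Matrix.ProjectiveSpecialLinearGroup (Fin 3) F),
      (e.toMonoidHom.comp τ).ker = τ.ker := fun τ => MonoidHom.ker_mulEquiv_comp τ e
  obtain ⟨⟨Γ, i1, i2, σ, hσ, ⟨k⟩⟩, -⟩ := concrete
  have hk0 : (e.symm.toMonoidHom.comp σ).ker = σ.ker := MonoidHom.ker_mulEquiv_comp σ e.symm
  obtain ⟨Δ, j1, j2, τ, hτ, ⟨k'⟩⟩ := Cfsg.Agent.H74.Schur.exists_stem_small
    (σ := e.symm.toMonoidHom.comp σ)
    ⟨e.symm.surjective.comp hσ.1, hk0.le.trans hσ.2.1, hk0.le.trans hσ.2.2⟩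
  refine ⟨⟨Δ, j1, j2, τ, hτ, ⟨(k'.symm.trans (MulEquiv.subgroupCongr hk0)).trans k⟩⟩,
    fun Γ' _ _ τ' hτ' => ?_⟩
  obtain ⟨π, hπ⟩ := Cfsg.Agent.H74.Schur.exists_surjective_ker concrete
    (σ := e.toMonoidHom.comp τ')
    ⟨e.surjective.comp hτ'.1, (hk τ').le.trans hτ'.2.1, (hk τ').le.trans hτ'.2.2⟩
  exact ⟨(MulEquiv.subgroupCongr (hk τ')).toMonoidHom.comp π,
    (MulEquiv.subgroupCongr (hk τ')).surjective.comp hπ⟩

end Cfsg.Agent.S2088
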