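import Cfsg.Statements.S2091
import Cfsg.Agent.H27.U6Mult.Witness
import Cfsg.Agent.H74.SchurBasic
import Mathlib.FieldTheory.Finite.GaloisField

set_option autoImplicit false
open Cfsg

namespace Cfsg.Agent.S2091

open Matrix

/-- special unitary groups along an isomorphism of fields -/
theorem map_mem_SU {F F' : Type*} [Field F] [Field F'] (f : F ≃+* F') {n q : ℕ}
    {g : SpecialLinearGroup (Fin n) F} (hg : g ∈ Cfsg.SU n F q) :
    SpecialLinearGroup.map f.toRingHom g ∈ Cfsg.SU n F' q := by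
  have hh : ∀ a b : Fin n → F, Cfsg.hermForm n F' q (f ∘ a) (f ∘ b) = f (Cfsg.hermForm n F q a b) := by
    intro a b
    simp [Cfsg.hermForm, map_sum, map_mul, map_pow]
  intro u v
  have hm : ∀ w : Fin n → F', (SpecialLinearGroup.map f.toRingHom g).1 *ᵥ w =
      f ∘ (g.1 *ᵥ (f.symm ∘ w)) := by
    intro w
    funext i
    simp [Matrix.mulVec, dotProduct, map_sum, map_mul]
  show Cfsg.hermForm n F' q ((SpecialLinearGroup.map f.toRingHom g).1 *ᵥ u)
    ((SpecialLinearGroup.map f.toRingHom g).1 *ᵥ v) = _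
  rw [hm, hm, hh]
  refine (congrArg f (hg (f.symm ∘ u) (f.symm ∘ v))).trans ?_
  rw [← hh]
  congr 1 <;> funext i <;> simp

/-- a field with four elements -/
abbrev K4 : Type := GaloisField 2 2

noncomputable local instance : Fintype K4 := Fintype.ofFinite _

theorem card_K4 : Fintype.card K4 = 4 := by
  rw [← Nat.card_eq_fintype_card, GaloisField.card 2 2 (by norm_num)]
  norm_num

/-- the statement over one field -/
theorem concrete : Cfsg.HasSchurMultiplier (Cfsg.PSU 6 K4 2)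
    (Multiplicative (ZMod 3 × ZMod 2 × ZMod 2)) :=
  ⟨Cfsg.Agent.H27.U6Mult.exists_witness card_K4, fun _ _ _ σ hσ =>
    Cfsg.Agent.H27.U6Mult.exists_surjection card_K4 σ hσ⟩

/-- Exceptional Schur multiplier: PSU₆(2), realised over the field with 4 elements, has Schur multiplier isomorphic to the product of cyclic groups of orders 3, 2 and 2 (order 12, not cyclic; here the Schur multiplier is described through stem extensions, as in the definitions). -/
theorem result {F : Type*} [Field F] [Fintype F] (hF : Fintype.card F = 4) : Cfsg.HasSchurMultiplier (Cfsg.PSU 6 F 2) (Multiplicative (ZMod 3 × ZMod 2 × ZMod 2)) := by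
  classical
  let f : F ≃+* K4 := FiniteField.ringEquivOfCardEq (hF.trans card_K4.symm)
  let g : ↥(Cfsg.SU 6 F 2) ≃* ↥(Cfsg.SU 6 K4 2) :=
    MulEquiv.ofBijective
      (((SpecialLinearGroup.map f.toRingHom).comp (Cfsg.SU 6 F 2).subtype).codRestrict
        (Cfsg.SU 6 K4 2) fun x => map_mem_SU f x.2)
      ⟨fun a b h => Subtype.ext (Subtype.ext
        (Matrix.map_injective f.injective (congrArg (fun x : ↥(Cfsg.SU 6 K4 2) => x.1.1) h))), fun a =>
        ⟨⟨_, map_mem_SU f.symm a.2⟩, Subtype.ext (Subtype.ext (Matrix.ext fun i j =>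
          f.apply_symm_apply (a.1.1 i j)))⟩⟩
  have hg : (Subgroup.center _).map g.toMonoidHom = Subgroup.center _ := by
    ext x
    simp only [Subgroup.mem_map, Subgroup.mem_center_iff]
    constructor
    · rintro ⟨y, hy, rfl⟩ z
      obtain ⟨z, rfl⟩ := g.surjective z
      exact (map_mul g z y).symm.trans ((congrArg g (hy z)).trans (map_mul g y z))
    · intro hx
      refine ⟨g.symm x, fun z => g.injective ?_, g.apply_symm_apply x⟩
      rw [map_mul, map_mul, g.apply_symm_apply, hx]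
  let e : Cfsg.PSU 6 F 2 ≃* Cfsg.PSU 6 K4 2 := QuotientGroup.congr _ _ g hg
  have hk : ∀ {Γ : Type _} [Group Γ] (τ : Γ →* Cfsg.PSU 6 F 2),
      (e.toMonoidHom.comp τ).ker = τ.ker := fun τ => MonoidHom.ker_mulEquiv_comp τ e
  obtain ⟨⟨Γ, i1, i2, σ, hσ, ⟨k⟩⟩, -⟩ := concrete
  have hk0 : (e.symm.toMonoidHom.comp σ).ker = σ.ker := MonoidHom.ker_mulEquiv_comp σ e.symm
  obtain ⟨Δ, j1, j2, τ, hτ, ⟨k'⟩⟩ := Cfsg.Agent.H74.Schur.exists_stem_small
    (σ := e.symm.toMonoidHom.comp σ)
    ⟨e.symm.surjective.comp hσ.1, hk0.le.trans hσ.2.1, hk0.le.trans hσ.2.2⟩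
  refine ⟨⟨Δ, j1, j2, τ, hτ, ⟨(k'.symm.trans (MulEquiv.subgroupCongr hk0)).trans k⟩⟩,
    fun Γ' _ _ τ' hτ' => ?_⟩
  obtain ⟨π, hπ⟩ := Cfsg.Agent.H74.Schur.exists_surjective_ker concrete
    (σ := e.toMonoidHom.comp τ')
    ⟨e.surjective.comp hτ'.1, (hk τ').le.trans hτ'.2.1, (hk τ').le.trans hτ'.2.2⟩
  exact ⟨(MulEquiv.subgroupCongr (hk τ')).toMonoidHom.comp π,
    (MulEquiv.subgroupCongr (hk τ')).surjective.comp hπ⟩

end Cfsg.Agent.S2091
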