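import Cfsg.Statements.S2094
import Cfsg.Agent.H97.Omega.OddMain
-- import your own Cfsg.Agent.* helpers here

set_option autoImplicit false
open Cfsg

namespace Cfsg.Agent.S2094

/-- Schur multipliers of the odd-dimensional orthogonal groups: for m ≥ 3 and a field F of odd order q with (m, q) ≠ (3, 3), the Schur multiplier of PΩ_(2m+1)(F) (for the form x₀² + Σ xᵢyᵢ) is cyclic of order 2 = gcd(2, q − 1); here the Schur multiplier is described through stem extensions, as in the definitions. -/
theorem result {F : Type*} [Field F] [Fintype F] {q : ℕ} (hF : Fintype.card F = q) (hq : Odd q) (m : ℕ) (hm : 3 ≤ m) (hexc : ¬ (m = 3 ∧ q = 3)) : Cfsg.HasCyclicSchurMultiplier (Cfsg.POmega F (Cfsg.quadFormOdd m F)) 2 := by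
  classical
  subst hF
  have h2 : (2 : F) ≠ 0 := fun h => by
    have := FiniteField.even_card_of_char_two
      (CharP.ringChar_of_prime_eq_zero Nat.prime_two (by exact_mod_cast h) : ringChar F = 2)
    have := Nat.odd_iff.1 hq
    omega
  rw [← Cfsg.Agent.Orthogonal.formOdd_coe]
  have hQ := Cfsg.Agent.Orthogonal.formOdd_nondeg F m h2
  have hn := Cfsg.Agent.Orthogonal.finrank_formOdd F m
  refine Cfsg.Agent.H97.Omega.multiplier_center_one hQ h2 (by omega)
    (Cfsg.Agent.H97.Omega.multLE_odd hQ h2 (by omega) ?_)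
    (Cfsg.Agent.Orthogonal.card_center_omega_eq_one hQ (by omega) fun g hg hgm => ?_)
  · rw [Nat.card_eq_fintype_card]
    have := Fintype.one_lt_card (α := F)
    obtain ⟨k, hk⟩ := hq
    by_contra h
    push Not at h
    exact hexc ⟨by omega, by omega⟩
  · have := Cfsg.Agent.Orthogonal.det_eq_one_of_mem_omega g hg
    rw [hgm, Matrix.det_neg, Matrix.det_one, mul_one] at this
    have hc : Fintype.card (Unit ⊕ (Fin m ⊕ Fin m)) = 2 * m + 1 := by simp; omega
    rw [hc, pow_succ, pow_mul, neg_one_sq, one_pow, one_mul] at this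
    exact absurd (by linear_combination -this : (2 : F) = 0) h2

end Cfsg.Agent.S2094
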