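import Cfsg.Statements.S2095
import Cfsg.Agent.H87.OmegaSeven.Witness
import Cfsg.Agent.H58.OrthoField.Datum
import Cfsg.Agent.Linear.Mult.CentralQuot

set_option autoImplicit false
open Cfsg

namespace Cfsg.Agent.S2095

/-- Exceptional Schur multiplier: over the field with 3 elements, PΩ₇ (for the form x₀² + Σ xᵢyᵢ) has Schur multiplier cyclic of order 6 (the product of cyclic groups of orders 3 and 2; here the Schur multiplier is described through stem extensions, as in the definitions). -/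
theorem result {F : Type*} [Field F] [Fintype F] (hF : Fintype.card F = 3) : Cfsg.HasCyclicSchurMultiplier (Cfsg.POmega F (Cfsg.quadFormOdd 3 F)) 6 := by
  obtain ⟨D, _, _, θ, hperf, h1, hθ, hθc, hcyc, hcard⟩ := Cfsg.Agent.H87.OmegaSeven.exists_cover
  let σ : ZMod 3 ≃+* F := ZMod.ringEquivOfPrime F Nat.prime_three hF
  let Q := Cfsg.Agent.Orthogonal.formOdd (ZMod 3) 3
  let Q' := Cfsg.Agent.Orthogonal.formOdd F 3
  let d : Cfsg.Agent.H58.OrthoField.Datum (σ : ZMod 3 →+* F) Q Q' :=
    ⟨LinearEquiv.refl F _, 1, one_ne_zero, fun v => by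
      rw [one_mul, LinearEquiv.refl_apply]
      simp [Q, Q', Cfsg.Agent.Orthogonal.formOdd_coe, Cfsg.quadFormOdd, map_add, map_sum, map_mul,
        map_pow]⟩
  let e : Cfsg.POmega (ZMod 3) (Cfsg.quadFormOdd 3 (ZMod 3)) ≃*
      Cfsg.POmega F (Cfsg.quadFormOdd 3 F) := d.iso
  have hk : (e.toMonoidHom.comp θ).ker = θ.ker := by
    ext x
    exact e.map_eq_one_iff
  exact Cfsg.Agent.Linear.Mult.hasCyclicSchurMultiplier_of_cover hperf h1 (e.toMonoidHom.comp θ)
    (e.surjective.comp hθ) (hk ▸ hθc) (hk.symm ▸ hcyc) (hk.symm ▸ hcard)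

end Cfsg.Agent.S2095
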