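import Cfsg.Statements.S2096
import Cfsg.Agent.H97.Omega.OddMain
-- import your own Cfsg.Agent.* helpers here

set_option autoImplicit false
open Cfsg

namespace Cfsg.Agent.S2096

/-- Schur multipliers of the even-dimensional orthogonal groups of plus type and odd rank: for odd l ≥ 5 and a field F with q elements, the Schur multiplier of PΩ⁺_2l(F) (for the form Σ xᵢyᵢ) is cyclic of order gcd(4, q^l − 1); here the Schur multiplier is described through stem extensions, as in the definitions. -/
theorem result {F : Type*} [Field F] [Fintype F] {q : ℕ} (hF : Fintype.card F = q) (l : ℕ) (hl : 5 ≤ l) (hodd : Odd l) : Cfsg.HasCyclicSchurMultiplier (Cfsg.POmega F (Cfsg.quadFormPlus l F)) (Nat.gcd 4 (q ^ l - 1)) := by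
  classical
  subst hF
  rw [← Cfsg.Agent.Orthogonal.formPlus_coe]
  have hQ := Cfsg.Agent.Orthogonal.formPlus_nondeg F l
  have hn := Cfsg.Agent.Orthogonal.finrank_formPlus F l
  by_cases h2 : (2 : F) = 0
  · have hq : Fintype.card F % 2 = 0 := FiniteField.even_card_of_char_two
      (CharP.ringChar_of_prime_eq_zero Nat.prime_two (by exact_mod_cast h2))
    have hg : Nat.gcd 4 (Fintype.card F ^ l - 1) = 1 := by
      refine Nat.Coprime.pow_left 2 (Nat.coprime_two_left.2 ?_)
      have he : Fintype.card F ^ l % 2 = 0 := by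
        rw [Nat.pow_mod, hq, zero_pow (by omega), Nat.zero_mod]
      have := Nat.pow_pos (n := l) (Fintype.card_pos (α := F))
      rw [Nat.odd_iff]
      omega
    rw [hg]
    exact Cfsg.Agent.H97.Omega.multiplier_pomega_even hQ h2 (by omega) (Or.inr (by omega))
  · have hq : Odd (Fintype.card F) :=
      Nat.card_eq_fintype_card (α := F) ▸ Cfsg.Agent.Orthogonal.odd_natCard_of_two_ne_zero h2
    have hM := Cfsg.Agent.H97.Omega.multLE_odd hQ h2 (by omega) (Or.inr (by omega))
    by_cases h4 : Fintype.card F ^ l % 4 = 1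
    · obtain ⟨g, hg, hgm⟩ := (Cfsg.Agent.S0790.result (F := F) rfl hq l (by omega)).2 h4
      rw [Nat.gcd_eq_left (show 4 ∣ Fintype.card F ^ l - 1 by omega)]
      exact (Cfsg.Agent.H97.Omega.multiplier_center_two hQ h2 (by omega) hn hM g hg hgm).1 hodd
    · have hodd2 : Fintype.card F ^ l % 2 = 1 := Nat.odd_iff.1 hq.pow
      have hg2 : Nat.gcd 4 (Fintype.card F ^ l - 1) = 2 := by
        rw [Nat.gcd_rec, show (Fintype.card F ^ l - 1) % 4 = 2 by omega]
        decide
      rw [hg2]
      exact Cfsg.Agent.H97.Omega.multiplier_center_one hQ h2 (by omega) hM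
        (Cfsg.Agent.Orthogonal.card_center_omega_eq_one hQ (by omega) fun g hg hgm =>
          absurd ((Cfsg.Agent.S0790.result (F := F) rfl hq l (by omega)).1 ⟨g, hg, hgm⟩) h4)

end Cfsg.Agent.S2096
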