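import Cfsg.Statements.S2097
import Cfsg.Agent.H97.Omega.OddMain
import Cfsg.Agent.H97.Omega.EightPlus
-- import your own Cfsg.Agent.* helpers here

set_option autoImplicit false
open Cfsg

namespace Cfsg.Agent.S2097

/-- Schur multipliers of the even-dimensional orthogonal groups of plus type and even rank: for even l ≥ 4 and a field F with q elements, (l, q) ≠ (4, 2), the Schur multiplier of PΩ⁺_2l(F) (for the form Σ xᵢyᵢ) is the product of two cyclic groups of order gcd(2, q^l − 1) (so trivial for q even and a four-group for q odd; here the Schur multiplier is described through stem extensions, as in the definitions). -/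
theorem result {F : Type*} [Field F] [Fintype F] {q : ℕ} (hF : Fintype.card F = q) (l : ℕ) (hl : 4 ≤ l) (heven : Even l) (hexc : ¬ (l = 4 ∧ q = 2)) : Cfsg.HasSchurMultiplier (Cfsg.POmega F (Cfsg.quadFormPlus l F)) (Multiplicative (ZMod (Nat.gcd 2 (q ^ l - 1)) × ZMod (Nat.gcd 2 (q ^ l - 1)))) := by
  classical
  subst hF
  rw [← Cfsg.Agent.Orthogonal.formPlus_coe]
  have hQ := Cfsg.Agent.Orthogonal.formPlus_nondeg F l
  have hn := Cfsg.Agent.Orthogonal.finrank_formPlus F l
  by_cases h2 : (2 : F) = 0
  · have hq : Fintype.card F % 2 = 0 := FiniteField.even_card_of_char_two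
      (CharP.ringChar_of_prime_eq_zero Nat.prime_two (by exact_mod_cast h2))
    have hg : Nat.gcd 2 (Fintype.card F ^ l - 1) = 1 := by
      refine Nat.coprime_two_left.2 ?_
      have he : Fintype.card F ^ l % 2 = 0 := by
        rw [Nat.pow_mod, hq, zero_pow (by omega), Nat.zero_mod]
      have := Nat.pow_pos (n := l) (Fintype.card_pos (α := F))
      rw [Nat.odd_iff]
      omega
    rw [hg]
    haveI : Subsingleton (ZMod 1) := inferInstanceAs (Subsingleton (Fin 1))
    haveI : Unique (Multiplicative (ZMod 1)) := uniqueOfSubsingleton 1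
    haveI : Unique (Multiplicative (ZMod 1 × ZMod 1)) := uniqueOfSubsingleton 1
    refine Cfsg.Agent.H97.Omega.hasSchurMultiplier_of_equiv
      (Cfsg.Agent.H97.Omega.multiplier_pomega_even hQ h2 (by omega) ?_) MulEquiv.ofUnique
    rw [Nat.card_eq_fintype_card]
    by_contra h
    push Not at h
    exact hexc ⟨by omega, h.1⟩
  · have hq : Odd (Fintype.card F) :=
      Nat.card_eq_fintype_card (α := F) ▸ Cfsg.Agent.Orthogonal.odd_natCard_of_two_ne_zero h2
    have hM : Cfsg.Agent.H97.Omega.MultLE
        (commutator (Cfsg.Agent.Orthogonal.O (Cfsg.Agent.Orthogonal.formPlus F l))) 2 := by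
      by_cases hbig : 5 ≤ Nat.card F ∨ 9 ≤ Module.finrank F (Fin l ⊕ Fin l → F)
      · exact Cfsg.Agent.H97.Omega.multLE_odd hQ h2 (by omega) hbig
      · push Not at hbig
        rw [Nat.card_eq_fintype_card] at hbig
        have := Fintype.one_lt_card (α := F)
        obtain ⟨k, hk⟩ := hq
        obtain rfl : l = 4 := by omega
        exact Cfsg.Agent.H97.Omega.multLE_eight_plus (by omega)
    have h4 : Fintype.card F ^ l % 4 = 1 := by
      obtain ⟨j, hj⟩ := heven
      obtain ⟨k, hk⟩ := hq
      rw [hj, ← two_mul, pow_mul, Nat.pow_mod,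
        show Fintype.card F ^ 2 % 4 = 1 by rw [hk]; ring_nf; omega, one_pow, Nat.one_mod]
    obtain ⟨g, hg, hgm⟩ := (Cfsg.Agent.S0790.result (F := F) rfl hq l (by omega)).2 h4
    rw [Nat.gcd_eq_left (show 2 ∣ Fintype.card F ^ l - 1 by omega)]
    exact (Cfsg.Agent.H97.Omega.multiplier_center_two hQ h2 hl hn hM g hg hgm).2 heven

end Cfsg.Agent.S2097
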