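import Cfsg.Statements.S2099
import Cfsg.Agent.H97.Omega.OddMain
import Cfsg.Agent.H97.Omega.MinusTwo.Main
import Cfsg.Agent.Orthogonal.StdForms
import Cfsg.Agent.S0791

set_option autoImplicit false
open Cfsg

namespace Cfsg.Agent.S2099

/-- Schur multipliers of the even-dimensional orthogonal groups of minus type: for l ≥ 4 and a field F with q elements, the Schur multiplier of PΩ⁻_2l(F) (for the form Σ_{i<l−1} xᵢyᵢ + z₁² + a z₁z₂ + b z₂² with the binary part anisotropic) is cyclic of order gcd(4, q^l + 1); here the Schur multiplier is described through stem extensions, as in the definitions. -/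
theorem result {F : Type*} [Field F] [Fintype F] {q : ℕ} (hF : Fintype.card F = q) (l : ℕ) (hl : 4 ≤ l) (a b : F) (hab : ∀ z₁ z₂ : F, z₁ ^ 2 + a * z₁ * z₂ + b * z₂ ^ 2 = 0 → z₁ = 0 ∧ z₂ = 0) : Cfsg.HasCyclicSchurMultiplier (Cfsg.POmega F (Cfsg.quadFormMinus (l - 1) F a b)) (Nat.gcd 4 (q ^ l + 1)) := by
  classical
  subst hF
  obtain ⟨k, rfl⟩ : ∃ k, l = k + 1 := ⟨l - 1, by omega⟩
  rw [Nat.add_sub_cancel, ← Cfsg.Agent.Orthogonal.formMinus_coe]
  have hQ := Cfsg.Agent.Orthogonal.formMinus_nondeg k hab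
  have hn := Cfsg.Agent.Orthogonal.finrank_formMinus F k
  by_cases h2 : (2 : F) = 0
  · have hq : Fintype.card F % 2 = 0 := FiniteField.even_card_of_char_two
      (CharP.ringChar_of_prime_eq_zero Nat.prime_two (by exact_mod_cast h2))
    have hg : Nat.gcd 4 (Fintype.card F ^ (k + 1) + 1) = 1 := by
      refine Nat.Coprime.pow_left 2 (Nat.coprime_two_left.2 ?_)
      have he : Fintype.card F ^ (k + 1) % 2 = 0 := by rw [Nat.pow_mod, hq]; simp
      rw [Nat.odd_iff]
      omega
    rw [hg]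
    by_cases hbig : Nat.card F ≠ 2 ∨ 10 ≤ Module.finrank F ((Fin k ⊕ Fin k) ⊕ Fin 2 → F)
    · exact Cfsg.Agent.H97.Omega.multiplier_pomega_even hQ h2 (by omega) hbig
    · push Not at hbig
      obtain rfl : k = 3 := by omega
      have hf := Cfsg.Agent.Orthogonal.formMinus_frame F 3 a b
      have ha := Cfsg.Agent.Orthogonal.formMinus_aniso F 3 hab
      have M := Cfsg.Agent.H97.Omega.MinusTwo.minus8_of_frame hQ hbig.1 (by omega) hf ha
      have : CharP F 2 := CharTwo.of_one_ne_zero_of_two_eq_zero one_ne_zero h2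
      refine Cfsg.Agent.H97.Omega.hasCyclic_one_of_center
        (Cfsg.Agent.Orthogonal.card_center_omega_eq_one hQ (by omega) fun _ _ _ => ?_)
        (Cfsg.Agent.H97.Omega.MinusTwo.multLE_omega8 M hf ha)
      ext i j
      rw [Matrix.neg_apply, CharTwo.neg_eq]
  · have hq : Odd (Fintype.card F) :=
      Nat.card_eq_fintype_card (α := F) ▸ Cfsg.Agent.Orthogonal.odd_natCard_of_two_ne_zero h2
    have hM : Cfsg.Agent.H97.Omega.MultLE
        (commutator (Cfsg.Agent.Orthogonal.O (Cfsg.Agent.Orthogonal.formMinus F k a b))) 2 := by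
      by_cases hbig : 5 ≤ Nat.card F ∨ 9 ≤ Module.finrank F ((Fin k ⊕ Fin k) ⊕ Fin 2 → F)
      · exact Cfsg.Agent.H97.Omega.multLE_odd hQ h2 (by omega) hbig
      · push Not at hbig
        obtain rfl : k = 3 := by omega
        refine Cfsg.Agent.H97.Omega.multLE_eight_minus hQ h2 ?_ (by omega)
          (Cfsg.Agent.Orthogonal.formMinus_frame F 3 a b) (Cfsg.Agent.Orthogonal.formMinus_aniso F 3 hab)
        have hlt := hbig.1
        rw [Nat.card_eq_fintype_card] at hlt ⊢
        have := Fintype.one_lt_card (α := F)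
        obtain ⟨j, hj⟩ := hq
        omega
    have hs := Cfsg.Agent.S0791.result (F := F) rfl hq (k + 1) (by omega) a b hab
    rw [Nat.add_sub_cancel, ← Cfsg.Agent.Orthogonal.formMinus_coe] at hs
    by_cases h4 : Fintype.card F ^ (k + 1) % 4 = 3
    · obtain ⟨g, hg, hgm⟩ := hs.2 h4
      have hodd : Odd (k + 1) := by
        by_contra he
        obtain ⟨j, hj⟩ := Nat.not_odd_iff_even.1 he
        obtain ⟨i, hi⟩ := hq
        have hsq : Fintype.card F ^ 2 % 4 = 1 := by rw [hi]; ring_nf; omega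
        rw [hj, ← two_mul, pow_mul, Nat.pow_mod, hsq, one_pow] at h4
        norm_num at h4
      rw [Nat.gcd_eq_left (show 4 ∣ Fintype.card F ^ (k + 1) + 1 by omega)]
      exact (Cfsg.Agent.H97.Omega.multiplier_center_two hQ h2 hl hn hM g hg hgm).1 hodd
    · have hodd2 : Fintype.card F ^ (k + 1) % 2 = 1 := Nat.odd_iff.1 hq.pow
      have hg2 : Nat.gcd 4 (Fintype.card F ^ (k + 1) + 1) = 2 := by
        rw [Nat.gcd_rec, show (Fintype.card F ^ (k + 1) + 1) % 4 = 2 by omega]
        decide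
      rw [hg2]
      exact Cfsg.Agent.H97.Omega.multiplier_center_one hQ h2 (by omega) hM
        (Cfsg.Agent.Orthogonal.card_center_omega_eq_one hQ (by omega) fun g hg hgm =>
          absurd (hs.1 ⟨g, hg, hgm⟩) h4)

end Cfsg.Agent.S2099
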