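import Cfsg.Statements.S2100
import Cfsg.Agent.H74.ChevMult
import Cfsg.Agent.S1078

set_option autoImplicit false
open Cfsg

namespace Cfsg.Agent.S2100

/-- Schur multipliers of the Chevalley groups of type G₂: over a field with q ≥ 5 elements the Schur multiplier of G₂(q) is trivial (here the Schur multiplier is described through stem extensions, as in the definitions); the cases q = 3 and q = 4 are exceptional and q = 2 gives a non-simple group. -/
theorem result {F : Type*} [Field F] [Fintype F] (hF : 5 ≤ Fintype.card F) : Cfsg.HasCyclicSchurMultiplier ↥(Cfsg.Lie.chevG2.group F) 1 := by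
  obtain ⟨Q, hrel, hA⟩ := H38.St.exists_stData (D := Cfsg.Lie.chevG2) (by simp) F
  have hs : ∃ s : Finset F, 4 < s.card := H74.ChevMult.exists_finset_of_card (by omega)
  obtain ⟨hfin, hp, h1⟩ := H74.ChevMult.steinberg_trivial Q hrel hA
    (H74.ChevMult.perfect_cover_of_large Q.K hA hs H38.St.liftG2)
    (H74.ChevMult.splits_of_large Q.K hA hs H38.St.liftG2)
  refine H74.ChevMult.group_multiplier Q hrel hA hfin hp h1 ?_ (Or.inl rfl)
  rw [S1078.result Cfsg.Lie.chevG2 (by simp), Subgroup.card_bot]

end Cfsg.Agent.S2100
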