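import Cfsg.Statements.S2106
import Cfsg.Agent.H74.ChevMult
import Cfsg.Agent.H38.St.SmallSplit
import Cfsg.Agent.S1079
import Cfsg.Agent.S2395

set_option autoImplicit false
open Cfsg

namespace Cfsg.Agent.S2106

/-- Schur multipliers of the (adjoint, simple) Chevalley groups of type E₇: over a field with q elements the Schur multiplier is cyclic of order gcd(2, q − 1) (here the Schur multiplier is described through stem extensions, as in the definitions). -/
theorem result {F : Type*} [Field F] [Fintype F] {q : ℕ} (hF : Fintype.card F = q) : Cfsg.HasCyclicSchurMultiplier ↥(Cfsg.Lie.chevE7.group F) (Nat.gcd 2 (q - 1)) := by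
  subst hF
  have hmem : Cfsg.Lie.chevE7 ∈ [Cfsg.Lie.chevG2, Cfsg.Lie.chevB2, Cfsg.Lie.chevD4, Cfsg.Lie.chevF4,
      Cfsg.Lie.chevE6, Cfsg.Lie.chevE7, Cfsg.Lie.chevE8] := by simp
  obtain ⟨Q, hrel, hA⟩ := H38.St.exists_stData hmem F
  have hperf : commutator (Cfsg.Lie.chevE7.SteinbergCover F) = ⊤ := by
    refine S2395.result _ hmem fun h => absurd h ?_
    simp only [List.mem_cons, List.not_mem_nil, or_false]
    rintro (h | h) <;> simpa [Cfsg.Lie.chevE7, Cfsg.Lie.chevB2, Cfsg.Lie.chevG2] using congrArg Cfsg.Lie.ChevalleyDatum.rank h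
  obtain ⟨hfin, hp, h1⟩ := H74.ChevMult.steinberg_trivial Q hrel hA hperf
    (fun P _ X => H38.St.exists_section_finite (Cfsg.Lie.chevE7, 0) (by simp) Fintype.card_ne_zero X)
  exact H74.ChevMult.group_multiplier Q hrel hA hfin hp h1
    (S1079.result rfl (Cfsg.Lie.chevE7, 2) (by simp)) (H74.ChevMult.gcd_cases (by norm_num))

end Cfsg.Agent.S2106
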