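import Cfsg.Statements.S2107
import Cfsg.Agent.H50.ChevMultiplier
import Cfsg.Agent.S1078

set_option autoImplicit false
open Cfsg

namespace Cfsg.Agent.S2107

/-- Schur multipliers of the Chevalley groups of type E₈: over every finite field the Schur multiplier of E₈(q) is trivial (here the Schur multiplier is described through stem extensions, as in the definitions). -/
theorem result {F : Type*} [Field F] [Fintype F] : Cfsg.HasCyclicSchurMultiplier ↥(Cfsg.Lie.chevE8.group F) 1 := by
  refine H50.ChevMult.hasCyclicSchurMultiplier (D := Cfsg.Lie.chevE8) (by simp) ?_ ?_ ?_ (Or.inr rfl)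
  · intro h
    simp only [List.mem_cons, List.not_mem_nil, or_false] at h
    rcases h with h | h <;>
      exact absurd (congrArg Cfsg.Lie.ChevalleyDatum.rank h) (by simp [Cfsg.Lie.chevE8, Cfsg.Lie.chevB2, Cfsg.Lie.chevG2])
  · intro P _ X
    exact H38.St.exists_section_finite_E8 X
  · rw [S1078.result _ (by simp), Subgroup.card_bot]

end Cfsg.Agent.S2107
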