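import Cfsg.Statements.S2112
import Cfsg.Agent.H50.SzEightCover
import Cfsg.Agent.H50.SzEightBound
import Cfsg.Agent.H50.MultiplierBound
import Cfsg.Agent.Suzuki.Lie

set_option autoImplicit false
open Cfsg

namespace Cfsg.Agent.S2112

open Cfsg.Agent.H50 Cfsg.Agent.H50.SzEight Cfsg.Agent.Suzuki

universe u

variable {F : Type u} [Field F] [Fintype F] [SzField F 1]

omit [SzField F 1] in
theorem coef_klein (hF : Fintype.card F = 8) :
    Nonempty (Multiplicative (Coef F) ≃* Multiplicative (ZMod 2 × ZMod 2)) := by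
  have : Fact (Nat.Prime 2) := ⟨Nat.prime_two⟩
  have : CharP F 2 := charP_of_card_eq_prime_pow (f := 3) hF
  have h1 : Nat.card (AddSubgroup.zmultiples (1 : F)) = 2 := by
    rw [Nat.card_zmultiples]
    exact addOrderOf_eq_prime (by simp [CharTwo.two_eq_zero]) one_ne_zero
  have h4 : Nat.card (Coef F) = 4 := by
    have h := AddSubgroup.card_eq_card_quotient_mul_card_addSubgroup (AddSubgroup.zmultiples (1 : F))
    rw [h1, Nat.card_eq_fintype_card, hF] at h
    show Nat.card (F ⧸ AddSubgroup.zmultiples (1 : F)) = 4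
    omega
  have htwo : ∀ x : Coef F, 2 • x = 0 := by
    intro x
    obtain ⟨y, rfl⟩ := QuotientAddGroup.mk_surjective x
    rw [← QuotientAddGroup.mk_nsmul, two_nsmul, CharTwo.add_self_eq_zero]
    rfl
  have hne : Nontrivial (Coef F) := Finite.one_lt_card_iff_nontrivial.1 (by rw [h4]; norm_num)
  have : IsAddKleinFour (Coef F) := ⟨h4, by
    rcases (Nat.dvd_prime Nat.prime_two).1 (AddMonoid.exponent_dvd_of_forall_nsmul_eq_zero htwo) with h | h
    · have := AddMonoid.exp_eq_one_iff.1 h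
      exact absurd this (not_subsingleton _)
    · exact h⟩
  exact IsKleinFour.nonempty_mulEquiv

/-- the coordinates of the Borel subgroup -/
noncomputable def borelData : BorelData F (Cfsg.Sz F 1) where
  v := u 1
  h r := t 1 (r ^ 2)
  mul a b a' b' := u_mul 1 a b a' b'
  conj r a b := by
    have h7 : (r : F) ^ 7 = 1 := pow_seven card_eight r.ne_zero
    rw [t_u, th_four]
    congr 1
    · rw [Units.val_pow_eq_pow_val]
      linear_combination a * (r : F) * h7
    · rw [Units.val_pow_eq_pow_val]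
      linear_combination b * (r : F) ^ 5 * h7
  hmul r r' := by rw [mul_pow, map_mul]
  U := Suzuki.U 1
  hU g := (mem_U 1).trans ⟨fun ⟨a, b, h⟩ => ⟨a, b, h.symm⟩, fun ⟨a, b, h⟩ => ⟨a, b, h.symm⟩⟩
  odd_index := by
    have h := (Suzuki.U (F := F) 1).card_mul_index
    rw [card_U, card_Sz, Nat.card_eq_fintype_card, card_eight] at h
    rw [Nat.odd_iff]
    omega

theorem card_group : Nat.card (Cfsg.Sz F 1) = 29120 := by
  rw [card_Sz, Nat.card_eq_fintype_card, card_eight]; rfl

theorem multiplier : Cfsg.HasSchurMultiplier ↥(Cfsg.Sz F 1) (Multiplicative (ZMod 2 × ZMod 2)) := by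
  classical
  have : Fintype (suzukiOvoid F 1) := Fintype.ofFinite _
  obtain ⟨e⟩ := coef_klein (F := F) card_eight
  obtain ⟨Γ, i1, i2, σ, hσ, ⟨k⟩⟩ := exists_cover (F := F)
  refine ⟨⟨Γ, i1, i2, σ, hσ, ⟨k.trans e⟩⟩, fun Δ _ _ τ hτ => ?_⟩
  obtain ⟨φ, hφ1, hφ⟩ := exists_two_part borelData card_eight hτ
  let _ : CommGroup τ.ker :=
    { (inferInstance : Group τ.ker) with
      mul_comm := fun x y => Subtype.ext (Subgroup.mem_center_iff.1 (hτ.2.1 y.2) x) }
  let f : F →+ Additive τ.ker := φ.toAdditiveRight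
  have hf : AddSubgroup.zmultiples (1 : F) ≤ f.ker := by
    rw [AddSubgroup.zmultiples_le, AddMonoidHom.mem_ker]
    exact congrArg Additive.ofMul hφ1
  let g : Multiplicative (Coef F) →* τ.ker := (QuotientAddGroup.lift _ f hf).toMultiplicativeLeft
  have hgφ : ∀ y : Multiplicative F, g (Multiplicative.ofAdd (y.toAdd : Coef F)) = φ y := fun y => rfl
  suffices hgs : Function.Surjective g from
    ⟨g.comp e.symm.toMonoidHom, hgs.comp e.symm.surjective⟩
  intro z
  set N := Nat.card τ.ker with hN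
  have hone : ∀ p : ℕ, p.Prime → p ∣ N → p = 2 := by
    intro p hp hd
    by_contra hp2
    have := Fact.mk hp
    obtain ⟨x, hx⟩ := exists_prime_orderOf_dvd_card' p hd
    have h1 : (x : Δ) ^ p = 1 := by rw [← SubgroupClass.coe_pow, ← hx, pow_orderOf_eq_one]; rfl
    have := eq_one_of_sq_not_dvd hτ hp (by
      rw [card_group]
      intro hd2
      have h3 : 3 ≤ p := by have := hp.two_le; omega
      have h170 : p < 171 := by
        have := Nat.le_of_dvd (by norm_num) hd2
        nlinarith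
      have hodd : p ^ 2 ∣ 455 := by
        have hc : (p ^ 2).Coprime (2 ^ 6) :=
          Nat.Coprime.pow 2 6 ((Nat.coprime_primes hp Nat.prime_two).2 hp2)
        exact hc.dvd_of_dvd_mul_left (by norm_num; exact hd2)
      have h22 : p ≤ 21 := by
        have := Nat.le_of_dvd (by norm_num) hodd
        nlinarith
      interval_cases p <;> first | contradiction | norm_num at hodd) x x.2 h1
    have hx1 : x = 1 := Subtype.ext this
    rw [hx1, orderOf_one] at hx
    exact hp.one_lt.ne hx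
  have hN2 : N = 2 ^ N.primeFactorsList.length :=
    Nat.eq_prime_pow_of_unique_prime_dvd Nat.card_pos.ne' fun hp hd => hone _ hp hd
  obtain ⟨y, hy⟩ := hφ z z.2 N.primeFactorsList.length (by
    rw [← hN2, hN, ← SubgroupClass.coe_pow, pow_card_eq_one']; rfl)
  exact ⟨Multiplicative.ofAdd (y.toAdd : Coef F), (hgφ y).trans (Subtype.ext hy)⟩

/-- Exceptional Schur multiplier of `Sz(8)`. -/
theorem result {F : Type*} [Field F] [Fintype F] (hF : Fintype.card F = 8) : Cfsg.HasSchurMultiplier ↥(Cfsg.Lie.Sz F 4) (Multiplicative (ZMod 2 × ZMod 2)) := by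
  have : SzField F 1 := ⟨by rw [hF]; rfl, le_rfl⟩
  obtain ⟨⟨Γ, i1, i2, σ, hσ, ⟨k⟩⟩, hup⟩ := multiplier (F := F)
  let e : ↥(Cfsg.Sz F 1) ≃* ↥(Cfsg.Lie.Sz F 4) := lieEquiv (F := F) 1
  have hk : ∀ {Δ : Type _} [Group Δ] (τ : Δ →* ↥(Cfsg.Sz F 1)), (e.toMonoidHom.comp τ).ker = τ.ker := by
    intro Δ _ τ
    ext x
    simp
  refine ⟨⟨Γ, i1, i2, e.toMonoidHom.comp σ,
    ⟨e.surjective.comp hσ.1, (hk σ).le.trans hσ.2.1, (hk σ).le.trans hσ.2.2⟩,
    ⟨(MulEquiv.subgroupCongr (hk σ)).trans k⟩⟩, fun Δ _ _ τ hτ => ?_⟩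
  have hk' : (e.symm.toMonoidHom.comp τ).ker = τ.ker := by
    ext x
    simp
  obtain ⟨π, hπ⟩ := hup Δ (e.symm.toMonoidHom.comp τ)
    ⟨e.symm.surjective.comp hτ.1, hk'.le.trans hτ.2.1, hk'.le.trans hτ.2.2⟩
  exact ⟨(MulEquiv.subgroupCongr hk').toMonoidHom.comp π, (MulEquiv.subgroupCongr hk').surjective.comp hπ⟩

end Cfsg.Agent.S2112
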