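import Cfsg.Statements.S2114
import Cfsg.Agent.H40.Ree.Odd
import Cfsg.Agent.H40.Ree.Two

set_option autoImplicit false
open Cfsg

namespace Cfsg.Agent.S2114

/-- Schur multipliers of the large Ree groups: for q = 2^(2m+1) with m ≥ 1 the Schur multiplier of ²F₄(q) is trivial (here the Schur multiplier is described through stem extensions, as in the definitions). -/
theorem result {K : Type*} [Field K] [Fintype K] {m : ℕ} (hm : 1 ≤ m) (hK : Fintype.card K = 2 ^ (2 * m + 1)) : Cfsg.HasCyclicSchurMultiplier ↥(Cfsg.Lie.twistedF4 K (2 ^ m)) 1 := by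
  haveI : Fact (Nat.Prime 2) := ⟨Nat.prime_two⟩
  haveI : CharP K 2 := charP_of_card_eq_prime_pow hK
  have hφ : ∀ t, iterateFrobenius K 2 m t = t ^ 2 ^ m := iterateFrobenius_def 2 m
  haveI : Finite ↥(Cfsg.Lie.twistedF4 K (2 ^ m)) := Agent.H40.Ree.finiteGT hφ hK
  refine Agent.Linear.Mult.hasTrivialMultiplier_of_noStem fun l hl => ?_
  by_cases h2 : l = 2
  · subst h2
    exact Agent.H40.Ree.noStem_two hφ hK hm
  · exact Agent.H40.Ree.noStem_odd hφ hK hm hl h2

end Cfsg.Agent.S2114
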