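import Cfsg.Statements.S2132
import Cfsg.Agent.H92.McLInvClass

set_option autoImplicit false
open Cfsg

namespace Cfsg.Agent.S2132

open Cfsg.Agent.H92 Cfsg.Agent.H92.LeechOrbit

lemma refs_eq : refU = -Cfsg.Spor.leechV ∧ refV = Cfsg.Spor.leechU := by decide +kernel

/-- The two descriptions of the stabiliser. -/
def toMcl : ↥Cfsg.Spor.McL ≃* ↥McLInv.mcl where
  toFun g := ⟨⟨g.1, g.2.1.1⟩, by
    show (⟨g.1, g.2.1.1⟩ : Cfsg.Co0) • refU = refU
    rw [refs_eq.1, Cfsg.Agent.Golay.co0_smul_neg]
    exact congrArg Neg.neg g.2.1.2, by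
    show (⟨g.1, g.2.1.1⟩ : Cfsg.Co0) • refV = refV
    rw [refs_eq.2]
    exact g.2.2⟩
  invFun g := ⟨g.1.1, ⟨g.1.2, by
    have h : g.1 • refU = refU := g.2.1
    rw [refs_eq.1, Cfsg.Agent.Golay.co0_smul_neg, neg_inj] at h
    exact h⟩, by
    have h : g.1 • refV = refV := g.2.2
    rw [refs_eq.2] at h
    exact h⟩
  left_inv _ := rfl
  right_inv _ := rfl
  map_mul' _ _ := rfl

/-- The McLaughlin group (as a two-vector stabiliser in the automorphism group of the rank-24 lattice) has a single conjugacy class of involutions, and the centraliser of an involution is a non-split double cover of the alternating group of degree 8. -/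
theorem result : (∀ x y : ↥Cfsg.Spor.McL, orderOf x = 2 → orderOf y = 2 → IsConj x y) ∧ ∃ t : ↥Cfsg.Spor.McL, orderOf t = 2 ∧ Cfsg.IsNonsplitDoubleCover ↥(Subgroup.centralizer ({t} : Set ↥Cfsg.Spor.McL)) ↥(alternatingGroup (Fin 8)) := by
  set e := toMcl
  refine ⟨fun x y hx hy => ?_, e.symm McLInv.tInv, ?_, ?_⟩
  · have h : IsConj (e x) (e y) :=
      (McLInv.isConj_tInv ((e.orderOf_eq x).trans hx)).symm.trans
        (McLInv.isConj_tInv ((e.orderOf_eq y).trans hy))
    have := e.symm.toMonoidHom.map_isConj h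
    simpa using this
  · exact (e.symm.orderOf_eq _).trans McLInv.orderOf_tInv
  set D := Subgroup.centralizer ({e.symm McLInv.tInv} : Set ↥Cfsg.Spor.McL)
  have hmap : ∀ x, x ∈ D ↔ e x ∈ McLInv.cent := fun x => by
    rw [Subgroup.mem_centralizer_singleton_iff, Subgroup.mem_centralizer_singleton_iff,
      ← e.injective.eq_iff, map_mul, map_mul, e.apply_symm_apply]
  let f : D ≃* McLInv.cent :=
    { toFun := fun x => ⟨e x.1, (hmap x.1).1 x.2⟩
      invFun := fun y => ⟨e.symm y.1, (hmap _).2 (by rw [e.apply_symm_apply]; exact y.2)⟩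
      left_inv := fun x => Subtype.ext (e.symm_apply_apply _)
      right_inv := fun y => Subtype.ext (e.apply_symm_apply _)
      map_mul' := fun x y => Subtype.ext (map_mul e _ _) }
  obtain ⟨h2, ⟨q⟩, hns⟩ := McLInv.nonsplit_cent
  have hz : (Subgroup.center D).map f.toMonoidHom = Subgroup.center McLInv.cent := by
    ext y
    rw [Subgroup.mem_map_equiv, Subgroup.mem_center_iff, Subgroup.mem_center_iff]
    constructor
    · intro h g
      have := congrArg f (h (f.symm g))
      simpa using this
    · intro h g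
      exact f.injective (by rw [map_mul, map_mul, f.apply_symm_apply]; exact h (f g))
  refine ⟨?_, ⟨(QuotientGroup.congr _ _ f hz).trans q⟩, fun L hL => ?_⟩
  · rw [← h2, ← hz, Subgroup.card_map_of_injective (f := f.toMonoidHom) f.injective]
  · refine hns (L.map f.toMonoidHom) ?_
    rw [← hz]
    haveI : Finite ↥McLInv.mcl := (Nat.card_pos_iff.1 (by rw [McLInv.card_mcl]; norm_num)).2
    haveI : Finite ↥D := Finite.of_equiv _ f.symm.toEquiv
    refine Subgroup.isComplement'_of_card_mul_and_disjoint ?_ ?_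
    · rw [Subgroup.card_map_of_injective (f := f.toMonoidHom) f.injective,
        Subgroup.card_map_of_injective (f := f.toMonoidHom) f.injective, hL.card_mul,
        Nat.card_congr f.toEquiv]
    · exact Subgroup.disjoint_map f.injective hL.disjoint

end Cfsg.Agent.S2132
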