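import Cfsg.Statements.S2133
import Cfsg.Agent.H95.GolayLarge2
import Cfsg.Agent.H95.GolayJoint
open Cfsg.Agent.H95 Cfsg.Agent.Golay
open scoped Pointwise
set_option maxRecDepth 100000

set_option autoImplicit false
open Cfsg

namespace Cfsg.Agent.S2133

/-- The points outside the base octad. -/
def outMask : ℕ := 8241104

/-- Affine coordinates on the points outside the base octad, as masks. -/
def coordM (j : Fin 5) : ℕ := [337856, 8241104, 628112, 1161408, 2141072].getD j.val 0

/-- Coordinate vector of a position. -/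
def vecAt (i : ℕ) : Fin 5 → ZMod 2 := fun j => if (coordM j).testBit i then 1 else 0

/-- A functional by number. -/
def rowVec (r : ℕ) : Fin 5 → ZMod 2 := fun j => if r.testBit j.val then 1 else 0

/-- Evaluation of a functional. -/
def evalRow (r : Fin 5 → ZMod 2) (i : ℕ) : ZMod 2 :=
  r 0 * vecAt i 0 + r 1 * vecAt i 1 + r 2 * vecAt i 2 + r 3 * vecAt i 3 + r 4 * vecAt i 4

lemma coord_checks :
    (((List.range 24).all fun i => decide (outMask.testBit i = !(8536111 : ℕ).testBit i)) &&
    ((List.finRange 5).all fun j => coordM j == outMask || baseDisjoint.contains (coordM j)) &&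
    ((outMask :: baseDisjoint).all fun d => (List.range 32).any fun r =>
      (List.range 24).all fun i => !outMask.testBit i ||
        decide (evalRow (rowVec r) i = if d.testBit i then 1 else 0)) &&
    ((List.range 32).all fun r => r == 0 ||
      (List.range 24).any fun i => outMask.testBit i && decide (evalRow (rowVec r) i = 1)) &&
    ((List.range 24).all fun i => !outMask.testBit i ||
      (decide (vecAt i 1 = 1) && decide (vecAt (app invEight i) 0 = vecAt i 0 + 1) &&
        decide (vecAt (app invEight i) 1 = vecAt i 1) && decide (vecAt (app invEight i) 2 = vecAt i 2) &&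
        decide (vecAt (app invEight i) 3 = vecAt i 3) && decide (vecAt (app invEight i) 4 = vecAt i 4))) &&
    ((List.range 24).all fun i => (List.range 24).all fun k =>
      !outMask.testBit i || !outMask.testBit k || i == k ||
        (List.finRange 5).any fun j => decide (vecAt i j ≠ vecAt k j)) &&
    isTrivialStab [] outMask && (baseOctad == 8536111)) = true := by
  decide +kernel

lemma exists_rowVec (r : Fin 5 → ZMod 2) : ∃ c < 32, rowVec c = r := by
  have hinj : ∀ a b : Fin 32, (∀ j, rowVec a.val j = rowVec b.val j) → a = b := by decide +kernel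
  have hbij : Function.Bijective fun c : Fin 32 => rowVec c.val := by
    rw [Nat.bijective_iff_injective_and_card]
    refine ⟨fun a b h => hinj a b fun j => congrFun h j, ?_⟩
    rw [Nat.card_fin, Nat.card_fun, Nat.card_zmod, Nat.card_fin]
    norm_num
  obtain ⟨c, hc⟩ := hbij.2 r
  exact ⟨c.1, c.2, hc⟩

lemma evalRow_sub (r s : Fin 5 → ZMod 2) (i : ℕ) :
    evalRow (r - s) i = evalRow r i - evalRow s i := by
  simp only [evalRow, Pi.sub_apply]; ring

lemma evalRow_ext {r s : Fin 5 → ZMod 2}
    (h : ∀ p : Cfsg.GolayPt, p ∉ ptSet 8536111 → evalRow r (idx p) = evalRow s (idx p)) : r = s := by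
  have hc := coord_checks
  simp only [Bool.and_eq_true, List.all_eq_true, List.any_eq_true, Bool.or_eq_true, beq_iff_eq,
    decide_eq_true_eq, List.mem_range] at hc
  obtain ⟨c, hc32, hcr⟩ := exists_rowVec (r - s)
  rcases hc.1.1.1.1.2 c hc32 with h0 | ⟨i, hi, hout, h1⟩
  · rw [h0] at hcr
    rw [← sub_eq_zero, ← hcr]
    funext j
    simp [rowVec]
  · have hp : pt i ∉ ptSet 8536111 := by
      rw [mem_ptSet, idx_pt i hi]
      have := hc.1.1.1.1.1.1.1 i hi
      rw [hout] at this
      simpa using this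
    rw [hcr, evalRow_sub] at h1
    have := h (pt i) hp
    rw [idx_pt i hi] at this
    rw [this, sub_self] at h1
    exact absurd h1 (by decide)

/-- Elements fixing the base octad act linearly on the coordinate vectors. -/
lemma exists_matrix {g : Cfsg.M24} (hg : g • ptSet 8536111 = ptSet 8536111) :
    ∃ M : Matrix (Fin 5) (Fin 5) (ZMod 2), ∀ p, p ∉ ptSet 8536111 → ∀ j,
      vecAt (idx ((g : Equiv.Perm Cfsg.GolayPt) p)) j = evalRow (M j) (idx p) := by
  have hc := coord_checks
  simp only [Bool.and_eq_true, List.all_eq_true, List.any_eq_true, Bool.or_eq_true, beq_iff_eq,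
    decide_eq_true_eq, List.mem_range, Bool.not_eq_true', List.mem_finRange, forall_const,
    List.contains_iff_mem] at hc
  obtain ⟨⟨⟨⟨⟨⟨⟨hout, hcoord⟩, hfun⟩, -⟩, -⟩, -⟩, -⟩, -⟩ := hc
  have hnot : ∀ p, p ∉ ptSet 8536111 ↔ p ∈ ptSet outMask := by
    intro p
    rw [mem_ptSet, mem_ptSet, hout (idx p) (idx_lt p)]
    cases (8536111 : ℕ).testBit (idx p) <;> simp
  have hgo : g⁻¹ • ptSet outMask = ptSet outMask := by
    ext p
    show p ∈ (g : Equiv.Perm Cfsg.GolayPt)⁻¹ • ptSet outMask ↔ p ∈ ptSet outMask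
    rw [Finset.mem_inv_smul_finset_iff, ← hnot, ← hnot, Equiv.Perm.smul_def]
    rw [not_iff_not]
    constructor
    · intro h
      rw [← hg] at h
      exact (Finset.smul_mem_smul_finset_iff (g : Equiv.Perm Cfsg.GolayPt)).1 h
    · intro h
      rw [← hg]
      exact Finset.smul_mem_smul_finset h
  have himg : ∀ j, maskOf ((g⁻¹ : Cfsg.M24) • ptSet (coordM j)) ∈ outMask :: baseDisjoint := by
    intro j
    rcases hcoord j with h | h
    · rw [h, hgo, Cfsg.Agent.H95.maskOf_ptSet (by norm_num [outMask])]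
      exact List.mem_cons_self
    · refine List.mem_cons_of_mem _ ?_
      obtain ⟨hd, hd0⟩ := List.mem_filter.1 h
      refine List.mem_filter.2 ⟨mem_octads_iff.1 (smul_mem_octads (g⁻¹).2 (ptSet_mem_octads hd)), ?_⟩
      rw [Nat.beq_eq] at hd0
      rw [Nat.beq_eq]
      refine ptSet_injOn (and_lt_full (maskOf_lt _)) (by norm_num) ?_
      have he : ptSet (coordM j) ∩ ptSet 8536111 = ∅ := by
        rw [← ptSet_and, show coordM j &&& 8536111 = 0 from hd0, ptSet_zero]
      show ptSet (maskOf _ &&& 8536111) = ptSet 0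
      rw [ptSet_and, ptSet_maskOf, ptSet_zero]
      have h8 : g⁻¹ • ptSet 8536111 = ptSet 8536111 := by rw [inv_smul_eq_iff, hg]
      show ((g⁻¹ : Cfsg.M24) : Equiv.Perm Cfsg.GolayPt) • ptSet (coordM j) ∩ ptSet 8536111 = ∅
      rw [← show ((g⁻¹ : Cfsg.M24) : Equiv.Perm Cfsg.GolayPt) • ptSet 8536111 = ptSet 8536111 from h8,
        ← Finset.smul_finset_inter, he, Finset.smul_finset_empty]
  choose r hr hrow using fun j => hfun _ (himg j)
  refine ⟨fun j => rowVec (r j), fun p hp j => ?_⟩
  have h := (hrow j (idx p) (idx_lt p)).resolve_left (by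
    rw [Bool.not_eq_false, ← mem_ptSet]; exact (hnot p).1 hp)
  show _ = evalRow (rowVec (r j)) (idx p)
  rw [h]
  simp only [vecAt]
  refine if_congr ?_ rfl rfl
  rw [← mem_ptSet, ← mem_ptSet, ptSet_maskOf]
  show _ ↔ p ∈ ((g⁻¹ : Cfsg.M24) : Equiv.Perm Cfsg.GolayPt) • ptSet (coordM j)
  rw [Subgroup.coe_inv, Finset.mem_inv_smul_finset_iff, Equiv.Perm.smul_def]

lemma evalRow_comp (r : Fin 5 → ZMod 2) (M : Matrix (Fin 5) (Fin 5) (ZMod 2)) (i k : ℕ)
    (h : ∀ j, vecAt k j = evalRow (M j) i) : evalRow r k = evalRow (Matrix.vecMul r M) i := by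
  simp only [evalRow, Matrix.vecMul, dotProduct, Fin.sum_univ_five]
  rw [h 0, h 1, h 2, h 3, h 4]
  simp only [evalRow]
  ring

/-- Counting the centraliser of the transvection. -/
lemma card_centralizer_le (s : Matrix.SpecialLinearGroup (Fin 5) (ZMod 2))
    (hs : (s : Matrix (Fin 5) (Fin 5) (ZMod 2)) = Matrix.transvection 0 1 1) :
    Nat.card (Subgroup.centralizer ({s} : Set (Matrix.SpecialLinearGroup (Fin 5) (ZMod 2)))) ≤ 21504 := by
  obtain ⟨Q, K, hd, ⟨ι⟩, -, -⟩ := exists_centData
  have hSL : Nat.card (Matrix.SpecialLinearGroup (Fin 3) (ZMod 2)) = 168 := by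
    rw [← Nat.card_congr ι.toEquiv, hd.card_K]
  have hE : ∀ g ∈ Subgroup.centralizer ({s} : Set (Matrix.SpecialLinearGroup (Fin 5) (ZMod 2))),
      ∀ i j, g.1 i 0 * (if j = 1 then 1 else 0) = (if i = 0 then 1 else 0) * g.1 1 j := by
    intro g hg i j
    have h := congrArg (fun x : Matrix.SpecialLinearGroup (Fin 5) (ZMod 2) =>
      (x : Matrix (Fin 5) (Fin 5) (ZMod 2))) (Subgroup.mem_centralizer_singleton_iff.1 hg)
    simp only [Matrix.SpecialLinearGroup.coe_mul, hs, Matrix.transvection, mul_add, add_mul, mul_one,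
      one_mul, add_right_inj] at h
    have h' := congrFun (congrFun h i) j
    by_cases hj : j = 1 <;> by_cases hi : i = 0
    · subst hj hi; simpa using h'
    · subst hj; simpa [hi, Matrix.single_mul_apply_of_ne] using h'
    · subst hi; simpa [hj, Matrix.mul_single_apply_of_ne] using h'
    · simp [hi, hj]
  have hcol : ∀ g ∈ Subgroup.centralizer ({s} : Set (Matrix.SpecialLinearGroup (Fin 5) (ZMod 2))),
      g.1 0 0 = g.1 1 1 ∧ (∀ i, i ≠ 0 → g.1 i 0 = 0) ∧ ∀ j, j ≠ 1 → g.1 1 j = 0 := by
    intro g hg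
    refine ⟨by simpa using hE g hg 0 1, fun i hi => by simpa [hi] using hE g hg i 1,
      fun j hj => by simpa [hj] using (hE g hg 0 j).symm⟩
  let blk : Matrix (Fin 5) (Fin 5) (ZMod 2) → Matrix (Fin 3) (Fin 3) (ZMod 2) := fun M =>
    M.submatrix (![2, 3, 4] : Fin 3 → Fin 5) ![2, 3, 4]
  have hdet : ∀ g ∈ Subgroup.centralizer ({s} : Set (Matrix.SpecialLinearGroup (Fin 5) (ZMod 2))),
      g.1 0 0 = 1 ∧ (blk g.1).det = 1 := by
    intro g hg
    obtain ⟨h00, hc0, hr1⟩ := hcol g hg
    have h1 := g.2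
    rw [Matrix.det_succ_column_zero, Fin.sum_univ_succ] at h1
    rw [Finset.sum_eq_zero (fun i _ => by rw [hc0 i.succ (Fin.succ_ne_zero i)]; simp), add_zero,
      Matrix.det_succ_row_zero, Fin.sum_univ_succ] at h1
    rw [Finset.sum_eq_zero (fun j _ => by
      rw [Matrix.submatrix_apply, show (Fin.succAbove (0 : Fin 5) (0 : Fin 4)) = 1 from rfl,
        hr1 _ (by revert j; decide)]
      simp), add_zero] at h1
    simp only [Fin.val_zero, pow_zero, one_mul, Matrix.submatrix_apply, Matrix.submatrix_submatrix] at h1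
    change g.1 0 0 * (g.1 1 1 * (Matrix.submatrix g.1 _ _).det) = 1 at h1
    have hu : g.1 0 0 = 1 := by
      by_contra hne
      have h0 : g.1 0 0 = 0 := by revert hne; generalize g.1 0 0 = x; revert x; decide
      rw [h0, zero_mul] at h1
      exact zero_ne_one h1
    refine ⟨hu, ?_⟩
    rw [hu, ← h00, hu, one_mul, one_mul] at h1
    refine Eq.trans ?_ h1
    show (g.1.submatrix (![2, 3, 4] : Fin 3 → Fin 5) ![2, 3, 4]).det = _
    congr 1
    ext a b
    fin_cases a <;> fin_cases b <;> rfl
  let f : Subgroup.centralizer ({s} : Set (Matrix.SpecialLinearGroup (Fin 5) (ZMod 2))) →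
      (Fin 7 → ZMod 2) × Matrix.SpecialLinearGroup (Fin 3) (ZMod 2) :=
    fun g => (![g.1.1 0 1, g.1.1 0 2, g.1.1 0 3, g.1.1 0 4, g.1.1 2 1, g.1.1 3 1, g.1.1 4 1],
      ⟨blk g.1.1, (hdet g.1 g.2).2⟩)
  have hf : Function.Injective f := by
    intro a b hab
    obtain ⟨h1, h2⟩ := Prod.ext_iff.1 hab
    have h2' := congrArg Subtype.val h2
    obtain ⟨-, ac, ar⟩ := hcol a.1 a.2
    obtain ⟨-, bc, br⟩ := hcol b.1 b.2
    have a0 := (hdet a.1 a.2).1
    have b0 := (hdet b.1 b.2).1
    have a1 : a.1.1 1 1 = 1 := (hcol a.1 a.2).1 ▸ a0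
    have b1 : b.1.1 1 1 = 1 := (hcol b.1 b.2).1 ▸ b0
    refine Subtype.ext (Subtype.ext (Matrix.ext fun i j => ?_))
    by_cases hj : j = 0
    · subst hj
      by_cases hi : i = 0
      · subst hi; rw [a0, b0]
      · rw [ac i hi, bc i hi]
    by_cases hi : i = 1
    · subst hi
      by_cases hj1 : j = 1
      · subst hj1; rw [a1, b1]
      · rw [ar j hj1, br j hj1]
    have q := congrFun h1
    have u := fun x y => congrFun (congrFun h2' x) y
    fin_cases i <;> fin_cases j <;>
      first
        | exact absurd rfl hi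
        | exact absurd rfl hj
        | exact q 0 | exact q 1 | exact q 2 | exact q 3 | exact q 4 | exact q 5 | exact q 6
        | exact u 0 0 | exact u 0 1 | exact u 0 2 | exact u 1 0 | exact u 1 1 | exact u 1 2
        | exact u 2 0 | exact u 2 1 | exact u 2 2
  refine (Nat.card_le_card_of_injective f hf).trans (le_of_eq ?_)
  rw [Nat.card_prod, hSL, Nat.card_fun, Nat.card_zmod, Nat.card_fin]
  norm_num

/-- The Mathieu group M₂₄ (the automorphism group of the length-24 binary code) has an involution whose centraliser is isomorphic to the centraliser of a transvection in SL(5, 2) (a group of shape 2^{1+6}:GL(3, 2)). -/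
theorem result (s : Matrix.SpecialLinearGroup (Fin 5) (ZMod 2)) (hs : (s : Matrix (Fin 5) (Fin 5) (ZMod 2)) = Matrix.transvection 0 1 1) : ∃ z : ↥Cfsg.M24, orderOf z = 2 ∧ Nonempty (↥(Subgroup.centralizer ({z} : Set ↥Cfsg.M24)) ≃* ↥(Subgroup.centralizer ({s} : Set (Matrix.SpecialLinearGroup (Fin 5) (ZMod 2))))) := by
  set z := invEightElt with hzdef
  have hzfix : (Finset.univ.filter fun p => (z : Equiv.Perm Cfsg.GolayPt) p = p) ∈ Cfsg.octads :=
    exists_involutions.1.2.2
  have hz : orderOf z = 2 := by rw [← Subgroup.orderOf_coe]; exact exists_involutions.1.2.1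
  have hc := coord_checks
  simp only [Bool.and_eq_true, List.all_eq_true, List.any_eq_true, Bool.or_eq_true, beq_iff_eq,
    decide_eq_true_eq, List.mem_range, Bool.not_eq_true', List.mem_finRange, forall_const,
    true_and] at hc
  obtain ⟨⟨⟨⟨⟨⟨⟨hout, -⟩, -⟩, -⟩, hzv⟩, hsep⟩, htriv⟩, hbase⟩ := hc
  have hO : (Finset.univ.filter fun p => (z : Equiv.Perm Cfsg.GolayPt) p = p) = ptSet 8536111 := by
    rw [hzdef, invEightElt_fix, hbase]
  have hnot : ∀ p, p ∉ ptSet 8536111 → outMask.testBit (idx p) = true := by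
    intro p hp
    rw [hout (idx p) (idx_lt p)]
    rw [mem_ptSet] at hp
    simpa using hp
  have hfix : ∀ c ∈ Subgroup.centralizer ({z} : Set Cfsg.M24), c • ptSet 8536111 = ptSet 8536111 := by
    intro c hc
    have h1 := fix_set_conj c (z : Equiv.Perm Cfsg.GolayPt)
    have e : (c : Equiv.Perm Cfsg.GolayPt) * z.1 * (c : Equiv.Perm Cfsg.GolayPt)⁻¹ = z.1 := by
      rw [show (c : Equiv.Perm Cfsg.GolayPt) * z.1 = z.1 * c.1 from
        congrArg Subtype.val (Subgroup.mem_centralizer_singleton_iff.1 hc), mul_inv_cancel_right]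
    rw [e, hO] at h1
    exact h1.symm
  have hmove : ∀ (c : Cfsg.M24), c • ptSet 8536111 = ptSet 8536111 → ∀ p, p ∉ ptSet 8536111 →
      (c : Equiv.Perm Cfsg.GolayPt) p ∉ ptSet 8536111 := by
    intro c hc p hp h
    rw [← hc] at h
    exact hp ((Finset.smul_mem_smul_finset_iff (c : Equiv.Perm Cfsg.GolayPt)).1 h)
  choose M hM using fun c : Subgroup.centralizer ({z} : Set Cfsg.M24) =>
    exists_matrix (hfix c.1 c.2)
  have hmul : ∀ a b, M (a * b) = M a * M b := by
    intro a b
    refine Matrix.ext fun j => congrFun (evalRow_ext fun p hp => ?_)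
    rw [show (M a * M b) j = Matrix.vecMul (M a j) (M b) from Matrix.mul_apply_eq_vecMul _ _ _,
      ← evalRow_comp (M a j) (M b) (idx p) _ (hM b p hp), ← hM (a * b) p hp,
      ← hM a _ (hmove b.1 (hfix b.1 b.2) p hp)]
    rfl
  have hone : M 1 = 1 := by
    refine Matrix.ext fun j => congrFun (evalRow_ext fun p hp => ?_)
    rw [← hM 1 p hp]
    show vecAt (idx p) j = _
    fin_cases j <;> simp [evalRow, Matrix.one_apply]
  have hdet : ∀ c, (M c).det = 1 := by
    intro c
    have h : M c * M c⁻¹ = 1 := by rw [← hmul, mul_inv_cancel, hone]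
    have := congrArg Matrix.det h
    rw [Matrix.det_mul, Matrix.det_one] at this
    have key : ∀ x y : ZMod 2, x * y = 1 → x = 1 := by decide
    exact key _ _ this
  let zc : Subgroup.centralizer ({z} : Set Cfsg.M24) :=
    ⟨z, Subgroup.mem_centralizer_singleton_iff.2 rfl⟩
  have hMz : M zc = (s : Matrix (Fin 5) (Fin 5) (ZMod 2)) := by
    refine Matrix.ext fun j => congrFun (evalRow_ext fun p hp => ?_)
    rw [← hM zc p hp]
    show vecAt (idx (mkPerm invEight p)) j = _
    have hwv : validT invEight = true := by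
      obtain ⟨hchk, -⟩ := inv_checks
      simp only [Bool.and_eq_true] at hchk
      exact validT_of_inM24 hchk.1.1.1.2
    rw [idx_mkPerm hwv, hs]
    obtain ⟨⟨⟨⟨⟨h1, e0⟩, e1⟩, e2⟩, e3⟩, e4⟩ :=
      (hzv (idx p) (idx_lt p)).resolve_left (by rw [hnot p hp]; decide)
    fin_cases j <;>
      simp [evalRow, Matrix.transvection, Matrix.one_apply, Matrix.single, h1, e0, e1, e2, e3, e4]
  let φ : Subgroup.centralizer ({z} : Set Cfsg.M24) →*
      Matrix.SpecialLinearGroup (Fin 5) (ZMod 2) :=
    MonoidHom.mk' (fun c => ⟨M c, hdet c⟩) fun a b => Subtype.ext (hmul a b)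
  have hrange : ∀ c, φ c ∈ Subgroup.centralizer ({s} : Set (Matrix.SpecialLinearGroup (Fin 5) (ZMod 2))) := by
    intro c
    rw [Subgroup.mem_centralizer_singleton_iff, ← show φ zc = s from Subtype.ext hMz, ← map_mul,
      ← map_mul]
    exact congrArg φ (Subtype.ext (Subgroup.mem_centralizer_singleton_iff.1 c.2))
  let ψ : Subgroup.centralizer ({z} : Set Cfsg.M24) →*
      Subgroup.centralizer ({s} : Set (Matrix.SpecialLinearGroup (Fin 5) (ZMod 2))) :=
    φ.codRestrict _ hrange
  have hinj : Function.Injective ψ := by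
    rw [injective_iff_map_eq_one]
    intro c hc
    have hMc : M c = 1 := congrArg (fun x => (Subtype.val (Subtype.val x))) hc
    have hfixout : ∀ p, p ∉ ptSet 8536111 → (c.1 : Equiv.Perm Cfsg.GolayPt) p = p := by
      intro p hp
      by_contra hne
      rcases hsep (idx ((c.1 : Equiv.Perm Cfsg.GolayPt) p)) (idx_lt _) (idx p) (idx_lt p) with
        ((h | h) | h) | ⟨j, hj⟩
      · rw [hnot _ (hmove c.1 (hfix c.1 c.2) p hp)] at h; exact Bool.noConfusion h
      · rw [hnot p hp] at h; exact Bool.noConfusion h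
      · exact hne (idx_injective h)
      · refine hj ?_
        rw [hM c p hp, hMc]
        fin_cases j <;> simp [evalRow, Matrix.one_apply]
    have hmem : (c.1 : Equiv.Perm Cfsg.GolayPt) ∈ stabGrp [] outMask := by
      refine ⟨c.1.2, by simp, fun p hp => hfixout p ?_⟩
      rw [mem_ptSet, hout (idx p) (idx_lt p)] at hp
      rw [mem_ptSet]
      simpa using hp
    rw [stabGrp_eq_bot' htriv, Subgroup.mem_bot] at hmem
    exact Subtype.ext (Subtype.ext hmem)
  refine ⟨z, hz, ⟨MulEquiv.ofBijective ψ ⟨hinj, ?_⟩⟩⟩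
  have hle := Nat.card_le_card_of_injective ψ hinj
  have hge := card_centralizer_le s hs
  rw [card_centralizer_invEight z hzfix] at hle
  refine ((Nat.bijective_iff_injective_and_card ψ).2 ⟨hinj, ?_⟩).2
  rw [card_centralizer_invEight z hzfix]
  omega

end Cfsg.Agent.S2133
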