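import Cfsg.Statements.S2136
import Cfsg.Agent.H92.CoTwoCentTop

set_option autoImplicit false
open Cfsg

namespace Cfsg.Agent.S2136

open Cfsg.Agent.H92.CoTwoCent in
lemma octInv_mem : (octInv : Equiv.Perm leechLattice) ∈ Spor.Co2 :=
  ⟨octInv.2, octInv_fix_iff.2 leechU_supp⟩

/-- The involution in the stabiliser. -/
noncomputable def inv2 : ↥Cfsg.Spor.Co2 := ⟨_, octInv_mem⟩

open Cfsg.Agent.H92.CoTwoCent in
/-- The centraliser, transported. -/
noncomputable def centEquiv :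
    ↥(Subgroup.centralizer ({inv2} : Set ↥Cfsg.Spor.Co2)) ≃* ↥cent where
  toFun g := ⟨⟨g.1.1, g.1.2.1⟩, mem_cent.2 ⟨g.1.2.2,
    Subtype.ext (congrArg (fun z : ↥Cfsg.Spor.Co2 => (z : Equiv.Perm leechLattice))
      (Subgroup.mem_centralizer_singleton_iff.1 g.2))⟩⟩
  invFun g := ⟨⟨g.1.1, g.1.2, (mem_cent.1 g.2).1⟩, Subgroup.mem_centralizer_singleton_iff.2
    (Subtype.ext (congrArg (fun z : Co0 => (z : Equiv.Perm leechLattice)) (mem_cent.1 g.2).2))⟩
  left_inv g := rfl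
  right_inv g := rfl
  map_mul' a b := rfl

/-- The Conway group Co₂ (the stabiliser of a minimal vector of the rank-24 lattice) has an involution whose centraliser C has largest normal 2-subgroup extraspecial of order 2^9 with quotient C / O₂(C) isomorphic to the symplectic group Sp(6, 2) (shape 2^{1+8}Sp(6, 2)). -/
theorem result : ∃ t : ↥Cfsg.Spor.Co2, orderOf t = 2 ∧ Cfsg.IsExtraspecial 2 (Cfsg.pCore 2 ↥(Subgroup.centralizer ({t} : Set ↥Cfsg.Spor.Co2))) ∧ Nat.card (Cfsg.pCore 2 ↥(Subgroup.centralizer ({t} : Set ↥Cfsg.Spor.Co2))) = 2 ^ 9 ∧ Nonempty (↥(Subgroup.centralizer ({t} : Set ↥Cfsg.Spor.Co2)) ⧸ Cfsg.pCore 2 ↥(Subgroup.centralizer ({t} : Set ↥Cfsg.Spor.Co2)) ≃* Matrix.symplecticGroup (Fin 3) (ZMod 2)) := by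
  open Cfsg.Agent.H92.CoTwoCent in
  haveI : Finite ↥Co0 := Cfsg.Agent.Golay.finite_co0
  open Cfsg.Agent.H92.CoTwoCent in
  haveI : Finite ↥(Subgroup.centralizer ({inv2} : Set ↥Cfsg.Spor.Co2)) :=
    Finite.of_equiv _ centEquiv.symm.toEquiv
  set φ := Cfsg.Agent.H92.CoTwoCent.rep.comp centEquiv.toMonoidHom with hφdef
  have hsurj : Function.Surjective φ :=
    Cfsg.Agent.H92.CoTwoCent.rep_surjective.comp centEquiv.surjective
  let e : φ.ker ≃* Cfsg.Agent.H92.CoTwoCent.rep.ker :=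
    { toFun := fun x => ⟨centEquiv x.1, x.2⟩
      invFun := fun y => ⟨centEquiv.symm y.1, by
        show Cfsg.Agent.H92.CoTwoCent.rep (centEquiv (centEquiv.symm y.1)) = 1
        rw [MulEquiv.apply_symm_apply]; exact y.2⟩
      left_inv := fun x => Subtype.ext (centEquiv.symm_apply_apply x.1)
      right_inv := fun y => Subtype.ext (centEquiv.apply_symm_apply y.1)
      map_mul' := fun a b => Subtype.ext (map_mul centEquiv a.1 b.1) }
  have hex : Cfsg.IsExtraspecial 2 φ.ker :=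
    Cfsg.Agent.H92.isExtraspecial_of_mulEquiv e.symm Cfsg.Agent.H92.CoTwoCent.isExtraspecial_ker
  have hcore := Cfsg.Agent.H92.CoTwoCent.pCore_eq_ker φ hsurj hex.1.1
  refine ⟨inv2, ?_, ?_, ?_, ?_⟩
  · refine orderOf_eq_prime (p := 2) ?_ ?_
    · exact Subtype.ext (congrArg (fun z : Co0 => (z : Equiv.Perm leechLattice))
        ((pow_two _).trans Cfsg.Agent.H92.CoTwoCent.octInv_sq))
    · intro h
      exact Cfsg.Agent.H92.CoTwoCent.octInv_ne_one
        (Subtype.ext (congrArg (fun z : ↥Cfsg.Spor.Co2 => (z : Equiv.Perm leechLattice)) h))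
  · rw [hcore]; exact hex
  · rw [hcore, Nat.card_congr e.toEquiv, Cfsg.Agent.H92.CoTwoCent.card_ker]; rfl
  · exact ⟨(QuotientGroup.quotientMulEquivOfEq hcore).trans
      (QuotientGroup.quotientKerEquivOfSurjective φ hsurj)⟩

end Cfsg.Agent.S2136
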