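import Cfsg.Statements.S2141
import Cfsg.Agent.Symplectic.MinIndexPlane

set_option autoImplicit false
open Cfsg
open Cfsg.Agent

namespace Cfsg.Agent.S2141

/-- Minimal index of a proper subgroup of the symplectic groups over fields with at least 3 elements: for m ≥ 2 and a field F with q ≥ 3 elements, (m, q) ≠ (2, 3), every proper subgroup of PSp_2m(F) has index at least (q^(2m) − 1)/(q − 1), and that index is attained. -/
theorem result {F : Type*} [Field F] [Fintype F] {q : ℕ} (hF : Fintype.card F = q) (m : ℕ) (hm : 2 ≤ m) (hq : 3 ≤ q) (hexc : ¬ (m = 2 ∧ q = 3)) : (∀ H : Subgroup (Cfsg.PSp m F), H ≠ ⊤ → (q ^ (2 * m) - 1) / (q - 1) ≤ H.index) ∧ (∃ H : Subgroup (Cfsg.PSp m F), H.index = (q ^ (2 * m) - 1) / (q - 1)) := by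
  obtain ⟨k, rfl⟩ : ∃ k, m = k + 1 := ⟨m - 1, by omega⟩
  subst hF
  set G := Matrix.symplecticGroup (Fin (k + 1)) F
  set V := Fin (k + 1) ⊕ Fin (k + 1) → F
  have hN : (Fintype.card F ^ (2 * (k + 1)) - 1) / (Fintype.card F - 1) =
      Nat.card (Projectivization F V) := by
    rw [← Symplectic.MinGen.card_points_mul, Nat.mul_div_cancel _ (by omega)]
  rw [hN]
  constructor
  · intro H hH
    rw [← H.index_comap_of_surjective (QuotientGroup.mk'_surjective _)]
    refine Symplectic.MinGen.index_ge (k := k) rfl (by omega) hq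
      (fun h h' => hexc ⟨by omega, h'⟩) fun h => hH (eq_top_iff.2 fun x _ => ?_)
    obtain ⟨g, rfl⟩ := QuotientGroup.mk'_surjective (Subgroup.center G) x
    exact h.symm.le (Subgroup.mem_top g)
  · have hv : (Symplectic.ev (0 : Fin (k + 1)) : V) ≠ 0 := Symplectic.ev_ne_zero _
    refine ⟨(Symplectic.MinGen.stabP hv).map (QuotientGroup.mk' (Subgroup.center G)), ?_⟩
    rw [Subgroup.index_map_eq _ (QuotientGroup.mk'_surjective _) ?_,
      Symplectic.MinGen.index_stabP]
    rw [QuotientGroup.ker_mk']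
    intro g hg
    obtain ⟨c, hc⟩ := (Symplectic.mem_center_iff g).1 hg
    exact (Symplectic.MinGen.mem_stabP hv g).2
      ⟨c, fun h0 => Symplectic.sp_mulVec_ne_zero g hv (by rw [hc, h0, zero_smul]), hc _⟩

end Cfsg.Agent.S2141
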