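import Cfsg.Statements.S2142
import Cfsg.Agent.Symplectic.MinIndexTwoAttain

set_option autoImplicit false
open Cfsg
open Cfsg.Agent

namespace Cfsg.Agent.S2142

/-- Minimal index of a proper subgroup of the symplectic groups over the field with 2 elements: for m ≥ 3, every proper subgroup of Sp_2m(2) has index at least 2^(m−1)(2^m − 1), and that index is attained. -/
theorem result {F : Type*} [Field F] [Fintype F] (hF : Fintype.card F = 2) (m : ℕ) (hm : 3 ≤ m) : (∀ H : Subgroup (Cfsg.PSp m F), H ≠ ⊤ → 2 ^ (m - 1) * (2 ^ m - 1) ≤ H.index) ∧ (∃ H : Subgroup (Cfsg.PSp m F), H.index = 2 ^ (m - 1) * (2 ^ m - 1)) := by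
  have hc : Nat.card (Subgroup.center (Matrix.symplecticGroup (Fin m) F)) = 1 := by
    rw [Symplectic.card_center (by omega), hF]; rfl
  constructor
  · intro H hH
    rw [← H.index_comap_of_surjective (QuotientGroup.mk'_surjective _)]
    refine Symplectic.MinTwo.index_ge hF hm _ fun h => hH (eq_top_iff.2 fun x _ => ?_)
    obtain ⟨g, rfl⟩ := QuotientGroup.mk'_surjective
      (Subgroup.center (Matrix.symplecticGroup (Fin m) F)) x
    exact h.symm.le (Subgroup.mem_top g)
  · obtain ⟨H, hH⟩ := Symplectic.MinTwo.exists_index (m := m) hF (by omega)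
    refine ⟨H.map (QuotientGroup.mk' _), ?_⟩
    rw [Subgroup.index_map_of_bijective ⟨(MonoidHom.ker_eq_bot_iff _).1 (by
      rw [QuotientGroup.ker_mk']; exact Subgroup.eq_bot_of_card_eq _ hc),
      QuotientGroup.mk'_surjective _⟩, hH]

end Cfsg.Agent.S2142
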