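import Cfsg.Statements.S2143
import Cfsg.Agent.H53.OmIdx.Odd
import Cfsg.Agent.Orthogonal.StdForms

set_option autoImplicit false
open Cfsg

namespace Cfsg.Agent.S2143

open Module Cfsg.Agent.Orthogonal Cfsg.Agent.H53.OmLow Cfsg.Agent.H53.OmIdx

/-- Minimal index of a proper subgroup of the odd-dimensional orthogonal groups: for m ≥ 3 and a field F with q elements, q odd and q ≥ 5, every proper subgroup of PΩ_(2m+1)(F) (for the form x₀² + Σ xᵢyᵢ) has index at least (q^(2m) − 1)/(q − 1), and that index is attained. -/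
theorem result {F : Type*} [Field F] [Fintype F] {q : ℕ} (hF : Fintype.card F = q) (hodd : Odd q) (h5 : 5 ≤ q) (m : ℕ) (hm : 3 ≤ m) : (∀ H : Subgroup (Cfsg.POmega F (Cfsg.quadFormOdd m F)), H ≠ ⊤ → (q ^ (2 * m) - 1) / (q - 1) ≤ H.index) ∧ (∃ H : Subgroup (Cfsg.POmega F (Cfsg.quadFormOdd m F)), H.index = (q ^ (2 * m) - 1) / (q - 1)) := by
  obtain ⟨k, rfl⟩ : ∃ k, m = k + 3 := ⟨m - 3, by omega⟩
  have h2 : (2 : F) ≠ 0 := by
    refine Ring.two_ne_zero fun h => ?_
    have h4 := FiniteField.even_card_iff_char_two.1 h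
    rw [hF] at h4
    rw [Nat.odd_iff] at hodd
    omega
  set Q := formOdd F (k + 3)
  have hQ : Nondeg Q := formOdd_nondeg F (k + 3) h2
  have hn := finrank_formOdd F (k + 3)
  have hf := formOdd_frame F (k + 3)
  have hT : HasType Q (k + 3) 1 :=
    ⟨_, _, hf, formOdd_aniso F (k + 3), by
      have := hf.finrank_kernel (Q := Q) hQ
      omega⟩
  have hz := zc_zero hT
  rw [← card_pt (Q := Q), Nat.card_eq_fintype_card (α := F), hF] at hz
  have hP : (q ^ (2 * (k + 3)) - 1) / (q - 1) = Nat.card (Pt Q) := by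
    refine Nat.div_eq_of_eq_mul_left (by omega) ?_
    have h' : (q - 1) * Nat.card (Pt Q) + 1 = q ^ (2 * (k + 3)) := by
      refine Nat.eq_of_mul_eq_mul_left (show 0 < q by omega) ?_
      rw [pow_succ' q (2 * (k + 3))] at hz
      omega
    rw [← h', Nat.add_sub_cancel, mul_comm]
  rw [hP]
  exact pomega_min_index Q hQ (by omega) fun H hH =>
    odd_index hQ (by rw [Nat.card_eq_fintype_card, hF]; omega) h2 hT H hH

end Cfsg.Agent.S2143
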