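import Cfsg.Statements.S2144
import Cfsg.Agent.H72.OmMin.Final

set_option autoImplicit false
open Cfsg

namespace Cfsg.Agent.S2144

open Cfsg.Agent.Orthogonal Cfsg.Agent.H72.OmMin Cfsg.Agent.H53.OmLow

/-- Minimal index of a proper subgroup of the odd-dimensional orthogonal groups over the field with 3 elements: for m ≥ 3, every proper subgroup of PΩ_(2m+1)(3) (for the form x₀² + Σ xᵢyᵢ) has index at least 3^m(3^m − 1)/2, and that index is attained. -/
theorem result {F : Type*} [Field F] [Fintype F] (hF : Fintype.card F = 3) (m : ℕ) (hm : 3 ≤ m) : (∀ H : Subgroup (Cfsg.POmega F (Cfsg.quadFormOdd m F)), H ≠ ⊤ → 3 ^ m * (3 ^ m - 1) / 2 ≤ H.index) ∧ (∃ H : Subgroup (Cfsg.POmega F (Cfsg.quadFormOdd m F)), H.index = 3 ^ m * (3 ^ m - 1) / 2) := by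
  obtain ⟨d, rfl⟩ : ∃ d, m = d + 1 := ⟨m - 1, by omega⟩
  have hq : Nat.card F = 3 := by rw [Nat.card_eq_fintype_card, hF]
  have h2 := two_ne_zero_of_card hq
  set Q := formOdd F (d + 1) with hQdef
  have hQ : Nondeg Q := formOdd_nondeg F (d + 1) h2
  have hn := finrank_formOdd F (d + 1)
  have hf := formOdd_frame F (d + 1)
  have hT : HasType Q (d + 1) 1 :=
    ⟨_, _, hf, formOdd_aniso F (d + 1), by
      have := hf.finrank_kernel (Q := Q) hQ
      omega⟩
  have hc := card_center_omega_eq_one hQ (by omega) (fun g hg hgm => by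
    have hdet := det_eq_one_of_mem_omega g hg
    rw [hgm, Matrix.det_neg, Matrix.det_one, mul_one] at hdet
    have hodd : Odd (Fintype.card (Unit ⊕ (Fin (d + 1) ⊕ Fin (d + 1)))) :=
      ⟨d + 1, by simp; omega⟩
    rw [hodd.neg_one_pow] at hdet
    exact absurd (by linear_combination -hdet) h2)
  obtain ⟨e⟩ := exists_equiv Q hQ (by omega) hc
  obtain ⟨h1, H, hH⟩ := main Q hQ (d := d) (d0 := 1) (Or.inr ⟨hq, rfl, by omega⟩) hT e
  have eb : bnd (Nat.card F) d 1 = 3 ^ (d + 1) * (3 ^ (d + 1) - 1) := by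
    rw [bnd, hq, mul_comm]
  rw [eb, hq, show 3 - 1 = 2 from rfl] at h1 hH
  refine ⟨fun H hH => ?_, H, ?_⟩
  · exact Nat.div_le_of_le_mul (by rw [mul_comm 2]; exact h1 H hH)
  · exact (Nat.mul_div_cancel _ two_pos).symm.trans (congrArg (· / 2) hH)

end Cfsg.Agent.S2144
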