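import Cfsg.Statements.S2145
import Cfsg.Agent.H53.OmIdx.Plus
import Cfsg.Agent.Orthogonal.StdForms

set_option autoImplicit false
open Cfsg

namespace Cfsg.Agent.S2145

open Module Cfsg.Agent.Orthogonal Cfsg.Agent.H53.OmLow Cfsg.Agent.H53.OmIdx

/-- Minimal index of a proper subgroup of the even-dimensional orthogonal groups of plus type: for m ≥ 4 and a field F with q ≥ 4 elements, every proper subgroup of PΩ⁺_2m(F) (for the form Σ xᵢyᵢ) has index at least (q^m − 1)(q^(m−1) + 1)/(q − 1), and that index is attained (the singular points). -/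
theorem result {F : Type*} [Field F] [Fintype F] {q : ℕ} (hF : Fintype.card F = q) (hq : 4 ≤ q) (m : ℕ) (hm : 4 ≤ m) : (∀ H : Subgroup (Cfsg.POmega F (Cfsg.quadFormPlus m F)), H ≠ ⊤ → (q ^ m - 1) * (q ^ (m - 1) + 1) / (q - 1) ≤ H.index) ∧ (∃ H : Subgroup (Cfsg.POmega F (Cfsg.quadFormPlus m F)), H.index = (q ^ m - 1) * (q ^ (m - 1) + 1) / (q - 1)) := by
  obtain ⟨k, rfl⟩ : ∃ k, m = k + 4 := ⟨m - 4, by omega⟩
  set Q := formPlus F (k + 4)
  have hQ : Nondeg Q := formPlus_nondeg F (k + 4)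
  have hn := finrank_formPlus F (k + 4)
  have hf := formPlus_frame F (k + 4)
  have hT : HasType Q (k + 4) 0 :=
    ⟨_, _, hf, formPlus_aniso F (k + 4), by
      have := hf.finrank_kernel (Q := Q) hQ
      omega⟩
  have hz := zc_zero hT
  rw [← card_pt (Q := Q), Nat.card_eq_fintype_card (α := F), hF] at hz
  have hP : (q ^ (k + 4) - 1) * (q ^ (k + 4 - 1) + 1) / (q - 1) = Nat.card (Pt Q) := by
    refine Nat.div_eq_of_eq_mul_left (by omega) ?_
    rw [show k + 4 - 1 = k + 3 by omega]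
    refine Nat.eq_of_mul_eq_mul_left (show 0 < q by omega) ?_
    obtain ⟨t, ht⟩ : ∃ t, q ^ (k + 4) = t + 1 :=
      ⟨q ^ (k + 4) - 1, by have := Nat.one_le_pow (k + 4) q (by omega); omega⟩
    rw [show q ^ (2 * (k + 4) + 0) = (t + 1) * (t + 1) by rw [← ht]; ring,
      show q ^ (k + 4 + 1) = q * (t + 1) by rw [← ht]; ring,
      show q ^ (k + 4 + 0) = t + 1 from ht] at hz
    rw [ht, Nat.add_sub_cancel,
      show q * (t * (q ^ (k + 3) + 1)) = t * (q ^ (k + 4) + q) by ring, ht]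
    linarith [hz]
  rw [hP]
  exact pomega_min_index Q hQ (by omega) fun H hH =>
    plus_index hQ (by rw [Nat.card_eq_fintype_card, hF]; omega) hT H hH

end Cfsg.Agent.S2145
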