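import Cfsg.Statements.S2146
import Cfsg.Agent.H72.OmMin.Final

set_option autoImplicit false
open Cfsg

namespace Cfsg.Agent.S2146

open Cfsg.Agent.Orthogonal Cfsg.Agent.H72.OmMin Cfsg.Agent.H53.OmLow

/-- Minimal index of a proper subgroup of the even-dimensional orthogonal groups of plus type over the field with 2 elements: for m ≥ 4, every proper subgroup of Ω⁺_2m(2) (for the form Σ xᵢyᵢ) has index at least 2^(m−1)(2^m − 1), and that index is attained. -/
theorem result {F : Type*} [Field F] [Fintype F] (hF : Fintype.card F = 2) (m : ℕ) (hm : 4 ≤ m) : (∀ H : Subgroup (Cfsg.POmega F (Cfsg.quadFormPlus m F)), H ≠ ⊤ → 2 ^ (m - 1) * (2 ^ m - 1) ≤ H.index) ∧ (∃ H : Subgroup (Cfsg.POmega F (Cfsg.quadFormPlus m F)), H.index = 2 ^ (m - 1) * (2 ^ m - 1)) := by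
  obtain ⟨d, rfl⟩ : ∃ d, m = d + 1 := ⟨m - 1, by omega⟩
  set Q := formPlus F (d + 1) with hQdef
  have hq : Nat.card F = 2 := by rw [Nat.card_eq_fintype_card, hF]
  have hQ : Nondeg Q := formPlus_nondeg F (d + 1)
  have hn := finrank_formPlus F (d + 1)
  have hf := formPlus_frame F (d + 1)
  have hT : HasType Q (d + 1) 0 :=
    ⟨_, _, hf, formPlus_aniso F (d + 1), by
      have := hf.finrank_kernel (Q := Q) hQ
      omega⟩
  have h2 := two_eq_zero_of_card hq
  have hc := card_center_omega_eq_one hQ (by omega) (fun g _ _ => by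
    ext i j
    rw [Matrix.neg_apply]
    linear_combination (-(1 : Matrix _ _ F) i j) * h2)
  obtain ⟨e⟩ := exists_equiv Q hQ (by omega) hc
  obtain ⟨h1, H, hH⟩ := main Q hQ (d := d) (d0 := 0) (Or.inl ⟨hq, rfl, by omega⟩) hT e
  have eb : bnd (Nat.card F) d 0 = 2 ^ (d + 1 - 1) * (2 ^ (d + 1) - 1) := by
    rw [bnd, hq, Nat.add_sub_cancel, add_zero, mul_comm]
  rw [eb, hq, show 2 - 1 = 1 from rfl] at h1 hH
  exact ⟨fun H hH => (h1 H hH).trans (mul_one _).le, H, (mul_one _).symm.trans hH⟩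

end Cfsg.Agent.S2146
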