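import Cfsg.Statements.S2147
import Cfsg.Agent.H53.OmIdx.Minus
import Cfsg.Agent.Orthogonal.StdForms

set_option autoImplicit false
open Cfsg

namespace Cfsg.Agent.S2147

open Module Cfsg.Agent.Orthogonal Cfsg.Agent.H53.OmLow Cfsg.Agent.H53.OmIdx

/-- Minimal index of a proper subgroup of the even-dimensional orthogonal groups of minus type: for m ≥ 4 and a field F with q elements, every proper subgroup of PΩ⁻_2m(F) (for the form Σ_{i<m−1} xᵢyᵢ + z₁² + a z₁z₂ + b z₂² with anisotropic binary part) has index at least (q^m + 1)(q^(m−1) − 1)/(q − 1), and that index is attained. -/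
theorem result {F : Type*} [Field F] [Fintype F] {q : ℕ} (hF : Fintype.card F = q) (m : ℕ) (hm : 4 ≤ m) (a b : F) (hab : ∀ z₁ z₂ : F, z₁ ^ 2 + a * z₁ * z₂ + b * z₂ ^ 2 = 0 → z₁ = 0 ∧ z₂ = 0) : (∀ H : Subgroup (Cfsg.POmega F (Cfsg.quadFormMinus (m - 1) F a b)), H ≠ ⊤ → (q ^ m + 1) * (q ^ (m - 1) - 1) / (q - 1) ≤ H.index) ∧ (∃ H : Subgroup (Cfsg.POmega F (Cfsg.quadFormMinus (m - 1) F a b)), H.index = (q ^ m + 1) * (q ^ (m - 1) - 1) / (q - 1)) := by
  obtain ⟨k, rfl⟩ : ∃ k, m = k + 4 := ⟨m - 4, by omega⟩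
  rw [show k + 4 - 1 = k + 3 from rfl]
  set Q := formMinus F (k + 3) a b
  have hQ : Nondeg Q := formMinus_nondeg (k + 3) hab
  have hn := finrank_formMinus F (k + 3)
  have hf := formMinus_frame F (k + 3) a b
  have hT : HasType Q (k + 3) 2 :=
    ⟨_, _, hf, formMinus_aniso F (k + 3) hab, by
      have := hf.finrank_kernel (Q := Q) hQ
      omega⟩
  have hz := zc_zero hT
  rw [← card_pt (Q := Q), Nat.card_eq_fintype_card (α := F), hF] at hz
  have hq : 2 ≤ q := hF ▸ Fintype.one_lt_card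
  have hP : (q ^ (k + 4) + 1) * (q ^ (k + 3) - 1) / (q - 1) = Nat.card (Pt Q) := by
    refine Nat.div_eq_of_eq_mul_left (by omega) ?_
    obtain ⟨r, rfl⟩ : ∃ r, q = r + 1 := ⟨q - 1, by omega⟩
    rw [Nat.add_sub_cancel] at hz ⊢
    refine Nat.eq_of_mul_eq_mul_left r.succ_pos ?_
    obtain ⟨t, ht⟩ : ∃ t, (r + 1) ^ (k + 3) = t + 1 :=
      ⟨(r + 1) ^ (k + 3) - 1, by have := Nat.one_le_pow (k + 3) (r + 1) r.succ_pos; omega⟩
    rw [show (r + 1) ^ (2 * (k + 3) + 2) = (r + 1) ^ 2 * (t + 1) ^ 2 by rw [← ht]; ring,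
      show (r + 1) ^ (k + 3 + 2) = (r + 1) ^ 2 * (t + 1) by rw [← ht]; ring,
      show (r + 1) ^ (k + 3 + 1) = (r + 1) * (t + 1) by rw [← ht]; ring] at hz
    rw [show k + 4 = k + 3 + 1 from rfl, pow_succ, ht, Nat.add_sub_cancel, Nat.succ_eq_add_one]
    linarith [hz]
  rw [hP]
  exact pomega_min_index Q hQ (by omega) fun H hH => minus_index hQ hT H hH

end Cfsg.Agent.S2147
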