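import Cfsg.Statements.S2149
import Cfsg.Agent.H72.PSUThree.Seven

set_option autoImplicit false
open Cfsg

namespace Cfsg.Agent.S2149

/-- Minimal index of a proper subgroup of PSU₃(5), realised over the field with 25 elements: every proper subgroup has index at least 50, and that index is attained. -/
theorem result {F : Type*} [Field F] [Fintype F] (hF : Fintype.card F = 25) : (∀ H : Subgroup (Cfsg.PSU 3 F 5), H ≠ ⊤ → 50 ≤ H.index) ∧ (∃ H : Subgroup (Cfsg.PSU 3 F 5), H.index = 50) := by
  have hF' : Fintype.card F = 5 ^ 2 := by rw [hF]; norm_num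
  have bound : ∀ H : Subgroup (Cfsg.PSU 3 F 5), H ≠ ⊤ → 50 ≤ H.index := by
    intro H hH
    rcases H72.PSUThree.index_psu_cases hF' (by norm_num) H hH with h | ⟨-, h⟩
    · norm_num at h
      omega
    · exact h
  refine ⟨bound, ?_⟩
  have : Fact (Nat.Prime 5) := ⟨by norm_num⟩
  have : CharP F 5 := charP_of_card_eq_prime_pow (f := 2) (p := 5) (by rw [hF]; norm_num)
  obtain ⟨H, hgood, hle⟩ := H72.PSUThree.Seven.exists_good hF'
  refine ⟨H.map (QuotientGroup.mk' _), ?_⟩
  rw [Subgroup.index_map_eq _ (QuotientGroup.mk'_surjective _)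
    (by rw [QuotientGroup.ker_mk']; exact hgood.center_le)]
  exact le_antisymm hle (H72.PSUThree.Good.main hF' H (by norm_num) hgood).2

end Cfsg.Agent.S2149
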