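import Cfsg.Statements.S2150
import Cfsg.Agent.H52.U4MinIndex

set_option autoImplicit false
open Cfsg

namespace Cfsg.Agent.S2150

/-- Minimal index of a proper subgroup of the four-dimensional unitary groups: for a field F with q² elements, every proper subgroup of PSU₄(q) has index at least (q + 1)(q³ + 1), and that index is attained. -/
theorem result {F : Type*} [Field F] [Fintype F] (q : ℕ) (hF : Fintype.card F = q ^ 2) (hq : 2 ≤ q) : (∀ H : Subgroup (Cfsg.PSU 4 F q), H ≠ ⊤ → (q + 1) * (q ^ 3 + 1) ≤ H.index) ∧ (∃ H : Subgroup (Cfsg.PSU 4 F q), H.index = (q + 1) * (q ^ 3 + 1)) := by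
  constructor
  · intro H hH
    rw [← H.index_comap_of_surjective (QuotientGroup.mk'_surjective _)]
    refine H52.U4.index_ge hF _ fun h => hH ?_
    refine Subgroup.comap_injective (QuotientGroup.mk'_surjective _) ?_
    rw [h, Subgroup.comap_top]
  · obtain ⟨H, hc, hH⟩ := H52.U4.exists_index_eq (F := F) hF
    refine ⟨H.map (QuotientGroup.mk' _), ?_⟩
    rw [Subgroup.index_map, QuotientGroup.ker_mk', sup_eq_left.2 hc,
      MonoidHom.range_eq_top.2 (QuotientGroup.mk'_surjective _), Subgroup.index_top, mul_one, hH]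

end Cfsg.Agent.S2150
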