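import Cfsg.Statements.S2155
import Cfsg.Agent.H51.ParabolicCent
import Cfsg.Agent.H37.Chev.All
import Cfsg.Agent.Components.PLocal

set_option autoImplicit false
open Cfsg

namespace Cfsg.Agent.S2155

/-- In a Chevalley group of type G₂, B₂, D₄, F₄, E₆, E₇ or E₈ over a finite field of characteristic p (for types G₂ and B₂ the field is assumed to have at least 3 elements, so that the group is simple), the generalized Fitting subgroup of every proper standard parabolic subgroup P_J is a p-group (P_J is p-constrained with trivial largest normal subgroup of order prime to p). -/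
theorem result {F : Type*} [Field F] [Fintype F] (p : ℕ) [Fact p.Prime] [CharP F p] (D : Cfsg.Lie.ChevalleyDatum) (hD : D ∈ [Cfsg.Lie.chevG2, Cfsg.Lie.chevB2, Cfsg.Lie.chevD4, Cfsg.Lie.chevF4, Cfsg.Lie.chevE6, Cfsg.Lie.chevE7, Cfsg.Lie.chevE8]) (hq : (D = Cfsg.Lie.chevG2 ∨ D = Cfsg.Lie.chevB2) → 3 ≤ Fintype.card F) (J : Set ℕ) (hJ : ∃ i, i < D.rank ∧ i ∉ J) : IsPGroup p ↥(Cfsg.generalizedFittingSubgroup ↥(D.parabolicSubgroup F J)) := by
  obtain ⟨Q, hS⟩ := Agent.H37.Chev.exists_data hD F
  set P := D.parabolicSubgroup F J with hP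
  have hle : D.unipotentRadical F J ≤ P :=
    le_trans (Q.radical_le_pos hS) (le_trans le_sup_left le_sup_left)
  set R : Subgroup ↥P := (D.unipotentRadical F J).subgroupOf P with hR
  have hRn : R.Normal := (Subgroup.normal_subgroupOf_iff_le_normalizer hle).2
    (Q.parabolic_le_normalizer hS)
  have hPG : P ≤ D.group F := by
    refine sup_le (Agent.H37.borel_le_group Q.ord) ((Subgroup.closure_le _).2 ?_)
    rintro g ⟨j, -, hj, hg⟩
    rw [show g = Q.K.nS F j from Units.ext (hg.trans (Q.K.coe_nU F _ _).symm)]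
    exact (Agent.H37.RootSys.nG Q.K F j).2
  have hpU : IsPGroup p ↥(D.posUnipotent F) := by
    have h := H51.isPGroup_U (p := p) Q
    rw [show Q.sys.U = (D.posUnipotent F).subgroupOf (D.group F) from Q.amb_U] at h
    exact h.of_equiv (Subgroup.subgroupOfEquivOfLe Agent.H37.posUnipotent_le_group)
  have hsmall : ∀ K : Subgroup ↥P, (∀ x ∈ K, (x : GL D.Idx F) ∈ D.posUnipotent F) →
      IsPGroup p ↥K := fun K hK =>
    hpU.of_injective ({ toFun := fun x => ⟨((x : ↥P) : GL D.Idx F), hK x.1 x.2⟩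
                        map_one' := rfl, map_mul' := fun _ _ => rfl } : ↥K →* ↥(D.posUnipotent F))
      fun a b h => Subtype.ext (Subtype.ext (congrArg (fun z : ↥(D.posUnipotent F) =>
        (z : GL D.Idx F)) h))
  have hCR : ∀ x ∈ Subgroup.centralizer (R : Set ↥P), (x : GL D.Idx F) ∈ D.posUnipotent F := by
    intro x hx
    have hmem := H51.PC.centralizer_le_U (p := p) Q hS (H51.PC.linkB_of_mem hD) hJ
      (g := ⟨x, hPG x.2⟩) x.2 fun r hr hp ho t => by
        have hxR : Q.K.xU F r t ∈ D.unipotentRadical F J :=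
          Subgroup.subset_closure ⟨r, t, (Q.ord.isPosRoot_iff r).2 ⟨hr, hp⟩, ho, rfl⟩
        exact Subtype.ext (congrArg Subtype.val
          (Subgroup.mem_centralizer_iff.1 hx ⟨_, hle hxR⟩ (Subgroup.mem_subgroupOf.2 hxR))).symm
    rw [show Q.sys.U = (D.posUnipotent F).subgroupOf (D.group F) from Q.amb_U] at hmem
    exact Subgroup.mem_subgroupOf.1 hmem
  have hRp : IsPGroup p ↥R := hsmall R fun x hx => Q.radical_le_pos hS (Subgroup.mem_subgroupOf.1 hx)
  have hC : Subgroup.centralizer (Cfsg.pCore p ↥P : Set ↥P) ≤ Cfsg.pCore p ↥P :=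
    (Subgroup.centralizer_le (Agent.Cores.le_pCore hRp)).trans
      (Agent.Cores.le_pCore (hsmall _ hCR))
  rw [Agent.Components.genFitting_eq_pCore_iff.2 hC]
  exact Agent.Cores.pCore_isPGroup

end Cfsg.Agent.S2155
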