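import Cfsg.Statements.S2162

set_option autoImplicit false
open Cfsg

namespace Cfsg.Agent.S2162

open Module in
/-- normal form of a square-zero endomorphism -/
theorem exists_basis_square_zero {F V : Type*} [Field F] [AddCommGroup V] [Module F V]
    [FiniteDimensional F V] (f : V →ₗ[F] V) (hf : ∀ v, f (f v) = 0) (ℓ : ℕ)
    (hℓ : finrank F (LinearMap.range f) = ℓ) :
    ∃ b : Basis ((Fin ℓ ⊕ Fin ℓ) ⊕ Fin (finrank F V - 2 * ℓ)) F V,
      (∀ i, f (b (Sum.inl (Sum.inl i))) = b (Sum.inl (Sum.inr i))) ∧
      (∀ i, f (b (Sum.inl (Sum.inr i))) = 0) ∧ (∀ j, f (b (Sum.inr j)) = 0) := by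
  classical
  obtain ⟨W, hW⟩ := Submodule.exists_isCompl (LinearMap.ker f)
  set K := LinearMap.ker f with hK
  set R : Submodule F K := (LinearMap.range f).comap K.subtype with hR
  obtain ⟨C, hC⟩ := Submodule.exists_isCompl R
  have hrk := LinearMap.finrank_range_add_finrank_ker f
  have hRle : LinearMap.range f ≤ K := by
    rintro _ ⟨v, rfl⟩; exact hf v
  have hRdim : finrank F R = ℓ := by
    rw [hR, (Submodule.comapSubtypeEquivOfLe hRle).finrank_eq, hℓ]
  have hCdim : finrank F C = finrank F V - 2 * ℓ := by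
    have h := Submodule.finrank_add_eq_of_isCompl hC
    rw [hRdim] at h
    rw [← hK, hℓ] at hrk
    omega
  have hWdim : finrank F W = ℓ := by
    have h := Submodule.finrank_add_eq_of_isCompl hW
    rw [← hK, hℓ] at hrk
    omega
  let w := Module.finBasisOfFinrankEq F W hWdim
  let c := Module.finBasisOfFinrankEq F C hCdim
  let fam : (Fin ℓ ⊕ Fin ℓ) ⊕ Fin (finrank F V - 2 * ℓ) → V :=
    Sum.elim (Sum.elim (fun i => (w i : V)) (fun i => f (w i : V))) (fun j => ((c j : K) : V))
  have hli : LinearIndependent F fam := by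
    rw [Fintype.linearIndependent_iff]
    intro a ha
    simp only [fam, Fintype.sum_sum_type, Sum.elim_inl, Sum.elim_inr] at ha
    set x : W := ∑ i, a (Sum.inl (Sum.inl i)) • w i with hx
    set z : C := ∑ j, a (Sum.inr j) • c j with hz
    set y : W := ∑ i, a (Sum.inl (Sum.inr i)) • w i with hy
    have ha' : (x : V) + f (y : V) + ((z : K) : V) = 0 := by
      simpa [hx, hy, hz] using ha
    have hxK : (x : V) ∈ K := by
      have h := congrArg f ha'
      simp only [map_add, map_zero, hf] at h
      rw [show f ((z : K) : V) = 0 from (z : K).2] at h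
      simpa [hK] using h
    have hx0 : x = 0 := by
      have := Submodule.disjoint_def.1 hW.disjoint _ hxK x.2
      exact Subtype.ext this
    rw [hx0, Submodule.coe_zero, zero_add] at ha'
    have hzR : (z : K) ∈ R := by
      rw [hR, Submodule.mem_comap]
      refine ⟨-(y : V), ?_⟩
      rw [map_neg, neg_eq_iff_add_eq_zero]
      exact ha'
    have hz0 : (z : K) = 0 := Submodule.disjoint_def.1 hC.disjoint _ hzR z.2
    rw [hz0, Submodule.coe_zero, add_zero] at ha'
    have hy0 : y = 0 := by
      have := Submodule.disjoint_def.1 hW.disjoint _ (show (y : V) ∈ K from ha') y.2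
      exact Subtype.ext this
    rintro ((i | i) | j)
    · exact Fintype.linearIndependent_iff.1 w.linearIndependent _ hx0 i
    · exact Fintype.linearIndependent_iff.1 w.linearIndependent _ hy0 i
    · exact Fintype.linearIndependent_iff.1 c.linearIndependent _ (Subtype.ext hz0) j
  have hcard : Fintype.card ((Fin ℓ ⊕ Fin ℓ) ⊕ Fin (finrank F V - 2 * ℓ)) = finrank F V := by
    have h1 := hli.fintype_card_le_finrank
    simp only [Fintype.card_sum, Fintype.card_fin] at h1 ⊢
    omega
  have hspan : ⊤ ≤ Submodule.span F (Set.range fam) := by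
    rw [hli.span_eq_top_of_card_eq_finrank' hcard]
  refine ⟨Basis.mk hli hspan, fun i => ?_, fun i => ?_, fun j => ?_⟩
  · simp [fam]
  · simp [fam, hf]
  · simp only [Basis.coe_mk, fam, Sum.elim_inr]
    exact (c j : K).2

open Module in
/-- square-zero endomorphisms of equal rank are conjugate by an automorphism of determinant one
over a finite field of characteristic two -/
theorem exists_det_one_conj {F V : Type*} [Field F] [Finite F] [CharP F 2] [AddCommGroup V] [Module F V]
    [FiniteDimensional F V] (f f' : V →ₗ[F] V) (hf : ∀ v, f (f v) = 0) (hf' : ∀ v, f' (f' v) = 0)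
    (h : finrank F (LinearMap.range f) = finrank F (LinearMap.range f')) (h0 : f ≠ 0) :
    ∃ g : V →ₗ[F] V, LinearMap.det g = 1 ∧ g ∘ₗ f = f' ∘ₗ g := by
  classical
  set ℓ := finrank F (LinearMap.range f) with hℓ
  obtain ⟨b, b1, b2, b3⟩ := exists_basis_square_zero f hf ℓ rfl
  obtain ⟨b', b1', b2', b3'⟩ := exists_basis_square_zero f' hf' ℓ h.symm
  have hpos : 0 < ℓ := by
    rcases Nat.eq_zero_or_pos ℓ with h' | h'
    · exact absurd (LinearMap.range_eq_bot.1 (Submodule.finrank_eq_zero.1 h')) h0
    · exact h'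
  have hdet : b.det b' ≠ 0 := (b.isUnit_det b').ne_zero
  have hfrob : Function.Surjective (fun x : F => x ^ 2) :=
    Finite.injective_iff_surjective.1 fun x y h => CharTwo.sq_injective h
  obtain ⟨c, hc⟩ := hfrob (b.det b')⁻¹
  have hc' : c ^ 2 = (b.det b')⁻¹ := hc
  let w : (Fin ℓ ⊕ Fin ℓ) ⊕ Fin (finrank F V - 2 * ℓ) → F :=
    Sum.elim (Sum.elim (fun i => if i.val = 0 then c else 1) (fun i => if i.val = 0 then c else 1))
      (fun _ => 1)
  let g : V →ₗ[F] V := b.constr F (fun i => w i • b' i)
  have hg : ∀ i, g (b i) = w i • b' i := fun i => b.constr_basis F _ i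
  refine ⟨g, ?_, ?_⟩
  · have h1 := b.det_comp g b
    have h2 : (g ∘ b) = fun i => w i • b' i := funext hg
    rw [h2, b.det_self, mul_one, AlternatingMap.map_smul_univ, smul_eq_mul] at h1
    rw [← h1]
    have hp : ∏ i, w i = c ^ 2 := by
      simp only [w, Fintype.prod_sum_type, Sum.elim_inl, Sum.elim_inr, Finset.prod_const_one, mul_one]
      rw [Finset.prod_eq_single (⟨0, hpos⟩ : Fin ℓ)]
      · simp [pow_two]
      · intro i _ hi
        rw [if_neg fun e => hi (Fin.ext e)]
      · simp
    rw [hp, hc', inv_mul_cancel₀ hdet]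
  · refine b.ext fun i => ?_
    simp only [LinearMap.comp_apply, hg, map_smul]
    rcases i with (i | i) | j
    · rw [b1, hg, b1']
      simp [w]
    · rw [b2, map_zero, b2', smul_zero]
    · rw [b3, map_zero, b3', smul_zero]


/-- Conjugacy of involutions in the special linear group over a finite field of characteristic two, in dimension at least 3: two elements of order 2 of SL_n(F) are conjugate in SL_n(F) exactly when the matrices a − 1 and b − 1 have the same rank (the rank of a − 1 is the dimension of the commutator space [V, a]). -/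
theorem result {F : Type*} [Field F] [Fintype F] [CharP F 2] {n : ℕ} (hn : 3 ≤ n) (a b : Matrix.SpecialLinearGroup (Fin n) F) (ha : orderOf a = 2) (hb : orderOf b = 2) :
    IsConj a b ↔ ((a : Matrix (Fin n) (Fin n) F) - 1).rank = ((b : Matrix (Fin n) (Fin n) F) - 1).rank := by
  constructor
  · rw [isConj_iff]
    rintro ⟨g, hg⟩
    have hG : ((g : Matrix (Fin n) (Fin n) F)) * a * (g⁻¹ : Matrix.SpecialLinearGroup (Fin n) F) = b := by
      rw [← hg]; simp [Matrix.SpecialLinearGroup.coe_mul]
    have h1 : (g : Matrix (Fin n) (Fin n) F) * ((g⁻¹ : Matrix.SpecialLinearGroup (Fin n) F) : Matrix (Fin n) (Fin n) F) = 1 := by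
      rw [← Matrix.SpecialLinearGroup.coe_mul, mul_inv_cancel, Matrix.SpecialLinearGroup.coe_one]
    have h2 : ((b : Matrix (Fin n) (Fin n) F) - 1) = (g : Matrix (Fin n) (Fin n) F) * ((a : Matrix (Fin n) (Fin n) F) - 1) * ((g⁻¹ : Matrix.SpecialLinearGroup (Fin n) F) : Matrix (Fin n) (Fin n) F) := by
      rw [Matrix.mul_sub, Matrix.sub_mul, Matrix.mul_one, h1, hG]
    rw [h2, Matrix.rank_mul_eq_left_of_isUnit_det, Matrix.rank_mul_eq_right_of_isUnit_det]
    · rw [Matrix.SpecialLinearGroup.det_coe]; exact isUnit_one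
    · rw [Matrix.SpecialLinearGroup.det_coe]; exact isUnit_one
  · intro hr
    have hsq : ∀ c : Matrix.SpecialLinearGroup (Fin n) F, orderOf c = 2 →
        (∀ v, Matrix.toLin' ((c : Matrix (Fin n) (Fin n) F) - 1) (Matrix.toLin' ((c : Matrix (Fin n) (Fin n) F) - 1) v) = 0) := by
      intro c hc v
      have h := congrArg Subtype.val (show c * c = 1 by rw [← pow_two, ← hc]; exact pow_orderOf_eq_one c)
      simp only [Matrix.SpecialLinearGroup.coe_mul, Matrix.SpecialLinearGroup.coe_one] at h
      have hz : ((c : Matrix (Fin n) (Fin n) F) - 1) * ((c : Matrix (Fin n) (Fin n) F) - 1) = 0 := by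
        rw [sub_mul, mul_sub, mul_sub, h, one_mul, mul_one, mul_one, ← sub_add, sub_sub]
        ext i j
        simp only [Matrix.sub_apply, Matrix.add_apply, Matrix.zero_apply, CharTwo.sub_eq_add, CharTwo.add_self_eq_zero, zero_add, add_zero]
      rw [← LinearMap.comp_apply, ← Matrix.toLin'_mul, hz, map_zero, LinearMap.zero_apply]
    have hne : Matrix.toLin' ((a : Matrix (Fin n) (Fin n) F) - 1) ≠ 0 := by
      intro h
      have h' := sub_eq_zero.1 (Matrix.toLin'.map_eq_zero_iff.1 h)
      have : a = 1 := Subtype.ext h'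
      rw [this, orderOf_one] at ha
      omega
    obtain ⟨g, hdet, hg⟩ := exists_det_one_conj _ _ (hsq a ha) (hsq b hb)
      (by rw [Matrix.toLin'_apply', Matrix.toLin'_apply']; exact hr) hne
    rw [isConj_iff]
    obtain ⟨G, hG⟩ : ∃ G : Matrix.SpecialLinearGroup (Fin n) F, (G : Matrix (Fin n) (Fin n) F) = LinearMap.toMatrix' g :=
      ⟨⟨LinearMap.toMatrix' g, by rw [LinearMap.det_toMatrix', hdet]⟩, rfl⟩
    refine ⟨G, ?_⟩
    rw [mul_inv_eq_iff_eq_mul]
    refine Subtype.ext ?_
    have h2 := congrArg LinearMap.toMatrix' hg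
    rw [LinearMap.toMatrix'_comp, LinearMap.toMatrix'_comp, LinearMap.toMatrix'_toLin',
      LinearMap.toMatrix'_toLin', Matrix.mul_sub, Matrix.sub_mul, Matrix.mul_one, Matrix.one_mul,
      sub_left_inj] at h2
    rw [Matrix.SpecialLinearGroup.coe_mul, Matrix.SpecialLinearGroup.coe_mul, hG]
    exact h2

end Cfsg.Agent.S2162
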