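import Cfsg.Statements.S2163

set_option autoImplicit false
open Cfsg

namespace Cfsg.Agent.S2163

/-- Over a finite field of characteristic two and for n ≥ 3: for every ℓ with 1 ≤ ℓ and 2ℓ ≤ n, the matrix j_ℓ that is the identity plus the entries 1 in positions (n − ℓ + i, i) for i < ℓ (an identity block of size ℓ in the lower left corner) lies in SL_n(F), has order 2, and j_ℓ − 1 has rank ℓ. Together with the conjugacy criterion by rank, these matrices represent the conjugacy classes of involutions of SL_n(F). -/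
theorem result {F : Type*} [Field F] [Fintype F] [CharP F 2] {n : ℕ} (hn : 3 ≤ n) (ℓ : ℕ) (h1 : 1 ≤ ℓ) (h2 : 2 * ℓ ≤ n) :
    ∃ a : Matrix.SpecialLinearGroup (Fin n) F, (a : Matrix (Fin n) (Fin n) F) = 1 + Matrix.of (fun i j : Fin n => if j.val < ℓ ∧ i.val = j.val + (n - ℓ) then (1 : F) else 0) ∧ orderOf a = 2 ∧ ((a : Matrix (Fin n) (Fin n) F) - 1).rank = ℓ := by
  classical
  let A : Matrix (Fin n) (Fin ℓ) F := Matrix.of fun i a => if i.val = a.val + (n - ℓ) then 1 else 0
  let B : Matrix (Fin ℓ) (Fin n) F := Matrix.of fun a j => if j.val = a.val then 1 else 0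
  have hBA : B * A = 0 := by
    ext a b
    simp only [A, B, Matrix.mul_apply, Matrix.of_apply, Matrix.zero_apply]
    refine Finset.sum_eq_zero fun j _ => ?_
    have := a.isLt
    split_ifs with h h' <;> simp_all
    omega
  have hN : (Matrix.of (fun i j : Fin n => if j.val < ℓ ∧ i.val = j.val + (n - ℓ) then (1 : F) else 0)) = A * B := by
    ext i j
    simp only [A, B, Matrix.mul_apply, Matrix.of_apply]
    by_cases hj : j.val < ℓ
    · rw [Finset.sum_eq_single (⟨j.val, hj⟩ : Fin ℓ)]
      · simp [hj]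
      · intro a _ ha
        have : ¬ j.val = a.val := fun e => ha (Fin.ext e.symm)
        simp [this]
      · simp
    · rw [if_neg (by tauto), Finset.sum_eq_zero]
      intro a _
      have : ¬ j.val = a.val := fun e => hj (e ▸ a.isLt)
      simp [this]
  rw [hN]
  have h2F : (2 : F) = 0 := CharTwo.two_eq_zero
  have hsq : (1 + A * B) * (1 + A * B) = 1 := by
    have : A * B * (A * B) = 0 := by
      rw [Matrix.mul_assoc, ← Matrix.mul_assoc B A B, hBA, Matrix.zero_mul, Matrix.mul_zero]
    rw [add_mul, mul_add, mul_add, this, one_mul, one_mul, mul_one, add_zero, add_assoc]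
    have h0 : A * B + A * B = 0 := by
      ext i j; exact CharTwo.add_self_eq_zero _
    rw [h0, add_zero]
  have hdet : (1 + A * B).det = 1 := by
    have h := congrArg Matrix.det hsq
    rw [Matrix.det_mul, Matrix.det_one] at h
    have h' : ((1 + A * B).det - 1) * ((1 + A * B).det - 1) = 0 := by
      linear_combination h + (1 - (1 + A * B).det) * h2F
    exact sub_eq_zero.1 (mul_self_eq_zero.1 h')
  have hrank : (1 + A * B - 1).rank = ℓ := by
    rw [add_sub_cancel_left]
    refine le_antisymm ((Matrix.rank_mul_le_left A B).trans (Matrix.rank_le_width A)) ?_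
    have hs : (A * B).submatrix (fun a : Fin ℓ => (⟨a.val + (n - ℓ), by omega⟩ : Fin n))
        (fun a : Fin ℓ => (⟨a.val, by omega⟩ : Fin n)) = 1 := by
      ext a b
      simp only [← hN, Matrix.submatrix_apply, Matrix.of_apply, Matrix.one_apply, Fin.ext_iff]
      have := b.isLt
      split_ifs <;> first | rfl | omega
    calc ℓ = (1 : Matrix (Fin ℓ) (Fin ℓ) F).rank := by rw [Matrix.rank_one, Fintype.card_fin]
      _ ≤ (A * B).rank := by rw [← hs]; exact Matrix.rank_submatrix_le _ _ _
  obtain ⟨a, ha⟩ : ∃ a : Matrix.SpecialLinearGroup (Fin n) F, (a : Matrix (Fin n) (Fin n) F) = 1 + A * B :=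
    ⟨⟨1 + A * B, hdet⟩, rfl⟩
  rw [← ha] at hsq hrank
  refine ⟨a, ha, ?_, hrank⟩
  haveI : Fact (Nat.Prime 2) := ⟨Nat.prime_two⟩
  refine orderOf_eq_prime ?_ ?_
  · rw [pow_two]; exact Subtype.ext hsq
  · intro h
    have h' : (a : Matrix (Fin n) (Fin n) F) = 1 := congrArg Subtype.val h
    rw [h', sub_self, Matrix.rank_zero] at hrank
    omega

end Cfsg.Agent.S2163
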