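import Cfsg.Statements.S2164
import Cfsg.Agent.H51.UnitaryInvol
import Cfsg.Agent.S2162

set_option autoImplicit false
open Cfsg

namespace Cfsg.Agent.S2164

/-- Conjugacy of involutions in the special unitary group SU_n(q), q even, n ≥ 3, realised over the field F with q² elements as the matrices of determinant 1 preserving the form Σ u_i v_i^q: for two elements of order 2 of SU_n(q) the following are equivalent — they are conjugate in SU_n(q); they are conjugate in SL_n(F); the matrices a − 1 and b − 1 have the same rank. -/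
theorem result {F : Type*} [Field F] [Fintype F] [CharP F 2] {n q : ℕ} (hF : Fintype.card F = q ^ 2) (hn : 3 ≤ n) (a b : ↥(Cfsg.SU n F q)) (ha : orderOf a = 2) (hb : orderOf b = 2) :
    (IsConj a b ↔ IsConj (a : Matrix.SpecialLinearGroup (Fin n) F) (b : Matrix.SpecialLinearGroup (Fin n) F)) ∧
    (IsConj a b ↔ (((a : Matrix.SpecialLinearGroup (Fin n) F) : Matrix (Fin n) (Fin n) F) - 1).rank = (((b : Matrix.SpecialLinearGroup (Fin n) F) : Matrix (Fin n) (Fin n) F) - 1).rank) := by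
  have hab : IsConj (a : Matrix.SpecialLinearGroup (Fin n) F) (b : Matrix.SpecialLinearGroup (Fin n) F) →
      IsConj a b := by
    intro h
    let A : ↥(Cfsg.GU n F q) := ⟨Matrix.SpecialLinearGroup.toGL a.1, a.2⟩
    let B : ↥(Cfsg.GU n F q) := ⟨Matrix.SpecialLinearGroup.toGL b.1, b.2⟩
    have hAB : IsConj A B := (Agent.Unitary.isConj_GU_iff hF A B).2
      (Matrix.SpecialLinearGroup.toGL.map_isConj h)
    obtain ⟨g, hg⟩ := isConj_iff.1 hAB
    rw [mul_inv_eq_iff_eq_mul] at hg
    set δ : F := ((g : GL (Fin n) F) : Matrix (Fin n) (Fin n) F).det with hδ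
    have hδn : δ * δ ^ q = 1 := (Agent.Unitary.mem_GU_iff.1 g.2).det_norm hF
    have hδ0 : δ ≠ 0 := fun h0 => by rw [h0, zero_mul] at hδn; exact zero_ne_one hδn
    have hqe : 2 ∣ q := by
      obtain ⟨k, hp, hk⟩ := FiniteField.card F 2
      rw [hF] at hk
      exact Nat.prime_two.dvd_of_dvd_pow (hk ▸ dvd_pow_self 2 k.pos.ne' : 2 ∣ q ^ 2)
    obtain ⟨k, rfl⟩ := hqe
    set l : F := (δ ^ (k + 1))⁻¹ with hl
    have hl2 : δ * l ^ 2 = 1 := by
      have e : δ ^ (2 * k + 1) = 1 := by rw [pow_succ', hδn]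
      rw [hl, inv_pow, mul_inv_eq_one₀ (pow_ne_zero _ (pow_ne_zero _ hδ0)), ← pow_mul,
        show (k + 1) * 2 = 2 * k + 1 + 1 by omega, pow_succ, e, one_mul]
    have hln : l * l ^ (2 * k) = 1 := by
      rw [hl, inv_pow, ← mul_inv, ← pow_mul, mul_comm (k + 1) (2 * k), pow_mul δ (2 * k), ← mul_pow,
        hδn, one_pow, inv_one]
    have ha2 : a * a = 1 := by have h := pow_orderOf_eq_one a; rwa [ha, pow_two] at h
    have hA2 : ((a : Matrix.SpecialLinearGroup (Fin n) F) : Matrix (Fin n) (Fin n) F) *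
        ((a : Matrix.SpecialLinearGroup (Fin n) F) : Matrix (Fin n) (Fin n) F) = 1 :=
      congrArg (fun z : ↥(Cfsg.SU n F (2 * k)) =>
        ((z : Matrix.SpecialLinearGroup (Fin n) F) : Matrix (Fin n) (Fin n) F)) ha2
    obtain ⟨M, hMp, hMc, hMd⟩ := H51.UI.exists_centralizer_det hF
      (Agent.Unitary.mem_SU_iff.1 a.2) hA2 (fun h1 => by
        rw [show a = 1 from Subtype.ext (Subtype.ext h1), orderOf_one] at ha; omega) hln
    set G : ↥(Cfsg.GU n F (2 * k)) := g * Agent.Unitary.toGU hF hMp with hG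
    have hdet : ((G : GL (Fin n) F) : Matrix (Fin n) (Fin n) F).det = 1 := by
      rw [hG, Subgroup.coe_mul, Units.val_mul, Agent.Unitary.coe_toGU, Matrix.det_mul, hMd, ← hδ, hl2]
    refine isConj_iff.2 ⟨Agent.Unitary.toSU (Agent.Unitary.mem_GU_iff.1 G.2) hdet, ?_⟩
    rw [mul_inv_eq_iff_eq_mul]
    refine Subtype.ext (Subtype.ext ?_)
    have hgm := congrArg (fun z : ↥(Cfsg.GU n F (2 * k)) =>
      ((z : GL (Fin n) F) : Matrix (Fin n) (Fin n) F)) hg
    simp only [Subgroup.coe_mul, Units.val_mul] at hgm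
    show ((G : GL (Fin n) F) : Matrix (Fin n) (Fin n) F) * _ = _ *
      ((G : GL (Fin n) F) : Matrix (Fin n) (Fin n) F)
    rw [hG, Subgroup.coe_mul, Units.val_mul, Agent.Unitary.coe_toGU, mul_assoc, hMc, ← mul_assoc,
      ← mul_assoc]
    exact congrArg (fun z => z * M) hgm
  have hba : IsConj a b → IsConj (a : Matrix.SpecialLinearGroup (Fin n) F)
      (b : Matrix.SpecialLinearGroup (Fin n) F) := fun h => (Cfsg.SU n F q).subtype.map_isConj h
  have hoa : orderOf (a : Matrix.SpecialLinearGroup (Fin n) F) = 2 := by rwa [Subgroup.orderOf_coe]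
  have hob : orderOf (b : Matrix.SpecialLinearGroup (Fin n) F) = 2 := by rwa [Subgroup.orderOf_coe]
  exact ⟨⟨hba, hab⟩, ⟨fun h => (Agent.S2162.result hn _ _ hoa hob).1 (hba h),
    fun h => hab ((Agent.S2162.result hn _ _ hoa hob).2 h)⟩⟩

end Cfsg.Agent.S2164
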