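import Cfsg.Statements.S2165

set_option autoImplicit false
open Cfsg

namespace Cfsg.Agent.S2165

/-- the permutation exchanging `i` and `i + (n - ℓ)` for `i < ℓ` -/
def swapMap {n : ℕ} (ℓ : ℕ) (h : 2 * ℓ ≤ n) (i : Fin n) : Fin n :=
  if h1 : i.val < ℓ then ⟨i.val + (n - ℓ), by omega⟩
  else if n - ℓ ≤ i.val then ⟨i.val - (n - ℓ), by omega⟩ else i

theorem swapMap_val {n : ℕ} (ℓ : ℕ) (h : 2 * ℓ ≤ n) (i : Fin n) :
    (swapMap ℓ h i).val = if i.val < ℓ then i.val + (n - ℓ)
      else if n - ℓ ≤ i.val then i.val - (n - ℓ) else i.val := by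
  unfold swapMap
  split_ifs <;> rfl

theorem swapMap_swapMap {n : ℕ} (ℓ : ℕ) (h : 2 * ℓ ≤ n) (i : Fin n) :
    swapMap ℓ h (swapMap ℓ h i) = i := by
  ext
  rw [swapMap_val, swapMap_val]
  split_ifs <;> omega

/-- In SU_n(q), q even, n ≥ 3 (matrices of determinant 1 over the field with q² elements preserving Σ u_i v_i^q): for every ℓ with 1 ≤ ℓ and 2ℓ ≤ n, the permutation matrix of the involution of {0, …, n−1} exchanging i and n − ℓ + i for each i < ℓ lies in SU_n(q), has order 2, and differs from the identity by a matrix of rank ℓ. So every rank between 1 and n/2 occurs for involutions of SU_n(q). -/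
theorem result {F : Type*} [Field F] [Fintype F] [CharP F 2] {n q : ℕ} (hF : Fintype.card F = q ^ 2) (hn : 3 ≤ n) (ℓ : ℕ) (h1 : 1 ≤ ℓ) (h2 : 2 * ℓ ≤ n) :
    ∃ a : ↥(Cfsg.SU n F q), (((a : Matrix.SpecialLinearGroup (Fin n) F) : Matrix (Fin n) (Fin n) F) = Matrix.of (fun i j : Fin n => if (j.val < ℓ ∧ i.val = j.val + (n - ℓ)) ∨ (i.val < ℓ ∧ j.val = i.val + (n - ℓ)) ∨ (i = j ∧ ℓ ≤ i.val ∧ i.val < n - ℓ) then (1 : F) else 0)) ∧ orderOf a = 2 ∧ ((((a : Matrix.SpecialLinearGroup (Fin n) F) : Matrix (Fin n) (Fin n) F)) - 1).rank = ℓ := by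
  classical
  have hM : Matrix.of (fun i j : Fin n => if (j.val < ℓ ∧ i.val = j.val + (n - ℓ)) ∨ (i.val < ℓ ∧ j.val = i.val + (n - ℓ)) ∨ (i = j ∧ ℓ ≤ i.val ∧ i.val < n - ℓ) then (1 : F) else 0)
      = Matrix.of (fun i j : Fin n => if swapMap ℓ h2 i = j then (1 : F) else 0) := by
    ext i j
    simp only [Matrix.of_apply]
    refine if_congr ?_ rfl rfl
    simp only [Fin.ext_iff, swapMap_val]
    split_ifs <;> omega
  rw [hM]
  set M : Matrix (Fin n) (Fin n) F := Matrix.of (fun i j : Fin n => if swapMap ℓ h2 i = j then (1 : F) else 0) with hMdef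
  have hmv : ∀ u : Fin n → F, ∀ i, Matrix.mulVec M u i = u (swapMap ℓ h2 i) := by
    intro u i
    simp [M, Matrix.mulVec, dotProduct]
  have hsq : M * M = 1 := by
    ext i j
    rw [Matrix.mul_apply, Finset.sum_eq_single (swapMap ℓ h2 i)]
    · simp [M, swapMap_swapMap, Matrix.one_apply]
    · intro b _ hb
      simp [M, Ne.symm hb]
    · simp
  have h2F : (2 : F) = 0 := CharTwo.two_eq_zero
  have hdet : M.det = 1 := by
    have h := congrArg Matrix.det hsq
    rw [Matrix.det_mul, Matrix.det_one] at h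
    have h' : (M.det - 1) * (M.det - 1) = 0 := by
      linear_combination h + (1 - M.det) * h2F
    exact sub_eq_zero.1 (mul_self_eq_zero.1 h')
  let B : Matrix (Fin ℓ) (Fin n) F :=
    Matrix.of fun a j => if j.val = a.val ∨ j.val = a.val + (n - ℓ) then 1 else 0
  have hentry : ∀ i j, (M - 1) i j = if (i.val < ℓ ∨ n - ℓ ≤ i.val) ∧ (j = i ∨ j = swapMap ℓ h2 i) then (1 : F) else 0 := by
    intro i j
    simp only [M, Matrix.sub_apply, Matrix.of_apply, Matrix.one_apply, CharTwo.sub_eq_add]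
    by_cases hi : i.val < ℓ ∨ n - ℓ ≤ i.val
    · have hne : swapMap ℓ h2 i ≠ i := by
        rw [Ne, Fin.ext_iff, swapMap_val]; split_ifs <;> omega
      by_cases hj1 : j = i
      · subst hj1; simp only [hne, hi]; simp
      · by_cases hj2 : j = swapMap ℓ h2 i
        · subst hj2; simp only [Ne.symm hj1, hi]; simp [Ne.symm hne]
        · simp [Ne.symm hj1, Ne.symm hj2, hj1, hj2]
    · have he : swapMap ℓ h2 i = i := by
        rw [Fin.ext_iff, swapMap_val]; split_ifs <;> omega
      rw [he, if_neg (show ¬ ((i.val < ℓ ∨ n - ℓ ≤ i.val) ∧ (j = i ∨ j = i)) from fun h => hi h.1)]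
      exact CharTwo.add_self_eq_zero _
  have hfac : M - 1 = B.transpose * B := by
    ext i j
    rw [hentry]
    simp only [B, Matrix.mul_apply, Matrix.transpose_apply, Matrix.of_apply]
    by_cases hi : i.val < ℓ ∨ n - ℓ ≤ i.val
    · let a : Fin ℓ := if h : i.val < ℓ then ⟨i.val, h⟩ else ⟨i.val - (n - ℓ), by omega⟩
      rw [Finset.sum_eq_single a]
      · simp only [a, Fin.ext_iff, swapMap_val]
        split_ifs <;> simp_all <;> omega
      · intro b _ hb
        have : ¬ (i.val = b.val ∨ i.val = b.val + (n - ℓ)) := by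
          intro e; apply hb; simp only [a]; ext; split_ifs <;> simp only [] <;> omega
        simp [this]
      · simp
    · rw [if_neg (fun h => hi h.1), Finset.sum_eq_zero]
      intro b _
      have : ¬ (i.val = b.val ∨ i.val = b.val + (n - ℓ)) := by omega
      simp [this]
  have hrank : (M - 1).rank = ℓ := by
    refine le_antisymm ?_ ?_
    · rw [hfac]
      exact (Matrix.rank_mul_le_left _ _).trans (Matrix.rank_le_width _)
    · have hs : (M - 1).submatrix (fun a : Fin ℓ => (⟨a.val + (n - ℓ), by omega⟩ : Fin n))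
          (fun a : Fin ℓ => (⟨a.val, by omega⟩ : Fin n)) = 1 := by
        ext a b
        simp only [Matrix.submatrix_apply, hentry, Matrix.one_apply]
        have := a.isLt
        have := b.isLt
        simp only [swapMap_val, Fin.ext_iff]
        split_ifs <;> first | rfl | (exfalso; simp_all <;> omega) | simp_all
      calc ℓ = (1 : Matrix (Fin ℓ) (Fin ℓ) F).rank := by rw [Matrix.rank_one, Fintype.card_fin]
        _ ≤ (M - 1).rank := by rw [← hs]; exact Matrix.rank_submatrix_le _ _ _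
  have hmem : (⟨M, hdet⟩ : Matrix.SpecialLinearGroup (Fin n) F) ∈ Cfsg.SU n F q := by
    intro u v
    show Cfsg.hermForm n F q (Matrix.mulVec M u) (Matrix.mulVec M v) = Cfsg.hermForm n F q u v
    simp only [Cfsg.hermForm, hmv]
    exact Equiv.sum_comp (Function.Involutive.toPerm _ (swapMap_swapMap ℓ h2)) (fun i => u i * (v i) ^ q)
  refine ⟨⟨⟨M, hdet⟩, hmem⟩, rfl, ?_, hrank⟩
  haveI : Fact (Nat.Prime 2) := ⟨Nat.prime_two⟩
  refine orderOf_eq_prime (Subtype.ext (Subtype.ext ?_)) ?_
  · simp only [Subgroup.coe_pow, Subgroup.coe_one, Matrix.SpecialLinearGroup.coe_pow, pow_two]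
    exact hsq
  · intro h
    have h' : M = 1 := congrArg (fun x : ↥(Cfsg.SU n F q) => x.1.1) h
    rw [h', sub_self, Matrix.rank_zero] at hrank
    omega

end Cfsg.Agent.S2165
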