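import Cfsg.Statements.S2166
import Cfsg.Agent.Symplectic.InvolTwoCount

set_option autoImplicit false
open Cfsg
open scoped Matrix

namespace Cfsg.Agent.S2166

/-- Conjugacy of involutions in the symplectic group Sp_{2m}(F), F a finite field of characteristic two, m ≥ 2 (Sp taken as the matrices A with A J Aᵀ = J, acting on column vectors, with the alternating form f(u, v) = u ⬝ (J v)). For an involution t write V(t) for the set of vectors v with f(v, t v) = 0 (a subspace). Two involutions a, b are conjugate in Sp_{2m}(F) exactly when a − 1 and b − 1 have the same rank and, in case that rank is even, V(a) and V(b) have the same number of elements. -/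
theorem result {F : Type*} [Field F] [Fintype F] [CharP F 2] {m : ℕ} (hm : 2 ≤ m) (a b : ↥(Matrix.symplecticGroup (Fin m) F)) (ha : orderOf a = 2) (hb : orderOf b = 2) :
    IsConj a b ↔ ((((a : ↥(Matrix.symplecticGroup (Fin m) F)) : Matrix (Fin m ⊕ Fin m) (Fin m ⊕ Fin m) F) - 1).rank = (((b : ↥(Matrix.symplecticGroup (Fin m) F)) : Matrix (Fin m ⊕ Fin m) (Fin m ⊕ Fin m) F) - 1).rank ∧
      (Even (((a : ↥(Matrix.symplecticGroup (Fin m) F)) : Matrix (Fin m ⊕ Fin m) (Fin m ⊕ Fin m) F) - 1).rank → Nat.card {v : Fin m ⊕ Fin m → F // Cfsg.sympForm m F v (Matrix.mulVec ((a : ↥(Matrix.symplecticGroup (Fin m) F)) : Matrix (Fin m ⊕ Fin m) (Fin m ⊕ Fin m) F) v) = 0} = Nat.card {v : Fin m ⊕ Fin m → F // Cfsg.sympForm m F v (Matrix.mulVec ((b : ↥(Matrix.symplecticGroup (Fin m) F)) : Matrix (Fin m ⊕ Fin m) (Fin m ⊕ Fin m) F) v) = 0})) := by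
  classical
  have ha2 : a ^ 2 = 1 := ha ▸ pow_orderOf_eq_one a
  have hb2 : b ^ 2 = 1 := hb ▸ pow_orderOf_eq_one b
  constructor
  · intro hc
    refine ⟨((Cfsg.Agent.Symplectic.Invol.isConj_iff_invariants ha2 hb2).mp hc).1, fun _ => ?_⟩
    obtain ⟨g, hg⟩ := isConj_iff.mp hc
    refine Nat.card_congr ((Cfsg.Agent.Symplectic.spEquiv m F g).1.toEquiv.subtypeEquiv fun v => ?_)
    show _ ↔ Cfsg.sympForm m F ((g : Matrix (Fin m ⊕ Fin m) (Fin m ⊕ Fin m) F) *ᵥ v) ((b : Matrix (Fin m ⊕ Fin m) (Fin m ⊕ Fin m) F) *ᵥ ((g : Matrix (Fin m ⊕ Fin m) (Fin m ⊕ Fin m) F) *ᵥ v)) = 0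
    rw [Matrix.mulVec_mulVec, ← Submonoid.coe_mul, ← hg, inv_mul_cancel_right, Submonoid.coe_mul,
      ← Matrix.mulVec_mulVec, Cfsg.Agent.Symplectic.sf_invariant]
  · rintro ⟨hr, hcard⟩
    refine (Cfsg.Agent.Symplectic.Invol.isConj_iff_invariants ha2 hb2).mpr ⟨hr, ?_⟩
    obtain ⟨x, K, hx⟩ := Cfsg.Agent.Symplectic.Invol.exists_data a ha2 rfl
    obtain ⟨y, K', hy⟩ := Cfsg.Agent.Symplectic.Invol.exists_data b hb2 hr.symm
    rcases Nat.even_or_odd ((a : Matrix (Fin m ⊕ Fin m) (Fin m ⊕ Fin m) F) - 1).rank with he | ho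
    · have hc := hcard he
      have key : ∀ p : (Fin m ⊕ Fin m → F) → Prop, (∀ v, p v) ↔
          Nat.card {v // p v} = Nat.card (Fin m ⊕ Fin m → F) := fun p => by
        constructor
        · exact fun h => Nat.card_congr (Equiv.subtypeUnivEquiv h)
        · intro h v
          obtain ⟨⟨w, hw⟩, rfl⟩ := (Subtype.val_injective.bijective_of_nat_card_le h.ge).2 v
          exact hw
      rw [key, key, hc]
    · refine iff_of_false (fun h => ?_) (fun h => ?_)
      · exact Cfsg.Agent.Symplectic.Invol.not_alt_of_odd hx.1 ho ((Cfsg.Agent.Symplectic.Invol.alt_iff hx).mp h)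
      · exact Cfsg.Agent.Symplectic.Invol.not_alt_of_odd hy.1 ho ((Cfsg.Agent.Symplectic.Invol.alt_iff hy).mp h)

end Cfsg.Agent.S2166
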