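import Cfsg.Statements.S2167
import Cfsg.Agent.Symplectic.Std

set_option autoImplicit false
open Cfsg

namespace Cfsg.Agent.S2167

open scoped Matrix
open LinearMap (BilinForm)

/-- an alternating bilinear form given by a matrix has even rank -/
theorem even_rank {ι : Type*} [Fintype ι] [DecidableEq ι] {F : Type*} [Field F] (M : Matrix ι ι F)
    (halt : (Matrix.toBilin' M).IsAlt) : Even M.rank := by
  classical
  obtain ⟨m, k, b, hhyp, hrad⟩ := Cfsg.Agent.Symplectic.exists_hyp_basis (Matrix.toBilin' M) halt
  set B := Matrix.toBilin' M with hB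
  simp only [Cfsg.Agent.Symplectic.IsHypSystem] at hhyp
  have hdim : Fintype.card ι = (m + m) + k := by
    have h1 := Module.finrank_eq_card_basis b
    rw [Module.finrank_pi] at h1
    simpa using h1
  have hkerB : ∀ v, M *ᵥ v = 0 ↔ B v = 0 := by
    intro v
    constructor
    · intro h
      refine LinearMap.ext fun u => ?_
      have : B u v = 0 := by rw [hB, Matrix.toBilin'_apply', h, dotProduct_zero]
      simpa [← halt.neg_eq u v] using this
    · intro h
      funext i
      have : B (Pi.single i 1) v = 0 := by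
        rw [← halt.neg_eq v (Pi.single i 1), h]; simp
      rw [hB, Matrix.toBilin'_apply', single_dotProduct, one_mul] at this
      exact this
  have hspan : LinearMap.ker M.mulVecLin = Submodule.span F (Set.range (fun j : Fin k => b (Sum.inr j))) := by
    refine le_antisymm (fun v hv => ?_) ?_
    · have hv' : B v = 0 := (hkerB v).1 hv
      obtain ⟨c, hc⟩ : ∃ c : (Fin m ⊕ Fin m) ⊕ Fin k → F, c = fun i => b.repr v i := ⟨_, rfl⟩
      have hv2 : v = ∑ i, c i • b i := by rw [hc]; exact (b.sum_repr v).symm
      have hval : ∀ w, ∑ i, c i * B (b i) w = 0 := by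
        intro w
        have h2 : B v w = 0 := by rw [hv']; rfl
        rw [hv2, map_sum, LinearMap.sum_apply] at h2
        simpa only [map_smul, LinearMap.smul_apply, smul_eq_mul] using h2
      have k1 : ∀ j, b.repr v (Sum.inl (Sum.inl j)) = 0 := by
        intro j
        have h2 := hval (b (Sum.inl (Sum.inr j)))
        simp only [Fintype.sum_sum_type, hhyp.1, hhyp.2.2, hrad] at h2
        simpa [hc] using h2
      have k2 : ∀ j, b.repr v (Sum.inl (Sum.inr j)) = 0 := by
        intro j
        have h2 := hval (b (Sum.inl (Sum.inl j)))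
        simp only [Fintype.sum_sum_type, hhyp.2.1, hrad,
          fun i => show B (b (Sum.inl (Sum.inr i))) (b (Sum.inl (Sum.inl j))) = -(if j = i then (1 : F) else 0) by
            rw [← hhyp.1 j i, halt.neg_eq]] at h2
        simpa [hc] using h2
      rw [← b.sum_repr v]
      simp only [Fintype.sum_sum_type, k1, k2, zero_smul, Finset.sum_const_zero, zero_add]
      exact sum_mem fun j _ => Submodule.smul_mem _ _ (Submodule.subset_span ⟨j, rfl⟩)
    · rw [Submodule.span_le]
      rintro _ ⟨j, rfl⟩
      exact (hkerB _).2 (LinearMap.ext (hrad j))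
  have hk : Module.finrank F (LinearMap.ker M.mulVecLin) = k := by
    rw [hspan, finrank_span_eq_card, Fintype.card_fin]
    exact b.linearIndependent.comp _ Sum.inr_injective
  have h := LinearMap.finrank_range_add_finrank_ker M.mulVecLin
  rw [hk, Module.finrank_pi, hdim] at h
  refine ⟨m, ?_⟩
  show Module.finrank F (LinearMap.range M.mulVecLin) = m + m
  omega

/-- a quadratic map with symmetric matrix is diagonal in characteristic two -/
theorem symm_quad {ι : Type*} [Fintype ι] [DecidableEq ι] {F : Type*} [CommRing F] [CharP F 2]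
    (M : Matrix ι ι F) (hM : Mᵀ = M) (v : ι → F) : v ⬝ᵥ (M *ᵥ v) = ∑ i, M i i * v i ^ 2 := by
  simp only [dotProduct, Matrix.mulVec, Finset.mul_sum]
  rw [← Fintype.sum_prod_type' (f := fun i j => v i * (M i j * v j))]
  rw [← Finset.sum_filter_add_sum_filter_not Finset.univ (fun p : ι × ι => p.1 = p.2)]
  have h0 : ∑ p ∈ Finset.univ.filter (fun p : ι × ι => ¬ p.1 = p.2), v p.1 * (M p.1 p.2 * v p.2) = 0 := by
    refine Finset.sum_involution (fun p _ => (p.2, p.1)) ?_ ?_ ?_ ?_
    · intro p _
      have : M p.2 p.1 = M p.1 p.2 := by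
        conv_lhs => rw [← hM]
        rfl
      rw [this, show v p.2 * (M p.1 p.2 * v p.1) = v p.1 * (M p.1 p.2 * v p.2) by ring]
      exact CharTwo.add_self_eq_zero _
    · intro p hp _ h
      simp only [Finset.mem_filter] at hp
      exact hp.2 (congrArg Prod.snd h)
    · intro p hp
      simp only [Finset.mem_filter, Finset.mem_univ, true_and] at hp ⊢
      exact fun h => hp h.symm
    · intro p _; rfl
  rw [h0, add_zero]
  refine Finset.sum_bij (fun p _ => p.1) (by simp) ?_ ?_ ?_
  · intro a ha b hb h
    simp only [Finset.mem_filter] at ha hb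
    exact Prod.ext h (by rw [← ha.2, ← hb.2, h])
  · intro i _; exact ⟨(i, i), by simp, rfl⟩
  · intro p hp
    simp only [Finset.mem_filter] at hp
    rw [← hp.2]; ring


/-- For an involution t of the symplectic group Sp_{2m}(F), m ≥ 2, F a finite field of characteristic two (matrices A with A J Aᵀ = J acting on column vectors, alternating form f(u, v) = u ⬝ (J v)): the set V(t) of vectors v with f(v, t v) = 0 has either q^{2m} or q^{2m−1} elements, q the order of F (it is a subspace of codimension at most 1), and if it is the whole space then t − 1 has even rank. -/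
theorem result {F : Type*} [Field F] [Fintype F] [CharP F 2] {m : ℕ} (hm : 2 ≤ m) (a : ↥(Matrix.symplecticGroup (Fin m) F)) (ha : orderOf a = 2) :
    (Nat.card {v : Fin m ⊕ Fin m → F // Cfsg.sympForm m F v (Matrix.mulVec ((a : ↥(Matrix.symplecticGroup (Fin m) F)) : Matrix (Fin m ⊕ Fin m) (Fin m ⊕ Fin m) F) v) = 0} = Fintype.card F ^ (2 * m) ∨ Nat.card {v : Fin m ⊕ Fin m → F // Cfsg.sympForm m F v (Matrix.mulVec ((a : ↥(Matrix.symplecticGroup (Fin m) F)) : Matrix (Fin m ⊕ Fin m) (Fin m ⊕ Fin m) F) v) = 0} * Fintype.card F = Fintype.card F ^ (2 * m)) ∧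
    ((∀ v : Fin m ⊕ Fin m → F, Cfsg.sympForm m F v (Matrix.mulVec ((a : ↥(Matrix.symplecticGroup (Fin m) F)) : Matrix (Fin m ⊕ Fin m) (Fin m ⊕ Fin m) F) v) = 0) → Even (((a : ↥(Matrix.symplecticGroup (Fin m) F)) : Matrix (Fin m ⊕ Fin m) (Fin m ⊕ Fin m) F) - 1).rank) := by
  classical
  set A : Matrix (Fin m ⊕ Fin m) (Fin m ⊕ Fin m) F := (a : Matrix (Fin m ⊕ Fin m) (Fin m ⊕ Fin m) F) with hA
  set J := Matrix.J (Fin m) F with hJ
  have hsq : A * A = 1 := by
    have h := congrArg (Subtype.val) (show a ^ 2 = 1 by rw [← ha]; exact pow_orderOf_eq_one a)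
    simpa [pow_two] using h
  have hsymp : Aᵀ * J * A = J := SymplecticGroup.mem_iff'.1 a.2
  have hJT : Jᵀ = J := by
    rw [hJ, Matrix.J_transpose]; ext i j; exact CharTwo.neg_eq _
  have hAJ : Aᵀ * J = J * A := by
    calc Aᵀ * J = Aᵀ * J * (A * A) := by rw [hsq, Matrix.mul_one]
      _ = (Aᵀ * J * A) * A := by simp [Matrix.mul_assoc]
      _ = J * A := by rw [hsymp]
  have hM : (J * A)ᵀ = J * A := by rw [Matrix.transpose_mul, hJT, hAJ]
  have hφ : ∀ v, Cfsg.sympForm m F v (A *ᵥ v) = ∑ i, (J * A) i i * v i ^ 2 := by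
    intro v
    rw [Cfsg.sympForm, Matrix.mulVec_mulVec, symm_quad _ hM]
  have hfrob : Function.Surjective (fun x : F => x ^ 2) := by
    refine Finite.injective_iff_surjective.1 fun x y h => ?_
    exact CharTwo.sq_injective h
  choose d hd using fun i => hfrob ((J * A) i i)
  let l : (Fin m ⊕ Fin m → F) →ₗ[F] F :=
    { toFun := fun v => ∑ i, d i * v i
      map_add' := fun v w => by simp [mul_add, Finset.sum_add_distrib]
      map_smul' := fun c v => by
        simp only [Pi.smul_apply, smul_eq_mul, RingHom.id_apply, Finset.mul_sum]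
        exact Finset.sum_congr rfl fun i _ => mul_left_comm _ _ _ }
  have hl : ∀ v, Cfsg.sympForm m F v (A *ᵥ v) = l v ^ 2 := by
    intro v
    rw [hφ]
    show _ = (∑ i, d i * v i) ^ 2
    rw [CharTwo.sum_sq]
    refine Finset.sum_congr rfl fun i _ => ?_
    rw [mul_pow]; congr 1; exact (hd i).symm
  constructor
  · have hset : Nat.card {v : Fin m ⊕ Fin m → F // Cfsg.sympForm m F v (A *ᵥ v) = 0} = Nat.card (LinearMap.ker l) :=
      Nat.card_congr (Equiv.subtypeEquivRight fun v => by simp [hl, LinearMap.mem_ker])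
    rw [hset]
    by_cases hl0 : l = 0
    · left
      rw [hl0, LinearMap.ker_zero]
      rw [Module.natCard_eq_pow_finrank (K := F) (V := (⊤ : Submodule F (Fin m ⊕ Fin m → F))),
        finrank_top, Module.finrank_pi, Nat.card_eq_fintype_card, Fintype.card_sum, Fintype.card_fin, two_mul]
    · right
      have h := LinearMap.finrank_range_add_finrank_ker l
      have hr : Module.finrank F (LinearMap.range l) = 1 := by
        rw [LinearMap.range_eq_top.2 (LinearMap.surjective hl0), finrank_top, Module.finrank_self]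
      rw [hr, Module.finrank_pi, Fintype.card_sum, Fintype.card_fin] at h
      rw [Module.natCard_eq_pow_finrank (K := F) (V := LinearMap.ker l), Nat.card_eq_fintype_card, ← pow_succ]
      congr 1
      omega
  · intro hall
    have hdiag : ∀ i, (J * A) i i = 0 := by
      intro i
      have h := hall (Pi.single i 1)
      rw [hφ, Finset.sum_eq_single i] at h
      · simpa using h
      · intro b _ hb; simp [hb]
      · simp
    have hdetJ : IsUnit J.det := Matrix.isUnit_det_J (Fin m) F
    rw [← Matrix.rank_mul_eq_right_of_isUnit_det J (A - 1) hdetJ]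
    refine even_rank _ fun v => ?_
    have hT : (J * (A - 1))ᵀ = J * (A - 1) := by
      rw [mul_sub, mul_one, Matrix.transpose_sub, hM, hJT]
    rw [Matrix.toBilin'_apply', symm_quad _ hT]
    refine Finset.sum_eq_zero fun i _ => ?_
    rw [mul_sub, mul_one, Matrix.sub_apply, hdiag i]
    rcases i with i | i <;> simp [hJ, Matrix.J]

end Cfsg.Agent.S2167
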