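import Cfsg.Statements.S2177
import Cfsg.Agent.H51.G2Cent
import Cfsg.Agent.H37.Chev.All

set_option autoImplicit false
open Cfsg

namespace Cfsg.Agent.S2177

/-- Conjugacy classes of involutions in the Chevalley group of type G₂ over a finite field F of characteristic two with at least four elements (the matrix group generated by the root elements x_r(t)). In this problem's root numbering for type G₂ (the Chevalley data module; p₁ = a short, p₂ = b long; roots indexed by coefficient vectors in increasing order) let 11 be the highest root 3a + 2b (long) and 9 the short root 2a + b; consider x_{3a+2b}(1) and x_{2a+b}(1). Then: each invertible matrix equal to one of these two products lies in the group and has order 2; every element of order 2 of the group is conjugate in the group to one of them; and no two of them are conjugate in the group (so, the two matrices being distinct, the group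 has exactly two conjugacy classes of involutions). -/
theorem result {F : Type*} [Field F] [Fintype F] [CharP F 2] (hF : 4 ≤ Fintype.card F) :
    (∀ y : GL Cfsg.Lie.chevG2.Idx F, ((y : GL Cfsg.Lie.chevG2.Idx F) : Matrix Cfsg.Lie.chevG2.Idx Cfsg.Lie.chevG2.Idx F) ∈ [Cfsg.Lie.chevG2.x F 11 1, Cfsg.Lie.chevG2.x F 9 1] → y ∈ Cfsg.Lie.chevG2.group F ∧ orderOf y = 2) ∧
    (∀ g ∈ Cfsg.Lie.chevG2.group F, orderOf g = 2 → ∃ y ∈ Cfsg.Lie.chevG2.group F, ((y : GL Cfsg.Lie.chevG2.Idx F) : Matrix Cfsg.Lie.chevG2.Idx Cfsg.Lie.chevG2.Idx F) ∈ [Cfsg.Lie.chevG2.x F 11 1, Cfsg.Lie.chevG2.x F 9 1] ∧ ∃ h ∈ Cfsg.Lie.chevG2.group F, h * g * h⁻¹ = y) ∧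
    (∀ y₁ ∈ Cfsg.Lie.chevG2.group F, ∀ y₂ ∈ Cfsg.Lie.chevG2.group F, ((y₁ : GL Cfsg.Lie.chevG2.Idx F) : Matrix Cfsg.Lie.chevG2.Idx Cfsg.Lie.chevG2.Idx F) ∈ [Cfsg.Lie.chevG2.x F 11 1, Cfsg.Lie.chevG2.x F 9 1] → ((y₂ : GL Cfsg.Lie.chevG2.Idx F) : Matrix Cfsg.Lie.chevG2.Idx Cfsg.Lie.chevG2.Idx F) ∈ [Cfsg.Lie.chevG2.x F 11 1, Cfsg.Lie.chevG2.x F 9 1] →
      (∃ h ∈ Cfsg.Lie.chevG2.group F, h * y₁ * h⁻¹ = y₂) → ((y₁ : GL Cfsg.Lie.chevG2.Idx F) : Matrix Cfsg.Lie.chevG2.Idx Cfsg.Lie.chevG2.Idx F) = ((y₂ : GL Cfsg.Lie.chevG2.Idx F) : Matrix Cfsg.Lie.chevG2.Idx Cfsg.Lie.chevG2.Idx F)) := by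
  obtain ⟨Q, -⟩ := Agent.H37.Chev.exists_data (D := Cfsg.Lie.chevG2) (by simp) F
  have : Fact (Nat.Prime 2) := ⟨Nat.prime_two⟩
  have hy : ∀ y : GL Cfsg.Lie.chevG2.Idx F,
      (y : Matrix Cfsg.Lie.chevG2.Idx Cfsg.Lie.chevG2.Idx F) ∈
        [Cfsg.Lie.chevG2.x F 11 1, Cfsg.Lie.chevG2.x F 9 1] →
      y = ↑(Q.sys.x 11 1) ∨ y = ↑(Q.sys.x 9 1) := by
    intro y h
    simp only [List.mem_cons, List.not_mem_nil, or_false] at h
    exact h.imp (fun h => Units.ext h) (fun h => Units.ext h)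
  have hne : ∀ r, r = 11 ∨ r = 9 → Q.sys.x r (1 : F) ≠ 1 := by
    intro r hr h
    rw [← H51.G2.N_zero Q] at h
    rcases hr with rfl | rfl
    · rw [H51.G2.x11_eq] at h
      exact one_ne_zero (H51.G2.N_inj Q h).2.2.2.2.2
    · rw [H51.G2.x9_eq] at h
      exact one_ne_zero (H51.G2.N_inj Q h).2.2.2.1
  have hord : ∀ r, r = 11 ∨ r = 9 → orderOf (↑(Q.sys.x r (1 : F)) : GL Cfsg.Lie.chevG2.Idx F) = 2 := by
    intro r hr
    rw [Subgroup.orderOf_coe]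
    refine orderOf_eq_prime ?_ (hne r hr)
    have h12 : r < 12 := by omega
    rw [pow_two, H51.G2.x_add Q h12, CharTwo.add_self_eq_zero, H51.G2.x_zero Q h12]
  refine ⟨fun y h => ?_, fun g hg hg2 => ?_, fun y₁ _ y₂ _ h₁ h₂ hc => ?_⟩
  · rcases hy y h with rfl | rfl
    · exact ⟨SetLike.coe_mem _, hord 11 (Or.inl rfl)⟩
    · exact ⟨SetLike.coe_mem _, hord 9 (Or.inr rfl)⟩
  · have hg2' : orderOf (⟨g, hg⟩ : ↥(Cfsg.Lie.chevG2.group F)) = 2 := by
      rw [← Subgroup.orderOf_coe]; exact hg2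
    have hpow : (⟨g, hg⟩ : ↥(Cfsg.Lie.chevG2.group F)) ^ 2 ^ 1 = 1 := by
      rw [pow_one, ← hg2', pow_orderOf_eq_one]
    obtain ⟨c, hc⟩ := H51.exists_conj_mem_U Q hpow
    have h1 : c * ⟨g, hg⟩ * c⁻¹ ≠ 1 := fun h => by
      rw [conj_eq_one_iff.1 h, orderOf_one] at hg2'
      exact absurd hg2' (by omega)
    have h2 : (c * ⟨g, hg⟩ * c⁻¹) * (c * ⟨g, hg⟩ * c⁻¹) = 1 := by
      rw [← pow_two, conj_pow, ← hg2', pow_orderOf_eq_one, mul_one, mul_inv_cancel]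
    have key : ∀ r, r = 11 ∨ r = 9 →
        H51.G2.Cj (c * ⟨g, hg⟩ * c⁻¹) (Q.sys.x r 1) →
        ∃ y ∈ Cfsg.Lie.chevG2.group F, (y : Matrix Cfsg.Lie.chevG2.Idx Cfsg.Lie.chevG2.Idx F) ∈
          [Cfsg.Lie.chevG2.x F 11 1, Cfsg.Lie.chevG2.x F 9 1] ∧
          ∃ h ∈ Cfsg.Lie.chevG2.group F, h * g * h⁻¹ = y := by
      rintro r hr ⟨d, hd⟩
      refine ⟨↑(Q.sys.x r 1), SetLike.coe_mem _, ?_, ↑(d * c), SetLike.coe_mem _, ?_⟩
      · rcases hr with rfl | rfl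
        · exact List.mem_cons_self
        · exact List.mem_cons_of_mem _ List.mem_cons_self
      · rw [← hd]
        simp [mul_assoc]
    exact (H51.G2.rep_of_sq Q hc h2 h1).elim (key 11 (Or.inl rfl)) (key 9 (Or.inr rfl))
  · obtain ⟨h, hh, e⟩ := hc
    rcases hy y₁ h₁ with rfl | rfl <;> rcases hy y₂ h₂ with rfl | rfl
    · rfl
    · exact absurd (Subtype.ext e) (H51.G2.not_conj Q ⟨h, hh⟩)
    · refine absurd ?_ (H51.G2.not_conj Q ⟨h, hh⟩⁻¹)
      rw [← Subtype.ext (a1 := ⟨h, hh⟩ * Q.sys.x 9 1 * ⟨h, hh⟩⁻¹) (a2 := Q.sys.x 11 1) e]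
      group
    · rfl

end Cfsg.Agent.S2177
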