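import Cfsg.Statements.S2178
import Cfsg.Agent.H37.Chev.All
import Cfsg.Agent.H51.RootClosure

set_option autoImplicit false
open Cfsg

namespace Cfsg.Agent.S2178

/-- Centralizers of the long and the short root involutions in the Chevalley group G of type F₄ over a finite field F of characteristic two (this problem's root numbering for type F₄, from the Chevalley data module: fundamental roots p₁, p₂ short, p₃, p₄ long, with indices 33, 27, 25, 24, their negatives 14, 20, 22, 23; highest root 47, highest short root 44; U the subgroup generated by the positive root subgroups). For an element t of G with matrix x_47(1): the centralizer of t in G is the subgroup generated by U and the root subgroups X_{−p₁}, X_{−p₂}, X_{−p₃} (the unipotent radical of the maximal parabolic subgroup whose Levi factor has fundamental roots p₁, p₂, p₃, together with that Levi factor's root subgroups; the Levi factor is of type C₃). For an element u of G with matrix x_44(1): the centralizer of u in G is generated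 by U and X_{−p₂}, X_{−p₃}, X_{−p₄} (the same construction for the Levi factor with fundamental roots p₂, p₃, p₄, of type B₃). -/
theorem result {F : Type*} [Field F] [Fintype F] [CharP F 2] (t u : GL Cfsg.Lie.chevF4.Idx F) (ht : (t : Matrix Cfsg.Lie.chevF4.Idx Cfsg.Lie.chevF4.Idx F) = Cfsg.Lie.chevF4.x F 47 1) (hu : (u : Matrix Cfsg.Lie.chevF4.Idx Cfsg.Lie.chevF4.Idx F) = Cfsg.Lie.chevF4.x F 44 1) :
    Cfsg.Lie.chevF4.group F ⊓ Subgroup.centralizer {t} = Cfsg.Lie.chevF4.posUnipotent F ⊔ Cfsg.Lie.chevF4.rootSubgroup F 14 ⊔ Cfsg.Lie.chevF4.rootSubgroup F 20 ⊔ Cfsg.Lie.chevF4.rootSubgroup F 22 ∧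
    Cfsg.Lie.chevF4.group F ⊓ Subgroup.centralizer {u} = Cfsg.Lie.chevF4.posUnipotent F ⊔ Cfsg.Lie.chevF4.rootSubgroup F 20 ⊔ Cfsg.Lie.chevF4.rootSubgroup F 22 ⊔ Cfsg.Lie.chevF4.rootSubgroup F 23 := by
  obtain ⟨Q, -⟩ := Agent.H37.Chev.exists_data (D := Cfsg.Lie.chevF4) (by simp) F
  have key : ∀ (m : ℕ) (J : List ℕ) (i₀ : ℕ), H51.domB Cfsg.Lie.chevF4 m J i₀ = true →
      ∀ x : GL Cfsg.Lie.chevF4.Idx F,
        (x : Matrix Cfsg.Lie.chevF4.Idx Cfsg.Lie.chevF4.Idx F) = Cfsg.Lie.chevF4.x F m 1 →
      Cfsg.Lie.chevF4.group F ⊓ Subgroup.centralizer {x} = Cfsg.Lie.chevF4.posUnipotent F ⊔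
        Subgroup.closure {g : GL Cfsg.Lie.chevF4.Idx F |
          ∃ s ∈ J.map (fun i => Cfsg.Lie.chevF4.neg (Cfsg.Lie.chevF4.simple i)), ∃ c : F,
            (g : Matrix Cfsg.Lie.chevF4.Idx Cfsg.Lie.chevF4.Idx F) = Cfsg.Lie.chevF4.x F s c} := by
    intro m J i₀ h x hx
    obtain rfl : x = Q.K.xU F m 1 := Units.ext hx
    exact H51.centralizer_root Q (H51.dominant_of_domB h) (H51.central_of_domB Q h)
  refine ⟨(key 47 _ _ H51.domB_F4_long t ht).trans ?_, (key 44 _ _ H51.domB_F4_short u hu).trans ?_⟩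
  · rw [show ([0, 1, 2].map fun i => Cfsg.Lie.chevF4.neg (Cfsg.Lie.chevF4.simple i)) = [14, 20, 22]
      by decide +kernel, H51.closure_three, ← sup_assoc, ← sup_assoc]
  · rw [show ([1, 2, 3].map fun i => Cfsg.Lie.chevF4.neg (Cfsg.Lie.chevF4.simple i)) = [20, 22, 23]
      by decide +kernel, H51.closure_three, ← sup_assoc, ← sup_assoc]

end Cfsg.Agent.S2178
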