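import Cfsg.Statements.S2179
import Cfsg.Agent.H51.F4Cent
import Cfsg.Agent.H37.Chev.All

set_option autoImplicit false
open Cfsg

namespace Cfsg.Agent.S2179

/-- Centralizers of the two remaining classes of involutions in the Chevalley group G of type F₄ over a finite field F of characteristic two (this problem's root numbering for type F₄, from the Chevalley data module: p₁, p₂ short, p₃, p₄ long with indices 33, 27, 25, 24 and negatives 14, 20, 22, 23; U generated by the positive root subgroups). For an element of G with matrix x_47(1)x_44(1) (highest root times highest short root): its centralizer in G is generated by U, X_{−p₂} and X_{−p₃}. For an element of G with matrix x_39(1)x_45(1) (roots (1,2,2,1) and (2,4,2,1), an orthogonal short/long pair): its centralizer in G is generated by X_{p₁}, X_{−p₁}, X_{p₄}, X_{−p₄} and the root subgroups of all positive roots other than p₂ (27), p₃ (25), p₁ + p₂ (34) and p₃ + p₄ (26). -/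
theorem result {F : Type*} [Field F] [Fintype F] [CharP F 2] (w v : GL Cfsg.Lie.chevF4.Idx F) (hw : (w : Matrix Cfsg.Lie.chevF4.Idx Cfsg.Lie.chevF4.Idx F) = Cfsg.Lie.chevF4.x F 47 1 * Cfsg.Lie.chevF4.x F 44 1) (hv : (v : Matrix Cfsg.Lie.chevF4.Idx Cfsg.Lie.chevF4.Idx F) = Cfsg.Lie.chevF4.x F 39 1 * Cfsg.Lie.chevF4.x F 45 1) :
    Cfsg.Lie.chevF4.group F ⊓ Subgroup.centralizer {w} = Cfsg.Lie.chevF4.posUnipotent F ⊔ Cfsg.Lie.chevF4.rootSubgroup F 20 ⊔ Cfsg.Lie.chevF4.rootSubgroup F 22 ∧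
    Cfsg.Lie.chevF4.group F ⊓ Subgroup.centralizer {v} = Cfsg.Lie.chevF4.rootSubgroup F 33 ⊔ Cfsg.Lie.chevF4.rootSubgroup F 14 ⊔ Cfsg.Lie.chevF4.rootSubgroup F 24 ⊔ Cfsg.Lie.chevF4.rootSubgroup F 23 ⊔
      Subgroup.closure {g : GL Cfsg.Lie.chevF4.Idx F | ∃ (r : ℕ) (c : F), Cfsg.Lie.chevF4.IsPosRoot r ∧ r ∉ [27, 25, 34, 26] ∧ (g : Matrix Cfsg.Lie.chevF4.Idx Cfsg.Lie.chevF4.Idx F) = Cfsg.Lie.chevF4.x F r c} := by
  obtain ⟨Q, -⟩ := Agent.H37.Chev.exists_data (D := Cfsg.Lie.chevF4) (by simp) F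
  have hw' : w = ↑(Q.sys.x 44 1 * Q.sys.x 47 1) := by
    have h : Q.sys.x 44 (1 : F) * Q.sys.x 47 1 = Q.sys.x 47 1 * Q.sys.x 44 1 :=
      H51.CW.commute_x Q (by decide +kernel) (by decide +kernel) (by decide +kernel)
        (by decide +kernel) (by decide +kernel) 1 1
    rw [h]; exact Units.ext hw
  have hv' : v = ↑(Q.sys.x 39 1 * Q.sys.x 45 1) := Units.ext hv
  have hpos : ∀ r, Cfsg.Lie.chevF4.IsPosRoot r ↔ 24 ≤ r ∧ r < 48 := fun r => by
    rw [Q.ord.isPosRoot_iff, H51.F4.nroots_eq]; omega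
  have hr4 : Cfsg.Lie.chevF4.rank = 4 := by decide +kernel
  have hsimple : Cfsg.Lie.chevF4.simple 0 = 33 ∧ Cfsg.Lie.chevF4.simple 1 = 27 ∧
      Cfsg.Lie.chevF4.simple 2 = 25 ∧ Cfsg.Lie.chevF4.simple 3 = 24 ∧
      Cfsg.Lie.chevF4.neg 33 = 14 ∧ Cfsg.Lie.chevF4.neg 27 = 20 ∧
      Cfsg.Lie.chevF4.neg 25 = 22 ∧ Cfsg.Lie.chevF4.neg 24 = 23 := by decide +kernel
  obtain ⟨s0, s1, s2, s3, n0, n1, n2, n3⟩ := hsimple
  have hns : ∀ (i : ℕ) (_ : i < 4) (a b : ℕ), a < 48 → b < 48 →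
      Cfsg.Lie.chevF4.reflectRoot i a = a → Cfsg.Lie.chevF4.reflectRoot i b = b →
      Q.sys.ns i ∈ Subgroup.centralizer {Q.sys.x a (1 : F) * Q.sys.x b 1} := by
    intro i hi a b ha hb e1 e2
    rw [Subgroup.mem_centralizer_singleton_iff, ← mul_inv_eq_iff_eq_mul]
    rw [show Q.sys.ns i * (Q.sys.x a 1 * Q.sys.x b 1) * (Q.sys.ns i)⁻¹ =
      (Q.sys.ns i * Q.sys.x a 1 * (Q.sys.ns i)⁻¹) * (Q.sys.ns i * Q.sys.x b 1 * (Q.sys.ns i)⁻¹) by
        group, H51.CW.ns_conj Q (hr4 ▸ hi) (by rw [H51.F4.nroots_eq]; exact ha),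
      H51.CW.ns_conj Q (hr4 ▸ hi) (by rw [H51.F4.nroots_eq]; exact hb), e1, e2]
  constructor
  · rw [hw']
    set z := Q.sys.x 44 (1 : F) * Q.sys.x 47 1 with hz
    set L := Cfsg.Lie.chevF4.posUnipotent F ⊔ Cfsg.Lie.chevF4.rootSubgroup F 20 ⊔
      Cfsg.Lie.chevF4.rootSubgroup F 22 with hL
    have hUz : ∀ u ∈ Q.sys.U, u ∈ Subgroup.centralizer {z} := fun u hu => by
      have := H51.F4.conj_high Q hu
      rw [Subgroup.mem_centralizer_singleton_iff]
      rw [mul_assoc, inv_mul_eq_iff_eq_mul] at this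
      exact this.symm
    have hZ : ∀ r, (24 ≤ r ∧ r < 48 ∨ r = 20 ∨ r = 22) → ∀ t,
        Q.sys.x r t ∈ L.subgroupOf _ ⊓ Subgroup.centralizer {z} := by
      intro r hr t
      have hm : (↑(Q.sys.x r t) : GL Cfsg.Lie.chevF4.Idx F) ∈
          Cfsg.Lie.chevF4.rootSubgroup F r := (Q.K.mem_rootSubgroup F).2 ⟨t, rfl⟩
      have hneg : ∀ i, i = 1 ∨ i = 2 → ∀ t,
          Q.sys.x (Cfsg.Lie.chevF4.neg (Cfsg.Lie.chevF4.simple i)) t ∈
            Subgroup.centralizer {z} := fun i hi t => by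
        refine H51.CW.neg_mem Q (by omega) ?_ (fun s => hUz _ (Q.sys.x_mem_U
          (Q.K.simple_lt i (by omega)).1 (Q.K.simple_lt i (by omega)).2 s)) t
        rcases hi with rfl | rfl <;>
          exact hns _ (by omega) 44 47 (by omega) (by omega) (by decide +kernel) (by decide +kernel)
      rcases hr with ⟨h1, h2⟩ | rfl | rfl
      · exact ⟨Subgroup.mem_subgroupOf.2 (Subgroup.mem_sup_left (Subgroup.mem_sup_left
          (Subgroup.subset_closure ⟨r, t, (hpos r).2 ⟨h1, h2⟩, rfl⟩))),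
          hUz _ (Q.sys.x_mem_U (by rw [H51.F4.nroots_eq]; omega)
            (by rw [H51.F4.nroots_eq]; omega) t)⟩
      · refine ⟨Subgroup.mem_subgroupOf.2 (Subgroup.mem_sup_left (Subgroup.mem_sup_right hm)), ?_⟩
        have := hneg 1 (Or.inl rfl) t
        rwa [s1, n1] at this
      · refine ⟨Subgroup.mem_subgroupOf.2 (Subgroup.mem_sup_right hm), ?_⟩
        have := hneg 2 (Or.inr rfl) t
        rwa [s2, n2] at this
    have hUK : ∀ u ∈ Q.sys.U, u ∈ L.subgroupOf (Cfsg.Lie.chevF4.group F) := fun u hu =>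
      (Agent.H37.RootSys.XS_le (fun r hr t => ((hZ r (Or.inl
        (H51.F4.P_bounds Q (Q.sys.P_eq ▸ Finset.mem_coe.1 hr))) t).1)) hu)
    apply le_antisymm
    · rintro g ⟨hg, hgc⟩
      refine H51.CW.centralizer_le Q H51.F4.pair_high (Z := Subgroup.centralizer {z})
        (K := L.subgroupOf _) ?_ ?_ (fun u hu h hh w v hv hm => H51.F4.fix_high Q hu hh w hv hm)
        ?_ (x := ⟨g, hg⟩) (Subgroup.mem_centralizer_singleton_iff.2
          (Subtype.ext (Subgroup.mem_centralizer_singleton_iff.1 hgc)))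
      · intro i hi t
        simp only [List.mem_cons, List.not_mem_nil, or_false] at hi
        rcases hi with rfl | rfl
        · rw [s1, n1]; exact ⟨hZ 27 (by omega) t, hZ 20 (by omega) t⟩
        · rw [s2, n2]; exact ⟨hZ 25 (by omega) t, hZ 22 (by omega) t⟩
      · intro r hr t
        simp only [List.mem_cons, List.not_mem_nil, or_false] at hr
        exact hZ r (by omega) t
      · intro u hu h hh hm
        obtain ⟨c, hc, hout⟩ := H51.F4.uh_high Q hu hh hm
        refine mul_mem (hUK u hu) (H51.CW.torus_mem Q (J := [1, 2]) ?_ hc hout)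
        intro i hi t
        simp only [List.mem_cons, List.not_mem_nil, or_false] at hi
        rcases hi with rfl | rfl
        · rw [s1, n1]; exact ⟨(hZ 27 (by omega) t).1, (hZ 20 (by omega) t).1⟩
        · rw [s2, n2]; exact ⟨(hZ 25 (by omega) t).1, (hZ 22 (by omega) t).1⟩
    · have key : ∀ r, (24 ≤ r ∧ r < 48 ∨ r = 20 ∨ r = 22) → ∀ t,
          (↑(Q.sys.x r t) : GL Cfsg.Lie.chevF4.Idx F) ∈
            Cfsg.Lie.chevF4.group F ⊓ Subgroup.centralizer {(z : GL _ F)} := fun r hr t =>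
        ⟨SetLike.coe_mem _, Subgroup.mem_centralizer_singleton_iff.2 (congrArg Subtype.val
          (Subgroup.mem_centralizer_singleton_iff.1 (hZ r hr t).2))⟩
      refine sup_le (sup_le ((Subgroup.closure_le _).2 ?_) ?_) ?_
      · rintro g ⟨r, t, hr, hg⟩
        rw [show g = ↑(Q.sys.x r t) from Units.ext hg]
        exact key r (Or.inl ((hpos r).1 hr)) t
      · intro g hg
        obtain ⟨t, rfl⟩ := (Q.K.mem_rootSubgroup F).1 hg
        exact key 20 (by omega) t
      · intro g hg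
        obtain ⟨t, rfl⟩ := (Q.K.mem_rootSubgroup F).1 hg
        exact key 22 (by omega) t
  · rw [hv']
    set z := Q.sys.x 39 (1 : F) * Q.sys.x 45 1 with hz
    set C := Subgroup.closure {g : GL Cfsg.Lie.chevF4.Idx F | ∃ (r : ℕ) (c : F),
      Cfsg.Lie.chevF4.IsPosRoot r ∧ r ∉ [27, 25, 34, 26] ∧
        (g : Matrix Cfsg.Lie.chevF4.Idx Cfsg.Lie.chevF4.Idx F) = Cfsg.Lie.chevF4.x F r c} with hC
    set L := Cfsg.Lie.chevF4.rootSubgroup F 33 ⊔ Cfsg.Lie.chevF4.rootSubgroup F 14 ⊔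
      Cfsg.Lie.chevF4.rootSubgroup F 24 ⊔ Cfsg.Lie.chevF4.rootSubgroup F 23 ⊔ C with hL
    have hZ : ∀ r, (24 ≤ r ∧ r < 48 ∧ r ∉ H51.F4.bad ∨ r = 14 ∨ r = 23) → ∀ t,
        Q.sys.x r t ∈ L.subgroupOf _ ⊓ Subgroup.centralizer {z} := by
      intro r hr t
      have hm : (↑(Q.sys.x r t) : GL Cfsg.Lie.chevF4.Idx F) ∈
          Cfsg.Lie.chevF4.rootSubgroup F r := (Q.K.mem_rootSubgroup F).2 ⟨t, rfl⟩
      rcases hr with ⟨h1, h2, h3⟩ | rfl | rfl
      · refine ⟨Subgroup.mem_subgroupOf.2 (Subgroup.mem_sup_right (Subgroup.subset_closure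
          ⟨r, t, (hpos r).2 ⟨h1, h2⟩, ?_, rfl⟩)), H51.F4.good_mem Q h1 h2 h3 t⟩
        simp [H51.F4.bad] at h3 ⊢
        omega
      · refine ⟨Subgroup.mem_subgroupOf.2 (Subgroup.mem_sup_left (Subgroup.mem_sup_left
          (Subgroup.mem_sup_left (Subgroup.mem_sup_right hm)))), ?_⟩
        have := H51.CW.neg_mem Q (i := 0) (by omega)
          (hns 0 (by omega) 39 45 (by omega) (by omega) (by decide +kernel) (by decide +kernel))
          (fun s => by rw [s0]; exact H51.F4.good_mem Q (by omega) (by omega) (by decide) s) t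
        rwa [s0, n0] at this
      · refine ⟨Subgroup.mem_subgroupOf.2 (Subgroup.mem_sup_left (Subgroup.mem_sup_right hm)), ?_⟩
        have := H51.CW.neg_mem Q (i := 3) (by omega)
          (hns 3 (by omega) 39 45 (by omega) (by omega) (by decide +kernel) (by decide +kernel))
          (fun s => by rw [s3]; exact H51.F4.good_mem Q (by omega) (by omega) (by decide) s) t
        rwa [s3, n3] at this
    have hJ : ∀ i ∈ [0, 3], ∀ t,
        Q.sys.x (Cfsg.Lie.chevF4.simple i) t ∈ L.subgroupOf _ ⊓ Subgroup.centralizer {z} ∧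
        Q.sys.x (Cfsg.Lie.chevF4.neg (Cfsg.Lie.chevF4.simple i)) t ∈
          L.subgroupOf _ ⊓ Subgroup.centralizer {z} := by
      intro i hi t
      simp only [List.mem_cons, List.not_mem_nil, or_false] at hi
      rcases hi with rfl | rfl
      · rw [s0, n0]
        exact ⟨hZ 33 (Or.inl ⟨by omega, by omega, by decide⟩) t, hZ 14 (by omega) t⟩
      · rw [s3, n3]
        exact ⟨hZ 24 (Or.inl ⟨by omega, by omega, by decide⟩) t, hZ 23 (by omega) t⟩
    apply le_antisymm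
    · rintro g ⟨hg, hgc⟩
      refine H51.CW.centralizer_le Q H51.F4.pair_low (Z := Subgroup.centralizer {z})
        (K := L.subgroupOf _) hJ ?_ (fun u hu h hh w v hv hm => H51.F4.fix_low Q hu hh w hv hm)
        ?_ (x := ⟨g, hg⟩) (Subgroup.mem_centralizer_singleton_iff.2
          (Subtype.ext (Subgroup.mem_centralizer_singleton_iff.1 hgc)))
      · intro r hr t
        simp only [List.mem_cons, List.not_mem_nil, or_false] at hr
        rcases hr with rfl | rfl <;> exact hZ _ (Or.inl ⟨by omega, by omega, by decide⟩) t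
      · intro u hu h hh hm
        obtain ⟨c, hc, hout, hhz⟩ := H51.F4.uh_low Q hu hh hm
        refine mul_mem ?_ (H51.CW.torus_mem Q (J := [0, 3])
          (fun i hi t => ⟨(hJ i hi t).1.1, (hJ i hi t).2.1⟩) hc hout)
        exact H51.F4.u_low Q (fun r h1 h2 h3 t => (hZ r (Or.inl ⟨h1, h2, h3⟩) t).1) hu
          ((Subgroup.mul_mem_cancel_right _ hhz).1 hm)
    · have key : ∀ r, (24 ≤ r ∧ r < 48 ∧ r ∉ H51.F4.bad ∨ r = 14 ∨ r = 23) →
          Cfsg.Lie.chevF4.rootSubgroup F r ≤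
            Cfsg.Lie.chevF4.group F ⊓ Subgroup.centralizer {(z : GL _ F)} := fun r hr g hg => by
        obtain ⟨t, rfl⟩ := (Q.K.mem_rootSubgroup F).1 hg
        exact ⟨Q.K.xU_mem_group F r t, Subgroup.mem_centralizer_singleton_iff.2
          (congrArg Subtype.val (Subgroup.mem_centralizer_singleton_iff.1 (hZ r hr t).2))⟩
      refine sup_le (sup_le (sup_le (sup_le (key 33 (Or.inl ⟨by omega, by omega, by decide⟩))
        (key 14 (by omega))) (key 24 (Or.inl ⟨by omega, by omega, by decide⟩))) (key 23 (by omega)))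
        ((Subgroup.closure_le _).2 ?_)
      rintro g ⟨r, t, hr, hnot, hg⟩
      refine key r (Or.inl ⟨((hpos r).1 hr).1, ((hpos r).1 hr).2, ?_⟩) ?_
      · simp [H51.F4.bad] at hnot ⊢
        omega
      · exact (Q.K.mem_rootSubgroup F).2 ⟨t, Units.ext hg⟩

end Cfsg.Agent.S2179
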