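import Cfsg.Statements.S2180
import Cfsg.Agent.H51.G2Cent
import Cfsg.Agent.H37.Chev.All

set_option autoImplicit false
open Cfsg

namespace Cfsg.Agent.S2180

/-- Centralizers of involutions in the Chevalley group G of type G₂ over a finite field F of characteristic two with at least four elements (this problem's root numbering for type G₂, from the Chevalley data module: a = p₁ short with index 7, b = p₂ long with index 6, −a = 4, −b = 5, 2a + b = 9, 3a + b = 10, 3a + 2b = 11; U generated by the positive root subgroups). For an element z of G with matrix x_{3a+2b}(1): the centralizer of z in G is generated by U and X_{−a}. For an element t of G with matrix x_{2a+b}(1): the centralizer of t in G is generated by X_{2a+b}, X_{3a+b}, X_{3a+2b}, X_b and X_{−b}. -/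
theorem result {F : Type*} [Field F] [Fintype F] [CharP F 2] (hF : 4 ≤ Fintype.card F) (z t : GL Cfsg.Lie.chevG2.Idx F) (hz : (z : Matrix Cfsg.Lie.chevG2.Idx Cfsg.Lie.chevG2.Idx F) = Cfsg.Lie.chevG2.x F 11 1) (ht : (t : Matrix Cfsg.Lie.chevG2.Idx Cfsg.Lie.chevG2.Idx F) = Cfsg.Lie.chevG2.x F 9 1) :
    Cfsg.Lie.chevG2.group F ⊓ Subgroup.centralizer {z} = Cfsg.Lie.chevG2.posUnipotent F ⊔ Cfsg.Lie.chevG2.rootSubgroup F 4 ∧
    Cfsg.Lie.chevG2.group F ⊓ Subgroup.centralizer {t} = Cfsg.Lie.chevG2.rootSubgroup F 9 ⊔ Cfsg.Lie.chevG2.rootSubgroup F 10 ⊔ Cfsg.Lie.chevG2.rootSubgroup F 11 ⊔ Cfsg.Lie.chevG2.rootSubgroup F 6 ⊔ Cfsg.Lie.chevG2.rootSubgroup F 5 := by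
  obtain ⟨Q, -⟩ := Agent.H37.Chev.exists_data (D := Cfsg.Lie.chevG2) (by simp) F
  constructor
  · rw [show z = Q.K.xU F 11 1 from Units.ext hz]
    have hb : H51.domB Cfsg.Lie.chevG2 11 [0] 1 = true := by decide +kernel
    rw [H51.centralizer_root Q (H51.dominant_of_domB (K := Q.K) hb) (H51.central_of_domB Q hb),
      Cfsg.Lie.ChevalleyDatum.rootSubgroup]
    have h4 : Cfsg.Lie.chevG2.neg (Cfsg.Lie.chevG2.simple 0) = 4 := by decide +kernel
    congr 2
    ext g
    simp [h4]
  · rw [show t = ↑(Q.sys.x 9 (1 : F)) from Units.ext ht]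
    set L := Cfsg.Lie.chevG2.rootSubgroup F 9 ⊔ Cfsg.Lie.chevG2.rootSubgroup F 10 ⊔
      Cfsg.Lie.chevG2.rootSubgroup F 11 ⊔ Cfsg.Lie.chevG2.rootSubgroup F 6 ⊔
      Cfsg.Lie.chevG2.rootSubgroup F 5 with hL
    apply le_antisymm
    · rintro g ⟨hg, hgc⟩
      refine H51.G2.centralizer_short Q (K := L.subgroupOf (Cfsg.Lie.chevG2.group F)) ?_
        (x := ⟨g, hg⟩) (Subgroup.mem_centralizer_singleton_iff.2
          (Subtype.ext (Subgroup.mem_centralizer_singleton_iff.1 hgc)))
      intro r hr s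
      rw [Subgroup.mem_subgroupOf]
      have hm : (↑(Q.sys.x r s) : GL Cfsg.Lie.chevG2.Idx F) ∈ Cfsg.Lie.chevG2.rootSubgroup F r :=
        (Q.K.mem_rootSubgroup F).2 ⟨s, rfl⟩
      simp only [List.mem_cons, List.not_mem_nil, or_false] at hr
      rcases hr with rfl | rfl | rfl | rfl | rfl
      · exact le_sup_right (a := Cfsg.Lie.chevG2.rootSubgroup F 9 ⊔
          Cfsg.Lie.chevG2.rootSubgroup F 10 ⊔ Cfsg.Lie.chevG2.rootSubgroup F 11 ⊔
          Cfsg.Lie.chevG2.rootSubgroup F 6) hm
      · exact Subgroup.mem_sup_left (Subgroup.mem_sup_right hm)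
      · exact Subgroup.mem_sup_left (Subgroup.mem_sup_left (Subgroup.mem_sup_left
          (Subgroup.mem_sup_left hm)))
      · exact Subgroup.mem_sup_left (Subgroup.mem_sup_left (Subgroup.mem_sup_left
          (Subgroup.mem_sup_right hm)))
      · exact Subgroup.mem_sup_left (Subgroup.mem_sup_left (Subgroup.mem_sup_right hm))
    · have key : ∀ r, r ∈ [5, 6, 9, 10, 11] → Cfsg.Lie.chevG2.rootSubgroup F r ≤
          Cfsg.Lie.chevG2.group F ⊓ Subgroup.centralizer {(↑(Q.sys.x 9 (1 : F)) : GL _ F)} := by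
        intro r hr g hg
        obtain ⟨s, rfl⟩ := (Q.K.mem_rootSubgroup F).1 hg
        refine ⟨Q.K.xU_mem_group F r s, Subgroup.mem_centralizer_singleton_iff.2 ?_⟩
        refine congrArg Subtype.val (?_ : Q.sys.x r s * Q.sys.x 9 1 = Q.sys.x 9 1 * Q.sys.x r s)
        simp only [List.mem_cons, List.not_mem_nil, or_false] at hr
        rcases hr with rfl | rfl | rfl | rfl | rfl
        · exact (H51.G2.comm_none Q (r := 5) (s := 9) (by omega) (by omega) (by omega)
            (by decide +kernel) (by decide +kernel) s 1).symm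
        · exact (H51.G2.c6_9 Q s 1).symm
        · rw [H51.G2.x_add Q (by omega), H51.G2.x_add Q (by omega), add_comm]
        · exact H51.G2.c9_10 Q 1 s
        · exact H51.G2.c9_11 Q 1 s
      exact sup_le (sup_le (sup_le (sup_le (key 9 (by decide)) (key 10 (by decide)))
        (key 11 (by decide))) (key 6 (by decide))) (key 5 (by decide))

end Cfsg.Agent.S2180
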