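import Cfsg.Statements.S2182
import Cfsg.Agent.H56.Inv.E62Classes
-- import your own Cfsg.Agent.* helpers here

set_option autoImplicit false
open Cfsg

namespace Cfsg.Agent.S2182

/-- The twisted group ²E₆(q), q even, realised inside the Chevalley group of type E₆ over the field K with q² elements, has exactly three conjugacy classes of elements of order 2. -/
theorem result {K : Type*} [Field K] [Fintype K] [CharP K 2] (q : ℕ) (hK : Fintype.card K = q ^ 2) :
    (ConjClasses.mk '' {g : ↥(Cfsg.Lie.twistedE6 K q) | orderOf g = 2}).ncard = 3 := by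
  obtain ⟨n, -, hn⟩ := FiniteField.card K 2
  have hq : IsPrimePow q := by
    have h2 : q ∣ 2 ^ (n : ℕ) := ⟨q, by rw [← hn, hK]; ring⟩
    obtain ⟨i, -, rfl⟩ := (Nat.dvd_prime_pow Nat.prime_two).1 h2
    refine (isPrimePow_nat_iff _).2 ⟨2, i, Nat.prime_two, ?_, rfl⟩
    by_contra h0
    have hi : i = 0 := by omega
    subst hi
    have := Fintype.one_lt_card (α := K)
    rw [hK] at this
    simp at this
  obtain ⟨φ, hφ⟩ := Cfsg.Agent.H37.Twist.exists_powHom hq hK
  exact Cfsg.Agent.H56.Inv.E62.ncard_classes hφ hK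

end Cfsg.Agent.S2182
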