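import Cfsg.Statements.S2185
import Cfsg.Agent.H27.F4Two.Unip
-- import your own Cfsg.Agent.* helpers here

set_option autoImplicit false
open Cfsg

namespace Cfsg.Agent.S2185

open Cfsg.Agent.H27.F4Two Cfsg.Agent.H37

/-- In the group ²F₄(2) (realised inside the Chevalley group of type F₄ over the field with two elements, θ the identity) every element of order 2 lies in the commutator subgroup (the Tits group, of index 2): there are no involutions outside it. -/
theorem result (g : ↥(Cfsg.Lie.twistedF4 (ZMod 2) 1)) (hg : orderOf g = 2) :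
    g ∈ commutator ↥(Cfsg.Lie.twistedF4 (ZMod 2) 1) := by
  classical
  haveI : Fact (Nat.Prime 2) := ⟨Nat.prime_two⟩
  have hcard := card_G
  haveI : Finite G := Nat.finite_of_card_ne_zero (by rw [hcard]; norm_num)
  have hfac : Nat.card UT = 2 ^ (Nat.card G).factorization 2 := by
    rw [card_UT, hcard, Nat.factorization_mul (by norm_num) (by norm_num), Finsupp.add_apply,
      show (4096 : ℕ) = 2 ^ 12 by norm_num, Nat.Prime.factorization_pow Nat.prime_two,
      Finsupp.single_eq_same, Nat.factorization_eq_zero_of_not_dvd (by norm_num)]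
  let S : Sylow 2 G := Sylow.ofCard UT hfac
  have hp : IsPGroup 2 (Subgroup.zpowers g) :=
    IsPGroup.of_card (n := 1) (by rw [Nat.card_zpowers, hg, pow_one])
  obtain ⟨P, hP⟩ := hp.exists_le_sylow
  obtain ⟨c, hc⟩ := MulAction.exists_smul_eq G S P
  have hgP : g ∈ ((c • S : Sylow 2 G) : Subgroup G) := by
    rw [hc]; exact hP (Subgroup.mem_zpowers g)
  rw [Sylow.coe_subgroup_smul, Subgroup.mem_pointwise_smul_iff_inv_smul_mem] at hgP
  have hsq : g * g = 1 := by
    have h2 := pow_orderOf_eq_one g; rw [hg, pow_two] at h2; exact h2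
  have hu : c⁻¹ * g * c ∈ UT := by simpa [S, MulAut.smul_def] using hgP
  have hu2 : (c⁻¹ * g * c) * (c⁻¹ * g * c) = 1 := by
    calc (c⁻¹ * g * c) * (c⁻¹ * g * c) = c⁻¹ * (g * g) * c := by group
      _ = 1 := by rw [hsq]; group
  have hm := sq_one_mem hu hu2
  have := (inferInstance : (commutator G).Normal).conj_mem _ hm c
  simpa [mul_assoc] using this

end Cfsg.Agent.S2185
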