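import Cfsg.Statements.S2190
import Cfsg.Agent.H51.SubMax.Main

set_option autoImplicit false
open Cfsg

namespace Cfsg.Agent.S2190

/-- Subfield subgroups of prime degree are maximal. Let K be a finite field with q^r elements, r a prime, q a power of the characteristic, and G the Chevalley group of type G₂, B₂, D₄, F₄, E₆, E₇ or E₈ over K (the matrix group generated by the root elements). Let M be the subgroup of G consisting of the matrices all of whose entries lie in the subfield with q elements (entries c with c^q = c). Then M is a proper subgroup of G and is maximal: every subgroup of G containing M is M or G. -/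
theorem result {K : Type*} [Field K] [Fintype K] (p : ℕ) [Fact p.Prime] [CharP K p] (D : Cfsg.Lie.ChevalleyDatum) (hD : D ∈ [Cfsg.Lie.chevG2, Cfsg.Lie.chevB2, Cfsg.Lie.chevD4, Cfsg.Lie.chevF4, Cfsg.Lie.chevE6, Cfsg.Lie.chevE7, Cfsg.Lie.chevE8]) (a r : ℕ) (ha : 1 ≤ a) (hr : r.Prime) (hK : Fintype.card K = (p ^ a) ^ r) (M : Subgroup (GL D.Idx K))
    (hM : ∀ g : GL D.Idx K, g ∈ M ↔ g ∈ D.group K ∧ ∀ i j : D.Idx, ((g : Matrix D.Idx D.Idx K) i j) ^ (p ^ a) = (g : Matrix D.Idx D.Idx K) i j) :
    M ≠ D.group K ∧ ∀ H : Subgroup (GL D.Idx K), M ≤ H → H ≤ D.group K → H = M ∨ H = D.group K := by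
  obtain ⟨Q, hS⟩ := Agent.H37.Chev.exists_data hD K
  set σ : K →+* K := iterateFrobenius K p a with hσdef
  have hσa : ∀ x, σ x = x ^ p ^ a := fun x => iterateFrobenius_def p a x
  have hσ : ∀ x, σ^[r] x = x := by
    have key : ∀ n x, σ^[n] x = x ^ (p ^ a) ^ n := by
      intro n
      induction n with
      | zero => simp
      | succ n ih =>
        intro x
        rw [Function.iterate_succ_apply', ih, hσa, ← pow_mul, ← pow_succ]
    intro x
    rw [key, ← hK, FiniteField.pow_card]
  have hmem : ∀ g : ↥(D.group K), g ∈ H51.Sub.fixG Q σ ↔ (g : GL D.Idx K) ∈ M := by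
    intro g
    rw [H51.Sub.mem_fixG, hM]
    constructor
    · intro h
      refine ⟨g.2, fun i j => ?_⟩
      have h' := congrArg (fun z : ↥(D.group K) => ((z : GL D.Idx K) : Matrix D.Idx D.Idx K) i j) h
      rw [← hσa]
      exact h'
    · rintro ⟨-, h⟩
      refine Subtype.ext (Units.ext (Matrix.ext fun i j => ?_))
      show σ ((((g : GL D.Idx K) : Matrix D.Idx D.Idx K)) i j) = _
      rw [hσa]
      exact h i j
  have hn : 0 < D.nroots := by
    have := (Q.K.simple_lt 0 (by have := Q.K.rank_pos; omega)).1; omega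
  constructor
  · intro hMG
    obtain ⟨g, hg⟩ := IsCyclic.exists_generator (α := Kˣ)
    have hq1 : 1 < p ^ a := Nat.one_lt_pow (by omega) (Fact.out : p.Prime).one_lt
    have hd : σ (g : K) ≠ g := by
      intro h
      rw [hσa] at h
      have h1 : g ^ (p ^ a - 1) = 1 := by
        refine mul_right_cancel (b := g) ?_
        rw [one_mul, ← pow_succ, Nat.sub_add_cancel hq1.le]
        exact Units.ext (by rw [Units.val_pow_eq_pow_val]; exact h)
      have h2 := Nat.le_of_dvd (by omega) (orderOf_dvd_of_pow_eq_one h1)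
      classical
      rw [orderOf_eq_card_of_forall_mem_zpowers hg, Nat.card_units, Nat.card_eq_fintype_card,
        hK] at h2
      have h3 : p ^ a < (p ^ a) ^ r := by
        conv_lhs => rw [← pow_one (p ^ a)]
        exact Nat.pow_lt_pow_right hq1 hr.one_lt
      omega
    set x := Q.sys.x (D.nroots - 1) (g : K) with hx
    have h : x ∈ H51.Sub.fixG Q σ := (hmem x).2 (hMG ▸ x.2)
    rw [H51.Sub.mem_fixG, hx, H51.Sub.frob_x] at h
    have h1 : Q.sys.x (D.nroots - 1) (σ (g : K) + -(g : K)) = 1 := by
      rw [Q.sys.x_add' _ (by omega), h, H51.Sub.x_neg_arg, mul_inv_cancel]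
    have h2 := (Q.K.xU_eq_one_iff K (by omega : D.nroots - 1 < D.nroots) _).1
      (congrArg Subtype.val h1)
    exact hd (add_neg_eq_zero.1 h2)
  · intro H hMH hHG
    rcases H51.Sub.eq_fix_or_top (p := p) Q (H := H.subgroupOf (D.group K)) hS hD hr hσ
      (fun g hg => Subgroup.mem_subgroupOf.2 (hMH ((hmem g).1 hg))) with h | h
    · left
      refine le_antisymm (fun g hg => ?_) hMH
      have : (⟨g, hHG hg⟩ : ↥(D.group K)) ∈ H.subgroupOf (D.group K) :=
        Subgroup.mem_subgroupOf.2 hg
      rw [h] at this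
      exact (hmem _).1 this
    · exact Or.inr (le_antisymm hHG (Subgroup.subgroupOf_eq_top.1 h))

end Cfsg.Agent.S2190
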