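import Cfsg.Statements.S2219
import Cfsg.Agent.H33.NineTwoQ.Cases
import Cfsg.Agent.H36.PSLEvenOrders
import Cfsg.Agent.H36.PSLRecognition
import Mathlib.FieldTheory.Finite.GaloisField

set_option autoImplicit false
open Cfsg

namespace Cfsg.Agent.S2219

set_option linter.style.haveILetI false

/-- Let G be a non-abelian finite simple group of order 9·2ᵃ·qᵇ for a prime q other than 2 and 3, having at least three conjugacy classes of nonidentity 3-elements (elements of order 3 or 9). Then G is isomorphic to PSL(2,8) or to PSL(2,17). -/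
theorem result {G : Type*} [Group G] [Finite G] [IsSimpleGroup G] (hG : ¬ IsMulCommutative G)
    (q a b : ℕ) (hq : q.Prime) (hq2 : q ≠ 2) (hq3 : q ≠ 3) (hcard : Nat.card G = 9 * 2 ^ a * q ^ b)
    (h3 : 3 ≤ Nat.card {C : ConjClasses G // ∃ g ∈ C.carrier, g ≠ 1 ∧ orderOf g ∣ 9}) :
    (∃ (F : Type) (_ : Field F) (_ : Fintype F), Fintype.card F = 8 ∧
        Nonempty (G ≃* Matrix.ProjectiveSpecialLinearGroup (Fin 2) F)) ∨
      Nonempty (G ≃* Matrix.ProjectiveSpecialLinearGroup (Fin 2) (ZMod 17)) := by
  haveI := Fintype.ofFinite G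
  haveI : Fact q.Prime := ⟨hq⟩
  obtain ⟨D⟩ := Agent.H33.NineTwoQ.exists_degreeData hG hq hq2 hq3 hcard h3
  let K : Agent.H33.NineTwoQ.Ctx G q a b :=
    { toDegreeData := D, noncomm := hG, prime := hq, ne_two := hq2, ne_three := hq3,
      card_eq := hcard }
  rcases K.card_cases with h | h
  · haveI : Fact (Nat.Prime 2) := ⟨Nat.prime_two⟩
    letI := Fintype.ofFinite (GaloisField 2 3)
    have hF : Fintype.card (GaloisField 2 3) = 8 := by
      rw [← Nat.card_eq_fintype_card, GaloisField.card 2 3 (by norm_num)]; norm_num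
    exact Or.inl ⟨GaloisField 2 3, inferInstance, inferInstance, hF,
      Agent.H36.PSLEvenOrders.psl_eight h hF⟩
  · haveI : Fact (Nat.Prime 17) := ⟨by norm_num⟩
    exact Or.inr (Agent.H36.PSLRecognition.iso_of_data Agent.H36.PSLRecognition.data_seventeen
      (m := 144) (by norm_num) (by rw [h]) (by norm_num) (by norm_num) (by decide +kernel)
      (ZMod.card 17))

end Cfsg.Agent.S2219
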