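import Cfsg.Statements.S2222
import Cfsg.Agent.H52.PairModel
import Cfsg.Agent.H52.Pronormal
import Cfsg.Agent.H52.Small

set_option autoImplicit false
open Cfsg

namespace Cfsg.Agent.S2222

/-- In the alternating group of degree n ≥ 5 every subgroup H of odd index is pronormal: for every element g, the subgroups H and gHg⁻¹ are conjugate by an element of the subgroup they generate. -/
theorem result (n : ℕ) (hn : 5 ≤ n)
    (H : Subgroup (alternatingGroup (Fin n))) (hH : Odd H.index) : Cfsg.IsPronormal H := by
  rcases Nat.lt_or_ge n 6 with h6 | h6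
  · obtain rfl : n = 5 := by omega
    have hdvd : H.index ∣ 60 := Cfsg.Agent.H52.nat_card_alt5 ▸ H.index_dvd_card
    have h15 : H.index ∣ 15 := by
      have hc : Nat.Coprime H.index 4 := by
        rw [show (4 : ℕ) = 2 ^ 2 by norm_num, Nat.coprime_pow_right_iff (by norm_num), Nat.coprime_two_right]
        exact hH
      exact hc.dvd_of_dvd_mul_left (by simpa using hdvd)
    have hmem : H.index ∈ Nat.divisors 15 := Nat.mem_divisors.2 ⟨h15, by norm_num⟩
    rw [show Nat.divisors 15 = {1, 3, 5, 15} by decide] at hmem
    simp only [Finset.mem_insert, Finset.mem_singleton] at hmem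
    rcases hmem with h | h | h | h
    · intro g
      exact ⟨g, Subgroup.mem_sup_left (by rw [Subgroup.index_eq_one.1 h]; exact Subgroup.mem_top g), rfl⟩
    · have h1 : H ≠ ⊤ := fun e => by rw [e, Subgroup.index_top] at h; omega
      exact absurd (Cfsg.Agent.H52.alt5_index_ge H h1) (by omega)
    · refine Cfsg.Agent.H52.pronormal_of_isCoatom H ⟨fun e => ?_, fun K hK => ?_⟩
      · rw [e, Subgroup.index_top] at h; omega
      · have hd := Subgroup.index_dvd_of_le hK.le
        rw [h] at hd
        rcases (Nat.dvd_prime (by norm_num)).1 hd with h2 | h2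
        · exact Subgroup.index_eq_one.1 h2
        · exfalso
          exact absurd (Subgroup.index_strictAnti hK) (by omega)
    · have hc : Nat.card H = 4 := by
        have h2 := H.card_mul_index
        rw [h, Cfsg.Agent.H52.nat_card_alt5] at h2
        omega
      have hs : IsPGroup 2 H := IsPGroup.of_card (n := 2) hc
      have hcoe := Cfsg.Agent.H52.pronormal_sylow (hs.toSylow (by rw [h]; norm_num))
      simpa using hcoe
  · exact Cfsg.Agent.H52.pronormal_of_selfNormalizing (p := 2) H
      (Cfsg.Agent.H52.selfNorm_alternating n h6)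
      (fun h => (Nat.not_even_iff_odd.2 hH) (even_iff_two_dvd.2 h))

end Cfsg.Agent.S2222
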