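import Cfsg.Statements.S2227
import Cfsg.Agent.H77.TwE6Five.Main

set_option autoImplicit false
open Cfsg

namespace Cfsg.Agent.S2227

/-- In the twisted group ²E₆(2) all elements of order 5 are conjugate, and the centralizer of an element of order 5 is isomorphic to the direct product of a cyclic group of order 5 with the alternating group of degree 8. -/
theorem result {K : Type*} [Field K] [Fintype K] (hK : Fintype.card K = 4) :
    (∀ x y : ↥(Cfsg.Lie.twistedE6 K 2), orderOf x = 5 → orderOf y = 5 → IsConj x y) ∧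
      ∀ x : ↥(Cfsg.Lie.twistedE6 K 2), orderOf x = 5 →
        Nonempty (↥(Subgroup.centralizer ({x} : Set ↥(Cfsg.Lie.twistedE6 K 2))) ≃* (Multiplicative (ZMod 5) × ↥(alternatingGroup (Fin 8)))) := by
  have h1 := Cfsg.Agent.H77.TwE6Five.one_class hK
  refine ⟨h1, fun x hx => ?_⟩
  obtain ⟨t, ht, ⟨e⟩⟩ := Cfsg.Agent.H77.TwE6Five.exists_centralizer hK
  obtain ⟨g, hg⟩ := isConj_iff.1 (h1 x t hx ht)
  have hmap : (Subgroup.centralizer ({x} : Set ↥(Cfsg.Lie.twistedE6 K 2))).map
      (MulAut.conj g).toMonoidHom = Subgroup.centralizer {t} := by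
    ext y
    rw [Subgroup.mem_map_equiv, MulAut.conj_symm_apply, Subgroup.mem_centralizer_singleton_iff,
      Subgroup.mem_centralizer_singleton_iff, ← hg]
    constructor
    · intro h
      calc y * (g * x * g⁻¹) = g * (g⁻¹ * y * g * x) * g⁻¹ := by group
        _ = g * (x * (g⁻¹ * y * g)) * g⁻¹ := by rw [h]
        _ = g * x * g⁻¹ * y := by group
    · intro h
      calc g⁻¹ * y * g * x = g⁻¹ * (y * (g * x * g⁻¹)) * g := by group
        _ = g⁻¹ * (g * x * g⁻¹ * y) * g := by rw [h]
        _ = x * (g⁻¹ * y * g) := by group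
  exact ⟨((MulAut.conj g).subgroupMap _).trans ((MulEquiv.subgroupCongr hmap).trans e)⟩

end Cfsg.Agent.S2227
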