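import Cfsg.Statements.S2240
import Cfsg.Agent.Suzuki.Borel

set_option autoImplicit false
open Cfsg

namespace Cfsg.Agent.S2240

/-- Elementary abelian TI-subgroups of the Suzuki group: let q = 2^(2m+1) with m ≥ 1, the group realised as the stabiliser in SL₄ of the Suzuki–Tits ovoid, and n ≥ 2. There is an elementary abelian 2-subgroup E of order 2^n that is a TI-subgroup (every conjugate of E meeting E nontrivially is E itself) if and only if n divides 2m + 1. -/
theorem result {F : Type*} [Field F] [Fintype F] {m : ℕ} (hm : 1 ≤ m) (hF : Fintype.card F = 2 ^ (2 * m + 1)) (n : ℕ) (hn : 2 ≤ n) :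
    (∃ E : Subgroup ↥(Cfsg.Sz F m), Cfsg.IsElementaryAbelian 2 E ∧ Nat.card ↥E = 2 ^ n ∧
      ∀ x : ↥(Cfsg.Sz F m), E ⊓ E.map (MulAut.conj x).toMonoidHom ≠ ⊥ → x ∈ Subgroup.normalizer (E : Set ↥(Cfsg.Sz F m))) ↔ n ∣ 2 * m + 1 := by
  have : Cfsg.Agent.Suzuki.SzField F m := ⟨hF, hm⟩
  refine ⟨?_, fun h => ?_⟩
  · rintro ⟨E, hEA, hcard, hTI⟩
    have hp : IsPGroup 2 E := IsPGroup.of_card hcard
    obtain ⟨P, hP⟩ := hp.exists_le_sylow
    obtain ⟨k, hk⟩ := Cfsg.Agent.Suzuki.exists_conj_U m P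
    rw [hk] at hP
    have e : ∀ g : ↥(Cfsg.Sz F m), (MulAut.conj k) ((MulAut.conj k).symm g) = g :=
      (MulAut.conj k).apply_symm_apply
    refine Cfsg.Agent.Suzuki.dvd_of_TI m (E := E.map (MulAut.conj k).symm.toMonoidHom) (by omega)
      ?_ ?_ ?_ ?_
    · rintro _ ⟨g, hg, rfl⟩
      obtain ⟨v, hv, rfl⟩ := hP hg
      rw [MulEquiv.coe_toMonoidHom, MulEquiv.coe_toMonoidHom, MulEquiv.symm_apply_apply]
      exact hv
    · rintro _ ⟨g, hg, rfl⟩
      rw [← map_mul, ← pow_two g, hEA.2 g hg, map_one]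
    · rw [← Nat.card_congr (E.equivMapOfInjective _ (MulAut.conj k).symm.injective).toEquiv, hcard]
    · intro x hx
      rw [← Subgroup.map_equiv_normalizer_eq, Subgroup.mem_map_equiv, MulEquiv.symm_symm]
      refine hTI _ (fun hbot => hx ((Subgroup.eq_bot_iff_forall _).mpr ?_))
      rintro _ ⟨⟨g, hg, rfl⟩, _, ⟨g', hg', rfl⟩, hgg'⟩
      have hmem : g ∈ E ⊓ E.map (MulAut.conj ((MulAut.conj k) x)).toMonoidHom := by
        refine ⟨hg, g', hg', ?_⟩
        have := congrArg (MulAut.conj k) hgg'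
        simp only [MulEquiv.coe_toMonoidHom, MulEquiv.apply_symm_apply] at this
        rw [← this]
        simp [MulAut.conj_apply, mul_assoc]
      rw [hbot, Subgroup.mem_bot] at hmem
      simp [hmem]
  · obtain ⟨E, hE, hE1, hE2⟩ := Cfsg.Agent.Suzuki.exists_TI (F := F) m (by omega) h
    exact ⟨E, hE, hE1, hE2⟩

end Cfsg.Agent.S2240
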