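import Cfsg.Statements.S2241
import Cfsg.Agent.Suzuki.Borel

set_option autoImplicit false
open Cfsg

namespace Cfsg.Agent.S2241

/-- Real 2-elements of the Suzuki group: with q = 2^(2m+1), m ≥ 1, and the group realised as the stabiliser in SL₄ of the Suzuki–Tits ovoid, a non-identity element of a Sylow 2-subgroup is conjugate to its inverse if and only if it is an involution; in particular no element of order 4 is conjugate to its inverse. -/
theorem result {F : Type*} [Field F] [Fintype F] {m : ℕ} (hm : 1 ≤ m) (hF : Fintype.card F = 2 ^ (2 * m + 1)) (P : Sylow 2 ↥(Cfsg.Sz F m)) (g : ↥(Cfsg.Sz F m)) (hg : g ∈ (P : Subgroup ↥(Cfsg.Sz F m))) (h1 : g ≠ 1) :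
    IsConj g g⁻¹ ↔ orderOf g = 2 := by
  have : Cfsg.Agent.Suzuki.SzField F m := ⟨hF, hm⟩
  obtain ⟨k, hk⟩ := Cfsg.Agent.Suzuki.exists_conj_U m P
  rw [hk] at hg
  obtain ⟨v, hv, rfl⟩ := hg
  rw [MulEquiv.coe_toMonoidHom] at *
  have hv1 : v ≠ 1 := fun h => h1 (by rw [h, map_one])
  constructor
  · intro h
    rw [MulEquiv.orderOf_eq, orderOf_eq_iff (by norm_num)]
    have hconj : IsConj v v⁻¹ := by
      have := MonoidHom.map_isConj (MulAut.conj k).symm.toMonoidHom h
      rw [MulEquiv.coe_toMonoidHom, map_inv, MulEquiv.symm_apply_apply] at this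
      exact this
    refine ⟨by rw [pow_two]; exact Cfsg.Agent.Suzuki.real_in_U m hv hv1 hconj, fun j hj hj0 => ?_⟩
    interval_cases j
    simpa using hv1
  · intro h
    have h2 := pow_orderOf_eq_one ((MulAut.conj k) v)
    rw [h, pow_two] at h2
    rw [inv_eq_of_mul_eq_one_right h2]

end Cfsg.Agent.S2241
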