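import Cfsg.Statements.S2244
import Cfsg.Agent.H51.WeaklyClosedG2
import Cfsg.Agent.H37.Chev.All

set_option autoImplicit false
open Cfsg

namespace Cfsg.Agent.S2244

open Cfsg.Lie Cfsg.Agent.H37 Cfsg.Agent.H37.RootSys Cfsg.Agent.H51

/-- The conversion from the group-level statement. -/
theorem of_certs {F : Type*} [Field F] [Fintype F] {D : ChevalleyDatum} (Q : Chev.Data D F)
    (hS : Chev.Sup Q.X.C D Q.X.n) {v : Fˣ} {Z W C : List ℤ} (hv : WC.Good v Z W)
    (hC : ∀ c ∈ C, (c : F) ≠ 0) {Es : List (List (ℕ × ℤ))} {R : ℕ → List ℕ}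
    (hsimp : WC.simpB D Z W Es R = true) {L : List (ℕ × ℕ × ℕ)}
    (hL : WC.allDer D Z W C Es L = true)
    (hexc : ∀ (X : Subgroup ↥(D.group F)), (∀ h ∈ Q.sys.H, ∀ y ∈ X, h * y * h⁻¹ ∈ X) →
      (∀ g ∈ Q.sys.U, ∀ y ∈ X, g * y * g⁻¹ ∈ X) → ∀ l < D.rank, R l ≠ [] → ∀ c ≠ 0,
      ∀ n ∈ XS Q.sys.x (↑(R l).toFinset : Set ℕ), Q.sys.x (D.simple l) c * n ∈ X →
      ∀ a, Q.sys.x (D.simple l) a ∈ X)
    (X : Subgroup (GL D.Idx F)) (hXU : X ≤ D.posUnipotent F)
    (hwc : ∀ g ∈ D.group F, X.map (MulAut.conj g).toMonoidHom ≤ D.posUnipotent F →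
      X.map (MulAut.conj g).toMonoidHom = X) :
    ∃ J : Set ℕ, (∀ j ∈ J, j < D.rank) ∧ X = D.unipotentRadical F J := by
  have hU : Q.sys.U = (D.posUnipotent F).subgroupOf (D.group F) := Q.amb_U
  set X' := X.subgroupOf (D.group F) with hX'
  have hXU' : X' ≤ Q.sys.U := fun y hy => by
    rw [hU]; exact Subgroup.mem_subgroupOf.2 (hXU (Subgroup.mem_subgroupOf.1 hy))
  have hwc' : ∀ g, (∀ y ∈ X', g * y * g⁻¹ ∈ Q.sys.U) → ∀ y, y ∈ X' ↔ g * y * g⁻¹ ∈ X' := by
    intro g hg y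
    have hle : X.map (MulAut.conj (g : GL D.Idx F)).toMonoidHom ≤ D.posUnipotent F := by
      rintro _ ⟨x, hx, rfl⟩
      have hxG : x ∈ D.group F := posUnipotent_le_group (hXU hx)
      have := hg ⟨x, hxG⟩ (Subgroup.mem_subgroupOf.2 hx)
      rw [hU] at this
      exact Subgroup.mem_subgroupOf.1 this
    have he := hwc _ g.2 hle
    simp only [hX', Subgroup.mem_subgroupOf]
    conv_rhs => rw [← he]
    constructor
    · intro hy
      exact ⟨y, hy, rfl⟩
    · rintro ⟨x, hx, e⟩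
      have : x = (y : GL D.Idx F) := by
        have e' : (g : GL D.Idx F) * x * (g : GL D.Idx F)⁻¹ =
            (g : GL D.Idx F) * (y : GL D.Idx F) * (g : GL D.Idx F)⁻¹ := e
        exact mul_left_cancel (mul_right_cancel e')
      rwa [← this]
  obtain ⟨J, hJ, he⟩ := WC.eq_radical Q hv hC hsimp hL hexc X' hXU' hwc'
  refine ⟨J, hJ, ?_⟩
  have hmap : X = X'.map (D.group F).subtype := by
    rw [hX', Subgroup.subgroupOf_map_subtype, inf_eq_left.2 (hXU.trans posUnipotent_le_group)]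
  rw [hmap, he]
  refine le_antisymm ?_ ((Subgroup.closure_le _).2 ?_)
  · rw [Subgroup.map_le_iff_le_comap]
    refine XS_le fun r ⟨hr1, hr2, hr3⟩ t => Subgroup.subset_closure ⟨r, t,
      (Q.ord.isPosRoot_iff r).2 ⟨hr1, hr2⟩, fun hin => ?_, Q.K.coe_xU F r t⟩
    exact hr3 ((Chev.inRootSub_iff Q.X.good Q.K hS).1 hin).2
  · rintro g ⟨r, t, hpos, hout, hg⟩
    obtain ⟨hr1, hr2⟩ := (Q.ord.isPosRoot_iff r).1 hpos
    obtain rfl : g = Q.K.xU F r t := Units.ext hg
    exact ⟨Q.sys.x r t, x_mem_XS (S := {r | r < D.nroots ∧ D.nroots / 2 ≤ r ∧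
      ¬ ∀ m < D.rank, m ∉ J → Q.K.cf r m = 0}) ⟨hr1, hr2, fun h => hout
        ((Chev.inRootSub_iff Q.X.good Q.K hS).2 ⟨hr1, h⟩)⟩ t, rfl⟩

/-- A generator of the multiplicative group decides the powers. -/
theorem exists_good {F : Type*} [Field F] [Fintype F] {Z W : List ℤ}
    (hZ : ∀ z ∈ Z, ((Fintype.card F : ℤ) - 1) ∣ z) (hW : ∀ z ∈ W, ¬ ((Fintype.card F : ℤ) - 1) ∣ z) :
    ∃ v : Fˣ, WC.Good v Z W := by
  classical
  obtain ⟨v, hv⟩ := IsCyclic.exists_generator (α := Fˣ)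
  have ho : (orderOf v : ℤ) = (Fintype.card F : ℤ) - 1 := by
    rw [orderOf_eq_card_of_forall_mem_zpowers hv, Nat.card_eq_fintype_card, Fintype.card_units,
      Nat.cast_sub Fintype.card_pos]
    norm_num
  exact ⟨v, fun z hz => orderOf_dvd_iff_zpow_eq_one.1 (ho ▸ hZ z hz),
    fun z hz h => hW z hz (ho ▸ orderOf_dvd_iff_zpow_eq_one.2 h)⟩

/-- Weakly closed unipotent subgroups of Chevalley groups: let G be the Chevalley group of type G₂, B₂, D₄, F₄, E₆, E₇ or E₈ over a finite field F (the matrix group generated by the root elements), with |F| ≠ 2, and |F| ≠ 3 as well for the types G₂, B₂, D₄, F₄. Let U be the subgroup generated by the positive root subgroups. If X ≤ U is weakly closed in U with respect to G (every G-conjugate of X lying in U equals X), then X is the unipotent radical U_J of a standard parabolic subgroup for some set J of fundamental roots. -/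
theorem result {F : Type*} [Field F] [Fintype F] (D : Cfsg.Lie.ChevalleyDatum) (hD : D ∈ [Cfsg.Lie.chevG2, Cfsg.Lie.chevB2, Cfsg.Lie.chevD4, Cfsg.Lie.chevF4, Cfsg.Lie.chevE6, Cfsg.Lie.chevE7, Cfsg.Lie.chevE8])
    (h2 : Fintype.card F ≠ 2) (h3 : D ∈ [Cfsg.Lie.chevG2, Cfsg.Lie.chevB2, Cfsg.Lie.chevD4, Cfsg.Lie.chevF4] → Fintype.card F ≠ 3)
    (X : Subgroup (GL D.Idx F)) (hXU : X ≤ D.posUnipotent F)
    (hwc : ∀ g ∈ D.group F, X.map (MulAut.conj g).toMonoidHom ≤ D.posUnipotent F → X.map (MulAut.conj g).toMonoidHom = X) :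
    ∃ J : Set ℕ, (∀ j ∈ J, j < D.rank) ∧ X = D.unipotentRadical F J := by
  classical
  have hq1 : 2 ≤ Fintype.card F := Fintype.one_lt_card
  have hq3 : 3 ≤ Fintype.card F := by omega
  have hd : ∀ (m : ℤ), 0 < |m| → |m| < (Fintype.card F : ℤ) - 1 →
      ¬ ((Fintype.card F : ℤ) - 1) ∣ m := fun m h0 h1 h => by
    have := Int.le_of_dvd h0 ((dvd_abs _ _).2 h)
    omega
  have hZ0 : ∀ z ∈ ([0] : List ℤ), ((Fintype.card F : ℤ) - 1) ∣ z := by simp
  have hC1 : ∀ c ∈ ([1, -1] : List ℤ), (c : F) ≠ 0 := by simp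
  have hW1 : ∀ z ∈ ([1, -1] : List ℤ), ¬ ((Fintype.card F : ℤ) - 1) ∣ z := by
    simp only [List.mem_cons, List.not_mem_nil, or_false]
    rintro z (rfl | rfl) <;> exact hd _ (by norm_num) (by norm_num; omega)
  simp only [List.mem_cons, List.not_mem_nil, or_false] at hD h3
  have hW2 : 4 ≤ Fintype.card F → ∀ z ∈ ([1, -1, 2, -2] : List ℤ),
      ¬ ((Fintype.card F : ℤ) - 1) ∣ z := by
    intro h4
    simp only [List.mem_cons, List.not_mem_nil, or_false]
    rintro z (rfl | rfl | rfl | rfl) <;> exact hd _ (by norm_num) (by norm_num; omega)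
  rcases hD with rfl | rfl | rfl | rfl | rfl | rfl | rfl
  · have hne : Fintype.card F ≠ 3 := h3 (Or.inl rfl)
    by_cases h4 : Fintype.card F = 4
    · obtain ⟨v, hv⟩ := exists_good (F := F) (Z := [0, 3, -3]) (W := [1, -1, 2, -2])
        (by rw [h4]; norm_num) (hW2 h4.ge)
      have h30 : (3 : F) ≠ 0 := fun h => by
        have h4' := FiniteField.cast_card_eq_zero F
        rw [h4] at h4'
        push_cast at h4'
        exact one_ne_zero (by linear_combination h4' - h : (1 : F) = 0)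
      refine of_certs (Chev.dataG2 F) (Chev.sup_of_check Chev.supB_G2) hv ?_ WC.simpG2four
        WC.allG2four ?_ X hXU hwc
      · simp [h30]
      · intro Y hH hU l hl hR c hc n hn hmem
        have hl1 : l = 1 := by
          by_contra h
          exact hR (if_neg h)
        subst hl1
        rw [if_pos rfl] at hn
        rw [show chevG2.simple 1 = 6 from rfl] at hmem ⊢
        exact WC.g2_exception (Chev.dataG2 F) hv (by simp [h30]) Y hH hU hc hn hmem
    · obtain ⟨v, hv⟩ := exists_good (F := F) (Z := [0]) (W := [1, -1, 2, -2, 3, -3]) hZ0 (by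
        simp only [List.mem_cons, List.not_mem_nil, or_false]
        rintro z (rfl | rfl | rfl | rfl | rfl | rfl) <;>
          exact hd _ (by norm_num) (by norm_num; omega))
      exact of_certs (Chev.dataG2 F) (Chev.sup_of_check Chev.supB_G2) hv hC1 WC.simpG2big
        WC.allG2big (fun _ _ _ _ _ h => absurd rfl h) X hXU hwc
  · obtain ⟨v, hv⟩ := exists_good (F := F) hZ0 (hW2 (by have := h3 (Or.inr (Or.inl rfl)); omega))
    exact of_certs (Chev.dataB2 F) (Chev.sup_of_check Chev.supB_B2) hv hC1 WC.simpB2 WC.allB2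
      (fun _ _ _ _ _ h => absurd rfl h) X hXU hwc
  · obtain ⟨v, hv⟩ := exists_good (F := F) hZ0
      (hW2 (by have := h3 (Or.inr (Or.inr (Or.inl rfl))); omega))
    exact of_certs (Chev.dataD4 F) (Chev.sup_of_check Chev.supB_D4) hv hC1 WC.simpD4 WC.allD4
      (fun _ _ _ _ _ h => absurd rfl h) X hXU hwc
  · obtain ⟨v, hv⟩ := exists_good (F := F) hZ0
      (hW2 (by have := h3 (Or.inr (Or.inr (Or.inr rfl))); omega))
    exact of_certs (Chev.dataF4 F) (Chev.sup_of_check Chev.supB_F4) hv hC1 WC.simpF4 WC.allF4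
      (fun _ _ _ _ _ h => absurd rfl h) X hXU hwc
  all_goals obtain ⟨v, hv⟩ := exists_good (F := F) hZ0 hW1
  · exact of_certs (Chev.dataE6 F) (Chev.sup_of_check Chev.supB_E6) hv hC1 WC.simpE6 WC.allE6
      (fun _ _ _ _ _ h => absurd rfl h) X hXU hwc
  · exact of_certs (Chev.dataE7 F) (Chev.sup_of_check Chev.supB_E7) hv hC1 WC.simpE7 WC.allE7
      (fun _ _ _ _ _ h => absurd rfl h) X hXU hwc
  · exact of_certs (Chev.dataE8 F) (Chev.sup_of_check Chev.supB_E8) hv hC1 WC.simpE8 WC.allE8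
      (fun _ _ _ _ _ h => absurd rfl h) X hXU hwc

end Cfsg.Agent.S2244
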