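import Cfsg.Statements.S2245
import Cfsg.Agent.H52.SylowStruct

set_option autoImplicit false
open Cfsg

namespace Cfsg.Agent.S2245

open Cfsg.Agent.H52 Equiv Pointwise in
/-- The uniqueness criterion in the pairing model, for both groups at once. -/
theorem model_iff (n : ℕ) (hn : 5 ≤ n) (h6 : n ≠ 6) (R : Sylow 2 (Perm (Fin (n / 2)))) :
    (UniqMax (wrSub (γ := Fin (n % 2)) (R : Subgroup (Perm (Fin (n / 2))))) ↔ ∃ k : ℕ, 2 ≤ k ∧ n = 2 ^ k + 1) ∧
    (UniqMax ((wrSub (γ := Fin (n % 2)) (R : Subgroup (Perm (Fin (n / 2))))).subgroupOf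
      (alternatingGroup ((Fin (n / 2) × Bool) ⊕ Fin (n % 2)))) ↔ ∃ k : ℕ, 2 ≤ k ∧ n = 2 ^ k + 1) := by
  have hm2 : 2 ≤ (n / 2) := by omega
  obtain ⟨h1, h2⟩ := sylow_struct (n / 2) R
  obtain ⟨b0⟩ : Nonempty (Fin (n / 2)) := ⟨⟨0, by omega⟩⟩
  have hτ := tau_mem (γ := Fin (n % 2)) (R : Subgroup (Perm (Fin (n / 2)))) b0
  have hτo := tau_notMem_alternating (γ := Fin (n % 2)) b0
  by_cases hp : ∃ k : ℕ, 2 ≤ k ∧ n = 2 ^ k + 1
  · obtain ⟨k, hk, hn'⟩ := hp
    obtain ⟨j, rfl⟩ : ∃ j, k = j + 1 := ⟨k - 1, by omega⟩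
    have he : 1 ≤ 2 ^ j := Nat.one_le_two_pow
    have hmj : (n / 2) = 2 ^ j := by rw [pow_succ] at hn'; omega
    haveI : Nonempty (Fin (n % 2)) := ⟨⟨0, by rw [pow_succ] at hn'; omega⟩⟩
    obtain ⟨I, hI1, hI2, hI3⟩ := gen_point (γ := Fin (n % 2)) (β := Fin (n / 2)) (by
      rw [Fintype.card_fin, hmj]
      rcases Nat.lt_or_ge j 2 with hj | hj
      · obtain rfl : j = 1 := by omega
        exact Or.inl rfl
      · exact Or.inr (le_trans (by norm_num) (Nat.pow_le_pow_right (by norm_num) hj : 2 ^ 2 ≤ 2 ^ j))) R (h2 j hmj).1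
    have hyes : ∃ k : ℕ, 2 ≤ k ∧ n = 2 ^ k + 1 := ⟨j + 1, hk, hn'⟩
    exact ⟨iff_of_true (uniqMax_perm _ I hI1 hI2 hI3 hτ hτo) hyes, iff_of_true (uniqMax_alt _ I hI1 hI2 hI3) hyes⟩
  · obtain ⟨U, V, hU, hV, hAU, hAV, hgen⟩ : ∃ U V : Subgroup (Perm ((Fin (n / 2) × Bool) ⊕ Fin (n % 2))),
        wrSub (R : Subgroup (Perm (Fin (n / 2)))) ≤ U ∧ wrSub (R : Subgroup (Perm (Fin (n / 2)))) ≤ V ∧
        ¬ alternatingGroup _ ≤ U ∧ ¬ alternatingGroup _ ≤ V ∧
        ∀ M : Subgroup (Perm ((Fin (n / 2) × Bool) ⊕ Fin (n % 2))), U ⊓ alternatingGroup _ ≤ M →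
          V ⊓ alternatingGroup _ ≤ M → alternatingGroup _ ≤ M := by
      obtain ⟨A, hA, hinv⟩ := h1 (by omega)
      have hAne : A.Nonempty := Set.nonempty_of_ncard_ne_zero (by rw [hA]; positivity)
      have hproper : (¬ ∃ j, (n / 2) = 2 ^ j) → Aᶜ.Nonempty := by
        intro hnp
        rw [Set.nonempty_compl]
        intro e
        rw [e, Set.ncard_univ, Nat.card_eq_fintype_card, Fintype.card_fin] at hA
        exact hnp ⟨_, hA⟩
      rcases Nat.mod_two_eq_zero_or_one n with he | he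
      · haveI : IsEmpty (Fin (n % 2)) := by rw [he]; infer_instance
        by_cases hpow : ∃ j, (n / 2) = 2 ^ j
        · obtain ⟨j, hj⟩ := hpow
          have hj2 : 2 ≤ j := by
            by_contra h
            interval_cases j <;> omega
          obtain ⟨B, hB, hBinv⟩ := (h2 j hj).2 (by omega)
          have h4 : 2 ^ 1 ≤ 2 ^ (j - 1) := Nat.pow_le_pow_right (by norm_num) (by omega)
          have hBc : Bᶜ.ncard = 2 ^ (j - 1) := by
            rw [Set.ncard_compl, hB, Nat.card_eq_fintype_card, Fintype.card_fin, hj]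
            have : 2 ^ j = 2 ^ (j - 1) * 2 := by rw [← pow_succ]; congr 1; omega
            omega
          exact gen_pairs_halves ((Set.one_lt_ncard (Set.toFinite _)).1 (by omega) |> fun ⟨a, ha, b, hb, h⟩ => ⟨a, ha, b, hb, h⟩)
            ((Set.one_lt_ncard (Set.toFinite _)).1 (by omega) |> fun ⟨a, ha, b, hb, h⟩ => ⟨a, ha, b, hb, h⟩) hBinv
        · refine gen_pairs_set hAne (hproper hpow) ?_ hinv
          rw [hA, Nat.card_eq_fintype_card, Fintype.card_fin, ← pow_succ']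
          exact fun e => hpow ⟨_, e⟩
      · haveI : Nonempty (Fin (n % 2)) := ⟨⟨0, by omega⟩⟩
        refine gen_fixed_set hAne (hproper ?_) hinv
        rintro ⟨j, hj⟩
        refine hp ⟨j + 1, ?_, by rw [pow_succ]; omega⟩
        rcases Nat.eq_zero_or_pos j with rfl | h
        · rw [pow_zero] at hj; omega
        · omega
    exact ⟨iff_of_false (not_uniqMax_perm _ U V hU hV hAU hAV hgen hτ hτo) hp,
      iff_of_false (not_uniqMax_alt _ U V hU hV hAU hAV hgen) hp⟩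


/-- For n ≥ 5 with n ≠ 6, a Sylow 2-subgroup of the alternating group A_n lies in exactly one maximal subgroup of A_n if and only if n = 2^k + 1 for some k ≥ 2; the same holds for the symmetric group S_n. -/
theorem result (n : ℕ) (hn : 5 ≤ n) (h6 : n ≠ 6) :
    ((∀ R : Sylow 2 ↥(alternatingGroup (Fin n)), (∃! M : Subgroup ↥(alternatingGroup (Fin n)), IsCoatom M ∧ (R : Subgroup ↥(alternatingGroup (Fin n))) ≤ M) ↔ ∃ k : ℕ, 2 ≤ k ∧ n = 2 ^ k + 1) ∧
    (∀ R : Sylow 2 (Equiv.Perm (Fin n)), (∃! M : Subgroup (Equiv.Perm (Fin n)), IsCoatom M ∧ (R : Subgroup (Equiv.Perm (Fin n))) ≤ M) ↔ ∃ k : ℕ, 2 ≤ k ∧ n = 2 ^ k + 1)) := by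
  obtain ⟨Q⟩ : Nonempty (Sylow 2 (Equiv.Perm (Fin (n / 2)))) := inferInstance
  obtain ⟨hperm, halt⟩ := model_iff n hn h6 Q
  set e := Cfsg.Agent.H52.modelEquiv n
  refine ⟨fun R => ?_, fun R => ?_⟩
  · have hmem : Cfsg.Agent.H52.tau ⟨0, by omega⟩ ∈
        ((Cfsg.Agent.H52.wrSylow (γ := Fin (n % 2)) Q : Sylow 2 (Equiv.Perm ((Fin (n / 2) × Bool) ⊕ Fin (n % 2)))) :
          Subgroup (Equiv.Perm ((Fin (n / 2) × Bool) ⊕ Fin (n % 2)))) := by
      rw [Cfsg.Agent.H52.coe_wrSylow]; exact Cfsg.Agent.H52.tau_mem _ _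
    obtain ⟨S, hS⟩ := Cfsg.Agent.H52.exists_altSylow _ hmem (Cfsg.Agent.H52.tau_notMem_alternating _)
    rw [Cfsg.Agent.H52.coe_wrSylow] at hS
    rw [← hS] at halt
    have hsur : Function.Surjective e.altCongrHom.toMonoidHom := e.altCongrHom.surjective
    refine Iff.trans ?_ halt
    rw [← Cfsg.Agent.H52.uniqMax_map e.altCongrHom, ← Sylow.coe_mapSurjective hsur S]
    exact Cfsg.Agent.H52.uniqMax_sylow_iff R (S.mapSurjective hsur)
  · rw [← Cfsg.Agent.H52.coe_wrSylow] at hperm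
    have hsur : Function.Surjective e.permCongrHom.toMonoidHom := e.permCongrHom.surjective
    refine Iff.trans ?_ hperm
    rw [← Cfsg.Agent.H52.uniqMax_map e.permCongrHom, ← Sylow.coe_mapSurjective hsur _]
    exact Cfsg.Agent.H52.uniqMax_sylow_iff R _

end Cfsg.Agent.S2245
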