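import Cfsg.Statements.S2247
import Cfsg.Agent.Suzuki.Borel

set_option autoImplicit false
open Cfsg

namespace Cfsg.Agent.S2247

/-- In the Suzuki group with q = 2^(2m+1), m ≥ 1 (realised as the stabiliser in SL₄ of the Suzuki–Tits ovoid), the normalizer of a Sylow 2-subgroup P is a maximal subgroup and is the only maximal subgroup containing P. -/
theorem result {F : Type*} [Field F] [Fintype F] {m : ℕ} (hm : 1 ≤ m) (hF : Fintype.card F = 2 ^ (2 * m + 1)) (P : Sylow 2 ↥(Cfsg.Sz F m)) :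
    IsCoatom (Subgroup.normalizer ((P : Subgroup ↥(Cfsg.Sz F m)) : Set ↥(Cfsg.Sz F m))) ∧
    ∀ M : Subgroup ↥(Cfsg.Sz F m), IsCoatom M → (P : Subgroup ↥(Cfsg.Sz F m)) ≤ M → M = Subgroup.normalizer ((P : Subgroup ↥(Cfsg.Sz F m)) : Set ↥(Cfsg.Sz F m)) := by
  have : Cfsg.Agent.Suzuki.SzField F m := ⟨hF, hm⟩
  obtain ⟨k, hk⟩ := Cfsg.Agent.Suzuki.exists_conj_U m P
  have hN : Subgroup.normalizer ((P : Subgroup ↥(Cfsg.Sz F m)) : Set ↥(Cfsg.Sz F m)) =
      (Cfsg.Agent.Suzuki.B m).map (MulAut.conj k).toMonoidHom := by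
    rw [hk, Cfsg.Agent.Suzuki.normalizer_map_U]
  have hmap : ∀ A : Subgroup ↥(Cfsg.Sz F m), (MulAut.conj k).mapSubgroup A =
      A.map (MulAut.conj k).toMonoidHom := fun A => rfl
  rw [hN, ← hmap]
  refine ⟨(OrderIso.isCoatom_iff (MulAut.conj k).mapSubgroup _).mpr
    (Cfsg.Agent.Suzuki.isCoatom_B m), fun M hM hPM => ?_⟩
  obtain ⟨M', rfl⟩ := (MulAut.conj k).mapSubgroup.surjective M
  rw [hk, ← hmap, OrderIso.le_iff_le] at hPM
  rw [Cfsg.Agent.Suzuki.coatom_eq_B m ((OrderIso.isCoatom_iff _ _).mp hM) hPM]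

end Cfsg.Agent.S2247
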