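import Cfsg.Statements.S2249
import Cfsg.Agent.H52.SplitSylow

set_option autoImplicit false
open Cfsg

namespace Cfsg.Agent.S2249

/-- The normal 2-rank of the general linear group over a finite field of odd order q: for n ≥ 1 and S a Sylow 2-subgroup of GL_n(F), the largest rank of an elementary abelian subgroup of S that is normal in S equals n when q ≡ 1 (mod 4) and ⌊(n + 1)/2⌋ when q ≡ 3 (mod 4). -/
theorem result {F : Type*} [Field F] [Fintype F] {q : ℕ} (hF : Fintype.card F = q) (hodd : Odd q) (n : ℕ) (hn : 1 ≤ n) (S : Sylow 2 (Matrix.GeneralLinearGroup (Fin n) F)) :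
    (q % 4 = 1 → ((∃ E : Subgroup ↥(S : Subgroup (Matrix.GeneralLinearGroup (Fin n) F)), E.Normal ∧ Cfsg.IsElementaryAbelian 2 E ∧ 2 ^ (n) ≤ Nat.card ↥E) ∧
      ∀ E : Subgroup ↥(S : Subgroup (Matrix.GeneralLinearGroup (Fin n) F)), E.Normal → Cfsg.IsElementaryAbelian 2 E → Nat.card ↥E ≤ 2 ^ (n))) ∧
    (q % 4 = 3 → ((∃ E : Subgroup ↥(S : Subgroup (Matrix.GeneralLinearGroup (Fin n) F)), E.Normal ∧ Cfsg.IsElementaryAbelian 2 E ∧ 2 ^ ((n + 1) / 2) ≤ Nat.card ↥E) ∧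
      ∀ E : Subgroup ↥(S : Subgroup (Matrix.GeneralLinearGroup (Fin n) F)), E.Normal → Cfsg.IsElementaryAbelian 2 E → Nat.card ↥E ≤ 2 ^ ((n + 1) / 2))) := by
  classical
  let V := Fin n → F
  let e : Matrix.GeneralLinearGroup (Fin n) F ≃* (V ≃ₗ[F] V) :=
    Matrix.GeneralLinearGroup.toLin.trans (LinearMap.GeneralLinearGroup.generalLinearEquiv F V)
  have hsurj : Function.Surjective e.toMonoidHom := e.surjective
  have hinj : Function.Injective e.toMonoidHom := e.injective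
  set SS : Subgroup (Matrix.GeneralLinearGroup (Fin n) F) := (S : Subgroup (Matrix.GeneralLinearGroup (Fin n) F)) with hSS
  set T := S.mapSurjective hsurj with hT
  have hcoe : (T : Subgroup (V ≃ₗ[F] V)) = SS.map e.toMonoidHom := Sylow.coe_mapSurjective hsurj S
  have hq : Odd (Nat.card F) := by rw [Nat.card_eq_fintype_card, hF]; exact hodd
  obtain ⟨h1, h3⟩ := Cfsg.Agent.H52.Split.normal_two_rank (V := V) hq (Module.finrank_fin_fun F) T
  rw [Nat.card_eq_fintype_card, hF] at h1 h3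
  have down : ∀ b : ℕ, (∃ E : Subgroup (V ≃ₗ[F] V), E ≤ (T : Subgroup (V ≃ₗ[F] V)) ∧
      (∀ g ∈ (T : Subgroup (V ≃ₗ[F] V)), g ∈ Subgroup.normalizer (E : Set (V ≃ₗ[F] V))) ∧
      (∀ x ∈ E, x ^ 2 = 1) ∧ 2 ^ b ≤ Nat.card E) →
      ∃ E : Subgroup ↥SS, E.Normal ∧ Cfsg.IsElementaryAbelian 2 E ∧ 2 ^ b ≤ Nat.card ↥E := by
    rintro b ⟨E, hES, hN, hsq, hcard⟩
    have hle : E.comap e.toMonoidHom ≤ SS := by
      intro x hx
      have := hES hx
      rw [hcoe] at this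
      exact (Subgroup.mem_map_iff_mem (f := e.toMonoidHom) hinj).1 this
    have hsq' : ∀ x : ↥SS, x ∈ (E.comap e.toMonoidHom).subgroupOf SS → x ^ 2 = 1 := by
      intro x hx
      apply Subtype.ext
      apply e.injective
      rw [Subgroup.coe_pow, map_pow, Subgroup.coe_one, map_one]
      exact hsq _ hx
    refine ⟨(E.comap e.toMonoidHom).subgroupOf SS, ⟨fun x hx g => ?_⟩, ⟨?_, hsq'⟩, ?_⟩
    · have hg := hN (e g.1) (by rw [hcoe]; exact Subgroup.mem_map_of_mem _ g.2)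
      have := (Subgroup.mem_normalizer_iff.1 hg (e x.1)).1 hx
      change e (g * x * g⁻¹).1 ∈ E
      simpa using this
    · refine ⟨⟨fun a c => ?_⟩⟩
      have hinv : ∀ c : ↥((E.comap e.toMonoidHom).subgroupOf SS), c⁻¹ = c := fun c =>
        inv_eq_of_mul_eq_one_left (Subtype.ext (by
          rw [Subgroup.coe_mul, Subgroup.coe_one, ← pow_two]; exact hsq' _ c.2))
      rw [← hinv (a * c), mul_inv_rev, hinv a, hinv c]
    · refine hcard.trans (le_of_eq ?_)
      rw [Nat.card_congr (Subgroup.subgroupOfEquivOfLe hle).toEquiv,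
        ← Subgroup.card_map_of_injective (K := E.comap e.toMonoidHom) hinj,
        Subgroup.map_comap_eq_self_of_surjective hsurj]
  have up : ∀ E : Subgroup ↥SS, E.Normal → Cfsg.IsElementaryAbelian 2 E →
      ((E.map SS.subtype).map e.toMonoidHom) ≤ (T : Subgroup (V ≃ₗ[F] V)) ∧
      (∀ g ∈ (T : Subgroup (V ≃ₗ[F] V)), g ∈ Subgroup.normalizer (((E.map SS.subtype).map e.toMonoidHom : Subgroup (V ≃ₗ[F] V)) : Set (V ≃ₗ[F] V))) ∧
      (∀ x ∈ (E.map SS.subtype).map e.toMonoidHom, x ^ 2 = 1) ∧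
      Nat.card ((E.map SS.subtype).map e.toMonoidHom : Subgroup (V ≃ₗ[F] V)) = Nat.card E := by
    intro E hn' hE
    refine ⟨?_, ?_, ?_, ?_⟩
    · rw [hcoe]; exact Subgroup.map_mono (Subgroup.map_subtype_le E)
    · intro g hg
      rw [hcoe] at hg
      obtain ⟨g, hg, rfl⟩ := hg
      have key : ∀ y ∈ SS, ∀ t ∈ (E.map SS.subtype).map e.toMonoidHom, e y * t * (e y)⁻¹ ∈ (E.map SS.subtype).map e.toMonoidHom := by
        rintro y hy _ ⟨_, ⟨x, hx, rfl⟩, rfl⟩
        refine ⟨_, ⟨_, hn'.conj_mem x hx ⟨y, hy⟩, rfl⟩, ?_⟩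
        simp
      rw [Subgroup.mem_normalizer_iff]
      intro t
      refine ⟨key g hg t, fun h => ?_⟩
      have h' := key g⁻¹ (SS.inv_mem hg) _ h
      simpa [mul_assoc] using h'
    · rintro _ ⟨_, ⟨x, hx, rfl⟩, rfl⟩
      rw [← map_pow, ← map_pow, hE.2 x hx, map_one, map_one]
    · rw [Subgroup.card_map_of_injective hinj, Subgroup.card_map_of_injective SS.subtype_injective]
  refine ⟨fun hq1 => ⟨down n (h1 hq1).1, fun E hn' hE => ?_⟩, fun hq3 => ⟨down _ (h3 hq3).1, fun E hn' hE => ?_⟩⟩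
  · obtain ⟨-, -, a, b⟩ := up E hn' hE
    exact b ▸ (h1 hq1).2 _ a
  · obtain ⟨a1, a2, a3, b⟩ := up E hn' hE
    exact b ▸ (h3 hq3).2 _ a1 a2 a3

end Cfsg.Agent.S2249
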