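import Cfsg.Statements.S2250
import Cfsg.Agent.Symplectic.Std
import Cfsg.Agent.H52.PlaneFrames

set_option autoImplicit false
open Cfsg

namespace Cfsg.Agent.S2250

/-- The normal 2-rank of the symplectic group over a finite field of odd order: for n ≥ 1 and S a Sylow 2-subgroup of Sp_{2n}(F), the largest rank of an elementary abelian subgroup of S that is normal in S equals n. -/
theorem result {F : Type*} [Field F] [Fintype F] (hF : Odd (Fintype.card F)) (n : ℕ) (hn : 1 ≤ n) (S : Sylow 2 ↥(Matrix.symplecticGroup (Fin n) F)) :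
    ((∃ E : Subgroup ↥(S : Subgroup ↥(Matrix.symplecticGroup (Fin n) F)), E.Normal ∧ Cfsg.IsElementaryAbelian 2 E ∧ 2 ^ (n) ≤ Nat.card ↥E) ∧
      ∀ E : Subgroup ↥(S : Subgroup ↥(Matrix.symplecticGroup (Fin n) F)), E.Normal → Cfsg.IsElementaryAbelian 2 E → Nat.card ↥E ≤ 2 ^ (n)) := by
  classical
  open Cfsg.Agent.Symplectic Cfsg.Agent.H52.Planes in
  obtain ⟨hA, hB⟩ := And.intro (spB_alt n F) (spB_nondeg n F)
  have hq : Odd (Nat.card F) := by rwa [Nat.card_eq_fintype_card]
  have h2 : (2 : F) ≠ 0 := by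
    intro h
    have h2' : ((2 : ℕ) : F) = 0 := by exact_mod_cast h
    have hd := (CharP.cast_eq_zero_iff F (ringChar F) 2).1 h2'
    have hp : (ringChar F).Prime := CharP.char_prime_of_ne_zero F (CharP.char_ne_zero_of_finite F (ringChar F))
    have he : ringChar F = 2 := (Nat.prime_dvd_prime_iff_eq hp Nat.prime_two).1 hd
    have hev := FiniteField.even_card_iff_char_two.1 he
    have := Nat.odd_iff.1 hF
    omega
  have hm : Module.finrank F (Fin n ⊕ Fin n → F) = 2 * n := by
    rw [Module.finrank_pi, Fintype.card_sum, Fintype.card_fin]; omega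
  let e := Cfsg.Agent.Symplectic.spEquiv n F
  have hsurj : Function.Surjective e.toMonoidHom := e.surjective
  have hinj : Function.Injective e.toMonoidHom := e.injective
  constructor
  · obtain ⟨E, hES, hN, hsq, hcard⟩ := Cfsg.Agent.H52.Planes.exists_normal_elemAbelian hA hB hq h2 hm
      (S.mapSurjective hsurj)
    have hES' : E.comap e.toMonoidHom ≤ (S : Subgroup ↥(Matrix.symplecticGroup (Fin n) F)) := by
      intro x hx
      have := hES hx
      rw [Sylow.coe_mapSurjective] at this
      exact (Subgroup.mem_map_iff_mem (f := e.toMonoidHom) e.injective).1 this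
    have hsq' : ∀ x : ↥(S : Subgroup ↥(Matrix.symplecticGroup (Fin n) F)),
        x ∈ (E.comap e.toMonoidHom).subgroupOf (S : Subgroup ↥(Matrix.symplecticGroup (Fin n) F)) → x ^ 2 = 1 := by
      intro x hx
      apply Subtype.ext
      apply e.injective
      rw [Subgroup.coe_pow, map_pow, Subgroup.coe_one, map_one]
      exact hsq _ hx
    refine ⟨(E.comap e.toMonoidHom).subgroupOf (S : Subgroup ↥(Matrix.symplecticGroup (Fin n) F)), ⟨fun x hx g => ?_⟩, ⟨?_, hsq'⟩, ?_⟩
    · have hg : e g.1 ∈ Subgroup.normalizer (E : Set _) := hN _ (by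
        rw [Sylow.coe_mapSurjective]; exact Subgroup.mem_map_of_mem _ g.2)
      have := (Subgroup.mem_normalizer_iff.1 hg (e x.1)).1 hx
      change e (((g * x * g⁻¹ : _)).1) ∈ E
      simpa using this
    · refine ⟨⟨fun a b => ?_⟩⟩
      have hinv : ∀ c : ↥((E.comap e.toMonoidHom).subgroupOf (S : Subgroup ↥(Matrix.symplecticGroup (Fin n) F))), c⁻¹ = c := fun c =>
        inv_eq_of_mul_eq_one_left (Subtype.ext (by
          rw [Subgroup.coe_mul, Subgroup.coe_one, ← pow_two]; exact hsq' _ c.2))
      rw [← hinv (a * b), mul_inv_rev, hinv a, hinv b]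
    · refine hcard.trans (le_of_eq ?_)
      rw [Nat.card_congr (Subgroup.subgroupOfEquivOfLe hES').toEquiv,
        ← Subgroup.card_map_of_injective (K := E.comap e.toMonoidHom) hinj,
        Subgroup.map_comap_eq_self_of_surjective hsurj]
  · intro E _ hE
    have hle := Cfsg.Agent.H52.Planes.card_elemAbelian_le hA hB h2 hm
      ((E.map (S : Subgroup ↥(Matrix.symplecticGroup (Fin n) F)).subtype).map e.toMonoidHom) (by
        rintro _ ⟨_, ⟨x, hx, rfl⟩, rfl⟩
        rw [← map_pow, ← map_pow, hE.2 x hx, map_one, map_one])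
    rwa [Subgroup.card_map_of_injective hinj,
      Subgroup.card_map_of_injective (S : Subgroup ↥(Matrix.symplecticGroup (Fin n) F)).subtype_injective] at hle

end Cfsg.Agent.S2250
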