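import Cfsg.Statements.S2251
import Cfsg.Agent.Suzuki.Subgroups

set_option autoImplicit false
open Cfsg

namespace Cfsg.Agent.S2251

/-- The subgroups of the Suzuki group: with q = 2^(2m+1), m ≥ 1, r = 2^m and the group realised as the stabiliser in SL₄ of the Suzuki–Tits ovoid, every proper subgroup is contained in the normalizer of a Sylow 2-subgroup, or in the normalizer of a cyclic subgroup of order q − 1, q + 2r + 1 or q − 2r + 1, or in a subgroup isomorphic to a smaller Suzuki group Sz(s) with s = 2^(2k+1) ≥ 8 and 2k+1 a proper divisor of 2m+1. -/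
theorem result {F : Type*} [Field F] [Fintype F] {m : ℕ} (hm : 1 ≤ m) (hF : Fintype.card F = 2 ^ (2 * m + 1)) (M : Subgroup ↥(Cfsg.Sz F m)) (hM : M ≠ ⊤) :
    (∃ P : Sylow 2 ↥(Cfsg.Sz F m), M ≤ Subgroup.normalizer ((P : Subgroup ↥(Cfsg.Sz F m)) : Set ↥(Cfsg.Sz F m))) ∨
    (∃ U : Subgroup ↥(Cfsg.Sz F m), IsCyclic ↥U ∧ Nat.card ↥U ∈ ({2 ^ (2 * m + 1) - 1, 2 ^ (2 * m + 1) + 2 ^ (m + 1) + 1, 2 ^ (2 * m + 1) - 2 ^ (m + 1) + 1} : Set ℕ) ∧
      M ≤ Subgroup.normalizer (U : Set ↥(Cfsg.Sz F m))) ∨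
    (∃ (K : Type) (_ : Field K) (_ : Fintype K) (k : ℕ), 1 ≤ k ∧ k < m ∧ Fintype.card K = 2 ^ (2 * k + 1) ∧ 2 * k + 1 ∣ 2 * m + 1 ∧
      ∃ S : Subgroup ↥(Cfsg.Sz F m), Nonempty (↥S ≃* ↥(Cfsg.Sz K k)) ∧ M ≤ S) := by
  have : Cfsg.Agent.Suzuki.SzField F m := ⟨hF, hm⟩
  rcases Cfsg.Agent.Suzuki.subgroup_type m M with ⟨p, hp⟩ | ⟨V, hc, hn, hle⟩ | ⟨k, hk, hd, c, hc⟩
  · exact Or.inl (Cfsg.Agent.Suzuki.le_normalizer_sylow m hp)
  · refine Or.inr (Or.inl ⟨V, hc, ?_, hle⟩)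
    simp only [Set.mem_insert_iff, Set.mem_singleton_iff]
    exact hn
  · refine Or.inr (Or.inr ?_)
    have hkm : k < m := by
      have hle : 2 * k + 1 ≤ 2 * m + 1 := Nat.le_of_dvd (by omega) hd
      by_contra hlt
      rw [Cfsg.Agent.Suzuki.sub_eq_top m (show k = m by omega),
        ← Subgroup.map_top_of_surjective (MulAut.conj c).toMonoidHom (MulAut.conj c).surjective] at hc
      exact hM (Subgroup.map_injective (MulAut.conj c).injective hc)
    let L := GaloisField 2 (2 * k + 1)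
    have : Fact (Nat.Prime 2) := ⟨Nat.prime_two⟩
    let _ : Fintype L := Fintype.ofFinite L
    have hL : Fintype.card L = 2 ^ (2 * k + 1) := by
      rw [← Nat.card_eq_fintype_card]; exact GaloisField.card 2 _ (by omega)
    have : Cfsg.Agent.Suzuki.SzField L k := ⟨hL, hk⟩
    obtain ⟨e⟩ := Cfsg.Agent.Suzuki.nonempty_equiv_sub (F := F) (K := L) m k hd
    exact ⟨L, inferInstance, inferInstance, k, hk, hkm, hL, hd, M,
      ⟨((M.equivMapOfInjective _ (MulAut.conj c).injective).trans (MulEquiv.subgroupCongr hc)).trans e⟩,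
      le_rfl⟩

end Cfsg.Agent.S2251
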