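import Cfsg.Statements.S2254
import Cfsg.Agent.H52.NilpotentPerm

set_option autoImplicit false
open Cfsg

namespace Cfsg.Agent.S2254

/-- Let n ≡ 3 (mod 4). Then every nilpotent subgroup of the symmetric group on n letters has order at most 3 times the order of a Sylow 2-subgroup of the symmetric group on n − 3 letters; the bound is attained by a nilpotent subgroup isomorphic to the direct product of such a Sylow 2-subgroup with a cyclic group of order 3; and any two nilpotent subgroups attaining the bound are conjugate. -/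
theorem result  (n : ℕ) (hn : n % 4 = 3)
    (P : Sylow 2 (Equiv.Perm (Fin (n - 3)))) :
    (∀ N : Subgroup (Equiv.Perm (Fin n)), Group.IsNilpotent N → Nat.card N ≤ 3 * Nat.card P) ∧
    (∃ M : Subgroup (Equiv.Perm (Fin n)), Group.IsNilpotent M ∧ Nat.card M = 3 * Nat.card P ∧
      Nonempty (M ≃* (↥(P : Subgroup (Equiv.Perm (Fin (n - 3)))) × Multiplicative (ZMod 3)))) ∧
    (∀ N₁ N₂ : Subgroup (Equiv.Perm (Fin n)), Group.IsNilpotent N₁ → Group.IsNilpotent N₂ →
      Nat.card N₁ = 3 * Nat.card P → Nat.card N₂ = 3 * Nat.card P →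
      ∃ g : Equiv.Perm (Fin n), N₂ = N₁.map (MulAut.conj g).toMonoidHom) := by
  obtain ⟨m, rfl⟩ : ∃ m, n = m + 3 := ⟨n - 3, by omega⟩
  have hm : m % 4 = 0 := by omega
  change Sylow 2 (Equiv.Perm (Fin m)) at P
  have hP := Cfsg.Agent.H52.NilpotentPerm.card_sylow_two P
  rw [Nat.card_fin] at hP
  refine ⟨fun N hN => ?_, ?_, ?_⟩
  · have h := @Cfsg.Agent.H52.NilpotentPerm.two_mul_card_le _ _ N hN
    rw [Nat.card_fin, Cfsg.Agent.H52.NilpotentPerm.bound_eq_of_three _ hn, show m + 3 - 3 = m from rfl] at h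
    change _ ≤ 3 * Nat.card P
    rw [hP]; omega
  · have e := Cfsg.Agent.H52.NilpotentPerm.modelEquivProd (P : Subgroup (Equiv.Perm (Fin m)))
    haveI : Group.IsNilpotent (P : Subgroup (Equiv.Perm (Fin m))) := P.2.isNilpotent
    haveI : Group.IsNilpotent (Multiplicative (ZMod 3)) := inferInstance
    refine ⟨Cfsg.Agent.H52.NilpotentPerm.model (P : Subgroup (Equiv.Perm (Fin m))),
      Group.nilpotent_of_mulEquiv e.symm, ?_, ⟨e⟩⟩
    change _ = 3 * Nat.card P
    rw [Nat.card_congr e.toEquiv, Nat.card_prod, mul_comm, Nat.card_congr Multiplicative.toAdd, Nat.card_zmod]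
  · intro N₁ N₂ h₁ h₂ c₁ c₂
    haveI := h₁
    haveI := h₂
    change _ = 3 * Nat.card P at c₁ c₂
    rw [hP] at c₁ c₂
    obtain ⟨g₁, e₁⟩ := Cfsg.Agent.H52.NilpotentPerm.eq_model hm P N₁ c₁
    obtain ⟨g₂, e₂⟩ := Cfsg.Agent.H52.NilpotentPerm.eq_model hm P N₂ c₂
    refine ⟨g₂ * g₁⁻¹, ?_⟩
    rw [e₁, e₂, Subgroup.map_map]
    congr 1
    ext x
    simp [MulAut.conj_apply, mul_assoc]

end Cfsg.Agent.S2254
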