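import Cfsg.Statements.S2255
import Cfsg.Agent.H52.NilpotentAlt

set_option autoImplicit false
open Cfsg

namespace Cfsg.Agent.S2255

/-- Let n be a natural number not congruent to 3 modulo 4, with n ∉ {5, 6, 9}. Then every nilpotent subgroup of the alternating group on n letters has order at most the order of a Sylow 2-subgroup of the alternating group (so the nilpotent subgroups of largest order are exactly the Sylow 2-subgroups). -/
theorem result  (n : ℕ) (hn : n % 4 ≠ 3)
    (h5 : n ≠ 5) (h6 : n ≠ 6) (h9 : n ≠ 9)
    (N : Subgroup (alternatingGroup (Fin n))) (hN : Group.IsNilpotent N)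
    (P : Sylow 2 (alternatingGroup (Fin n))) :
    Nat.card N ≤ Nat.card P := by
  classical
  rcases Nat.lt_or_ge n 2 with hlt | hge
  · haveI : Subsingleton (Fin n) := Fin.subsingleton_iff_le_one.2 (by omega)
    rw [Nat.card_eq_one_iff_unique.2 ⟨inferInstance, inferInstance⟩]
    exact Nat.card_pos
  haveI : Nontrivial (Fin n) := Fin.nontrivial_iff_two_le.2 hge
  haveI := hN
  let N' : Subgroup (Equiv.Perm (Fin n)) := N.map (alternatingGroup (Fin n)).subtype
  haveI : Group.IsNilpotent N' :=
    Group.nilpotent_of_mulEquiv (N.equivMapOfInjective _ (Subgroup.subtype_injective _))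
  have h := Cfsg.Agent.H52.NilpotentPerm.alt_bound N'
    (by rintro _ ⟨y, -, rfl⟩; exact Equiv.Perm.mem_alternatingGroup.1 y.2) (Nat.card_fin n) hge
    (by omega) h5 h6 h9
  rw [Subgroup.card_map_of_injective (Subgroup.subtype_injective _),
    Cfsg.Agent.H52.NilpotentPerm.bound_eq_of_two n hn] at h
  have hP := Cfsg.Agent.H52.NilpotentPerm.two_mul_card_alt_sylow P
  rw [Nat.card_fin] at hP
  omega

end Cfsg.Agent.S2255
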