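import Cfsg.Statements.S2256
import Cfsg.Agent.H52.NilpotentAlt

set_option autoImplicit false
open Cfsg

namespace Cfsg.Agent.S2256

/-- Let n ≡ 3 (mod 4) with n ≥ 7. Then every nilpotent subgroup of the alternating group on n letters has order at most 3 times the order of a Sylow 2-subgroup of the alternating group on n − 3 letters; the bound is attained by a nilpotent subgroup isomorphic to the direct product of such a Sylow 2-subgroup with a cyclic group of order 3; and any two nilpotent subgroups of the alternating group attaining the bound are conjugate in it. -/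
theorem result  (n : ℕ) (hn : n % 4 = 3) (h7 : 7 ≤ n)
    (P : Sylow 2 (alternatingGroup (Fin (n - 3)))) :
    (∀ N : Subgroup (alternatingGroup (Fin n)), Group.IsNilpotent N → Nat.card N ≤ 3 * Nat.card P) ∧
    (∃ M : Subgroup (alternatingGroup (Fin n)), Group.IsNilpotent M ∧ Nat.card M = 3 * Nat.card P ∧
      Nonempty (M ≃* (↥(P : Subgroup (alternatingGroup (Fin (n - 3)))) × Multiplicative (ZMod 3)))) ∧
    (∀ N₁ N₂ : Subgroup (alternatingGroup (Fin n)), Group.IsNilpotent N₁ → Group.IsNilpotent N₂ →
      Nat.card N₁ = 3 * Nat.card P → Nat.card N₂ = 3 * Nat.card P →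
      ∃ g : alternatingGroup (Fin n), N₂ = N₁.map (MulAut.conj g).toMonoidHom) := by
  obtain ⟨m, rfl⟩ : ∃ m, n = m + 3 := ⟨n - 3, by omega⟩
  change Sylow 2 (alternatingGroup (Fin m)) at P
  haveI : Nontrivial (Fin m) := Fin.nontrivial_iff_two_le.2 (by omega)
  have hP := Cfsg.Agent.H52.NilpotentPerm.two_mul_card_alt_sylow P
  rw [Nat.card_fin] at hP
  refine ⟨fun N hN => ?_, ?_, ?_⟩
  · haveI := hN
    let N' : Subgroup (Equiv.Perm (Fin (m + 3))) := N.map (alternatingGroup (Fin (m + 3))).subtype
    haveI : Group.IsNilpotent N' :=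
      Group.nilpotent_of_mulEquiv (N.equivMapOfInjective _ (Subgroup.subtype_injective _))
    have h := Cfsg.Agent.H52.NilpotentPerm.alt_bound N'
      (by rintro _ ⟨y, -, rfl⟩; exact Equiv.Perm.mem_alternatingGroup.1 y.2) (Nat.card_fin _) (by omega)
      (by omega) (by omega) (by omega) (by omega)
    rw [Subgroup.card_map_of_injective (Subgroup.subtype_injective _),
      Cfsg.Agent.H52.NilpotentPerm.bound_eq_of_three _ hn, show m + 3 - 3 = m from rfl] at h
    change _ ≤ 3 * Nat.card P
    omega
  · let P' : Subgroup (Equiv.Perm (Fin m)) :=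
      (P : Subgroup (alternatingGroup (Fin m))).map (alternatingGroup (Fin m)).subtype
    have hle : Cfsg.Agent.H52.NilpotentPerm.model P' ≤ alternatingGroup (Fin (m + 3)) :=
      Cfsg.Agent.H52.NilpotentPerm.model_le_alternating (by rintro _ ⟨y, -, rfl⟩; exact y.2)
    have e := ((Subgroup.subgroupOfEquivOfLe hle).trans (Cfsg.Agent.H52.NilpotentPerm.modelEquivProd P')).trans
      (((P : Subgroup (alternatingGroup (Fin m))).equivMapOfInjective _
        (Subgroup.subtype_injective _)).symm.prodCongr (MulEquiv.refl _))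
    haveI : Group.IsNilpotent (P : Subgroup (alternatingGroup (Fin m))) := P.2.isNilpotent
    refine ⟨(Cfsg.Agent.H52.NilpotentPerm.model P').subgroupOf (alternatingGroup (Fin (m + 3))),
      Group.nilpotent_of_mulEquiv e.symm, ?_, ⟨e⟩⟩
    change _ = 3 * Nat.card P
    rw [Nat.card_congr e.toEquiv, Nat.card_prod, mul_comm, Nat.card_congr Multiplicative.toAdd, Nat.card_zmod]
  · intro N₁ N₂ h₁ h₂ c₁ c₂
    haveI := h₁
    haveI := h₂
    obtain ⟨k₁, e₁⟩ := Cfsg.Agent.H52.NilpotentPerm.eq_model_alt (by omega) (by omega) P N₁ c₁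
    obtain ⟨k₂, e₂⟩ := Cfsg.Agent.H52.NilpotentPerm.eq_model_alt (by omega) (by omega) P N₂ c₂
    refine ⟨k₂ * k₁⁻¹, Subgroup.map_injective (Subgroup.subtype_injective _) ?_⟩
    rw [Cfsg.Agent.H52.NilpotentPerm.map_conj_subtype, e₁, e₂, Subgroup.map_map]
    congr 1
    ext x
    simp [MulAut.conj_apply, mul_assoc]

end Cfsg.Agent.S2256
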