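import Cfsg.Statements.S2257
import Cfsg.Agent.Linear.Dickson.SolubilizerEven
-- import your own Cfsg.Agent.* helpers here

set_option autoImplicit false
open Cfsg Cfsg.Agent.Linear

namespace Cfsg.Agent.S2257

/-- Let G = PSL_2(F) with F a field of order q = 2^p, p prime, and for x ∈ G call the solubilizer of x the set of y ∈ G such that x and y generate a solvable subgroup. Then the solubilizer of an involution has 3q(q − 1) elements; that of a non-identity element of order dividing q − 1 has 2q(q − 1) elements; and that of a non-identity element of order dividing q + 1 has 2(q + 1) elements. -/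
theorem result (p : ℕ) (hp : p.Prime) {F : Type*} [Field F] [Fintype F]
    (hF : Fintype.card F = 2 ^ p) (x : Matrix.ProjectiveSpecialLinearGroup (Fin 2) F) :
    (orderOf x = 2 → Nat.card {y : Matrix.ProjectiveSpecialLinearGroup (Fin 2) F // Group.IsSolvable ↥(Subgroup.closure ({x, y} : Set (Matrix.ProjectiveSpecialLinearGroup (Fin 2) F)))} = 3 * 2 ^ p * (2 ^ p - 1)) ∧
    (x ≠ 1 → orderOf x ∣ 2 ^ p - 1 → Nat.card {y : Matrix.ProjectiveSpecialLinearGroup (Fin 2) F // Group.IsSolvable ↥(Subgroup.closure ({x, y} : Set (Matrix.ProjectiveSpecialLinearGroup (Fin 2) F)))} = 2 * 2 ^ p * (2 ^ p - 1)) ∧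
    (x ≠ 1 → orderOf x ∣ 2 ^ p + 1 → Nat.card {y : Matrix.ProjectiveSpecialLinearGroup (Fin 2) F // Group.IsSolvable ↥(Subgroup.closure ({x, y} : Set (Matrix.ProjectiveSpecialLinearGroup (Fin 2) F)))} = 2 * (2 ^ p + 1)) := by
  classical
  have hq4 := Dickson.four_le_card hp hF
  have hq : 2 ^ p = Fintype.card F := hF.symm
  have hZ := Dickson.card_center_even hp hF
  have := Dickson.charP_of_card hF
  have : Fact (Nat.Prime 2) := ⟨Nat.prime_two⟩
  have heven : 2 ∣ Fintype.card F := hF ▸ dvd_pow_self 2 hp.pos.ne'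
  have hcls := fun (H : Subgroup (Matrix.ProjectiveSpecialLinearGroup (Fin 2) F)) (hH : H ≠ ⊤) =>
    Dickson.inBorel_or_inTorus_even hp hF hH
  have hborel : Nat.card (Dickson.borel F) = Fintype.card F * (Fintype.card F - 1) := by
    have := Dickson.card_borel (F := F)
    rwa [← Dickson.card_center_two_dvd, hZ, one_mul] at this
  have hnu : ∀ k, 2 ∣ Fintype.card F → (k = Fintype.card F - 1 ∨ k = Fintype.card F + 1) → x ≠ 1 →
      orderOf x ∣ k → ¬ Dickson.IsUni x ∧ x * x ≠ 1 := by
    intro k h2 hk hx hd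
    have hx2 : x * x ≠ 1 := by
      intro h
      have h' := orderOf_dvd_of_pow_eq_one (show x ^ 2 = 1 by rw [sq, h])
      rcases (Nat.dvd_prime Nat.prime_two).mp h' with e | e
      · exact hx (orderOf_eq_one_iff.mp e)
      · rw [e] at hd
        omega
    exact ⟨fun hu => hx2 (by rw [← sq]; exact Dickson.pow_char_eq_one_of_isUni 2 hu), hx2⟩
  have hnsplit : x ≠ 1 → x * x ≠ 1 → orderOf x ∣ Fintype.card F + 1 → ¬ orderOf x ∣ Fintype.card F - 1 := by
    intro hx hx2 h1 h2
    have h := Nat.dvd_sub h1 h2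
    rw [show Fintype.card F + 1 - (Fintype.card F - 1) = 2 by omega] at h
    rcases (Nat.dvd_prime Nat.prime_two).mp h with e | e
    · exact hx (orderOf_eq_one_iff.mp e)
    · exact hx2 (by rw [← sq]; exact orderOf_dvd_iff_pow_eq_one.mp e.dvd)
  have hxcen : orderOf x ∣ Nat.card (Dickson.cen x) :=
    Subgroup.orderOf_mk x (Dickson.mem_cen_self x) ▸ orderOf_dvd_natCard _
  refine ⟨fun hx => ?_, fun hx hd => ?_, fun hx hd => ?_⟩
  · rw [hq]
    exact Dickson.card_solSet_involution_even hp hF hx
  · rw [hq] at hd ⊢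
    obtain ⟨hu, hx2⟩ := hnu _ heven (Or.inl rfl) hx hd
    have h := Dickson.card_solSet_split hq4 hu hx2 (fun hc => hnsplit hx hx2
      (hc ▸ hxcen.mul_left _) hd) fun _ H hH _ => hcls H hH
    rw [hZ, one_mul] at h
    rw [mul_assoc]
    exact h
  · rw [hq] at hd ⊢
    obtain ⟨hu, hx2⟩ := hnu _ heven (Or.inr rfl) hx hd
    have hc := (Dickson.card_cen_torus hu).resolve_left fun hc => hnsplit hx hx2 hd (hc ▸ hxcen.mul_left _)
    have h := Dickson.card_solSet_nonsplit hq4 hx hx2 hu (fun hB => ?_) hc fun H hH _ => hcls H hH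
    · rw [hZ, one_mul] at h
      exact h
    · rw [hborel] at hB
      have hcop : (orderOf x).Coprime (Fintype.card F) := Nat.Coprime.coprime_dvd_left hd (by
        rw [Nat.coprime_self_add_left]
        exact Nat.coprime_one_left _)
      exact hnsplit hx hx2 hd (hcop.dvd_of_dvd_mul_left hB)

end Cfsg.Agent.S2257
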