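import Cfsg.Statements.S2258
import Cfsg.Agent.Linear.Dickson.SolubilizerThree
-- import your own Cfsg.Agent.* helpers here

set_option autoImplicit false
open Cfsg Cfsg.Agent.Linear

namespace Cfsg.Agent.S2258

/-- Let G = PSL_2(F) with F a field of order q = 3^p, p an odd prime, and for x ∈ G call the solubilizer of x the set of y ∈ G such that x and y generate a solvable subgroup. Then the solubilizer of an involution has q(q + 1) elements; that of an element of order 3 has q(q + 5)/2 elements; that of an element of order neither 1 nor 2 dividing q − 1 has q(q − 1) elements; and that of an element of order neither 1 nor 2 dividing q + 1 has q + 1 elements. -/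
theorem result (p : ℕ) (hp : p.Prime) (hodd : Odd p) {F : Type*} [Field F] [Fintype F]
    (hF : Fintype.card F = 3 ^ p) (x : Matrix.ProjectiveSpecialLinearGroup (Fin 2) F) :
    (orderOf x = 2 → Nat.card {y : Matrix.ProjectiveSpecialLinearGroup (Fin 2) F // Group.IsSolvable ↥(Subgroup.closure ({x, y} : Set (Matrix.ProjectiveSpecialLinearGroup (Fin 2) F)))} = 3 ^ p * (3 ^ p + 1)) ∧
    (orderOf x = 3 → 2 * Nat.card {y : Matrix.ProjectiveSpecialLinearGroup (Fin 2) F // Group.IsSolvable ↥(Subgroup.closure ({x, y} : Set (Matrix.ProjectiveSpecialLinearGroup (Fin 2) F)))} = 3 ^ p * (3 ^ p + 5)) ∧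
    (x ≠ 1 → orderOf x ≠ 2 → orderOf x ∣ 3 ^ p - 1 → Nat.card {y : Matrix.ProjectiveSpecialLinearGroup (Fin 2) F // Group.IsSolvable ↥(Subgroup.closure ({x, y} : Set (Matrix.ProjectiveSpecialLinearGroup (Fin 2) F)))} = 3 ^ p * (3 ^ p - 1)) ∧
    (x ≠ 1 → orderOf x ≠ 2 → orderOf x ∣ 3 ^ p + 1 → Nat.card {y : Matrix.ProjectiveSpecialLinearGroup (Fin 2) F // Group.IsSolvable ↥(Subgroup.closure ({x, y} : Set (Matrix.ProjectiveSpecialLinearGroup (Fin 2) F)))} = 3 ^ p + 1) := by
  classical
  have hq4 := Dickson.four_le_card_three hp hF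
  have hq : 3 ^ p = Fintype.card F := hF.symm
  have hZ := Dickson.card_center_three hodd hF
  have := Dickson.charP_three_of_card hF
  have : Fact (Nat.Prime 3) := ⟨Nat.prime_three⟩
  obtain ⟨hmod, -, -, hmod3⟩ := Dickson.card_mod_three_pow hodd hF
  have hxcen : orderOf x ∣ Nat.card (Dickson.cen x) :=
    Subgroup.orderOf_mk x (Dickson.mem_cen_self x) ▸ orderOf_dvd_natCard _
  have hsq : x ≠ 1 → orderOf x ≠ 2 → x * x ≠ 1 := fun h1 h2 h =>
    h2 (orderOf_eq_prime (by rw [sq, h]) h1)
  have hnot3 : ∀ k, (k = Fintype.card F - 1 ∨ k = Fintype.card F + 1) → orderOf x ∣ k →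
      x ≠ 1 → x ^ 3 ≠ 1 := fun k hk hd h1 h => by
    rw [← orderOf_eq_prime h h1] at hmod3
    have h3 : 3 ∣ k := (orderOf_eq_prime h h1) ▸ hd
    rw [orderOf_eq_prime h h1] at hmod3
    omega
  have hcls : ∀ k, (k = Fintype.card F - 1 ∨ k = Fintype.card F + 1) → orderOf x ∣ k → x ≠ 1 →
      orderOf x ≠ 2 → ∀ (g : Matrix.ProjectiveSpecialLinearGroup (Fin 2) F)
        (H : Subgroup (Matrix.ProjectiveSpecialLinearGroup (Fin 2) F)),
        H ≠ ⊤ → g * x * g⁻¹ ∈ H → Dickson.InBorel H ∨ Dickson.InTorus H := by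
    intro k hk hd h1 h2 g H hH hm
    rcases Dickson.inBorel_inTorus_or_twelve hp hodd hF hH with h | h | h
    · exact Or.inl h
    · exact Or.inr h
    · exfalso
      have h12 := Dickson.pow_twelve_of_mem h hm
      rw [conj_pow] at h12
      rcases Dickson.sq_or_cube_eq_one hodd hF (conj_eq_one_iff.mp h12) with e | e
      · exact hsq h1 h2 e
      · exact hnot3 k hk hd h1 e
  have hnsplit : x ≠ 1 → orderOf x ≠ 2 → orderOf x ∣ Fintype.card F + 1 →
      ¬ orderOf x ∣ Fintype.card F - 1 := by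
    intro h1 h2 a b
    have h := Nat.dvd_sub a b
    rw [show Fintype.card F + 1 - (Fintype.card F - 1) = 2 by omega] at h
    rcases (Nat.dvd_prime Nat.prime_two).mp h with e | e
    · exact h1 (orderOf_eq_one_iff.mp e)
    · exact h2 e
  refine ⟨fun hx => ?_, fun hx => ?_, fun h1 h2 hd => ?_, fun h1 h2 hd => ?_⟩
  · rw [hq]
    exact Dickson.card_solSet_involution_three hp hodd hF hx
  · rw [hq]
    exact Dickson.card_solSet_three hp hodd hF hx
  · rw [hq] at hd ⊢
    have hu : ¬ Dickson.IsUni x := fun hu =>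
      hnot3 _ (Or.inl rfl) hd h1 (Dickson.pow_char_eq_one_of_isUni 3 hu)
    have h := Dickson.card_solSet_split hq4 hu (hsq h1 h2)
      (fun hc => hnsplit h1 h2 (hc ▸ hxcen.mul_left _) hd) (hcls _ (Or.inl rfl) hd h1 h2)
    rw [hZ] at h
    exact Nat.eq_of_mul_eq_mul_left two_pos h
  · rw [hq] at hd ⊢
    have hu : ¬ Dickson.IsUni x := fun hu =>
      hnot3 _ (Or.inr rfl) hd h1 (Dickson.pow_char_eq_one_of_isUni 3 hu)
    have hc := (Dickson.card_cen_torus hu).resolve_left fun hc =>
      hnsplit h1 h2 hd (hc ▸ hxcen.mul_left _)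
    have h := Dickson.card_solSet_nonsplit hq4 h1 (hsq h1 h2) hu (fun hB => ?_) hc
      fun H hH hm => hcls _ (Or.inr rfl) hd h1 h2 1 H hH (by simpa using hm)
    · rw [hZ] at h
      exact Nat.eq_of_mul_eq_mul_left two_pos h
    · have hb := Dickson.card_borel (F := F)
      rw [← Dickson.card_center_two_dvd, hZ] at hb
      have hB' : orderOf x ∣ Fintype.card F * (Fintype.card F - 1) := hb ▸ hB.mul_left 2
      have hcop : (orderOf x).Coprime (Fintype.card F) := Nat.Coprime.coprime_dvd_left hd (by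
        rw [Nat.coprime_self_add_left]
        exact Nat.coprime_one_left _)
      exact hnsplit h1 h2 hd (hcop.dvd_of_dvd_mul_left hB')

end Cfsg.Agent.S2258
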