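import Cfsg.Statements.S2260
-- import your own Cfsg.Agent.* helpers here

set_option autoImplicit false
open Cfsg

namespace Cfsg.Agent.S2260

/-- Let F be a finite field of prime characteristic p and u an invertible d × d matrix over F with u − 1 nilpotent (a unipotent element). Then the order of u is at most p^⌈log_p d⌉; and if moreover (u − 1)^(d−1) ≠ 0 (u is a single Jordan block) then the order of u is exactly p^⌈log_p d⌉. -/
theorem result {F : Type*} [Field F] [Finite F] (p : ℕ) [Fact p.Prime] [CharP F p] (d : ℕ)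
    (u : GL (Fin d) F) (hu : IsNilpotent ((u : Matrix (Fin d) (Fin d) F) - 1)) :
    orderOf u ≤ p ^ Nat.clog p d ∧
    (((u : Matrix (Fin d) (Fin d) F) - 1) ^ (d - 1) ≠ 0 → orderOf u = p ^ Nat.clog p d) := by
  set A : Matrix (Fin d) (Fin d) F := (u : Matrix (Fin d) (Fin d) F) with hA
  haveI hp : p.Prime := Fact.out
  have hpow : ∀ k : ℕ, ((u ^ p ^ k : GL (Fin d) F) : Matrix (Fin d) (Fin d) F) - 1 = (A - 1) ^ p ^ k := by
    intro k
    rcases Nat.eq_zero_or_pos d with hd | hd
    · subst hd; exact Subsingleton.elim _ _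
    · haveI : Nonempty (Fin d) := ⟨⟨0, hd⟩⟩
      rw [Units.val_pow_eq_pow_val, sub_pow_char_pow_of_commute (R := Matrix (Fin d) (Fin d) F) p k (Commute.one_right A), one_pow, hA]
  have hd0 : (A - 1) ^ d = 0 := by
    have h := Matrix.isNilpotent_charpoly_sub_pow_of_isNilpotent hu
    rw [isNilpotent_iff_eq_zero, sub_eq_zero] at h
    have h' := Matrix.aeval_self_charpoly (A - 1)
    rw [h] at h'
    simpa using h'
  have hk : u ^ p ^ Nat.clog p d = 1 := by
    apply Units.ext
    rw [Units.val_one, ← sub_eq_zero, hpow]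
    exact pow_eq_zero_of_le (Nat.le_pow_clog hp.one_lt d) hd0
  have hdvd : orderOf u ∣ p ^ Nat.clog p d := orderOf_dvd_of_pow_eq_one hk
  refine ⟨Nat.le_of_dvd (pow_pos hp.pos _) hdvd, fun hne => ?_⟩
  obtain ⟨j, hj, heq⟩ := (Nat.dvd_prime_pow hp).1 hdvd
  rw [heq]
  congr 1
  by_contra hne'
  have hlt : p ^ j < d := by
    by_contra hle
    exact absurd (Nat.clog_le_of_le_pow (Nat.not_lt.1 hle)) (by omega)
  have h0 : (A - 1) ^ p ^ j = 0 := by
    rw [← hpow, ← heq, pow_orderOf_eq_one, Units.val_one, sub_self]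
  exact hne (pow_eq_zero_of_le (by omega) h0)

end Cfsg.Agent.S2260
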