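import Cfsg.Statements.S2261
-- import your own Cfsg.Agent.* helpers here

set_option autoImplicit false
open Cfsg

namespace Cfsg.Agent.S2261

open Polynomial in
/-- The upper bound: the projective order of a matrix is at most `(q^d-1)/(q-1)`. -/
theorem proj_order_le {F : Type*} [Field F] [Fintype F] (d : ℕ) (hd : 1 ≤ d) (g : GL (Fin d) F) :
    (Fintype.card F - 1) * orderOf (QuotientGroup.mk g : GL (Fin d) F ⧸ Subgroup.center (GL (Fin d) F))
      ≤ Fintype.card F ^ d - 1 := by
  classical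
  set A : Matrix (Fin d) (Fin d) F := (g : Matrix (Fin d) (Fin d) F) with hA
  set gb : GL (Fin d) F ⧸ Subgroup.center (GL (Fin d) F) := QuotientGroup.mk g with hgb
  have hmon := A.charpoly_monic
  have hdeg : A.charpoly.natDegree = d := by rw [Matrix.charpoly_natDegree_eq_dim, Fintype.card_fin]
  have hne1 : A.charpoly ≠ 1 := fun h => by rw [h, natDegree_one] at hdeg; omega
  let r : Fin (orderOf gb) × Fˣ → F[X] := fun x => (C (x.2 : F) * X ^ (x.1 : ℕ)) %ₘ A.charpoly
  have hr : ∀ x, aeval A (r x) = (x.2 : F) • A ^ (x.1 : ℕ) := by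
    intro x
    rw [aeval_modByMonic_eq_self_of_root A.aeval_self_charpoly, map_mul, aeval_C, map_pow, aeval_X,
      Algebra.smul_def]
  have hrd : ∀ x, (r x).natDegree < d := fun x => hdeg ▸ natDegree_modByMonic_lt _ hmon hne1
  have hne : ∀ x, r x ≠ 0 := by
    intro x h
    have h1 := hr x
    rw [h, map_zero] at h1
    have h2 : A ^ (x.1 : ℕ) = 0 := (smul_eq_zero.1 h1.symm).resolve_left x.2.ne_zero
    rw [hA, ← Units.val_pow_eq_pow_val] at h2
    haveI : Nonempty (Fin d) := ⟨⟨0, hd⟩⟩
    exact (g ^ (x.1 : ℕ)).ne_zero h2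
  let v : Fin (orderOf gb) × Fˣ → {w : Fin d → F // w ≠ 0} := fun x =>
    ⟨fun i => (r x).coeff i, fun h => hne x <| Polynomial.ext fun i => by
      by_cases hi : i < d
      · simpa using congrFun h ⟨i, hi⟩
      · rw [coeff_zero]; exact coeff_eq_zero_of_natDegree_lt ((hrd x).trans_le (not_lt.1 hi))⟩
  have hinj : Function.Injective v := by
    intro x y h
    have h1 : r x = r y := Polynomial.ext fun i => by
      by_cases hi : i < d
      · exact congrFun (congrArg Subtype.val h) ⟨i, hi⟩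
      · rw [coeff_eq_zero_of_natDegree_lt ((hrd x).trans_le (not_lt.1 hi)),
          coeff_eq_zero_of_natDegree_lt ((hrd y).trans_le (not_lt.1 hi))]
    have h2 : (x.2 : F) • A ^ (x.1 : ℕ) = (y.2 : F) • A ^ (y.1 : ℕ) := by rw [← hr, ← hr, h1]
    have h3 : g ^ (x.1 : ℕ) = Matrix.GeneralLinearGroup.scalar (Fin d) (x.2⁻¹ * y.2) * g ^ (y.1 : ℕ) := by
      apply Units.ext
      have h4 := congrArg (fun M : Matrix (Fin d) (Fin d) F => ((x.2⁻¹ : Fˣ) : F) • M) h2
      simp only [smul_smul, Units.inv_mul, one_smul] at h4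
      rw [← Units.val_mul] at h4
      rw [Units.val_mul, Units.val_pow_eq_pow_val, Units.val_pow_eq_pow_val, ← hA, h4]
      generalize x.2⁻¹ * y.2 = c
      simp [Matrix.smul_eq_diagonal_mul]
    have h5 : gb ^ (x.1 : ℕ) = gb ^ (y.1 : ℕ) := by
      change (QuotientGroup.mk g : GL (Fin d) F ⧸ Subgroup.center (GL (Fin d) F)) ^ (x.1 : ℕ) = QuotientGroup.mk g ^ (y.1 : ℕ)
      rw [← QuotientGroup.mk_pow, ← QuotientGroup.mk_pow, h3, QuotientGroup.mk_mul,
        (QuotientGroup.eq_one_iff _).2 ((SetLike.ext_iff.1 Matrix.GeneralLinearGroup.center_eq_range_scalar _).2 ⟨_, rfl⟩), one_mul]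
    have h6 : x.1 = y.1 := Fin.ext (pow_injOn_Iio_orderOf x.1.2 y.1.2 h5)
    refine Prod.ext h6 (Units.ext ?_)
    rw [← h6] at h2
    by_contra hxy
    have h7 : ((x.2 : F) - y.2) • A ^ (x.1 : ℕ) = 0 := by rw [sub_smul, h2, sub_self]
    rw [smul_eq_zero, sub_eq_zero, or_iff_right hxy, hA, ← Units.val_pow_eq_pow_val] at h7
    haveI : Nonempty (Fin d) := ⟨⟨0, hd⟩⟩
    exact (g ^ (x.1 : ℕ)).ne_zero h7
  have := Fintype.card_le_of_injective v hinj
  rw [Fintype.card_prod, Fintype.card_fin, Fintype.card_units, Fintype.card_subtype_compl,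
    Fintype.card_subtype_eq, Fintype.card_fun, Fintype.card_fin] at this
  rwa [mul_comm]

/-- A Singer element attains the bound. -/
theorem exists_singer {F : Type*} [Field F] [Fintype F] (d : ℕ) (hd : 1 ≤ d) :
    ∃ g : GL (Fin d) F, (Fintype.card F - 1) *
      orderOf (QuotientGroup.mk g : GL (Fin d) F ⧸ Subgroup.center (GL (Fin d) F))
        = Fintype.card F ^ d - 1 := by
  classical
  haveI : NeZero d := ⟨by omega⟩
  obtain ⟨p, hp⟩ := CharP.exists F
  haveI : Fact p.Prime := ⟨CharP.char_is_prime F p⟩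
  let K := FiniteField.Extension F p d
  letI : Fintype K := Fintype.ofFinite K
  have hK : Fintype.card K = Fintype.card F ^ d := by
    rw [Fintype.card_eq_nat_card, Fintype.card_eq_nat_card]; exact FiniteField.natCard_extension F p d
  let b : Module.Basis (Fin d) F K := Module.finBasisOfFinrankEq F K (FiniteField.finrank_extension F p d)
  let φ : Kˣ →* GL (Fin d) F := Units.map (Algebra.leftMulMatrix b : K →* Matrix (Fin d) (Fin d) F)
  obtain ⟨γ, hγ⟩ := IsCyclic.exists_generator (α := Kˣ)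
  refine ⟨φ γ, le_antisymm (proj_order_le d hd _) (Nat.le_of_dvd ?_ ?_)⟩
  · exact Nat.mul_pos (Nat.sub_pos_of_lt Fintype.one_lt_card) (orderOf_pos _)
  have hord : orderOf γ = Fintype.card F ^ d - 1 := by
    rw [orderOf_eq_card_of_forall_mem_zpowers hγ, Nat.card_eq_fintype_card, Fintype.card_units, hK]
  rw [← hord, orderOf_dvd_iff_pow_eq_one]
  set m := orderOf (QuotientGroup.mk (φ γ) : GL (Fin d) F ⧸ Subgroup.center (GL (Fin d) F))
  have hm : φ γ ^ m ∈ Subgroup.center (GL (Fin d) F) := by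
    rw [← QuotientGroup.eq_one_iff, QuotientGroup.mk_pow]; exact pow_orderOf_eq_one _
  rw [Matrix.GeneralLinearGroup.center_eq_range_scalar] at hm
  obtain ⟨c, hc⟩ := hm
  rw [mul_comm, pow_mul]
  apply Units.ext
  have h1 : Algebra.leftMulMatrix b ((γ ^ m : Kˣ) : K) = Algebra.leftMulMatrix b (algebraMap F K c) := by
    rw [AlgHom.commutes, Units.val_pow_eq_pow_val, map_pow]
    have := congrArg Units.val hc
    simpa [φ, Matrix.algebraMap_eq_diagonal, Matrix.scalar_apply, Pi.algebraMap_def] using this.symm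
  rw [Units.val_pow_eq_pow_val, Algebra.leftMulMatrix_injective b h1, ← map_pow,
    FiniteField.pow_card_sub_one_eq_one _ c.ne_zero, map_one, Units.val_one]


/-- Let F be a finite field with q elements and d ≥ 1. Then every element of PGL_d(F) = GL_d(F)/Z has order at most (q^d − 1)/(q − 1), and some element (the image of a Singer cycle) has exactly this order. -/
theorem result {F : Type*} [Field F] [Fintype F] (d : ℕ) (hd : 1 ≤ d) :
    (∀ g : (GL (Fin d) F ⧸ Subgroup.center (GL (Fin d) F)), (Fintype.card F - 1) * orderOf g ≤ Fintype.card F ^ d - 1) ∧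
    (∃ g : (GL (Fin d) F ⧸ Subgroup.center (GL (Fin d) F)), (Fintype.card F - 1) * orderOf g = Fintype.card F ^ d - 1) := by
  refine ⟨fun g => ?_, ?_⟩
  · induction g using QuotientGroup.induction_on with
    | H z => exact proj_order_le d hd z
  · obtain ⟨g, hg⟩ := exists_singer (F := F) d hd
    exact ⟨_, hg⟩

end Cfsg.Agent.S2261
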