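import Cfsg.Statements.S2263
import Cfsg.Agent.Unitary.MaxOrder

set_option autoImplicit false
open Cfsg

namespace Cfsg.Agent.S2263

open Cfsg.Agent.H55 Cfsg.Agent.Unitary

/-- Let q = p^f with p prime and f ≥ 1, F a field with q² elements, d ≥ 3 with (d, q) ≠ (3, 2), and PGU_d(q) the general unitary group of the standard Hermitian form modulo its centre. Then the largest order of an element of PGU_d(q) is: q^(d−1) − 1 if d is odd and f ≥ 2; (p^(d−2) + 1)p if d is odd and f = 1; q^(d−1) + 1 if d is even and q > 2; 4(2^(d−3) + 1) if d is even and q = 2. -/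
theorem result {F : Type*} [Field F] [Fintype F] (p f d : ℕ) (hp : p.Prime) (hf : 1 ≤ f) (q : ℕ) (hq : q = p ^ f)
    (hF : Fintype.card F = q ^ 2) (hd : 3 ≤ d) (h32 : ¬ (d = 3 ∧ q = 2)) :
    (Odd d → 2 ≤ f → (∀ g : (↥(Cfsg.GU d F q) ⧸ Subgroup.center ↥(Cfsg.GU d F q)), orderOf g ≤ q ^ (d - 1) - 1) ∧ ∃ g : (↥(Cfsg.GU d F q) ⧸ Subgroup.center ↥(Cfsg.GU d F q)), orderOf g = q ^ (d - 1) - 1) ∧
    (Odd d → f = 1 → (∀ g : (↥(Cfsg.GU d F q) ⧸ Subgroup.center ↥(Cfsg.GU d F q)), orderOf g ≤ (p ^ (d - 2) + 1) * p) ∧ ∃ g : (↥(Cfsg.GU d F q) ⧸ Subgroup.center ↥(Cfsg.GU d F q)), orderOf g = (p ^ (d - 2) + 1) * p) ∧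
    (Even d → 2 < q → (∀ g : (↥(Cfsg.GU d F q) ⧸ Subgroup.center ↥(Cfsg.GU d F q)), orderOf g ≤ q ^ (d - 1) + 1) ∧ ∃ g : (↥(Cfsg.GU d F q) ⧸ Subgroup.center ↥(Cfsg.GU d F q)), orderOf g = q ^ (d - 1) + 1) ∧
    (Even d → q = 2 → (∀ g : (↥(Cfsg.GU d F q) ⧸ Subgroup.center ↥(Cfsg.GU d F q)), orderOf g ≤ 4 * (2 ^ (d - 3) + 1)) ∧ ∃ g : (↥(Cfsg.GU d F q) ⧸ Subgroup.center ↥(Cfsg.GU d F q)), orderOf g = 4 * (2 ^ (d - 3) + 1)) := by
  obtain ⟨p', hpF⟩ := CharP.exists F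
  have : Fact p'.Prime := ⟨CharP.char_is_prime F p'⟩
  obtain rfl : p' = p := by
    obtain ⟨k, -, hk⟩ := FiniteField.card F p'
    have h1 : p' ∣ p := by
      refine (Fact.out : p'.Prime).dvd_of_dvd_pow (n := f * 2) ?_
      rw [pow_mul, ← hq, ← hF, hk]
      exact dvd_pow_self p' k.ne_zero
    exact (Nat.prime_dvd_prime_iff_eq Fact.out hp).1 h1
  have hp2 : 2 ≤ p' := hp.two_le
  have hpq : p' ≤ q := hq ▸ Nat.le_self_pow (by omega) p'
  have hpd : p' ∣ q := hq ▸ dvd_pow_self p' (by omega)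
  have hq2 : 2 ≤ q := hp2.trans hpq
  have : NeZero d := ⟨by omega⟩
  have hf2 : 2 ≤ f → p' * p' ≤ q := fun h => by
    rw [hq, ← sq]; exact Nat.pow_le_pow_right (by omega) h
  have hf1 : f = 1 → q = p' := fun h => by rw [hq, h, pow_one]
  have bound : ∀ x : (↥(Cfsg.GU d F q) ⧸ Subgroup.center ↥(Cfsg.GU d F q)),
      (Odd d → 2 ≤ f → orderOf x ≤ q ^ (d - 1) - 1) ∧
      (Odd d → f = 1 → orderOf x ≤ (p' ^ (d - 2) + 1) * p') ∧
      (Even d → 2 < q → orderOf x ≤ q ^ (d - 1) + 1) ∧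
      (Even d → q = 2 → orderOf x ≤ 4 * (2 ^ (d - 3) + 1)) := by
    intro x
    rcases pgu_order_le hF p' x with ⟨i, hi, hx⟩ | ⟨E, W, hE, hEW, hx⟩
    · have hT : ∀ h : f = 1, q ^ (d - 1) + p' = (p' ^ (d - 2) + 1) * p' := fun h => by
        rw [hf1 h, add_mul, one_mul, ← pow_succ, show d - 2 + 1 = d - 1 by omega]
      have hT4 : q = 2 → 4 * (2 ^ (d - 3) + 1) = 2 ^ (d - 1) + 4 := fun _ => by
        rw [show d - 1 = 2 + (d - 3) by omega, pow_add]; ring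
      rcases cand_unip_le hp2 hpq hd hi with h | ⟨hq', h⟩
      · refine ⟨fun _ _ => hx.trans h, fun _ h1 => hx.trans (h.trans ?_),
          fun _ _ => hx.trans (h.trans (by omega)), fun _ h2 => hx.trans (h.trans ?_)⟩
        · rw [← hT h1]; omega
        · rw [hT4 h2, h2]; omega
      · refine ⟨fun _ h1 => ?_, fun _ h1 => hx.trans (h.trans ?_), fun _ h2 => by omega,
          fun _ h2 => hx.trans (h.trans ?_)⟩
        · have h3 := hf2 h1
          have h4 : 2 * 2 ≤ p' * p' := Nat.mul_le_mul hp2 hp2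
          omega
        · rw [← hT h1, hq']; omega
        · rw [hT4 h2]; omega
    · obtain ⟨c1, c2, c3, c4⟩ := cand_le hp2 hpq hd hE hEW
      exact ⟨fun a b => hx.trans (c1 a (hf2 b)), fun a b => hx.trans (c2 a (hf1 b)),
        fun a b => hx.trans (c3 a b), fun a b => hx.trans (c4 a b)⟩
  have attain : ∀ (e k T : ℕ), 1 ≤ e → 1 ≤ k → e + k = d →
      uH q e * (q + 1) * p' ^ Nat.clog p' k = T →
      (∀ x : (↥(Cfsg.GU d F q) ⧸ Subgroup.center ↥(Cfsg.GU d F q)), orderOf x ≤ T) →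
      ∃ g : (↥(Cfsg.GU d F q) ⧸ Subgroup.center ↥(Cfsg.GU d F q)), orderOf g = T := by
    intro e k T he hk hek hT hb
    obtain ⟨x, hx⟩ := exists_pgu_order hF p' hpd he hk hek
    exact ⟨x, le_antisymm (hb x) (hT ▸ Nat.le_of_dvd (orderOf_pos x) hx)⟩
  refine ⟨fun ho h2 => ⟨fun g => (bound g).1 ho h2, ?_⟩, fun ho h1 => ⟨fun g => (bound g).2.1 ho h1, ?_⟩,
    fun he h2 => ⟨fun g => (bound g).2.2.1 he h2, ?_⟩, fun he h2 => ⟨fun g => (bound g).2.2.2 he h2, ?_⟩⟩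
  · refine attain (d - 1) 1 _ (by omega) le_rfl (by omega) ?_ fun g => (bound g).1 ho h2
    rw [Nat.clog_one_right, pow_zero, mul_one, uH_mul_even (by omega) (by rw [Nat.even_sub (by omega)]; simp [Nat.not_even_iff_odd.2 ho])]
  · refine attain (d - 2) 2 _ (by omega) (by omega) (by omega) ?_ fun g => (bound g).2.1 ho h1
    rw [uH_mul_odd (by omega) (Nat.Odd.sub_even (by omega) ho even_two), hf1 h1]
    congr 1
    rw [Nat.clog_of_two_le hp.one_lt le_rfl, show (2 + p' - 1) / p' = 1 by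
      apply Nat.div_eq_of_lt_le <;> omega, Nat.clog_one_right, zero_add, pow_one]
  · refine attain (d - 1) 1 _ (by omega) le_rfl (by omega) ?_ fun g => (bound g).2.2.1 he h2
    rw [Nat.clog_one_right, pow_zero, mul_one, uH_mul_odd (by omega) (Nat.Even.sub_odd (by omega) he odd_one)]
  · have h4 : 4 ≤ d := by obtain ⟨m, rfl⟩ := he; omega
    refine attain (d - 3) 3 _ (by omega) (by omega) (by omega) ?_ fun g => (bound g).2.2.2 he h2
    have hp' : p' = 2 := by omega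
    rw [uH_mul_odd (by omega) (Nat.Even.sub_odd (by omega) he (by decide)), h2, hp']
    rw [show Nat.clog 2 3 = 2 from by
      apply le_antisymm (Nat.clog_le_of_le_pow (by norm_num))
      exact Nat.lt_clog_iff_pow_lt (by norm_num) |>.2 (by norm_num)]
    ring

end Cfsg.Agent.S2263
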