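import Cfsg.Statements.S2268
-- import your own Cfsg.Agent.* helpers here

set_option autoImplicit false
open Cfsg

namespace Cfsg.Agent.S2268

/-- Let G be a finite group with an abelian Sylow p-subgroup P and let Q ≤ P. Then N_G(Q) = (N_G(Q) ∩ N_G(P))·C_G(Q), so that N_G(Q)/C_G(Q) is a homomorphic image of the subgroup (N_G(Q) ∩ N_G(P))/C_G(P) of N_G(P)/C_G(P); in particular the order of N_G(Q)/C_G(Q) divides the order of N_G(P)/C_G(P). -/
theorem result {G : Type*} [Group G] [Finite G] {p : ℕ} [Fact p.Prime]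
    (P : Sylow p G) (hP : IsMulCommutative (P : Subgroup G)) (Q : Subgroup G) (hQ : Q ≤ (P : Subgroup G)) :
    Subgroup.normalizer (Q : Set G) =
      (Subgroup.normalizer (Q : Set G) ⊓ Subgroup.normalizer ((P : Subgroup G) : Set G)) ⊔ Subgroup.centralizer (Q : Set G) ∧
    ((Subgroup.centralizer (Q : Set G)).subgroupOf (Subgroup.normalizer (Q : Set G))).index ∣ ((Subgroup.centralizer ((P : Subgroup G) : Set G)).subgroupOf (Subgroup.normalizer ((P : Subgroup G) : Set G))).index := by
  haveI := hP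
  set N := Subgroup.normalizer (Q : Set G)
  set NP := Subgroup.normalizer ((P : Subgroup G) : Set G)
  set CQ := Subgroup.centralizer (Q : Set G)
  set CP := Subgroup.centralizer ((P : Subgroup G) : Set G)
  have hPC : (P : Subgroup G) ≤ CQ :=
    ((P : Subgroup G).le_centralizer).trans (Subgroup.centralizer_le hQ)
  have hCN : CQ ≤ N := Subgroup.centralizer_le_normalizer _
  have hconj : ∀ g ∈ N, ∀ z ∈ CQ, g * z * g⁻¹ ∈ CQ := by
    intro g hg z hz a ha
    have ha' : g⁻¹ * a * g ∈ Q := (Subgroup.mem_normalizer_iff''.1 hg a).1 ha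
    have hc : g⁻¹ * a * g * z = z * (g⁻¹ * a * g) := hz _ ha'
    calc a * (g * z * g⁻¹) = g * (g⁻¹ * a * g * z) * g⁻¹ := by group
      _ = g * z * g⁻¹ * a := by rw [hc]; group
  have hNC : N ≤ Subgroup.normalizer (CQ : Set G) := by
    intro g hg
    rw [Subgroup.mem_normalizer_iff]
    refine fun h => ⟨hconj g hg h, fun hh => ?_⟩
    have := hconj g⁻¹ (N.inv_mem hg) _ hh
    simpa [mul_assoc] using this
  have hsup : N = (N ⊓ NP) ⊔ CQ := by
    refine le_antisymm (fun g hg => ?_) (sup_le inf_le_left hCN)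
    have hgP : ((g • P : Sylow p G) : Subgroup G) ≤ CQ := by
      rintro - ⟨z, hz, rfl⟩
      simpa using hconj g hg z (hPC hz)
    obtain ⟨c, hc⟩ := MulAction.exists_smul_eq CQ ((g • P).subtype hgP) (P.subtype hPC)
    simp_rw [Sylow.smul_subtype, Subgroup.smul_def, smul_smul] at hc
    have hcg : (c : G) * g ∈ NP := Sylow.smul_eq_iff_mem_normalizer.mp (Sylow.subtype_injective hc)
    have hcg' : (c : G) * g ∈ N := N.mul_mem (hCN c.2) hg
    have hg' : g = (c : G)⁻¹ * ((c : G) * g) := by group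
    rw [hg']
    exact Subgroup.mul_mem _ (Subgroup.mem_sup_right (CQ.inv_mem c.2))
      (Subgroup.mem_sup_left ⟨hcg', hcg⟩)
  refine ⟨hsup, ?_⟩
  change CQ.relIndex N ∣ CP.relIndex NP
  have h1 : CP ≤ N ⊓ NP :=
    le_inf ((Subgroup.centralizer_le hQ).trans hCN) (Subgroup.centralizer_le_normalizer _)
  have h2 : CQ.relIndex N = CQ.relIndex (N ⊓ NP) := by
    haveI : (CQ.subgroupOf N).Normal := Subgroup.normal_subgroupOf_of_le_normalizer hNC
    rw [← Subgroup.relIndex_subgroupOf (inf_le_left : N ⊓ NP ≤ N),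
      ← Subgroup.relIndex_sup_right (H := (N ⊓ NP).subgroupOf N) (K := CQ.subgroupOf N),
      ← Subgroup.subgroupOf_sup inf_le_left hCN, ← hsup, Subgroup.subgroupOf_self,
      Subgroup.relIndex_top_right]
    rfl
  rw [h2, ← Subgroup.relIndex_mul_relIndex CP (N ⊓ NP) NP h1 inf_le_right]
  exact Dvd.dvd.mul_right (Subgroup.relIndex_dvd_of_le_left _ (Subgroup.centralizer_le hQ)) _

end Cfsg.Agent.S2268
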