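import Cfsg.Statements.S2270
-- import your own Cfsg.Agent.* helpers here

set_option autoImplicit false
open Cfsg

namespace Cfsg.Agent.S2270

/-- An element of the normalizer inverting a nontrivial element forces even automizer order. -/
theorem even_index_of_inverting {G : Type*} [Group G] [Finite G] {p : ℕ} [Fact p.Prime] (hp : p ≠ 2)
    {P : Subgroup G} (hP : IsPGroup p P) {x k : G} (hxP : x ∈ P) (hx1 : x ≠ 1)
    (hk : k ∈ Subgroup.normalizer (P : Set G)) (hkx : k⁻¹ * x * k = x⁻¹) :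
    2 ∣ ((Subgroup.centralizer (P : Set G)).subgroupOf (Subgroup.normalizer (P : Set G))).index := by
  haveI : ((Subgroup.centralizer (P : Set G)).subgroupOf
      (Subgroup.normalizer (P : Set G))).Normal :=
    Subgroup.normal_subgroupOf_centralizer_normalizer _
  by_contra h2
  obtain ⟨m, hm⟩ := Nat.not_even_iff_odd.1 (fun h => h2 (Even.two_dvd h))
  have hmem := ((Subgroup.centralizer (P : Set G)).subgroupOf
      (Subgroup.normalizer (P : Set G))).pow_index_mem (⟨k, hk⟩ : Subgroup.normalizer (P : Set G))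
  rw [Subgroup.mem_subgroupOf, hm, SubmonoidClass.coe_pow] at hmem
  have h1 : Commute (k ^ (2 * m + 1)) x := (hmem x hxP).symm
  have hk2 : Commute (k ^ 2) x := by
    have e : k⁻¹ * x⁻¹ * k = x := by
      calc k⁻¹ * x⁻¹ * k = (k⁻¹ * x * k)⁻¹ := by group
        _ = x := by rw [hkx, inv_inv]
    change k ^ 2 * x = x * k ^ 2
    conv_lhs => rw [← e, ← hkx]
    simp [pow_two, mul_assoc]
  have h3 : Commute k x := by
    have h5 := ((hk2.pow_left m).inv_left).mul_left h1
    rwa [← pow_mul, pow_succ, inv_mul_cancel_left] at h5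
  have h4 : x = x⁻¹ := by
    rw [← hkx, mul_assoc, ← h3.eq, inv_mul_cancel_left]
  obtain ⟨j, hj⟩ := hP.exists_orderOf_eq_pow ⟨x, hxP⟩
  rw [Subgroup.orderOf_mk] at hj
  have h6 : orderOf x ∣ 2 := orderOf_dvd_of_pow_eq_one (by rw [pow_two]; nth_rw 2 [h4]; exact mul_inv_cancel x)
  rcases (Nat.dvd_prime Nat.prime_two).1 h6 with h7 | h7
  · exact hx1 (orderOf_eq_one_iff.1 h7)
  · have h8 : p ∣ 2 := by
      rw [← h7, hj]
      refine dvd_pow_self p ?_
      rintro rfl
      rw [hj, pow_zero] at h7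
      omega
    exact hp ((Nat.prime_dvd_prime_iff_eq Fact.out Nat.prime_two).1 h8)


/-- Let n ≥ 3, p an odd prime, and P an abelian Sylow p-subgroup of the symmetric group S_n (with p dividing n!, so that P ≠ 1). Then N(P)/C(P) has even order. -/
theorem result (n : ℕ) (hn : 3 ≤ n) {p : ℕ} [Fact p.Prime] (hp : p ≠ 2) (hpn : p ≤ n)
    (P : Sylow p (Equiv.Perm (Fin n))) (hP : IsMulCommutative (P : Subgroup (Equiv.Perm (Fin n)))) :
    2 ∣ ((Subgroup.centralizer ((P : Subgroup (Equiv.Perm (Fin n))) : Set (Equiv.Perm (Fin n)))).subgroupOf (Subgroup.normalizer ((P : Subgroup (Equiv.Perm (Fin n))) : Set (Equiv.Perm (Fin n))))).index := by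
  haveI := hP
  have hp' : p.Prime := Fact.out
  have hdvd : p ∣ Nat.card (Equiv.Perm (Fin n)) := by
    rw [Nat.card_perm, Nat.card_eq_fintype_card, Fintype.card_fin]
    exact hp'.dvd_factorial.2 hpn
  obtain ⟨⟨x, hxP⟩, hx1⟩ := (Subgroup.ne_bot_iff_exists_ne_one).1 (P.ne_bot_of_dvd_card hdvd)
  have hx1' : x ≠ 1 := fun e => hx1 (Subtype.ext e)
  obtain ⟨c, hc⟩ := isConj_iff.1 (show IsConj x x⁻¹ by
    rw [Equiv.Perm.isConj_iff_cycleType_eq, Equiv.Perm.cycleType_inv])
  obtain ⟨k, hk, hkx⟩ := Sylow.conj_eq_normalizer_conj_of_mem P x c⁻¹ hxP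
    (by rw [inv_inv, hc]; exact inv_mem hxP)
  rw [inv_inv, hc] at hkx
  set N := Subgroup.normalizer ((P : Subgroup (Equiv.Perm (Fin n))) : Set (Equiv.Perm (Fin n)))
  set C := Subgroup.centralizer ((P : Subgroup (Equiv.Perm (Fin n))) : Set (Equiv.Perm (Fin n)))
  haveI : (C.subgroupOf N).Normal := Subgroup.normal_subgroupOf_centralizer_normalizer _
  refine even_index_of_inverting (p := p) hp P.isPGroup' hxP hx1' hk hkx.symm

end Cfsg.Agent.S2270
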