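import Cfsg.Statements.S2269
import Cfsg.Agent.H52.PairModel
import Cfsg.Agent.H52.Small
import Cfsg.Agent.S2270

set_option autoImplicit false
open Cfsg

namespace Cfsg.Agent.S2269

/-- In a simple group a Sylow subgroup whose normalizer centralizes it is trivial or everything. -/
theorem sylow_eq_bot_or_top {G : Type*} [Group G] [Finite G] [IsSimpleGroup G] {p : ℕ} [Fact p.Prime]
    (P : Sylow p G)
    (h : Subgroup.normalizer ((P : Subgroup G) : Set G) ≤ Subgroup.centralizer ((P : Subgroup G) : Set G)) :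
    (P : Subgroup G) = ⊥ ∨ (P : Subgroup G) = ⊤ := by
  have hc := MonoidHom.ker_transferSylow_isComplement' P h
  rcases (MonoidHom.normal_ker (MonoidHom.transferSylow P h)).eq_bot_or_eq_top with h1 | h1
  · rw [h1, Subgroup.isComplement'_bot_left] at hc; exact Or.inr hc
  · rw [h1, Subgroup.isComplement'_top_left] at hc; exact Or.inl hc

theorem two_dvd_card_alt {n : ℕ} (hn : 5 ≤ n) :
    2 * Nat.card (alternatingGroup (Fin n)) = n.factorial := by
  haveI : Nontrivial (Fin n) := Fin.nontrivial_iff_two_le.2 (by omega)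
  rw [two_mul_nat_card_alternatingGroup, Nat.card_perm, Nat.card_eq_fintype_card, Fintype.card_fin]

theorem normalizer_not_le_centralizer {n : ℕ} (hn : 5 ≤ n) (P : Sylow 2 (alternatingGroup (Fin n))) :
    ¬ Subgroup.normalizer ((P : Subgroup (alternatingGroup (Fin n))) : Set (alternatingGroup (Fin n))) ≤
      Subgroup.centralizer ((P : Subgroup (alternatingGroup (Fin n))) : Set (alternatingGroup (Fin n))) := by
  haveI := alternatingGroup.isSimpleGroup (α := Fin n) (by simpa using hn)
  intro h
  have hc := two_dvd_card_alt hn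
  have h24 : 24 ∣ n.factorial := Nat.factorial_dvd_factorial (show 4 ≤ n by omega)
  rcases sylow_eq_bot_or_top P h with h1 | h1
  · exact P.ne_bot_of_dvd_card (by omega) h1
  · obtain ⟨k, hk⟩ := IsPGroup.iff_card.1 P.2
    rw [h1, Subgroup.card_top] at hk
    have h3 : 3 ∣ 2 ^ k := by rw [← hk]; omega
    have := Nat.prime_three.dvd_of_dvd_pow h3
    omega

theorem exists_inverting {n p : ℕ} [Fact p.Prime] (hp : p ≠ 2) (hn : 5 ≤ n) (h2p : 2 * p ≤ n)
    (P : Sylow p (alternatingGroup (Fin n))) (hP : IsMulCommutative (P : Subgroup (alternatingGroup (Fin n)))) :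
    2 ∣ ((Subgroup.centralizer ((P : Subgroup (alternatingGroup (Fin n))) : Set (alternatingGroup (Fin n)))).subgroupOf
      (Subgroup.normalizer ((P : Subgroup (alternatingGroup (Fin n))) : Set (alternatingGroup (Fin n))))).index := by
  haveI := hP
  have hpp : p.Prime := Fact.out
  have hp2 := hpp.two_le
  obtain ⟨c, hc⟩ : ∃ c : Equiv.Perm (Fin n), c.cycleType = {p} := by
    rw [Equiv.Perm.exists_with_cycleType_iff]
    simp only [Multiset.sum_singleton, Fintype.card_fin, Multiset.mem_singleton, forall_eq]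
    omega
  have hce : c ∈ alternatingGroup (Fin n) := by
    rw [Equiv.Perm.mem_alternatingGroup, Equiv.Perm.sign_of_cycleType, hc]
    simp [pow_succ, (hpp.odd_of_ne_two hp).neg_one_pow]
  have hord : orderOf c = p := by rw [← Equiv.Perm.lcm_cycleType, hc]; simp
  have hpg : IsPGroup p (Subgroup.zpowers (⟨c, hce⟩ : alternatingGroup (Fin n))) :=
    IsPGroup.of_card (n := 1) (by rw [Nat.card_zpowers, Subgroup.orderOf_mk, hord, pow_one])
  obtain ⟨Q, hQ⟩ := hpg.exists_le_sylow
  obtain ⟨g, hg⟩ := MulAction.exists_smul_eq (alternatingGroup (Fin n)) Q P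
  set x : alternatingGroup (Fin n) := g * ⟨c, hce⟩ * g⁻¹ with hx
  have hxP : x ∈ (P : Subgroup (alternatingGroup (Fin n))) := by
    rw [← hg]
    exact ⟨_, hQ (Subgroup.mem_zpowers _), rfl⟩
  have hxt : (x : Equiv.Perm (Fin n)).cycleType = {p} := by
    rw [hx]; push_cast; rw [Equiv.Perm.cycleType_conj, hc]
  obtain ⟨h, hh⟩ := isConj_iff.1 (show IsConj (x : Equiv.Perm (Fin n)) (x : Equiv.Perm (Fin n))⁻¹ by
    rw [Equiv.Perm.isConj_iff_cycleType_eq, Equiv.Perm.cycleType_inv])
  have hsupp : 2 ≤ ((x : Equiv.Perm (Fin n)).supportᶜ).card := by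
    rw [Finset.card_compl, Fintype.card_fin, ← Equiv.Perm.sum_cycleType, hxt, Multiset.sum_singleton]
    omega
  obtain ⟨a, ha, b, hb, hab⟩ := Finset.one_lt_card.1 hsupp
  have hs : Equiv.swap a b * (x : Equiv.Perm (Fin n)) * (Equiv.swap a b)⁻¹ = x := by
    rw [mul_inv_eq_iff_eq_mul]
    refine Equiv.Perm.Disjoint.commute ?_ |>.eq
    rw [Equiv.Perm.disjoint_iff_disjoint_support, Equiv.Perm.support_swap hab, Finset.disjoint_left]
    intro y hy
    rw [Finset.mem_compl] at ha hb
    simp only [Finset.mem_insert, Finset.mem_singleton] at hy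
    rcases hy with rfl | rfl <;> assumption
  obtain ⟨h', hh'e, hh'⟩ : ∃ h' : Equiv.Perm (Fin n), h' ∈ alternatingGroup (Fin n) ∧
      h' * x * h'⁻¹ = (x : Equiv.Perm (Fin n))⁻¹ := by
    rcases Int.units_eq_one_or (Equiv.Perm.sign h) with h1 | h1
    · exact ⟨h, Equiv.Perm.mem_alternatingGroup.2 h1, hh⟩
    · refine ⟨h * Equiv.swap a b, by simp [Equiv.Perm.mem_alternatingGroup, h1, Equiv.Perm.sign_swap hab], ?_⟩
      calc h * Equiv.swap a b * x * (h * Equiv.swap a b)⁻¹
          = h * (Equiv.swap a b * x * (Equiv.swap a b)⁻¹) * h⁻¹ := by simp [mul_assoc]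
        _ = _ := by rw [hs, hh]
  have hconj : (⟨h', hh'e⟩ : alternatingGroup (Fin n)) * x * ⟨h', hh'e⟩⁻¹ = x⁻¹ := Subtype.ext hh'
  obtain ⟨k, hk, hkx⟩ := Sylow.conj_eq_normalizer_conj_of_mem P x
    ((⟨h', hh'e⟩ : alternatingGroup (Fin n))⁻¹) hxP (by rw [inv_inv, hconj]; exact inv_mem hxP)
  rw [inv_inv, hconj] at hkx
  refine Cfsg.Agent.S2270.even_index_of_inverting (p := p) hp P.isPGroup' hxP ?_ hk hkx.symm
  intro hx1
  rw [hx1, OneMemClass.coe_one, Equiv.Perm.cycleType_one] at hxt
  exact Multiset.singleton_ne_zero p hxt.symm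

theorem isCyclic_small {n p : ℕ} [Fact p.Prime] (hn : 5 ≤ n) (h2p : n < 2 * p)
    (P : Sylow p (alternatingGroup (Fin n))) : IsCyclic (P : Subgroup (alternatingGroup (Fin n))) := by
  have hpp : p.Prime := Fact.out
  have hv : padicValNat p n.factorial ≤ 1 := by
    have h1 : n = p * (n / p) + n % p := (Nat.div_add_mod n p).symm
    have h2 : n / p ≤ 1 := by
      have := (Nat.div_lt_iff_lt_mul hpp.pos).2 h2p; omega
    rw [h1, padicValNat_factorial_mul_add _ (Nat.mod_lt n hpp.pos), padicValNat_factorial_mul]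
    interval_cases h3 : n / p <;> simp
  have hc := P.card_eq_multiplicity
  have hle : (Nat.card (alternatingGroup (Fin n))).factorization p ≤ 1 := by
    refine le_trans ?_ hv
    rw [← Nat.factorization_def _ hpp, ← two_dvd_card_alt hn,
      Nat.factorization_mul (by norm_num) Nat.card_pos.ne']
    simp
  interval_cases h : (Nat.card (alternatingGroup (Fin n))).factorization p
  · rw [pow_zero] at hc
    haveI : Subsingleton (P : Subgroup (alternatingGroup (Fin n))) := (Nat.card_eq_one_iff_unique.1 hc).1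
    infer_instance
  · exact isCyclic_of_prime_card (p := p) (by rw [hc, pow_one])

theorem klein_five (P : Sylow 2 (alternatingGroup (Fin 5))) :
    ((Subgroup.centralizer ((P : Subgroup (alternatingGroup (Fin 5))) : Set (alternatingGroup (Fin 5)))).subgroupOf
      (Subgroup.normalizer ((P : Subgroup (alternatingGroup (Fin 5))) : Set (alternatingGroup (Fin 5))))).index = 3 ∧
    IsKleinFour (P : Subgroup (alternatingGroup (Fin 5))) := by
  have hA := Cfsg.Agent.H52.nat_card_alt5
  have hP4 : Nat.card (P : Subgroup (alternatingGroup (Fin 5))) = 4 := by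
    have h1 : 2 ^ 2 ∣ Nat.card (P : Subgroup (alternatingGroup (Fin 5))) :=
      P.pow_dvd_card_of_pow_dvd_card (by rw [hA]; norm_num)
    have h2 := (P : Subgroup (alternatingGroup (Fin 5))).card_subgroup_dvd_card
    obtain ⟨k, hk⟩ := IsPGroup.iff_card.1 P.2
    rw [hA, hk] at h2
    rw [hk] at h1 ⊢
    have h3 : 2 ≤ k := (Nat.pow_dvd_pow_iff_le_right (by norm_num)).1 h1
    have h4 : k < 3 := by
      by_contra h5
      have := (pow_dvd_pow 2 (Nat.not_lt.1 h5)).trans h2
      omega
    obtain rfl : k = 2 := by omega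
    norm_num
  have key : ∀ g : Equiv.Perm (Fin 5), Equiv.Perm.sign g = 1 → g ^ 4 = 1 → g ^ 2 = 1 := by decide +kernel
  have hexp : ∀ x : (P : Subgroup (alternatingGroup (Fin 5))), x ^ 2 = 1 := by
    intro x
    apply Subtype.ext
    apply Subtype.ext
    have h4 := congrArg (fun y : (P : Subgroup (alternatingGroup (Fin 5))) => ((y : alternatingGroup (Fin 5)) : Equiv.Perm (Fin 5)))
      (hP4 ▸ pow_card_eq_one' (x := x))
    simp only [SubmonoidClass.coe_pow, OneMemClass.coe_one] at h4
    simpa using key _ (Equiv.Perm.mem_alternatingGroup.1 (x : alternatingGroup (Fin 5)).2) h4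
  haveI : Nontrivial (P : Subgroup (alternatingGroup (Fin 5))) := Finite.one_lt_card_iff_nontrivial.1 (by omega)
  refine ⟨?_, ⟨hP4, Monoid.exponent_eq_prime_iff Nat.prime_two |>.2 fun g hg => orderOf_eq_prime (hexp g) hg⟩⟩
  set N := Subgroup.normalizer ((P : Subgroup (alternatingGroup (Fin 5))) : Set (alternatingGroup (Fin 5)))
  set C := Subgroup.centralizer ((P : Subgroup (alternatingGroup (Fin 5))) : Set (alternatingGroup (Fin 5)))
  haveI : IsMulCommutative (P : Subgroup (alternatingGroup (Fin 5))) := ⟨⟨fun a b => by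
    have h : ∀ z : (P : Subgroup (alternatingGroup (Fin 5))), z⁻¹ = z := fun z =>
      inv_eq_of_mul_eq_one_left (by rw [← pow_two, hexp])
    rw [← h (a * b), mul_inv_rev, h, h]⟩⟩
  have hPC : (P : Subgroup (alternatingGroup (Fin 5))) ≤ C := (P : Subgroup (alternatingGroup (Fin 5))).le_centralizer
  have hnot := normalizer_not_le_centralizer le_rfl P
  have hCN : C ≤ N := Subgroup.centralizer_le_normalizer _
  have hlt : C < N := lt_of_le_of_ne hCN (fun e => hnot (le_of_eq e.symm))
  haveI := alternatingGroup.isSimpleGroup (α := Fin 5) (by simp)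
  have hN : N ≠ ⊤ := by
    intro e
    rcases (Subgroup.normalizer_eq_top_iff.1 e).eq_bot_or_eq_top with h | h
    · rw [h, Subgroup.card_bot] at hP4; omega
    · rw [h, Subgroup.card_top, hA] at hP4; omega
  have h5 := Cfsg.Agent.H52.alt5_index_ge N hN
  have hm := N.card_mul_index
  rw [hA] at hm
  have hd : 4 ∣ Nat.card C := hP4 ▸ Subgroup.card_dvd_of_le hPC
  have hi : Nat.card C * (C.subgroupOf N).index = Nat.card N := by
    rw [← (C.subgroupOf N).card_mul_index,
      Nat.card_congr (Subgroup.subgroupOfEquivOfLe hCN).toEquiv]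
  have hlt2 : Nat.card C < Nat.card N := by
    refine lt_of_le_of_ne (Subgroup.card_le_of_le hCN) fun e => hlt.ne ?_
    exact Subgroup.eq_of_le_of_card_ge hCN e.ge
  have hN12 : Nat.card N ≤ 12 := by
    by_contra hc
    have := Nat.mul_le_mul (show 13 ≤ Nat.card N by omega) h5
    omega
  obtain ⟨c, hc⟩ := hd
  have hNd : 4 ∣ Nat.card N := hP4 ▸ Subgroup.card_dvd_of_le (hPC.trans hCN)
  obtain ⟨d, hd'⟩ := hNd
  have hd3 : d ≤ 3 := by omega
  have hNdiv : Nat.card N ∣ 60 := hA ▸ N.card_subgroup_dvd_card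
  have hc1 : c = 1 ∨ c = 2 := by
    have : 0 < Nat.card C := Nat.card_pos
    omega
  change (C.subgroupOf N).index = 3
  rw [hd'] at hNdiv hi hlt2
  rw [hc] at hi hlt2
  rcases hc1 with rfl | rfl <;> interval_cases d <;> omega


/-- Let n ≥ 5 and let P be an abelian Sylow p-subgroup of the alternating group A_n. Then N(P)/C(P) (taken in A_n) has even order, or P is cyclic, except when n = 5 and p = 2, where P is a four-group and N(P)/C(P) has order 3. -/
theorem result (n : ℕ) (hn : 5 ≤ n) {p : ℕ} [Fact p.Prime]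
    (P : Sylow p (alternatingGroup (Fin n))) (hP : IsMulCommutative (P : Subgroup (alternatingGroup (Fin n)))) :
    (¬ (n = 5 ∧ p = 2) → 2 ∣ ((Subgroup.centralizer ((P : Subgroup (alternatingGroup (Fin n))) : Set (alternatingGroup (Fin n)))).subgroupOf (Subgroup.normalizer ((P : Subgroup (alternatingGroup (Fin n))) : Set (alternatingGroup (Fin n))))).index ∨ IsCyclic (P : Subgroup (alternatingGroup (Fin n)))) ∧
    ((n = 5 ∧ p = 2) → ((Subgroup.centralizer ((P : Subgroup (alternatingGroup (Fin n))) : Set (alternatingGroup (Fin n)))).subgroupOf (Subgroup.normalizer ((P : Subgroup (alternatingGroup (Fin n))) : Set (alternatingGroup (Fin n))))).index = 3 ∧ IsKleinFour (P : Subgroup (alternatingGroup (Fin n)))) := by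
  refine ⟨fun hne => ?_, ?_⟩
  · by_cases hp : p = 2
    · subst hp
      exfalso
      haveI := hP
      have hn6 : 6 ≤ n := by by_contra h; exact hne ⟨by omega, rfl⟩
      exact normalizer_not_le_centralizer hn P
        ((Cfsg.Agent.H52.selfNorm_alternating n hn6 P).trans (P : Subgroup (alternatingGroup (Fin n))).le_centralizer)
    · rcases Nat.lt_or_ge n (2 * p) with h | h
      · exact Or.inr (isCyclic_small hn h P)
      · exact Or.inl (exists_inverting hp hn h P hP)
  · rintro ⟨rfl, rfl⟩
    exact klein_five P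

end Cfsg.Agent.S2269
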