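import Cfsg.Statements.S2272
import Mathlib

set_option autoImplicit false
open Cfsg Matrix Module Submodule

namespace Cfsg.Agent.S2272

variable {F : Type*} [Field F] {d : ℕ}

local notation "SL" => Matrix.SpecialLinearGroup (Fin d) F
local notation "V" => (Fin d → F)

theorem exists_dot (p : Submodule F V) {x : V} (hx : x ∉ p) :
    ∃ φ : V, (∀ y ∈ p, φ ⬝ᵥ y = 0) ∧ φ ⬝ᵥ x = 1 := by
  obtain ⟨f, hf, hp⟩ := Submodule.exists_dual_map_eq_bot_of_notMem hx inferInstance
  have key : ∀ y : V, (fun i => (f x)⁻¹ * f (Pi.single i 1)) ⬝ᵥ y = (f x)⁻¹ * f y := by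
    intro y
    conv_rhs => rw [pi_eq_sum_univ' y, map_sum]
    rw [dotProduct, Finset.mul_sum]
    refine Finset.sum_congr rfl fun i _ => ?_
    rw [map_smul, smul_eq_mul]
    ring
  refine ⟨fun i => (f x)⁻¹ * f (Pi.single i 1), fun y hy => ?_, ?_⟩
  · rw [key]
    have : f y ∈ p.map f := ⟨y, hy, rfl⟩
    rw [hp, Submodule.mem_bot] at this
    rw [this, mul_zero]
  · rw [key, inv_mul_cancel₀ hf]

/-- The transvection `x ↦ x + (φ ⬝ x) u`. -/
def tv (u φ : V) (h : φ ⬝ᵥ u = 0) : SL :=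
  ⟨1 + vecMulVec u φ, by
    rw [vecMulVec_eq Unit, det_one_add_replicateCol_mul_replicateRow, h, add_zero]⟩

theorem tv_mulVec (u φ : V) (h : φ ⬝ᵥ u = 0) (x : V) :
    (tv u φ h).1 *ᵥ x = x + (φ ⬝ᵥ x) • u := by
  show (1 + vecMulVec u φ) *ᵥ x = _
  rw [add_mulVec, one_mulVec, vecMulVec_mulVec]
  simp

theorem mul_apply_vec (g h : SL) (x : V) : (g * h).1 *ᵥ x = g.1 *ᵥ (h.1 *ᵥ x) := by
  rw [Matrix.SpecialLinearGroup.coe_mul, mulVec_mulVec]

theorem inv_mulVec_self (g : SL) (x : V) : (g⁻¹).1 *ᵥ (g.1 *ᵥ x) = x := by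
  rw [← mul_apply_vec, inv_mul_cancel, Matrix.SpecialLinearGroup.coe_one, one_mulVec]

theorem mulVec_mem_span (g : SL) (x v : V) (h : g.1 *ᵥ x ∈ span F {g.1 *ᵥ v}) : x ∈ span F {v} := by
  rw [mem_span_singleton] at h ⊢
  obtain ⟨c, hc⟩ := h
  refine ⟨c, ?_⟩
  rw [← inv_mulVec_self g x, ← hc, mulVec_smul, inv_mulVec_self]

theorem pair_ne_top (hd : 3 ≤ d) (v x : V) : span F {v} ⊔ span F {x} ≠ (⊤ : Submodule F V) := by
  intro h
  have h1 := Submodule.finrank_add_le_finrank_add_finrank (span F {v}) (span F {x})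
  rw [h, finrank_top, finrank_fin_fun] at h1
  have h2 : ∀ y : V, finrank F (span F {y}) ≤ 1 := fun y => by
    simpa using finrank_span_le_card (R := F) ({y} : Set V)
  have := h2 v
  have := h2 x
  omega

theorem exists_outside_two {p q : Submodule F V} (hp : p ≠ ⊤) (hq : q ≠ ⊤) : ∃ z, z ∉ p ∧ z ∉ q := by
  obtain ⟨a, -, ha⟩ := SetLike.exists_of_lt (lt_top_iff_ne_top.2 hp)
  obtain ⟨b, -, hb⟩ := SetLike.exists_of_lt (lt_top_iff_ne_top.2 hq)
  by_cases haq : a ∈ q
  · by_cases hbp : b ∈ p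
    · exact ⟨a + b, fun h => ha (by simpa using p.sub_mem h hbp), fun h => hb (by simpa using q.sub_mem h haq)⟩
    · exact ⟨b, hbp, hb⟩
  · exact ⟨a, ha, haq⟩

/-- Some element fixing `v` moves `x` to `y`. -/
theorem move (hd : 3 ≤ d) (v x y : V) (hx : x ∉ span F {v}) (hy : y ∉ span F {v}) :
    ∃ g : SL, g.1 *ᵥ v = v ∧ g.1 *ᵥ x = y := by
  have step : ∀ a b : V, a ∉ span F {v} ⊔ span F {b - a} → ∃ g : SL, g.1 *ᵥ v = v ∧ g.1 *ᵥ a = b := by
    intro a b ha
    obtain ⟨φ, hφ, hφa⟩ := exists_dot _ ha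
    have h0 := hφ (b - a) (mem_sup_right (mem_span_singleton_self _))
    refine ⟨tv (b - a) φ h0, ?_, ?_⟩
    · rw [tv_mulVec, hφ v (mem_sup_left (mem_span_singleton_self _)), zero_smul, add_zero]
    · rw [tv_mulVec, hφa, one_smul, add_sub_cancel]
  obtain ⟨z, hzx, hzy⟩ := exists_outside_two (pair_ne_top hd v x) (pair_ne_top hd v y)
  have dec : ∀ a b : V, a ∉ span F {v} → b ∉ span F {v} ⊔ span F {a} → a ∉ span F {v} ⊔ span F {b - a} := by
    intro a b ha hb h
    obtain ⟨l, hl, m, hm, e⟩ := mem_sup.1 h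
    obtain ⟨c, rfl⟩ := mem_span_singleton.1 hm
    by_cases hc : c = 0
    · rw [hc, zero_smul, add_zero] at e; exact ha (e ▸ hl)
    · refine hb ?_
      have hb' : b = a + c⁻¹ • (a - l) := by
        have : a - l = c • (b - a) := by
          conv_lhs => rw [← e]
          abel
        rw [this, smul_smul, inv_mul_cancel₀ hc, one_smul, add_sub_cancel]
      rw [hb']
      exact add_mem (mem_sup_right (mem_span_singleton_self _))
        (smul_mem _ _ (sub_mem (mem_sup_right (mem_span_singleton_self _)) (mem_sup_left hl)))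
  have dec' : ∀ a b : V, a ∉ span F {v} → b ∉ span F {v} ⊔ span F {a} → b ∉ span F {v} ⊔ span F {a - b} := by
    intro a b ha hb h
    obtain ⟨l, hl, m, hm, e⟩ := mem_sup.1 h
    obtain ⟨c, rfl⟩ := mem_span_singleton.1 hm
    by_cases hc : 1 + c = 0
    · have hc' : c = -1 := eq_neg_of_add_eq_zero_right hc
      rw [hc', neg_one_smul, neg_sub] at e
      refine ha ?_
      have : a = l := by
        have h2 : l + (b - a) = b := e
        calc a = l + b - (l + (b - a)) := by abel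
          _ = l + b - b := by rw [h2]
          _ = l := by abel
      exact this ▸ hl
    · refine hb ?_
      have hb' : b = (1 + c)⁻¹ • (l + c • a) := by
        have : (1 + c) • b = l + c • a := by
          rw [add_smul, one_smul]
          nth_rewrite 1 [← e]
          rw [smul_sub]; abel
        rw [← this, smul_smul, inv_mul_cancel₀ hc, one_smul]
      rw [hb']
      exact smul_mem _ _ (add_mem (mem_sup_left hl) (mem_sup_right (smul_mem _ _ (mem_span_singleton_self _))))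
  obtain ⟨g1, a1, b1⟩ := step x z (dec x z hx hzx)
  obtain ⟨g2, a2, b2⟩ := step z y (dec' y z hy hzy)
  exact ⟨g2 * g1, by rw [mul_apply_vec, a1, a2], by rw [mul_apply_vec, b1, b2]⟩

theorem exists_indep (B : SL) (hB : B ∉ Subgroup.center SL) : ∃ u : V, B.1 *ᵥ u ∉ span F {u} := by
  by_contra h
  push Not at h
  refine hB ?_
  have hd : ∀ i j, i ≠ j → B.1 i j = 0 := by
    intro i j hij
    obtain ⟨c, hc⟩ := mem_span_singleton.1 (h (Pi.single j 1))
    have := congrFun hc i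
    simp [hij] at this
    exact this.symm
  have he : ∀ i j, B.1 i i = B.1 j j := by
    intro i j
    by_cases hij : i = j
    · rw [hij]
    obtain ⟨c, hc⟩ := mem_span_singleton.1 (h (Pi.single i 1 + Pi.single j 1))
    have h1 := congrFun hc i
    have h2 := congrFun hc j
    simp [mulVec_add, hij, Ne.symm hij, hd i j hij, hd j i (Ne.symm hij)] at h1 h2
    exact h1.symm.trans h2
  rcases isEmpty_or_nonempty (Fin d) with he' | ⟨⟨i0⟩⟩
  · rw [Subgroup.mem_center_iff]; intro g; exact Subtype.ext (Subsingleton.elim _ _)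
  refine Matrix.SpecialLinearGroup.mem_center_iff.2 ⟨B.1 i0 i0, ?_, ?_⟩
  · have : B.1 = Matrix.diagonal fun _ => B.1 i0 i0 := by
      ext i j
      by_cases hij : i = j
      · subst hij; simp [he i i0]
      · simp [hij, hd i j hij]
    have h2 := B.2
    rw [this, det_diagonal, Finset.prod_const, Finset.card_univ] at h2
    exact h2
  · ext i j
    by_cases hij : i = j
    · subst hij; simp [he i i0]
    · simp [hij, hd i j hij]

theorem exists_conj_map (hd : 3 ≤ d) (B : SL) (hB : B ∉ Subgroup.center SL) (v w : V)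
    (hw : w ∉ span F {v}) (hv : v ≠ 0) : ∃ h : SL, (h * B * h⁻¹).1 *ᵥ v = w := by
  obtain ⟨u, hu⟩ := exists_indep B hB
  have hu0 : u ≠ 0 := fun e => hu (by rw [e, mulVec_zero]; exact zero_mem _)
  obtain ⟨g1, -, h1⟩ := move hd 0 u v (by simpa [span_singleton_eq_bot.2 rfl] using hu0)
    (by simpa [span_singleton_eq_bot.2 rfl] using hv)
  have hg : g1.1 *ᵥ (B.1 *ᵥ u) ∉ span F {v} := fun h => hu (mulVec_mem_span g1 _ _ (h1.symm ▸ h))
  obtain ⟨g2, h2, h3⟩ := move hd v _ w hg hw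
  refine ⟨g2 * g1, ?_⟩
  have hu' : ((g2 * g1)⁻¹).1 *ᵥ v = u := by
    have := inv_mulVec_self (g2 * g1) u
    rwa [mul_apply_vec, h1, h2] at this
  rw [mul_apply_vec, mul_apply_vec, hu', mul_apply_vec, h3]

theorem exists_moved (hd : 3 ≤ d) (A B : SL) (hA : A ∉ Subgroup.center SL) (hB : B ∉ Subgroup.center SL) :
    ∃ (h : SL) (v : V), A.1 *ᵥ ((h * B * h⁻¹).1 *ᵥ v) - (h * B * h⁻¹).1 *ᵥ (A.1 *ᵥ v)
      ∉ span F {v} ⊔ span F {A.1 *ᵥ v} := by
  obtain ⟨uA, huA⟩ := exists_indep A hA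
  by_cases heig : ∃ (v : V) (c : F), v ≠ 0 ∧ A.1 *ᵥ v = c • v
  · obtain ⟨v0, c, hv0, hAv0⟩ := heig
    let T : V →ₗ[F] V := A.1.mulVecLin - c • LinearMap.id
    have hT : ∀ y, T y = A.1 *ᵥ y - c • y := fun y => by simp [T]
    obtain ⟨v, w, hv, hvc, hw⟩ : ∃ v w : V, v ≠ 0 ∧ A.1 *ᵥ v = c • v ∧ T w ∉ span F {v} := by
      by_cases hr : LinearMap.range T ≤ span F {v0}
      · have hker : ¬ LinearMap.ker T ≤ span F {v0} := by
          intro hle
          have h1 := LinearMap.finrank_range_add_finrank_ker T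
          rw [finrank_fin_fun] at h1
          have h2 : ∀ p : Submodule F V, p ≤ span F {v0} → finrank F p ≤ 1 := fun p hp =>
            (Submodule.finrank_mono hp).trans (by simpa using finrank_span_le_card (R := F) ({v0} : Set V))
          have := h2 _ hr
          have := h2 _ hle
          omega
        obtain ⟨v, hvk, hv⟩ := SetLike.not_le_iff_exists.1 hker
        have hne : T uA ≠ 0 := fun e => huA (mem_span_singleton.2 ⟨c, (sub_eq_zero.1 ((hT uA).symm.trans e)).symm⟩)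
        refine ⟨v, uA, fun e => hv (e ▸ zero_mem _), sub_eq_zero.1 ((hT v).symm.trans hvk), fun hm => hv ?_⟩
        obtain ⟨r, hr'⟩ := mem_span_singleton.1 (hr ⟨uA, rfl⟩)
        obtain ⟨s, hs⟩ := mem_span_singleton.1 hm
        have hs0 : s ≠ 0 := fun e => hne (by rw [← hs, e, zero_smul])
        refine mem_span_singleton.2 ⟨s⁻¹ * r, ?_⟩
        rw [mul_smul, hr', ← hs, smul_smul, inv_mul_cancel₀ hs0, one_smul]
      · obtain ⟨-, ⟨w, rfl⟩, hw⟩ := SetLike.not_le_iff_exists.1 hr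
        exact ⟨v0, w, hv0, hAv0, hw⟩
    have hwv : w ∉ span F {v} := by
      intro hm
      obtain ⟨r, rfl⟩ := mem_span_singleton.1 hm
      refine hw ?_
      rw [map_smul]
      exact smul_mem _ _ (by rw [hT, hvc, sub_self]; exact zero_mem _)
    obtain ⟨h, hh⟩ := exists_conj_map hd B hB v w hwv hv
    refine ⟨h, v, fun hm => hw ?_⟩
    rw [hvc, mulVec_smul, hh, ← hT] at hm
    exact SetLike.le_def.1 (sup_le le_rfl ((span_singleton_le_iff_mem _ _).2
      (smul_mem _ _ (mem_span_singleton_self _)))) hm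
  push Not at heig
  have hinj : ∀ c : F, Function.Injective (A.1.mulVecLin - c • LinearMap.id : V →ₗ[F] V) := by
    intro c
    rw [← LinearMap.ker_eq_bot, eq_bot_iff]
    intro y hy
    rw [LinearMap.mem_ker] at hy
    simp [sub_eq_zero] at hy
    rw [Submodule.mem_bot]
    by_contra h0
    exact heig y c h0 hy
  have huA0 : uA ≠ 0 := fun e => huA (by rw [e, mulVec_zero]; exact zero_mem _)
  obtain ⟨L, hL⟩ : ∃ L : Submodule F V, L = span F {uA} ⊔ span F {A.1 *ᵥ uA} := ⟨_, rfl⟩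
  have hLt : L ≠ ⊤ := hL ▸ pair_ne_top hd _ _
  obtain ⟨w, -, hw⟩ := SetLike.exists_of_lt (lt_top_iff_ne_top.2 hLt)
  obtain ⟨h, hh⟩ := exists_conj_map hd B hB uA w (fun hm => hw (hL ▸ mem_sup_left hm)) huA0
  by_contra hcon
  push Not at hcon
  have c1 := hcon h uA
  rw [hh, ← hL] at c1
  obtain ⟨ψ, hψ, hψw⟩ := exists_dot L hw
  set x := (h * B * h⁻¹).1 *ᵥ (A.1 *ᵥ uA) with hx
  set T : V →ₗ[F] V := A.1.mulVecLin - (ψ ⬝ᵥ x) • LinearMap.id with hTdef
  let K : Submodule F V :=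
    { carrier := {y | ψ ⬝ᵥ y = 0}
      add_mem' := fun {a b} ha hb => by simp_all [dotProduct_add]
      zero_mem' := by simp
      smul_mem' := fun r y hy => by simp_all [dotProduct_smul] }
  have hK : ∀ y : V, y ∈ K ↔ ψ ⬝ᵥ y = 0 := fun _ => Iff.rfl
  have key : ∀ u ∈ K, T u ∈ L := by
    intro u hu
    rw [hK] at hu
    set τ := tv u ψ hu
    have fix : ∀ y ∈ L, (τ⁻¹).1 *ᵥ y = y := by
      intro y hy
      have := inv_mulVec_self τ y
      rwa [tv_mulVec, hψ y hy, zero_smul, add_zero] at this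
    have c2 := hcon (τ * h) uA
    rw [← hL, show τ * h * B * (τ * h)⁻¹ = τ * (h * B * h⁻¹) * τ⁻¹ by group, mul_apply_vec,
      mul_apply_vec, fix uA (hL ▸ mem_sup_left (mem_span_singleton_self _)), hh, mul_apply_vec,
      mul_apply_vec, fix _ (hL ▸ mem_sup_right (mem_span_singleton_self _)), ← hx, tv_mulVec, tv_mulVec,
      hψw, one_smul, mulVec_add] at c2
    have := L.sub_mem c2 c1
    have e : T u = A.1 *ᵥ w + A.1 *ᵥ u - (x + (ψ ⬝ᵥ x) • u) - (A.1 *ᵥ w - x) := by
      simp [hTdef]; abel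
    rwa [e]
  have hLK : L ≤ K := fun y hy => hψ y hy
  have hKle : finrank F K ≤ finrank F L := by
    rw [(Submodule.equivMapOfInjective T (hinj _) K).finrank_eq]
    exact Submodule.finrank_mono (Submodule.map_le_iff_le_comap.2 key)
  have hKL : K = L := (Submodule.eq_of_le_of_finrank_le hLK hKle).symm
  have hdec : ∀ y : V, y - (ψ ⬝ᵥ y) • w ∈ L := by
    intro y
    rw [← hKL, hK, dotProduct_sub, dotProduct_smul, hψw, smul_eq_mul, mul_one, sub_self]
  set μ := ψ ⬝ᵥ (A.1 *ᵥ w)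
  have hinv : ∀ y ∈ L, A.1 *ᵥ y ∈ L := by
    intro y hy
    have := key y (hLK hy)
    simp [hTdef] at this
    simpa using L.add_mem this (L.smul_mem (ψ ⬝ᵥ x) hy)
  set T' : V →ₗ[F] V := A.1.mulVecLin - μ • LinearMap.id with hT'
  have hrange : ∀ y, T' y ∈ L := by
    intro y
    have h1 : ∀ z ∈ L, T' z ∈ L := fun z hz => by
      simp [hT']; exact L.sub_mem (hinv z hz) (L.smul_mem μ hz)
    have h2 : T' w ∈ L := by simpa [hT'] using hdec (A.1 *ᵥ w)
    have : y = (y - (ψ ⬝ᵥ y) • w) + (ψ ⬝ᵥ y) • w := (sub_add_cancel _ _).symm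
    rw [this, map_add, map_smul]
    exact L.add_mem (h1 _ (hdec y)) (L.smul_mem _ h2)
  obtain ⟨y, hy⟩ := LinearMap.surjective_of_injective (hinj μ) w
  exact hw (hy ▸ hrange y)

theorem trace_eq_zero_iff_of_isConj (hd : 3 ≤ d) (A B : SL)
    (h : IsConj (A : Matrix.ProjectiveSpecialLinearGroup (Fin d) F)
      (B : Matrix.ProjectiveSpecialLinearGroup (Fin d) F)) :
    (A.1.trace = 0 ↔ B.1.trace = 0) := by
  obtain ⟨c, hc⟩ := isConj_iff.1 h
  obtain ⟨k, rfl⟩ := QuotientGroup.mk'_surjective (Subgroup.center SL) c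
  have hz : (k * A * k⁻¹)⁻¹ * B ∈ Subgroup.center SL := by
    refine QuotientGroup.eq.1 ?_
    rw [← hc]
    rfl
  obtain ⟨r, hr, he⟩ := Matrix.SpecialLinearGroup.mem_center_iff.1 hz
  have hB : B.1 = r • (k * A * k⁻¹).1 := by
    have : B = (k * A * k⁻¹) * ((k * A * k⁻¹)⁻¹ * B) := by group
    rw [congrArg Subtype.val this, Matrix.SpecialLinearGroup.coe_mul, ← he, Matrix.scalar_apply,
      ← Matrix.smul_one_eq_diagonal, Matrix.mul_smul, mul_one]
  have htr : (k * A * k⁻¹).1.trace = A.1.trace := by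
    rw [Matrix.SpecialLinearGroup.coe_mul, trace_mul_comm, ← Matrix.SpecialLinearGroup.coe_mul,
      show k⁻¹ * (k * A) = A by group]
  rw [hB, trace_smul, htr, smul_eq_mul, mul_eq_zero]
  refine ⟨Or.inr, fun hh => hh.resolve_left fun e => ?_⟩
  rw [e, Fintype.card_fin, zero_pow (by omega)] at hr
  exact zero_ne_one hr

/-- Let F be a finite field and d ≥ 3, and let a, b be non-identity elements of PSL_d(F). Then the product of the conjugacy classes of a and b is not a single conjugacy class: there are conjugates a′ of a and b′ of b such that a′b′ is not conjugate to ab. -/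
theorem result {F : Type*} [Field F] [Fintype F] (d : ℕ) (hd : 3 ≤ d)
    (a b : Matrix.ProjectiveSpecialLinearGroup (Fin d) F) (ha : a ≠ 1) (hb : b ≠ 1) :
    ∃ g h : Matrix.ProjectiveSpecialLinearGroup (Fin d) F, ¬ IsConj (a * b) (g * a * g⁻¹ * (h * b * h⁻¹)) := by
  obtain ⟨A, rfl⟩ := QuotientGroup.mk'_surjective (Subgroup.center (Matrix.SpecialLinearGroup (Fin d) F)) a
  obtain ⟨B, rfl⟩ := QuotientGroup.mk'_surjective (Subgroup.center (Matrix.SpecialLinearGroup (Fin d) F)) b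
  have hA : A ∉ Subgroup.center _ := fun e => ha ((QuotientGroup.eq_one_iff A).2 e)
  have hB : B ∉ Subgroup.center _ := fun e => hb ((QuotientGroup.eq_one_iff B).2 e)
  obtain ⟨h, v, hv⟩ := exists_moved hd A B hA hB
  obtain ⟨φ, hφ, hφ1⟩ := exists_dot _ hv
  by_contra hcon
  push Not at hcon
  set B' := h * B * h⁻¹ with hB'
  have hφv : φ ⬝ᵥ v = 0 := hφ v (mem_sup_left (mem_span_singleton_self _))
  have hφA : φ ⬝ᵥ (A.1 *ᵥ v) = 0 := hφ _ (mem_sup_right (mem_span_singleton_self _))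
  have conj : ∀ g : Matrix.SpecialLinearGroup (Fin d) F,
      ((A * B).1.trace = 0 ↔ (g * A * g⁻¹ * B').1.trace = 0) := by
    intro g
    refine trace_eq_zero_iff_of_isConj hd _ _ ?_
    exact hcon (QuotientGroup.mk g) (QuotientGroup.mk h)
  have htr : ∀ s : F, ∃ g : Matrix.SpecialLinearGroup (Fin d) F,
      (g * A * g⁻¹ * B').1.trace = (A * B').1.trace + s := by
    intro s
    have h0 : φ ⬝ᵥ (s • v) = 0 := by rw [dotProduct_smul, hφv, smul_zero]
    have h0' : φ ⬝ᵥ (-(s • v)) = 0 := by rw [dotProduct_neg, h0, neg_zero]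
    refine ⟨tv (s • v) φ h0, ?_⟩
    have hinv : ((tv (s • v) φ h0)⁻¹ : Matrix.SpecialLinearGroup (Fin d) F) = tv (-(s • v)) φ h0' := by
      refine inv_eq_of_mul_eq_one_right (Subtype.ext ?_)
      rw [Matrix.SpecialLinearGroup.coe_mul, Matrix.SpecialLinearGroup.coe_one]
      show (1 + vecMulVec (s • v) φ) * (1 + vecMulVec (-(s • v)) φ) = 1
      rw [mul_add, mul_one, add_mul, one_mul, vecMulVec_mul_vecMulVec, h0', neg_vecMulVec]
      simp
    rw [hinv, Matrix.SpecialLinearGroup.coe_mul, Matrix.SpecialLinearGroup.coe_mul,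
      Matrix.SpecialLinearGroup.coe_mul, Matrix.SpecialLinearGroup.coe_mul]
    show ((1 + vecMulVec (s • v) φ) * A.1 * (1 + vecMulVec (-(s • v)) φ) * B'.1).trace = _
    rw [neg_vecMulVec, smul_vecMulVec]
    set N := vecMulVec v φ with hN
    have hNAN : N * A.1 * N = 0 := by
      rw [hN, Matrix.mul_assoc, mul_vecMulVec, vecMulVec_mul_vecMulVec, hφA]
      simp
    have e : (1 + s • N) * A.1 * (1 + -(s • N)) * B'.1 =
        A.1 * B'.1 + s • (N * (A.1 * B'.1) - A.1 * (N * B'.1)) - (s * s) • ((N * A.1 * N) * B'.1) := by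
      simp only [add_mul, mul_add, one_mul, mul_one, mul_neg, neg_mul, smul_mul_assoc, mul_smul_comm,
        smul_smul, smul_sub, smul_add, smul_neg, Matrix.mul_assoc]
      module
    have t1 : ∀ M : Matrix (Fin d) (Fin d) F, (M * N).trace = φ ⬝ᵥ (M *ᵥ v) := by
      intro M; rw [hN, mul_vecMulVec, trace_vecMulVec, dotProduct_comm]
    rw [e, hNAN, zero_mul, smul_zero, sub_zero, trace_add, trace_smul, trace_sub,
      trace_mul_comm N, t1, ← Matrix.mul_assoc, trace_mul_comm (A.1 * N), ← Matrix.mul_assoc, t1,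
      ← dotProduct_sub, ← mulVec_mulVec, ← mulVec_mulVec, hφ1, smul_eq_mul, mul_one]
    rfl
  have h1 : ((A * B).1.trace = 0 ↔ (A * B').1.trace = 0) := by
    have := conj 1
    simpa using this
  obtain ⟨g, hg⟩ := htr 1
  obtain ⟨g', hg'⟩ := htr (-(A * B').1.trace)
  rw [add_neg_cancel] at hg'
  have hz : (A * B).1.trace = 0 := (conj g').2 hg'
  rw [(h1.1 hz), zero_add] at hg
  exact one_ne_zero (hg ▸ (conj g).1 hz)

end Cfsg.Agent.S2272
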