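import Cfsg.Statements.S2277
import Cfsg.Agent.H52.FixedCover
import Cfsg.Agent.Coprime.Action

set_option autoImplicit false
set_option linter.style.haveILetI false
open Cfsg

namespace Cfsg.Agent.S2277

theorem sylow_centralized {G : Type*} [Group G] [Finite G] {p : ℕ} [Fact p.Prime] (hp : p ≠ 2) (P : Sylow p G)
    (C D : Set G) (hC : Subgroup.closure C = (P : Subgroup G)) (hD : Subgroup.closure D = (P : Subgroup G))
    (Q : Subgroup G) {q : ℕ} [Fact q.Prime] (hQ : IsPGroup q Q) (hQp : (Nat.card Q).Coprime p)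
    (hPQ : (P : Subgroup G) ≤ Subgroup.normalizer (Q : Set G))
    (h : ∀ x ∈ Q, ∀ c ∈ C, ∀ d ∈ D, IsPGroup p ↥(Subgroup.closure ({x * c * x⁻¹, d} : Set G))) :
    Q ≤ Subgroup.centralizer ((P : Subgroup G) : Set G) := by
  have hCP : ∀ c ∈ C, c ∈ (P : Subgroup G) := fun c hc => hC ▸ Subgroup.subset_closure hc
  have hDP : ∀ d ∈ D, d ∈ (P : Subgroup G) := fun d hd => hD ▸ Subgroup.subset_closure hd
  have hcopP : (Nat.card (P : Subgroup G)).Coprime (Nat.card Q) := by
    obtain ⟨k, hk⟩ := IsPGroup.iff_card.1 P.2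
    rw [hk]; exact Nat.Coprime.pow_left k hQp.symm
  have hmeet : (P : Subgroup G) ⊓ Q = ⊥ := by
    refine Subgroup.eq_bot_of_card_eq _ (Nat.eq_one_of_dvd_coprimes hcopP
      (Subgroup.card_dvd_of_le inf_le_left) (Subgroup.card_dvd_of_le inf_le_right))
  -- the covering property
  have key : ∀ x ∈ Q, ∀ c ∈ C, ∀ d ∈ D, ∃ y ∈ Q, ∃ u ∈ Q, Commute d y ∧ Commute c u ∧ x = y * u := by
    intro x hx c hc d hd
    set H : Subgroup G := (P : Subgroup G) ⊔ Q
    have hR : Subgroup.closure ({x * c * x⁻¹, d} : Set G) ≤ H := by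
      rw [Subgroup.closure_le]
      rintro y (rfl | rfl)
      · exact mul_mem (mul_mem (Subgroup.mem_sup_right hx) (Subgroup.mem_sup_left (hCP c hc)))
          (inv_mem (Subgroup.mem_sup_right hx))
      · exact Subgroup.mem_sup_left (hDP _ hd)
    have hRp : IsPGroup p ((Subgroup.closure ({x * c * x⁻¹, d} : Set G)).subgroupOf H) :=
      (h x hx c hc d hd).of_equiv (Subgroup.subgroupOfEquivOfLe hR).symm
    obtain ⟨S, hS⟩ := hRp.exists_le_sylow
    obtain ⟨k, hk⟩ := MulAction.exists_smul_eq H (P.subtype (le_sup_left : (P : Subgroup G) ≤ H)) S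
    obtain ⟨y, hy, a, ha, hya⟩ : ∃ y ∈ Q, ∃ a ∈ (P : Subgroup G), (k : G) = y * a := by
      have hmem : (k : G) ∈ Q ⊔ (P : Subgroup G) := by rw [sup_comm]; exact k.2
      obtain ⟨y, hy, a, ha, e⟩ := (Cfsg.Agent.Coprime.mem_sup_iff hPQ).mp hmem
      exact ⟨y, hy, a, ha, e.symm⟩
    have hin : ∀ r ∈ Subgroup.closure ({x * c * x⁻¹, d} : Set G), y⁻¹ * r * y ∈ (P : Subgroup G) := by
      intro r hr
      have h1 : (⟨r, hR hr⟩ : H) ∈ (S : Subgroup H) := hS hr
      rw [← hk] at h1
      obtain ⟨w, hw, hw'⟩ := h1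
      have h2 : (k : G) * (w : G) * (k : G)⁻¹ = r := congrArg Subtype.val hw'
      rw [show y⁻¹ * r * y = a * (w : G) * a⁻¹ by rw [← h2, hya]; group]
      exact mul_mem (mul_mem ha hw) (inv_mem ha)
    have hd' := hin d (Subgroup.subset_closure (by simp))
    have hc' := hin (x * c * x⁻¹) (Subgroup.subset_closure (by simp))
    have hcomm : ∀ u ∈ Q, ∀ g ∈ (P : Subgroup G), u * g * u⁻¹ ∈ (P : Subgroup G) → Commute g u := by
      intro u hu g hg hug
      have h1 : u * g * u⁻¹ * g⁻¹ ∈ Q := by
        rw [mul_assoc, mul_assoc, ← mul_assoc g]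
        exact mul_mem hu ((Subgroup.mem_normalizer_iff.1 (hPQ hg) _).1 (inv_mem hu))
      have h2 : u * g * u⁻¹ * g⁻¹ = 1 :=
        Subgroup.mem_bot.1 (hmeet ▸ Subgroup.mem_inf.2 ⟨mul_mem hug (inv_mem hg), h1⟩)
      rw [mul_inv_eq_one, mul_inv_eq_iff_eq_mul] at h2
      exact h2.symm
    refine ⟨y, hy, y⁻¹ * x, mul_mem (inv_mem hy) hx, ?_, hcomm _ (mul_mem (inv_mem hy) hx) c (hCP c hc) ?_, by group⟩
    · have := hcomm y⁻¹ (inv_mem hy) d (hDP d hd) (by rwa [inv_inv])
      simpa using this.inv_right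
    · rwa [show y⁻¹ * x * c * (y⁻¹ * x)⁻¹ = y⁻¹ * (x * c * x⁻¹) * y by group]
  -- the action on the abelianization
  haveI : Finite (Abelianization Q) := Quotient.finite _
  let conjQ : (P : Subgroup G) →* MulAut Q :=
    { toFun := fun a =>
        { toFun := fun x => ⟨(a : G) * x * (a : G)⁻¹, (Subgroup.mem_normalizer_iff.1 (hPQ a.2) _).1 x.2⟩
          invFun := fun x => ⟨(a : G)⁻¹ * x * (a : G), (Subgroup.mem_normalizer_iff''.1 (hPQ a.2) _).1 x.2⟩
          left_inv := fun x => Subtype.ext (by group)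
          right_inv := fun x => Subtype.ext (by group)
          map_mul' := fun x y => Subtype.ext (by simp) }
      map_one' := by ext x; simp
      map_mul' := fun a b => by ext x; simp [mul_assoc] }
  let f : (P : Subgroup G) →* MulAut (Abelianization Q) :=
    { toFun := fun a => (conjQ a).abelianizationCongr
      map_one' := by
        ext x
        induction x using QuotientGroup.induction_on with
        | H v => simp; rfl
      map_mul' := fun a b => by
        ext x
        induction x using QuotientGroup.induction_on with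
        | H v => simp; rfl }
  have hCtop : Subgroup.closure (((↑) : ↥(P : Subgroup G) → G) ⁻¹' C) = ⊤ := by
    refine Subgroup.map_injective (P : Subgroup G).subtype_injective ?_
    rw [MonoidHom.map_closure, ← MonoidHom.range_eq_map, Subgroup.range_subtype]
    have : ((P : Subgroup G).subtype '' (((↑) : ↥(P : Subgroup G) → G) ⁻¹' C)) = C := by
      ext c; simp; exact fun hc => hCP c hc
    rw [this, hC]
  have hDtop : Subgroup.closure (((↑) : ↥(P : Subgroup G) → G) ⁻¹' D) = ⊤ := by
    refine Subgroup.map_injective (P : Subgroup G).subtype_injective ?_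
    rw [MonoidHom.map_closure, ← MonoidHom.range_eq_map, Subgroup.range_subtype]
    have : ((P : Subgroup G).subtype '' (((↑) : ↥(P : Subgroup G) → G) ⁻¹' D)) = D := by
      ext c; simp; exact fun hc => hDP c hc
    rw [this, hD]
  have hf : f = 1 := Cfsg.Agent.H52.trivial_of_cover hp P.2 _ _ hCtop hDtop _ (Abelianization Q) le_rfl
    (Nat.Coprime.coprime_dvd_left (Subgroup.card_quotient_dvd_card _) hQp) f (by
      intro c hc d hd v
      induction v using QuotientGroup.induction_on with
      | H x =>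
        obtain ⟨y, hy, u, hu, hdy, hcu, hxyu⟩ := key x x.2 c hc d hd
        refine ⟨Abelianization.of ⟨u, hu⟩, Abelianization.of ⟨y, hy⟩, ?_, ?_, ?_⟩
        · change Abelianization.of (conjQ c ⟨u, hu⟩) = _
          congr 1
          exact Subtype.ext (mul_inv_eq_iff_eq_mul.2 hcu.eq)
        · change Abelianization.of (conjQ d ⟨y, hy⟩) = _
          congr 1
          exact Subtype.ext (mul_inv_eq_iff_eq_mul.2 hdy.eq)
        · rw [mul_comm, ← map_mul]
          exact congrArg Abelianization.of (Subtype.ext hxyu))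
  have hfix : ∀ (a : (P : Subgroup G)) (x : Q), (conjQ a x) * x⁻¹ ∈ commutator Q := by
    intro a x
    have h1 : Abelianization.of (conjQ a x) = Abelianization.of x :=
      DFunLike.congr_fun (DFunLike.congr_fun hf a) (Abelianization.of x)
    rw [← QuotientGroup.eq_one_iff]
    change Abelianization.of (conjQ a x * x⁻¹) = 1
    rw [map_mul, map_inv, h1, mul_inv_cancel]
  set K : Subgroup G := (commutator Q).map Q.subtype
  have hKQ : K ≤ Q := Subgroup.map_subtype_le _
  have hK : K = ⁅Q, Q⁆ := Subgroup.map_subtype_commutator Q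
  have hnormK : ∀ g ∈ Subgroup.normalizer (Q : Set G), g ∈ Subgroup.normalizer (K : Set G) := by
    intro g hg
    refine Cfsg.Agent.Coprime.mem_normalizer_of_map_conj ?_
    rw [hK, Subgroup.map_commutator, Cfsg.Agent.Coprime.map_conj_eq hg]
  have hsolv : Group.IsSolvable (P : Subgroup G) ∨ Group.IsSolvable Q :=
    Or.inr (by haveI := hQ.isNilpotent; infer_instance)
  have hsup : Q ≤ (Q ⊓ Subgroup.centralizer ((P : Subgroup G) : Set G)) ⊔ K := by
    intro x hx
    refine (Cfsg.Agent.Coprime.centralizer_sup_eq hPQ hcopP hsolv hKQ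
      (fun g hg => hnormK g (Subgroup.le_normalizer hg)) (fun g hg => hnormK g (hPQ hg)) hx).1 fun a ha => ?_
    exact ⟨_, hfix ⟨a, ha⟩ ⟨x, hx⟩, rfl⟩
  have htop : ((Q ⊓ Subgroup.centralizer ((P : Subgroup G) : Set G)).subgroupOf Q) ⊔ frattini Q = ⊤ := by
    refine eq_top_iff.2 (le_trans ?_ (sup_le_sup_left (Cfsg.Agent.PGroups.commutator_le_frattini hQ) _))
    have h1 : Q.subgroupOf Q ≤ ((Q ⊓ Subgroup.centralizer ((P : Subgroup G) : Set G)) ⊔ K).subgroupOf Q :=
      fun x hx => hsup hx
    rw [Subgroup.subgroupOf_self, Subgroup.subgroupOf_sup inf_le_left hKQ] at h1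
    have h2 : K.subgroupOf Q = commutator Q := Subgroup.comap_map_eq_self_of_injective Q.subtype_injective _
    rwa [h2] at h1
  have h3 := frattini_nongenerating htop
  intro x hx
  exact ((Subgroup.subgroupOf_eq_top.1 h3) hx).2


/-- Let p ≥ 3 be prime and G a finite group with a Sylow p-subgroup P and a normal p-complement N (N normal, of order prime to p, with NP = G). Suppose P is generated by a subset C and also by a subset D, and that ⟨x c x⁻¹, d⟩ is a p-group for all x ∈ N, c ∈ C, d ∈ D. Then P centralizes N, so that G = N × P. -/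
theorem result {G : Type*} [Group G] [Finite G] (p : ℕ) [Fact p.Prime] (hp3 : 3 ≤ p) (P : Sylow p G)
    (N : Subgroup G) [N.Normal] (hN : (Nat.card N).Coprime p) (hNP : N ⊔ (P : Subgroup G) = ⊤)
    (C D : Set G) (hC : Subgroup.closure C = (P : Subgroup G)) (hD : Subgroup.closure D = (P : Subgroup G))
    (h : ∀ x ∈ N, ∀ c ∈ C, ∀ d ∈ D, IsPGroup p ↥(Subgroup.closure ({x * c * x⁻¹, d} : Set G))) :
    ⁅(P : Subgroup G), N⁆ = ⊥ := by
  have hp : p ≠ 2 := by omega
  have hPN : (P : Subgroup G) ≤ Subgroup.normalizer (N : Set G) := by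
    rw [Subgroup.normalizer_eq_top]; exact le_top
  have hcop : (Nat.card (P : Subgroup G)).Coprime (Nat.card N) := by
    obtain ⟨k, hk⟩ := IsPGroup.iff_card.1 P.2
    rw [hk]; exact Nat.Coprime.pow_left k hN.symm
  rw [Subgroup.commutator_eq_bot_iff_le_centralizer]
  have hle : N ≤ Subgroup.centralizer ((P : Subgroup G) : Set G) := by
    have hdvd : Nat.card N ∣ Nat.card (N ⊓ Subgroup.centralizer ((P : Subgroup G) : Set G) : Subgroup G) := by
      refine Nat.dvd_iff_prime_pow_dvd_dvd _ _ |>.mpr fun q k hq hqk => ?_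
      haveI := Fact.mk hq
      obtain ⟨S, hS⟩ := Cfsg.Agent.Coprime.exists_invariant_sylow hPN hcop (Or.inl (by haveI := P.2.isNilpotent; infer_instance)) q
      set Q : Subgroup G := (S : Subgroup N).map N.subtype
      have hQN : Q ≤ N := Subgroup.map_subtype_le _
      have hQc := sylow_centralized hp P C D hC hD Q (S.2.map _)
        (Nat.Coprime.coprime_dvd_left (Subgroup.card_dvd_of_le hQN) hN) hS
        (fun x hx => h x (hQN hx))
      refine dvd_trans ?_ (Subgroup.card_dvd_of_le (le_inf hQN hQc))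
      rw [Subgroup.card_map_of_injective N.subtype_injective]
      exact S.pow_dvd_card_of_pow_dvd_card hqk
    have heq := Subgroup.eq_of_le_of_card_ge (inf_le_left : N ⊓ Subgroup.centralizer ((P : Subgroup G) : Set G) ≤ N)
      (Nat.le_of_dvd Nat.card_pos hdvd)
    exact heq ▸ inf_le_right
  exact Subgroup.le_centralizer_iff.1 hle

end Cfsg.Agent.S2277
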