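import Cfsg.Statements.S2286
import Cfsg.Agent.H99.ShortPresModel
import Cfsg.Agent.Linear.TwoSL

set_option autoImplicit false
open Cfsg

namespace Cfsg.Agent.S2286

open Cfsg.Agent.H99.ShortPres

/-- For every finite field F, SL_2(F) and PSL_2(F) have presentations with 3 generators and at most 9 relations; when F has characteristic 2, PSL_2(F) has a presentation with 3 generators and at most 5 relations. -/
theorem result {F : Type*} [Field F] [Fintype F] :
    (∃ rels : Finset (FreeGroup (Fin 3)), rels.card ≤ 9 ∧ Nonempty (PresentedGroup (↑rels : Set (FreeGroup (Fin 3))) ≃* Matrix.SpecialLinearGroup (Fin 2) F)) ∧ (∃ rels : Finset (FreeGroup (Fin 3)), rels.card ≤ 9 ∧ Nonempty (PresentedGroup (↑rels : Set (FreeGroup (Fin 3))) ≃* Matrix.ProjectiveSpecialLinearGroup (Fin 2) F)) ∧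
    (CharP F 2 → ∃ rels : Finset (FreeGroup (Fin 3)), rels.card ≤ 5 ∧ Nonempty (PresentedGroup (↑rels : Set (FreeGroup (Fin 3))) ≃* Matrix.ProjectiveSpecialLinearGroup (Fin 2) F)) := by
  obtain ⟨h1, -⟩ := exists_pres (MonoidHom.id (Matrix.SpecialLinearGroup (Fin 2) F))
    Function.surjective_id (Or.inl Cfsg.Agent.Linear.card_SL_two)
  have hc := Cfsg.Agent.Linear.card_PSL_two_mul (F := F)
  have h2 := exists_pres
    (T := Matrix.ProjectiveSpecialLinearGroup (Fin 2) F)
    (QuotientGroup.mk' (Subgroup.center (Matrix.SpecialLinearGroup (Fin 2) F)))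
    (QuotientGroup.mk'_surjective _) ?_
  · exact ⟨h1, h2⟩
  · rcases Nat.even_or_odd (Fintype.card F) with he | ho
    · left
      have hg : Nat.gcd 2 (Fintype.card F - 1) = 1 := by
        refine (Nat.Prime.coprime_iff_not_dvd Nat.prime_two).mpr ?_
        have := Fintype.one_lt_card (α := F)
        obtain ⟨c, hc⟩ := he
        omega
      rwa [hg, one_mul] at hc
    · right
      refine ⟨?_, ?_, ho⟩
      · refine (QuotientGroup.eq_one_iff _).mpr ?_
        rw [Cfsg.Agent.Linear.mem_center_SL_two]
        right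
        rw [wm_sq]
        apply Subtype.ext
        ext i j
        fin_cases i <;> fin_cases j <;> simp [dg]
      · have hg : Nat.gcd 2 (Fintype.card F - 1) = 2 := by
          refine Nat.gcd_eq_left ?_
          obtain ⟨c, hc⟩ := ho
          omega
        rwa [hg] at hc

end Cfsg.Agent.S2286
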