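import Cfsg.Statements.S2288
import Cfsg.Agent.H68.ShortSL.Main

set_option autoImplicit false
open Cfsg

namespace Cfsg.Agent.S2288

/-- For every finite field F and n ≥ 4: SL_n(F) has a presentation with 7 generators and at most 25 relations, and PSL_n(F) one with 7 generators and at most 26 relations; moreover SL_4(F) has one with 6 generators and at most 21 relations and SL_5(F) one with 6 generators and at most 22 relations. -/
theorem result {F : Type*} [Field F] [Fintype F] (n : ℕ) (hn : 4 ≤ n) :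
    (∃ rels : Finset (FreeGroup (Fin 7)), rels.card ≤ 25 ∧ Nonempty (PresentedGroup (↑rels : Set (FreeGroup (Fin 7))) ≃* Matrix.SpecialLinearGroup (Fin n) F)) ∧ (∃ rels : Finset (FreeGroup (Fin 7)), rels.card ≤ 26 ∧ Nonempty (PresentedGroup (↑rels : Set (FreeGroup (Fin 7))) ≃* Matrix.ProjectiveSpecialLinearGroup (Fin n) F)) ∧
    (∃ rels : Finset (FreeGroup (Fin 6)), rels.card ≤ 21 ∧ Nonempty (PresentedGroup (↑rels : Set (FreeGroup (Fin 6))) ≃* Matrix.SpecialLinearGroup (Fin 4) F)) ∧ (∃ rels : Finset (FreeGroup (Fin 6)), rels.card ≤ 22 ∧ Nonempty (PresentedGroup (↑rels : Set (FreeGroup (Fin 6))) ≃* Matrix.SpecialLinearGroup (Fin 5) F)) := by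
  classical
  obtain ⟨m, rfl⟩ : ∃ m, n = m + 2 := ⟨n - 2, by omega⟩
  have hSL : H99.BoundedPres.HasPres (Matrix.SpecialLinearGroup (Fin (m + 2)) F) 7 25 :=
    H68.SpPres.hasPres_pads (H68.ShortSL.hasPres_SL (F := F) hn) 2
  have hPSL : H99.BoundedPres.HasPres (Matrix.ProjectiveSpecialLinearGroup (Fin (m + 2)) F) 7 26 := by
    set Z := Subgroup.center (Matrix.SpecialLinearGroup (Fin (m + 2)) F) with hZ
    have : IsCyclic Z :=
      isCyclic_of_surjective (Matrix.SpecialLinearGroup.center_equiv_rootsOfUnity).symm.toMonoidHom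
        (MulEquiv.surjective _)
    obtain ⟨z, hz⟩ := IsCyclic.exists_generator (α := Z)
    have hz' : Z = Subgroup.zpowers (z : Matrix.SpecialLinearGroup (Fin (m + 2)) F) := by
      refine le_antisymm (fun y hy => ?_) (Subgroup.zpowers_le.mpr z.2)
      obtain ⟨i, hi⟩ := Subgroup.mem_zpowers_iff.mp (hz ⟨y, hy⟩)
      exact Subgroup.mem_zpowers_iff.mpr ⟨i, congrArg Subtype.val hi⟩
    exact hSL.quotient Z hz'
  exact ⟨hSL.toPresentation, hPSL.toPresentation,
    (H68.SpPres.hasPres_pads (H68.ShortSL.hasPres_four (F := F)) 1).toPresentation,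
    (H68.SpPres.hasPres_pads (H68.ShortSL.hasPres_five (F := F)) 1).toPresentation⟩

end Cfsg.Agent.S2288
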