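import Cfsg.Statements.S2290
import Cfsg.Agent.H99.SLBounded
import Cfsg.Agent.S2286
import Cfsg.Agent.H54.TwoGenSL
-- import your own Cfsg.Agent.* helpers here

set_option autoImplicit false
open Cfsg

namespace Cfsg.Agent.S2290

open Cfsg.Agent.H99.BoundedPres

/-- Two elements generating `SL_{m+2}`. -/
theorem exists_two_gens {K : Type*} [Field K] [Fintype K] (m : ℕ) :
    ∃ a b : Matrix.SpecialLinearGroup (Fin (m + 2)) K, Subgroup.closure {a, b} = ⊤ := by
  classical
  let x : Matrix.SpecialLinearGroup (Fin (m + 2)) K :=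
    Matrix.SpecialLinearGroup.transvection (show (0 : Fin (m + 2)) ≠ 1 by simp) 1
  let eps : Fin (m + 2) → K := fun a => if a.val = m + 1 then (-1) ^ (m + 1) else 1
  have heps : ∏ a, eps a = (-1) ^ (m + 1) := by
    rw [Finset.prod_eq_single (Fin.last (m + 1))]
    · simp [eps]
    · intro a _ ha
      have : a.val ≠ m + 1 := fun e => ha (Fin.ext e)
      simp [eps, this]
    · simp
  let w : Matrix.SpecialLinearGroup (Fin (m + 2)) K :=
    ⟨Matrix.diagonal eps * (finRotate (m + 2)).permMatrix K, by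
      rw [Matrix.det_mul, Matrix.det_diagonal, Matrix.det_permutation, sign_finRotate, heps]
      simp [← mul_pow]⟩
  have hw : (w : Matrix (Fin (m + 2)) (Fin (m + 2)) K) = Matrix.of (fun i j =>
      if j.val = i.val + 1 then 1 else if i.val = m + 1 ∧ j.val = 0 then (-1) ^ (m + 1) else 0) := by
    show Matrix.diagonal eps * (finRotate (m + 2)).toPEquiv.toMatrix = _
    ext i j
    rw [Matrix.diagonal_mul, Matrix.of_apply, PEquiv.toMatrix_apply]
    simp only [Equiv.toPEquiv_apply, Option.mem_def, Option.some.injEq, eps, Fin.ext_iff,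
      coe_finRotate, Fin.val_last]
    have := i.isLt
    have := j.isLt
    split_ifs <;> first | omega | ring
  have hx : (x : Matrix (Fin (m + 2)) (Fin (m + 2)) K)
      = Matrix.transvection (0 : Fin (m + 2)) (1 : Fin (m + 2)) 1 := rfl
  rcases Nat.lt_or_ge 3 (Fintype.card K) with hK | hK
  · obtain ⟨k, hk⟩ := IsCyclic.exists_generator (α := Kˣ)
    let h : Matrix.SpecialLinearGroup (Fin (m + 2)) K :=
      ⟨Matrix.diagonal (fun i : Fin (m + 2) =>
          if i.val = 0 then (k : K) else if i.val = 1 then ((k⁻¹ : Kˣ) : K) else 1), by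
        rw [Matrix.det_diagonal, Fin.prod_univ_succ, Fin.prod_univ_succ]
        simp⟩
    exact ⟨h, x * w, H54.TwoGen.closure_eq_top hw hK (by omega) hk rfl hx⟩
  · exact ⟨x, w, H54.TwoGen.closure_eq_top_of_small hw hK (by omega) hx⟩

/-- For every finite field F with q elements and n ≥ 2, with q ≥ 4 when n = 2, the simple group PSL_n(F) has a presentation with 2 generators and at most 80 relations. -/
theorem result {F : Type*} [Field F] [Fintype F] (n : ℕ) (hn : 2 ≤ n) (h2 : n = 2 → 4 ≤ Fintype.card F) :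
    ∃ rels : Finset (FreeGroup (Fin 2)), rels.card ≤ 80 ∧ Nonempty (PresentedGroup (↑rels : Set (FreeGroup (Fin 2))) ≃* Matrix.ProjectiveSpecialLinearGroup (Fin n) F) := by
  classical
  haveI := Fact.mk Nat.prime_two
  obtain ⟨m, rfl⟩ : ∃ m, n = m + 2 := ⟨n - 2, by omega⟩
  obtain ⟨a, b, hab⟩ := exists_two_gens (K := F) m
  set Z := Subgroup.center (Matrix.SpecialLinearGroup (Fin (m + 2)) F) with hZ
  have hab' : Subgroup.closure ({QuotientGroup.mk' Z a, QuotientGroup.mk' Z b} : Set _) = ⊤ := by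
    have h := congrArg (Subgroup.map (QuotientGroup.mk' Z)) hab
    rwa [MonoidHom.map_closure, Set.image_pair,
      Subgroup.map_top_of_surjective _ (QuotientGroup.mk'_surjective Z)] at h
  suffices h : ∃ k, HasPres (Matrix.ProjectiveSpecialLinearGroup (Fin (m + 2)) F) k 78 by
    obtain ⟨k, h⟩ := h
    exact (h.two hab').toPresentation
  rcases m with _ | m
  · obtain ⟨-, ⟨rels, hc, ⟨e⟩⟩, -⟩ := S2286.result (F := F)
    exact ⟨3, (HasPres.of_presentation hc e).mono (by norm_num)⟩
  haveI : IsCyclic Z :=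
    isCyclic_of_surjective (Matrix.SpecialLinearGroup.center_equiv_rootsOfUnity).symm.toMonoidHom
      (MulEquiv.surjective _)
  obtain ⟨z, hz⟩ := IsCyclic.exists_generator (α := Z)
  have hz' : Z = Subgroup.zpowers (z : Matrix.SpecialLinearGroup (Fin (m + 1 + 2)) F) := by
    refine le_antisymm (fun y hy => ?_) (Subgroup.zpowers_le.mpr z.2)
    obtain ⟨i, hi⟩ := Subgroup.mem_zpowers_iff.mp (hz ⟨y, hy⟩)
    exact Subgroup.mem_zpowers_iff.mpr ⟨i, congrArg Subtype.val hi⟩
  suffices h : ∃ k, HasPres (Matrix.SpecialLinearGroup (Fin (m + 1 + 2)) F) k 77 by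
    obtain ⟨k, h⟩ := h
    exact ⟨k, h.quotient Z hz'⟩
  rcases m with _ | m
  · obtain ⟨rels, hc, ⟨e⟩⟩ := H99.SLThree.exists_pres_three (F := F)
    exact ⟨4, (HasPres.of_presentation hc e).mono (by norm_num)⟩
  obtain ⟨k, h⟩ := hasPres_SL_four_add (F := F) m
  exact ⟨k, h.mono (by norm_num)⟩

end Cfsg.Agent.S2290
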