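import Cfsg.Statements.S2291
import Cfsg.Agent.H68.ShortUn.Main
import Cfsg.Agent.H68.ShortSU.Main
import Cfsg.Agent.H68.ShortSU.SmallPres
import Cfsg.Agent.H55.SUTwoGen
-- import your own Cfsg.Agent.* helpers here

set_option autoImplicit false
open Cfsg

namespace Cfsg.Agent.S2291

/-- Let F be a field with q² elements and n ≥ 3 with (n, q) ≠ (3, 2). Then the simple group PSU_n(q) (for the standard Hermitian form) has a presentation with 2 generators and at most 80 relations. -/
theorem result {F : Type*} [Field F] [Fintype F] (q n : ℕ) (hF : Fintype.card F = q ^ 2) (hn : 3 ≤ n) (h32 : ¬ (n = 3 ∧ q = 2)) :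
    ∃ rels : Finset (FreeGroup (Fin 2)), rels.card ≤ 80 ∧ Nonempty (PresentedGroup (↑rels : Set (FreeGroup (Fin 2))) ≃* Cfsg.PSU n F q) := by
  obtain ⟨a, b, hab⟩ := H55.SUTwoGen.psu_two (n := n) hF hn (fun h h' => h32 ⟨h, h'⟩)
  suffices h : ∃ k l, l ≤ 78 ∧ H99.BoundedPres.HasPres (Cfsg.PSU n F q) k l by
    obtain ⟨k, l, hl, h⟩ := h
    exact ((h.two hab).mono (by omega)).toPresentation
  rcases Nat.lt_or_ge n 4 with hn4 | hn4
  · obtain rfl : n = 3 := by omega
    have h2 : q ≠ 2 := fun h => h32 ⟨rfl, h⟩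
    by_cases h35 : q = 3 ∨ q = 5
    · obtain ⟨u, w, f, hfr⟩ := H52.SUThree.exists_frame hF
      obtain ⟨P⟩ := H68.ShortSU.exists_prim hF
      obtain ⟨x, h, t, β, Γ⟩ := H68.ShortSU.exists_gens hF hfr P
      have hp : q.Prime := by rcases h35 with rfl | rfl <;> norm_num
      refine ⟨_, _, ?_, H68.ShortUn.hasPres_psu hF (by omega)
        (H68.ShortSU.hasPres_su_three_prime hF hfr Γ hp h2)⟩
      rcases h35 with rfl | rfl <;> norm_num
    · push Not at h35
      exact ⟨_, _, by norm_num, H68.ShortUn.hasPres_psu hF (by omega)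
        (H68.ShortSU.hasPres_su_three hF h2 h35.1 h35.2)⟩
  · exact ⟨_, _, by norm_num, H68.ShortUn.hasPres_psu hF (by omega) (H68.ShortUn.hasPres_su hF hn4)⟩

end Cfsg.Agent.S2291
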