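import Cfsg.Statements.S2295
import Cfsg.Agent.H68.ShortPlus.Main

set_option autoImplicit false
open Cfsg

namespace Cfsg.Agent.S2295

/-- Let F be a finite field and n ≥ 4, and let Ω⁺_2n(F) be the commutator subgroup of the orthogonal group of the hyperbolic quadratic form Σ x_i y_i, with PΩ⁺_2n(F) its central quotient. Then Ω⁺_2n(F) has a presentation with 8 generators and at most 31 relations (at most 29 if n = 4 or 5), and PΩ⁺_2n(F) one with 8 generators and at most 32 relations (at most 30 if n = 4 or 5). -/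
theorem result {F : Type*} [Field F] [Fintype F] (n : ℕ) (hn : 4 ≤ n) :
    (∃ rels : Finset (FreeGroup (Fin 8)), rels.card ≤ 31 ∧ Nonempty (PresentedGroup (↑rels : Set (FreeGroup (Fin 8))) ≃* ↥(Cfsg.Omega F (Cfsg.quadFormPlus n F)))) ∧ (∃ rels : Finset (FreeGroup (Fin 8)), rels.card ≤ 32 ∧ Nonempty (PresentedGroup (↑rels : Set (FreeGroup (Fin 8))) ≃* Cfsg.POmega F (Cfsg.quadFormPlus n F))) ∧
    (n ≤ 5 → (∃ rels : Finset (FreeGroup (Fin 8)), rels.card ≤ 29 ∧ Nonempty (PresentedGroup (↑rels : Set (FreeGroup (Fin 8))) ≃* ↥(Cfsg.Omega F (Cfsg.quadFormPlus n F)))) ∧ (∃ rels : Finset (FreeGroup (Fin 8)), rels.card ≤ 30 ∧ Nonempty (PresentedGroup (↑rels : Set (FreeGroup (Fin 8))) ≃* Cfsg.POmega F (Cfsg.quadFormPlus n F)))) := by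
  classical
  obtain ⟨hbig, hsmall⟩ := H68.ShortPlus.hasPres_omega (F := F) hn
  obtain ⟨z, hz⟩ := H68.ShortPlus.center_cyclic (F := F) hn
  have h8 : H99.BoundedPres.HasPres (Cfsg.Omega F (Cfsg.quadFormPlus n F)) 8 31 :=
    H68.SpPres.hasPres_pads hbig 2
  exact ⟨h8.toPresentation, (h8.quotient _ hz).toPresentation, fun h5 =>
    have h' : H99.BoundedPres.HasPres (Cfsg.Omega F (Cfsg.quadFormPlus n F)) 8 29 :=
      H68.SpPres.hasPres_pads (hsmall h5) 2
    ⟨h'.toPresentation, (h'.quotient _ hz).toPresentation⟩⟩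

end Cfsg.Agent.S2295
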