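import Cfsg.Statements.S2300
import Cfsg.Agent.H53.SLApp

set_option autoImplicit false
open Cfsg

namespace Cfsg.Agent.S2300

/-- Over a finite field F with q elements, q even, every irreducible complex character of SL₂ has degree 1, q − 1, q or q + 1; and when q ≥ 4 (so that these four numbers are distinct) there are exactly one irreducible character of degree 1, one of degree q, (q − 2)/2 of degree q + 1 and q/2 of degree q − 1. -/
theorem result {F : Type*} [Field F] [Fintype F] [CharP F 2] :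
    (∀ χ : Matrix.SpecialLinearGroup (Fin 2) F → ℂ, Cfsg.IsIrrCharacter (Matrix.SpecialLinearGroup (Fin 2) F) χ →
      χ 1 = 1 ∨ χ 1 = (Fintype.card F : ℂ) - 1 ∨ χ 1 = (Fintype.card F : ℂ) ∨ χ 1 = (Fintype.card F : ℂ) + 1) ∧
    (4 ≤ Fintype.card F →
      Nat.card {χ : Cfsg.IrrCharacter (Matrix.SpecialLinearGroup (Fin 2) F) // (χ : Matrix.SpecialLinearGroup (Fin 2) F → ℂ) 1 = 1} = 1 ∧
      Nat.card {χ : Cfsg.IrrCharacter (Matrix.SpecialLinearGroup (Fin 2) F) // (χ : Matrix.SpecialLinearGroup (Fin 2) F → ℂ) 1 = (Fintype.card F : ℂ)} = 1 ∧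
      Nat.card {χ : Cfsg.IrrCharacter (Matrix.SpecialLinearGroup (Fin 2) F) // (χ : Matrix.SpecialLinearGroup (Fin 2) F → ℂ) 1 = (Fintype.card F : ℂ) + 1} = (Fintype.card F - 2) / 2 ∧
      Nat.card {χ : Cfsg.IrrCharacter (Matrix.SpecialLinearGroup (Fin 2) F) // (χ : Matrix.SpecialLinearGroup (Fin 2) F → ℂ) 1 = (Fintype.card F : ℂ) - 1} = Fintype.card F / 2) := by
  classical
  have h2 : (2 : F) = 0 := CharTwo.two_eq_zero
  refine ⟨fun χ hχ => ?_, fun h4 => ?_⟩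
  · rcases H53.sl_cases_even h2 hχ with ⟨-, e⟩ | ⟨-, e⟩ | ⟨-, e⟩ | ⟨-, e⟩
    · exact Or.inl e
    · exact Or.inr (Or.inr (Or.inl e))
    · exact Or.inr (Or.inr (Or.inr e))
    · exact Or.inr (Or.inl e)
  obtain ⟨k1, k2⟩ := H53.card_cusp_even (F := F) h2
  let one' : Cfsg.IrrCharacter (Matrix.SpecialLinearGroup (Fin 2) F) :=
    ⟨_, CharBasic.isIrrCharacter_one⟩
  let st' : Cfsg.IrrCharacter (Matrix.SpecialLinearGroup (Fin 2) F) := ⟨_, H53.isIrrCharacter_stS⟩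
  have single : ∀ (a : Cfsg.IrrCharacter (Matrix.SpecialLinearGroup (Fin 2) F)) (x : ℂ),
      (∀ χ : Cfsg.IrrCharacter (Matrix.SpecialLinearGroup (Fin 2) F),
        (χ : Matrix.SpecialLinearGroup (Fin 2) F → ℂ) 1 = x ↔ χ = a) →
      Nat.card {χ : Cfsg.IrrCharacter (Matrix.SpecialLinearGroup (Fin 2) F) //
        (χ : Matrix.SpecialLinearGroup (Fin 2) F → ℂ) 1 = x} = 1 := fun a x h => by
    rw [Nat.card_congr (Equiv.subtypeEquivRight h), Nat.card_eq_fintype_card,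
      Fintype.card_subtype_eq]
  refine ⟨single one' 1 ?_, single st' _ ?_, ?_, ?_⟩
  · intro χ
    refine ⟨fun e => Subtype.ext ?_, fun e => by rw [e]⟩
    obtain ⟨d, hd, hc⟩ := H53.sl_cases_even_nat h2 χ.2
    have : d = 1 := Nat.cast_injective (R := ℂ) (by rw [← hd, e, Nat.cast_one])
    rcases hc with ⟨h, -⟩ | ⟨-, e'⟩ | ⟨-, e'⟩ | ⟨-, e'⟩ <;> first | omega | exact h
  · intro χ
    exact ⟨fun e => Subtype.ext (H53.eq_stS_of_degree χ.2 e), fun e => by
      rw [e]; exact H53.stS_one⟩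
  · have h' : Nat.card {χ : Cfsg.IrrCharacter (Matrix.SpecialLinearGroup (Fin 2) F) //
        (χ : Matrix.SpecialLinearGroup (Fin 2) F → ℂ) 1 = (Fintype.card F : ℂ) + 1} =
      Nat.card {χ : Cfsg.IrrCharacter (Matrix.SpecialLinearGroup (Fin 2) F) //
        ∃ α : MulChar F ℂ, α ^ 2 ≠ 1 ∧
          (χ : Matrix.SpecialLinearGroup (Fin 2) F → ℂ) = H53.sprin α} := by
      refine Nat.card_congr (Equiv.subtypeEquivRight fun χ => ⟨fun e => ?_,
        fun ⟨α, _, h⟩ => by rw [h, H53.sprin_one]⟩)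
      obtain ⟨d, hd, hc⟩ := H53.sl_cases_even_nat h2 χ.2
      have := H53.degree_add_one hd e
      rcases hc with ⟨-, e'⟩ | ⟨-, e'⟩ | ⟨h, -⟩ | ⟨-, e'⟩ <;> first | omega | exact h
    omega
  · have h' : Nat.card {χ : Cfsg.IrrCharacter (Matrix.SpecialLinearGroup (Fin 2) F) //
        (χ : Matrix.SpecialLinearGroup (Fin 2) F → ℂ) 1 = (Fintype.card F : ℂ) - 1} =
      Nat.card {χ : Cfsg.IrrCharacter (Matrix.SpecialLinearGroup (Fin 2) F) //
        H53.IsCuspS (χ : Matrix.SpecialLinearGroup (Fin 2) F → ℂ)} := by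
      refine Nat.card_congr (Equiv.subtypeEquivRight fun χ => ⟨fun e => ?_,
        fun h => (h.even_case χ.2 h2).1⟩)
      obtain ⟨d, hd, hc⟩ := H53.sl_cases_even_nat h2 χ.2
      have := H53.degree_sub_one hd e
      rcases hc with ⟨-, e'⟩ | ⟨-, e'⟩ | ⟨-, e'⟩ | ⟨h, -⟩ <;> first | omega | exact h
    omega

end Cfsg.Agent.S2300
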