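import Cfsg.Statements.S2301
import Cfsg.Agent.Linear.TwoClasses
-- import your own Cfsg.Agent.* helpers here

set_option autoImplicit false
open Cfsg

namespace Cfsg.Agent.S2301

/-- Over a finite field with q elements of odd characteristic p, the elements of order p of SL₂ (the non-identity unipotent elements) fall into exactly two conjugacy classes, each of size (q² − 1)/2; two upper unitriangular matrices with non-zero off-diagonal entries b and b′ are conjugate exactly when bb′ is a square. -/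
theorem result {F : Type*} [Field F] [Fintype F] (p : ℕ) [Fact p.Prime] [CharP F p] (hp : p ≠ 2) :
    Nat.card {C : ConjClasses (Matrix.SpecialLinearGroup (Fin 2) F) // ∃ g : Matrix.SpecialLinearGroup (Fin 2) F, orderOf g = p ∧ ConjClasses.mk g = C} = 2 ∧
    (∀ g : Matrix.SpecialLinearGroup (Fin 2) F, orderOf g = p → Nat.card (ConjClasses.mk g).carrier = (Fintype.card F ^ 2 - 1) / 2) ∧
    ∀ g h : Matrix.SpecialLinearGroup (Fin 2) F, (g : Matrix (Fin 2) (Fin 2) F) 0 0 = 1 → (g : Matrix (Fin 2) (Fin 2) F) 1 1 = 1 → (g : Matrix (Fin 2) (Fin 2) F) 1 0 = 0 → (g : Matrix (Fin 2) (Fin 2) F) 0 1 ≠ 0 →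
      (h : Matrix (Fin 2) (Fin 2) F) 0 0 = 1 → (h : Matrix (Fin 2) (Fin 2) F) 1 1 = 1 → (h : Matrix (Fin 2) (Fin 2) F) 1 0 = 0 → (h : Matrix (Fin 2) (Fin 2) F) 0 1 ≠ 0 →
      (IsConj g h ↔ IsSquare ((g : Matrix (Fin 2) (Fin 2) F) 0 1 * (h : Matrix (Fin 2) (Fin 2) F) 0 1)) := by
  have h2 : (2 : F) ≠ 0 := Ring.two_ne_zero (by rw [ringChar.eq F p]; exact hp)
  have hord : ∀ g : Matrix.SpecialLinearGroup (Fin 2) F, orderOf g = p →
      ∃ b : F, b ≠ 0 ∧ IsConj (Cfsg.Agent.Linear.upSL b) g := fun g hg =>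
    Cfsg.Agent.Linear.exists_conj_upSL (Cfsg.Agent.Linear.not_scalar_of_orderOf_eq_char p hg)
      ((Cfsg.Agent.Linear.orderOf_eq_char_iff p).mp hg).2
  have hup : ∀ b : F, b ≠ 0 → orderOf (Cfsg.Agent.Linear.upSL b) = p := fun b hb =>
    Cfsg.Agent.Linear.orderOf_eq_char_of_trace p
      (fun e => Cfsg.Agent.Linear.not_isScalarTwo_upSL hb
        (Cfsg.Agent.Linear.isScalarTwo_SL_iff.mpr (Or.inl e)))
      (Cfsg.Agent.Linear.trace_upSL b)
  obtain ⟨ν, hν⟩ := FiniteField.exists_nonsquare (F := F) (by rw [ringChar.eq F p]; exact hp)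
  have hν0 : ν ≠ 0 := fun h => hν (h ▸ IsSquare.zero)
  refine ⟨?_, fun g hg => ?_, ?_⟩
  · rw [Nat.card_eq_two_iff]
    refine ⟨⟨ConjClasses.mk (Cfsg.Agent.Linear.upSL 1), _, hup 1 one_ne_zero, rfl⟩,
      ⟨ConjClasses.mk (Cfsg.Agent.Linear.upSL ν), _, hup ν hν0, rfl⟩, fun e => ?_, ?_⟩
    · have hc := ConjClasses.mk_eq_mk_iff_isConj.mp (congrArg Subtype.val e)
      have hsq := (Cfsg.Agent.Linear.isConj_upSL_iff_isSquare one_ne_zero hν0).mp hc
      exact hν (by simpa using hsq)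
    · ext ⟨C, g, hg, hC⟩
      simp only [Set.mem_insert_iff, Set.mem_singleton_iff, Subtype.mk.injEq, Set.mem_univ, iff_true]
      subst hC
      obtain ⟨b, hb, hbg⟩ := hord g hg
      rw [ConjClasses.mk_eq_mk_iff_isConj, ConjClasses.mk_eq_mk_iff_isConj]
      by_cases hsq : IsSquare b
      · exact Or.inl (hbg.symm.trans ((Cfsg.Agent.Linear.isConj_upSL_iff_isSquare hb one_ne_zero).mpr
          (by simpa using hsq)))
      · exact Or.inr (hbg.symm.trans ((Cfsg.Agent.Linear.isConj_upSL_iff_isSquare hb hν0).mpr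
          (Cfsg.Agent.Linear.isSquare_mul_of_not_isSquare hb hν0 hsq hν)))
  · have h := Cfsg.Agent.Linear.carrier_unipotent
      (Cfsg.Agent.Linear.not_scalar_of_orderOf_eq_char p hg)
      ((Cfsg.Agent.Linear.orderOf_eq_char_iff p).mp hg).2
    rw [Cfsg.Agent.Linear.card_sq_eq_one_of_two_ne_zero h2] at h
    omega
  · intro g h g00 g11 g10 g01 h00 h11 h10 h01
    have eg : g = Cfsg.Agent.Linear.upSL ((g : Matrix (Fin 2) (Fin 2) F) 0 1) :=
      Cfsg.Agent.Linear.SL_ext_two (by simp [Cfsg.Agent.Linear.upSL_coe, g00])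
        (by simp [Cfsg.Agent.Linear.upSL_coe]) (by simp [Cfsg.Agent.Linear.upSL_coe, g10])
        (by simp [Cfsg.Agent.Linear.upSL_coe, g11])
    have eh : h = Cfsg.Agent.Linear.upSL ((h : Matrix (Fin 2) (Fin 2) F) 0 1) :=
      Cfsg.Agent.Linear.SL_ext_two (by simp [Cfsg.Agent.Linear.upSL_coe, h00])
        (by simp [Cfsg.Agent.Linear.upSL_coe]) (by simp [Cfsg.Agent.Linear.upSL_coe, h10])
        (by simp [Cfsg.Agent.Linear.upSL_coe, h11])
    conv_lhs => rw [eg, eh]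
    exact Cfsg.Agent.Linear.isConj_upSL_iff_isSquare g01 h01

end Cfsg.Agent.S2301
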