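import Cfsg.Statements.S2307
import Cfsg.Agent.H53.SLApp

set_option autoImplicit false
open Cfsg

namespace Cfsg.Agent.S2307

/-- Over a finite field F with q elements, q odd, let α be the multiplicative character of F of order 2. The character of SL₂ induced from the linear character b ↦ α(b₁₁) of the upper triangular subgroup is the sum of two distinct irreducible characters, each of degree (q + 1)/2, which are conjugate under GL₂: some fixed element of GL₂ conjugates the one into the other. -/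
theorem result {F : Type*} [Field F] [Fintype F] [DecidableEq F] (hodd : Odd (Fintype.card F)) (α : MulChar F ℂ)
    (hα : α ^ 2 = 1) (hα1 : α ≠ 1) :
    ∃ χ₁ χ₂ : Matrix.SpecialLinearGroup (Fin 2) F → ℂ, Cfsg.IsIrrCharacter (Matrix.SpecialLinearGroup (Fin 2) F) χ₁ ∧ Cfsg.IsIrrCharacter (Matrix.SpecialLinearGroup (Fin 2) F) χ₂ ∧ χ₁ ≠ χ₂ ∧
      Cfsg.indFun ((Cfsg.upperTriangularGL 2 F).comap Matrix.SpecialLinearGroup.toGL) (fun b => α (((b : Matrix.SpecialLinearGroup (Fin 2) F) : Matrix (Fin 2) (Fin 2) F) 0 0)) = χ₁ + χ₂ ∧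
      χ₁ 1 = (((Fintype.card F + 1) / 2 : ℕ) : ℂ) ∧ χ₂ 1 = (((Fintype.card F + 1) / 2 : ℕ) : ℂ) ∧
      ∃ x : Matrix.GeneralLinearGroup (Fin 2) F, ∀ g h : Matrix.SpecialLinearGroup (Fin 2) F,
        Matrix.SpecialLinearGroup.toGL h = x * Matrix.SpecialLinearGroup.toGL g * x⁻¹ → χ₂ h = χ₁ g := by
  classical
  have h2 : (2 : F) ≠ 0 := Linear.two_ne_zero_of_odd_card hodd
  obtain ⟨δ, hδ⟩ := H53.exists_not_isSquare h2
  obtain ⟨h, H⟩ := H53.exists_isHalf α
  set u : Fˣ := Units.mk0 δ (H53.ne_zero_of_not_isSquare hδ) with hu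
  have hd : h 1 = (((Fintype.card F + 1) / 2 : ℕ) : ℂ) := by
    linear_combination (1 / 2 : ℂ) * H.two_degree hα hα1 hδ - (1 / 2 : ℂ) * (H53.half_cast hodd).1
  refine ⟨h, fun g => h (H53.conjS u g), H.1, (H.conj u).1, (H.conj_ne hα hα1 hδ).symm,
    H.eq_add hα hα1 hδ, hd, by simpa using hd,
    (Linear.glOfDet !![(u : F), 0; 0, 1] (by simp [Matrix.det_fin_two_of]) :
      Matrix.GeneralLinearGroup (Fin 2) F)⁻¹, fun g k hk => ?_⟩
  show h (H53.conjS u k) = h g
  congr 1
  apply Linear.toGL_injective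
  rw [H53.toGL_conjS, hk]
  group

end Cfsg.Agent.S2307
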