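import Cfsg.Statements.S2309
import Cfsg.Agent.H53.GLTableApp

set_option autoImplicit false
open Cfsg

namespace Cfsg.Agent.S2309

/-- Over a finite field F with q elements: every irreducible complex character of GL₂ of degree q − 1 vanishes at every diagonal matrix with two distinct entries, and every irreducible complex character of degree q + 1 vanishes at every element with no eigenvector in F². -/
theorem result {F : Type*} [Field F] [Fintype F] (χ : Matrix.GeneralLinearGroup (Fin 2) F → ℂ) (hχ : Cfsg.IsIrrCharacter (Matrix.GeneralLinearGroup (Fin 2) F) χ) (g : Matrix.GeneralLinearGroup (Fin 2) F) :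
    (χ 1 = (Fintype.card F : ℂ) - 1 → (g : Matrix (Fin 2) (Fin 2) F) 0 1 = 0 → (g : Matrix (Fin 2) (Fin 2) F) 1 0 = 0 → (g : Matrix (Fin 2) (Fin 2) F) 0 0 ≠ (g : Matrix (Fin 2) (Fin 2) F) 1 1 → χ g = 0) ∧
    (χ 1 = (Fintype.card F : ℂ) + 1 → (∀ (c : F) (v : Fin 2 → F), v ≠ 0 → (g : Matrix (Fin 2) (Fin 2) F).mulVec v ≠ c • v) → χ g = 0) := by
  classical
  have h1 : (Fintype.card F : ℂ) ≠ 1 := Nat.cast_ne_one.mpr Fintype.one_lt_card.ne'
  have h0 : (Fintype.card F : ℂ) ≠ 0 := Nat.cast_ne_zero.mpr Fintype.card_ne_zero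
  rcases H53.gl_cases hχ with ⟨α, rfl⟩ | ⟨α, rfl⟩ | ⟨α, β, -, rfl⟩ | hc
  · refine ⟨fun hd h01 h10 hne => ?_, fun hd => ?_⟩
    · -- q = 2: no diagonal matrix has two distinct non-zero entries
      rw [H53.linFun_one] at hd
      have hq : Fintype.card F = 2 := by
        have e : (Fintype.card F : ℂ) = ((2 : ℕ) : ℂ) := by push_cast; linear_combination -hd
        exact Nat.cast_inj.mp e
      obtain ⟨u0, u1⟩ := H53.entries_ne_zero h10
      have hsub : Subsingleton Fˣ := by
        rw [← Fintype.card_le_one_iff_subsingleton, Fintype.card_units, hq]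
      exact absurd (congrArg Units.val (Subsingleton.elim (Units.mk0 _ u0) (Units.mk0 _ u1))) hne
    · rw [H53.linFun_one] at hd
      exact absurd (by linear_combination -hd) h0
  · refine ⟨fun hd => ?_, fun hd => ?_⟩ <;> rw [H53.stFun_one] at hd
    · exact absurd (by linear_combination hd) (one_ne_zero (α := ℂ))
    · exact absurd (by linear_combination -hd) (one_ne_zero (α := ℂ))
  · refine ⟨fun hd => ?_, fun _ h => H53.prin_noEigen α β h⟩
    rw [H53.prin_one] at hd
    exact absurd (by linear_combination hd) (two_ne_zero (α := ℂ))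
  · refine ⟨fun _ h01 h10 hne => H53.cusp_diag hc h01 h10 hne, fun hd => ?_⟩
    rw [show χ 1 = _ from (H53.cusp_data.2 _ hc).1] at hd
    exact absurd (by linear_combination -hd) (two_ne_zero (α := ℂ))

end Cfsg.Agent.S2309
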