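import Cfsg.Statements.S2310
import Cfsg.Agent.H53.GLTableApp

set_option autoImplicit false
open Cfsg

namespace Cfsg.Agent.S2310

/-- Over a finite field F with q ≥ 3 elements, let u be the upper unitriangular matrix of GL₂ with off-diagonal entry 1. An irreducible complex character χ of GL₂ takes at u the value 1 if χ has degree 1 or q + 1, the value −1 if χ has degree q − 1, and the value 0 if χ has degree q. -/
theorem result {F : Type*} [Field F] [Fintype F] (hq : 3 ≤ Fintype.card F) (χ : Matrix.GeneralLinearGroup (Fin 2) F → ℂ) (hχ : Cfsg.IsIrrCharacter (Matrix.GeneralLinearGroup (Fin 2) F) χ)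
    (u : Matrix.GeneralLinearGroup (Fin 2) F) (hu : (u : Matrix (Fin 2) (Fin 2) F) = !![1, 1; 0, 1]) :
    (χ 1 = 1 → χ u = 1) ∧ (χ 1 = (Fintype.card F : ℂ) + 1 → χ u = 1) ∧
    (χ 1 = (Fintype.card F : ℂ) - 1 → χ u = -1) ∧ (χ 1 = (Fintype.card F : ℂ) → χ u = 0) := by
  classical
  obtain ⟨a1, a2, a3⟩ := H53.degree_ne (F := F) hq
  have hu' : u = H53.uGL := Units.ext (by rw [hu]; simp [H53.uGL, H53.coe_upGL])
  subst hu'
  have h2 : (2 : ℂ) ≠ 0 := two_ne_zero
  have h1 : (1 : ℂ) ≠ 0 := one_ne_zero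
  rcases H53.gl_cases hχ with ⟨α, rfl⟩ | ⟨α, rfl⟩ | ⟨α, β, -, rfl⟩ | hc
  · rw [H53.linFun_one, H53.linFun_uGL]
    exact ⟨fun _ => rfl, fun _ => rfl, fun e => absurd e a1, fun e => absurd e a2⟩
  · rw [H53.stFun_one]
    simp only [H53.stFun, Pi.sub_apply, H53.prin_uGL, H53.linFun_uGL, sub_self]
    exact ⟨fun e => absurd e.symm a2, fun e => absurd (by linear_combination -e) h1,
      fun e => absurd (by linear_combination e) h1, fun _ => trivial⟩
  · rw [H53.prin_one, H53.prin_uGL]
    exact ⟨fun _ => rfl, fun _ => rfl, fun e => absurd (by linear_combination e) h2,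
      fun e => absurd (by linear_combination e) h1⟩
  · obtain ⟨e1, e2⟩ := H53.cusp_data.2 _ hc
    simp only at e1 e2
    rw [e1, e2]
    exact ⟨fun e => absurd e.symm a1, fun e => absurd (by linear_combination -e) h2,
      fun _ => rfl, fun e => absurd (by linear_combination -e) h1⟩

end Cfsg.Agent.S2310
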