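import Cfsg.Statements.S2316
import Cfsg.Agent.H46.SymplecticUnipotent
-- import your own Cfsg.Agent.* helpers here

set_option autoImplicit false
open Cfsg

namespace Cfsg.Agent.S2316

section Helpers

open Matrix Cfsg.Agent.H46.SpUnip Module

variable {F : Type*} [Field F] {m : ℕ}

/-- The standard symplectic space. -/
noncomputable def stdSp (m : ℕ) (F : Type*) [Field F] : SpSpace F (Fin m ⊕ Fin m → F) where
  B := Matrix.toBilin' (Matrix.J (Fin m) F)
  alt x := by
    rw [Matrix.toBilin'_apply', dotProduct, Fintype.sum_sum_type]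
    simp [Matrix.J, Matrix.mulVec, dotProduct, Fintype.sum_sum_type, Matrix.one_apply, mul_comm]
  nondeg x hx := by
    funext j
    rcases j with i | i
    · have := hx (Pi.single (.inr i) 1)
      simpa [Matrix.toBilin'_apply', Matrix.mulVec_single_one, Matrix.J, dotProduct, Fintype.sum_sum_type,
        Matrix.one_apply] using this
    · have := hx (Pi.single (.inl i) 1)
      simpa [Matrix.toBilin'_apply', Matrix.mulVec_single_one, Matrix.J, dotProduct, Fintype.sum_sum_type,
        Matrix.one_apply] using this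

theorem mem_symplectic_iff (A : Matrix (Fin m ⊕ Fin m) (Fin m ⊕ Fin m) F) :
    A ∈ Matrix.symplecticGroup (Fin m) F ↔
      ∀ x y, (stdSp m F).B (Matrix.toLin' A x) (Matrix.toLin' A y) = (stdSp m F).B x y := by
  rw [SymplecticGroup.mem_iff']
  constructor
  · intro h x y
    show ((Matrix.toBilin' (Matrix.J (Fin m) F)).comp (Matrix.toLin' A) (Matrix.toLin' A)) x y = _
    rw [Matrix.toBilin'_comp, h]
    rfl
  · intro h
    refine Matrix.toBilin'.injective ?_
    rw [← Matrix.toBilin'_comp]
    exact LinearMap.ext fun x => LinearMap.ext fun y => h x y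

/-- Symplectic matrices as isometries. -/
noncomputable def toIso [Finite F] :
    ↥(Matrix.symplecticGroup (Fin m) F) →* iso (stdSp m F) :=
  MonoidHom.mk' (fun A => isoOf (stdSp m F) (Matrix.toLin' A.1) ((mem_symplectic_iff A.1).1 A.2))
    fun A B => iso_ext fun x => by
      rw [Cfsg.Agent.H46.SpUnip.mul_apply, isoOf_apply, isoOf_apply, isoOf_apply, MulMemClass.coe_mul,
        Matrix.toLin'_mul]
      rfl

theorem toIso_bijective [Finite F] : Function.Bijective (toIso (F := F) (m := m)) := by
  constructor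
  · intro A B h
    refine Subtype.ext (Matrix.toLin'.injective (LinearMap.ext fun x => ?_))
    exact congrArg (fun g : iso (stdSp m F) => g.1 x) h
  · intro g
    refine ⟨⟨LinearMap.toMatrix' g.1.toLinearMap, (mem_symplectic_iff _).2 fun x y => ?_⟩, iso_ext fun x => ?_⟩
    · rw [Matrix.toLin'_toMatrix']; exact g.2 x y
    · show Matrix.toLin' (LinearMap.toMatrix' g.1.toLinearMap) x = _
      rw [Matrix.toLin'_toMatrix']
      rfl

end Helpers

/-- Steinberg's count of unipotent elements for the symplectic group: over a finite field with q elements of characteristic p, the number of elements of Sp_{2m} of p-power order is q^(2m²). -/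
theorem result {F : Type*} [Field F] [Fintype F] (p : ℕ) [Fact p.Prime] [CharP F p] (m : ℕ) :
    Nat.card {g : ↥(Matrix.symplecticGroup (Fin m) F) // ∃ k : ℕ, orderOf g = p ^ k} = Fintype.card F ^ (2 * m ^ 2) := by
  have hd : Module.finrank F (Fin m ⊕ Fin m → F) = 2 * m := by
    rw [Module.finrank_pi, Fintype.card_sum, Fintype.card_fin, two_mul]
  rw [← Cfsg.Agent.H46.SpUnip.natCard_unipotent p m (stdSp m F) hd]
  refine Nat.card_congr (Equiv.subtypeEquiv (Equiv.ofBijective _ toIso_bijective) fun g => ?_)
  show (∃ k : ℕ, orderOf g = p ^ k) ↔ ∃ k : ℕ, toIso g ^ p ^ k = 1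
  constructor
  · rintro ⟨k, hk⟩
    exact ⟨k, by rw [← map_pow, ← hk, pow_orderOf_eq_one, map_one]⟩
  · rintro ⟨k, hk⟩
    rw [← map_pow] at hk
    have h1 : g ^ p ^ k = 1 := toIso_bijective.1 (hk.trans (map_one _).symm)
    obtain ⟨j, -, hj⟩ := (Nat.dvd_prime_pow (Fact.out : p.Prime)).1 (orderOf_dvd_of_pow_eq_one h1)
    exact ⟨j, hj⟩

end Cfsg.Agent.S2316
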