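import Cfsg.Statements.S2320
import Cfsg.Agent.H53.GLTableApp

set_option autoImplicit false
open Cfsg

namespace Cfsg.Agent.S2320

/-- Over a finite field F with q elements, every irreducible complex character of GL₂ of degree q takes a value of absolute value 1 at every diagonal matrix with two different diagonal entries and at every element with no eigenvector in F². -/
theorem result {F : Type*} [Field F] [Fintype F] (χ : Matrix.GeneralLinearGroup (Fin 2) F → ℂ) (hχ : Cfsg.IsIrrCharacter (Matrix.GeneralLinearGroup (Fin 2) F) χ) (hdeg : χ 1 = (Fintype.card F : ℂ)) (g : Matrix.GeneralLinearGroup (Fin 2) F) :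
    ((g : Matrix (Fin 2) (Fin 2) F) 0 1 = 0 → (g : Matrix (Fin 2) (Fin 2) F) 1 0 = 0 → (g : Matrix (Fin 2) (Fin 2) F) 0 0 ≠ (g : Matrix (Fin 2) (Fin 2) F) 1 1 → ‖χ g‖ = 1) ∧
    ((∀ (c : F) (v : Fin 2 → F), v ≠ 0 → (g : Matrix (Fin 2) (Fin 2) F).mulVec v ≠ c • v) → ‖χ g‖ = 1) := by
  classical
  rcases H53.gl_cases hχ with ⟨α, rfl⟩ | ⟨α, rfl⟩ | ⟨α, β, -, rfl⟩ | hc
  · rw [H53.linFun_one] at hdeg
    exact absurd (by exact_mod_cast hdeg.symm) Fintype.one_lt_card.ne'
  · refine ⟨fun h01 h10 hne => ?_, fun h => ?_⟩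
    · obtain ⟨u0, u1⟩ := H53.entries_ne_zero h10
      rw [H53.stFun, Pi.sub_apply, H53.prin_diag α α h01 h10 hne, H53.linFun, Matrix.det_fin_two,
        h01, zero_mul, sub_zero, map_mul]
      have e : α ((g : Matrix (Fin 2) (Fin 2) F) 0 0) * α ((g : Matrix (Fin 2) (Fin 2) F) 1 1) +
          α ((g : Matrix (Fin 2) (Fin 2) F) 1 1) * α ((g : Matrix (Fin 2) (Fin 2) F) 0 0) -
          α ((g : Matrix (Fin 2) (Fin 2) F) 0 0) * α ((g : Matrix (Fin 2) (Fin 2) F) 1 1) =
          α ((g : Matrix (Fin 2) (Fin 2) F) 1 1) * α ((g : Matrix (Fin 2) (Fin 2) F) 0 0) := by ring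
      rw [e, norm_mul, H53.norm_mulChar α u1, H53.norm_mulChar α u0, mul_one]
    · rw [H53.stFun, Pi.sub_apply, H53.prin_noEigen α α h, zero_sub, norm_neg, H53.linFun]
      exact H53.norm_mulChar α (Matrix.GeneralLinearGroup.det_ne_zero g)
  · rw [H53.prin_one] at hdeg
    exact absurd (by linear_combination hdeg) (one_ne_zero (α := ℂ))
  · rw [show χ 1 = _ from (H53.cusp_data.2 _ hc).1] at hdeg
    exact absurd (by linear_combination -hdeg) (one_ne_zero (α := ℂ))

end Cfsg.Agent.S2320
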