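import Cfsg.Statements.S2322
import Cfsg.Agent.H53.SLApp

set_option autoImplicit false
open Cfsg

namespace Cfsg.Agent.S2322

/-- Over a finite field F with q elements, q odd: every irreducible complex character of SL₂ of degree q − 1 or (q − 1)/2 vanishes at every diagonal matrix whose diagonal entry a has a² ≠ 1, and every irreducible complex character of degree q + 1 or (q + 1)/2 vanishes at every element with no eigenvector in F². -/
theorem result {F : Type*} [Field F] [Fintype F] (hodd : Odd (Fintype.card F)) (χ : Matrix.SpecialLinearGroup (Fin 2) F → ℂ) (hχ : Cfsg.IsIrrCharacter (Matrix.SpecialLinearGroup (Fin 2) F) χ) (g : Matrix.SpecialLinearGroup (Fin 2) F) :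
    ((χ 1 = (Fintype.card F : ℂ) - 1 ∨ χ 1 = (((Fintype.card F - 1) / 2 : ℕ) : ℂ)) →
      (g : Matrix (Fin 2) (Fin 2) F) 0 1 = 0 → (g : Matrix (Fin 2) (Fin 2) F) 1 0 = 0 → (g : Matrix (Fin 2) (Fin 2) F) 0 0 ^ 2 ≠ 1 → χ g = 0) ∧
    ((χ 1 = (Fintype.card F : ℂ) + 1 ∨ χ 1 = (((Fintype.card F + 1) / 2 : ℕ) : ℂ)) →
      (∀ (c : F) (v : Fin 2 → F), v ≠ 0 → (g : Matrix (Fin 2) (Fin 2) F).mulVec v ≠ c • v) → χ g = 0) := by
  classical
  have h2 : (2 : F) ≠ 0 := Linear.two_ne_zero_of_odd_card hodd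
  have hq := H53.three_le_of_odd hodd
  obtain ⟨m, hm⟩ := hodd
  obtain ⟨d, hd, hc⟩ := H53.sl_cases_odd_nat h2 hχ
  refine ⟨fun hdeg h01 h10 hne => ?_, fun hdeg hg => ?_⟩
  · have h5 : 5 ≤ Fintype.card F := by
      by_contra hc5
      obtain ⟨h0, -⟩ := H53.entries_SL h10
      apply hne
      have := FiniteField.pow_card_sub_one_eq_one _ h0
      rwa [show Fintype.card F - 1 = 2 by omega] at this
    have hd' : d + 1 = Fintype.card F ∨ 2 * d + 1 = Fintype.card F := by
      rcases hdeg with e | e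
      · exact Or.inl (H53.degree_sub_one hd e)
      · exact Or.inr (by
          have : d = (Fintype.card F - 1) / 2 := Nat.cast_injective (R := ℂ) (hd.symm.trans e)
          omega)
    rcases hc with ⟨-, e⟩ | ⟨-, e⟩ | ⟨-, e⟩ | ⟨-, e⟩ | ⟨hcu, -⟩ | ⟨hcu, -⟩
    · omega
    · omega
    · omega
    · omega
    all_goals exact hcu.diag (CharBasic.IsIrr.isClassFunction hχ) h01 h10 hne
  · have hd' : d = Fintype.card F + 1 ∨ 2 * d = Fintype.card F + 1 := by
      rcases hdeg with e | e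
      · exact Or.inl (H53.degree_add_one hd e)
      · exact Or.inr (by
          have : d = (Fintype.card F + 1) / 2 := Nat.cast_injective (R := ℂ) (hd.symm.trans e)
          omega)
    rcases hc with ⟨-, e⟩ | ⟨-, e⟩ | ⟨⟨α, -, rfl⟩, -⟩ | ⟨⟨ε, hε, hε1, H⟩, -⟩ | ⟨-, e⟩ | ⟨hcu, e⟩
    · omega
    · omega
    · exact H53.sprin_noEigen α hg
    · exact H.apply_noEigen hε hε1 h2 hg
    · omega
    · exact H53.cusp_noEigen_three (by omega) hχ hcu (by
        rw [hd, ← e]
        push_cast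
        ring) hg

end Cfsg.Agent.S2322
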