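import Cfsg.Statements.S2323
import Cfsg.Agent.H53.SLApp

set_option autoImplicit false
open Cfsg

namespace Cfsg.Agent.S2323

/-- Over a finite field F with q ≥ 4 elements, let u be the upper unitriangular matrix of SL₂ with off-diagonal entry 1. An irreducible complex character of SL₂ takes at u the value 1 if its degree is q + 1 and the value −1 if its degree is q − 1. -/
theorem result {F : Type*} [Field F] [Fintype F] (hq : 4 ≤ Fintype.card F) (χ : Matrix.SpecialLinearGroup (Fin 2) F → ℂ) (hχ : Cfsg.IsIrrCharacter (Matrix.SpecialLinearGroup (Fin 2) F) χ)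
    (u : Matrix.SpecialLinearGroup (Fin 2) F) (hu : (u : Matrix (Fin 2) (Fin 2) F) = !![1, 1; 0, 1]) :
    (χ 1 = (Fintype.card F : ℂ) + 1 → χ u = 1) ∧ (χ 1 = (Fintype.card F : ℂ) - 1 → χ u = -1) := by
  classical
  have hu' : u = H53.upS 1 1 := Subtype.ext (by rw [hu]; simp [H53.coe_upS])
  subst hu'
  have hsp : ∀ α : MulChar F ℂ, H53.sprin α (H53.upS 1 (1 : F)) = 1 := fun α => by
    rw [H53.sprin_upper α (by simp [H53.coe_upS])]
    simp [H53.coe_upS]
  by_cases h2 : (2 : F) = 0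
  · obtain ⟨d, hd, hc⟩ := H53.sl_cases_even_nat h2 hχ
    refine ⟨fun e => ?_, fun e => ?_⟩
    · have := H53.degree_add_one hd e
      rcases hc with ⟨-, e'⟩ | ⟨-, e'⟩ | ⟨⟨α, -, rfl⟩, -⟩ | ⟨-, e'⟩ <;> first | omega | exact hsp α
    · have := H53.degree_sub_one hd e
      rcases hc with ⟨-, e'⟩ | ⟨-, e'⟩ | ⟨-, e'⟩ | ⟨hcu, -⟩ <;>
        first | omega | exact (hcu.even_case hχ h2).2
  · obtain ⟨δ, hδ⟩ := H53.exists_not_isSquare h2
    have hodd := FiniteField.odd_card_of_char_ne_two (H53.ringChar_ne_two h2)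
    obtain ⟨d, hd, hc⟩ := H53.sl_cases_odd_nat h2 hχ
    refine ⟨fun e => ?_, fun e => ?_⟩
    · have := H53.degree_add_one hd e
      rcases hc with ⟨-, e'⟩ | ⟨-, e'⟩ | ⟨⟨α, -, rfl⟩, -⟩ | ⟨-, e'⟩ | ⟨-, e'⟩ | ⟨-, e'⟩ <;>
        first | omega | exact hsp α
    · have := H53.degree_sub_one hd e
      rcases hc with ⟨-, e'⟩ | ⟨-, e'⟩ | ⟨-, e'⟩ | ⟨-, e'⟩ | ⟨-, e'⟩ | ⟨hcu, -⟩ <;>
        try omega
      rcases hcu.odd_cases hχ hδ with ⟨hd2, -, -⟩ | ⟨-, hz, -⟩
      · have : 2 * d + 1 = Fintype.card F := Nat.cast_injective (R := ℂ) (by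
          push_cast
          linear_combination hd2 - 2 * hd)
        omega
      · exact hz

end Cfsg.Agent.S2323
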