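import Cfsg.Statements.S2324
import Cfsg.Agent.H53.SLApp

set_option autoImplicit false
open Cfsg

namespace Cfsg.Agent.S2324

/-- Over a finite field F with q elements, q odd and q ≥ 5, let u be the upper unitriangular matrix of SL₂ with off-diagonal entry 1 and let δ = (−1)^((q−1)/2). Every irreducible complex character χ of SL₂ of degree (q + 1)/2 satisfies (2χ(u) − 1)² = δq, and every irreducible complex character χ of degree (q − 1)/2 satisfies (2χ(u) + 1)² = δq; that is, χ(u) = (1 ± √(δq))/2 in the first case and χ(u) = (−1 ± √(δq))/2 in the second. Moreover two different irreducible characters of degree (q + 1)/2 take the two different values (their values at u add up to 1), and likewise for degree (q − 1)/2 (values adding up to −1). -/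
theorem result {F : Type*} [Field F] [Fintype F] (hodd : Odd (Fintype.card F)) (hq : 5 ≤ Fintype.card F)
    (u : Matrix.SpecialLinearGroup (Fin 2) F) (hu : (u : Matrix (Fin 2) (Fin 2) F) = !![1, 1; 0, 1]) :
    (∀ χ : Matrix.SpecialLinearGroup (Fin 2) F → ℂ, Cfsg.IsIrrCharacter (Matrix.SpecialLinearGroup (Fin 2) F) χ → χ 1 = (((Fintype.card F + 1) / 2 : ℕ) : ℂ) → (2 * χ u - 1) ^ 2 = (-1 : ℂ) ^ ((Fintype.card F - 1) / 2) * (Fintype.card F : ℂ)) ∧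
    (∀ χ : Matrix.SpecialLinearGroup (Fin 2) F → ℂ, Cfsg.IsIrrCharacter (Matrix.SpecialLinearGroup (Fin 2) F) χ → χ 1 = (((Fintype.card F - 1) / 2 : ℕ) : ℂ) → (2 * χ u + 1) ^ 2 = (-1 : ℂ) ^ ((Fintype.card F - 1) / 2) * (Fintype.card F : ℂ)) ∧
    (∀ χ₁ χ₂ : Matrix.SpecialLinearGroup (Fin 2) F → ℂ, Cfsg.IsIrrCharacter (Matrix.SpecialLinearGroup (Fin 2) F) χ₁ → Cfsg.IsIrrCharacter (Matrix.SpecialLinearGroup (Fin 2) F) χ₂ → χ₁ ≠ χ₂ →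
      χ₁ 1 = (((Fintype.card F + 1) / 2 : ℕ) : ℂ) → χ₂ 1 = (((Fintype.card F + 1) / 2 : ℕ) : ℂ) → χ₁ u + χ₂ u = 1) ∧
    (∀ χ₁ χ₂ : Matrix.SpecialLinearGroup (Fin 2) F → ℂ, Cfsg.IsIrrCharacter (Matrix.SpecialLinearGroup (Fin 2) F) χ₁ → Cfsg.IsIrrCharacter (Matrix.SpecialLinearGroup (Fin 2) F) χ₂ → χ₁ ≠ χ₂ →
      χ₁ 1 = (((Fintype.card F - 1) / 2 : ℕ) : ℂ) → χ₂ 1 = (((Fintype.card F - 1) / 2 : ℕ) : ℂ) → χ₁ u + χ₂ u = -1) := by
  classical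
  have h2 : (2 : F) ≠ 0 := Linear.two_ne_zero_of_odd_card hodd
  have hu' : u = H53.upS 1 1 := Subtype.ext (by rw [hu]; simp [H53.coe_upS])
  subst hu'
  obtain ⟨δ, hδ⟩ := H53.exists_not_isSquare h2
  obtain ⟨c1, c2⟩ := H53.half_cast hodd
  obtain ⟨m, hm⟩ := hodd
  have hhalf : ∀ χ, Cfsg.IsIrrCharacter (Matrix.SpecialLinearGroup (Fin 2) F) χ →
      χ 1 = (((Fintype.card F + 1) / 2 : ℕ) : ℂ) →
      ∃ ε : MulChar F ℂ, ε ^ 2 = 1 ∧ ε ≠ 1 ∧ H53.IsHalf ε χ := by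
    intro χ hχ e
    obtain ⟨d, hd, hc⟩ := H53.sl_cases_odd_nat h2 hχ
    have : d = (Fintype.card F + 1) / 2 := Nat.cast_injective (R := ℂ) (hd.symm.trans e)
    rcases hc with ⟨-, e'⟩ | ⟨-, e'⟩ | ⟨-, e'⟩ | ⟨h, -⟩ | ⟨-, e'⟩ | ⟨-, e'⟩ <;>
      first | omega | exact h
  have hcusp : ∀ χ, Cfsg.IsIrrCharacter (Matrix.SpecialLinearGroup (Fin 2) F) χ →
      χ 1 = (((Fintype.card F - 1) / 2 : ℕ) : ℂ) → H53.IsCuspS χ := by
    intro χ hχ e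
    obtain ⟨d, hd, hc⟩ := H53.sl_cases_odd_nat h2 hχ
    have : d = (Fintype.card F - 1) / 2 := Nat.cast_injective (R := ℂ) (hd.symm.trans e)
    rcases hc with ⟨-, e'⟩ | ⟨-, e'⟩ | ⟨-, e'⟩ | ⟨-, e'⟩ | ⟨h, -⟩ | ⟨-, e'⟩ <;>
      first | omega | exact h
  have hsmall : ∀ χ, (hχ : Cfsg.IsIrrCharacter (Matrix.SpecialLinearGroup (Fin 2) F) χ) →
      χ 1 = (((Fintype.card F - 1) / 2 : ℕ) : ℂ) →
      2 * χ 1 = (Fintype.card F : ℂ) - 1 ∧ χ (H53.upS 1 1) + χ (H53.upS 1 δ) = -1 ∧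
      (fun g => χ (H53.conjS (Units.mk0 δ (H53.ne_zero_of_not_isSquare hδ)) g)) ≠ χ := by
    intro χ hχ e
    rcases (hcusp χ hχ e).odd_cases hχ hδ with h | ⟨h, -, -⟩
    · exact h
    · have hq1 : (Fintype.card F : ℂ) = 1 := by linear_combination c2 + 2 * e - 2 * h
      rw [Nat.cast_eq_one] at hq1
      omega
  refine ⟨fun χ hχ e => ?_, fun χ hχ e => ?_, fun χ₁ χ₂ h₁ h₂ hne e₁ e₂ => ?_,
    fun χ₁ χ₂ h₁ h₂ hne e₁ e₂ => ?_⟩
  · obtain ⟨ε, hε, hε1, H⟩ := hhalf χ hχ e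
    exact H53.two_z_sub_sq h2 hχ hδ (H.zsum hε hε1 hδ)
      (by linear_combination H.two_degree hε hε1 hδ)
  · obtain ⟨hd, hs, -⟩ := hsmall χ hχ e
    have := H53.two_z_sub_sq h2 hχ hδ hs (by linear_combination hd)
    rw [← this]
    ring
  · obtain ⟨ε, hε, hε1, H⟩ := hhalf χ₁ h₁ e₁
    obtain ⟨ε', hε', hε1', H'⟩ := hhalf χ₂ h₂ e₂
    obtain rfl := H53.mulChar_sq_unique hε' hε hε1' hε1
    rcases H.cases hε' hε1' hδ H' with rfl | rfl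
    · exact absurd rfl hne
    · show χ₁ (H53.upS 1 1) + χ₁ (H53.conjS _ (H53.upS 1 1)) = 1
      rw [H53.conjS_upS, Units.val_mk0, mul_one]
      exact H.zsum hε' hε1' hδ
  · obtain ⟨hd, hs, hcn⟩ := hsmall χ₁ h₁ e₁
    obtain ⟨hd', -, -⟩ := hsmall χ₂ h₂ e₂
    have hc1 := hcusp χ₁ h₁ e₁
    have hcard := (H53.card_cusp_odd (F := F) h2).1
    obtain ⟨y, -, huniq⟩ := (Nat.card_eq_two_iff'
      (⟨⟨χ₁, h₁⟩, hc1, hd⟩ : {χ : Cfsg.IrrCharacter (Matrix.SpecialLinearGroup (Fin 2) F) //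
        H53.IsCuspS (χ : Matrix.SpecialLinearGroup (Fin 2) F → ℂ) ∧
        2 * (χ : Matrix.SpecialLinearGroup (Fin 2) F → ℂ) 1 = (Fintype.card F : ℂ) - 1})).mp hcard
    have ea := huniq ⟨⟨χ₂, h₂⟩, hcusp χ₂ h₂ e₂, hd'⟩
      (fun e => hne (congrArg (fun z => z.1.1) e).symm)
    have eb := huniq ⟨⟨_, H53.isIrr_conjS h₁ (Units.mk0 δ (H53.ne_zero_of_not_isSquare hδ))⟩,
      hc1.conj _, by simpa using hd⟩ (fun e => hcn (congrArg (fun z => z.1.1) e))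
    have e : χ₂ = _ := congrArg (fun z => z.1.1) (ea.trans eb.symm)
    subst e
    show χ₁ (H53.upS 1 1) + χ₁ (H53.conjS _ (H53.upS 1 1)) = -1
    rw [H53.conjS_upS, Units.val_mk0, mul_one]
    exact hs

end Cfsg.Agent.S2324
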