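import Cfsg.Statements.S2329
import Cfsg.Agent.Linear.TwoTorus
-- import your own Cfsg.Agent.* helpers here

set_option autoImplicit false
open Cfsg

namespace Cfsg.Agent.S2329

/-- Over a finite field of characteristic p, any two elements of order p of GL₂ are conjugate: there is a single conjugacy class of non-identity unipotent elements. -/
theorem result {F : Type*} [Field F] [Fintype F] (p : ℕ) [Fact p.Prime] [CharP F p] (g h : Matrix.GeneralLinearGroup (Fin 2) F)
    (hg : orderOf g = p) (hh : orderOf h = p) : IsConj g h := by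
  have key : ∀ x : Matrix.GeneralLinearGroup (Fin 2) F, orderOf x = p →
      ¬ Cfsg.Agent.Linear.IsScalarTwo (x : Matrix (Fin 2) (Fin 2) F) ∧
      (x : Matrix (Fin 2) (Fin 2) F).trace = 2 ∧ (x : Matrix (Fin 2) (Fin 2) F).det = 1 := by
    intro x hx
    have hp : p.Prime := Fact.out
    have hxp : (x : Matrix (Fin 2) (Fin 2) F) ^ p = 1 := by
      rw [← Units.val_pow_eq_pow_val, ← hx, pow_orderOf_eq_one, Units.val_one]
    have e : ((x : Matrix (Fin 2) (Fin 2) F) - 1) ^ p = 0 := by
      rw [sub_pow_char_of_commute _ (Commute.one_right _), one_pow, hxp, sub_self]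
    have hN := IsNilpotent.eq_zero (Matrix.isNilpotent_trace_of_isNilpotent ⟨p, e⟩)
    have hd : ((x : Matrix (Fin 2) (Fin 2) F) - 1).det = 0 := by
      apply eq_zero_of_pow_eq_zero (n := p)
      rw [← Matrix.det_pow, e, Matrix.det_zero]
    have ht : (x : Matrix (Fin 2) (Fin 2) F).trace = 2 := by
      rw [Matrix.trace_sub, Matrix.trace_one, sub_eq_zero, Fintype.card_fin] at hN
      simpa using hN
    have hdet : (x : Matrix (Fin 2) (Fin 2) F).det = 1 := by
      rw [Matrix.trace_fin_two] at ht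
      simp only [Matrix.det_fin_two, Matrix.sub_apply, Matrix.one_apply_eq,
        Matrix.one_apply_ne (show (0 : Fin 2) ≠ 1 by decide),
        Matrix.one_apply_ne (show (1 : Fin 2) ≠ 0 by decide), sub_zero] at hd ⊢
      linear_combination hd + ht
    refine ⟨fun hs => ?_, ht, hdet⟩
    obtain ⟨c, hc⟩ := Cfsg.Agent.Linear.isScalarTwo_iff.mp hs
    have hc1 : c = 1 := by
      rw [hc, show (c • (1 : Matrix (Fin 2) (Fin 2) F)) - 1 = (c - 1) • 1 by rw [sub_smul, one_smul],
        Matrix.det_smul, Matrix.det_one, mul_one, Fintype.card_fin] at hd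
      exact sub_eq_zero.mp (eq_zero_of_pow_eq_zero hd)
    have : x = 1 := Units.ext (by rw [hc, hc1, one_smul, Units.val_one])
    rw [this, orderOf_one] at hx
    exact hp.one_lt.ne hx
  obtain ⟨gs, gt, gd⟩ := key g hg
  obtain ⟨hs, htt, hd⟩ := key h hh
  obtain ⟨P, hP, hPA⟩ := Cfsg.Agent.Linear.exists_conj_of_trace_det gs hs (gt.trans htt.symm)
    (gd.trans hd.symm)
  refine isConj_iff.mpr ⟨Matrix.GeneralLinearGroup.mkOfDetNeZero P hP, ?_⟩
  rw [mul_inv_eq_iff_eq_mul]
  exact Units.ext hPA

end Cfsg.Agent.S2329
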