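import Cfsg.Statements.S2336
import Cfsg.Agent.H53.SLPerm

set_option autoImplicit false
open Cfsg

namespace Cfsg.Agent.S2336

/-- Let F be a finite field with q elements and n ≥ 3. The permutation character of SL_n(F) on the non-zero vectors of F^n (the function sending a matrix to the number of non-zero vectors it fixes) is the sum of the principal character and q − 1 pairwise distinct irreducible complex characters. -/
theorem result {F : Type*} [Field F] [Fintype F] [DecidableEq F] (n : ℕ) (hn : 3 ≤ n) :
    ∃ χ : Fin (Fintype.card F - 1) → (Matrix.SpecialLinearGroup (Fin n) F → ℂ),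
      (∀ i, Cfsg.IsIrrCharacter (Matrix.SpecialLinearGroup (Fin n) F) (χ i)) ∧ Function.Injective χ ∧
      ∀ g : Matrix.SpecialLinearGroup (Fin n) F,
        (Nat.card {v : Fin n → F // v ≠ 0 ∧ (g : Matrix (Fin n) (Fin n) F).mulVec v = v} : ℂ) = 1 + ∑ i, χ i g := by
  classical
  have : NeZero n := ⟨by omega⟩
  have := Fintype.ofFinite (MulChar F ℂ)
  obtain ⟨χ, hirr, hinj, hsum, -⟩ := H53.exists_perm_decomposition (F := F) hn
  have e : Fin (Fintype.card F - 1) ≃ MulChar F ℂ := (Fintype.equivFinOfCardEq (by
    rw [← Nat.card_eq_fintype_card, H53.card_mulChar])).symm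
  refine ⟨fun i => χ (e i), fun i => hirr _, hinj.comp e.injective, fun g => ?_⟩
  rw [Equiv.sum_comp e (fun α => χ α g), ← hsum g, H53.fixCount, Nat.card_eq_fintype_card,
    Fintype.card_subtype]
  congr 2

end Cfsg.Agent.S2336
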