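import Cfsg.Statements.S2337
import Cfsg.Agent.Suzuki.MinDegree
import Cfsg.Agent.Suzuki.Lie

set_option autoImplicit false
open Cfsg

namespace Cfsg.Agent.S2337

/-- For the Suzuki group Sz(q), q = 2^(2m+1) with m ≥ 1 (realised inside Sp₄ over the field with q elements), every irreducible complex representation of degree at least 2 has degree at least 2^m·(q − 1). -/
theorem result {F : Type*} [Field F] [Fintype F] (m : ℕ) (hm : 1 ≤ m) (hF : Fintype.card F = 2 ^ (2 * m + 1)) :
    (∀ (k : ℕ) (ρ : Representation ℂ (Cfsg.Lie.Sz F (2 ^ (m + 1))) (Fin k → ℂ)), ρ.IsIrreducible → 2 ≤ k → 2 ^ m * (2 ^ (2 * m + 1) - 1) ≤ k) := by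
  intro k ρ hirr hk
  have : Cfsg.Agent.Suzuki.SzField F m := ⟨hF, hm⟩
  have hs : IsSimpleGroup ↥(Cfsg.Lie.Sz F (2 ^ (m + 1))) := Cfsg.Agent.Suzuki.isSimpleGroup_lieSz m
  have hinj : Function.Injective ρ := by
    show Function.Injective (ρ : ↥(Cfsg.Lie.Sz F (2 ^ (m + 1))) →* _)
    rw [← MonoidHom.ker_eq_bot_iff]
    rcases hs.eq_bot_or_eq_top_of_normal (MonoidHom.ker ρ) inferInstance with h | h
    · exact h
    · exfalso
      let v : Fin k → ℂ := Pi.single ⟨0, by omega⟩ 1
      have h1 : ∀ g, ρ g = 1 := fun g => MonoidHom.mem_ker.mp (by rw [h]; trivial)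
      let S : Subrepresentation ρ := ⟨Submodule.span ℂ {v}, fun g x hx => by rw [h1 g]; exact hx⟩
      have hv : v ≠ 0 := fun h0 => by simpa [v] using congrFun h0 ⟨0, by omega⟩
      rcases hirr.eq_bot_or_eq_top S with hS | hS
      · have hS' := congrArg Subrepresentation.toSubmodule hS
        exact hv (by simpa using (Submodule.span_singleton_eq_bot (R := ℂ)).mp (hS'.trans rfl))
      · have hS' : Submodule.span ℂ {v} = ⊤ := congrArg Subrepresentation.toSubmodule hS
        have h2 := finrank_span_singleton (K := ℂ) hv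
        rw [hS', finrank_top, Module.finrank_fin_fun] at h2
        omega
  exact Cfsg.Agent.Suzuki.degree_bound m
    ((MonoidHom.comp ρ (Cfsg.Agent.Suzuki.lieEquiv m).toMonoidHom))
    (hinj.comp (Cfsg.Agent.Suzuki.lieEquiv m).injective)

end Cfsg.Agent.S2337
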