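import Cfsg.Statements.S2345
import Cfsg.Agent.H53.OmLow.Final

set_option autoImplicit false
open Cfsg

namespace Cfsg.Agent.S2345

/-- For a finite field F with q > 3 elements and n ≥ 4, every irreducible complex representation of degree at least 2 of Ω⁺_{2n}(F) (the commutator subgroup of the isometry group of the hyperbolic quadratic form x₁y₁ + ⋯ + x_ny_n) has degree at least (q^n − 1)(q^{n−1} + q)/(q² − 1). -/
theorem result {F : Type*} [Field F] [Fintype F] (n : ℕ) (hn : 4 ≤ n) (h3 : 3 < Fintype.card F) :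
    (∀ (k : ℕ) (ρ : Representation ℂ (Cfsg.Omega F (Cfsg.quadFormPlus n F)) (Fin k → ℂ)), ρ.IsIrreducible → 2 ≤ k → (Fintype.card F ^ n - 1) * (Fintype.card F ^ (n - 1) + Fintype.card F) / (Fintype.card F ^ 2 - 1) ≤ k) := by
  intro k ρ hρ hk
  obtain ⟨j, rfl⟩ : ∃ j, n = j + 4 := ⟨n - 4, by omega⟩
  have h := H53.OmLow.plus_bound (by rwa [Nat.card_eq_fintype_card]) j ρ hρ hk
  rw [Nat.card_eq_fintype_card] at h
  have hi := H53.OmLow.sum_odd_identity (Fintype.card F) (j + 3)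
  refine le_trans (Nat.div_le_of_le_mul ?_) h
  set q := Fintype.card F
  set S := ∑ i ∈ Finset.range (j + 3), q ^ (2 * i + 1)
  rw [show j + 4 - 1 = j + 3 from rfl]
  have h1 : 1 ≤ q ^ (j + 4) := Nat.one_le_pow _ _ (by omega)
  have h2 : 1 ≤ q ^ 2 := Nat.one_le_pow _ _ (by omega)
  rw [show q ^ (2 * (j + 3) + 1) = q * q ^ (j + 3) * q ^ (j + 3) by ring] at hi
  rw [show q ^ (j + 4) = q * q ^ (j + 3) by ring] at *
  zify [h1, h2] at hi ⊢
  linarith [hi]

end Cfsg.Agent.S2345
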