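import Cfsg.Statements.S2346
import Cfsg.Agent.H53.OmLow.Final

set_option autoImplicit false
open Cfsg

namespace Cfsg.Agent.S2346

/-- For a finite field F with q elements, n ≥ 4, and a, b ∈ F with z₁² + a z₁z₂ + b z₂² anisotropic, every irreducible complex representation of degree at least 2 of Ω⁻_{2n}(F) (the commutator subgroup of the isometry group of x₁y₁ + ⋯ + x_{n−1}y_{n−1} + z₁² + a z₁z₂ + b z₂²) has degree at least (q^n + 1)(q^{n−1} − q)/(q² − 1). -/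
theorem result {F : Type*} [Field F] [Fintype F] (n : ℕ) (hn : 4 ≤ n) (a b : F) (hab : ∀ z₁ z₂ : F, z₁ ^ 2 + a * z₁ * z₂ + b * z₂ ^ 2 = 0 → z₁ = 0 ∧ z₂ = 0) :
    (∀ (k : ℕ) (ρ : Representation ℂ (Cfsg.Omega F (Cfsg.quadFormMinus (n - 1) F a b)) (Fin k → ℂ)), ρ.IsIrreducible → 2 ≤ k → (Fintype.card F ^ n + 1) * (Fintype.card F ^ (n - 1) - Fintype.card F) / (Fintype.card F ^ 2 - 1) ≤ k) := by
  intro k
  obtain ⟨j, rfl⟩ : ∃ j, n = j + 4 := ⟨n - 4, by omega⟩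
  rw [show j + 4 - 1 = j + 3 from rfl]
  intro ρ hρ hk
  have h := H53.OmLow.minus_bound hab j ρ hρ hk
  rw [Nat.card_eq_fintype_card] at h
  have hi := H53.OmLow.sum_odd_identity (Fintype.card F) (j + 3)
  set q := Fintype.card F
  have hq : 2 ≤ q := Fintype.one_lt_card
  set S := ∑ i ∈ Finset.range (j + 3), q ^ (2 * i + 1)
  refine Nat.div_le_of_le_mul ?_
  have h1 : q ≤ q ^ (j + 3) := Nat.le_self_pow (by omega) q
  have h2 : 1 ≤ q ^ 2 := Nat.one_le_pow _ _ (by omega)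
  have h2' : (0 : ℤ) ≤ (q : ℤ) ^ 2 - 1 := by
    have : (1 : ℤ) ≤ (q : ℤ) ^ 2 := by exact_mod_cast h2
    linarith
  rw [show q ^ (2 * (j + 3) + 1) = q * q ^ (j + 3) * q ^ (j + 3) by ring] at hi
  rw [show q ^ (j + 4) = q * q ^ (j + 3) by ring] at *
  zify [h1, h2] at hi h ⊢
  nlinarith [hi, mul_le_mul_of_nonneg_left h h2']

end Cfsg.Agent.S2346
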