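import Cfsg.Statements.S2354
import Cfsg.Agent.Suzuki.Laws

set_option autoImplicit false
open Cfsg

namespace Cfsg.Agent.S2354

/-- A non-trivial law holds in only finitely many Suzuki groups: for every non-trivial element w of the free group on countably many generators there is N such that for q = 2^(2m+1) with m ≥ N some substitution of elements of the Suzuki group over the field with q elements into w is not the identity. -/
theorem result (w : FreeGroup ℕ) (hw : w ≠ 1) :
    ∃ N : ℕ, ∀ (F : Type*) [Field F] [Fintype F] (m : ℕ), 1 ≤ m → N ≤ m →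
      Fintype.card F = 2 ^ (2 * m + 1) →
      ∃ f : ℕ → ↥(Cfsg.Lie.Sz F (2 ^ (m + 1))), FreeGroup.lift f w ≠ 1 := by
  refine ⟨w.toWord.length + 3, fun F _ _ m hm hN hF => ?_⟩
  have : Cfsg.Agent.Suzuki.SzField F m := ⟨hF, hm⟩
  obtain ⟨f, hf⟩ := Cfsg.Agent.Suzuki.exists_lift_ne_one (F := F) m w hw hN
  refine ⟨(Cfsg.Agent.Suzuki.lieEquiv m) ∘ f, fun h => hf ?_⟩
  have e := Cfsg.Agent.H53.lift_comp_hom (Cfsg.Agent.Suzuki.lieEquiv (F := F) m).toMonoidHom f w
  exact (Cfsg.Agent.Suzuki.lieEquiv m).injective (e.trans (h.trans (map_one _).symm))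

end Cfsg.Agent.S2354
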