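import Cfsg.Statements.S2355
import Cfsg.Agent.H53.UnitaryLaws

set_option autoImplicit false
open Cfsg

namespace Cfsg.Agent.S2355

open Cfsg.Agent.H53

theorem card_le_of_injective_matrix {H F : Type*} [Field F] [Finite F] {ι : Type*} [Fintype ι]
    (f : H → Matrix ι ι F) (hf : Function.Injective f) {b r : ℕ} (hb : Nat.card F ≤ b)
    (hr : Fintype.card ι ≤ r) : Nat.card H ≤ b ^ (r * r) := by
  have hb1 : 1 ≤ b := le_trans Nat.card_pos hb
  have h : Nat.card (Matrix ι ι F) = Nat.card F ^ (Fintype.card ι * Fintype.card ι) := by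
    show Nat.card (ι → ι → F) = _
    rw [Nat.card_fun, Nat.card_fun, ← pow_mul, Nat.card_eq_fintype_card (α := ι)]
  refine (Nat.card_le_card_of_injective f hf).trans ?_
  rw [h]
  exact (Nat.pow_le_pow_left hb _).trans (Nat.pow_le_pow_right hb1 (Nat.mul_le_mul hr hr))

/-- Reduce a law of the quotient of a finite group by its centre, and bound the quotient's order. -/
theorem law_and_card {G H : Type*} [Group G] [Group H] [Finite H] (e : G ≃* H ⧸ Subgroup.center H)
    {w : FreeGroup ℕ} (k : ℕ) (h : ∀ f : ℕ → G, FreeGroup.lift f w = 1) :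
    IsLaw (w * FreeGroup.of k * w⁻¹ * (FreeGroup.of k)⁻¹) H ∧ Nat.card G ≤ Nat.card H := by
  refine ⟨isLaw_comm_of_quotient_center _ le_rfl
    (IsLaw.of_injective (H := G) h e.symm.toMonoidHom e.symm.injective) k, ?_⟩
  rw [Nat.card_congr e.toEquiv]
  exact Nat.card_le_card_of_surjective _ (QuotientGroup.mk_surjective)

/-- A non-trivial law is satisfied by only finitely many finite simple groups that are alternating or classical, up to isomorphism: for every non-trivial element w of the free group on countably many generators there is a bound N such that every alternating group of degree ≥ 5 and every simple classical group (linear, symplectic, unitary or orthogonal, in this problem's sense) in which w is a law has order at most N. -/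
theorem result (w : FreeGroup ℕ) (hw : w ≠ 1) :
    ∃ N : ℕ, ∀ (G : Type*) [Group G] [Finite G],
      (Cfsg.IsAlternating G ∨ Cfsg.IsPSL G ∨ Cfsg.IsPSp G ∨ Cfsg.IsPSU G ∨ Cfsg.IsPOmegaOdd G ∨
          Cfsg.IsPOmegaPlus G ∨ Cfsg.IsPOmegaMinus G) →
      (∀ f : ℕ → G, FreeGroup.lift f w = 1) → Nat.card G ≤ N := by
  obtain ⟨k, hk⟩ := exists_fresh_comm w hw
  obtain ⟨NA, hA⟩ := exists_alternating_not_law w hw
  obtain ⟨NL, hL⟩ := exists_bound_SL.{0} _ hk
  obtain ⟨NU, hU⟩ := exists_bound_SU.{0} _ hk
  set B : ℕ := NA + NL + NU + 5 with hB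
  refine ⟨B.factorial + (B * B) ^ ((2 * B + 5) * (2 * B + 5)), fun G _ _ hG hlaw => ?_⟩
  have hBB : B ≤ B * B := Nat.le_mul_self B
  rcases hG with ⟨n, hn, ⟨e⟩⟩ | ⟨F, _, _, n, hn, -, ⟨e⟩⟩ | ⟨F, _, _, m, hm, -, ⟨e⟩⟩ |
    ⟨F, _, _, n, q, hq, hn, -, ⟨e⟩⟩ | ⟨F, _, _, m, hm, -, ⟨e⟩⟩ | ⟨F, _, _, m, hm, ⟨e⟩⟩ |
    ⟨F, _, _, m, a, b, hm, -, ⟨e⟩⟩
  · refine le_add_right ?_
    have h : n < B := by
      by_contra hc
      exact hA n (by omega) (IsLaw.of_injective (H := G) hlaw e.symm.toMonoidHom e.symm.injective)
    rw [Nat.card_congr e.toEquiv]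
    refine (Nat.card_le_card_of_injective _ Subtype.val_injective).trans ?_
    rw [Nat.card_perm, Nat.card_fin]
    exact Nat.factorial_le h.le
  · obtain ⟨h1, h2⟩ := law_and_card e k hlaw
    obtain ⟨h3, h4⟩ := hL F n hn h1.commutator
    refine le_add_left (h2.trans (card_le_of_injective_matrix (ι := Fin n) (fun x => x.1)
      Subtype.val_injective (by omega) (by simp; omega)))
  · obtain ⟨h1, h2⟩ := law_and_card e k hlaw
    obtain ⟨h3, h4⟩ := hL F m hm
      (h1.commutator.commutator_of_injective (hypSp m F) hypSp_injective)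
    refine le_add_left (h2.trans (card_le_of_injective_matrix (ι := Fin m ⊕ Fin m) (fun x => x.1)
      Subtype.val_injective (by omega) (by simp; omega)))
  · obtain ⟨h1, h2⟩ := law_and_card e k hlaw
    obtain ⟨h3, h4⟩ := hU F n q (by rw [Nat.card_eq_fintype_card, hq]) (by omega) h1
    refine le_add_left (h2.trans (card_le_of_injective_matrix (ι := Fin n) (fun x => x.1.1)
      (Subtype.val_injective.comp Subtype.val_injective) ?_ (by simp; omega)))
    rw [Nat.card_eq_fintype_card, hq, sq]
    exact Nat.mul_le_mul (by omega) (by omega)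
  · obtain ⟨h1, h2⟩ := law_and_card e k hlaw
    obtain ⟨h3, h4⟩ := hL F m (by omega)
      (h1.commutator_of_injective (hypOdd m F) hypOdd_injective)
    refine le_add_left (h2.trans (card_le_of_injective_matrix (ι := Unit ⊕ (Fin m ⊕ Fin m))
      (fun x => x.1.1.1) (Units.val_injective.comp
        (Subtype.val_injective.comp Subtype.val_injective)) (by omega) (by simp; omega)))
  · obtain ⟨h1, h2⟩ := law_and_card e k hlaw
    obtain ⟨h3, h4⟩ := hL F m (by omega)
      (h1.commutator_of_injective (hypPlus m F) hypPlus_injective)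
    refine le_add_left (h2.trans (card_le_of_injective_matrix (ι := Fin m ⊕ Fin m)
      (fun x => x.1.1.1) (Units.val_injective.comp
        (Subtype.val_injective.comp Subtype.val_injective)) (by omega) (by simp; omega)))
  · obtain ⟨h1, h2⟩ := law_and_card e k hlaw
    obtain ⟨h3, h4⟩ := hL F (m - 1) (by omega)
      (h1.commutator_of_injective (hypMinus (m - 1) F a b) hypMinus_injective)
    refine le_add_left (h2.trans (card_le_of_injective_matrix
      (ι := (Fin (m - 1) ⊕ Fin (m - 1)) ⊕ Fin 2)
      (fun x => x.1.1.1) (Units.val_injective.comp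
        (Subtype.val_injective.comp Subtype.val_injective)) (by omega) (by simp; omega)))

end Cfsg.Agent.S2355
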