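import Cfsg.Statements.S2358
import Cfsg.Agent.H38.Ree.Tori
-- import your own Cfsg.Agent.* helpers here

set_option autoImplicit false
open Cfsg

namespace Cfsg.Agent.S2358

/-- Let R be the small Ree group over the field with q = 3^(2m+1) ≥ 27 elements. If d divides one of (q−1)/2, (q+1)/4, q − 3^(m+1) + 1 or q + 3^(m+1) + 1, then any two cyclic subgroups of R of order d are conjugate in R. -/
theorem result {K : Type*} [Field K] [Fintype K] {m : ℕ} (hm : 1 ≤ m)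
    (hK : Fintype.card K = 3 ^ (2 * m + 1)) (d : ℕ)
    (hd : d ∣ (3 ^ (2 * m + 1) - 1) / 2 ∨ d ∣ (3 ^ (2 * m + 1) + 1) / 4 ∨ d ∣ 3 ^ (2 * m + 1) - 3 ^ (m + 1) + 1 ∨ d ∣ 3 ^ (2 * m + 1) + 3 ^ (m + 1) + 1)
    (A B : Subgroup ↥(Cfsg.Lie.twistedG2 K (3 ^ m))) (hA : IsCyclic A) (hB : IsCyclic B)
    (hAd : Nat.card A = d) (hBd : Nat.card B = d) :
    ∃ g : ↥(Cfsg.Lie.twistedG2 K (3 ^ m)), B = A.map (MulAut.conj g).toMonoidHom := by
  obtain ⟨P, he⟩ := Cfsg.Agent.H38.Ree.exists_par hK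
  have hq := Cfsg.Agent.H38.Ree.four_lt_card hm hK
  have hK' : Nat.card K = 3 ^ (2 * m + 1) := by rw [Nat.card_eq_fintype_card, hK]
  have h3 : 3 * P.e = 3 ^ (m + 1) := by rw [he, pow_succ']
  rw [← hK', ← h3] at hd
  revert A B
  rw [← he]
  intro A B hA hB hAd hBd
  haveI : Finite ↥(Cfsg.Lie.twistedG2 K P.e) := Subtype.finite
  have key : ∀ kn : ℕ × ℕ, kn ∈ ({((Nat.card K - 1) / 2, 2 * (Nat.card K - 1)),
      ((Nat.card K + 1) / 4, 6 * (Nat.card K + 1)),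
      (Nat.card K - 3 * P.e + 1, 6 * (Nat.card K - 3 * P.e + 1)),
      (Nat.card K + 3 * P.e + 1, 6 * (Nat.card K + 3 * P.e + 1))} : Set (ℕ × ℕ)) →
      d ∣ kn.1 → ∃ g : ↥(Cfsg.Lie.twistedG2 K P.e), B = A.map (MulAut.conj g).toMonoidHom := by
    intro kn hkn hdk
    obtain ⟨T, h1, -, -⟩ := P.four_tori hq kn hkn
    exact h1.conj_of_card hA hB hdk hAd hBd
  rcases hd with h | h | h | h
  · exact key _ (Or.inl rfl) h
  · exact key _ (Or.inr (Or.inl rfl)) h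
  · exact key _ (Or.inr (Or.inr (Or.inl rfl))) h
  · exact key _ (Or.inr (Or.inr (Or.inr rfl))) h

end Cfsg.Agent.S2358
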