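import Cfsg.Statements.S2361
import Cfsg.Agent.H38.Ree.Solvable
import Cfsg.Agent.S1158
-- import your own Cfsg.Agent.* helpers here

set_option autoImplicit false
open Cfsg

namespace Cfsg.Agent.S2361

/-- Let R be the small Ree group over the field with q = 3^(2m+1) ≥ 27 elements. Every solvable subgroup of R lies in the normalizer of a Sylow 2-subgroup, of a Sylow 3-subgroup, or of a cyclic subgroup of order (q−1)/2, (q+1)/4, q − 3^(m+1) + 1 or q + 3^(m+1) + 1. -/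
theorem result {K : Type*} [Field K] [Fintype K] {m : ℕ} (hm : 1 ≤ m)
    (hK : Fintype.card K = 3 ^ (2 * m + 1)) (S : Subgroup ↥(Cfsg.Lie.twistedG2 K (3 ^ m)))
    (hS : Group.IsSolvable S) :
    ∃ A : Subgroup ↥(Cfsg.Lie.twistedG2 K (3 ^ m)), S ≤ Subgroup.normalizer (A : Set ↥(Cfsg.Lie.twistedG2 K (3 ^ m))) ∧
      ((∃ P : Sylow 2 ↥(Cfsg.Lie.twistedG2 K (3 ^ m)), A = P) ∨
       (∃ P : Sylow 3 ↥(Cfsg.Lie.twistedG2 K (3 ^ m)), A = P) ∨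
       (IsCyclic A ∧ (Nat.card A = (3 ^ (2 * m + 1) - 1) / 2 ∨ Nat.card A = (3 ^ (2 * m + 1) + 1) / 4 ∨
          Nat.card A = 3 ^ (2 * m + 1) - 3 ^ (m + 1) + 1 ∨ Nat.card A = 3 ^ (2 * m + 1) + 3 ^ (m + 1) + 1))) := by
  obtain ⟨P, he⟩ := Cfsg.Agent.H38.Ree.exists_par hK
  have hq := Cfsg.Agent.H38.Ree.four_lt_card hm hK
  have hT := S1158.result hm hK
  revert S
  rw [← he] at hT ⊢
  intro S hS
  refine P.covered_solvable (N := ({(3 ^ (2 * m + 1) - 1) / 2, (3 ^ (2 * m + 1) + 1) / 4,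
      3 ^ (2 * m + 1) - 3 ^ (m + 1) + 1, 3 ^ (2 * m + 1) + 3 ^ (m + 1) + 1} : Set ℕ))
    ⟨fun r hr h3 hd => P.dvd_orders hr h3 he hd, fun n hn => ?_⟩ hq S hS
  rcases hn with rfl | rfl | rfl | rfl
  · obtain ⟨A, a, b, -, c⟩ := hT _ (Or.inl rfl); exact ⟨A, a, b, c⟩
  · obtain ⟨A, a, b, -, c⟩ := hT _ (Or.inr (Or.inl rfl)); exact ⟨A, a, b, c⟩
  · obtain ⟨A, a, b, -, c⟩ := hT _ (Or.inr (Or.inr (Or.inl rfl))); exact ⟨A, a, b, c⟩
  · obtain ⟨A, a, b, -, c⟩ := hT _ (Or.inr (Or.inr (Or.inr rfl))); exact ⟨A, a, b, c⟩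

end Cfsg.Agent.S2361
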