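import Cfsg.Statements.S2362
import Cfsg.Agent.H53.OrthoTorus
import Cfsg.Agent.Linear.TwoSL
import Cfsg.Agent.H55.SpOrders
import Cfsg.Agent.Arith.LargePrimDiv

set_option autoImplicit false
open Cfsg

namespace Cfsg.Agent.S2362

/-- Let F be a finite field of odd order and n ≥ 3. The simple orthogonal group PΩ(2n+1, F) (type B_n) and the projective symplectic group PSp(2n, F) (type C_n), which have the same order, do not have the same set of element orders. -/
theorem result {F : Type*} [Field F] [Fintype F] (hodd : Odd (Fintype.card F)) (n : ℕ) (hn : 3 ≤ n) :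
    Set.range (orderOf : Cfsg.POmega F (Cfsg.quadFormOdd n F) → ℕ) ≠ Set.range (orderOf : Cfsg.PSp n F → ℕ) := by
  classical
  obtain ⟨p, hchar⟩ := CharP.exists F
  have hpp : Fact p.Prime := ⟨CharP.char_is_prime F p⟩
  have h2 : (2 : F) ≠ 0 := Linear.two_ne_zero_of_odd_card hodd
  have hp : p ≠ 2 := fun e => h2 (by subst e; exact_mod_cast CharP.cast_eq_zero F 2)
  have hm : 2 ≤ n - 1 := by omega
  -- the element in the symplectic group
  have : NeZero (2 * (n - 1)) := ⟨by omega⟩
  obtain ⟨P, w, hw, hwo⟩ := H55.exists_plus_alg (F := F) p hp (n - 1) (by omega)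
  obtain ⟨hcop, -, -, -⟩ := H55.coprime_pm (F := F) p hp (n - 1) (by omega)
  obtain ⟨y, hy⟩ := H55.exists_block (n := n) p P hp (e := n - 1) (by omega)
    (FiniteField.finrank_extension F p _) w hw _ hwo hcop
  intro hrange
  have hclog : 0 < Nat.clog p (2 * (n - (n - 1))) := Nat.clog_pos hpp.out.one_lt (by omega)
  have hdvd : p * (Nat.card F ^ (n - 1) + 1) ∣ orderOf y :=
    (show p * (Nat.card F ^ (n - 1) + 1) ∣
        (Nat.card F ^ (n - 1) + 1) * p ^ Nat.clog p (2 * (n - (n - 1))) by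
      rw [mul_comm]; exact mul_dvd_mul_left _ (dvd_pow_self p hclog.ne')).trans hy
  have hpos : 0 < orderOf y := orderOf_pos y
  have hy' : p * (Nat.card F ^ (n - 1) + 1) ∈ Set.range (orderOf : Cfsg.PSp n F → ℕ) := by
    obtain ⟨t, ht⟩ := hdvd
    refine ⟨y ^ t, ?_⟩
    rw [orderOf_pow_of_dvd (fun h0 => by rw [h0, mul_zero] at ht; omega) ⟨_, ht.trans (mul_comm _ _)⟩, ht,
      Nat.mul_div_cancel _ (Nat.pos_of_ne_zero (fun h0 => by rw [h0, mul_zero] at ht; omega))]
  rw [← hrange] at hy'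
  obtain ⟨z, hz⟩ := hy'
  obtain ⟨g, hg⟩ := QuotientGroup.mk'_surjective _ z
  -- lift to an element of the same order
  have hgd : orderOf z ∣ orderOf g := hg ▸ orderOf_map_dvd _ g
  obtain ⟨t, ht⟩ := hgd
  have hgpos : 0 < orderOf g := orderOf_pos g
  have hgo : orderOf (g ^ t) = p * (Nat.card F ^ (n - 1) + 1) := by
    rw [← hz, orderOf_pow_of_dvd (fun h0 => by rw [h0, mul_zero] at ht; omega) ⟨_, ht.trans (mul_comm _ _)⟩,
      ht, Nat.mul_div_cancel _ (Nat.pos_of_ne_zero (fun h0 => by rw [h0, mul_zero] at ht; omega))]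
  obtain ⟨r, hr⟩ := Arith.exists_isPPD (a := Nat.card F) (n := 2 * (n - 1)) Finite.one_lt_card
    (by omega) (by
      rintro ⟨h, -⟩
      rw [Nat.card_eq_fintype_card] at h
      rw [h] at hodd
      exact absurd hodd (by decide))
    (by omega)
  refine H53.no_torus_unipotent p (Orthogonal.formOdd_nondeg F n h2) h2 hm
    (by rw [Orthogonal.finrank_formOdd]; omega) hr
    (Orthogonal.toO (Orthogonal.formOdd F n) ((g ^ t : Cfsg.Omega F (Cfsg.quadFormOdd n F)) :
      Cfsg.isometryGroup F (Cfsg.quadFormOdd n F))) ?_ ?_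
  · exact (Orthogonal.mem_omega_iff (Orthogonal.formOdd F n) _).1 (g ^ t).2
  · refine ((Orthogonal.toO (Orthogonal.formOdd F n)).orderOf_eq _).trans ?_
    exact (Subgroup.orderOf_coe (g ^ t)).trans hgo

end Cfsg.Agent.S2362
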