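import Cfsg.Statements.S2364
import Mathlib
import Cfsg.Agent.Linear.Order
import Cfsg.Agent.H99.UnipotentCent

set_option autoImplicit false
open Cfsg

namespace Cfsg.Agent.S2364

open Matrix

lemma dvd_card_SL {F : Type*} [Field F] [Fintype F] (m : ℕ) (hm : 2 ≤ m) (r : ℕ) (hr : r.Prime)
    (h : (r ∣ Fintype.card F) ∨ ∃ j, 1 ≤ j ∧ j ≤ m ∧ r ∣ Fintype.card F ^ j - 1) :
    r ∣ Nat.card (Matrix.SpecialLinearGroup (Fin m) F) := by
  obtain ⟨k, rfl⟩ : ∃ k, m = k + 1 := ⟨m - 1, by omega⟩
  have hq : 2 ≤ Fintype.card F := Fintype.one_lt_card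
  have hmul := Cfsg.Agent.Linear.card_SL_mul (F := F) (k + 1) (by omega)
  set q := Fintype.card F
  have hprod : Nat.card (Matrix.SpecialLinearGroup (Fin (k + 1)) F) =
      (∏ i : Fin k, (q ^ (k + 1) - q ^ (i : ℕ))) * q ^ k := by
    rw [Fin.prod_univ_castSucc, Fin.val_last] at hmul
    simp only [Fin.val_castSucc] at hmul
    have e : q ^ (k + 1) - q ^ k = (q - 1) * q ^ k := by
      rw [Nat.sub_one_mul, pow_succ, mul_comm]
    rw [e, mul_left_comm] at hmul
    exact Nat.eq_of_mul_eq_mul_left (by omega) hmul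
  rw [hprod]
  rcases h with h | ⟨j, h1, h2, h3⟩
  · exact dvd_mul_of_dvd_right (dvd_pow h (by omega)) _
  · obtain ⟨j', hj1, hj2, hj3⟩ : ∃ j', 2 ≤ j' ∧ j' ≤ k + 1 ∧ r ∣ q ^ j' - 1 := by
      rcases Nat.lt_or_ge j 2 with hj | hj
      · refine ⟨2, le_rfl, by omega, ?_⟩
        have : j = 1 := by omega
        subst this
        rw [pow_one] at h3
        exact h3.trans (by simpa using Nat.sub_dvd_pow_sub_pow q 1 2)
      · exact ⟨j, hj, h2, h3⟩
    refine dvd_mul_of_dvd_left (Dvd.dvd.trans ?_ (Finset.dvd_prod_of_mem _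
      (Finset.mem_univ (⟨k + 1 - j', by omega⟩ : Fin k)))) _
    have e : q ^ (k + 1) - q ^ (k + 1 - j') = q ^ (k + 1 - j') * (q ^ j' - 1) := by
      rw [Nat.mul_sub, ← pow_add, mul_one, Nat.sub_add_cancel hj2]
    rw [e]
    exact dvd_mul_of_dvd_right hj3 _

/-- The centre has no elements of order `p`. -/
lemma center_pow_injective {F : Type*} [Field F] [Fintype F] (p : ℕ) [Fact p.Prime] [CharP F p]
    {n : ℕ} : Function.Injective
      (fun c : Subgroup.center (Matrix.SpecialLinearGroup (Fin n) F) => c ^ p) := by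
  intro a b h
  obtain ⟨x, -, hx⟩ := Matrix.SpecialLinearGroup.mem_center_iff.mp a.2
  obtain ⟨y, -, hy⟩ := Matrix.SpecialLinearGroup.mem_center_iff.mp b.2
  apply Subtype.ext
  apply Subtype.ext
  have h' := congrArg (fun z : Subgroup.center (Matrix.SpecialLinearGroup (Fin n) F) => z.1.1) h
  simp only [SubmonoidClass.coe_pow, Matrix.SpecialLinearGroup.coe_pow] at h'
  rw [← hx, ← hy, ← map_pow, ← map_pow] at h'
  rcases Nat.eq_zero_or_pos n with rfl | hn
  · ext i; exact i.elim0
  · haveI : Nonempty (Fin n) := ⟨⟨0, hn⟩⟩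
    have := Matrix.scalar_inj.mp h'
    rw [← hx, ← hy, frobenius_inj F p (show frobenius F p x = frobenius F p y by simpa [frobenius_def] using this)]

/-- Let F be a finite field of characteristic p, n ≥ 4, and let a, b be commuting elements of PSL(n, F) with a of order p. Then every prime divisor of the order of b divides the order of SL(n − 2, F). -/
theorem result {F : Type*} [Field F] [Fintype F] (p : ℕ) [Fact p.Prime] [CharP F p] (n : ℕ) (hn : 4 ≤ n)
    (a b : Matrix.ProjectiveSpecialLinearGroup (Fin n) F) (ha : orderOf a = p) (hab : Commute a b) :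
    (orderOf b).primeFactors ⊆ (Nat.card (Matrix.SpecialLinearGroup (Fin (n - 2)) F)).primeFactors := by
  classical
  obtain ⟨A, rfl⟩ := QuotientGroup.mk_surjective a
  obtain ⟨B, rfl⟩ := QuotientGroup.mk_surjective b
  intro r hr
  obtain ⟨hrp, hrd, -⟩ := Nat.mem_primeFactors.mp hr
  refine Nat.mem_primeFactors.mpr ⟨hrp, dvd_card_SL (n - 2) (by omega) r hrp ?_, Nat.card_pos.ne'⟩
  by_cases hrq : r ∣ Fintype.card F
  · exact Or.inl hrq
  right
  set Z := Subgroup.center (Matrix.SpecialLinearGroup (Fin n) F)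
  have hp0 := (Fact.out : p.Prime)
  -- a lift of order p
  have hAp : A ^ p ∈ Z := by
    rw [← QuotientGroup.eq_one_iff (N := Z), QuotientGroup.mk_pow, ← ha, pow_orderOf_eq_one]
  obtain ⟨c, hc⟩ := (Finite.injective_iff_surjective.mp (center_pow_injective (n := n) (F := F) p))
    ⟨A ^ p, hAp⟩
  have hc' : (c : Matrix.SpecialLinearGroup (Fin n) F) ^ p = A ^ p := congrArg Subtype.val hc
  set u := A * (c : Matrix.SpecialLinearGroup (Fin n) F)⁻¹ with hu
  have hcA : Commute A (c : Matrix.SpecialLinearGroup (Fin n) F)⁻¹ :=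
    Subgroup.mem_center_iff.mp (Z.inv_mem c.2) A
  have hup : u ^ p = 1 := by rw [hu, hcA.mul_pow, inv_pow, hc', mul_inv_cancel]
  have humk : (QuotientGroup.mk u : Matrix.ProjectiveSpecialLinearGroup (Fin n) F) =
      QuotientGroup.mk A := by
    rw [QuotientGroup.eq, hu, _root_.mul_inv_rev, inv_inv, mul_assoc, inv_mul_cancel, mul_one]
    exact c.2
  have hu1 : u ≠ 1 := by
    intro h
    rw [← humk, h, QuotientGroup.mk_one, orderOf_one] at ha
    exact hp0.one_lt.ne ha
  have hw : B * u * B⁻¹ * u⁻¹ ∈ Z := by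
    rw [← QuotientGroup.eq_one_iff (N := Z)]
    rw [QuotientGroup.mk_mul, QuotientGroup.mk_mul, QuotientGroup.mk_mul, QuotientGroup.mk_inv,
      QuotientGroup.mk_inv, humk, hab.symm.eq, mul_inv_cancel_right, mul_inv_cancel]
  have hBu : Commute B u := by
    have h1 : (⟨_, hw⟩ : Z) = 1 := by
      refine center_pow_injective (n := n) (F := F) p (Subtype.ext ?_)
      simp only [SubmonoidClass.coe_pow, one_pow, OneMemClass.coe_one]
      have hwu : Commute (B * u * B⁻¹ * u⁻¹) u := (Subgroup.mem_center_iff.mp hw u).symm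
      have h2 : (B * u * B⁻¹ * u⁻¹ * u) ^ p = 1 := by
        rw [inv_mul_cancel_right, conj_pow, hup, mul_one, mul_inv_cancel]
      rwa [hwu.mul_pow, hup, mul_one] at h2
    have h3 : B * u * B⁻¹ * u⁻¹ = 1 := congrArg Subtype.val h1
    exact mul_inv_eq_iff_eq_mul.mp (mul_inv_eq_one.mp h3)
  have hrB : r ∣ orderOf B := hrd.trans (orderOf_map_dvd (QuotientGroup.mk' Z) B)
  set g := B ^ (orderOf B / r) with hg
  have hgo : orderOf g = r := by
    rw [hg, orderOf_pow_orderOf_div (orderOf_pos B).ne' hrB]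
  let e := Matrix.toLinAlgEquiv' (R := F) (n := Fin n)
  have hN : IsNilpotent ((u : Matrix (Fin n) (Fin n) F) - 1) := by
    refine ⟨p, ?_⟩
    haveI : Nonempty (Fin n) := ⟨⟨0, by omega⟩⟩
    rw [sub_pow_char_of_commute (p := p) (Commute.one_right _), ← Matrix.SpecialLinearGroup.coe_pow, hup,
      one_pow, Matrix.SpecialLinearGroup.coe_one, sub_self]
  have hcomm : Commute ((u : Matrix (Fin n) (Fin n) F) - 1) (g : Matrix (Fin n) (Fin n) F) := by
    refine Commute.sub_left ?_ (Commute.one_left _)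
    exact congrArg Subtype.val (hBu.symm.pow_right (orderOf B / r)).eq
  obtain ⟨j, hj⟩ := Cfsg.Agent.H99.exists_dvd_of_commute_nilpotent (V := Fin n → F)
    (e ((u : Matrix (Fin n) (Fin n) F) - 1)) (e (g : Matrix (Fin n) (Fin n) F)) (hN.map e)
    (fun h => hu1 (Subtype.ext (sub_eq_zero.mp (e.injective (h.trans (map_zero e).symm)))))
    (hcomm.map e) hrp
    (by rw [← map_pow, ← Matrix.SpecialLinearGroup.coe_pow, ← hgo, pow_orderOf_eq_one,
      Matrix.SpecialLinearGroup.coe_one, map_one])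
    (fun h => by
      have : g = 1 := Subtype.ext (e.injective (h.trans (map_one e).symm))
      rw [this, orderOf_one] at hgo
      exact hrp.one_lt.ne hgo)
    hrq (by rw [Module.finrank_fin_fun]; omega)
  rw [Module.finrank_fin_fun] at hj
  exact ⟨j, hj⟩

end Cfsg.Agent.S2364
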