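import Cfsg.Statements.S2366
import Cfsg.Agent.H53.PSUThree

set_option autoImplicit false
open Cfsg

namespace Cfsg.Agent.S2366

/-- The set of element orders of PSU(3, q) for an odd prime power q = p^n: writing d = gcd(3, q + 1), a positive integer is the order of some element exactly when it divides one of q + 1, p(q + 1)/d, (q² − 1)/d, (q² − q + 1)/d. -/
theorem result {F : Type*} [Field F] [Fintype F] (p : ℕ) [Fact p.Prime] [CharP F p] (hp : p ≠ 2) (q : ℕ) (hF : Fintype.card F = q ^ 2) :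
    Set.range (orderOf : Cfsg.PSU 3 F q → ℕ) =
      {s : ℕ | s ∣ q + 1} ∪ {s : ℕ | s ∣ p * (q + 1) / Nat.gcd 3 (q + 1)} ∪
        {s : ℕ | s ∣ (q ^ 2 - 1) / Nat.gcd 3 (q + 1)} ∪ {s : ℕ | s ∣ (q ^ 2 - q + 1) / Nat.gcd 3 (q + 1)} := by
  have hpq : p ∣ q := by
    obtain ⟨m, -, hm⟩ := FiniteField.card F p
    have : p ∣ q ^ 2 := by rw [← hF, hm]; exact dvd_pow_self p m.ne_zero
    exact (Fact.out : p.Prime).dvd_of_dvd_pow this
  have hq0 : q ≠ 0 := by
    rintro rfl
    simp at hF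
  have hq : 3 ≤ q := by
    have h1 := Nat.le_of_dvd (Nat.pos_of_ne_zero hq0) hpq
    have h2 := (Fact.out : p.Prime).two_le
    omega
  ext s
  simp only [Set.mem_union, Set.mem_ofPred_eq, Set.mem_range]
  constructor
  · rintro ⟨x, rfl⟩
    obtain ⟨H, hH, hdvd⟩ := H53.psu3_upper p hp hq hF x
    simp only [H53.psu3Orders, Set.mem_insert_iff, Set.mem_singleton_iff] at hH
    rcases hH with rfl | rfl | rfl | rfl <;> tauto
  · intro hs
    obtain ⟨H, hH, hsH⟩ : ∃ H ∈ H53.psu3Orders p q, s ∣ H := by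
      rcases hs with ((h | h) | h) | h <;> exact ⟨_, by simp [H53.psu3Orders], h⟩
    obtain ⟨y, hy⟩ := H53.psu3_lower p hq hpq hF hH
    exact ⟨y ^ (orderOf y / s), orderOf_pow_orderOf_div (orderOf_pos y).ne' (hsH.trans hy)⟩


end Cfsg.Agent.S2366
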