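import Cfsg.Statements.S2367
import Mathlib.Data.Nat.Choose.Factorization

set_option autoImplicit false
open Cfsg

namespace Cfsg.Agent.S2367

open Finset Nat

theorem div_add_div_le_factorization {n p : ℕ} (hp : p.Prime) :
    n / p + n / p ^ 2 ≤ (n)!.factorization p := by
  rw [Nat.factorization_factorial hp (b := Nat.log p n + 3) (by omega)]
  calc n / p + n / p ^ 2 = ∑ i ∈ ({1, 2} : Finset ℕ), n / p ^ i := by simp
    _ ≤ _ := by
      refine Finset.sum_le_sum_of_subset fun i hi => ?_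
      simp only [Finset.mem_insert, Finset.mem_singleton] at hi
      simp only [Finset.mem_Ico]
      omega

theorem cube_lt_two_pow : ∀ p : ℕ, 5 ≤ p → p ^ 3 < 2 ^ (2 * p - 1) := by
  intro p hp
  induction p, hp using Nat.le_induction with
  | base => norm_num
  | succ p hp ih =>
    have h : 2 ^ (2 * (p + 1) - 1) = 4 * 2 ^ (2 * p - 1) := by
      rw [show 2 * (p + 1) - 1 = (2 * p - 1) + 2 by omega, pow_add]; ring
    rw [h]
    nlinarith [mul_le_mul_of_nonneg_left hp (Nat.zero_le (p * p)), Nat.mul_le_mul hp hp]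

theorem alternating_case {n p : ℕ} (hn : 5 ≤ n) (hp : p.Prime) (hodd : p ≠ 2)
    (h3 : ((n)! / 2).factorization p = 3) : p ^ 3 < 2 ^ ((n)! / 2).factorization 2 := by
  have h2 : 2 ∣ (n)! := Nat.dvd_factorial (by norm_num) (by omega)
  rw [Nat.factorization_div h2] at h3 ⊢
  simp only [Finsupp.coe_tsub, Pi.sub_apply] at h3 ⊢
  rw [Nat.prime_two.factorization] at h3 ⊢
  simp only [Finsupp.single_apply, if_neg (Ne.symm hodd), Nat.sub_zero, if_true] at h3 ⊢
  have hv2 := div_add_div_le_factorization (n := n) Nat.prime_two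
  have hvp := div_add_div_le_factorization (n := n) hp
  have hp3 : 3 ≤ p := by have := hp.two_le; omega
  have hlt : n < p ^ 2 := by
    by_contra hc
    push Not at hc
    have h4 : p ≤ n / p := by rw [Nat.le_div_iff_mul_le hp.pos, ← sq]; exact hc
    have h5 : 1 ≤ n / p ^ 2 := Nat.div_pos hc (pow_pos hp.pos 2)
    omega
  have heq : n / p = 3 := by
    rw [Nat.factorization_factorial hp (b := 2) (Nat.log_lt_of_lt_pow (by omega) hlt)] at h3
    simpa using h3
  have h3p : 3 * p ≤ n := by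
    have := Nat.div_mul_le_self n p
    rw [heq] at this
    exact this
  have h5 : 5 ≤ p := by
    rcases eq_or_ne p 3 with rfl | h
    · omega
    · rcases eq_or_ne p 4 with rfl | h'
      · norm_num at hp
      · omega
  calc p ^ 3 < 2 ^ (2 * p - 1) := cube_lt_two_pow p h5
    _ ≤ 2 ^ ((n)!.factorization 2 - 1) := Nat.pow_le_pow_right (by norm_num) (by omega)

theorem sporadic_case (N a : ℕ) (L : List ℕ) (p : ℕ) (hp : p.Prime) (h3 : N.factorization p = 3)
    (hN0 : N ≠ 0) (hodd : p ≠ 2) (ha : 2 ^ a ∣ N) (hL : ∀ q ∈ L, q.Prime)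
    (hdiv : N ∣ (L.map (fun q => q ^ 64)).prod)
    (hcheck : ∀ q ∈ L, q ≠ 2 → q ^ 3 ∣ N → ¬ q ^ 4 ∣ N → q ^ 3 < 2 ^ a) :
    p ^ 3 < 2 ^ N.factorization 2 := by
  have hmem : p ∈ L := by
    have h1 : p ∣ N := Nat.dvd_of_factorization_pos (by omega)
    obtain ⟨x, hx, hpx⟩ := (Prime.dvd_prod_iff hp.prime).mp (h1.trans hdiv)
    obtain ⟨q, hq, rfl⟩ := List.mem_map.mp hx
    rwa [(Nat.prime_dvd_prime_iff_eq hp (hL q hq)).mp (hp.dvd_of_dvd_pow hpx)]
  refine lt_of_lt_of_le (hcheck p hmem hodd ?_ ?_) (Nat.pow_le_pow_right (by norm_num)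
    ((Nat.prime_two.pow_dvd_iff_le_factorization hN0).mp ha))
  · rw [hp.pow_dvd_iff_le_factorization hN0]; omega
  · rw [hp.pow_dvd_iff_le_factorization hN0]; omega

/-- Let G be an alternating group of degree at least 5 or a simple group with the order of one of the 26 sporadic groups, and let p be an odd prime such that p³ is the exact power of p dividing the order of G. Then p³ is less than the 2-part of the order of G. -/
theorem result {G : Type*} [Group G] [Finite G] (hG : Cfsg.IsAlternating G ∨ Cfsg.IsSporadic G)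
    (p : ℕ) (hp : p.Prime) (hodd : p ≠ 2) (h3 : (Nat.card G).factorization p = 3) :
    p ^ 3 < 2 ^ (Nat.card G).factorization 2 := by
  rcases hG with ⟨n, hn, ⟨e⟩⟩ | hS
  · have : Nontrivial (Fin n) := Fin.nontrivial_iff_two_le.mpr (by omega)
    rw [Nat.card_congr e.toEquiv, nat_card_alternatingGroup, Nat.card_fin] at h3 ⊢
    exact alternating_case hn hp hodd h3
  · unfold IsSporadic IsM11 IsM12 IsM22 IsM23 IsM24 IsJ1 IsJ2 IsJ3 IsJ4 IsCo1 IsCo2 IsCo3 IsFi22
      IsFi23 IsFi24' IsHS IsMcL IsHe IsRu IsSuz IsON IsHN IsLy IsTh IsB IsM at hS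
    have key : ∀ (N a : ℕ) (L : List ℕ), Nat.card G = N → N ≠ 0 → 2 ^ a ∣ N →
        (∀ q ∈ L, q.Prime) → N ∣ (L.map (fun q => q ^ 64)).prod →
        (∀ q ∈ L, q ≠ 2 → q ^ 3 ∣ N → ¬ q ^ 4 ∣ N → q ^ 3 < 2 ^ a) →
        p ^ 3 < 2 ^ (Nat.card G).factorization 2 := by
      intro N a L hN h0 ha hL hdiv hcheck
      rw [hN] at h3 ⊢
      exact sporadic_case N a L p hp h3 h0 hodd ha hL hdiv hcheck
    have hpr : ∀ q ∈ [2, 3, 5, 7, 11, 13, 17, 19, 23, 29, 31, 37, 41, 43, 47, 59, 67, 71],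
        Nat.Prime q := by simp only [List.forall_mem_cons]; norm_num
    rcases hS with ⟨-, h⟩ | ⟨-, h⟩ | ⟨-, h⟩ | ⟨-, h⟩ | ⟨-, h⟩ | ⟨-, h⟩ | ⟨-, h⟩ | ⟨-, h⟩ | ⟨-, h⟩ |
      ⟨-, h⟩ | ⟨-, h⟩ | ⟨-, h⟩ | ⟨-, h⟩ | ⟨-, h⟩ | ⟨-, h⟩ | ⟨-, h⟩ | ⟨-, h⟩ | ⟨-, h⟩ | ⟨-, h⟩ |
      ⟨-, h⟩ | ⟨-, h⟩ | ⟨-, h⟩ | ⟨-, h⟩ | ⟨-, h⟩ | ⟨-, h⟩ | ⟨-, h⟩
    all_goals first
      | exact key _ 3 _ h (by norm_num) (by decide +kernel) hpr (by decide +kernel) (by decide +kernel)
      | exact key _ 4 _ h (by norm_num) (by decide +kernel) hpr (by decide +kernel) (by decide +kernel)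
      | exact key _ 6 _ h (by norm_num) (by decide +kernel) hpr (by decide +kernel) (by decide +kernel)
      | exact key _ 7 _ h (by norm_num) (by decide +kernel) hpr (by decide +kernel) (by decide +kernel)
      | exact key _ 9 _ h (by norm_num) (by decide +kernel) hpr (by decide +kernel) (by decide +kernel)
      | exact key _ 14 _ h (by norm_num) (by decide +kernel) hpr (by decide +kernel) (by decide +kernel)
      | exact key _ 21 _ h (by norm_num) (by decide +kernel) hpr (by decide +kernel) (by decide +kernel)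

end Cfsg.Agent.S2367
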