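import Cfsg.Statements.S2368
import Mathlib.LinearAlgebra.Matrix.CharP
import Mathlib.LinearAlgebra.Matrix.Charpoly.Coeff

set_option autoImplicit false
open Cfsg

namespace Cfsg.Agent.S2368

open Matrix

/-- The superdiagonal nilpotent matrix. -/
def shiftMat (m : ℕ) (F : Type*) [Field F] : Matrix (Fin m) (Fin m) F :=
  Matrix.of fun i j => if i.val + 1 = j.val then 1 else 0

theorem shiftMat_pow (m : ℕ) (F : Type*) [Field F] (k : ℕ) (i j : Fin m) :
    (shiftMat m F ^ k) i j = if i.val + k = j.val then 1 else 0 := by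
  induction k generalizing j with
  | zero => simp [Matrix.one_apply, Fin.ext_iff]
  | succ k ih =>
    rw [pow_succ, Matrix.mul_apply]
    simp only [ih]
    simp only [shiftMat, Matrix.of_apply]
    by_cases h : i.val + (k + 1) = j.val
    · have hlt : i.val + k < m := by have := j.isLt; omega
      rw [if_pos h, Finset.sum_eq_single ⟨i.val + k, hlt⟩]
      · simp; omega
      · intro l _ hl
        rw [Ne, Fin.ext_iff] at hl
        rw [if_neg (by simp at hl ⊢; omega), zero_mul]
      · simp
    · rw [if_neg h]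
      refine Finset.sum_eq_zero fun l _ => ?_
      split_ifs <;> simp
      omega

theorem pow_eq_zero_of_isNilpotent {m : ℕ} {F : Type*} [Field F] {N : Matrix (Fin m) (Fin m) F}
    (h : IsNilpotent N) : N ^ m = 0 := by
  have h1 := Matrix.aeval_self_charpoly N
  have h2 : N.charpoly = Polynomial.X ^ m := by
    have h3 := Matrix.isNilpotent_charpoly_sub_pow_of_isNilpotent h
    rw [Fintype.card_fin] at h3
    exact sub_eq_zero.mp (IsReduced.eq_zero _ h3)
  rw [h2] at h1
  simpa using h1

/-- Let F be a finite field of characteristic p and m ≥ 1. Every element of GL(m, F) of p-power order has order less than p·m, and GL(m, F) has an element of p-power order at least m; so the largest order of a p-element of GL(m, F) is the least power of p that is at least m. -/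
theorem result {F : Type*} [Field F] [Fintype F] (p : ℕ) [Fact p.Prime] [CharP F p] (m : ℕ) (hm : 1 ≤ m) :
    (∀ g : Matrix.GeneralLinearGroup (Fin m) F, (∃ j : ℕ, orderOf g = p ^ j) → orderOf g < p * m) ∧
      ∃ g : Matrix.GeneralLinearGroup (Fin m) F, (∃ j : ℕ, orderOf g = p ^ j) ∧ m ≤ orderOf g := by
  have hp : p.Prime := Fact.out
  have : Nonempty (Fin m) := ⟨⟨0, hm⟩⟩
  have hchar : CharP (Matrix (Fin m) (Fin m) F) p := Matrix.charP p
  refine ⟨fun g ⟨j, hj⟩ => ?_, ?_⟩
  · have h1 : ((g : Matrix (Fin m) (Fin m) F) - 1) ^ p ^ j = 0 := by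
      rw [sub_pow_char_pow_of_commute p _ (Commute.one_right _), one_pow, ← Units.val_pow_eq_pow_val,
        ← hj, pow_orderOf_eq_one, Units.val_one, sub_self]
    have h2 : ((g : Matrix (Fin m) (Fin m) F) - 1) ^ m = 0 := pow_eq_zero_of_isNilpotent ⟨_, h1⟩
    rcases Nat.lt_or_ge 1 m with h | h
    · set e := Nat.clog p m with he
      have hle : m ≤ p ^ e := Nat.le_pow_clog hp.one_lt m
      have h3 : g ^ p ^ e = 1 := by
        have h4 : ((g : Matrix (Fin m) (Fin m) F) - 1) ^ p ^ e = 0 := pow_eq_zero_of_le hle h2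
        rw [sub_pow_char_pow_of_commute p _ (Commute.one_right _), one_pow, sub_eq_zero,
          ← Units.val_pow_eq_pow_val] at h4
        exact Units.ext h4
      have h5 : orderOf g ≤ p ^ e :=
        Nat.le_of_dvd (pow_pos hp.pos _) (orderOf_dvd_of_pow_eq_one h3)
      have h6 := Nat.pow_pred_clog_lt_self hp.one_lt h
      have h7 : 0 < e := Nat.clog_pos hp.one_lt h
      have h8 : p ^ e = p * p ^ (e - 1) := by
        rw [← pow_succ', Nat.sub_add_cancel h7]
      calc orderOf g ≤ p * p ^ (e - 1) := h8 ▸ h5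
        _ < p * m := Nat.mul_lt_mul_of_pos_left h6 hp.pos
    · have hm1 : m = 1 := by omega
      have h3 : g = 1 := by
        subst hm1
        rw [pow_one, sub_eq_zero] at h2
        exact Units.ext h2
      rw [h3, orderOf_one, hm1]
      have := hp.one_lt
      omega
  · have hN : shiftMat m F ^ m = 0 := by
      ext i j
      rw [shiftMat_pow, if_neg (by omega)]
      simp
    have hu : IsUnit (1 + shiftMat m F) := IsNilpotent.isUnit_one_add ⟨m, hN⟩
    have hpow : ∀ k : ℕ, (1 + shiftMat m F) ^ p ^ k = 1 + shiftMat m F ^ p ^ k := fun k => by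
      rw [add_pow_char_pow_of_commute p k (Commute.one_left _), one_pow]
    obtain ⟨g, hg⟩ := hu
    have h1 : g ^ p ^ Nat.clog p m = 1 := by
      apply Units.ext
      rw [Units.val_pow_eq_pow_val, hg, hpow, pow_eq_zero_of_le (Nat.le_pow_clog hp.one_lt m) hN,
        add_zero, Units.val_one]
    obtain ⟨j, -, hj⟩ := (Nat.dvd_prime_pow hp).mp (orderOf_dvd_of_pow_eq_one h1)
    refine ⟨g, ⟨j, hj⟩, ?_⟩
    by_contra hlt
    push Not at hlt
    have h2 : (1 : Matrix (Fin m) (Fin m) F) + shiftMat m F ^ p ^ j = 1 := by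
      rw [← hpow, ← hg, ← Units.val_pow_eq_pow_val, ← hj, pow_orderOf_eq_one, Units.val_one]
    rw [add_eq_left] at h2
    have h3 := congrFun (congrFun h2 ⟨0, hm⟩) ⟨p ^ j, by omega⟩
    rw [shiftMat_pow, if_pos (by simp)] at h3
    exact one_ne_zero h3

end Cfsg.Agent.S2368
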