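import Cfsg.Statements.S2376
import Cfsg.Agent.D4Cyclic.Two

set_option autoImplicit false
open Cfsg

namespace Cfsg.Agent.S2376

/-- The group ³D₄(q) contains a cyclic subgroup of order (q³ − 1)(q + 1) which is its own centralizer. -/
theorem result {K : Type*} [Field K] [Fintype K] (q : ℕ) (hq : IsPrimePow q) (hK : Fintype.card K = q ^ 3) :
    ∃ H : Subgroup ↥(Cfsg.Lie.twistedD4 K q), IsCyclic ↥H ∧ Nat.card ↥H = (q ^ 3 - 1) * (q + 1) ∧
      Subgroup.centralizer (H : Set ↥(Cfsg.Lie.twistedD4 K q)) = H := by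
  obtain ⟨φ, hφ⟩ := Cfsg.Agent.H37.Twist.exists_powHom hq hK
  have hq2 : 2 ≤ q := hq.two_le
  obtain ⟨τ, hτ, hord, hcent⟩ : ∃ τ : ↥(Cfsg.Lie.chevD4.group K),
      (Cfsg.Agent.H37.Twist.D4.endo φ).σ τ = τ ∧ orderOf τ = (q ^ 3 - 1) * (q + 1) ∧
      ∀ g, (Cfsg.Agent.H37.Twist.D4.endo φ).σ g = g → g * τ = τ * g →
        g ∈ Subgroup.zpowers τ := by
    rcases Nat.lt_or_ge q 3 with h | h
    · exact Cfsg.Agent.D4Cyclic.exists_tau_two hφ (by omega) hK
    · exact Cfsg.Agent.D4Cyclic.exists_tau_ge_three hφ hK h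
  set Md := Cfsg.Agent.H37.Twist.D4.model hφ hK
  let e := Md.iso
  set t : ↥(Cfsg.Lie.twistedD4 K q) := e ⟨τ, hτ⟩ with ht
  refine ⟨Subgroup.zpowers t, inferInstance, ?_, ?_⟩
  · rw [Nat.card_zpowers, ht, ← hord]
    exact (orderOf_injective e.toMonoidHom e.injective _).trans (Subgroup.orderOf_coe _).symm
  · refine le_antisymm (fun g hg => ?_) ?_
    · obtain ⟨⟨x, hx⟩, rfl⟩ := e.surjective g
      have hc := Subgroup.mem_centralizer_iff.1 hg t (Subgroup.mem_zpowers t)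
      rw [ht] at hc
      have hc' : x * τ = τ * x :=
        congrArg Subtype.val (e.injective (((map_mul e _ _).trans hc.symm).trans (map_mul e _ _).symm))
      obtain ⟨k, hk⟩ := Subgroup.mem_zpowers_iff.1 (hcent x hx hc')
      refine Subgroup.mem_zpowers_iff.2 ⟨k, ?_⟩
      rw [ht]
      exact (map_zpow e _ k).symm.trans
        (congrArg e (Subtype.ext ((Subgroup.coe_zpow _ _ _).trans hk)))
    · intro g hg
      obtain ⟨k, rfl⟩ := Subgroup.mem_zpowers_iff.1 hg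
      refine Subgroup.mem_centralizer_iff.2 fun y hy => ?_
      obtain ⟨m, rfl⟩ := Subgroup.mem_zpowers_iff.1 hy
      exact (Commute.refl t).zpow_zpow m k

end Cfsg.Agent.S2376
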