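import Cfsg.Statements.S2379
import Cfsg.Agent.Arith.SylowGL
-- import your own Cfsg.Agent.* helpers here

set_option autoImplicit false
open Cfsg

namespace Cfsg.Agent.S2379

open Cfsg.Agent

lemma count_eq (n d : ℕ) (hd : 1 ≤ d) :
    ((Finset.Icc 2 n).filter (fun i => d ∣ i)).card = if d = 1 then n - 1 else n / d := by
  split_ifs with h
  · subst h
    rw [Finset.filter_true_of_mem (fun i _ => one_dvd i), Nat.card_Icc]
    omega
  · rw [← Nat.Ioc_filter_dvd_card_eq_div n d]
    congr 1
    ext i
    simp only [Finset.mem_filter, Finset.mem_Icc, Finset.mem_Ioc]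
    constructor
    · rintro ⟨⟨h1, h2⟩, h3⟩; exact ⟨⟨by omega, h2⟩, h3⟩
    · rintro ⟨⟨h1, h2⟩, h3⟩
      refine ⟨⟨?_, h2⟩, h3⟩
      by_contra hh
      obtain rfl : i = 1 := by omega
      exact h (Nat.dvd_one.1 h3)

lemma main {F : Type*} [Field F] [Fintype F] {q : ℕ} (hq : Fintype.card F = q) (n : ℕ)
    (r : ℕ) [hr : Fact r.Prime] (hrn : n < r) (hrq : ¬ r ∣ q)
    (P : Sylow r (Matrix.SpecialLinearGroup (Fin n) F)) :
    Nonempty (↥(P : Subgroup (Matrix.SpecialLinearGroup (Fin n) F)) ≃*
      (Fin ((Finset.Icc 2 n).filter (fun i => orderOf (q : ZMod r) ∣ i)).card →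
        Multiplicative (ZMod (r ^ padicValNat r
          ((Polynomial.cyclotomic (orderOf (q : ZMod r)) ℤ).eval (q : ℤ)).natAbs)))) := by
  have hq2 : 2 ≤ q := hq ▸ Fintype.one_lt_card
  have hdpos := Arith.orderOf_pos_of_not_dvd (r := r) hrq
  rw [show ((Polynomial.cyclotomic (orderOf (q : ZMod r)) ℤ).eval (q : ℤ)).natAbs
    = Arith.phiVal (orderOf (q : ZMod r)) q from rfl, Arith.padicValNat_phiVal hq2 hrq,
    count_eq n _ hdpos]
  obtain ⟨e, he⟩ : ∃ e, e = padicValNat r (q ^ orderOf (q : ZMod r) - 1) := ⟨_, rfl⟩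
  rw [← he]
  rcases n.eq_zero_or_pos with rfl | hn
  · have hA : Nat.card (Fin (if orderOf (q : ZMod r) = 1 then 0 - 1 else 0 / orderOf (q : ZMod r)) →
        Multiplicative (ZMod (r ^ e))) = r ^ padicValNat r
          (Nat.card (Matrix.SpecialLinearGroup (Fin 0) F)) := by
      rw [Arith.card_pi_zmod, Nat.card_unique, padicValNat_one_right]
      simp
    refine Arith.nonempty_sylow_equiv 1 ?_ hA P
    intro x y _
    funext i
    have hi := i.2
    exfalso
    split_ifs at hi with h1
    · omega
    · simp at hi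
  have : Nonempty (Fin n) := ⟨⟨0, hn⟩⟩
  have hv : padicValNat r (Nat.card (GL (Fin n) F))
      = padicValNat r (q - 1) + padicValNat r (Nat.card (Matrix.SpecialLinearGroup (Fin n) F)) := by
    rw [Linear.card_GL_eq, Linear.card_units', hq,
      padicValNat.mul (by omega) Nat.card_pos.ne']
  rw [Arith.padicValNat_card_GL hq n hrn hrq, ← he] at hv
  by_cases hd1 : orderOf (q : ZMod r) = 1
  · rw [if_pos hd1]
    rw [hd1, pow_one] at he
    rw [hd1, Nat.div_one, ← he] at hv
    obtain ⟨k, rfl⟩ : ∃ k, n = k + 1 := ⟨n - 1, by omega⟩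
    obtain ⟨j, hj⟩ := Arith.exists_zmod_hom (C := Fˣ) (m := r ^ e) (by
      rw [Linear.card_units', hq, he]; exact pow_padicValNat_dvd)
    rw [Nat.add_sub_cancel]
    let dv : (Fin k → Multiplicative (ZMod (r ^ e))) → Fin (k + 1) → F :=
      fun x => Fin.cons (((∏ i, j (x i))⁻¹ : Fˣ) : F) (fun i => ((j (x i) : Fˣ) : F))
    let f : (Fin k → Multiplicative (ZMod (r ^ e))) →* Matrix.SpecialLinearGroup (Fin (k + 1)) F :=
      { toFun := fun x => ⟨Matrix.diagonal (dv x), by
          rw [Matrix.det_diagonal, Fin.prod_univ_succ]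
          show (((∏ i, j (x i))⁻¹ : Fˣ) : F) * ∏ i, ((j (x i) : Fˣ) : F) = 1
          rw [← Units.coe_prod, Units.inv_mul]⟩
        map_one' := Subtype.ext (by
          show Matrix.diagonal (dv 1) = 1
          rw [← Matrix.diagonal_one]
          congr 1
          funext i
          refine Fin.cases ?_ (fun i => ?_) i <;> simp [dv])
        map_mul' := fun x y => Subtype.ext (by
          show Matrix.diagonal (dv (x * y)) = Matrix.diagonal (dv x) * Matrix.diagonal (dv y)
          rw [Matrix.diagonal_mul_diagonal]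
          congr 1
          funext i
          refine Fin.cases ?_ (fun i => ?_) i
          · simp [dv, Finset.prod_mul_distrib, mul_comm]
          · simp [dv]) }
    refine Arith.nonempty_sylow_equiv f ?_ ?_ P
    · intro x y h
      funext i
      apply hj
      apply Units.ext
      have h' := congrFun (Matrix.diagonal_injective (congrArg Subtype.val h)) i.succ
      simpa [dv] using h'
    · rw [Arith.card_pi_zmod]
      congr 1
      rw [add_mul, one_mul] at hv
      omega
  · rw [if_neg hd1]
    have hrq1 : ¬ r ∣ q - 1 := by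
      intro hd
      have := (Arith.dvd_pow_sub_one_iff (r := r) (k := 1) (show 1 ≤ q by omega)).1 (by rwa [pow_one])
      exact hd1 (Nat.dvd_one.1 this)
    rw [padicValNat.eq_zero_of_not_dvd hrq1, zero_add] at hv
    obtain ⟨f, hf⟩ := Arith.exists_embedding_GL (F := F) hq n hrq
      (m := r ^ e) (by rw [he]; exact pow_padicValNat_dvd)
    have hdet : ∀ x, f x ∈ (Matrix.SpecialLinearGroup.toGL :
        Matrix.SpecialLinearGroup (Fin n) F →* GL (Fin n) F).range := by
      intro x
      rw [Linear.range_toGL, MonoidHom.mem_ker, ← orderOf_eq_one_iff]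
      have h1 : orderOf (Matrix.GeneralLinearGroup.det (f x)) ∣ q - 1 := by
        exact (orderOf_dvd_natCard _).trans (by rw [Linear.card_units', hq])
      have h2 : orderOf (Matrix.GeneralLinearGroup.det (f x))
          ∣ r ^ (n / orderOf (q : ZMod r) * e) :=
        (orderOf_map_dvd (Matrix.GeneralLinearGroup.det.comp f) x).trans
          (Arith.card_pi_zmod _ r e ▸ orderOf_dvd_natCard x)
      exact Nat.eq_one_of_dvd_coprimes
        (Nat.Coprime.pow_left _ ((hr.out.coprime_iff_not_dvd).2 hrq1)) h2 h1
    refine Arith.nonempty_sylow_equiv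
      ((MonoidHom.ofInjective Linear.toGL_injective).symm.toMonoidHom.comp
        (f.codRestrict _ hdet)) ?_ ?_ P
    · intro x y h
      exact hf (congrArg Subtype.val
        (((MonoidHom.ofInjective Linear.toGL_injective).symm.injective) h :
          f.codRestrict _ hdet x = f.codRestrict _ hdet y))
    · rw [Arith.card_pi_zmod, hv]

/-- Sylow subgroups of `SL_n(q)` for large primes. Let `F` be a field with `q` elements and `r` a prime with `r > n` and `r ∤ q` (so `r` does not divide the order `n!` of the Weyl group). Let `d` be the multiplicative order of `q` modulo `r`, `a` the number of integers `i` with `2 ≤ i ≤ n` divisible by `d` (the degrees of the Weyl group are `2, …, n`), and `m` the `r`-part of the value at `q` of the `d`-th cyclotomic polynomial. Then every Sylow `r`-subgroup of `SL_n(q)` is a direct product of `a` cyclic groups of order `m`. -/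
theorem result {F : Type*} [Field F] [Fintype F] {q : ℕ} (hq : Fintype.card F = q) (n : ℕ)
    (r : ℕ) [Fact r.Prime] (hrn : n < r) (hrq : ¬ r ∣ q) (P : Sylow r (Matrix.SpecialLinearGroup (Fin n) F)) :
    Nonempty (↥(P : Subgroup (Matrix.SpecialLinearGroup (Fin n) F)) ≃*
      (Fin ((Finset.Icc 2 n).filter (fun i => orderOf (q : ZMod r) ∣ i)).card →
        Multiplicative (ZMod (r ^ padicValNat r ((Polynomial.cyclotomic (orderOf (q : ZMod r)) ℤ).eval (q : ℤ)).natAbs)))) := by
  exact main hq n r hrn hrq P

end Cfsg.Agent.S2379
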