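import Cfsg.Statements.S2381
import Cfsg.Agent.Coprime.SpTorusHom

set_option autoImplicit false
open Cfsg

namespace Cfsg.Agent.S2381

open Cfsg.Agent.Arith

/-- Sylow subgroups of `Sp_{2n}(q)` for large primes. Let `F` be a field with `q` elements and `r` an odd prime with `r > n` and `r ∤ q` (so `r` does not divide the order `2^n n!` of the Weyl group). Let `d` be the multiplicative order of `q` modulo `r`, `a` the number of `i` with `1 ≤ i ≤ n` and `d ∣ 2i` (the degrees being `2, 4, …, 2n`), and `m` the `r`-part of the value at `q` of the `d`-th cyclotomic polynomial. Then every Sylow `r`-subgroup of the symplectic group `Sp_{2n}(q)` is a direct product of `a` cyclic groups of order `m`. -/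
theorem result {F : Type*} [Field F] [Fintype F] {q : ℕ} (hq : Fintype.card F = q) (n : ℕ)
    (r : ℕ) [Fact r.Prime] (hr2 : r ≠ 2) (hrn : n < r) (hrq : ¬ r ∣ q) (P : Sylow r ↥(Matrix.symplecticGroup (Fin n) F)) :
    Nonempty (↥(P : Subgroup ↥(Matrix.symplecticGroup (Fin n) F)) ≃*
      (Fin ((Finset.Icc 1 n).filter (fun i => orderOf (q : ZMod r) ∣ 2 * i)).card →
        Multiplicative (ZMod (r ^ padicValNat r ((Polynomial.cyclotomic (orderOf (q : ZMod r)) ℤ).eval (q : ℤ)).natAbs)))) := by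
  have hr : r.Prime := Fact.out
  have hq2 : 2 ≤ q := hq ▸ Fintype.one_lt_card
  obtain ⟨p, hp⟩ := CharP.exists F
  have hpp : p.Prime :=
    (CharP.char_is_prime_or_zero F p).resolve_right (CharP.char_ne_zero_of_finite F p)
  have := Fact.mk hpp
  change Nonempty (_ ≃* (Fin _ → Multiplicative (ZMod (r ^ padicValNat r
    (phiVal (orderOf (q : ZMod r)) q)))))
  rw [padicValNat_phiVal hq2 hrq]
  set d := orderOf (q : ZMod r) with hd
  set v := padicValNat r (q ^ d - 1) with hv
  have hdpos : 0 < d := orderOf_pos_of_not_dvd hrq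
  have hdq : ∀ k, r ∣ q ^ k - 1 ↔ d ∣ k := fun k => dvd_pow_sub_one_iff (by omega)
  -- the valuation of every factor
  have hterm : ∀ i, 1 ≤ i → i ≤ n →
      padicValNat r (q ^ (2 * i) - 1) = if d ∣ 2 * i then v else 0 := by
    intro i hi1 hin
    split_ifs with h
    · obtain ⟨j, hj⟩ := h
      have hj0 : j ≠ 0 := fun h0 => by rw [h0, mul_zero] at hj; omega
      have hrj : ¬ r ∣ j := fun hd' => by
        have h2 : r ∣ 2 * i := hj ▸ hd'.mul_left d
        rcases hr.dvd_mul.1 h2 with h3 | h3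
        · exact hr2 ((Nat.prime_dvd_prime_iff_eq hr Nat.prime_two).1 h3)
        · have := Nat.le_of_dvd (by omega) h3; omega
      rw [hj, pow_mul, padicValNat_pow_sub_one hr (le_trans hq2 (Nat.le_self_pow hdpos.ne' q)) hj0
        ((hdq d).2 dvd_rfl) (fun h2 => absurd h2 hr2), padicValNat.eq_zero_of_not_dvd hrj, add_zero]
    · exact padicValNat.eq_zero_of_not_dvd fun h' => h ((hdq _).1 h')
  -- the block size
  have hkey : ∃ e, 1 ≤ e ∧ (∀ i, d ∣ 2 * i ↔ e ∣ i) ∧
      (r ^ v ∣ q ^ e + 1 ∨ r ^ v ∣ q ^ e - 1) := by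
    have hdvd : r ^ v ∣ q ^ d - 1 := pow_padicValNat_dvd
    rcases Nat.even_or_odd d with ⟨e, he⟩ | hodd
    · refine ⟨e, by omega, fun i => ?_, Or.inl ?_⟩
      · rw [he, ← two_mul]
        exact Nat.mul_dvd_mul_iff_left two_pos
      · have hne : ¬ r ∣ q ^ e - 1 := fun h => by
          have := Nat.le_of_dvd (by omega) ((hdq e).1 h); omega
        have hfac : q ^ d - 1 = (q ^ e + 1) * (q ^ e - 1) := by
          rw [he, pow_add, ← Nat.sq_sub_sq (q ^ e) 1, one_pow, sq]
        rw [hfac] at hdvd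
        exact ((hr.coprime_iff_not_dvd.2 hne).pow_left _).dvd_of_dvd_mul_right hdvd
    · exact ⟨d, hdpos, fun i => ⟨fun h => (Nat.coprime_two_right.2 hodd).dvd_of_dvd_mul_left h,
        fun h => h.mul_left 2⟩, Or.inr hdvd⟩
  obtain ⟨e, he1, hei, hM⟩ := hkey
  set a := ((Finset.Icc 1 n).filter (fun i => d ∣ 2 * i)).card with ha
  have han : a = n / e := by
    rw [ha, ← Nat.Ioc_filter_dvd_card_eq_div n e]
    refine congrArg Finset.card (Finset.ext fun i => ?_)
    simp only [Finset.mem_filter, Finset.mem_Icc, Finset.mem_Ioc, hei]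
    exact ⟨fun h => ⟨⟨by omega, h.1.2⟩, h.2⟩, fun h => ⟨⟨by omega, h.1.2⟩, h.2⟩⟩
  obtain ⟨R, _, _, _, Q, u, hQ, hR, hu, hord⟩ :=
    Cfsg.Agent.H55.hasTorus (F := F) p he1 (M := r ^ v) (by rwa [Nat.card_eq_fintype_card, hq])
  obtain ⟨f, hf⟩ := Cfsg.Agent.Coprime.SpTorusHom.exists_embedding (n := n) (a := a) Q hQ hR
    (by rw [han]; exact Nat.div_mul_le_self n e) u hu hord
  refine nonempty_sylow_equiv f hf ?_ P
  rw [card_pi_zmod]
  congr 1
  have hpos : ∀ i ∈ Finset.range n, q ^ (2 * (i + 1)) - 1 ≠ 0 := fun i _ =>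
    (Nat.sub_pos_of_lt (Nat.one_lt_pow (by omega) (by omega))).ne'
  rw [Cfsg.Agent.Symplectic.card_sp, hq, padicValNat.mul (pow_ne_zero _ (by omega))
    (Finset.prod_ne_zero_iff.2 hpos),
    padicValNat.eq_zero_of_not_dvd (n := q ^ (n ^ 2)) (fun h => hrq (hr.dvd_of_dvd_pow h)),
    zero_add, padicValNat_finsetProd _ _ hpos,
    Finset.sum_congr rfl fun i hi => hterm (i + 1) (by omega)
      (by rw [Finset.mem_range] at hi; omega),
    Finset.sum_ite, Finset.sum_const_zero, add_zero, Finset.sum_const, smul_eq_mul, ha]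
  congr 1
  refine (Finset.card_bij (fun i _ => i + 1) ?_ ?_ ?_).symm
  · intro i hi
    simp only [Finset.mem_filter, Finset.mem_range] at hi
    simp only [Finset.mem_filter, Finset.mem_Icc]
    exact ⟨⟨by omega, by omega⟩, hi.2⟩
  · intro i _ j _ h; omega
  · intro b hb
    simp only [Finset.mem_filter, Finset.mem_Icc] at hb
    exact ⟨b - 1, by simp only [Finset.mem_filter, Finset.mem_range, show b - 1 + 1 = b by omega]; exact ⟨by omega, hb.2⟩, by omega⟩

end Cfsg.Agent.S2381
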