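import Cfsg.Statements.S2383
import Cfsg.Agent.Chevalley.Weights.Inst

set_option autoImplicit false
open Cfsg

namespace Cfsg.Agent.S2383

/-- Steinberg's count of semisimple classes in characteristic 2 for the types B₂, D₄, E₇, where the finite simply connected group has trivial centre and so coincides with the Chevalley group: for the Chevalley group of type B₂, D₄ or E₇ over a field with `q` elements of characteristic 2, the conjugacy classes of elements of odd order number exactly `q^l`, `l` the rank. -/
theorem result {F : Type*} [Field F] [Fintype F] {q : ℕ} (hq : Fintype.card F = q) [CharP F 2]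
    (D : Cfsg.Lie.ChevalleyDatum) (hD : D ∈ [Cfsg.Lie.chevB2, Cfsg.Lie.chevD4, Cfsg.Lie.chevE7]) :
    Nat.card {c : ConjClasses ↥(D.group F) // ∃ g : ↥(D.group F), ConjClasses.mk g = c ∧ Odd (orderOf g)} = q ^ D.rank := by
  have : Fact (Nat.Prime 2) := ⟨Nat.prime_two⟩
  have hg : Nat.gcd 2 (Nat.card F - 1) = 1 := by
    have h2 : 2 ∣ Fintype.card F := (CharP.cast_eq_zero_iff F 2 _).1 (Nat.cast_card_eq_zero F)
    have := Fintype.card_pos (α := F)
    rw [Nat.card_eq_fintype_card]
    exact (Nat.prime_two.coprime_iff_not_dvd.2 fun h => by omega)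
  have hc : Nat.card (D.diagonalSubgroup F) = (Nat.card F - 1) ^ D.rank := by
    simp only [List.mem_cons, List.not_mem_nil, or_false] at hD
    rcases hD with rfl | rfl | rfl
    · have h := Cfsg.Agent.H37.Chev.diag_B2 F
      rw [hg, one_mul] at h
      exact h
    · have h := Cfsg.Agent.H37.Chev.diag_D4 F
      rw [hg, one_pow, one_mul] at h
      exact h
    · have h := Cfsg.Agent.H37.Chev.diag_E7 F
      rw [hg, one_mul] at h
      exact h
  obtain ⟨Q, -⟩ := Cfsg.Agent.H37.Chev.exists_data (D := D) (by
    simp only [List.mem_cons, List.not_mem_nil, or_false] at hD ⊢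
    tauto) F
  rw [← hq, ← Cfsg.Agent.Chevalley.Weights.card_regClasses_chev (p := 2) Q hc]
  refine Nat.card_congr (Equiv.subtypeEquivRight fun c => ?_)
  simp only [Nat.coprime_two_right]

end Cfsg.Agent.S2383
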