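import Cfsg.Statements.S2391
import Cfsg.Agent.H54.FixedFlag
-- import your own Cfsg.Agent.* helpers here

set_option autoImplicit false
open Cfsg

namespace Cfsg.Agent.S2391

/-- The Borel–Tits property of `SL_n(q)` in flag form: for a field `F` of characteristic `p` with finitely many elements and a non-trivial `p`-subgroup `U` of `SL_n(F)`, there is a flag `0 = V₀ < V₁ < ⋯ < V_{k+1} = F^n` with at least one proper non-zero member such that every element of the normaliser of `U` maps each `V_i` onto itself and every element of `U` acts trivially on each quotient `V_{i+1}/V_i` (so the normaliser lies in the parabolic subgroup of the flag and `U` in its unipotent radical). -/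
theorem result {F : Type*} [Field F] [Fintype F] (p : ℕ) [Fact p.Prime] [CharP F p] (n : ℕ)
    (U : Subgroup (Matrix.SpecialLinearGroup (Fin n) F)) (hU : IsPGroup p ↥U) (hne : U ≠ ⊥) :
    ∃ (k : ℕ) (V : Fin (k + 2) → Submodule F (Fin n → F)), 1 ≤ k ∧ StrictMono V ∧ V 0 = ⊥ ∧ V (Fin.last (k + 1)) = ⊤ ∧
      (∀ g ∈ Subgroup.normalizer (U : Set (Matrix.SpecialLinearGroup (Fin n) F)), ∀ i, (V i).map (Matrix.mulVecLin (g : Matrix (Fin n) (Fin n) F)) = V i) ∧
      (∀ u ∈ U, ∀ i : Fin (k + 1), ∀ v ∈ V i.succ, (u : Matrix (Fin n) (Fin n) F).mulVec v - v ∈ V (Fin.castSucc i)) := by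
  classical
  let V := Cfsg.Agent.H54.fixFlag U
  have hlt : ∀ i, V i ≠ ⊤ → V i < V (i + 1) := Cfsg.Agent.H54.fixFlag_lt_succ U p hU
  have hex : ∃ N, V N = ⊤ := by
    by_contra h
    push Not at h
    have hd : ∀ i, i ≤ Module.finrank F (V i) := by
      intro i
      induction i with
      | zero => exact Nat.zero_le _
      | succ i ih => exact Nat.succ_le_of_lt (lt_of_le_of_lt ih (Submodule.finrank_lt_finrank_of_lt (hlt i (h i))))
    have := (hd (n + 1)).trans (Submodule.finrank_le _)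
    simp at this
  obtain ⟨⟨u, hu⟩, hu'⟩ := Subgroup.ne_bot_iff_exists_ne_one.1 hne
  have hu1 : u ≠ 1 := fun e => hu' (Subtype.ext e)
  have hV1 : V 1 ≠ ⊤ := by
    intro h
    apply hu1
    apply Subtype.ext
    rw [Matrix.SpecialLinearGroup.coe_one]
    refine Matrix.ext_iff_mulVec.2 fun v => ?_
    have hv : v ∈ V 1 := by rw [h]; exact Submodule.mem_top
    have := (Submodule.mem_bot F).1 (hv u hu)
    rw [Matrix.one_mulVec]
    exact sub_eq_zero.1 this
  have hn0 : V 0 ≠ ⊤ := fun h => hV1 (top_le_iff.1 (h ▸ Cfsg.Agent.H54.fixFlag_le_succ U 0))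
  have h2 : 2 ≤ Nat.find hex := by
    rw [Nat.le_find_iff]
    intro m hm
    rcases Nat.lt_succ_iff_lt_or_eq.1 hm with h | h
    · rw [Nat.lt_one_iff.1 h]; exact hn0
    · rw [h]; exact hV1
  obtain ⟨k, hk⟩ : ∃ k, Nat.find hex = k + 1 := ⟨Nat.find hex - 1, by omega⟩
  refine ⟨k, fun i => V i.val, by omega, ?_, rfl, ?_, ?_, ?_⟩
  · refine Fin.strictMono_iff_lt_succ.2 fun i => hlt i.val (Nat.find_min hex ?_)
    omega
  · show V (k + 1) = ⊤
    rw [← hk]; exact Nat.find_spec hex
  · intro g hg i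
    apply le_antisymm
    · rintro _ ⟨v, hv, rfl⟩
      exact Cfsg.Agent.H54.fixFlag_invariant U hg i.val v hv
    · intro v hv
      refine ⟨((g⁻¹ : Matrix.SpecialLinearGroup (Fin n) F) : Matrix (Fin n) (Fin n) F).mulVec v,
        Cfsg.Agent.H54.fixFlag_invariant U (inv_mem hg) i.val v hv, ?_⟩
      rw [Matrix.mulVecLin_apply, Matrix.mulVec_mulVec, ← Matrix.SpecialLinearGroup.coe_mul, mul_inv_cancel,
        Matrix.SpecialLinearGroup.coe_one, Matrix.one_mulVec]
  · intro u hu i v hv
    exact hv u hu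

end Cfsg.Agent.S2391
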