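import Cfsg.Statements.S2393
import Cfsg.Agent.Symplectic.MinDegree

set_option autoImplicit false
open scoped MatrixGroups
open Cfsg

namespace Cfsg.Agent.S2393

/-- A lower bound for representations in cross characteristic: for `n ≥ 2` and a field `F` with `q` elements, `q` odd, every homomorphism from the symplectic group `Sp_{2n}(F)` to `GL_d(K)`, `K` a field of characteristic different from that of `F`, whose kernel is central has `d ≥ q^(n-1)(q-1)/2`. -/
theorem result {F : Type*} [Field F] [Fintype F] {q : ℕ} (hq : Fintype.card F = q) (hodd : Odd q) (n : ℕ) (hn : 2 ≤ n)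
    {K : Type*} [Field K] (hK : ringChar K ≠ ringChar F) {d : ℕ}
    (ρ : ↥(Matrix.symplecticGroup (Fin n) F) →* GL (Fin d) K) (hker : ρ.ker ≤ Subgroup.center ↥(Matrix.symplecticGroup (Fin n) F)) :
    q ^ (n - 1) * (q - 1) / 2 ≤ d := by
  classical
  subst hq
  let p := ringChar F
  let ψ := AddChar.FiniteField.primitiveChar F K hK
  let L := CyclotomicField (ψ.n : ℕ) K
  have h2 := Cfsg.Agent.Symplectic.two_ne_zero_of_odd_card hodd
  have hinj : Function.Injective (algebraMap K L) := (algebraMap K L).injective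
  have hK0 : (Fintype.card F : K) ≠ 0 := by
    obtain ⟨e, hp, he⟩ := FiniteField.card F p
    rw [he, Nat.cast_pow]
    refine pow_ne_zero _ fun h0 => hK ?_
    rcases (Nat.dvd_prime hp).mp ((ringChar.spec K p).mp h0) with h | h
    · exact absurd h CharP.ringChar_ne_one
    · exact h
  have hL : (Fintype.card F : L) ≠ 0 := fun h0 => hK0 (hinj (by rw [map_natCast, h0, map_zero]))
  let r : Matrix.symplecticGroup (Fin n) F →* Matrix (Fin d) (Fin d) L :=
    ((algebraMap K L).mapMatrix.toMonoidHom).comp ((Units.coeHom _).comp ρ)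
  let σ : Representation L (Matrix.symplecticGroup (Fin n) F) (Fin d → L) :=
    (Matrix.toLinAlgEquiv' (R := L) (n := Fin d)).toAlgHom.toRingHom.toMonoidHom.comp r
  have hnc : ∃ X : Cfsg.Agent.Symplectic.symMat n F, σ (Cfsg.Agent.Symplectic.uEl X) ≠ 1 := by
    let X : Cfsg.Agent.Symplectic.symMat n F := ⟨Matrix.single ⟨0, by omega⟩ ⟨0, by omega⟩ 1, by
      rw [Cfsg.Agent.Symplectic.mem_symMat, Matrix.IsSymm, Matrix.transpose_single]⟩
    refine ⟨X, fun h1 => ?_⟩
    have h2' : r (Cfsg.Agent.Symplectic.uEl X) = 1 :=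
      (Matrix.toLinAlgEquiv' (R := L) (n := Fin d)).injective (h1.trans (map_one _).symm)
    have h3 : ρ (Cfsg.Agent.Symplectic.uEl X) = 1 := by
      apply Units.ext
      refine Matrix.map_injective (m := Fin d) (n := Fin d) hinj ?_
      show r (Cfsg.Agent.Symplectic.uEl X) = _
      rw [h2']; simp
    obtain ⟨c, hc⟩ := (Cfsg.Agent.Symplectic.mem_center_iff _).mp (hker h3)
    have h4 : (Cfsg.Agent.Symplectic.uEl X : Cfsg.Agent.Symplectic.Mat n F) = c • (1 : Cfsg.Agent.Symplectic.Mat n F) :=
      Matrix.ext_of_mulVec_single fun i => by rw [hc, Matrix.smul_mulVec, Matrix.one_mulVec]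
    have := congrFun (congrFun h4 (Sum.inl ⟨0, by omega⟩)) (Sum.inr ⟨0, by omega⟩)
    simp [Cfsg.Agent.Symplectic.uEl, X] at this
  have := Cfsg.Agent.Symplectic.weight_bound (L := L) ψ.prim hL h2 σ hnc
  refine le_trans (Nat.div_le_div_right ?_) this
  rw [Nat.mul_sub, mul_one, ← pow_succ, show n - 1 + 1 = n by omega]
  have h1 := Nat.one_le_pow (n - 1) (Fintype.card F) Fintype.card_pos
  omega

end Cfsg.Agent.S2393
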