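import Cfsg.Statements.S2396
import Cfsg.Agent.H38.St.Groups

set_option autoImplicit false
open scoped MatrixGroups
open Cfsg

namespace Cfsg.Agent.S2396

/-- For each of the types G₂, B₂, D₄, F₄, E₆, E₇, E₈ and any field `K` (for types B₂ and G₂ the field must have more than two elements — the cases where the Chevalley group is not simple are set aside), the group presented by the generators x̄_r(t) subject only to (R1) and (R2) maps onto the Chevalley group by x̄_r(t) ↦ x_r(t), and this homomorphism is a central extension: it is surjective with kernel contained in the centre. -/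
theorem result {K : Type*} [Field K] (D : Cfsg.Lie.ChevalleyDatum) (hD : D ∈ [Cfsg.Lie.chevG2, Cfsg.Lie.chevB2, Cfsg.Lie.chevD4, Cfsg.Lie.chevF4, Cfsg.Lie.chevE6, Cfsg.Lie.chevE7, Cfsg.Lie.chevE8]) (hK : D ∈ [Cfsg.Lie.chevB2, Cfsg.Lie.chevG2] → ∃ x : K, x ≠ 0 ∧ x ≠ 1) :
    ∃ θ : D.SteinbergCover K →* ↥(D.group K), Function.Surjective θ ∧ θ.ker ≤ Subgroup.center (D.SteinbergCover K) ∧
      ∀ (r : ℕ) (t : K), r < D.nroots → ((θ (D.scGen K r t) : GL D.Idx K) : Matrix D.Idx D.Idx K) = D.x K r t := by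
  obtain ⟨Q, hrel, hA⟩ := H38.St.exists_stData hD K
  let S := H38.St.scFull Q.K hA (F := K)
  let θ : D.SteinbergCover K →* ↥(D.group K) :=
    S.rho.codRestrict _ (fun g => S.rho_mem_group hrel H38.St.sc_gen g)
  have hθ : ∀ (r : ℕ) (t : K), r < D.nroots → θ (D.scGen K r t) = H37.RootSys.xG Q.K K r t :=
    fun r t hr => Subtype.ext (S.rho_f (r := r) hr t)
  refine ⟨θ, ?_, fun g hg => S.ker_central hrel H38.St.sc_gen (congrArg Subtype.val hg),
    fun r t hr => by rw [hθ r t hr]; rfl⟩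
  rw [← MonoidHom.range_eq_top, eq_top_iff]
  rintro ⟨g, hg⟩ -
  have hle : D.group K ≤ θ.range.map (D.group K).subtype := by
    refine (le_of_eq (Q.K.group_eq K)).trans ((Subgroup.closure_le _).2 ?_)
    rintro _ ⟨r, t, hr, rfl⟩
    exact ⟨_, ⟨D.scGen K r t, rfl⟩, by rw [hθ r t hr]; rfl⟩
  obtain ⟨g', hg', e⟩ := hle hg
  rwa [← Subtype.ext (a1 := g') (a2 := ⟨g, hg⟩) e]

end Cfsg.Agent.S2396
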