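import Cfsg.Statements.S2399
import Cfsg.Agent.H38.St.Lift
import Cfsg.Agent.H38.St.LiftData
import Cfsg.Agent.H38.St.Coprime
import Cfsg.Agent.S2395

set_option autoImplicit false
open scoped MatrixGroups
open Cfsg

namespace Cfsg.Agent.S2399

/-- Projective representations in the natural characteristic lift: for each of the types G₂, B₂, D₄, F₄, E₆, E₇, E₈ over any field `K` (for types B₂ and G₂ the field must have more than two elements — the cases where the Chevalley group is not simple are set aside), every homomorphism from the Chevalley group to `PGL_n(L) = GL_n(L)/Z`, `L` a field of the same characteristic as `K`, lifts uniquely to a homomorphism from the group Δ presented by (R1), (R2) to `GL_n(L)`, compatibly with the projection Δ → Chevalley group sending x̄_r(t) to x_r(t). -/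
theorem result {K : Type*} [Field K] (D : Cfsg.Lie.ChevalleyDatum) (hD : D ∈ [Cfsg.Lie.chevG2, Cfsg.Lie.chevB2, Cfsg.Lie.chevD4, Cfsg.Lie.chevF4, Cfsg.Lie.chevE6, Cfsg.Lie.chevE7, Cfsg.Lie.chevE8]) (hK : D ∈ [Cfsg.Lie.chevB2, Cfsg.Lie.chevG2] → ∃ x : K, x ≠ 0 ∧ x ≠ 1)
    (θ : D.SteinbergCover K →* ↥(D.group K))
    (hθ : ∀ (r : ℕ) (t : K), r < D.nroots → ((θ (D.scGen K r t) : GL D.Idx K) : Matrix D.Idx D.Idx K) = D.x K r t)
    {L : Type*} [Field L] (hL : ringChar L = ringChar K) {n : ℕ}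
    (φ : ↥(D.group K) →* GL (Fin n) L ⧸ Subgroup.center (GL (Fin n) L)) :
    ∃! ψ : D.SteinbergCover K →* GL (Fin n) L, (QuotientGroup.mk' (Subgroup.center (GL (Fin n) L))).comp ψ = φ.comp θ := by
  classical
  obtain ⟨Q, hrel, hA⟩ := H38.St.exists_stData hD K
  have hLO := H38.St.liftOK_of_mem hD
  have hperf : commutator (D.SteinbergCover K) = ⊤ := S2395.result D hD hK
  set π := QuotientGroup.mk' (Subgroup.center (GL (Fin n) L))
  have hπ : Function.Surjective π := QuotientGroup.mk'_surjective _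
  have hc : π.ker ≤ Subgroup.center (GL (Fin n) L) := le_of_eq (QuotientGroup.ker_mk' _)
  -- existence
  have hex : ∃ ψ : D.SteinbergCover K →* GL (Fin n) L, π.comp ψ = φ.comp θ := by
    by_cases h5 : ∃ s : Finset K, 4 < s.card
    · exact (H38.St.exists_unique_lift Q.K hA h5 hLO π hπ hc (φ.comp θ)).exists
    have : Finite K := by
      rcases finite_or_infinite K with h | h
      · exact h
      · exact absurd (let ⟨s, hs⟩ := Infinite.exists_subset_card_eq K 5; ⟨s, by omega⟩) h5
    obtain ⟨q, hq⟩ := CharP.exists K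
    have hqp : Fact q.Prime := ⟨CharP.char_is_prime K q⟩
    have : CharP L q := by
      have := ringChar.charP L
      rwa [hL, ringChar.eq K q] at this
    refine H38.St.exists_lift_of_section (φ.comp θ) π hπ hc ?_
    refine H38.St.exists_section_coprime Q hrel hA hLO hperf _ (q := q) ?_
    rintro ⟨⟨d, g⟩, hmem⟩ hd hpow
    obtain rfl : d = 1 := hd
    have hg : g ∈ Subgroup.center (GL (Fin n) L) :=
      hc (hmem.symm.trans (map_one (φ.comp θ)))
    have hgq : g ^ q = 1 := congrArg Prod.snd (congrArg Subtype.val hpow)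
    obtain ⟨a, ha⟩ := Matrix.GeneralLinearGroup.mem_center_iff_val_mem_range_scalar.1 hg
    suffices g = 1 by subst this; rfl
    rcases isEmpty_or_nonempty (Fin n) with he | he
    · exact Subsingleton.elim _ _
    refine Units.ext ?_
    rw [← ha, Units.val_one]
    have e := congrArg Units.val hgq
    rw [Units.val_pow_eq_pow_val, ← ha, ← map_pow, Units.val_one, ← map_one (Matrix.scalar (Fin n)),
      Matrix.scalar_inj] at e
    have : a = 1 := by
      have h0 : (a - 1) ^ q = 0 := by rw [sub_pow_char, e, one_pow, sub_self]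
      exact sub_eq_zero.1 (eq_zero_of_pow_eq_zero h0)
    rw [this, map_one]
  obtain ⟨ψ, hψ⟩ := hex
  refine ⟨ψ, hψ, fun ψ' hψ' => MonoidHom.ext fun x => ?_⟩
  have hz : ∀ y, ∃ z ∈ Subgroup.center (GL (Fin n) L), ψ' y = ψ y * z := fun y =>
    ⟨(ψ y)⁻¹ * ψ' y, hc (by
      rw [MonoidHom.mem_ker, map_mul, map_inv, ← MonoidHom.comp_apply π ψ y, ← MonoidHom.comp_apply π ψ' y,
        hψ, hψ', inv_mul_cancel]), by group⟩
  have hle : commutator (D.SteinbergCover K) ≤ MonoidHom.eqLocus ψ' ψ := by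
    rw [commutator_eq_closure, Subgroup.closure_le]
    rintro _ ⟨a, b, rfl⟩
    show ψ' _ = ψ _
    obtain ⟨z, hz1, ez⟩ := hz a
    obtain ⟨w, hw1, ew⟩ := hz b
    rw [map_commutatorElement, map_commutatorElement, ez, ew, commutatorElement_def,
      commutatorElement_def, mul_inv_rev, mul_inv_rev]
    have c1 := (Subgroup.mem_center_iff.1 hz1 (ψ b * w)).symm
    have c2 := (Subgroup.mem_center_iff.1 hw1 (ψ a)⁻¹).symm
    calc ψ a * z * (ψ b * w) * (z⁻¹ * (ψ a)⁻¹) * (w⁻¹ * (ψ b)⁻¹)
        = ψ a * (z * (ψ b * w)) * z⁻¹ * (ψ a)⁻¹ * (w⁻¹ * (ψ b)⁻¹) := by group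
      _ = ψ a * ψ b * (w * (ψ a)⁻¹) * w⁻¹ * (ψ b)⁻¹ := by rw [c1]; group
      _ = ψ a * ψ b * (ψ a)⁻¹ * (ψ b)⁻¹ := by rw [c2]; group
  exact hle (hperf ▸ Subgroup.mem_top x)

end Cfsg.Agent.S2399
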