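import Cfsg.Statements.S2425
import Cfsg.Agent.H57.SteinbergValues

set_option autoImplicit false
open scoped MatrixGroups
open Cfsg

namespace Cfsg.Agent.S2425

/-- Values of the Steinberg character of `GL_n(q)` (the partition-indexed character for `ν = (1,…,1)`, of degree `q^(n(n−1)/2)`) at elements of order prime to the characteristic: if the characteristic polynomial of such an element is `∏ f^(m_f)` over distinct monic irreducible `f`, the value is `∏_f (−1)^((deg f − 1) m_f) q^(deg f · m_f (m_f − 1)/2)`. (At elements of order divisible by the characteristic the value is 0; that is not part of this statement.) -/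
theorem result {F : Type*} [Field F] [Fintype F] [DecidableEq F] {q : ℕ} (hq : Fintype.card F = q) (p : ℕ) [Fact p.Prime] [CharP F p]
    {n : ℕ} (x : GL (Fin n) F) (hx : (orderOf x).Coprime p) :
    Cfsg.unipotentCharacterGL n F (fun _ => 1) x =
      ∏ f ∈ (UniqueFactorizationMonoid.normalizedFactors (x : Matrix (Fin n) (Fin n) F).charpoly).toFinset,
        (-1 : ℂ) ^ ((f.natDegree - 1) * (UniqueFactorizationMonoid.normalizedFactors (x : Matrix (Fin n) (Fin n) F).charpoly).count f) *
          (q : ℂ) ^ (f.natDegree * (UniqueFactorizationMonoid.normalizedFactors (x : Matrix (Fin n) (Fin n) F).charpoly).count f *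
            ((UniqueFactorizationMonoid.normalizedFactors (x : Matrix (Fin n) (Fin n) F).charpoly).count f - 1) / 2) := by
  classical
  rw [H57.SteinbergValues.steinberg_value p x hx, hq, H57.LatticeMu.phi]
  set A : Matrix (Fin n) (Fin n) F := (x : Matrix (Fin n) (Fin n) F)
  set s := UniqueFactorizationMonoid.normalizedFactors A.charpoly
  have hprod : s.prod = A.charpoly := by
    refine Polynomial.eq_of_monic_of_associated ?_ A.charpoly_monic
      (UniqueFactorizationMonoid.prod_normalizedFactors A.charpoly_monic.ne_zero)
    refine Polynomial.monic_multiset_prod_of_monic _ (fun g => g) (fun g hg => ?_) |> fun h => by simpa using h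
    have h0 := (UniqueFactorizationMonoid.irreducible_of_normalized_factor g hg).ne_zero
    have := UniqueFactorizationMonoid.normalize_normalized_factor g hg
    rw [← this]
    exact Polynomial.monic_normalize h0
  have hn : n = ∑ g ∈ s.toFinset, s.count g * g.natDegree := by
    have h := Polynomial.natDegree_multiset_prod s (UniqueFactorizationMonoid.zero_notMem_normalizedFactors _)
    rw [hprod, Matrix.charpoly_natDegree_eq_dim, Fintype.card_fin, Finset.sum_multiset_map_count] at h
    simpa using h
  conv_lhs => rw [show (-1 : ℂ) ^ n = ∏ g ∈ s.toFinset, (-1 : ℂ) ^ (s.count g * g.natDegree) by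
    rw [Finset.prod_pow_eq_pow_sum, ← hn]]
  rw [← Finset.prod_mul_distrib]
  refine Finset.prod_congr rfl fun g hg => ?_
  have hd : 0 < g.natDegree := (UniqueFactorizationMonoid.irreducible_of_normalized_factor g
    (Multiset.mem_toFinset.1 hg)).natDegree_pos
  rw [← mul_assoc, ← pow_add, Nat.choose_two_right, mul_assoc,
    Nat.mul_div_assoc _ (even_iff_two_dvd.1 (Nat.even_mul_pred_self _))]
  congr 1
  obtain ⟨d, hd'⟩ : ∃ d, g.natDegree = d + 1 := ⟨g.natDegree - 1, by omega⟩
  rw [hd', Nat.add_sub_cancel]
  exact neg_one_pow_congr (by rcases Nat.even_or_odd d with h | h <;> simp [parity_simps, h, Nat.not_even_iff_odd, Nat.not_odd_iff_even])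

end Cfsg.Agent.S2425
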