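import Cfsg.Statements.S2427
import Cfsg.Agent.H27.QuaternionSylow
-- import your own Cfsg.Agent.* helpers here

set_option autoImplicit false
open Cfsg
open scoped commutatorElement

namespace Cfsg.Agent.S2427

/-- The group SL₂ over the field with 3 elements has order 24 and centre of order 2; its commutator subgroup has order 8, is isomorphic to the quaternion group of order 8 and is complemented by every Sylow 3-subgroup (so the group is a semidirect product of a quaternion group of order 8 by a cyclic group of order 3); and its only normal subgroups besides the trivial subgroup and the whole group are the centre and the commutator subgroup. -/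
theorem result :
    Nat.card (Matrix.SpecialLinearGroup (Fin 2) (ZMod 3)) = 24 ∧
    Nat.card (Subgroup.center (Matrix.SpecialLinearGroup (Fin 2) (ZMod 3))) = 2 ∧
    Nat.card (commutator (Matrix.SpecialLinearGroup (Fin 2) (ZMod 3))) = 8 ∧
    Nonempty (commutator (Matrix.SpecialLinearGroup (Fin 2) (ZMod 3)) ≃* QuaternionGroup 2) ∧
    (∀ P : Sylow 3 (Matrix.SpecialLinearGroup (Fin 2) (ZMod 3)),
      Subgroup.IsComplement' (commutator (Matrix.SpecialLinearGroup (Fin 2) (ZMod 3)))
        (P : Subgroup (Matrix.SpecialLinearGroup (Fin 2) (ZMod 3)))) ∧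
    ∀ N : Subgroup (Matrix.SpecialLinearGroup (Fin 2) (ZMod 3)), N.Normal →
      N = ⊥ ∨ N = ⊤ ∨ N = Subgroup.center (Matrix.SpecialLinearGroup (Fin 2) (ZMod 3)) ∨
        N = commutator (Matrix.SpecialLinearGroup (Fin 2) (ZMod 3)) := by
  have hcomm : ∀ x : Matrix.SpecialLinearGroup (Fin 2) (ZMod 3), x * x * x * x = 1 →
      ∃ a b : Matrix.SpecialLinearGroup (Fin 2) (ZMod 3), x = a * b * a⁻¹ * b⁻¹ := by decide +kernel
  have hbig : ∀ x : Matrix.SpecialLinearGroup (Fin 2) (ZMod 3),
      (∃ y : Matrix.SpecialLinearGroup (Fin 2) (ZMod 3), x * y ≠ y * x) →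
      ∀ q : Matrix.SpecialLinearGroup (Fin 2) (ZMod 3), q * q * q * q = 1 →
      ∃ g h : Matrix.SpecialLinearGroup (Fin 2) (ZMod 3), q = g * x * g⁻¹ * x⁻¹ * (h * x * h⁻¹ * x⁻¹) := by
    decide +kernel
  have hQ8 : Fintype.card {x : Matrix.SpecialLinearGroup (Fin 2) (ZMod 3) // x * x * x * x = 1} = 8 := by
    decide +kernel
  obtain ⟨⟨Q, hQn, hQi, ⟨eQ⟩⟩, hZ⟩ := Cfsg.Agent.H27.QuaternionSylow.sl_two_three (F := ZMod 3) (ZMod.card 3)
  have hQ : Nat.card Q = 8 := by rw [Nat.card_congr eQ.toEquiv, Nat.card_eq_fintype_card]; rfl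
  have h24 : Nat.card (Matrix.SpecialLinearGroup (Fin 2) (ZMod 3)) = 24 := by
    rw [← Q.card_mul_index, hQ, hQi]
  have hsub : (Q : Set (Matrix.SpecialLinearGroup (Fin 2) (ZMod 3))) = {x | x * x * x * x = 1} := by
    refine Set.eq_of_subset_of_ncard_le (fun x hx => ?_) ?_ (Set.toFinite _)
    · have h4 : ∀ y : QuaternionGroup 2, y * y * y * y = 1 := by decide
      have := h4 (eQ ⟨x, hx⟩)
      rw [← map_mul, ← map_mul, ← map_mul, MulEquiv.map_eq_one_iff] at this
      exact congrArg Subtype.val this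
    · rw [← Nat.card_coe_set_eq, ← Nat.card_coe_set_eq]
      show Nat.card {x : Matrix.SpecialLinearGroup (Fin 2) (ZMod 3) // x * x * x * x = 1} ≤ Nat.card Q
      rw [hQ, Nat.card_eq_fintype_card, hQ8]
  have hmemQ : ∀ x, x ∈ Q ↔ x * x * x * x = 1 := fun x => Set.ext_iff.1 hsub x
  haveI : Fact (Nat.Prime 3) := ⟨Nat.prime_three⟩
  have hcQ : commutator (Matrix.SpecialLinearGroup (Fin 2) (ZMod 3)) = Q := by
    refine le_antisymm ?_ fun x hx => ?_
    · haveI : IsCyclic (Matrix.SpecialLinearGroup (Fin 2) (ZMod 3) ⧸ Q) := isCyclic_of_prime_card (p := 3) hQi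
      rw [commutator_eq_closure, Subgroup.closure_le]
      rintro _ ⟨a, b, rfl⟩
      rw [SetLike.mem_coe, ← QuotientGroup.eq_one_iff]
      show (QuotientGroup.mk' Q) ⁅a, b⁆ = 1
      rw [map_commutatorElement, commutatorElement_eq_one_iff_mul_comm]
      haveI := IsCyclic.commutative (α := Matrix.SpecialLinearGroup (Fin 2) (ZMod 3) ⧸ Q); exact mul_comm' _ _
    · obtain ⟨a, b, e⟩ := hcomm x ((hmemQ x).1 hx)
      rw [e, ← commutatorElement_def, commutator_def]
      exact Subgroup.commutator_mem_commutator (Subgroup.mem_top a) (Subgroup.mem_top b)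
  rw [hcQ]
  refine ⟨h24, hZ, hQ, ⟨eQ⟩, fun P => ?_, fun N hN => ?_⟩
  · have hP : Nat.card P = 3 := by
      have hdvd := Subgroup.card_subgroup_dvd_card (P : Subgroup (Matrix.SpecialLinearGroup (Fin 2) (ZMod 3)))
      rw [h24] at hdvd
      obtain ⟨n, hn⟩ := IsPGroup.iff_card.1 P.isPGroup'
      have h3 : 3 ∣ Nat.card P := P.dvd_card_of_dvd_card (by rw [h24]; norm_num)
      rw [hn] at hdvd h3 ⊢
      have : n ≤ 1 := by
        by_contra hlt
        exact absurd ((pow_dvd_pow 3 (show 2 ≤ n by omega)).trans hdvd) (by norm_num)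
      interval_cases n <;> simp_all
    exact Subgroup.isComplement'_of_coprime (by rw [hQ, hP, h24]) (by rw [hQ, hP]; norm_num)
  · by_cases hc : N ≤ Subgroup.center (Matrix.SpecialLinearGroup (Fin 2) (ZMod 3))
    · rcases (Nat.dvd_prime Nat.prime_two).1 (hZ ▸ Subgroup.card_dvd_of_le hc) with h | h
      · exact Or.inl (Subgroup.eq_bot_of_card_eq N h)
      · exact Or.inr (Or.inr (Or.inl (Subgroup.eq_of_le_of_card_ge hc (by rw [hZ, h]))))
    obtain ⟨x, hxN, hxc⟩ := SetLike.not_le_iff_exists.1 hc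
    have hex : ∃ y, x * y ≠ y * x := by
      by_contra! h
      exact hxc (Subgroup.mem_center_iff.2 fun y => (h y).symm)
    have hQN : Q ≤ N := by
      intro q hq
      obtain ⟨g, h, rfl⟩ := hbig x hex q ((hmemQ q).1 hq)
      exact N.mul_mem (N.mul_mem (hN.conj_mem x hxN g) (N.inv_mem hxN)) (N.mul_mem (hN.conj_mem x hxN h) (N.inv_mem hxN))
    have hd := Subgroup.index_dvd_of_le hQN
    rw [hQi] at hd
    rcases (Nat.dvd_prime Nat.prime_three).1 hd with h | h
    · exact Or.inr (Or.inl (Subgroup.index_eq_one.1 h))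
    · refine Or.inr (Or.inr (Or.inr (Subgroup.eq_of_le_of_card_ge hQN ?_).symm))
      have := N.card_mul_index
      rw [h, h24] at this
      omega

end Cfsg.Agent.S2427
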