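import Cfsg.Statements.S2428
import Cfsg.Agent.Linear.TwoClasses
-- import your own Cfsg.Agent.* helpers here

set_option autoImplicit false
open Cfsg

namespace Cfsg.Agent.S2428

/-- Let F be a finite field with q elements, q odd, and let d be a diagonal element of SL₂ over F whose diagonal entry a has a² ≠ 1 (such d exist exactly when q > 3). Then the centraliser of d is precisely the diagonal subgroup T; the normaliser of T has order 2(q − 1) and exactly (q + 5)/2 conjugacy classes; and every element of that normaliser outside T has square equal to −1. -/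
theorem result {F : Type*} [Field F] [Fintype F] (hodd : Odd (Fintype.card F))
    (d : Matrix.SpecialLinearGroup (Fin 2) F) (hd01 : (d : Matrix (Fin 2) (Fin 2) F) 0 1 = 0) (hd10 : (d : Matrix (Fin 2) (Fin 2) F) 1 0 = 0) (hda : (d : Matrix (Fin 2) (Fin 2) F) 0 0 ^ 2 ≠ 1) :
    (∀ g : Matrix.SpecialLinearGroup (Fin 2) F, g ∈ Subgroup.centralizer ({d} : Set (Matrix.SpecialLinearGroup (Fin 2) F)) ↔ ((g : Matrix (Fin 2) (Fin 2) F) 0 1 = 0 ∧ (g : Matrix (Fin 2) (Fin 2) F) 1 0 = 0)) ∧
    Nat.card (Subgroup.normalizer ((Subgroup.centralizer ({d} : Set (Matrix.SpecialLinearGroup (Fin 2) F))) : Set (Matrix.SpecialLinearGroup (Fin 2) F))) = 2 * (Fintype.card F - 1) ∧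
    Nat.card (ConjClasses (Subgroup.normalizer ((Subgroup.centralizer ({d} : Set (Matrix.SpecialLinearGroup (Fin 2) F))) : Set (Matrix.SpecialLinearGroup (Fin 2) F)))) = (Fintype.card F + 5) / 2 ∧
    ∀ g : Matrix.SpecialLinearGroup (Fin 2) F, g ∈ Subgroup.normalizer ((Subgroup.centralizer ({d} : Set (Matrix.SpecialLinearGroup (Fin 2) F))) : Set (Matrix.SpecialLinearGroup (Fin 2) F)) →
      g ∉ Subgroup.centralizer ({d} : Set (Matrix.SpecialLinearGroup (Fin 2) F)) → ((g * g) : Matrix (Fin 2) (Fin 2) F) = -1 := by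
  have h2 := Cfsg.Agent.Linear.two_ne_zero_of_odd_card hodd
  have hd11 : (d : Matrix (Fin 2) (Fin 2) F) 0 0 * (d : Matrix (Fin 2) (Fin 2) F) 1 1 = 1 := by
    have h := Cfsg.Agent.Linear.SL_det_two d
    rw [hd01, zero_mul, sub_zero] at h
    exact h
  have hne : (d : Matrix (Fin 2) (Fin 2) F) 0 0 ≠ (d : Matrix (Fin 2) (Fin 2) F) 1 1 := fun e =>
    hda (by rw [sq]; nth_rewrite 2 [e]; exact hd11)
  have ht : (d : Matrix (Fin 2) (Fin 2) F).trace ^ 2 ≠ 4 := by
    rw [Matrix.trace_fin_two]
    intro e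
    have : ((d : Matrix (Fin 2) (Fin 2) F) 0 0 - (d : Matrix (Fin 2) (Fin 2) F) 1 1) ^ 2 = 0 := by
      linear_combination e - 4 * hd11
    exact hne (sub_eq_zero.mp (eq_zero_of_pow_eq_zero this))
  have hcard : Nat.card (Subgroup.centralizer ({d} : Set (Matrix.SpecialLinearGroup (Fin 2) F)))
      = Fintype.card F - 1 := Cfsg.Agent.Linear.card_centralizer_split_SL ht
    ⟨(d : Matrix (Fin 2) (Fin 2) F) 0 0, by rw [Matrix.trace_fin_two]; linear_combination -hd11⟩
  refine ⟨fun g => ?_, ?_, ?_, fun g hg hgC => ?_⟩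
  · constructor
    · intro hg
      have e := congrArg (fun x : Matrix.SpecialLinearGroup (Fin 2) F =>
        (x : Matrix (Fin 2) (Fin 2) F)) (Subgroup.mem_centralizer_singleton_iff.mp hg)
      simp only [Matrix.SpecialLinearGroup.coe_mul] at e
      obtain ⟨-, e2, e3⟩ := Cfsg.Agent.Linear.commute_entries e
      rw [hd01, zero_mul, mul_eq_zero] at e2
      rw [hd10, zero_mul, mul_eq_zero] at e3
      exact ⟨e2.resolve_right (sub_ne_zero.mpr hne.symm), e3.resolve_right (sub_ne_zero.mpr hne.symm)⟩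
    · rintro ⟨g01, g10⟩
      rw [Subgroup.mem_centralizer_singleton_iff]
      refine Cfsg.Agent.Linear.SL_ext_two ?_ ?_ ?_ ?_ <;>
        simp only [Cfsg.Agent.Linear.SL_mul_entries, g01, g10, hd01, hd10, mul_zero, zero_mul,
          add_zero, zero_add, mul_comm]
  · rw [Cfsg.Agent.Linear.card_normalizer_centralizer ht, hcard]
  · have h := Cfsg.Agent.Linear.card_conjClasses_normalizer h2 ht
    rw [hcard] at h
    have := Fintype.one_lt_card (α := F)
    omega
  · rcases (Cfsg.Agent.Linear.mem_normalizer_centralizer_iff ht).mp hg with e | e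
    · exact absurd (Subgroup.mem_centralizer_singleton_iff.mpr (mul_inv_eq_iff_eq_mul.mp e)) hgC
    · rw [← Matrix.SpecialLinearGroup.coe_mul, Cfsg.Agent.Linear.inverter_sq ht e,
        Matrix.SpecialLinearGroup.coe_neg, Matrix.SpecialLinearGroup.coe_one]

end Cfsg.Agent.S2428
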