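import Cfsg.Statements.S2429
import Cfsg.Agent.Linear.TwoClasses
-- import your own Cfsg.Agent.* helpers here

set_option autoImplicit false
open Cfsg

namespace Cfsg.Agent.S2429

/-- Let F be a finite field with q elements, q odd. Then SL₂ over F contains a cyclic subgroup T′ of order q + 1 (a non-split torus) with the following properties: T′ is its own centraliser, and indeed the centraliser of each element of T′ other than 1 and −1 is exactly T′; every element of SL₂ having no eigenvector in F² is conjugate to an element of T′; the normaliser of T′ has order 2(q + 1) and exactly (q + 7)/2 conjugacy classes; and every element of that normaliser outside T′ has square −1. -/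
theorem result {F : Type*} [Field F] [Fintype F] (hodd : Odd (Fintype.card F)) :
    ∃ T' : Subgroup (Matrix.SpecialLinearGroup (Fin 2) F), IsCyclic T' ∧ Nat.card T' = Fintype.card F + 1 ∧
      Subgroup.centralizer ((T' : Set (Matrix.SpecialLinearGroup (Fin 2) F))) = T' ∧
      (∀ g : Matrix.SpecialLinearGroup (Fin 2) F, g ∈ T' → (g : Matrix (Fin 2) (Fin 2) F) ≠ 1 → (g : Matrix (Fin 2) (Fin 2) F) ≠ -1 → Subgroup.centralizer ({g} : Set (Matrix.SpecialLinearGroup (Fin 2) F)) = T') ∧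
      (∀ g : Matrix.SpecialLinearGroup (Fin 2) F, (∀ (c : F) (v : Fin 2 → F), v ≠ 0 → (g : Matrix (Fin 2) (Fin 2) F).mulVec v ≠ c • v) → ∃ h : Matrix.SpecialLinearGroup (Fin 2) F, h * g * h⁻¹ ∈ T') ∧
      Nat.card (Subgroup.normalizer (T' : Set (Matrix.SpecialLinearGroup (Fin 2) F))) = 2 * (Fintype.card F + 1) ∧
      Nat.card (ConjClasses (Subgroup.normalizer (T' : Set (Matrix.SpecialLinearGroup (Fin 2) F)))) = (Fintype.card F + 7) / 2 ∧
      ∀ g : Matrix.SpecialLinearGroup (Fin 2) F, g ∈ Subgroup.normalizer (T' : Set (Matrix.SpecialLinearGroup (Fin 2) F)) → g ∉ T' → ((g * g) : Matrix (Fin 2) (Fin 2) F) = -1 := by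
  classical
  have h2 := Cfsg.Agent.Linear.two_ne_zero_of_odd_card hodd
  obtain ⟨ε, hε⟩ := FiniteField.exists_nonsquare (F := F) (fun h => h2 (by
    have := ringChar.charP F
    rw [h] at this
    exact CharTwo.two_eq_zero))
  have hε0 : ε ≠ 0 := fun h => hε (h ▸ IsSquare.zero)
  have hε1 : (1 : F) - ε ≠ 0 := sub_ne_zero.2 fun h => hε (h ▸ IsSquare.one)
  have h4 : (4 : F) ≠ 0 := by
    have : (4 : F) = 2 * 2 := by norm_num
    rw [this]; exact mul_ne_zero h2 h2
  obtain ⟨a, b, hb, hab⟩ : ∃ a b : F, b ≠ 0 ∧ a ^ 2 - ε * b ^ 2 = 1 :=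
    ⟨1 + -2 / (1 - ε), -2 / (1 - ε), div_ne_zero (neg_ne_zero.2 h2) hε1, by field_simp; ring⟩
  have hnsq : ∀ r : F, r ^ 2 ≠ (2 * a) ^ 2 - 4 := fun r hr => hε ⟨r / (2 * b), by
    field_simp
    linear_combination -hr - 4 * hab⟩
  set g : Matrix.SpecialLinearGroup (Fin 2) F := Cfsg.Agent.Linear.compSL (2 * a) with hg
  have htr : (g : Matrix (Fin 2) (Fin 2) F).trace = 2 * a := Cfsg.Agent.Linear.trace_compSL _
  have ht : (g : Matrix (Fin 2) (Fin 2) F).trace ^ 2 ≠ 4 := fun e =>
    hnsq 0 (by rw [← htr, e]; ring)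
  have hns := Cfsg.Agent.Linear.not_isScalarTwo_of_trace ht
  have hr : ∀ c : F, c ^ 2 - c * (g : Matrix (Fin 2) (Fin 2) F).trace + 1 ≠ 0 := fun c hc =>
    hnsq (2 * c - 2 * a) (by rw [htr] at hc; linear_combination 4 * hc)
  have hcard := Cfsg.Agent.Linear.card_centralizer_nonsplit_SL ht hr
  refine ⟨Subgroup.centralizer {g}, Cfsg.Agent.Linear.isCyclic_centralizer ht, hcard, ?_, ?_, ?_, ?_, ?_, ?_⟩
  · refine le_antisymm (fun x hx => ?_) (fun x hx y hy => ?_)
    · exact Subgroup.mem_centralizer_singleton_iff.2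
        (Subgroup.mem_centralizer_iff.1 hx g (Subgroup.mem_centralizer_singleton_iff.2 rfl)).symm
    · exact Cfsg.Agent.Linear.centralizer_comm hns hy hx
  · intro x hx h1 h1'
    refine Cfsg.Agent.Linear.centralizer_eq_of_mem hns hx fun hsc => ?_
    rcases Cfsg.Agent.Linear.isScalarTwo_SL_iff.1 hsc with e | e <;> subst e
    · exact h1 rfl
    · exact h1' rfl
  · intro x hx
    have hsn : ∀ r : F, r ^ 2 ≠ (x : Matrix (Fin 2) (Fin 2) F).trace ^ 2 - 4 := by
      intro r hr
      set c := ((x : Matrix (Fin 2) (Fin 2) F).trace + r) / 2 with hc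
      have hdet : ((x : Matrix (Fin 2) (Fin 2) F) - c • 1).det = 0 := by
        have hd := Cfsg.Agent.Linear.SL_det_two x
        rw [Cfsg.Agent.Linear.trace_SL_two] at hr hc
        have h2c : 2 * c = (x : Matrix (Fin 2) (Fin 2) F) 0 0 + (x : Matrix (Fin 2) (Fin 2) F) 1 1 + r := by
          rw [hc]; field_simp
        apply mul_left_cancel₀ h4
        rw [Matrix.det_fin_two, mul_zero]
        simp only [Matrix.sub_apply, Matrix.smul_apply, Matrix.one_apply_eq, Matrix.one_apply_ne (show (0 : Fin 2) ≠ 1 by decide),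
          Matrix.one_apply_ne (show (1 : Fin 2) ≠ 0 by decide), smul_eq_mul, mul_one, mul_zero, sub_zero]
        linear_combination 4 * hd + hr + (2 * c + r - (x : Matrix (Fin 2) (Fin 2) F) 0 0 -
          (x : Matrix (Fin 2) (Fin 2) F) 1 1) * h2c
      obtain ⟨v, hv, hv0⟩ := Matrix.exists_mulVec_eq_zero_iff.2 hdet
      exact hx c v hv (by rwa [Matrix.sub_mulVec, Matrix.smul_mulVec, Matrix.one_mulVec, sub_eq_zero] at hv0)
    have hxt : (x : Matrix (Fin 2) (Fin 2) F).trace ^ 2 ≠ 4 := fun e => hsn 0 (by rw [e]; ring)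
    set s := (x : Matrix (Fin 2) (Fin 2) F).trace with hs
    have hd0 : (2 * a) ^ 2 - 4 ≠ 0 := fun e => hnsq 0 (by rw [e]; ring)
    obtain ⟨r, hr2⟩ : IsSquare (((2 * a) ^ 2 - 4) * (s ^ 2 - 4)) :=
      Cfsg.Agent.Linear.isSquare_mul_of_not_isSquare hd0 (sub_ne_zero.2 hxt)
        (fun ⟨r, hr⟩ => hnsq r (by rw [hr, sq])) (fun ⟨r, hr⟩ => hsn r (by rw [hr, sq]))
    set v := r / ((2 * a) ^ 2 - 4) with hv
    have hv2 : v ^ 2 * ((2 * a) ^ 2 - 4) = s ^ 2 - 4 := by
      rw [hv, div_pow, div_mul_eq_mul_div, div_eq_iff (pow_ne_zero _ hd0)]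
      linear_combination -((2 * a) ^ 2 - 4) * hr2
    set u := (s - 2 * a * v) / 2 with hu
    have hu2 : 2 * u = s - 2 * a * v := by rw [hu]; field_simp
    let y : Matrix.SpecialLinearGroup (Fin 2) F := ⟨u • (1 : Matrix (Fin 2) (Fin 2) F) + v • (g : Matrix (Fin 2) (Fin 2) F), by
      rw [Cfsg.Agent.Linear.det_smul_add_smul, g.2, htr]
      apply mul_left_cancel₀ h4
      linear_combination (2 * u + s + 2 * a * v) * hu2 - hv2⟩
    have hyC : y ∈ Subgroup.centralizer {g} := (Cfsg.Agent.Linear.mem_centralizer_SL_two hns).2 ⟨u, v, rfl⟩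
    have hyt : (y : Matrix (Fin 2) (Fin 2) F).trace = s := by
      show (u • (1 : Matrix (Fin 2) (Fin 2) F) + v • (g : Matrix (Fin 2) (Fin 2) F)).trace = s
      rw [Cfsg.Agent.Linear.trace_smul_add_smul, htr]
      linear_combination hu2
    obtain ⟨k, hk⟩ := isConj_iff.1 (Cfsg.Agent.Linear.isConj_of_trace_eq
      (Cfsg.Agent.Linear.not_isScalarTwo_of_trace hxt)
      (Cfsg.Agent.Linear.not_isScalarTwo_of_trace (g := y) (by rw [hyt]; exact hxt)) hyt.symm (Or.inr hxt))
    exact ⟨k, by rw [hk]; exact hyC⟩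
  · rw [Cfsg.Agent.Linear.card_normalizer_centralizer ht, hcard]
  · have h := Cfsg.Agent.Linear.card_conjClasses_normalizer h2 ht
    rw [hcard] at h
    omega
  · intro x hx hxC
    rcases (Cfsg.Agent.Linear.mem_normalizer_centralizer_iff ht).mp hx with e | e
    · exact absurd (Subgroup.mem_centralizer_singleton_iff.mpr (mul_inv_eq_iff_eq_mul.mp e)) hxC
    · rw [← Matrix.SpecialLinearGroup.coe_mul, Cfsg.Agent.Linear.inverter_sq ht e,
        Matrix.SpecialLinearGroup.coe_neg, Matrix.SpecialLinearGroup.coe_one]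

end Cfsg.Agent.S2429
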