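import Cfsg.Statements.S2436
import Cfsg.Agent.H41.McKaySL2
-- import your own Cfsg.Agent.* helpers here

set_option autoImplicit false
open Cfsg

namespace Cfsg.Agent.S2436

theorem S2436_count {F : Type*} [Field F] [Fintype F] (hodd : Odd (Fintype.card F))
    (hq3 : Fintype.card F ≠ 3) (h2q : 2 ≤ Fintype.card F) (ℓ : ℕ) :
    Nat.card {χ : Cfsg.IrrCharacter (Matrix.SpecialLinearGroup (Fin 2) F) //
      ¬ ℓ ∣ Cfsg.charDegree (χ : Matrix.SpecialLinearGroup (Fin 2) F → ℂ)} =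
    (if ℓ ∣ 1 then 0 else 1) + (if ℓ ∣ Fintype.card F then 0 else 1) +
      (if ℓ ∣ Fintype.card F + 1 then 0 else (Fintype.card F - 3) / 2) +
      (if ℓ ∣ Fintype.card F - 1 then 0 else (Fintype.card F - 1) / 2) +
      (if ℓ ∣ (Fintype.card F + 1) / 2 then 0 else 2) +
      (if ℓ ∣ (Fintype.card F - 1) / 2 then 0 else 2) := by
  classical
  set S2 := Matrix.SpecialLinearGroup (Fin 2) F
  set q := Fintype.card F with hqdef
  have hoddq := Nat.odd_iff.1 hodd
  set d : Cfsg.IrrCharacter S2 → ℕ := fun χ => Cfsg.charDegree (χ : S2 → ℂ) with hd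
  obtain ⟨hcases, hcount⟩ := Cfsg.Agent.S2299.result hodd
  obtain ⟨n1, nq, np, nm, nhp, nhm⟩ := hcount (by omega)
  have hfib : ∀ (j k : ℕ) (x : ℂ), x = (j : ℂ) →
      Nat.card {χ : Cfsg.IrrCharacter S2 // (χ : S2 → ℂ) 1 = x} = k →
      (Finset.univ.filter fun χ => d χ = j).card = k := by
    intro j k x hx hk
    rw [← hk, Nat.card_eq_fintype_card, Fintype.card_subtype]
    congr 1
    refine Finset.filter_congr fun χ _ => ?_
    rw [hx, Cfsg.Agent.Linear.SLDegrees.one_eq_charDegree χ, Nat.cast_inj]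
  have f1 := hfib 1 _ _ Nat.cast_one.symm n1
  have fq := hfib q _ _ rfl nq
  have fp := hfib (q + 1) _ _ (by push_cast; rfl) np
  have fm := hfib (q - 1) _ _ (by rw [Nat.cast_sub (by omega), Nat.cast_one]) nm
  have fhp := hfib ((q + 1) / 2) _ _ rfl nhp
  have fhm := hfib ((q - 1) / 2) _ _ rfl nhm
  have hmap : ∀ χ ∈ (Finset.univ : Finset (Cfsg.IrrCharacter S2)),
      d χ ∈ ({1, q, q + 1, q - 1, (q + 1) / 2, (q - 1) / 2} : Finset ℕ) := by
    intro χ _
    obtain ⟨n, hn, hc⟩ := H53.sl_cases_odd_nat (Cfsg.Agent.Linear.two_ne_zero_of_odd_card hodd) χ.2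
    have hdn : d χ = n := Cfsg.Agent.Linear.SLDegrees.charDegree_eq hn
    simp only [Finset.mem_insert, Finset.mem_singleton]
    rcases hc with ⟨-, e⟩ | ⟨-, e⟩ | ⟨-, e⟩ | ⟨-, e⟩ | ⟨-, e⟩ | ⟨-, e⟩ <;> omega
  have hsum : ∀ j, (Finset.univ.filter fun χ => ¬ ℓ ∣ d χ ∧ d χ = j).card =
      if ℓ ∣ j then 0 else (Finset.univ.filter fun χ => d χ = j).card := by
    intro j
    split_ifs with h
    · exact Finset.card_eq_zero.2 (Finset.filter_eq_empty_iff.2 fun χ _ hh => hh.1 (hh.2 ▸ h))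
    · congr 1
      exact Finset.filter_congr fun χ _ => ⟨And.right, fun e => ⟨e ▸ h, e⟩⟩
  rw [Nat.card_eq_fintype_card, Fintype.card_subtype,
    Finset.card_eq_sum_card_fiberwise (fun χ _ => hmap χ (Finset.mem_univ χ)),
    Finset.sum_congr rfl fun j _ =>
      ((congrArg Finset.card (Finset.filter_filter _ _ _)).trans (hsum j))]
  rw [Finset.sum_insert, Finset.sum_insert, Finset.sum_insert, Finset.sum_insert,
    Finset.sum_insert, Finset.sum_singleton, f1, fq, fp, fm, fhp, fhm]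
  · simp only [show Fintype.card F = q from rfl]; ring
  all_goals simp only [Finset.mem_insert, Finset.mem_singleton] <;> omega

/-- Let F be a finite field with q elements, q odd, ℓ any prime and S a Sylow ℓ-subgroup of SL₂ over F with normaliser N. Then SL₂ and N have the same number of irreducible complex characters of degree not divisible by ℓ (the McKay equality holds for SL₂ over F at every prime). -/
theorem result {F : Type*} [Field F] [Fintype F] (hodd : Odd (Fintype.card F)) (ℓ : ℕ) [Fact ℓ.Prime] (S : Sylow ℓ (Matrix.SpecialLinearGroup (Fin 2) F)) :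
    Nat.card {χ : Cfsg.IrrCharacter (Matrix.SpecialLinearGroup (Fin 2) F) // ¬ ℓ ∣ Cfsg.charDegree (χ : Matrix.SpecialLinearGroup (Fin 2) F → ℂ)} =
      Nat.card {ψ : Cfsg.IrrCharacter (Subgroup.normalizer ((S : Subgroup (Matrix.SpecialLinearGroup (Fin 2) F)) : Set (Matrix.SpecialLinearGroup (Fin 2) F))) //
        ¬ ℓ ∣ Cfsg.charDegree (ψ : Subgroup.normalizer ((S : Subgroup (Matrix.SpecialLinearGroup (Fin 2) F)) : Set (Matrix.SpecialLinearGroup (Fin 2) F)) → ℂ)} := by
  classical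
  have h2 : (2 : F) ≠ 0 := Cfsg.Agent.Linear.two_ne_zero_of_odd_card hodd
  obtain ⟨f, hp0, hf⟩ := FiniteField.card F (ringChar F)
  have : Fact (ringChar F).Prime := ⟨hp0⟩
  have : CharP F (ringChar F) := ringChar.charP F
  have hl : ℓ.Prime := Fact.out
  have hq := Fintype.one_lt_card (α := F)
  set S2 := Matrix.SpecialLinearGroup (Fin 2) F
  set q := Fintype.card F with hqdef
  have htopcase : Subgroup.normalizer ((S : Subgroup S2) : Set S2) = ⊤ →
      Nat.card {χ : Cfsg.IrrCharacter S2 // ¬ ℓ ∣ Cfsg.charDegree (χ : S2 → ℂ)} =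
      Nat.card {ψ : Cfsg.IrrCharacter (Subgroup.normalizer ((S : Subgroup S2) : Set S2)) //
        ¬ ℓ ∣ Cfsg.charDegree (ψ : Subgroup.normalizer ((S : Subgroup S2) : Set S2) → ℂ)} := fun h =>
    H41.McKaySmall.card_prime'_congr ((MulEquiv.subgroupCongr h).trans Subgroup.topEquiv) ℓ
  have hG : Nat.card S2 = q * ((q + 1) * (q - 1)) := by
    rw [Cfsg.Agent.Linear.card_SL_two, ← Nat.sq_sub_sq, one_pow]
  have hall : Nat.card (Cfsg.IrrCharacter S2) = q + 4 := H53.card_irr_odd h2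
  set d : Cfsg.IrrCharacter S2 → ℕ := fun χ => Cfsg.charDegree (χ : S2 → ℂ) with hd
  obtain ⟨hcases, hcount⟩ := Cfsg.Agent.S2299.result hodd
  have hoddq := Nat.odd_iff.1 hodd
  by_cases hdv : ℓ ∣ Nat.card S2
  swap
  · refine htopcase ?_
    have : (S : Subgroup S2) = ⊥ := by
      obtain ⟨j, hj⟩ := IsPGroup.iff_card.mp S.isPGroup'
      refine Subgroup.eq_bot_of_card_eq _ ?_
      rcases Nat.eq_zero_or_pos j with rfl | h
      · simpa using hj
      · exact absurd ((dvd_pow_self ℓ h.ne').trans (hj ▸ Subgroup.card_subgroup_dvd_card _)) hdv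
    rw [Subgroup.normalizer_eq_top_iff, this]
    infer_instance
  by_cases hlp : ℓ = ringChar F
  · -- defining characteristic
    subst hlp
    rw [H41.McKaySL2.card_char hodd S]
    let st' : Cfsg.IrrCharacter S2 := ⟨_, H53.isIrrCharacter_stS⟩
    have hiff : ∀ χ : Cfsg.IrrCharacter S2, ¬ ringChar F ∣ d χ ↔ ¬ χ = st' := by
      intro χ
      have hpq : ringChar F ∣ q := hf ▸ dvd_pow_self _ f.ne_zero
      have hp2 : 2 < ringChar F := lt_of_le_of_ne hp0.two_le fun e => by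
        rw [← e] at hpq; omega
      refine not_congr ⟨fun h => ?_, fun h => ?_⟩
      · obtain ⟨n, hn, hc⟩ := H53.sl_cases_odd_nat h2 χ.2
        have hdn : d χ = n := Cfsg.Agent.Linear.SLDegrees.charDegree_eq hn
        rw [hdn] at h
        rcases hc with ⟨-, e⟩ | ⟨e, -⟩ | ⟨-, e⟩ | ⟨-, e⟩ | ⟨-, e⟩ | ⟨-, e⟩
        · exact absurd (e ▸ h) hp0.not_dvd_one
        · exact Subtype.ext e
        · exact absurd ((Nat.dvd_add_right hpq).1 (e ▸ h)) hp0.not_dvd_one
        · exact absurd ((Nat.dvd_add_right hpq).1 (e ▸ dvd_mul_of_dvd_right h 2)) hp0.not_dvd_one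
        · exact absurd ((Nat.dvd_add_right (dvd_mul_of_dvd_right h 2)).1 (e.symm ▸ hpq))
            hp0.not_dvd_one
        · exact absurd ((Nat.dvd_add_right h).1 (e.symm ▸ hpq)) hp0.not_dvd_one
      · have : d χ = q := Cfsg.Agent.Linear.SLDegrees.charDegree_eq (by rw [h]; exact H53.stS_one)
        rw [this]; exact hpq
    rw [Nat.card_congr (Equiv.subtypeEquivRight hiff), Nat.card_eq_fintype_card,
      Fintype.card_subtype_compl, Fintype.card_subtype_eq, ← Nat.card_eq_fintype_card, hall]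
    omega
  -- now ℓ divides q + 1 or q - 1
  have hpm : ℓ ∣ q + 1 ∨ ℓ ∣ q - 1 := by
    have h : ¬ ℓ ∣ q := fun h => hlp ((Nat.prime_dvd_prime_iff_eq hl hp0).1
      (hl.dvd_of_dvd_pow (hf ▸ h)))
    rw [hG] at hdv
    exact (Nat.Prime.dvd_mul hl).1 (((Nat.Prime.dvd_mul hl).1 hdv).resolve_left h)
  by_cases hl2 : ℓ = 2
  · subst hl2
    by_cases hq3 : q = 3
    · refine htopcase (Subgroup.eq_top_of_card_eq _ ?_)
      rw [H54.SLTwoSylow.card_normalizer_eight hodd (Or.inl (by rw [← hqdef, hq3])) S,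
        H41.McKaySL2.card_sylow_two_eight hodd (Or.inl (by rw [← hqdef, hq3])) S, hG, hq3]
    have hNside : Nat.card {ψ : Cfsg.IrrCharacter (Subgroup.normalizer ((S : Subgroup S2) : Set S2)) //
        ¬ 2 ∣ Cfsg.charDegree (ψ : Subgroup.normalizer ((S : Subgroup S2) : Set S2) → ℂ)} = 4 := by
      by_cases h8 : q % 8 = 1 ∨ q % 8 = 7
      · exact H41.McKaySL2.card_two_self hodd S (H54.SLTwoSylow.normalizer_eq_self hodd h8 S)
      · exact H41.McKaySL2.card_two_normal hodd (by omega) S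
    rw [hNside, S2436_count hodd hq3 (by omega) 2]
    rcases Nat.even_or_odd' ((q + 1) / 2) with ⟨r, hr | hr⟩ <;>
      split_ifs <;> omega
  · have hq3 : q ≠ 3 := fun e => hl2 (by
      rcases hpm with h | h <;> rw [e] at h <;>
        exact (Nat.prime_dvd_prime_iff_eq hl Nat.prime_two).1
          (hl.dvd_of_dvd_pow (n := 2) (h.trans (by norm_num))))
    have h3 : 3 ≤ ℓ := Nat.succ_le_of_lt (lt_of_le_of_ne hl.two_le (Ne.symm hl2))
    have two : ∀ a : ℕ, ¬ (ℓ ∣ a ∧ ℓ ∣ a + 2) := fun a ha =>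
      hl2 ((Nat.prime_dvd_prime_iff_eq hl Nat.prime_two).mp ((Nat.dvd_add_right ha.1).mp ha.2))
    have hhalf : ∀ a : ℕ, ℓ ∣ a → 2 ∣ a → ℓ ∣ a / 2 := fun a ha h => by
      obtain ⟨r, rfl⟩ := h
      rw [Nat.mul_div_cancel_left r (by norm_num)]
      exact ((Nat.Prime.dvd_mul hl).1 ha).resolve_left fun e =>
        hl2 ((Nat.prime_dvd_prime_iff_eq hl Nat.prime_two).mp e)
    have hq' : ¬ ℓ ∣ q := fun h => hlp ((Nat.prime_dvd_prime_iff_eq hl hp0).1
      (hl.dvd_of_dvd_pow (hf ▸ h)))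
    rw [S2436_count hodd hq3 (by omega) ℓ]
    rcases hpm with hp | hm
    · have hN := H41.McKaySL2.card_torus hodd hl2 S (Or.inr ⟨hp, rfl⟩)
      have hnm : ¬ ℓ ∣ q - 1 := fun h => two _ ⟨h, by rwa [show q - 1 + 2 = q + 1 by omega]⟩
      have e1 := hhalf _ hp (by omega)
      have e2 : ¬ ℓ ∣ (q - 1) / 2 := fun h => hnm (by
        rw [show q - 1 = 2 * ((q - 1) / 2) by omega]; exact h.mul_left 2)
      rw [if_pos hp, if_neg hnm, if_pos e1, if_neg e2, if_neg hq', if_neg hl.not_dvd_one]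
      omega
    · have hN := H41.McKaySL2.card_torus hodd hl2 S (Or.inl ⟨hm, rfl⟩)
      have hnp : ¬ ℓ ∣ q + 1 := fun h => two _ ⟨hm, by rwa [show q - 1 + 2 = q + 1 by omega]⟩
      have e1 := hhalf _ hm (by omega)
      have e2 : ¬ ℓ ∣ (q + 1) / 2 := fun h => hnp (by
        rw [show q + 1 = 2 * ((q + 1) / 2) by omega]; exact h.mul_left 2)
      rw [if_neg hnp, if_pos hm, if_neg e2, if_pos e1, if_neg hq', if_neg hl.not_dvd_one]
      omega

end Cfsg.Agent.S2436
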