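import Cfsg.Statements.S2438
import Cfsg.Agent.Linear.SLDegrees
-- import your own Cfsg.Agent.* helpers here

set_option autoImplicit false
open Cfsg Cfsg.Agent Cfsg.Agent.Linear

namespace Cfsg.Agent.S2438

/-- Let F be a finite field with q elements, q odd, q ≥ 5, U the upper unitriangular subgroup of SL₂ over F, and χ an irreducible complex character. The sum of the values of χ over U equals 2q, q, 0, q, 0 according as the degree of χ is q + 1, q, q − 1, (q + 1)/2, (q − 1)/2; so among these five degrees the sum vanishes exactly for the degrees q − 1 and (q − 1)/2, i.e. the irreducible characters of those two degrees are the ones whose restriction to U does not contain the trivial character (the cuspidal characters), while those of degree q + 1, q and (q + 1)/2 are not cuspidal. -/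
theorem result {F : Type*} [Field F] [Fintype F] [DecidableEq F] (hodd : Odd (Fintype.card F)) (hq : 5 ≤ Fintype.card F)
    (χ : Matrix.SpecialLinearGroup (Fin 2) F → ℂ) (hχ : Cfsg.IsIrrCharacter (Matrix.SpecialLinearGroup (Fin 2) F) χ) :
    (χ 1 = (Fintype.card F : ℂ) + 1 →
      (∑ g : Matrix.SpecialLinearGroup (Fin 2) F, if (g : Matrix (Fin 2) (Fin 2) F) 1 0 = 0 ∧ (g : Matrix (Fin 2) (Fin 2) F) 0 0 = 1 ∧ (g : Matrix (Fin 2) (Fin 2) F) 1 1 = 1 then χ g else 0) = 2 * (Fintype.card F : ℂ)) ∧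
    (χ 1 = (Fintype.card F : ℂ) →
      (∑ g : Matrix.SpecialLinearGroup (Fin 2) F, if (g : Matrix (Fin 2) (Fin 2) F) 1 0 = 0 ∧ (g : Matrix (Fin 2) (Fin 2) F) 0 0 = 1 ∧ (g : Matrix (Fin 2) (Fin 2) F) 1 1 = 1 then χ g else 0) = (Fintype.card F : ℂ)) ∧
    (χ 1 = (Fintype.card F : ℂ) - 1 →
      (∑ g : Matrix.SpecialLinearGroup (Fin 2) F, if (g : Matrix (Fin 2) (Fin 2) F) 1 0 = 0 ∧ (g : Matrix (Fin 2) (Fin 2) F) 0 0 = 1 ∧ (g : Matrix (Fin 2) (Fin 2) F) 1 1 = 1 then χ g else 0) = 0) ∧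
    (χ 1 = (((Fintype.card F + 1) / 2 : ℕ) : ℂ) →
      (∑ g : Matrix.SpecialLinearGroup (Fin 2) F, if (g : Matrix (Fin 2) (Fin 2) F) 1 0 = 0 ∧ (g : Matrix (Fin 2) (Fin 2) F) 0 0 = 1 ∧ (g : Matrix (Fin 2) (Fin 2) F) 1 1 = 1 then χ g else 0) = (Fintype.card F : ℂ)) ∧
    (χ 1 = (((Fintype.card F - 1) / 2 : ℕ) : ℂ) →
      (∑ g : Matrix.SpecialLinearGroup (Fin 2) F, if (g : Matrix (Fin 2) (Fin 2) F) 1 0 = 0 ∧ (g : Matrix (Fin 2) (Fin 2) F) 0 0 = 1 ∧ (g : Matrix (Fin 2) (Fin 2) F) 1 1 = 1 then χ g else 0) = 0) := by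
  classical
  have h2 : (2 : F) ≠ 0 := two_ne_zero_of_odd_card hodd
  obtain ⟨m, hm⟩ := hodd
  have hU : ∀ φ : Matrix.SpecialLinearGroup (Fin 2) F → ℂ,
      (∑ g : Matrix.SpecialLinearGroup (Fin 2) F, if (g : Matrix (Fin 2) (Fin 2) F) 1 0 = 0 ∧
        (g : Matrix (Fin 2) (Fin 2) F) 0 0 = 1 ∧ (g : Matrix (Fin 2) (Fin 2) F) 1 1 = 1 then φ g else 0) =
      ∑ c : F, φ (H53.upS 1 c) := by
    intro φ
    rw [← Finset.sum_filter]
    refine (Finset.sum_nbij' (fun c => H53.upS 1 c) (fun g => (g : Matrix (Fin 2) (Fin 2) F) 0 1)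
      (fun c _ => ?_) (fun g _ => Finset.mem_univ _) (fun c _ => ?_) (fun g hg => ?_) fun c _ => rfl).symm
    · simp [H53.coe_upS]
    · simp [H53.coe_upS]
    · obtain ⟨-, h1, h2, h3⟩ := Finset.mem_filter.mp hg
      apply SL_ext_two <;> simp [H53.coe_upS, h1, h2, h3]
  simp only [hU]
  have hcl := CharBasic.IsIrr.isClassFunction hχ
  have hsp : ∀ α : MulChar F ℂ, ∀ c : F, H53.sprin α (H53.upS 1 c) =
      1 + if c = 0 then (Fintype.card F : ℂ) else 0 := by
    intro α c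
    rw [H53.sprin_upper α (by simp [H53.coe_upS])]
    simp [H53.coe_upS]
    split_ifs with hc <;> simp [hc]
  have hspsum : ∀ α : MulChar F ℂ, ∑ c : F, H53.sprin α (H53.upS 1 c) = 2 * (Fintype.card F : ℂ) := by
    intro α
    simp only [hsp, Finset.sum_add_distrib, Finset.sum_ite_eq', Finset.mem_univ, if_true,
      Finset.sum_const, Finset.card_univ, nsmul_eq_mul, mul_one]
    ring
  obtain ⟨d, hd, hc⟩ := H53.sl_cases_odd_nat h2 hχ
  simp only [hd]
  have hcast : ∀ {a b : ℕ}, (a : ℂ) = (b : ℂ) → a = b := fun h => Nat.cast_injective h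
  have h1 : ∀ {a : ℕ}, (a : ℂ) = (Fintype.card F : ℂ) + 1 → a = Fintype.card F + 1 :=
    fun h => hcast (by push_cast; exact h)
  have h1' : ∀ {a : ℕ}, (a : ℂ) = (Fintype.card F : ℂ) - 1 → a + 1 = Fintype.card F :=
    fun h => hcast (by push_cast; linear_combination h)
  refine ⟨fun e => ?_, fun e => ?_, fun e => ?_, fun e => ?_, fun e => ?_⟩
  all_goals first | have e := h1 e | have e := h1' e | have e := hcast e
  all_goals
    rcases hc with ⟨h, hd'⟩ | ⟨h, hd'⟩ | ⟨⟨α, -, h⟩, hd'⟩ | ⟨⟨ε, hε, hε1, H⟩, hd'⟩ | ⟨h, hd'⟩ | ⟨h, hd'⟩ <;>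
      first | (exfalso; omega) | skip
  · rw [h]; exact hspsum α
  · rw [h]
    simp only [H53.stS, Pi.sub_apply, Finset.sum_sub_distrib, hspsum, Finset.sum_const, Finset.card_univ,
      nsmul_eq_mul, mul_one]
    ring
  · exact h.sum_upS hcl 1
  · exact H.sum_upS hε hε1
  · exact h.sum_upS hcl 1

end Cfsg.Agent.S2438
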