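import Cfsg.Statements.S2444
import Cfsg.Agent.H60.Ore.Two
import Cfsg.Agent.H60.Ore.Three
import Cfsg.Agent.H60.Ore.Large

set_option autoImplicit false
open Cfsg

namespace Cfsg.Agent.S2444

open Cfsg.Agent.H60.Ore in
/-- Commutator data for any matrix of determinant one. -/
theorem com_all {F : Type*} [Field F] [Fintype F] (n : ℕ) (hn : 2 ≤ n)
    (hex : n = 2 → 4 ≤ Fintype.card F) (A : Matrix (Fin n) (Fin n) F) (hA : A.det = 1) :
    Com A 1 1 := by
  have hone : 1 < Fintype.card F := Fintype.one_lt_card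
  rcases (show Fintype.card F = 2 ∨ Fintype.card F = 3 ∨ 4 ≤ Fintype.card F by omega) with hq | hq | hq
  · have h2 : ∀ x : F, x ≠ 0 → x = 1 := fun x hx => by
      simpa [hq] using FiniteField.pow_card_sub_one_eq_one x hx
    obtain ⟨L, hL, hsz, hs⟩ := exists_blks (Matrix.GeneralLinearGroup.mkOfDetNeZero A (by rw [hA]; exact one_ne_zero))
    refine Com.of_sim hs (Two.com_list h2 L hL fun h => ?_)
    rw [h] at hsz
    simp [sz, Two.natDegree_J h2] at hsz
    have := hex hsz.symm
    omega
  · obtain ⟨L, hL, hsz, hs⟩ := exists_blks (Matrix.GeneralLinearGroup.mkOfDetNeZero A (by rw [hA]; exact one_ne_zero))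
    refine Com.of_sim hs ((Three.both_list hq L.length L rfl hL (hs.det_eq.symm.trans hA) ?_).2 ?_).1
    · rintro rfl
      simp [sz] at hsz
      omega
    · rw [hsz]
      by_contra h
      have := hex (by omega)
      omega
  · by_cases hsc : ∃ l : F, A = l • 1
    · obtain ⟨l, rfl⟩ := hsc
      exact Large.com_scalar (by omega) l (by simpa [Matrix.det_smul] using hA)
    · push Not at hsc
      rcases (show n = 2 ∨ 3 ≤ n by omega) with rfl | h3
      · exact Large.com_two hq A hA hsc
      · exact Large.com_large hq h3 A hA hsc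

/-- In the special linear group SL(n,F) over a finite field F, with n ≥ 2 and (n, |F|) not (2,2) or (2,3), every element is a commutator a·b·a⁻¹·b⁻¹ of two elements of SL(n,F). -/
theorem result {F : Type*} [Field F] [Fintype F] (n : ℕ) (hn : 2 ≤ n) (hex : n = 2 → 4 ≤ Fintype.card F) :
    ∀ g : Matrix.SpecialLinearGroup (Fin n) F, ∃ a b : Matrix.SpecialLinearGroup (Fin n) F, g = a * b * a⁻¹ * b⁻¹ := by
  intro g
  obtain ⟨a, b, ha, hb, hab⟩ := com_all n hn hex g.1 g.2
  let a' : Matrix.SpecialLinearGroup (Fin n) F := ⟨a, ha⟩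
  let b' : Matrix.SpecialLinearGroup (Fin n) F := ⟨b, hb⟩
  have h : g * b' * a' = a' * b' := Subtype.ext hab.symm
  exact ⟨a', b', by rw [← h]; group⟩

end Cfsg.Agent.S2444
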