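import Cfsg.Statements.S2445
import Cfsg.Agent.H69.OreSp.Main

set_option autoImplicit false
open Cfsg

namespace Cfsg.Agent.S2445

/-- In the symplectic group Sp(2m,F) over a finite field F (m ≥ 1), other than Sp(2,2), Sp(2,3) and Sp(4,2), every element is a commutator a·b·a⁻¹·b⁻¹ of two elements of Sp(2m,F). -/
theorem result {F : Type*} [Field F] [Fintype F] (m : ℕ) (hm : 1 ≤ m) (h1 : m = 1 → 4 ≤ Fintype.card F)
    (h2 : m = 2 → 3 ≤ Fintype.card F) : ∀ g : Matrix.symplecticGroup (Fin m) F, ∃ a b : Matrix.symplecticGroup (Fin m) F, g = a * b * a⁻¹ * b⁻¹ := by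
  intro g
  have hok : Agent.H69.OreSp.OkRange F m := by
    rcases Nat.lt_or_ge (Fintype.card F) 4 with h4 | h4
    · rcases Nat.lt_or_ge m 3 with h3 | h3
      · have hm2 : m = 2 := by
          rcases Nat.lt_or_ge m 2 with h | h
          · exact absurd (h1 (by omega)) (by omega)
          · omega
        have := h2 hm2
        exact Or.inr (Or.inl ⟨by omega, by omega⟩)
      · exact Or.inr (Or.inr (Or.inl h3))
    · exact Or.inl h4
  have hd : Module.finrank F (Fin m ⊕ Fin m → F) = 2 * m := by
    rw [Module.finrank_pi, Fintype.card_sum, Fintype.card_fin]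
    omega
  have h := Agent.H69.OreSp.isCom_isom m _ (Agent.Symplectic.spB m F) (Agent.Symplectic.spB_alt m F)
    (Agent.Symplectic.spB_nondeg m F) m rfl hd hok (Agent.Symplectic.spEquiv m F g)
  have := h.map (Agent.Symplectic.spEquiv m F).symm.toMonoidHom
  rwa [MulEquiv.coe_toMonoidHom, MulEquiv.symm_apply_apply] at this

end Cfsg.Agent.S2445
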