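import Cfsg.Statements.S2447
import Cfsg.Agent.H58.OreOmega.Main

set_option autoImplicit false
open Cfsg

namespace Cfsg.Agent.S2447

/-- Let F be a finite field of odd order and n ≥ 3, and let Ω(2n+1,F) be the commutator subgroup of the orthogonal group of the non-singular quadratic form x₀² + Σ xᵢyᵢ in dimension 2n+1. Then every element of Ω(2n+1,F) is a commutator a·b·a⁻¹·b⁻¹ of two elements of Ω(2n+1,F). -/
theorem result {F : Type*} [Field F] [Fintype F] (hodd : Odd (Fintype.card F)) (n : ℕ) (hn : 3 ≤ n) :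
    ∀ g : Cfsg.Omega F (Cfsg.quadFormOdd n F), ∃ a b : Cfsg.Omega F (Cfsg.quadFormOdd n F), g = a * b * a⁻¹ * b⁻¹ := by
  classical
  have h2 : (2 : F) ≠ 0 := by
    refine Ring.two_ne_zero (fun h => ?_)
    exact Nat.not_even_iff_odd.2 hodd (FiniteField.even_card_iff_char_two.1 h |> Nat.even_iff.2)
  intro g
  obtain ⟨g, hg⟩ := g
  let Q := Cfsg.Agent.Orthogonal.formOdd F n
  have hgQ := (Cfsg.Agent.Orthogonal.mem_omega_iff Q g).1 hg
  obtain ⟨a, ha, b, hb, hab⟩ := Cfsg.Agent.H58.OreOmega.ore_formOdd h2 hn _ hgQ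
  refine ⟨⟨(Cfsg.Agent.Orthogonal.toO Q).symm a, ?_⟩, ⟨(Cfsg.Agent.Orthogonal.toO Q).symm b, ?_⟩, ?_⟩
  · exact (Cfsg.Agent.Orthogonal.mem_omega_iff Q _).2 (by rwa [MulEquiv.apply_symm_apply])
  · exact (Cfsg.Agent.Orthogonal.mem_omega_iff Q _).2 (by rwa [MulEquiv.apply_symm_apply])
  · apply Subtype.ext
    apply (Cfsg.Agent.Orthogonal.toO Q).injective
    refine hab.trans ?_
    exact (by simp only [map_mul, map_inv, MulEquiv.apply_symm_apply] :
      a * b * a⁻¹ * b⁻¹ = Cfsg.Agent.Orthogonal.toO Q ((Cfsg.Agent.Orthogonal.toO Q).symm a *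
        (Cfsg.Agent.Orthogonal.toO Q).symm b * ((Cfsg.Agent.Orthogonal.toO Q).symm a)⁻¹ *
        ((Cfsg.Agent.Orthogonal.toO Q).symm b)⁻¹))

end Cfsg.Agent.S2447
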