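import Cfsg.Statements.S2448
import Cfsg.Agent.H58.OreEven.Main
import Cfsg.Agent.Orthogonal.StdForms

set_option autoImplicit false
open Cfsg

namespace Cfsg.Agent.S2448

/-- Let F be a finite field and n ≥ 4, and let Ω⁺(2n,F) be the commutator subgroup of the orthogonal group of the quadratic form Σ xᵢyᵢ (n hyperbolic planes). Then every element of Ω⁺(2n,F) is a commutator a·b·a⁻¹·b⁻¹ of two elements of Ω⁺(2n,F). -/
theorem result {F : Type*} [Field F] [Fintype F] (n : ℕ) (hn : 4 ≤ n) : ∀ g : Cfsg.Omega F (Cfsg.quadFormPlus n F), ∃ a b : Cfsg.Omega F (Cfsg.quadFormPlus n F), g = a * b * a⁻¹ * b⁻¹ := by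
  classical
  intro g
  obtain ⟨g, hg⟩ := g
  let Q := Cfsg.Agent.Orthogonal.formPlus F n
  have hQ : Cfsg.Agent.Orthogonal.Nondeg Q := Cfsg.Agent.Orthogonal.formPlus_nondeg F n
  have hgQ := (Cfsg.Agent.Orthogonal.mem_omega_iff Q g).1 hg
  obtain ⟨u, hu, v, hv, huv⟩ := Cfsg.Agent.H58.OreEven.ore_even hQ (n := n) hn (by
    rw [Module.finrank_fintype_fun_eq_card]
    simp only [Fintype.card_sum, Fintype.card_fin]
    omega) _ hgQ
  refine ⟨⟨(Cfsg.Agent.Orthogonal.toO Q).symm u, ?_⟩, ⟨(Cfsg.Agent.Orthogonal.toO Q).symm v, ?_⟩, ?_⟩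
  · exact (Cfsg.Agent.Orthogonal.mem_omega_iff Q _).2 (by rwa [MulEquiv.apply_symm_apply])
  · exact (Cfsg.Agent.Orthogonal.mem_omega_iff Q _).2 (by rwa [MulEquiv.apply_symm_apply])
  · apply Subtype.ext
    apply (Cfsg.Agent.Orthogonal.toO Q).injective
    refine huv.trans ?_
    exact (by simp only [map_mul, map_inv, MulEquiv.apply_symm_apply] :
      u * v * u⁻¹ * v⁻¹ = Cfsg.Agent.Orthogonal.toO Q ((Cfsg.Agent.Orthogonal.toO Q).symm u *
        (Cfsg.Agent.Orthogonal.toO Q).symm v * ((Cfsg.Agent.Orthogonal.toO Q).symm u)⁻¹ *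
        ((Cfsg.Agent.Orthogonal.toO Q).symm v)⁻¹))

end Cfsg.Agent.S2448
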