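import Cfsg.Statements.S2450
import Cfsg.Agent.H55.SLTwoClasses

set_option autoImplicit false
open Cfsg

namespace Cfsg.Agent.S2450

open Cfsg.Agent.H55 Cfsg.Agent.Linear Matrix Polynomial

variable {F : Type*} [Field F]

local notation "M2" => Matrix (Fin 2) (Fin 2) F
local notation "S2" => Matrix.SpecialLinearGroup (Fin 2) F

theorem quad_const [Fintype F] (h4 : 4 ≤ Fintype.card F) (α β T τ : F)
    (h : ∀ x : F, T + x * α + x * x * β = τ ∨ T + x * α + x * x * β = -τ) : α = 0 ∧ β = 0 := by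
  classical
  have h1 : ∀ ρ : F, (∀ x : F, T + x * α + x * x * β = ρ → x ∈
      ((C β * X ^ 2 + C α * X + C (T - ρ) : F[X]).roots.toFinset) ∨
      (C β * X ^ 2 + C α * X + C (T - ρ) : F[X]) = 0) := by
    intro ρ x hx
    rcases eq_or_ne (C β * X ^ 2 + C α * X + C (T - ρ) : F[X]) 0 with h0 | h0
    · exact Or.inr h0
    · left
      rw [Multiset.mem_toFinset, mem_roots h0]
      simp only [IsRoot.def, Polynomial.eval_add, Polynomial.eval_mul, Polynomial.eval_C, Polynomial.eval_pow, Polynomial.eval_X]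
      linear_combination hx
  have hz : ∀ ρ : F, (C β * X ^ 2 + C α * X + C (T - ρ) : F[X]) = 0 → α = 0 ∧ β = 0 := by
    intro ρ h0
    exact ⟨by simpa using congrArg (fun f : F[X] => f.coeff 1) h0,
      by simpa using congrArg (fun f : F[X] => f.coeff 2) h0⟩
  by_contra hne
  have hcard : ∀ ρ : F, ((C β * X ^ 2 + C α * X + C (T - ρ) : F[X]).roots.toFinset).card ≤ 2 :=
    fun ρ => ((Multiset.toFinset_card_le _).trans (card_roots' _)).trans natDegree_quadratic_le
  have hsub : (Finset.univ : Finset F) ⊆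
      ((C β * X ^ 2 + C α * X + C (T - τ) : F[X]).roots.toFinset) ∪
      ((C β * X ^ 2 + C α * X + C (T - -τ) : F[X]).roots.toFinset) := by
    intro x _
    rcases h x with e | e
    · exact Finset.mem_union_left _ ((h1 τ x e).resolve_right (fun h0 => hne (hz τ h0)))
    · exact Finset.mem_union_right _ ((h1 (-τ) x e).resolve_right (fun h0 => hne (hz _ h0)))
  have hle := Finset.card_le_card hsub
  rw [Finset.card_univ] at hle
  rcases gcd_two_eq (F := F) with ⟨h2, -, -⟩ | ⟨-, -, hodd⟩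
  · have : CharP F 2 := CharTwo.of_one_ne_zero_of_two_eq_zero one_ne_zero h2
    rw [CharTwo.neg_eq, Finset.union_self] at hle
    have := hcard τ
    omega
  · have := hle.trans (Finset.card_union_le _ _)
    have := hcard τ
    have := hcard (-τ)
    omega

/-- Upper transvection. -/
def up (x : F) : S2 := ⟨!![1, x; 0, 1], by simp [Matrix.det_fin_two]⟩

/-- Lower transvection. -/
def lo (x : F) : S2 := ⟨!![1, 0; x, 1], by simp [Matrix.det_fin_two]⟩

theorem trace_up (A B : S2) (x : F) :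
    ((A * (up x * B * (up x)⁻¹) : S2) : M2).trace = ((A * B : S2) : M2).trace +
      x * ((A : M2) 0 0 * (B : M2) 1 0 + (A : M2) 1 0 * ((B : M2) 1 1 - (B : M2) 0 0) - (A : M2) 1 1 * (B : M2) 1 0) +
      x * x * (-((A : M2) 1 0 * (B : M2) 1 0)) := by
  obtain ⟨i00, i11, i01, i10⟩ := SL_inv_entries (up x)
  simp only [Matrix.trace_fin_two, SL_mul_entries, i00, i11, i01, i10]
  simp [up]
  ring

theorem exists_lower_ne [Fintype F] (h4 : 4 ≤ Fintype.card F) {B : S2} (hB : ¬ IsScalarTwo (B : M2)) :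
    ∃ W : S2, ((W * B * W⁻¹ : S2) : M2) 1 0 ≠ 0 := by
  by_contra hne
  push Not at hne
  have h10 : (B : M2) 1 0 = 0 := by simpa using hne 1
  have hlo : ∀ x : F, x * ((B : M2) 0 0 - (B : M2) 1 1) + x * x * (-(B : M2) 0 1) = 0 := by
    intro x
    have := hne (lo x)
    obtain ⟨i00, i11, i01, i10⟩ := SL_inv_entries (lo x)
    simp only [SL_mul_entries, i00, i11, i01, i10] at this
    simp [lo, h10] at this
    linear_combination this
  obtain ⟨ha, hb⟩ := quad_const h4 ((B : M2) 0 0 - (B : M2) 1 1) (-(B : M2) 0 1) 0 0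
    (fun x => Or.inl (by rw [zero_add]; exact hlo x))
  exact hB ⟨neg_eq_zero.1 hb, h10, sub_eq_zero.1 ha⟩

/-- The Arad–Herzog conjecture for PSL(2,q): let F be a finite field with q ≥ 4 elements. For any two non-identity elements a, b of PSL(2,F), the set of products of a conjugate of a with a conjugate of b is not a single conjugacy class. -/
theorem result {F : Type*} [Field F] [Fintype F] (h4 : 4 ≤ Fintype.card F)
    (a b : Matrix.ProjectiveSpecialLinearGroup (Fin 2) F) (ha : a ≠ 1) (hb : b ≠ 1) (c : Matrix.ProjectiveSpecialLinearGroup (Fin 2) F) :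
    {g : Matrix.ProjectiveSpecialLinearGroup (Fin 2) F | ∃ u v : Matrix.ProjectiveSpecialLinearGroup (Fin 2) F, g = (u * a * u⁻¹) * (v * b * v⁻¹)} ≠ {g | IsConj c g} := by
  intro heq
  obtain ⟨A, rfl⟩ := QuotientGroup.mk'_surjective _ a
  obtain ⟨B, rfl⟩ := QuotientGroup.mk'_surjective _ b
  obtain ⟨D, rfl⟩ := QuotientGroup.mk'_surjective _ c
  set τ := (D : Matrix (Fin 2) (Fin 2) F).trace
  have htr : ∀ U W : Matrix.SpecialLinearGroup (Fin 2) F,
      (((U * A * U⁻¹) * (W * B * W⁻¹) : Matrix.SpecialLinearGroup (Fin 2) F) : Matrix (Fin 2) (Fin 2) F).trace = τ ∨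
      (((U * A * U⁻¹) * (W * B * W⁻¹) : Matrix.SpecialLinearGroup (Fin 2) F) : Matrix (Fin 2) (Fin 2) F).trace = -τ := by
    intro U W
    have hmem : toPSL ((U * A * U⁻¹) * (W * B * W⁻¹)) ∈
        {g : Matrix.ProjectiveSpecialLinearGroup (Fin 2) F | IsConj (toPSL D) g} :=
      heq ▸ ⟨toPSL U, toPSL W, by simp only [map_mul, map_inv]⟩
    obtain ⟨y, hy⟩ := isConj_iff.1 hmem
    obtain ⟨Y, rfl⟩ := QuotientGroup.mk'_surjective _ y
    have hconj : ((Y * D * Y⁻¹ : Matrix.SpecialLinearGroup (Fin 2) F) : Matrix (Fin 2) (Fin 2) F).trace = τ := by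
      rw [Matrix.SpecialLinearGroup.coe_mul, Matrix.SpecialLinearGroup.coe_mul, Matrix.trace_mul_cycle,
        ← Matrix.SpecialLinearGroup.coe_mul, inv_mul_cancel, Matrix.SpecialLinearGroup.coe_one, one_mul]
    rw [← map_inv, ← map_mul, ← map_mul, toPSL_two_eq_iff] at hy
    rcases hy with hy | hy
    · left; rw [← hy, hconj]
    · right
      rw [← neg_eq_iff_eq_neg.2 hy, Matrix.SpecialLinearGroup.coe_neg, Matrix.trace_neg, hconj]
  obtain ⟨W, hW⟩ := exists_lower_ne h4 (not_scalar_of_ne_one hb)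
  have hA : ∀ U : Matrix.SpecialLinearGroup (Fin 2) F,
      ((U * A * U⁻¹ : Matrix.SpecialLinearGroup (Fin 2) F) : Matrix (Fin 2) (Fin 2) F) 1 0 = 0 := by
    intro U
    set B' := W * B * W⁻¹
    obtain ⟨-, h2⟩ := quad_const h4 _ _ _ τ (fun x => by
      have := htr U (up x * W)
      rwa [show up x * W * B * (up x * W)⁻¹ = up x * B' * (up x)⁻¹ by simp [B', mul_assoc],
        trace_up] at this)
    exact (mul_eq_zero.1 (neg_eq_zero.1 h2)).resolve_right hW
  obtain ⟨U, hU⟩ := exists_lower_ne h4 (not_scalar_of_ne_one ha)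
  exact hU (hA U)

end Cfsg.Agent.S2450
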