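import Cfsg.Statements.S2455
import Cfsg.Agent.H55.SLTwoClasses

set_option autoImplicit false
open Cfsg

namespace Cfsg.Agent.S2455

open Cfsg.Agent.H55 Cfsg.Agent.Linear

/-- A strong covering result in the direction of Thompson's conjecture (non-identity elements) for PSL(2,q), q odd: let F be a finite field of odd characteristic p with at least 5 elements and let x ∈ PSL(2,F) have order greater than 2 and not divisible by p (so x is not unipotent). Then every non-identity element of PSL(2,F) is a product of two conjugates of x. -/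
theorem result {F : Type*} [Field F] [Fintype F] (p : ℕ) [Fact p.Prime] [CharP F p] (hp : p ≠ 2) (h5 : 5 ≤ Fintype.card F)
    (x : Matrix.ProjectiveSpecialLinearGroup (Fin 2) F) (hx2 : 2 < orderOf x) (hxp : ¬ p ∣ orderOf x) : ∀ g : Matrix.ProjectiveSpecialLinearGroup (Fin 2) F, g ≠ 1 → ∃ u v : Matrix.ProjectiveSpecialLinearGroup (Fin 2) F, g = (u * x * u⁻¹) * (v * x * v⁻¹) := by
  have h2 : (2 : F) ≠ 0 := Ring.two_ne_zero (by rw [ringChar.eq F p]; exact hp)
  obtain ⟨X, rfl⟩ := QuotientGroup.mk'_surjective _ x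
  intro g hg
  obtain ⟨G, rfl⟩ := QuotientGroup.mk'_surjective _ g
  have ht4 : (X : Matrix (Fin 2) (Fin 2) F).trace ^ 2 ≠ 4 := by
    intro h
    rcases (Nat.dvd_prime Fact.out).1 (trace_sq_cases p h) with h1 | h1
    · exact absurd (h1 ▸ hx2) (by norm_num)
    · exact hxp (dvd_of_eq h1.symm)
  have ht0 : (X : Matrix (Fin 2) (Fin 2) F).trace ≠ 0 := by
    intro h
    have hsq : toPSL X ^ 2 = 1 := by
      rw [← map_pow, toPSL_two_eq_one_iff]
      right
      apply Subtype.ext
      rw [Matrix.SpecialLinearGroup.coe_pow, sq, SL_sq_eq, h, zero_smul, zero_sub,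
        Matrix.SpecialLinearGroup.coe_neg, Matrix.SpecialLinearGroup.coe_one]
    have := Nat.le_of_dvd two_pos (orderOf_dvd_of_pow_eq_one hsq)
    exact absurd this (not_le.2 hx2)
  set t := (X : Matrix (Fin 2) (Fin 2) F).trace with ht
  set s := (G : Matrix (Fin 2) (Fin 2) F).trace with hs
  have hG := not_scalar_of_ne_one hg
  have hc : ∃ c : F, (c = t ∨ c = -t) ∧ (s ^ 2 = 4 → c ≠ s / 2 * t) := by
    by_cases hd : s ^ 2 = 4
    · rcases eq_or_eq_neg_of_sq_eq_sq s 2 (by rw [hd]; norm_num) with h | h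
      · refine ⟨-t, Or.inr rfl, fun _ e => ?_⟩
        rw [h, div_self h2, one_mul] at e
        exact mul_ne_zero h2 ht0 (by linear_combination -e)
      · refine ⟨t, Or.inl rfl, fun _ e => ?_⟩
        rw [h, neg_div, div_self h2] at e
        exact mul_ne_zero h2 ht0 (by linear_combination e)
    · exact ⟨t, Or.inl rfl, fun h => absurd h hd⟩
  obtain ⟨c, hc1, hc2⟩ := hc
  obtain ⟨M, hM, hMg⟩ := exists_trace_mul_odd h2 hG t c hc2
  exact cover_of_traces (not_isScalarTwo_of_trace ht4) ht4 hM
    (hc1.imp (fun h => hMg.trans h) (fun h => hMg.trans h))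

end Cfsg.Agent.S2455
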