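import Cfsg.Statements.S2456
import Cfsg.Agent.H55.SLTwoClasses

set_option autoImplicit false
open Cfsg

namespace Cfsg.Agent.S2456

open Cfsg.Agent.H55 Cfsg.Agent.Linear

/-- A strong covering result in the direction of Thompson's conjecture (non-identity elements) for PSL(2,q), q even: let F be a finite field of characteristic 2 with q ≥ 4 elements and let x ∈ PSL(2,F) have order greater than 2 and not dividing q + 1. Then every non-identity element of PSL(2,F) is a product of two conjugates of x. -/
theorem result {F : Type*} [Field F] [Fintype F] [CharP F 2] (h4 : 4 ≤ Fintype.card F)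
    (x : Matrix.ProjectiveSpecialLinearGroup (Fin 2) F) (hx2 : 2 < orderOf x) (hxq : ¬ orderOf x ∣ Fintype.card F + 1) : ∀ g : Matrix.ProjectiveSpecialLinearGroup (Fin 2) F, g ≠ 1 → ∃ u v : Matrix.ProjectiveSpecialLinearGroup (Fin 2) F, g = (u * x * u⁻¹) * (v * x * v⁻¹) := by
  have : Fact (Nat.Prime 2) := ⟨Nat.prime_two⟩
  obtain ⟨X, rfl⟩ := QuotientGroup.mk'_surjective _ x
  intro g hg
  obtain ⟨G, rfl⟩ := QuotientGroup.mk'_surjective _ g
  have ht4 : (X : Matrix (Fin 2) (Fin 2) F).trace ^ 2 ≠ 4 := fun h =>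
    absurd (Nat.le_of_dvd two_pos (trace_sq_cases 2 h)) (not_le.2 hx2)
  set t := (X : Matrix (Fin 2) (Fin 2) F).trace with ht
  have hr : ∃ r : F, r ^ 2 - r * t + 1 = 0 := by
    by_contra hne
    push Not at hne
    have hcard := card_centralizer_nonsplit_SL ht4 hne
    apply hxq
    apply orderOf_dvd_of_pow_eq_one
    have hmem : X ∈ Subgroup.centralizer ({X} : Set (Matrix.SpecialLinearGroup (Fin 2) F)) :=
      Subgroup.mem_centralizer_singleton_iff.2 rfl
    have h1 : (⟨X, hmem⟩ : Subgroup.centralizer ({X} : Set (Matrix.SpecialLinearGroup (Fin 2) F))) ^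
        (Fintype.card F + 1) = 1 := hcard ▸ pow_card_eq_one'
    rw [← map_pow, show X ^ (Fintype.card F + 1) = 1 from congrArg Subtype.val h1, map_one]
  obtain ⟨M, hM, hMg⟩ := exists_trace_mul_split (not_scalar_of_ne_one hg) t t hr
  exact cover_of_traces (not_isScalarTwo_of_trace ht4) ht4 hM (Or.inl hMg)

end Cfsg.Agent.S2456
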