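import Cfsg.Statements.S2457
import Cfsg.Agent.Suzuki.ClassSquare
import Cfsg.Agent.Suzuki.Lie

set_option autoImplicit false
open Cfsg

namespace Cfsg.Agent.S2457

/-- A strong covering result in the direction of Thompson's conjecture (non-identity elements) for the Suzuki groups: let q = 2^(2m+1) ≥ 8, F the field with q elements and Sz(q) the Suzuki group over F. For every element x of Sz(q) of order greater than 2, every non-identity element of Sz(q) is a product of two conjugates of x. -/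
theorem result {F : Type*} [Field F] [Fintype F] (m : ℕ) (hm : 1 ≤ m) (hF : Fintype.card F = 2 ^ (2 * m + 1))
    (x : Cfsg.Lie.Sz F (2 ^ (m + 1))) (hx2 : 2 < orderOf x) : ∀ g : Cfsg.Lie.Sz F (2 ^ (m + 1)), g ≠ 1 → ∃ u v : Cfsg.Lie.Sz F (2 ^ (m + 1)), g = (u * x * u⁻¹) * (v * x * v⁻¹) := by
  have : Cfsg.Agent.Suzuki.SzField F m := ⟨hF, hm⟩
  let f := Cfsg.Agent.Suzuki.lieEquiv (F := F) m
  intro g hg
  have hx : 2 < orderOf (f.symm x) := by rwa [MulEquiv.orderOf_eq]
  have hg' : f.symm g ≠ 1 := fun h => hg (f.symm.injective (by rw [h, map_one]))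
  obtain ⟨y, z, hy, hz, h⟩ := Cfsg.Agent.Suzuki.class_square m hx hg'
  obtain ⟨a, ha⟩ := isConj_iff.mp hy
  obtain ⟨b, hb⟩ := isConj_iff.mp hz
  refine ⟨f a, f b, ?_⟩
  have h' := congrArg f h
  rw [← ha, ← hb, map_mul, map_mul, map_mul, map_mul, map_mul, map_inv, map_inv,
    MulEquiv.apply_symm_apply, MulEquiv.apply_symm_apply] at h'
  exact h'

end Cfsg.Agent.S2457
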