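import Cfsg.Statements.S2458
import Cfsg.Agent.H37.ReeSq.Main
import Cfsg.Agent.H64.Ree.Degree

set_option autoImplicit false
open Cfsg

namespace Cfsg.Agent.S2458

/-- A strong covering result in the direction of Thompson's conjecture (non-identity elements) for the small Ree groups: let q = 3^(2m+1) ≥ 27, K the field with q elements and ²G₂(q) the Ree group over K. For every element x of ²G₂(q) of order greater than 2 and not divisible by 3, every non-identity element of ²G₂(q) is a product of two conjugates of x. -/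
theorem result {K : Type*} [Field K] [Fintype K] (m : ℕ) (hm : 1 ≤ m) (hK : Fintype.card K = 3 ^ (2 * m + 1))
    (x : Cfsg.Lie.twistedG2 K (3 ^ m)) (hx2 : 2 < orderOf x) (hx3 : ¬ 3 ∣ orderOf x) : ∀ g : Cfsg.Lie.twistedG2 K (3 ^ m), g ≠ 1 → ∃ u v : Cfsg.Lie.twistedG2 K (3 ^ m), g = (u * x * u⁻¹) * (v * x * v⁻¹) := by
  classical
  open Cfsg.Agent in
  obtain ⟨P, he⟩ := H38.Ree.exists_par hK
  haveI := P.char
  have hq : 4 < Nat.card K := by
    rw [Nat.card_eq_fintype_card, hK]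
    calc 4 < 3 ^ (2 * 1 + 1) := by norm_num
      _ ≤ _ := Nat.pow_le_pow_right (by norm_num) (by omega)
  have hmd := fun {k : ℕ}
    (ρ : Representation ℂ ↥(Cfsg.Lie.twistedG2 K (3 ^ m)) (Fin k → ℂ)) (hi : ρ.IsIrreducible) h2 =>
      Cfsg.Agent.H64.Ree.min_degree hK hm ρ hi h2
  revert x
  rw [← he] at hmd ⊢
  intro x hx2 hx3 g hg
  letI : Fintype ↥(Cfsg.Lie.twistedG2 K P.e) := Fintype.ofFinite _
  letI : Fintype (↥(Cfsg.Lie.twistedG2 K P.e) ⧸ P.BT) := Fintype.ofFinite _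
  have hdeg : ∀ χ : Cfsg.IrrCharacter ↥(Cfsg.Lie.twistedG2 K P.e),
      (χ : ↥(Cfsg.Lie.twistedG2 K P.e) → ℂ) ≠ (fun _ => 1) →
        Nat.card K ^ 2 + 1 ≤
          Cfsg.charDegree (χ : ↥(Cfsg.Lie.twistedG2 K P.e) → ℂ) + Nat.card K := by
    rintro ⟨χ, hχ⟩ hne
    obtain ⟨n, ρ, hρ, rfl⟩ := hχ
    have hn : Cfsg.charDegree ρ.character = n := by simp [Cfsg.charDegree]
    have hn0 : 0 < n := by simpa using Cfsg.Agent.CharBasic.finrank_pos_of_isIrreducible ρ
    have h2 : 2 ≤ n := by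
      by_contra h
      obtain rfl : n = 1 := by omega
      exact hne (Cfsg.Agent.H37.ReeSq.linear_eq_one P hq ⟨1, ρ, rfl⟩ (by simp))
    have h := hmd ρ hρ h2
    show _ ≤ Cfsg.charDegree ρ.character + Nat.card K
    rw [hn, Nat.card_eq_fintype_card]
    have hle : Fintype.card K ≤ Fintype.card K ^ 2 := Nat.le_self_pow two_ne_zero _
    omega
  obtain ⟨y, z, hy, hz, e⟩ := Cfsg.Agent.H37.ReeSq.cover P hq hdeg ⟨hx2, hx3⟩ hg
  obtain ⟨u, rfl⟩ := isConj_iff.1 hy
  obtain ⟨v, rfl⟩ := isConj_iff.1 hz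
  exact ⟨u, v, e⟩

end Cfsg.Agent.S2458
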