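import Cfsg.Statements.S2459
import Cfsg.Agent.H55.SL3Three

set_option autoImplicit false
open Cfsg

namespace Cfsg.Agent.S2459

open Matrix
open scoped MatrixGroups

section

variable {F : Type*} [Field F]

/-- conjugacy by a matrix of determinant one -/
def Rel (g h : Matrix (Fin 3) (Fin 3) F) : Prop :=
  ∃ W : Matrix (Fin 3) (Fin 3) F, W.det = 1 ∧ W * g = h * W

theorem rel_refl (g : Matrix (Fin 3) (Fin 3) F) : Rel g g := ⟨1, det_one, by rw [one_mul, mul_one]⟩

theorem rel_trans {a b c : Matrix (Fin 3) (Fin 3) F} (h1 : Rel a b) (h2 : Rel b c) : Rel a c := by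
  obtain ⟨U, hU, hU'⟩ := h1
  obtain ⟨V, hV, hV'⟩ := h2
  exact ⟨V * U, by rw [det_mul, hU, hV, mul_one],
    by rw [mul_assoc, hU', ← mul_assoc, hV', mul_assoc]⟩

/-- conjugate by a transvection -/
def tc (i j : Fin 3) (c : F) (g : Matrix (Fin 3) (Fin 3) F) : Matrix (Fin 3) (Fin 3) F :=
  transvection i j c * g * transvection i j (-c)

theorem rel_tc (i j : Fin 3) (h : i ≠ j) (c : F) (g : Matrix (Fin 3) (Fin 3) F) :
    Rel g (tc i j c g) :=
  ⟨transvection i j c, det_transvection_of_ne i j h c, by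
    rw [tc, mul_assoc _ (transvection i j (-c)), transvection_mul_transvection_same i j h,
      neg_add_cancel, transvection_zero, mul_one]⟩

theorem tc_apply (i j a b : Fin 3) (c : F) (g : Matrix (Fin 3) (Fin 3) F) :
    tc i j c g a b = (g a b + if a = i then c * g j b else 0) -
      (if b = j then c * (g a i + if a = i then c * g j i else 0) else 0) := by
  unfold tc
  by_cases hb : b = j
  · subst hb
    by_cases ha : a = i
    · subst ha
      simp only [mul_transvection_apply_same, transvection_mul_apply_same, if_true]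
      ring
    · simp only [mul_transvection_apply_same, transvection_mul_apply_of_ne _ _ _ _ ha,
        if_true, if_neg ha]
      ring
  · by_cases ha : a = i
    · subst ha
      simp only [mul_transvection_apply_of_ne _ _ _ _ hb, transvection_mul_apply_same, if_true,
        if_neg hb, sub_zero]
    · simp only [mul_transvection_apply_of_ne _ _ _ _ hb, transvection_mul_apply_of_ne _ _ _ _ ha,
        if_neg hb, if_neg ha, add_zero, sub_zero]

theorem exists_ne_one_zero (hq : ∃ u : F, u ≠ 0 ∧ u ≠ 1) (D b : F) (h : D ≠ 0 ∨ b ≠ 0) :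
    ∃ c : F, c * D - c * c * b ≠ 0 := by
  by_cases h1 : D - b = 0
  · obtain ⟨u, hu0, hu1⟩ := hq
    refine ⟨u, ?_⟩
    rw [sub_eq_zero.1 h1] at h ⊢
    have hb : b ≠ 0 := h.elim id id
    rw [show u * b - u * u * b = u * (1 - u) * b by ring]
    exact mul_ne_zero (mul_ne_zero hu0 (sub_ne_zero.2 (Ne.symm hu1))) hb
  · exact ⟨1, by simpa using h1⟩

theorem exists_g10 (hq : ∃ u : F, u ≠ 0 ∧ u ≠ 1) (g : Matrix (Fin 3) (Fin 3) F)
    (hg : ∀ c : F, g ≠ c • 1) : ∃ h, Rel g h ∧ h 1 0 ≠ 0 := by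
  by_cases h10 : g 1 0 = 0
  swap
  · exact ⟨g, rel_refl g, h10⟩
  have step : ∀ g : Matrix (Fin 3) (Fin 3) F, g 1 0 = 0 → g 2 0 ≠ 0 → ∃ h, Rel g h ∧ h 1 0 ≠ 0 :=
    fun g h h' => ⟨tc 1 2 1 g, rel_tc 1 2 (by decide) 1 g, by simp [tc_apply, h, h']⟩
  by_cases h20 : g 2 0 = 0
  swap
  · exact step g h10 h20
  by_cases hA : g 0 0 - g 1 1 ≠ 0 ∨ g 0 1 ≠ 0
  · obtain ⟨c, hc⟩ := exists_ne_one_zero hq _ _ hA
    refine ⟨tc 1 0 c g, rel_tc 1 0 (by decide) c g, fun h => hc ?_⟩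
    rw [← h]
    simp [tc_apply, h10]
    ring
  by_cases h21 : g 2 1 = 0
  swap
  · obtain ⟨h, hh, hh'⟩ := step (tc 1 0 1 g) (by
      push Not at hA
      simp [tc_apply, h10, hA.2, sub_eq_zero.1 hA.1]) (by simp [tc_apply, h20, h21])
    exact ⟨h, rel_trans (rel_tc 1 0 (by decide) 1 g) hh, hh'⟩
  by_cases hB : g 0 0 - g 2 2 ≠ 0 ∨ g 0 2 ≠ 0
  · obtain ⟨c, hc⟩ := exists_ne_one_zero hq _ _ hB
    by_cases h' : tc 2 0 c g 1 0 = 0
    · obtain ⟨h, hh, hh'⟩ := step (tc 2 0 c g) h' (fun h => hc (by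
        rw [← h]
        simp [tc_apply, h20]
        ring))
      exact ⟨h, rel_trans (rel_tc 2 0 (by decide) c g) hh, hh'⟩
    · exact ⟨_, rel_tc 2 0 (by decide) c g, h'⟩
  push Not at hA hB
  by_cases h12 : g 1 2 = 0
  swap
  · exact ⟨tc 2 0 1 g, rel_tc 2 0 (by decide) 1 g, by simp [tc_apply, h10, h12]⟩
  refine absurd ?_ (hg (g 0 0))
  ext i j
  fin_cases i <;> fin_cases j <;>
    simp [h10, h20, h21, h12, hA.2, hB.2, ← sub_eq_zero.1 hA.1, ← sub_eq_zero.1 hB.1]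

theorem exists_normal (hq : ∃ u : F, u ≠ 0 ∧ u ≠ 1) (g : Matrix (Fin 3) (Fin 3) F)
    (hg : ∀ c : F, g ≠ c • 1) (α : F) :
    ∃ x y z w s t : F, Rel g !![α, x, y; 1, z, w; 0, s, t] := by
  obtain ⟨a, ha, ha0⟩ := exists_g10 hq g hg
  set b := tc 0 1 ((α - a 0 0) / a 1 0) a with hb
  have hb00 : b 0 0 = α := by simp [hb, tc_apply, ha0]
  have hb10 : b 1 0 = a 1 0 := by simp [hb, tc_apply]
  set c := tc 2 1 (-(b 2 0 / b 1 0)) b with hc
  have hc00 : c 0 0 = α := by simp [hc, tc_apply, hb00]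
  have hc10 : c 1 0 = a 1 0 := by simp [hc, tc_apply, hb10]
  have hc20 : c 2 0 = 0 := by simp [hc, tc_apply, hb10, ha0]
  have hr : Rel g c :=
    rel_trans (rel_trans ha (rel_tc 0 1 (by decide) _ a)) (rel_tc 2 1 (by decide) _ b)
  set u := a 1 0
  refine ⟨u * c 0 1, u * u * c 0 2, c 1 1, u * c 1 2, c 2 1 / u, c 2 2, rel_trans hr
    ⟨!![u, 0, 0; 0, 1, 0; 0, 0, u⁻¹], by simp [det_fin_three, mul_inv_cancel₀ ha0], ?_⟩⟩
  ext i j
  fin_cases i <;> fin_cases j <;>
    simp [Matrix.mul_apply, Fin.sum_univ_three, hc00, hc10, hc20] <;> field_simp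

theorem adjust (hq : ∃ u : F, u ≠ 0 ∧ u ≠ 1) (g : Matrix (Fin 3) (Fin 3) F) (hdet : g.det = 1)
    (hg : ∀ c : F, g ≠ c • 1) (α β : F) (hα : α ≠ 0) :
    ∃ m : Matrix (Fin 3) (Fin 3) F, Rel g m ∧ m 0 0 = α ∧ m 1 1 - m 1 0 * m 0 1 / α = β := by
  obtain ⟨x, y, z, w, s, t, hr⟩ := exists_normal hq g hg α
  by_cases hs : s = 0
  swap
  · refine ⟨_, rel_trans hr (rel_tc 1 2 (by decide) ((β - (z - x / α)) / s) _), by simp [tc_apply], ?_⟩
    simp [tc_apply]
    field_simp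
    ring
  subst hs
  have ht : t ≠ 0 := by
    rintro rfl
    obtain ⟨W, hW, hW'⟩ := hr
    have := congrArg Matrix.det hW'
    rw [det_mul, det_mul, hW, hdet] at this
    simp [det_fin_three] at this
  obtain ⟨x, y, z, w, hr, hne⟩ : ∃ x y z w : F,
      Rel g !![α, x, y; 1, z, w; 0, 0, t] ∧ w - y / α ≠ 0 := by
    by_cases hw : w - y / α = 0
    · refine ⟨x, y + α - t, z, w + 1, rel_trans hr ⟨transvection 0 2 (-1),
        det_transvection_of_ne 0 2 (by decide) _, ?_⟩, ?_⟩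
      · ext i j
        fin_cases i <;> fin_cases j <;>
          simp [Matrix.mul_apply, Fin.sum_univ_three, transvection, Matrix.single] <;> ring
      · rw [show w + 1 - (y + α - t) / α = (w - y / α) + t / α by field_simp; ring, hw, zero_add]
        exact div_ne_zero ht hα
    · exact ⟨x, y, z, w, hr, hw⟩
  refine ⟨_, rel_trans hr (rel_tc 2 1 (by decide) ((z - x / α - β) / (w - y / α)) _),
    by simp [tc_apply], ?_⟩
  have key : ((z - x / α - β) / (w - y / α)) * (w - y / α) = z - x / α - β :=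
    div_mul_cancel₀ _ hne
  simp [tc_apply]
  linear_combination -key

/-- diagonal matrix -/
def dg (a b c : F) : Matrix (Fin 3) (Fin 3) F := !![a, 0, 0; 0, b, 0; 0, 0, c]

theorem rel_lower (a b c l1 l2 l3 : F) (hab : a ≠ b) (hac : a ≠ c) (hbc : b ≠ c) :
    Rel (dg a b c) !![a, 0, 0; l1, b, 0; l2, l3, c] := by
  refine ⟨!![1, 0, 0; l1 / (a - b), 1, 0; (l2 + l3 * (l1 / (a - b))) / (a - c), l3 / (b - c), 1],
    by simp [det_fin_three], ?_⟩
  have h1 := sub_ne_zero.2 hab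
  have h2 := sub_ne_zero.2 hac
  have h3 := sub_ne_zero.2 hbc
  ext i j
  fin_cases i <;> fin_cases j <;>
    simp [dg, Matrix.mul_apply, Fin.sum_univ_three] <;> field_simp <;> ring

theorem rel_upper (a b c u1 u2 u3 : F) (hab : a ≠ b) (hac : a ≠ c) (hbc : b ≠ c) :
    Rel (dg a b c) !![a, u1, u2; 0, b, u3; 0, 0, c] := by
  refine ⟨!![1, u1 / (b - a), (u2 + u1 * (u3 / (c - b))) / (c - a); 0, 1, u3 / (c - b); 0, 0, 1],
    by simp [det_fin_three], ?_⟩
  have h1 := sub_ne_zero.2 hab.symm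
  have h2 := sub_ne_zero.2 hac.symm
  have h3 := sub_ne_zero.2 hbc.symm
  ext i j
  fin_cases i <;> fin_cases j <;>
    simp [dg, Matrix.mul_apply, Fin.sum_univ_three] <;> field_simp <;> ring

theorem lu (a b c : F) (ha : a ≠ 0) (hb : b ≠ 0) (habc : a * b * c = 1)
    (m : Matrix (Fin 3) (Fin 3) F) (hdet : m.det = 1) (h0 : m 0 0 = a * a)
    (h1 : m 1 1 - m 1 0 * m 0 1 / (a * a) = b * b) :
    m = !![a, 0, 0; m 1 0 / a, b, 0; m 2 0 / a, (m 2 1 - m 2 0 * m 0 1 / (a * a)) / b, c] *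
      !![a, m 0 1 / a, m 0 2 / a; 0, b, (m 1 2 - m 1 0 * m 0 2 / (a * a)) / b; 0, 0, c] := by
  have hc : c ≠ 0 := fun h => by simp [h] at habc
  rw [det_fin_three, h0] at hdet
  have h11 : m 1 1 = b * b + m 1 0 * m 0 1 / (a * a) := by rw [← h1]; ring
  have hsq : a * b * c * (a * b * c) = 1 := by rw [habc, mul_one]
  rw [h11] at hdet
  ext i j
  fin_cases i <;> fin_cases j <;> simp [Matrix.mul_apply, Fin.sum_univ_three] <;>
    first
      | exact h0
      | (rw [h11]; field_simp; done)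
      | (rw [h11]; field_simp; ring1)
      | (field_simp; done)
      | (field_simp; ring1)
      | skip
  have key : a * a * (b * b) * (m 2 2 - m 2 0 * m 0 2 / (a * a) -
      (m 2 1 - m 2 0 * m 0 1 / (a * a)) * (m 1 2 - m 1 0 * m 0 2 / (a * a)) / (b * b)) = 1 := by
    refine Eq.trans ?_ hdet
    field_simp
    ring
  have hc2 : a * a * (b * b) * (c * c) = 1 := by rw [← hsq]; ring
  have : m 2 2 - m 2 0 * m 0 2 / (a * a) -
      (m 2 1 - m 2 0 * m 0 1 / (a * a)) * (m 1 2 - m 1 0 * m 0 2 / (a * a)) / (b * b) = c * c :=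
    mul_left_cancel₀ (mul_ne_zero (mul_ne_zero ha ha) (mul_ne_zero hb hb)) (key.trans hc2.symm)
  field_simp at this ⊢
  linear_combination this

theorem exists_conj_of_rel {x h : SL(3, F)} (hr : Rel x.1 h.1) :
    ∃ u : SL(3, F), h = u * x * u⁻¹ := by
  obtain ⟨W, hW, hW'⟩ := hr
  exact ⟨⟨W, hW⟩, eq_mul_inv_of_mul_eq (Subtype.ext hW'.symm)⟩

theorem transfer {g m x A B : SL(3, F)} (hgm : Rel g.1 m.1) (hm : m = A * B)
    (hA : Rel x.1 A.1) (hB : Rel x.1 B.1) :
    ∃ u v : SL(3, F), g = (u * x * u⁻¹) * (v * x * v⁻¹) := by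
  obtain ⟨W, hW⟩ := exists_conj_of_rel hgm
  obtain ⟨u, rfl⟩ := exists_conj_of_rel hA
  obtain ⟨v, rfl⟩ := exists_conj_of_rel hB
  refine ⟨W⁻¹ * u, W⁻¹ * v, ?_⟩
  calc g = W⁻¹ * m * W := by rw [hW]; group
    _ = _ := by rw [hm]; group

theorem cover_big (t : F) (ht0 : t ≠ 0) (ht1 : t * t ≠ 1) :
    ∃ x : SL(3, F), x.1 = dg t t⁻¹ 1 ∧ ∀ g : SL(3, F), (∀ c : F, g.1 ≠ c • 1) →
      ∃ u v : SL(3, F), g = (u * x * u⁻¹) * (v * x * v⁻¹) := by
  have ht : t ≠ 1 := fun h => ht1 (by rw [h, one_mul])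
  have hab : t ≠ t⁻¹ := fun h => ht1 (by nth_rewrite 2 [h]; exact mul_inv_cancel₀ ht0)
  have hbc : t⁻¹ ≠ 1 := fun h => ht (inv_eq_one.1 h)
  refine ⟨⟨dg t t⁻¹ 1, by simp [dg, det_fin_three, mul_inv_cancel₀ ht0]⟩, rfl, fun g hg => ?_⟩
  obtain ⟨m, hr, h0, h1⟩ := adjust ⟨t, ht0, ht⟩ g.1 g.2 hg (t * t) (t⁻¹ * t⁻¹) (mul_ne_zero ht0 ht0)
  have hdet : m.det = 1 := by
    obtain ⟨W, hW, hW'⟩ := hr
    have := congrArg Matrix.det hW'
    rw [det_mul, det_mul, hW, g.2, mul_one] at this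
    simpa using this.symm
  have habc : t * t⁻¹ * 1 = 1 := by rw [mul_inv_cancel₀ ht0, mul_one]
  have hm := lu t t⁻¹ 1 ht0 (inv_ne_zero ht0) habc m hdet h0 h1
  refine transfer (m := ⟨m, hdet⟩) (A := ⟨!![t, 0, 0; m 1 0 / t, t⁻¹, 0; m 2 0 / t, _, 1], ?_⟩)
    (B := ⟨!![t, m 0 1 / t, m 0 2 / t; 0, t⁻¹, _; 0, 0, 1], ?_⟩) hr (Subtype.ext hm)
    (rel_lower _ _ _ _ _ _ hab ht hbc) (rel_upper _ _ _ _ _ _ hab ht hbc)
  · simp [det_fin_three, mul_inv_cancel₀ ht0]
  · simp [det_fin_three, mul_inv_cancel₀ ht0]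

end

open Cfsg.Agent.H55 in
theorem cover_three (g : SL(3, ZMod 3)) (hg : ∀ c : ZMod 3, g.1 ≠ c • 1) :
    ∃ u v : SL(3, ZMod 3), g = (u * SL3Three.X * u⁻¹) * (v * SL3Three.X * v⁻¹) := by
  obtain ⟨x, y, z, w, s, t, hr⟩ := exists_normal (F := ZMod 3) ⟨2, by decide, by decide⟩ g.1 hg 0
  have hr' : Rel g.1 !![0, x + w * s, y + w * t; 1, z, 0; 0, s, t] →
      ∃ u v : SL(3, ZMod 3), g = (u * SL3Three.X * u⁻¹) * (v * SL3Three.X * v⁻¹) := by
    intro hr
    obtain ⟨W, hW, hW'⟩ := hr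
    have hdet : (!![0, x + w * s, y + w * t; 1, z, 0; 0, s, t]).det = 1 := by
      have := congrArg Matrix.det hW'
      rw [det_mul, det_mul, hW, g.2, mul_one] at this
      simpa using this.symm
    obtain ⟨P, Q, hPQ⟩ := SL3Three.covered (x + w * s) (y + w * t) z s t hdet
    refine transfer (m := (P * SL3Three.X * P⁻¹) * (Q * SL3Three.X * Q⁻¹)) ⟨W, hW, hPQ ▸ hW'⟩ rfl
      ⟨P.1, P.2, ?_⟩ ⟨Q.1, Q.2, ?_⟩
    · rw [← Matrix.SpecialLinearGroup.coe_mul, ← Matrix.SpecialLinearGroup.coe_mul, inv_mul_cancel_right]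
    · rw [← Matrix.SpecialLinearGroup.coe_mul, ← Matrix.SpecialLinearGroup.coe_mul, inv_mul_cancel_right]
  refine hr' (rel_trans hr ⟨transvection 0 2 w, det_transvection_of_ne 0 2 (by decide) _, ?_⟩)
  ext i j
  fin_cases i <;> fin_cases j <;>
    simp [Matrix.mul_apply, Fin.sum_univ_three, transvection, Matrix.single] <;> ring

theorem psl_order {F : Type*} [Field F] (x : SL(3, F)) (k : ℕ) (h : x.1 ^ k = 1) :
    orderOf (QuotientGroup.mk' (Subgroup.center SL(3, F)) x) ∣ k := by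
  refine (orderOf_map_dvd _ x).trans (orderOf_dvd_of_pow_eq_one ?_)
  apply Subtype.ext
  rw [Matrix.SpecialLinearGroup.coe_pow, h, Matrix.SpecialLinearGroup.coe_one]

theorem descend {F : Type*} [Field F] (x : SL(3, F))
    (h : ∀ g : SL(3, F), (∀ c : F, g.1 ≠ c • 1) →
      ∃ u v : SL(3, F), g = (u * x * u⁻¹) * (v * x * v⁻¹))
    (g : Matrix.ProjectiveSpecialLinearGroup (Fin 3) F) (hg : g ≠ 1) :
    ∃ u v : Matrix.ProjectiveSpecialLinearGroup (Fin 3) F,
      g = (u * QuotientGroup.mk' (Subgroup.center SL(3, F)) x * u⁻¹) *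
        (v * QuotientGroup.mk' (Subgroup.center SL(3, F)) x * v⁻¹) := by
  obtain ⟨g, rfl⟩ := QuotientGroup.mk'_surjective _ g
  have hns : ∀ c : F, g.1 ≠ c • 1 := fun c hc => hg ((QuotientGroup.eq_one_iff g).2
    (Matrix.SpecialLinearGroup.mem_center_iff.2 ⟨c, by
      have h1 := g.2
      rw [hc, det_smul, det_one, mul_one] at h1
      exact h1, by rw [hc, Matrix.smul_one_eq_diagonal]; rfl⟩))
  obtain ⟨u, v, huv⟩ := h g hns
  exact ⟨QuotientGroup.mk' _ u, QuotientGroup.mk' _ v, by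
    simp only [← map_inv, ← map_mul, ← huv]⟩

open Cfsg.Agent.H55 in
/-- A form of Thompson's conjecture for PSL(3,q), q > 2 (covering the non-identity elements), with a semisimple class: for F a finite field of characteristic p with more than 2 elements there is an element x of PSL(3,F) of order prime to p such that every non-identity element of PSL(3,F) is a product of two conjugates of x. -/
theorem result {F : Type*} [Field F] [Fintype F] (p : ℕ) [Fact p.Prime] [CharP F p] (h3 : 3 ≤ Fintype.card F) :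
    ∃ x : Matrix.ProjectiveSpecialLinearGroup (Fin 3) F, ¬ p ∣ orderOf x ∧ ∀ g : Matrix.ProjectiveSpecialLinearGroup (Fin 3) F, g ≠ 1 → ∃ u v : Matrix.ProjectiveSpecialLinearGroup (Fin 3) F, g = (u * x * u⁻¹) * (v * x * v⁻¹) := by
  classical
  have hp : p.Prime := Fact.out
  obtain ⟨k, -, hk⟩ := FiniteField.card F p
  rcases eq_or_lt_of_le h3 with h | h4
  · let e : ZMod 3 ≃+* F := ZMod.ringEquivOfPrime F Nat.prime_three h.symm
    let E : SL(3, ZMod 3) →* SL(3, F) := Matrix.SpecialLinearGroup.map e.toRingHom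
    refine ⟨QuotientGroup.mk' _ (E SL3Three.X), fun hd => ?_, fun g hg => descend _ (fun g hg => ?_) g hg⟩
    · have hX : SL3Three.X.1 ^ 4 = 1 := by decide
      have h4' : (E SL3Three.X).1 ^ 4 = 1 := by
        rw [show (E SL3Three.X).1 = e.toRingHom.mapMatrix SL3Three.X.1 from rfl, ← map_pow, hX, map_one]
      have h34 : p ∣ 2 ^ 2 := hd.trans (psl_order _ 4 h4')
      have hp2 := (Nat.prime_dvd_prime_iff_eq hp Nat.prime_two).1 (hp.dvd_of_dvd_pow h34)
      have hp3 : p ∣ 3 := h ▸ hk ▸ dvd_pow_self p k.ne_zero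
      rw [hp2] at hp3
      omega
    · let g' : SL(3, ZMod 3) := Matrix.SpecialLinearGroup.map e.symm.toRingHom g
      have hback : E g' = g := by
        apply Subtype.ext
        ext i j
        show e (e.symm (g.1 i j)) = g.1 i j
        exact e.apply_symm_apply _
      obtain ⟨u, v, huv⟩ := cover_three g' (fun c hc => hg (e c) (by
        rw [← hback, show (E g').1 = e.toRingHom.mapMatrix g'.1 from rfl, hc]
        ext i j
        rcases eq_or_ne i j with rfl | hij <;> simp [*]))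
      exact ⟨E u, E v, by rw [← hback, huv]; simp only [map_mul, map_inv]⟩
  · obtain ⟨t, ht0, ht1⟩ : ∃ t : F, t ≠ 0 ∧ t * t ≠ 1 := by
      by_contra hne
      push Not at hne
      have : (Finset.univ : Finset F) ⊆ {0, 1, -1} := by
        intro t _
        rcases eq_or_ne t 0 with rfl | ht
        · simp
        · rcases mul_self_eq_one_iff.1 (hne t ht) with rfl | rfl <;> simp
      have := (Finset.card_le_card this).trans Finset.card_le_three
      rw [Finset.card_univ] at this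
      omega
    obtain ⟨x, hx, hcov⟩ := cover_big t ht0 ht1
    refine ⟨QuotientGroup.mk' _ x, fun hd => ?_, descend x hcov⟩
    have hpow : x.1 ^ (Fintype.card F - 1) = 1 := by
      rw [hx, show dg t t⁻¹ 1 = diagonal ![t, t⁻¹, 1] by ext i j; fin_cases i <;> fin_cases j <;> simp [dg],
        diagonal_pow, ← diagonal_one]
      congr 1
      funext i
      fin_cases i <;> simp [FiniteField.pow_card_sub_one_eq_one, ht0]
    have hd1 := hd.trans (psl_order x _ hpow)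
    have hd2 : p ∣ Fintype.card F := hk ▸ dvd_pow_self p k.ne_zero
    have := Nat.dvd_sub hd2 hd1
    rw [Nat.sub_sub_self (by omega)] at this
    exact hp.one_lt.ne' (Nat.dvd_one.1 this)

end Cfsg.Agent.S2459
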