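import Cfsg.Statements.S2466
import Cfsg.Agent.H55.AltOrders

set_option autoImplicit false
open Cfsg

namespace Cfsg.Agent.S2466

open Cfsg.Agent.H55

/-- Adjacency of odd primes in the prime graph of the alternating groups: let r ≠ s be odd primes at most n. The alternating group of degree n has an element of order r·s if and only if r + s ≤ n. -/
theorem result (n r s : ℕ) (hr : r.Prime) (hs : s.Prime) (hr2 : r ≠ 2) (hs2 : s ≠ 2) (hrs : r ≠ s) (hrn : r ≤ n) (hsn : s ≤ n) :
    (r * s ∈ Set.range (orderOf : alternatingGroup (Fin n) → ℕ)) ↔ r + s ≤ n := by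
  constructor
  · rintro ⟨σ, hσ⟩
    obtain ⟨m, h2, hsum, -, hlcm⟩ := type_of_alt σ
    rw [hσ] at hlcm
    obtain ⟨a, ha, hra⟩ := exists_dvd_of_dvd_lcm hr m (hlcm ▸ dvd_mul_right r s)
    obtain ⟨b, hb, hsb⟩ := exists_dvd_of_dvd_lcm hs m (hlcm ▸ dvd_mul_left s r)
    have hapos : 0 < a := lt_of_lt_of_le two_pos (h2 a ha)
    have hbpos : 0 < b := lt_of_lt_of_le two_pos (h2 b hb)
    rcases eq_or_ne a b with rfl | hab
    · have h1 := Nat.le_of_dvd hapos (((Nat.coprime_primes hr hs).2 hrs).mul_dvd_of_dvd_of_dvd hra hsb)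
      have h3 := Multiset.le_sum_of_mem ha
      have h4 : r + s ≤ r * s := Nat.add_le_mul hr.two_le hs.two_le
      omega
    · obtain ⟨t, rfl⟩ := Multiset.exists_cons_of_mem ha
      have hb' : b ∈ t := (Multiset.mem_cons.1 hb).resolve_left (Ne.symm hab)
      have h3 := Multiset.le_sum_of_mem hb'
      rw [Multiset.sum_cons] at hsum
      have := Nat.le_of_dvd hapos hra
      have := Nat.le_of_dvd hbpos hsb
      omega
  · intro h
    obtain ⟨σ, hσ⟩ := exists_alt_of_type (n := n) {r, s}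
      (by simp [hr.two_le, hs.two_le]) (by simpa using h)
      (by have := hr.odd_of_ne_two hr2; have := hs.odd_of_ne_two hs2; simp [Nat.even_add, Nat.not_even_iff_odd.2, *])
    exact ⟨σ, hσ.trans (by simpa [lcm_eq_nat_lcm] using Nat.Coprime.lcm_eq_mul ((Nat.coprime_primes hr hs).2 hrs))⟩

end Cfsg.Agent.S2466
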