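import Cfsg.Statements.S2467
import Cfsg.Agent.H55.AltOrders

set_option autoImplicit false
open Cfsg

namespace Cfsg.Agent.S2467

open Cfsg.Agent.H55

/-- Adjacency of 2 and an odd prime in the prime graph of the alternating groups: let r be an odd prime at most n, with n ≥ 4. The alternating group of degree n has an element of order 2r if and only if r + 4 ≤ n. -/
theorem result (n r : ℕ) (hn : 4 ≤ n) (hr : r.Prime) (hr2 : r ≠ 2) (hrn : r ≤ n) :
    (2 * r ∈ Set.range (orderOf : alternatingGroup (Fin n) → ℕ)) ↔ r + 4 ≤ n := by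
  have hodd := hr.odd_of_ne_two hr2
  have hr3 : 3 ≤ r := by have := hr.two_le; omega
  constructor
  · rintro ⟨σ, hσ⟩
    obtain ⟨m, h2, hsum, hev, hlcm⟩ := type_of_alt σ
    rw [hσ] at hlcm
    obtain ⟨a, ha, hra⟩ := exists_dvd_of_dvd_lcm hr m (hlcm ▸ dvd_mul_left r 2)
    have hdvd : a ∣ 2 * r := hlcm ▸ Multiset.dvd_lcm ha
    obtain ⟨t, rfl⟩ := Multiset.exists_cons_of_mem ha
    have ht2 : ∀ b ∈ t, 2 ≤ b := fun b hb => h2 b (Multiset.mem_cons_of_mem hb)
    have hge := sum_ge_two ht2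
    rw [Multiset.sum_cons] at hsum hev
    rw [Multiset.card_cons] at hev
    obtain ⟨c, rfl⟩ := hra
    have hc : c ∣ 2 := Nat.dvd_of_mul_dvd_mul_left hr.pos (by rwa [mul_comm 2 r] at hdvd)
    rcases (Nat.dvd_prime Nat.prime_two).1 hc with rfl | rfl
    · obtain ⟨b, hb, hb2⟩ := exists_dvd_of_dvd_lcm Nat.prime_two (r * 1 ::ₘ t) (hlcm ▸ dvd_mul_right 2 r)
      have hbt : b ∈ t := (Multiset.mem_cons.1 hb).resolve_left fun h => by
        rw [h, mul_one] at hb2
        exact Nat.not_even_iff_odd.2 hodd (even_iff_two_dvd.2 hb2)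
      obtain ⟨u, rfl⟩ := Multiset.exists_cons_of_mem hbt
      have hge' := sum_ge_two fun c hc => ht2 c (Multiset.mem_cons_of_mem hc)
      have := ht2 b hbt
      rw [Multiset.sum_cons, Multiset.card_cons] at hev
      rw [Multiset.sum_cons] at hsum
      rcases Nat.eq_zero_or_pos (Multiset.card u) with h0 | h0
      · rw [Multiset.card_eq_zero.1 h0] at hev
        obtain ⟨k, hk⟩ := hev
        obtain ⟨j, hj⟩ := even_iff_two_dvd.2 hb2
        obtain ⟨i, hi⟩ := hodd
        simp at hk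
        omega
      · omega
    · rcases Nat.eq_zero_or_pos (Multiset.card t) with h0 | h0
      · rw [Multiset.card_eq_zero.1 h0] at hev
        obtain ⟨k, hk⟩ := hev
        simp at hk
        omega
      · omega
  · intro h
    obtain ⟨σ, hσ⟩ := exists_alt_of_type (n := n) {r, 2, 2}
      (by simp [hr.two_le]) (by simpa using h)
      (by obtain ⟨i, hi⟩ := hodd; refine ⟨i + 4, ?_⟩; simp; omega)
    refine ⟨σ, hσ.trans ?_⟩
    have : Nat.lcm r 2 = r * 2 := Nat.Coprime.lcm_eq_mul ((Nat.coprime_primes hr Nat.prime_two).2 hr2)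
    simpa [mul_comm 2 r, lcm_eq_nat_lcm] using this

end Cfsg.Agent.S2467
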