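import Cfsg.Statements.S2468
import Cfsg.Agent.H55.PSLPrimeGraph

set_option autoImplicit false
open Cfsg

namespace Cfsg.Agent.S2468

open Cfsg.Agent.H55 Polynomial

/-- Adjacency of two odd primes in the prime graph of PSL(n,q): let F be a finite field of characteristic p with q elements, n ≥ 2 with PSL(n,F) simple, and let r ≠ s be odd primes different from p dividing the order of PSL(n,F). Let k and l be the multiplicative orders of q modulo r and modulo s, and suppose 2 ≤ k ≤ l. Then PSL(n,F) has NO element of order r·s if and only if k + l > n and k does not divide l. -/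
theorem result {F : Type*} [Field F] [Fintype F] (p : ℕ) [Fact p.Prime] [CharP F p] (n : ℕ) (hn : 2 ≤ n) (hsmall : n = 2 → 4 ≤ Fintype.card F)
    (r s : ℕ) (hr : r.Prime) (hs : s.Prime) (hr2 : r ≠ 2) (hs2 : s ≠ 2) (hrp : r ≠ p) (hsp : s ≠ p) (hrs : r ≠ s)
    (hrG : r ∣ Nat.card (Matrix.ProjectiveSpecialLinearGroup (Fin n) F)) (hsG : s ∣ Nat.card (Matrix.ProjectiveSpecialLinearGroup (Fin n) F))
    (k l : ℕ) (hk : k = orderOf ((Fintype.card F : ℕ) : ZMod r)) (hl : l = orderOf ((Fintype.card F : ℕ) : ZMod s))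
    (h2k : 2 ≤ k) (hkl : k ≤ l) :
    (r * s ∉ Set.range (orderOf : Matrix.ProjectiveSpecialLinearGroup (Fin n) F → ℕ)) ↔ (n < k + l ∧ ¬ k ∣ l) := by
  subst hk hl
  rw [← Nat.card_eq_fintype_card] at *
  set k := orderOf ((Nat.card F : ℕ) : ZMod r)
  set l := orderOf ((Nat.card F : ℕ) : ZMod s)
  have hn0 : 0 < n := by omega
  have hl0 : 0 < l ∧ l ≤ n := ord_le_of_dvd_card (by omega) hs (not_dvd_card p hs hsp) hsG
  have hcop : Nat.Coprime (r * s) (Nat.card F - 1) :=
    Nat.Coprime.mul_left (coprime_of_two_le hr h2k) (coprime_of_two_le hs (h2k.trans hkl))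
  have hco : Nat.Coprime r s := (Nat.coprime_primes hr hs).2 hrs
  have hM : 0 < r * s := Nat.mul_pos hr.pos hs.pos
  constructor
  · intro hnot
    refine ⟨?_, ?_⟩
    · by_contra hle
      push Not at hle
      have : NeZero k := ⟨by omega⟩
      have : NeZero l := ⟨by omega⟩
      obtain ⟨a, ha⟩ := exists_ext_elem (F := F) p k hr.pos (dvd_pow_sub_one_of_ord (dvd_refl k))
      obtain ⟨b, hb⟩ := exists_ext_elem (F := F) p l hs.pos (dvd_pow_sub_one_of_ord (dvd_refl l))
      obtain ⟨y, hy⟩ := exists_psl_of_alg (F := F) (n := n)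
        (R := FiniteField.Extension F p k × FiniteField.Extension F p l) (a, b)
        (by rw [Module.finrank_prod, FiniteField.finrank_extension, FiniteField.finrank_extension]
            exact hle)
        hM (by rw [Prod.orderOf_mk, ha, hb, hco.lcm_eq_mul]) hcop
      exact hnot (mem_range_orderOf_of_dvd hy)
    · intro hkd
      have : NeZero l := ⟨by omega⟩
      obtain ⟨b, hb⟩ := exists_ext_elem (F := F) p l hM
        (hco.mul_dvd_of_dvd_of_dvd (dvd_pow_sub_one_of_ord hkd)
          (dvd_pow_sub_one_of_ord (dvd_refl l)))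
      obtain ⟨y, hy⟩ := exists_psl_of_alg (F := F) (n := n) (R := FiniteField.Extension F p l) b
        (by rw [FiniteField.finrank_extension]; exact hl0.2) hM hb hcop
      exact hnot (mem_range_orderOf_of_dvd hy)
  · rintro ⟨hlt, hkd⟩ ⟨y, hy⟩
    obtain ⟨A, hA, hAM⟩ := exists_lift y hn0 hy hcop
    have hne : ∀ j : ℕ, ¬ r * s ∣ j → (A : Matrix (Fin n) (Fin n) F) ^ j ≠ 1 := by
      intro j hj h
      refine hj (hA ▸ orderOf_dvd_of_pow_eq_one ((toPSL_pow_eq_one_iff A j).2 ⟨1, ?_⟩))
      rw [h, map_one]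
    obtain ⟨f, hfm, hf, hfμ, -, hkf⟩ := exists_factor p hr hrp _ hAM (hne s fun h =>
      hr.ne_one (Nat.eq_one_of_dvd_coprimes hco dvd_rfl ((dvd_mul_right r s).trans h)))
    obtain ⟨g, hgm, hg, hgμ, -, hlg⟩ := exists_factor p hs hsp _
      (show (A : Matrix (Fin n) (Fin n) F) ^ (s * r) = 1 by rwa [mul_comm])
      (hne r fun h => hs.ne_one (Nat.eq_one_of_dvd_coprimes hco ((dvd_mul_left s r).trans h) dvd_rfl))
    by_cases hfg : f ∣ g
    · have hass := hf.associated_of_dvd hg hfg
      have heq : f.natDegree = g.natDegree :=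
        natDegree_eq_of_degree_eq (degree_eq_degree_of_associated hass)
      have hd : Nat.lcm k l ∣ f.natDegree := Nat.lcm_dvd hkf (heq ▸ hlg)
      have h1 : Nat.lcm k l ≤ n :=
        (Nat.le_of_dvd hf.natDegree_pos hd).trans (natDegree_le_of_dvd_minpoly hfμ)
      obtain ⟨t, ht⟩ := Nat.dvd_lcm_right k l
      rcases Nat.lt_or_ge t 2 with h2 | h2
      · interval_cases t
        · have := Nat.lcm_pos (show 0 < k by omega) hl0.1
          omega
        · exact hkd (by rw [mul_one] at ht; exact ht ▸ Nat.dvd_lcm_left k l)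
      · have : l * 2 ≤ l * t := Nat.mul_le_mul_left l h2
        omega
    · have hd : (f * g).natDegree ≤ n := natDegree_le_of_dvd_minpoly
        ((hf.coprime_iff_not_dvd.2 hfg).mul_dvd hfμ hgμ)
      rw [natDegree_mul hf.ne_zero hg.ne_zero] at hd
      have h1 := Nat.le_of_dvd hf.natDegree_pos hkf
      have h2 := Nat.le_of_dvd hg.natDegree_pos hlg
      omega

end Cfsg.Agent.S2468
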