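import Cfsg.Statements.S2469
import Cfsg.Agent.H55.SpPrimeGraph

set_option autoImplicit false
open Cfsg

namespace Cfsg.Agent.S2469

open Cfsg.Agent.H55 Polynomial Cfsg.Agent.Symplectic

/-- Adjacency of two odd primes in the prime graph of PSp(2n,q): let F be a finite field of characteristic p with q elements, n ≥ 2 with PSp(2n,F) simple, and let r ≠ s be odd primes different from p dividing the order of PSp(2n,F). Let k, l be the multiplicative orders of q modulo r and s, put η(m) = m for odd m and η(m) = m/2 for even m, and suppose η(k) ≤ η(l). Then PSp(2n,F) has NO element of order r·s if and only if η(k) + η(l) > n and l/k is not an odd integer. -/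
theorem result {F : Type*} [Field F] [Fintype F] (p : ℕ) [Fact p.Prime] [CharP F p] (n : ℕ) (hn : 2 ≤ n) (hsmall : n = 2 → 3 ≤ Fintype.card F)
    (r s : ℕ) (hr : r.Prime) (hs : s.Prime) (hr2 : r ≠ 2) (hs2 : s ≠ 2) (hrp : r ≠ p) (hsp : s ≠ p) (hrs : r ≠ s)
    (hrG : r ∣ Nat.card (Cfsg.PSp n F)) (hsG : s ∣ Nat.card (Cfsg.PSp n F))
    (k l ηk ηl : ℕ) (hk : k = orderOf ((Fintype.card F : ℕ) : ZMod r)) (hl : l = orderOf ((Fintype.card F : ℕ) : ZMod s))
    (hηk : (Odd k ∧ ηk = k) ∨ (Even k ∧ 2 * ηk = k)) (hηl : (Odd l ∧ ηl = l) ∨ (Even l ∧ 2 * ηl = l)) (hkl : ηk ≤ ηl) :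
    (r * s ∉ Set.range (orderOf : Cfsg.PSp n F → ℕ)) ↔ (n < ηk + ηl ∧ ¬ ∃ t : ℕ, Odd t ∧ l = k * t) := by
  rw [← Nat.card_eq_fintype_card] at hk hl
  have hn1 : 1 ≤ n := by omega
  obtain ⟨hk0, hηk0, hηkn⟩ := eta_le_of_dvd_card p hn1 hr hrp hk hηk hrG
  obtain ⟨hl0, hηl0, hηln⟩ := eta_le_of_dvd_card p hn1 hs hsp hl hηl hsG
  have hco : Nat.Coprime r s := (Nat.coprime_primes hr hs).2 hrs
  have hodd : Odd (r * s) := (hr.odd_of_ne_two hr2).mul (hs.odd_of_ne_two hs2)
  have htr : r ∣ Nat.card F ^ ηk + 1 ∨ r ∣ Nat.card F ^ ηk - 1 := by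
    rcases dvd_torus hr hk hηk hk0 with ⟨-, h⟩ | ⟨-, h⟩
    · exact Or.inr h
    · exact Or.inl h
  have hts : s ∣ Nat.card F ^ ηl + 1 ∨ s ∣ Nat.card F ^ ηl - 1 := by
    rcases dvd_torus hs hl hηl hl0 with ⟨-, h⟩ | ⟨-, h⟩
    · exact Or.inr h
    · exact Or.inl h
  constructor
  · intro hnot
    refine ⟨?_, ?_⟩
    · by_contra hle
      push Not at hle
      have hT := (hasTorus p hηk0 htr).prod (hasTorus p hηl0 hts)
      rw [hco.lcm_eq_mul] at hT
      obtain ⟨y, hy⟩ := hT.exists_psp hle hn1 (Or.inl hodd)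
      exact hnot (mem_range_orderOf_of_dvd hy)
    · rintro ⟨t, ht, hlk⟩
      have hM : r * s ∣ Nat.card F ^ ηl + 1 ∨ r * s ∣ Nat.card F ^ ηl - 1 := by
        rcases dvd_torus hs hl hηl hl0 with ⟨ho, h⟩ | ⟨he, h⟩
        · refine Or.inr (hco.mul_dvd_of_dvd_of_dvd (dvd_pow_sub_one_of_ord ?_) h)
          rw [← hk]
          rcases hηl with ⟨-, rfl⟩ | ⟨he, -⟩
          · exact ⟨t, hlk⟩
          · exact absurd he (Nat.not_even_iff_odd.2 ho)
        · have hke : Even k := by
            rw [hlk] at he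
            exact (Nat.even_mul.1 he).resolve_right (Nat.not_even_iff_odd.2 ht)
          obtain ⟨hko, -⟩ | ⟨-, h1⟩ := hηk
          · exact absurd hke (Nat.not_even_iff_odd.2 hko)
          · obtain ⟨hlo, -⟩ | ⟨-, h2⟩ := hηl
            · exact absurd he (Nat.not_even_iff_odd.2 hlo)
            rcases dvd_torus hr hk (Or.inr ⟨hke, h1⟩) hk0 with ⟨ho, -⟩ | ⟨-, h3⟩
            · exact absurd hke (Nat.not_even_iff_odd.2 ho)
            · refine Or.inl (hco.mul_dvd_of_dvd_of_dvd (h3.trans ?_) h)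
              have hηlk : ηl = ηk * t := by
                apply Nat.eq_of_mul_eq_mul_left two_pos
                rw [h2, hlk, ← mul_assoc, h1]
              have := ht.nat_add_dvd_pow_add_pow (Nat.card F ^ ηk) 1
              rwa [one_pow, ← pow_mul, ← hηlk] at this
      obtain ⟨y, hy⟩ := (hasTorus p hηl0 hM).exists_psp hηln hn1 (Or.inl hodd)
      exact hnot (mem_range_orderOf_of_dvd hy)
  · rintro ⟨hlt, hno⟩ ⟨y, hy⟩
    obtain ⟨A, hA, hAM⟩ := exists_lift_sp hn1 y hy (Or.inl hodd)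
    have hne : ∀ j : ℕ, ¬ r * s ∣ j → (A : Mat n F) ^ j ≠ 1 := fun j hj h =>
      hj (hA ▸ orderOf_dvd_of_pow_eq_one ((toPSp_pow_eq_one_iff hn1 A j).2 (Or.inl h)))
    obtain ⟨f, f', G, d, hfm, hf, hf'm, hf', hd, hd', hfμ, hf'μ, -, -, hGm, hGμ, hG, hcase⟩ :=
      factor_data p hn1 hr hr2 hrp hs.pos A hAM (hne s fun h =>
        hr.ne_one (Nat.eq_one_of_dvd_coprimes hco dvd_rfl ((dvd_mul_right r s).trans h)))
    obtain ⟨g, g', H, c, hgm, hg, hg'm, hg', hc, hc', hgμ, hg'μ, hgs, hgs', hHm, hHμ, hH, hcase2⟩ :=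
      factor_data p hn1 hs hs2 hsp hr.pos A (show (A : Mat n F) ^ (s * r) = 1 by rwa [mul_comm])
        (hne r fun h => hs.ne_one (Nat.eq_one_of_dvd_coprimes hco ((dvd_mul_left s r).trans h) dvd_rfl))
    have hμd := minpoly_natDegree_le_sp (A : Mat n F)
    have hμ0 := minpoly.ne_zero (Matrix.isIntegral (R := F) (A : Mat n F))
    by_cases hmeet : ¬ f ∣ X ^ r - 1 ∨ ¬ f' ∣ X ^ r - 1
    · -- one factor carries both primes
      have key : ∀ φ : F[X], Irreducible φ → φ ∣ minpoly F (A : Mat n F) → ¬ φ ∣ X ^ r - 1 →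
          ∀ N, φ ∣ X ^ N - 1 → s ∣ N := by
        intro φ _ hφμ hφr N hN
        refine root_dvd hs (hφμ.trans (minpoly.dvd F _ ?_)) hφr hN
        rw [mul_comm, map_sub, map_pow, aeval_X, hAM, map_one, sub_self]
      obtain ⟨hqf, f'', -, -, -, -, hiff, -⟩ := exists_partner hn1 A (Nat.mul_pos hr.pos hs.pos) hAM hfm hf hfμ
      rcases hcase with ⟨hff, -, e, he, hde, hfe, hre⟩ | ⟨hff, -, hdn, hfe, hre⟩
      · rw [hff, or_self] at hmeet
        have hse : s ∣ Nat.card F ^ e + 1 := key f hf hfμ hmeet _ hfe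
        obtain ⟨h1, t1, ht1, he1⟩ := eta_of_dvd_plus hr hr2 hk hηk hre
        obtain ⟨h2, t2, ht2, he2⟩ := eta_of_dvd_plus hs hs2 hl hηl hse
        have hen : e ≤ n := by
          have := (natDegree_le_of_dvd hfμ hμ0).trans hμd
          omega
        rcases Nat.lt_or_ge t2 3 with h3 | h3
        · obtain rfl : t2 = 1 := by
            rcases ht2 with ⟨u, rfl⟩
            omega
          refine hno ⟨t1, ht1, ?_⟩
          rw [← h2, ← h1, mul_assoc, ← he1, he2, mul_one]
        · have : ηl * 3 ≤ ηl * t2 := Nat.mul_le_mul_left _ h3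
          omega
      · have hsd : s ∣ Nat.card F ^ d - 1 := by
          rcases hmeet with h | h
          · exact key f hf hfμ h _ hfe
          · obtain ⟨hq', -⟩ := exists_partner hn1 A (Nat.mul_pos hr.pos hs.pos) hAM hf'm hf' hf'μ
            rw [hd'] at hq'
            exact key f' hf' hf'μ h _ hq'
        obtain ⟨t2, ht2⟩ : l ∣ d := hl ▸ dvd_pow_sub_one_iff_ord.1 hsd
        have hdpos : 0 < d := hd ▸ hf.natDegree_pos
        have hkd : k ∣ d := hk ▸ dvd_pow_sub_one_iff_ord.1 hre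
        have hld : l ≤ d := Nat.le_of_dvd hdpos ⟨t2, ht2⟩
        rcases hηl with ⟨hlo, rfl⟩ | ⟨-, h2⟩
        · obtain rfl : t2 = 1 := by
            rcases Nat.lt_or_ge t2 2 with h | h
            · rcases Nat.eq_zero_or_pos t2 with h0 | h0
              · rw [h0, mul_zero] at ht2; omega
              · omega
            · have : ηl * 2 ≤ ηl * t2 := Nat.mul_le_mul_left _ h
              omega
          rw [mul_one] at ht2
          obtain ⟨t, ht⟩ := hkd
          exact hno ⟨t, (Nat.odd_mul.1 (by rw [← ht, ht2]; exact hlo)).2, by rw [← ht, ht2]⟩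
        · omega
    · push Not at hmeet
      obtain ⟨hfr, hfr'⟩ := hmeet
      have hsep : ∀ φ ψ : F[X], φ.Monic → Irreducible φ → φ ∣ X ^ r - 1 → ψ.Monic → Irreducible ψ →
          ¬ ψ ∣ X ^ r - 1 → IsCoprime φ ψ := fun φ ψ h1 h2 h3 h4 h5 h6 =>
        h2.coprime_iff_not_dvd.2 fun h =>
          h6 (eq_of_monic_of_associated h1 h4 (h2.associated_of_dvd h5 h) ▸ h3)
      have hco' : IsCoprime G H := by
        have c1 := hsep f g hfm hf hfr hgm hg hgs
        have c2 := hsep f g' hfm hf hfr hg'm hg' hgs'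
        have c3 := hsep f' g hf'm hf' hfr' hgm hg hgs
        have c4 := hsep f' g' hf'm hf' hfr' hg'm hg' hgs'
        rcases hcase with ⟨-, rfl, -⟩ | ⟨-, rfl, -⟩ <;> rcases hcase2 with ⟨-, rfl, -⟩ | ⟨-, rfl, -⟩
        · exact c1
        · exact c1.mul_right c2
        · exact c1.mul_left c3
        · exact (c1.mul_right c2).mul_left (c3.mul_right c4)
      have hdeg := (natDegree_le_of_dvd (hco'.mul_dvd hGμ hHμ) hμ0).trans hμd
      rw [natDegree_mul hGm.ne_zero hHm.ne_zero] at hdeg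
      have b1 : 2 * ηk ≤ G.natDegree := by
        rcases hcase with ⟨-, rfl, e, he, hde, -, hre⟩ | ⟨-, rfl, -, -, hre⟩
        · have := (show IsEta k ηk from hηk).le_of_dvd he (hk ▸ dvd_pow_sub_one_iff_ord.1 (by
            rw [sq_pow_sub_one]; exact hre.mul_right _))
          omega
        · have h1 := Nat.le_of_dvd (hd ▸ hf.natDegree_pos) (hk ▸ dvd_pow_sub_one_iff_ord.1 hre)
          have h2 := (show IsEta k ηk from hηk).le
          rw [natDegree_mul hf.ne_zero hf'.ne_zero, hd, hd']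
          omega
      have b2 : 2 * ηl ≤ H.natDegree := by
        rcases hcase2 with ⟨-, rfl, e, he, hde, -, hre⟩ | ⟨-, rfl, -, -, hre⟩
        · have := (show IsEta l ηl from hηl).le_of_dvd he (hl ▸ dvd_pow_sub_one_iff_ord.1 (by
            rw [sq_pow_sub_one]; exact hre.mul_right _))
          omega
        · have h1 := Nat.le_of_dvd (hc ▸ hg.natDegree_pos) (hl ▸ dvd_pow_sub_one_iff_ord.1 hre)
          have h2 := (show IsEta l ηl from hηl).le
          rw [natDegree_mul hg.ne_zero hg'.ne_zero, hc, hc']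
          omega
      omega

end Cfsg.Agent.S2469
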