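import Cfsg.Statements.S2470
import Cfsg.Agent.H55.PSLPrimeGraph

set_option autoImplicit false
open Cfsg

namespace Cfsg.Agent.S2470

open Cfsg.Agent.H55 Polynomial

theorem exists_unit_order {F : Type*} [Field F] [Finite F] {M : ℕ} (hM : 0 < M)
    (h : M ∣ Nat.card F - 1) : ∃ ζ : F, orderOf ζ = M := by
  obtain ⟨g, hg⟩ := IsCyclic.exists_ofOrder_eq_natCard (α := Fˣ)
  rw [Nat.card_units] at hg
  have h1 : 1 < Nat.card F := Finite.one_lt_card
  refine ⟨((g ^ ((Nat.card F - 1) / M) : Fˣ) : F), ?_⟩
  rw [orderOf_units, orderOf_pow_of_dvd (Nat.div_ne_zero_iff.2 ⟨hM.ne', Nat.le_of_dvd (by omega) h⟩)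
    (by rw [hg]; exact Nat.div_dvd_of_dvd h), hg, Nat.div_div_self h (by omega)]

/-- Adjacency of an odd prime and the characteristic in the prime graph of PSL(n,q): let F be a finite field of characteristic p with q elements, n ≥ 2 with PSL(n,F) simple, and let r ≠ p be an odd prime dividing the order of PSL(n,F), with k the multiplicative order of q modulo r. Then PSL(n,F) has NO element of order r·p if and only if either k > n − 2, or n = 3, r = 3 and 3 divides q − 1 exactly once. -/
theorem result {F : Type*} [Field F] [Fintype F] (p : ℕ) [Fact p.Prime] [CharP F p] (n : ℕ) (hn : 2 ≤ n) (hsmall : n = 2 → 4 ≤ Fintype.card F)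
    (r : ℕ) (hr : r.Prime) (hr2 : r ≠ 2) (hrp : r ≠ p) (hrG : r ∣ Nat.card (Matrix.ProjectiveSpecialLinearGroup (Fin n) F))
    (k : ℕ) (hk : k = orderOf ((Fintype.card F : ℕ) : ZMod r)) :
    (r * p ∉ Set.range (orderOf : Matrix.ProjectiveSpecialLinearGroup (Fin n) F → ℕ)) ↔
      (n - 2 < k ∨ (n = 3 ∧ r = 3 ∧ 3 ∣ Fintype.card F - 1 ∧ ¬ 9 ∣ Fintype.card F - 1)) := by
  subst hk
  rw [← Nat.card_eq_fintype_card] at *
  set k := orderOf ((Nat.card F : ℕ) : ZMod r)
  have hn0 : 0 < n := by omega
  have hk0 : 0 < k ∧ k ≤ n := ord_le_of_dvd_card (by omega) hr (not_dvd_card p hr hrp) hrG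
  have hp : p.Prime := Fact.out
  have hco : Nat.Coprime r p := (Nat.coprime_primes hr hp).2 hrp
  have hM : 0 < r * p := Nat.mul_pos hr.pos hp.pos
  have hclog : ∀ m, 2 ≤ m → p ∣ p ^ Nat.clog p m := fun m hm =>
    dvd_pow_self p (Nat.clog_pos hp.one_lt hm).ne'
  constructor
  · intro hnot
    by_contra hcon
    push Not at hcon
    obtain ⟨hk2, hex⟩ := hcon
    suffices h : ∃ y : Matrix.ProjectiveSpecialLinearGroup (Fin n) F,
        r ∣ orderOf y ∧ p ∣ orderOf y by
      obtain ⟨y, h1, h2⟩ := h
      exact hnot (mem_range_orderOf_of_dvd (hco.mul_dvd_of_dvd_of_dvd h1 h2))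
    rcases Nat.lt_or_ge k 2 with hk1 | hk1
    · have hrq : r ∣ Nat.card F - 1 := ord_eq_one_iff.1 (show k = 1 by omega)
      rcases Nat.lt_or_ge n 4 with hn4 | hn4
      · obtain rfl : n = 3 := by omega
        by_cases hr3 : r = 3
        · subst hr3
          obtain ⟨η, hη⟩ := exists_unit_order (F := F) (by norm_num : 0 < 9) (hex rfl rfl hrq)
          have hη9 : η ^ 9 = 1 := hη ▸ pow_orderOf_eq_one η
          have hη0 : η ≠ 0 := by rintro rfl; simp at hη9
          have := finite_unipotent_alg (F := F) 2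
          obtain ⟨u, hu1, hu2⟩ := exists_unipotent_unit (F := F) p (show 1 ≤ 2 by norm_num)
          have hfin : Module.finrank F (F × AdjoinRoot (X ^ 2 : F[X])) = 3 := by
            rw [Module.finrank_prod, Module.finrank_self, finrank_unipotent_alg]
          have hnorm : Algebra.norm F ((η⁻¹ * η⁻¹, algebraMap F _ η * u) :
              F × AdjoinRoot (X ^ 2 : F[X])) = 1 := by
            rw [Cfsg.Agent.H55.norm_prod, map_mul (Algebra.norm F) (algebraMap F _ η) u, Algebra.norm_algebraMap,
              hu1, finrank_unipotent_alg, Algebra.norm_self, mul_one, MonoidHom.id_apply]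
            field_simp
          refine ⟨toPSL (slOf hfin _ hnorm), ?_⟩
          obtain ⟨c, hc⟩ := (toPSL_slOf_pow_eq_one_iff hfin _ hnorm _).1
            (pow_orderOf_eq_one (toPSL (slOf hfin _ hnorm)))
          set h := orderOf (toPSL (slOf hfin _ hnorm))
          have hc1 : (η⁻¹ * η⁻¹) ^ h = c := congrArg Prod.fst hc
          have hc2 : (algebraMap F _ η * u) ^ h = algebraMap F (AdjoinRoot (X ^ 2 : F[X])) c :=
            congrArg Prod.snd hc
          have hc3 : u ^ h = algebraMap F (AdjoinRoot (X ^ 2 : F[X])) (η⁻¹ ^ h * c) := by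
            rw [map_mul, ← hc2, mul_pow, ← mul_assoc, ← map_pow, ← map_mul, ← mul_pow,
              inv_mul_cancel₀ hη0, one_pow, map_one, one_mul]
          obtain ⟨hc4, hc5⟩ := hu2 h _ hc3
          refine ⟨?_, (hclog 2 le_rfl).trans hc5⟩
          rw [← hc1, ← mul_pow, ← pow_three, inv_pow, inv_pow, inv_eq_one, ← pow_mul] at hc4
          have h9 : η ^ (3 * h) = 1 := hc4
          have := orderOf_dvd_of_pow_eq_one h9
          rw [hη] at this
          exact Nat.dvd_of_mul_dvd_mul_left (by norm_num : 0 < 3) this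
        · obtain ⟨A, P, h1, h2, h3, h4, h5⟩ :=
            exists_block_element (F := F) p (n := 3) (e := 1) le_rfl (by omega)
          obtain ⟨y, hy⟩ := exists_order_of_idempotent hr hrq
            (fun h => hr3 ((Nat.prime_dvd_prime_iff_eq hr Nat.prime_three).1 h)) A P h1 h2 h3 h4
          exact ⟨y, (Nat.dvd_lcm_right _ _).trans hy,
            (((hclog (3 - 1) (by omega)).trans (dvd_mul_left _ _)).trans h5).trans
              ((Nat.dvd_lcm_left _ _).trans hy)⟩
      · obtain ⟨ζ, hζ⟩ := exists_unit_order (F := F) hr.pos hrq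
        have hζ0 : ζ ≠ 0 := by
          rintro rfl
          have := hζ ▸ pow_orderOf_eq_one (0 : F)
          rw [zero_pow hr.ne_zero] at this
          exact zero_ne_one this
        have := finite_unipotent_alg (F := F) (n - 2)
        obtain ⟨u, hu1, hu2⟩ := exists_unipotent_unit (F := F) p (show 1 ≤ n - 2 by omega)
        have hfin : Module.finrank F (F × F × AdjoinRoot (X ^ (n - 2) : F[X])) = n := by
          rw [Module.finrank_prod, Module.finrank_prod, Module.finrank_self, finrank_unipotent_alg]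
          omega
        have hnorm : Algebra.norm F ((ζ, ζ⁻¹, u) : F × F × AdjoinRoot (X ^ (n - 2) : F[X])) = 1 := by
          rw [Cfsg.Agent.H55.norm_prod, Cfsg.Agent.H55.norm_prod, hu1, Algebra.norm_self, mul_one, MonoidHom.id_apply,
            MonoidHom.id_apply, mul_inv_cancel₀ hζ0]
        refine ⟨toPSL (slOf hfin _ hnorm), ?_⟩
        obtain ⟨c, hc⟩ := (toPSL_slOf_pow_eq_one_iff hfin _ hnorm _).1
          (pow_orderOf_eq_one (toPSL (slOf hfin _ hnorm)))
        set h := orderOf (toPSL (slOf hfin _ hnorm))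
        obtain ⟨hc4, hc5⟩ := hu2 h c (congrArg (fun z => z.2.2) hc)
        have hc1 : ζ ^ h = c := congrArg Prod.fst hc
        exact ⟨hζ ▸ orderOf_dvd_of_pow_eq_one (hc1.trans hc4), (hclog _ (by omega)).trans hc5⟩
    · obtain ⟨A, P, -, -, -, -, h5⟩ :=
        exists_block_element (F := F) p (n := n) (e := k) (by omega) (by omega)
      refine ⟨toPSL A, ?_, ((hclog (n - k) (by omega)).trans (dvd_mul_left _ _)).trans h5⟩
      refine (dvd_mul_of_dvd_left ?_ _).trans h5
      refine (coprime_of_two_le hr hk1).dvd_of_dvd_mul_right ?_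
      rw [Nat.div_mul_cancel (by simpa using Nat.pow_sub_one_dvd_pow_sub_one _ (one_dvd k))]
      exact dvd_pow_sub_one_of_ord (dvd_refl k)
  · rintro hcond ⟨y, hy⟩
    rcases Nat.lt_or_ge k 2 with hk1 | hk1
    · obtain ⟨A, rfl⟩ := QuotientGroup.mk'_surjective _ y
      change orderOf (toPSL A) = r * p at hy
      set B : Matrix (Fin n) (Fin n) F := (A : Matrix (Fin n) (Fin n) F) with hB
      have hscal : ∀ (j : ℕ) (d : F), B ^ j = Matrix.scalar (Fin n) d → r * p ∣ j :=
        fun j d hd => hy ▸ orderOf_dvd_of_pow_eq_one ((toPSL_pow_eq_one_iff A j).2 ⟨d, hd⟩)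
      obtain ⟨c, hc⟩ := (toPSL_pow_eq_one_iff A (r * p)).1
        (by rw [← hy]; exact pow_orderOf_eq_one _)
      have hc0 : c ≠ 0 := by
        rintro rfl
        have : Nonempty (Fin n) := ⟨⟨0, hn0⟩⟩
        have h1 := congrArg Matrix.det hc
        rw [Matrix.det_pow, A.2, one_pow, map_zero, Matrix.det_zero] at h1
        exact one_ne_zero h1
      obtain ⟨c', hc'⟩ : ∃ c' : F, c' ^ p = c := by
        obtain ⟨j, -, hj⟩ := FiniteField.card F p
        refine ⟨c ^ p ^ ((j : ℕ) - 1), ?_⟩
        rw [← pow_mul, ← pow_succ, Nat.sub_add_cancel j.pos, ← hj, FiniteField.pow_card]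
      have hc'0 : c' ≠ 0 := by rintro rfl; rw [zero_pow hp.ne_zero] at hc'; exact hc0 hc'.symm
      have hint : IsIntegral F B := Matrix.isIntegral B
      have hμ : minpoly F B ∣ (X ^ r - C c') ^ p := by
        refine minpoly.dvd F B ?_
        rw [sub_pow_char, ← pow_mul, ← C_pow, hc', map_sub, map_pow, aeval_X, aeval_C, hB, hc,
          sub_eq_zero]
        rfl
      have hr0 : ((r : ℕ) : F) ≠ 0 := by
        rw [Ne, CharP.cast_eq_zero_iff F p]
        exact fun h => hrp ((Nat.prime_dvd_prime_iff_eq hp hr).1 h).symm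
      have hsep : (X ^ r - C c').Separable := separable_X_pow_sub_C c' hr0 hc'0
      have hnilp : ∀ (a : F) (m : ℕ), minpoly F B ∣ (X - C a) ^ m → False := by
        intro a m hm
        have hd := hm.trans (pow_dvd_pow (X - C a) (Nat.le_pow_clog hp.one_lt m))
        obtain ⟨w, hw⟩ := hd
        have h1 := congrArg (aeval B) hw
        rw [map_mul, minpoly.aeval, zero_mul, sub_pow_char_pow, ← C_pow, map_sub, map_pow,
          aeval_X, aeval_C, sub_eq_zero] at h1
        have h2 := (dvd_mul_right r p).trans (hscal _ _ h1)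
        exact hrp ((Nat.prime_dvd_prime_iff_eq hr hp).1 (hr.dvd_of_dvd_pow h2))
      obtain ⟨f, hf, hff⟩ : ∃ f : F[X], Irreducible f ∧ f * f ∣ minpoly F B := by
        by_contra hc
        push Not at hc
        have hsq : Squarefree (minpoly F B) :=
          (squarefree_iff_irreducible_sq_not_dvd_of_ne_zero (minpoly.ne_zero hint)).2 hc
        obtain ⟨w, hw⟩ := (hsq.dvd_pow_iff_dvd hp.ne_zero).1 hμ
        have h1 := congrArg (aeval B) hw
        rw [map_mul, minpoly.aeval, zero_mul, map_sub, map_pow, aeval_X, aeval_C, sub_eq_zero] at h1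
        have h2 := (dvd_mul_left p r).trans (hscal _ _ h1)
        exact hrp ((Nat.prime_dvd_prime_iff_eq hp hr).1 h2).symm
      have hn3 : n ≤ 3 := by rcases hcond with h | ⟨h, -⟩ <;> omega
      have hdeg : f.natDegree + f.natDegree ≤ n :=
        natDegree_mul hf.ne_zero hf.ne_zero ▸ natDegree_le_of_dvd_minpoly hff
      have hf1 : f.degree = 1 := by
        rw [degree_eq_natDegree hf.ne_zero]
        have := hf.natDegree_pos
        norm_cast
        omega
      obtain ⟨a, hass⟩ : ∃ a : F, Associated (X - C a) f := by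
        refine ⟨-(f.coeff 0 / f.coeff 1), ?_⟩
        have h1 : f.coeff 1 ≠ 0 := by
          have := leadingCoeff_ne_zero.2 hf.ne_zero
          rwa [leadingCoeff, natDegree_eq_of_degree_eq_some hf1] at this
        refine ⟨(isUnit_C.2 h1.isUnit).unit, ?_⟩
        conv_rhs => rw [eq_X_add_C_of_degree_eq_one hf1]
        rw [IsUnit.unit_spec, leadingCoeff, natDegree_eq_of_degree_eq_some hf1, map_neg,
          sub_neg_eq_add, add_mul, mul_comm, ← C_mul, div_mul_cancel₀ _ h1]
        rfl
      obtain ⟨g, hg⟩ := (mul_dvd_mul hass.dvd hass.dvd).trans hff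
      have hgm : g.Monic :=
        ((monic_X_sub_C a).mul (monic_X_sub_C a)).of_mul_monic_left (hg ▸ minpoly.monic hint)
      have hgdeg : (minpoly F B).natDegree = 2 + g.natDegree := by
        rw [hg, Monic.natDegree_mul ((monic_X_sub_C a).mul (monic_X_sub_C a)) hgm,
          (monic_X_sub_C a).natDegree_mul (monic_X_sub_C a), natDegree_X_sub_C]
      have hle := minpoly_natDegree_le (n := n) B
      rcases Nat.eq_zero_or_pos g.natDegree with hg0 | hg0
      · refine hnilp a 2 ?_
        rw [hg, hgm.natDegree_eq_zero.1 hg0, mul_one, pow_two]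
      have hg1 : g.natDegree = 1 := by omega
      obtain ⟨b, rfl⟩ : ∃ b : F, g = X - C b :=
        ⟨-g.coeff 0, by rw [map_neg, sub_neg_eq_add]; exact hgm.eq_X_add_C hg1⟩
      by_cases hab : b = a
      · exact hnilp a 3 (by rw [hg, hab, pow_succ, pow_two])
      rcases hcond with h | ⟨rfl, rfl, h3, h9⟩
      · omega
      have hroot : ∀ x : F, X - C x ∣ minpoly F B → x ^ 3 = c' := by
        intro x hx
        have := (prime_X_sub_C x).dvd_of_dvd_pow (hx.trans hμ)
        rw [dvd_iff_isRoot] at this
        simpa [sub_eq_zero] using this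
      have ha3 := hroot a (hg ▸ ((dvd_mul_right _ _).trans (dvd_mul_right _ _)))
      have hb3 := hroot b (hg ▸ dvd_mul_left _ _)
      have hchar : B.charpoly = minpoly F B :=
        (eq_of_monic_of_dvd_of_natDegree_le (minpoly.monic hint) B.charpoly_monic
          (Matrix.minpoly_dvd_charpoly B) (by
            rw [Matrix.charpoly_natDegree_eq_dim, Fintype.card_fin]; omega))
      have hdet : a ^ 2 * b = 1 := by
        have h1 := Matrix.det_eq_sign_charpoly_coeff B
        rw [hB, A.2, ← hB, hchar, hg, mul_coeff_zero, mul_coeff_zero] at h1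
        simp at h1
        linear_combination -h1
      have ha0 : a ≠ 0 := by rintro rfl; simp at hdet
      have ha9 : a ^ 3 ^ (1 + 1) = 1 := by
        have : (a ^ 2 * b) ^ 3 = 1 := by rw [hdet, one_pow]
        rw [mul_pow, hb3, ← ha3, ← pow_mul, ← pow_add] at this
        simpa using this
      have ha31 : ¬ a ^ 3 ^ 1 = 1 := by
        intro h
        refine hab (mul_left_cancel₀ (pow_ne_zero 2 ha0) ?_)
        rw [hdet, ← pow_succ]
        simpa using h.symm
      have h9' := orderOf_eq_prime_pow ha31 ha9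
      exact h9 (by
        rw [← show orderOf a = 9 by simpa using h9', Nat.card_eq_fintype_card]
        exact orderOf_dvd_of_pow_eq_one (FiniteField.pow_card_sub_one_eq_one a ha0))
    · have hlt : n - 2 < k := by
        rcases hcond with h | ⟨-, rfl, h3, -⟩
        · exact h
        · have := ord_eq_one_iff.2 h3
          omega
      obtain ⟨A, hA, hAM⟩ := exists_lift y hn0 hy
        (Nat.Coprime.mul_left (coprime_of_two_le hr hk1) (char_coprime p))
      set B : Matrix (Fin n) (Fin n) F := (A : Matrix (Fin n) (Fin n) F) with hB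
      have hne : ∀ j : ℕ, ¬ r * p ∣ j → B ^ j ≠ 1 := by
        intro j hj h
        refine hj (hA ▸ orderOf_dvd_of_pow_eq_one ((toPSL_pow_eq_one_iff A j).2 ⟨1, ?_⟩))
        rw [← hB, h, map_one]
      obtain ⟨f, hfm, hf, hfμ, -, hkf⟩ := exists_factor p hr hrp B hAM (hne p fun h =>
        hrp ((Nat.prime_dvd_prime_iff_eq hr hp).1 ((dvd_mul_right r p).trans h)))
      have hfk : k ≤ f.natDegree := Nat.le_of_dvd hf.natDegree_pos hkf
      have hμ : minpoly F B ∣ (X ^ r - 1) ^ p := by
        refine minpoly.dvd F B ?_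
        rw [sub_pow_char, one_pow, ← pow_mul, map_sub, map_pow, aeval_X, hAM, map_one, sub_self]
      obtain ⟨g, hg⟩ := hfμ
      have hgne : g ≠ 0 := by
        rintro rfl
        rw [mul_zero] at hg
        exact minpoly.ne_zero (Matrix.isIntegral B) hg
      have hle := minpoly_natDegree_le (n := n) B
      rw [hg, natDegree_mul hf.ne_zero hgne] at hle
      have hfX : f ∣ X ^ r - 1 := hf.prime.dvd_of_dvd_pow ((hg ▸ dvd_mul_right f g).trans hμ)
      have hfinal : minpoly F B ∣ X ^ r - 1 := by
        rw [hg]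
        rcases Nat.eq_zero_or_pos g.natDegree with hg0 | hg0
        · have hu : IsUnit g := isUnit_iff_degree_eq_zero.2 (by
            rw [degree_eq_natDegree hgne, hg0]; rfl)
          exact (hu.mul_right_dvd).2 hfX
        · have hgi : Irreducible g := irreducible_of_degree_eq_one (by
            rw [degree_eq_natDegree hgne]; norm_cast; omega)
          refine (hf.coprime_iff_not_dvd.2 fun h => ?_).mul_dvd hfX
            (hgi.prime.dvd_of_dvd_pow ((hg ▸ dvd_mul_left g f).trans hμ))
          have := natDegree_le_of_dvd h hgne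
          omega
      obtain ⟨w, hw⟩ := hfinal
      have h1 := congrArg (aeval B) hw
      rw [map_mul, minpoly.aeval, zero_mul, map_sub, map_pow, aeval_X, map_one, sub_eq_zero] at h1
      exact hne r (fun h => hrp ((Nat.prime_dvd_prime_iff_eq hp hr).1
        ((dvd_mul_left p r).trans h)).symm) h1

end Cfsg.Agent.S2470
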