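import Cfsg.Statements.S2471
import Cfsg.Agent.Linear.TwoTorus
-- import your own Cfsg.Agent.* helpers here

set_option autoImplicit false
open Cfsg

namespace Cfsg.Agent.S2471

/-- In PSL(2,q) with q odd, the characteristic p is isolated from 2 in the prime graph: for F a finite field of odd characteristic p with at least 5 elements, PSL(2,F) has no element of order 2p. -/
theorem result {F : Type*} [Field F] [Fintype F] (p : ℕ) [Fact p.Prime] [CharP F p] (hp : p ≠ 2) (h5 : 5 ≤ Fintype.card F) (g : Matrix.ProjectiveSpecialLinearGroup (Fin 2) F) :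
    orderOf g ≠ 2 * p := by
  intro hg
  obtain ⟨x, rfl⟩ := QuotientGroup.mk_surjective g
  have h2 : (2 : F) ≠ 0 := Ring.two_ne_zero (by rw [ringChar.eq F p]; exact hp)
  have hpp : p.Prime := Fact.out
  have hodd : Odd p := hpp.odd_of_ne_two hp
  have hc : ∀ k : ℕ, (((x ^ k : Matrix.SpecialLinearGroup (Fin 2) F)) :
      Matrix.ProjectiveSpecialLinearGroup (Fin 2) F) = 1 ↔ x ^ k = 1 ∨ x ^ k = -1 := fun k => by
    rw [← Cfsg.Agent.Linear.mem_center_SL_two]
    exact QuotientGroup.eq_one_iff _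
  have hdvd : ∀ k : ℕ, (x ^ k = 1 ∨ x ^ k = -1) ↔ 2 * p ∣ k := fun k => by
    rw [← hc, QuotientGroup.mk_pow, ← hg]
    exact (orderOf_dvd_iff_pow_eq_one).symm
  -- the p-th power has trace zero
  have hp1 : ¬ (x ^ p = 1 ∨ x ^ p = -1) := fun e => by
    have := Nat.le_of_dvd hpp.pos ((hdvd p).mp e)
    have := hpp.pos
    omega
  have hns : ¬ Cfsg.Agent.Linear.IsScalarTwo
      ((x ^ p : Matrix.SpecialLinearGroup (Fin 2) F) : Matrix (Fin 2) (Fin 2) F) :=
    fun e => hp1 (Cfsg.Agent.Linear.isScalarTwo_SL_iff.mp e)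
  have ht : (((x ^ p : Matrix.SpecialLinearGroup (Fin 2) F)) : Matrix (Fin 2) (Fin 2) F).trace ^ 2 ≠ 4 := by
    intro e
    have h := Cfsg.Agent.Linear.pow_two_mul_char_eq_one p e
    rw [← pow_mul, show p * (2 * p) = (p * p) * 2 by ring, pow_mul, sq] at h
    have h' := (hdvd (p * p)).mp (Cfsg.Agent.Linear.eq_one_or_neg_one_of_sq h2 h)
    have : 2 ∣ p * p := (dvd_mul_right 2 p).trans h'
    exact (Nat.not_even_iff_odd.mpr (hodd.mul hodd)) (even_iff_two_dvd.mpr this)
  -- an element of order p centralising it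
  have hx2 : ¬ (x ^ 2 = 1 ∨ x ^ 2 = -1) := fun e => by
    have := Nat.le_of_dvd two_pos ((hdvd 2).mp e)
    have := hpp.two_le
    omega
  set y := (x ^ 2) ^ 2 with hy
  have hyp : y ^ p = 1 := by
    rcases (hdvd (2 * p)).mpr dvd_rfl with e | e <;>
      rw [hy, ← pow_mul, ← pow_mul, show 2 * (2 * p) = (2 * p) * 2 by ring, pow_mul, e] <;> simp
  have hy1 : y ≠ 1 := fun e => hx2 (Cfsg.Agent.Linear.eq_one_or_neg_one_of_sq h2 (by
    rw [← sq]; exact e))
  have hyc : y ∈ Subgroup.centralizer ({x ^ p} : Set (Matrix.SpecialLinearGroup (Fin 2) F)) := by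
    rw [Subgroup.mem_centralizer_singleton_iff, hy, ← pow_mul]
    exact ((Commute.refl x).pow_pow _ _).eq
  have hdiv := Subgroup.orderOf_dvd_natCard _ hyc
  rw [orderOf_eq_prime hyp hy1] at hdiv
  obtain ⟨f, -, hf⟩ := FiniteField.card F p
  have hpq : p ∣ Fintype.card F := hf ▸ dvd_pow_self p f.ne_zero
  rcases Cfsg.Agent.Linear.card_centralizer_cases ht with e | e <;> rw [e] at hdiv
  · have h1 := Nat.dvd_sub hpq hdiv
    rw [Nat.sub_sub_self Fintype.card_pos] at h1
    exact hpp.not_dvd_one h1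
  · exact hpp.not_dvd_one ((Nat.dvd_add_right hpq).mp hdiv)

end Cfsg.Agent.S2471
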