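import Cfsg.Statements.S2472
import Cfsg.Agent.H55.SpPrimeGraph

set_option autoImplicit false
open Cfsg

namespace Cfsg.Agent.S2472

open Cfsg.Agent.H55 Polynomial Cfsg.Agent.Symplectic

/-- Adjacency of a prime and the characteristic in the prime graph of PSp(2n,q): let F be a finite field of characteristic p with q elements, n ≥ 2 with PSp(2n,F) simple, and let r ≠ p be an odd prime dividing the order of PSp(2n,F), with k the multiplicative order of q modulo r and η(k) = k for odd k, k/2 for even k. Then PSp(2n,F) has NO element of order r·p if and only if η(k) > n − 1. -/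
theorem result {F : Type*} [Field F] [Fintype F] (p : ℕ) [Fact p.Prime] [CharP F p] (n : ℕ) (hn : 2 ≤ n) (hsmall : n = 2 → 3 ≤ Fintype.card F)
    (r : ℕ) (hr : r.Prime) (hr2 : r ≠ 2) (hrp : r ≠ p) (hrG : r ∣ Nat.card (Cfsg.PSp n F))
    (k ηk : ℕ) (hk : k = orderOf ((Fintype.card F : ℕ) : ZMod r)) (hηk : (Odd k ∧ ηk = k) ∨ (Even k ∧ 2 * ηk = k)) :
    (r * p ∉ Set.range (orderOf : Cfsg.PSp n F → ℕ)) ↔ n - 1 < ηk := by
  rw [← Nat.card_eq_fintype_card] at hk
  have hn1 : 1 ≤ n := by omega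
  have hp : p.Prime := Fact.out
  obtain ⟨hk0, hη0, hηn⟩ := eta_le_of_dvd_card p hn1 hr hrp hk hηk hrG
  have hco : Nat.Coprime r p := (Nat.coprime_primes hr hp).2 hrp
  have hneg : Odd (r * p) ∨ (2 : F) = 0 := by
    rcases eq_or_ne p 2 with rfl | h
    · exact Or.inr (by simpa using CharP.cast_eq_zero F 2)
    · exact Or.inl ((hr.odd_of_ne_two hr2).mul (hp.odd_of_ne_two h))
  constructor
  · intro hnot
    by_contra hle
    push Not at hle
    have htr : r ∣ Nat.card F ^ ηk + 1 ∨ r ∣ Nat.card F ^ ηk - 1 := by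
      rcases dvd_torus hr hk hηk hk0 with ⟨-, h⟩ | ⟨-, h⟩
      · exact Or.inr h
      · exact Or.inl h
    obtain ⟨R, _, _, _, P, u, hP, hR, hu, hM⟩ := hasTorus (F := F) p hη0 htr
    obtain ⟨v, hv, hvp⟩ := exists_dual_elem (F := F) p
    obtain ⟨y, hy⟩ := exists_psp_of_alg (n := n) (P.prod (SpAlg.dual F)) (hP.prod SpAlg.dual_alt)
      (e := ηk + 1) (M := r * p) (by omega) hn1
      (by rw [Module.finrank_prod, hR, finrank_dual]; ring) (u, v)
      (by show (u * P.σ u, v * (SpAlg.dual F).σ v) = 1; rw [hu, hv]; rfl)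
      (by rw [Prod.orderOf, hM, hvp, hco.lcm_eq_mul]) hneg
    exact hnot (mem_range_orderOf_of_dvd hy)
  · rintro hlt ⟨y, hy⟩
    obtain ⟨A, hA, hAM⟩ := exists_lift_sp hn1 y hy hneg
    have hne : ∀ j : ℕ, ¬ r * p ∣ j → (A : Mat n F) ^ j ≠ 1 := fun j hj h =>
      hj (hA ▸ orderOf_dvd_of_pow_eq_one ((toPSp_pow_eq_one_iff hn1 A j).2 (Or.inl h)))
    obtain ⟨f, f', G, d, hfm, hf, hf'm, hf', hd, hd', hfμ, hf'μ, -, -, hGm, hGμ, hG, hcase⟩ :=
      factor_data p hn1 hr hr2 hrp hp.pos A hAM (hne p fun h =>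
        hrp ((Nat.prime_dvd_prime_iff_eq hr hp).1 ((dvd_mul_right r p).trans h)))
    have hμd := minpoly_natDegree_le_sp (A : Mat n F)
    have hint := Matrix.isIntegral (R := F) (A : Mat n F)
    have hdeg : 2 * n ≤ G.natDegree := by
      rcases hcase with ⟨-, rfl, e, he, hde, -, hre⟩ | ⟨-, rfl, -, -, hre⟩
      · have := (show IsEta k ηk from hηk).le_of_dvd he (hk ▸ dvd_pow_sub_one_iff_ord.1 (by
          rw [sq_pow_sub_one]; exact hre.mul_right _))
        omega
      · have h1 := Nat.le_of_dvd (hd ▸ hf.natDegree_pos) (hk ▸ dvd_pow_sub_one_iff_ord.1 hre)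
        have h2 := (show IsEta k ηk from hηk).le
        rw [natDegree_mul hf.ne_zero hf'.ne_zero, hd, hd']
        omega
    have hμG := eq_of_monic_of_dvd_of_natDegree_le hGm (minpoly.monic hint) hGμ (hμd.trans hdeg)
    have hμX : minpoly F (A : Mat n F) ∣ (X ^ r - 1) ^ p := by
      refine minpoly.dvd F _ ?_
      rw [sub_pow_char, one_pow, ← pow_mul, map_sub, map_pow, aeval_X, hAM, map_one, sub_self]
    have hdvd : minpoly F (A : Mat n F) ∣ X ^ r - 1 := by
      have h1 := hG (X ^ r - 1) (hf.prime.dvd_of_dvd_pow (hfμ.trans hμX))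
        (hf'.prime.dvd_of_dvd_pow (hf'μ.trans hμX))
      first | (rw [hμG]; exact h1) | (rw [← hμG]; exact h1)
    obtain ⟨w, hw⟩ := hdvd
    have h1 := congrArg (aeval (A : Mat n F)) hw
    rw [map_mul, minpoly.aeval, zero_mul, map_sub, map_pow, aeval_X, map_one, sub_eq_zero] at h1
    exact hne r (fun h => hrp ((Nat.prime_dvd_prime_iff_eq hp hr).1
      ((dvd_mul_left p r).trans h)).symm) h1

end Cfsg.Agent.S2472
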