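import Cfsg.Statements.S2474
import Cfsg.Agent.H55.OrthGraphOdd

set_option autoImplicit false
open Cfsg

namespace Cfsg.Agent.S2474

open Cfsg.Agent.H55

/-- For q odd and n ≥ 3 the simple groups PΩ(2n+1,q) and PSp(2n,q) (which have the same order but different sets of element orders) have the same prime graph: for all distinct primes r, s, one of them has an element of order r·s if and only if the other does. -/
theorem result {F : Type*} [Field F] [Fintype F] (hodd : Odd (Fintype.card F)) (n : ℕ) (hn : 3 ≤ n) (r s : ℕ) (hr : r.Prime) (hs : s.Prime) (hrs : r ≠ s) :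
    (r * s ∈ Set.range (orderOf : Cfsg.POmega F (Cfsg.quadFormOdd n F) → ℕ)) ↔ (r * s ∈ Set.range (orderOf : Cfsg.PSp n F → ℕ)) := by
  obtain ⟨p, hpF⟩ := CharP.exists F
  have : Fact p.Prime := ⟨CharP.char_is_prime F p⟩
  have hq : Odd (Nat.card F) := by rwa [Nat.card_eq_fintype_card]
  have hp2 : p ≠ 2 := by
    rintro rfl
    exact Nat.not_even_iff_odd.2 hodd (Nat.even_iff.2 (FiniteField.even_card_of_char_two
      (ringChar.eq F 2)))
  have h2 : (2 : F) ≠ 0 := Ring.two_ne_zero (by rwa [ringChar.eq F p])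
  have hn1 : 1 ≤ n := by omega
  have hn2 : 2 ≤ n := by omega
  have hD : ∀ a : ℕ, a.Prime → a ≠ 2 →
      (2 * a ∈ Set.range (orderOf : Cfsg.POmega F (Cfsg.quadFormOdd n F) → ℕ) ↔
        2 * a ∈ Set.range (orderOf : Cfsg.PSp n F → ℕ)) := by
    intro a ha ha2
    rcases eq_or_ne a p with rfl | hap
    · exact iff_of_true (orth_adj_two_char a h2 hn2 hp2 hq) (sp_adj_two_char a hn2 hp2 h2 hq)
    · exact (orth_adj_two_iff p h2 hn2 hq ha ha2 hap).trans
        (sp_adj_two_iff p hn1 h2 hq ha ha2 hap).symm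
  have hB : ∀ a : ℕ, a.Prime → a ≠ 2 → a ≠ p →
      (a * p ∈ Set.range (orderOf : Cfsg.POmega F (Cfsg.quadFormOdd n F) → ℕ) ↔
        a * p ∈ Set.range (orderOf : Cfsg.PSp n F → ℕ)) := fun a ha ha2 hap =>
    (orth_adj_char_iff p h2 hn2 hp2 ha ha2 hap).trans
      (sp_adj_char_iff p hn2 hp2 ha ha2 hap).symm
  by_cases hr2 : r = 2
  · subst hr2
    exact hD s hs (Ne.symm hrs)
  by_cases hs2 : s = 2
  · subst hs2
    rw [mul_comm]
    exact hD r hr hr2
  by_cases hrp : r = p
  · subst hrp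
    rw [mul_comm]
    exact hB s hs hs2 (Ne.symm hrs)
  by_cases hsp : s = p
  · subst hsp
    exact hB r hr hr2 hrp
  exact (orth_adj_odd_iff p h2 hn2 hr hs hr2 hs2 hrp hsp hrs).trans
    (sp_adj_odd_iff p hn1 hr hs hr2 hs2 hrp hsp hrs).symm

end Cfsg.Agent.S2474
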