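import Cfsg.Statements.S2475
import Cfsg.Agent.H55.SLTwoClasses

set_option autoImplicit false
open Cfsg

namespace Cfsg.Agent.S2475

open Cfsg.Agent.H55

/-- The set of element orders of PSL(2,q): let F be a finite field of characteristic p with q ≥ 4 elements and d = gcd(2, q − 1). The orders of elements of PSL(2,F) are exactly the divisors of p, of (q − 1)/d and of (q + 1)/d. -/
theorem result {F : Type*} [Field F] [Fintype F] (p : ℕ) [Fact p.Prime] [CharP F p] (h4 : 4 ≤ Fintype.card F) :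
    Set.range (orderOf : Matrix.ProjectiveSpecialLinearGroup (Fin 2) F → ℕ) =
      {m : ℕ | m ∣ p ∨ m ∣ (Fintype.card F - 1) / Nat.gcd 2 (Fintype.card F - 1) ∨ m ∣ (Fintype.card F + 1) / Nat.gcd 2 (Fintype.card F - 1)} := by
  apply Set.Subset.antisymm
  · rintro _ ⟨x, rfl⟩
    obtain ⟨X, rfl⟩ := QuotientGroup.mk'_surjective _ x
    exact toPSL_two_orderOf_dvd p X
  · intro m hm
    obtain ⟨⟨u, hu⟩, ⟨s, hs⟩, ⟨t, ht⟩⟩ := exists_torus_orders (F := F) p
    obtain ⟨y, hy⟩ : ∃ y : Matrix.ProjectiveSpecialLinearGroup (Fin 2) F, m ∣ orderOf y := by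
      rcases hm with h | h | h
      exacts [⟨u, hu ▸ h⟩, ⟨s, h.trans hs⟩, ⟨t, h.trans ht⟩]
    have h0 : 0 < orderOf y := orderOf_pos y
    refine ⟨y ^ (orderOf y / m), ?_⟩
    rw [orderOf_pow_of_dvd (Nat.div_ne_zero_iff.2 ⟨fun h => h0.ne' (Nat.eq_zero_of_zero_dvd (h ▸ hy)),
      Nat.le_of_dvd h0 hy⟩) (Nat.div_dvd_of_dvd hy), Nat.div_div_self hy h0.ne']

end Cfsg.Agent.S2475
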