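import Cfsg.Statements.S2476
import Cfsg.Agent.H55.PSLPrimeGraph

set_option autoImplicit false
open Cfsg

namespace Cfsg.Agent.S2476

open Cfsg.Agent.H55 Polynomial

variable {F : Type*} [Field F] [Finite F]

theorem dvd_of_poly {n : ℕ} (A : Matrix.SpecialLinearGroup (Fin n) F) {P : F[X]}
    (hP : aeval (A : Matrix (Fin n) (Fin n) F) P = 0) {H : ℕ} {c : F} (h : P ∣ X ^ H - C c) :
    orderOf (toPSL A) ∣ H := by
  obtain ⟨w, hw⟩ := h
  have h1 := congrArg (aeval (A : Matrix (Fin n) (Fin n) F)) hw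
  rw [map_mul, hP, zero_mul, map_sub, map_pow, aeval_X, aeval_C, sub_eq_zero] at h1
  exact orderOf_dvd_of_pow_eq_one ((toPSL_pow_eq_one_iff A H).2 ⟨c, h1⟩)

theorem three_mul_div (a : F) (ha : a ≠ 0) :
    a ^ (3 * ((Nat.card F - 1) / Nat.gcd 3 (Nat.card F - 1))) = 1 := by
  have := Fintype.ofFinite F
  obtain ⟨e, he⟩ := Nat.gcd_dvd_left 3 (Nat.card F - 1)
  conv_lhs => arg 2; arg 1; rw [he]
  rw [mul_comm (Nat.gcd _ _) e, mul_assoc, Nat.mul_div_cancel' (Nat.gcd_dvd_right _ _),
    mul_comm, pow_mul, Nat.card_eq_fintype_card, FiniteField.pow_card_sub_one_eq_one a ha, one_pow]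

theorem two_eq (p : ℕ) [Fact p.Prime] [CharP F p] (A : Matrix.SpecialLinearGroup (Fin 3) F)
    (a b : F) (hA : aeval (A : Matrix (Fin 3) (Fin 3) F) ((X - C a) ^ 2 * (X - C b)) = 0)
    (hdet : a ^ 2 * b = 1) :
    orderOf (toPSL A) ∣ p * ((Nat.card F - 1) / Nat.gcd 3 (Nat.card F - 1)) ∨
      (p = 2 ∧ orderOf (toPSL A) ∣ 4) := by
  have hp : p.Prime := Fact.out
  by_cases hab : b = a
  · rw [hab, ← pow_succ] at hA
    have key : ∀ L, 3 ≤ p ^ L → orderOf (toPSL A) ∣ p ^ L := fun L hL =>
      dvd_of_poly A hA (c := a ^ p ^ L) (by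
        rw [C_pow, ← sub_pow_char_pow]; exact pow_dvd_pow _ hL)
    rcases Nat.lt_or_ge p 3 with h3 | h3
    · obtain rfl : p = 2 := by have := hp.two_le; omega
      exact Or.inr ⟨rfl, by simpa using key 2 (by norm_num)⟩
    · exact Or.inl ((by simpa using key 1 (by simpa using h3) : orderOf (toPSL A) ∣ p).trans
        (dvd_mul_right _ _))
  left
  have ha : a ≠ 0 := by rintro rfl; simp at hdet
  set m := (Nat.card F - 1) / Nat.gcd 3 (Nat.card F - 1) with hm
  have hb : b ^ m = a ^ m := by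
    have h1 : (a ^ 2 * b) ^ m * a ^ m = a ^ m := by rw [hdet, one_pow, one_mul]
    rw [mul_pow, mul_comm, ← mul_assoc, ← pow_mul, ← pow_add, show m + 2 * m = 3 * m by ring,
      three_mul_div a ha, one_mul] at h1
    exact h1
  refine dvd_of_poly A hA (c := (a ^ m) ^ p) ?_
  rw [mul_comm p m, pow_mul, C_pow, ← sub_pow_char]
  refine IsCoprime.mul_dvd ((isCoprime_X_sub_C_of_isUnit_sub
    (sub_ne_zero.2 (Ne.symm hab)).isUnit).pow_left) ?_ ?_
  · refine (pow_dvd_pow_of_dvd ?_ 2).trans (pow_dvd_pow _ hp.two_le)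
    rw [dvd_iff_isRoot]; simp
  · refine dvd_pow ?_ hp.ne_zero
    rw [dvd_iff_isRoot]; simp [hb]

/-- The set of element orders of PSL(3,q): let F be a finite field of characteristic p with q elements and d = gcd(3, q − 1). The orders of elements of PSL(3,F) are exactly the divisors of (q² + q + 1)/d, of (q² − 1)/d, of q − 1, of p(q − 1)/d, and, when p = 2, of 4. -/
theorem result {F : Type*} [Field F] [Fintype F] (p : ℕ) [Fact p.Prime] [CharP F p] :
    Set.range (orderOf : Matrix.ProjectiveSpecialLinearGroup (Fin 3) F → ℕ) =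
      {m : ℕ | m ∣ (Fintype.card F ^ 2 + Fintype.card F + 1) / Nat.gcd 3 (Fintype.card F - 1) ∨
        m ∣ (Fintype.card F ^ 2 - 1) / Nat.gcd 3 (Fintype.card F - 1) ∨ m ∣ Fintype.card F - 1 ∨
        m ∣ p * (Fintype.card F - 1) / Nat.gcd 3 (Fintype.card F - 1) ∨ (p = 2 ∧ m ∣ 4)} := by
  rw [← Nat.card_eq_fintype_card]
  set q := Nat.card F with hq
  set d := Nat.gcd 3 (q - 1) with hd
  have hq1 : 2 ≤ q := Finite.one_lt_card
  have hp : p.Prime := Fact.out
  have hd0 : 0 < d := Nat.gcd_pos_of_pos_left _ (by norm_num)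
  have hdq : d ∣ q - 1 := Nat.gcd_dvd_right _ _
  have hq2 : q ^ 2 - 1 = (q + 1) * (q - 1) := by simpa using Nat.sq_sub_sq q 1
  have hdq2 : d ∣ q ^ 2 - 1 := hq2 ▸ hdq.mul_left _
  have hN3 : (q ^ 3 - 1) / (q - 1) = q ^ 2 + q + 1 := by
    rw [← Nat.geomSum_eq hq1 3]
    simp [Finset.sum_range_succ]
    ring
  have hN2 : (q ^ 2 - 1) / (q - 1) = q + 1 := by
    rw [hq2, Nat.mul_div_cancel _ (by omega)]
  have hmd : p * (q - 1) / d = p * ((q - 1) / d) := Nat.mul_div_assoc _ hdq
  ext m
  constructor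
  · rintro ⟨x, rfl⟩
    obtain ⟨A, rfl⟩ := QuotientGroup.mk'_surjective _ x
    change orderOf (toPSL A) ∣ _ ∨ orderOf (toPSL A) ∣ _ ∨ orderOf (toPSL A) ∣ _ ∨
      orderOf (toPSL A) ∣ _ ∨ _ ∧ orderOf (toPSL A) ∣ _
    set χ := (A : Matrix (Fin 3) (Fin 3) F).charpoly with hχ
    have hχm : χ.Monic := Matrix.charpoly_monic _
    have hχd : χ.natDegree = 3 := by
      rw [hχ, Matrix.charpoly_natDegree_eq_dim, Fintype.card_fin]
    have hAχ : aeval (A : Matrix (Fin 3) (Fin 3) F) χ = 0 := Matrix.aeval_self_charpoly _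
    have hc0 : χ.coeff 0 = -1 := by
      have h1 := Matrix.det_eq_sign_charpoly_coeff (A : Matrix (Fin 3) (Fin 3) F)
      rw [A.2, ← hχ, Fintype.card_fin] at h1
      linear_combination h1
    by_cases hirr : Irreducible χ
    · refine Or.inl ?_
      rw [← hN3]
      exact orderOf_irreducible_dvd (by norm_num) A hχm hirr hχd hAχ
    rw [hχm.irreducible_iff_roots_eq_zero_of_degree_le_three (by omega) (by omega)] at hirr
    obtain ⟨b, hb⟩ := Multiset.exists_mem_of_ne_zero hirr
    obtain ⟨g, hg⟩ := dvd_iff_isRoot.2 ((mem_roots hχm.ne_zero).1 hb)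
    have hgm : g.Monic := (monic_X_sub_C b).of_mul_monic_left (hg ▸ hχm)
    have hgd : g.natDegree = 2 := by
      rw [hg, (monic_X_sub_C b).natDegree_mul hgm, natDegree_X_sub_C] at hχd
      omega
    have hbg : b * g.coeff 0 = 1 := by
      rw [hg, mul_coeff_zero] at hc0
      simp at hc0
      linear_combination hc0
    by_cases hgirr : Irreducible g
    · refine Or.inr (Or.inl ?_)
      have : Fact (Irreducible g) := ⟨hgirr⟩
      set H := (q ^ 2 - 1) / d with hH
      set y := AdjoinRoot.root g ^ H with hy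
      have hroot := root_pow_geom hgm hgirr
      rw [hgd, ← hq, hN2, neg_one_sq, one_mul] at hroot
      have hg0 : g.coeff 0 ≠ 0 := right_ne_zero_of_mul_eq_one hbg
      have hyd : y ^ d = 1 := by
        rw [hy, ← pow_mul, Nat.div_mul_cancel hdq2, hq2, pow_mul, hroot, ← map_pow, hq,
          Nat.card_eq_fintype_card, FiniteField.pow_card_sub_one_eq_one _ hg0, map_one]
      obtain ⟨c, hc⟩ := exists_const_of_pow_eq_one (F := F) (x := y) (by
        obtain ⟨t, ht⟩ := hdq
        rw [← hq, ht, pow_mul, hyd, one_pow])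
      rw [AdjoinRoot.algebraMap_eq] at hc
      have hcd : c ^ d = 1 := by
        apply (AdjoinRoot.of g).injective
        rw [map_pow, ← hc, hyd, map_one]
      have hcq : c ^ (q + 2) = 1 := by
        have h3 : d ∣ q + 2 := by
          have : q + 2 = (q - 1) + 3 := by omega
          rw [this]
          exact dvd_add hdq (Nat.gcd_dvd_left _ _)
        obtain ⟨t, ht⟩ := h3
        rw [ht, pow_mul, hcd, one_pow]
      have hbH : b ^ H = c := by
        have h1 : c ^ (q + 1) = g.coeff 0 ^ H := by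
          apply (AdjoinRoot.of g).injective
          rw [map_pow, map_pow, ← hc, hy, ← hroot, ← pow_mul, ← pow_mul, mul_comm]
        have h2 : b ^ H * c ^ (q + 1) = 1 := by rw [h1, ← mul_pow, hbg, one_pow]
        calc b ^ H = b ^ H * c ^ (q + 2) := by rw [hcq, mul_one]
          _ = c := by rw [pow_succ, ← mul_assoc, h2, one_mul]
      refine dvd_of_poly A hAχ (c := c) ?_
      rw [hg]
      refine IsCoprime.mul_dvd ((irreducible_X_sub_C b).coprime_iff_not_dvd.2 fun h => ?_) ?_ ?_
      · have := hgirr.not_isRoot_of_natDegree_ne_one (by omega) (x := b)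
        exact this (dvd_iff_isRoot.1 h)
      · rw [dvd_iff_isRoot]; simp [hbH]
      · rw [← AdjoinRoot.mk_eq_zero, map_sub, map_pow, AdjoinRoot.mk_X, AdjoinRoot.mk_C, ← hy, hc,
          sub_self]
    rw [hgm.irreducible_iff_roots_eq_zero_of_degree_le_three (by omega) (by omega)] at hgirr
    obtain ⟨a, ha⟩ := Multiset.exists_mem_of_ne_zero hgirr
    obtain ⟨k, hk⟩ := dvd_iff_isRoot.2 ((mem_roots hgm.ne_zero).1 ha)
    have hkm : k.Monic := (monic_X_sub_C a).of_mul_monic_left (hk ▸ hgm)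
    obtain ⟨e, rfl⟩ : ∃ e : F, k = X - C e := by
      refine ⟨-k.coeff 0, ?_⟩
      rw [map_neg, sub_neg_eq_add]
      refine hkm.eq_X_add_C ?_
      rw [hk, (monic_X_sub_C a).natDegree_mul hkm, natDegree_X_sub_C] at hgd
      omega
    rw [hk] at hg
    have hprod : a * e * b = 1 := by
      rw [hk, mul_coeff_zero] at hbg
      simp at hbg
      linear_combination hbg
    rw [hg] at hAχ
    have htwo : ∀ u v : F, (X - C b) * ((X - C a) * (X - C e)) = (X - C u) ^ 2 * (X - C v) →
        u ^ 2 * v = 1 →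
        orderOf (toPSL A) ∣ p * (q - 1) / d ∨ p = 2 ∧ orderOf (toPSL A) ∣ 4 := by
      intro u v he hu
      rw [hmd]
      exact two_eq p A u v (he ▸ hAχ) hu
    by_cases hae : a = e
    · subst hae
      rcases htwo a b (by ring) (by linear_combination hprod) with h | h
      · exact Or.inr (Or.inr (Or.inr (Or.inl h)))
      · exact Or.inr (Or.inr (Or.inr (Or.inr h)))
    by_cases hab : a = b
    · subst hab
      rcases htwo a e (by ring) (by linear_combination hprod) with h | h
      · exact Or.inr (Or.inr (Or.inr (Or.inl h)))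
      · exact Or.inr (Or.inr (Or.inr (Or.inr h)))
    by_cases heb : e = b
    · subst heb
      rcases htwo e a (by ring) (by linear_combination hprod) with h | h
      · exact Or.inr (Or.inr (Or.inr (Or.inl h)))
      · exact Or.inr (Or.inr (Or.inr (Or.inr h)))
    refine Or.inr (Or.inr (Or.inl (dvd_of_poly A hAχ (c := 1) ?_)))
    have hroot : ∀ x : F, x ≠ 0 → X - C x ∣ X ^ (q - 1) - C 1 := by
      intro x hx
      rw [dvd_iff_isRoot]
      simp [hq, FiniteField.pow_card_sub_one_eq_one x hx]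
    have hco : ∀ {x y : F}, x ≠ y → IsCoprime (X - C x) (X - C y) := fun h =>
      isCoprime_X_sub_C_of_isUnit_sub (sub_ne_zero.2 h).isUnit
    refine IsCoprime.mul_dvd ((hco (Ne.symm hab)).mul_right (hco (Ne.symm heb)))
      (hroot b (right_ne_zero_of_mul_eq_one hprod))
      (IsCoprime.mul_dvd (hco hae) (hroot a ?_) (hroot e ?_))
    · rintro rfl; simp at hprod
    · rintro rfl; simp at hprod
  · rintro (h | h | h | h | ⟨rfl, h⟩)
    · obtain ⟨y, hy⟩ := exists_singer (F := F) p (show 0 < 3 by norm_num)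
      rw [← hq, hN3] at hy
      exact mem_range_orderOf_of_dvd (h.trans hy)
    · obtain ⟨u, hu⟩ := exists_ext_elem (F := F) p 2 (M := q ^ 2 - 1)
        (by rw [hq2]; exact Nat.mul_pos (by omega) (by omega)) dvd_rfl
      have hu0 : u ≠ 0 := by
        intro h0
        have := hu ▸ pow_orderOf_eq_one u
        rw [h0, zero_pow (by rw [hq2]; exact (Nat.mul_pos (by omega) (by omega)).ne')] at this
        exact zero_ne_one this
      have hnu : Algebra.norm F u ≠ 0 := Algebra.norm_ne_zero_iff.2 hu0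
      have hfin : Module.finrank F (FiniteField.Extension F p 2 × F) = 3 := by
        rw [Module.finrank_prod, FiniteField.finrank_extension, Module.finrank_self]
      have hnorm : Algebra.norm F ((u, (Algebra.norm F u)⁻¹) : FiniteField.Extension F p 2 × F) = 1 := by
        rw [Cfsg.Agent.H55.norm_prod, Algebra.norm_self, MonoidHom.id_apply, mul_inv_cancel₀ hnu]
      refine mem_range_orderOf_of_dvd (a := toPSL (slOf hfin _ hnorm)) (h.trans ?_)
      obtain ⟨c, hc⟩ := (toPSL_slOf_pow_eq_one_iff hfin _ hnorm _).1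
        (pow_orderOf_eq_one (toPSL (slOf hfin _ hnorm)))
      set j := orderOf (toPSL (slOf hfin _ hnorm))
      have hc1 : u ^ j = algebraMap F _ c := congrArg Prod.fst hc
      have hc2 : (Algebra.norm F u)⁻¹ ^ j = c := congrArg Prod.snd hc
      have hc3 : c ^ 3 = 1 := by
        have h1 := congrArg (Algebra.norm F) hc1
        rw [map_pow, Algebra.norm_algebraMap, FiniteField.finrank_extension] at h1
        rw [pow_succ, ← h1, ← hc2, ← mul_pow, mul_inv_cancel₀ hnu, one_pow]
      have hc0 : c ≠ 0 := by rintro rfl; simp at hc3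
      have h1 : q ^ 2 - 1 ∣ j * 3 := by
        rw [← hu]
        exact orderOf_dvd_of_pow_eq_one (by rw [pow_mul, hc1, ← map_pow, hc3, map_one])
      have h2 : q ^ 2 - 1 ∣ j * (q - 1) := by
        rw [← hu]
        exact orderOf_dvd_of_pow_eq_one (by
          rw [pow_mul, hc1, ← map_pow, hq, Nat.card_eq_fintype_card,
            FiniteField.pow_card_sub_one_eq_one c hc0, map_one])
      have h3 : q ^ 2 - 1 ∣ d * j := by
        rw [mul_comm, hd, ← Nat.gcd_mul_left]
        exact Nat.dvd_gcd h1 h2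
      exact (Nat.div_dvd_iff_dvd_mul hdq2 hd0).2 h3
    · obtain ⟨g, hg⟩ := IsCyclic.exists_ofOrder_eq_natCard (α := Fˣ)
      rw [Nat.card_units, ← orderOf_units, ← hq] at hg
      have hfin : Module.finrank F (F × F × F) = 3 := by
        rw [Module.finrank_prod, Module.finrank_prod, Module.finrank_self]
      have hnorm : Algebra.norm F ((((g : Fˣ) : F), 1, (((g : Fˣ) : F))⁻¹) : F × F × F) = 1 := by
        rw [Cfsg.Agent.H55.norm_prod, Cfsg.Agent.H55.norm_prod, Algebra.norm_self,
          MonoidHom.id_apply, MonoidHom.id_apply, MonoidHom.id_apply, one_mul,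
          mul_inv_cancel₀ g.ne_zero]
      refine mem_range_orderOf_of_dvd (a := toPSL (slOf hfin _ hnorm)) (h.trans ?_)
      obtain ⟨c, hc⟩ := (toPSL_slOf_pow_eq_one_iff hfin _ hnorm _).1
        (pow_orderOf_eq_one (toPSL (slOf hfin _ hnorm)))
      have hc1 : ((g : Fˣ) : F) ^ _ = c := congrArg Prod.fst hc
      have hc2 : (1 : F) ^ _ = c := congrArg (fun z => z.2.1) hc
      rw [← hg]
      exact orderOf_dvd_of_pow_eq_one (by rw [hc1, ← hc2, one_pow])
    · obtain ⟨g, hg⟩ := IsCyclic.exists_ofOrder_eq_natCard (α := Fˣ)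
      rw [Nat.card_units, ← orderOf_units, ← hq] at hg
      set η : F := ((g : Fˣ) : F)
      have hη0 : η ≠ 0 := g.ne_zero
      have := finite_unipotent_alg (F := F) 2
      obtain ⟨u, hu1, hu2⟩ := exists_unipotent_unit (F := F) p (show 1 ≤ 2 by norm_num)
      have hfin : Module.finrank F (F × AdjoinRoot (X ^ 2 : F[X])) = 3 := by
        rw [Module.finrank_prod, Module.finrank_self, finrank_unipotent_alg]
      have hnorm : Algebra.norm F ((η⁻¹ * η⁻¹, algebraMap F _ η * u) :
          F × AdjoinRoot (X ^ 2 : F[X])) = 1 := by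
        rw [Cfsg.Agent.H55.norm_prod, map_mul (Algebra.norm F) (algebraMap F _ η) u,
          Algebra.norm_algebraMap, hu1, finrank_unipotent_alg, Algebra.norm_self, mul_one,
          MonoidHom.id_apply]
        field_simp
      refine mem_range_orderOf_of_dvd (a := toPSL (slOf hfin _ hnorm)) (h.trans ?_)
      obtain ⟨c, hc⟩ := (toPSL_slOf_pow_eq_one_iff hfin _ hnorm _).1
        (pow_orderOf_eq_one (toPSL (slOf hfin _ hnorm)))
      set j := orderOf (toPSL (slOf hfin _ hnorm))
      have hc1 : (η⁻¹ * η⁻¹) ^ j = c := congrArg Prod.fst hc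
      have hc2 : (algebraMap F _ η * u) ^ j = algebraMap F (AdjoinRoot (X ^ 2 : F[X])) c :=
        congrArg Prod.snd hc
      have hc3 : u ^ j = algebraMap F (AdjoinRoot (X ^ 2 : F[X])) (η⁻¹ ^ j * c) := by
        rw [map_mul, ← hc2, mul_pow, ← mul_assoc, ← map_pow, ← map_mul, ← mul_pow,
          inv_mul_cancel₀ hη0, one_pow, map_one, one_mul]
      obtain ⟨hc4, hc5⟩ := hu2 j _ hc3
      rw [← hc1, ← mul_pow, ← pow_three, inv_pow, inv_pow, inv_eq_one, ← pow_mul] at hc4
      have h1 : q - 1 ∣ d * j := by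
        rw [mul_comm, hd, ← Nat.gcd_mul_left]
        exact Nat.dvd_gcd (by rw [mul_comm, ← hg]; exact orderOf_dvd_of_pow_eq_one hc4)
          (dvd_mul_left _ _)
      have h2 : (q - 1) / d ∣ j := (Nat.div_dvd_iff_dvd_mul hdq hd0).2 h1
      rw [hmd]
      refine Nat.Coprime.mul_dvd_of_dvd_of_dvd ?_ ((dvd_pow_self p
        (Nat.clog_pos hp.one_lt one_lt_two).ne').trans hc5) h2
      exact (char_coprime (F := F) p).coprime_dvd_right (Nat.div_dvd_of_dvd hdq)
    · have := finite_unipotent_alg (F := F) 3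
      obtain ⟨u, hu1, hu2⟩ := exists_unipotent_unit (F := F) 2 (show 1 ≤ 3 by norm_num)
      refine mem_range_orderOf_of_dvd (a := toPSL (slOf (finrank_unipotent_alg 3) u hu1)) (h.trans ?_)
      obtain ⟨c, hc⟩ := (toPSL_slOf_pow_eq_one_iff (finrank_unipotent_alg 3) u hu1 _).1
        (pow_orderOf_eq_one (toPSL (slOf (finrank_unipotent_alg 3) u hu1)))
      have h4 := (hu2 _ c hc).2
      rwa [show Nat.clog 2 3 = 2 by decide] at h4

end Cfsg.Agent.S2476
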