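import Cfsg.Statements.S2477
import Cfsg.Agent.H55.AltOrders

set_option autoImplicit false
open Cfsg

namespace Cfsg.Agent.S2477

open Cfsg.Agent.H55

theorem arith : ∀ a : Fin 6, ∀ b : Fin 4, ∀ c : Fin 3, ∀ d : Fin 3, ∀ e f g h i : Fin 2,
    2 * a.1 + 3 * b.1 + 4 * c.1 + 5 * d.1 + 6 * e.1 + 7 * f.1 + 8 * g.1 + 9 * h.1 + 10 * i.1 ≤ 10 →
    (3 * a.1 + 4 * b.1 + 5 * c.1 + 6 * d.1 + 7 * e.1 + 8 * f.1 + 9 * g.1 + 10 * h.1 + 11 * i.1) % 2 = 0 →
    (if a.1 = 0 then 1 else 2).lcm ((if b.1 = 0 then 1 else 3).lcm ((if c.1 = 0 then 1 else 4).lcm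
      ((if d.1 = 0 then 1 else 5).lcm ((if e.1 = 0 then 1 else 6).lcm ((if f.1 = 0 then 1 else 7).lcm
      ((if g.1 = 0 then 1 else 8).lcm ((if h.1 = 0 then 1 else 9).lcm (if i.1 = 0 then 1 else 10))))))))
      ∈ [1, 2, 3, 4, 5, 6, 7, 8, 9, 10, 12, 15, 21] := by decide +kernel

theorem lcm_replicate (k v : ℕ) :
    (Multiset.replicate k v).lcm = if k = 0 then 1 else v := by
  induction k with
  | zero => simp
  | succ j ih =>
    rw [Multiset.replicate_succ, Multiset.lcm_cons, ih]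
    rcases j with _ | j <;> simp

theorem witness (m : Multiset ℕ) (k : ℕ) (h2 : ∀ a ∈ m, 2 ≤ a) (hs : m.sum ≤ 10)
    (he : (m.sum + Multiset.card m) % 2 = 0) (hl : m.lcm = k) :
    k ∈ Set.range (orderOf : alternatingGroup (Fin 10) → ℕ) := by
  obtain ⟨σ, hσ⟩ := exists_alt_of_type m h2 hs (Nat.even_iff.2 he)
  exact ⟨σ, hσ.trans hl⟩

/-- The set of element orders of the alternating group of degree 10 is {1, 2, 3, 4, 5, 6, 7, 8, 9, 10, 12, 15, 21}. -/
theorem result : Set.range (orderOf : alternatingGroup (Fin 10) → ℕ) = {1, 2, 3, 4, 5, 6, 7, 8, 9, 10, 12, 15, 21} := by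
  apply Set.Subset.antisymm
  · rintro _ ⟨σ, rfl⟩
    obtain ⟨m, h2, hs, he, hl⟩ := type_of_alt σ
    have hle : ∀ v, v * m.count v ≤ 10 := by
      intro v
      have h : Multiset.replicate (m.count v) v ≤ m := Multiset.le_count_iff_replicate_le.1 le_rfl
      obtain ⟨r, hr⟩ := Multiset.le_iff_exists_add.1 h
      rw [hr, Multiset.sum_add, Multiset.sum_replicate, smul_eq_mul] at hs
      rw [mul_comm]
      omega
    have hm : m = Multiset.replicate (m.count 2) 2 + (Multiset.replicate (m.count 3) 3 +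
        (Multiset.replicate (m.count 4) 4 + (Multiset.replicate (m.count 5) 5 +
        (Multiset.replicate (m.count 6) 6 + (Multiset.replicate (m.count 7) 7 +
        (Multiset.replicate (m.count 8) 8 + (Multiset.replicate (m.count 9) 9 +
        Multiset.replicate (m.count 10) 10))))))) := by
      ext v
      simp only [Multiset.count_add, Multiset.count_replicate]
      by_cases hv : v ∈ m
      · have := h2 v hv
        have := (Multiset.le_sum_of_mem hv).trans hs
        interval_cases v <;> simp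
      · have hv0 := Multiset.count_eq_zero.2 hv
        rw [hv0]
        split_ifs <;> subst_vars <;> omega
    have := hle 2
    have := hle 3
    have := hle 4
    have := hle 5
    have := hle 6
    have := hle 7
    have := hle 8
    have := hle 9
    have := hle 10
    rw [hm] at hs he hl
    simp only [Multiset.sum_add, Multiset.sum_replicate, Multiset.card_add, Multiset.card_replicate,
      smul_eq_mul, Nat.even_iff] at hs he
    simp only [Multiset.lcm_add, lcm_replicate] at hl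
    have h := arith ⟨m.count 2, by omega⟩ ⟨m.count 3, by omega⟩ ⟨m.count 4, by omega⟩
      ⟨m.count 5, by omega⟩ ⟨m.count 6, by omega⟩ ⟨m.count 7, by omega⟩ ⟨m.count 8, by omega⟩
      ⟨m.count 9, by omega⟩ ⟨m.count 10, by omega⟩ (by simp only; omega) (by simp only; omega)
    simp only [← Nat.lcm_assoc] at h
    rw [← hl]
    simp only [List.mem_cons, List.not_mem_nil, or_false] at h
    simpa [Nat.lcm_assoc, GCDMonoid.lcm] using h
  · simp only [Set.insert_subset_iff, Set.singleton_subset_iff]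
    refine ⟨witness 0 1 ?_ ?_ ?_ ?_, witness {2, 2} 2 ?_ ?_ ?_ ?_, witness {3} 3 ?_ ?_ ?_ ?_,
      witness {4, 2} 4 ?_ ?_ ?_ ?_, witness {5} 5 ?_ ?_ ?_ ?_, witness {3, 2, 2} 6 ?_ ?_ ?_ ?_,
      witness {7} 7 ?_ ?_ ?_ ?_, witness {8, 2} 8 ?_ ?_ ?_ ?_, witness {9} 9 ?_ ?_ ?_ ?_,
      witness {5, 2, 2} 10 ?_ ?_ ?_ ?_, witness {4, 3, 2} 12 ?_ ?_ ?_ ?_,
      witness {5, 3} 15 ?_ ?_ ?_ ?_, witness {7, 3} 21 ?_ ?_ ?_ ?_⟩
    all_goals decide

end Cfsg.Agent.S2477
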