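import Cfsg.Statements.S2485
import Cfsg.Agent.Linear.TwoTorus
import Cfsg.Agent.Linear.Order

set_option autoImplicit false
open Cfsg

namespace Cfsg.Agent.S2485

open Matrix Cfsg.Agent.Linear
open scoped Pointwise

section

variable {F : Type*} [Field F]

local notation "M2" => Matrix (Fin 2) (Fin 2) F
local notation "G2'" => GL (Fin 2) F
local notation "π" => QuotientGroup.mk' (Subgroup.center (GL (Fin 2) F))

theorem proj_eq_iff (X Y : G2') : π X = π Y ↔ ∃ c : F, c ≠ 0 ∧ (Y : M2) = c • (X : M2) := by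
  rw [QuotientGroup.mk'_apply, QuotientGroup.mk'_apply, QuotientGroup.eq,
    GeneralLinearGroup.center_eq_range_scalar, MonoidHom.mem_range]
  constructor
  · rintro ⟨c, hc⟩
    refine ⟨(c : F), c.ne_zero, ?_⟩
    have h := congrArg (fun Z : G2' => (X : M2) * (Z : M2)) hc
    simp only [GeneralLinearGroup.coe_mul, ← mul_assoc, ← GeneralLinearGroup.coe_inv] at h
    rw [Units.mul_inv, one_mul] at h
    rw [← h, Matrix.GeneralLinearGroup.coe_scalar, Matrix.scalar_apply, ← Matrix.smul_one_eq_diagonal,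
      Algebra.mul_smul_comm, mul_one]
  · rintro ⟨c, hc, h⟩
    refine ⟨Units.mk0 c hc, Units.ext ?_⟩
    rw [GeneralLinearGroup.coe_mul, h, Algebra.mul_smul_comm, Units.inv_mul,
      Matrix.GeneralLinearGroup.coe_scalar, Matrix.scalar_apply, Units.val_mk0,
      Matrix.smul_one_eq_diagonal]

theorem exists_involution {u : G2' ⧸ Subgroup.center G2'} (h1 : u ≠ 1) (h2 : u * u = 1) :
    ∃ U : G2', π U = u ∧ ¬ IsScalarTwo (U : M2) ∧ (U : M2).trace = 0 := by
  obtain ⟨U, rfl⟩ := QuotientGroup.mk'_surjective _ u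
  have hns : ¬ IsScalarTwo (U : M2) := by
    intro hs
    obtain ⟨c, hc⟩ := isScalarTwo_iff.1 hs
    apply h1
    rw [← map_one (π), eq_comm, proj_eq_iff]
    refine ⟨c, fun h0 => ?_, by rw [hc, Units.val_one]⟩
    have := Matrix.GeneralLinearGroup.det_ne_zero U
    rw [hc, h0, zero_smul, Matrix.det_zero] at this
    exact this rfl
  refine ⟨U, rfl, hns, ?_⟩
  rw [← map_mul, ← map_one (π), eq_comm, proj_eq_iff] at h2
  obtain ⟨c, -, hc⟩ := h2
  rw [GeneralLinearGroup.coe_mul, Units.val_one] at hc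
  by_contra ht
  have e00 := congrFun (congrFun hc 0) 0
  have e01 := congrFun (congrFun hc 0) 1
  have e10 := congrFun (congrFun hc 1) 0
  have e11 := congrFun (congrFun hc 1) 1
  simp [Matrix.mul_apply, Fin.sum_univ_two] at e00 e01 e10 e11
  rw [Matrix.trace_fin_two] at ht
  refine hns ⟨?_, ?_, ?_⟩
  · exact (mul_eq_zero.1 (show (U : M2) 0 1 * ((U : M2) 0 0 + (U : M2) 1 1) = 0 by linear_combination e01)).resolve_right ht
  · exact (mul_eq_zero.1 (show (U : M2) 1 0 * ((U : M2) 0 0 + (U : M2) 1 1) = 0 by linear_combination e10)).resolve_right ht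
  · exact sub_eq_zero.1 ((mul_eq_zero.1 (show ((U : M2) 0 0 - (U : M2) 1 1) * ((U : M2) 0 0 + (U : M2) 1 1) = 0 by linear_combination e00 - e11)).resolve_right ht)

theorem card_centralizer_le [Fintype F] (U : G2') :
    (Fintype.card F - 1) * Nat.card (Subgroup.centralizer ({π U} : Set (G2' ⧸ Subgroup.center G2'))) ≤
      2 * Nat.card (Subgroup.centralizer ({U} : Set G2')) := by
  classical
  set C := Subgroup.centralizer ({U} : Set G2')
  set D := Subgroup.centralizer ({π U} : Set (G2' ⧸ Subgroup.center G2'))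
  set P := D.comap (π)
  have hP : Nat.card P = (Fintype.card F - 1) * Nat.card D := by
    have h : D.index * ((Fintype.card F - 1) * Nat.card D) = P.index * Nat.card P := by
      rw [Subgroup.index_mul_card, ← Nat.card_eq_fintype_card, ← Nat.card_units, ← card_center_GL (ι := Fin 2),
        Subgroup.card_eq_card_quotient_mul_card_subgroup (Subgroup.center G2'), ← Subgroup.index_mul_card D]
      ring
    rw [Subgroup.index_comap_of_surjective _ (QuotientGroup.mk'_surjective _)] at h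
    exact (Nat.eq_of_mul_eq_mul_left (Nat.pos_of_ne_zero Subgroup.index_ne_zero_of_finite) h).symm
  rw [← hP]
  have hmem : ∀ Y : G2', Y ∈ P → ∃ c : F, (c = 1 ∨ c = -1) ∧ ((Y * U : G2') : M2) = c • ((U * Y : G2') : M2) := by
    intro Y hY
    rw [Subgroup.mem_comap, Subgroup.mem_centralizer_singleton_iff, ← map_mul, ← map_mul, eq_comm,
      proj_eq_iff] at hY
    obtain ⟨c, hc0, hc⟩ := hY
    refine ⟨c, ?_, hc⟩
    have h := congrArg Matrix.det hc
    rw [Matrix.det_smul, Fintype.card_fin, GeneralLinearGroup.coe_mul, GeneralLinearGroup.coe_mul,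
      Matrix.det_mul, Matrix.det_mul, mul_comm (U : M2).det] at h
    have hne : (Y : M2).det * (U : M2).det ≠ 0 :=
      mul_ne_zero (GeneralLinearGroup.det_ne_zero Y) (GeneralLinearGroup.det_ne_zero U)
    exact mul_self_eq_one_iff.1 (mul_right_cancel₀ hne (by rw [one_mul]; linear_combination -h))
  by_cases hW : ∃ W : G2', ((W * U : G2') : M2) = (-1 : F) • ((U * W : G2') : M2)
  · obtain ⟨W, hW⟩ := hW
    have hsub : (P : Set G2') ⊆ (C : Set G2') ∪ (fun Y => W * Y) '' (C : Set G2') := by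
      intro Y hY
      obtain ⟨c, hc, hYU⟩ := hmem Y hY
      rcases hc with rfl | rfl
      · left
        rw [one_smul] at hYU
        exact Subgroup.mem_centralizer_singleton_iff.2 (Units.ext hYU)
      · right
        refine ⟨W⁻¹ * Y, Subgroup.mem_centralizer_singleton_iff.2 ?_, mul_inv_cancel_left W Y⟩
        rw [mul_assoc, inv_mul_eq_iff_eq_mul]
        apply Units.ext
        rw [hYU, show W * (U * (W⁻¹ * Y)) = (W * U) * (W⁻¹ * Y) by group, GeneralLinearGroup.coe_mul (W * U),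
          hW, Algebra.smul_mul_assoc, ← GeneralLinearGroup.coe_mul,
          show U * W * (W⁻¹ * Y) = U * Y by group]
    have := Set.ncard_le_ncard hsub (Set.toFinite _)
    have h2 := Set.ncard_union_le (C : Set G2') ((fun Y => W * Y) '' (C : Set G2'))
    rw [Set.ncard_image_of_injective _ (mul_right_injective W)] at h2
    simp only [← Nat.card_coe_set_eq, SetLike.coe_sort_coe] at this h2
    omega
  · have hsub : (P : Set G2') ⊆ (C : Set G2') := by
      intro Y hY
      obtain ⟨c, hc, hYU⟩ := hmem Y hY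
      rcases hc with rfl | rfl
      · rw [one_smul] at hYU
        exact Subgroup.mem_centralizer_singleton_iff.2 (Units.ext hYU)
      · exact absurd ⟨Y, hYU⟩ hW
    have := Set.ncard_le_ncard hsub (Set.toFinite _)
    simp only [← Nat.card_coe_set_eq, SetLike.coe_sort_coe] at this
    omega

theorem det_commutator_ne_zero (U V : M2) (htU : U.trace = 0) (hns : ∀ c : F, c ^ 2 + U.det ≠ 0)
    (hU : U * U = -U.det • (1 : M2)) (hne : U * V ≠ V * U) :
    (U * V - V * U).det ≠ 0 := by
  intro hdet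
  set W := U * V - V * U with hW
  have htW : W.trace = 0 := by rw [hW, trace_sub, trace_mul_comm, sub_self]
  have hanti : U * W + W * U = 0 := by
    rw [hW, show U * (U * V - V * U) + (U * V - V * U) * U = U * U * V - V * (U * U) by noncomm_ring, hU]
    simp
  have e := congrFun (congrFun hanti 0) 0
  simp [Matrix.mul_apply, Fin.sum_univ_two] at e
  rw [Matrix.trace_fin_two] at htU htW
  rw [Matrix.det_fin_two] at hdet
  simp only [Matrix.det_fin_two] at hns
  have hd : U 1 1 = -U 0 0 := by linear_combination htU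
  have hw : W 1 1 = -W 0 0 := by linear_combination htW
  rw [hw] at hdet
  rw [hd] at hns
  by_cases hr : W 0 1 = 0
  · have hp : W 0 0 = 0 := by
      rw [hr] at hdet
      exact mul_self_eq_zero.1 (by linear_combination -hdet)
    rw [hr, hp] at e
    rcases eq_or_ne (W 1 0) 0 with hs | hs
    · have h11 : W 1 1 = 0 := by rw [hw, hp, neg_zero]
      have hWz : W = 0 := ext_two hp hr hs h11
      exact hne (sub_eq_zero.1 hWz)
    · have hb : U 0 1 = 0 := (mul_eq_zero.1 (by simpa using e)).resolve_right hs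
      exact hns (U 0 0) (by rw [hb]; ring)
  · have hkey : (U 0 1 * W 0 0 - U 0 0 * W 0 1) ^ 2 = (U 0 0 ^ 2 + U 0 1 * U 1 0) * W 0 1 ^ 2 := by
      linear_combination -U 0 1 * W 0 1 * e - U 0 1 ^ 2 * hdet
    refine hns ((U 0 1 * W 0 0 - U 0 0 * W 0 1) / W 0 1) ?_
    rw [div_pow, hkey, mul_div_assoc, div_self (pow_ne_zero 2 hr)]
    ring

end

/-- Let q = 2^k − 1 ≥ 7 be a prime and let G = PGL(2,q), the general linear group of degree 2 over the field with q elements modulo its centre. Then any two Sylow 2-subgroups of G have a non-trivial intersection: for a Sylow 2-subgroup H and every x ∈ G, H ∩ H^x ≠ 1. -/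
theorem result {q k : ℕ} [Fact q.Prime] (hk : q + 1 = 2 ^ k) (hq : 7 ≤ q)
    (H : Sylow 2 (GL (Fin 2) (ZMod q) ⧸ Subgroup.center (GL (Fin 2) (ZMod q))))
    (x : GL (Fin 2) (ZMod q) ⧸ Subgroup.center (GL (Fin 2) (ZMod q))) :
    (H : Subgroup (GL (Fin 2) (ZMod q) ⧸ Subgroup.center (GL (Fin 2) (ZMod q)))) ⊓ MulAut.conj x • (H : Subgroup _) ≠ ⊥ := by
  have : Fact (Nat.Prime 2) := ⟨Nat.prime_two⟩
  have hk3 : 3 ≤ k := by
    by_contra h
    have : 2 ^ k ≤ 2 ^ 2 := Nat.pow_le_pow_right two_pos (by omega)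
    omega
  obtain ⟨j, rfl⟩ : ∃ j, k = j + 3 := ⟨k - 3, by omega⟩
  have h8 : q + 1 = 8 * 2 ^ j := by rw [hk, pow_add]; ring
  have hj : 0 < 2 ^ j := by positivity
  have hG : Nat.card (GL (Fin 2) (ZMod q) ⧸ Subgroup.center (GL (Fin 2) (ZMod q))) = (q + 1) * (q * (q - 1)) := by
    have h := Subgroup.card_eq_card_quotient_mul_card_subgroup (Subgroup.center (GL (Fin 2) (ZMod q)))
    rw [card_GL_two, card_center_GL, Nat.card_units, Nat.card_eq_fintype_card (α := ZMod q), ZMod.card] at h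
    refine Nat.eq_of_mul_eq_mul_right (show 0 < q - 1 by omega) (h.symm.trans ?_)
    ring
  have hH : Nat.card H = 2 * (q + 1) := by
    rw [Sylow.card_eq_multiplicity]
    have hodd : ¬ 2 ∣ q * ((q - 1) / 2) := Nat.prime_two.not_dvd_mul (by omega) (by omega)
    have hGfac : Nat.card (GL (Fin 2) (ZMod q) ⧸ Subgroup.center (GL (Fin 2) (ZMod q))) = 2 ^ (j + 4) * (q * ((q - 1) / 2)) := by
      rw [hG, hk, show q - 1 = 2 * ((q - 1) / 2) by omega]
      rw [show 2 * ((q - 1) / 2) / 2 = (q - 1) / 2 by omega]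
      ring
    rw [hGfac, Nat.factorization_mul (by positivity) (fun h => hodd (by rw [h]; exact dvd_zero 2)),
      Finsupp.add_apply, Nat.factorization_pow, Finsupp.smul_apply,
      Nat.Prime.factorization_self Nat.prime_two, Nat.factorization_eq_zero_of_not_dvd hodd, hk]
    simp only [smul_eq_mul, mul_one, add_zero]
    ring
  have : Nontrivial (H : Subgroup (GL (Fin 2) (ZMod q) ⧸ Subgroup.center (GL (Fin 2) (ZMod q)))) := Finite.one_lt_card_iff_nontrivial.1
    (show 1 < Nat.card H by rw [hH]; omega)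
  have hc := IsPGroup.center_nontrivial H.isPGroup'
  obtain ⟨z, hz⟩ := exists_prime_orderOf_dvd_card' (G := Subgroup.center (H : Subgroup (GL (Fin 2) (ZMod q) ⧸ Subgroup.center (GL (Fin 2) (ZMod q))))) 2 (by
    obtain ⟨n, hn⟩ := IsPGroup.iff_card.1 (H.isPGroup'.to_subgroup (Subgroup.center (H : Subgroup (GL (Fin 2) (ZMod q) ⧸ Subgroup.center (GL (Fin 2) (ZMod q))))))
    rcases Nat.eq_zero_or_pos n with rfl | hn0
    · rw [pow_zero] at hn
      have := Finite.one_lt_card_iff_nontrivial.2 hc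
      omega
    · rw [hn]; exact dvd_pow_self 2 hn0.ne')
  set u : (GL (Fin 2) (ZMod q) ⧸ Subgroup.center (GL (Fin 2) (ZMod q))) := ((z : (H : Subgroup (GL (Fin 2) (ZMod q) ⧸ Subgroup.center (GL (Fin 2) (ZMod q))))) : (GL (Fin 2) (ZMod q) ⧸ Subgroup.center (GL (Fin 2) (ZMod q))))
  have hu : orderOf u = 2 := by rw [Subgroup.orderOf_coe, Subgroup.orderOf_coe, hz]
  have hu1 : u ≠ 1 := fun h => by rw [h, orderOf_one] at hu; omega
  have hHle : (H : Subgroup (GL (Fin 2) (ZMod q) ⧸ Subgroup.center (GL (Fin 2) (ZMod q)))) ≤ Subgroup.centralizer {u} := by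
    intro y hy
    rw [Subgroup.mem_centralizer_singleton_iff]
    exact congrArg Subtype.val (Subgroup.mem_center_iff.1 z.2 ⟨y, hy⟩)
  obtain ⟨U, hUu, hns, htr⟩ := exists_involution hu1 (by
    have h := pow_orderOf_eq_one u
    rw [hu, sq] at h
    exact h)
  have hcard : 2 * (q + 1) ≤ Nat.card (Subgroup.centralizer ({u} : Set (GL (Fin 2) (ZMod q) ⧸ Subgroup.center (GL (Fin 2) (ZMod q))))) :=
    hH ▸ Subgroup.card_le_of_le hHle
  have hle := card_centralizer_le U
  rw [hUu, ZMod.card] at hle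
  set D := (U : Matrix (Fin 2) (Fin 2) (ZMod q)).det
  have hnsq : ∀ c : ZMod q, c ^ 2 + D ≠ 0 := by
    intro c hcc
    have hDne : D ≠ 0 := GeneralLinearGroup.det_ne_zero U
    have h2 : (2 : ZMod q) ≠ 0 := Ring.two_ne_zero (by rw [ZMod.ringChar_zmod_n]; omega)
    have hcne : c ≠ -c := fun h => by
      have : c = 0 := (mul_eq_zero.1 (show (2 : ZMod q) * c = 0 by linear_combination h)).resolve_left h2
      rw [this] at hcc
      exact hDne (by linear_combination hcc)
    have hs := card_centralizer_split hcne (g := U) (by rw [htr, add_neg_cancel]) (by linear_combination -hcc)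
    rw [hs, ZMod.card] at hle
    have h' := (Nat.mul_le_mul_left (q - 1) hcard).trans hle
    obtain ⟨r, rfl⟩ : ∃ r, q = r + 1 := ⟨q - 1, by omega⟩
    rw [Nat.add_sub_cancel] at h'
    nlinarith
  have hC : Nat.card (Subgroup.centralizer ({u} : Set (GL (Fin 2) (ZMod q) ⧸ Subgroup.center (GL (Fin 2) (ZMod q))))) ≤ 2 * (q + 1) := by
    rw [card_centralizer_noEigen (fun c => by rw [htr, mul_zero, sub_zero]; exact hnsq c), ZMod.card] at hle
    have hsq : q ^ 2 - 1 = (q + 1) * (q - 1) := by simpa using Nat.sq_sub_sq q 1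
    rw [hsq, mul_comm (q - 1)] at hle
    exact Nat.le_of_mul_le_mul_right (by rw [mul_assoc]; exact hle) (show 0 < q - 1 by omega)
  have hHeq : (H : Subgroup (GL (Fin 2) (ZMod q) ⧸ Subgroup.center (GL (Fin 2) (ZMod q)))) = Subgroup.centralizer {u} :=
    Subgroup.eq_of_le_of_card_ge hHle (hC.trans (le_of_eq hH.symm))
  set v : (GL (Fin 2) (ZMod q) ⧸ Subgroup.center (GL (Fin 2) (ZMod q))) := x * u * x⁻¹
  have hmem : ∀ w : (GL (Fin 2) (ZMod q) ⧸ Subgroup.center (GL (Fin 2) (ZMod q))), Commute w u → Commute w v →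
      w ∈ (H : Subgroup (GL (Fin 2) (ZMod q) ⧸ Subgroup.center (GL (Fin 2) (ZMod q)))) ⊓ MulAut.conj x • (H : Subgroup (GL (Fin 2) (ZMod q) ⧸ Subgroup.center (GL (Fin 2) (ZMod q)))) := by
    intro w hwu hwv
    refine ⟨hHeq ▸ Subgroup.mem_centralizer_singleton_iff.2 hwu, ?_⟩
    show w ∈ MulAut.conj x • (H : Subgroup (GL (Fin 2) (ZMod q) ⧸ Subgroup.center (GL (Fin 2) (ZMod q))))
    rw [Subgroup.mem_pointwise_smul_iff_inv_smul_mem, hHeq, Subgroup.mem_centralizer_singleton_iff]
    simp only [MulAut.smul_def, MulAut.conj_inv_apply]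
    calc x⁻¹ * w * x * u = x⁻¹ * (w * v) * x := by simp [v, mul_assoc]
      _ = x⁻¹ * (v * w) * x := by rw [hwv.eq]
      _ = u * (x⁻¹ * w * x) := by simp [v, mul_assoc]
  intro hbot
  have hnontriv : ∀ w : (GL (Fin 2) (ZMod q) ⧸ Subgroup.center (GL (Fin 2) (ZMod q))), w ≠ 1 → Commute w u → Commute w v → False := fun w h1 h2 h3 =>
    h1 (Subgroup.mem_bot.1 (hbot ▸ hmem w h2 h3))
  obtain ⟨X, hX⟩ := QuotientGroup.mk'_surjective _ x
  set V : GL (Fin 2) (ZMod q) := X * U * X⁻¹
  have hVv : QuotientGroup.mk' _ V = v := by rw [map_mul, map_mul, map_inv, hX, hUu]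
  by_cases hcomm : (U : Matrix (Fin 2) (Fin 2) (ZMod q)) * V = V * U
  · refine hnontriv u hu1 (Commute.refl u) ?_
    rw [← hUu, ← hVv]
    exact (show Commute U V from Units.ext hcomm).map _
  set Wm := (U : Matrix (Fin 2) (Fin 2) (ZMod q)) * V - (V : Matrix (Fin 2) (Fin 2) (ZMod q)) * U with hWm
  have htV : (V : Matrix (Fin 2) (Fin 2) (ZMod q)).trace = 0 := by
    rw [GeneralLinearGroup.coe_mul, GeneralLinearGroup.coe_mul, Matrix.trace_mul_cycle,
      ← GeneralLinearGroup.coe_mul, inv_mul_cancel, Units.val_one, one_mul, htr]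
  have hsq : ∀ A : Matrix (Fin 2) (Fin 2) (ZMod q), A.trace = 0 → A * A = -A.det • 1 := by
    intro A hA
    rw [Matrix.trace_fin_two] at hA
    apply ext_two <;> simp [Matrix.mul_apply, Fin.sum_univ_two, Matrix.det_fin_two]
    · linear_combination (A 0 0) * hA
    · linear_combination (A 0 1) * hA
    · linear_combination (A 1 0) * hA
    · linear_combination (A 1 1) * hA
  have hdetW := det_commutator_ne_zero _ _ htr hnsq (hsq _ htr) hcomm
  let W : GL (Fin 2) (ZMod q) := GeneralLinearGroup.mkOfDetNeZero Wm hdetW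
  have hanti : ∀ A : GL (Fin 2) (ZMod q), (A : Matrix (Fin 2) (Fin 2) (ZMod q)) * Wm = -(Wm * A) →
      Commute (QuotientGroup.mk' (Subgroup.center (GL (Fin 2) (ZMod q))) W) (QuotientGroup.mk' (Subgroup.center (GL (Fin 2) (ZMod q))) A) := by
    intro A hA
    show _ = _
    rw [← map_mul, ← map_mul, proj_eq_iff]
    refine ⟨-1, neg_ne_zero.2 one_ne_zero, ?_⟩
    rw [GeneralLinearGroup.coe_mul, GeneralLinearGroup.coe_mul, neg_one_smul]
    exact hA
  refine hnontriv (QuotientGroup.mk' (Subgroup.center (GL (Fin 2) (ZMod q))) W) ?_ (hUu ▸ hanti U ?_) (hVv ▸ hanti V ?_)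
  · intro h
    rw [← map_one (QuotientGroup.mk' (Subgroup.center (GL (Fin 2) (ZMod q)))), eq_comm, proj_eq_iff] at h
    obtain ⟨c, hc0, hc⟩ := h
    have ht0 : (W : Matrix (Fin 2) (Fin 2) (ZMod q)).trace = 0 := by
      show Wm.trace = 0
      rw [hWm, trace_sub, trace_mul_comm, sub_self]
    rw [hc, Units.val_one, trace_smul, Matrix.trace_one, Fintype.card_fin, smul_eq_mul] at ht0
    refine mul_ne_zero hc0 ?_ ht0
    norm_num
    exact Ring.two_ne_zero (by rw [ZMod.ringChar_zmod_n]; omega)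
  · rw [hWm, mul_sub, sub_mul, neg_sub, ← mul_assoc, hsq _ htr, mul_assoc _ (U : Matrix (Fin 2) (Fin 2) (ZMod q)) (U : Matrix (Fin 2) (Fin 2) (ZMod q)),
      hsq _ htr, Algebra.smul_mul_assoc, Algebra.mul_smul_comm, one_mul, mul_one, mul_assoc]
  · rw [hWm, mul_sub, sub_mul, neg_sub, ← mul_assoc, ← mul_assoc _ (V : Matrix (Fin 2) (Fin 2) (ZMod q)) (U : Matrix (Fin 2) (Fin 2) (ZMod q)), hsq _ htV,
      mul_assoc (U : Matrix (Fin 2) (Fin 2) (ZMod q)), hsq _ htV, Algebra.smul_mul_assoc, Algebra.mul_smul_comm, one_mul, mul_one, mul_assoc]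

end Cfsg.Agent.S2485
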