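import Cfsg.Statements.S2486
import Cfsg.Agent.H52.UnitriOvergroups
-- import your own Cfsg.Agent.* helpers here

set_option autoImplicit false
open scoped Pointwise
open Cfsg

namespace Cfsg.Agent.S2486

section Helpers

open Matrix Cfsg.Agent.Linear Cfsg.Agent.H54 Cfsg.Agent.H52.UnitriOver
open scoped MatrixGroups

variable {n : ℕ}

theorem unitri_of_upper {g : GL (Fin n) (ZMod 2)} (h : g ∈ upperTriangularGL n (ZMod 2)) :
    g ∈ unitriGL n (ZMod 2) := by
  refine ⟨h, fun i => ?_⟩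
  have hd : (g : Matrix (Fin n) (Fin n) (ZMod 2)).det ≠ 0 := (Matrix.GeneralLinearGroup.det g).ne_zero
  rw [blockTriangular_det h] at hd
  have h1 := Finset.prod_ne_zero_iff.mp hd i (Finset.mem_univ i)
  revert h1
  generalize (g : Matrix (Fin n) (Fin n) (ZMod 2)) i i = a
  revert a
  decide

theorem mem_conj_smul {K : Type*} [Group K] {S : Subgroup K} {g z : K} :
    z ∈ MulAut.conj g • S ↔ g⁻¹ * z * g ∈ S := by
  rw [Subgroup.mem_pointwise_smul_iff_inv_smul_mem]
  simp [MulAut.smul_def]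

/-- An element moving the unitriangular group to an opposite one lies in the big cell. -/
theorem opposite_cell {g : GL (Fin n) (ZMod 2)}
    (h : unitriGL n (ZMod 2) ⊓ MulAut.conj g • unitriGL n (ZMod 2) = ⊥) :
    ∃ u ∈ unitriGL n (ZMod 2), ∃ u' ∈ unitriGL n (ZMod 2),
      g = u * permGL (ZMod 2) Fin.revPerm * u' := by
  obtain ⟨b, hb, b', hb', σ, rfl⟩ := bruhat g
  have hb := unitri_of_upper hb
  have hb' := unitri_of_upper hb'
  have hσ : StrictAnti σ := by
    intro a c hac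
    by_contra hc
    have hlt : σ a < σ c := lt_of_le_of_ne (not_lt.1 hc) (σ.injective.ne hac.ne)
    have h4 := conj_X (1 : Fin n → (ZMod 2)ˣ) σ hac.ne (1 : ZMod 2)
    rw [diagGL_one, one_mul] at h4
    simp only [Pi.one_apply, Units.val_one, one_mul, div_one] at h4
    have hz : b * X hlt.ne (1 : ZMod 2) * b⁻¹ ∈ unitriGL n (ZMod 2) ⊓
        MulAut.conj (b * permGL (ZMod 2) σ * b') • unitriGL n (ZMod 2) := by
      refine ⟨Subgroup.mul_mem _ (Subgroup.mul_mem _ hb (X_mem_unitri hlt 1)) (Subgroup.inv_mem _ hb),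
        mem_conj_smul.2 ?_⟩
      have := Subgroup.mul_mem _ (Subgroup.mul_mem _ (Subgroup.inv_mem _ hb')
        (X_mem_unitri hac (1 : ZMod 2))) hb'
      rw [← h4]
      simpa [mul_assoc] using this
    rw [h, Subgroup.mem_bot] at hz
    have hX : X hlt.ne (1 : ZMod 2) = 1 := by
      simpa [mul_inv_eq_one] using hz
    have h5 := congrArg (fun m : GL (Fin n) (ZMod 2) =>
      (m : Matrix (Fin n) (Fin n) (ZMod 2)) (σ a) (σ c)) hX
    simp only [X_apply, Units.val_one, Matrix.one_apply_ne hlt.ne, if_neg hlt.ne] at h5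
    simp at h5
  have hr : σ = Fin.revPerm := by
    have hm : StrictMono (fun i => Fin.rev (σ i)) := fun a c hac => Fin.rev_lt_rev.2 (hσ hac)
    refine Equiv.ext fun i => ?_
    have h1 : Fin.rev (σ i) = i := congrFun (StrictMono.eq_id hm) i
    rw [Fin.revPerm_apply]
    conv_rhs => rw [← h1]
    rw [Fin.rev_rev]
  exact ⟨b, hb, b', hb', by rw [hr]⟩

theorem conj_smul_self_of_mem {K : Type*} [Group K] {S : Subgroup K} {v : K} (hv : v ∈ S) :
    MulAut.conj v • S = S := by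
  ext z
  rw [mem_conj_smul, S.mul_mem_cancel_right hv, S.mul_mem_cancel_left (S.inv_mem hv)]

/-- The unitriangular group is transitive on the conjugates opposite to it. -/
theorem opposite_trans {g g' : GL (Fin n) (ZMod 2)}
    (h : unitriGL n (ZMod 2) ⊓ MulAut.conj g • unitriGL n (ZMod 2) = ⊥)
    (h' : unitriGL n (ZMod 2) ⊓ MulAut.conj g' • unitriGL n (ZMod 2) = ⊥) :
    ∃ u ∈ unitriGL n (ZMod 2),
      MulAut.conj (u * g) • unitriGL n (ZMod 2) = MulAut.conj g' • unitriGL n (ZMod 2) := by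
  obtain ⟨a, ha, c, hc, rfl⟩ := opposite_cell h
  obtain ⟨a', ha', c', hc', rfl⟩ := opposite_cell h'
  refine ⟨a' * a⁻¹, Subgroup.mul_mem _ ha' (Subgroup.inv_mem _ ha), ?_⟩
  have e : a' * a⁻¹ * (a * permGL (ZMod 2) Fin.revPerm * c) =
      a' * permGL (ZMod 2) Fin.revPerm * c' * (c'⁻¹ * c) := by group
  rw [e, map_mul MulAut.conj (a' * permGL (ZMod 2) Fin.revPerm * c') (c'⁻¹ * c), mul_smul,
    conj_smul_self_of_mem (Subgroup.mul_mem _ (Subgroup.inv_mem _ hc') hc)]

theorem toGL_bijective : Function.Bijective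
    (Matrix.SpecialLinearGroup.toGL : Matrix.SpecialLinearGroup (Fin n) (ZMod 2) →* GL (Fin n) (ZMod 2)) := by
  refine ⟨Matrix.SpecialLinearGroup.toGL_injective, fun g => ⟨⟨(g : Matrix (Fin n) (Fin n) (ZMod 2)), ?_⟩,
    Units.ext rfl⟩⟩
  have hd : (g : Matrix (Fin n) (Fin n) (ZMod 2)).det ≠ 0 := (Matrix.GeneralLinearGroup.det g).ne_zero
  revert hd
  generalize (g : Matrix (Fin n) (Fin n) (ZMod 2)).det = a
  revert a
  decide

theorem sylow_eq_conj (P : Sylow 2 (GL (Fin n) (ZMod 2))) :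
    ∃ c : GL (Fin n) (ZMod 2), (P : Subgroup (GL (Fin n) (ZMod 2))) = MulAut.conj c • unitriGL n (ZMod 2) := by
  obtain ⟨c, hc⟩ := MulAction.exists_smul_eq (GL (Fin n) (ZMod 2)) (unitriSylow n (ZMod 2) 2) P
  exact ⟨c, by rw [← hc, Sylow.coe_subgroup_smul, unitriSylow_coe]⟩

theorem gl_trans (P Q Q' : Sylow 2 (GL (Fin n) (ZMod 2)))
    (h : (P : Subgroup (GL (Fin n) (ZMod 2))) ⊓ Q = ⊥)
    (h' : (P : Subgroup (GL (Fin n) (ZMod 2))) ⊓ Q' = ⊥) :
    ∃ u ∈ (P : Subgroup (GL (Fin n) (ZMod 2))), MulAut.conj u • (Q : Subgroup (GL (Fin n) (ZMod 2))) = Q' := by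
  obtain ⟨c, hP⟩ := sylow_eq_conj P
  obtain ⟨d, hQ⟩ := sylow_eq_conj Q
  obtain ⟨d', hQ'⟩ := sylow_eq_conj Q'
  have key : ∀ e, MulAut.conj c • unitriGL n (ZMod 2) ⊓ MulAut.conj e • unitriGL n (ZMod 2) = ⊥ →
      unitriGL n (ZMod 2) ⊓ MulAut.conj (c⁻¹ * e) • unitriGL n (ZMod 2) = ⊥ := by
    intro e he
    rw [Subgroup.eq_bot_iff_forall] at he ⊢
    rintro z ⟨hz1, hz2⟩
    have := he (c * z * c⁻¹) ⟨mem_conj_smul.2 (by simpa [mul_assoc] using hz1),
      mem_conj_smul.2 (by simpa [mul_assoc] using mem_conj_smul.1 hz2)⟩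
    simpa using this
  rw [hP, hQ] at h
  rw [hP, hQ'] at h'
  obtain ⟨u, hu, he⟩ := opposite_trans (key d h) (key d' h')
  refine ⟨c * u * c⁻¹, ?_, ?_⟩
  · rw [hP, mem_conj_smul]
    simpa [mul_assoc] using hu
  · rw [hQ, hQ', ← mul_smul, ← map_mul]
    have e1 : c * u * c⁻¹ * d = c * (u * (c⁻¹ * d)) := by group
    rw [e1, map_mul, mul_smul, he, ← mul_smul, ← map_mul, mul_inv_cancel_left]

theorem gl_self_normalizing (P : Sylow 2 (GL (Fin n) (ZMod 2))) {g : GL (Fin n) (ZMod 2)}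
    (hg : ∀ z ∈ (P : Subgroup (GL (Fin n) (ZMod 2))), g * z * g⁻¹ ∈ (P : Subgroup (GL (Fin n) (ZMod 2)))) :
    g ∈ (P : Subgroup (GL (Fin n) (ZMod 2))) := by
  obtain ⟨c, hP⟩ := sylow_eq_conj P
  rw [hP] at hg ⊢
  rw [mem_conj_smul]
  refine unitri_of_upper (mem_upper_of_normalizes fun u hu => ?_)
  have := mem_conj_smul.1 (hg (c * u * c⁻¹) (mem_conj_smul.2 (by simpa [mul_assoc] using hu)))
  simpa [mul_assoc] using this

variable {K : Type*} [Group K] [Finite K]

theorem transfer_trans (f : K ≃* GL (Fin n) (ZMod 2)) (P Q Q' : Sylow 2 K)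
    (h : (P : Subgroup K) ⊓ Q = ⊥) (h' : (P : Subgroup K) ⊓ Q' = ⊥) :
    ∃ u ∈ (P : Subgroup K), ∀ z, z ∈ (Q' : Subgroup K) ↔ u⁻¹ * z * u ∈ (Q : Subgroup K) := by
  have hs : Function.Surjective f.toMonoidHom := f.surjective
  have hi : Function.Injective f.toMonoidHom := f.injective
  have hb : ∀ A B : Sylow 2 K, (A : Subgroup K) ⊓ B = ⊥ →
      (A.mapSurjective hs : Subgroup (GL (Fin n) (ZMod 2))) ⊓ B.mapSurjective hs = ⊥ := by
    intro A B hAB
    rw [Sylow.coe_mapSurjective, Sylow.coe_mapSurjective, ← Subgroup.map_inf _ _ _ hi, hAB, Subgroup.map_bot]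
  obtain ⟨u, hu, he⟩ := gl_trans _ _ _ (hb P Q h) (hb P Q' h')
  rw [Sylow.coe_mapSurjective, Subgroup.mem_map] at hu
  obtain ⟨u₀, hu₀, rfl⟩ := hu
  refine ⟨u₀, hu₀, fun z => ?_⟩
  rw [Sylow.coe_mapSurjective, Sylow.coe_mapSurjective] at he
  rw [← Subgroup.mem_map_iff_mem hi (K := (Q' : Subgroup K)), ← he, mem_conj_smul,
    ← map_inv, ← map_mul, ← map_mul, Subgroup.mem_map_iff_mem hi]

theorem transfer_self_normalizing (f : K ≃* GL (Fin n) (ZMod 2)) (P : Sylow 2 K) {g : K}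
    (hg : ∀ z ∈ (P : Subgroup K), g * z * g⁻¹ ∈ (P : Subgroup K)) : g ∈ (P : Subgroup K) := by
  have hs : Function.Surjective f.toMonoidHom := f.surjective
  have hi : Function.Injective f.toMonoidHom := f.injective
  have := gl_self_normalizing (P.mapSurjective hs) (g := f.toMonoidHom g) (by
    intro z hz
    rw [Sylow.coe_mapSurjective, Subgroup.mem_map] at hz ⊢
    obtain ⟨z₀, hz₀, rfl⟩ := hz
    exact ⟨_, hg z₀ hz₀, by simp⟩)
  rwa [Sylow.coe_mapSurjective, Subgroup.mem_map_iff_mem hi] at this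

end Helpers

section IndexTwo

theorem card_subgroupOf_comm {G : Type*} [Group G] (A B : Subgroup G) :
    Nat.card (A.subgroupOf B) = Nat.card (B.subgroupOf A) := by
  rw [← Subgroup.inf_subgroupOf_right A B, ← Subgroup.inf_subgroupOf_right B A,
    Nat.card_congr (Subgroup.subgroupOfEquivOfLe inf_le_right).toEquiv,
    Nat.card_congr (Subgroup.subgroupOfEquivOfLe inf_le_right).toEquiv, inf_comm]

variable {G : Type*} [Group G] [Finite G] {N : Subgroup G} [N.Normal]

/-- A Sylow 2-subgroup meets a normal subgroup of index 2 in a Sylow 2-subgroup of it. -/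
theorem sylow_inf_index_two (hidx : N.index = 2) (H : Sylow 2 G) :
    ∃ P : Sylow 2 N, (P : Subgroup N) = (H : Subgroup G).subgroupOf N ∧
      Nat.card (H : Subgroup G) = 2 * Nat.card (P : Subgroup N) ∧ ¬ (H : Subgroup G) ≤ N := by
  have : Fact (Nat.Prime 2) := ⟨Nat.prime_two⟩
  have hp : IsPGroup 2 ((H : Subgroup G).subgroupOf N) :=
    H.isPGroup'.comap_of_injective N.subtype N.subtype_injective
  obtain ⟨P, hP⟩ := hp.exists_le_sylow
  have hH : Nat.card (H : Subgroup G) = 2 * Nat.card (P : Subgroup N) := by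
    rw [H.card_eq_multiplicity, P.card_eq_multiplicity, ← N.card_mul_index, hidx,
      Nat.factorization_mul Nat.card_pos.ne' two_ne_zero, Finsupp.add_apply,
      Nat.prime_two.factorization_self, pow_succ, mul_comm]
  have hc : Nat.card ((H : Subgroup G).subgroupOf N) * N.relIndex (H : Subgroup G) =
      Nat.card (H : Subgroup G) := by
    have := Subgroup.card_mul_index (N.subgroupOf (H : Subgroup G))
    rw [card_subgroupOf_comm]
    exact this
  have hdvd := Subgroup.relIndex_dvd_index_of_normal N (H : Subgroup G)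
  rw [hidx] at hdvd
  have hle : N.relIndex (H : Subgroup G) ≤ 2 := Nat.le_of_dvd two_pos hdvd
  have hsub : Nat.card ((H : Subgroup G).subgroupOf N) ≤ Nat.card (P : Subgroup N) :=
    Subgroup.card_le_of_le hP
  have hpos : 0 < Nat.card (P : Subgroup N) := Nat.card_pos
  have heq : Nat.card (P : Subgroup N) ≤ Nat.card ((H : Subgroup G).subgroupOf N) := by
    nlinarith
  refine ⟨P, (Subgroup.eq_of_le_of_card_ge hP heq).symm, hH, fun hN => ?_⟩
  have h1 : Nat.card ((H : Subgroup G).subgroupOf N) = Nat.card (H : Subgroup G) :=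
    Nat.card_congr (Subgroup.subgroupOfEquivOfLe hN).toEquiv
  omega

end IndexTwo

/-- Let n ≥ 4 and let G be a finite group with a normal subgroup N of index 2 isomorphic to SL(n,2) and with trivial centralizer in G (so G is the extension of the simple group L_n(2) by its inverse-transpose automorphism, its full automorphism group). Then any two Sylow 2-subgroups of G have a non-trivial intersection: for a Sylow 2-subgroup H and every x ∈ G, H ∩ H^x ≠ 1. -/
theorem result {G : Type*} [Group G] [Finite G] {n : ℕ} (hn : 4 ≤ n) (N : Subgroup G) [N.Normal]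
    (e : N ≃* Matrix.SpecialLinearGroup (Fin n) (ZMod 2)) (hidx : N.index = 2)
    (hC : Subgroup.centralizer (N : Set G) = ⊥)
    (H : Sylow 2 G) (x : G) :
    (H : Subgroup G) ⊓ MulAut.conj x • (H : Subgroup G) ≠ ⊥ := by
  have : Fact (Nat.Prime 2) := ⟨Nat.prime_two⟩
  let f : N ≃* Matrix.GeneralLinearGroup (Fin n) (ZMod 2) :=
    e.trans (MulEquiv.ofBijective _ toGL_bijective)
  intro hbot
  rw [← Sylow.coe_subgroup_smul] at hbot
  rw [Subgroup.eq_bot_iff_forall] at hbot
  obtain ⟨P, hP, -, hHN⟩ := sylow_inf_index_two hidx H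
  obtain ⟨Q, hQ, hQc, -⟩ := sylow_inf_index_two hidx (x • H)
  obtain ⟨y, hy, hyN⟩ := SetLike.not_le_iff_exists.1 hHN
  obtain ⟨Q', hQ', -, -⟩ := sylow_inf_index_two hidx (y • x • H)
  have h1 : (P : Subgroup N) ⊓ Q = ⊥ := by
    rw [Subgroup.eq_bot_iff_forall]
    intro z hz
    rw [hP, hQ, Subgroup.mem_inf, Subgroup.mem_subgroupOf, Subgroup.mem_subgroupOf] at hz
    exact Subtype.ext (hbot _ ⟨hz.1, hz.2⟩)
  have h2 : (P : Subgroup N) ⊓ Q' = ⊥ := by
    rw [Subgroup.eq_bot_iff_forall]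
    intro z hz
    rw [hP, hQ', Subgroup.mem_inf, Subgroup.mem_subgroupOf, Subgroup.mem_subgroupOf,
      Sylow.coe_subgroup_smul, mem_conj_smul] at hz
    have := hbot _ ⟨Subgroup.mul_mem _ (Subgroup.mul_mem _ (Subgroup.inv_mem _ hy) hz.1) hy, hz.2⟩
    exact Subtype.ext (by simpa [mul_inv_eq_one, inv_mul_eq_one, mul_assoc] using this)
  obtain ⟨u, hu, hiff⟩ := transfer_trans f P Q Q' h1 h2
  rw [hP, Subgroup.mem_subgroupOf] at hu
  set R : Subgroup G := ((x • H : Sylow 2 G) : Subgroup G) ⊓ N with hR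
  -- the element of `H` outside `N` normalizing `R`
  have hh : (u : G)⁻¹ * y ∈ Subgroup.normalizer (R : Set G) := by
    rw [Subgroup.mem_normalizer_iff]
    intro z
    have key : ∀ w : G, w ∈ N → (y⁻¹ * w * y ∈ ((x • H : Sylow 2 G) : Subgroup G) ↔
        (u : G)⁻¹ * w * u ∈ ((x • H : Sylow 2 G) : Subgroup G)) := by
      intro w hw
      have := hiff ⟨w, hw⟩
      rw [hQ, hQ', Subgroup.mem_subgroupOf, Subgroup.mem_subgroupOf,
        Sylow.coe_subgroup_smul, mem_conj_smul] at this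
      simpa using this
    have hzN : z ∈ N ↔ (u : G)⁻¹ * y * z * ((u : G)⁻¹ * y)⁻¹ ∈ N := by
      constructor
      · exact fun h => Subgroup.Normal.conj_mem ‹N.Normal› z h _
      · intro h
        have := Subgroup.Normal.conj_mem ‹N.Normal› _ h ((u : G)⁻¹ * y)⁻¹
        simpa [mul_assoc] using this
    have e1 : y⁻¹ * (y * z * y⁻¹) * y = z := by group
    have e2 : (u : G)⁻¹ * (y * z * y⁻¹) * u = (u : G)⁻¹ * y * z * ((u : G)⁻¹ * y)⁻¹ := by group
    constructor
    · rintro ⟨hz, hzN'⟩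
      refine ⟨?_, hzN.1 hzN'⟩
      have hw : y * z * y⁻¹ ∈ N := Subgroup.Normal.conj_mem ‹N.Normal› z hzN' y
      have h3 := key _ hw
      rw [e1, e2] at h3
      exact h3.1 hz
    · rintro ⟨hz, hzN'⟩
      refine ⟨?_, hzN.2 hzN'⟩
      have hw : y * z * y⁻¹ ∈ N := Subgroup.Normal.conj_mem ‹N.Normal› z (hzN.2 hzN') y
      have h3 := key _ hw
      rw [e1, e2] at h3
      exact h3.2 hz
  -- the normalizer of `R` is the Sylow subgroup containing it
  have hle : ((x • H : Sylow 2 G) : Subgroup G) ≤ Subgroup.normalizer (R : Set G) := by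
    intro g hg
    rw [Subgroup.mem_normalizer_iff]
    intro z
    simp only [hR, Subgroup.mem_inf]
    constructor
    · rintro ⟨hz, hzN⟩
      exact ⟨Subgroup.mul_mem _ (Subgroup.mul_mem _ hg hz) (Subgroup.inv_mem _ hg),
        Subgroup.Normal.conj_mem ‹N.Normal› z hzN g⟩
    · rintro ⟨hz, hzN⟩
      constructor
      · simpa [mul_assoc] using Subgroup.mul_mem _ (Subgroup.mul_mem _ (Subgroup.inv_mem _ hg) hz) hg
      · simpa [mul_assoc] using Subgroup.Normal.conj_mem ‹N.Normal› _ hzN g⁻¹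
  have hin : (Subgroup.normalizer (R : Set G)).subgroupOf N ≤ (Q : Subgroup N) := by
    intro g hg
    rw [Subgroup.mem_subgroupOf, Subgroup.mem_normalizer_iff] at hg
    refine transfer_self_normalizing f Q (fun z hz => ?_)
    rw [hQ, Subgroup.mem_subgroupOf] at hz ⊢
    exact ((hg z).1 ⟨hz, z.2⟩).1
  have hcard : Nat.card (Subgroup.normalizer (R : Set G)) ≤ Nat.card ((x • H : Sylow 2 G) : Subgroup G) := by
    have hc := Subgroup.card_mul_index (N.subgroupOf (Subgroup.normalizer (R : Set G)))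
    rw [← hc, hQc, mul_comm 2]
    have hdvd := Subgroup.relIndex_dvd_index_of_normal N (Subgroup.normalizer (R : Set G))
    rw [hidx] at hdvd
    refine Nat.mul_le_mul ?_ (Nat.le_of_dvd two_pos hdvd)
    rw [card_subgroupOf_comm]
    exact Subgroup.card_le_of_le hin
  have heq := Subgroup.eq_of_le_of_card_ge hle hcard
  rw [← heq] at hh
  have hone := hbot _ ⟨Subgroup.mul_mem _ (Subgroup.inv_mem _ hu) hy, hh⟩
  exact hyN (by rw [← inv_mul_eq_one.1 hone]; exact u.2)

end Cfsg.Agent.S2486
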