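import Cfsg.Statements.S2487
import Cfsg.Agent.H46.OrthoPlusMeet
-- import your own Cfsg.Agent.* helpers here

set_option autoImplicit false
open scoped Pointwise
open Cfsg

namespace Cfsg.Agent.S2487

section Helpers

open Cfsg.Agent.H46.OrthoMeet Module

theorem cases_card_two {F : Type*} [Field F] [Fintype F] (hF : Fintype.card F = 2) (c : F) :
    c = 0 ∨ c = 1 := by
  classical
  by_contra hc
  simp only [not_or] at hc
  have h1 : ({0, 1, c} : Finset F).card = 3 := by
    rw [Finset.card_insert_of_notMem (by simp [Ne.symm hc.1]), Finset.card_pair (Ne.symm hc.2)]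
  have := Finset.card_le_univ ({0, 1, c} : Finset F)
  omega

variable {F : Type*} [Field F] [Fintype F] {m : ℕ}

/-- The standard plus-type space over the field with two elements. -/
def stdSpace (m : ℕ) : QSpace (Fin m ⊕ Fin m → ZMod 2) where
  Q v := ∑ i : Fin m, v (.inl i) * v (.inr i)
  B := LinearMap.mk₂ (ZMod 2)
    (fun v w => ∑ i : Fin m, (v (.inl i) * w (.inr i) + w (.inl i) * v (.inr i)))
    (fun a b c => by
      simp only [Pi.add_apply, ← Finset.sum_add_distrib]
      exact Finset.sum_congr rfl fun i _ => by ring)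
    (fun r a c => by
      simp only [Pi.smul_apply, smul_eq_mul, Finset.mul_sum]
      exact Finset.sum_congr rfl fun i _ => by ring)
    (fun a b c => by
      simp only [Pi.add_apply, ← Finset.sum_add_distrib]
      exact Finset.sum_congr rfl fun i _ => by ring)
    (fun r a c => by
      simp only [Pi.smul_apply, smul_eq_mul, Finset.mul_sum]
      exact Finset.sum_congr rfl fun i _ => by ring)
  polar v w := by
    simp only [LinearMap.mk₂_apply, Pi.add_apply, ← Finset.sum_add_distrib]
    exact Finset.sum_congr rfl fun i _ => by ring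
  nondeg v hv := by
    funext j
    rcases j with j | j
    · have := hv (Pi.single (.inr j) 1)
      simpa [Pi.single_apply] using this
    · have := hv (Pi.single (.inl j) 1)
      simpa [Pi.single_apply] using this

theorem exists_big_isotropic (m : ℕ) : ∃ L : Submodule (ZMod 2) (Fin m ⊕ Fin m → ZMod 2),
    m ≤ finrank (ZMod 2) L ∧ ∀ v ∈ L, (stdSpace m).Q v = 0 := by
  let f : (Fin m → ZMod 2) →ₗ[ZMod 2] (Fin m ⊕ Fin m → ZMod 2) :=
    { toFun := fun x => Sum.elim x 0
      map_add' := fun a b => by funext j; cases j <;> simp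
      map_smul' := fun r a => by funext j; cases j <;> simp }
  refine ⟨LinearMap.range f, ?_, ?_⟩
  · rw [LinearMap.finrank_range_of_inj (fun a b h => funext fun i => congrFun h (.inl i)), finrank_fin_fun]
  · rintro _ ⟨x, rfl⟩
    simp [stdSpace, f]

/-- Comparison with the matrix isometry group. -/
theorem exists_iso (hF : Fintype.card F = 2) :
    Nonempty (Cfsg.isometryGroup F (Cfsg.quadFormPlus m F) ≃* isoGroup (stdSpace m)) := by
  have hc2 : ringChar F = 2 := by
    have : CharP F 2 := charP_of_card_eq_prime hF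
    exact ringChar.eq F 2
  have : CharP F 2 := charP_of_card_eq_prime hF
  let e : ZMod 2 ≃+* F := RingEquiv.ofBijective (ZMod.castHom dvd_rfl F) (by
    refine (Fintype.bijective_iff_injective_and_card _).2 ⟨RingHom.injective _, ?_⟩
    rw [ZMod.card, hF])
  let G : Matrix.GeneralLinearGroup (Fin m ⊕ Fin m) F ≃*
      ((Fin m ⊕ Fin m → ZMod 2) ≃ₗ[ZMod 2] (Fin m ⊕ Fin m → ZMod 2)) :=
    ((Units.mapEquiv e.symm.mapMatrix.toMulEquiv).trans Matrix.GeneralLinearGroup.toLin).trans
      (LinearMap.GeneralLinearGroup.generalLinearEquiv (ZMod 2) _)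
  have hG : ∀ (g : Matrix.GeneralLinearGroup (Fin m ⊕ Fin m) F) (v : Fin m ⊕ Fin m → ZMod 2),
      (fun i => e (G g v i)) = (g : Matrix (Fin m ⊕ Fin m) (Fin m ⊕ Fin m) F).mulVec (fun i => e (v i)) := by
    intro g v
    funext i
    show e ((Matrix.toLin' ((g : Matrix (Fin m ⊕ Fin m) (Fin m ⊕ Fin m) F).map e.symm)) v i) = _
    rw [Matrix.toLin'_apply, Matrix.mulVec, Matrix.mulVec, dotProduct, dotProduct, map_sum]
    exact Finset.sum_congr rfl fun j _ => by simp
  have hQ : ∀ v : Fin m ⊕ Fin m → ZMod 2,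
      Cfsg.quadFormPlus m F (fun i => e (v i)) = e ((stdSpace m).Q v) := by
    intro v
    simp [Cfsg.quadFormPlus, stdSpace]
  have hmap : (Cfsg.isometryGroup F (Cfsg.quadFormPlus m F)).map G.toMonoidHom = isoGroup (stdSpace m) := by
    ext h
    rw [Subgroup.mem_map_equiv]
    obtain ⟨g, rfl⟩ := G.surjective h
    rw [MulEquiv.symm_apply_apply]
    constructor
    · intro hg v
      have h1 := hg (fun i => e (v i)) 0
      change Cfsg.quadFormPlus m F ((g : Matrix (Fin m ⊕ Fin m) (Fin m ⊕ Fin m) F).mulVec fun i => e (v i)) =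
        Cfsg.quadFormPlus m F (fun i => e (v i)) at h1
      rw [← hG, hQ, hQ] at h1
      exact e.injective h1
    · intro hg u
      obtain ⟨v, rfl⟩ : ∃ v : Fin m ⊕ Fin m → ZMod 2, (fun i => e (v i)) = u :=
        ⟨fun i => e.symm (u i), by simp⟩
      intro w
      show Cfsg.quadFormPlus m F ((g : Matrix (Fin m ⊕ Fin m) (Fin m ⊕ Fin m) F).mulVec fun i => e (v i)) =
        Cfsg.quadFormPlus m F (fun i => e (v i))
      rw [← hG, hQ, hQ, hg v]
  exact ⟨((Cfsg.isometryGroup F (Cfsg.quadFormPlus m F)).equivMapOfInjective G.toMonoidHom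
    G.injective).trans (MulEquiv.subgroupCongr hmap)⟩

end Helpers

/-- Let m ≥ 4 and let G be the full isometry group of the hyperbolic quadratic form x₁y₁ + ⋯ + x_m y_m on the 2m-dimensional space over the field with 2 elements (the orthogonal group O⁺(2m,2), which contains Ω⁺(2m,2) with index 2). Then any two Sylow 2-subgroups of G have a non-trivial intersection: for a Sylow 2-subgroup H and every x ∈ G, H ∩ H^x ≠ 1. -/
theorem result {F : Type*} [Field F] [Fintype F] (hF : Fintype.card F = 2) {m : ℕ} (hm : 4 ≤ m)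
    (H : Sylow 2 (Cfsg.isometryGroup F (Cfsg.quadFormPlus m F)))
    (x : Cfsg.isometryGroup F (Cfsg.quadFormPlus m F)) :
    (H : Subgroup (Cfsg.isometryGroup F (Cfsg.quadFormPlus m F))) ⊓ MulAut.conj x • (H : Subgroup _) ≠ ⊥ := by
  have : Fact (Nat.Prime 2) := ⟨Nat.prime_two⟩
  obtain ⟨φ⟩ := exists_iso (m := m) hF
  obtain ⟨L, hL, hQ⟩ := exists_big_isotropic m
  have hd : Module.finrank (ZMod 2) (Fin m ⊕ Fin m → ZMod 2) = 2 * m := by
    rw [Module.finrank_pi, Fintype.card_sum, Fintype.card_fin, two_mul]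
  have hs : Function.Surjective φ.toMonoidHom := φ.surjective
  have := Cfsg.Agent.H46.OrthoMeet.sylow_inter_ne_bot m (by omega) _ (stdSpace m) hd L hL hQ
    (H.mapSurjective hs) ((x • H).mapSurjective hs)
  intro hbot
  apply this
  rw [Sylow.coe_mapSurjective, Sylow.coe_mapSurjective,
    ← Subgroup.map_inf _ _ _ φ.injective, Sylow.coe_subgroup_smul, hbot, Subgroup.map_bot]

end Cfsg.Agent.S2487
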