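import Cfsg.Statements.S5057
import Mathlib.GroupTheory.SpecificGroups.Alternating.Simple
-- import your own Cfsg.Agent.* helpers here

set_option autoImplicit false
open Cfsg

namespace Cfsg.Agent.S5057

open Equiv

/-- A fixed double transposition. -/
def d0 : Perm (Fin 6) := swap 0 1 * swap 2 3

theorem d0_inv : d0 * d0 = 1 ∧ d0 ≠ 1 := by decide

set_option maxHeartbeats 4000000 in
theorem pair_d0 : ∀ e : Perm (Fin 6), Perm.sign e = 1 → e * e = 1 →
    (d0 * e = e * d0) ∨ (d0 * e) ^ 3 = 1 ∨ (d0 * e) ^ 5 = 1 ∨ ((d0 * e) ^ 4 = 1 ∧ (d0 * e) ^ 2 ≠ 1) := by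
  decide +kernel

set_option maxHeartbeats 4000000 in
theorem conj_d0 : ∀ e : Perm (Fin 6), Perm.sign e = 1 → e * e = 1 → e ≠ 1 →
    ∃ g : Perm (Fin 6), Perm.sign g = 1 ∧ g * d0 = e * g := by
  decide +kernel

/-- The involutions of the alternating group of degree 6 form a class of root involutions (a single conjugacy class of involutions generating the group, any two of which commute, have product of odd order, or have product of order 4 whose square is again an involution of the class), and the product of any two of them has order at most 5. -/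
theorem result :
    Cfsg.IsRootInvolutionClass {g : ↥(alternatingGroup (Fin 6)) | orderOf g = 2} ∧
    ∀ d ∈ {g : ↥(alternatingGroup (Fin 6)) | orderOf g = 2}, ∀ e ∈ {g : ↥(alternatingGroup (Fin 6)) | orderOf g = 2},
      orderOf (d * e) ≤ 5 := by
  classical
  set D : Set ↥(alternatingGroup (Fin 6)) := {g | orderOf g = 2} with hD
  have hmem : ∀ g : ↥(alternatingGroup (Fin 6)), g ∈ D ↔ (g : Perm (Fin 6)) * g = 1 ∧ (g : Perm (Fin 6)) ≠ 1 := by
    intro g
    rw [hD, Set.mem_setOf_eq, ← Subgroup.orderOf_coe, orderOf_eq_prime_iff, pow_two]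
  have hd0 : Perm.sign d0 = 1 := by decide
  let a0 : ↥(alternatingGroup (Fin 6)) := ⟨d0, Perm.mem_alternatingGroup.mpr hd0⟩
  have ha0 : a0 ∈ D := by rw [hmem]; exact d0_inv
  have hconj : ∀ e ∈ D, ∃ g, e = g * a0 * g⁻¹ := by
    intro e he
    rw [hmem] at he
    obtain ⟨g, hg, hge⟩ := conj_d0 e (Perm.mem_alternatingGroup.mp e.2) he.1 he.2
    refine ⟨⟨g, Perm.mem_alternatingGroup.mpr hg⟩, Subtype.ext ?_⟩
    change (e : Perm (Fin 6)) = g * d0 * g⁻¹
    rw [hge, mul_inv_cancel_right]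
  have hclosed : ∀ d ∈ D, ∀ g, g * d * g⁻¹ ∈ D := fun d hd g => by
    rw [hD, Set.mem_setOf_eq, show g * d * g⁻¹ = MulAut.conj g d by simp, MulEquiv.orderOf_eq]
    exact hd
  have hp0 : ∀ e ∈ D, (a0 * e = e * a0) ∨ ((a0 * e) ^ 3 = 1) ∨ ((a0 * e) ^ 5 = 1) ∨ orderOf (a0 * e) = 4 := by
    intro e he
    rw [hmem] at he
    rcases pair_d0 e (Perm.mem_alternatingGroup.mp e.2) he.1 with h | h | h | ⟨h, h'⟩
    · exact Or.inl (Subtype.ext h)
    · exact Or.inr (Or.inl (Subtype.ext h))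
    · exact Or.inr (Or.inr (Or.inl (Subtype.ext h)))
    · refine Or.inr (Or.inr (Or.inr ?_))
      exact orderOf_eq_prime_pow (p := 2) (n := 1) (fun hh => h' (congrArg Subtype.val hh)) (Subtype.ext h)
  have hpair : ∀ a ∈ D, ∀ b ∈ D, (a * b = b * a) ∨ ((a * b) ^ 3 = 1) ∨ ((a * b) ^ 5 = 1) ∨ orderOf (a * b) = 4 := by
    intro a ha b hb
    obtain ⟨g, rfl⟩ := hconj a ha
    have hb' := hclosed b hb g⁻¹
    rw [inv_inv] at hb'
    have e1 : g * a0 * g⁻¹ * b = MulAut.conj g (a0 * (g⁻¹ * b * g)) := by simp [mul_assoc]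
    have e2 : b * (g * a0 * g⁻¹) = MulAut.conj g (g⁻¹ * b * g * a0) := by simp [mul_assoc]
    rw [e1, e2, MulEquiv.orderOf_eq, ← map_pow, ← map_pow]
    simp only [EmbeddingLike.apply_eq_iff_eq, map_eq_one_iff _ (MulAut.conj g).injective]
    exact hp0 _ hb'
  refine ⟨⟨⟨fun d hd => hd, ?_, hclosed, ?_⟩, ⟨a0, ha0⟩, ?_⟩, ?_⟩
  · rw [eq_top_iff, ← alternatingGroup.closure_cycleType_eq_two_two_eq_top (α := Fin 6) (by simp)]
    refine Subgroup.closure_mono fun g hg => ?_
    rw [hD, Set.mem_setOf_eq, ← Subgroup.orderOf_coe, ← Perm.lcm_cycleType, hg]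
    rfl
  · intro a ha b hb
    rcases hpair a ha b hb with h | h | h | h
    · exact Or.inl h
    · exact Or.inr (Or.inl (Odd.of_dvd_nat (by decide) (orderOf_dvd_of_pow_eq_one h)))
    · exact Or.inr (Or.inl (Odd.of_dvd_nat (by decide) (orderOf_dvd_of_pow_eq_one h)))
    · refine Or.inr (Or.inr ⟨h, ?_⟩)
      rw [hD, Set.mem_setOf_eq, orderOf_pow, h]
      rfl
  · intro a ha b hb
    obtain ⟨g, rfl⟩ := hconj a ha
    obtain ⟨k, rfl⟩ := hconj b hb
    exact ⟨k * g⁻¹, by group⟩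
  · intro d hd e he
    rcases hpair d hd e he with h | h | h | h
    · refine le_trans (Nat.le_of_dvd two_pos (orderOf_dvd_of_pow_eq_one ?_)) (by norm_num)
      rw [Commute.mul_pow h]
      have h1 : d ^ 2 = 1 := by rw [← (show orderOf d = 2 from hd)]; exact pow_orderOf_eq_one d
      have h2 : e ^ 2 = 1 := by rw [← (show orderOf e = 2 from he)]; exact pow_orderOf_eq_one e
      rw [h1, h2, one_mul]
    · exact le_trans (Nat.le_of_dvd (by norm_num) (orderOf_dvd_of_pow_eq_one h)) (by norm_num)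
    · exact Nat.le_of_dvd (by norm_num) (orderOf_dvd_of_pow_eq_one h)
    · omega

end Cfsg.Agent.S5057
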