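import Cfsg.Statements.S2488
import Cfsg.Agent.S5057
import Cfsg.Agent.H77.AutAlt

set_option autoImplicit false
open scoped Pointwise
open Cfsg

namespace Cfsg.Agent.S2488

open Equiv

/-- The alternating group of degree six. -/
abbrev A6 : Subgroup (Perm (Fin 6)) := alternatingGroup (Fin 6)

/-- Restriction of conjugation. -/
noncomputable abbrev cn : Perm (Fin 6) →* MulAut ↥A6 := MulAut.conjNormal

set_option maxHeartbeats 4000000 in
theorem cent_d0 : (Finset.univ.filter fun σ : Perm (Fin 6) =>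
    σ * S5057.d0 = S5057.d0 * σ).card ≤ 16 := by
  decide +kernel

set_option maxHeartbeats 8000000 in
theorem free_d0 : (Finset.univ.filter fun w : Perm (Fin 6) =>
    Perm.sign w = 1 ∧ w * w = 1 ∧ w ≠ 1 ∧
      ∀ σ : Perm (Fin 6), σ * S5057.d0 = S5057.d0 * σ → σ ≠ 1 → σ * w ≠ w * σ).card < 32 := by
  decide +kernel

set_option maxHeartbeats 4000000 in
theorem three_counts : (Finset.univ.filter fun σ : Perm (Fin 6) =>
      Perm.sign σ = 1 ∧ σ * σ * σ = 1 ∧ σ ≠ 1 ∧ σ.support.card = 3).card = 40 ∧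
    (Finset.univ.filter fun σ : Perm (Fin 6) =>
      Perm.sign σ = 1 ∧ σ * σ * σ = 1 ∧ σ ≠ 1 ∧ σ.support.card ≠ 3).card = 40 := by
  decide +kernel

theorem conj_iff (g a b : Perm (Fin 6)) :
    g * a * g⁻¹ * (g * b * g⁻¹) = g * b * g⁻¹ * (g * a * g⁻¹) ↔ a * b = b * a := by
  rw [show g * a * g⁻¹ * (g * b * g⁻¹) = g * (a * b) * g⁻¹ by group,
    show g * b * g⁻¹ * (g * a * g⁻¹) = g * (b * a) * g⁻¹ by group, mul_left_inj, mul_right_inj]

theorem cent_le {t : Perm (Fin 6)} (hs : Perm.sign t = 1) (h2 : t * t = 1) (h1 : t ≠ 1) :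
    Nat.card {σ : Perm (Fin 6) // σ * t = t * σ} ≤ 16 := by
  obtain ⟨g, -, hg⟩ := S5057.conj_d0 t hs h2 h1
  have ht : t = g * S5057.d0 * g⁻¹ := by rw [hg, mul_inv_cancel_right]
  refine le_trans (Nat.card_le_card_of_injective
    (fun σ => (⟨g⁻¹ * σ.1 * g, ?_⟩ : {σ : Perm (Fin 6) // σ * S5057.d0 = S5057.d0 * σ}))
    fun a b h => Subtype.ext (by simpa using congrArg Subtype.val h)) ?_
  · refine (conj_iff g _ _).1 ?_
    rw [← ht]
    simpa [mul_assoc] using σ.2
  · rw [Nat.card_eq_fintype_card, Fintype.card_subtype]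
    exact cent_d0

theorem free_lt {t : Perm (Fin 6)} (hs : Perm.sign t = 1) (h2 : t * t = 1) (h1 : t ≠ 1) :
    Nat.card {w : Perm (Fin 6) // Perm.sign w = 1 ∧ w * w = 1 ∧ w ≠ 1 ∧
      ∀ σ : Perm (Fin 6), σ * t = t * σ → σ ≠ 1 → σ * w ≠ w * σ} < 32 := by
  obtain ⟨g, -, hg⟩ := S5057.conj_d0 t hs h2 h1
  have ht : t = g * S5057.d0 * g⁻¹ := by rw [hg, mul_inv_cancel_right]
  refine lt_of_le_of_lt (Nat.card_le_card_of_injective
    (fun w => (⟨g⁻¹ * w.1 * g, ?_⟩ : {w : Perm (Fin 6) // Perm.sign w = 1 ∧ w * w = 1 ∧ w ≠ 1 ∧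
      ∀ σ : Perm (Fin 6), σ * S5057.d0 = S5057.d0 * σ → σ ≠ 1 → σ * w ≠ w * σ}))
    fun a b h => Subtype.ext (by simpa using congrArg Subtype.val h)) ?_
  · obtain ⟨w, hws, hw2, hw1, hw⟩ := w
    refine ⟨by simp [hws], by simp [mul_assoc, ← mul_assoc w w, hw2],
      fun e => hw1 (by rw [show w = g * (g⁻¹ * w * g) * g⁻¹ by group, e]; group),
      fun σ hσ hσ1 e => ?_⟩
    refine hw (g * σ * g⁻¹) (by rw [ht]; exact (conj_iff g _ _).2 hσ)
      (fun e' => hσ1 (by rw [show σ = g⁻¹ * (g * σ * g⁻¹) * g by group, e']; group)) ?_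
    have := (conj_iff g _ _).2 e
    simpa [mul_assoc] using this
  · rw [Nat.card_eq_fintype_card, Fintype.card_subtype]
    exact free_d0

/-- An automorphism that is no conjugation exchanges the two kinds of elements of order three. -/
theorem exchange {φ : MulAut ↥A6} (hφ : φ ∉ cn.range) (x : ↥A6)
    (hx3 : (x : Perm (Fin 6)) * x * x = 1) (hx1 : (x : Perm (Fin 6)) ≠ 1) :
    (φ x : Perm (Fin 6)).support.card = 3 ↔ (x : Perm (Fin 6)).support.card ≠ 3 := by
  classical
  have hord : ∀ y : ↥A6, (y : Perm (Fin 6)) * y * y = 1 → (y : Perm (Fin 6)) ≠ 1 →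
      (φ y : Perm (Fin 6)) * φ y * φ y = 1 ∧ (φ y : Perm (Fin 6)) ≠ 1 := fun y h h' => by
    refine ⟨?_, fun e => h' ?_⟩
    · rw [← Subgroup.coe_mul, ← Subgroup.coe_mul, ← map_mul, ← map_mul,
        show y * y * y = 1 from Subtype.ext h, map_one]
      rfl
    · exact congrArg Subtype.val (φ.injective ((Subtype.ext e : φ y = 1).trans (map_one φ).symm))
  let T : Finset ↥A6 := Finset.univ.filter fun y => (y : Perm (Fin 6)) * y * y = 1 ∧
    (y : Perm (Fin 6)) ≠ 1 ∧ (y : Perm (Fin 6)).support.card = 3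
  let O : Finset ↥A6 := Finset.univ.filter fun y => (y : Perm (Fin 6)) * y * y = 1 ∧
    (y : Perm (Fin 6)) ≠ 1 ∧ (y : Perm (Fin 6)).support.card ≠ 3
  have hTc : T.card = 40 := by
    rw [← three_counts.1, ← Finset.card_map (Function.Embedding.subtype _)]
    refine congrArg Finset.card (Finset.ext fun σ => ?_)
    simp only [T, Finset.mem_map, Finset.mem_filter, Finset.mem_univ, true_and,
      Function.Embedding.coe_subtype]
    constructor
    · rintro ⟨y, ⟨a, b, c⟩, rfl⟩
      exact ⟨Perm.mem_alternatingGroup.1 y.2, a, b, c⟩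
    · rintro ⟨hs, a, b, c⟩
      exact ⟨⟨σ, Perm.mem_alternatingGroup.2 hs⟩, ⟨a, b, c⟩, rfl⟩
  have hOc : O.card = 40 := by
    rw [← three_counts.2, ← Finset.card_map (Function.Embedding.subtype _)]
    refine congrArg Finset.card (Finset.ext fun σ => ?_)
    simp only [O, Finset.mem_map, Finset.mem_filter, Finset.mem_univ, true_and,
      Function.Embedding.coe_subtype]
    constructor
    · rintro ⟨y, ⟨a, b, c⟩, rfl⟩
      exact ⟨Perm.mem_alternatingGroup.1 y.2, a, b, c⟩
    · rintro ⟨hs, a, b, c⟩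
      exact ⟨⟨σ, Perm.mem_alternatingGroup.2 hs⟩, ⟨a, b, c⟩, rfl⟩
  have hTO : ∀ y ∈ T, φ y ∈ O := by
    intro y hy
    simp only [T, O, Finset.mem_filter, Finset.mem_univ, true_and] at hy ⊢
    refine ⟨(hord y hy.1 hy.2.1).1, (hord y hy.1 hy.2.1).2, fun h3 => hφ ?_⟩
    obtain ⟨g, hg⟩ := Cfsg.Agent.H77.AutAlt.exists_conjNormal 6 (by norm_num) φ fun w hw => by
      obtain ⟨c, hc⟩ := isConj_iff.1 (alternatingGroup.isThreeCycle_isConj (by simp)
        (card_support_eq_three_iff.1 hy.2.2) hw)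
      rw [← hc, map_mul, map_mul, map_inv, Subgroup.coe_mul, Subgroup.coe_mul, Subgroup.coe_inv]
      exact card_support_eq_three_iff.1 (by rw [Perm.card_support_conj]; exact h3)
    exact ⟨g, hg⟩
  have himg : T.image φ = O := Finset.eq_of_subset_of_card_le
    (fun y hy => by obtain ⟨z, hz, rfl⟩ := Finset.mem_image.1 hy; exact hTO z hz)
    (by rw [Finset.card_image_of_injective _ φ.injective, hTc, hOc])
  have hx1' : x ≠ 1 := fun h => hx1 (by rw [h]; rfl)
  constructor
  · intro h3 hx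
    have := hTO x (by simp [T, hx3, hx1', hx])
    simp only [O, Finset.mem_filter] at this
    exact this.2.2.2 h3
  · intro hx
    by_contra h3
    have hm : φ x ∈ T.image φ := by
      rw [himg]
      simp [O, hord x hx3 hx1, h3, hx1']
    obtain ⟨z, hz, hzx⟩ := Finset.mem_image.1 hm
    rw [φ.injective hzx] at hz
    simp only [T, Finset.mem_filter] at hz
    exact hx hz.2.2.2

theorem mul_mem_range {φ ψ : MulAut ↥A6} (hφ : φ ∉ cn.range) (hψ : ψ ∉ cn.range) :
    φ * ψ ∈ cn.range := by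
  obtain ⟨g, hg⟩ := Cfsg.Agent.H77.AutAlt.exists_conjNormal 6 (by norm_num) (φ * ψ) fun w hw => by
    have h3 : (w : Perm (Fin 6)) * w * w = 1 := by
      have := pow_orderOf_eq_one (w : Perm (Fin 6))
      rw [hw.orderOf, pow_succ, pow_two] at this
      exact this
    have h1 : (w : Perm (Fin 6)) ≠ 1 := fun e => by
      have := hw.card_support
      simp [e] at this
    have h3' : (ψ w : Perm (Fin 6)) * ψ w * ψ w = 1 := by
      rw [← Subgroup.coe_mul, ← Subgroup.coe_mul, ← map_mul, ← map_mul,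
        show w * w * w = 1 from Subtype.ext h3, map_one]
      rfl
    have h1' : (ψ w : Perm (Fin 6)) ≠ 1 := fun e =>
      h1 (congrArg Subtype.val (ψ.injective ((Subtype.ext e : ψ w = 1).trans (map_one ψ).symm)))
    refine card_support_eq_three_iff.1 ?_
    rw [MulAut.mul_apply, exchange hφ _ h3' h1']
    exact fun h => (exchange hψ w h3 h1).1 h hw.card_support
  exact ⟨g, hg⟩

/-- A non-trivial normal subgroup of a `p`-group meets the centre. -/
theorem exists_central {Γ : Type*} [Group Γ] [Finite Γ] {H : Subgroup Γ} (hH : IsPGroup 2 H)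
    {Q : Subgroup H} [hQn : Q.Normal] (hQ : Q ≠ ⊥) :
    ∃ a : H, a ∈ Q ∧ a ≠ 1 ∧ ∀ h : H, h * a = a * h := by
  have : Fact (Nat.Prime 2) := ⟨Nat.prime_two⟩
  obtain ⟨k, hk⟩ := IsPGroup.iff_card.1 (hH.to_subgroup Q)
  rcases k with _ | k
  · exact absurd (Subgroup.eq_bot_of_card_eq Q (by simpa using hk)) hQ
  letI : MulAction (ConjAct H) Q := inferInstance
  have hp : IsPGroup 2 (ConjAct H) := hH.of_equiv ConjAct.toConjAct
  obtain ⟨a, ha, hne⟩ := hp.exists_fixed_point_of_prime_dvd_card_of_fixed_point Q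
    (by rw [hk, pow_succ]; exact dvd_mul_left _ _)
    (a := (1 : Q)) (fun g => smul_one g)
  refine ⟨a, a.2, fun h => hne (Subtype.ext h).symm, fun h => ?_⟩
  have h1 := congrArg Subtype.val (ha (ConjAct.toConjAct h))
  rw [ConjAct.Subgroup.val_conj_smul, ConjAct.toConjAct_smul] at h1
  exact mul_inv_eq_iff_eq_mul.1 h1

/-- A subgroup has at most twice as many elements as it has conjugations. -/
theorem card_le_two (S : Subgroup (MulAut ↥A6)) :
    Nat.card S ≤ 2 * Nat.card {σ : Perm (Fin 6) // cn σ ∈ S} := by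
  classical
  by_cases hout : ∀ φ ∈ S, φ ∈ cn.range
  · refine le_trans (Nat.card_le_card_of_surjective
      (fun σ : {σ : Perm (Fin 6) // cn σ ∈ S} => (⟨cn σ.1, σ.2⟩ : S)) ?_) (by omega)
    rintro ⟨φ, hφ⟩
    obtain ⟨σ, rfl⟩ := hout φ hφ
    exact ⟨⟨σ, hφ⟩, rfl⟩
  push Not at hout
  obtain ⟨φ, hφS, hφ⟩ := hout
  refine le_trans (Nat.card_le_card_of_surjective
    (fun x : {σ : Perm (Fin 6) // cn σ ∈ S} ⊕ {σ : Perm (Fin 6) // cn σ ∈ S} => x.elim
      (fun σ => (⟨cn σ.1, σ.2⟩ : S))
      (fun σ => (⟨φ⁻¹ * cn σ.1, S.mul_mem (S.inv_mem hφS) σ.2⟩ : S))) ?_) ?_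
  · rintro ⟨ψ, hψ⟩
    by_cases h : ψ ∈ cn.range
    · obtain ⟨σ, rfl⟩ := h
      exact ⟨Sum.inl ⟨σ, hψ⟩, rfl⟩
    · obtain ⟨σ, hσ⟩ := mul_mem_range hφ h
      exact ⟨Sum.inr ⟨σ, by rw [hσ]; exact S.mul_mem hφS hψ⟩,
        Subtype.ext (by simp [Sum.elim, hσ])⟩
  · rw [Nat.card_sum]
    omega

/-- Let G be a finite group with a normal subgroup N of index 4 isomorphic to the alternating group of degree 6 and with trivial centralizer in G (so G is the full automorphism group of A₆). Then any two Sylow 2-subgroups of G have a non-trivial intersection: for a Sylow 2-subgroup H and every x ∈ G, H ∩ H^x ≠ 1. -/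
theorem result {G : Type*} [Group G] [Finite G] (N : Subgroup G) [N.Normal]
    (e : N ≃* alternatingGroup (Fin 6)) (hidx : N.index = 4)
    (hC : Subgroup.centralizer (N : Set G) = ⊥)
    (H : Sylow 2 G) (x : G) :
    (H : Subgroup G) ⊓ MulAut.conj x • (H : Subgroup G) ≠ ⊥ := by
  classical
  let ψ : G →* MulAut ↥A6 :=
    (MulEquiv.toMonoidHom (MulAut.congr e)).comp (MulAut.conjNormal : G →* MulAut N)
  have hψ : ∀ g (v : N), ψ g (e v) = e (MulAut.conjNormal g v) := fun g v => by
    show e (MulAut.conjNormal g (e.symm (e v))) = _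
    rw [e.symm_apply_apply]
  have hinj : Function.Injective ψ := by
    rw [injective_iff_map_eq_one]
    intro g hg
    rw [← Subgroup.mem_bot, ← hC, Subgroup.mem_centralizer_iff]
    intro v hv
    have h := hψ g ⟨v, hv⟩
    rw [hg, MulAut.one_apply] at h
    have h' := congrArg Subtype.val (e.injective h)
    rw [MulAut.conjNormal_apply] at h'
    calc v * g = g * v * g⁻¹ * g := by rw [← h']
      _ = g * v := inv_mul_cancel_right _ _
  have hcard : Nat.card G = 1440 := by
    rw [← N.card_mul_index, hidx, Nat.card_congr e.toEquiv, nat_card_alternatingGroup, Nat.card_fin]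
    rfl
  have hsurj : Function.Surjective ψ := by
    have hle : Nat.card (MulAut ↥A6) ≤ Nat.card G := by
      rw [← Subgroup.card_top (G := MulAut ↥A6), hcard]
      refine (card_le_two ⊤).trans ?_
      have : Nat.card {σ : Perm (Fin 6) // cn σ ∈ (⊤ : Subgroup (MulAut ↥A6))} ≤ 720 := by
        refine (Nat.card_le_card_of_injective Subtype.val Subtype.val_injective).trans ?_
        rw [Nat.card_perm, Nat.card_fin]
        rfl
      omega
    exact (Function.Injective.bijective_of_nat_card_le hinj hle).2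
  have : Fact (Nat.Prime 2) := ⟨Nat.prime_two⟩
  have hH : Nat.card (H : Subgroup G) = 32 := by
    rw [Sylow.card_eq_multiplicity, hcard]
    have h5 : (Nat.factorization 1440) 2 = 5 := by
      rw [show (1440 : ℕ) = 2 ^ 5 * 45 by norm_num,
        Nat.factorization_mul_apply_of_coprime (by decide), Nat.Prime.factorization_pow Nat.prime_two,
        Finsupp.single_eq_same, Nat.factorization_eq_zero_of_not_dvd (by decide)]
    rw [h5]
    rfl
  -- an involution of `N` central in `H`
  obtain ⟨z, hzN, hz1, hz2, hzH⟩ : ∃ z : G, z ∈ N ∧ z ≠ 1 ∧ z * z = 1 ∧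
      ∀ h ∈ (H : Subgroup G), h * z = z * h := by
    let P : Subgroup G := (H : Subgroup G) ⊓ N
    have hP : IsPGroup 2 (P : Subgroup G) := H.isPGroup'.to_le inf_le_left
    have hPne : P ≠ ⊥ := by
      intro hbot
      have hi : Function.Injective ((QuotientGroup.mk' N).comp (H : Subgroup G).subtype) := by
        rw [injective_iff_map_eq_one]
        intro a ha
        have : (a : G) ∈ P := ⟨a.2, (QuotientGroup.eq_one_iff _).1 ha⟩
        rw [hbot, Subgroup.mem_bot] at this
        exact Subtype.ext this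
      have h1 := Nat.card_le_card_of_injective _ hi
      have h2 : Nat.card (G ⧸ N) = 4 := hidx
      rw [hH, h2] at h1
      omega
    let Z : Subgroup G := P ⊓ Subgroup.centralizer ((H : Subgroup G) : Set G)
    have hZne : Z ≠ ⊥ := by
      have hnorm : (P.subgroupOf (H : Subgroup G)).Normal :=
        ⟨fun a ha h => ⟨((H : Subgroup G).mul_mem ((H : Subgroup G).mul_mem h.2 a.2)
          ((H : Subgroup G).inv_mem h.2)), Subgroup.Normal.conj_mem ‹N.Normal› _ ha.2 _⟩⟩
      have hne : P.subgroupOf (H : Subgroup G) ≠ ⊥ := by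
        intro h0
        refine hPne ((Subgroup.eq_bot_iff_forall _).2 fun a ha => ?_)
        have : (⟨a, ha.1⟩ : (H : Subgroup G)) ∈ P.subgroupOf (H : Subgroup G) := ha
        rw [h0, Subgroup.mem_bot] at this
        exact congrArg Subtype.val this
      have hfix := exists_central (hQn := hnorm) H.isPGroup' hne
      obtain ⟨a, ha, ha1, hac⟩ := hfix
      refine fun h0 => ha1 (Subtype.ext ?_)
      have : (a : G) ∈ Z := ⟨ha, Subgroup.mem_centralizer_iff.2 fun h hh =>
        congrArg Subtype.val (hac ⟨h, hh⟩)⟩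
      rw [h0, Subgroup.mem_bot] at this
      exact this
    obtain ⟨w, hw⟩ := exists_prime_orderOf_dvd_card' (G := Z) 2 (by
      obtain ⟨k, hk⟩ := IsPGroup.iff_card.1 (hP.to_le (inf_le_left : Z ≤ P))
      rcases k with _ | k
      · exact absurd (Subgroup.card_eq_one.1 (by rw [hk, pow_zero])) hZne
      · rw [hk, pow_succ]; exact dvd_mul_left _ _)
    refine ⟨w, w.2.1.2, fun h => ?_, ?_, fun h hh => Subgroup.mem_centralizer_iff.1 w.2.2 h hh⟩
    · rw [show w = 1 from Subtype.ext h, orderOf_one] at hw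
      omega
    · rw [← Subgroup.coe_mul, ← pow_two, ← hw, pow_orderOf_eq_one]; rfl
  set t : ↥A6 := e ⟨z, hzN⟩ with ht
  have htinv : ∀ v : N, (v : G) ≠ 1 → (v : G) * v = 1 →
      (e v : Perm (Fin 6)) * e v = 1 ∧ (e v : Perm (Fin 6)) ≠ 1 := fun v h1 h2 => by
    refine ⟨?_, fun h => h1 ?_⟩
    · rw [← Subgroup.coe_mul, ← map_mul, show v * v = 1 from Subtype.ext h2, map_one]; rfl
    · exact congrArg Subtype.val (e.injective ((Subtype.ext h : e v = 1).trans (map_one e).symm))
  obtain ⟨ht2, ht1⟩ := htinv ⟨z, hzN⟩ hz1 hz2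
  have hts : Perm.sign (t : Perm (Fin 6)) = 1 := Perm.mem_alternatingGroup.1 t.2
  have hfix : ∀ g : G, g * z = z * g ↔ ψ g t = t := fun g => by
    rw [ht, hψ, e.injective.eq_iff, Subtype.ext_iff, MulAut.conjNormal_apply,
      mul_inv_eq_iff_eq_mul]
  let S : Subgroup (MulAut ↥A6) :=
    { carrier := {φ | φ t = t}
      one_mem' := rfl
      mul_mem' := fun {a b} (ha : a t = t) (hb : b t = t) => by
        show a (b t) = t; rw [hb, ha]
      inv_mem' := fun {a} (ha : a t = t) => by
        show a.symm t = t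
        conv_lhs => rw [← ha]
        exact a.symm_apply_apply t }
  have hcn : ∀ σ : Perm (Fin 6), cn σ ∈ S ↔ σ * t = (t : Perm (Fin 6)) * σ := fun σ => by
    show cn σ t = t ↔ _
    rw [Subtype.ext_iff, MulAut.conjNormal_apply, mul_inv_eq_iff_eq_mul]
  have hS : Nat.card S ≤ 32 := by
    refine (card_le_two S).trans ?_
    have := cent_le hts ht2 ht1
    rw [← Nat.card_congr (Equiv.subtypeEquivRight hcn)] at this
    omega
  have hHC : (H : Subgroup G) = Subgroup.centralizer {z} := by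
    refine Subgroup.eq_of_le_of_card_ge
      (fun h hh => Subgroup.mem_centralizer_singleton_iff.2 (hzH h hh)) ?_
    rw [hH]
    refine le_trans (Nat.card_le_card_of_injective (fun g : Subgroup.centralizer {z} =>
      (⟨ψ g, (hfix g).1 (Subgroup.mem_centralizer_singleton_iff.1 g.2)⟩ : S))
      fun a b h => Subtype.ext (hinj (congrArg Subtype.val h))) hS
  intro hbot
  have hconj : ∀ g, g ∈ MulAut.conj x • (H : Subgroup G) ↔ x⁻¹ * g * x ∈ (H : Subgroup G) :=
    fun g => by
      rw [Subgroup.mem_pointwise_smul_iff_inv_smul_mem]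
      simp [MulAut.smul_def]
  set z' : N := MulAut.conjNormal x ⟨z, hzN⟩ with hz'
  have hz'c : (z' : G) = x * z * x⁻¹ := MulAut.conjNormal_apply x _
  clear_value z'
  have hnone : ∀ g : G, g * z = z * g → g * z' = z' * g → g = 1 := by
    intro g h1 h2
    have hg1 : g ∈ (H : Subgroup G) := by rw [hHC, Subgroup.mem_centralizer_singleton_iff]; exact h1
    have hg2 : g ∈ MulAut.conj x • (H : Subgroup G) := by
      rw [hconj, hHC, Subgroup.mem_centralizer_singleton_iff]
      rw [hz'c] at h2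
      have := congrArg (fun y => x⁻¹ * y * x) h2
      simpa [mul_assoc] using this
    have : g ∈ (H : Subgroup G) ⊓ MulAut.conj x • (H : Subgroup G) := ⟨hg1, hg2⟩
    rwa [hbot, Subgroup.mem_bot] at this
  have hz'1 : (z' : G) ≠ 1 := by
    rw [hz'c]; simpa using hz1
  have hz'2 : (z' : G) * z' = 1 := by
    rw [hz'c]; simp [mul_assoc, ← mul_assoc z z, hz2]
  let f : ↥(H : Subgroup G) → {w : Perm (Fin 6) // Perm.sign w = 1 ∧ w * w = 1 ∧ w ≠ 1 ∧
      ∀ σ : Perm (Fin 6), σ * t = t * σ → σ ≠ 1 → σ * w ≠ w * σ} := fun h =>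
    ⟨(e (MulAut.conjNormal (h : G) z') : Perm (Fin 6)), by
      have hv : ((MulAut.conjNormal (h : G) z' : N) : G) = h * z' * (h : G)⁻¹ :=
        MulAut.conjNormal_apply _ _
      obtain ⟨a, b⟩ := htinv (MulAut.conjNormal (h : G) z')
        (by rw [hv]; simpa using hz'1) (by rw [hv]; simp [mul_assoc, ← mul_assoc (z' : G) z', hz'2])
      refine ⟨Perm.mem_alternatingGroup.1 (e _).2, a, b, fun σ hσ hσ1 hσw => ?_⟩
      obtain ⟨g, hg⟩ := hsurj (cn σ)
      have hgz : g * z = z * g := (hfix g).2 (by rw [hg]; exact (hcn σ).2 hσ)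
      have hgw : g * ((h : G) * z' * (h : G)⁻¹) = ((h : G) * z' * (h : G)⁻¹) * g := by
        have h3 : ψ g (e (MulAut.conjNormal (h : G) z')) = e (MulAut.conjNormal (h : G) z') := by
          rw [hg, Subtype.ext_iff, MulAut.conjNormal_apply, mul_inv_eq_iff_eq_mul]
          exact hσw
        rw [hψ, e.injective.eq_iff, Subtype.ext_iff, MulAut.conjNormal_apply,
          mul_inv_eq_iff_eq_mul, hv] at h3
        exact h3
      have hh : (h : G) * z = z * h := hzH _ h.2
      have hg' : (h : G)⁻¹ * g * h = 1 := by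
        refine hnone _ ?_ ?_
        · calc (h : G)⁻¹ * g * h * z = (h : G)⁻¹ * (g * z) * h := by
                rw [mul_assoc _ (h : G) z, hh]; group
            _ = (h : G)⁻¹ * z * h * ((h : G)⁻¹ * g * h) := by rw [hgz]; group
            _ = z * ((h : G)⁻¹ * g * h) := by rw [mul_assoc _ z, ← hh, inv_mul_cancel_left]
        · have := congrArg (fun y => (h : G)⁻¹ * y * h) hgw
          simpa [mul_assoc] using this
      have hg1 : g = 1 := by
        have := congrArg (fun y => (h : G) * y * (h : G)⁻¹) hg'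
        simpa [mul_assoc] using this
      rw [hg1, map_one] at hg
      exact hσ1 (Cfsg.Agent.H77.AutAlt.conjNormal_injective 6 (by norm_num)
        (hg.symm.trans (map_one _).symm))⟩
  have hf : Function.Injective f := by
    intro a b h
    have h0 : (e (MulAut.conjNormal (a : G) z') : Perm (Fin 6)) =
        e (MulAut.conjNormal (b : G) z') := by
      have := congrArg Subtype.val h
      exact this
    have h1 := congrArg Subtype.val (e.injective (Subtype.ext h0))
    rw [MulAut.conjNormal_apply, MulAut.conjNormal_apply] at h1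
    have hab : (b : G)⁻¹ * a = 1 := by
      refine hnone _ ?_ ?_
      · exact hzH _ ((b⁻¹ * a).2)
      · have := congrArg (fun y => (b : G)⁻¹ * y * a) h1
        simpa [mul_assoc] using this
    exact Subtype.ext (inv_mul_eq_one.1 hab).symm
  have := Nat.card_le_card_of_injective f hf
  rw [hH] at this
  have := free_lt hts ht2 ht1
  omega

end Cfsg.Agent.S2488
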