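import Cfsg.Statements.S2490
import Cfsg.Agent.H69.M11.Disconnected

set_option autoImplicit false
open Cfsg

namespace Cfsg.Agent.S2490

/-- Let G be a finite group of order 7920 = 2⁴·3²·5·11 (the order of the smallest Mathieu group) and suppose its prime graph (vertices the prime divisors of the order, distinct p, q joined when there is an element of order pq) is disconnected: the prime divisors split into two non-empty parts with no element of order pq for p in one part and q in the other. Then G is simple. -/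
theorem result {G : Type*} [Group G] [Finite G] (hord : Nat.card G = 7920)
    (hdisc : (∃ A : Set ℕ, (∃ a ∈ A, a.Prime ∧ a ∣ Nat.card G) ∧ (∃ b ∉ A, b.Prime ∧ b ∣ Nat.card G) ∧
      ∀ a ∈ A, ∀ b ∉ A, a.Prime → b.Prime → a ∣ Nat.card G → b ∣ Nat.card G → ¬ ∃ g : G, orderOf g = a * b)) :
    IsSimpleGroup G := by
  by_contra hs
  obtain ⟨A, ⟨a, haA, hap, had⟩, ⟨b, hbA, hbp, hbd⟩, hno⟩ := hdisc
  have hlink : ∀ p q, p.Prime → q.Prime → p ∣ 7920 → q ∣ 7920 → p ≠ q →
      H69.M11.Linked G p q → (p ∈ A ↔ q ∈ A) := by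
    rintro p q hp hq hpd hqd hne ⟨x, y, hx, hy, hxy⟩
    have hxy' : orderOf (x * y) = p * q := by
      rw [hxy.orderOf_mul_eq_mul_orderOf_of_coprime
        (by rw [hx, hy]; exact (Nat.coprime_primes hp hq).2 hne), hx, hy]
    constructor
    · intro hpA
      by_contra hqA
      exact hno p hpA q hqA hp hq (hord ▸ hpd) (hord ▸ hqd) ⟨_, hxy'⟩
    · intro hqA
      by_contra hpA
      exact hno q hqA p hpA hq hp (hord ▸ hqd) (hord ▸ hpd) ⟨_, hxy'.trans (mul_comm p q)⟩
  obtain ⟨h2, h3, h5⟩ := H69.M11.iff_of_not_simple hord hs hlink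
  have key : ∀ p : ℕ, p.Prime → p ∣ Nat.card G → (p ∈ A ↔ 11 ∈ A) := by
    intro p hp hpd
    rw [hord, show (7920 : ℕ) = 2 ^ 4 * 3 ^ 2 * 5 * 11 by norm_num] at hpd
    rcases (Nat.Prime.dvd_mul hp).1 hpd with h | h
    · rcases (Nat.Prime.dvd_mul hp).1 h with h | h
      · rcases (Nat.Prime.dvd_mul hp).1 h with h | h
        · rwa [(Nat.prime_dvd_prime_iff_eq hp Nat.prime_two).1 (hp.dvd_of_dvd_pow h)]
        · rwa [(Nat.prime_dvd_prime_iff_eq hp Nat.prime_three).1 (hp.dvd_of_dvd_pow h)]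
      · rwa [(Nat.prime_dvd_prime_iff_eq hp Nat.prime_five).1 h]
    · rw [(Nat.prime_dvd_prime_iff_eq hp (by norm_num)).1 h]
  exact hbA ((key b hbp hbd).2 ((key a hap had).1 haA))

end Cfsg.Agent.S2490
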