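import Cfsg.Statements.S2493
import Cfsg.Agent.H25.DoubleCover.Lifts

set_option autoImplicit false
open Cfsg

namespace Cfsg.Agent.S2493

/-- Let n ≥ 5 and let G be a finite perfect group whose centre has order 2 with G/Z(G) isomorphic to the alternating group of degree n (the double cover of the alternating group). Then every element of G is a commutator. -/
theorem result {G : Type*} [Group G] [Finite G] (hperf : commutator G = ⊤) {n : ℕ} (hn : 5 ≤ n)
    (hZ : Nat.card (Subgroup.center G) = 2) (e : G ⧸ Subgroup.center G ≃* alternatingGroup (Fin n))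
    (g : G) :
    ∃ a b : G, a * b * a⁻¹ * b⁻¹ = g := by
  classical
  haveI : Fact (Nat.Prime 2) := ⟨Nat.prime_two⟩
  obtain ⟨⟨z, hz⟩, hz1, huniq⟩ := (Nat.card_eq_two_iff' (1 : Subgroup.center G)).1 hZ
  have hne : z ≠ 1 := fun e => hz1 (Subtype.ext e)
  refine H25.DoubleCover.Cover.exists_commutator
    (π := e.toMonoidHom.comp (QuotientGroup.mk' (Subgroup.center G))) (z := z) ⟨hn, ?_, ?_, hne, ?_,
      fun g => (Subgroup.mem_center_iff.1 hz g).symm, hperf⟩ g
  · exact e.surjective.comp (QuotientGroup.mk'_surjective _)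
  · intro g
    simp only [MonoidHom.comp_apply, MulEquiv.coe_toMonoidHom, EmbeddingLike.map_eq_one_iff,
      QuotientGroup.mk'_apply, QuotientGroup.eq_one_iff]
    refine ⟨fun hg => ?_, fun hg => ?_⟩
    · by_cases h1 : g = 1
      · exact Or.inl h1
      · exact Or.inr (congrArg Subtype.val
          (huniq ⟨g, hg⟩ fun e => h1 (congrArg Subtype.val e)))
    · rcases hg with rfl | rfl
      · exact one_mem _
      · exact hz
  · by_contra h2
    have h3 : z * z = z := congrArg Subtype.val
      (huniq ⟨z * z, mul_mem hz hz⟩ fun e => h2 (congrArg Subtype.val e))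
    exact hne (mul_eq_left.1 h3)

end Cfsg.Agent.S2493
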