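import Cfsg.Statements.S2495
import Cfsg.Agent.H55.PSLPrimeGraph
import Cfsg.Agent.Arith.LargePrimDiv

set_option autoImplicit false
open Cfsg

namespace Cfsg.Agent.S2495

open Cfsg.Agent.H55 Polynomial

/-- Let q be an odd prime power, n ≥ 4 even, and L = PSL(n,q). Then L has an element of order q^(n/2) + 1 if and only if the 2-part of n exceeds the 2-part of q − 1. -/
theorem result {F : Type*} [Field F] [Fintype F] {q : ℕ} (hF : Fintype.card F = q) (hodd : Odd q)
    {n : ℕ} (hn : 4 ≤ n) (heven : Even n) :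
    (∃ g : Matrix.ProjectiveSpecialLinearGroup (Fin n) F, orderOf g = q ^ (n / 2) + 1) ↔
      padicValNat 2 (q - 1) < padicValNat 2 n := by
  subst hF
  rw [← Nat.card_eq_fintype_card] at *
  set q := Nat.card F with hq
  obtain ⟨p, hpF⟩ := CharP.exists F
  have : Fact p.Prime := ⟨CharP.char_is_prime F p⟩
  have hq2 : 2 ≤ q := Finite.one_lt_card
  obtain ⟨m, rfl⟩ := heven
  have hm : 2 ≤ m := by omega
  rw [show (m + m) / 2 = m by omega]
  set M := q ^ m + 1 with hMdef
  set M0 := (q ^ m - 1) / (q - 1) with hM0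
  set N := (q ^ (m + m) - 1) / (q - 1) with hN
  set d := Nat.gcd (m + m) (q - 1) with hd
  have hd0 : 0 < d := Nat.gcd_pos_of_pos_left _ (by omega)
  have hdvd : q - 1 ∣ q ^ m - 1 := by simpa using Nat.pow_sub_one_dvd_pow_sub_one q (one_dvd m)
  have hfac : q ^ (m + m) - 1 = M * (q ^ m - 1) := by
    rw [pow_add, hMdef]
    simpa [pow_two] using Nat.sq_sub_sq (q ^ m) 1
  have hNM : N = M * M0 := by rw [hN, hfac, hM0, Nat.mul_div_assoc _ hdvd]
  have hdN : d ∣ N := by rw [hd, ← geom_gcd (F := F) (m + m)]; exact Nat.gcd_dvd_left _ _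
  have hkey : d ∣ M0 ↔ padicValNat 2 (q - 1) < padicValNat 2 (m + m) := by
    have hdq : d ∣ q - 1 := Nat.gcd_dvd_right _ _
    have h1 : d ∣ M0 ↔ d ∣ m := by
      have e := geom_gcd (F := F) m
      rw [← hq, ← hM0] at e
      constructor <;> intro h
      · exact ((Nat.dvd_gcd h hdq).trans (by rw [e])).trans (Nat.gcd_dvd_left _ _)
      · exact ((Nat.dvd_gcd h hdq).trans (by rw [e])).trans (Nat.gcd_dvd_left _ _)
    rw [h1]
    have : Fact (Nat.Prime 2) := ⟨Nat.prime_two⟩
    constructor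
    · intro h
      by_contra hc
      push Not at hc
      have h2 : 2 ^ padicValNat 2 (m + m) ∣ d :=
        Nat.dvd_gcd pow_padicValNat_dvd ((pow_dvd_pow 2 hc).trans pow_padicValNat_dvd)
      have h3 := (padicValNat_dvd_iff_le (by omega)).1 (h2.trans h)
      rw [← two_mul, padicValNat.mul (by norm_num) (by omega), padicValNat.self (by norm_num)] at h3
      omega
    · intro h
      obtain ⟨t, ht⟩ := Nat.gcd_dvd_left (m + m) (q - 1)
      rw [← hd] at ht
      rcases Nat.even_or_odd t with ⟨u, hu⟩ | hu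
      · exact ⟨u, by rw [hu, mul_add] at ht; omega⟩
      · exfalso
        have h2 : 2 ^ padicValNat 2 (m + m) ∣ d :=
          (Nat.Coprime.pow_left _ (Nat.coprime_two_left.2 hu)).dvd_of_dvd_mul_right
            (ht ▸ pow_padicValNat_dvd)
        have := (padicValNat_dvd_iff_le (by omega)).1 (h2.trans hdq)
        omega
  rw [← hkey]
  constructor
  · rintro ⟨g, hg⟩
    obtain ⟨r, hppd⟩ := Cfsg.Agent.Arith.exists_isPPD (a := q) (n := m + m) (by omega) (by omega)
      (fun h => by rw [h.1] at hodd; exact absurd hodd (by decide)) (fun h => by omega)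
    obtain ⟨hr, hord⟩ := (Cfsg.Agent.Arith.isPPD_iff (by omega) (by omega)).1 hppd
    have hrp : r ≠ p := by
      rintro rfl
      refine hppd.not_dvd_base (by omega) (by omega) ?_
      obtain ⟨k, -, hk⟩ := FiniteField.card F r
      rw [hq, Nat.card_eq_fintype_card, hk]
      exact dvd_pow_self r k.ne_zero
    have hrq : ¬ r ∣ q - 1 := by simpa using hppd.2.2 1 one_pos (by omega)
    have hrM : r ∣ M := (hr.dvd_mul.1 (hfac ▸ hppd.2.1)).resolve_right
      (hppd.2.2 m (by omega) (by omega))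
    obtain ⟨M', hM'⟩ := hrM
    obtain ⟨A, rfl⟩ := QuotientGroup.mk'_surjective _ g
    change orderOf (toPSL A) = M at hg
    obtain ⟨c, hc⟩ := (toPSL_pow_eq_one_iff A M).1 (by rw [← hg]; exact pow_orderOf_eq_one _)
    have hc0 : c ≠ 0 := by
      rintro rfl
      have : Nonempty (Fin (m + m)) := ⟨⟨0, by omega⟩⟩
      have h1 := congrArg Matrix.det hc
      rw [Matrix.det_pow, A.2, one_pow, map_zero, Matrix.det_zero] at h1
      exact one_ne_zero h1
    obtain ⟨f, hfm, hf, hfμ, -, hnf⟩ := exists_factor p hr hrp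
      (A : Matrix (Fin (m + m)) (Fin (m + m)) F) (s := M' * (q - 1))
      (by rw [← mul_assoc, ← hM', pow_mul, hc, ← map_pow, hq, Nat.card_eq_fintype_card,
            FiniteField.pow_card_sub_one_eq_one c hc0, map_one])
      (fun h => by
        have h1 : M ∣ M' * (q - 1) :=
          hg ▸ orderOf_dvd_of_pow_eq_one ((toPSL_pow_eq_one_iff A _).2 ⟨1, by rw [h, map_one]⟩)
        rw [hM', mul_comm r] at h1
        refine hrq (Nat.dvd_of_mul_dvd_mul_left ?_ h1)
        exact Nat.pos_of_ne_zero fun h0 => by rw [h0, mul_zero] at hM'; omega)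
    rw [← hq, hord] at hnf
    have hfd : f.natDegree = m + m :=
      le_antisymm (natDegree_le_of_dvd_minpoly hfμ) (Nat.le_of_dvd hf.natDegree_pos hnf)
    have hμf := eq_of_monic_of_dvd_of_natDegree_le hfm (minpoly.monic (Matrix.isIntegral _)) hfμ
      (by rw [hfd]; exact minpoly_natDegree_le _)
    have h2 := orderOf_irreducible_dvd (by omega) A hfm hf hfd (by rw [← hμf]; exact minpoly.aeval _ _)
    rw [hg, ← hq, ← hN, ← hd] at h2
    have h3 := (Nat.dvd_div_iff_mul_dvd hdN).1 h2
    rw [hNM, mul_comm d M] at h3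
    exact Nat.dvd_of_mul_dvd_mul_left (by omega) h3
  · intro h
    obtain ⟨y, hy⟩ := exists_singer (F := F) p (n := m + m) (by omega)
    rw [← hq, ← hN, ← hd, hNM, Nat.mul_div_assoc _ h] at hy
    exact mem_range_orderOf_of_dvd ((dvd_mul_right _ _).trans hy)

end Cfsg.Agent.S2495
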