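import Cfsg.Statements.S2496
import Cfsg.Agent.H55.UnitaryOrders
import Cfsg.Agent.Arith.LargePrimDiv
import Cfsg.Agent.Unitary.HalfTorus

set_option autoImplicit false
open Cfsg

namespace Cfsg.Agent.S2496

open Cfsg.Agent.H55 Cfsg.Agent.Unitary

/-- Let q be an odd prime power, n ≥ 4 even, and U = PSU(n,q) (realised over the field with q² elements). Then U has an element of order q^(n/2) + (−1)^(n/2) — that is, q^(n/2) + 1 when n/2 is even and q^(n/2) − 1 when n/2 is odd — if and only if the 2-part of n exceeds the 2-part of q + 1. -/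
theorem result {F : Type*} [Field F] [Fintype F] {q : ℕ} (hF : Fintype.card F = q ^ 2) (hodd : Odd q)
    {n : ℕ} (hn : 4 ≤ n) (heven : Even n) :
    (∃ g : Cfsg.PSU n F q, orderOf g = if Even (n / 2) then q ^ (n / 2) + 1 else q ^ (n / 2) - 1) ↔
      padicValNat 2 (q + 1) < padicValNat 2 n := by
  obtain ⟨p, fexp, hp, -, -, hqp⟩ := exists_char_pow hF
  obtain ⟨p', hpF⟩ := CharP.exists F
  have : Fact p'.Prime := ⟨CharP.char_is_prime F p'⟩
  have hq2 : 2 ≤ q := two_le_q hF
  have hcard : Nat.card F = q ^ 2 := by rw [Nat.card_eq_fintype_card, hF]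
  have hsq : q ^ 2 - 1 = (q + 1) * (q - 1) := by simpa using Nat.sq_sub_sq q 1
  obtain ⟨m, rfl⟩ := heven
  have hm : 2 ≤ m := by omega
  have hmm : (m + m) / 2 = m := by omega
  rw [hmm]
  set N := if Even m then q ^ m + 1 else q ^ m - 1 with hN
  have hqm : 1 < q ^ m := Nat.one_lt_pow (by omega) (by omega)
  have hN0 : 0 < N := by rw [hN]; split_ifs <;> omega
  have hfac : q ^ (m + m) - 1 = (q ^ m + 1) * (q ^ m - 1) := by
    rw [pow_add]; simpa [pow_two] using Nat.sq_sub_sq (q ^ m) 1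
  have hH : uH q (m + m) = N * uH q m := by
    apply Nat.eq_of_mul_eq_mul_right (show 0 < q + 1 by omega)
    rw [uH_mul_even (by omega) ⟨m, rfl⟩, mul_assoc, hfac, hN]
    rcases Nat.even_or_odd m with h | h
    · rw [if_pos h, uH_mul_even (by omega) h]
    · rw [if_neg (Nat.not_even_iff_odd.2 h), uH_mul_odd (by omega) h, mul_comm]
  set d := Nat.gcd (m + m) (q + 1) with hd
  have hdH : d ∣ uH q (m + m) := by
    rw [hd, ← uH_gcd (q := q) (by omega)]; exact Nat.gcd_dvd_left _ _
  have hkey : d ∣ uH q m ↔ padicValNat 2 (q + 1) < padicValNat 2 (m + m) := by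
    rw [hd, dvd_uH_iff (by omega) (by omega)]
    exact dvd_half_iff (by omega) (by omega)
  rw [← hkey]
  constructor
  · rintro ⟨g, hg⟩
    obtain ⟨A, rfl⟩ := QuotientGroup.mk'_surjective _ g
    change orderOf (toPSU A) = N at hg
    obtain ⟨c, hc⟩ := exists_pow_eq_scalar hF hodd p' A hm (hg.trans hN)
    have h2 : N ∣ uH q (m + m) / d := hg ▸ orderOf_dvd_of_pow_eq_one
      ((toPSU_pow_eq_one_iff hF (by omega) A _).2 ⟨c, hc⟩)
    have h3 := (Nat.dvd_div_iff_mul_dvd hdH).1 h2
    rw [hH, mul_comm d N] at h3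
    exact Nat.dvd_of_mul_dvd_mul_left hN0 h3
  · intro h
    obtain ⟨Y, hY⟩ := exists_coxeter_SU (n := m + m) p' hF (by omega)
    rw [← hd, hH, Nat.mul_div_assoc _ h] at hY
    exact mem_range_orderOf_of_dvd ((dvd_mul_right _ _).trans hY)

end Cfsg.Agent.S2496
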