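import Cfsg.Statements.S2503
import Cfsg.Agent.H55.SLTwoClasses

set_option autoImplicit false
open Cfsg

namespace Cfsg.Agent.S2503

open Cfsg.Agent.H55 Cfsg.Agent.Linear

/-- Let F be a finite field with q = 2^t ≥ 4 elements and L = PSL(2,F). Then L has a cyclic subgroup A of order q + 1 and an elementary abelian 2-subgroup B of order q such that L = ABA: every element of L is a product a·b·a' with a, a' ∈ A and b ∈ B. -/
theorem result {F : Type*} [Field F] [Fintype F]
    (h2 : 2 ∣ Fintype.card F) (h4 : 4 ≤ Fintype.card F) :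
    ∃ A B : Subgroup (Matrix.ProjectiveSpecialLinearGroup (Fin 2) F),
      IsCyclic A ∧ Nat.card A = Fintype.card F + 1 ∧ IsMulCommutative B ∧ (∀ b ∈ B, b * b = 1) ∧
        Nat.card B = Fintype.card F ∧
        ∀ g : Matrix.ProjectiveSpecialLinearGroup (Fin 2) F, ∃ a ∈ A, ∃ b ∈ B, ∃ c ∈ A, g = a * b * c := by
  rcases gcd_two_eq (F := F) with ⟨h20, hgcd, -⟩ | ⟨-, -, hodd⟩
  swap
  · exact absurd h2 hodd
  have : CharP F 2 := CharTwo.of_one_ne_zero_of_two_eq_zero one_ne_zero h20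
  have : Fact (Nat.Prime 2) := ⟨Nat.prime_two⟩
  obtain ⟨d, hd⟩ : ∃ d : F, ∀ r : F, r ^ 2 + r - d ≠ 0 := by
    have hnot : ¬ Function.Surjective fun r : F => r ^ 2 + r := by
      intro hs
      have h := (Finite.injective_iff_surjective.2 hs) (show (0 : F) ^ 2 + 0 = (1 : F) ^ 2 + 1 by
        linear_combination -h20)
      exact zero_ne_one h
    simp only [Function.Surjective, not_forall, not_exists] at hnot
    obtain ⟨d, hd⟩ := hnot
    exact ⟨d, fun r hr => hd r (by linear_combination hr)⟩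
  let X : Matrix.SpecialLinearGroup (Fin 2) F :=
    ⟨!![0, 1; 1, 1], by simp [Matrix.det_fin_two, CharTwo.neg_eq]⟩
  have hinj : Function.Injective (toPSL (F := F) (n := 2)) := by
    intro a b h
    rcases (toPSL_two_eq_iff a b).1 h with h | h
    · exact h
    · rw [h]
      apply Subtype.ext
      rw [Matrix.SpecialLinearGroup.coe_neg]
      ext i j
      exact CharTwo.neg_eq _
  let A0 : Subgroup (Matrix.SpecialLinearGroup (Fin 2) F) :=
    { carrier := {g | ∃ x y : F, x ^ 2 + x * y - d * y ^ 2 = 1 ∧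
        (g : Matrix (Fin 2) (Fin 2) F) = !![x, d * y; y, x + y]}
      one_mem' := ⟨1, 0, by simp, by simp [Matrix.one_fin_two]⟩
      mul_mem' := by
        rintro a b ⟨x, y, h, ha⟩ ⟨x', y', h', hb⟩
        refine ⟨x * x' + d * y * y', y * x' + (x + y) * y', ?_, ?_⟩
        · calc (x * x' + d * y * y') ^ 2 + (x * x' + d * y * y') * (y * x' + (x + y) * y') -
                d * (y * x' + (x + y) * y') ^ 2
              = (x ^ 2 + x * y - d * y ^ 2) * (x' ^ 2 + x' * y' - d * y' ^ 2) := by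
                ring
            _ = 1 := by rw [h, h', one_mul]
        · rw [Matrix.SpecialLinearGroup.coe_mul, ha, hb]
          ext i j
          fin_cases i <;> fin_cases j <;> simp [Matrix.mul_apply, Fin.sum_univ_two] <;> ring
      inv_mem' := by
        rintro a ⟨x, y, h, ha⟩
        refine ⟨x + y, -y, by linear_combination h, ?_⟩
        rw [Matrix.SpecialLinearGroup.coe_inv, ha, Matrix.adjugate_fin_two]
        ext i j
        fin_cases i <;> fin_cases j <;> simp }
  let B0 : Subgroup (Matrix.SpecialLinearGroup (Fin 2) F) :=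
    { carrier := {g | ∃ t : F, (g : Matrix (Fin 2) (Fin 2) F) = !![1, t; 0, 1]}
      one_mem' := ⟨0, by simp [Matrix.one_fin_two]⟩
      mul_mem' := by
        rintro a b ⟨t, ha⟩ ⟨t', hb⟩
        refine ⟨t' + t, ?_⟩
        rw [Matrix.SpecialLinearGroup.coe_mul, ha, hb]
        simp
      inv_mem' := by
        rintro a ⟨t, ha⟩
        refine ⟨-t, ?_⟩
        rw [Matrix.SpecialLinearGroup.coe_inv, ha, Matrix.adjugate_fin_two]
        simp }
  have hdet : ∀ x y : F, (!![x, d * y; y, x + y]).det = x ^ 2 + x * y - d * y ^ 2 := by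
    intro x y
    rw [Matrix.det_fin_two]
    simp
    ring
  have hne : ∀ v w : F, v ≠ 0 ∨ w ≠ 0 → v ^ 2 + v * w - d * w ^ 2 ≠ 0 := by
    intro v w hvw h
    rcases eq_or_ne w 0 with rfl | hw
    · simp at h; exact hvw.elim (fun e => e h) (fun e => e rfl)
    · apply hd (v / w)
      field_simp
      linear_combination h
  have hcirc : ∀ v w : F, v ≠ 0 ∨ w ≠ 0 → ∃ k : F, k ≠ 0 ∧
      (k * v) ^ 2 + (k * v) * (k * w) - d * (k * w) ^ 2 = 1 := by
    intro v w hvw
    obtain ⟨k, hk⟩ := isSquare_iff_exists_sq _ |>.1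
      (FiniteField.isSquare_of_char_two (ringChar.eq F 2) (v ^ 2 + v * w - d * w ^ 2)⁻¹)
    refine ⟨k, fun h => inv_ne_zero (hne v w hvw) (by rw [hk, h]; ring), ?_⟩
    calc (k * v) ^ 2 + (k * v) * (k * w) - d * (k * w) ^ 2
        = k ^ 2 * (v ^ 2 + v * w - d * w ^ 2) := by ring
      _ = 1 := by rw [← hk, inv_mul_cancel₀ (hne v w hvw)]
  have hmain : ∀ g : Matrix.SpecialLinearGroup (Fin 2) F, ∃ a ∈ A0, ∃ b ∈ B0, ∃ c ∈ A0, g = a * b * c := by
    intro g
    set a := (g : Matrix (Fin 2) (Fin 2) F) 0 0 with ha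
    set b := (g : Matrix (Fin 2) (Fin 2) F) 0 1 with hb
    set c := (g : Matrix (Fin 2) (Fin 2) F) 1 0 with hc
    set e := (g : Matrix (Fin 2) (Fin 2) F) 1 1 with he
    have hg : a * e - b * c = 1 := SL_det_two g
    obtain ⟨L0, hL0⟩ := isSquare_iff_exists_sq _ |>.1
      (FiniteField.isSquare_of_char_two (ringChar.eq F 2) (a ^ 2 + a * c - d * c ^ 2 - 1))
    obtain ⟨L1, hL1⟩ := isSquare_iff_exists_sq _ |>.1
      (FiniteField.isSquare_of_char_two (ringChar.eq F 2) (b ^ 2 + b * e - d * e ^ 2 + d))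
    obtain ⟨v, w, hvw, hl⟩ : ∃ v w : F, (v ≠ 0 ∨ w ≠ 0) ∧ L0 * v + L1 * w = 0 := by
      by_cases h0 : L0 = 0
      · exact ⟨1, 0, Or.inl one_ne_zero, by simp [h0]⟩
      · exact ⟨L1, L0, Or.inr h0, by linear_combination (L0 * L1) * h20⟩
    obtain ⟨k, hk, hkvw⟩ := hcirc v w hvw
    set v' := k * v
    set w' := k * w
    have hl' : L0 * v' + L1 * w' = 0 := by simp only [v', w']; linear_combination k * hl
    have him : (a * v' + b * w') ^ 2 + (a * v' + b * w') * (c * v' + e * w') -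
        d * (c * v' + e * w') ^ 2 = 1 := by
      have hq : (L0 * v' + L1 * w') ^ 2 = 0 := by rw [hl']; ring
      linear_combination hq + hkvw + (v' * w') * hg + (v' ^ 2) * hL0 + (w' ^ 2) * hL1 +
        (v' * w' * (a * b + b * c - d * c * e - L0 * L1)) * h20
    let c0 : Matrix.SpecialLinearGroup (Fin 2) F := ⟨_, (hdet v' w').trans hkvw⟩
    let a0 : Matrix.SpecialLinearGroup (Fin 2) F := ⟨_, (hdet _ _).trans him⟩
    have hc0 : c0 ∈ A0 := ⟨v', w', hkvw, rfl⟩
    have ha0 : a0 ∈ A0 := ⟨_, _, him, rfl⟩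
    refine ⟨a0, ha0, a0⁻¹ * g * c0, ?_, c0⁻¹, A0.inv_mem hc0, by simp [mul_assoc]⟩
    have h00 : ((a0⁻¹ * g * c0 : Matrix.SpecialLinearGroup (Fin 2) F) : Matrix (Fin 2) (Fin 2) F) 0 0 = 1 := by
      obtain ⟨i00, i11, i01, i10⟩ := SL_inv_entries a0
      simp only [SL_mul_entries, i00, i11, i01, i10]
      simp [a0, c0, ← ha, ← hb, ← hc, ← he]
      linear_combination him
    have h10 : ((a0⁻¹ * g * c0 : Matrix.SpecialLinearGroup (Fin 2) F) : Matrix (Fin 2) (Fin 2) F) 1 0 = 0 := by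
      obtain ⟨i00, i11, i01, i10⟩ := SL_inv_entries a0
      simp only [SL_mul_entries, i00, i11, i01, i10]
      simp [a0, c0, ← ha, ← hb, ← hc, ← he]
      ring
    have hdd := SL_det_two (a0⁻¹ * g * c0)
    rw [h00, h10, one_mul, mul_zero, sub_zero] at hdd
    refine ⟨((a0⁻¹ * g * c0 : Matrix.SpecialLinearGroup (Fin 2) F) : Matrix (Fin 2) (Fin 2) F) 0 1, ?_⟩
    exact ext_two (by simpa using h00) (by simp) (by simpa using h10) (by simpa using hdd)
  refine ⟨A0.map (QuotientGroup.mk' _), B0.map (QuotientGroup.mk' _), ?_, ?_, ?_, ?_, ?_, ?_⟩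
  rotate_left 2
  · refine ⟨⟨?_⟩⟩
    rintro ⟨x, hx⟩ ⟨y, hy⟩
    obtain ⟨a, ⟨s, ha⟩, rfl⟩ := hx
    obtain ⟨b, ⟨t, hb⟩, rfl⟩ := hy
    apply Subtype.ext
    show toPSL a * toPSL b = toPSL b * toPSL a
    rw [← map_mul, ← map_mul]
    congr 1
    apply Subtype.ext
    rw [Matrix.SpecialLinearGroup.coe_mul, Matrix.SpecialLinearGroup.coe_mul, ha, hb]
    simp [add_comm]
  · rintro _ ⟨a, ⟨s, ha⟩, rfl⟩
    show toPSL a * toPSL a = 1
    rw [← map_mul]
    refine ((toPSL_two_eq_one_iff _).2 (Or.inl ?_))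
    apply Subtype.ext
    rw [Matrix.SpecialLinearGroup.coe_mul, ha, Matrix.SpecialLinearGroup.coe_one]
    ext i j
    fin_cases i <;> fin_cases j <;> simp [CharTwo.add_self_eq_zero]
  · rw [Subgroup.card_map_of_injective hinj, ← Nat.card_eq_fintype_card]
    refine (Nat.card_congr (Equiv.ofBijective (fun t : F =>
      (⟨⟨!![1, t; 0, 1], by simp [Matrix.det_fin_two]⟩, t, rfl⟩ : B0)) ⟨?_, ?_⟩)).symm
    · intro s t h
      simpa using congrArg (fun g : B0 => ((g.1 : Matrix.SpecialLinearGroup (Fin 2) F) : Matrix (Fin 2) (Fin 2) F) 0 1) h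
    · rintro ⟨g, t, ht⟩
      exact ⟨t, Subtype.ext (Subtype.ext ht.symm)⟩
  · intro g
    obtain ⟨G, rfl⟩ := QuotientGroup.mk'_surjective _ g
    obtain ⟨a, ha, b, hb, c, hc, rfl⟩ := hmain G
    exact ⟨_, Subgroup.mem_map_of_mem _ ha, _, Subgroup.mem_map_of_mem _ hb, _,
      Subgroup.mem_map_of_mem _ hc, by simp only [map_mul]⟩
  all_goals
    obtain ⟨k, hk, hk1⟩ := hcirc 0 1 (Or.inr one_ne_zero)
    let T : Matrix.SpecialLinearGroup (Fin 2) F := ⟨_, (hdet (k * 0) (k * 1)).trans hk1⟩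
    have ht : (T : Matrix (Fin 2) (Fin 2) F).trace = k := by
      simp [T, Matrix.trace_fin_two]
    have ht4 : (T : Matrix (Fin 2) (Fin 2) F).trace ^ 2 ≠ 4 := by
      rw [ht]
      intro h
      exact hk (pow_eq_zero_iff (n := 2) two_ne_zero |>.1 (by linear_combination h + 2 * h20))
    have hA : A0 = Subgroup.centralizer ({T} : Set (Matrix.SpecialLinearGroup (Fin 2) F)) := by
      ext g
      rw [mem_centralizer_SL_two (not_isScalarTwo_of_trace ht4)]
      constructor
      · rintro ⟨x, y, -, hg⟩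
        refine ⟨x, y / k, ?_⟩
        rw [hg]
        apply ext_two <;> simp [T] <;> field_simp
      · rintro ⟨x, y, hg⟩
        have he : (g : Matrix (Fin 2) (Fin 2) F) = !![x, d * (y * k); y * k, x + y * k] := by
          rw [hg]
          apply ext_two <;> simp [T] <;> ring
        exact ⟨x, y * k, by rw [← hdet, ← he]; exact g.2, he⟩
    have hns : ∀ r : F, r ^ 2 - r * (T : Matrix (Fin 2) (Fin 2) F).trace + 1 ≠ 0 := by
      intro r hr
      rw [ht] at hr
      exact hne (r - k * 0) (-(k * 1)) (Or.inr (by simpa using hk))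
        (by linear_combination hr + hk1)
  · have := isCyclic_centralizer ht4
    rw [← hA] at this
    exact (Subgroup.equivMapOfInjective A0 _ hinj).isCyclic.1 this
  · rw [Subgroup.card_map_of_injective hinj, hA, card_centralizer_nonsplit_SL ht4 hns]

end Cfsg.Agent.S2503
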