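import Cfsg.Statements.S2504
import Cfsg.Agent.H55.AltAbelianBridge

set_option autoImplicit false
open Cfsg

namespace Cfsg.Agent.S2504

open Cfsg.Agent.H55.AltAb

/-- The largest order of an abelian subgroup of the alternating group of degree n is 3^k when n = 3k, 4·3^(k−1) when n = 3k + 1, and 16·3^(k−2) when n = 3k + 2, for every k ≥ 2 (so for all degrees n ≥ 6). -/
theorem result (k : ℕ) (hk : 2 ≤ k) :
    IsGreatest {c : ℕ | ∃ A : Subgroup (alternatingGroup (Fin (3 * k))), IsMulCommutative A ∧ Nat.card A = c} (3 ^ k) ∧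
    IsGreatest {c : ℕ | ∃ A : Subgroup (alternatingGroup (Fin (3 * k + 1))), IsMulCommutative A ∧ Nat.card A = c}
      (4 * 3 ^ (k - 1)) ∧
    IsGreatest {c : ℕ | ∃ A : Subgroup (alternatingGroup (Fin (3 * k + 2))), IsMulCommutative A ∧ Nat.card A = c}
      (16 * 3 ^ (k - 2)) := by
  have key : ∀ a b n v : ℕ, b ≤ 2 → n = 3 * a + 4 * b → v = 3 ^ a * 4 ^ b →
      IsGreatest {c : ℕ | ∃ A : Subgroup (alternatingGroup (Fin n)), IsMulCommutative A ∧ Nat.card A = c} v := by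
    intro a b n v hb hn hv
    obtain ⟨A, hA, hc⟩ := exists_alt a b hn
    refine ⟨⟨A, hA, hc.trans hv.symm⟩, ?_⟩
    rintro c ⟨C, hC, rfl⟩
    rw [hv, ← h_closed a b hb, ← hn]
    exact card_le_alt hC
  obtain ⟨j, rfl⟩ : ∃ j, k = j + 2 := ⟨k - 2, by omega⟩
  refine ⟨key (j + 2) 0 _ _ (by omega) (by ring) (by ring),
    key (j + 1) 1 _ _ (by omega) (by ring) ?_, key j 2 _ _ le_rfl (by ring) ?_⟩
  · rw [show j + 2 - 1 = j + 1 by omega]; ring
  · rw [Nat.add_sub_cancel]; ring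

end Cfsg.Agent.S2504
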