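import Cfsg.Statements.S2506
import Cfsg.Agent.H55.AltAbelianBridge

set_option autoImplicit false
open scoped Pointwise
open Cfsg

namespace Cfsg.Agent.S2506

open Cfsg.Agent.H55.AltAb Equiv

/-- In the alternating group of any degree, any two abelian subgroups of the largest possible order (among abelian subgroups) are conjugate. -/
theorem result (n : ℕ)
    (A B : Subgroup (alternatingGroup (Fin n))) (hA : IsMulCommutative A) (hB : IsMulCommutative B)
    (hAmax : ∀ C : Subgroup (alternatingGroup (Fin n)), IsMulCommutative C → Nat.card C ≤ Nat.card A)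
    (hBmax : ∀ C : Subgroup (alternatingGroup (Fin n)), IsMulCommutative C → Nat.card C ≤ Nat.card B) :
    ∃ g : alternatingGroup (Fin n), B = MulAut.conj g • A := by
  rcases Nat.lt_or_ge n 3 with hn | hn
  · have : Subsingleton (alternatingGroup (Fin n)) := by
      interval_cases n <;> exact ⟨by decide⟩
    exact ⟨1, Subgroup.ext fun x => by
      rw [Subsingleton.elim x 1]; exact iff_of_true B.one_mem (Subgroup.one_mem _)⟩
  rcases eq_or_ne n 5 with rfl | hn5
  · have : Fact (Nat.Prime 5) := ⟨by norm_num⟩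
    have hcard : Nat.card (alternatingGroup (Fin 5)) = 60 := by
      rw [nat_card_alternatingGroup, Nat.card_eq_fintype_card, Fintype.card_fin]; rfl
    obtain ⟨c, hc⟩ := exists_prime_orderOf_dvd_card' (G := alternatingGroup (Fin 5)) 5
      (by rw [hcard]; norm_num)
    have h5 : ∀ X : Subgroup (alternatingGroup (Fin 5)), IsMulCommutative X →
        (∀ C : Subgroup (alternatingGroup (Fin 5)), IsMulCommutative C → Nat.card C ≤ Nat.card X) →
        Nat.card X = 5 := fun X hX hm => by
      refine le_antisymm ((card_le_alt hX).trans (le_of_eq (by simp [h]))) ?_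
      have h1 := hm (Subgroup.zpowers c) inferInstance
      rwa [Nat.card_zpowers, hc] at h1
    have hfac : (Nat.factorization 60) 5 = 1 := by
      rw [show (60 : ℕ) = 12 * 5 by rfl, Nat.factorization_mul_apply_of_coprime (by decide),
        Nat.Prime.factorization_self (by norm_num), Nat.factorization_eq_zero_of_not_dvd (by decide)]
    let P : Sylow 5 (alternatingGroup (Fin 5)) :=
      Sylow.ofCard A (by rw [h5 A hA hAmax, hcard, hfac]; rfl)
    let Q : Sylow 5 (alternatingGroup (Fin 5)) :=
      Sylow.ofCard B (by rw [h5 B hB hBmax, hcard, hfac]; rfl)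
    obtain ⟨g, hg⟩ := MulAction.exists_smul_eq (alternatingGroup (Fin 5)) P Q
    exact ⟨g, (congrArg Sylow.toSubgroup hg).symm⟩
  have eA := max_eq_h hn hn5 hA hAmax
  have eB := max_eq_h hn hn5 hB hBmax
  have cA := (card_map_alt A).trans eA
  have cB := (card_map_alt B).trans eB
  obtain ⟨σ, hσ, hconj⟩ : ∃ σ : Perm (Fin n), Perm.sign σ = 1 ∧
      ∀ a ∈ A.map (alternatingGroup (Fin n)).subtype,
        σ * a * σ⁻¹ ∈ B.map (alternatingGroup (Fin n)).subtype := by
    obtain ⟨σ, -, hσ⟩ := exists_conj (good_map hA) (good_map hB) rfl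
      (Or.inr ⟨by simpa using hn, by simpa using hn5⟩) (by simpa using cA) (by simpa using cB)
    rcases Int.units_eq_one_or (Perm.sign σ) with hs | hs
    · exact ⟨σ, hs, hσ⟩
    obtain ⟨τ, hτ, hτA⟩ := exists_odd_normalizing (good_map hA) (by simpa using hn)
      (by simpa using hn5) (by simpa using cA)
    refine ⟨σ * τ, by rw [map_mul, hs, hτ]; decide, fun a ha => ?_⟩
    have := hσ _ (hτA a ha)
    rwa [show σ * τ * a * (σ * τ)⁻¹ = σ * (τ * a * τ⁻¹) * σ⁻¹ by group]
  refine ⟨⟨σ, Perm.mem_alternatingGroup.2 hσ⟩, (Subgroup.eq_of_le_of_card_ge ?_ ?_).symm⟩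
  · rintro _ ⟨a, ha, rfl⟩
    obtain ⟨b, hb, hab⟩ := hconj _ ⟨a, ha, rfl⟩
    let gg : alternatingGroup (Fin n) := ⟨σ, Perm.mem_alternatingGroup.2 hσ⟩
    have e : MulAut.conj gg a = b := Subtype.ext
      (show σ * (a : Perm (Fin n)) * σ⁻¹ = (b : Perm (Fin n)) from hab.symm)
    show MulAut.conj gg a ∈ B
    rw [e]
    exact hb
  · rw [eB, ← eA]
    exact le_of_eq (Nat.card_congr (Subgroup.equivSMul _ A).toEquiv)

end Cfsg.Agent.S2506
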