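import Cfsg.Statements.S2510
import Cfsg.Agent.H55.PSLTorus

set_option autoImplicit false
open Cfsg

namespace Cfsg.Agent.S2510

open Cfsg.Agent.H55 Polynomial

theorem range_subset {A B : Type*} [Group A] [Finite A] [Group B]
    (h : ∀ b : B, ∃ a : A, orderOf b ∣ orderOf a) :
    Set.range (orderOf : B → ℕ) ⊆ Set.range (orderOf : A → ℕ) := by
  rintro _ ⟨b, rfl⟩
  obtain ⟨a, ha⟩ := h b
  have h0 : 0 < orderOf a := orderOf_pos a
  refine ⟨a ^ (orderOf a / orderOf b), ?_⟩
  rw [orderOf_pow_of_dvd (Nat.div_ne_zero_iff.2 ⟨fun h => h0.ne' (Nat.eq_zero_of_zero_dvd (h ▸ ha)),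
    Nat.le_of_dvd h0 ha⟩) (Nat.div_dvd_of_dvd ha), Nat.div_div_self ha h0.ne']

theorem classify {F : Type*} [Field F] [Finite F] (p : ℕ) [Fact p.Prime] [CharP F p] {n r : ℕ}
    (hn : 2 ≤ n) (hr : r.Prime) (hrq : r ∣ Nat.card F - 1) (hrn : ¬ r ∣ n) :
    ∃ Y : Matrix.ProjectiveSpecialLinearGroup (Fin n) F,
      (∃ y : Matrix.ProjectiveSpecialLinearGroup (Fin n) F, r ∣ orderOf y) ∧
      ∀ x : Matrix.ProjectiveSpecialLinearGroup (Fin n) F,
        (∃ y : Matrix.ProjectiveSpecialLinearGroup (Fin n) F, Nat.lcm (orderOf x) r ∣ orderOf y) ∨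
        orderOf x ∣ orderOf Y ∨
        ((∃ s : ℕ, orderOf x = p ^ s) ∧ ∃ j : ℕ, n - 1 = p ^ j) := by
  obtain ⟨Y, hY⟩ := exists_coxeter_element (F := F) p (n := n) (by omega)
  refine ⟨Y, ?_, fun x => ?_⟩
  · obtain ⟨A, P, h1, h2, h3, h4, -⟩ := exists_block_element (F := F) p (n := n) (e := 1) le_rfl (by omega)
    obtain ⟨y, hy⟩ := exists_order_of_idempotent hr hrq hrn A P h1 h2 h3 h4
    exact ⟨y, (Nat.dvd_lcm_right _ _).trans hy⟩
  obtain ⟨A, rfl⟩ := QuotientGroup.mk'_surjective _ x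
  rcases idempotent_or_primary (A : Matrix (Fin n) (Fin n) F) (by omega) with
    ⟨P, h1, h2, h3, h4⟩ | ⟨f, m, hfm, hf, hm, hfA, hle⟩
  · exact Or.inl (exists_order_of_idempotent hr hrq hrn A P h1 h2 h3 h4)
  have he : 1 ≤ f.natDegree := hf.natDegree_pos
  have hef : f.natDegree * 1 ≤ f.natDegree * m := Nat.mul_le_mul_left _ hm
  set s := Nat.clog p m with hs
  have hp1 : 1 < p := (Fact.out : p.Prime).one_lt
  have hms : m ≤ p ^ s := Nat.le_pow_clog hp1 m
  have hbound := orderOf_primary_dvd p A hf m s hms hfA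
  rcases eq_or_lt_of_le (show f.natDegree ≤ n by omega) with he1 | he1
  · right; left
    have hm1 : m = 1 := by
      have : n * m ≤ n := he1 ▸ hle
      have : m ≤ 1 := Nat.le_of_mul_le_mul_left (by simpa using this) (by omega : 0 < n)
      omega
    rw [hm1, pow_one] at hfA
    exact hY A f hfm hf he1 hfA
  by_cases hst : s ≤ Nat.clog p (n - f.natDegree)
  · left
    obtain ⟨B, P, h1, h2, h3, h4, hB⟩ := exists_block_element (F := F) p (n := n) he he1
    obtain ⟨y, hy⟩ := exists_order_of_idempotent hr hrq hrn B P h1 h2 h3 h4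
    refine ⟨y, (Nat.lcm_dvd ?_ (Nat.dvd_lcm_right _ _)).trans hy⟩
    exact ((hbound.trans (Nat.mul_dvd_mul_left _ (pow_dvd_pow p hst))).trans hB).trans
      (Nat.dvd_lcm_left _ _)
  · right; right
    have hlt : n - f.natDegree < m := by
      by_contra h
      exact hst (Nat.clog_mono_right p (not_lt.1 h))
    have hf1 : f.natDegree = 1 := by
      by_contra hne
      obtain ⟨e, he'⟩ : ∃ e, f.natDegree = e + 2 := ⟨f.natDegree - 2, by omega⟩
      rw [he'] at hle hlt he1
      obtain ⟨m', rfl⟩ : ∃ m', m = m' + 1 := ⟨m - 1, by omega⟩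
      rcases Nat.eq_zero_or_pos m' with rfl | hm'
      · omega
      have : e * 1 ≤ e * m' := Nat.mul_le_mul_left e hm'
      simp only [Nat.add_mul, Nat.mul_add, mul_one] at hle
      omega
    rw [hf1] at hbound hlt hle
    have hN : (Nat.card F ^ 1 - 1) / (Nat.card F - 1) = 1 := by
      rw [pow_one]
      exact Nat.div_self (by have := Finite.one_lt_card (α := F); omega)
    rw [hN, one_mul] at hbound
    obtain ⟨i, -, hi⟩ := (Nat.dvd_prime_pow Fact.out).1 hbound
    refine ⟨⟨i, hi⟩, ?_⟩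
    have hmn : m = n := by omega
    obtain ⟨s', hs'⟩ : ∃ s', s = s' + 1 := ⟨s - 1, by omega⟩
    refine ⟨s', le_antisymm ?_ ?_⟩
    · by_contra hlt'
      apply hst
      rw [hf1, hs']
      by_contra h
      have := (Nat.clog_le_iff_le_pow hp1).1 (show Nat.clog p (n - 1) ≤ s' by omega)
      omega
    · have := Nat.pow_lt_of_lt_clog (b := p) (y := s') (x := m) (by omega)
      omega

/-- Let F be a finite field with q = p^a elements, n ≥ 2 (with q ≥ 4 when n = 2), L = PSL(n, F), and let r be a prime dividing q − 1 and not dividing n. Then for every m the direct product L × L × L × (ℤ/r)^m has the same set of element orders as L × L × L; and if n − 1 ≠ p^j for every j ≥ 0 (so never when n = 2, since 1 = p^0), then already L × L × (ℤ/r)^m has the same set of element orders as L × L. -/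
theorem result {F : Type*} [Field F] [Fintype F] (p a n r m : ℕ) (hp : p.Prime) (ha : 1 ≤ a) (hF : Fintype.card F = p ^ a)
    (hn : 2 ≤ n) (hn2 : n = 2 → 4 ≤ Fintype.card F) (hr : r.Prime) (hrq : r ∣ Fintype.card F - 1) (hrn : ¬ r ∣ n) :
    Set.range (orderOf : Matrix.ProjectiveSpecialLinearGroup (Fin n) F × Matrix.ProjectiveSpecialLinearGroup (Fin n) F × Matrix.ProjectiveSpecialLinearGroup (Fin n) F × Multiplicative (Fin m → ZMod r) → ℕ) =
      Set.range (orderOf : Matrix.ProjectiveSpecialLinearGroup (Fin n) F × Matrix.ProjectiveSpecialLinearGroup (Fin n) F × Matrix.ProjectiveSpecialLinearGroup (Fin n) F → ℕ) ∧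
    ((¬ ∃ j : ℕ, n - 1 = p ^ j) →
      Set.range (orderOf : Matrix.ProjectiveSpecialLinearGroup (Fin n) F × Matrix.ProjectiveSpecialLinearGroup (Fin n) F × Multiplicative (Fin m → ZMod r) → ℕ) =
        Set.range (orderOf : Matrix.ProjectiveSpecialLinearGroup (Fin n) F × Matrix.ProjectiveSpecialLinearGroup (Fin n) F → ℕ)) := by
  have := Fact.mk hp
  have : CharP F p := charP_of_card_eq_prime_pow hF
  have : NeZero r := ⟨hr.ne_zero⟩
  obtain ⟨Y, ⟨z, hz⟩, hcl⟩ := classify (F := F) p hn hr (by rwa [Nat.card_eq_fintype_card]) hrn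
  have hv : ∀ v : Multiplicative (Fin m → ZMod r), orderOf v ∣ r := by
    intro v
    apply orderOf_dvd_of_pow_eq_one
    apply Multiplicative.toAdd.injective
    rw [toAdd_pow, toAdd_one]
    funext i
    simp
  constructor
  · refine Set.Subset.antisymm (range_subset ?_) (range_subset ?_)
    · rintro ⟨x, y, w, v⟩
      simp only [Prod.orderOf]
      suffices h : ∃ a b c : Matrix.ProjectiveSpecialLinearGroup (Fin n) F,
          orderOf x ∣ (orderOf a).lcm ((orderOf b).lcm (orderOf c)) ∧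
          orderOf y ∣ (orderOf a).lcm ((orderOf b).lcm (orderOf c)) ∧
          orderOf w ∣ (orderOf a).lcm ((orderOf b).lcm (orderOf c)) ∧
          r ∣ (orderOf a).lcm ((orderOf b).lcm (orderOf c)) by
        obtain ⟨a, b, c, h1, h2, h3, h4⟩ := h
        exact ⟨(a, b, c), by
          simp only [Prod.orderOf]
          exact Nat.lcm_dvd h1 (Nat.lcm_dvd h2 (Nat.lcm_dvd h3 ((hv v).trans h4)))⟩
      have d1 : ∀ a b c : ℕ, a ∣ a.lcm (b.lcm c) := fun _ _ _ => Nat.dvd_lcm_left _ _
      have d2 : ∀ a b c : ℕ, b ∣ a.lcm (b.lcm c) := fun _ _ _ =>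
        (Nat.dvd_lcm_left _ _).trans (Nat.dvd_lcm_right _ _)
      have d3 : ∀ a b c : ℕ, c ∣ a.lcm (b.lcm c) := fun _ _ _ =>
        (Nat.dvd_lcm_right _ _).trans (Nat.dvd_lcm_right _ _)
      rcases hcl x with ⟨a, ha'⟩ | hx
      · exact ⟨a, y, w, ((Nat.dvd_lcm_left _ _).trans ha').trans (d1 _ _ _), d2 _ _ _, d3 _ _ _,
          ((Nat.dvd_lcm_right _ _).trans ha').trans (d1 _ _ _)⟩
      rcases hcl y with ⟨a, ha'⟩ | hy
      · exact ⟨x, a, w, d1 _ _ _, ((Nat.dvd_lcm_left _ _).trans ha').trans (d2 _ _ _), d3 _ _ _,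
          ((Nat.dvd_lcm_right _ _).trans ha').trans (d2 _ _ _)⟩
      rcases hcl w with ⟨a, ha'⟩ | hw
      · exact ⟨x, y, a, d1 _ _ _, d2 _ _ _, ((Nat.dvd_lcm_left _ _).trans ha').trans (d3 _ _ _),
          ((Nat.dvd_lcm_right _ _).trans ha').trans (d3 _ _ _)⟩
      obtain ⟨U, hUx, hUy, hUw⟩ : ∃ U : Matrix.ProjectiveSpecialLinearGroup (Fin n) F,
          (orderOf x ∣ orderOf Y ∨ orderOf x ∣ orderOf U) ∧
          (orderOf y ∣ orderOf Y ∨ orderOf y ∣ orderOf U) ∧
          (orderOf w ∣ orderOf Y ∨ orderOf w ∣ orderOf U) := by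
        classical
        have hmax : ∀ l : List (Matrix.ProjectiveSpecialLinearGroup (Fin n) F),
            ∃ U : Matrix.ProjectiveSpecialLinearGroup (Fin n) F, (∃ s, orderOf U = p ^ s) ∧
              ∀ t ∈ l, ∀ s, orderOf t = p ^ s → orderOf t ∣ orderOf U := by
          intro l
          induction l with
          | nil => exact ⟨1, ⟨0, by simp⟩, by simp⟩
          | cons t l ih =>
            obtain ⟨U, ⟨u, hu⟩, hU⟩ := ih
            by_cases hs : ∃ s, orderOf t = p ^ s ∧ u ≤ s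
            · obtain ⟨s, hs1, hs2⟩ := hs
              refine ⟨t, ⟨s, hs1⟩, fun t' ht' s' hs' => ?_⟩
              rcases List.mem_cons.1 ht' with rfl | ht'
              · exact dvd_rfl
              · exact (hU t' ht' s' hs').trans (hu ▸ hs1 ▸ pow_dvd_pow p hs2)
            · refine ⟨U, ⟨u, hu⟩, fun t' ht' s' hs' => ?_⟩
              rcases List.mem_cons.1 ht' with rfl | ht'
              · rw [hs', hu]
                exact pow_dvd_pow p (not_lt.1 fun h => hs ⟨s', hs', h.le⟩)
              · exact hU t' ht' s' hs'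
        obtain ⟨U, -, hU⟩ := hmax [x, y, w]
        exact ⟨U, hx.imp_right fun ⟨⟨s, hs⟩, _⟩ => hU x (by simp) s hs,
          hy.imp_right fun ⟨⟨s, hs⟩, _⟩ => hU y (by simp) s hs,
          hw.imp_right fun ⟨⟨s, hs⟩, _⟩ => hU w (by simp) s hs⟩
      exact ⟨Y, U, z, hUx.elim (fun h => h.trans (d1 _ _ _)) (fun h => h.trans (d2 _ _ _)),
        hUy.elim (fun h => h.trans (d1 _ _ _)) (fun h => h.trans (d2 _ _ _)),
        hUw.elim (fun h => h.trans (d1 _ _ _)) (fun h => h.trans (d2 _ _ _)),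
        hz.trans (d3 _ _ _)⟩
    · rintro ⟨x, y, w⟩
      exact ⟨(x, y, w, 1), by simp [Prod.orderOf]⟩
  · intro hj
    refine Set.Subset.antisymm (range_subset ?_) (range_subset ?_)
    · rintro ⟨x, y, v⟩
      simp only [Prod.orderOf]
      rcases hcl x with ⟨a, ha'⟩ | hx | ⟨-, h⟩
      · exact ⟨(a, y), by
          simp only [Prod.orderOf]
          exact Nat.lcm_dvd (((Nat.dvd_lcm_left _ _).trans ha').trans (Nat.dvd_lcm_left _ _))
            (Nat.lcm_dvd (Nat.dvd_lcm_right _ _)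
              (((hv v).trans ((Nat.dvd_lcm_right _ _).trans ha')).trans (Nat.dvd_lcm_left _ _)))⟩
      rcases hcl y with ⟨a, ha'⟩ | hy | ⟨-, h⟩
      · exact ⟨(x, a), by
          simp only [Prod.orderOf]
          exact Nat.lcm_dvd (Nat.dvd_lcm_left _ _)
            (Nat.lcm_dvd (((Nat.dvd_lcm_left _ _).trans ha').trans (Nat.dvd_lcm_right _ _))
              (((hv v).trans ((Nat.dvd_lcm_right _ _).trans ha')).trans (Nat.dvd_lcm_right _ _)))⟩
      · exact ⟨(Y, z), by
          simp only [Prod.orderOf]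
          exact Nat.lcm_dvd (hx.trans (Nat.dvd_lcm_left _ _))
            (Nat.lcm_dvd (hy.trans (Nat.dvd_lcm_left _ _))
              (((hv v).trans hz).trans (Nat.dvd_lcm_right _ _)))⟩
      · exact absurd h hj
      · exact absurd h hj
    · rintro ⟨x, y⟩
      exact ⟨(x, y, 1), by simp [Prod.orderOf]⟩

end Cfsg.Agent.S2510
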