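import Cfsg.Statements.S2511
import Cfsg.Agent.H55.UnitaryOrders

set_option autoImplicit false
open Cfsg

namespace Cfsg.Agent.S2511

theorem range_subset {A B : Type*} [Group A] [Finite A] [Group B]
    (h : ∀ b : B, ∃ a : A, orderOf b ∣ orderOf a) :
    Set.range (orderOf : B → ℕ) ⊆ Set.range (orderOf : A → ℕ) := by
  rintro _ ⟨b, rfl⟩
  obtain ⟨a, ha⟩ := h b
  exact Cfsg.Agent.H55.mem_range_orderOf_of_dvd ha

/-- Consequence of the trichotomy for the direct powers. -/
theorem ranges_of_classify {G : Type*} [Group G] [Finite G] {p r n m : ℕ} [NeZero r] (Y z : G)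
    (hz : r ∣ orderOf z)
    (hcl : ∀ x : G, (∃ y : G, Nat.lcm (orderOf x) r ∣ orderOf y) ∨ orderOf x ∣ orderOf Y ∨
      ((∃ s : ℕ, orderOf x = p ^ s) ∧ ∃ j : ℕ, n - 1 = p ^ j)) :
    Set.range (orderOf : G × G × G × Multiplicative (Fin m → ZMod r) → ℕ) =
        Set.range (orderOf : G × G × G → ℕ) ∧
      ((¬ ∃ j : ℕ, n - 1 = p ^ j) →
        Set.range (orderOf : G × G × Multiplicative (Fin m → ZMod r) → ℕ) =
          Set.range (orderOf : G × G → ℕ)) := by
  have hv : ∀ v : Multiplicative (Fin m → ZMod r), orderOf v ∣ r := by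
    intro v
    apply orderOf_dvd_of_pow_eq_one
    apply Multiplicative.toAdd.injective
    rw [toAdd_pow, toAdd_one]
    funext i
    simp
  constructor
  · refine Set.Subset.antisymm (range_subset ?_) (range_subset ?_)
    · rintro ⟨x, y, w, v⟩
      simp only [Prod.orderOf]
      suffices h : ∃ a b c : G,
          orderOf x ∣ (orderOf a).lcm ((orderOf b).lcm (orderOf c)) ∧
          orderOf y ∣ (orderOf a).lcm ((orderOf b).lcm (orderOf c)) ∧
          orderOf w ∣ (orderOf a).lcm ((orderOf b).lcm (orderOf c)) ∧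
          r ∣ (orderOf a).lcm ((orderOf b).lcm (orderOf c)) by
        obtain ⟨a, b, c, h1, h2, h3, h4⟩ := h
        exact ⟨(a, b, c), by
          simp only [Prod.orderOf]
          exact Nat.lcm_dvd h1 (Nat.lcm_dvd h2 (Nat.lcm_dvd h3 ((hv v).trans h4)))⟩
      have d1 : ∀ a b c : ℕ, a ∣ a.lcm (b.lcm c) := fun _ _ _ => Nat.dvd_lcm_left _ _
      have d2 : ∀ a b c : ℕ, b ∣ a.lcm (b.lcm c) := fun _ _ _ =>
        (Nat.dvd_lcm_left _ _).trans (Nat.dvd_lcm_right _ _)
      have d3 : ∀ a b c : ℕ, c ∣ a.lcm (b.lcm c) := fun _ _ _ =>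
        (Nat.dvd_lcm_right _ _).trans (Nat.dvd_lcm_right _ _)
      rcases hcl x with ⟨a, ha'⟩ | hx
      · exact ⟨a, y, w, ((Nat.dvd_lcm_left _ _).trans ha').trans (d1 _ _ _), d2 _ _ _, d3 _ _ _,
          ((Nat.dvd_lcm_right _ _).trans ha').trans (d1 _ _ _)⟩
      rcases hcl y with ⟨a, ha'⟩ | hy
      · exact ⟨x, a, w, d1 _ _ _, ((Nat.dvd_lcm_left _ _).trans ha').trans (d2 _ _ _), d3 _ _ _,
          ((Nat.dvd_lcm_right _ _).trans ha').trans (d2 _ _ _)⟩
      rcases hcl w with ⟨a, ha'⟩ | hw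
      · exact ⟨x, y, a, d1 _ _ _, d2 _ _ _, ((Nat.dvd_lcm_left _ _).trans ha').trans (d3 _ _ _),
          ((Nat.dvd_lcm_right _ _).trans ha').trans (d3 _ _ _)⟩
      obtain ⟨U, hUx, hUy, hUw⟩ : ∃ U : G,
          (orderOf x ∣ orderOf Y ∨ orderOf x ∣ orderOf U) ∧
          (orderOf y ∣ orderOf Y ∨ orderOf y ∣ orderOf U) ∧
          (orderOf w ∣ orderOf Y ∨ orderOf w ∣ orderOf U) := by
        classical
        have hmax : ∀ l : List (G),
            ∃ U : G, (∃ s, orderOf U = p ^ s) ∧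
              ∀ t ∈ l, ∀ s, orderOf t = p ^ s → orderOf t ∣ orderOf U := by
          intro l
          induction l with
          | nil => exact ⟨1, ⟨0, by simp⟩, by simp⟩
          | cons t l ih =>
            obtain ⟨U, ⟨u, hu⟩, hU⟩ := ih
            by_cases hs : ∃ s, orderOf t = p ^ s ∧ u ≤ s
            · obtain ⟨s, hs1, hs2⟩ := hs
              refine ⟨t, ⟨s, hs1⟩, fun t' ht' s' hs' => ?_⟩
              rcases List.mem_cons.1 ht' with rfl | ht'
              · exact dvd_rfl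
              · exact (hU t' ht' s' hs').trans (hu ▸ hs1 ▸ pow_dvd_pow p hs2)
            · refine ⟨U, ⟨u, hu⟩, fun t' ht' s' hs' => ?_⟩
              rcases List.mem_cons.1 ht' with rfl | ht'
              · rw [hs', hu]
                exact pow_dvd_pow p (not_lt.1 fun h => hs ⟨s', hs', h.le⟩)
              · exact hU t' ht' s' hs'
        obtain ⟨U, -, hU⟩ := hmax [x, y, w]
        exact ⟨U, hx.imp_right fun ⟨⟨s, hs⟩, _⟩ => hU x (by simp) s hs,
          hy.imp_right fun ⟨⟨s, hs⟩, _⟩ => hU y (by simp) s hs,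
          hw.imp_right fun ⟨⟨s, hs⟩, _⟩ => hU w (by simp) s hs⟩
      exact ⟨Y, U, z, hUx.elim (fun h => h.trans (d1 _ _ _)) (fun h => h.trans (d2 _ _ _)),
        hUy.elim (fun h => h.trans (d1 _ _ _)) (fun h => h.trans (d2 _ _ _)),
        hUw.elim (fun h => h.trans (d1 _ _ _)) (fun h => h.trans (d2 _ _ _)),
        hz.trans (d3 _ _ _)⟩
    · rintro ⟨x, y, w⟩
      exact ⟨(x, y, w, 1), by simp [Prod.orderOf]⟩
  · intro hj
    refine Set.Subset.antisymm (range_subset ?_) (range_subset ?_)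
    · rintro ⟨x, y, v⟩
      simp only [Prod.orderOf]
      rcases hcl x with ⟨a, ha'⟩ | hx | ⟨-, h⟩
      · exact ⟨(a, y), by
          simp only [Prod.orderOf]
          exact Nat.lcm_dvd (((Nat.dvd_lcm_left _ _).trans ha').trans (Nat.dvd_lcm_left _ _))
            (Nat.lcm_dvd (Nat.dvd_lcm_right _ _)
              (((hv v).trans ((Nat.dvd_lcm_right _ _).trans ha')).trans (Nat.dvd_lcm_left _ _)))⟩
      rcases hcl y with ⟨a, ha'⟩ | hy | ⟨-, h⟩
      · exact ⟨(x, a), by
          simp only [Prod.orderOf]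
          exact Nat.lcm_dvd (Nat.dvd_lcm_left _ _)
            (Nat.lcm_dvd (((Nat.dvd_lcm_left _ _).trans ha').trans (Nat.dvd_lcm_right _ _))
              (((hv v).trans ((Nat.dvd_lcm_right _ _).trans ha')).trans (Nat.dvd_lcm_right _ _)))⟩
      · exact ⟨(Y, z), by
          simp only [Prod.orderOf]
          exact Nat.lcm_dvd (hx.trans (Nat.dvd_lcm_left _ _))
            (Nat.lcm_dvd (hy.trans (Nat.dvd_lcm_left _ _))
              (((hv v).trans hz).trans (Nat.dvd_lcm_right _ _)))⟩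
      · exact absurd h hj
      · exact absurd h hj
    · rintro ⟨x, y⟩
      exact ⟨(x, y, 1), by simp [Prod.orderOf]⟩

/-- Let F be a finite field with q² elements, q = p^a, n ≥ 3 with (n, q) ≠ (3, 2), L = PSU(n, q) realised over F, and let r be a prime dividing q + 1 and not dividing n. Then for every m the direct product L × L × L × (ℤ/r)^m has the same set of element orders as L × L × L; and if n − 1 is not a power of p, then already L × L × (ℤ/r)^m has the same set of element orders as L × L. -/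
theorem result {F : Type*} [Field F] [Fintype F] (p a n q r m : ℕ) (hp : p.Prime) (ha : 1 ≤ a) (hq : q = p ^ a) (hF : Fintype.card F = q ^ 2)
    (hn : 3 ≤ n) (hn3 : ¬ (n = 3 ∧ q = 2)) (hr : r.Prime) (hrq : r ∣ q + 1) (hrn : ¬ r ∣ n) :
    Set.range (orderOf : Cfsg.PSU n F q × Cfsg.PSU n F q × Cfsg.PSU n F q × Multiplicative (Fin m → ZMod r) → ℕ) = Set.range (orderOf : Cfsg.PSU n F q × Cfsg.PSU n F q × Cfsg.PSU n F q → ℕ) ∧
    ((¬ ∃ j : ℕ, n - 1 = p ^ j) →
      Set.range (orderOf : Cfsg.PSU n F q × Cfsg.PSU n F q × Multiplicative (Fin m → ZMod r) → ℕ) = Set.range (orderOf : Cfsg.PSU n F q × Cfsg.PSU n F q → ℕ)) := by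
  have := Fact.mk hp
  have : CharP F p := charP_of_card_eq_prime_pow (show Fintype.card F = p ^ (a * 2) by rw [hF, hq, pow_mul])
  have : NeZero r := ⟨hr.ne_zero⟩
  obtain ⟨Y, ⟨z, hz⟩, hcl⟩ := Cfsg.Agent.H55.psu_classify (n := n) hF p
    (hq ▸ dvd_pow_self p (show a ≠ 0 by omega)) (by omega) hr hrq hrn
  exact ranges_of_classify Y z hz hcl

end Cfsg.Agent.S2511
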