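import Cfsg.Statements.S2512
import Cfsg.Agent.H55.SpOrders

set_option autoImplicit false
open Cfsg

namespace Cfsg.Agent.S2512

open Cfsg.Agent.H55

theorem range_subset {A B : Type*} [Group A] [Finite A] [Group B]
    (h : ∀ b : B, ∃ a : A, orderOf b ∣ orderOf a) :
    Set.range (orderOf : B → ℕ) ⊆ Set.range (orderOf : A → ℕ) := by
  rintro _ ⟨b, rfl⟩
  obtain ⟨a, ha⟩ := h b
  have h0 : 0 < orderOf a := orderOf_pos a
  refine ⟨a ^ (orderOf a / orderOf b), ?_⟩
  rw [orderOf_pow_of_dvd (Nat.div_ne_zero_iff.2 ⟨fun h => h0.ne' (Nat.eq_zero_of_zero_dvd (h ▸ ha)),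
    Nat.le_of_dvd h0 ha⟩) (Nat.div_dvd_of_dvd ha), Nat.div_div_self ha h0.ne']

theorem exists_max_power {G : Type*} [Group G] [Finite G] (p : ℕ) :
    ∃ U : G, ∀ x : G, ∀ s, orderOf x = p ^ s → orderOf x ∣ orderOf U := by
  classical
  cases nonempty_fintype G
  obtain ⟨U, hU, hmax⟩ := (Finset.univ.filter fun x : G => ∃ s, orderOf x = p ^ s).exists_max_image
    orderOf ⟨1, by simpa using ⟨0, by simp⟩⟩
  obtain ⟨u, hu⟩ := (Finset.mem_filter.1 hU).2
  refine ⟨U, fun x s hs => ?_⟩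
  have h := hmax x (Finset.mem_filter.2 ⟨Finset.mem_univ _, s, hs⟩)
  rw [hs, hu] at h ⊢
  by_cases hsu : s ≤ u
  · exact pow_dvd_pow p hsu
  · rcases le_or_gt p 1 with hp | hp
    · rcases Nat.le_one_iff_eq_zero_or_eq_one.1 hp with rfl | rfl
      · have := orderOf_pos x
        rw [hs] at this
        rw [zero_pow (by omega)] at this
        omega
      · simp
    · exact absurd ((Nat.pow_le_pow_iff_right hp).1 h) hsu

/-- Let F be a finite field of odd order q = p^a, n ≥ 2 (with q ≥ 3 automatic), and L = PSp(2n, F). Then for every m the direct product L × L × L × (ℤ/2)^m has the same set of element orders as L × L × L; and if 2n − 1 is not a power of p, then already L × L × (ℤ/2)^m has the same set of element orders as L × L. -/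
theorem result {F : Type*} [Field F] [Fintype F] (p a n m : ℕ) (hp : p.Prime) (ha : 1 ≤ a) (hF : Fintype.card F = p ^ a) (hodd : Odd (Fintype.card F))
    (hn : 2 ≤ n) :
    Set.range (orderOf : Cfsg.PSp n F × Cfsg.PSp n F × Cfsg.PSp n F × Multiplicative (Fin m → ZMod 2) → ℕ) = Set.range (orderOf : Cfsg.PSp n F × Cfsg.PSp n F × Cfsg.PSp n F → ℕ) ∧
    ((¬ ∃ j : ℕ, 2 * n - 1 = p ^ j) →
      Set.range (orderOf : Cfsg.PSp n F × Cfsg.PSp n F × Multiplicative (Fin m → ZMod 2) → ℕ) = Set.range (orderOf : Cfsg.PSp n F × Cfsg.PSp n F → ℕ)) := by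
  have := Fact.mk hp
  have : CharP F p := charP_of_card_eq_prime_pow hF
  have hp2 : p ≠ 2 := by
    rintro rfl
    rw [hF] at hodd
    exact Nat.not_even_iff_odd.2 hodd (Nat.even_pow.2 ⟨even_two, by omega⟩)
  obtain ⟨Y, ⟨z, hz⟩, hcl⟩ := psp_classify (F := F) p hp2 hn
  obtain ⟨U, hU⟩ := exists_max_power (G := Cfsg.PSp n F) p
  have hv : ∀ v : Multiplicative (Fin m → ZMod 2), orderOf v ∣ 2 := by
    intro v
    apply orderOf_dvd_of_pow_eq_one
    apply Multiplicative.toAdd.injective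
    rw [toAdd_pow, toAdd_one]
    funext i
    simp only [Pi.smul_apply, Pi.zero_apply, nsmul_eq_mul, ZMod.natCast_self, zero_mul]
  constructor
  · refine Set.Subset.antisymm (range_subset ?_) (range_subset ?_)
    · rintro ⟨x, y, w, v⟩
      simp only [Prod.orderOf]
      suffices h : ∃ a b c : Cfsg.PSp n F,
          orderOf x ∣ (orderOf a).lcm ((orderOf b).lcm (orderOf c)) ∧
          orderOf y ∣ (orderOf a).lcm ((orderOf b).lcm (orderOf c)) ∧
          orderOf w ∣ (orderOf a).lcm ((orderOf b).lcm (orderOf c)) ∧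
          2 ∣ (orderOf a).lcm ((orderOf b).lcm (orderOf c)) by
        obtain ⟨a, b, c, h1, h2, h3, h4⟩ := h
        exact ⟨(a, b, c), by
          simp only [Prod.orderOf]
          exact Nat.lcm_dvd h1 (Nat.lcm_dvd h2 (Nat.lcm_dvd h3 ((hv v).trans h4)))⟩
      have d1 : ∀ a b c : ℕ, a ∣ a.lcm (b.lcm c) := fun _ _ _ => Nat.dvd_lcm_left _ _
      have d2 : ∀ a b c : ℕ, b ∣ a.lcm (b.lcm c) := fun _ _ _ =>
        (Nat.dvd_lcm_left _ _).trans (Nat.dvd_lcm_right _ _)
      have d3 : ∀ a b c : ℕ, c ∣ a.lcm (b.lcm c) := fun _ _ _ =>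
        (Nat.dvd_lcm_right _ _).trans (Nat.dvd_lcm_right _ _)
      rcases hcl x with ⟨a, ha', ha2⟩ | hx
      · exact ⟨a, y, w, ha'.trans (d1 _ _ _), d2 _ _ _, d3 _ _ _, ha2.trans (d1 _ _ _)⟩
      rcases hcl y with ⟨a, ha', ha2⟩ | hy
      · exact ⟨x, a, w, d1 _ _ _, ha'.trans (d2 _ _ _), d3 _ _ _, ha2.trans (d2 _ _ _)⟩
      rcases hcl w with ⟨a, ha', ha2⟩ | hw
      · exact ⟨x, y, a, d1 _ _ _, d2 _ _ _, ha'.trans (d3 _ _ _), ha2.trans (d3 _ _ _)⟩
      have key : ∀ t : Cfsg.PSp n F, (orderOf t ∣ orderOf Y ∨ (∃ s, orderOf t = p ^ s) ∧ ∃ j, 2 * n - 1 = p ^ j) →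
          orderOf t ∣ (orderOf Y).lcm ((orderOf U).lcm (orderOf z)) := by
        rintro t (h | ⟨⟨s, hs⟩, -⟩)
        · exact h.trans (d1 _ _ _)
        · exact (hU t s hs).trans (d2 _ _ _)
      exact ⟨Y, U, z, key x hx, key y hy, key w hw, hz.trans (d3 _ _ _)⟩
    · rintro ⟨x, y, w⟩
      exact ⟨(x, y, w, 1), by simp [Prod.orderOf]⟩
  · intro hj
    refine Set.Subset.antisymm (range_subset ?_) (range_subset ?_)
    · rintro ⟨x, y, v⟩
      simp only [Prod.orderOf]
      rcases hcl x with ⟨a, ha', ha2⟩ | hx | ⟨-, h⟩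
      · exact ⟨(a, y), by
          simp only [Prod.orderOf]
          exact Nat.lcm_dvd (ha'.trans (Nat.dvd_lcm_left _ _))
            (Nat.lcm_dvd (Nat.dvd_lcm_right _ _) (((hv v).trans ha2).trans (Nat.dvd_lcm_left _ _)))⟩
      rcases hcl y with ⟨a, ha', ha2⟩ | hy | ⟨-, h⟩
      · exact ⟨(x, a), by
          simp only [Prod.orderOf]
          exact Nat.lcm_dvd (Nat.dvd_lcm_left _ _)
            (Nat.lcm_dvd (ha'.trans (Nat.dvd_lcm_right _ _)) (((hv v).trans ha2).trans (Nat.dvd_lcm_right _ _)))⟩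
      · exact ⟨(Y, z), by
          simp only [Prod.orderOf]
          exact Nat.lcm_dvd (hx.trans (Nat.dvd_lcm_left _ _))
            (Nat.lcm_dvd (hy.trans (Nat.dvd_lcm_left _ _)) (((hv v).trans hz).trans (Nat.dvd_lcm_right _ _)))⟩
      · exact absurd h hj
      · exact absurd h hj
    · rintro ⟨x, y⟩
      exact ⟨(x, y, 1), by simp [Prod.orderOf]⟩

end Cfsg.Agent.S2512
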