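import Cfsg.Statements.S2513
import Cfsg.Agent.H55.AlgEmb

set_option autoImplicit false
open Cfsg

namespace Cfsg.Agent.S2513

open Cfsg.Agent.H55 Polynomial

section

variable {F : Type*} [Field F] [Fintype F] (hF : Fintype.card F = 2)

include hF

theorem units_eq_one (c : Fˣ) : c = 1 := by
  have h : Nat.card Fˣ = 1 := by rw [Nat.card_units, Nat.card_eq_fintype_card, hF]
  have := (Nat.card_eq_one_iff_unique.1 h).1
  exact Subsingleton.elim _ _

theorem charTwo : CharP F 2 := by
  have : Fact (Nat.Prime 2) := ⟨Nat.prime_two⟩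
  exact charP_of_card_eq_prime hF

theorem exists_sl_order {n m : ℕ} (g : Matrix.GeneralLinearGroup (Fin n) F) (hg : orderOf g = m) :
    ∃ x : Matrix.SpecialLinearGroup (Fin n) F, orderOf x = m := by
  have hdet : Matrix.det (g : Matrix (Fin n) (Fin n) F) = 1 := by
    have := congrArg Units.val (units_eq_one hF (Matrix.GeneralLinearGroup.det g))
    simpa using this
  refine ⟨⟨g, hdet⟩, ?_⟩
  have hinj : Function.Injective
      (Matrix.SpecialLinearGroup.toGL : Matrix.SpecialLinearGroup (Fin n) F →* _) := by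
    intro a b h
    exact Subtype.ext (congrArg Units.val h)
  have h := orderOf_injective Matrix.SpecialLinearGroup.toGL hinj ⟨g, hdet⟩
  rw [← h, ← hg]
  exact congrArg orderOf (Units.ext rfl)

theorem exists_order_unit_field {n e : ℕ} (he : 1 ≤ e) (hen : e ≤ n) :
    ∃ x : Matrix.SpecialLinearGroup (Fin n) F, orderOf x = 2 ^ e - 1 := by
  have := charTwo hF
  have : Fact (Nat.Prime 2) := ⟨Nat.prime_two⟩
  have : NeZero e := ⟨by omega⟩
  let K := FiniteField.Extension F 2 e
  have : FiniteDimensional F K := inferInstance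
  let R := K × (Fin (n - e) → F)
  have hfin : Module.finrank F R = n := by
    rw [Module.finrank_prod, Module.finrank_fin_fun, FiniteField.finrank_extension]
    omega
  obtain ⟨u, hu⟩ := IsCyclic.exists_ofOrder_eq_natCard (α := Kˣ)
  have hcard : Nat.card Kˣ = 2 ^ e - 1 := by
    rw [Nat.card_units, FiniteField.natCard_extension, Nat.card_eq_fintype_card, hF]
  let j : Kˣ →* Rˣ := (MulEquiv.prodUnits.symm.toMonoidHom).comp (MonoidHom.inl Kˣ (Fin (n - e) → F)ˣ)
  have hj : Function.Injective j :=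
    MulEquiv.prodUnits.symm.injective.comp (fun a b h => (Prod.ext_iff.1 h).1)
  refine exists_sl_order hF (algUnitsToGL hfin (j u)) ?_
  rw [orderOf_injective _ (algUnitsToGL_injective hfin), orderOf_injective _ hj, hu, hcard]

theorem exists_order_two_pow {n L : ℕ} (h1 : 2 ^ L < n) (h2 : n ≤ 2 ^ (L + 1)) :
    ∃ x : Matrix.SpecialLinearGroup (Fin n) F, orderOf x = 2 ^ (L + 1) := by
  have := charTwo hF
  have : Fact (Nat.Prime 2) := ⟨Nat.prime_two⟩
  let f : F[X] := X ^ n
  have hf : f.Monic := monic_X_pow n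
  let pb := AdjoinRoot.powerBasis' hf
  have hfin : Module.finrank F (AdjoinRoot f) = n := by
    rw [pb.finrank]; simp [pb, f]
  have : FiniteDimensional F (AdjoinRoot f) := pb.finite
  have hdeg : 0 < f.natDegree := by simp [f]; omega
  have : Nontrivial (AdjoinRoot f) := AdjoinRoot.nontrivial f (by
    rw [degree_eq_natDegree hf.ne_zero]; exact_mod_cast hdeg.ne')
  have : CharP (AdjoinRoot f) 2 :=
    charP_of_injective_algebraMap (algebraMap F (AdjoinRoot f)).injective 2
  have hpow : ∀ j, (1 + AdjoinRoot.root f) ^ 2 ^ j = 1 ↔ n ≤ 2 ^ j := by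
    intro j
    rw [add_pow_char_pow, one_pow, add_eq_left, ← AdjoinRoot.mk_X, ← map_pow, AdjoinRoot.mk_eq_zero]
    exact pow_dvd_pow_iff X_ne_zero not_isUnit_X
  have hlast := (hpow (L + 1)).2 h2
  let u : (AdjoinRoot f)ˣ := Units.ofPowEqOne _ _ hlast (by positivity)
  refine exists_sl_order hF (algUnitsToGL hfin u) ?_
  rw [orderOf_injective _ (algUnitsToGL_injective hfin)]
  refine orderOf_eq_prime_pow ?_ ?_
  · intro h
    have h' : (1 + AdjoinRoot.root f) ^ 2 ^ L = 1 := by
      simpa [u] using congrArg Units.val h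
    have := (hpow L).1 h'
    omega
  · exact Units.ext (by simpa [u] using hlast)

theorem center_eq_bot (n : ℕ) : Subgroup.center (Matrix.SpecialLinearGroup (Fin n) F) = ⊥ := by
  rw [Subgroup.eq_bot_iff_forall]
  intro A hA
  obtain ⟨r, hr, hA⟩ := Matrix.SpecialLinearGroup.mem_center_iff.1 hA
  rcases Nat.eq_zero_or_pos n with rfl | hn
  · exact Subsingleton.elim _ _
  have hr0 : r ≠ 0 := by
    rintro rfl
    simp [zero_pow hn.ne'] at hr
  have : r = 1 := congrArg Units.val (units_eq_one hF (Units.mk0 r hr0))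
  apply Subtype.ext
  rw [← hA, this, map_one]
  rfl

end

/-- The common exponent. -/
def expo (n : ℕ) : ℕ := (Finset.Icc 1 n).lcm (fun e => 2 ^ e - 1) * 2 ^ Nat.clog 2 n

theorem range_orderOf {G : Type*} [Group G] {M : ℕ} (hM : M ≠ 0) (hall : ∀ x : G, x ^ M = 1)
    (hex : ∃ x : G, M ∣ orderOf x) : Set.range (orderOf : G → ℕ) = {d | d ∣ M} := by
  ext d
  constructor
  · rintro ⟨x, rfl⟩
    exact orderOf_dvd_of_pow_eq_one (hall x)
  · intro hd
    obtain ⟨x, hx⟩ := hex
    obtain rfl : orderOf x = M := Nat.dvd_antisymm (orderOf_dvd_of_pow_eq_one (hall x)) hx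
    refine ⟨x ^ (orderOf x / d), ?_⟩
    rw [orderOf_pow_of_dvd (Nat.div_ne_zero_iff.2 ⟨(fun h => hM (Nat.eq_zero_of_zero_dvd (h ▸ hd))),
      Nat.le_of_dvd (Nat.pos_of_ne_zero hM) hd⟩) (Nat.div_dvd_of_dvd hd), Nat.div_div_self hd hM]

theorem key {F : Type*} [Field F] [Fintype F] (hF : Fintype.card F = 2) (n k : ℕ) (hn : 2 ≤ n)
    (hk : (n + 3) / 2 ≤ k) :
    Set.range (orderOf : (Fin k → Matrix.ProjectiveSpecialLinearGroup (Fin n) F) → ℕ) =
      {d | d ∣ expo n} := by
  have := charTwo hF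
  have : Fact (Nat.Prime 2) := ⟨Nat.prime_two⟩
  have hM : expo n ≠ 0 := by
    refine mul_ne_zero ?_ (by positivity)
    rw [Ne, Finset.lcm_eq_zero_iff]
    rintro ⟨e, he, h0⟩
    rw [Finset.mem_Icc] at he
    have : 2 ≤ 2 ^ e := Nat.le_self_pow (by omega) 2
    omega
  let π := QuotientGroup.mk' (Subgroup.center (Matrix.SpecialLinearGroup (Fin n) F))
  have hπ : Function.Injective π := by
    rw [← MonoidHom.ker_eq_bot_iff, QuotientGroup.ker_mk', center_eq_bot hF]
  refine range_orderOf hM ?_ ?_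
  · intro x
    funext i
    obtain ⟨A, hA⟩ := QuotientGroup.mk'_surjective _ (x i)
    have h : A ^ expo n = 1 := by
      apply Subtype.ext
      rw [Matrix.SpecialLinearGroup.coe_pow, Matrix.SpecialLinearGroup.coe_one]
      refine matrix_pow_eq_one 2 _ (by simp) _ _ (Nat.le_pow_clog one_lt_two n) ?_
      intro e h1 h2
      rw [Nat.card_eq_fintype_card, hF]
      exact Finset.dvd_lcm (f := fun e => 2 ^ e - 1) (Finset.mem_Icc.2 ⟨h1, h2⟩)
    rw [Pi.pow_apply, ← hA, ← map_pow, h, map_one]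
    rfl
  · have hclog : 1 ≤ Nat.clog 2 n := Nat.clog_pos one_lt_two hn
    obtain ⟨L, hL⟩ : ∃ L, Nat.clog 2 n = L + 1 := ⟨Nat.clog 2 n - 1, by omega⟩
    obtain ⟨u, hu⟩ := exists_order_two_pow hF (n := n) (L := L)
      (Nat.pow_lt_of_lt_clog (by omega)) (by rw [← hL]; exact Nat.le_pow_clog one_lt_two n)
    have hex : ∀ i : Fin k, ∃ y : Matrix.SpecialLinearGroup (Fin n) F,
        (i.1 < n - n / 2 → orderOf y = 2 ^ (n / 2 + 1 + i.1) - 1) ∧
        (i.1 = n - n / 2 → orderOf y = 2 ^ (L + 1)) := by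
      intro i
      by_cases hi : i.1 < n - n / 2
      · obtain ⟨y, hy⟩ := exists_order_unit_field hF (n := n) (e := n / 2 + 1 + i.1) (by omega) (by omega)
        exact ⟨y, fun _ => hy, fun h => by omega⟩
      · exact ⟨u, fun h => absurd h hi, fun _ => hu⟩
    choose y hy using hex
    refine ⟨fun i => π (y i), ?_⟩
    have hdvd : ∀ i : Fin k, orderOf (y i) ∣ orderOf (fun i => π (y i)) := by
      intro i
      rw [← orderOf_injective π hπ (y i)]
      exact orderOf_map_dvd (Pi.evalMonoidHom (fun _ : Fin k => Matrix.ProjectiveSpecialLinearGroup (Fin n) F) i) _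
    unfold expo
    have hodd : Nat.Coprime ((Finset.Icc 1 n).lcm (fun e => 2 ^ e - 1)) (2 ^ Nat.clog 2 n) := by
      refine Nat.Coprime.pow_right _ ?_
      have hall : ∀ e ∈ Finset.Icc 1 n, Nat.Coprime (2 ^ e - 1) 2 := by
        intro e he
        have he1 : 1 ≤ e := (Finset.mem_Icc.1 he).1
        have h2e : 2 ∣ 2 ^ e := dvd_pow_self 2 (by omega)
        have : 2 ≤ 2 ^ e := Nat.le_self_pow (by omega) 2
        rw [Nat.coprime_two_right, Nat.odd_iff]
        omega
      have hp : ((Finset.Icc 1 n).lcm (fun e => 2 ^ e - 1)) ∣ ∏ e ∈ Finset.Icc 1 n, (2 ^ e - 1) :=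
        Finset.lcm_dvd (fun e he => Finset.dvd_prod_of_mem _ he)
      exact (Nat.Coprime.prod_left hall).coprime_dvd_left hp
    refine hodd.mul_dvd_of_dvd_of_dvd (Finset.lcm_dvd fun e he => ?_) ?_
    · rw [Finset.mem_Icc] at he
      obtain ⟨c, hc1, hc2⟩ : ∃ c, n / 2 + 1 ≤ c * e ∧ c * e ≤ n := by
        refine ⟨n / e, ?_, Nat.div_mul_le_self n e⟩
        have h1 := Nat.div_add_mod n e
        have h2 := Nat.mod_lt n (show e > 0 by omega)
        have h3 : 1 * e ≤ n / e * e :=
          Nat.mul_le_mul_right e ((Nat.one_le_div_iff (by omega)).2 he.2)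
        rw [mul_comm e (n / e)] at h1
        omega
      have hlt : c * e - (n / 2 + 1) < k := by omega
      have h1 := hdvd ⟨c * e - (n / 2 + 1), hlt⟩
      rw [(hy ⟨_, hlt⟩).1 (by simp only; omega)] at h1
      simp only at h1
      rw [Nat.add_sub_cancel' hc1] at h1
      exact (Nat.pow_sub_one_dvd_pow_sub_one 2 ⟨c, mul_comm c e⟩).trans h1
    · have hlt : n - n / 2 < k := by omega
      have h1 := hdvd ⟨n - n / 2, hlt⟩
      rw [(hy ⟨_, hlt⟩).2 rfl] at h1
      rwa [hL]

/-- Let F be the field with two elements, n ≥ 2, L = PSL(n, F) and k₀ = ⌊(n + 3)/2⌋. Then for every k ≥ k₀ the direct product of k copies of L has the same set of element orders as the direct product of k₀ copies of L. -/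
theorem result {F : Type*} [Field F] [Fintype F] (hF : Fintype.card F = 2) (n k : ℕ) (hn : 2 ≤ n) (hk : (n + 3) / 2 ≤ k) :
    Set.range (orderOf : (Fin k → Matrix.ProjectiveSpecialLinearGroup (Fin n) F) → ℕ) = Set.range (orderOf : (Fin ((n + 3) / 2) → Matrix.ProjectiveSpecialLinearGroup (Fin n) F) → ℕ) :=
  (key hF n k hn hk).trans (key hF n _ hn le_rfl).symm

end Cfsg.Agent.S2513
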