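import Cfsg.Statements.S2514

set_option autoImplicit false
open Cfsg

namespace Cfsg.Agent.S2514

theorem exists_order_of_dvd {G : Type*} [Group G] [Finite G] (g : G) {d : ℕ} (hd : d ∣ orderOf g) :
    ∃ y : G, orderOf y = d := by
  have hg : 0 < orderOf g := orderOf_pos g
  refine ⟨g ^ (orderOf g / d), ?_⟩
  rw [orderOf_pow_of_dvd (Nat.div_ne_zero_iff.2 ⟨fun h => hg.ne' (Nat.eq_zero_of_zero_dvd (h ▸ hd)),
    Nat.le_of_dvd hg hd⟩) (Nat.div_dvd_of_dvd hd), Nat.div_div_self hd hg.ne']

theorem exists_max {G : Type*} [Group G] [Finite G] (g : G) :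
    ∃ m, orderOf g ∣ m ∧ m ∈ {n : ℕ | n ∈ Set.range (orderOf : G → ℕ) ∧ ∀ m ∈ Set.range (orderOf : G → ℕ), n ∣ m → m = n} := by
  classical
  cases nonempty_fintype G
  obtain ⟨y, hy, hmax⟩ := (Finset.univ.filter fun y : G => orderOf g ∣ orderOf y).exists_max_image
    orderOf ⟨g, by simp⟩
  refine ⟨orderOf y, (Finset.mem_filter.1 hy).2, ⟨y, rfl⟩, ?_⟩
  rintro _ ⟨z, rfl⟩ hz
  exact le_antisymm (hmax z (by simp [(Finset.mem_filter.1 hy).2.trans hz]))
    (Nat.le_of_dvd (orderOf_pos z) hz)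

theorem pi_split {G : Type*} [Group G] {m : ℕ} (x : Fin (m + 1) → G) (i : Fin (m + 1)) (n : ℕ) :
    x ^ n = 1 ↔ x i ^ n = 1 ∧ ∀ j : Fin m, x (i.succAbove j) ^ n = 1 := by
  simp only [funext_iff, Pi.pow_apply, Pi.one_apply]
  constructor
  · exact fun h => ⟨h i, fun j => h _⟩
  · intro h t
    rcases Fin.eq_self_or_eq_succAbove i t with rfl | ⟨j, rfl⟩
    exacts [h.1, h.2 j]

/-- For a finite group X write μ(X) for the set of element orders of X that are maximal under divisibility. Let G and H be finite groups and k ≥ 1 such that μ(H) ⊆ μ(G) and μ(G) has fewer than k elements outside μ(H). Then the direct product of k copies of G has the same set of element orders as the direct product of k − 1 copies of G with H. -/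
theorem result {G H : Type*} [Group G] [Finite G] [Group H] [Finite H] (k : ℕ) (hk : 1 ≤ k)
    (hsub : {n : ℕ | n ∈ Set.range (orderOf : H → ℕ) ∧ ∀ m ∈ Set.range (orderOf : H → ℕ), n ∣ m → m = n} ⊆ {n : ℕ | n ∈ Set.range (orderOf : G → ℕ) ∧ ∀ m ∈ Set.range (orderOf : G → ℕ), n ∣ m → m = n})
    (hfew : ({n : ℕ | n ∈ Set.range (orderOf : G → ℕ) ∧ ∀ m ∈ Set.range (orderOf : G → ℕ), n ∣ m → m = n} \ {n : ℕ | n ∈ Set.range (orderOf : H → ℕ) ∧ ∀ m ∈ Set.range (orderOf : H → ℕ), n ∣ m → m = n}).ncard < k) :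
    Set.range (orderOf : (Fin k → G) → ℕ) = Set.range (orderOf : (Fin (k - 1) → G) × H → ℕ) := by
  classical
  obtain ⟨m, rfl⟩ : ∃ m, k = m + 1 := ⟨k - 1, by omega⟩
  rw [Nat.add_sub_cancel]
  apply Set.Subset.antisymm
  · rintro _ ⟨x, rfl⟩
    choose M hM hMmem using fun t => exists_max (x t)
    by_cases hH : ∃ i, M i ∈ {n : ℕ | n ∈ Set.range (orderOf : H → ℕ) ∧ ∀ m ∈ Set.range (orderOf : H → ℕ), n ∣ m → m = n}
    · obtain ⟨i, ⟨h0, hh0⟩, -⟩ := hH
      obtain ⟨h, hh⟩ := exists_order_of_dvd h0 (hh0 ▸ hM i)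
      refine ⟨(fun j => x (i.succAbove j), h), orderOf_eq_orderOf_iff.2 fun n => ?_⟩
      rw [pi_split x i, Prod.ext_iff, and_comm]
      simp only [Prod.pow_fst, Prod.pow_snd, Prod.fst_one, Prod.snd_one, funext_iff, Pi.pow_apply,
        Pi.one_apply]
      simp only [← orderOf_dvd_iff_pow_eq_one, hh]
    · push Not at hH
      have : ¬ Function.Injective M := by
        intro hinj
        have h1 : Set.range M ⊆ _ := Set.range_subset_iff.2 fun t => Set.mem_diff_of_mem (hMmem t) (hH t)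
        have h2 := Set.ncard_le_ncard h1 (Set.Finite.diff ((Set.finite_range _).subset fun n hn => hn.1))
        rw [Set.ncard_range_of_injective hinj, Nat.card_fin] at h2
        omega
      simp only [Function.Injective, not_forall] at this
      obtain ⟨i, j, hij, hne⟩ := this
      obtain ⟨j', rfl⟩ := (Fin.eq_self_or_eq_succAbove i j).resolve_left (fun h => hne h.symm)
      obtain ⟨g, hg⟩ := (hMmem i).1
      obtain ⟨y, hy⟩ := exists_order_of_dvd g
        (hg ▸ Nat.lcm_dvd (hM i) (hij ▸ hM (i.succAbove j')) :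
          Nat.lcm (orderOf (x i)) (orderOf (x (i.succAbove j'))) ∣ orderOf g)
      refine ⟨(Function.update (fun t => x (i.succAbove t)) j' y, 1),
        orderOf_eq_orderOf_iff.2 fun n => ?_⟩
      rw [pi_split x i, Prod.ext_iff]
      simp only [Prod.pow_fst, Prod.pow_snd, Prod.fst_one, Prod.snd_one, one_pow, and_true,
        funext_iff, Pi.pow_apply, Pi.one_apply]
      simp only [← orderOf_dvd_iff_pow_eq_one]
      constructor
      · intro h
        have hj := h j'
        rw [Function.update_self, hy, Nat.lcm_dvd_iff] at hj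
        refine ⟨hj.1, fun t => ?_⟩
        by_cases ht : t = j'
        · exact ht ▸ hj.2
        · simpa [Function.update_of_ne ht] using h t
      · intro h t
        by_cases ht : t = j'
        · subst ht
          rw [Function.update_self, hy]
          exact Nat.lcm_dvd h.1 (h.2 t)
        · simpa [Function.update_of_ne ht] using h.2 t
  · rintro _ ⟨⟨z, h⟩, rfl⟩
    obtain ⟨M, hM, hMmem⟩ := exists_max h
    obtain ⟨g, hg⟩ := (hsub hMmem).1
    obtain ⟨y, hy⟩ := exists_order_of_dvd g (hg ▸ hM : orderOf h ∣ orderOf g)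
    refine ⟨Fin.cons y z, orderOf_eq_orderOf_iff.2 fun n => ?_⟩
    simp only [pi_split _ (0 : Fin (m + 1)), Fin.cons_zero, Fin.succAbove_zero, Fin.cons_succ,
      Prod.ext_iff, Prod.pow_fst, Prod.pow_snd, Prod.fst_one, Prod.snd_one, funext_iff,
      Pi.pow_apply, Pi.one_apply]
    simp only [← orderOf_dvd_iff_pow_eq_one, hy]
    exact and_comm

end Cfsg.Agent.S2514
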