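import Cfsg.Statements.S2515
import Cfsg.Agent.H55.TwistedAffine

set_option autoImplicit false
open Cfsg

namespace Cfsg.Agent.S2515

open Cfsg.Agent.H55 Cfsg.Agent.H55.Twist Cfsg.Agent.Linear

variable {F : Type} [Field F] [Fintype F] [CharP F 3]

local notation "M2" => Matrix (Fin 2) (Fin 2) F
local notation "S2" => Matrix.SpecialLinearGroup (Fin 2) F

theorem two_ne : (2 : F) ≠ 0 := fun h => by
  have h3 : (3 : F) = 0 := by exact_mod_cast CharP.cast_eq_zero F 3
  exact one_ne_zero (α := F) (by linear_combination h3 - h)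

theorem neg_one_not_sq (hq : Fintype.card F % 4 = 3) (t : F) : t ^ 2 ≠ -1 := fun h =>
  (FiniteField.isSquare_neg_one_iff (F := F)).1 ⟨t, by rw [← h, pow_two]⟩ hq

theorem fpf (hq : Fintype.card F % 4 = 3) (g : S2) (e : ℤˣ) (ht0 : (g : M2).trace ≠ 0)
    (ht4 : (g : M2).trace ^ 2 ≠ 4) (M : M2) (h : act (g, e) M = M) : M = 0 := by
  rw [act_apply] at h
  simp only at h
  set c : F := ((e : ℤ) : F) with hc
  set t := (g : M2).trace with ht
  have hA : (g : M2) * M * tw g = c • M := by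
    calc (g : M2) * M * tw g = c • (c • ((g : M2) * M * tw g)) := by
          rw [smul_smul, hc, sgn_sq, one_smul]
      _ = c • M := by rw [h]
  have hB : (g : M2) * g * M * (tw g * tw g) = M := by
    calc (g : M2) * g * M * (tw g * tw g) = (g : M2) * ((g : M2) * M * tw g) * tw g := by
          simp only [mul_assoc]
      _ = c • ((g : M2) * M * tw g) := by
        conv_lhs => rw [hA, Matrix.mul_smul, Matrix.smul_mul]
      _ = M := h
  rw [tw_sq, mul_sub, Matrix.mul_smul, mul_one, show (g : M2) * g * M * tw g =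
    (g : M2) * ((g : M2) * M * tw g) by simp only [mul_assoc], hA, Matrix.mul_smul, sq_eq,
    sub_mul, one_mul, Matrix.smul_mul, ← ht] at hB
  have hz : (t ^ 3 * c - t) • ((g : M2) * M) = 0 := by
    rw [sub_smul, mul_smul]
    rw [sub_eq_iff_eq_add] at hB
    rw [hB]
    module
  rcases smul_eq_zero.1 hz with hz | hz
  · exfalso
    have h1 : t * (t ^ 2 * c - 1) = 0 := by linear_combination hz
    have h2 : t ^ 2 * c - 1 = 0 := (mul_eq_zero.1 h1).resolve_left ht0
    rcases Int.units_eq_one_or e with rfl | rfl <;> simp only [hc, Units.val_one, Units.val_neg,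
      Int.cast_one, Int.cast_neg] at h2
    · have h3 : (3 : F) = 0 := by exact_mod_cast CharP.cast_eq_zero F 3
      exact ht4 (by linear_combination h2 - h3)
    · exact neg_one_not_sq hq t (by linear_combination -h2)
  · have := congrArg (fun Z => ((g⁻¹ : S2) : M2) * Z) hz
    rwa [← mul_assoc, ← Matrix.SpecialLinearGroup.coe_mul, inv_mul_cancel,
      Matrix.SpecialLinearGroup.coe_one, one_mul, mul_zero] at this

theorem rho_of_pm (g : S2) (hg : g = 1 ∨ g = -1) : rho ((g, 1) : S2 × ℤˣ) = 1 :=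
  rho_eq_one_of _ fun M => by rw [rho_pm g 1 hg M]; simp

theorem kernel (g : S2) (e : ℤˣ) (h : rho ((g, e) : S2 × ℤˣ) = 1) : (g = 1 ∨ g = -1) ∧ e = 1 := by
  set c : F := ((e : ℤ) : F) with hc
  have hall : ∀ M : M2, c • ((g : M2) * M * tw g) = M := fun M => act_eq_self_of _ h M
  have h1 : c • ((g : M2) * tw g) = 1 := by simpa using hall 1
  have hcomm : ∀ M : M2, (g : M2) * M = M * g := fun M => by
    have h2 : tw g = c • ((g⁻¹ : S2) : M2) := by
      have := congrArg (fun Z => c • (((g⁻¹ : S2) : M2) * Z)) h1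
      rwa [Matrix.mul_smul, smul_smul, hc, sgn_sq, one_smul, ← mul_assoc,
        ← Matrix.SpecialLinearGroup.coe_mul, inv_mul_cancel, Matrix.SpecialLinearGroup.coe_one,
        one_mul, mul_one] at this
    have h3 := hall M
    rw [h2, Matrix.mul_smul, smul_smul, hc, sgn_sq, one_smul] at h3
    conv_rhs => rw [← h3]
    rw [mul_assoc _ _ (g : M2), ← Matrix.SpecialLinearGroup.coe_mul, inv_mul_cancel,
      Matrix.SpecialLinearGroup.coe_one, mul_one]
  have hg : g = 1 ∨ g = -1 := mem_center_SL_two.1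
    (Subgroup.mem_center_iff.2 fun X => Subtype.ext (hcomm X).symm)
  refine ⟨hg, ?_⟩
  have h4 : act (g, e) (1 : M2) = 1 := act_eq_self_of _ h 1
  rw [rho_pm g e hg] at h4
  rcases Int.units_eq_one_or e with rfl | rfl
  · rfl
  · exfalso
    have := congrArg (fun Z : M2 => Z 0 0) h4
    simp at this
    exact two_ne (F := F) (by linear_combination -this)

theorem upper (hq : Fintype.card F % 4 = 3) (h : H F) :
    orderOf h ∣ 6 ∨ orderOf h ∣ 9 ∨ orderOf h ∣ Fintype.card F - 1 ∨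
      orderOf h ∣ (Fintype.card F + 1) / 2 := by
  have : Fact (Nat.Prime 3) := ⟨Nat.prime_three⟩
  obtain ⟨v, ⟨g, e⟩, rfl⟩ := elt_surj h
  have he2 : ∀ k : ℕ, 2 ∣ k → e ^ k = 1 := fun k hk => by
    obtain ⟨j, rfl⟩ := hk
    rw [pow_mul, Int.units_sq, one_pow]
  have hrho : ∀ k : ℕ, (g ^ k = 1 ∨ g ^ k = -1) → e ^ k = 1 →
      rho (((g, e) : S2 × ℤˣ) ^ k) = 1 := fun k hk hek => by
    rw [Prod.pow_mk, hek]; exact rho_of_pm _ hk
  by_cases ht0 : (g : M2).trace = 0
  · left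
    have hg : g ^ 2 = -1 := Subtype.ext (by
      rw [Matrix.SpecialLinearGroup.coe_pow, pow_two, sq_eq, ht0, zero_smul, zero_sub,
        Matrix.SpecialLinearGroup.coe_neg, Matrix.SpecialLinearGroup.coe_one])
    exact orderOf_dvd_of_pow_eq_one
      (pow_triple v _ (hrho 2 (Or.inr hg) (he2 2 dvd_rfl)))
  by_cases ht : (g : M2).trace ^ 2 = 4
  · have hd := trace_sq_cases 3 ht
    have hg3 : g ^ 3 = 1 ∨ g ^ 3 = -1 := by
      rw [← toPSL_two_eq_one_iff]
      exact (map_pow _ g 3).trans (orderOf_dvd_iff_pow_eq_one.1 hd)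
    rcases Int.units_eq_one_or e with rfl | rfl
    · exact Or.inr (Or.inl (orderOf_dvd_of_pow_eq_one (pow_triple v _ (hrho 3 hg3 (one_pow 3)))))
    · refine Or.inl (orderOf_dvd_of_pow_eq_one (pow_eq_one_of v _ ?_ ?_))
      · refine hrho 6 ?_ (he2 6 (by norm_num))
        rw [show 6 = 3 * 2 from rfl, pow_mul]
        rcases hg3 with h | h <;> rw [h]
        · exact Or.inl (one_pow 2)
        · exact Or.inl neg_one_sq
      · rw [show 6 = 3 + 3 from rfl, lp_add, Prod.pow_mk, rho_pm (g ^ 3) _ hg3]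
        simp [pow_succ]
  have hmem : g ∈ Subgroup.centralizer ({g} : Set S2) := Subgroup.mem_centralizer_singleton_iff.2 rfl
  have hodd : Fintype.card F % 2 = 1 := by omega
  have key : ∀ N, Nat.card (Subgroup.centralizer ({g} : Set S2)) = N → 2 ∣ N →
      (g ^ (N / 2) = 1 ∨ g ^ (N / 2) = -1) ∧ (g ^ N = 1) := by
    intro N hN h2N
    have hpow : g ^ N = 1 := by
      have h1 : (⟨g, hmem⟩ : Subgroup.centralizer ({g} : Set S2)) ^ N = 1 := hN ▸ pow_card_eq_one'
      exact congrArg Subtype.val h1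
    refine ⟨?_, hpow⟩
    rw [← toPSL_two_eq_one_iff]
    exact (map_pow _ g _).trans (toPSL_pow_half (two_ne (F := F)) hpow h2N)
  have hfix := fpf hq g e ht0 ht
  rcases card_centralizer_cases ht with hc | hc
  · obtain ⟨-, h1⟩ := key _ hc (by omega)
    exact Or.inr (Or.inr (Or.inl (orderOf_dvd_of_pow_eq_one (pow_eq_one_of_fpf v _
      (hrho _ (Or.inl h1) (he2 _ (by omega))) hfix))))
  · obtain ⟨h1, -⟩ := key _ hc (by omega)
    exact Or.inr (Or.inr (Or.inr (orderOf_dvd_of_pow_eq_one (pow_eq_one_of_fpf v _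
      (hrho _ h1 (he2 _ (by omega))) hfix))))

theorem rho_order_dvd (v : M2) (x : S2 × ℤˣ) : orderOf (rho x) ∣ orderOf (elt v x) := by
  apply orderOf_dvd_of_pow_eq_one
  rw [← map_pow, ← right_pow v x, pow_orderOf_eq_one]
  rfl

theorem exists_nine : ∃ h : H F, 9 ∣ orderOf h := by
  have : Fact (Nat.Prime 3) := ⟨Nat.prime_three⟩
  have h3 : (3 : F) = 0 := by exact_mod_cast CharP.cast_eq_zero F 3
  let g : S2 := ⟨!![1, 1; 0, 1], by simp [Matrix.det_fin_two]⟩
  let v : M2 := !![0, 0; 0, 1]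
  have hg3 : g ^ 3 = 1 := (pow_char_eq_one_iff 3 g).2 (by simp [g, Matrix.trace_fin_two]; norm_num)
  have h9 : elt v ((g, 1) : S2 × ℤˣ) ^ 9 = 1 :=
    pow_triple v _ (n := 3) (by rw [Prod.pow_mk, hg3, one_pow]; exact rho_of_pm 1 (Or.inl rfl))
  have h3' : ¬ elt v ((g, 1) : S2 × ℤˣ) ^ 3 = 1 := by
    intro h
    have hl : Twist.lp v ((g, 1) : S2 × ℤˣ) 3 = 0 := by unfold Twist.lp; rw [h]; rfl
    rw [show 3 = 1 + (1 + 1) from rfl, lp_add, lp_add, lp_one, pow_one] at hl
    have htw : tw g = !![1, 0; 1, 1] := by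
      ext i j
      fin_cases i <;> fin_cases j <;> simp [tw, g]
    have he := congrArg (fun Z : M2 => Z 0 0) hl
    simp only [act_apply, htw] at he
    simp [g, v, Matrix.mul_apply, Fin.sum_univ_two] at he
    exact one_ne_zero (α := F) (by linear_combination 2 * h3 - he)
  refine ⟨_, (orderOf_eq_prime_pow (p := 3) (n := 1) (by simpa using h3') (by simpa using h9)).symm.dvd⟩

theorem exists_six : ∃ h : H F, 6 ∣ orderOf h := by
  have : Fact (Nat.Prime 3) := ⟨Nat.prime_three⟩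
  let g : S2 := ⟨!![1, 1; 0, 1], by simp [Matrix.det_fin_two]⟩
  have hne1 : (-1 : ℤˣ) ^ 3 ≠ 1 := by decide
  refine ⟨elt 0 (g, -1), Nat.dvd_trans ?_ (rho_order_dvd _ _)⟩
  have h6 : rho ((g, -1) : S2 × ℤˣ) ^ 6 = 1 := by
    rw [← map_pow, Prod.pow_mk]
    refine (congrArg rho (Prod.ext ?_ (show (-1 : ℤˣ) ^ 6 = 1 by decide) : ((g ^ 6, (-1) ^ 6) : S2 × ℤˣ) = 1)).trans (map_one _)
    show g ^ 6 = 1
    rw [show 6 = 3 * 2 from rfl, pow_mul,
      (pow_char_eq_one_iff 3 g).2 (by simp [g, Matrix.trace_fin_two]; norm_num), one_pow]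
  have h2 : ¬ rho ((g, -1) : S2 × ℤˣ) ^ 2 = 1 := by
    rw [← map_pow, Prod.pow_mk]
    intro h
    rcases (kernel _ _ h).1 with e | e <;>
      · have := congrArg (fun Y : S2 => (Y : M2) 0 1) e
        simp only [Matrix.SpecialLinearGroup.coe_pow] at this
        simp [g, pow_two, Matrix.mul_apply, Fin.sum_univ_two, one_add_one_eq_two, two_ne (F := F)] at this
  have h3 : ¬ rho ((g, -1) : S2 × ℤˣ) ^ 3 = 1 := by
    rw [← map_pow, Prod.pow_mk]
    exact fun h => hne1 (kernel _ _ h).2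
  have hd := orderOf_dvd_of_pow_eq_one h6
  have h2' : ¬ orderOf (rho ((g, -1) : S2 × ℤˣ)) ∣ 2 := fun h => h2 (orderOf_dvd_iff_pow_eq_one.1 h)
  have h3' : ¬ orderOf (rho ((g, -1) : S2 × ℤˣ)) ∣ 3 := fun h => h3 (orderOf_dvd_iff_pow_eq_one.1 h)
  generalize orderOf (rho ((g, -1) : S2 × ℤˣ)) = o at hd h2' h3' ⊢
  have hle := Nat.le_of_dvd (by norm_num) hd
  interval_cases o <;> norm_num at *

theorem exists_tori (hq : Fintype.card F % 4 = 3) :
    (∃ h : H F, Fintype.card F - 1 ∣ orderOf h) ∧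
      ∃ h : H F, (Fintype.card F + 1) / 2 ∣ orderOf h := by
  have : Fact (Nat.Prime 3) := ⟨Nat.prime_three⟩
  obtain ⟨-, ⟨y, hy⟩, ⟨y', hy'⟩⟩ := exists_torus_orders (F := F) 3
  have hg : Nat.gcd 2 (Fintype.card F - 1) = 2 := Nat.gcd_eq_left (by omega)
  rw [hg] at hy hy'
  obtain ⟨X, rfl⟩ := QuotientGroup.mk'_surjective _ y
  obtain ⟨X', rfl⟩ := QuotientGroup.mk'_surjective _ y'
  have key : ∀ (X : S2) (e : ℤˣ), orderOf (toPSL X) ∣ orderOf (rho ((X, e) : S2 × ℤˣ)) ∧
      orderOf e ∣ orderOf (rho ((X, e) : S2 × ℤˣ)) := fun X e => by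
    have h := pow_orderOf_eq_one (rho ((X, e) : S2 × ℤˣ))
    rw [← map_pow, Prod.pow_mk] at h
    obtain ⟨ha, hb⟩ := kernel _ _ h
    exact ⟨orderOf_dvd_of_pow_eq_one (by rw [← map_pow]; exact (toPSL_two_eq_one_iff _).2 ha),
      orderOf_dvd_of_pow_eq_one hb⟩
  refine ⟨⟨elt 0 (X, -1), Nat.dvd_trans ?_ (rho_order_dvd _ _)⟩,
    ⟨elt 0 (X', 1), (hy'.trans (key X' 1).1).trans (rho_order_dvd _ _)⟩⟩
  obtain ⟨h1, h2⟩ := key X (-1)
  have ho : orderOf (-1 : ℤˣ) = 2 := orderOf_eq_prime (by decide) (by decide)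
  rw [ho] at h2
  rw [show Fintype.card F - 1 = 2 * ((Fintype.card F - 1) / 2) by omega]
  exact (Nat.coprime_two_left.2 (Nat.odd_iff.2 (by omega))).mul_dvd_of_dvd_of_dvd h2 (hy.trans h1)

/-- Let q = 3^α with α ≥ 3 odd. There is a finite group H having a non-trivial normal 3-subgroup and whose element orders maximal under divisibility are exactly 6, 9, q − 1 and (q + 1)/2. -/
theorem result (α : ℕ) (hα : 3 ≤ α) (hodd : Odd α) :
    ∃ (H : Type) (_ : Group H) (_ : Fintype H), (∃ P : Subgroup H, P.Normal ∧ P ≠ ⊥ ∧ IsPGroup 3 ↥P) ∧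
      {n : ℕ | n ∈ Set.range (orderOf : H → ℕ) ∧ ∀ m ∈ Set.range (orderOf : H → ℕ), n ∣ m → m = n} = ({6, 9, 3 ^ α - 1, (3 ^ α + 1) / 2} : Set ℕ) := by
  have : Fact (Nat.Prime 3) := ⟨Nat.prime_three⟩
  let : Fintype (GaloisField 3 α) := Fintype.ofFinite _
  have hcard : Fintype.card (GaloisField 3 α) = 3 ^ α := by
    rw [← Nat.card_eq_fintype_card, GaloisField.card 3 α (by omega)]
  set q := 3 ^ α with hq0
  have hq27 : 27 ≤ q := by
    calc 27 = 3 ^ 3 := rfl
      _ ≤ q := Nat.pow_le_pow_right (by norm_num) hα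
  have hq4 : q % 4 = 3 := by
    obtain ⟨j, rfl⟩ := hodd
    rw [hq0, pow_succ, pow_mul, Nat.mul_mod, Nat.pow_mod]
    norm_num
  have hq3 : q % 3 = 0 := by rw [hq0, ← Nat.succ_pred_eq_of_pos (by omega : 0 < α), pow_succ]; omega
  let : Fintype (H (GaloisField 3 α)) := Fintype.ofFinite _
  refine ⟨H (GaloisField 3 α), inferInstance, inferInstance,
    ⟨(SemidirectProduct.inl : _ →* H (GaloisField 3 α)).range, ?_, ?_, ?_⟩, ?_⟩
  · rw [SemidirectProduct.range_inl_eq_ker_rightHom]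
    infer_instance
  · intro h0
    have h1 : (SemidirectProduct.inl (Multiplicative.ofAdd (1 : Matrix (Fin 2) (Fin 2)
        (GaloisField 3 α))) : H (GaloisField 3 α)) ∈
        (SemidirectProduct.inl : _ →* H (GaloisField 3 α)).range := ⟨_, rfl⟩
    rw [h0, Subgroup.mem_bot, map_eq_one_iff _ SemidirectProduct.inl_injective, ofAdd_eq_one] at h1
    exact one_ne_zero h1
  · rintro ⟨_, w, rfl⟩
    refine ⟨1, Subtype.ext ?_⟩
    have h3 : w ^ 3 = 1 := by
      apply Multiplicative.toAdd.injective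
      rw [toAdd_pow, toAdd_one, succ_nsmul, two_nsmul, add_assoc]
      exact three_smul_zero _
    show (SemidirectProduct.inl w : H (GaloisField 3 α)) ^ (3 ^ 1) = 1
    rw [pow_one, ← map_pow, h3, map_one]
  have hup := upper (F := GaloisField 3 α) (by rw [hcard]; exact hq4)
  obtain ⟨h1, h2⟩ := exists_tori (F := GaloisField 3 α) (by rw [hcard]; exact hq4)
  rw [hcard] at hup h1 h2
  have hcand : ∀ a b : ℕ, (a = 6 ∨ a = 9 ∨ a = q - 1 ∨ a = (q + 1) / 2) →
      (b = 6 ∨ b = 9 ∨ b = q - 1 ∨ b = (q + 1) / 2) → a ∣ b → a = b := by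
    intro a b ha hb hab
    obtain ⟨c, hc⟩ := hab
    rcases Nat.lt_or_ge c 2 with h | h
    · interval_cases c <;> omega
    exfalso
    have h3 : 3 ∣ a → b = 6 ∨ b = 9 := fun hd => by
      have : 3 ∣ b := hc ▸ hd.mul_right c
      omega
    have hac : a * 2 ≤ b := hc ▸ Nat.mul_le_mul_left a h
    omega
  have hex : ∀ a : ℕ, (a = 6 ∨ a = 9 ∨ a = q - 1 ∨ a = (q + 1) / 2) →
      a ∈ Set.range (orderOf : H (GaloisField 3 α) → ℕ) := by
    intro a ha
    obtain ⟨x, hx⟩ : ∃ x : H (GaloisField 3 α), a ∣ orderOf x := by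
      rcases ha with rfl | rfl | rfl | rfl
      · exact exists_six
      · exact exists_nine
      · exact h1
      · exact h2
    refine ⟨x, ?_⟩
    rcases hup x with hd | hd | hd | hd
    all_goals
      have he := hcand a _ ha (by first | exact Or.inl rfl | exact Or.inr (Or.inl rfl) | exact Or.inr (Or.inr (Or.inl rfl)) | exact Or.inr (Or.inr (Or.inr rfl))) (hx.trans hd)
      exact Nat.dvd_antisymm (he ▸ hd) hx
  ext m
  simp only [Set.mem_setOf_eq, Set.mem_insert_iff, Set.mem_singleton_iff]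
  constructor
  · rintro ⟨⟨x, rfl⟩, hmax⟩
    rcases hup x with hd | hd | hd | hd
    · exact Or.inl (hmax 6 (hex 6 (Or.inl rfl)) hd).symm
    · exact Or.inr (Or.inl (hmax 9 (hex 9 (Or.inr (Or.inl rfl))) hd).symm)
    · exact Or.inr (Or.inr (Or.inl (hmax _ (hex _ (Or.inr (Or.inr (Or.inl rfl)))) hd).symm))
    · exact Or.inr (Or.inr (Or.inr (hmax _ (hex _ (Or.inr (Or.inr (Or.inr rfl)))) hd).symm))
  · intro hm
    refine ⟨hex m hm, ?_⟩
    rintro _ ⟨x, rfl⟩ hmd
    rcases hup x with hd | hd | hd | hd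
    all_goals
      have he := hcand m _ hm (by first | exact Or.inl rfl | exact Or.inr (Or.inl rfl) | exact Or.inr (Or.inr (Or.inl rfl)) | exact Or.inr (Or.inr (Or.inr rfl))) (hmd.trans hd)
      exact Nat.dvd_antisymm (he ▸ hd) hmd

end Cfsg.Agent.S2515
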