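import Cfsg.Statements.S2516

set_option autoImplicit false
open Cfsg

namespace Cfsg.Agent.S2516

/-- Let F be a field of characteristic p > 0, V a non-zero finite-dimensional F-vector space, G a finite group and ρ a representation of G on V; form the semidirect product V ⋊ G. For g ∈ G of order k, the coset Vg contains an element of order pk if and only if the minimal polynomial of ρ(g) does not divide 1 + X + ⋯ + X^(k−1). -/
theorem result {F : Type*} [Field F] (p : ℕ) [Fact p.Prime] [CharP F p] {V : Type*} [AddCommGroup V] [Module F V] [FiniteDimensional F V] [Nontrivial V]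
    {G : Type*} [Group G] [Finite G] (ρ : Representation F G V) (g : G) :
    (∃ x : Multiplicative V ⋊[(MulAutMultiplicative V).symm.toMonoidHom.comp
        ((DistribMulAction.toAddAut ((V →ₗ[F] V)ˣ) V).comp ρ.asGroupHom)] G,
        x.right = g ∧ orderOf x = p * orderOf g) ↔
      ¬ (minpoly F (ρ g) ∣ ∑ i ∈ Finset.range (orderOf g), (Polynomial.X : Polynomial F) ^ i) := by
  set φ := (MulAutMultiplicative V).symm.toMonoidHom.comp
        ((DistribMulAction.toAddAut ((V →ₗ[F] V)ˣ) V).comp ρ.asGroupHom) with hφ
  set k := orderOf g with hk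
  have happ : ∀ (h : G) (v : Multiplicative V),
      φ h v = Multiplicative.ofAdd (ρ h (Multiplicative.toAdd v)) := fun h v => rfl
  set S : V →ₗ[F] V := ∑ i ∈ Finset.range k, (ρ g) ^ i with hS
  have hpow : ∀ (x : Multiplicative V ⋊[φ] G), x.right = g → ∀ m : ℕ,
      (x ^ m).right = g ^ m ∧ Multiplicative.toAdd (x ^ m).left =
        ∑ i ∈ Finset.range m, ((ρ g) ^ i) (Multiplicative.toAdd x.left) := by
    intro x hx m
    induction m with
    | zero => simp
    | succ m ih =>
      constructor
      · rw [pow_succ, SemidirectProduct.mul_right, ih.1, hx, ← pow_succ]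
      · rw [pow_succ', SemidirectProduct.mul_left, toAdd_mul, happ, toAdd_ofAdd, hx, ih.2, map_sum,
          Finset.sum_range_succ', pow_zero, Module.End.one_apply, add_comm]
        congr 1
        refine Finset.sum_congr rfl fun i _ => ?_
        rw [pow_succ', Module.End.mul_apply]
  have hk0 : 0 < k := orderOf_pos g
  have hkey : ∀ (x : Multiplicative V ⋊[φ] G), x.right = g →
      (orderOf x = p * k ↔ S (Multiplicative.toAdd x.left) ≠ 0) := by
    intro x hx
    have hz : x ^ k = 1 ↔ S (Multiplicative.toAdd x.left) = 0 := by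
      rw [SemidirectProduct.ext_iff, (hpow x hx k).1, hk, pow_orderOf_eq_one, ← hk, hS,
        LinearMap.sum_apply, ← (hpow x hx k).2]
      simp
    have hdvd : k ∣ orderOf x := by
      have := orderOf_map_dvd (SemidirectProduct.rightHom (φ := φ)) x
      simpa [hx, ← hk] using this
    have hp : x ^ (p * k) = 1 := by
      rw [mul_comm, pow_mul]
      have hin : x ^ k = SemidirectProduct.inl (x ^ k).left := by
        apply SemidirectProduct.ext
        · simp
        · rw [(hpow x hx k).1, hk, pow_orderOf_eq_one]; simp
      rw [hin, ← map_pow]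
      have hpv : ∀ v : Multiplicative V, v ^ p = 1 := by
        intro v
        apply Multiplicative.toAdd.injective
        rw [toAdd_pow, toAdd_one, ← Nat.cast_smul_eq_nsmul F, CharP.cast_eq_zero, zero_smul]
      rw [hpv, map_one]
    rw [Ne, ← hz]
    constructor
    · intro h h1
      have h2 := Nat.le_of_dvd hk0 (h ▸ orderOf_dvd_of_pow_eq_one h1)
      have := Nat.mul_lt_mul_of_pos_right (Fact.out : p.Prime).one_lt hk0
      omega
    · intro h
      obtain ⟨c, hc⟩ := hdvd
      have : c ∣ p := Nat.dvd_of_mul_dvd_mul_left hk0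
        (by rw [← hc, mul_comm k p]; exact orderOf_dvd_of_pow_eq_one hp)
      rcases (Nat.dvd_prime Fact.out).1 this with rfl | rfl
      · exact absurd (by rw [← pow_orderOf_eq_one x, hc, mul_one]) h
      · rw [hc, mul_comm]
  have haeval : Polynomial.aeval (ρ g) (∑ i ∈ Finset.range k, (Polynomial.X : Polynomial F) ^ i) = S := by
    simp [hS]
  rw [minpoly.dvd_iff]
  constructor
  · rintro ⟨x, hx, hox⟩ h
    rw [haeval] at h
    exact (hkey x hx).1 hox (by rw [h]; rfl)
  · intro h
    rw [haeval] at h
    obtain ⟨v, hv⟩ : ∃ v, S v ≠ 0 := by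
      by_contra hne
      push Not at hne
      exact h (LinearMap.ext hne)
    exact ⟨⟨Multiplicative.ofAdd v, g⟩, rfl, (hkey _ rfl).2 hv⟩

end Cfsg.Agent.S2516
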