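import Cfsg.Statements.S2518
import Cfsg.Agent.H90.G2Three.Witness
import Cfsg.Agent.S1055
import Cfsg.Agent.S1059
import Cfsg.Agent.S1078
import Cfsg.Agent.Linear.Order
import Cfsg.Agent.H67.TwoByTwo

set_option autoImplicit false
open Cfsg Cfsg.Agent.H90

namespace Cfsg.Agent.S2518

/-- Let F₃ be the field with 3 elements and F₁₃ the field with 13 elements. The Chevalley group G₂(F₃) and PSL(2, F₁₃) have the same prime graph: the same prime divisors of their orders, and for distinct primes r, s an element of order rs in one iff in the other. -/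
theorem result {F : Type*} [Field F] [Fintype F] (hF : Fintype.card F = 3) {E : Type*} [Field E] [Fintype E] (hE : Fintype.card E = 13) :
    ((∀ r : ℕ, r.Prime → (r ∣ Nat.card ↥(Cfsg.Lie.chevG2.group F) ↔ r ∣ Nat.card (Matrix.ProjectiveSpecialLinearGroup (Fin 2) E))) ∧
      (∀ r s : ℕ, r.Prime → s.Prime → r ≠ s → ((∃ x : ↥(Cfsg.Lie.chevG2.group F), orderOf x = r * s) ↔ (∃ y : (Matrix.ProjectiveSpecialLinearGroup (Fin 2) E), orderOf y = r * s)))) := by
  classical
  -- the orders
  have hcG : Nat.card ↥(Cfsg.Lie.chevG2.group F) = 4245696 := by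
    rw [Cfsg.Agent.S1059.result hF]; norm_num
  have hcP : Nat.card (Matrix.ProjectiveSpecialLinearGroup (Fin 2) E) = 1092 := by
    have h := Cfsg.Agent.Linear.card_PSL_two_mul (F := E)
    rw [hE, show Nat.gcd 2 (13 - 1) = 2 from rfl] at h; norm_num at h; rw [Nat.card_eq_fintype_card]; omega
  have hpr : ∀ r : ℕ, r.Prime → (r ∣ 4245696 ↔ r = 2 ∨ r = 3 ∨ r = 7 ∨ r = 13) ∧
      (r ∣ 1092 ↔ r = 2 ∨ r = 3 ∨ r = 7 ∨ r = 13) := by
    intro r hr
    have key : ∀ {a b c d : ℕ}, r ∣ 2 ^ a * 3 ^ b * 7 ^ c * 13 ^ d → r = 2 ∨ r = 3 ∨ r = 7 ∨ r = 13 := by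
      intro a b c d h
      rcases (Nat.Prime.dvd_mul hr).1 h with h | h
      · rcases (Nat.Prime.dvd_mul hr).1 h with h | h
        · rcases (Nat.Prime.dvd_mul hr).1 h with h | h
          · exact Or.inl ((Nat.prime_dvd_prime_iff_eq hr Nat.prime_two).1 (hr.dvd_of_dvd_pow h))
          · exact Or.inr (Or.inl ((Nat.prime_dvd_prime_iff_eq hr Nat.prime_three).1 (hr.dvd_of_dvd_pow h)))
        · exact Or.inr (Or.inr (Or.inl ((Nat.prime_dvd_prime_iff_eq hr (by norm_num)).1 (hr.dvd_of_dvd_pow h))))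
      · exact Or.inr (Or.inr (Or.inr ((Nat.prime_dvd_prime_iff_eq hr (by norm_num)).1 (hr.dvd_of_dvd_pow h))))
    constructor <;> constructor
    · exact fun h => key (a := 6) (b := 6) (c := 1) (d := 1) (by simpa using h)
    · rintro (rfl | rfl | rfl | rfl) <;> norm_num
    · exact fun h => key (a := 2) (b := 1) (c := 1) (d := 1) (by simpa using h)
    · rintro (rfl | rfl | rfl | rfl) <;> norm_num
  refine ⟨fun r hr => by rw [hcG, hcP, (hpr r hr).1, (hpr r hr).2], fun r s hr hs hrs => ?_⟩
  -- the presented group and its module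
  have hne : ∃ a : F, a ≠ 0 ∧ a ≠ 1 :=
    Fintype.exists_ne_of_one_lt_card (α := F) (by omega) 0 |>.elim fun a ha => by
      by_cases h1 : a = 1
      · by_contra hcon
        push Not at hcon
        have hsub : (Finset.univ : Finset F) ⊆ {0, 1} := fun x _ => by
          by_cases hx : x = 0
          · simp [hx]
          · simp [hcon x hx]
        have := Finset.card_le_card hsub
        rw [Finset.card_univ, hF] at this
        exact absurd (this.trans Finset.card_le_two) (by norm_num)
      · exact ⟨a, ha, h1⟩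
  obtain ⟨θ, hsurj, hker, -⟩ := Agent.H38.St.steinberg (D := Cfsg.Lie.chevG2) (F := F) (Agent.H37.Chev.dataG2 F)
    (Agent.H38.St.relOK_of_check _ Agent.H37.Chev.typeG2.M (w := Agent.Chevalley.G2.tab.w) rfl (by decide +kernel))
    (Agent.H38.St.adj_of_check (by decide +kernel))
  rw [Cfsg.Agent.S1078.result Cfsg.Lie.chevG2 (by simp)] at hker
  let eG := MulEquiv.ofBijective θ ⟨(MonoidHom.ker_eq_bot_iff θ).1 hker, hsurj⟩
  haveI : Finite ↥(Cfsg.Lie.chevG2.group F) := Nat.finite_of_card_ne_zero (by rw [hcG]; norm_num)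
  haveI : IsSimpleGroup ↥(Cfsg.Lie.chevG2.group F) := (Cfsg.Agent.S1055.result hne).1
  let ε : F ≃+* G2Three.K3 := FiniteField.ringEquivOfCardEq (by rw [hF, G2Three.K3.card_eq])
  haveI : IsSimpleGroup (Cfsg.Lie.chevG2.SteinbergGroup F) := eG.isSimpleGroup
  have hinj : Function.Injective (G2Three.rep ε) := by
    rw [← MonoidHom.ker_eq_bot_iff]
    refine (MonoidHom.normal_ker _).eq_bot_or_eq_top.resolve_right fun htop => ?_
    obtain ⟨g, hg⟩ := G2Three.exists_rep ε (l := G2Three.w7) (by decide +kernel)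
    have h1 : G2Three.rep ε g = 1 := MonoidHom.mem_ker.1 (htop ▸ Subgroup.mem_top g)
    have h7 : orderOf (G2Three.wordPerm G2Three.w7) = 7 := by
      haveI : Fact (Nat.Prime 7) := ⟨by norm_num⟩
      have ho := G2Three.order_check
      simp only [Bool.and_eq_true, Bool.not_eq_true'] at ho
      exact G2Three.orderOf_wordPerm ho.1.1.1.1.1.1 ho.1.1.1.1.1.2
    rw [← hg, h1, orderOf_one] at h7
    norm_num at h7
  -- self-centralising elements in G₂(3)
  have hG : ∀ r s : ℕ, r.Prime → s.Prime → r ≠ s → (r = 7 ∨ r = 13) →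
      ¬ ∃ x : ↥(Cfsg.Lie.chevG2.group F), orderOf x = r * s := by
    rintro r s hr hs hrs hr' ⟨x, hx⟩
    haveI : Fact r.Prime := ⟨hr⟩
    obtain ⟨g₀, hg₀, hC₀⟩ := G2Three.exists_self_centralizing ε hinj hr'
    set g := eG g₀ with hg
    have hgo : orderOf g = r := by rw [hg, MulEquiv.orderOf_eq, hg₀]
    have hC : ∀ y, Commute g y → y ∈ Subgroup.zpowers g := by
      intro y hy
      obtain ⟨k, hk⟩ := hC₀ (eG.symm y) (by
        have h := hy.map eG.symm.toMonoidHom
        simpa [hg] using h)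
      exact ⟨k, eG.symm.injective (by simpa [hg] using hk)⟩
    have hfac : (4245696 : ℕ).factorization r = 1 := by
      rw [Nat.factorization_def _ hr]
      rcases hr' with rfl | rfl
      · rw [show (4245696 : ℕ) = 7 * 606528 from rfl, padicValNat.mul (by norm_num) (by norm_num),
          padicValNat.self (by norm_num), padicValNat.eq_zero_of_not_dvd (by norm_num)]
      · rw [show (4245696 : ℕ) = 13 * 326592 from rfl, padicValNat.mul (by norm_num) (by norm_num),
          padicValNat.self (by norm_num), padicValNat.eq_zero_of_not_dvd (by norm_num)]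
    have hy : orderOf (x ^ s) = r := by
      rw [orderOf_pow' x hs.ne_zero, hx, Nat.gcd_eq_right (dvd_mul_left s r),
        Nat.mul_div_cancel _ hs.pos]
    have hz : orderOf (x ^ r) = s := by
      rw [orderOf_pow' x hr.ne_zero, hx, Nat.gcd_eq_right (dvd_mul_right r s),
        Nat.mul_div_cancel_left _ hr.pos]
    let P : Sylow r ↥(Cfsg.Lie.chevG2.group F) := Sylow.ofCard (Subgroup.zpowers g)
      (by rw [Nat.card_zpowers, hgo, hcG, hfac, pow_one])
    let Q : Sylow r ↥(Cfsg.Lie.chevG2.group F) := Sylow.ofCard (Subgroup.zpowers (x ^ s))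
      (by rw [Nat.card_zpowers, hy, hcG, hfac, pow_one])
    obtain ⟨c, hc⟩ := MulAction.exists_smul_eq ↥(Cfsg.Lie.chevG2.group F) Q P
    have hgm : g ∈ (P : Subgroup ↥(Cfsg.Lie.chevG2.group F)) := Subgroup.mem_zpowers g
    rw [← hc, Sylow.coe_subgroup_smul, Subgroup.mem_pointwise_smul_iff_inv_smul_mem] at hgm
    obtain ⟨k, hk⟩ := hgm
    have hk' : g = c * (x ^ s) ^ k * c⁻¹ := by
      simp only [← map_inv, MulAut.smul_def, MulAut.conj_apply, inv_inv] at hk
      rw [hk]; group
    have hcomm : Commute g (c * x ^ r * c⁻¹) := by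
      rw [hk']
      have h := ((((Commute.refl x).pow_left s).zpow_left k).pow_right r).map (MulAut.conj c).toMonoidHom
      simpa using h
    have hmem := hC _ hcomm
    have hdvd : orderOf (c * x ^ r * c⁻¹) ∣ r := by
      have h := orderOf_dvd_natCard (⟨_, hmem⟩ : Subgroup.zpowers g)
      rwa [Subgroup.orderOf_mk, Nat.card_zpowers, hgo] at h
    rw [show c * x ^ r * c⁻¹ = MulAut.conj c (x ^ r) from rfl, MulEquiv.orderOf_eq, hz] at hdvd
    exact hrs ((Nat.prime_dvd_prime_iff_eq hs hr).1 hdvd).symm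
  -- the element orders of PSL(2, 13)
  have hP : ∀ y : Matrix.ProjectiveSpecialLinearGroup (Fin 2) E,
      orderOf y ∣ 6 ∨ orderOf y ∣ 7 ∨ orderOf y ∣ 13 := by
    intro y
    obtain ⟨p, hp⟩ := CharP.exists E
    obtain ⟨n, hp', hn⟩ := FiniteField.card E p
    have hp13 : p = 13 := by
      have : p ∣ 13 := hE ▸ hn ▸ dvd_pow_self p n.ne_zero
      exact (Nat.prime_dvd_prime_iff_eq hp' (by norm_num)).1 this
    have hchar : ringChar E = 13 := by rw [ringChar.eq E p, hp13]
    rcases H67.orderOf_PSL_dvd (F := E) (by rw [hE]; decide) y with h | h | h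
    · exact Or.inr (Or.inr (by rwa [hchar] at h))
    · rw [hE, show 13 - 1 = 2 * 6 from rfl] at h
      exact Or.inl (Nat.dvd_of_mul_dvd_mul_left two_pos h)
    · rw [hE, show 13 + 1 = 2 * 7 from rfl] at h
      exact Or.inr (Or.inl (Nat.dvd_of_mul_dvd_mul_left two_pos h))
  have hP6 : ∃ y : Matrix.ProjectiveSpecialLinearGroup (Fin 2) E, orderOf y = 6 := by
    obtain ⟨a, ha⟩ := IsCyclic.exists_ofOrder_eq_natCard (α := Eˣ)
    rw [Nat.card_eq_fintype_card, Fintype.card_units, hE] at ha
    let A : Matrix.SpecialLinearGroup (Fin 2) E :=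
      ⟨Matrix.diagonal ![(a : E), ((a⁻¹ : Eˣ) : E)], by simp [Fin.prod_univ_two]⟩
    have hApow : ∀ k : ℕ, ((A ^ k : Matrix.SpecialLinearGroup (Fin 2) E) : Matrix (Fin 2) (Fin 2) E) =
        Matrix.diagonal ![((a ^ k : Eˣ) : E), (((a⁻¹) ^ k : Eˣ) : E)] := by
      intro k
      rw [Matrix.SpecialLinearGroup.coe_pow]
      show Matrix.diagonal _ ^ k = _
      rw [Matrix.diagonal_pow]
      congr 1
      funext i; fin_cases i <;> simp
    refine ⟨QuotientGroup.mk A, ?_⟩
    set o := orderOf (QuotientGroup.mk A : Matrix.ProjectiveSpecialLinearGroup (Fin 2) E) with ho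
    have hcen : ∀ k : ℕ, (QuotientGroup.mk A : Matrix.ProjectiveSpecialLinearGroup (Fin 2) E) ^ k = 1 ↔
        a ^ (2 * k) = 1 := by
      intro k
      rw [← QuotientGroup.mk_pow, QuotientGroup.eq_one_iff,
        Matrix.SpecialLinearGroup.mem_center_iff]
      have e2 : a ^ (2 * k) = 1 ↔ a ^ k = (a⁻¹) ^ k := by
        rw [inv_pow, eq_inv_iff_mul_eq_one, two_mul, pow_add]
      rw [e2, hApow]
      constructor
      · rintro ⟨c, -, hc⟩
        have h0 := congrFun (congrFun hc 0) 0
        have h1 := congrFun (congrFun hc 1) 1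
        simp at h0 h1
        exact Units.ext (by simpa using h0.symm.trans h1)
      · intro h
        refine ⟨((a ^ k : Eˣ) : E), ?_, ?_⟩
        · rw [Fintype.card_fin, pow_two]
          have h' : a ^ k * a ^ k = 1 := by rw [← eq_inv_iff_mul_eq_one, ← inv_pow]; exact h
          simpa using congrArg Units.val h'
        · ext i j
          rw [← h]
          fin_cases i <;> fin_cases j <;> simp
    have h6 : o ∣ 6 := orderOf_dvd_of_pow_eq_one ((hcen 6).2 (by rw [← pow_orderOf_eq_one a, ha]))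
    have h12 : 12 ∣ 2 * o := by
      have h := orderOf_dvd_of_pow_eq_one ((hcen o).1 (pow_orderOf_eq_one _))
      rwa [ha] at h
    exact Nat.dvd_antisymm h6 (Nat.dvd_of_mul_dvd_mul_left two_pos h12)
  constructor
  · rintro ⟨x, hx⟩
    have hmem : ∀ t : ℕ, t.Prime → t ∣ r * s → t = 2 ∨ t = 3 ∨ t = 7 ∨ t = 13 := fun t ht h =>
      (hpr t ht).1.1 (h.trans (hx ▸ hcG ▸ orderOf_dvd_natCard x))
    have hr23 : r = 2 ∨ r = 3 := by
      rcases hmem r hr (dvd_mul_right r s) with h | h | h | h
      · exact Or.inl h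
      · exact Or.inr h
      · exact absurd ⟨x, hx⟩ (hG r s hr hs hrs (Or.inl h))
      · exact absurd ⟨x, hx⟩ (hG r s hr hs hrs (Or.inr h))
    have hs23 : s = 2 ∨ s = 3 := by
      rcases hmem s hs (dvd_mul_left s r) with h | h | h | h
      · exact Or.inl h
      · exact Or.inr h
      · exact absurd ⟨x, by rw [hx, mul_comm]⟩ (hG s r hs hr hrs.symm (Or.inl h))
      · exact absurd ⟨x, by rw [hx, mul_comm]⟩ (hG s r hs hr hrs.symm (Or.inr h))
    have h6 : r * s = 6 := by
      rcases hr23 with rfl | rfl <;> rcases hs23 with rfl | rfl <;> first | rfl | exact absurd rfl hrs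
    rw [h6]; exact hP6
  · rintro ⟨y, hy⟩
    have h6 : r * s = 6 := by
      have hdvd : r * s ∣ 6 := by
        rcases hP y with h | h | h
        · rwa [hy] at h
        all_goals
          rw [hy] at h
          exfalso
          have h1 := (Nat.prime_dvd_prime_iff_eq hr (by norm_num)).1 ((dvd_mul_right r s).trans h)
          have h2 := (Nat.prime_dvd_prime_iff_eq hs (by norm_num)).1 ((dvd_mul_left s r).trans h)
          exact hrs (h1.trans h2.symm)
      have h4 : 4 ≤ r * s := Nat.mul_le_mul hr.two_le hs.two_le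
      have h6' := Nat.le_of_dvd (by norm_num) hdvd
      interval_cases hq : r * s <;> first | rfl | omega | norm_num at hdvd
    obtain ⟨g, hg⟩ := G2Three.exists_six ε hinj
    exact ⟨eG g, by rw [MulEquiv.orderOf_eq, hg, h6]⟩

end Cfsg.Agent.S2518
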