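import Cfsg.Statements.S2521

set_option autoImplicit false
open Cfsg

namespace Cfsg.Agent.S2521

/-- Let B be a finite group that is the semidirect product of a nilpotent normal subgroup U by an abelian subgroup T (U ∩ T = 1, UT = B), and let t ∈ T have centralizer exactly T. Then every element of the coset tU is conjugate to t in B: for each u ∈ U there is b ∈ B with b t b⁻¹ = t u. -/
theorem result {B : Type*} [Group B] [Finite B] (U T : Subgroup B) [U.Normal] (hU : Group.IsNilpotent ↥U) (hT : IsMulCommutative ↥T)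
    (hcompl : Subgroup.IsComplement' U T) (t : B) (ht : t ∈ T) (hreg : Subgroup.centralizer ({t} : Set B) = T) (u : B) (hu : u ∈ U) :
    ∃ b : B, b * t * b⁻¹ = t * u := by
  have hn : U.Normal := inferInstance
  let f : U → U := fun x => ⟨t⁻¹ * x * t * (x : B)⁻¹, U.mul_mem (by
    simpa using hn.conj_mem x x.2 t⁻¹) (U.inv_mem x.2)⟩
  have hinj : Function.Injective f := by
    intro x y h
    have h' : t⁻¹ * x * t * (x : B)⁻¹ = t⁻¹ * y * t * (y : B)⁻¹ := congrArg Subtype.val h
    simp only [mul_assoc, mul_right_inj] at h'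
    have hc : (y : B)⁻¹ * x ∈ T := by
      rw [← hreg, Subgroup.mem_centralizer_singleton_iff]
      calc (y : B)⁻¹ * x * t = (y : B)⁻¹ * ((x : B) * (t * (x : B)⁻¹)) * x := by group
        _ = (y : B)⁻¹ * ((y : B) * (t * (y : B)⁻¹)) * x := by rw [h']
        _ = t * ((y : B)⁻¹ * x) := by group
    have h1 : (y : B)⁻¹ * x ∈ U ⊓ T := ⟨U.mul_mem (U.inv_mem y.2) x.2, hc⟩
    rw [hcompl.disjoint.eq_bot, Subgroup.mem_bot, inv_mul_eq_one] at h1
    exact Subtype.ext h1.symm
  obtain ⟨x, hx⟩ := (Finite.injective_iff_surjective.1 hinj) ⟨u, hu⟩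
  refine ⟨x, ?_⟩
  rw [← show t⁻¹ * x * t * (x : B)⁻¹ = u from congrArg Subtype.val hx]
  group

end Cfsg.Agent.S2521
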