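import Cfsg.Statements.S2522
import Cfsg.Agent.H55.LevFinal

set_option autoImplicit false
open Cfsg

namespace Cfsg.Agent.S2522

open Cfsg.Agent.H55

/-- Let K be a field with at least four elements (finite or infinite), n ≥ 3, and J ∈ GL(n, K) the regular unipotent matrix (ones on the diagonal and the superdiagonal, zeros elsewhere). Then every non-scalar g ∈ GL(n, K) with det g = 1 is a product of two GL(n, K)-conjugates of J. -/
theorem result {K : Type*} [Field K] (hK : 4 ≤ Cardinal.mk K) (n : ℕ) (hn : 3 ≤ n) (J g : GL (Fin n) K)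
    (hJ : ∀ i j : Fin n, (J : Matrix (Fin n) (Fin n) K) i j = if i = j then 1 else if j.val = i.val + 1 then 1 else 0)
    (hg : ¬ ∃ c : K, (g : Matrix (Fin n) (Fin n) K) = c • (1 : Matrix (Fin n) (Fin n) K))
    (hdet : (g : Matrix (Fin n) (Fin n) K).det = 1) :
    ∃ x y : GL (Fin n) K, g = (x * J * x⁻¹) * (y * J * y⁻¹) := by
  have hFour : Lev.Four K := by
    rcases finite_or_infinite K with hfin | hinf
    · have := Fintype.ofFinite K
      refine ⟨Finset.univ, ?_⟩
      rw [Cardinal.mk_fintype] at hK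
      rw [Finset.card_univ]
      exact_mod_cast hK
    · obtain ⟨S, hS⟩ := Infinite.exists_subset_card_eq K 4
      exact ⟨S, hS.ge⟩
  obtain ⟨P, Q, X, Y, hG, hP, hQ⟩ := Lev.exists_jordan_factorisation hFour hn
    (g : Matrix (Fin n) (Fin n) K) hdet fun l h => hg ⟨l, h⟩
  have hJm : (J : Matrix (Fin n) (Fin n) K) = Lev.jordan K n := Matrix.ext fun i j => hJ i j
  refine ⟨P, Q, Units.ext ?_⟩
  simp only [Units.val_mul, hJm]
  rw [hG, ← hP, ← hQ, Units.mul_inv_cancel_right, Units.mul_inv_cancel_right]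

end Cfsg.Agent.S2522
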