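import Cfsg.Statements.S2523
import Cfsg.Agent.H14.ThompsonSplit.PSL
import Cfsg.Agent.H14.ThompsonSplit.PSp
import Cfsg.Agent.H14.ThompsonSplit.POdd
import Cfsg.Agent.H14.ThompsonSplit.POplus
import Cfsg.Agent.H14.ThompsonSplit.ChevCases

set_option autoImplicit false
open Cfsg

namespace Cfsg.Agent.S2523

open Cfsg.Agent.H14.ThompsonSplit

/-- Transport along an isomorphism. -/
theorem of_equiv {G T : Type*} [Group G] [Group T] (h : Nonempty (G ≃* T))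
    (hT : ∃ c : T, ∀ g : T, ∃ x y : T, g = (x * c * x⁻¹) * (y * c * y⁻¹)) :
    ∃ c : G, ∀ g : G, ∃ x y : G, g = (x * c * x⁻¹) * (y * c * y⁻¹) := by
  obtain ⟨e⟩ := h
  obtain ⟨c, hc⟩ := hT
  refine ⟨e.symm c, fun g => ?_⟩
  obtain ⟨x, y, hxy⟩ := hc (e g)
  exact ⟨e.symm x, e.symm y, by rw [← map_inv, ← map_inv, ← map_mul, ← map_mul, ← map_mul, ← map_mul, ← map_mul, ← hxy, e.symm_apply_apply]⟩

/-- Let F be a finite field with at least 9 elements and let G be one of PSL(n, F) (n ≥ 2), PSp(2m, F) (m ≥ 2), PΩ(2m+1, F) (m ≥ 3, here q odd), PΩ⁺(2m, F) (m ≥ 4), or the Chevalley group of type G₂, F₄, E₆, E₇ or E₈ over F. Then G is the square of one of its conjugacy classes (Thompson's conjecture on products of conjugacy classes, not his conjecture on class sizes): there is a conjugacy class C of G with C·C = G, i.e. every element of G is a product of two elements of C. -/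
theorem result {F : Type*} [Field F] [Fintype F] (hF : 9 ≤ Fintype.card F) {G : Type*} [Group G] [Finite G]
    (hG : (∃ n : ℕ, 2 ≤ n ∧ Nonempty (G ≃* Matrix.ProjectiveSpecialLinearGroup (Fin n) F)) ∨
      (∃ m : ℕ, 2 ≤ m ∧ Nonempty (G ≃* Cfsg.PSp m F)) ∨
      (∃ m : ℕ, 3 ≤ m ∧ Odd (Fintype.card F) ∧ Nonempty (G ≃* Cfsg.POmega F (Cfsg.quadFormOdd m F))) ∨
      (∃ m : ℕ, 4 ≤ m ∧ Nonempty (G ≃* Cfsg.POmega F (Cfsg.quadFormPlus m F))) ∨
      Nonempty (G ≃* ↥(Cfsg.Lie.chevG2.group F)) ∨ Nonempty (G ≃* ↥(Cfsg.Lie.chevF4.group F)) ∨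
      Nonempty (G ≃* ↥(Cfsg.Lie.chevE6.group F)) ∨ Nonempty (G ≃* ↥(Cfsg.Lie.chevE7.group F)) ∨ Nonempty (G ≃* ↥(Cfsg.Lie.chevE8.group F))) :
    ∃ c : G, ∀ g : G, ∃ x y : G, g = (x * c * x⁻¹) * (y * c * y⁻¹) := by
  rcases hG with ⟨n, hn, e⟩ | ⟨m, hm, e⟩ | ⟨m, hm, ho, e⟩ | ⟨m, hm, e⟩ | e | e | e | e | e
  · exact of_equiv e (PSLCase.psl_cover hF hn)
  · exact of_equiv e (PSpCase.psp_cover hF hm)
  · exact of_equiv e (POddCase.pomega_odd_cover hF hm ho)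
  · exact of_equiv e (PlusCase.pomega_plus_cover hF hm)
  · exact of_equiv e (Exc.coverG2 hF)
  · exact of_equiv e (Exc.coverF4 hF)
  · exact of_equiv e (Exc.coverE6 hF)
  · exact of_equiv e (Exc.coverE7 hF)
  · exact of_equiv e (Exc.coverE8 hF)

end Cfsg.Agent.S2523
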