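import Cfsg.Statements.S2524
import Cfsg.Agent.H53.Weil.Count

set_option autoImplicit false
open Cfsg

namespace Cfsg.Agent.S2524

/-- Let F be a finite field of odd order q and G = Sp(2n, F) with n ≥ 2. Then G has exactly four irreducible complex characters of degree (q^n + 1)/2 or (q^n − 1)/2 (two of each), and every other non-principal irreducible character has degree at least (q^n − 1)(q^n − q)/(2(q + 1)). -/
theorem result {F : Type*} [Field F] [Fintype F] (hodd : Odd (Fintype.card F)) (n : ℕ) (hn : 2 ≤ n) :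
    Nat.card {χ : Cfsg.IrrCharacter ↥(Matrix.symplecticGroup (Fin n) F) // (χ : ↥(Matrix.symplecticGroup (Fin n) F) → ℂ) 1 = (((Fintype.card F) ^ n + 1 : ℕ) : ℂ) / 2} = 2 ∧
    Nat.card {χ : Cfsg.IrrCharacter ↥(Matrix.symplecticGroup (Fin n) F) // (χ : ↥(Matrix.symplecticGroup (Fin n) F) → ℂ) 1 = (((Fintype.card F) ^ n - 1 : ℕ) : ℂ) / 2} = 2 ∧
    ∀ χ : Cfsg.IrrCharacter ↥(Matrix.symplecticGroup (Fin n) F),
      (χ : ↥(Matrix.symplecticGroup (Fin n) F) → ℂ) 1 ≠ 1 →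
      (χ : ↥(Matrix.symplecticGroup (Fin n) F) → ℂ) 1 ≠ (((Fintype.card F) ^ n + 1 : ℕ) : ℂ) / 2 →
      (χ : ↥(Matrix.symplecticGroup (Fin n) F) → ℂ) 1 ≠ (((Fintype.card F) ^ n - 1 : ℕ) : ℂ) / 2 →
      (((Fintype.card F) ^ n - 1 : ℕ) : ℝ) * (((Fintype.card F) ^ n - Fintype.card F : ℕ) : ℝ) / (2 * ((Fintype.card F : ℕ) + 1 : ℝ)) ≤ ‖(χ : ↥(Matrix.symplecticGroup (Fin n) F) → ℂ) 1‖ := by
  obtain ⟨h, hh⟩ : Odd (Fintype.card F ^ n) := hodd.pow
  have hc := Cfsg.Agent.H53.Weil.deg_counts hn hodd (h := h) hh.symm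
  have e1 : (((Fintype.card F) ^ n + 1 : ℕ) : ℂ) / 2 = ((h + 1 : ℕ) : ℂ) := by
    rw [show Fintype.card F ^ n + 1 = 2 * (h + 1) by omega, Nat.cast_mul, Nat.cast_ofNat,
      mul_div_cancel_left₀ _ two_ne_zero]
  have e2 : (((Fintype.card F) ^ n - 1 : ℕ) : ℂ) / 2 = ((h : ℕ) : ℂ) := by
    rw [show Fintype.card F ^ n - 1 = 2 * h by omega, Nat.cast_mul, Nat.cast_ofNat,
      mul_div_cancel_left₀ _ two_ne_zero]
  simp only [e1, e2]
  refine ⟨hc.2, hc.1, fun χ h1 hp hm => ?_⟩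
  obtain ⟨k, ρ, hirr, hχ⟩ := χ.2
  have hk : (χ : ↥(Matrix.symplecticGroup (Fin n) F) → ℂ) 1 = (k : ℂ) := by
    rw [← hχ, Representation.char_one, Module.finrank_fin_fun]
  rw [hk] at h1 hp hm ⊢
  have hk1 : k ≠ 1 := fun e => h1 (by rw [e, Nat.cast_one])
  have hkp : k ≠ h + 1 := fun e => hp (by rw [e])
  have hkm : k ≠ h := fun e => hm (by rw [e])
  rcases Cfsg.Agent.H53.Weil.small_or_large hn hodd ρ hirr hk1 with hb | ⟨-, -, hd | hd⟩
  · rw [Complex.norm_natCast, div_le_iff₀ (by positivity)]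
    have hb' : ((_ : ℕ) : ℝ) ≤ ((_ : ℕ) : ℝ) := Nat.cast_le.mpr hb
    push_cast at hb' ⊢
    linarith
  · omega
  · omega

end Cfsg.Agent.S2524
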