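import Cfsg.Statements.S2525
import Cfsg.Agent.H75.FFour.Main

set_option autoImplicit false
open Cfsg

namespace Cfsg.Agent.S2525

/-- Let F be a finite field with q = 2^n elements and G = F₄(F). For an odd prime r let e(r, q) be the multiplicative order of q modulo r. Two distinct primes r, s dividing the order of G are non-adjacent in the prime graph of G (no element of order rs) if and only if, up to swapping r and s, either r = 2 and e(s, q) ∈ {8, 12}, or r, s are both odd with k = e(r, q) < l = e(s, q) and one of: l ∈ {8, 12}; l = 6 and k ∈ {3, 4}; l = 4 and k = 3. -/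
theorem result {F : Type*} [Field F] [Fintype F] (n : ℕ) (hn : 1 ≤ n) (hF : Fintype.card F = 2 ^ n)
    (r s : ℕ) (hr : r.Prime) (hs : s.Prime) (hrs : r ≠ s) (hrG : r ∣ Nat.card ↥(Cfsg.Lie.chevF4.group F)) (hsG : s ∣ Nat.card ↥(Cfsg.Lie.chevF4.group F)) :
    (¬ ∃ x : ↥(Cfsg.Lie.chevF4.group F), orderOf x = r * s) ↔
      ((r = 2 ∧ orderOf ((Fintype.card F : ℕ) : ZMod s) ∈ ({8, 12} : Finset ℕ)) ∨ (s = 2 ∧ orderOf ((Fintype.card F : ℕ) : ZMod r) ∈ ({8, 12} : Finset ℕ)) ∨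
       (r ≠ 2 ∧ s ≠ 2 ∧
         ((orderOf ((Fintype.card F : ℕ) : ZMod r) < orderOf ((Fintype.card F : ℕ) : ZMod s) ∧ (orderOf ((Fintype.card F : ℕ) : ZMod s) ∈ ({8, 12} : Finset ℕ) ∨ (orderOf ((Fintype.card F : ℕ) : ZMod s) = 6 ∧ orderOf ((Fintype.card F : ℕ) : ZMod r) ∈ ({3, 4} : Finset ℕ)) ∨ (orderOf ((Fintype.card F : ℕ) : ZMod s) = 4 ∧ orderOf ((Fintype.card F : ℕ) : ZMod r) = 3))) ∨
          (orderOf ((Fintype.card F : ℕ) : ZMod s) < orderOf ((Fintype.card F : ℕ) : ZMod r) ∧ (orderOf ((Fintype.card F : ℕ) : ZMod r) ∈ ({8, 12} : Finset ℕ) ∨ (orderOf ((Fintype.card F : ℕ) : ZMod r) = 6 ∧ orderOf ((Fintype.card F : ℕ) : ZMod s) ∈ ({3, 4} : Finset ℕ)) ∨ (orderOf ((Fintype.card F : ℕ) : ZMod r) = 4 ∧ orderOf ((Fintype.card F : ℕ) : ZMod s) = 3)))))) := by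
  classical
  haveI : CharP F 2 := by
    obtain ⟨p, hp⟩ := CharP.exists F
    haveI := Fact.mk (CharP.char_is_prime F p)
    obtain ⟨m, -, hm⟩ := FiniteField.card F p
    have h : p ∣ 2 ^ n := hF ▸ hm ▸ dvd_pow_self p m.ne_zero
    rw [← (Nat.prime_dvd_prime_iff_eq (Fact.out : p.Prime) Nat.prime_two).1
      ((Fact.out : p.Prime).dvd_of_dvd_pow h)]
    exact hp
  haveI := Fact.mk hr
  haveI := Fact.mk hs
  rw [← Nat.card_eq_fintype_card]
  have hzero : orderOf ((Nat.card F : ℕ) : ZMod 2) ∉ ({8, 12} : Finset ℕ) := by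
    have h0 : ((Nat.card F : ℕ) : ZMod 2) = 0 := by
      rw [ZMod.natCast_eq_zero_iff, Nat.card_eq_fintype_card, hF]
      exact dvd_pow_self 2 (by omega)
    rw [h0, orderOf_zero]
    decide
  by_cases hr2 : r = 2
  · subst hr2
    rw [H75.FFour.two_criterion hrs.symm hsG hrG]
    constructor
    · exact fun h => Or.inl ⟨rfl, h⟩
    · rintro (⟨-, h⟩ | ⟨rfl, -⟩ | ⟨h, -⟩)
      · exact h
      · exact absurd rfl hrs
      · exact absurd rfl h
  by_cases hs2 : s = 2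
  · subst hs2
    rw [mul_comm r 2, H75.FFour.two_criterion hrs hrG hsG]
    constructor
    · exact fun h => Or.inr (Or.inl ⟨rfl, h⟩)
    · rintro (⟨h, -⟩ | ⟨-, h⟩ | ⟨-, h, -⟩)
      · exact absurd h hr2
      · exact h
      · exact absurd rfl h
  simp only [hr2, hs2, false_and, false_or, not_false_eq_true, ne_eq, true_and]
  rcases le_total (orderOf ((Nat.card F : ℕ) : ZMod r)) (orderOf ((Nat.card F : ℕ) : ZMod s))
    with hle | hle
  · rw [H75.FFour.odd_criterion hr2 hs2 hrs hrG hsG hle]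
    exact ⟨Or.inl, fun h => h.elim id fun h => absurd h.1 (not_lt.2 hle)⟩
  · rw [mul_comm r s, H75.FFour.odd_criterion hs2 hr2 hrs.symm hsG hrG hle]
    exact ⟨Or.inr, fun h => h.elim (fun h => absurd h.1 (not_lt.2 hle)) id⟩

end Cfsg.Agent.S2525
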