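import Cfsg.Statements.S2531


set_option autoImplicit false
open Cfsg

namespace Cfsg.Agent.S2531

section
variable {F : Type*} [Field F] [Finite F]

open scoped LinearAlgebra.Projectivization

/-- Preimage of a submodule under an injective semilinear endomorphism of `F ^ n`. -/
theorem card_comap {n : ℕ} (σ : F ≃+* F) (f : (Fin n → F) →ₛₗ[(σ : F →+* F)] (Fin n → F))
    (hf : Function.Injective f) (W : Submodule F (Fin n → F)) :
    Nat.card (W.comap f) = Nat.card W := by
  haveI : Finite (Fin n → F) := inferInstance
  have hs := Finite.surjective_of_injective hf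
  exact Nat.card_congr (Equiv.subtypeEquiv (Equiv.ofBijective f ⟨hf, hs⟩) (fun v => Iff.rfl))

theorem prime_dvd_card_diff {V : Type*} [AddCommGroup V] [Module F V] [Module.Finite F V]
    (W H : Submodule F V) (p : ℕ) (hp : p ∣ Nat.card F) (hW : Module.finrank F W = 2)
    (hH : Module.finrank F H + 1 = Module.finrank F V) :
    p ∣ {v : V | v ∈ W ∧ v ∉ H}.ncard := by
  haveI : Finite V := Module.finite_of_finite F
  have hsplit : {v : V | v ∈ W ∧ v ∉ H}.ncard + Nat.card ↥(W ⊓ H) = Nat.card W := by
    rw [show Nat.card ↥(W ⊓ H) = ((W : Set V) ∩ (H : Set V)).ncard from Nat.card_coe_set_eq _,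
      show Nat.card W = (W : Set V).ncard from Nat.card_coe_set_eq _,
      ← Set.ncard_inter_add_ncard_sdiff_eq_ncard (W : Set V) (H : Set V), add_comm]
    rfl
  have h1 : Module.finrank F ↥(W ⊓ H) ≥ 1 := by
    have := Submodule.finrank_sup_add_finrank_inf_eq W H
    have := Submodule.finrank_le (W ⊔ H)
    omega
  rw [Module.natCard_eq_pow_finrank (K := F) (V := W), Module.natCard_eq_pow_finrank (K := F) (V := ↥(W ⊓ H))] at hsplit
  have ha : p ∣ Nat.card F ^ Module.finrank F ↥(W ⊓ H) := dvd_pow hp (by omega)
  have hb : p ∣ Nat.card F ^ Module.finrank F W := dvd_pow hp (by omega)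
  rw [← hsplit] at hb
  exact (Nat.dvd_add_left ha).mp hb

theorem no_sharp (n : ℕ) (hn : 3 ≤ n) (S : Set (Equiv.Perm (Projectivization F (Fin n → F))))
    (hS : ∀ s ∈ S, ∃ (σ : F ≃+* F) (f : (Fin n → F) →ₛₗ[(σ : F →+* F)] (Fin n → F)) (hf : Function.Injective f),
      ∀ x, s x = Projectivization.map f hf x) :
    ¬ (∀ a b c d : Projectivization F (Fin n → F), a ≠ b → c ≠ d →
        ∃! s, s ∈ S ∧ s a = c ∧ s b = d) := by
  classical
  intro huniq
  haveI := Fintype.ofFinite F
  obtain ⟨p, hp⟩ := CharP.exists F
  obtain ⟨k, hpp, hq⟩ := FiniteField.card F p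
  have hqp : p ∣ Nat.card F := by rw [Nat.card_eq_fintype_card, hq]; exact dvd_pow_self p k.pos.ne'
  haveI : Finite (Fin n → F) := inferInstance
  haveI := Fintype.ofFinite (Fin n → F)
  haveI := Fintype.ofFinite (Projectivization F (Fin n → F))
  haveI := Fintype.ofFinite (Equiv.Perm (Projectivization F (Fin n → F)))
  let e : Fin n → (Fin n → F) := fun i => Pi.single i (1 : F)
  let i0 : Fin n := ⟨0, by omega⟩
  let i1 : Fin n := ⟨1, by omega⟩
  let i2 : Fin n := ⟨2, by omega⟩
  have he : e i0 ≠ 0 := fun h => one_ne_zero (α := F) (by simpa [e] using congrFun h i0)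
  let a : Projectivization F (Fin n → F) := Projectivization.mk F (e i0) he
  -- the line `W` spanned by `e 1`, `e 2`, and the hyperplane `H = {v | v 0 = 0}`
  let W : Submodule F (Fin n → F) := Submodule.span F {e i1, e i2}
  have hW : Module.finrank F W = 2 := by
    have hli : LinearIndependent F ![e i1, e i2] := by
      rw [LinearIndependent.pair_iff]
      intro s t hst
      have h1 := congrFun hst i1
      have h2 := congrFun hst i2
      simp [e, i1, i2, Pi.single_apply] at h1 h2
      exact ⟨h1, h2⟩
    have h := finrank_span_eq_card hli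
    rw [Fintype.card_fin] at h
    rw [show Set.range ![e i1, e i2] = {e i1, e i2} by simp [Matrix.range_cons, Matrix.range_empty, Set.pair_comm]] at h
    exact h
  let H : Submodule F (Fin n → F) := LinearMap.ker (LinearMap.proj (R := F) i0)
  have hH : Module.finrank F H + 1 = n := by
    have h := (LinearMap.proj (R := F) (φ := fun _ : Fin n => F) i0).finrank_range_add_finrank_ker
    rw [LinearMap.range_eq_top.mpr (fun c => ⟨Pi.single i0 c, by simp⟩), finrank_top,
      Module.finrank_self, Module.finrank_fintype_fun_eq_card, Fintype.card_fin] at h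
    change 1 + Module.finrank F H = n at h
    omega
  have hWH : W ≤ H := Submodule.span_le.mpr (by
    rintro v (rfl | rfl) <;> simp [H, e, i0, i1, i2, Pi.single_apply])
  -- vectors outside `H` and outside the point `a`
  let C : Finset (Fin n → F) := Finset.univ.filter (fun v => v ∉ H ∧ v ∉ (F ∙ e i0))
  let Wp : Finset (Projectivization F (Fin n → F)) := Finset.univ.filter (fun x => x.submodule ≤ W)
  let S' : Finset (Equiv.Perm (Projectivization F (Fin n → F))) :=
    Finset.univ.filter (fun s => s ∈ S ∧ s a = a)
  let pt : (v : Fin n → F) → Projectivization F (Fin n → F) := fun v =>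
    if h : v = 0 then a else Projectivization.mk F v h
  have hC0 : ∀ v ∈ C, v ≠ 0 := fun v hv h => (Finset.mem_filter.mp hv).2.1 (h ▸ H.zero_mem)
  have hCa : ∀ v ∈ C, pt v ≠ a := by
    intro v hv h
    simp only [pt, dif_neg (hC0 v hv), a, Projectivization.mk_eq_mk_iff'] at h
    obtain ⟨c, rfl⟩ := h
    exact (Finset.mem_filter.mp hv).2.2 (Submodule.smul_mem _ c (Submodule.mem_span_singleton_self _))
  have hWa : ∀ x ∈ Wp, x ≠ a := by
    intro x hx h
    subst h
    have := hWH ((Finset.mem_filter.mp hx).2 (by
      rw [Projectivization.submodule_mk]; exact Submodule.mem_span_singleton_self _))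
    simp [H, e] at this
  -- count in two ways
  have hcount : ∑ s ∈ S', (C.filter (fun v => s (pt v) ∈ Wp)).card = C.card * Wp.card := by
    simp only [Finset.card_filter]
    rw [Finset.sum_comm]
    rw [← smul_eq_mul, ← Finset.sum_const]
    refine Finset.sum_congr rfl fun v hv => ?_
    rw [← Finset.card_filter]
    refine Finset.card_bij (fun s _ => s (pt v)) (fun s hs => (Finset.mem_filter.mp hs).2) ?_ ?_
    · intro s hs t ht hst
      simp only [Finset.mem_filter, S', Finset.mem_univ, true_and] at hs ht
      exact (huniq a (pt v) a (s (pt v)) (Ne.symm (hCa v hv)) (Ne.symm (hWa _ hs.2))).unique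
        ⟨hs.1.1, hs.1.2, rfl⟩ ⟨ht.1.1, ht.1.2, hst.symm⟩
    · intro x hx
      obtain ⟨s, ⟨hsS, hsa, hsv⟩, -⟩ := huniq a (pt v) a x (Ne.symm (hCa v hv)) (Ne.symm (hWa x hx))
      exact ⟨s, by simp [S', hsS, hsa, hsv, hx], hsv⟩
  have hdvd : ∀ s ∈ S', p ∣ (C.filter (fun v => s (pt v) ∈ Wp)).card := by
    intro s hs
    simp only [S', Finset.mem_filter, Finset.mem_univ, true_and] at hs
    obtain ⟨σ, f, hf, hsf⟩ := hS s hs.1
    have hW' : Module.finrank F (W.comap f) = 2 := by
      have h := card_comap σ f hf W
      rw [Module.natCard_eq_pow_finrank (K := F) (V := ↥(W.comap f)),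
        Module.natCard_eq_pow_finrank (K := F) (V := ↥W), hW] at h
      exact Nat.pow_right_injective (Finite.one_lt_card (α := F)) h
    have := prime_dvd_card_diff (W.comap f) H p hqp hW'
      (by rw [Module.finrank_fintype_fun_eq_card, Fintype.card_fin]; exact hH)
    have hset : ↑(C.filter (fun v => s (pt v) ∈ Wp)) = {v | v ∈ W.comap f ∧ v ∉ H} := by
      ext v
      have hfa : ∀ c : F, f (c • e i0) ∈ W → c • e i0 ∈ H := by
        intro c hc
        rcases eq_or_ne c 0 with rfl | hc0
        · simp
        exfalso
        have hne : c • e i0 ≠ 0 := smul_ne_zero hc0 he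
        have ha : Projectivization.mk F (c • e i0) hne = a :=
          (Projectivization.mk_eq_mk_iff' F _ _ _ _).mpr ⟨c, rfl⟩
        refine hWa (s a) ?_ hs.2
        rw [← ha, hsf, Projectivization.map_mk]
        simp only [Wp, Finset.mem_filter, Finset.mem_univ, true_and, Projectivization.submodule_mk,
          Submodule.span_singleton_le_iff_mem]
        exact hc
      simp only [Finset.coe_filter, C, Finset.mem_filter, Finset.mem_univ, true_and, Set.mem_ofPred_eq]
      constructor
      · rintro ⟨⟨hvH, hva⟩, hv⟩
        have hv0 : v ≠ 0 := fun h => hvH (h ▸ H.zero_mem)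
        simp only [pt, dif_neg hv0, hsf, Projectivization.map_mk, Wp, Finset.mem_filter,
          Finset.mem_univ, true_and, Projectivization.submodule_mk,
          Submodule.span_singleton_le_iff_mem] at hv
        exact ⟨hv, hvH⟩
      · rintro ⟨hv, hvH⟩
        have hv0 : v ≠ 0 := fun h => hvH (h ▸ H.zero_mem)
        refine ⟨⟨hvH, fun hva => ?_⟩, ?_⟩
        · obtain ⟨c, rfl⟩ := Submodule.mem_span_singleton.mp hva
          exact hvH (hfa c hv)
        · simp only [pt, dif_neg hv0, hsf, Projectivization.map_mk, Wp, Finset.mem_filter,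
            Finset.mem_univ, true_and, Projectivization.submodule_mk,
            Submodule.span_singleton_le_iff_mem]
          exact hv
    rw [← hset, Set.ncard_coe_finset] at this
    exact this
  have hp' : p ∣ C.card * Wp.card := hcount ▸ Finset.dvd_sum hdvd
  -- but neither factor is divisible by `p`
  have hCc : C.card + Nat.card F ^ (n - 1) + Nat.card F = Nat.card F ^ n + 1 := by
    have hHc : (Finset.univ.filter (fun v => v ∈ H)).card = Nat.card F ^ (n - 1) := by
      rw [← Fintype.card_subtype, ← Nat.card_eq_fintype_card, show n - 1 = Module.finrank F H by omega]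
      exact Module.natCard_eq_pow_finrank
    have hLc : (Finset.univ.filter (fun v => v ∈ (F ∙ e i0))).card = Nat.card F := by
      rw [← Fintype.card_subtype, ← Nat.card_eq_fintype_card]
      show Nat.card ↥(F ∙ e i0) = _
      rw [Module.natCard_eq_pow_finrank (K := F), finrank_span_singleton he, pow_one]
    have hI : (Finset.univ.filter (fun v => v ∈ H)) ∩ (Finset.univ.filter (fun v => v ∈ (F ∙ e i0))) = {0} := by
      ext v
      simp only [Finset.mem_inter, Finset.mem_filter, Finset.mem_univ, true_and, Finset.mem_singleton]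
      constructor
      · rintro ⟨hvH, hvL⟩
        obtain ⟨c, rfl⟩ := Submodule.mem_span_singleton.mp hvL
        have : c = 0 := by simpa [H, e] using hvH
        simp [this]
      · rintro rfl; simp
    have hU := Finset.card_union_add_card_inter (Finset.univ.filter (fun v => v ∈ H))
      (Finset.univ.filter (fun v => v ∈ (F ∙ e i0)))
    rw [hI, Finset.card_singleton, hHc, hLc] at hU
    have hCeq : C = ((Finset.univ.filter (fun v => v ∈ H)) ∪ (Finset.univ.filter (fun v => v ∈ (F ∙ e i0))))ᶜ := by
      ext v; simp [C]
    have := Finset.card_add_card_compl ((Finset.univ.filter (fun v => v ∈ H)) ∪ (Finset.univ.filter (fun v => v ∈ (F ∙ e i0))))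
    rw [← hCeq, ← Nat.card_eq_fintype_card (α := Fin n → F), Nat.card_fun,
      Nat.card_eq_fintype_card (α := Fin n), Fintype.card_fin] at this
    omega
  have hWc : Wp.card * (Nat.card F - 1) + 1 = Nat.card F ^ 2 := by
    have h1 : Wp.card = Nat.card (Projectivization F W) := by
      rw [← Fintype.card_subtype, ← Nat.card_eq_fintype_card]
      refine (Nat.card_congr (Equiv.ofBijective
        (fun x : Projectivization F W => (⟨Projectivization.map W.subtype W.injective_subtype x, ?_⟩ :
          {x : Projectivization F (Fin n → F) // x.submodule ≤ W})) ⟨?_, ?_⟩)).symm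
      · induction x using Projectivization.ind with
        | h v hv =>
          rw [Projectivization.map_mk, Projectivization.submodule_mk, Submodule.span_singleton_le_iff_mem]
          exact v.2
      · intro x y hxy
        exact Projectivization.map_injective _ W.injective_subtype (congrArg Subtype.val hxy)
      · rintro ⟨x, hx⟩
        induction x using Projectivization.ind with
        | h v hv =>
          rw [Projectivization.submodule_mk, Submodule.span_singleton_le_iff_mem] at hx
          exact ⟨Projectivization.mk F ⟨v, hx⟩ (fun h => hv (congrArg Subtype.val h)),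
            Subtype.ext (Projectivization.map_mk W.subtype W.injective_subtype _ _)⟩
    rw [h1, ← Projectivization.card' F W, Module.natCard_eq_pow_finrank (K := F), hW]
  rcases (Nat.Prime.dvd_mul hpp).mp hp' with h | h
  · have h1 : p ∣ Nat.card F ^ n + 1 := by
      rw [← hCc]; exact dvd_add (dvd_add h (dvd_pow hqp (by omega))) hqp
    have := (Nat.dvd_add_right (dvd_pow hqp (show n ≠ 0 by omega))).mp h1
    exact hpp.one_lt.ne' (Nat.dvd_one.mp this)
  · have h1 : p ∣ Wp.card * (Nat.card F - 1) + 1 := by rw [hWc]; exact dvd_pow hqp (by norm_num)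
    have := (Nat.dvd_add_right (dvd_mul_of_dvd_left h _)).mp h1
    exact hpp.one_lt.ne' (Nat.dvd_one.mp this)

end


/-- Let `F` be a finite field and `n ≥ 3`. No set of permutations of the points of the projective space of `Fⁿ`, each induced by an invertible semilinear transformation of `Fⁿ` (so a subset of the full projective semilinear group), is sharply 2-transitive on the points: it is impossible that for all pairs of distinct points `(a, b)` and `(c, d)` exactly one member of the set sends `a` to `c` and `b` to `d`. -/
theorem result {F : Type*} [Field F] [Finite F]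
    (n : ℕ) (hn : 3 ≤ n) (S : Set (Equiv.Perm (Projectivization F (Fin n → F))))
    (hS : ∀ s ∈ S, ∃ (σ : F ≃+* F) (f : (Fin n → F) →ₛₗ[(σ : F →+* F)] (Fin n → F)) (hf : Function.Injective f),
      ∀ x, s x = Projectivization.map f hf x) :
    ¬ (∀ a b c d : Projectivization F (Fin n → F), a ≠ b → c ≠ d →
        ∃! s, s ∈ S ∧ s a = c ∧ s b = d) := by
  exact no_sharp n hn S hS

end Cfsg.Agent.S2531
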