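import Cfsg.Statements.S2532


set_option autoImplicit false
open Cfsg

namespace Cfsg.Agent.S2532

theorem hom_units_eq_one {α : Type*} [Fintype α] [DecidableEq α] (χ : Equiv.Perm α →* ℤˣ) {σ : Equiv.Perm α}
    (hσ : σ ∈ alternatingGroup α) : χ σ = 1 := by
  rw [← Equiv.Perm.closure_three_cycles_eq_alternating] at hσ
  refine Subgroup.closure_induction (p := fun x _ => χ x = 1) ?_ (map_one χ) ?_ ?_ hσ
  · intro c hc
    have h3 : χ c ^ 3 = 1 := by rw [← map_pow, ← hc.orderOf, pow_orderOf_eq_one, map_one]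
    rwa [pow_succ, Int.units_sq, one_mul] at h3
  · intro a b _ _ ha hb
    rw [map_mul, ha, hb, one_mul]
  · intro a _ ha
    rw [map_inv, ha, inv_one]


/-- There is a function `f` of two natural-number arguments such that, whenever `m ≥ f(n, r)`, every subgroup of order `n` of the alternating group of degree `m` centralizes some subgroup of that alternating group isomorphic to the alternating group of degree `r`. -/
theorem result :
    ∃ f : ℕ → ℕ → ℕ, ∀ (m r : ℕ) (H : Subgroup ↥(alternatingGroup (Fin m))), f (Nat.card H) r ≤ m →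
      ∃ K : Subgroup ↥(alternatingGroup (Fin m)), Nonempty (↥K ≃* ↥(alternatingGroup (Fin r))) ∧
        K ≤ Subgroup.centralizer (H : Set ↥(alternatingGroup (Fin m))) := by
  classical
  refine ⟨fun n r => 2 ^ n * n * r, fun m r H hm => ?_⟩
  set n := Nat.card H with hn
  let _ : MulAction ↥H (Fin m) := MulAction.compHom _ ((alternatingGroup (Fin m)).subtype.comp H.subtype)
  haveI : Fintype ↥H := Fintype.ofFinite _
  obtain ⟨S, -, hS⟩ := Finset.exists_le_card_fiber_of_nsmul_le_card_of_maps_to (s := (Finset.univ : Finset (Fin m)))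
    (t := (Finset.univ : Finset (Finset ↥H))) (f := fun x => Finset.univ.filter fun h : ↥H => h • x = x)
    (fun _ _ => Finset.mem_univ _) Finset.univ_nonempty (b := n * r) (by
      rw [Finset.card_univ, Finset.card_univ, Fintype.card_finset, Fintype.card_fin, smul_eq_mul,
        ← Nat.card_eq_fintype_card, ← mul_assoc]
      exact hm)
  set T := Finset.univ.filter fun x : Fin m => (Finset.univ.filter fun h : ↥H => h • x = x) = S with hT
  have horb : r ≤ (T.image fun x => (Quotient.mk'' x : MulAction.orbitRel.Quotient ↥H (Fin m))).card := by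
    have hle : T.card ≤ (T.image fun x => (Quotient.mk'' x : MulAction.orbitRel.Quotient ↥H (Fin m))).card * n := by
      rw [mul_comm]
      refine Finset.card_le_mul_card_image T n fun o ho => ?_
      obtain ⟨y, -, rfl⟩ := Finset.mem_image.mp ho
      refine le_trans (Finset.card_le_card (t := Finset.univ.image fun h : ↥H => h • y) ?_) ?_
      · intro x hx
        have hx' := (Finset.mem_filter.mp hx).2
        obtain ⟨h, rfl⟩ := Quotient.eq''.mp hx'
        exact Finset.mem_image_of_mem _ (Finset.mem_univ h)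
      · exact Finset.card_image_le.trans (by rw [Finset.card_univ, hn, Nat.card_eq_fintype_card])
    have hpos : 0 < n := Nat.card_pos
    have : n * r ≤ T.card := hS
    by_contra h
    have := Nat.mul_lt_mul_of_pos_right (Nat.lt_of_not_le h) hpos
    rw [mul_comm r n] at this
    omega
  obtain ⟨O, hOsub, hOcard⟩ := Finset.exists_subset_card_eq horb
  let eo : Fin r ≃ O := (Fintype.equivFinOfCardEq (by rw [Fintype.card_coe, hOcard])).symm
  have hsec : ∀ i, ∃ x ∈ T, (Quotient.mk'' x : MulAction.orbitRel.Quotient ↥H (Fin m)) = (eo i).1 := fun i =>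
    Finset.mem_image.mp (hOsub (eo i).2)
  choose x hxT hxo using hsec
  have hstab : ∀ i j, ∀ h : ↥H, h • x i = x i ↔ h • x j = x j := by
    intro i j h
    have hi := (Finset.mem_filter.mp (hxT i)).2.trans (Finset.mem_filter.mp (hxT j)).2.symm
    simpa using Finset.ext_iff.mp hi h
  have hxinj : ∀ (i j : Fin r) (h k : ↥H), h • x i = k • x j → i = j := by
    intro i j h k e
    apply eo.injective
    apply Subtype.ext
    rw [← hxo i, ← hxo j]
    refine Quotient.eq''.mpr ⟨h⁻¹ * k, ?_⟩
    show (h⁻¹ * k) • x j = x i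
    rw [mul_smul, ← e, inv_smul_smul]
  rcases Nat.eq_zero_or_pos r with rfl | hr
  · refine ⟨⊥, ⟨?_⟩, bot_le⟩
    exact { toFun := fun _ => 1, invFun := fun _ => 1, left_inv := fun _ => Subsingleton.elim _ _,
            right_inv := fun a => Subtype.ext (Subsingleton.elim _ _), map_mul' := fun _ _ => (one_mul _).symm }
  let i0 : Fin r := ⟨0, hr⟩
  let ι : Fin r × MulAction.orbit ↥H (x i0) → Fin m := fun p => (Classical.choose p.2.2) • x p.1
  have hι : ∀ (i : Fin r) (h : ↥H), ι (i, ⟨h • x i0, h, rfl⟩) = h • x i := by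
    intro i h
    show Classical.choose _ • x i = h • x i
    have hsp := Classical.choose_spec (⟨h • x i0, h, rfl⟩ : MulAction.orbit ↥H (x i0)).2
    generalize Classical.choose (⟨h • x i0, h, rfl⟩ : MulAction.orbit ↥H (x i0)).2 = k at hsp ⊢
    have hfix : (h⁻¹ * k) • x i0 = x i0 := by
      rw [mul_smul, show k • x i0 = h • x i0 from hsp, inv_smul_smul]
    have h2 := (hstab i0 i _).mp hfix
    rw [mul_smul, inv_smul_eq_iff] at h2
    exact h2
  have hinj : Function.Injective ι := by
    rintro ⟨i, _, h, rfl⟩ ⟨j, _, k, rfl⟩ e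
    rw [hι, hι] at e
    obtain rfl := hxinj i j h k e
    refine Prod.ext rfl (Subtype.ext ?_)
    show h • x i0 = k • x i0
    have hfix : (k⁻¹ * h) • x i = x i := by rw [mul_smul, e, inv_smul_smul]
    have h2 := (hstab i i0 _).mp hfix
    rwa [mul_smul, inv_smul_eq_iff] at h2
  let ψ : Equiv.Perm (Fin r) →* Equiv.Perm (Fin m) :=
    (Equiv.Perm.viaEmbeddingHom ⟨ι, hinj⟩).comp
      (MonoidHom.mk' (fun σ => Equiv.prodCongr σ (Equiv.refl _)) fun a b => Equiv.ext fun p => rfl)
  have hψa : ∀ σ : ↥(alternatingGroup (Fin r)), ψ σ.1 ∈ alternatingGroup (Fin m) := fun σ =>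
    Equiv.Perm.mem_alternatingGroup.mpr (hom_units_eq_one (Equiv.Perm.sign.comp ψ) σ.2)
  let θ : ↥(alternatingGroup (Fin r)) →* ↥(alternatingGroup (Fin m)) :=
    (ψ.comp (alternatingGroup (Fin r)).subtype).codRestrict (alternatingGroup (Fin m)) hψa
  have hθ : Function.Injective θ := by
    intro a b e
    have e1 : Equiv.prodCongr a.1 (Equiv.refl (MulAction.orbit ↥H (x i0))) = Equiv.prodCongr b.1 (Equiv.refl _) :=
      Equiv.Perm.viaEmbeddingHom_injective ⟨ι, hinj⟩ (congrArg Subtype.val e)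
    exact Subtype.ext (Equiv.ext fun i => congrArg Prod.fst (Equiv.congr_fun e1 (i, ⟨x i0, MulAction.mem_orbit_self _⟩)))
  refine ⟨θ.range, ⟨(MonoidHom.ofInjective hθ).symm⟩, ?_⟩
  rintro _ ⟨σ, rfl⟩
  refine Subgroup.mem_centralizer_iff.mpr fun g hg => ?_
  apply Subtype.ext
  refine Equiv.ext fun y => ?_
  show g.1 (ψ σ.1 y) = ψ σ.1 (g.1 y)
  let hh : ↥H := ⟨g, hg⟩
  show hh • (ψ σ.1 y) = ψ σ.1 (hh • y)
  have hval : ∀ p, ψ σ.1 (ι p) = ι (σ.1 p.1, p.2) := fun p => Equiv.Perm.viaEmbedding_apply _ ⟨ι, hinj⟩ p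
  by_cases hy : y ∈ Set.range ι
  · obtain ⟨⟨i, _, k, rfl⟩, rfl⟩ := hy
    rw [hval, hι, hι, ← mul_smul, ← mul_smul, ← hι i, hval, hι]
  · have hy' : hh • y ∉ Set.range ι := by
      rintro ⟨⟨i, _, k, rfl⟩, e⟩
      rw [hι] at e
      exact hy ⟨(i, ⟨(hh⁻¹ * k) • x i0, _, rfl⟩), by rw [hι, mul_smul, e, inv_smul_smul]⟩
    have hfix : ∀ z, z ∉ Set.range ι → ψ σ.1 z = z := fun z hz =>
      Equiv.Perm.viaEmbedding_apply_of_notMem _ ⟨ι, hinj⟩ z hz
    rw [hfix y hy, hfix _ hy']

end Cfsg.Agent.S2532
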