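import Cfsg.Statements.S2533
-- import your own Cfsg.Agent.* helpers here

set_option autoImplicit false
open Cfsg

namespace Cfsg.Agent.S2533

open Matrix

variable (p : ℕ) [Fact p.Prime]

/-- The kernel of the group of order `2p³`. -/
abbrev VV : Type := Multiplicative (Fin 3 → ZMod p)

/-- Signs act by scalar multiplication. -/
def act : ℤˣ →* MulAut (VV p) where
  toFun ε :=
    { toFun := fun a => Multiplicative.ofAdd ((ε : ℤ) • a.toAdd)
      invFun := fun a => Multiplicative.ofAdd ((ε : ℤ) • a.toAdd)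
      left_inv := fun a => by
        rcases Int.units_eq_one_or ε with h | h <;> simp [h]
      right_inv := fun a => by
        rcases Int.units_eq_one_or ε with h | h <;> simp [h]
      map_mul' := fun a b => by
        rw [toAdd_mul, smul_add, ofAdd_add] }
  map_one' := by ext a; simp
  map_mul' ε δ := by
    ext a
    simp [mul_smul]

/-- The group `C_p³ : 2` with the inversion action. -/
abbrev HH : Type := VV p ⋊[act p] ℤˣ

/-- The shift matrix. -/
def J (m : ℕ) : Matrix (Fin m) (Fin m) (ZMod p) := of fun i j => if i.val + 1 = j.val then 1 else 0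

variable {p}

lemma commute_J_scalar {m : ℕ} (hm : 0 < m) (A : Matrix (Fin m) (Fin m) (ZMod p))
    (h1 : A * J p m = J p m * A) (h2 : A * (J p m)ᵀ = (J p m)ᵀ * A) :
    A = (A ⟨0, hm⟩ ⟨0, hm⟩) • (1 : Matrix (Fin m) (Fin m) (ZMod p)) := by
  have hc : ∀ (j : ℕ) (hj : j < m) (i : Fin m),
      A i ⟨j, hj⟩ = if i.val = j then A ⟨0, hm⟩ ⟨0, hm⟩ else 0 := by
    intro j
    induction j with
    | zero =>
      intro hj i
      rcases Nat.eq_zero_or_pos i.val with hi | hi
      · rw [if_pos hi]
        congr 1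
        exact Fin.ext hi
      · rw [if_neg (by omega)]
        let k : Fin m := ⟨i.val - 1, by omega⟩
        have e := congrFun (congrFun h1 k) ⟨0, hj⟩
        rw [mul_apply, mul_apply, Finset.sum_eq_zero, Finset.sum_eq_single i] at e
        · have hk : k.val + 1 = i.val := by simp only [k]; omega
          simp only [J, of_apply, if_pos hk, one_mul] at e
          exact e.symm
        · intro b _ hb
          have hk : k.val + 1 ≠ b.val := fun hh => hb (Fin.ext (by simp only [k] at hh; omega))
          simp only [J, of_apply, if_neg hk, zero_mul]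
        · simp
        · intro b _
          simp [J]
    | succ j ih =>
      intro hj i
      have e := congrFun (congrFun h2 i) ⟨j, by omega⟩
      rw [mul_apply, mul_apply, Finset.sum_eq_single ⟨j + 1, hj⟩] at e
      · simp only [transpose_apply, J, of_apply, if_true, mul_one] at e
        rw [e]
        simp only [ih (by omega)]
        rcases Nat.eq_zero_or_pos i.val with hi | hi
        · rw [if_neg (by omega)]
          refine Finset.sum_eq_zero fun b _ => ?_
          rw [if_neg (by omega), zero_mul]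
        · rw [Finset.sum_eq_single ⟨i.val - 1, by omega⟩]
          · rw [if_pos (show i.val - 1 + 1 = i.val by omega), one_mul]
            simp only [show (i.val - 1 = j) = (i.val = j + 1) by apply propext; omega]
          · intro b _ hb
            rw [if_neg fun hh => hb (Fin.ext (by simp; omega)), zero_mul]
          · simp
      · intro b _ hb
        simp only [transpose_apply, J, of_apply]
        rw [if_neg fun hh => hb (Fin.ext hh.symm), mul_zero]
      · simp
  ext i j
  rw [hc j.val j.isLt i, Matrix.smul_apply, Matrix.one_apply]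
  by_cases hij : i = j
  · subst hij; simp
  · rw [if_neg fun hh => hij (Fin.ext hh), if_neg hij, smul_zero]

variable (p) in
/-- The brick: the three matrices `1`, `J`, `Jᵀ`. -/
def X (m : ℕ) (a : Fin 3 → ZMod p) : Matrix (Fin m) (Fin m) (ZMod p) :=
  a 0 • 1 + a 1 • J p m + a 2 • (J p m)ᵀ

lemma X_add (m : ℕ) (a b : Fin 3 → ZMod p) : X p m (a + b) = X p m a + X p m b := by
  simp only [X, Pi.add_apply, add_smul]; abel

lemma X_zero (m : ℕ) : X p m 0 = 0 := by simp [X]

lemma X_neg (m : ℕ) (a : Fin 3 → ZMod p) : X p m (-a) = -X p m a := by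
  simp only [X, Pi.neg_apply, neg_smul]; abel

lemma eq_zero_of_X (m : ℕ) (hm : 2 ≤ m) (a : Fin 3 → ZMod p) (h : X p m a = 0) : a = 0 := by
  have h0 := congrFun (congrFun h ⟨0, by omega⟩) ⟨0, by omega⟩
  have h1 := congrFun (congrFun h ⟨0, by omega⟩) ⟨1, by omega⟩
  have h2 := congrFun (congrFun h ⟨1, by omega⟩) ⟨0, by omega⟩
  simp [X, J, Matrix.one_apply, Fin.ext_iff] at h0 h1 h2
  funext i
  fin_cases i <;> assumption

lemma core (hp : p ≠ 2) (m : ℕ) (hm : 2 ≤ m) (he : Even m) :
    ∃ ψ : HH p →* Matrix.SpecialLinearGroup (Fin m ⊕ Fin m) (ZMod p),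
      (∀ h, ψ h ∈ Subgroup.center _ → h = 1) ∧
      ∀ g, (∀ h, g * ψ h * g⁻¹ * (ψ h)⁻¹ ∈ Subgroup.center _) → g ∈ Subgroup.center _ := by
  let f1 : VV p →* Matrix.SpecialLinearGroup (Fin m ⊕ Fin m) (ZMod p) :=
    { toFun := fun a => ⟨fromBlocks 1 (X p m a.toAdd) 0 1, by simp⟩
      map_one' := Subtype.ext (by simp [X_zero])
      map_mul' := fun a b => Subtype.ext (by
        show fromBlocks 1 _ 0 1 = fromBlocks 1 _ 0 1 * fromBlocks 1 _ 0 1
        simp [fromBlocks_multiply, X_add, add_comm]) }
  let f2 : ℤˣ →* Matrix.SpecialLinearGroup (Fin m ⊕ Fin m) (ZMod p) :=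
    { toFun := fun ε => ⟨fromBlocks 1 0 0 (((ε : ℤ) : ZMod p) • 1), by
        rcases Int.units_eq_one_or ε with h | h <;> simp [h, Matrix.det_neg, he.neg_one_pow]⟩
      map_one' := Subtype.ext (by simp)
      map_mul' := fun a b => Subtype.ext (by
        show fromBlocks 1 0 0 _ = fromBlocks 1 0 0 _ * fromBlocks 1 0 0 _
        simp [fromBlocks_multiply, smul_smul, mul_comm]) }
  have hf1 : ∀ a, (f1 a : Matrix (Fin m ⊕ Fin m) (Fin m ⊕ Fin m) (ZMod p)) =
      fromBlocks 1 (X p m a.toAdd) 0 1 := fun a => rfl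
  have hf2 : ∀ ε, (f2 ε : Matrix (Fin m ⊕ Fin m) (Fin m ⊕ Fin m) (ZMod p)) =
      fromBlocks 1 0 0 (((ε : ℤ) : ZMod p) • 1) := fun ε => rfl
  have hcompat : ∀ ε, f1.comp (act p ε).toMonoidHom = (MulAut.conj (f2 ε)).toMonoidHom.comp f1 := by
    intro ε
    refine MonoidHom.ext fun a => ?_
    rw [MonoidHom.comp_apply, MonoidHom.comp_apply, MulEquiv.coe_toMonoidHom,
      MulEquiv.coe_toMonoidHom, MulAut.conj_apply, eq_mul_inv_iff_mul_eq]
    apply Subtype.ext
    show fromBlocks 1 (X p m ((ε : ℤ) • a.toAdd)) 0 1 *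
        fromBlocks 1 0 0 (((ε : ℤ) : ZMod p) • (1 : Matrix (Fin m) (Fin m) (ZMod p))) =
      fromBlocks 1 0 0 (((ε : ℤ) : ZMod p) • (1 : Matrix (Fin m) (Fin m) (ZMod p))) *
        fromBlocks 1 (X p m a.toAdd) 0 1
    rcases Int.units_eq_one_or ε with h | h <;>
      simp [h, fromBlocks_multiply, X_neg]
  have hψ : ∀ h, (SemidirectProduct.lift f1 f2 hcompat h :
      Matrix.SpecialLinearGroup (Fin m ⊕ Fin m) (ZMod p)) = f1 h.left * f2 h.right := fun h => rfl
  refine ⟨SemidirectProduct.lift f1 f2 hcompat, fun h hh => ?_, fun g hg => ?_⟩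
  · rw [hψ, Matrix.SpecialLinearGroup.mem_center_iff] at hh
    obtain ⟨c, -, hc⟩ := hh
    rw [Matrix.SpecialLinearGroup.coe_mul, hf1, hf2, fromBlocks_multiply] at hc
    simp [smul_one_eq_diagonal] at hc
    have e1 := congrArg toBlocks₁₁ hc
    have e2 := congrArg toBlocks₁₂ hc
    have e4 := congrArg toBlocks₂₂ hc
    have c1 : c = 1 := by
      have := congrFun (congrFun e1 ⟨0, by omega⟩) ⟨0, by omega⟩
      simpa [toBlocks₁₁, Matrix.scalar_apply] using this
    have hr : h.right = 1 := by
      rcases Int.units_eq_one_or h.right with h' | h'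
      · exact h'
      · exfalso
        have := congrFun (congrFun e4 ⟨0, by omega⟩) ⟨0, by omega⟩
        simp [toBlocks₂₂, Matrix.scalar_apply, c1, h'] at this
        haveI hf : Fact (2 < p) := ⟨lt_of_le_of_ne (Fact.out : p.Prime).two_le hp.symm⟩
        exact ZMod.neg_one_ne_one (n := p) (by simpa using this.symm)
    refine SemidirectProduct.ext (toAdd_eq_zero.mp (eq_zero_of_X m hm _ ?_)) hr
    ext i j
    have := congrFun (congrFun e2 i) j
    simpa [toBlocks₁₂, Matrix.scalar_apply, hr] using this.symm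
  · haveI : Nonempty (Fin m) := ⟨⟨0, by omega⟩⟩
    have hz : ∀ h, ∃ z : ZMod p, (g : Matrix _ _ (ZMod p)) * (SemidirectProduct.lift f1 f2 hcompat h :
        Matrix.SpecialLinearGroup (Fin m ⊕ Fin m) (ZMod p)).1 =
        z • ((SemidirectProduct.lift f1 f2 hcompat h :
        Matrix.SpecialLinearGroup (Fin m ⊕ Fin m) (ZMod p)).1 * g.1) := by
      intro h
      obtain ⟨z, -, hz⟩ := Matrix.SpecialLinearGroup.mem_center_iff.mp (hg h)
      refine ⟨z, ?_⟩
      set u := SemidirectProduct.lift f1 f2 hcompat h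
      have e : g * u = (g * u * g⁻¹ * u⁻¹) * (u * g) := by group
      rw [← Matrix.SpecialLinearGroup.coe_mul, ← Matrix.SpecialLinearGroup.coe_mul, e,
        Matrix.SpecialLinearGroup.coe_mul, ← hz]
      ext i j
      simp
    obtain ⟨A, B, C, D, hG⟩ : ∃ A B C D, (g : Matrix (Fin m ⊕ Fin m) (Fin m ⊕ Fin m) (ZMod p)) =
        fromBlocks A B C D := ⟨_, _, _, _, (fromBlocks_toBlocks _).symm⟩
    have h2 : (2 : ZMod p) ≠ 0 := by
      intro h
      exact hp ((Nat.prime_dvd_prime_iff_eq Fact.out Nat.prime_two).mp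
        ((ZMod.natCast_eq_zero_iff _ _).mp (by exact_mod_cast h)))
    have hu : ∀ a, A * X p m a = X p m a * D ∧ C * X p m a = 0 ∧ X p m a * C = 0 := by
      intro a
      obtain ⟨z, hz⟩ := hz (SemidirectProduct.inl (Multiplicative.ofAdd a))
      rw [SemidirectProduct.lift_inl, hG] at hz
      rw [hf1] at hz
      simp [fromBlocks_multiply, fromBlocks_smul, fromBlocks_inj] at hz
      obtain ⟨ha, hb, hc, hd⟩ := hz
      suffices hz1 : z = 1 by
        subst hz1
        simp only [one_smul] at ha hb hc hd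
        exact ⟨by rw [add_comm] at hb; exact add_left_cancel hb, add_eq_right.mp hd,
          add_eq_left.mp ha.symm⟩
      by_cases hC : C = 0
      · subst hC
        simp only [mul_zero, smul_zero, add_zero] at ha
        have hA : A ≠ 0 := fun h0 => by
          have hdet := g.2
          rw [hG, h0, Matrix.det_fromBlocks_zero₂₁, Matrix.det_zero,
            zero_mul] at hdet
          exact zero_ne_one hdet
        exact (smul_left_injective _ hA (show (1 : ZMod p) • A = z • A by rw [one_smul, ← ha])).symm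
      · exact (smul_left_injective _ hC (show (1 : ZMod p) • C = z • C by rw [one_smul, ← hc])).symm
    obtain ⟨hAD, hC0, -⟩ := hu ![1, 0, 0]
    simp [X] at hAD hC0
    subst hAD
    subst hC0
    have hA : A ≠ 0 := fun h0 => by
      have hdet := g.2
      rw [hG, h0, Matrix.det_fromBlocks_zero₂₁, Matrix.det_zero, zero_mul] at hdet
      exact zero_ne_one hdet
    have hB : B = 0 := by
      obtain ⟨z, hz⟩ := hz (SemidirectProduct.inr (-1))
      rw [SemidirectProduct.lift_inr, hG] at hz
      rw [hf2] at hz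
      simp [fromBlocks_multiply, fromBlocks_smul, fromBlocks_inj] at hz
      obtain ⟨ha, hb, -⟩ := hz
      obtain rfl : (1 : ZMod p) = z :=
        smul_left_injective _ hA (show (1 : ZMod p) • A = z • A by rw [one_smul, ← ha])
      rw [one_smul] at hb
      have : (2 : ZMod p) • B = 0 := by
        rw [two_smul]
        nth_rewrite 1 [← hb]
        exact neg_add_cancel B
      exact (smul_eq_zero.mp this).resolve_left h2
    obtain ⟨h1, -, -⟩ := hu ![0, 1, 0]
    obtain ⟨h1', -, -⟩ := hu ![0, 0, 1]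
    simp [X] at h1 h1'
    have hs := commute_J_scalar (by omega : 0 < m) A h1 h1'
    set c := A ⟨0, by omega⟩ ⟨0, by omega⟩
    have hgc : (g : Matrix (Fin m ⊕ Fin m) (Fin m ⊕ Fin m) (ZMod p)) =
        c • (1 : Matrix (Fin m ⊕ Fin m) (Fin m ⊕ Fin m) (ZMod p)) := by
      rw [hG, hB, hs, ← fromBlocks_one, fromBlocks_smul]
      simp
    rw [Matrix.SpecialLinearGroup.mem_center_iff]
    refine ⟨c, ?_, ?_⟩
    · have := g.2
      rw [hgc, Matrix.det_smul, Matrix.det_one, mul_one] at this
      exact this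
    · rw [hgc, smul_one_eq_diagonal]
      rfl

/-- For every odd prime `p` there is a finite group `H` of order `2p³` which, for infinitely many `n`, embeds in the projective special linear group `PSL(n, p)` as a subgroup with trivial centralizer. -/
theorem result
    (p : ℕ) [Fact p.Prime] (hp : p ≠ 2) :
    ∃ (H : Type) (_ : Group H) (_ : Finite H), Nat.card H = 2 * p ^ 3 ∧
      ∀ N : ℕ, ∃ n, N ≤ n ∧ ∃ φ : H →* Matrix.ProjectiveSpecialLinearGroup (Fin n) (ZMod p),
        Function.Injective φ ∧ Subgroup.centralizer (φ.range : Set (Matrix.ProjectiveSpecialLinearGroup (Fin n) (ZMod p))) = ⊥ := by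
  refine ⟨HH p, inferInstance, Finite.of_equiv _ SemidirectProduct.equivProd.symm, ?_, fun N => ?_⟩
  · have hV : Nat.card (VV p) = p ^ 3 := by
      rw [Nat.card_congr Multiplicative.toAdd, Nat.card_fun, Nat.card_zmod, Nat.card_fin]
    rw [Nat.card_congr SemidirectProduct.equivProd, Nat.card_prod, hV, Nat.card_eq_fintype_card,
      Fintype.card_units_int, mul_comm]
  let m := 2 * (N + 1)
  obtain ⟨ψ, h1, h2⟩ := core hp m (by omega) ⟨N + 1, by omega⟩
  let R : Matrix.SpecialLinearGroup (Fin m ⊕ Fin m) (ZMod p) ≃*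
      Matrix.SpecialLinearGroup (Fin (m + m)) (ZMod p) :=
    { toFun := fun g => ⟨Matrix.reindexAlgEquiv (ZMod p) (ZMod p) finSumFinEquiv g.1, by
        rw [Matrix.det_reindexAlgEquiv]; exact g.2⟩
      invFun := fun g => ⟨Matrix.reindexAlgEquiv (ZMod p) (ZMod p) finSumFinEquiv.symm g.1, by
        rw [Matrix.det_reindexAlgEquiv]; exact g.2⟩
      left_inv := fun g => Subtype.ext (by ext i j; simp)
      right_inv := fun g => Subtype.ext (by ext i j; simp)
      map_mul' := fun g h => Subtype.ext (map_mul (Matrix.reindexAlgEquiv (ZMod p) (ZMod p) finSumFinEquiv) g.1 h.1) }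
  have hc : ∀ x, R x ∈ Subgroup.center _ ↔ x ∈ Subgroup.center _ := by
    intro x
    simp only [Subgroup.mem_center_iff]
    constructor
    · intro h y
      exact R.injective (by rw [map_mul, map_mul]; exact h (R y))
    · intro h y
      obtain ⟨z, rfl⟩ := R.surjective y
      rw [← map_mul, ← map_mul, h z]
  refine ⟨m + m, by omega, ((QuotientGroup.mk' _).comp R.toMonoidHom).comp ψ, ?_, ?_⟩
  · refine (injective_iff_map_eq_one _).mpr fun h hh => h1 h ?_
    exact (hc _).mp ((QuotientGroup.eq_one_iff _).mp hh)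
  · refine (Subgroup.eq_bot_iff_forall _).mpr fun x hx => ?_
    obtain ⟨y, rfl⟩ := QuotientGroup.mk_surjective x
    obtain ⟨g, rfl⟩ := R.surjective y
    refine (QuotientGroup.eq_one_iff _).mpr ((hc _).mpr (h2 g fun h => (hc _).mp ?_))
    refine (QuotientGroup.eq_one_iff _).mp ?_
    have := Subgroup.mem_centralizer_iff.mp hx _ ⟨h, rfl⟩
    simp only [map_mul, map_inv, QuotientGroup.mk_mul, QuotientGroup.mk_inv] at *
    simp only [MonoidHom.comp_apply, MulEquiv.coe_toMonoidHom, QuotientGroup.mk'_apply] at this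
    rw [← this]
    group

end Cfsg.Agent.S2533
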