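import Cfsg.Statements.S2534
import Cfsg.Agent.H56.HallSym

set_option autoImplicit false
open Cfsg Cfsg.Agent.H56

namespace Cfsg.Agent.S2534

/-- For `n ≥ 5` and a set of primes `π`, the alternating group of degree `n` satisfies the full Sylow analogue for `π` (its maximal `π`-subgroups are pairwise conjugate; for a finite group this says Hall `π`-subgroups exist, are all conjugate, and contain every `π`-subgroup up to conjugacy) if and only if either at most one prime of `π` divides its order or every prime dividing its order lies in `π`. -/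
theorem result (n : ℕ) (hn : 5 ≤ n) (π : Set ℕ) :
    Cfsg.IsDPiGroup π ↥(alternatingGroup (Fin n)) ↔
      ((∀ r s : ℕ, r.Prime → s.Prime → r ∈ π → s ∈ π → r ∣ Nat.card ↥(alternatingGroup (Fin n)) → s ∣ Nat.card ↥(alternatingGroup (Fin n)) → r = s) ∨
        ∀ r : ℕ, r.Prime → r ∣ Nat.card ↥(alternatingGroup (Fin n)) → r ∈ π) := by
  classical
  have hcn : Nat.card (Fin n) = n := Nat.card_fin n
  constructor
  · intro hD
    by_cases h2 : HallSym.TwoPrimes π n
    · by_cases hns : ∃ q : ℕ, q.Prime ∧ q ≤ n ∧ q ∉ π
      · exact absurd hD (HallSym.not_dPi h2 hns)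
      · push Not at hns
        exact Or.inr fun r hr hd => hns r hr (hcn ▸ HallSym.prime_le_of_dvd_alt hr hd)
    · exact Or.inl (HallSym.onePrime_of_not_two (α := Fin n)
        (fun p hp hd => HallSym.prime_le_of_dvd_alt hp hd) (by rwa [hcn]))
  · rintro (h | h)
    · exact HallSym.dPi_of_one h
    · exact HallSym.dPi_of_all h

end Cfsg.Agent.S2534
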