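import Cfsg.Statements.S2537
import Cfsg.Agent.Linear.Dickson.MaxSmall
import Cfsg.Agent.Hall.Existence
-- import your own Cfsg.Agent.* helpers here

set_option autoImplicit false
open Cfsg Cfsg.Agent.Linear

namespace Cfsg.Agent.S2537

/-- Let `F` be a finite field with `q` elements of characteristic `p ≥ 5`, and `ε = 1` if `q ≡ 1 (mod 4)`, `ε = -1` otherwise. Then `PSL(2, F)` has a Hall `{2, 3}`-subgroup if and only if `3` divides `q − ε`, or the `{2,3}`-part of `q² − 1` is 24, or the `{2,3}`-part of `q² − 1` is 48 (the `{2,3}`-part of `m` being the largest divisor of `m` with no prime factor other than 2 and 3). -/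
theorem result {F : Type*} [Field F] [Fintype F] {p : ℕ} [Fact p.Prime] [CharP F p]
    (hp : 5 ≤ p) (q : ℕ) (hq : Fintype.card F = q) :
    (∃ H : Subgroup (Matrix.ProjectiveSpecialLinearGroup (Fin 2) F), Cfsg.IsPiHall ({2, 3} : Set ℕ) H) ↔
      (3 ∣ q - 1 ∧ q % 4 = 1) ∨ (3 ∣ q + 1 ∧ q % 4 = 3) ∨
        2 ^ (q ^ 2 - 1).factorization 2 * 3 ^ (q ^ 2 - 1).factorization 3 = 24 ∨
        2 ^ (q ^ 2 - 1).factorization 2 * 3 ^ (q ^ 2 - 1).factorization 3 = 48 := by
  classical
  subst hq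
  obtain ⟨n, hpp, hn⟩ := FiniteField.card F p
  set q := Fintype.card F with hqdef
  have hqodd : Odd q := hn ▸ (hpp.odd_of_ne_two (by omega)).pow
  have hq2 := Nat.odd_iff.mp hqodd
  have hq3 : q % 3 ≠ 0 := fun h => by
    have h3 : 3 ∣ p ^ (n : ℕ) := hn ▸ Nat.dvd_of_mod_eq_zero h
    have := (Nat.prime_dvd_prime_iff_eq Nat.prime_three hpp).mp (Nat.prime_three.dvd_of_dvd_pow h3)
    omega
  have hq5 : 5 ≤ q := hn ▸ le_trans hp (Nat.le_self_pow n.ne_zero p)
  have hd : Nat.gcd 2 (q - 1) = 2 := Nat.gcd_eq_left (by omega)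
  have hG := card_PSL_two_mul (F := F)
  rw [← hqdef, hd] at hG
  set m := q ^ 2 - 1 with hm
  set a := m.factorization 2 with ha
  set b := m.factorization 3 with hb
  have hm0 : m ≠ 0 := Nat.sub_ne_zero_of_lt (Nat.one_lt_pow two_ne_zero (by omega))
  obtain ⟨R, hR, hR2, hR3⟩ : ∃ R, m = 2 ^ a * 3 ^ b * R ∧ ¬ 2 ∣ R ∧ ¬ 3 ∣ R := by
    obtain ⟨R2, hR2⟩ : ∃ R2, m = 2 ^ a * R2 := Nat.ordProj_dvd m 2
    have h2 : ¬ 2 ∣ R2 := fun h => Nat.pow_succ_factorization_not_dvd hm0 Nat.prime_two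
      (by rw [pow_succ]; exact (Nat.mul_dvd_mul_left _ h).trans hR2.symm.dvd)
    have h3d : 3 ^ b ∣ R2 :=
      ((Nat.coprime_primes Nat.prime_three Nat.prime_two).mpr (by norm_num)).pow _ _ |>.dvd_of_dvd_mul_left
        ((Nat.ordProj_dvd m 3).trans hR2.dvd)
    obtain ⟨R, rfl⟩ := h3d
    refine ⟨R, by rw [mul_assoc]; exact hR2, fun h => h2 (h.mul_left _), fun h => ?_⟩
    refine Nat.pow_succ_factorization_not_dvd hm0 Nat.prime_three ?_
    rw [← hb, hR2, pow_succ]
    exact (Nat.mul_dvd_mul_left _ h).mul_left _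
  have h8 : 8 ∣ m := by
    obtain ⟨i, hi⟩ := hqodd
    obtain ⟨t, ht⟩ := Nat.even_mul_succ_self i
    exact ⟨t, by rw [hm, hi, show (2 * i + 1) ^ 2 = 4 * (i * (i + 1)) + 1 by ring, Nat.add_sub_cancel, ht]; ring⟩
  have h3m : 3 ∣ m := by
    have : q ^ 2 % 3 = 1 := by
      rw [Nat.pow_mod]; rcases (show q % 3 = 1 ∨ q % 3 = 2 by omega) with e | e <;> rw [e]
    omega
  have ha3 : 3 ≤ a := (Nat.Prime.pow_dvd_iff_le_factorization Nat.prime_two hm0).mp (show 2 ^ 3 ∣ m from h8)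
  have hb1 : 1 ≤ b := (Nat.Prime.pow_dvd_iff_le_factorization Nat.prime_three hm0).mp (by rwa [pow_one])
  obtain ⟨a', ha'⟩ : ∃ a', a = a' + 3 := ⟨a - 3, by omega⟩
  obtain ⟨b', hb'⟩ : ∃ b', b = b' + 1 := ⟨b - 1, by omega⟩
  set T := 2 ^ (a' + 2) * 3 ^ b with hT
  have h2T : 2 * T = 2 ^ a * 3 ^ b := by rw [hT, ha']; ring
  have hcard : Nat.card (Matrix.ProjectiveSpecialLinearGroup (Fin 2) F) = T * (q * R) := by
    apply Nat.eq_of_mul_eq_mul_left two_pos
    rw [hG, hR, ← h2T]; ring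
  have h12 : 12 ∣ T := ⟨2 ^ a' * 3 ^ b', by rw [hT, hb']; ring⟩
  have hTprime : ∀ r : ℕ, r.Prime → r ∣ T → r = 2 ∨ r = 3 := fun r hr h => by
    rcases hr.dvd_mul.mp h with h | h
    · exact Or.inl ((Nat.prime_dvd_prime_iff_eq hr Nat.prime_two).mp (hr.dvd_of_dvd_pow h))
    · exact Or.inr ((Nat.prime_dvd_prime_iff_eq hr Nat.prime_three).mp (hr.dvd_of_dvd_pow h))
  have hcopqR : ∀ c : ℕ, (∀ r : ℕ, r.Prime → r ∣ c → r = 2 ∨ r = 3) → Nat.Coprime c (q * R) := fun c hc => by
    refine Nat.coprime_of_dvd fun r hr h1 h2 => ?_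
    rcases hc r hr h1 with rfl | rfl <;> rcases hr.dvd_mul.mp h2 with h | h
    · omega
    · exact hR2 h
    · omega
    · exact hR3 h
  have hall : ∀ H : Subgroup (Matrix.ProjectiveSpecialLinearGroup (Fin 2) F),
      Cfsg.IsPiHall ({2, 3} : Set ℕ) H ↔ Nat.card H = T := by
    intro H
    have hidx : Nat.card H * H.index = T * (q * R) := hcard ▸ H.card_mul_index
    constructor
    · rintro ⟨h1, h2⟩
      have hsm : ∀ r : ℕ, r.Prime → r ∣ Nat.card H → r = 2 ∨ r = 3 := fun r hr h => by simpa using h1 r hr h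
      refine Nat.dvd_antisymm ((hcopqR _ hsm).dvd_of_dvd_mul_right (hidx ▸ dvd_mul_right _ _)) ?_
      refine Nat.Coprime.dvd_of_dvd_mul_right (n := H.index) ?_ (hidx.symm ▸ dvd_mul_right _ _)
      refine Nat.coprime_of_dvd fun r hr hr1 hr2 => h2 r hr ?_ hr2
      rcases hTprime r hr hr1 with rfl | rfl <;> simp
    · intro hH
      refine ⟨fun r hr h => by simpa using hTprime r hr (hH ▸ h), fun r hr hmem h => ?_⟩
      rw [hH] at hidx
      have e : H.index = q * R := Nat.eq_of_mul_eq_mul_left (Nat.pos_of_ne_zero (fun h => by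
        rw [h, zero_mul] at hcard; exact Nat.card_pos.ne' hcard)) hidx
      rw [e] at h
      have := Nat.eq_one_of_dvd_coprimes (hcopqR r (fun s hs hd => by
        rw [(Nat.prime_dvd_prime_iff_eq hs hr).mp hd]; simpa using hmem)) dvd_rfl h
      exact hr.ne_one this
  rw [show 2 ^ a * 3 ^ b = 2 * T from h2T.symm]
  simp only [hall]
  have hqe : (q - 1) * (q + 1) = m := by rw [hm, mul_comm]; simpa using (Nat.sq_sub_sq q 1).symm
  constructor
  · rintro ⟨H, hH⟩
    rcases Dickson.shape p H with h | h | ⟨⟨f⟩⟩ | ⟨⟨f⟩⟩ | ⟨⟨f⟩⟩ | h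
    · exfalso
      have h1 := h.card_dvd
      rw [hH] at h1
      have h2 := Dickson.card_borel (F := F)
      rw [← hqdef, hd] at h2
      have h3 : 2 * T ∣ q * (q - 1) := h2 ▸ Nat.mul_dvd_mul_left 2 h1
      have h4 : 2 ^ a ∣ q - 1 :=
        (Nat.Coprime.pow_left _ (Nat.coprime_two_left.mpr hqodd)).dvd_of_dvd_mul_left
          ((Dvd.intro _ h2T.symm).trans h3)
      have h5 : 2 ^ (a + 1) ∣ m := by
        rw [← hqe, pow_succ]
        exact Nat.mul_dvd_mul h4 (by omega)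
      exact Nat.pow_succ_factorization_not_dvd hm0 Nat.prime_two h5
    · obtain ⟨c, hc, -, hdvd⟩ := h.card_dvd
      rw [hH] at hdvd
      have := h12.trans hdvd
      rcases Dickson.card_cen_cases hc with hk | hk <;> rw [← hqdef, hd] at hk <;> omega
    · refine Or.inr (Or.inr (Or.inl ?_))
      rw [(Nat.card_congr f.toEquiv).trans Dickson.card_alt_four] at hH
      omega
    · refine Or.inr (Or.inr (Or.inr ?_))
      rw [(Nat.card_congr f.toEquiv).trans Dickson.card_sym_four] at hH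
      omega
    · exfalso
      rw [(Nat.card_congr f.toEquiv).trans Dickson.card_alt_five] at hH
      have := hTprime 5 Nat.prime_five (hH ▸ by norm_num)
      omega
    · exfalso
      obtain ⟨v, j, hv, hj, hvj, hc⟩ := h.exists_card
      rw [← hqdef] at hvj
      have hpv : p ∣ v := by
        obtain ⟨i, -, hi⟩ := (Nat.dvd_prime_pow hpp).mp (hn ▸ hvj ▸ dvd_pow_self v (by omega : j ≠ 0))
        rcases Nat.eq_zero_or_pos i with rfl | h0
        · rw [pow_zero] at hi; exact absurd hv.two_le (by omega)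
        · rw [hi]; exact dvd_pow_self p h0.ne'
      have hp2T : p ∣ 2 * T := by
        rcases hc with hc | ⟨hc, -⟩
        · have h1 : p ∣ Nat.gcd 2 (v - 1) * T := by rw [← hH, hc]; exact hpv.mul_right _
          exact h1.trans (Nat.mul_dvd_mul_right (Nat.gcd_dvd_left 2 _) T)
        · exact Dvd.dvd.mul_left (by rw [← hH, hc]; exact hpv.mul_right _) 2
      rcases hpp.dvd_mul.mp hp2T with h | h
      · have := Nat.le_of_dvd two_pos h; omega
      · have := hTprime p hpp h; omega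
  · intro h
    have torus : ∀ k k' : ℕ, m = 2 * k * (2 * k') → ¬ 2 ∣ k' → ¬ 3 ∣ k' →
        (∃ z : Matrix.ProjectiveSpecialLinearGroup (Fin 2) F, ¬ Dickson.IsUni z ∧ Nat.card (Dickson.cen z) = k) →
        ∃ H : Subgroup (Matrix.ProjectiveSpecialLinearGroup (Fin 2) F), Nat.card H = T := by
      intro k k' hkk h2' h3' ⟨z, hz, hzk⟩
      have hTk : T ∣ 2 * k := by
        have hco : Nat.Coprime T k' := Nat.coprime_of_dvd fun r hr h1 h2 => by
          rcases hTprime r hr h1 with rfl | rfl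
          exacts [h2' h2, h3' h2]
        refine hco.dvd_of_dvd_mul_right ⟨R, Nat.eq_of_mul_eq_mul_left two_pos ?_⟩
        rw [show 2 * (2 * k * k') = m by rw [hkk]; ring, hR, ← h2T]; ring
      set N := Subgroup.normalizer ((Dickson.cen z) : Set (Matrix.ProjectiveSpecialLinearGroup (Fin 2) F))
      have hN : Nat.card N = 2 * k := hzk ▸ (Dickson.torus_normalizer_props hz).1
      have : Group.IsSolvable N := Dickson.InTorus.isSolvable ⟨z, hz, le_rfl⟩
      obtain ⟨H₀, hH₀1, hH₀2⟩ := (Cfsg.Agent.Hall.hallDom_of_isSolvable ({2, 3} : Set ℕ) N).1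
      refine ⟨H₀.map N.subtype, (hall _).mp ⟨fun r hr h => hH₀1 r hr ?_, fun r hr hr' h => ?_⟩⟩
      · rwa [Subgroup.card_map_of_injective N.subtype_injective] at h
      · rw [Subgroup.index_map_subtype] at h
        rcases hr.dvd_mul.mp h with h | h
        · exact hH₀2 r hr hr' h
        · have hNi := N.card_mul_index
          rw [hN, hcard] at hNi
          obtain ⟨c, hc⟩ := hTk
          rw [hc, mul_assoc] at hNi
          have e : c * N.index = q * R := Nat.eq_of_mul_eq_mul_left (Nat.pos_of_ne_zero (fun h => by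
            rw [h, zero_mul] at hcard; exact Nat.card_pos.ne' hcard)) hNi
          have := Nat.eq_one_of_dvd_coprimes (hcopqR r (fun s hs hd => by
            rw [(Nat.prime_dvd_prime_iff_eq hs hr).mp hd]; simpa using hr')) dvd_rfl (e ▸ h.mul_left c)
          exact hr.ne_one this
    rcases h with ⟨h3, h4⟩ | ⟨h3, h4⟩ | h | h
    · obtain ⟨z, hz, hzk⟩ := Dickson.exists_split (F := F) (by omega)
      rw [← hqdef, hd] at hzk
      refine torus ((q - 1) / 2) ((q + 1) / 2) ?_ (by omega) (by omega) ⟨z, hz, hzk⟩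
      rw [← hqe, Nat.mul_div_cancel' (by omega : 2 ∣ q - 1), Nat.mul_div_cancel' (by omega : 2 ∣ q + 1)]
    · obtain ⟨z, hz, hzk⟩ := Dickson.exists_nonsplit (F := F)
      rw [← hqdef, hd] at hzk
      refine torus ((q + 1) / 2) ((q - 1) / 2) ?_ (by omega) (by omega) ⟨z, hz, hzk⟩
      rw [← hqe, Nat.mul_div_cancel' (by omega : 2 ∣ q - 1), Nat.mul_div_cancel' (by omega : 2 ∣ q + 1), mul_comm]
    · obtain ⟨H, ⟨e⟩⟩ := (Cfsg.Agent.S0802.result p n hn).mpr fun h => by omega
      exact ⟨H, by rw [(Nat.card_congr e.toEquiv).trans Dickson.card_alt_four]; omega⟩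
    · have h16 : q ^ 2 % 16 = 1 := by
        have hd16 : 16 ∣ m := by
          have e : 48 = 2 ^ a * 3 ^ b := by rw [← h]; exact h2T
          rw [hR, ← e]
          exact Dvd.intro (3 * R) (by ring)
        omega
      obtain ⟨H, ⟨e⟩⟩ := Cfsg.Agent.S0803.main.mpr h16
      exact ⟨H, by rw [(Nat.card_congr e.toEquiv).trans Dickson.card_sym_four]; omega⟩

end Cfsg.Agent.S2537
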