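import Cfsg.Statements.S2540
import Cfsg.Agent.Linear.Simple

set_option autoImplicit false
open Cfsg

namespace Cfsg.Agent.S2540

open scoped commutatorElement


/-- Let F be a finite field and n ≥ 1, excluding the case n = 2 with #F ≤ 3. A subgroup of GL_n(F) that is normalized by every element of SL_n(F) either consists of scalar matrices or contains SL_n(F). -/
theorem result {F : Type*} [Field F] [Fintype F] (n : ℕ) (hn : 1 ≤ n) (hex : ¬ (n = 2 ∧ Fintype.card F ≤ 3)) (G : Subgroup (Matrix.GeneralLinearGroup (Fin n) F)) (hG : ∀ s : Matrix.SpecialLinearGroup (Fin n) F, ∀ g ∈ G, (Matrix.SpecialLinearGroup.toGL s) * g * (Matrix.SpecialLinearGroup.toGL s)⁻¹ ∈ G) : (∀ g ∈ G, ∃ c : F, (g : Matrix (Fin n) (Fin n) F) = c • (1 : Matrix (Fin n) (Fin n) F)) ∨ (Matrix.SpecialLinearGroup.toGL : Matrix.SpecialLinearGroup (Fin n) F →* _).range ≤ G := by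
  classical
  rcases Nat.lt_or_ge n 2 with hn2 | hn2
  · obtain rfl : n = 1 := by omega
    refine Or.inl fun g _ => ⟨(g : Matrix (Fin 1) (Fin 1) F) 0 0, ?_⟩
    ext i j
    fin_cases i; fin_cases j
    simp
  haveI : Finite F := inferInstance
  have hq : n = 2 → 4 ≤ Nat.card F := fun h2 => by
    rw [Nat.card_eq_fintype_card]
    by_contra h4
    exact hex ⟨h2, by omega⟩
  have hsimple := Linear.isSimpleGroup_PSL_fin (F := F) hn2 hq
  have hperf : commutator (Matrix.SpecialLinearGroup (Fin n) F) = ⊤ := by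
    refine Linear.commutator_SL_eq_top_of_card ?_
    rcases Nat.lt_or_ge n 3 with h3 | h3
    · exact Or.inr (hq (by omega))
    · exact Or.inl (by rwa [Fintype.card_fin])
  set T : Matrix.SpecialLinearGroup (Fin n) F →* GL (Fin n) F := Matrix.SpecialLinearGroup.toGL with hT
  set N : Subgroup (Matrix.SpecialLinearGroup (Fin n) F) := G.comap T with hN
  haveI : N.Normal := ⟨fun x hx s => by
    show T (s * x * s⁻¹) ∈ G
    rw [map_mul, map_mul, map_inv]
    exact hG s _ hx⟩
  let π := QuotientGroup.mk' (Subgroup.center (Matrix.SpecialLinearGroup (Fin n) F))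
  have hπ : Function.Surjective π := QuotientGroup.mk'_surjective _
  haveI hnm : (N.map π).Normal := Subgroup.Normal.map inferInstance π hπ
  rcases hnm.eq_bot_or_eq_top with h | h
  · left
    have hcen : ∀ x ∈ N, x ∈ Subgroup.center (Matrix.SpecialLinearGroup (Fin n) F) := by
      intro x hx
      have h1 : π x ∈ N.map π := ⟨x, hx, rfl⟩
      rw [h, Subgroup.mem_bot] at h1
      exact (QuotientGroup.eq_one_iff x).mp h1
    intro g hg
    have hz : ∀ s, ∃ z ∈ Subgroup.center (Matrix.SpecialLinearGroup (Fin n) F), T s * g * (T s)⁻¹ * g⁻¹ = T z := by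
      intro s
      have hmem : T s * g * (T s)⁻¹ * g⁻¹ ∈ G := mul_mem (hG s g hg) (inv_mem hg)
      have hdet : ((T s * g * (T s)⁻¹ * g⁻¹ : GL (Fin n) F) : Matrix (Fin n) (Fin n) F).det = 1 := by
        have hd : Matrix.GeneralLinearGroup.det (T s * g * (T s)⁻¹ * g⁻¹) = 1 := by
          have hs : Matrix.GeneralLinearGroup.det (T s) = 1 := Units.ext s.det_coe
          rw [map_mul, map_mul, map_mul, map_inv, map_inv, hs, inv_one, one_mul, mul_one, mul_inv_cancel]
        exact congrArg Units.val hd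
      have e : T ⟨_, hdet⟩ = T s * g * (T s)⁻¹ * g⁻¹ := Units.ext rfl
      exact ⟨⟨_, hdet⟩, hcen _ (show T ⟨_, hdet⟩ ∈ G by rw [e]; exact hmem), e.symm⟩
    choose z hz hze using hz
    have hTinj : Function.Injective T := fun a b e => Subtype.ext (congrArg Units.val e :)
    let χ : Matrix.SpecialLinearGroup (Fin n) F →* ↥(Subgroup.center (Matrix.SpecialLinearGroup (Fin n) F)) :=
      MonoidHom.mk' (fun s => ⟨z s, hz s⟩) fun a b => Subtype.ext (hTinj (by
        show T (z (a * b)) = T (z a * z b)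
        have hcomm : Commute (T (z b)) (T a) := (show Commute (z b) a from (Subgroup.mem_center_iff.mp (hz b) a).symm).map T
        calc T (z (a * b)) = T a * T (z b) * g * (T a)⁻¹ * g⁻¹ := by
              rw [← hze, ← hze, map_mul]; group
          _ = T (z b) * (T a * g * (T a)⁻¹ * g⁻¹) := by rw [← hcomm.eq]; group
          _ = T (z b * z a) := by rw [map_mul, hze]
          _ = T (z a * z b) := by rw [Subgroup.mem_center_iff.mp (hz a) (z b)]))
    have hone : ∀ s, χ s = 1 := fun s => by
      have hs : s ∈ commutator (Matrix.SpecialLinearGroup (Fin n) F) := by rw [hperf]; exact Subgroup.mem_top s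
      letI : CommGroup ↥(Subgroup.center (Matrix.SpecialLinearGroup (Fin n) F)) :=
        { (inferInstance : Group ↥(Subgroup.center (Matrix.SpecialLinearGroup (Fin n) F))) with
          mul_comm := fun a b => Subtype.ext (Subgroup.mem_center_iff.mp b.2 a) }
      exact Abelianization.commutator_subset_ker χ hs
    have hcg : g ∈ Subgroup.centralizer (Set.range T) := by
      refine Subgroup.mem_centralizer_iff.mpr ?_
      rintro _ ⟨s, rfl⟩
      have h1 := hze s
      rw [show z s = 1 from congrArg Subtype.val (hone s), map_one, mul_inv_eq_one, mul_inv_eq_iff_eq_mul] at h1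
      exact h1
    refine Exists.imp (fun c hc => hc) ?_
    obtain ⟨c, hc⟩ := Matrix.mem_range_scalar_of_commute_transvectionStruct (M := (g : Matrix (Fin n) (Fin n) F)) (fun t => by
      exact congrArg Units.val (Subgroup.mem_centralizer_iff.mp hcg (T ⟨t.toMatrix, t.det⟩) ⟨_, rfl⟩))
    exact ⟨c, hc.symm.trans (by rw [Matrix.scalar_apply, Matrix.smul_one_eq_diagonal])⟩
  · right
    have htop : N = ⊤ := by
      rw [eq_top_iff, ← hperf, commutator_def, Subgroup.commutator_le]
      intro a _ b _
      have ha : π a ∈ N.map π := by rw [h]; trivial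
      have hb : π b ∈ N.map π := by rw [h]; trivial
      obtain ⟨a', ha', ea⟩ := ha
      obtain ⟨b', hb', eb⟩ := hb
      obtain ⟨u, hu, rfl⟩ : ∃ u ∈ Subgroup.center (Matrix.SpecialLinearGroup (Fin n) F), a = a' * u :=
        ⟨a'⁻¹ * a, QuotientGroup.eq.mp ea, by group⟩
      obtain ⟨w, hw, rfl⟩ : ∃ w ∈ Subgroup.center (Matrix.SpecialLinearGroup (Fin n) F), b = b' * w :=
        ⟨b'⁻¹ * b, QuotientGroup.eq.mp eb, by group⟩
      have e : ⁅a' * u, b' * w⁆ = ⁅a', b'⁆ := by
        have cu := fun t => (Subgroup.mem_center_iff.mp hu t)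
        have cw := fun t => (Subgroup.mem_center_iff.mp hw t)
        simp only [commutatorElement_def, _root_.mul_inv_rev]
        calc a' * u * (b' * w) * (u⁻¹ * a'⁻¹) * (w⁻¹ * b'⁻¹)
            = a' * ((u * (b' * w)) * u⁻¹) * a'⁻¹ * (w⁻¹ * b'⁻¹) := by group
          _ = a' * b' * (w * a'⁻¹) * (w⁻¹ * b'⁻¹) := by rw [← cu (b' * w)]; group
          _ = a' * b' * a'⁻¹ * b'⁻¹ := by rw [← cw a'⁻¹]; group
      rw [e, commutatorElement_def]
      exact mul_mem (mul_mem (mul_mem ha' hb') (inv_mem ha')) (inv_mem hb')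
    rintro _ ⟨s, rfl⟩
    have : s ∈ N := by rw [htop]; trivial
    exact this

end Cfsg.Agent.S2540
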