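import Cfsg.Statements.S2541


set_option autoImplicit false
open Cfsg

namespace Cfsg.Agent.S2541

theorem perm_six (y : Equiv.Perm (Fin 6)) (h : y ^ 8 = 1) : y ^ 4 = 1 := by
  ext i : 1
  have hper : Function.IsPeriodicPt y 8 i := by
    show y^[8] i = i
    rw [← Equiv.Perm.coe_pow, h]; rfl
  have hd := hper.minimalPeriod_dvd
  have hpos := hper.minimalPeriod_pos (by norm_num)
  have hle : Function.minimalPeriod y i ≤ 6 := by
    have := Finset.card_le_univ ((Finset.range (Function.minimalPeriod y i)).image fun k => y^[k] i)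
    rw [Finset.card_image_of_injOn] at this
    · simpa using this
    · intro a ha b hb hab
      simp only [Finset.coe_range, Set.mem_Iio] at ha hb
      exact Function.iterate_injOn_Iio_minimalPeriod ha hb hab
  have h4 : Function.minimalPeriod y i ∣ 4 := by
    have : Function.minimalPeriod y i ∈ Nat.divisors 8 := Nat.mem_divisors.mpr ⟨hd, by norm_num⟩
    rw [show Nat.divisors 8 = {1, 2, 4, 8} by decide] at this
    simp at this
    rcases this with h | h | h | h <;> first | omega | simp_all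
  have := Function.isPeriodicPt_iff_minimalPeriod_dvd.mpr h4
  rw [Equiv.Perm.coe_pow, Equiv.Perm.one_apply]
  exact this


/-- Let F be a field with 9 elements. The symmetric group S_6 is not isomorphic to PGL_2(F) (although both have index-2 subgroups isomorphic to A_6). -/
theorem result {F : Type*} [Field F] [Fintype F] (hF : Fintype.card F = 9) : ¬ Nonempty (Equiv.Perm (Fin 6) ≃* Matrix.ProjGenLinGroup (Fin 2) F) := by
  rintro ⟨e⟩
  obtain ⟨ζ, hζ⟩ : ∃ ζ : Fˣ, orderOf ζ = 8 := by
    obtain ⟨ζ, hζ⟩ := IsCyclic.exists_generator (α := Fˣ)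
    refine ⟨ζ, ?_⟩
    rw [orderOf_eq_card_of_forall_mem_zpowers hζ, Nat.card_units, Nat.card_eq_fintype_card, hF]
  let g : GL (Fin 2) F := Units.map (Matrix.diagonalRingHom (Fin 2) F).toMonoidHom
    (MulEquiv.piUnits.symm (Pi.mulSingle 0 ζ))
  have hgv : ∀ k : ℕ, ((g ^ k : GL (Fin 2) F) : Matrix (Fin 2) (Fin 2) F) =
      Matrix.diagonal (fun i => ((Pi.mulSingle (0 : Fin 2) ζ : Fin 2 → Fˣ) i : F) ^ k) := by
    intro k
    rw [Units.val_pow_eq_pow_val]
    show (Matrix.diagonal fun i => ((Pi.mulSingle (0 : Fin 2) ζ : Fin 2 → Fˣ) i : F)) ^ k = _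
    rw [Matrix.diagonal_pow]
    rfl
  have h8 : g ^ 8 = 1 := by
    apply Units.ext
    rw [hgv, Units.val_one, ← Matrix.diagonal_one]
    congr 1
    funext i
    fin_cases i
    · simp [← Units.val_pow_eq_pow_val, ← hζ, pow_orderOf_eq_one]
    · simp
  set x : Matrix.ProjGenLinGroup (Fin 2) F := Matrix.ProjGenLinGroup.mk g with hx
  have hx8 : x ^ 8 = 1 := by rw [hx, ← map_pow, h8, map_one]
  have hx4 : x ^ 4 ≠ 1 := by
    rw [hx, ← map_pow, ne_eq, Matrix.ProjGenLinGroup.mk_eq_one,
      Matrix.GeneralLinearGroup.mem_center_iff_val_eq_scalar]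
    rintro ⟨c, hc⟩
    rw [hgv] at hc
    have h0 := congrFun (congrFun hc 0) 0
    have h1 := congrFun (congrFun hc 1) 1
    simp at h0 h1
    have : ζ ^ 4 = 1 := by
      apply Units.ext
      rw [Units.val_pow_eq_pow_val, ← h0, h1, Units.val_one]
    have := orderOf_dvd_of_pow_eq_one this
    rw [hζ] at this
    omega
  have hy8 : e.symm x ^ 8 = 1 := by rw [← map_pow, hx8, map_one]
  have hy4 : e.symm x ^ 4 = 1 := perm_six _ hy8
  exact hx4 (e.symm.injective (by rw [map_pow, map_one, hy4]))

end Cfsg.Agent.S2541
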