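import Cfsg.Statements.S2542
import Cfsg.Agent.H27.SylowModel
import Cfsg.Agent.S0675
import Cfsg.Agent.Linear.Simple
import Cfsg.Agent.Linear.Order

set_option autoImplicit false
open Cfsg

namespace Cfsg.Agent.S2542

open Matrix Cfsg.Agent.H27.SylowModel

def permsW : ℕ := 2317521596334857255990735912984932846473244941167106246693654940335548655642380534660953874480608603046643531728135699770127025545447666404779387211369039621064918033725783352363802310167946247604441588735014720750200718908805791872076461560418392499591726703753334113928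

def matsW : ℕ := 6414619813960876725061409280859137314885579503822901368108480131550902226479447866611603393425785695665438087200661422679316731771515042827436318763640321042845476083061341695508650312907209159414139233077034831424713230544610447179223151546292926815823244777404972003688127713957362274305

def tblW : ℕ := 4991657213333540999862947912009833555156256327038420245009874366594712349843775143166197634189635601092588850131304254899432365270020439839758224295961613299079732561665186897497343820540950347540858322545771035754625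

def invW : ℕ := 2198837042065553142696536155176724977836889129859328671376763915843046288041979457590128232044699689840562240

def gens : Fin 2 → Fin 60 := ![1, 2]

def pf (i : Fin 60) (k : Fin 5) : Fin 5 := ⟨dig 3 permsW (5 * i.1 + k.1) % 5, Nat.mod_lt _ (by norm_num)⟩

def ix (w x : ℕ) : Fin 60 := ⟨dig 6 w x % 60, Nat.mod_lt _ (by norm_num)⟩

theorem inv_spec : ∀ (i : Fin 60) (k : Fin 5),
    pf (ix invW i) (pf i k) = k ∧ pf i (pf (ix invW i) k) = k := by decide +kernel

def perm (i : Fin 60) : Equiv.Perm (Fin 5) :=
  ⟨pf i, pf (ix invW i), fun k => (inv_spec i k).1, fun k => (inv_spec i k).2⟩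

def tbl (i : Fin 60) (s : Fin 2) : Fin 60 := ix tblW (2 * i.1 + s.1)

theorem perm_one : perm 0 = 1 := by
  have h : ∀ k, pf (0 : Fin 60) k = k := by decide +kernel
  exact Equiv.ext h

theorem perm_mul : ∀ i s, perm i * perm (gens s) = perm (tbl i s) := by
  have h : ∀ i s k, pf i (pf (gens s) k) = pf (tbl i s) k := by decide +kernel
  exact fun i s => Equiv.ext fun k => h i s k

theorem perm_inj : Function.Injective perm := by
  have h : ∀ i j : Fin 60, (∀ k, pf i k = pf j k) → i = j := by decide +kernel
  exact fun i j e => h i j fun k => Equiv.congr_fun e k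

theorem reach : ∀ i : Fin 60, i = 0 ∨ ∃ j s, j < i ∧ tbl j s = i := by decide +kernel

theorem gens_sign : ∀ s, Equiv.Perm.sign (perm (gens s)) = 1 := by decide +kernel

def me (i : Fin 60) (r c : Fin 2) : ZMod 11 := (dig 4 matsW (4 * i.1 + 2 * r.1 + c.1) : ℕ)

theorem me_det : ∀ i, me i 0 0 * me i 1 1 - me i 0 1 * me i 1 0 = 1 := by decide +kernel

theorem me_mul : ∀ i s, (∀ r c, (∑ x, me i r x * me (gens s) x c) = me (tbl i s) r c) ∨
    ∀ r c, (∑ x, me i r x * me (gens s) x c) = - me (tbl i s) r c := by decide +kernel

theorem me_zero : (∀ r c, me 0 r c = if r = c then 1 else 0) ∨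
    ∀ r c, me 0 r c = - (if r = c then 1 else 0) := by decide +kernel

theorem me_scalar : ∀ i : Fin 60, i ≠ 0 → ∀ c : ZMod 11, ¬ ∀ r k, me i r k = if r = k then c else 0 := by
  decide +kernel

theorem exists_alt_five {F : Type*} [Field F] [Fintype F] (hF : Fintype.card F = 11) :
    ∃ f : alternatingGroup (Fin 5) →* Matrix.ProjectiveSpecialLinearGroup (Fin 2) F, Function.Injective f := by
  classical
  have : Fact (Nat.Prime 11) := ⟨by norm_num⟩
  let φ : ZMod 11 ≃+* F := ZMod.ringEquivOfPrime F (by norm_num) hF
  let U0 : Fin 60 → Matrix.SpecialLinearGroup (Fin 2) F := fun i =>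
    ⟨(Matrix.of (me i)).map φ, by
      rw [Matrix.det_fin_two]
      simp [← map_mul, ← map_sub, me_det i]⟩
  let U : Fin 60 → Matrix.ProjectiveSpecialLinearGroup (Fin 2) F := fun i => QuotientGroup.mk (U0 i)
  have hpm : ∀ x y : Matrix.SpecialLinearGroup (Fin 2) F, (y = x ∨ y = -x) →
      (QuotientGroup.mk x : Matrix.ProjectiveSpecialLinearGroup (Fin 2) F) = QuotientGroup.mk y := by
    intro x y h
    refine QuotientGroup.eq.2 ?_
    rcases h with rfl | rfl
    · rw [inv_mul_cancel]; exact one_mem _
    · rw [mul_neg, inv_mul_cancel]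
      refine Subgroup.mem_center_iff.2 fun z => ?_
      rw [mul_neg, mul_one, neg_mul, one_mul]
  have hU : ∀ i s, U i * U (gens s) = U (tbl i s) := fun i s => by
    change (QuotientGroup.mk (U0 i * U0 (gens s)) : Matrix.ProjectiveSpecialLinearGroup (Fin 2) F) = _
    refine hpm _ _ ?_
    rcases me_mul i s with h | h
    · refine Or.inl (Subtype.ext ?_)
      change (Matrix.of (me (tbl i s))).map φ = (Matrix.of (me i)).map φ * (Matrix.of (me (gens s))).map φ
      ext r c
      have e := congrArg φ (h r c)
      simp [map_sum] at e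
      simp [U0, Matrix.SpecialLinearGroup.coe_mul, Matrix.mul_apply, e]
    · refine Or.inr (Subtype.ext ?_)
      change (Matrix.of (me (tbl i s))).map φ = -((Matrix.of (me i)).map φ * (Matrix.of (me (gens s))).map φ)
      ext r c
      have e := congrArg φ (h r c)
      simp [map_sum] at e
      simp [U0, Matrix.SpecialLinearGroup.coe_mul, Matrix.SpecialLinearGroup.coe_neg, Matrix.mul_apply, e]
  have hU1 : U 0 = 1 := by
    refine hpm _ 1 ?_
    rcases me_zero with h | h
    · refine Or.inl (Subtype.ext ?_)
      ext r c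
      simp [U0, h r c, apply_ite φ, Matrix.one_apply, Matrix.SpecialLinearGroup.coe_neg]
    · refine Or.inr (Subtype.ext ?_)
      change (1 : Matrix (Fin 2) (Fin 2) F) = -((Matrix.of (me 0)).map φ)
      ext r c
      simp [U0, h r c, apply_ite φ, Matrix.one_apply, Matrix.SpecialLinearGroup.coe_neg]
  obtain ⟨P, f, hP, hf⟩ := exists_model (T := fun i => (⟨perm i, pred_of_gens
      (P := fun x : Equiv.Perm (Fin 5) => x ∈ alternatingGroup (Fin 5)) (one_mem _)
      (fun a b ha hb => mul_mem ha hb) (fun s => Equiv.Perm.mem_alternatingGroup.2 (gens_sign s))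
      perm_one perm_mul reach i⟩ : alternatingGroup (Fin 5))) (U := U) (z := (0 : Fin 60)) (g := gens)
    (tbl := tbl) (fun i j h => perm_inj (congrArg Subtype.val h)) (Subtype.ext perm_one) hU1
    (fun i s => Subtype.ext (perm_mul i s)) hU reach
  have htop : P = ⊤ := Subgroup.eq_top_of_card_eq P <| by
    rw [hP, nat_card_alternatingGroup, Nat.card_eq_fintype_card, Fintype.card_fin]; rfl
  have hinj : Function.Injective f := (injective_iff_map_eq_one f).2 fun x hx => by
    obtain ⟨i, hi, hfi⟩ := hf x
    by_cases h0 : i = 0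
    · subst h0; exact Subtype.ext (hi.trans (Subtype.ext perm_one))
    · exfalso
      rw [hx] at hfi
      have hz : U0 i ∈ Subgroup.center _ := (QuotientGroup.eq_one_iff _).1 hfi.symm
      obtain ⟨c, -, hc⟩ := Matrix.SpecialLinearGroup.mem_center_iff.1 hz
      refine me_scalar i h0 (φ.symm c) fun r k => φ.injective ?_
      have := congrFun (congrFun hc r) k
      simpa [U0, Matrix.scalar_apply, Matrix.diagonal_apply, apply_ite φ] using this.symm
  exact ⟨f.comp ((MulEquiv.subgroupCongr htop).trans Subgroup.topEquiv).symm.toMonoidHom,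
    hinj.comp (MulEquiv.injective _)⟩


theorem card_psl_eleven {F : Type*} [Field F] [Fintype F] (hF : Fintype.card F = 11) :
    Nat.card (Matrix.ProjectiveSpecialLinearGroup (Fin 2) F) = 660 := by
  have h := Cfsg.Agent.Linear.card_PSL_two_mul (F := F)
  rw [hF] at h
  norm_num at h
  omega

theorem index_eq {F : Type*} [Field F] [Fintype F] (hF : Fintype.card F = 11)
    (f : alternatingGroup (Fin 5) →* Matrix.ProjectiveSpecialLinearGroup (Fin 2) F) (hf : Function.Injective f) :
    f.range.index = 11 := by
  have h1 : Nat.card f.range = 60 := by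
    rw [← Nat.card_congr (MonoidHom.ofInjective hf).toEquiv, nat_card_alternatingGroup,
      Nat.card_eq_fintype_card, Fintype.card_fin]
    rfl
  have h := f.range.card_mul_index
  rw [h1, card_psl_eleven hF] at h
  omega

theorem two_transitive {F : Type*} [Field F] [Fintype F] (hF : Fintype.card F = 11)
    (H : Subgroup (Matrix.ProjectiveSpecialLinearGroup (Fin 2) F)) (hH : H.index = 11) :
    MulAction.IsMultiplyPretransitive (Matrix.ProjectiveSpecialLinearGroup (Fin 2) F)
      ((Matrix.ProjectiveSpecialLinearGroup (Fin 2) F) ⧸ H) 2 := by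
  classical
  let G := Matrix.ProjectiveSpecialLinearGroup (Fin 2) F
  have : IsSimpleGroup G :=
    Cfsg.Agent.Linear.isSimpleGroup_PSL_fin le_rfl fun _ => by
      rw [Nat.card_eq_fintype_card, hF]; norm_num
  let α := G ⧸ H
  have : Fintype α := Fintype.ofFinite α
  have hcard : Fintype.card α = 11 := by rw [← Nat.card_eq_fintype_card]; exact hH
  let t : G →* Equiv.Perm α := MulAction.toPermHom G α
  have hker : t.ker = ⊥ := by
    refine (IsSimpleGroup.eq_bot_or_eq_top_of_normal t.ker inferInstance).resolve_right fun h => ?_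
    have hle : (⊤ : Subgroup G) ≤ H := fun g _ => by
      have : t g = 1 := MonoidHom.mem_ker.1 (h ▸ Subgroup.mem_top g)
      have h2 : g • ((1 : G) : α) = ((1 : G) : α) := Equiv.congr_fun this ((1 : G) : α)
      have h3 : g⁻¹ ∈ H := by simpa [α, QuotientGroup.eq] using h2
      exact inv_mem_iff.1 h3
    rw [Subgroup.index_eq_one.2 (top_le_iff.1 hle)] at hH
    norm_num at hH
  have : MulAction.IsPretransitive t.range α := ⟨fun a b => by
    obtain ⟨g, hg⟩ := MulAction.exists_smul_eq G a b
    exact ⟨⟨t g, g, rfl⟩, hg⟩⟩
  rcases Cfsg.Agent.S0675.result (hcard ▸ (by norm_num : Nat.Prime 11)) t.range with h | h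
  · exfalso
    have hsolv : Group.IsSolvable G := Group.isSolvable_of_isSolvable_injective
      (f := t.rangeRestrict) (fun a b e => (MonoidHom.ker_eq_bot_iff t).1 hker (congrArg Subtype.val e))
    obtain ⟨a, b, hab⟩ := Cfsg.Agent.Linear.exists_not_commute_PSL (ι := Fin 2) (F := F)
      (Or.inr (Cfsg.Agent.Linear.exists_sq_ne_one_of_card (by rw [Nat.card_eq_fintype_card, hF]; norm_num)))
    exact hab (IsSimpleGroup.comm_iff_isSolvable.2 hsolv a b)
  · rw [MulAction.is_two_pretransitive_iff] at h ⊢
    intro a b c d hab hcd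
    obtain ⟨⟨_, g, rfl⟩, h1, h2⟩ := h hab hcd
    exact ⟨g, h1, h2⟩

/-- Let F be a field with 11 elements. PSL_2(F) has a subgroup H of index 11 isomorphic to the alternating group A_5, and the action of PSL_2(F) on the cosets of H is 2-transitive (of degree 11). -/
theorem result {F : Type*} [Field F] [Fintype F] (hF : Fintype.card F = 11) : ∃ H : Subgroup (Matrix.ProjectiveSpecialLinearGroup (Fin 2) F), H.index = 11 ∧ Nonempty (H ≃* alternatingGroup (Fin 5)) ∧ MulAction.IsMultiplyPretransitive (Matrix.ProjectiveSpecialLinearGroup (Fin 2) F) ((Matrix.ProjectiveSpecialLinearGroup (Fin 2) F) ⧸ H) 2 := by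
  obtain ⟨f, hf⟩ := exists_alt_five hF
  refine ⟨f.range, ?_, ⟨(MonoidHom.ofInjective hf).symm⟩, ?_⟩
  · exact index_eq hF f hf
  · exact two_transitive hF _ (index_eq hF f hf)

end Cfsg.Agent.S2542
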