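import Cfsg.Statements.S2543
import Cfsg.Agent.H56.PSLEleven

set_option autoImplicit false
open scoped Pointwise
open Cfsg Cfsg.Agent

namespace Cfsg.Agent.S2543

open scoped Pointwise

/-- Transport of conjugation along an isomorphism. -/
theorem map_smul_conj {G G' : Type*} [Group G] [Group G'] (e : G ≃* G') (g : G) (H : Subgroup G) :
    (MulAut.conj g • H).map e.toMonoidHom = MulAut.conj (e g) • H.map e.toMonoidHom := by
  ext x
  constructor
  · rintro ⟨_, ⟨y, hy, rfl⟩, rfl⟩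
    exact ⟨e y, ⟨y, hy, rfl⟩, by simp [MulAut.conj_apply]⟩
  · rintro ⟨_, ⟨y, hy, rfl⟩, rfl⟩
    exact ⟨_, ⟨y, hy, rfl⟩, by simp [MulAut.conj_apply]⟩

/-- Let F be a field with 11 elements. PSL_2(F) has exactly 22 subgroups isomorphic to the alternating group A_5, and they form two conjugacy classes: there are two such subgroups that are not conjugate, and every such subgroup is conjugate to one of these two. -/
theorem result {F : Type*} [Field F] [Fintype F] (hF : Fintype.card F = 11) : Nat.card {H : Subgroup (Matrix.ProjectiveSpecialLinearGroup (Fin 2) F) // Nonempty (H ≃* alternatingGroup (Fin 5))} = 22 ∧ ∃ H K : Subgroup (Matrix.ProjectiveSpecialLinearGroup (Fin 2) F), Nonempty (H ≃* alternatingGroup (Fin 5)) ∧ Nonempty (K ≃* alternatingGroup (Fin 5)) ∧ (∀ g : Matrix.ProjectiveSpecialLinearGroup (Fin 2) F, MulAut.conj g • H ≠ K) ∧ ∀ L : Subgroup (Matrix.ProjectiveSpecialLinearGroup (Fin 2) F), Nonempty (L ≃* alternatingGroup (Fin 5)) → ∃ g :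 Matrix.ProjectiveSpecialLinearGroup (Fin 2) F, MulAut.conj g • L = H ∨ MulAut.conj g • L = K := by
  haveI : Fact (Nat.Prime 11) := ⟨by norm_num⟩
  let e := H27.PermFamily.pslCongr (ι := Fin 2) (ZMod.ringEquivOfPrime F (by norm_num) hF)
  obtain ⟨hcard, H, K, ⟨eH⟩, ⟨eK⟩, hne, hall⟩ := H56.PSLEleven.main
  have hiff : ∀ J : Subgroup H56.PSLEleven.P11, Nonempty (J ≃* alternatingGroup (Fin 5)) ↔
      Nonempty ((J.map e.toMonoidHom) ≃* alternatingGroup (Fin 5)) := fun J =>
    ⟨fun ⟨f⟩ => ⟨(e.subgroupMap J).symm.trans f⟩, fun ⟨f⟩ => ⟨(e.subgroupMap J).trans f⟩⟩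
  refine ⟨?_, H.map e.toMonoidHom, K.map e.toMonoidHom, (hiff H).1 ⟨eH⟩, (hiff K).1 ⟨eK⟩,
    fun g hg => ?_, fun L hL => ?_⟩
  · rw [← hcard]
    exact (Nat.card_congr (Equiv.subtypeEquiv e.mapSubgroup.toEquiv hiff)).symm
  · obtain ⟨g, rfl⟩ := e.surjective g
    rw [← map_smul_conj] at hg
    exact hne g (Subgroup.map_injective e.injective hg)
  · obtain ⟨J, rfl⟩ : ∃ J : Subgroup H56.PSLEleven.P11, J.map e.toMonoidHom = L :=
      ⟨_, Subgroup.map_comap_eq_self_of_surjective e.surjective L⟩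
    obtain ⟨g, hg⟩ := hall J ((hiff J).2 hL)
    exact ⟨e g, hg.imp (fun h => by rw [← map_smul_conj, h]) (fun h => by rw [← map_smul_conj, h])⟩

end Cfsg.Agent.S2543
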