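import Cfsg.Statements.S2550
import Mathlib
import Cfsg.Agent.Linear.Order

set_option autoImplicit false
open Cfsg

namespace Cfsg.Agent.S2550

open Matrix

lemma exists_conj_transvection {K : Type*} [Field K] (u : Matrix.SpecialLinearGroup (Fin 3) K)
    (hne : u ≠ 1) (hsq : ((u : Matrix (Fin 3) (Fin 3) K) - 1) * ((u : Matrix (Fin 3) (Fin 3) K) - 1) = 0) :
    ∃ P : Matrix.SpecialLinearGroup (Fin 3) K,
      (u : Matrix (Fin 3) (Fin 3) K) * P.1 = P.1 * (1 + Matrix.single 0 2 1) := by
  set N := (u : Matrix (Fin 3) (Fin 3) K) - 1 with hN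
  have hN0 : N ≠ 0 := fun h => hne (Subtype.ext (sub_eq_zero.mp h))
  obtain ⟨y, hy⟩ : ∃ y, N *ᵥ y ≠ 0 := by
    by_contra! h
    exact hN0 (Matrix.toLin'.injective (LinearMap.ext fun y => by simp [h y]))
  set v := N *ᵥ y with hv
  have hNv : N *ᵥ v = 0 := by rw [hv, Matrix.mulVec_mulVec, hsq, Matrix.zero_mulVec]
  obtain ⟨x, hx, hxv⟩ : ∃ x, N *ᵥ x = 0 ∧ x ∉ Submodule.span K {v} := by
    by_contra! h
    have h1 : LinearMap.ker N.toLin' ≤ Submodule.span K {v} := fun x hx => h x (by simpa using hx)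
    have h2 : LinearMap.range N.toLin' ≤ LinearMap.ker N.toLin' := by
      rintro _ ⟨w, rfl⟩
      simp [Matrix.mulVec_mulVec, hsq]
    have h3 := N.toLin'.finrank_range_add_finrank_ker
    have h4 := Submodule.finrank_mono h1
    have h5 := Submodule.finrank_mono h2
    rw [finrank_span_singleton hy] at h4
    rw [Module.finrank_fin_fun] at h3
    omega
  let P0 : Matrix (Fin 3) (Fin 3) K := Matrix.of fun i j => ![v, x, y] j i
  have hcol : ∀ w, P0 *ᵥ w = w 0 • v + w 1 • x + w 2 • y := fun w => by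
    ext i; simp [P0, Matrix.mulVec, dotProduct, Fin.sum_univ_three]; ring
  have hdet : P0.det ≠ 0 := by
    intro h
    obtain ⟨w, hw0, hw⟩ := Matrix.exists_mulVec_eq_zero_iff.mpr h
    rw [hcol] at hw
    have h2 : w 2 = 0 := by
      have := congrArg (fun z => N *ᵥ z) hw
      simp only [Matrix.mulVec_add, Matrix.mulVec_smul, hNv, hx, smul_zero, zero_add,
        Matrix.mulVec_zero, ← hv] at this
      exact (smul_eq_zero.mp this).resolve_right hy
    rw [h2, zero_smul, add_zero] at hw
    have h1 : w 1 = 0 := by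
      by_contra h1
      refine hxv (Submodule.mem_span_singleton.mpr ⟨-(w 0) / w 1, ?_⟩)
      rw [div_eq_inv_mul, mul_smul, neg_smul, ← eq_neg_of_add_eq_zero_right hw, smul_smul,
        inv_mul_cancel₀ h1, one_smul]
    rw [h1, zero_smul, add_zero] at hw
    exact hw0 (funext fun i => by
      fin_cases i
      · exact (smul_eq_zero.mp hw).resolve_right hy
      · exact h1
      · exact h2)
  let D : Matrix (Fin 3) (Fin 3) K := Matrix.diagonal ![1, P0.det⁻¹, 1]
  refine ⟨⟨P0 * D, by simp [D, Fin.prod_univ_three, hdet]⟩, ?_⟩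
  have hNP : N * P0 = P0 * Matrix.single 0 2 1 := by
    refine Matrix.toLin'.injective (LinearMap.ext fun w => ?_)
    rw [Matrix.toLin'_apply, Matrix.toLin'_apply, ← Matrix.mulVec_mulVec, ← Matrix.mulVec_mulVec,
      hcol, hcol, Matrix.mulVec_add, Matrix.mulVec_add, Matrix.mulVec_smul, Matrix.mulVec_smul,
      Matrix.mulVec_smul, hNv, hx]
    simp [Matrix.mulVec, dotProduct, Matrix.single, ← hv]
  have hD : Matrix.single 0 2 1 * D = D * Matrix.single 0 2 1 := by
    ext i j; fin_cases i <;> fin_cases j <;> simp [D, Matrix.single]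
  show (u : Matrix (Fin 3) (Fin 3) K) * (P0 * D) = P0 * D * (1 + Matrix.single 0 2 1)
  rw [show (u : Matrix (Fin 3) (Fin 3) K) = 1 + N by rw [hN]; abel, add_mul, one_mul, ← mul_assoc,
    hNP, mul_assoc, hD, mul_add, mul_one, mul_assoc]

/-- Let F be a field with 2 elements and K a field with 4 elements. PSL_4(F) and PSL_3(K) have the same order (20160) but are not isomorphic. -/
theorem result {F K : Type*} [Field F] [Fintype F] [Field K] [Fintype K] (hF : Fintype.card F = 2) (hK : Fintype.card K = 4) : Nat.card (Matrix.ProjectiveSpecialLinearGroup (Fin 4) F) = Nat.card (Matrix.ProjectiveSpecialLinearGroup (Fin 3) K) ∧ ¬ Nonempty (Matrix.ProjectiveSpecialLinearGroup (Fin 4) F ≃* Matrix.ProjectiveSpecialLinearGroup (Fin 3) K) := by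
  classical
  refine ⟨?_, ?_⟩
  · have h1 := Cfsg.Agent.Linear.card_PSL_mul (F := F) 4 (by norm_num)
    have h2 := Cfsg.Agent.Linear.card_PSL_mul (F := K) 3 (by norm_num)
    rw [hF, Fin.prod_univ_four] at h1
    rw [hK, Fin.prod_univ_three] at h2
    norm_num [Nat.gcd_one_right, Nat.gcd_self] at h1 h2
    simp only [Nat.card_eq_fintype_card] at h1 h2 ⊢
    omega
  rintro ⟨φ⟩
  -- a field with two elements
  have h01 : ∀ x : F, x = 0 ∨ x = 1 := fun x => by
    have := FiniteField.pow_card x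
    rw [hF] at this
    have h2 : x * (x - 1) = 0 := by rw [mul_sub, mul_one, ← pow_two, this, sub_self]
    rcases mul_eq_zero.mp h2 with h | h
    · exact Or.inl h
    · exact Or.inr (sub_eq_zero.mp h)
  have htwo : (1 : F) + 1 = 0 := by
    rcases h01 (1 + 1) with h | h
    · exact h
    · exact absurd (add_eq_left.mp h) one_ne_zero
  have htwoK : (1 : K) + 1 = 0 := by
    have h := FiniteField.cast_card_eq_zero K
    rw [hK] at h
    have : ((1 : K) + 1) * (1 + 1) = 0 := by rw [← h]; push_cast; ring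
    exact mul_self_eq_zero.mp this
  -- involutions of PSL(3, 4) are conjugate
  have hconjK : ∀ a b : Matrix.ProjectiveSpecialLinearGroup (Fin 3) K,
      a ^ 2 = 1 → a ≠ 1 → b ^ 2 = 1 → b ≠ 1 → ∃ c, c * a * c⁻¹ = b := by
    have lift : ∀ a : Matrix.ProjectiveSpecialLinearGroup (Fin 3) K, a ^ 2 = 1 → a ≠ 1 →
        ∃ P u : Matrix.SpecialLinearGroup (Fin 3) K, QuotientGroup.mk u = a ∧
          u.1 * P.1 = P.1 * (1 + Matrix.single 0 2 1) := by
      intro a ha ha1
      obtain ⟨A, rfl⟩ := QuotientGroup.mk_surjective a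
      rw [← QuotientGroup.mk_pow, QuotientGroup.eq_one_iff] at ha
      have ha2 := ha
      obtain ⟨x, hx, hxA⟩ := Matrix.SpecialLinearGroup.mem_center_iff.mp ha
      have h6 : (A ^ 3) ^ 2 = 1 := by
        rw [← pow_mul, show 3 * 2 = 2 * 3 from rfl, pow_mul]
        apply Subtype.ext
        rw [Matrix.SpecialLinearGroup.coe_pow, ← hxA, ← map_pow,
          show x ^ 3 = 1 by simpa using hx, map_one]
        rfl
      have hmk : (QuotientGroup.mk (A ^ 3) : Matrix.ProjectiveSpecialLinearGroup (Fin 3) K) =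
          QuotientGroup.mk A := by
        rw [pow_succ, QuotientGroup.mk_mul, (QuotientGroup.eq_one_iff _).mpr ha2, one_mul]
      have hne : A ^ 3 ≠ 1 := fun h => ha1 (by rw [← hmk, h, QuotientGroup.mk_one])
      obtain ⟨P, hP⟩ := exists_conj_transvection (A ^ 3) hne (by
        have h := congrArg Subtype.val h6
        simp only [pow_two, Matrix.SpecialLinearGroup.coe_mul, Matrix.SpecialLinearGroup.coe_one] at h
        simp only [sub_mul, mul_sub, one_mul, mul_one, h]
        have h2 : ∀ M : Matrix (Fin 3) (Fin 3) K, M + M = 0 := fun M => by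
          ext i j
          show M i j + M i j = 0
          rw [← mul_one (M i j), ← mul_add, htwoK, mul_zero]
        have := h2 (1 - ((A ^ 3 : Matrix.SpecialLinearGroup (Fin 3) K) : Matrix (Fin 3) (Fin 3) K))
        rw [← this]
        abel)
      exact ⟨P, A ^ 3, hmk, hP⟩
    intro a b ha ha1 hb hb1
    obtain ⟨P, u, hu, hP⟩ := lift a ha ha1
    obtain ⟨Q, w, hw, hQ⟩ := lift b hb hb1
    have hT : (1 + Matrix.single 0 2 1 : Matrix (Fin 3) (Fin 3) K).det = 1 := by
      simp [Matrix.det_fin_three, Matrix.single]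
    let T : Matrix.SpecialLinearGroup (Fin 3) K := ⟨_, hT⟩
    have e1 : u * P = P * T := Subtype.ext hP
    have e2 : w * Q = Q * T := Subtype.ext hQ
    refine ⟨QuotientGroup.mk (Q * P⁻¹), ?_⟩
    rw [← hu, ← hw, ← QuotientGroup.mk_inv, ← QuotientGroup.mk_mul, ← QuotientGroup.mk_mul]
    congr 1
    rw [eq_mul_inv_of_mul_eq e1, eq_mul_inv_of_mul_eq e2]
    group
  -- two classes of involutions in SL(4, 2)
  let E1 : Matrix (Fin 4) (Fin 4) F := Matrix.single 0 2 1
  let E2 : Matrix (Fin 4) (Fin 4) F := Matrix.single 0 2 1 + Matrix.single 1 3 1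
  have d1 : (1 + E1).det = 1 := by
    rw [Matrix.det_of_upperTriangular (fun i j hij => by
      fin_cases i <;> fin_cases j <;> simp_all [E1, Matrix.single, Matrix.one_apply])]
    simp [E1, Matrix.single, Fin.prod_univ_four]
  have d2 : (1 + E2).det = 1 := by
    rw [Matrix.det_of_upperTriangular (fun i j hij => by
      fin_cases i <;> fin_cases j <;> simp_all [E2, Matrix.single, Matrix.one_apply])]
    simp [E2, Matrix.single, Fin.prod_univ_four]
  let u1 : Matrix.SpecialLinearGroup (Fin 4) F := ⟨_, d1⟩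
  let u2 : Matrix.SpecialLinearGroup (Fin 4) F := ⟨_, d2⟩
  have hZ : Subgroup.center (Matrix.SpecialLinearGroup (Fin 4) F) = ⊥ := by
    refine (Subgroup.eq_bot_iff_forall _).mpr fun z hz => ?_
    obtain ⟨x, hx, hxz⟩ := Matrix.SpecialLinearGroup.mem_center_iff.mp hz
    rcases h01 x with rfl | rfl
    · simp at hx
    · exact Subtype.ext (by rw [← hxz, map_one]; rfl)
  have hinj : Function.Injective
      (QuotientGroup.mk : Matrix.SpecialLinearGroup (Fin 4) F → Matrix.ProjectiveSpecialLinearGroup (Fin 4) F) := by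
    intro x y h
    have h' := QuotientGroup.eq.mp h
    rw [hZ, Subgroup.mem_bot, inv_mul_eq_one] at h'
    exact h'
  have hsq1 : u1 * u1 = 1 := by
    apply Subtype.ext
    show (1 + E1) * (1 + E1) = 1
    ext i j
    fin_cases i <;> fin_cases j <;>
      simp [E1, Matrix.mul_apply, Fin.sum_univ_four, Matrix.single, Matrix.one_apply, htwo]
  have hsq2 : u2 * u2 = 1 := by
    apply Subtype.ext
    show (1 + E2) * (1 + E2) = 1
    ext i j
    fin_cases i <;> fin_cases j <;>
      simp [E2, Matrix.mul_apply, Fin.sum_univ_four, Matrix.single, Matrix.one_apply, htwo]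
  have hne1 : u1 ≠ 1 := fun h => by
    have := congrArg (fun z : Matrix.SpecialLinearGroup (Fin 4) F => z.1 0 2) h
    simp [u1, E1, Matrix.single] at this
  have hne2 : u2 ≠ 1 := fun h => by
    have := congrArg (fun z : Matrix.SpecialLinearGroup (Fin 4) F => z.1 0 2) h
    simp [u2, E2, Matrix.single] at this
  have himg : ∀ u : Matrix.SpecialLinearGroup (Fin 4) F, u * u = 1 → u ≠ 1 →
      φ (QuotientGroup.mk u) ^ 2 = 1 ∧ φ (QuotientGroup.mk u) ≠ 1 := by
    intro u h h1
    refine ⟨by rw [← map_pow, ← QuotientGroup.mk_pow, pow_two, h, QuotientGroup.mk_one, map_one],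
      fun h2 => h1 (hinj ?_)⟩
    rw [QuotientGroup.mk_one]
    exact φ.injective (h2.trans (map_one φ).symm)
  obtain ⟨c, hc⟩ := hconjK _ _ (himg u1 hsq1 hne1).1 (himg u1 hsq1 hne1).2
    (himg u2 hsq2 hne2).1 (himg u2 hsq2 hne2).2
  obtain ⟨d, rfl⟩ := φ.surjective c
  rw [← map_inv, ← map_mul, ← map_mul] at hc
  obtain ⟨P, rfl⟩ := QuotientGroup.mk_surjective d
  have hP : P * u1 = u2 * P := by
    have := φ.injective hc
    rw [← QuotientGroup.mk_inv, ← QuotientGroup.mk_mul, ← QuotientGroup.mk_mul] at this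
    exact mul_inv_eq_iff_eq_mul.mp (hinj this)
  have hPE : P.1 * E1 = E2 * P.1 := by
    have h := congrArg Subtype.val hP
    change P.1 * (1 + E1) = (1 + E2) * P.1 at h
    rw [mul_add, add_mul, mul_one, one_mul] at h
    exact add_left_cancel h
  have hPi : P.1 * (P⁻¹).1 = 1 := congrArg Subtype.val (mul_inv_cancel P)
  let X : Matrix (Fin 4) (Fin 4) F := Matrix.single 2 0 1
  set k : F := ((P⁻¹).1 * X * P.1) 2 0
  have key : E2 * X * E2 = k • E2 := by
    calc E2 * X * E2 = E2 * X * E2 * (P.1 * (P⁻¹).1) := by rw [hPi, mul_one]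
      _ = E2 * X * (E2 * P.1) * (P⁻¹).1 := by simp only [mul_assoc]
      _ = E2 * (P.1 * (P⁻¹).1) * X * (P.1 * E1) * (P⁻¹).1 := by rw [hPi, hPE, mul_one]
      _ = (E2 * P.1) * (P⁻¹).1 * X * P.1 * E1 * (P⁻¹).1 := by simp only [mul_assoc]
      _ = P.1 * (E1 * ((P⁻¹).1 * X * P.1) * E1) * (P⁻¹).1 := by rw [← hPE]; simp only [mul_assoc]
      _ = P.1 * (k • E1) * (P⁻¹).1 := by
        congr 2
        ext i j
        fin_cases i <;> fin_cases j <;>
          simp [E1, k, Matrix.mul_apply, Fin.sum_univ_four, Matrix.single]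
      _ = k • E2 := by
        rw [mul_smul_comm, smul_mul_assoc, hPE, mul_assoc, hPi, mul_one]
  have e1 := congrFun (congrFun key 0) 2
  have e2 := congrFun (congrFun key 1) 3
  simp [E2, X, Matrix.mul_apply, Fin.sum_univ_four, Matrix.single] at e1 e2
  rw [← e1] at e2
  simp at e2

end Cfsg.Agent.S2550
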