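import Cfsg.Statements.S2551
import Cfsg.Agent.H27.EightPoints
import Cfsg.Agent.H27.SylowModel
import Cfsg.Agent.H32.PermModule
import Cfsg.Agent.Linear.Order

set_option autoImplicit false
open Cfsg

namespace Cfsg.Agent.S2551

open Matrix Cfsg.Agent.H27.EightPoints Cfsg.Agent.H27.PermFamily

attribute [local instance] congrAction

def pairW : ℕ := 29052464901282935374092844695475970501246581586298356801578378255771655761150495775490627777640629018909756396611871362200629009760079850009305449911347626913236242424656140659630468719013510212875617797028550233318631260940113646050119312212219869419615776125387086401859872703642576282526798347719956062154774745008810462797654874326490462449017287372342463484728884649225597438275497143980429572077585552148888820531433155200441203383597759438195837057300699375550271657951358914522821792688904021462305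

def parW : ℕ := 64903855367786770879756884274299956233628381088030350445541064841736152983752901151785652181825176242279651442487845084531802363565203100131957624056205237761540233814535994385252767025457925564734458122747273669769126299943791062282253982281266962867346805962457911896306812150427887579812063050758306754304995208955674695583694219810457916723041541932964937765458644175121561392684580933649672447126988696326258215648124929341237678870071362487995016330864104444745990912569573906520114746587983020885845201967876299000124858642728413768534206292012967371688097611776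

def gE : Fin 2 → Fin 4 → Fin 4 → ZMod 2 := ![![![1, 0, 1, 1], ![0, 0, 1, 1], ![1, 1, 1, 1], ![1, 1, 0, 1]], ![![1, 0, 0, 1], ![1, 0, 1, 1], ![0, 0, 0, 1], ![1, 1, 1, 1]]]

/-- a vector of `F₂⁴` as a number -/
def vecOf (v : ℕ) : Fin 4 → ZMod 2 := fun k => if v.testBit k.1 then 1 else 0

def pA (i : Fin 210) : ℕ := Cfsg.Agent.H27.SylowModel.dig 8 pairW i.1 % 16

def pB (i : Fin 210) : ℕ := Cfsg.Agent.H27.SylowModel.dig 8 pairW i.1 / 16

def par (i : Fin 210) : Fin 210 := ⟨Cfsg.Agent.H27.SylowModel.dig 9 parW i.1 / 2 % 210, Nat.mod_lt _ (by norm_num)⟩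

def parG (i : Fin 210) : Fin 2 := ⟨Cfsg.Agent.H27.SylowModel.dig 9 parW i.1 % 2, Nat.mod_lt _ (by norm_num)⟩

theorem par_spec : ∀ i : Fin 210, i ≠ 0 → par i < i ∧
    (∀ r, (∑ k, gE (parG i) r k * vecOf (pA (par i)) k) = vecOf (pA i) r) ∧
    ∀ r, (∑ k, gE (parG i) r k * vecOf (pB (par i)) k) = vecOf (pB i) r := by
  decide +kernel

theorem pairs_cover : ∀ a b : Fin 16, a.1 ≠ 0 → b.1 ≠ 0 → a ≠ b → ∃ i : Fin 210, pA i = a.1 ∧ pB i = b.1 := by
  decide +kernel

theorem vec_cases : ∀ a b c d : ZMod 2, ∃ k : Fin 16, ∀ j, ![a, b, c, d] j = vecOf k.1 j := by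
  decide +kernel

theorem vecOf_zero : ∀ j, vecOf 0 j = 0 := by decide +kernel

theorem gen_det : ∀ s, (Matrix.of (gE s)).det = 1 := by
  intro s
  rw [Matrix.det_succ_row_zero]
  simp only [Matrix.det_fin_three, Fin.sum_univ_four, Matrix.submatrix_apply, Matrix.of_apply]
  revert s
  decide +kernel

/-- `(g A gᵀ)` entrywise -/
def congrE (g : Fin 4 → Fin 4 → ZMod 2) (x : V6) : V6 :=
  fun k => ![∑ a, ∑ b, g 0 a * alt x a b * g 1 b, ∑ a, ∑ b, g 0 a * alt x a b * g 2 b,
    ∑ a, ∑ b, g 0 a * alt x a b * g 3 b, ∑ a, ∑ b, g 1 a * alt x a b * g 2 b,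
    ∑ a, ∑ b, g 1 a * alt x a b * g 3 b, ∑ a, ∑ b, g 2 a * alt x a b * g 3 b] k

theorem gen_fix_table : ∀ (s : Fin 2) (a b c d e f : ZMod 2),
    chi 0 (congrE (gE s) ![a, b, c, d, e, f]) = chi 0 ![a, b, c, d, e, f] := by
  decide +kernel

theorem reach_table : ∀ l : Fin 8, l = 0 ∨ ∃ i j : Fin 4, i ≠ j ∧ ∀ a b c d e f : ZMod 2,
    chi l (step i j 1 ![a, b, c, d, e, f]) = chi 0 ![a, b, c, d, e, f] := by
  decide +kernel

abbrev S4 : Type := Matrix.SpecialLinearGroup (Fin 4) (ZMod 2)

/-- the eight-point representation -/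
noncomputable def π : S4 →* Equiv.Perm (Fin 8) := permHom chi chi_inj stable

theorem fix_of_forall {g : S4} {k l : Fin 8}
    (h : ∀ a b c d e f : ZMod 2, chi l (g • (![a, b, c, d, e, f] : V6)) = chi k ![a, b, c, d, e, f]) :
    π g k = l := by
  change idx chi stable g k = l
  refine idx_eq chi chi_inj stable fun x => ?_
  have := h (x 0) (x 1) (x 2) (x 3) (x 4) (x 5)
  rwa [vec6] at this

theorem π_transitive (l : Fin 8) : ∃ g : S4, π g 0 = l := by
  rcases reach_table l with rfl | ⟨i, j, hij, h⟩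
  · exact ⟨1, by rw [map_one]; rfl⟩
  · refine ⟨Matrix.SpecialLinearGroup.transvection (F := ZMod 2) hij 1, fix_of_forall fun a b c d e f => ?_⟩
    rw [smul_transvection]
    exact h a b c d e f

theorem card_S4 : Nat.card S4 = 20160 := by
  have := Cfsg.Agent.Linear.card_SL_mul (F := ZMod 2) 4 (by norm_num)
  rw [ZMod.card, Fin.prod_univ_four, show (2 - 1 : ℕ) = 1 from rfl, one_mul] at this
  rw [this]
  rfl

theorem π_injective : Function.Injective π := by
  have hsimp : IsSimpleGroup (Matrix.ProjectiveSpecialLinearGroup (Fin 4) (ZMod 2)) :=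
    Cfsg.Agent.Linear.isSimpleGroup_PSL_fin (by norm_num) (by norm_num)
  have h1 : Subgroup.center S4 = ⊥ := Subgroup.eq_bot_of_card_eq _ <| by
    rw [Cfsg.Agent.Linear.card_center_SL, ZMod.card]; rfl
  have hS : IsSimpleGroup S4 := by
    let e : S4 ≃* Matrix.ProjectiveSpecialLinearGroup (Fin 4) (ZMod 2) :=
      ((QuotientGroup.quotientMulEquivOfEq h1).trans QuotientGroup.quotientBot).symm
    exact e.isSimpleGroup
  refine (MonoidHom.ker_eq_bot_iff π).1
    ((IsSimpleGroup.eq_bot_or_eq_top_of_normal π.ker inferInstance).resolve_right fun h => ?_)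
  obtain ⟨g, hg⟩ := π_transitive 1
  rw [MonoidHom.mem_ker.1 (h ▸ Subgroup.mem_top g)] at hg
  exact absurd hg (by decide)

/-- point stabilisers -/
noncomputable def K (k : Fin 8) : Subgroup S4 := (MulAction.stabilizer (Equiv.Perm (Fin 8)) k).comap π

theorem mem_K {k : Fin 8} {g : S4} : g ∈ K k ↔ π g k = k := Iff.rfl

theorem card_K (k : Fin 8) : Nat.card (K k) = 2520 := by
  let act : MulAction S4 (Fin 8) := MulAction.compHom (Fin 8) π
  have htr : MulAction.IsPretransitive S4 (Fin 8) := ⟨fun a b => by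
    obtain ⟨g, hg⟩ := π_transitive a
    obtain ⟨h, hh⟩ := π_transitive b
    exact ⟨h * g⁻¹, show π (h * g⁻¹) a = b by
      rw [map_mul, map_inv, Equiv.Perm.mul_apply, ← hg, Equiv.Perm.inv_def, Equiv.symm_apply_apply, hh]⟩⟩
  have h := (K k).card_mul_index
  have hi : (K k).index = 8 := by
    have := MulAction.index_stabilizer_of_transitive S4 k
    rw [Nat.card_eq_fintype_card, Fintype.card_fin] at this
    exact this
  rw [hi, card_S4] at h
  omega

/-- transport of fixed-point subgroups to one point fewer -/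
def restrict7 (k : Fin 8) : MulAction.stabilizer (Equiv.Perm (Fin 8)) k →* Equiv.Perm {x : Fin 8 // x ≠ k} where
  toFun g := (g : Equiv.Perm (Fin 8)).subtypePerm (fun x => by
    have hg : (g : Equiv.Perm (Fin 8)) k = k := g.2
    constructor
    · intro h e; exact h (by rw [e, hg])
    · intro h e; exact h ((g : Equiv.Perm (Fin 8)).injective (e.trans hg.symm)))
  map_one' := by ext; rfl
  map_mul' a b := by ext; rfl

theorem restrict7_injective (k : Fin 8) : Function.Injective (restrict7 k) := by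
  intro a b h
  refine Subtype.ext (Equiv.ext fun x => ?_)
  by_cases hx : x = k
  · subst hx; exact (a.2 : _).trans (b.2 : _).symm
  · exact congrArg Subtype.val (Equiv.congr_fun h ⟨x, hx⟩)

theorem K_equiv_alt : Nonempty (K 0 ≃* alternatingGroup (Fin 7)) := by
  let e7 : {x : Fin 8 // x ≠ 0} ≃ Fin 7 := (finSuccAboveEquiv (0 : Fin 8)).symm
  let f : K 0 →* Equiv.Perm (Fin 7) :=
    (e7.permCongrHom.toMonoidHom.comp (restrict7 0)).comp
      ((π.comp (K 0).subtype).codRestrict _ fun g => g.2)
  have hf : Function.Injective f := fun a b h => by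
    have h1 := restrict7_injective 0 (e7.permCongrHom.injective h)
    exact Subtype.ext (π_injective (congrArg Subtype.val h1))
  have hc : Nat.card f.range = 2520 := by
    rw [← Nat.card_congr (MonoidHom.ofInjective hf).toEquiv, card_K]
  have hi : f.range.index = 2 := by
    have h := f.range.card_mul_index
    rw [hc, Nat.card_perm, Nat.card_eq_fintype_card, Fintype.card_fin] at h
    simp [Nat.factorial] at h
    omega
  exact ⟨(MonoidHom.ofInjective hf).trans
    (MulEquiv.subgroupCongr (Equiv.Perm.eq_alternatingGroup_of_index_eq_two hi))⟩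

theorem card_offdiag : ({p : Fin 7 × Fin 7 | p.1 ≠ p.2}).toFinset.card = 42 := by decide +kernel

theorem no_315 (M : Subgroup (Equiv.Perm (Fin 7))) : Nat.card M ≠ 315 := by
  intro hM
  have h7 : Fact (Nat.Prime 7) := ⟨by norm_num⟩
  obtain ⟨x, hx⟩ := exists_prime_orderOf_dvd_card' 7 (hM ▸ (by norm_num : 7 ∣ 315) : 7 ∣ Nat.card M)
  obtain ⟨C, -⟩ := Cfsg.Agent.H32.exists_coords_of_order (p := 7) (Fintype.card_fin 7) x hx
  have : MulAction.IsPretransitive M (Fin 7) := ⟨fun a b => by
    refine ⟨C.gen ^ (C.coord.symm b - C.coord.symm a).val, ?_⟩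
    have e := C.pow_smul (C.coord.symm b - C.coord.symm a).val (C.coord.symm a)
    rw [Equiv.apply_symm_apply, ZMod.natCast_zmod_val, add_sub_cancel, Equiv.apply_symm_apply] at e
    exact e⟩
  rcases C.allAffine_or_two_transitive (Fintype.card_fin 7) with h | h
  · choose a b hab using h
    have hinj : Function.Injective (fun g : M => (a g, b g)) := fun g g' e => by
      refine Subtype.ext (Equiv.ext fun y => ?_)
      obtain ⟨j, rfl⟩ := C.coord.surjective y
      have e1 := hab g j
      have e2 := hab g' j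
      rw [(Prod.mk.inj e).1, (Prod.mk.inj e).2, ← e2] at e1
      exact e1
    have := Nat.card_le_card_of_injective _ hinj
    rw [hM, Nat.card_prod, Nat.card_zmod] at this
    omega
  · rw [MulAction.is_two_pretransitive_iff] at h
    have ho : MulAction.orbit M ((0, 1) : Fin 7 × Fin 7) = {p | p.1 ≠ p.2} := by
      ext p
      constructor
      · rintro ⟨g, rfl⟩
        exact fun h => absurd ((MulAction.injective g) h) (by decide)
      · intro hp
        obtain ⟨g, h1, h2⟩ := h (a := (0 : Fin 7)) (b := 1) (by decide) hp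
        exact ⟨g, Prod.ext h1 h2⟩
    have hd := Subgroup.index_dvd_card (MulAction.stabilizer M ((0, 1) : Fin 7 × Fin 7))
    rw [MulAction.index_stabilizer, ho, hM, Set.ncard_eq_toFinset_card', card_offdiag] at hd
    norm_num at hd

theorem exists_fixed (H : Subgroup S4) (e : H ≃* alternatingGroup (Fin 7)) : ∃ k, H = K k := by
  classical
  have hcardA : Nat.card H = 2520 := by
    rw [Nat.card_congr e.toEquiv, nat_card_alternatingGroup, Nat.card_eq_fintype_card, Fintype.card_fin]; rfl
  suffices h : ∃ k, H ≤ K k by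
    obtain ⟨k, hk⟩ := h
    exact ⟨k, Subgroup.eq_of_le_of_card_ge hk (by rw [card_K, hcardA])⟩
  by_contra hne
  push Not at hne
  let act : MulAction H (Fin 8) := MulAction.compHom (Fin 8) (π.comp H.subtype)
  have hsimp : IsSimpleGroup (alternatingGroup (Fin 7)) :=
    alternatingGroup.isSimpleGroup (by simp)
  have hsH : IsSimpleGroup H := e.isSimpleGroup
  have hbig : ∀ k : Fin 8, 7 ≤ (MulAction.stabilizer H k).index := by
    intro k
    have hi0 : (MulAction.stabilizer H k).index ≠ 0 := Subgroup.index_ne_zero_of_finite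
    have hi1 : (MulAction.stabilizer H k).index ≠ 1 := fun h => by
      refine hne k fun g hg => ?_
      have : (⟨g, hg⟩ : H) ∈ MulAction.stabilizer H k := by
        rw [Subgroup.index_eq_one.1 h]; trivial
      exact this
    by_contra hlt
    let t : H →* Equiv.Perm (H ⧸ MulAction.stabilizer H k) := MulAction.toPermHom _ _
    have htk : t.ker = ⊥ := (IsSimpleGroup.eq_bot_or_eq_top_of_normal t.ker inferInstance).resolve_right fun h => by
      apply hi1
      rw [Subgroup.index_eq_one, eq_top_iff]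
      intro g _
      have hg : g ∈ t.ker := by rw [h]; trivial
      have h2 : g • ((1 : H) : H ⧸ MulAction.stabilizer H k) = ((1 : H) : H ⧸ MulAction.stabilizer H k) :=
        Equiv.congr_fun (MonoidHom.mem_ker.1 hg) ((1 : H) : H ⧸ MulAction.stabilizer H k)
      exact inv_mem_iff.1 (by simpa [QuotientGroup.eq] using h2)
    have hle := Nat.card_le_card_of_injective t ((MonoidHom.ker_eq_bot_iff t).1 htk)
    rw [hcardA, Nat.card_perm] at hle
    have hfac : Nat.factorial (MulAction.stabilizer H k).index ≤ Nat.factorial 6 := Nat.factorial_le (by omega)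
    have e6 : Nat.factorial 6 = 720 := rfl
    change 2520 ≤ Nat.factorial (MulAction.stabilizer H k).index at hle
    omega
  have hsize : ∀ k : Fin 8, (MulAction.stabilizer H k).index ≤ 8 := fun k => by
    rw [MulAction.index_stabilizer]
    exact le_trans (Set.ncard_le_card _) (by simp)
  have hno : ∀ k : Fin 8, (MulAction.stabilizer H k).index ≠ 8 := fun k h8 => by
    obtain hc := (MulAction.stabilizer H k).card_mul_index
    rw [h8, hcardA] at hc
    let M := ((MulAction.stabilizer H k).map e.toMonoidHom).map (alternatingGroup (Fin 7)).subtype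
    refine no_315 M ?_
    rw [Subgroup.card_map_of_injective Subtype.val_injective, Subgroup.card_map_of_injective e.injective]
    omega
  have h7 : ∀ k : Fin 8, (MulAction.orbit H k).ncard = 7 := fun k => by
    rw [← MulAction.index_stabilizer]
    have := hbig k; have := hsize k; have := hno k
    omega
  obtain ⟨k, hk⟩ : ∃ k, k ∉ MulAction.orbit H (0 : Fin 8) := by
    by_contra hall
    push Not at hall
    have := h7 0
    rw [Set.eq_univ_of_forall hall, Set.ncard_univ] at this
    simp at this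
  have hd : Disjoint (MulAction.orbit H k) (MulAction.orbit H (0 : Fin 8)) := by
    rw [Set.disjoint_left]
    intro x hx hx0
    exact hk (by rw [← MulAction.orbit_eq_iff.2 hx0, MulAction.orbit_eq_iff.2 hx]; exact MulAction.mem_orbit_self k)
  have hu := Set.ncard_union_eq hd
  rw [h7, h7] at hu
  have hle := Set.ncard_le_card (MulAction.orbit H k ∪ MulAction.orbit H (0 : Fin 8))
  rw [hu] at hle
  simp at hle

/-- the generators -/
def gS (s : Fin 2) : S4 := ⟨Matrix.of (gE s), gen_det s⟩

theorem gen_mem (s : Fin 2) : gS s ∈ K 0 := by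
  refine mem_K.2 (fix_of_forall fun a b c d e f => ?_)
  rw [← gen_fix_table s a b c d e f]
  congr 1
  change coords (Matrix.of (gE s) * alt ![a, b, c, d, e, f] * (Matrix.of (gE s))ᵀ) = _
  funext j
  fin_cases j <;> simp [coords, congrE, Matrix.mul_apply, Fin.sum_univ_four] <;> ring

theorem two_trans_K0 (i : Fin 210) : ∃ g ∈ K 0,
    g.1 *ᵥ vecOf (pA 0) = vecOf (pA i) ∧ g.1 *ᵥ vecOf (pB 0) = vecOf (pB i) := by
  induction i using WellFoundedLT.induction with
  | ind i ih =>
    by_cases h0 : i = 0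
    · subst h0; exact ⟨1, one_mem _, by simp⟩
    · obtain ⟨hlt, hA, hB⟩ := par_spec i h0
      obtain ⟨g, hg, h1, h2⟩ := ih _ hlt
      refine ⟨gS (parG i) * g, mul_mem (gen_mem _) hg, ?_, ?_⟩
      · rw [Matrix.SpecialLinearGroup.coe_mul, ← Matrix.mulVec_mulVec, h1]; funext r; exact hA r
      · rw [Matrix.SpecialLinearGroup.coe_mul, ← Matrix.mulVec_mulVec, h2]; funext r; exact hB r

theorem exists_code (v : Fin 4 → ZMod 2) : ∃ k : Fin 16, v = vecOf k.1 := by
  obtain ⟨k, hk⟩ := vec_cases (v 0) (v 1) (v 2) (v 3)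
  exact ⟨k, funext fun j => by rw [← hk j]; fin_cases j <;> rfl⟩

theorem exists_pair {v w : Fin 4 → ZMod 2} (hv : v ≠ 0) (hw : w ≠ 0) (hvw : v ≠ w) :
    ∃ i : Fin 210, vecOf (pA i) = v ∧ vecOf (pB i) = w := by
  obtain ⟨a, rfl⟩ := exists_code v
  obtain ⟨b, rfl⟩ := exists_code w
  obtain ⟨i, h1, h2⟩ := pairs_cover a b (fun h => hv (by rw [h]; exact funext vecOf_zero))
    (fun h => hw (by rw [h]; exact funext vecOf_zero)) (fun h => hvw (by rw [h]))
  exact ⟨i, by rw [h1], by rw [h2]⟩

theorem two_trans_K (k : Fin 8) {v w v' w' : Fin 4 → ZMod 2} (hv : v ≠ 0) (hw : w ≠ 0) (hvw : v ≠ w)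
    (hv' : v' ≠ 0) (hw' : w' ≠ 0) (hvw' : v' ≠ w') : ∃ g ∈ K k, g.1 *ᵥ v = v' ∧ g.1 *ᵥ w = w' := by
  obtain ⟨c, hc⟩ := π_transitive k
  have hinj : Function.Injective (fun u => (c⁻¹).1 *ᵥ u) := fun x y h => by
    have := congrArg (fun u => c.1 *ᵥ u) h
    simp only [Matrix.mulVec_mulVec] at this
    rwa [← Matrix.SpecialLinearGroup.coe_mul, mul_inv_cancel, Matrix.SpecialLinearGroup.coe_one,
      Matrix.one_mulVec, Matrix.one_mulVec] at this
  have hz : ∀ u : Fin 4 → ZMod 2, u ≠ 0 → (c⁻¹).1 *ᵥ u ≠ 0 := fun u hu h =>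
    hu (hinj (h.trans (Matrix.mulVec_zero _).symm))
  obtain ⟨i, hi1, hi2⟩ := exists_pair (hz v hv) (hz w hw) (hinj.ne hvw)
  obtain ⟨j, hj1, hj2⟩ := exists_pair (hz v' hv') (hz w' hw') (hinj.ne hvw')
  obtain ⟨g, hg, g1, g2⟩ := two_trans_K0 i
  obtain ⟨g', hg', g'1, g'2⟩ := two_trans_K0 j
  refine ⟨c * (g' * g⁻¹) * c⁻¹, mem_K.2 ?_, ?_, ?_⟩
  · have h0 : π (g' * g⁻¹) 0 = 0 := mem_K.1 (mul_mem hg' (inv_mem hg))
    rw [map_mul, map_mul, map_inv, Equiv.Perm.mul_apply, Equiv.Perm.mul_apply, ← hc, Equiv.Perm.inv_def,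
      Equiv.symm_apply_apply, h0]
  all_goals
    rw [Matrix.SpecialLinearGroup.coe_mul, Matrix.SpecialLinearGroup.coe_mul, Matrix.SpecialLinearGroup.coe_mul,
      ← Matrix.mulVec_mulVec, ← Matrix.mulVec_mulVec, ← Matrix.mulVec_mulVec]
  · rw [← hi1, ← g1, Matrix.mulVec_mulVec (M := (g⁻¹).1), ← Matrix.SpecialLinearGroup.coe_mul, inv_mul_cancel,
      Matrix.SpecialLinearGroup.coe_one, Matrix.one_mulVec, g'1, hj1, Matrix.mulVec_mulVec,
      ← Matrix.SpecialLinearGroup.coe_mul, mul_inv_cancel, Matrix.SpecialLinearGroup.coe_one, Matrix.one_mulVec]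
  · rw [← hi2, ← g2, Matrix.mulVec_mulVec (M := (g⁻¹).1), ← Matrix.SpecialLinearGroup.coe_mul, inv_mul_cancel,
      Matrix.SpecialLinearGroup.coe_one, Matrix.one_mulVec, g'2, hj2, Matrix.mulVec_mulVec,
      ← Matrix.SpecialLinearGroup.coe_mul, mul_inv_cancel, Matrix.SpecialLinearGroup.coe_one, Matrix.one_mulVec]

theorem zmod_two_unit : ∀ x : ZMod 2, IsUnit x → x = 1 := by
  intro x hx
  fin_cases x
  · exact absurd hx not_isUnit_zero
  · rfl

theorem main {F : Type*} [Field F] [Fintype F] (hF : Fintype.card F = 2) :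
    (∃ H : Subgroup (Matrix.GeneralLinearGroup (Fin 4) F), Nonempty (H ≃* alternatingGroup (Fin 7))) ∧
    ∀ H : Subgroup (Matrix.GeneralLinearGroup (Fin 4) F), Nonempty (H ≃* alternatingGroup (Fin 7)) →
      ∀ v w v' w' : Fin 4 → F, v ≠ 0 → w ≠ 0 → v ≠ w → v' ≠ 0 → w' ≠ 0 → v' ≠ w' →
        ∃ g ∈ H, (g : Matrix (Fin 4) (Fin 4) F).mulVec v = v' ∧
          (g : Matrix (Fin 4) (Fin 4) F).mulVec w = w' := by
  classical
  let φ : ZMod 2 ≃+* F := ZMod.ringEquivOfPrime F Nat.prime_two hF
  let ι : S4 →* Matrix.GeneralLinearGroup (Fin 4) F :=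
    (Units.map φ.toRingHom.mapMatrix.toMonoidHom).comp Matrix.SpecialLinearGroup.toGL
  have hι : ∀ g : S4, ((ι g : Matrix.GeneralLinearGroup (Fin 4) F) : Matrix (Fin 4) (Fin 4) F) = g.1.map φ :=
    fun g => rfl
  have hιb : Function.Bijective ι := by
    constructor
    · intro a b h
      exact Subtype.ext (Matrix.map_injective φ.injective ((hι a).symm.trans ((congrArg Units.val h).trans (hι b))))
    · intro A
      let B : Matrix (Fin 4) (Fin 4) (ZMod 2) := (A : Matrix (Fin 4) (Fin 4) F).map φ.symm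
      have hd : B.det = 1 := by
        have hu : IsUnit B.det := by
          have := (Matrix.isUnit_iff_isUnit_det _).1 (A.isUnit.map φ.symm.toRingHom.mapMatrix)
          exact this
        exact zmod_two_unit _ hu
      refine ⟨⟨B, hd⟩, Units.ext ?_⟩
      change B.map φ = _
      ext i j
      simp [B]
  let E := MulEquiv.ofBijective ι hιb
  refine ⟨⟨(K 0).map E.toMonoidHom, ?_⟩, ?_⟩
  · obtain ⟨e⟩ := K_equiv_alt
    exact ⟨(E.subgroupMap (K 0)).symm.trans e⟩
  · rintro H ⟨e⟩ v w v' w' hv hw hvw hv' hw' hvw'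
    let H' : Subgroup S4 := H.map E.symm.toMonoidHom
    obtain ⟨k, hk⟩ := exists_fixed H' ((E.symm.subgroupMap H).symm.trans e)
    have hz : ∀ u : Fin 4 → F, u ≠ 0 → φ.symm ∘ u ≠ 0 := fun u hu h => hu (funext fun i => by
      simpa using congrArg φ (congrFun h i))
    have hne : ∀ u u' : Fin 4 → F, u ≠ u' → φ.symm ∘ u ≠ φ.symm ∘ u' := fun u u' hu h =>
      hu (funext fun i => φ.symm.injective (congrFun h i))
    obtain ⟨g, hg, h1, h2⟩ := two_trans_K k (hz v hv) (hz w hw) (hne v w hvw) (hz v' hv') (hz w' hw')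
      (hne v' w' hvw')
    refine ⟨E g, ?_, ?_, ?_⟩
    · rw [← hk] at hg
      obtain ⟨h, hh, rfl⟩ := hg
      simpa using hh
    all_goals
      change g.1.map φ *ᵥ _ = _
      funext i
    · have e1 := congrArg φ (congrFun h1 i)
      have e2 := RingHom.map_mulVec φ.toRingHom g.1 (φ.symm ∘ v) i
      simp [Function.comp_def] at e1 e2 ⊢
      rw [← e2]; exact e1
    · have e1 := congrArg φ (congrFun h2 i)
      have e2 := RingHom.map_mulVec φ.toRingHom g.1 (φ.symm ∘ w) i
      simp [Function.comp_def] at e1 e2 ⊢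
      rw [← e2]; exact e1


/-- Let F be the field with 2 elements. GL_4(F) (≅ A_8) has a subgroup isomorphic to the alternating group A_7, and every such subgroup acts 2-transitively on the 15 non-zero vectors of F⁴: any ordered pair of distinct non-zero vectors is carried to any other by some element of the subgroup. -/
theorem result {F : Type*} [Field F] [Fintype F] (hF : Fintype.card F = 2) : (∃ H : Subgroup (Matrix.GeneralLinearGroup (Fin 4) F), Nonempty (H ≃* alternatingGroup (Fin 7))) ∧ ∀ H : Subgroup (Matrix.GeneralLinearGroup (Fin 4) F), Nonempty (H ≃* alternatingGroup (Fin 7)) → ∀ v w v' w' : Fin 4 → F, v ≠ 0 → w ≠ 0 → v ≠ w → v' ≠ 0 → w' ≠ 0 → v' ≠ w' → ∃ g ∈ H, (g : Matrix (Fin 4) (Fin 4) F).mulVec v = v' ∧ (g : Matrix (Fin 4) (Fin 4) F).mulVec w = w' := by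
  exact main hF

end Cfsg.Agent.S2551
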