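import Cfsg.Statements.S2552


set_option autoImplicit false
open Cfsg

namespace Cfsg.Agent.S2552

/-- Let F be a finite field and n ≥ 1. For every k, the special linear group SL_n(F) acts transitively on the set of k-dimensional subspaces of F^n: any two subspaces of the same dimension are carried onto each other by some matrix of determinant 1. -/
theorem result {F : Type*} [Field F] [Fintype F] (n : ℕ) (hn : 1 ≤ n) (U₁ U₂ : Submodule F (Fin n → F)) (h : Module.finrank F U₁ = Module.finrank F U₂) : ∃ g : Matrix.SpecialLinearGroup (Fin n) F, U₁.map ((Matrix.SpecialLinearGroup.toLin' g : (Fin n → F) ≃ₗ[F] (Fin n → F)) : (Fin n → F) →ₗ[F] (Fin n → F)) = U₂ := by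
  classical
  obtain ⟨W₁, hW₁⟩ := U₁.exists_isCompl
  obtain ⟨W₂, hW₂⟩ := U₂.exists_isCompl
  have hW : Module.finrank F W₁ = Module.finrank F W₂ := by
    have h1 := Submodule.finrank_add_eq_of_isCompl hW₁
    have h2 := Submodule.finrank_add_eq_of_isCompl hW₂
    omega
  let L : (Fin n → F) ≃ₗ[F] (Fin n → F) :=
    (Submodule.prodEquivOfIsCompl U₁ W₁ hW₁).symm.trans
      (((LinearEquiv.ofFinrankEq _ _ h).prodCongr (LinearEquiv.ofFinrankEq _ _ hW)).trans
        (Submodule.prodEquivOfIsCompl U₂ W₂ hW₂))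
  have hLU : ∀ u : Fin n → F, u ∈ U₁ → L u ∈ U₂ := by
    intro u hu
    have e : (Submodule.prodEquivOfIsCompl U₁ W₁ hW₁).symm u = (⟨u, hu⟩, 0) :=
      Submodule.prodEquivOfIsCompl_symm_apply_left U₁ W₁ hW₁ ⟨u, hu⟩
    show Submodule.prodEquivOfIsCompl U₂ W₂ hW₂
      (((LinearEquiv.ofFinrankEq _ _ h).prodCongr (LinearEquiv.ofFinrankEq _ _ hW))
        ((Submodule.prodEquivOfIsCompl U₁ W₁ hW₁).symm u)) ∈ U₂
    rw [e]
    simp
  by_cases hb : U₂ = ⊥
  · refine ⟨1, ?_⟩
    have hb1 : U₁ = ⊥ := Submodule.finrank_eq_zero.mp (by rw [h, hb, finrank_bot])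
    rw [hb1, hb, Submodule.map_bot]
  obtain ⟨v, hvU, hv⟩ := U₂.exists_mem_ne_zero_of_ne_bot hb
  obtain ⟨i, hi⟩ : ∃ i, v i ≠ 0 := by
    by_contra hall
    push Not at hall
    exact hv (funext hall)
  set A : Matrix (Fin n) (Fin n) F := LinearMap.toMatrix' L.toLinearMap with hA
  have hd : A.det ≠ 0 := by
    rw [hA, LinearMap.det_toMatrix']
    exact (LinearEquiv.isUnit_det' L).ne_zero
  set R : Matrix (Fin n) (Fin n) F :=
    1 + Matrix.replicateCol Unit v * Matrix.replicateRow Unit (Pi.single i ((A.det⁻¹ - 1) / v i)) with hR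
  have hRdet : R.det = A.det⁻¹ := by
    rw [hR, Matrix.det_one_add_replicateCol_mul_replicateRow, single_dotProduct, div_mul_cancel₀ _ hi]
    ring
  have hRU : ∀ u ∈ U₂, R.mulVec u ∈ U₂ := by
    intro u hu
    rw [hR, Matrix.add_mulVec, Matrix.one_mulVec, ← Matrix.mulVec_mulVec]
    refine U₂.add_mem hu ?_
    have e : ∀ w : Unit → F, (Matrix.replicateCol Unit v).mulVec w = w () • v := by
      intro w
      funext k
      simp [Matrix.mulVec, dotProduct, mul_comm]
    rw [e]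
    exact U₂.smul_mem _ hvU
  refine ⟨⟨R * A, by rw [Matrix.det_mul, hRdet, inv_mul_cancel₀ hd]⟩, ?_⟩
  refine Submodule.eq_of_le_of_finrank_eq ?_ ?_
  · rintro _ ⟨u, hu, rfl⟩
    show (R * A).mulVec u ∈ U₂
    rw [← Matrix.mulVec_mulVec, hA, LinearMap.toMatrix'_mulVec]
    exact hRU _ (hLU u hu)
  · rw [LinearEquiv.finrank_map_eq, h]

end Cfsg.Agent.S2552
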