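import Cfsg.Statements.S2553
import Cfsg.Agent.H56.SubAltEight
import Cfsg.Agent.S0256
import Cfsg.Agent.Hall.MinimalNormal

set_option autoImplicit false
open Cfsg

namespace Cfsg.Agent.S2553

open H56.SubAltEight in
theorem coreFree {H : Type*} [Group H] [Finite H] (hO : Cfsg.pPrimeCore 2 H = ⊥) (hO2 : Cfsg.pCore 2 H = ⊥) :
    CoreFree H := by
  intro N hN hs
  by_contra hne
  obtain ⟨M, hMn, hM, hMN, hmin⟩ := Hall.exists_minimal_normal_le N hne
  have hsM : Group.IsSolvable M := Group.isSolvable_of_isSolvable_injective (Subgroup.inclusion_injective hMN)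
  obtain ⟨-, p, hp, hpg, -⟩ := Hall.minimal_normal_elementary (N := M) hM hmin hsM
  haveI : Fact p.Prime := ⟨hp⟩
  refine hM (le_bot_iff.mp ?_)
  by_cases h2 : p = 2
  · subst h2
    exact hO2 ▸ le_sSup (show M ∈ {K : Subgroup H | K.Normal ∧ IsPGroup 2 K} from ⟨hMn, hpg⟩)
  · obtain ⟨k, hk⟩ := IsPGroup.iff_card.mp hpg
    refine hO ▸ le_sSup (show M ∈ {K : Subgroup H | K.Normal ∧ (Nat.card K).Coprime 2} from ⟨hMn, ?_⟩)
    rw [hk]
    exact ((Nat.coprime_primes hp Nat.prime_two).mpr h2).pow_left k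


/-- Let H be a nontrivial subgroup of GL(4,2) (a group isomorphic to the alternating group of degree 8) whose largest normal 2-subgroup and largest normal subgroup of odd order are both trivial. Then H is isomorphic to an alternating group of degree n for some 5 ≤ n ≤ 8, to the symmetric group of degree 5 or 6, or to GL(3,2). -/
theorem result (H : Subgroup (GL (Fin 4) (ZMod 2))) (hH : H ≠ ⊥) (hO : Cfsg.pPrimeCore 2 ↥H = ⊥) (hO2 : Cfsg.pCore 2 ↥H = ⊥) :
    (∃ n : ℕ, 5 ≤ n ∧ n ≤ 8 ∧ Nonempty (↥H ≃* alternatingGroup (Fin n))) ∨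
    Nonempty (↥H ≃* Equiv.Perm (Fin 5)) ∨ Nonempty (↥H ≃* Equiv.Perm (Fin 6)) ∨ Nonempty (↥H ≃* GL (Fin 3) (ZMod 2)) := by
  classical
  obtain ⟨e⟩ := S0256.result (F := ZMod 2) (by rw [ZMod.card])
  have hdet : ∀ g : GL (Fin 4) (ZMod 2), (g : Matrix (Fin 4) (Fin 4) (ZMod 2)).det = 1 := by
    intro g
    have h : ∀ a : ZMod 2, a ≠ 0 → a = 1 := by decide
    exact h _ (Matrix.GeneralLinearGroup.det g).ne_zero
  let φ : GL (Fin 4) (ZMod 2) →* Matrix.SpecialLinearGroup (Fin 4) (ZMod 2) :=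
    MonoidHom.mk' (fun g => ⟨_, hdet g⟩) fun a b => Subtype.ext (Units.val_mul a b)
  let f : ↥H →* Equiv.Perm (Fin 8) :=
    (alternatingGroup (Fin 8)).subtype.comp (e.toMonoidHom.comp ((QuotientGroup.mk' _).comp (φ.comp H.subtype)))
  have hf : Function.Injective f := by
    refine (injective_iff_map_eq_one _).mpr fun h hh => ?_
    have h1 : QuotientGroup.mk' (Subgroup.center (Matrix.SpecialLinearGroup (Fin 4) (ZMod 2))) (φ h.1) = 1 :=
      e.injective (Subtype.ext (by rw [map_one]; exact hh))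
    rw [QuotientGroup.mk'_apply, QuotientGroup.eq_one_iff, Matrix.SpecialLinearGroup.mem_center_iff] at h1
    obtain ⟨r, hr, hr'⟩ := h1
    have hr1 : r = 1 := (by decide : ∀ r : ZMod 2, r ^ 4 = 1 → r = 1) r (by simpa using hr)
    subst hr1
    refine Subtype.ext (Units.ext ?_)
    rw [map_one] at hr'
    exact hr'.symm
  haveI : Nontrivial ↥H := Subgroup.nontrivial_iff_ne_bot H |>.mpr hH
  exact H56.SubAltEight.classify f hf (fun g => (e (QuotientGroup.mk' _ (φ g.1))).2) H.subtype H.subtype_injective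
    (coreFree hO hO2)

end Cfsg.Agent.S2553
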