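import Cfsg.Statements.S2557
import Cfsg.Agent.H7Class.TwoMat
import Cfsg.Agent.H54.SympSemisimple
-- import your own Cfsg.Agent.* helpers here

set_option autoImplicit false
open Cfsg

namespace Cfsg.Agent.S2557

/-- The number of conjugacy classes of Sp(2n,q), q even: for F a finite field of even order q and n ≥ 1, the number k of conjugacy classes of Sp(2n,F) satisfies q^n ≤ k ≤ 15.2·q^n. -/
theorem result {F : Type*} [Field F] [Fintype F] (heven : Even (Fintype.card F)) (n : ℕ) (hn : 1 ≤ n) :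
    Fintype.card F ^ n ≤ Nat.card (ConjClasses (Matrix.symplecticGroup (Fin n) F)) ∧
      5 * Nat.card (ConjClasses (Matrix.symplecticGroup (Fin n) F)) ≤ 76 * Fintype.card F ^ n := by
  classical
  haveI : CharP F 2 := by
    obtain ⟨p, _⟩ := CharP.exists F
    haveI : Fact p.Prime := ⟨CharP.char_is_prime F p⟩
    obtain ⟨k, -, hk⟩ := FiniteField.card F p
    obtain rfl : p = 2 := by
      have h2 : 2 ∣ p ^ (k : ℕ) := hk ▸ even_iff_two_dvd.1 heven
      exact ((Nat.prime_dvd_prime_iff_eq Nat.prime_two Fact.out).1 (Nat.prime_two.dvd_of_dvd_pow h2)).symm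
    assumption
  refine ⟨?_, Cfsg.Agent.H7Class.Two.sp_upper_two n⟩
  haveI : Fact (2 : ℕ).Prime := ⟨Nat.prime_two⟩
  rw [← Cfsg.Agent.H54.SympSS.card_classes (n := n) (F := F) 2]
  exact Finite.card_subtype_le _

end Cfsg.Agent.S2557
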