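import Cfsg.Statements.S2559
import Cfsg.Agent.H7Class.TwoLower
-- import your own Cfsg.Agent.* helpers here

set_option autoImplicit false
open Cfsg

namespace Cfsg.Agent.S2559

/-- The number of conjugacy classes of the full orthogonal groups O⁺(2n,q) and O⁻(2n,q), q even, 2n ≥ 4: for F a finite field of even order q and n ≥ 2, the number k of conjugacy classes of the isometry group of the hyperbolic quadratic form Σ xᵢyᵢ on F^{2n}, and likewise of the elliptic form Σ xᵢyᵢ + (z₁² + a z₁z₂ + b z₂²) with anisotropic binary part, satisfies q^n/2 ≤ k ≤ 15·q^n. -/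
theorem result {F : Type*} [Field F] [Fintype F] (heven : Even (Fintype.card F)) (n : ℕ) (hn : 2 ≤ n) (a b : F) (hab : ∀ z₁ z₂ : F, z₁ ^ 2 + a * z₁ * z₂ + b * z₂ ^ 2 = 0 → z₁ = 0 ∧ z₂ = 0) :
    (Fintype.card F ^ n ≤ 2 * Nat.card (ConjClasses ↥(Cfsg.isometryGroup F (Cfsg.quadFormPlus n F))) ∧
      Nat.card (ConjClasses ↥(Cfsg.isometryGroup F (Cfsg.quadFormPlus n F))) ≤ 15 * Fintype.card F ^ n) ∧
    (Fintype.card F ^ n ≤ 2 * Nat.card (ConjClasses ↥(Cfsg.isometryGroup F (Cfsg.quadFormMinus (n - 1) F a b))) ∧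
      Nat.card (ConjClasses ↥(Cfsg.isometryGroup F (Cfsg.quadFormMinus (n - 1) F a b))) ≤ 15 * Fintype.card F ^ n) := by
  classical
  haveI : CharP F 2 := by
    obtain ⟨p, _⟩ := CharP.exists F
    haveI : Fact p.Prime := ⟨CharP.char_is_prime F p⟩
    obtain ⟨k, -, hk⟩ := FiniteField.card F p
    obtain rfl : p = 2 := by
      have h2 : 2 ∣ p ^ (k : ℕ) := hk ▸ even_iff_two_dvd.1 heven
      exact ((Nat.prime_dvd_prime_iff_eq Nat.prime_two Fact.out).1 (Nat.prime_two.dvd_of_dvd_pow h2)).symm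
    assumption
  obtain ⟨m, rfl⟩ : ∃ m, n = m + 2 := ⟨n - 2, by omega⟩
  have hP := Cfsg.Agent.Orthogonal.formPlus_nondeg F (m + 2)
  have hM := Cfsg.Agent.Orthogonal.formMinus_nondeg (m + 1) hab
  have dP : Fintype.card (Fin (m + 2) ⊕ Fin (m + 2)) = 2 * (m + 2) := by simp; omega
  have dM : Fintype.card ((Fin (m + 1) ⊕ Fin (m + 1)) ⊕ Fin 2) = 2 * (m + 2) := by simp; omega
  rw [show m + 2 - 1 = m + 1 from rfl, ← Cfsg.Agent.Orthogonal.formPlus_coe,
    ← Cfsg.Agent.Orthogonal.formMinus_coe]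
  refine ⟨⟨?_, Cfsg.Agent.H7Class.Two.ortho_upper_two dP _ hP⟩, ?_,
    Cfsg.Agent.H7Class.Two.ortho_upper_two dM _ hM⟩
  · exact Cfsg.Agent.H7Class.Two.ortho_lower_two m dP _ hP (s := 1) (Or.inl rfl)
      (by rw [Cfsg.Agent.H7Class.Two.qgauss_plus, mul_one])
  · exact Cfsg.Agent.H7Class.Two.ortho_lower_two m dM _ hM (s := -1) (Or.inr rfl)
      (by rw [Cfsg.Agent.H7Class.Two.qgauss_minus (m + 1) hab, mul_neg, mul_one])

end Cfsg.Agent.S2559
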