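import Cfsg.Statements.S2561
import Cfsg.Agent.H56.FormsTwo

set_option autoImplicit false
open Cfsg

namespace Cfsg.Agent.S2561

/-- Forms of plus type, by their parameter. -/
noncomputable def transferPlus (m : ℕ) :
    {q : H56.HV m → ZMod 2 // H56.Polz m q ∧ H56.IsPlus m q} ≃
      {w : H56.HV m // Cfsg.quadFormPlus m (ZMod 2) w = 0} :=
  (Equiv.subtypeSubtypeEquivSubtypeInter (H56.Polz m) (H56.IsPlus m)).symm.trans
    ((Equiv.subtypeEquiv (H56.qwEquiv m) (fun w => (H56.isPlus_qw_iff m w).symm)).symm)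

/-- Forms of minus type, by their parameter. -/
noncomputable def transferMinus (k : ℕ) :
    {q : H56.HV (k + 1) → ZMod 2 // H56.Polz (k + 1) q ∧ H56.IsMinus k q} ≃
      {w : H56.HV (k + 1) // Cfsg.quadFormPlus (k + 1) (ZMod 2) w = 1} :=
  (Equiv.subtypeSubtypeEquivSubtypeInter (H56.Polz (k + 1)) (H56.IsMinus k)).symm.trans
    ((Equiv.subtypeEquiv (H56.qwEquiv (k + 1)) (fun w => (H56.isMinus_qw_iff k w).symm)).symm)


/-- Fix the non-singular alternating form on the 2m-dimensional space over the field of two elements obtained by polarizing the plus-type form Σ xᵢyᵢ (m ≥ 1). The functions q on the space with q(u + v) = q(u) + q(v) + f(u, v) (the quadratic forms polarizing to f) number 2^(2m); each is equivalent under an invertible linear map either to the plus-type form or to the minus-type form Σ xᵢyᵢ + (z₁² + z₁z₂ + z₂²); and those of plus type number 2^(2m−1) + 2^(m−1), those of minus type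 2^(2m−1) − 2^(m−1). -/
theorem result (m : ℕ) (hm : 1 ≤ m) :
    Nat.card {q : (Fin m ⊕ Fin m → ZMod 2) → ZMod 2 // (∀ u v : (Fin m ⊕ Fin m → ZMod 2), q (u + v) = q u + q v + (Cfsg.quadFormPlus m (ZMod 2) (u + v) - Cfsg.quadFormPlus m (ZMod 2) u - Cfsg.quadFormPlus m (ZMod 2) v))} = 2 ^ (2 * m) ∧
    (∀ q : (Fin m ⊕ Fin m → ZMod 2) → ZMod 2, (∀ u v : (Fin m ⊕ Fin m → ZMod 2), q (u + v) = q u + q v + (Cfsg.quadFormPlus m (ZMod 2) (u + v) - Cfsg.quadFormPlus m (ZMod 2) u - Cfsg.quadFormPlus m (ZMod 2) v)) →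
      (∃ g : (Fin m ⊕ Fin m → ZMod 2) ≃ₗ[ZMod 2] (Fin m ⊕ Fin m → ZMod 2), ∀ v, q v = Cfsg.quadFormPlus m (ZMod 2) (g v)) ∨
      (∃ g : (Fin m ⊕ Fin m → ZMod 2) ≃ₗ[ZMod 2] ((Fin (m - 1) ⊕ Fin (m - 1)) ⊕ Fin 2 → ZMod 2), ∀ v, q v = Cfsg.quadFormMinus (m - 1) (ZMod 2) 1 1 (g v))) ∧
    Nat.card {q : (Fin m ⊕ Fin m → ZMod 2) → ZMod 2 // (∀ u v : (Fin m ⊕ Fin m → ZMod 2), q (u + v) = q u + q v + (Cfsg.quadFormPlus m (ZMod 2) (u + v) - Cfsg.quadFormPlus m (ZMod 2) u - Cfsg.quadFormPlus m (ZMod 2) v)) ∧ ∃ g : (Fin m ⊕ Fin m → ZMod 2) ≃ₗ[ZMod 2] (Fin m ⊕ Fin m → ZMod 2), ∀ v, q v = Cfsg.quadFormPlus m (ZMod 2) (g v)} = 2 ^ (2 * m - 1) + 2 ^ (m - 1) ∧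
    Nat.card {q : (Fin m ⊕ Fin m → ZMod 2) → ZMod 2 // (∀ u v : (Fin m ⊕ Fin m → ZMod 2), q (u + v) = q u + q v + (Cfsg.quadFormPlus m (ZMod 2) (u + v) - Cfsg.quadFormPlus m (ZMod 2) u - Cfsg.quadFormPlus m (ZMod 2) v)) ∧ ∃ g : (Fin m ⊕ Fin m → ZMod 2) ≃ₗ[ZMod 2] ((Fin (m - 1) ⊕ Fin (m - 1)) ⊕ Fin 2 → ZMod 2), ∀ v, q v = Cfsg.quadFormMinus (m - 1) (ZMod 2) 1 1 (g v)} = 2 ^ (2 * m - 1) - 2 ^ (m - 1) := by
  obtain ⟨k, rfl⟩ : ∃ k, m = k + 1 := ⟨m - 1, by omega⟩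
  simp only [Nat.add_sub_cancel]
  refine ⟨?_, ?_, ?_, ?_⟩
  · exact (Nat.card_congr (H56.qwEquiv (k + 1))).symm.trans (H56.card_HV _)
  · intro q hq
    rw [← H56.qw_wOf (k + 1) q hq]
    rcases H56.plus_zero_or_one (k + 1) (H56.wOf (k + 1) q) with h | h
    · exact Or.inl ((H56.isPlus_qw_iff _ _).mpr h)
    · exact Or.inr ((H56.isMinus_qw_iff _ _).mpr h)
  · refine (Nat.card_congr (transferPlus (k + 1))).trans ?_
    have := H56.card_plus_zero (k + 1)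
    have h1 : 2 ^ (2 * (k + 1)) = 2 * 2 ^ (2 * (k + 1) - 1) := by
      rw [← pow_succ']; congr 1
    rw [h1, pow_succ' 2 k] at this
    omega
  · refine (Nat.card_congr (transferMinus k)).trans ?_
    have := H56.card_plus_zero (k + 1)
    have hs : Nat.card {w : H56.HV (k + 1) // Cfsg.quadFormPlus (k + 1) (ZMod 2) w = 1} +
        Nat.card {w : H56.HV (k + 1) // Cfsg.quadFormPlus (k + 1) (ZMod 2) w = 0} = 2 ^ (2 * (k + 1)) := by
      rw [← H56.card_HV, ← Nat.card_sum]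
      refine Nat.card_congr (((Equiv.sumCongr (Equiv.refl _) (Equiv.subtypeEquivRight fun w => ?_))).trans
        (Equiv.sumCompl (fun w : H56.HV (k + 1) => Cfsg.quadFormPlus (k + 1) (ZMod 2) w = 1)))
      constructor
      · intro h h'; rw [h] at h'; exact zero_ne_one h'
      · intro h; exact (H56.plus_zero_or_one _ w).resolve_right h
    have h1 : 2 ^ (2 * (k + 1)) = 2 * 2 ^ (2 * (k + 1) - 1) := by
      rw [← pow_succ']; congr 1
    rw [h1, pow_succ' 2 k] at this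
    omega

end Cfsg.Agent.S2561
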