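import Cfsg.Statements.S2562
import Cfsg.Agent.H56.FormsTwo

set_option autoImplicit false
open Cfsg

namespace Cfsg.Agent.S2562

theorem minus_exists (k : ℕ) :
    ∃ U : Submodule (ZMod 2) ((Fin k ⊕ Fin k) ⊕ Fin 2 → ZMod 2),
      (∀ u ∈ U, Cfsg.quadFormMinus k (ZMod 2) 1 1 u = 0) ∧ Module.finrank (ZMod 2) ↥U = k := by
  let i : (Fin k → ZMod 2) →ₗ[ZMod 2] ((Fin k ⊕ Fin k) ⊕ Fin 2 → ZMod 2) :=
    { toFun := fun x => Sum.elim (Sum.elim x 0) 0
      map_add' := fun a b => by funext z; rcases z with (z | z) | z <;> simp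
      map_smul' := fun c a => by funext z; rcases z with (z | z) | z <;> simp }
  refine ⟨LinearMap.range i, ?_, ?_⟩
  · rintro _ ⟨x, rfl⟩
    simp [i, Cfsg.quadFormMinus]
  · rw [LinearMap.finrank_range_of_inj, Module.finrank_fintype_fun_eq_card, Fintype.card_fin]
    intro a b h
    funext z
    exact congrFun h (.inl (.inl z))


/-- Witt indices over the field of two elements, m ≥ 1: for the plus-type form Σ xᵢyᵢ in dimension 2m some m-dimensional subspace is totally singular and no totally singular subspace has larger dimension; for the minus-type form Σ xᵢyᵢ + (z₁² + z₁z₂ + z₂²) in dimension 2m the maximal dimension of a totally singular subspace is m − 1. -/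
theorem result (m : ℕ) (hm : 1 ≤ m) :
    (∃ U : Submodule (ZMod 2) (Fin m ⊕ Fin m → ZMod 2), (∀ u ∈ U, Cfsg.quadFormPlus m (ZMod 2) u = 0) ∧ Module.finrank (ZMod 2) ↥U = m) ∧
    (∀ U : Submodule (ZMod 2) (Fin m ⊕ Fin m → ZMod 2), (∀ u ∈ U, Cfsg.quadFormPlus m (ZMod 2) u = 0) → Module.finrank (ZMod 2) ↥U ≤ m) ∧
    (∃ U : Submodule (ZMod 2) ((Fin (m - 1) ⊕ Fin (m - 1)) ⊕ Fin 2 → ZMod 2), (∀ u ∈ U, Cfsg.quadFormMinus (m - 1) (ZMod 2) 1 1 u = 0) ∧ Module.finrank (ZMod 2) ↥U = m - 1) ∧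
    (∀ U : Submodule (ZMod 2) ((Fin (m - 1) ⊕ Fin (m - 1)) ⊕ Fin 2 → ZMod 2), (∀ u ∈ U, Cfsg.quadFormMinus (m - 1) (ZMod 2) 1 1 u = 0) → Module.finrank (ZMod 2) ↥U ≤ m - 1) := by
  obtain ⟨k, rfl⟩ : ∃ k, m = k + 1 := ⟨m - 1, by omega⟩
  simp only [Nat.add_sub_cancel]
  refine ⟨⟨H56.lag (k + 1), H56.lag_singular _, H56.finrank_lag _⟩,
    fun U hU => H56.finrank_singular_le (H56.qw_zero (k + 1) ▸ H56.polz_qw (k + 1) 0) U hU,
    minus_exists k, fun U hU => ?_⟩
  set e := H56.minusEquiv k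
  let U' := U.map e.symm.toLinearMap
  have hU' : ∀ v ∈ U', H56.qw (k + 1) (H56.wMinus k) v = 0 := by
    rintro _ ⟨u, hu, rfl⟩
    rw [H56.qw_wMinus]
    simpa [e] using hU u hu
  have hd : Module.finrank (ZMod 2) U' = Module.finrank (ZMod 2) U :=
    LinearEquiv.finrank_map_eq e.symm U
  have hle := H56.finrank_singular_le (H56.polz_qw (k + 1) _) U' hU'
  rcases Nat.lt_or_ge (Module.finrank (ZMod 2) U') (k + 1) with h | h
  · omega
  · have := H56.gsum_pos_of_lagrangian (H56.polz_qw (k + 1) _) U' hU' (le_antisymm hle h)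
    rw [H56.gsum_qw, H56.plus_wMinus] at this
    simp [H56.chi] at this
    have h2 : (0 : ℤ) < 2 ^ (k + 1) := by positivity
    omega

end Cfsg.Agent.S2562
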