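import Cfsg.Statements.S2563
import Cfsg.Agent.H56.PermHeart

set_option autoImplicit false
open Cfsg

namespace Cfsg.Agent.S2563

open H56 in
theorem parity (k : ℕ) :
    (((2 * k + 1) * (2 * k + 1 + 1) / 2 : ℕ) : ZMod 2) = ((k + 1 : ℕ) : ZMod 2) := by
  rw [show (2 * k + 1) * (2 * k + 1 + 1) / 2 = (k + 1) + 2 * (k * (k + 1)) by
    rw [show (2 * k + 1) * (2 * k + 1 + 1) = 2 * ((k + 1) + 2 * (k * (k + 1))) by ring,
      Nat.mul_div_cancel_left _ two_pos]]
  rw [Nat.cast_add, Nat.cast_mul 2, show ((2 : ℕ) : ZMod 2) = 0 from rfl, zero_mul, add_zero]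


/-- For k ≥ 1 the symmetric group of degree 4k + 4 embeds in a full orthogonal group in dimension 4k + 2 over the field of two elements: in the isometry group of the plus-type form Σ xᵢyᵢ when k is odd, and in that of the minus-type form Σ xᵢyᵢ + (z₁² + z₁z₂ + z₂²) when k is even (through its action on even partitions of a (4k+4)-set, with the form 'half the size of a part, modulo 2'). -/
theorem result (k : ℕ) (hk : 1 ≤ k) :
    (Odd k → ∃ φ : Equiv.Perm (Fin (4 * k + 4)) →* ↥(Cfsg.isometryGroup (ZMod 2) (Cfsg.quadFormPlus (2 * k + 1) (ZMod 2))), Function.Injective φ) ∧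
    (Even k → ∃ φ : Equiv.Perm (Fin (4 * k + 4)) →* ↥(Cfsg.isometryGroup (ZMod 2) (Cfsg.quadFormMinus (2 * k) (ZMod 2) 1 1)), Function.Injective φ) := by
  have hr : Odd (2 * k + 1) := ⟨k, rfl⟩
  set e : Equiv.Perm (Fin (4 * k + 4)) ≃* Equiv.Perm (H56.Pts (2 * k + 1)) :=
    ((Fintype.equivFinOfCardEq (by rw [H56.card_pts]; omega)).symm).permCongrHom
  have hpar := H56.plus_wOf_qheart (2 * k + 1)
  rw [parity] at hpar
  have hqw := H56.qw_wOf _ _ (H56.polz_qheart (2 * k + 1))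
  refine ⟨fun hk' => ?_, fun hk' => ?_⟩
  · have h0 : ((k + 1 : ℕ) : ZMod 2) = 0 :=
      (ZMod.natCast_eq_zero_iff_even).mpr (Odd.add_one hk')
    obtain ⟨g, hg⟩ := (H56.isPlus_qw_iff _ _).mpr (hpar.trans h0)
    obtain ⟨φ, hφ⟩ := H56.exists_isometry_hom (H56.heartRep (2 * k + 1))
      (H56.heartRep_injective (by omega)) (H56.qheart _) (H56.qheart_rep hr) g _
      (fun v => (congrFun hqw v).symm.trans (hg v))
    exact ⟨φ.comp e.toMonoidHom, hφ.comp e.injective⟩
  · have h0 : ((k + 1 : ℕ) : ZMod 2) = 1 :=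
      (ZMod.natCast_eq_one_iff_odd).mpr (Even.add_one hk')
    obtain ⟨g, hg⟩ := (H56.isMinus_qw_iff (2 * k) _).mpr (hpar.trans h0)
    obtain ⟨φ, hφ⟩ := H56.exists_isometry_hom (H56.heartRep (2 * k + 1))
      (H56.heartRep_injective (by omega)) (H56.qheart _) (H56.qheart_rep hr) g _
      (fun v => (congrFun hqw v).symm.trans (hg v))
    exact ⟨φ.comp e.toMonoidHom, hφ.comp e.injective⟩

end Cfsg.Agent.S2563
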