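import Cfsg.Statements.S2564
import Cfsg.Agent.H56.FormsTwo

set_option autoImplicit false
open Cfsg

namespace Cfsg.Agent.S2564

/-- On the 2m-dimensional space over the field of two elements (m ≥ 1) let f be the alternating form obtained by polarizing the plus-type form Σ xᵢyᵢ, and let q be any quadratic form polarizing to f. For a vector w, the function q + f(·, w) again polarizes to f, and it is equivalent to q under an invertible linear map (that is, has the same type) if and only if q(w) = 0. -/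
theorem result (m : ℕ) (hm : 1 ≤ m) (q : (Fin m ⊕ Fin m → ZMod 2) → ZMod 2) (hq : (∀ u v : (Fin m ⊕ Fin m → ZMod 2), q (u + v) = q u + q v + (Cfsg.quadFormPlus m (ZMod 2) (u + v) - Cfsg.quadFormPlus m (ZMod 2) u - Cfsg.quadFormPlus m (ZMod 2) v))) (w : (Fin m ⊕ Fin m → ZMod 2)) :
    (∀ u v : (Fin m ⊕ Fin m → ZMod 2), (q (u + v) + (Cfsg.quadFormPlus m (ZMod 2) (u + v + w) - Cfsg.quadFormPlus m (ZMod 2) (u + v) - Cfsg.quadFormPlus m (ZMod 2) w)) =
        (q u + (Cfsg.quadFormPlus m (ZMod 2) (u + w) - Cfsg.quadFormPlus m (ZMod 2) u - Cfsg.quadFormPlus m (ZMod 2) w)) + (q v + (Cfsg.quadFormPlus m (ZMod 2) (v + w) - Cfsg.quadFormPlus m (ZMod 2) v - Cfsg.quadFormPlus m (ZMod 2) w)) +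
        (Cfsg.quadFormPlus m (ZMod 2) (u + v) - Cfsg.quadFormPlus m (ZMod 2) u - Cfsg.quadFormPlus m (ZMod 2) v)) ∧
    ((∃ g : (Fin m ⊕ Fin m → ZMod 2) ≃ₗ[ZMod 2] (Fin m ⊕ Fin m → ZMod 2), ∀ v, q v + (Cfsg.quadFormPlus m (ZMod 2) (v + w) - Cfsg.quadFormPlus m (ZMod 2) v - Cfsg.quadFormPlus m (ZMod 2) w) = q (g v)) ↔ q w = 0) := by
  have hq' : H56.Polz m q := hq
  refine ⟨fun u v => ?_, ?_⟩
  · show q (u + v) + H56.pol m (u + v) w = (q u + H56.pol m u w) + (q v + H56.pol m v w) + H56.pol m u v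
    rw [hq', H56.pol_add_left]; ring
  show (∃ g : H56.HV m ≃ₗ[ZMod 2] H56.HV m, ∀ v, q v + H56.pol m v w = q (g v)) ↔ q w = 0
  refine ⟨?_, fun h => ⟨H56.trv m w, fun v => (H56.polz_trv hq' w h v).symm⟩⟩
  rintro ⟨g, hg⟩
  obtain ⟨a, rfl⟩ : ∃ a, H56.qw m a = q := ⟨_, H56.qw_wOf m q hq'⟩
  have h := H56.gsum_comp g.toEquiv (H56.qw m a)
  rw [show (fun v => H56.qw m a (g.toEquiv v)) = H56.qw m (a + w) from
    funext fun v => ((H56.qw_add m a w v).trans (hg v)).symm, H56.gsum_qw, H56.gsum_qw] at h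
  have h2 : H56.chi (Cfsg.quadFormPlus m (ZMod 2) (a + w)) = H56.chi (Cfsg.quadFormPlus m (ZMod 2) a) :=
    mul_right_cancel₀ (by positivity) h
  show Cfsg.quadFormPlus m (ZMod 2) w + H56.pol m w a = 0
  rw [H56.plus_add, add_assoc, H56.chi_add] at h2
  rw [H56.pol_comm]
  rcases (by decide : ∀ x : ZMod 2, x = 0 ∨ x = 1) (Cfsg.quadFormPlus m (ZMod 2) w + H56.pol m a w) with h3 | h3
  · exact h3
  · rw [h3] at h2
    revert h2
    rcases H56.plus_zero_or_one m a with h4 | h4 <;> rw [h4] <;> intro h5 <;> simp [H56.chi] at h5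

end Cfsg.Agent.S2564
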