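import Cfsg.Statements.S2565
import Cfsg.Agent.S2563
import Cfsg.Agent.Orthogonal.Order
import Cfsg.Agent.Orthogonal.StdForms

set_option autoImplicit false
open Cfsg

namespace Cfsg.Agent.S2565

/-- The commutator subgroup of the full orthogonal group of the plus-type form Σ xᵢyᵢ in dimension 6 over the field of two elements (the group Ω⁺₆(2), of index 2) is isomorphic to the alternating group of degree 8. -/
theorem result :
    (Cfsg.Omega (ZMod 2) (Cfsg.quadFormPlus 3 (ZMod 2))).index = 2 ∧
    Nonempty (↥(Cfsg.Omega (ZMod 2) (Cfsg.quadFormPlus 3 (ZMod 2))) ≃* alternatingGroup (Fin 8)) := by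
  classical
  obtain ⟨φ, hφ⟩ := (S2563.result 1 le_rfl).1 odd_one
  have hcard : Nat.card ↥(Cfsg.isometryGroup (ZMod 2) (Cfsg.quadFormPlus 3 (ZMod 2))) = 40320 := by
    rw [← Orthogonal.formPlus_coe, Nat.card_congr (Orthogonal.toO (Orthogonal.formPlus (ZMod 2) 3)).toEquiv,
      Orthogonal.card_O_plus 2 _ (Orthogonal.formPlus_nondeg _ _) (Orthogonal.formPlus_frame _ _) (Orthogonal.formPlus_aniso _ _)
        (Orthogonal.finrank_formPlus _ _), Nat.card_zmod]
    decide +kernel
  have hb : Function.Bijective φ := (Nat.bijective_iff_injective_and_card φ).mpr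
    ⟨hφ, by rw [hcard, Nat.card_perm, Nat.card_eq_fintype_card, Fintype.card_fin]; rfl⟩
  let e : Equiv.Perm (Fin 8) ≃* ↥(Cfsg.isometryGroup (ZMod 2) (Cfsg.quadFormPlus 3 (ZMod 2))) := MulEquiv.ofBijective φ hb
  have hc : commutator (Equiv.Perm (Fin 8)) = alternatingGroup (Fin 8) :=
    alternatingGroup.commutator_perm_eq (by rw [Nat.card_eq_fintype_card, Fintype.card_fin]; norm_num)
  have hΩ : Cfsg.Omega (ZMod 2) (Cfsg.quadFormPlus 3 (ZMod 2)) = (alternatingGroup (Fin 8)).map e.toMonoidHom := by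
    rw [← hc]
    simp only [Cfsg.Omega, commutator_def, Subgroup.map_commutator]
    rw [Subgroup.map_top_of_surjective e.toMonoidHom e.surjective]
  refine ⟨?_, ?_⟩
  · rw [hΩ]
    refine (Subgroup.index_map_equiv (alternatingGroup (Fin 8)) e).trans ?_
    exact alternatingGroup.index_eq_two
  · rw [hΩ]
    exact ⟨((alternatingGroup (Fin 8)).equivMapOfInjective e.toMonoidHom e.injective).symm⟩

end Cfsg.Agent.S2565
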