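import Cfsg.Statements.S2566
import Cfsg.Agent.Orthogonal.Order
import Cfsg.Agent.Orthogonal.StdForms
import Cfsg.Agent.S0250

set_option autoImplicit false
open Cfsg

namespace Cfsg.Agent.S2566

abbrev M2 := Matrix (Fin 2) (Fin 2) (ZMod 2)

/-- A vector read as a two by two matrix whose determinant is the form. -/
def toM (v : Fin 2 ⊕ Fin 2 → ZMod 2) : M2 := !![v (.inl 0), v (.inl 1); v (.inr 1), v (.inr 0)]

/-- The inverse reading. -/
def ofM (m : M2) : Fin 2 ⊕ Fin 2 → ZMod 2 := Sum.elim ![m 0 0, m 0 1] ![m 1 1, m 1 0]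

theorem ofM_toM (v : Fin 2 ⊕ Fin 2 → ZMod 2) : ofM (toM v) = v := by
  funext s
  rcases s with i | i <;> fin_cases i <;> rfl

theorem toM_ofM (m : M2) : toM (ofM m) = m := by
  ext i j
  fin_cases i <;> fin_cases j <;> rfl

theorem det_toM (v : Fin 2 ⊕ Fin 2 → ZMod 2) : (toM v).det = Cfsg.quadFormPlus 2 (ZMod 2) v := by
  have h : ∀ a : ZMod 2, -a = a := by decide
  rw [Matrix.det_fin_two, Cfsg.quadFormPlus, Fin.sum_univ_two, sub_eq_add_neg, h]
  simp [toM]

/-- The coordinate change. -/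
def eM : (Fin 2 ⊕ Fin 2 → ZMod 2) ≃ₗ[ZMod 2] M2 where
  toFun := toM
  invFun := ofM
  left_inv := ofM_toM
  right_inv := toM_ofM
  map_add' v w := by
    ext i j
    fin_cases i <;> fin_cases j <;> rfl
  map_smul' c v := by
    ext i j
    fin_cases i <;> fin_cases j <;> rfl

theorem eM_apply (v : Fin 2 ⊕ Fin 2 → ZMod 2) : eM v = toM v := rfl

theorem det_one (g : GL (Fin 2) (ZMod 2)) : (g : M2).det = 1 := by
  have h : ∀ a : ZMod 2, a ≠ 0 → a = 1 := by decide
  exact h _ (Matrix.GeneralLinearGroup.det g).ne_zero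

/-- Left times right multiplication. -/
noncomputable def biMul (p : GL (Fin 2) (ZMod 2) × GL (Fin 2) (ZMod 2)) : M2 →ₗ[ZMod 2] M2 :=
  (LinearMap.mulLeft (ZMod 2) (p.1 : M2)).comp (LinearMap.mulRight (ZMod 2) ((p.2⁻¹ : GL (Fin 2) (ZMod 2)) : M2))

theorem biMul_apply (p : GL (Fin 2) (ZMod 2) × GL (Fin 2) (ZMod 2)) (m : M2) :
    biMul p m = (p.1 : M2) * (m * ((p.2⁻¹ : GL (Fin 2) (ZMod 2)) : M2)) := rfl

abbrev O4 := ↥(Cfsg.isometryGroup (ZMod 2) (Cfsg.quadFormPlus 2 (ZMod 2)))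

/-- The matrix of an isometry. -/
abbrev toMat (g : O4) : Matrix (Fin 2 ⊕ Fin 2) (Fin 2 ⊕ Fin 2) (ZMod 2) :=
  ((g : GL (Fin 2 ⊕ Fin 2) (ZMod 2)) : Matrix (Fin 2 ⊕ Fin 2) (Fin 2 ⊕ Fin 2) (ZMod 2))

theorem exists_transport (L : M2 ≃ₗ[ZMod 2] M2) (hL : ∀ m, (L m).det = m.det) :
    ∃ g : O4, ∀ v, eM (Matrix.mulVec (toMat g) v) = L (eM v) := by
  refine ⟨(Orthogonal.toO (Orthogonal.formPlus (ZMod 2) 2)).symm ⟨eM.trans (L.trans eM.symm), fun v => ?_⟩, fun v => ?_⟩
  · show Cfsg.quadFormPlus 2 (ZMod 2) (eM.symm (L (eM v))) = Cfsg.quadFormPlus 2 (ZMod 2) v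
    rw [← det_toM, ← det_toM, ← eM_apply, LinearEquiv.apply_symm_apply, hL, eM_apply]
  · show eM _ = _
    erw [Orthogonal.toO_symm_apply]
    show eM (eM.symm (L (eM v))) = _
    rw [LinearEquiv.apply_symm_apply]

theorem ext_O4 {g h : O4} (H : ∀ v, eM (Matrix.mulVec (toMat g) v) =
    eM (Matrix.mulVec (toMat h) v)) : g = h :=
  Subtype.ext (Units.ext (Matrix.ext_iff_mulVec.2 fun v => eM.injective (H v)))

theorem coe_mulVec (g h : O4) (v : Fin 2 ⊕ Fin 2 → ZMod 2) :
    Matrix.mulVec (toMat (g * h)) v =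
      Matrix.mulVec (toMat g)
        (Matrix.mulVec (toMat h) v) := by
  rw [Matrix.mulVec_mulVec]
  rfl

theorem exists_lift (p : GL (Fin 2) (ZMod 2) × GL (Fin 2) (ZMod 2)) :
    ∃ g : O4, ∀ v, eM (Matrix.mulVec (toMat g) v) = biMul p (eM v) := by
  refine exists_transport (LinearEquiv.ofBijective (biMul p) ?_) fun m => ?_
  · refine Function.bijective_iff_has_inverse.mpr ⟨biMul p⁻¹, fun m => ?_, fun m => ?_⟩ <;>
      simp [biMul_apply, Matrix.mul_assoc]
  · show (biMul p m).det = m.det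
    rw [biMul_apply, Matrix.det_mul, Matrix.det_mul, det_one, det_one, one_mul, mul_one]


/-- The full orthogonal group of the plus-type form x₁y₁ + x₂y₂ in dimension 4 over the field of two elements has order 72 and is isomorphic to the wreath product of the symmetric group of degree 3 by a group of order 2: it has a normal subgroup isomorphic to the direct product of two symmetric groups of degree 3, of index 2, whose two direct factors are interchanged by conjugation by some element. -/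
theorem result :
    Nat.card ↥(Cfsg.isometryGroup (ZMod 2) (Cfsg.quadFormPlus 2 (ZMod 2))) = 72 ∧
    ∃ (A B : Subgroup ↥(Cfsg.isometryGroup (ZMod 2) (Cfsg.quadFormPlus 2 (ZMod 2)))),
      Nonempty (↥A ≃* Equiv.Perm (Fin 3)) ∧ Nonempty (↥B ≃* Equiv.Perm (Fin 3)) ∧ A ⊓ B = ⊥ ∧ (∀ a ∈ A, ∀ b ∈ B, a * b = b * a) ∧
      (A ⊔ B).index = 2 ∧ ∃ g : ↥(Cfsg.isometryGroup (ZMod 2) (Cfsg.quadFormPlus 2 (ZMod 2))), A.map (MulAut.conj g).toMonoidHom = B := by
  classical
  have hcard : Nat.card O4 = 72 := by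
    show Nat.card ↥(Cfsg.isometryGroup (ZMod 2) (Cfsg.quadFormPlus 2 (ZMod 2))) = 72
    rw [← Orthogonal.formPlus_coe, Nat.card_congr (Orthogonal.toO (Orthogonal.formPlus (ZMod 2) 2)).toEquiv,
      Orthogonal.card_O_plus 1 _ (Orthogonal.formPlus_nondeg _ _) (Orthogonal.formPlus_frame _ _) (Orthogonal.formPlus_aniso _ _)
        (Orthogonal.finrank_formPlus _ _), Nat.card_zmod]
    decide +kernel
  refine ⟨hcard, ?_⟩
  choose r hr using exists_lift
  let Φ : GL (Fin 2) (ZMod 2) × GL (Fin 2) (ZMod 2) →* O4 := MonoidHom.mk' r fun a b => ext_O4 fun v => by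
    rw [hr, coe_mulVec, hr, hr, biMul_apply, biMul_apply, biMul_apply]
    simp [_root_.mul_inv_rev, Matrix.mul_assoc]
  have hΦ : Function.Injective Φ := by
    refine (injective_iff_map_eq_one _).mpr fun p hp => ?_
    have hm : ∀ m : M2, (p.1 : M2) * (m * ((p.2⁻¹ : GL (Fin 2) (ZMod 2)) : M2)) = m := by
      intro m
      have h := hr p (eM.symm m)
      rw [LinearEquiv.apply_symm_apply, biMul_apply, show r p = 1 from hp] at h
      rw [show toMat (1 : O4) = 1 from rfl, Matrix.one_mulVec, LinearEquiv.apply_symm_apply] at h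
      exact h.symm
    have h12 : p.1 = p.2 := Units.ext (by
      have h := congrArg (· * (p.2 : M2)) (hm 1)
      simpa [Matrix.mul_assoc] using h)
    have hc : ∀ m : M2, (p.1 : M2) * m = m * (p.1 : M2) := by
      intro m
      have h := congrArg (· * (p.2 : M2)) (hm m)
      simp only [Matrix.mul_assoc, Units.inv_mul, Matrix.mul_one] at h
      rwa [← h12] at h
    obtain ⟨c, hc'⟩ := Matrix.mem_range_scalar_of_commute_transvectionStruct (M := (p.1 : M2)) fun t => (hc _).symm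
    have hd := det_one p.1
    rw [← hc'] at hd
    have hc1 : c = 1 := by
      have : ∀ a : ZMod 2, a * a = 1 → a = 1 := by decide
      exact this c (by simpa [Matrix.det_fin_two] using hd)
    have h1 : p.1 = 1 := Units.ext (by rw [← hc', hc1, map_one]; rfl)
    exact Prod.ext h1 (h12 ▸ h1)
  obtain ⟨e0⟩ := S0250.result (F := ZMod 2) (by rw [ZMod.card])
  let sl : GL (Fin 2) (ZMod 2) ≃* Matrix.SpecialLinearGroup (Fin 2) (ZMod 2) :=
    { toFun := fun g => ⟨(g : M2), det_one g⟩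
      invFun := fun s => Matrix.SpecialLinearGroup.toGL s
      left_inv := fun g => Units.ext rfl
      right_inv := fun s => Subtype.ext rfl
      map_mul' := fun a b => Subtype.ext (Units.val_mul a b) }
  let fA : GL (Fin 2) (ZMod 2) →* O4 := Φ.comp (MonoidHom.inl _ _)
  let fB : GL (Fin 2) (ZMod 2) →* O4 := Φ.comp (MonoidHom.inr _ _)
  have hA : Function.Injective fA := fun a b h => congrArg Prod.fst (hΦ h)
  have hB : Function.Injective fB := fun a b h => congrArg Prod.snd (hΦ h)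
  refine ⟨fA.range, fB.range, ⟨(MonoidHom.ofInjective hA).symm.trans (sl.trans e0)⟩,
    ⟨(MonoidHom.ofInjective hB).symm.trans (sl.trans e0)⟩, ?_, ?_, ?_, ?_⟩
  · rw [Subgroup.eq_bot_iff_forall]
    rintro _ ⟨⟨a, rfl⟩, b, hb⟩
    have h := hΦ hb
    have ha : (1 : GL (Fin 2) (ZMod 2)) = a := congrArg Prod.fst h
    subst ha
    exact map_one fA
  · rintro _ ⟨a, rfl⟩ _ ⟨b, rfl⟩
    show Φ (a, 1) * Φ (1, b) = Φ (1, b) * Φ (a, 1)
    rw [← map_mul, ← map_mul, Prod.mk_mul_mk, Prod.mk_mul_mk, mul_one, one_mul, mul_one, one_mul]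
  · have hsup : fA.range ⊔ fB.range = Φ.range := by
      refine le_antisymm (sup_le ?_ ?_) ?_
      · rintro _ ⟨a, rfl⟩; exact ⟨(a, 1), rfl⟩
      · rintro _ ⟨a, rfl⟩; exact ⟨(1, a), rfl⟩
      · rintro _ ⟨⟨a, b⟩, rfl⟩
        rw [show ((a, b) : GL (Fin 2) (ZMod 2) × GL (Fin 2) (ZMod 2)) = (a, 1) * (1, b) by simp, map_mul]
        exact mul_mem (Subgroup.mem_sup_left ⟨a, rfl⟩) (Subgroup.mem_sup_right ⟨b, rfl⟩)
    rw [hsup]
    have h := Subgroup.card_mul_index Φ.range
    rw [hcard, ← Nat.card_congr (MonoidHom.ofInjective hΦ).toEquiv, Nat.card_prod,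
      Nat.card_congr sl.toEquiv, Nat.card_congr e0.toEquiv, Nat.card_perm, Nat.card_eq_fintype_card, Fintype.card_fin] at h
    simp [Nat.factorial] at h
    omega
  · obtain ⟨T, hT⟩ := exists_transport (Matrix.transposeLinearEquiv (Fin 2) (Fin 2) (ZMod 2) (ZMod 2)) (fun m => Matrix.det_transpose m)
    refine ⟨T, ?_⟩
    have key : ∀ a b : GL (Fin 2) (ZMod 2), ((b⁻¹ : GL (Fin 2) (ZMod 2)) : M2) = Matrix.transpose (a : M2) →
        T * fA a * T⁻¹ = fB b := by
      intro a b hab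
      rw [mul_inv_eq_iff_eq_mul]
      refine ext_O4 fun v => ?_
      rw [coe_mulVec, coe_mulVec, hT]
      show Matrix.transposeLinearEquiv _ _ _ _ (eM (Matrix.mulVec (toMat (r (a, 1))) v)) =
        eM (Matrix.mulVec (toMat (r (1, b))) _)
      rw [hr, hr, hT, biMul_apply, biMul_apply]
      simp [Matrix.transposeLinearEquiv_apply, Matrix.transpose_mul, hab]
    let tr : GL (Fin 2) (ZMod 2) → GL (Fin 2) (ZMod 2) := fun a =>
      ⟨Matrix.transpose (a : M2), Matrix.transpose ((a⁻¹ : GL (Fin 2) (ZMod 2)) : M2),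
        by rw [← Matrix.transpose_mul, Units.inv_mul, Matrix.transpose_one],
        by rw [← Matrix.transpose_mul, Units.mul_inv, Matrix.transpose_one]⟩
    have htr : ∀ a, tr (tr a) = a := fun a => Units.ext (Matrix.transpose_transpose _)
    ext x
    constructor
    · rintro ⟨_, ⟨a, rfl⟩, rfl⟩
      refine ⟨(tr a)⁻¹, (key a (tr a)⁻¹ ?_).symm⟩
      rw [inv_inv]
    · rintro ⟨b, rfl⟩
      refine ⟨fA (tr b⁻¹), ⟨_, rfl⟩, key _ b ?_⟩
      exact (Matrix.transpose_transpose _).symm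

end Cfsg.Agent.S2566
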