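import Cfsg.Statements.S2567


set_option autoImplicit false
open Cfsg

namespace Cfsg.Agent.S2567

/-- Lifting elements of prime order from PGL to GL: let F be a finite field with q elements, r a prime not dividing q − 1, and x an element of order r in GL_n(F) modulo its centre (the scalar matrices). Then x has exactly one preimage in GL_n(F) of order r. -/
theorem result {F : Type*} [Field F] [Fintype F] {q n r : ℕ} (hF : Fintype.card F = q) (hr : r.Prime) (hdiv : ¬ r ∣ q - 1) (x : GL (Fin n) F ⧸ Subgroup.center (GL (Fin n) F)) (hx : orderOf x = r) : ∃! g : GL (Fin n) F, (QuotientGroup.mk g : GL (Fin n) F ⧸ Subgroup.center (GL (Fin n) F)) = x ∧ orderOf g = r := by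
  subst hF
  have := Fact.mk hr
  obtain ⟨g, rfl⟩ := QuotientGroup.mk_surjective x
  let Z := Subgroup.center (GL (Fin n) F)
  have hZdef : Z = Subgroup.center (GL (Fin n) F) := rfl
  have hq : 0 < Fintype.card F - 1 := by have := Fintype.one_lt_card (α := F); omega
  have hZ : ∀ z ∈ Z, z ^ (Fintype.card F - 1) = 1 := by
    intro z hz
    rw [hZdef, Matrix.GeneralLinearGroup.center_eq_range_scalar] at hz
    obtain ⟨c, rfl⟩ := hz
    have := pow_card_eq_one' (x := c)
    rw [Nat.card_units, Nat.card_eq_fintype_card] at this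
    rw [← map_pow, this, map_one]
  have hcop : r.Coprime (Fintype.card F - 1) := (hr.coprime_iff_not_dvd).mpr hdiv
  have hgr : g ^ r ∈ Z := by
    refine (QuotientGroup.eq_one_iff _).mp ?_
    rw [QuotientGroup.mk_pow, ← hx, pow_orderOf_eq_one]
  have hg1 : g ∉ Z := by
    intro h
    have h := (QuotientGroup.eq_one_iff g).mpr h
    rw [h, orderOf_one] at hx; exact hr.one_lt.ne hx
  -- an exponent inverting `r` on the centre
  obtain ⟨a, ha⟩ : ∃ a : ℕ, ∀ z ∈ Z, (z ^ a) ^ r = z := by
    by_cases h1 : Fintype.card F - 1 = 1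
    · exact ⟨0, fun z hz => by have := hZ z hz; rw [h1, pow_one] at this; simp [this]⟩
    · obtain ⟨a, -, ha⟩ := Nat.exists_mul_mod_eq_one_of_coprime hcop (by omega)
      refine ⟨a, fun z hz => ?_⟩
      rw [← pow_mul, mul_comm, ← Nat.mod_add_div (r * a) (Fintype.card F - 1), ha, pow_add, pow_one,
        pow_mul, hZ z hz, one_pow, mul_one]
  have hca : ∀ y : GL (Fin n) F, ∀ z ∈ Z, Commute y z := fun y z hz => Subgroup.mem_center_iff.mp hz y
  refine ⟨g * ((g ^ r) ^ a)⁻¹, ⟨?_, ?_⟩, ?_⟩
  · rw [QuotientGroup.mk_mul, (QuotientGroup.eq_one_iff _).mpr (inv_mem (pow_mem hgr a)), mul_one]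
  · refine orderOf_eq_prime ?_ ?_
    · rw [(hca g _ (inv_mem (pow_mem hgr a))).mul_pow, inv_pow, ha _ hgr, mul_inv_cancel]
    · intro h
      apply hg1
      rw [eq_of_mul_inv_eq_one h]
      exact pow_mem hgr a
  · rintro g' ⟨hg', ho⟩
    obtain ⟨z, hz, rfl⟩ : ∃ z ∈ Z, g * z = g' :=
      ⟨_, QuotientGroup.eq.mp hg'.symm, mul_inv_cancel_left g g'⟩
    have h1 : g ^ r * z ^ r = 1 := by
      rw [← (hca g z hz).mul_pow]; conv_lhs => rw [← ho]
      exact pow_orderOf_eq_one _
    congr 1
    calc z = (z ^ a) ^ r := (ha z hz).symm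
      _ = (z ^ r) ^ a := by rw [← pow_mul, ← pow_mul, mul_comm]
      _ = ((g ^ r) ^ a)⁻¹ := by rw [eq_inv_of_mul_eq_one_right h1, inv_pow]

end Cfsg.Agent.S2567
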