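import Cfsg.Statements.S2569
import Mathlib
-- import your own Cfsg.Agent.* helpers here

set_option autoImplicit false
open Cfsg

namespace Cfsg.Agent.S2569

/-- In GL_n over a finite field of characteristic p, the conjugacy class of a semisimple element (an element of order prime to p) under the special linear group is its whole GL-conjugacy class: for every such x and every invertible g there is h of determinant one with h x h⁻¹ = g x g⁻¹. -/
theorem result {F : Type*} [Field F] [Fintype F] {p : ℕ} [Fact p.Prime] [CharP F p] {n : ℕ} (x g : GL (Fin n) F) (hx : (orderOf x).Coprime p) : ∃ h : GL (Fin n) F, (h : Matrix (Fin n) (Fin n) F).det = 1 ∧ h * x * h⁻¹ = g * x * g⁻¹ := by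
  classical
  rcases Nat.eq_zero_or_pos n with rfl | hn
  · exact ⟨g, Matrix.det_fin_zero, rfl⟩
  set A : Matrix (Fin n) (Fin n) F := (x : Matrix (Fin n) (Fin n) F) with hA
  set T := Matrix.toLin' A with hT
  obtain ⟨ι, _, q, hq, k, ⟨g₀⟩⟩ := Module.equiv_directSum_of_isTorsion
    (R := Polynomial F) (M := Module.AEval' T)
    (Module.AEval.isTorsion_of_finiteDimensional F (Fin n → F) T)
  let Q : ι → Type _ := fun i => Polynomial F ⧸ Ideal.span {q i ^ k i}
  let g₁ : Module.AEval' T ≃ₗ[Polynomial F] (∀ i, Q i) :=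
    g₀.trans (DirectSum.linearEquivFunOnFintype (Polynomial F) ι _)
  let e : (Fin n → F) ≃ₗ[F] (∀ i, Q i) := (Module.AEval'.of T).trans (g₁.restrictScalars F)
  have heX : ∀ v, e (T v) = (Polynomial.X : Polynomial F) • e v := fun v => by
    simp only [e, LinearEquiv.trans_apply, LinearEquiv.restrictScalars_apply, ← map_smul,
      Module.AEval'.X_smul_of]
  -- all exponents are at most one
  set m := orderOf x
  have hm : (m : F) ≠ 0 := by
    rw [Ne, CharP.cast_eq_zero_iff F p]
    exact fun h => (Fact.out : p.Prime).not_dvd_one (hx ▸ Nat.dvd_gcd h dvd_rfl)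
  have hsq : Squarefree (Polynomial.X ^ m - Polynomial.C (1 : F)) :=
    (Polynomial.separable_X_pow_sub_C 1 hm one_ne_zero).squarefree
  have hk : ∀ i, k i ≤ 1 := by
    intro i
    have hpow : ∀ j : ℕ, ∀ v, e ((T ^ j) v) = (Polynomial.X ^ j : Polynomial F) • e v := by
      intro j
      induction j with
      | zero => intro v; simp
      | succ j ih => intro v; rw [pow_succ', Module.End.mul_apply, heX, ih, smul_smul, ← pow_succ']
    have hTm : T ^ m = 1 := by
      rw [hT, show Matrix.toLin' A ^ m = Matrix.toLin' (A ^ m) from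
        (map_pow Matrix.toLinAlgEquiv' A m).symm, hA, ← Units.val_pow_eq_pow_val, pow_orderOf_eq_one,
        Units.val_one, Matrix.toLin'_one]
      rfl
    obtain ⟨v, hv⟩ := e.surjective 1
    have h := congrFun (hpow m v) i
    rw [hTm, Module.End.one_apply, hv, Pi.smul_apply, Pi.one_apply] at h
    have h : (1 : Q i) = Ideal.Quotient.mk _ (Polynomial.X ^ m) := h.trans (by
      show Ideal.Quotient.mk _ (Polynomial.X ^ m * 1) = _
      rw [mul_one])
    have hdvd : q i ^ k i ∣ Polynomial.X ^ m - Polynomial.C (1 : F) := by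
      rw [← Ideal.mem_span_singleton, map_one, ← Ideal.Quotient.eq, map_one]
      exact h.symm
    by_contra hk
    exact (hq i).not_isUnit (hsq _ ((dvd_of_eq (sq (q i)).symm).trans
      ((pow_dvd_pow _ (by omega : 2 ≤ k i)).trans hdvd)))
  obtain ⟨i₀, hi₀⟩ : ∃ i, k i = 1 := by
    by_contra h
    push Not at h
    have hsub : ∀ (i : ι) (a : Q i), a = 0 := by
      intro i a
      have hs : Ideal.span {q i ^ k i} = ⊤ := by
        rw [show k i = 0 from by have := hk i; have := h i; omega, pow_zero, Ideal.span_singleton_one]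
      obtain ⟨a, rfl⟩ := Ideal.Quotient.mk_surjective a
      exact Ideal.Quotient.eq_zero_iff_mem.2 (hs ▸ Submodule.mem_top)
    have : (fun _ => (1 : F) : Fin n → F) = 0 := e.injective (funext fun i => (hsub i _).trans (hsub i _).symm)
    exact one_ne_zero (congrFun this ⟨0, hn⟩)
  haveI : (Ideal.span {q i₀ ^ k i₀}).IsMaximal := by
    rw [hi₀, pow_one]; exact PrincipalIdealRing.isMaximal_of_irreducible (hq i₀)
  letI : Field (Q i₀) := Ideal.Quotient.field _
  haveI : Finite (Q i₀) := Finite.of_surjective (fun v => e v i₀) fun a => by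
    obtain ⟨v, hv⟩ := e.surjective (Pi.single i₀ a)
    exact ⟨v, by simp [hv]⟩
  obtain ⟨u, hu⟩ := FiniteField.norm_surjective F (Q i₀) (g : Matrix (Fin n) (Fin n) F).det⁻¹
  let M : (∀ i, Q i) →ₗ[F] (∀ i, Q i) := LinearMap.mulLeft F (Pi.mulSingle i₀ u)
  let sp : (∀ i, Q i) ≃ₗ[F] Q i₀ × (∀ j : {j // j ≠ i₀}, Q j) :=
    { Equiv.piSplitAt i₀ Q with
      map_add' := fun a b => rfl
      map_smul' := fun r a => rfl }
  haveI hall : Module.Finite F (∀ i, Q i) := Module.Finite.equiv e
  haveI hrest : Module.Finite F (∀ j : {j // j ≠ i₀}, Q j) :=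
    Module.Finite.of_surjective ((LinearMap.snd F (Q i₀) _).comp sp.toLinearMap)
      (Prod.snd_surjective.comp sp.surjective)
  haveI hfst : Module.Finite F (Q i₀) :=
    Module.Finite.of_surjective ((LinearMap.fst F _ (∀ j : {j // j ≠ i₀}, Q j)).comp sp.toLinearMap)
      (Prod.fst_surjective.comp sp.surjective)
  have hM : LinearMap.det M = Algebra.norm F u := by
    rw [← LinearMap.det_conj M sp]
    have : sp.toLinearMap.comp (M.comp sp.symm.toLinearMap) =
        (Algebra.lmul F (Q i₀) u).prodMap LinearMap.id := by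
      refine LinearMap.ext fun w => Prod.ext ?_ (funext fun j => ?_)
      · simp [M, sp, Equiv.piSplitAt]
      · simp [M, sp, Equiv.piSplitAt, j.2]
    rw [this, LinearMap.det_prodMap, LinearMap.det_id, mul_one, Algebra.norm_apply]
  let cl : (Fin n → F) →ₗ[F] (Fin n → F) := e.symm.toLinearMap.comp (M.comp e.toLinearMap)
  have hcl : LinearMap.det cl = Algebra.norm F u := by
    rw [← hM]; exact LinearMap.det_conj M e.symm
  have hcT : cl.comp T = T.comp cl := by
    refine LinearMap.ext fun v => e.injective ?_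
    simp only [cl, LinearMap.comp_apply, LinearEquiv.coe_coe, LinearEquiv.apply_symm_apply, heX]
    simp only [M, LinearMap.mulLeft_apply, mul_smul_comm]
  have hg : (g : Matrix (Fin n) (Fin n) F).det ≠ 0 := (Matrix.GeneralLinearGroup.det g).ne_zero
  let c : GL (Fin n) F := Matrix.GeneralLinearGroup.mkOfDetNeZero (LinearMap.toMatrix' cl) (by
    rw [LinearMap.det_toMatrix', hcl, hu]; exact inv_ne_zero hg)
  have hcx : c * x = x * c := by
    apply Units.ext
    show LinearMap.toMatrix' cl * A = A * LinearMap.toMatrix' cl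
    rw [← LinearMap.toMatrix'_toLin' A, ← LinearMap.toMatrix'_comp, ← LinearMap.toMatrix'_comp, hcT]
  refine ⟨g * c, ?_, ?_⟩
  · rw [Units.val_mul, Matrix.det_mul]
    show _ * (LinearMap.toMatrix' cl).det = 1
    rw [LinearMap.det_toMatrix', hcl, hu, mul_inv_cancel₀ hg]
  · rw [mul_inv_rev, mul_assoc g c x, hcx]
    group

end Cfsg.Agent.S2569
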