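import Cfsg.Statements.S2570
import Cfsg.Agent.Arith.UnipotentClasses
-- import your own Cfsg.Agent.* helpers here

set_option autoImplicit false
open Cfsg

namespace Cfsg.Agent.S2570

/-- Number of conjugacy classes of elements of order p in GL_n over a finite field of characteristic p: they correspond to the Jordan types, that is, to the partitions of n with all parts at most p other than the partition into ones, so there are (number of partitions of n with parts ≤ p) − 1 of them. -/
theorem result {F : Type*} [Field F] [Fintype F] {p : ℕ} [Fact p.Prime] [CharP F p] (n : ℕ) : Nat.card {C : ConjClasses (GL (Fin n) F) // ∃ g : GL (Fin n) F, ConjClasses.mk g = C ∧ orderOf g = p} = (Finset.univ.filter (fun μ : Nat.Partition n => ∀ a ∈ μ.parts, a ≤ p)).card - 1 := by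
  classical
  rw [← Cfsg.Agent.Arith.UnipotentClasses.card_classes (F := F) (n := n) p]
  let P : ConjClasses (GL (Fin n) F) → Prop := fun C =>
    ∃ g : GL (Fin n) F, ConjClasses.mk g = C ∧ ((g : Matrix (Fin n) (Fin n) F) - 1) ^ p = 0
  let e : {C : ConjClasses (GL (Fin n) F) // ∃ g : GL (Fin n) F, ConjClasses.mk g = C ∧ orderOf g = p} ≃
      {C : {C // P C} // C ≠ ⟨ConjClasses.mk 1, 1, rfl, by simp [(Fact.out : p.Prime).ne_zero]⟩} :=
    { toFun := fun C => ⟨⟨C.1, by
          obtain ⟨g, hg, ho⟩ := C.2
          exact ⟨g, hg, ((Cfsg.Agent.Arith.UnipotentClasses.orderOf_eq_prime_iff' p g).1 ho).2⟩⟩, fun h => by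
          obtain ⟨g, hg, ho⟩ := C.2
          have h' : ConjClasses.mk g = ConjClasses.mk 1 := hg.trans (congrArg Subtype.val h)
          obtain ⟨c, hc⟩ := isConj_iff.1 (ConjClasses.mk_eq_mk_iff_isConj.1 h').symm
          rw [mul_one, mul_inv_cancel] at hc
          exact ((Cfsg.Agent.Arith.UnipotentClasses.orderOf_eq_prime_iff' p g).1 ho).1 hc.symm⟩
      invFun := fun C => ⟨C.1.1, by
          obtain ⟨g, hg, hp⟩ := C.1.2
          refine ⟨g, hg, (Cfsg.Agent.Arith.UnipotentClasses.orderOf_eq_prime_iff' p g).2 ⟨?_, hp⟩⟩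
          rintro rfl
          exact C.2 (Subtype.ext hg.symm)⟩
      left_inv := fun C => rfl
      right_inv := fun C => rfl }
  haveI := Fintype.ofFinite {C // P C}
  rw [Nat.card_congr e, Nat.card_eq_fintype_card, Fintype.card_subtype_compl, Fintype.card_subtype_eq,
    ← Nat.card_eq_fintype_card]

end Cfsg.Agent.S2570
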