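import Cfsg.Statements.S2571
import Mathlib
-- import your own Cfsg.Agent.* helpers here

set_option autoImplicit false
open Cfsg

namespace Cfsg.Agent.S2571

/-- Centraliser of a regular unipotent element in GL_n(q): if u is an invertible n × n matrix over the field with q elements, n ≥ 1, with (u − 1)^n = 0 and rank(u − 1) = n − 1 (a single unipotent Jordan block), then its centraliser in GL_n(q) has order (q − 1) q^(n−1). -/
theorem result {F : Type*} [Field F] [Fintype F] {q n : ℕ} (hF : Fintype.card F = q) (hn : 1 ≤ n) (u : GL (Fin n) F) (hnil : ((u : Matrix (Fin n) (Fin n) F) - 1) ^ n = 0) (hreg : ((u : Matrix (Fin n) (Fin n) F) - 1).rank = n - 1) : Nat.card ↥(Subgroup.centralizer ({u} : Set (GL (Fin n) F))) = (q - 1) * q ^ (n - 1) := by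
  classical
  obtain ⟨k, rfl⟩ : ∃ k, n = k + 1 := ⟨n - 1, by omega⟩
  set N : Matrix (Fin (k + 1)) (Fin (k + 1)) F := (u : Matrix (Fin (k + 1)) (Fin (k + 1)) F) - 1 with hN
  set T := Matrix.toLin' N with hT
  -- the kernel of `T` is one dimensional, so `T ^ k` is nonzero
  have hker : Module.finrank F (LinearMap.ker T) = 1 := by
    have := LinearMap.finrank_range_add_finrank_ker T
    rw [show Module.finrank F (LinearMap.range T) = k from hreg.trans (by omega),
      Module.finrank_fintype_fun_eq_card, Fintype.card_fin] at this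
    omega
  have hrk : ∀ j, k + 1 - j ≤ Module.finrank F (LinearMap.range (T ^ j)) := by
    intro j
    induction j with
    | zero =>
      rw [pow_zero, Module.End.one_eq_id, LinearMap.range_id, finrank_top,
        Module.finrank_fintype_fun_eq_card, Fintype.card_fin]
      omega
    | succ j ih =>
      have h := LinearMap.finrank_range_add_finrank_ker (T.domRestrict (LinearMap.range (T ^ j)))
      rw [LinearMap.range_domRestrict, ← LinearMap.range_comp, ← Module.End.mul_eq_comp, ← pow_succ'] at h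
      have hk : Module.finrank F (LinearMap.ker (T.domRestrict (LinearMap.range (T ^ j)))) ≤ 1 := by
        refine le_trans ?_ hker.le
        refine LinearMap.finrank_le_finrank_of_injective
          (f := ((LinearMap.range (T ^ j)).subtype).restrict (p := LinearMap.ker (T.domRestrict (LinearMap.range (T ^ j)))) (q := LinearMap.ker T) (fun x hx => by simpa using hx)) ?_
        intro x y hxy
        exact Subtype.ext (Subtype.ext (congrArg Subtype.val hxy :)) 
      omega
  have hk0 : N ^ k ≠ 0 := by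
    intro h
    have h' : k + 1 - k ≤ _ := hrk k
    rw [hT, show Matrix.toLin' N ^ k = Matrix.toLin' (N ^ k) from (map_pow Matrix.toLinAlgEquiv' N k).symm,
      h, map_zero, LinearMap.range_zero, finrank_bot] at h'
    omega
  obtain ⟨v, hv⟩ : ∃ v, (N ^ k).mulVec v ≠ 0 := by
    by_contra h
    push Not at h
    exact hk0 (Matrix.ext_of_mulVec_single fun i => by rw [h, Matrix.zero_mulVec])
  have hhigh : ∀ m, k + 1 ≤ m → N ^ m = 0 := fun m hm => pow_eq_zero_of_le hm hnil
  let P : (Fin (k + 1) → F) → Matrix (Fin (k + 1)) (Fin (k + 1)) F :=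
    fun c => ∑ i : Fin (k + 1), c i • N ^ (i : ℕ)
  let Φ : (Fin (k + 1) → F) →ₗ[F] (Fin (k + 1) → F) :=
    Fintype.linearCombination F fun i : Fin (k + 1) => (N ^ (i : ℕ)).mulVec v
  have hΦ : ∀ c, (P c).mulVec v = Φ c := fun c => by
    simp [P, Φ, Fintype.linearCombination_apply, Matrix.sum_mulVec, Matrix.smul_mulVec]
  have hinj : Function.Injective Φ := by
    rw [← LinearMap.ker_eq_bot, LinearMap.ker_eq_bot']
    intro c hc
    by_contra hc0
    obtain ⟨i₀, hi₀⟩ := Function.ne_iff.1 hc0
    let s := Finset.univ.filter fun i => c i ≠ 0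
    have hs : s.Nonempty := ⟨i₀, by simpa [s] using hi₀⟩
    set i := s.min' hs with hi
    have hci : c i ≠ 0 := (Finset.mem_filter.1 (s.min'_mem hs)).2
    have := congrArg (N ^ (k - (i : ℕ))).mulVec hc
    rw [← hΦ, Matrix.mulVec_mulVec, Matrix.mulVec_zero, Finset.mul_sum, Finset.sum_eq_single i] at this
    · rw [mul_smul_comm, ← pow_add, Nat.sub_add_cancel (Nat.le_of_lt_succ i.2), Matrix.smul_mulVec,
        smul_eq_zero] at this
      exact this.elim hci hv
    · intro j _ hj
      by_cases hcj : c j = 0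
      · simp [hcj]
      have hlt : (i : ℕ) < (j : ℕ) :=
        lt_of_le_of_ne (s.min'_le j (by simp [s, hcj])) fun h => hj (Fin.ext h.symm)
      rw [mul_smul_comm, ← pow_add, hhigh _ (by omega), smul_zero]
    · simp
  have hsurj : Function.Surjective Φ := LinearMap.injective_iff_surjective.1 hinj
  -- an element commuting with `N` is determined by the image of `v`
  have hcomm : ∀ c, N * P c = P c * N := fun c => by
    simp only [P, Finset.mul_sum, Finset.sum_mul, mul_smul_comm, smul_mul_assoc, ← pow_succ, ← pow_succ']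
  have huniq : ∀ M M' : Matrix (Fin (k + 1)) (Fin (k + 1)) F, N * M = M * N → N * M' = M' * N →
      M.mulVec v = M'.mulVec v → M = M' := by
    intro M M' hM hM' hv'
    refine Matrix.ext_of_mulVec_single fun j => ?_
    obtain ⟨c, hc⟩ := hsurj (Pi.single j 1)
    rw [← hc, ← hΦ, Matrix.mulVec_mulVec, Matrix.mulVec_mulVec]
    have e : ∀ M : Matrix (Fin (k + 1)) (Fin (k + 1)) F, N * M = M * N → M * P c = P c * M := by
      intro M hM
      simp only [P, Finset.mul_sum, Finset.sum_mul, mul_smul_comm, smul_mul_assoc]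
      exact Finset.sum_congr rfl fun i _ => by rw [((Commute.pow_left hM i).eq)]
    rw [e M hM, e M' hM', ← Matrix.mulVec_mulVec, ← Matrix.mulVec_mulVec, hv']
  have hunit : ∀ c, IsUnit (P c) ↔ c 0 ≠ 0 := by
    intro c
    have hsplit : P c = c 0 • (1 : Matrix (Fin (k + 1)) (Fin (k + 1)) F) +
        ∑ i : Fin k, c i.succ • N ^ ((i : ℕ) + 1) := by
      simp [P, Fin.sum_univ_succ]
    have hn : IsNilpotent (∑ i : Fin k, c i.succ • N ^ ((i : ℕ) + 1)) := by
      refine ⟨k + 1, ?_⟩
      have : ∑ i : Fin k, c i.succ • N ^ ((i : ℕ) + 1) = (∑ i : Fin k, c i.succ • N ^ (i : ℕ)) * N := by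
        simp [Finset.sum_mul, pow_succ]
      have hcm : Commute (∑ i : Fin k, c i.succ • N ^ (i : ℕ)) N :=
        Commute.sum_left _ _ _ fun i _ => ((Commute.refl N).pow_left i).smul_left _
      rw [this, hcm.mul_pow, hhigh _ le_rfl, mul_zero]
    constructor
    · intro h h0
      rw [hsplit, h0, zero_smul, zero_add] at h
      exact IsNilpotent.not_isUnit hn h
    · intro h
      rw [hsplit]
      refine IsNilpotent.isUnit_add_left_of_commute hn ?_ ((Commute.one_right _).smul_right _)
      exact ⟨⟨c 0 • 1, (c 0)⁻¹ • 1, by simp [smul_smul, h], by simp [smul_smul, h]⟩, rfl⟩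
  have hmem : ∀ g : GL (Fin (k + 1)) F, g ∈ Subgroup.centralizer ({u} : Set (GL (Fin (k + 1)) F)) ↔
      N * (g : Matrix (Fin (k + 1)) (Fin (k + 1)) F) = (g : Matrix (Fin (k + 1)) (Fin (k + 1)) F) * N := by
    intro g
    rw [Subgroup.mem_centralizer_singleton_iff, Units.ext_iff, hN, sub_mul, mul_sub]
    simp only [Units.val_mul, one_mul, mul_one, sub_left_inj]
    exact eq_comm
  let f : ↥(Subgroup.centralizer ({u} : Set (GL (Fin (k + 1)) F))) → {c : Fin (k + 1) → F // c 0 ≠ 0} :=
    fun g => ⟨(hsurj (((g : GL (Fin (k + 1)) F) : Matrix (Fin (k + 1)) (Fin (k + 1)) F).mulVec v)).choose, by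
      rw [← hunit]
      have h := (hsurj (((g : GL (Fin (k + 1)) F) : Matrix (Fin (k + 1)) (Fin (k + 1)) F).mulVec v)).choose_spec
      rw [← hΦ] at h
      rw [huniq _ _ (hcomm _) ((hmem _).1 g.2) h]
      exact Units.isUnit _⟩
  have hf : Function.Bijective f := by
    constructor
    · intro g g' h
      have h' : (((g : GL (Fin (k + 1)) F) : Matrix (Fin (k + 1)) (Fin (k + 1)) F)).mulVec v =
          (((g' : GL (Fin (k + 1)) F) : Matrix (Fin (k + 1)) (Fin (k + 1)) F)).mulVec v := by
        rw [← (hsurj (((g : GL (Fin (k + 1)) F) : Matrix (Fin (k + 1)) (Fin (k + 1)) F).mulVec v)).choose_spec,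
          ← (hsurj (((g' : GL (Fin (k + 1)) F) : Matrix (Fin (k + 1)) (Fin (k + 1)) F).mulVec v)).choose_spec]
        exact congrArg (fun x => Φ x.1) h
      exact Subtype.ext (Units.ext (huniq _ _ ((hmem _).1 g.2) ((hmem _).1 g'.2) h'))
    · rintro ⟨c, hc⟩
      obtain ⟨g, hg⟩ := (hunit c).2 hc
      refine ⟨⟨g, (hmem g).2 (by rw [hg]; exact hcomm c)⟩, Subtype.ext (hinj ?_)⟩
      show Φ (hsurj (((g : GL (Fin (k + 1)) F) : Matrix (Fin (k + 1)) (Fin (k + 1)) F).mulVec v)).choose = Φ c
      rw [(hsurj _).choose_spec, hg, hΦ]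
  rw [Nat.card_eq_of_bijective f hf]
  let e : {c : Fin (k + 1) → F // c 0 ≠ 0} ≃ {x : F // x ≠ 0} × (Fin k → F) :=
    { toFun := fun c => (⟨c.1 0, c.2⟩, Fin.tail c.1)
      invFun := fun p => ⟨Fin.cons p.1.1 p.2, by simpa using p.1.2⟩
      left_inv := fun c => Subtype.ext (Fin.cons_self_tail c.1)
      right_inv := fun p => by simp }
  rw [Nat.card_congr e, Nat.card_prod, Nat.card_fun, Nat.card_eq_fintype_card (α := F), hF,
    Nat.card_eq_fintype_card, Fintype.card_subtype_compl, Fintype.card_subtype_eq, hF]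
  simp

end Cfsg.Agent.S2571
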