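import Cfsg.Statements.S2572
import Cfsg.Agent.H34.Transvection
-- import your own Cfsg.Agent.* helpers here

set_option autoImplicit false
open Cfsg

namespace Cfsg.Agent.S2572

/-- Centraliser of a transvection in GL_n(q), n ≥ 2: if t − 1 has rank one and square zero, the centraliser of t in GL_n(q) has order q^(2n−3) (q − 1) |GL_(n−2)(q)| (a group of order q^(2n−3) extended by GL_1(q) × GL_(n−2)(q)). -/
theorem result {F : Type*} [Field F] [Fintype F] {q n : ℕ} (hF : Fintype.card F = q) (hn : 2 ≤ n) (t : GL (Fin n) F) (ht : Cfsg.IsTransvection (t : Matrix (Fin n) (Fin n) F)) : Nat.card ↥(Subgroup.centralizer ({t} : Set (GL (Fin n) F))) = q ^ (2 * n - 3) * (q - 1) * ∏ i : Fin (n - 2), (q ^ (n - 2) - q ^ (i : ℕ)) := by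
  classical
  obtain ⟨k, rfl⟩ : ∃ k, n = k + 2 := ⟨n - 2, by omega⟩
  obtain ⟨a, b, hab⟩ := Cfsg.Agent.H34.exists_eq_vecMulVec_of_rank_le_one _ ht.1.le
  have hne : (t : Matrix (Fin (k + 2)) (Fin (k + 2)) F) - 1 ≠ 0 := fun h => by
    have := ht.1
    rw [h, Matrix.rank_zero] at this
    exact absurd this (by norm_num)
  have ha : a ≠ 0 := fun h => hne (by rw [hab, h]; ext; simp [Matrix.vecMulVec_apply])
  have hb : b ≠ 0 := fun h => hne (by rw [hab, h]; ext; simp [Matrix.vecMulVec_apply])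
  obtain ⟨ia, hia⟩ := Function.ne_iff.1 ha
  obtain ⟨jb, hjb⟩ := Function.ne_iff.1 hb
  have hdot : dotProduct b a = 0 := by
    have h := congrFun (congrFun (hab ▸ ht.2) ia) jb
    rw [Matrix.vecMulVec_mul_vecMulVec] at h
    simp [Matrix.vecMulVec_apply] at h
    rcases h with h | h | h
    · exact absurd h hia
    · exact h
    · exact absurd h hjb
  let act : (GL (Fin (k + 2)) F) → ((Fin (k + 2) → F) × (Fin (k + 2) → F)) → ((Fin (k + 2) → F) × (Fin (k + 2) → F)) := fun g x => (Matrix.mulVec (g : Matrix (Fin (k + 2)) (Fin (k + 2)) F) x.1,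
    Matrix.vecMul x.2 ((g⁻¹ : (GL (Fin (k + 2)) F)) : Matrix (Fin (k + 2)) (Fin (k + 2)) F))
  have act_one : ∀ x, act 1 x = x := fun x => by simp [act]
  have act_mul : ∀ g h x, act (g * h) x = act g (act h x) := fun g h x => by
    simp only [act, mul_inv_rev, Units.val_mul, Matrix.mulVec_mulVec, Matrix.vecMul_vecMul]
  let iact : MulAction (GL (Fin (k + 2)) F) ((Fin (k + 2) → F) × (Fin (k + 2) → F)) := { smul := act, mul_smul := act_mul, one_smul := act_one }
  -- an invertible matrix with prescribed first row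
  have row : ∀ (d : ℕ) (w : Fin (d + 1) → F), w ≠ 0 →
      ∃ A : Matrix (Fin (d + 1)) (Fin (d + 1)) F, A.det ≠ 0 ∧ A 0 = w := by
    intro d w hw
    obtain ⟨j, hj⟩ := Function.ne_iff.1 hw
    refine ⟨((1 : Matrix (Fin (d + 1)) (Fin (d + 1)) F).updateRow j w).submatrix (Equiv.swap 0 j) id,
      ?_, ?_⟩
    · rw [Matrix.det_permute]
      refine mul_ne_zero ?_ ?_
      · rcases Int.units_eq_one_or (Equiv.Perm.sign (Equiv.swap (0 : Fin (d + 1)) j)) with h | h <;>
          simp [h]
      · have hsum : (∑ i, w i • (1 : Matrix (Fin (d + 1)) (Fin (d + 1)) F) i) = w := by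
          ext l
          simp [Finset.sum_apply, Matrix.one_apply]
        have := Matrix.det_updateRow_sum (1 : Matrix (Fin (d + 1)) (Fin (d + 1)) F) j w
        rw [hsum] at this
        simpa [this] using hj
    · funext l
      rw [Matrix.submatrix_apply, id, Equiv.swap_apply_left, Matrix.updateRow_self]
  have normal : ∀ x : ((Fin (k + 2) → F) × (Fin (k + 2) → F)), x.2 ≠ 0 → x.1 ≠ 0 → dotProduct x.2 x.1 = 0 →
      ∃ g : (GL (Fin (k + 2)) F), act g x = ((Pi.single 1 1, Pi.single 0 1) : ((Fin (k + 2) → F) × (Fin (k + 2) → F))) := by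
    rintro ⟨a, b⟩ hb ha hdot
    obtain ⟨M, hM, hM0⟩ := row (k + 1) b hb
    let g1 : (GL (Fin (k + 2)) F) := Matrix.GeneralLinearGroup.mkOfDetNeZero M hM
    set v := Matrix.mulVec M a with hv
    have hv0 : v 0 = 0 := by
      show dotProduct (fun j => M 0 j) a = 0
      rw [← hdot, ← hM0]
    have hvne : v ≠ 0 := fun h => ha (Matrix.eq_zero_of_mulVec_eq_zero hM h)
    obtain ⟨A₀, hA₀, hA₀0⟩ := row k (fun i => v i.succ) (fun h => hvne (funext fun i => by
      induction i using Fin.cases with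
      | zero => exact hv0
      | succ i => exact congrFun h i))
    let A₁ : GL (Fin (k + 1)) F := Matrix.GeneralLinearGroup.mkOfDetNeZero A₀.transpose (by rwa [Matrix.det_transpose])
    let A : Matrix (Fin (k + 1)) (Fin (k + 1)) F := (A₁⁻¹ : GL (Fin (k + 1)) F)
    have hAv : A.mulVec (fun i => v i.succ) = Pi.single 0 1 := by
      have e : (fun i => v i.succ) = Matrix.mulVec (A₁ : Matrix (Fin (k + 1)) (Fin (k + 1)) F) (Pi.single 0 1) := by
        rw [← hA₀0]
        funext i
        simp [A₁]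
      rw [e, Matrix.mulVec_mulVec, ← Units.val_mul, inv_mul_cancel, Units.val_one, Matrix.one_mulVec]
    let N : Matrix (Fin (k + 2)) (Fin (k + 2)) F := Matrix.of fun i j =>
      Fin.cases (Fin.cases (1 : F) (fun _ => 0) j)
        (fun i' => Fin.cases (0 : F) (fun j' => A i' j') j) i
    have hN : N.det ≠ 0 := by
      rw [Matrix.det_succ_row_zero, Fin.sum_univ_succ, Finset.sum_eq_zero (fun i _ => by simp [N])]
      have hsub : N.submatrix Fin.succ (Fin.succAbove 0) = A := by
        ext i j; simp [N]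
      have hA : A.det ≠ 0 := (Matrix.GeneralLinearGroup.det (A₁⁻¹)).ne_zero
      rw [hsub]
      simpa [N] using hA
    let g2 : (GL (Fin (k + 2)) F) := Matrix.GeneralLinearGroup.mkOfDetNeZero N hN
    refine ⟨g2 * g1, ?_⟩
    have e2 : Matrix.vecMul (Pi.single (0 : Fin (k + 2)) (1 : F))
        ((g2 * g1 : (GL (Fin (k + 2)) F)) : Matrix (Fin (k + 2)) (Fin (k + 2)) F) = b := by
      have h0 : Matrix.vecMul (Pi.single (0 : Fin (k + 2)) (1 : F)) N = Pi.single 0 1 := by
        rw [Matrix.single_one_vecMul]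
        funext j
        induction j using Fin.cases <;> simp [N]
      show Matrix.vecMul _ (N * M) = b
      rw [← Matrix.vecMul_vecMul, h0, Matrix.single_one_vecMul]
      exact hM0
    refine Prod.ext ?_ ?_
    · show Matrix.mulVec (N * M) a = _
      rw [← Matrix.mulVec_mulVec, ← hv]
      funext i
      induction i using Fin.cases with
      | zero => simp [N, Matrix.mulVec, dotProduct, Fin.sum_univ_succ, hv0]
      | succ i =>
        have h3 := congrFun hAv i
        simp only [Matrix.mulVec, dotProduct] at h3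
        simp [N, Matrix.mulVec, dotProduct, Fin.sum_univ_succ, hv0, h3, Pi.single_apply]
        simp only [← Fin.succ_zero_eq_one, Fin.succ_inj]
    · show Matrix.vecMul b _ = _
      conv_lhs => rw [← e2]
      rw [Matrix.vecMul_vecMul, ← Units.val_mul, mul_inv_cancel, Units.val_one, Matrix.vecMul_one]
  have horb : Set.range (fun g : (GL (Fin (k + 2)) F) => act g (a, b)) = {x : ((Fin (k + 2) → F) × (Fin (k + 2) → F)) | x.2 ≠ 0 ∧ x.1 ≠ 0 ∧ dotProduct x.2 x.1 = 0} := by
    ext x
    constructor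
    · rintro ⟨g, rfl⟩
      have hback : act g⁻¹ (act g (a, b)) = (a, b) := by rw [← act_mul, inv_mul_cancel, act_one]
      refine ⟨fun h => hb ?_, fun h => ha ?_, ?_⟩
      · have h' := congrArg Prod.snd hback
        refine h'.symm.trans ?_
        show Matrix.vecMul (act g (a, b)).2 _ = 0
        rw [h, Matrix.zero_vecMul]
      · have h' := congrArg Prod.fst hback
        refine h'.symm.trans ?_
        show Matrix.mulVec _ (act g (a, b)).1 = 0
        rw [h, Matrix.mulVec_zero]
      · show dotProduct (Matrix.vecMul b _) (Matrix.mulVec _ a) = 0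
        rw [Matrix.dotProduct_mulVec, Matrix.vecMul_vecMul, ← Units.val_mul, inv_mul_cancel,
          Units.val_one, Matrix.vecMul_one, hdot]
    · rintro ⟨h1, h2, h3⟩
      obtain ⟨g, hg⟩ := normal x h1 h2 h3
      obtain ⟨h, hh⟩ := normal (a, b) hb ha hdot
      refine ⟨g⁻¹ * h, ?_⟩
      show act (g⁻¹ * h) (a, b) = x
      rw [act_mul, hh, ← hg, ← act_mul, inv_mul_cancel, act_one]
  have hker : ∀ w : Fin (k + 2) → F, w ≠ 0 →
      Nat.card {v : Fin (k + 2) → F // v ≠ 0 ∧ dotProduct w v = 0} = q ^ (k + 1) - 1 := by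
    intro w hw
    obtain ⟨j, hj⟩ := Function.ne_iff.1 hw
    let φ : (Fin (k + 2) → F) →ₗ[F] F := dotProductBilin F F w
    have hφ : Function.Surjective φ := fun c => ⟨Pi.single j (c / w j), by
      show dotProduct w _ = c
      rw [dotProduct_single, mul_div_cancel₀ _ hj]⟩
    have hd := LinearMap.finrank_range_add_finrank_ker φ
    rw [LinearMap.range_eq_top.2 hφ, finrank_top, Module.finrank_self, Module.finrank_fintype_fun_eq_card,
      Fintype.card_fin] at hd
    have hc : Fintype.card (LinearMap.ker φ) = q ^ (k + 1) := by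
      rw [Module.card_eq_pow_finrank (K := F), hF]
      congr 1
      omega
    have e : {v : Fin (k + 2) → F // v ≠ 0 ∧ dotProduct w v = 0} ≃ {v : LinearMap.ker φ // v ≠ 0} :=
      { toFun := fun v => ⟨⟨v.1, v.2.2⟩, fun h => v.2.1 (congrArg Subtype.val h)⟩
        invFun := fun v => ⟨v.1.1, fun h => v.2 (Subtype.ext h), v.1.2⟩
        left_inv := fun v => rfl
        right_inv := fun v => rfl }
    rw [Nat.card_congr e, Nat.card_eq_fintype_card, Fintype.card_subtype_compl, Fintype.card_subtype_eq, hc]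
  have hS : Nat.card (Set.range (fun g : (GL (Fin (k + 2)) F) => act g (a, b))) = (q ^ (k + 2) - 1) * (q ^ (k + 1) - 1) := by
    rw [horb]
    let e : ↥{x : ((Fin (k + 2) → F) × (Fin (k + 2) → F)) | x.2 ≠ 0 ∧ x.1 ≠ 0 ∧ dotProduct x.2 x.1 = 0} ≃
        Σ w : {w : Fin (k + 2) → F // w ≠ 0}, {v : Fin (k + 2) → F // v ≠ 0 ∧ dotProduct w.1 v = 0} :=
      { toFun := fun x => ⟨⟨x.1.2, x.2.1⟩, ⟨x.1.1, x.2.2⟩⟩
        invFun := fun y => ⟨(y.2.1, y.1.1), y.1.2, y.2.2⟩
        left_inv := fun x => rfl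
        right_inv := fun y => rfl }
    rw [Nat.card_congr e, Nat.card_sigma, Finset.sum_congr rfl fun w _ => hker w.1 w.2,
      Finset.sum_const, Finset.card_univ, smul_eq_mul, Fintype.card_subtype_compl,
      Fintype.card_subtype_eq, Fintype.card_fun, hF, Fintype.card_fin]
  -- the centraliser is scalars times the stabiliser of the pair
  let sc : Fˣ →* (GL (Fin (k + 2)) F) := Units.map (Matrix.scalar (Fin (k + 2))).toMonoidHom
  have hsc : ∀ c : Fˣ, ((sc c : (GL (Fin (k + 2)) F)) : Matrix (Fin (k + 2)) (Fin (k + 2)) F) = (c : F) • 1 := fun c => by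
    simp [sc, Matrix.smul_one_eq_diagonal, Matrix.scalar_apply]
  have hst : ∀ g : (GL (Fin (k + 2)) F), g ∈ (@MulAction.stabilizer (GL (Fin (k + 2)) F) ((Fin (k + 2) → F) × (Fin (k + 2) → F)) _ iact (a, b)) ↔
      Matrix.mulVec (g : Matrix (Fin (k + 2)) (Fin (k + 2)) F) a = a ∧
      Matrix.vecMul b (g : Matrix (Fin (k + 2)) (Fin (k + 2)) F) = b := by
    intro g
    show act g (a, b) = (a, b) ↔ _
    rw [Prod.ext_iff]
    refine and_congr_right fun _ => ⟨fun h => ?_, fun h => ?_⟩
    · conv_lhs => rw [← show _ = b from h, Matrix.vecMul_vecMul, ← Units.val_mul, inv_mul_cancel,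
        Units.val_one, Matrix.vecMul_one]
    · show Matrix.vecMul b _ = b
      conv_lhs => rw [← h, Matrix.vecMul_vecMul, ← Units.val_mul, mul_inv_cancel,
        Units.val_one, Matrix.vecMul_one]
  have hC : ∀ g : (GL (Fin (k + 2)) F), g ∈ Subgroup.centralizer ({t} : Set (GL (Fin (k + 2)) F)) ↔ Matrix.vecMulVec
      (Matrix.mulVec (g : Matrix (Fin (k + 2)) (Fin (k + 2)) F) a) b =
        Matrix.vecMulVec a (Matrix.vecMul b (g : Matrix (Fin (k + 2)) (Fin (k + 2)) F)) := by
    intro g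
    rw [Subgroup.mem_centralizer_singleton_iff, Units.ext_iff, Units.val_mul, Units.val_mul,
      ← Matrix.mul_vecMulVec, ← Matrix.vecMulVec_mul, ← hab, mul_sub, sub_mul, mul_one, one_mul,
      sub_left_inj]
  have hbij : Nat.card (Subgroup.centralizer ({t} : Set (GL (Fin (k + 2)) F))) =
      Nat.card Fˣ * Nat.card ((@MulAction.stabilizer (GL (Fin (k + 2)) F) ((Fin (k + 2) → F) × (Fin (k + 2) → F)) _ iact (a, b))) := by
    rw [← Nat.card_prod]
    refine (Nat.card_eq_of_bijective
      (fun z : Fˣ × (@MulAction.stabilizer (GL (Fin (k + 2)) F) ((Fin (k + 2) → F) × (Fin (k + 2) → F)) _ iact (a, b)) => (⟨sc z.1 * z.2.1, ?_⟩ :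
        Subgroup.centralizer ({t} : Set (GL (Fin (k + 2)) F)))) ⟨?_, ?_⟩).symm
    · obtain ⟨h1, h2⟩ := (hst _).1 z.2.2
      rw [hC, Units.val_mul, hsc, smul_mul_assoc, one_mul, Matrix.smul_mulVec, Matrix.vecMul_smul,
        h1, h2, Matrix.smul_vecMulVec, Matrix.vecMulVec_smul]
    · rintro ⟨c, g⟩ ⟨c', g'⟩ horig
      have h := congrArg (fun x : Subgroup.centralizer ({t} : Set (GL (Fin (k + 2)) F)) =>
        Matrix.mulVec ((x : (GL (Fin (k + 2)) F)) : Matrix (Fin (k + 2)) (Fin (k + 2)) F) a ia) horig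
      simp only [Units.val_mul, hsc, smul_mul_assoc, one_mul, Matrix.smul_mulVec,
        ((hst _).1 g.2).1, ((hst _).1 g'.2).1, Pi.smul_apply, smul_eq_mul] at h
      have hc : c = c' := Units.ext (mul_right_cancel₀ hia h)
      subst hc
      have hg : g.1 = g'.1 := mul_left_cancel (congrArg Subtype.val horig)
      exact Prod.ext rfl (Subtype.ext hg)
    · rintro ⟨g, hg⟩
      rw [hC] at hg
      set l := Matrix.vecMul b (g : Matrix (Fin (k + 2)) (Fin (k + 2)) F) jb / b jb
      have h1 : Matrix.mulVec (g : Matrix (Fin (k + 2)) (Fin (k + 2)) F) a = l • a := by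
        funext i
        have := congrFun (congrFun hg i) jb
        rw [Matrix.vecMulVec_apply, Matrix.vecMulVec_apply] at this
        rw [Pi.smul_apply, smul_eq_mul, div_mul_eq_mul_div, eq_div_iff hjb]
        rw [this]; ring
      have h2 : Matrix.vecMul b (g : Matrix (Fin (k + 2)) (Fin (k + 2)) F) = l • b := by
        funext j
        have := congrFun (congrFun hg ia) j
        rw [h1, Matrix.vecMulVec_apply, Matrix.vecMulVec_apply, Pi.smul_apply, smul_eq_mul,
          mul_comm l, mul_assoc] at this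
        exact (mul_left_cancel₀ hia this).symm
      have hl : l ≠ 0 := fun h => ha (Matrix.eq_zero_of_mulVec_eq_zero
        (Matrix.GeneralLinearGroup.det g).ne_zero (by rw [h1, h, zero_smul]))
      refine ⟨(Units.mk0 l hl, ⟨(sc (Units.mk0 l hl))⁻¹ * g, ?_⟩), Subtype.ext (mul_inv_cancel_left _ _)⟩
      rw [hst]
      have hinv : (((sc (Units.mk0 l hl))⁻¹ * g : (GL (Fin (k + 2)) F)) : Matrix (Fin (k + 2)) (Fin (k + 2)) F) =
          l⁻¹ • (g : Matrix (Fin (k + 2)) (Fin (k + 2)) F) := by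
        rw [← map_inv, Units.val_mul, hsc, smul_mul_assoc, one_mul, Units.val_inv_eq_inv_val, Units.val_mk0]
      rw [hinv, Matrix.smul_mulVec, Matrix.vecMul_smul, h1, h2]
      simp [smul_smul, inv_mul_cancel₀ hl]
  have horbst := @MulAction.index_stabilizer (GL (Fin (k + 2)) F) ((Fin (k + 2) → F) × (Fin (k + 2) → F)) _ iact (a, b)
  rw [← Nat.card_coe_set_eq] at horbst
  replace horbst := horbst.trans hS
  have hG := ((@MulAction.stabilizer (GL (Fin (k + 2)) F) ((Fin (k + 2) → F) × (Fin (k + 2) → F)) _ iact (a, b))).card_mul_index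
  rw [horbst, Matrix.card_GL_field, hF] at hG
  have hstep : ∀ d : ℕ, ∏ i : Fin (d + 1), (q ^ (d + 1) - q ^ (i : ℕ)) =
      (q ^ (d + 1) - 1) * q ^ d * ∏ i : Fin d, (q ^ d - q ^ (i : ℕ)) := by
    intro d
    rw [Fin.prod_univ_succ, Fin.val_zero, pow_zero, mul_assoc]
    congr 1
    calc ∏ i : Fin d, (q ^ (d + 1) - q ^ ((i.succ : Fin (d + 1)) : ℕ))
        = ∏ i : Fin d, q * (q ^ d - q ^ (i : ℕ)) := Finset.prod_congr rfl fun i _ => by
          rw [Fin.val_succ, Nat.mul_sub, ← pow_succ', ← pow_succ']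
      _ = q ^ d * ∏ i : Fin d, (q ^ d - q ^ (i : ℕ)) := by
          rw [Finset.prod_mul_distrib, Finset.prod_const, Finset.card_univ, Fintype.card_fin]
  rw [hstep, hstep] at hG
  have hq : 1 < q := hF ▸ Fintype.one_lt_card
  have hp1 : 1 < q ^ (k + 2) := Nat.one_lt_pow (by omega) hq
  have hp2 : 1 < q ^ (k + 1) := Nat.one_lt_pow (by omega) hq
  have hstab : Nat.card ((@MulAction.stabilizer (GL (Fin (k + 2)) F) ((Fin (k + 2) → F) × (Fin (k + 2) → F)) _ iact (a, b))) =
      q ^ (k + 1) * q ^ k * ∏ i : Fin k, (q ^ k - q ^ (i : ℕ)) := by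
    refine Nat.eq_of_mul_eq_mul_right (Nat.mul_pos (Nat.sub_pos_of_lt hp1) (Nat.sub_pos_of_lt hp2)) ?_
    rw [hG]
    ring
  rw [hbij, Nat.card_units, Nat.card_eq_fintype_card, hF, hstab]
  show _ = q ^ (2 * (k + 2) - 3) * (q - 1) * ∏ i : Fin k, (q ^ k - q ^ (i : ℕ))
  rw [show 2 * (k + 2) - 3 = (k + 1) + k by omega, pow_add]
  ring

end Cfsg.Agent.S2572
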