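import Cfsg.Statements.S2574
import Cfsg.Agent.H56.NilCyclic

set_option autoImplicit false
open Cfsg

namespace Cfsg.Agent.S2574

open Matrix in
theorem sympForm_pow {F : Type*} [Field F] {m : ℕ} (u : Matrix.symplecticGroup (Fin m) F)
    (d a : ℕ) (hda : d ≤ a + a)
    (hnil : ((u : Matrix (Fin m ⊕ Fin m) (Fin m ⊕ Fin m) F) - 1) ^ d = 0) (x y : Fin m ⊕ Fin m → F) :
    Cfsg.sympForm m F
      ((((u : Matrix (Fin m ⊕ Fin m) (Fin m ⊕ Fin m) F) - 1) ^ a).mulVecLin x)
      ((((u : Matrix (Fin m ⊕ Fin m) (Fin m ⊕ Fin m) F) - 1) ^ a).mulVecLin y) = 0 := by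
  set A := (u : Matrix (Fin m ⊕ Fin m) (Fin m ⊕ Fin m) F)
  set A' := ((u⁻¹ : Matrix.symplecticGroup (Fin m) F) : Matrix (Fin m ⊕ Fin m) (Fin m ⊕ Fin m) F)
  have hAA : A * A' = 1 := congrArg Subtype.val (mul_inv_cancel u)
  have hA'A : A' * A = 1 := congrArg Subtype.val (inv_mul_cancel u)
  have hJ : Aᵀ * J (Fin m) F * A = J (Fin m) F := SymplecticGroup.mem_iff'.mp u.2
  have h0 : (A - 1)ᵀ * J (Fin m) F = J (Fin m) F * (A' - 1) := by
    have : Aᵀ * J (Fin m) F = J (Fin m) F * A' := by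
      calc Aᵀ * J (Fin m) F = Aᵀ * J (Fin m) F * (A * A') := by rw [hAA, mul_one]
        _ = J (Fin m) F * A' := by rw [← mul_assoc, hJ]
    rw [transpose_sub, transpose_one, sub_mul, one_mul, this, mul_sub, mul_one]
  have h1 : ∀ j : ℕ, ((A - 1) ^ j)ᵀ * J (Fin m) F = J (Fin m) F * (A' - 1) ^ j := by
    intro j
    induction j with
    | zero => simp
    | succ j ih => rw [pow_succ, transpose_mul, mul_assoc, ih, ← mul_assoc, h0, mul_assoc, ← pow_succ']
  have h2 : (A' - 1) = -A' * (A - 1) := by rw [mul_sub, neg_mul, hA'A, mul_one]; abel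
  have hcomm : Commute (-A') (A - 1) := by
    unfold Commute SemiconjBy
    rw [mul_sub, sub_mul, neg_mul, hA'A, mul_one, mul_neg, hAA, one_mul]
  have h3 : ((A - 1) ^ a)ᵀ * J (Fin m) F * (A - 1) ^ a = 0 := by
    rw [h1, mul_assoc, h2, hcomm.mul_pow, mul_assoc, ← pow_add,
      pow_eq_zero_of_le hda hnil, mul_zero, mul_zero]
  simp only [Cfsg.sympForm, mulVecLin_apply, mulVec_mulVec]
  rw [← vecMul_transpose ((A - 1) ^ a), ← dotProduct_mulVec, mulVec_mulVec, ← mul_assoc, h3,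
    zero_mulVec, dotProduct_zero]


/-- A regular unipotent element of the symplectic group has totally isotropic small invariant subspaces: over a finite field, if u ∈ Sp_2m(F) satisfies (u − 1)^(2m) = 0 and rank(u − 1) = 2m − 1, and W is a u-invariant subspace with 2 dim W ≤ 2m, then the alternating form vanishes identically on W. -/
theorem result {F : Type*} [Field F] [Finite F] {m : ℕ} (u : Matrix.symplecticGroup (Fin m) F) (hnil : ((u : Matrix (Fin m ⊕ Fin m) (Fin m ⊕ Fin m) F) - 1) ^ (2 * m) = 0) (hreg : ((u : Matrix (Fin m ⊕ Fin m) (Fin m ⊕ Fin m) F) - 1).rank = 2 * m - 1) (W : Submodule F (Fin m ⊕ Fin m → F)) (hW : ∀ v ∈ W, (u : Matrix (Fin m ⊕ Fin m) (Fin m ⊕ Fin m) F).mulVec v ∈ W) (hdim : 2 * Module.finrank F W ≤ 2 * m) : ∀ v ∈ W, ∀ w ∈ W, Cfsg.sympForm m F v w = 0 := by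
  set N : Matrix (Fin m ⊕ Fin m) (Fin m ⊕ Fin m) F :=
    (u : Matrix (Fin m ⊕ Fin m) (Fin m ⊕ Fin m) F) - 1 with hN
  set k := Module.finrank F W with hk
  have hkm : k ≤ m := by omega
  have hcard : Fintype.card (Fin m ⊕ Fin m) = 2 * m := by simp; omega
  have hker := H56.invariant_eq_ker_matrix _ hcard hnil hreg W hW
  rw [← hN, ← hk] at hker
  set R := LinearMap.range (N ^ (2 * m - k)).mulVecLin with hR
  have hRW : W = R := by
    refine (Submodule.eq_of_le_of_finrank_le ?_ ?_).symm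
    · rw [hker]
      rintro _ ⟨x, rfl⟩
      simp only [LinearMap.mem_ker, Matrix.mulVecLin_apply, Matrix.mulVec_mulVec, ← pow_add]
      rw [show k + (2 * m - k) = 2 * m by omega, hnil, Matrix.zero_mulVec]
    · have h1 := (N ^ (2 * m - k)).mulVecLin.finrank_range_add_finrank_ker
      have h0 : Module.finrank F (LinearMap.ker N.mulVecLin) ≤ 1 :=
        H56.finrank_ker_eq_of_rank N hcard hreg
      have h2 : Module.finrank F (LinearMap.ker (N ^ (2 * m - k)).mulVecLin) ≤ 2 * m - k := by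
        rw [H56.mulVecLin_pow]
        exact H56.finrank_ker_pow_le N.mulVecLin h0 _
      rw [Module.finrank_fintype_fun_eq_card, hcard, ← hR] at h1
      omega
  intro v hv w hw
  rw [hRW] at hv hw
  obtain ⟨x, rfl⟩ := hv
  obtain ⟨y, rfl⟩ := hw
  exact sympForm_pow u (2 * m) (2 * m - k) (by omega) hnil x y

end Cfsg.Agent.S2574
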