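import Cfsg.Statements.S2576
import Cfsg.Agent.Arith.PowerResidue
-- import your own Cfsg.Agent.* helpers here

set_option autoImplicit false
open Cfsg

namespace Cfsg.Agent.S2576

/-- Which involutions of PGL_2m(q) coming from a scalar of the quadratic extension field lie in PSL_2m(q), q odd: let μ generate the Sylow 2-subgroup of the multiplicative group of the field with q elements (μ has order the 2-part of q − 1) and let t be the block-diagonal matrix with m diagonal blocks [[0, 1], [μ, 0]] (so t² is the scalar μ and t is an involution modulo scalars). Then some non-zero scalar multiple of t has determinant one if and only if q ≡ 3 (mod 4) or the 2-part of q − 1 is less than the 2-part of 2m. -/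
theorem result {F : Type*} [Field F] [Fintype F] {q : ℕ} (hF : Fintype.card F = q) (hq : Odd q) {m : ℕ} (hm : 1 ≤ m) (μ : F) (hμ : orderOf μ = 2 ^ padicValNat 2 (q - 1)) : (∃ c : F, c ≠ 0 ∧ (c • Matrix.blockDiagonal (fun _ : Fin m => !![(0 : F), 1; μ, 0])).det = 1) ↔ (q % 4 = 3 ∨ padicValNat 2 (q - 1) < padicValNat 2 (2 * m)) := by
  have hdet : ∀ c : F, (c • Matrix.blockDiagonal (fun _ : Fin m => !![(0 : F), 1; μ, 0])).det
      = (-μ * c ^ 2) ^ m := by
    intro c
    rw [Matrix.det_smul, Matrix.det_blockDiagonal]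
    simp [Matrix.det_fin_two, mul_comm]
    rw [mul_comm m 2, pow_mul, ← neg_mul, mul_pow]
  simp only [hdet]
  have h1q := Arith.card_sub_one_pos hF
  obtain ⟨b, hb, hqb⟩ := Arith.exists_two_pow_mul_odd (show q - 1 ≠ 0 by omega)
  have hv : padicValNat 2 (2 * m) = padicValNat 2 m + 1 := by
    rw [padicValNat.mul (by norm_num) (by omega), padicValNat.self (by norm_num), add_comm]
  have hqmod : q % 2 = 1 := Nat.odd_iff.1 hq
  have ha1 : 1 ≤ padicValNat 2 (q - 1) := one_le_padicValNat_of_dvd (by omega) (by omega)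
  have hμ0 : μ ≠ 0 := fun h => by
    rw [h, orderOf_zero] at hμ; exact pow_ne_zero _ two_ne_zero hμ.symm
  have hμpow : μ ^ (2 ^ (padicValNat 2 (q - 1) - 1)) = -1 := by
    have hsq : (μ ^ (2 ^ (padicValNat 2 (q - 1) - 1))) ^ 2 = 1 := by
      rw [← pow_mul, ← pow_succ, Nat.sub_add_cancel ha1, ← hμ, pow_orderOf_eq_one]
    refine (sq_eq_one_iff.1 hsq).resolve_left fun h => ?_
    have := orderOf_dvd_of_pow_eq_one h
    rw [hμ, Nat.pow_dvd_pow_iff_le_right (by norm_num)] at this
    omega
  rcases (show padicValNat 2 (q - 1) = 1 ∨ 2 ≤ padicValNat 2 (q - 1) by omega) with h | h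
  · refine iff_of_true ⟨1, one_ne_zero, ?_⟩ (Or.inl ?_)
    · rw [h, Nat.sub_self, pow_zero, pow_one] at hμpow
      rw [hμpow, neg_neg]; simp
    · rw [h, pow_one] at hqb
      obtain ⟨k, rfl⟩ := hb
      omega
  · have h4 : 4 ∣ q - 1 := (Nat.pow_dvd_pow 2 h).trans pow_padicValNat_dvd
    rw [or_iff_right (show q % 4 ≠ 3 by omega), hv]
    constructor
    · rintro ⟨c, hc, hcm⟩
      have hy : (-μ * c ^ 2) ^ ((q - 1) / 2) = -1 := by
        have e : (q - 1) / 2 = 2 ^ (padicValNat 2 (q - 1) - 1) * b := by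
          refine Nat.div_eq_of_eq_mul_left (by norm_num) ?_
          conv_lhs => rw [hqb]
          rw [mul_right_comm, ← pow_succ, Nat.sub_add_cancel ha1]
        have hev : Even (2 ^ (padicValNat 2 (q - 1) - 1)) :=
          (Nat.even_pow' (by omega)).2 even_two
        rw [mul_pow, ← pow_mul, Nat.mul_div_cancel' (show 2 ∣ q - 1 by omega), ← hF,
          FiniteField.pow_card_sub_one_eq_one c hc, hF, mul_one, e, pow_mul, hev.neg_pow, hμpow,
          hb.neg_one_pow]
      have hd := Arith.two_pow_dvd_of_pow_eq_one hF hq hy hcm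
      have := (padicValNat_dvd_iff_le (show m ≠ 0 by omega)).1 hd
      omega
    · intro hlt
      refine ⟨1, one_ne_zero, ?_⟩
      obtain ⟨k, hk⟩ : 2 ^ padicValNat 2 (q - 1) ∣ m :=
        (Nat.pow_dvd_pow 2 (by omega)).trans pow_padicValNat_dvd
      have hev : Even (2 ^ padicValNat 2 (q - 1)) := (Nat.even_pow' (by omega)).2 even_two
      rw [one_pow, mul_one, hk, pow_mul, hev.neg_pow, ← hμ, pow_orderOf_eq_one, one_pow]

end Cfsg.Agent.S2576
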