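import Cfsg.Statements.S2577
import Mathlib

set_option autoImplicit false
open Cfsg

namespace Cfsg.Agent.S2577

open Subgroup

variable {F : Type*} [Field F] {n : ℕ}

open Matrix Polynomial

/-- The linear map of an invertible matrix. -/
noncomputable def lin (g : GL (Fin n) F) : (Fin n → F) →ₗ[F] (Fin n → F) := Matrix.toLin' (g : Matrix (Fin n) (Fin n) F)

theorem lin_mul (g h : GL (Fin n) F) : lin (g * h) = (lin g).comp (lin h) := by
  simp [lin, Matrix.toLin'_mul]

theorem lin_one : lin (1 : GL (Fin n) F) = LinearMap.id := by simp [lin]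

theorem lin_inj {g h : GL (Fin n) F} (e : lin g = lin h) : g = h :=
  Units.ext (Matrix.toLin'.injective e)

theorem lin_scalar (c : Fˣ) : lin (GeneralLinearGroup.scalar (Fin n) c) = (c : F) • LinearMap.id := by
  ext v i
  simp [lin, GeneralLinearGroup.scalar, Matrix.mulVec_diagonal]

/-- The invertible matrix of a linear equivalence. -/
noncomputable def ofEquiv (T : (Fin n → F) ≃ₗ[F] (Fin n → F)) : GL (Fin n) F :=
  GeneralLinearGroup.toLin.symm (LinearMap.GeneralLinearGroup.ofLinearEquiv T)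

theorem lin_ofEquiv (T : (Fin n → F) ≃ₗ[F] (Fin n → F)) : lin (ofEquiv T) = T.toLinearMap := by
  have h := congrArg (fun u : LinearMap.GeneralLinearGroup F (Fin n → F) => (u : (Fin n → F) →ₗ[F] (Fin n → F)))
    (GeneralLinearGroup.toLin.apply_symm_apply (LinearMap.GeneralLinearGroup.ofLinearEquiv T))
  exact h

theorem isConj_of_model {W : Type*} [AddCommGroup W] [Module F W] {g h : GL (Fin n) F}
    (e e' : (Fin n → F) ≃ₗ[F] W) (op : W → W) (he : ∀ v, e (lin g v) = op (e v))
    (he' : ∀ v, e' (lin h v) = op (e' v)) : IsConj g h := by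
  refine isConj_iff.2 ⟨ofEquiv (e.trans e'.symm), ?_⟩
  rw [mul_inv_eq_iff_eq_mul]
  apply lin_inj
  rw [lin_mul, lin_mul, lin_ofEquiv]
  refine LinearMap.ext fun v => ?_
  show e'.symm (e (lin g v)) = lin h (e'.symm (e v))
  apply e'.injective
  rw [e'.apply_symm_apply, he, he', e'.apply_symm_apply]

/-- Dimension of the (-1)-eigenspace. -/
noncomputable def negDim (g : GL (Fin n) F) : ℕ := Module.finrank F (LinearMap.ker (lin g + LinearMap.id))

theorem mem_negKer {g : GL (Fin n) F} {v : Fin n → F} :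
    v ∈ LinearMap.ker (lin g + LinearMap.id) ↔ lin g v = -v := by
  simp [LinearMap.mem_ker, add_eq_zero_iff_eq_neg]

theorem negDim_le (g : GL (Fin n) F) : negDim g ≤ n :=
  (Submodule.finrank_le _).trans_eq (Module.finrank_fin_fun F)

theorem model_square (h2 : (2 : F) ≠ 0) {g : GL (Fin n) F} (hg : g * g = 1) :
    ∃ e : (Fin n → F) ≃ₗ[F] (Fin (n - negDim g) → F) × (Fin (negDim g) → F),
      ∀ v, e (lin g v) = ((e v).1, -(e v).2) := by
  have hgg : ∀ v, lin g (lin g v) = v := fun v => by
    have := congrArg (fun k => lin k v) hg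
    simpa [lin_mul, lin_one] using this
  set P := LinearMap.ker (lin g - LinearMap.id) with hP
  set N := LinearMap.ker (lin g + LinearMap.id) with hN
  have hmP : ∀ v, v ∈ P ↔ lin g v = v := fun v => by simp [hP, LinearMap.mem_ker, sub_eq_zero]
  have hc : IsCompl P N := by
    constructor
    · rw [Submodule.disjoint_def]
      intro v h1 h1'
      rw [hmP] at h1
      rw [hN, mem_negKer, h1] at h1'
      have : (2 : F) • v = 0 := by rw [two_smul]; exact eq_neg_iff_add_eq_zero.1 h1'
      exact (smul_eq_zero.1 this).resolve_left h2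
    · rw [codisjoint_iff, eq_top_iff]
      intro v _
      refine Submodule.mem_sup.2 ⟨(2 : F)⁻¹ • (v + lin g v), ?_, (2 : F)⁻¹ • (v - lin g v), ?_, ?_⟩
      · rw [hmP, map_smul, map_add, hgg, add_comm]
      · rw [hN, mem_negKer, map_smul, map_sub, hgg, ← smul_neg, neg_sub]
      · rw [← smul_add, show v + lin g v + (v - lin g v) = (2 : F) • v by rw [two_smul]; abel,
          inv_smul_smul₀ h2]
  have hsum := Submodule.finrank_add_eq_of_isCompl hc
  rw [Module.finrank_fin_fun] at hsum
  have hNd : Module.finrank F N = negDim g := rfl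
  let eP : P ≃ₗ[F] (Fin (n - negDim g) → F) :=
    LinearEquiv.ofFinrankEq P _ (by rw [Module.finrank_fin_fun]; omega)
  let eN : N ≃ₗ[F] (Fin (negDim g) → F) :=
    LinearEquiv.ofFinrankEq N _ (by rw [Module.finrank_fin_fun]; exact hNd)
  let d := Submodule.prodEquivOfIsCompl P N hc
  refine ⟨d.symm.trans (LinearEquiv.prodCongr eP eN), fun v => ?_⟩
  obtain ⟨⟨x, y⟩, rfl⟩ := d.surjective v
  have hxy : lin g (d (x, y)) = d (x, -y) := by
    simp only [d, Submodule.coe_prodEquivOfIsCompl', map_add, NegMemClass.coe_neg]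
    rw [(hmP x).1 x.2, mem_negKer.1 y.2]
  rw [hxy]
  simp [LinearEquiv.prodCongr_apply]

theorem negDim_of_model {a b : ℕ} {g : GL (Fin n) F} (h2 : (2 : F) ≠ 0)
    (e : (Fin n → F) ≃ₗ[F] (Fin a → F) × (Fin b → F))
    (he : ∀ v, e (lin g v) = ((e v).1, -(e v).2)) : negDim g = b := by
  set f := e.symm.toLinearMap.comp (LinearMap.inr F (Fin a → F) (Fin b → F)) with hf
  have hk : LinearMap.ker (lin g + LinearMap.id) = LinearMap.range f := by
    ext v
    rw [mem_negKer, LinearMap.mem_range]
    constructor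
    · intro h
      have h1 := he v
      rw [h, map_neg, Prod.ext_iff] at h1
      refine ⟨(e v).2, e.injective ?_⟩
      have h0 : (e v).1 = 0 := by
        have h3 : (2 : F) • (e v).1 = 0 := by
          rw [two_smul]; exact neg_eq_iff_add_eq_zero.1 h1.1
        exact (smul_eq_zero.1 h3).resolve_left h2
      simp [hf, Prod.ext_iff, h0]
    · rintro ⟨w, rfl⟩
      apply e.injective
      rw [he, map_neg]
      simp [hf]
  rw [negDim, hk, LinearMap.finrank_range_of_inj, Module.finrank_fin_fun]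
  exact e.symm.injective.comp LinearMap.inr_injective

theorem isConj_square (h2 : (2 : F) ≠ 0) {g h : GL (Fin n) F} (hg : g * g = 1) (hh : h * h = 1)
    (hd : negDim g = negDim h) : IsConj g h := by
  obtain ⟨e, he⟩ := model_square h2 hg
  obtain ⟨e', he'⟩ := model_square h2 hh
  generalize negDim g = b at hd e he
  subst hd
  exact isConj_of_model e e' (fun w => (w.1, -w.2)) he he'

theorem negDim_conj {g h : GL (Fin n) F} (hc : IsConj g h) : negDim g = negDim h := by
  obtain ⟨t, ht⟩ := isConj_iff.1 hc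
  let T : (Fin n → F) ≃ₗ[F] (Fin n → F) := LinearEquiv.ofLinear (lin t) (lin t⁻¹)
    (by rw [← lin_mul, mul_inv_cancel, lin_one]) (by rw [← lin_mul, inv_mul_cancel, lin_one])
  have hT : ∀ v, lin h (T v) = T (lin g v) := fun v => by
    show lin h (lin t v) = lin t (lin g v)
    rw [← ht, ← LinearMap.comp_apply, ← lin_mul, inv_mul_cancel_right, lin_mul, LinearMap.comp_apply]
  have hmap : (LinearMap.ker (lin g + LinearMap.id)).map T.toLinearMap
      = LinearMap.ker (lin h + LinearMap.id) := by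
    ext v
    obtain ⟨u, rfl⟩ := T.surjective v
    rw [Submodule.mem_map_equiv, T.symm_apply_apply, mem_negKer, mem_negKer, hT, ← map_neg,
      T.injective.eq_iff]
  rw [negDim, negDim, ← hmap]
  exact (T.finrank_map_eq _).symm

theorem negDim_neg (h2 : (2 : F) ≠ 0) {g : GL (Fin n) F} (hg : g * g = 1) :
    negDim (g * GeneralLinearGroup.scalar (Fin n) (-1)) = n - negDim g := by
  obtain ⟨e, he⟩ := model_square h2 hg
  refine negDim_of_model h2 (e.trans (LinearEquiv.prodComm F _ _)) (a := negDim g) fun v => ?_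
  rw [lin_mul, lin_scalar]
  simp [he]

theorem exists_square_rep (h2 : (2 : F) ≠ 0) {b : ℕ} (hb : b ≤ n) :
    ∃ g : GL (Fin n) F, g * g = 1 ∧ negDim g = b := by
  let e : (Fin n → F) ≃ₗ[F] (Fin (n - b) → F) × (Fin b → F) := LinearEquiv.ofFinrankEq _ _ (by
    rw [Module.finrank_prod, Module.finrank_fin_fun, Module.finrank_fin_fun, Module.finrank_fin_fun]
    omega)
  let T := (e.trans (LinearEquiv.prodCongr (LinearEquiv.refl F _) (LinearEquiv.neg F))).trans e.symm
  refine ⟨ofEquiv T, lin_inj ?_, negDim_of_model h2 e fun v => ?_⟩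
  · rw [lin_mul, lin_ofEquiv, lin_one]
    refine LinearMap.ext fun v => ?_
    apply e.injective
    simp [T, LinearEquiv.prodCongr_apply]
  · rw [lin_ofEquiv]
    simp [T, LinearEquiv.prodCongr_apply]

theorem negDim_pos (h2 : (2 : F) ≠ 0) {g : GL (Fin n) F} (hg : g * g = 1)
    (hnc : g ∉ Subgroup.center (GL (Fin n) F)) : 0 < negDim g ∧ negDim g < n := by
  have key : ∀ k : GL (Fin n) F, k * k = 1 → negDim k = 0 → k = 1 := by
    intro k hk h0
    obtain ⟨e, he⟩ := model_square h2 hk
    apply lin_inj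
    rw [lin_one]
    refine LinearMap.ext fun v => e.injective ?_
    rw [he, LinearMap.id_apply]
    refine Prod.ext rfl (funext fun i => absurd i.isLt (by omega))
  constructor
  · by_contra h
    exact hnc (key g hg (by omega) ▸ one_mem _)
  · by_contra h
    set s := GeneralLinearGroup.scalar (Fin n) (-1 : Fˣ) with hs
    have hsc : s ∈ Subgroup.center (GL (Fin n) F) := by
      rw [GeneralLinearGroup.center_eq_range_scalar]; exact ⟨_, rfl⟩
    have hss : s * s = 1 := by rw [hs, ← map_mul]; simp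
    have hk : g * s * (g * s) = 1 := by
      rw [mul_assoc, ← mul_assoc s, ← Subgroup.mem_center_iff.1 hsc g, ← mul_assoc, ← mul_assoc, hg,
        one_mul, hss]
    have h1 := key (g * s) hk (by rw [negDim_neg h2 hg]; omega)
    exact hnc (mul_eq_one_iff_eq_inv.1 h1 ▸ inv_mem hsc)

theorem irreducible_quad {l : F} (hl : ¬ IsSquare l) : Irreducible (X ^ 2 - C l) :=
  X_pow_sub_C_irreducible_of_prime Nat.prime_two fun b h => hl ⟨b, by rw [← h, sq]⟩

theorem finrank_quad (l : F) : Module.finrank F (AdjoinRoot (X ^ 2 - C l)) = 2 := by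
  rw [(AdjoinRoot.powerBasis (X_pow_sub_C_ne_zero two_pos l)).finrank, AdjoinRoot.powerBasis_dim,
    natDegree_X_pow_sub_C]

theorem model_nonsquare {l : F} [Fact (Irreducible (X ^ 2 - C l))] {g : GL (Fin n) F}
    (hg : ∀ v, lin g (lin g v) = l • v) :
    ∃ m, n = 2 * m ∧ ∃ e : (Fin n → F) ≃ₗ[F] (Fin m → AdjoinRoot (X ^ 2 - C l)),
      ∀ v, e (lin g v) = AdjoinRoot.root (X ^ 2 - C l) • e v := by
  have h0 : ∀ a ∈ Ideal.span {X ^ 2 - C l}, Polynomial.aeval (lin g : Module.End F (Fin n → F)) a = 0 := by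
    intro a ha
    obtain ⟨q, rfl⟩ := Ideal.mem_span_singleton'.1 ha
    rw [map_mul, show Polynomial.aeval (lin g : Module.End F (Fin n → F)) (X ^ 2 - C l) = 0 from ?_, mul_zero]
    refine LinearMap.ext fun v => ?_
    simp [sq, hg, Module.algebraMap_end_apply]
  let φ : AdjoinRoot (X ^ 2 - C l) →ₐ[F] Module.End F (Fin n → F) :=
    Ideal.Quotient.liftₐ _ (Polynomial.aeval (lin g : Module.End F (Fin n → F))) h0
  letI : Module (AdjoinRoot (X ^ 2 - C l)) (Fin n → F) := Module.compHom _ φ.toRingHom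
  haveI : IsScalarTower F (AdjoinRoot (X ^ 2 - C l)) (Fin n → F) :=
    ⟨fun c k v => by
      show φ (c • k) v = c • φ k v
      rw [map_smul]; rfl⟩
  haveI : Module.Finite (AdjoinRoot (X ^ 2 - C l)) (Fin n → F) := Module.Finite.right F _ _
  refine ⟨Module.finrank (AdjoinRoot (X ^ 2 - C l)) (Fin n → F), ?_, ?_⟩
  · have := Module.finrank_mul_finrank F (AdjoinRoot (X ^ 2 - C l)) (Fin n → F)
    rw [finrank_quad, Module.finrank_fin_fun] at this
    omega
  · let eK : (Fin n → F) ≃ₗ[AdjoinRoot (X ^ 2 - C l)] _ :=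
      (Module.finBasis (AdjoinRoot (X ^ 2 - C l)) (Fin n → F)).equivFun
    refine ⟨eK.restrictScalars F, fun v => ?_⟩
    have hv : AdjoinRoot.root (X ^ 2 - C l) • v = lin g v := by
      show φ (AdjoinRoot.root (X ^ 2 - C l)) v = lin g v
      have : φ (AdjoinRoot.root (X ^ 2 - C l)) = Polynomial.aeval (lin g : Module.End F (Fin n → F)) X := rfl
      rw [this, Polynomial.aeval_X]
    rw [← hv]
    exact eK.map_smul _ v

theorem exists_nonsquare_rep {l : F} [Fact (Irreducible (X ^ 2 - C l))] (hl : l ≠ 0) {m : ℕ}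
    (hn : n = 2 * m) : ∃ g : GL (Fin n) F, ∀ v, lin g (lin g v) = l • v := by
  haveI : Module.Finite F (AdjoinRoot (X ^ 2 - C l)) :=
    (AdjoinRoot.powerBasis (X_pow_sub_C_ne_zero two_pos l)).finite
  let e : (Fin n → F) ≃ₗ[F] (Fin m → AdjoinRoot (X ^ 2 - C l)) := LinearEquiv.ofFinrankEq _ _ (by
    rw [Module.finrank_fin_fun, Module.finrank_pi_fintype, Finset.sum_const, finrank_quad,
      Finset.card_univ, Fintype.card_fin, smul_eq_mul]
    omega)
  set r := AdjoinRoot.root (X ^ 2 - C l) with hr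
  have hrr : ∀ w : Fin m → AdjoinRoot (X ^ 2 - C l), r • r • w = l • w := fun w => by
    have h0 := AdjoinRoot.eval₂_root (X ^ 2 - C l)
    simp only [eval₂_sub, eval₂_X_pow, eval₂_C, sub_eq_zero] at h0
    rw [smul_smul, ← sq, hr, h0, ← AdjoinRoot.algebraMap_eq, algebraMap_smul]
  let u : (Fin m → AdjoinRoot (X ^ 2 - C l)) →ₗ[F] (Fin m → AdjoinRoot (X ^ 2 - C l)) :=
    (r • (LinearMap.id : (Fin m → AdjoinRoot (X ^ 2 - C l)) →ₗ[AdjoinRoot (X ^ 2 - C l)] _)).restrictScalars F
  let U : (Fin m → AdjoinRoot (X ^ 2 - C l)) ≃ₗ[F] (Fin m → AdjoinRoot (X ^ 2 - C l)) :=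
    LinearEquiv.ofLinear u (l⁻¹ • u)
      (LinearMap.ext fun w => by
        show r • (l⁻¹ • r • w) = w
        rw [smul_comm r, hrr, inv_smul_smul₀ hl])
      (LinearMap.ext fun w => by
        show l⁻¹ • r • r • w = w
        rw [hrr, inv_smul_smul₀ hl])
  refine ⟨ofEquiv ((e.trans U).trans e.symm), fun v => ?_⟩
  rw [lin_ofEquiv]
  apply e.injective
  simp [U, u, hrr]

theorem isConj_nonsquare {l : F} [Fact (Irreducible (X ^ 2 - C l))] {g h : GL (Fin n) F}
    (hg : ∀ v, lin g (lin g v) = l • v) (hh : ∀ v, lin h (lin h v) = l • v) : IsConj g h := by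
  obtain ⟨m, hm, e, he⟩ := model_nonsquare hg
  obtain ⟨m', hm', e', he'⟩ := model_nonsquare hh
  obtain rfl : m = m' := by omega
  exact isConj_of_model e e' (fun w => AdjoinRoot.root (X ^ 2 - C l) • w) he he'

theorem sq_lin {g : GL (Fin n) F} {l : Fˣ} :
    g * g = GeneralLinearGroup.scalar (Fin n) l ↔ ∀ v, lin g (lin g v) = (l : F) • v := by
  constructor
  · intro h v
    rw [← LinearMap.comp_apply, ← lin_mul, h, lin_scalar]; rfl
  · intro h
    apply lin_inj
    rw [lin_mul, lin_scalar]
    exact LinearMap.ext h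

theorem scalar_mem (c : Fˣ) : GeneralLinearGroup.scalar (Fin n) c ∈ Subgroup.center (GL (Fin n) F) := by
  rw [GeneralLinearGroup.center_eq_range_scalar]; exact ⟨_, rfl⟩

theorem mul_scalar_sq (g : GL (Fin n) F) (c : Fˣ) :
    g * GeneralLinearGroup.scalar (Fin n) c * (g * GeneralLinearGroup.scalar (Fin n) c) =
      g * g * GeneralLinearGroup.scalar (Fin n) (c * c) := by
  rw [map_mul]
  set s := GeneralLinearGroup.scalar (Fin n) c
  have := Subgroup.mem_center_iff.1 (scalar_mem c : s ∈ _) g
  calc g * s * (g * s) = g * (s * g) * s := by group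
    _ = g * (g * s) * s := by rw [← this]
    _ = _ := by group

theorem mk_mul_scalar (g : GL (Fin n) F) (c : Fˣ) :
    (QuotientGroup.mk (g * GeneralLinearGroup.scalar (Fin n) c) : GL (Fin n) F ⧸ Subgroup.center (GL (Fin n) F))
      = QuotientGroup.mk g := by
  rw [QuotientGroup.eq, _root_.mul_inv_rev, mul_assoc, inv_mul_cancel, mul_one]
  exact inv_mem (scalar_mem c)

theorem scalar_inj (hn : 0 < n) {a b : Fˣ}
    (h : GeneralLinearGroup.scalar (Fin n) a = GeneralLinearGroup.scalar (Fin n) b) : a = b := by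
  have := congrArg (fun k : GL (Fin n) F => (k : Matrix (Fin n) (Fin n) F) ⟨0, hn⟩ ⟨0, hn⟩) h
  exact Units.ext (by simpa [GeneralLinearGroup.scalar] using this)

/-- The class in the projective group. -/
def cl (g : GL (Fin n) F) : ConjClasses (GL (Fin n) F ⧸ Subgroup.center (GL (Fin n) F)) :=
  ConjClasses.mk (QuotientGroup.mk g)

theorem cl_eq_iff {g h : GL (Fin n) F} :
    cl g = cl h ↔ ∃ c : Fˣ, IsConj (g * GeneralLinearGroup.scalar (Fin n) c) h := by
  rw [cl, cl, ConjClasses.mk_eq_mk_iff_isConj]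
  constructor
  · intro hc
    obtain ⟨t, ht⟩ := isConj_iff.1 hc
    obtain ⟨t, rfl⟩ := QuotientGroup.mk_surjective t
    rw [← QuotientGroup.mk_inv, ← QuotientGroup.mk_mul, ← QuotientGroup.mk_mul, QuotientGroup.eq,
      GeneralLinearGroup.center_eq_range_scalar] at ht
    obtain ⟨c, hc⟩ := ht
    refine ⟨c, isConj_iff.2 ⟨t, ?_⟩⟩
    have h1 : t * g * t⁻¹ * GeneralLinearGroup.scalar (Fin n) c = h := by rw [hc]; group
    have h2 := Subgroup.mem_center_iff.1 (scalar_mem (n := n) c) t⁻¹
    calc t * (g * GeneralLinearGroup.scalar (Fin n) c) * t⁻¹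
        = t * g * (GeneralLinearGroup.scalar (Fin n) c * t⁻¹) := by group
      _ = t * g * (t⁻¹ * GeneralLinearGroup.scalar (Fin n) c) := by rw [h2]
      _ = h := by rw [← mul_assoc]; exact h1
  · rintro ⟨c, hc⟩
    have := (QuotientGroup.mk' (Subgroup.center (GL (Fin n) F))).map_isConj hc
    simp only [QuotientGroup.mk'_apply, mk_mul_scalar] at this
    exact this

theorem orderOf_mk {g : GL (Fin n) F} (hnc : g ∉ Subgroup.center (GL (Fin n) F)) (l : Fˣ)
    (hg : g * g = GeneralLinearGroup.scalar (Fin n) l) :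
    orderOf (QuotientGroup.mk g : GL (Fin n) F ⧸ Subgroup.center (GL (Fin n) F)) = 2 := by
  refine orderOf_eq_prime ?_ ?_
  · rw [← QuotientGroup.mk_pow, QuotientGroup.eq_one_iff, sq, hg]; exact scalar_mem l
  · rwa [Ne, QuotientGroup.eq_one_iff]

/-- Number of conjugacy classes of involutions in PGL_n(q) for q odd and n ≥ 2: there are ⌊n/2⌋ classes represented by diagonal matrices with i entries −1 (1 ≤ i ≤ n/2) and, when n is even, one more class represented by a block-diagonal matrix of 2 × 2 blocks [[0, 1], [μ, 0]] with μ a non-square (a matrix squaring to a scalar but having no eigenvalue in the field); in all ⌊n/2⌋ + 1 classes if n is even and ⌊n/2⌋ if n is odd. -/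
theorem result {F : Type*} [Field F] [Fintype F] {q : ℕ} (hF : Fintype.card F = q) (hq : Odd q) {n : ℕ} (hn : 2 ≤ n) : Nat.card {C : ConjClasses (GL (Fin n) F ⧸ Subgroup.center (GL (Fin n) F)) // ∃ g : GL (Fin n) F ⧸ Subgroup.center (GL (Fin n) F), ConjClasses.mk g = C ∧ orderOf g = 2} = n / 2 + (if Even n then 1 else 0) := by
  classical
  have hchar : ringChar F ≠ 2 := fun h => by
    have := (FiniteField.even_card_iff_char_two (F := F)).1 h
    rw [hF] at this; obtain ⟨k, hk⟩ := hq; omega
  have h2 : (2 : F) ≠ 0 := Ring.two_ne_zero hchar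
  have hn0 : 0 < n := by omega
  obtain ⟨l0, hl0⟩ := FiniteField.exists_nonsquare hchar
  have hl0n : l0 ≠ 0 := fun h => hl0 (h ▸ IsSquare.zero)
  haveI : Fact (Irreducible (Polynomial.X ^ 2 - Polynomial.C l0)) := ⟨irreducible_quad hl0⟩
  set L0 : Fˣ := Units.mk0 l0 hl0n with hL0
  have hA : ∀ i : Fin (n / 2), ∃ g : GL (Fin n) F, g * g = 1 ∧ negDim g = i.1 + 1 := fun i =>
    exists_square_rep h2 (by omega)
  choose A hA1 hA2 using hA
  have hB : ∀ _j : Fin (if Even n then 1 else 0), ∃ g : GL (Fin n) F,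
      g * g = Matrix.GeneralLinearGroup.scalar (Fin n) L0 := by
    intro j
    have hev : Even n := by
      by_contra h
      have hj := lt_of_lt_of_eq j.isLt (if_neg h)
      omega
    obtain ⟨m, hm⟩ := hev
    obtain ⟨g, hg⟩ := exists_nonsquare_rep (n := n) (l := l0) hl0n (m := m) (by omega)
    exact ⟨g, sq_lin.2 hg⟩
  choose B hB' using hB
  have hone : Matrix.GeneralLinearGroup.scalar (Fin n) (1 : Fˣ) = (1 : GL (Fin n) F) := map_one _
  have hncA : ∀ i, A i ∉ Subgroup.center (GL (Fin n) F) := by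
    intro i hc
    rw [Matrix.GeneralLinearGroup.center_eq_range_scalar] at hc
    obtain ⟨c, hc⟩ := hc
    have h1 := hA1 i
    rw [← hc, ← map_mul, ← hone] at h1
    have hcc : (c : F) * c = 1 := congrArg Units.val (scalar_inj hn0 h1)
    have hi2 := hA2 i
    have hz : negDim (1 : GL (Fin n) F) = 0 := by
      rw [negDim, lin_one, Submodule.finrank_eq_zero, LinearMap.ker_eq_bot']
      intro v hv
      have h' : (2 : F) • v = 0 := by rw [two_smul]; exact hv
      exact (smul_eq_zero.1 h').resolve_left h2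
    rcases mul_self_eq_one_iff.1 hcc with h | h
    · rw [← hc, show c = 1 from Units.ext h, hone, hz] at hi2
      omega
    · have hn1 := negDim_neg (n := n) (g := 1) h2 (one_mul 1)
      rw [one_mul, hz] at hn1
      rw [← hc, show c = -1 from Units.ext (by rw [h]; simp), hn1] at hi2
      have := i.isLt
      omega
  have hncB : ∀ j, B j ∉ Subgroup.center (GL (Fin n) F) := by
    intro j hc
    rw [Matrix.GeneralLinearGroup.center_eq_range_scalar] at hc
    obtain ⟨c, hc⟩ := hc
    have h1 := hB' j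
    rw [← hc, ← map_mul] at h1
    exact hl0 ⟨c, (congrArg Units.val (scalar_inj hn0 h1)).symm⟩
  let rep : Fin (n / 2) ⊕ Fin (if Even n then 1 else 0) → GL (Fin n) F := Sum.elim A B
  let f : Fin (n / 2) ⊕ Fin (if Even n then 1 else 0) →
      {C : ConjClasses (GL (Fin n) F ⧸ Subgroup.center (GL (Fin n) F)) //
        ∃ g : GL (Fin n) F ⧸ Subgroup.center (GL (Fin n) F), ConjClasses.mk g = C ∧ orderOf g = 2} :=
    fun x => ⟨cl (rep x), QuotientGroup.mk (rep x), rfl, by
      cases x with
      | inl i => exact orderOf_mk (hncA i) 1 (by rw [hone]; exact hA1 i)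
      | inr j => exact orderOf_mk (hncB j) L0 (hB' j)⟩
  have hsqconj : ∀ {g h : GL (Fin n) F} {c a b : Fˣ},
      g * g = Matrix.GeneralLinearGroup.scalar (Fin n) a → h * h = Matrix.GeneralLinearGroup.scalar (Fin n) b →
      IsConj (g * Matrix.GeneralLinearGroup.scalar (Fin n) c) h → a * (c * c) = b := by
    intro g h c a b hg hh hc
    obtain ⟨t, ht⟩ := isConj_iff.1 hc
    have h1 : h * h = t * (g * Matrix.GeneralLinearGroup.scalar (Fin n) c *
        (g * Matrix.GeneralLinearGroup.scalar (Fin n) c)) * t⁻¹ := by rw [← ht]; group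
    rw [mul_scalar_sq, hg, ← map_mul, Subgroup.mem_center_iff.1 (scalar_mem _) t,
      mul_inv_cancel_right, hh] at h1
    exact (scalar_inj hn0 h1).symm
  have hsucc : ∀ {i j : Fin (n / 2)}, cl (A i) = cl (A j) → i = j := by
    intro i j h
    obtain ⟨c, hc⟩ := cl_eq_iff.1 h
    have hcc := hsqconj (a := 1) (b := 1) (by rw [hone]; exact hA1 i) (by rw [hone]; exact hA1 j) hc
    rw [one_mul] at hcc
    have hd := negDim_conj hc
    rw [hA2 j] at hd
    have hi := i.isLt
    have hj := j.isLt
    rcases mul_self_eq_one_iff.1 (congrArg Units.val hcc) with h' | h'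
    · rw [show c = 1 from Units.ext h', hone, mul_one, hA2 i] at hd
      exact Fin.ext (by omega)
    · rw [show c = -1 from Units.ext (by rw [h']; simp), negDim_neg h2 (hA1 i), hA2 i] at hd
      exact Fin.ext (by omega)
  have hinj : Function.Injective f := by
    intro x y hxy
    have h : cl (rep x) = cl (rep y) := congrArg Subtype.val hxy
    rcases x with i | j <;> rcases y with i' | j'
    · exact congrArg _ (hsucc h)
    · exfalso
      obtain ⟨c, hc⟩ := cl_eq_iff.1 h
      have := hsqconj (a := 1) (b := L0) (by rw [hone]; exact hA1 i) (hB' j') hc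
      rw [one_mul] at this
      exact hl0 ⟨c, (congrArg Units.val this).symm⟩
    · exfalso
      obtain ⟨c, hc⟩ := cl_eq_iff.1 h.symm
      have := hsqconj (a := 1) (b := L0) (by rw [hone]; exact hA1 i') (hB' j) hc
      rw [one_mul] at this
      exact hl0 ⟨c, (congrArg Units.val this).symm⟩
    · refine congrArg _ (Fin.ext ?_)
      have h1 := j.isLt
      have h3 := j'.isLt
      split_ifs at h1 h3 <;> omega
  have hsurj : Function.Surjective f := by
    rintro ⟨C, q', rfl, hq'⟩
    obtain ⟨g, rfl⟩ := QuotientGroup.mk_surjective q'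
    have hg1 : g ∉ Subgroup.center (GL (Fin n) F) := by
      intro hc
      rw [(QuotientGroup.eq_one_iff g).2 hc, orderOf_one] at hq'
      omega
    have hg2 : g * g ∈ Subgroup.center (GL (Fin n) F) := by
      rw [← QuotientGroup.eq_one_iff, ← sq, QuotientGroup.mk_pow, ← hq', pow_orderOf_eq_one]
    rw [Matrix.GeneralLinearGroup.center_eq_range_scalar] at hg2
    obtain ⟨a, ha⟩ := hg2
    by_cases hsq : IsSquare (a : F)
    · obtain ⟨d, hd⟩ := hsq
      have hd0 : d ≠ 0 := fun h => a.ne_zero (by rw [hd, h, mul_zero])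
      set D : Fˣ := Units.mk0 d hd0
      set g1 := g * Matrix.GeneralLinearGroup.scalar (Fin n) D⁻¹ with hg1d
      have hg11 : g1 * g1 = 1 := by
        rw [hg1d, mul_scalar_sq, ← ha, ← map_mul, show a * (D⁻¹ * D⁻¹) = 1 by
          rw [show a = D * D from Units.ext hd]; group, hone]
      have hcl : cl g1 = cl g := congrArg ConjClasses.mk (mk_mul_scalar g _)
      have hnc1 : g1 ∉ Subgroup.center (GL (Fin n) F) := fun h =>
        hg1 ((Subgroup.mul_mem_cancel_right _ (scalar_mem _)).1 h)
      obtain ⟨hb1, hb2⟩ := negDim_pos h2 hg11 hnc1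
      by_cases hb : negDim g1 ≤ n / 2
      · refine ⟨Sum.inl ⟨negDim g1 - 1, by omega⟩, Subtype.ext ?_⟩
        show cl (A _) = cl g
        rw [← hcl]
        have hk := isConj_square h2 (hA1 ⟨negDim g1 - 1, by omega⟩) hg11 (by rw [hA2]; simp; omega)
        exact cl_eq_iff.2 ⟨1, by rwa [hone, mul_one]⟩
      · refine ⟨Sum.inl ⟨n - negDim g1 - 1, by omega⟩, Subtype.ext ?_⟩
        show cl (A _) = cl g
        have hcl2 : cl (g1 * Matrix.GeneralLinearGroup.scalar (Fin n) (-1)) = cl g := by
          rw [← hcl]; exact congrArg ConjClasses.mk (mk_mul_scalar g1 _)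
        rw [← hcl2]
        have hk := isConj_square h2 (hA1 ⟨n - negDim g1 - 1, by omega⟩)
          (h := g1 * Matrix.GeneralLinearGroup.scalar (Fin n) (-1))
          (by rw [mul_scalar_sq, hg11, one_mul, ← hone]; congr 1; simp)
          (by rw [hA2, negDim_neg h2 hg11]; simp; omega)
        exact cl_eq_iff.2 ⟨1, by rwa [hone, mul_one]⟩
    · have hr : IsSquare (l0 / (a : F)) := by
        have e1 := (quadraticChar_neg_one_iff_not_isSquare (F := F)).2 hl0
        have e2 := (quadraticChar_neg_one_iff_not_isSquare (F := F)).2 hsq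
        have e3 : quadraticChar F (l0 / (a : F)) * quadraticChar F (a : F) = quadraticChar F l0 := by
          rw [← map_mul, div_mul_cancel₀ _ a.ne_zero]
        rw [e1, e2] at e3
        exact (quadraticChar_one_iff_isSquare (div_ne_zero hl0n a.ne_zero)).1 (by linarith)
      obtain ⟨d, hd⟩ := hr
      have hd0 : d ≠ 0 := fun h => (div_ne_zero hl0n a.ne_zero) (by rw [hd, h, mul_zero])
      set D : Fˣ := Units.mk0 d hd0
      set g1 := g * Matrix.GeneralLinearGroup.scalar (Fin n) D with hg1d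
      have hg11 : g1 * g1 = Matrix.GeneralLinearGroup.scalar (Fin n) L0 := by
        rw [hg1d, mul_scalar_sq, ← ha, ← map_mul]
        refine congrArg _ (Units.ext ?_)
        show (a : F) * (d * d) = l0
        rw [← hd, mul_comm, div_mul_cancel₀ _ a.ne_zero]
      obtain ⟨m, hm, -⟩ := model_nonsquare (l := l0) (sq_lin.1 hg11)
      have hev : Even n := ⟨m, by omega⟩
      refine ⟨Sum.inr ⟨0, by rw [if_pos hev]; omega⟩, Subtype.ext ?_⟩
      show cl (B _) = cl g
      rw [show cl g = cl g1 from (congrArg ConjClasses.mk (mk_mul_scalar g D)).symm]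
      have hk := isConj_nonsquare (l := l0)
        (sq_lin.1 (hB' ⟨0, by rw [if_pos hev]; omega⟩)) (sq_lin.1 hg11)
      exact cl_eq_iff.2 ⟨1, by rwa [hone, mul_one]⟩
  rw [← Nat.card_eq_of_bijective f ⟨hinj, hsurj⟩, Nat.card_sum, Nat.card_fin, Nat.card_fin]

end Cfsg.Agent.S2577
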