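import Cfsg.Statements.S2578
import Cfsg.Agent.H56.Regular
import Cfsg.Agent.Linear.Generation

set_option autoImplicit false
open Cfsg

namespace Cfsg.Agent.S2578

/-- Regular unipotent classes of SL_n(q): for n ≥ 2 over the field with q elements, the matrices u of determinant one with (u − 1)^n = 0 and rank(u − 1) = n − 1 form a single GL_n(q)-class which splits into exactly gcd(n, q − 1) conjugacy classes of SL_n(q). -/
theorem result {F : Type*} [Field F] [Fintype F] {q : ℕ} (hF : Fintype.card F = q) {n : ℕ} (hn : 2 ≤ n) : Nat.card {C : ConjClasses (Matrix.SpecialLinearGroup (Fin n) F) // ∃ u : Matrix.SpecialLinearGroup (Fin n) F, ConjClasses.mk u = C ∧ ((u : Matrix (Fin n) (Fin n) F) - 1) ^ n = 0 ∧ ((u : Matrix (Fin n) (Fin n) F) - 1).rank = n - 1} = Nat.gcd n (q - 1) := by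
  classical
  obtain ⟨k, rfl⟩ : ∃ k, n = k + 1 := ⟨n - 1, by omega⟩
  let ι := Fin (k + 1)
  let N₀ : Matrix ι ι F := H56.Regular.shift k
  let v₀ : ι → F := Pi.single 0 1
  have hι : Fintype.card ι = k + 1 := Fintype.card_fin _
  have hnil : N₀ ^ (k + 1) = 0 := H56.Regular.shift_nil
  have hv : (N₀ ^ k).mulVec v₀ ≠ 0 := H56.Regular.shift_top
  let d : Fˣ → GL ι F := fun a => Linear.diagGL (Pi.mulSingle 0 a)
  have hd : ∀ a, ((d a : GL ι F) : Matrix ι ι F).det = a := by
    intro a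
    rw [Linear.diagGL_coe, Matrix.det_diagonal, Finset.prod_eq_single 0
      (fun i _ hi => by simp [Pi.mulSingle_eq_of_ne hi]) (by simp)]
    simp
  have hdet1 : ∀ g : GL ι F, ((g : Matrix ι ι F) * (1 + N₀) * ((g⁻¹ : GL ι F) : Matrix ι ι F)).det = 1 := by
    intro g
    rw [Matrix.det_units_conj]
    have h := H56.Regular.det_smul_one_add (M := N₀) ⟨k + 1, hnil⟩ (1 : F)
    simpa using h
  let uOf : GL ι F → Matrix.SpecialLinearGroup ι F := fun g => ⟨_, hdet1 g⟩
  have huOf : ∀ g : GL ι F, ((uOf g : Matrix ι ι F)) - 1 = (g : Matrix ι ι F) * N₀ * ((g⁻¹ : GL ι F) : Matrix ι ι F) := by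
    intro g
    show (g : Matrix ι ι F) * (1 + N₀) * ((g⁻¹ : GL ι F) : Matrix ι ι F) - 1 = _
    rw [mul_add, add_mul, mul_one, Units.mul_inv, add_sub_cancel_left]
  let P : ConjClasses (Matrix.SpecialLinearGroup ι F) → Prop := fun C =>
    ∃ u : Matrix.SpecialLinearGroup ι F, ConjClasses.mk u = C ∧ ((u : Matrix ι ι F) - 1) ^ (k + 1) = 0 ∧
      ((u : Matrix ι ι F) - 1).rank = k + 1 - 1
  have hP : ∀ g : GL ι F, P (ConjClasses.mk (uOf g)) := by
    intro g
    have hN : ((uOf g : Matrix ι ι F) - 1) ^ (k + 1) = 0 := by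
      rw [huOf, Units.conj_pow, hnil, mul_zero, zero_mul]
    refine ⟨uOf g, rfl, hN, ?_⟩
    rw [Nat.add_sub_cancel]
    refine H56.Regular.rank_eq _ ((g : Matrix ι ι F).mulVec v₀) hι hN ?_
    rw [huOf, Units.conj_pow, Matrix.mulVec_mulVec, mul_assoc, Units.inv_mul, mul_one, ← Matrix.mulVec_mulVec]
    intro h0
    apply hv
    have h := congrArg ((g⁻¹ : GL ι F) : Matrix ι ι F).mulVec h0
    rwa [Matrix.mulVec_mulVec, Units.inv_mul, Matrix.one_mulVec, Matrix.mulVec_zero] at h
  let R : Subgroup Fˣ := (powMonoidHom (k + 1) : Fˣ →* Fˣ).range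
  have hsame : ∀ (g h : GL ι F) (s : Matrix.SpecialLinearGroup ι F), s * uOf g * s⁻¹ = uOf h →
      (Matrix.GeneralLinearGroup.det h)⁻¹ * Matrix.GeneralLinearGroup.det g ∈ R := by
    intro g h s e
    set c : GL ι F := h⁻¹ * Matrix.SpecialLinearGroup.toGL s * g with hc
    have hcm : Commute (c : Matrix ι ι F) N₀ := by
      have e1 : (Matrix.SpecialLinearGroup.toGL s) * Matrix.SpecialLinearGroup.toGL (uOf g) *
          (Matrix.SpecialLinearGroup.toGL s)⁻¹ = Matrix.SpecialLinearGroup.toGL (uOf h) := by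
        rw [← map_inv, ← map_mul, ← map_mul, e]
      have e2 := congrArg (fun x : GL ι F => (x : Matrix ι ι F)) (mul_inv_eq_iff_eq_mul.mp e1)
      change (Matrix.SpecialLinearGroup.toGL s : Matrix ι ι F) * ((g : Matrix ι ι F) * (1 + N₀) * ((g⁻¹ : GL ι F) : Matrix ι ι F)) =
        (h : Matrix ι ι F) * (1 + N₀) * ((h⁻¹ : GL ι F) : Matrix ι ι F) * (Matrix.SpecialLinearGroup.toGL s : Matrix ι ι F) at e2
      show (c : Matrix ι ι F) * N₀ = N₀ * (c : Matrix ι ι F)
      have e3 := congrArg (fun x => ((h⁻¹ : GL ι F) : Matrix ι ι F) * x * (g : Matrix ι ι F)) e2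
      have e4 : (c : Matrix ι ι F) * (1 + N₀) = (1 + N₀) * (c : Matrix ι ι F) := by
        simp only [hc, Units.val_mul]
        simpa [mul_assoc] using e3
      simpa [mul_add, add_mul] using e4
    obtain ⟨a, ha⟩ := H56.Regular.commutant N₀ v₀ hι hnil hv hcm
    have hdc : (c : Matrix ι ι F).det = a 0 ^ (k + 1) := by rw [← ha, H56.Regular.det_poly _ hnil, hι]
    have ha0 : a 0 ≠ 0 := by
      intro h0
      rw [h0, zero_pow (by omega)] at hdc
      exact (Matrix.GeneralLinearGroup.det c).ne_zero hdc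
    refine ⟨Units.mk0 _ ha0, ?_⟩
    have hs : Matrix.GeneralLinearGroup.det (Matrix.SpecialLinearGroup.toGL s) = 1 := Units.ext s.det_coe
    have hdc' : Matrix.GeneralLinearGroup.det c = Units.mk0 _ ha0 ^ (k + 1) := Units.ext (by
      rw [Units.val_pow_eq_pow_val, Units.val_mk0]; exact hdc)
    rw [hc, map_mul, map_mul, map_inv, hs, mul_one] at hdc'
    rw [powMonoidHom_apply, ← hdc']
  have hscal : ∀ (g : GL ι F) (r : Fˣ), uOf (g * Matrix.GeneralLinearGroup.scalar ι r) = uOf g := by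
    intro g r
    refine Subtype.ext ?_
    show ((g * Matrix.GeneralLinearGroup.scalar ι r : GL ι F) : Matrix ι ι F) * (1 + N₀) *
      (((g * Matrix.GeneralLinearGroup.scalar ι r)⁻¹ : GL ι F) : Matrix ι ι F) = _
    have hcs : (Matrix.GeneralLinearGroup.scalar ι r : Matrix ι ι F) * (1 + N₀) =
        (1 + N₀) * (Matrix.GeneralLinearGroup.scalar ι r : Matrix ι ι F) :=
      (Matrix.scalar_commute (r : F) (fun _ => Commute.all _ _) (1 + N₀)).eq
    rw [_root_.mul_inv_rev, Units.val_mul, Units.val_mul, mul_assoc (g : Matrix ι ι F), hcs]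
    simp only [← mul_assoc]
    rw [mul_assoc (_ * (1 + N₀)), Units.mul_inv, mul_one]
  have hconj : ∀ g h : GL ι F, Matrix.GeneralLinearGroup.det g = Matrix.GeneralLinearGroup.det h →
      IsConj (uOf g) (uOf h) := by
    intro g h e
    have hs : ((h * g⁻¹ : GL ι F) : Matrix ι ι F).det = 1 := by
      have hd : Matrix.GeneralLinearGroup.det (h * g⁻¹) = 1 := by rw [map_mul, map_inv, e, mul_inv_cancel]
      exact congrArg Units.val hd
    refine isConj_iff.mpr ⟨⟨_, hs⟩, mul_inv_eq_iff_eq_mul.mpr (Subtype.ext ?_)⟩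
    show ((h * g⁻¹ : GL ι F) : Matrix ι ι F) * ((g : Matrix ι ι F) * (1 + N₀) * ((g⁻¹ : GL ι F) : Matrix ι ι F)) =
      (h : Matrix ι ι F) * (1 + N₀) * ((h⁻¹ : GL ι F) : Matrix ι ι F) * ((h * g⁻¹ : GL ι F) : Matrix ι ι F)
    simp [mul_assoc]
  let ψ : Fˣ ⧸ R → {C // P C} := Quotient.lift (fun a => ⟨ConjClasses.mk (uOf (d a)), hP _⟩) (fun a b hab => by
    obtain ⟨r, hr⟩ := QuotientGroup.leftRel_apply.mp hab
    refine Subtype.ext (ConjClasses.mk_eq_mk_iff_isConj.mpr ?_)
    rw [← hscal (d a) r]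
    refine hconj _ _ (Units.ext ?_)
    show ((d a * Matrix.GeneralLinearGroup.scalar ι r : GL ι F) : Matrix ι ι F).det = (d b : Matrix ι ι F).det
    rw [Units.val_mul, Matrix.det_mul, hd, hd, Matrix.GeneralLinearGroup.coe_scalar, Matrix.scalar_apply, Matrix.det_diagonal,
      Finset.prod_const, Finset.card_univ, hι]
    rw [powMonoidHom_apply] at hr
    have h1 : a * r ^ (k + 1) = b := by rw [hr, mul_inv_cancel_left]
    simpa using congrArg Units.val h1)
  have hψ : Function.Bijective ψ := by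
    constructor
    · rintro ⟨a⟩ ⟨b⟩ hab
      obtain ⟨s, hs⟩ := isConj_iff.mp (ConjClasses.mk_eq_mk_iff_isConj.mp (congrArg Subtype.val hab))
      have h := hsame (d a) (d b) s hs
      have ea : Matrix.GeneralLinearGroup.det (d a) = a := Units.ext (hd a)
      have eb : Matrix.GeneralLinearGroup.det (d b) = b := Units.ext (hd b)
      rw [ea, eb] at h
      exact QuotientGroup.eq.mpr (by simpa [mul_comm] using inv_mem h)
    · rintro ⟨C, u, rfl, hnilu, hrk⟩
      obtain ⟨w, hw⟩ := H56.Regular.exists_vec _ hι hnilu (hrk.trans (Nat.add_sub_cancel k 1))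
      obtain ⟨g, hg⟩ := H56.Regular.exists_similar N₀ v₀ hι hnil hv _ w hnilu hw
      refine ⟨QuotientGroup.mk (Matrix.GeneralLinearGroup.det g), Subtype.ext ?_⟩
      refine ConjClasses.mk_eq_mk_iff_isConj.mpr ?_
      have hu : uOf g = u := by
        have h1 : (uOf g : Matrix ι ι F) - 1 = (u : Matrix ι ι F) - 1 := by
          rw [huOf, hg, mul_assoc, Units.mul_inv, mul_one]
        exact Subtype.ext (sub_left_inj.mp h1)
      rw [← hu]
      exact hconj _ _ (Units.ext (hd _))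
  have hcard : Nat.card (Fˣ ⧸ R) = Nat.gcd (k + 1) (q - 1) := by
    rw [← Subgroup.index_eq_card]
    have h := Subgroup.card_mul_index R
    have hc : Nat.card Fˣ = q - 1 := by rw [Nat.card_units, Nat.card_eq_fintype_card, hF]
    rw [IsCyclic.card_powMonoidHom_range, hc] at h
    have hpos : 0 < q - 1 := by have := Fintype.one_lt_card (α := F); omega
    have hdv := Nat.gcd_dvd_left (q - 1) (k + 1)
    have h2 := Nat.div_mul_cancel hdv
    have hq : 0 < (q - 1) / (q - 1).gcd (k + 1) :=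
      Nat.div_pos (Nat.le_of_dvd hpos hdv) (Nat.gcd_pos_of_pos_left _ hpos)
    rw [Nat.gcd_comm]
    exact Nat.eq_of_mul_eq_mul_left hq (h.trans h2.symm)
  rw [← hcard]
  exact (Nat.card_eq_of_bijective ψ hψ).symm

end Cfsg.Agent.S2578
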