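import Cfsg.Statements.S2579
import Cfsg.Agent.H34.Transvection
-- import your own Cfsg.Agent.* helpers here

set_option autoImplicit false
open Cfsg

namespace Cfsg.Agent.S2579

/-- In SL_n(F) with n ≥ 3, over a finite field F, any two transvections (matrices t with t − 1 of rank one and square zero) are conjugate by an element of SL_n(F). -/
theorem result {F : Type*} [Field F] [Finite F] {n : ℕ} (hn : 3 ≤ n) (s t : Matrix.SpecialLinearGroup (Fin n) F) (hs : Cfsg.IsTransvection (s : Matrix (Fin n) (Fin n) F)) (ht : Cfsg.IsTransvection (t : Matrix (Fin n) (Fin n) F)) : IsConj s t := by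
  classical
  obtain ⟨k, rfl⟩ : ∃ k, n = k + 3 := ⟨n - 3, by omega⟩
  have hne : ∀ u : Matrix.SpecialLinearGroup (Fin (k + 3)) F,
      Cfsg.IsTransvection (u : Matrix (Fin (k + 3)) (Fin (k + 3)) F) →
      (u : Matrix (Fin (k + 3)) (Fin (k + 3)) F) ≠ 1 := by
    intro u hu h
    have := hu.1
    simp [h] at this
  obtain ⟨g1, v, hv0, hv, h1⟩ := Cfsg.Agent.H34.conj_to_first_column (n := k + 1) s hs.1.le (hne s hs) hs.2
  obtain ⟨g2, w, hw0, hw, h2⟩ := Cfsg.Agent.H34.conj_to_first_column (n := k + 1) t ht.1.le (hne t ht) ht.2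
  -- an element of `SL (k+2)` carrying the tail of `v` to the tail of `w`
  have tail : ∀ u : Fin (k + 3) → F, u 0 = 0 → u ≠ 0 → (fun i : Fin (k + 2) => u i.succ) ≠ 0 := by
    intro u hu0 hu h
    apply hu
    funext i
    induction i using Fin.cases with
    | zero => exact hu0
    | succ i => exact congrFun h i
  obtain ⟨Av, hAv⟩ := Cfsg.Agent.H34.exists_sl_first_row _ (tail v hv0 hv)
  obtain ⟨Aw, hAw⟩ := Cfsg.Agent.H34.exists_sl_first_row _ (tail w hw0 hw)
  let A : Matrix.SpecialLinearGroup (Fin (k + 2)) F := Aw.transpose * Av.transpose⁻¹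
  have hA : (A : Matrix (Fin (k + 2)) (Fin (k + 2)) F).mulVec (fun i => v i.succ) =
      fun i => w i.succ := by
    have e1 : ∀ M : Matrix.SpecialLinearGroup (Fin (k + 2)) F,
        (M.transpose : Matrix (Fin (k + 2)) (Fin (k + 2)) F).mulVec (Pi.single 0 1) =
          (M : Matrix (Fin (k + 2)) (Fin (k + 2)) F) 0 := by
      intro M
      funext i
      simp [Matrix.SpecialLinearGroup.coe_transpose]
    rw [← hAv, ← hAw, ← e1, ← e1, Matrix.mulVec_mulVec, ← Matrix.SpecialLinearGroup.coe_mul]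
    simp [A, mul_assoc]
  let Gm : Matrix (Fin (k + 3)) (Fin (k + 3)) F := Matrix.of fun i j =>
    Fin.cases (Fin.cases (1 : F) (fun _ => 0) j)
      (fun i' => Fin.cases (0 : F) (fun j' => (A : Matrix (Fin (k + 2)) (Fin (k + 2)) F) i' j') j) i
  have hGdet : Gm.det = 1 := by
    rw [Matrix.det_succ_row_zero, Fin.sum_univ_succ, Finset.sum_eq_zero (fun i _ => by simp [Gm])]
    have hsub : Gm.submatrix Fin.succ (Fin.succAbove 0) =
        (A : Matrix (Fin (k + 2)) (Fin (k + 2)) F) := by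
      ext i j; simp [Gm]
    rw [hsub, A.2]
    simp [Gm]
  let G : Matrix.SpecialLinearGroup (Fin (k + 3)) F := ⟨Gm, hGdet⟩
  have hGv : Gm.mulVec v = w := by
    funext i
    induction i using Fin.cases with
    | zero => simp [Gm, Matrix.mulVec, dotProduct, Fin.sum_univ_succ, hv0, hw0]
    | succ i =>
      rw [show w i.succ = (A : Matrix (Fin (k + 2)) (Fin (k + 2)) F).mulVec (fun i => v i.succ) i from
        (congrFun hA i).symm]
      simp [Gm, Matrix.mulVec, dotProduct, Fin.sum_univ_succ, hv0]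
  have hrow : Matrix.vecMul (Pi.single (0 : Fin (k + 3)) (1 : F)) Gm = Pi.single 0 1 := by
    rw [Matrix.single_one_vecMul]
    funext j
    induction j using Fin.cases <;> simp [Gm]
  have hc : G * (g1⁻¹ * s * g1) = (g2⁻¹ * t * g2) * G := by
    apply Subtype.ext
    show Gm * ((g1⁻¹ * s * g1 : Matrix.SpecialLinearGroup (Fin (k + 3)) F) : Matrix (Fin (k + 3)) (Fin (k + 3)) F) =
      ((g2⁻¹ * t * g2 : Matrix.SpecialLinearGroup (Fin (k + 3)) F) : Matrix (Fin (k + 3)) (Fin (k + 3)) F) * Gm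
    rw [show ((g1⁻¹ * s * g1 : Matrix.SpecialLinearGroup (Fin (k + 3)) F) : Matrix (Fin (k + 3)) (Fin (k + 3)) F) = _ from h1,
      show ((g2⁻¹ * t * g2 : Matrix.SpecialLinearGroup (Fin (k + 3)) F) : Matrix (Fin (k + 3)) (Fin (k + 3)) F) = _ from h2,
      mul_add, add_mul, mul_one, one_mul, Matrix.mul_vecMulVec, Matrix.vecMulVec_mul]
    rw [hrow, hGv]
  refine isConj_iff.2 ⟨g2 * G * g1⁻¹, ?_⟩
  have : G * (g1⁻¹ * s * g1) * G⁻¹ = g2⁻¹ * t * g2 := by rw [hc, mul_inv_cancel_right]
  have e := congrArg (fun x => g2 * x * g2⁻¹) this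
  simp only [mul_assoc, mul_inv_rev, inv_inv, mul_inv_cancel, mul_one, mul_inv_cancel_left] at e ⊢
  exact e

end Cfsg.Agent.S2579
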