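import Cfsg.Statements.S2589
import Cfsg.Agent.H54.SympSemisimple
-- import your own Cfsg.Agent.* helpers here

set_option autoImplicit false
open Cfsg

namespace Cfsg.Agent.S2589

/-- Two semisimple elements of the finite symplectic group Sp_2m(F) (elements of order prime to the characteristic) are conjugate in Sp_2m(F) if and only if they are conjugate in GL_2m(F). -/
theorem result {F : Type*} [Field F] [Fintype F] {p : ℕ} [Fact p.Prime] [CharP F p] {m : ℕ} (A B : Matrix.symplecticGroup (Fin m) F) (hA : (orderOf A).Coprime p) : IsConj A B ↔ IsConj (A : Matrix (Fin m ⊕ Fin m) (Fin m ⊕ Fin m) F) (B : Matrix (Fin m ⊕ Fin m) (Fin m ⊕ Fin m) F) := by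
  refine ⟨fun h => ?_, fun h => ?_⟩
  · exact MonoidHom.map_isConj (Matrix.symplecticGroup (Fin m) F).subtype h
  · obtain ⟨c, hc⟩ := h
    have hpow : ∀ k : ℕ, ((c : Matrix (Fin m ⊕ Fin m) (Fin m ⊕ Fin m) F) *
        (A : Matrix (Fin m ⊕ Fin m) (Fin m ⊕ Fin m) F) ^ k) =
        (B : Matrix (Fin m ⊕ Fin m) (Fin m ⊕ Fin m) F) ^ k * c := fun k => (hc.pow_right k).eq
    have hB : (orderOf B).Coprime p := by
      refine Nat.Coprime.coprime_dvd_left (orderOf_dvd_of_pow_eq_one (Subtype.ext ?_)) hA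
      have h1 := hpow (orderOf A)
      rw [← SubmonoidClass.coe_pow, pow_orderOf_eq_one, OneMemClass.coe_one, mul_one] at h1
      rw [SubmonoidClass.coe_pow, OneMemClass.coe_one]
      exact c.mul_left_inj.1 (by rw [one_mul]; exact h1.symm)
    refine H54.SympSS.isConj_of_charpoly A B hA hB ?_
    have h2 : (B : Matrix (Fin m ⊕ Fin m) (Fin m ⊕ Fin m) F) = (c : Matrix (Fin m ⊕ Fin m) (Fin m ⊕ Fin m) F) *
        (A : Matrix (Fin m ⊕ Fin m) (Fin m ⊕ Fin m) F) * (↑c⁻¹ : Matrix (Fin m ⊕ Fin m) (Fin m ⊕ Fin m) F) := by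
      rw [hc.eq, mul_assoc, Units.mul_inv, mul_one]
    rw [h2, Matrix.coe_units_inv]
    exact (Matrix.charpoly_units_conj c _).symm

end Cfsg.Agent.S2589
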