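import Cfsg.Statements.S2591
import Cfsg.Agent.H56.SympRegular

set_option autoImplicit false
open Cfsg

namespace Cfsg.Agent.S2591

/-- Over a finite field of odd order and for m ≥ 1, the regular unipotent elements of Sp_2m(F) (u − 1 nilpotent of rank 2m − 1, a single Jordan block) form exactly two conjugacy classes of Sp_2m(F) (one class under the similarity group, which splits in two). -/
theorem result {F : Type*} [Field F] [Fintype F] {q : ℕ} (hF : Fintype.card F = q) (hq : Odd q) {m : ℕ} (hm : 1 ≤ m) : Nat.card {C : ConjClasses ↥(Matrix.symplecticGroup (Fin m) F) // ∃ u : Matrix.symplecticGroup (Fin m) F, ConjClasses.mk u = C ∧ ((u : Matrix (Fin m ⊕ Fin m) (Fin m ⊕ Fin m) F) - 1) ^ (2 * m) = 0 ∧ ((u : Matrix (Fin m ⊕ Fin m) (Fin m ⊕ Fin m) F) - 1).rank = 2 * m - 1} = 2 := by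
  classical
  obtain ⟨l, rfl⟩ : ∃ l, m = l + 1 := ⟨m - 1, by omega⟩
  have hchar : ringChar F ≠ 2 := by
    intro hc
    have hev := FiniteField.even_card_iff_char_two.mp hc
    rw [hF] at hev
    exact absurd hq (Nat.not_odd_iff_even.mpr (Nat.even_iff.mpr hev))
  have h2 : (2 : F) ≠ 0 := Ring.two_ne_zero hchar
  obtain ⟨ν, hν⟩ := FiniteField.exists_nonsquare hchar
  have hν0 : ν ≠ 0 := fun h => hν (h ▸ IsSquare.zero)
  let γ : Bool → F := fun b => if b then 1 else ν
  have hγ : ∀ b, γ b ≠ 0 := fun b => by cases b <;> simp [γ, hν0]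
  choose D hD using fun b => H56.SympRegular.exists_regData (F := F) l (hγ b)
  choose U hU hUn hUrel hUrank using fun b => H56.SympRegular.exists_cayley_inv (D b).anti (n := 2 * (l + 1))
    (by rw [show 2 * (l + 1) = 2 * l + 1 + 1 by omega]; exact (D b).nil)
  let P : ConjClasses ↥(Matrix.symplecticGroup (Fin (l + 1)) F) → Prop := fun C =>
    ∃ u : Matrix.symplecticGroup (Fin (l + 1)) F, ConjClasses.mk u = C ∧
      ((u : H56.SympRegular.Mat (l + 1) F) - 1) ^ (2 * (l + 1)) = 0 ∧
      ((u : H56.SympRegular.Mat (l + 1) F) - 1).rank = 2 * (l + 1) - 1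
  have hP : ∀ b, P (ConjClasses.mk ⟨U b, (H56.SympRegular.mem_iff_adj _).mpr (hU b)⟩) := fun b =>
    ⟨_, rfl, hUn b, by
      show (U b - 1).rank = _
      rw [hUrank b h2, H56.Regular.rank_eq _ _ (D b).dim (D b).nil (D b).top]
      omega⟩
  let ψ : Bool → {C // P C} := fun b => ⟨_, hP b⟩
  have hψ : Function.Bijective ψ := by
    constructor
    · intro b b' hbb
      obtain ⟨s, hs⟩ := isConj_iff.mp (ConjClasses.mk_eq_mk_iff_isConj.mp (congrArg Subtype.val hbb))
      have hs1 : (s : H56.SympRegular.Mat (l + 1) F) * U b = U b' * (s : H56.SympRegular.Mat (l + 1) F) :=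
        (congrArg Subtype.val (mul_inv_eq_iff_eq_mul.mp hs) :)
      set S : H56.SympRegular.Mat (l + 1) F := (s : H56.SympRegular.Mat (l + 1) F)
      have hSadj : S * H56.SympRegular.adj S = 1 := (H56.SympRegular.mem_iff_adj _).mp s.2
      have hu1 : IsUnit (U b' + 1) := by
        have e : U b' + 1 = (U b' - 1) + (2 : F) • (1 : H56.SympRegular.Mat (l + 1) F) := by rw [two_smul]; abel
        rw [e]
        refine IsNilpotent.isUnit_add_right_of_commute ⟨_, hUn b'⟩ ?_ ((Commute.one_right _).smul_right _)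
        exact ⟨⟨(2 : F) • 1, (2 : F)⁻¹ • 1, by simp [smul_smul, h2], by simp [smul_smul, h2]⟩, rfl⟩
      have e : ∀ b, (U b + 1) * (D b).c = U b - 1 := by
        intro b
        have h := hUrel b
        rw [mul_sub, mul_one] at h
        rw [add_mul, one_mul]
        calc U b * (D b).c + (D b).c = U b - (U b - U b * (D b).c) + (D b).c := by abel
          _ = U b - 1 := by rw [h]; abel
      have hsc : S * (D b).c = (D b').c * S := by
        apply hu1.mul_left_cancel
        calc (U b' + 1) * (S * (D b).c) = S * ((U b + 1) * (D b).c) := by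
              rw [← mul_assoc, ← mul_assoc, add_mul, ← hs1, one_mul, mul_add, mul_one]
          _ = (U b' - 1) * S := by rw [e b, mul_sub, sub_mul, hs1, mul_one, one_mul]
          _ = (U b' + 1) * ((D b').c * S) := by rw [← e b', mul_assoc]
      have hSk : S * (D b).c ^ (2 * l + 1) = (D b').c ^ (2 * l + 1) * S := (SemiconjBy.pow_right hsc _).eq
      have htop : ((D b').c ^ (2 * l + 1)).mulVec (S.mulVec (D b).v) ≠ 0 := by
        intro h0
        apply (D b).top
        rw [Matrix.mulVec_mulVec, ← hSk, ← Matrix.mulVec_mulVec] at h0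
        have h := congrArg (H56.SympRegular.adj S).mulVec h0
        rwa [Matrix.mulVec_mulVec, mul_eq_one_comm.mp hSadj, Matrix.one_mulVec, Matrix.mulVec_zero] at h
      obtain ⟨t, ht0, ht⟩ := (D b').beta_scale htop
      rw [Matrix.mulVec_mulVec, ← hSk, ← Matrix.mulVec_mulVec, H56.SympRegular.om_adj, Matrix.mulVec_mulVec,
        mul_eq_one_comm.mp hSadj, Matrix.one_mulVec, hD, hD] at ht
      cases b <;> cases b' <;> first
        | rfl
        | (exfalso
           simp only [γ, if_true, Bool.false_eq_true, if_false] at ht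
           apply hν
           first
             | exact ⟨t, by rw [ht]; ring⟩
             | exact ⟨t⁻¹, by field_simp; linear_combination -ht⟩)
    · rintro ⟨C, u, rfl, hnil, hrk⟩
      obtain ⟨E, hErel, -⟩ := H56.SympRegular.exists_data h2 u.2 hnil hrk
      have hβ := E.beta_ne
      set β := H56.SympRegular.om ((E.c ^ (2 * l + 1)).mulVec E.v) E.v
      obtain ⟨b, t, ht0, ht⟩ : ∃ (b : Bool) (t : F), t ≠ 0 ∧ β = t ^ 2 * γ b := by
        by_cases hsq : IsSquare β
        · obtain ⟨t, ht⟩ := hsq
          exact ⟨true, t, fun h => hβ (by rw [ht, h, mul_zero]), by simp [γ, ht, pow_two]⟩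
        · have h1 : quadraticChar F (β * ν⁻¹) = 1 := by
            have hν' : ¬ IsSquare ν⁻¹ := fun h => hν (by simpa using h.inv)
            rw [map_mul, quadraticChar_neg_one_iff_not_isSquare.mpr hsq, quadraticChar_neg_one_iff_not_isSquare.mpr hν']
            norm_num
          obtain ⟨t, ht⟩ := (quadraticChar_one_iff_isSquare (mul_ne_zero hβ (inv_ne_zero hν0))).mp h1
          refine ⟨false, t, fun h => ?_, ?_⟩
          · rw [h, mul_zero] at ht
            exact mul_ne_zero hβ (inv_ne_zero hν0) ht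
          · simp only [γ, Bool.false_eq_true, if_false]
            rw [pow_two, ← ht, mul_assoc, inv_mul_cancel₀ hν0, mul_one]
      obtain ⟨g, hg, hgadj⟩ := H56.SympRegular.conj_of_beta h2 (D b) E (t := t) ht0 (by rw [hD]; exact ht)
      refine ⟨b, Subtype.ext (ConjClasses.mk_eq_mk_iff_isConj.mpr (isConj_iff.mpr
        ⟨⟨(g : H56.SympRegular.Mat (l + 1) F), (H56.SympRegular.mem_iff_adj _).mpr hgadj⟩,
          mul_inv_eq_iff_eq_mul.mpr (Subtype.ext ?_)⟩))⟩
      show (g : H56.SympRegular.Mat (l + 1) F) * U b = (u : H56.SympRegular.Mat (l + 1) F) * (g : H56.SympRegular.Mat (l + 1) F)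
      have hunit : IsUnit (1 - (D b).c) := IsNilpotent.isUnit_one_sub ⟨_, (D b).nil⟩
      apply hunit.mul_right_cancel
      calc (g : H56.SympRegular.Mat (l + 1) F) * U b * (1 - (D b).c)
          = (1 + E.c) * (g : H56.SympRegular.Mat (l + 1) F) := by rw [mul_assoc, hUrel, mul_add, mul_one, hg, add_mul, one_mul]
        _ = _ := by rw [← hErel, mul_assoc, mul_assoc, mul_sub, mul_one, hg, sub_mul, one_mul]
  exact (Nat.card_eq_of_bijective ψ hψ).symm.trans (by rw [Nat.card_eq_fintype_card, Fintype.card_bool])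

end Cfsg.Agent.S2591
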