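import Cfsg.Statements.S2592
import Cfsg.Agent.H56.SympRegular

set_option autoImplicit false
open Cfsg

namespace Cfsg.Agent.S2592

/-- Over a finite field with q elements, q odd, the centraliser in Sp_2m(F) (m ≥ 1) of a regular unipotent element (u − 1 nilpotent of rank 2m − 1) has order 2 q^m. -/
theorem result {F : Type*} [Field F] [Fintype F] {q : ℕ} (hF : Fintype.card F = q) (hq : Odd q) {m : ℕ} (hm : 1 ≤ m) (u : Matrix.symplecticGroup (Fin m) F) (hnil : ((u : Matrix (Fin m ⊕ Fin m) (Fin m ⊕ Fin m) F) - 1) ^ (2 * m) = 0) (hreg : ((u : Matrix (Fin m ⊕ Fin m) (Fin m ⊕ Fin m) F) - 1).rank = 2 * m - 1) : Nat.card ↥(Subgroup.centralizer ({u} : Set ↥(Matrix.symplecticGroup (Fin m) F))) = 2 * q ^ m := by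
  classical
  obtain ⟨l, rfl⟩ : ∃ l, m = l + 1 := ⟨m - 1, by omega⟩
  have h2 : (2 : F) ≠ 0 := by
    intro h
    have hc : ringChar F = 2 := by
      haveI : Fact (Nat.Prime 2) := ⟨Nat.prime_two⟩
      exact ringChar.eq_iff.mpr (CharTwo.of_one_ne_zero_of_two_eq_zero one_ne_zero h)
    have hev := FiniteField.even_card_iff_char_two.mp hc
    rw [hF] at hev
    exact absurd hq (Nat.not_odd_iff_even.mpr (Nat.even_iff.mpr hev))
  obtain ⟨D, -, hiff⟩ := H56.SympRegular.exists_data h2 u.2 hnil hreg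
  rw [← hF, ← H56.SympRegular.card_fix_centralizer h2 D]
  refine Nat.card_congr
    { toFun := fun s => ⟨⟨(s.1 : H56.SympRegular.Mat (l + 1) F), H56.SympRegular.adj (s.1 : H56.SympRegular.Mat (l + 1) F),
          (H56.SympRegular.mem_iff_adj _).mp s.1.2, mul_eq_one_comm.mp ((H56.SympRegular.mem_iff_adj _).mp s.1.2)⟩, ?_, ?_⟩
      invFun := fun g => ⟨⟨(g.1 : H56.SympRegular.Mat (l + 1) F), (H56.SympRegular.mem_iff_adj _).mpr g.2.2⟩, ?_⟩
      left_inv := fun s => rfl
      right_inv := fun g => Subtype.ext (Units.ext rfl) }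
  · exact (hiff _).mp (congrArg Subtype.val (Subgroup.mem_centralizer_singleton_iff.mp s.2) :)
  · exact (H56.SympRegular.mem_iff_adj _).mp s.1.2
  · exact Subgroup.mem_centralizer_singleton_iff.mpr (Subtype.ext ((hiff _).mpr g.2.1).eq)

end Cfsg.Agent.S2592
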