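import Cfsg.Statements.S2594
import Cfsg.Agent.Symplectic.Order
-- import your own Cfsg.Agent.* helpers here

set_option autoImplicit false
open Cfsg

namespace Cfsg.Agent.S2594


open Cfsg.Agent.Symplectic
open scoped Matrix

/-- A symplectic matrix `t` with `t - 1` of rank one is a transvection. -/
theorem exists_T_of_rank_one {m : ℕ} {F : Type*} [Field F] (t : Matrix.symplecticGroup (Fin m) F)
    (ht : ((t : Mat m F) - 1).rank = 1) :
    ∃ (a : Fin m ⊕ Fin m → F) (c : F), a ≠ 0 ∧ c ≠ 0 ∧ t = T a c := by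
  obtain ⟨a, ha, hspan⟩ := finrank_eq_one_iff'.1 (show Module.finrank F
    (LinearMap.range ((t : Mat m F) - 1).mulVecLin) = 1 from ht)
  have ha0 : (a : Fin m ⊕ Fin m → F) ≠ 0 := fun h => ha (Subtype.ext h)
  have hf : ∀ x, ∃ k : F, (t : Mat m F) *ᵥ x = x + k • (a : Fin m ⊕ Fin m → F) := by
    intro x
    obtain ⟨k, hk⟩ := hspan ⟨_, ⟨x, rfl⟩⟩
    refine ⟨k, ?_⟩
    have := congrArg Subtype.val hk
    simp only [SetLike.val_smul, Matrix.mulVecLin_apply, Matrix.sub_mulVec, Matrix.one_mulVec] at this
    rw [this, add_sub_cancel]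
  choose f hf using hf
  have key : ∀ x y, f y * Cfsg.sympForm m F x a + f x * Cfsg.sympForm m F a y = 0 := by
    intro x y
    have h := (mem_symplectic_iff_form _).1 t.2 x y
    rw [hf, hf] at h
    simp only [← spB_apply] at h ⊢
    simp only [map_add, map_smul, LinearMap.add_apply, LinearMap.smul_apply, smul_eq_mul,
      alt_self (spB_alt m F)] at h
    linear_combination h
  obtain ⟨y, hy⟩ : ∃ y, f y ≠ 0 := by
    by_contra! h
    have h1 : ((t : Mat m F) - 1) = 0 := Matrix.ext_of_mulVec_single fun i => by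
      rw [Matrix.sub_mulVec, Matrix.one_mulVec, hf, h, zero_smul, add_zero, sub_self,
        Matrix.zero_mulVec]
    rw [h1, Matrix.rank_zero] at ht
    exact zero_ne_one ht
  have hay : Cfsg.sympForm m F a y ≠ 0 := by
    intro h
    apply ha0
    refine (spB_nondeg m F).2 _ fun x => ?_
    have := key x y
    rw [h, mul_zero, add_zero] at this
    rw [spB_apply]
    exact (mul_eq_zero.1 this).resolve_left hy
  refine ⟨a, -(f y) / Cfsg.sympForm m F a y, ha0, div_ne_zero (neg_ne_zero.2 hy) hay,
    sp_ext fun x => ?_⟩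
  rw [hf, T_mulVec]
  congr 2
  field_simp
  linear_combination key x y

/-- Over a finite field with q elements, q even, an element t of Sp_2m(F) with rank(t − 1) = 1 (a symplectic transvection) has centraliser in Sp_2m(F) of order q^(2m−1) · |Sp_(2m−2)(q)| = q^(2m−1) · q^((m−1)²) · Π_(i=1)^(m−1) (q^(2i) − 1). -/
theorem result {F : Type*} [Field F] [Fintype F] [CharP F 2] {q : ℕ} (hF : Fintype.card F = q) {m : ℕ} (hm : 1 ≤ m) (t : Matrix.symplecticGroup (Fin m) F) (ht : ((t : Matrix (Fin m ⊕ Fin m) (Fin m ⊕ Fin m) F) - 1).rank = 1) : Nat.card ↥(Subgroup.centralizer ({t} : Set ↥(Matrix.symplecticGroup (Fin m) F))) = q ^ (2 * m - 1) * (q ^ ((m - 1) ^ 2) * ∏ i : Fin (m - 1), (q ^ (2 * ((i : ℕ) + 1)) - 1)) := by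
  subst hF
  obtain ⟨a, c, ha, hc, rfl⟩ := exists_T_of_rank_one t ht
  have hfr : LinearIndependent F ![a] ∧ ∀ i j, Cfsg.sympForm m F (![a] i) (![a] j) = 0 :=
    ⟨LinearIndependent.of_subsingleton 0 ha, fun i j => by
      fin_cases i; fin_cases j; simp [← spB_apply, alt_self (spB_alt m F)]⟩
  have hsub : Subgroup.centralizer ({T a c} : Set (Matrix.symplecticGroup (Fin m) F)) =
      MulAction.stabilizer (Matrix.symplecticGroup (Fin m) F) (![a] : Fin 1 → _) := by
    ext g
    rw [Subgroup.mem_centralizer_singleton_iff, MulAction.mem_stabilizer_iff]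
    constructor
    · intro h
      funext i
      fin_cases i
      show (g : Mat m F) *ᵥ a = a
      have hT : T ((g : Mat m F) *ᵥ a) c = T a c := by
        rw [← T_conj, mul_inv_eq_iff_eq_mul]
        first | exact h | exact h.symm
      set b := (g : Mat m F) *ᵥ a with hb
      have hx : ∀ x, Cfsg.sympForm m F x b • b = Cfsg.sympForm m F x a • a := by
        intro x
        have := congrArg (fun u : Matrix.symplecticGroup (Fin m) F => (u : Mat m F) *ᵥ x) hT
        simp only [T_mulVec, add_right_inj, ← smul_smul] at this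
        exact smul_right_injective _ hc this
      obtain ⟨x, hxa⟩ : ∃ x, Cfsg.sympForm m F x a ≠ 0 := by
        by_contra! h'
        exact ha ((spB_nondeg m F).2 _ fun x => by rw [spB_apply]; exact h' x)
      have hab : a = (Cfsg.sympForm m F x b / Cfsg.sympForm m F x a) • b := by
        rw [div_eq_inv_mul, ← smul_smul, hx, inv_smul_smul₀ hxa]
      generalize Cfsg.sympForm m F x b / Cfsg.sympForm m F x a = μ at hab
      have h2 : Cfsg.sympForm m F x a • a = (μ * μ * Cfsg.sympForm m F x b) • b := by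
        conv_lhs => rw [hab]
        rw [← spB_apply, ← spB_apply, map_smul, smul_smul, smul_eq_mul]
        congr 1; ring
      have hb0 : b ≠ 0 := fun h0 => ha (by rw [hab, h0, smul_zero])
      have hxb : Cfsg.sympForm m F x b ≠ 0 := by
        intro h0
        apply hxa
        rw [hab, ← spB_apply, map_smul, spB_apply, h0, smul_zero]
      rw [← hx x] at h2
      have h3 := smul_left_injective F hb0 h2
      have hμ : μ * μ = 1 := mul_right_cancel₀ hxb (by simpa using h3.symm)
      have hμ1 : μ = 1 := by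
        rcases mul_self_eq_one_iff.1 hμ with h | h
        · exact h
        · rw [h, CharTwo.neg_eq]
      rw [hab, hμ1, one_smul]
    · intro h
      have hga : (g : Mat m F) *ᵥ a = a := congrFun h 0
      have hT : g * T a c * g⁻¹ = T a c := by rw [T_conj, hga]
      rw [mul_inv_eq_iff_eq_mul] at hT
      first | exact hT | exact hT.symm
  rw [hsub, card_pointwise_stab hm ⟨![a], hfr⟩, Nat.choose_eq_zero_of_lt one_lt_two, Nat.sub_zero,
    ← mul_assoc, ← pow_add, Fin.prod_univ_eq_prod_range (fun i => Fintype.card F ^ (2 * (i + 1)) - 1)]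
  congr 2
  obtain ⟨n, rfl⟩ := Nat.exists_eq_add_of_le hm
  simp only [Nat.add_sub_cancel_left]
  ring_nf
  omega

end Cfsg.Agent.S2594
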