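import Cfsg.Statements.S2599


set_option autoImplicit false
open Cfsg

namespace Cfsg.Agent.S2599

/-- An irreducible invariant subspace of a semisimple isometry is non-degenerate or totally singular: let Q be a quadratic form on F^n (F finite of characteristic p) with non-degenerate polar form f, x an isometry of Q of order prime to p, and U a non-zero x-invariant subspace containing no x-invariant subspace other than 0 and U. Then U meets its f-orthogonal trivially, or Q vanishes on U, or p = 2, U is a line spanned by a non-singular vector and x fixes U pointwise. -/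
theorem result {F : Type*} [Field F] [Fintype F] {p : ℕ} [Fact p.Prime] [CharP F p] {n : ℕ} (Q : QuadraticForm F (Fin n → F)) (hQ : (QuadraticMap.polarBilin Q).Nondegenerate) (x : ↥(Cfsg.isometryGroup F ⇑Q)) (hx : (orderOf x).Coprime p) (U : Submodule F (Fin n → F)) (hU0 : U ≠ ⊥) (hUx : ∀ u ∈ U, ((x : Matrix.GeneralLinearGroup (Fin n) F) : Matrix (Fin n) (Fin n) F).mulVec u ∈ U) (hirr : ∀ W : Submodule F (Fin n → F), W ≤ U → (∀ w ∈ W, ((x : Matrix.GeneralLinearGroup (Fin n) F) : Matrix (Fin n) (Fin n) F).mulVec w ∈ W) → W = ⊥ ∨ W = U) : U ⊓ LinearMap.BilinForm.orthogonal (QuadraticMap.polarBilin Q) U = ⊥ ∨ (∀ u ∈ U, Q u = 0) ∨ (p = 2 ∧ Module.finrank F U = 1 ∧ (∃ u ∈ U, Q u ≠ 0) ∧ ∀ u ∈ U, ((x : Matrix.GeneralLinearGroup (Fin n) F) : Matrix (Fin n) (Fin n) F).mulVec u = u) := by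
  set B := QuadraticMap.polarBilin Q with hB
  set M := ((x : Matrix.GeneralLinearGroup (Fin n) F) : Matrix (Fin n) (Fin n) F) with hM
  have hxQ : ∀ v, Q (M.mulVec v) = Q v := fun v => x.2 v v
  have hxB : ∀ v w, B (M.mulVec v) (M.mulVec w) = B v w := by
    intro v w
    simp only [hB, QuadraticMap.polarBilin_apply_apply, QuadraticMap.polar, ← Matrix.mulVec_add, hxQ]
  have hinv : ∀ w ∈ U, ∃ w' ∈ U, M.mulVec w' = w := by
    intro w hw
    have hinj : Function.Injective (M.mulVecLin.restrict hUx) := fun a b hab =>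
      Subtype.ext (Matrix.mulVec_injective_of_isUnit ((x : Matrix.GeneralLinearGroup (Fin n) F)).isUnit
        (congrArg Subtype.val hab))
    obtain ⟨w', hw'⟩ := LinearMap.injective_iff_surjective.mp hinj ⟨w, hw⟩
    exact ⟨w', w'.2, congrArg Subtype.val hw'⟩
  have hmem : ∀ w, w ∈ LinearMap.BilinForm.orthogonal B U ↔ ∀ u ∈ U, B u w = 0 := fun w => Iff.rfl
  rcases hirr (U ⊓ LinearMap.BilinForm.orthogonal B U) inf_le_left (by
    rintro w ⟨hw, hw'⟩
    refine ⟨hUx w hw, (hmem _).mpr fun u hu => ?_⟩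
    obtain ⟨u', hu', rfl⟩ := hinv u hu
    rw [hxB]; exact (hmem w).mp hw' u' hu') with h | h
  · exact Or.inl h
  right
  have hperp : ∀ u ∈ U, ∀ v ∈ U, B u v = 0 := fun u hu v hv =>
    (hmem v).mp ((h.symm.le hv).2) u hu
  by_cases hQU : ∀ u ∈ U, Q u = 0
  · exact Or.inl hQU
  right
  push Not at hQU
  obtain ⟨u₀, hu₀, hQu₀⟩ := hQU
  have h2 : (2 : F) = 0 := by
    have := hperp u₀ hu₀ u₀ hu₀
    rw [hB, QuadraticMap.polarBilin_apply_apply, QuadraticMap.polar_self, nsmul_eq_mul] at this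
    rcases mul_eq_zero.mp this with h | h
    · exact_mod_cast h
    · exact absurd h hQu₀
  have hp2 : p = 2 := by
    have h' : ((2 : ℕ) : F) = 0 := by exact_mod_cast h2
    exact (Nat.prime_dvd_prime_iff_eq (Fact.out) Nat.prime_two).mp ((CharP.cast_eq_zero_iff F p 2).mp h')
  subst hp2
  have hadd : ∀ u ∈ U, ∀ v ∈ U, Q (u + v) = Q u + Q v := by
    intro u hu v hv
    rw [QuadraticMap.map_add ⇑Q, ← QuadraticMap.polarBilin_apply_apply, ← hB, hperp u hu v hv, add_zero]
  let K : Submodule F (Fin n → F) :=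
    { carrier := {u | u ∈ U ∧ Q u = 0}
      zero_mem' := ⟨U.zero_mem, QuadraticMap.map_zero Q⟩
      add_mem' := fun {a b} ha hb => ⟨U.add_mem ha.1 hb.1, by rw [hadd a ha.1 b hb.1, ha.2, hb.2, add_zero]⟩
      smul_mem' := fun c {a} ha => ⟨U.smul_mem c ha.1, by rw [QuadraticMap.map_smul, ha.2, smul_zero]⟩ }
  have hK : ∀ u ∈ U, Q u = 0 → u = 0 := by
    intro u hu hQ0
    rcases hirr K (fun v hv => hv.1) (fun v hv => ⟨hUx v hv.1, by rw [hxQ]; exact hv.2⟩) with hK | hK
    · exact (Submodule.mem_bot F).mp (hK ▸ (show u ∈ K from ⟨hu, hQ0⟩))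
    · exact absurd (hK.symm.le hu₀).2 hQu₀
  have hsq : ∀ u ∈ U, ∃ c : F, u = c • u₀ := by
    intro u hu
    obtain ⟨c, hc⟩ : IsSquare (Q u / Q u₀) := FiniteField.isSquare_of_char_two (ringChar.eq F 2) _
    refine ⟨c, ?_⟩
    have h0 := hK (u + c • u₀) (U.add_mem hu (U.smul_mem c hu₀)) (by
      rw [hadd u hu _ (U.smul_mem c hu₀), QuadraticMap.map_smul, smul_eq_mul, ← hc,
        div_mul_cancel₀ _ hQu₀, CharTwo.add_self_eq_zero])
    rw [eq_neg_of_add_eq_zero_left h0, ← neg_smul, CharTwo.neg_eq]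
  have hne : u₀ ≠ 0 := fun h => hQu₀ (by rw [h]; exact QuadraticMap.map_zero Q)
  have hspan : U = F ∙ u₀ := le_antisymm
    (fun u hu => by obtain ⟨c, rfl⟩ := hsq u hu; exact Submodule.smul_mem _ c (Submodule.mem_span_singleton_self u₀))
    ((Submodule.span_singleton_le_iff_mem u₀ U).mpr hu₀)
  refine ⟨rfl, by rw [hspan]; exact finrank_span_singleton hne, ⟨u₀, hu₀, hQu₀⟩, fun u hu => ?_⟩
  have hd : M.mulVec u + u = 0 := hK _ (U.add_mem (hUx u hu) hu) (by
    rw [hadd _ (hUx u hu) u hu, hxQ, CharTwo.add_self_eq_zero])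
  rw [eq_neg_of_add_eq_zero_left hd]
  funext i
  rw [Pi.neg_apply, CharTwo.neg_eq]

end Cfsg.Agent.S2599
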