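import Cfsg.Statements.S2601
import Cfsg.Agent.H56.OutPSL

set_option autoImplicit false
open Cfsg

namespace Cfsg.Agent.S2601

/-- Structure of the outer automorphism group of PSL_n(q), n ≥ 3, q = p^f: it has a normal cyclic subgroup of order gcd(n, q − 1) (the diagonal automorphisms) whose quotient is the direct product of a cyclic group of order f (field automorphisms) and a group of order 2 (the inverse-transpose graph automorphism). -/
theorem result {F : Type*} [Field F] [Fintype F] {p f n : ℕ} [Fact p.Prime] (hf : 1 ≤ f) (hF : Fintype.card F = p ^ f) (hn : 3 ≤ n) : ∃ φ : Cfsg.Out (Matrix.ProjectiveSpecialLinearGroup (Fin n) F) →* Multiplicative (ZMod f × ZMod 2), Function.Surjective φ ∧ IsCyclic φ.ker ∧ Nat.card φ.ker = Nat.gcd n (p ^ f - 1) := by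
  classical
  have h2 : 2 ≤ n := by omega
  obtain ⟨e⟩ := H56.ringAut_equiv F hf hF
  let P : Multiplicative (ZMod f × ZMod 2) ≃* Multiplicative (ZMod f) × Multiplicative (ZMod 2) := MulEquiv.prodMultiplicative (ZMod f) (ZMod 2)
  set Ψ : MulAut (H56.PSLn n F) →* Multiplicative (ZMod f × ZMod 2) :=
    P.symm.toMonoidHom.comp ((e.toMonoidHom.comp (H56.fieldHom h2)).prod (H56.graphHom hn)) with hΨ
  have hval : ∀ φ, Ψ φ = P.symm (e (H56.fieldHom h2 φ), H56.graphHom hn φ) := fun φ => rfl
  have hle : Cfsg.Inn (H56.PSLn n F) ≤ Ψ.ker := fun x hx => by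
    rw [MonoidHom.mem_ker, hval, MonoidHom.mem_ker.mp (H56.fieldHom_inn h2 hx),
      MonoidHom.mem_ker.mp (H56.graphHom_inn hn hx), map_one]
    exact map_one _
  refine ⟨QuotientGroup.lift _ Ψ hle, fun y => ?_, ?_⟩
  · obtain ⟨⟨a, b⟩, rfl⟩ := P.symm.surjective y
    have hb : b = 1 ∨ b = Multiplicative.ofAdd 1 := by revert b; decide
    rcases hb with rfl | rfl
    · refine ⟨QuotientGroup.mk (H56.semiAut 1 (e.symm a)), ?_⟩
      show Ψ _ = _
      rw [hval, H56.fieldHom_semiAut, H56.graphHom_semiAut, e.apply_symm_apply]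
    · refine ⟨QuotientGroup.mk (H56.semiAut 1 (e.symm a) * H56.invTAut), ?_⟩
      show Ψ _ = _
      rw [hval, map_mul (H56.fieldHom h2), map_mul (H56.graphHom hn), H56.fieldHom_semiAut, H56.fieldHom_invT hn, mul_one, H56.graphHom_semiAut,
        H56.graphHom_invT, one_mul, e.apply_symm_apply]
  have hker : (QuotientGroup.lift _ Ψ hle).ker = (H56.diagOut (F := F) (n := n) h2).range := by
    refine le_antisymm (fun x hx => ?_) ?_
    · obtain ⟨φ, rfl⟩ := QuotientGroup.mk_surjective x
      have h1 : Ψ φ = 1 := hx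
      rw [hval, ← map_one P.symm] at h1
      obtain ⟨hfld, hgr⟩ := Prod.mk.injEq .. ▸ P.symm.injective h1
      obtain ⟨g, σ, h | ⟨-, h⟩⟩ := H56.exists_decomp h2 φ
      · subst h
        rw [H56.fieldHom_semiAut] at hfld
        obtain rfl : σ = RingEquiv.refl F := e.injective (hfld.trans (map_one e).symm)
        exact H56.diagOut_range h2 g
      · subst h
        rw [map_mul, H56.graphHom_semiAut, H56.graphHom_invT, one_mul] at hgr
        exact absurd hgr (by decide)
    · rintro _ ⟨c, rfl⟩
      show Ψ (H56.semiAut _ (RingEquiv.refl F)) = 1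
      rw [hval, H56.fieldHom_semiAut, H56.graphHom_semiAut]
      show P.symm (e 1, 1) = 1
      rw [map_one]
      exact map_one _
  rw [hker, ← hF]
  exact H56.diagOut_card h2

end Cfsg.Agent.S2601
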