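import Cfsg.Statements.S2610
import Cfsg.Agent.H57.ReflProd
import Cfsg.Agent.H57.Discriminant
import Cfsg.Agent.H57.Diagonalise

set_option autoImplicit false
open Cfsg

namespace Cfsg.Agent.S2610

/-- For a quadratic form Q on F^n with non-degenerate polar form, F finite of odd order and n ≥ 2 even, the isometry −1 lies in Ω (the commutator subgroup of the orthogonal group) if and only if the discriminant of Q (the determinant of the Gram matrix of its polar form) is a square. -/
theorem result {F : Type*} [Field F] [Fintype F] (h2 : (2 : F) ≠ 0) {n : ℕ} (hn : 2 ≤ n) (he : Even n) (Q : QuadraticForm F (Fin n → F)) (hQ : (QuadraticMap.polarBilin Q).Nondegenerate) : (∃ g : ↥(Cfsg.isometryGroup F ⇑Q), g ∈ Cfsg.Omega F ⇑Q ∧ ((g : Matrix.GeneralLinearGroup (Fin n) F) : Matrix (Fin n) (Fin n) F) = -1) ↔ IsSquare (Matrix.of (fun i j : Fin n => QuadraticMap.polar ⇑Q (Pi.single i 1) (Pi.single j 1))).det := by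
  obtain ⟨k, rfl⟩ : ∃ k, n = k + 1 := ⟨n - 1, by omega⟩
  have hQ' : Orthogonal.Nondeg Q := Orthogonal.nondeg_of_polarBilin hQ
  obtain ⟨d, b, hd, hb, ho⟩ := H57.exists_diag h2 Q hQ' k (by simp)
  let vs : List (Fin (k + 1) → F) := List.ofFn fun i => b i
  have hne : ∀ i, Q (b i) ≠ 0 := fun i => by
    rw [hb]
    induction i using Fin.lastCases with
    | last => simpa [H57.lastWeight] using hd
    | cast j => simp [H57.lastWeight]
  have hvs : ∀ v ∈ vs, Q v ≠ 0 := fun v hv => by
    obtain ⟨i, rfl⟩ := List.mem_ofFn.1 hv; exact hne i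
  have hprod : (vs.map fun v => Q v).prod = d := by
    rw [List.map_ofFn, List.prod_ofFn, Fin.prod_univ_castSucc]
    simp [hb, H57.lastWeight, Function.comp_def]
  have key : ∀ (l : List (Fin (k + 1))), l.Nodup → ∀ j,
      (((l.map fun i => b i).map (Orthogonal.rO Q)).prod : Orthogonal.O Q).1 (b j) =
        if j ∈ l then -b j else b j := by
    intro l hl
    induction l with
    | nil => intro j; simp
    | cons a t ih =>
      intro j
      rw [List.nodup_cons] at hl
      rw [List.map_cons, List.map_cons, List.prod_cons, Subgroup.coe_mul, Orthogonal.mul_app,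
        ih hl.2 j]
      by_cases hja : j = a
      · subst hja
        rw [if_neg hl.1, if_pos (by simp), Orthogonal.rO_self (hne j)]
      · have hfix := Orthogonal.rO_fix (Q := Q) (ho a j (Ne.symm hja))
        by_cases hjt : j ∈ t
        · rw [if_pos hjt, if_pos (by simp [hjt]), map_neg, hfix]
        · rw [if_neg hjt, if_neg (by simp [hjt, hja]), hfix]
  have hM : (-1 : Matrix (Fin (k + 1)) (Fin (k + 1)) F) =
      (vs.map fun v => Cfsg.reflectionMatrix (⇑Q) v).prod := by
    refine Matrix.ext_iff_mulVec.2 fun x => ?_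
    rw [H57.mulVec_refl_prod, Matrix.neg_mulVec, Matrix.one_mulVec]
    rw [← LinearEquiv.coe_coe]
    refine (LinearMap.congr_fun (b.ext (f₁ := ((((vs.map (Orthogonal.rO Q)).prod : Orthogonal.O Q) :
      (Fin (k + 1) → F) ≃ₗ[F] (Fin (k + 1) → F)) : (Fin (k + 1) → F) →ₗ[F] (Fin (k + 1) → F)))
      (f₂ := -LinearMap.id) fun j => ?_) x).symm
    have h := key (List.finRange (k + 1)) (List.nodup_finRange _) j
    simp only [List.mem_finRange, if_true] at h
    simp only [LinearEquiv.coe_coe, LinearMap.neg_apply, LinearMap.id_apply]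
    rw [← h, show vs = (List.finRange (k + 1)).map (fun i => b i) from List.ofFn_eq_map]
  rw [H57.exists_mem_omega_prod_iff hQ' h2 _ vs hvs hM, hprod, List.length_ofFn]
  obtain ⟨c, hc, hdet⟩ := H57.gram_det_change Q.polarBilin (Pi.basisFun F (Fin (k + 1))) b
  have hdiag : (Matrix.of fun i j => Q.polarBilin (b i) (b j)) =
      Matrix.diagonal fun i => 2 * Q (b i) := by
    ext i j
    by_cases hij : i = j
    · subst hij
      simp [Orthogonal.polar_self']
    · simp [Matrix.diagonal_apply_ne _ hij, ho i j hij]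
  rw [hdiag, Matrix.det_diagonal, Finset.prod_mul_distrib, Finset.prod_const, Fin.prod_univ_castSucc]
    at hdet
  simp only [Pi.basisFun_apply, Orthogonal.polarBilin_apply'] at hdet
  rw [hdet]
  simp only [hb, H57.lastWeight, Fin.snoc_castSucc, Fin.snoc_last, Finset.prod_const_one, one_mul,
    Finset.card_univ, Fintype.card_fin]
  obtain ⟨e, hee⟩ := he
  rw [hee, show c ^ 2 * ((2 : F) ^ (e + e) * d) = (c * 2 ^ e) ^ 2 * d by ring,
    H57.isSquare_mul_sq_iff (mul_ne_zero hc (pow_ne_zero _ h2))]
  exact ⟨fun h => h.2, fun h => ⟨⟨e, rfl⟩, h⟩⟩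

end Cfsg.Agent.S2610
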