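import Cfsg.Statements.S2611
import Cfsg.Agent.H57.HyperbolicOmega
import Cfsg.Agent.H57.ReflProd
import Cfsg.Agent.Orthogonal.StdForms

set_option autoImplicit false
open Cfsg

namespace Cfsg.Agent.S2611

/-- For the hyperbolic quadratic form Σ x_i y_i on F^(2m) (F finite, m ≥ 1, excluding m = 2 over the field of two elements) and an invertible m × m matrix A, the block-diagonal isometry diag(A, (A⁻¹)ᵀ), which stabilises the two maximal totally singular subspaces x = 0 and y = 0, lies in Ω⁺_2m(F) (the commutator subgroup of the orthogonal group) if and only if det A is a square in F. -/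
theorem result {F : Type*} [Field F] [Fintype F] {m : ℕ} (hm : 1 ≤ m) (h : Fintype.card F ≠ 2 ∨ m ≠ 2) (A : GL (Fin m) F) : (∃ g : ↥(Cfsg.isometryGroup F (Cfsg.quadFormPlus m F)), g ∈ Cfsg.Omega F (Cfsg.quadFormPlus m F) ∧ ((g : Matrix.GeneralLinearGroup (Fin m ⊕ Fin m) F) : Matrix (Fin m ⊕ Fin m) (Fin m ⊕ Fin m) F) = Matrix.fromBlocks (A : Matrix (Fin m) (Fin m) F) 0 0 ((A : Matrix (Fin m) (Fin m) F)⁻¹).transpose) ↔ IsSquare (A : Matrix (Fin m) (Fin m) F).det := by
  classical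
  have hg := H57.Hyp.general_of_ne h
  set M := Matrix.fromBlocks (A : Matrix (Fin m) (Fin m) F) 0 0
    ((A : Matrix (Fin m) (Fin m) F)⁻¹).transpose with hMdef
  have hmt : H57.Hyp.mt (H57.Hyp.levi A) = M := by
    rw [H57.Hyp.mt_levi, hMdef, Matrix.coe_units_inv]
  have hiff : (∃ g : ↥(Cfsg.isometryGroup F (Cfsg.quadFormPlus m F)),
      g ∈ Cfsg.Omega F (Cfsg.quadFormPlus m F) ∧
      ((g : Matrix.GeneralLinearGroup (Fin m ⊕ Fin m) F) : Matrix (Fin m ⊕ Fin m) (Fin m ⊕ Fin m) F)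
        = M) ↔ H57.Hyp.levi A ∈ H57.Hyp.Om m F :=
    ⟨fun ⟨g, hgo, hgM⟩ => by
      have : g = H57.Hyp.levi A := Subtype.ext (Units.ext (hgM.trans hmt.symm))
      exact this ▸ hgo,
     fun h' => ⟨_, h', hmt⟩⟩
  rw [hiff]
  refine ⟨fun hA => ?_, fun hA => H57.Hyp.levi_mem_om hg A hA⟩
  by_cases h2 : (2 : F) = 0
  · exact Orthogonal.isSquare_of_two_eq_zero h2 _
  let i₀ : Fin m := ⟨0, hm⟩
  have hdet : (A : Matrix (Fin m) (Fin m) F).det ≠ 0 := Matrix.GeneralLinearGroup.det_ne_zero A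
  set μ : F := (A : Matrix (Fin m) (Fin m) F).det with hμ
  let d : Fin m → Fˣ := Pi.mulSingle i₀ (Units.mk0 μ hdet)
  let D : GL (Fin m) F := H57.Hyp.diagGLu d
  have hD : H57.Hyp.levi D ∈ H57.Hyp.Om m F := by
    have h1 : IsSquare ((D⁻¹ * A : GL (Fin m) F) : Matrix (Fin m) (Fin m) F).det := by
      have e : ((D⁻¹ * A : GL (Fin m) F) : Matrix (Fin m) (Fin m) F).det = 1 := by
        rw [Units.val_mul, Matrix.det_mul]
        show (Matrix.diagonal fun i => (((d i)⁻¹ : Fˣ) : F)).det * μ = 1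
        rw [Matrix.det_diagonal, Finset.prod_eq_single i₀ (fun b _ hb => by simp [d, hb]) (by simp)]
        simp [d, hdet]
      rw [e]; exact IsSquare.one
    have h2' := mul_mem hA (inv_mem (H57.Hyp.levi_mem_om hg _ h1))
    rwa [← map_inv, ← map_mul, mul_inv_rev, inv_inv, mul_inv_cancel_left] at h2'
  let Q := Orthogonal.formPlus F m
  let e : Fin m ⊕ Fin m → F := Pi.single (Sum.inl i₀) 1
  let f : Fin m ⊕ Fin m → F := Pi.single (Sum.inr i₀) 1
  have hQe : Q e = 0 := by simp [Q, e, Orthogonal.formPlus_coe, Cfsg.quadFormPlus]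
  have hQf : Q f = 0 := by simp [Q, f, Orthogonal.formPlus_coe, Cfsg.quadFormPlus]
  have pe : ∀ x, QuadraticMap.polar Q e x = x (Sum.inr i₀) := fun x => by
    simp [Q, e, Orthogonal.polar_formPlus, Pi.single_apply]
  have pf : ∀ x, QuadraticMap.polar Q f x = x (Sum.inl i₀) := fun x => by
    simp [Q, f, Orthogonal.polar_formPlus, Pi.single_apply]
  have hQv : ∀ c : F, Q (e - c • f) = -c := fun c => by
    rw [Orthogonal.qmap_sub, Orthogonal.qmap_smul, Orthogonal.polar_smul_right', hQe, hQf, pe]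
    simp [f]
  have hr : ∀ (c : F) x, c ≠ 0 → (Orthogonal.rO Q (e - c • f) : _ ≃ₗ[F] _) x =
      x + (c⁻¹ * x (Sum.inr i₀) - x (Sum.inl i₀)) • (e - c • f) := fun c x hc => by
    rw [Orthogonal.rO_app, hQv, QuadraticMap.polar_sub_left, QuadraticMap.polar_smul_left, pe, pf,
      sub_eq_add_neg, ← neg_smul]
    congr 2
    simp only [smul_eq_mul]
    field_simp
  let vs : List (Fin m ⊕ Fin m → F) := [e - (1 : F) • f, e - μ • f]
  have hvs : ∀ v ∈ vs, Q v ≠ 0 := by
    intro v hv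
    simp only [vs, List.mem_cons, List.not_mem_nil, or_false] at hv
    rcases hv with rfl | rfl
    · rw [hQv]; exact neg_ne_zero.2 one_ne_zero
    · rw [hQv]; exact neg_ne_zero.2 hdet
  have hM : H57.Hyp.mt (H57.Hyp.levi D) =
      (vs.map fun v => Cfsg.reflectionMatrix (⇑Q) v).prod := by
    refine Matrix.ext_iff_mulVec.2 fun x => ?_
    rw [H57.mulVec_refl_prod]
    simp only [vs, List.map_cons, List.map_nil, List.prod_cons, List.prod_nil, mul_one,
      Subgroup.coe_mul, Orthogonal.mul_app]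
    rw [hr μ x hdet, hr 1 _ one_ne_zero]
    funext k
    rcases k with k | k <;> by_cases hk : k = i₀
    all_goals simp [H57.Hyp.mt_levi, D, d, H57.Hyp.diagGLu, e, f, hk, Matrix.fromBlocks_mulVec,
      Matrix.mulVec_diagonal, Pi.single_apply]
    all_goals field_simp
    all_goals ring
  have hsq := ((H57.mem_omega_prod_iff (Q := Q) (Orthogonal.formPlus_nondeg F m) h2
    (H57.Hyp.levi D) vs hvs hM).1 hD).2
  have h1 := hQv 1
  rw [one_smul] at h1
  simpa [vs, hQv, h1] using hsq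

end Cfsg.Agent.S2611
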