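import Cfsg.Statements.S2612
import Cfsg.Agent.H57.HyperbolicOmega

set_option autoImplicit false
open Cfsg

namespace Cfsg.Agent.S2612

/-- For the hyperbolic quadratic form Σ x_i y_i on F^(2m) (F finite, m ≥ 1, excluding m = 2 over the field of two elements), Ω⁺_2m(F) (the commutator subgroup of the orthogonal group) contains an element interchanging the two complementary maximal totally singular subspaces {y = 0} and {x = 0} if and only if m is even (dimension divisible by 4). -/
theorem result {F : Type*} [Field F] [Fintype F] {m : ℕ} (hm : 1 ≤ m) (h : Fintype.card F ≠ 2 ∨ m ≠ 2) : (∃ g : ↥(Cfsg.isometryGroup F (Cfsg.quadFormPlus m F)), g ∈ Cfsg.Omega F (Cfsg.quadFormPlus m F) ∧ (∀ v : Fin m ⊕ Fin m → F, (∀ i, v (Sum.inr i) = 0) → ∀ i, (((g : Matrix.GeneralLinearGroup (Fin m ⊕ Fin m) F) : Matrix (Fin m ⊕ Fin m) (Fin m ⊕ Fin m) F).mulVec v) (Sum.inl i) = 0) ∧ (∀ v : Fin m ⊕ Fin m → F, (∀ i, v (Sum.inl i) = 0) → ∀ i, (((g : Matrix.GeneralLinearGroup (Fin m ⊕ Fin m) F) :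 Matrix (Fin m ⊕ Fin m) (Fin m ⊕ Fin m) F).mulVec v) (Sum.inr i) = 0)) ↔ Even m := by
  constructor
  · rintro ⟨g, hg, hx, hy⟩
    have hA : H57.Hyp.bA g = 0 := by
      ext i j
      have := hx (Sum.elim (Pi.single j 1) 0) (fun i => rfl) i
      simpa [H57.Hyp.bA, Matrix.toBlocks₁₁, Matrix.mulVec, dotProduct, Fintype.sum_sum_type,
        Pi.single_apply] using this
    have hC : (H57.Hyp.bC g).rank = m := by
      have h1 := H57.Hyp.cross g
      rw [hA, Matrix.transpose_zero, zero_mul, zero_add] at h1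
      rw [← Matrix.rank_transpose,
        Matrix.rank_of_isUnit _ (IsUnit.of_mul_eq_one _ h1), Fintype.card_fin]
    by_cases h2 : (2 : F) = 0
    · have : CharP F 2 := CharTwo.of_one_ne_zero_of_two_eq_zero one_ne_zero h2
      have := H57.Hyp.even_rank_of_mem_om hg
      rwa [hC] at this
    · have h1 := H57.Hyp.det_eq g
      rw [H57.Hyp.det_of_mem_om hg, hC] at h1
      rcases Nat.even_or_odd m with he | ho
      · exact he
      · rw [ho.neg_one_pow] at h1
        exact absurd (by linear_combination h1) h2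
  · intro hev
    refine ⟨H57.Hyp.swapT Finset.univ, H57.Hyp.swapT_mem_om (by simpa using hev), ?_, ?_⟩
    · intro v hv i
      show ((H57.Hyp.mt (H57.Hyp.swapT Finset.univ)).mulVec v) (Sum.inl i) = 0
      rw [H57.Hyp.mt_swapT, Matrix.fromBlocks_mulVec]
      simp [H57.Hyp.ind, Matrix.sub_mulVec, Matrix.mulVec_diagonal, hv]
    · intro v hv i
      show ((H57.Hyp.mt (H57.Hyp.swapT Finset.univ)).mulVec v) (Sum.inr i) = 0
      rw [H57.Hyp.mt_swapT, Matrix.fromBlocks_mulVec]
      simp [H57.Hyp.ind, Matrix.sub_mulVec, Matrix.mulVec_diagonal, hv]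

end Cfsg.Agent.S2612
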