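import Cfsg.Statements.S2614
import Cfsg.Agent.H57.PairsInvolution
import Cfsg.Agent.H57.Discriminant

set_option autoImplicit false
open Cfsg

namespace Cfsg.Agent.S2614

/-- For the form x_0² + Σ x_j y_j on F^(2m+1), F finite with q elements, q odd, and 1 ≤ i ≤ m: the involution of determinant one negating the first i hyperbolic pairs (and fixing x_0 and the other pairs) lies in Ω_(2m+1)(q) (commutator subgroup of the orthogonal group) if and only if q^i ≡ 1 (mod 4); its (−1)-eigenspace is a hyperbolic 2i-space. -/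
theorem result {F : Type*} [Field F] [Fintype F] {q : ℕ} (hF : Fintype.card F = q) (hq : Odd q) {m : ℕ} (i : ℕ) (hi : 1 ≤ i) (him : i ≤ m) : (∃ g : ↥(Cfsg.isometryGroup F (Cfsg.quadFormOdd m F)), g ∈ Cfsg.Omega F (Cfsg.quadFormOdd m F) ∧ ((g : Matrix.GeneralLinearGroup (Unit ⊕ (Fin m ⊕ Fin m)) F) : Matrix (Unit ⊕ (Fin m ⊕ Fin m)) (Unit ⊕ (Fin m ⊕ Fin m)) F) = Matrix.diagonal (fun k : Unit ⊕ (Fin m ⊕ Fin m) => if (Sum.elim (fun _ : Unit => i) (Sum.elim (fun j : Fin m => (j : ℕ)) (fun j : Fin m => (j : ℕ))) k) < i then (-1 : F) else 1)) ↔ q ^ i % 4 = 1 := by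
  have h2 : (2 : F) ≠ 0 := H57.card_odd_two_ne_zero (hF.symm ▸ hq)
  rw [← H57.isSquare_neg_one_pow_iff_mod hF hq]
  exact H57.pairs_involution_mem_omega_iff (Q := Orthogonal.formOdd F m)
    (Orthogonal.formOdd_nondeg F m h2) h2
    (fun a : Fin i => Sum.inr (Sum.inl (Fin.castLE him a)))
    (fun a : Fin i => Sum.inr (Sum.inr (Fin.castLE him a)))
    (fun a b h => Fin.castLE_injective him (Sum.inl_injective (Sum.inr_injective h)))
    (fun a b h => Fin.castLE_injective him (Sum.inr_injective (Sum.inr_injective h)))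
    (fun a b => fun h => Sum.inl_ne_inr (Sum.inr_injective h))
    (fun a => by simp [Orthogonal.formOdd_coe, Cfsg.quadFormOdd])
    (fun a => by simp [Orthogonal.formOdd_coe, Cfsg.quadFormOdd])
    (fun a k => by
      rw [Orthogonal.polar_formOdd]
      rcases k with u | j | j <;> simp [Pi.single_apply, Finset.sum_add_distrib, eq_comm])
    (fun a k => by
      rw [Orthogonal.polar_formOdd]
      rcases k with u | j | j <;> simp [Pi.single_apply, Finset.sum_add_distrib, eq_comm])
    _ (fun a => by simp) (fun a => by simp)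
    (fun k hk => by
      rw [if_neg]
      intro h
      rcases k with u | j | j
      · simp at h
      · exact (hk ⟨j, h⟩).1 (by simp [Fin.castLE])
      · exact (hk ⟨j, h⟩).2 (by simp [Fin.castLE]))

end Cfsg.Agent.S2614
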