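import Cfsg.Statements.S2615
import Cfsg.Agent.H57.PairsInvolution
import Cfsg.Agent.H57.Discriminant

set_option autoImplicit false
open Cfsg

namespace Cfsg.Agent.S2615

/-- For an elliptic form Σ_(j<m−1) x_j y_j + (z₁² + a z₁z₂ + b z₂²) (anisotropic binary part) on F^(2m), F finite with q elements, q odd, and 1 ≤ i ≤ m − 1: the involution negating the first i hyperbolic pairs and fixing the rest lies in Ω⁻_2m(q) (commutator subgroup of the orthogonal group) if and only if q^i ≡ 1 (mod 4). -/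
theorem result {F : Type*} [Field F] [Fintype F] {q : ℕ} (hF : Fintype.card F = q) (hq : Odd q) {m : ℕ} (a b : F) (hab : ∀ z₁ z₂ : F, z₁ ^ 2 + a * z₁ * z₂ + b * z₂ ^ 2 = 0 → z₁ = 0 ∧ z₂ = 0) (i : ℕ) (hi : 1 ≤ i) (him : i + 1 ≤ m) : (∃ g : ↥(Cfsg.isometryGroup F (Cfsg.quadFormMinus (m - 1) F a b)), g ∈ Cfsg.Omega F (Cfsg.quadFormMinus (m - 1) F a b) ∧ ((g : Matrix.GeneralLinearGroup ((Fin (m - 1) ⊕ Fin (m - 1)) ⊕ Fin 2) F) : Matrix ((Fin (m - 1) ⊕ Fin (m - 1)) ⊕ Fin 2) ((Fin (m - 1) ⊕ Fin (m - 1)) ⊕ Fin 2) F) = Matrix.diagonal (fun k : (Fin (m - 1) ⊕ Fin (m - 1)) ⊕ Fin 2 => if (Sum.elim (Sum.elim (fun j : Fin (m - 1) => (j : ℕ)) (fun j : Fin (m - 1) => (j : ℕ))) (fun _ : Fin 2 => i) k) < i then (-1 : F) else 1)) ↔ q ^ i % 4 = 1 := by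
  have h2 : (2 : F) ≠ 0 := H57.card_odd_two_ne_zero (hF.symm ▸ hq)
  rw [← H57.isSquare_neg_one_pow_iff_mod hF hq]
  have him' : i ≤ m - 1 := by omega
  exact H57.pairs_involution_mem_omega_iff (Q := Orthogonal.formMinus F (m - 1) a b)
    (Orthogonal.formMinus_nondeg (m - 1) hab) h2
    (fun c : Fin i => Sum.inl (Sum.inl (Fin.castLE him' c)))
    (fun c : Fin i => Sum.inl (Sum.inr (Fin.castLE him' c)))
    (fun _ _ h => Fin.castLE_injective him' (Sum.inl_injective (Sum.inl_injective h)))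
    (fun _ _ h => Fin.castLE_injective him' (Sum.inr_injective (Sum.inl_injective h)))
    (fun _ _ => fun h => Sum.inl_ne_inr (Sum.inl_injective h))
    (fun c => by simp [Orthogonal.formMinus_coe, Cfsg.quadFormMinus])
    (fun c => by simp [Orthogonal.formMinus_coe, Cfsg.quadFormMinus])
    (fun c k => by
      rw [Orthogonal.polar_formMinus]
      rcases k with (j | j) | j <;> simp [Pi.single_apply, Finset.sum_add_distrib, eq_comm])
    (fun c k => by
      rw [Orthogonal.polar_formMinus]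
      rcases k with (j | j) | j <;> simp [Pi.single_apply, Finset.sum_add_distrib, eq_comm])
    _ (fun c => by simp) (fun c => by simp)
    (fun k hk => by
      rw [if_neg]
      intro h
      rcases k with (j | j) | j
      · exact (hk ⟨j, h⟩).1 (by simp [Fin.castLE])
      · exact (hk ⟨j, h⟩).2 (by simp [Fin.castLE])
      · simp at h)

end Cfsg.Agent.S2615
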