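import Cfsg.Statements.S2617
import Cfsg.Agent.H57.ZeroCount

set_option autoImplicit false
open Cfsg

namespace Cfsg.Agent.S2617

/-- The two standard quadratic forms of even dimension 2m over a finite field are not isometric: there is no linear isomorphism carrying the elliptic form Σ_(i<m−1) x_i y_i + z₁² + z₁z₂ + ζ z₂² (t² + t + ζ without roots) to the hyperbolic form Σ_(i<m) x_i y_i (they have different Witt index). -/
theorem result {F : Type*} [Field F] [Finite F] {m : ℕ} (hm : 1 ≤ m) (ζ : F) (hζ : ∀ t : F, t ^ 2 + t + ζ ≠ 0) (g : (Fin m ⊕ Fin m → F) ≃ₗ[F] ((Fin (m - 1) ⊕ Fin (m - 1)) ⊕ Fin 2 → F)) : ¬ (∀ v : Fin m ⊕ Fin m → F, Cfsg.quadFormMinus (m - 1) F 1 ζ (g v) = Cfsg.quadFormPlus m F v) := by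
  intro h
  have : Fintype F := Fintype.ofFinite F
  obtain ⟨k, rfl⟩ : ∃ k, m = k + 1 := ⟨m - 1, by omega⟩
  have hab : ∀ z₁ z₂ : F, z₁ ^ 2 + 1 * z₁ * z₂ + ζ * z₂ ^ 2 = 0 → z₁ = 0 ∧ z₂ = 0 := by
    intro z₁ z₂ hz
    by_cases h0 : z₂ = 0
    · subst h0; simp at hz; exact ⟨hz, rfl⟩
    · refine absurd ?_ (hζ (z₁ / z₂))
      field_simp
      linear_combination hz
  have h1 := Nat.card_congr (g.toEquiv.subtypeEquiv
    (p := fun v => Cfsg.quadFormPlus (k + 1) F v = 0)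
    (q := fun w => Cfsg.quadFormMinus (k + 1 - 1) F 1 ζ w = 0)
    fun v => Eq.to_iff (congrArg (· = (0 : F)) (h v).symm))
  have h2 := H57.card_zero_plus_sub_minus k 1 ζ hab
  have h3 : (Nat.card {v // Cfsg.quadFormPlus (k + 1) F v = 0} : ℤ)
      = Nat.card {v : (Fin k ⊕ Fin k) ⊕ Fin 2 → F // Cfsg.quadFormMinus k F 1 ζ v = 0} := by
    exact_mod_cast h1
  rw [h3, sub_self] at h2
  have hq : (2 : ℤ) ≤ Fintype.card F := by exact_mod_cast Fintype.one_lt_card (α := F)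
  have : (0 : ℤ) < 2 * ((Fintype.card F : ℤ) - 1) * (Fintype.card F : ℤ) ^ k :=
    mul_pos (by linarith) (pow_pos (by linarith) k)
  omega

end Cfsg.Agent.S2617
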