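import Cfsg.Statements.S2619


set_option autoImplicit false
open Cfsg

namespace Cfsg.Agent.S2619

/-- Over a finite field of characteristic two, given an alternating bilinear form B on a finite-dimensional space, a basis (v_i) and scalars (λ_i), there is exactly one quadratic form whose polar form is B and whose value at each v_i is λ_i. -/
theorem result {F V ι : Type*} [Field F] [Finite F] [CharP F 2] [AddCommGroup V] [Module F V] [Fintype ι] (b : Module.Basis ι F V) (B : LinearMap.BilinForm F V) (hB : B.IsAlt) (c : ι → F) : ∃! Q : QuadraticForm F V, QuadraticMap.polarBilin Q = B ∧ ∀ i, Q (b i) = c i := by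
  classical
  have hsym : ∀ x y, B y x = B x y := fun x y => by
    have h := LinearMap.IsAlt.neg hB x y
    rw [CharTwo.neg_eq] at h
    exact h.symm
  let o : ι ≃ Fin (Fintype.card ι) := Fintype.equivFin ι
  let C : LinearMap.BilinForm F V := Matrix.toBilin b
    (Matrix.of fun i j => if o i < o j then B (b i) (b j) else if i = j then c i else 0)
  have hC : ∀ i j, C (b i) (b j)
      = if o i < o j then B (b i) (b j) else if i = j then c i else 0 := fun i j => by
    simp [C, Matrix.toBilin_apply, Finsupp.single_apply, ite_mul, mul_ite, Finset.sum_ite_eq]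
    rw [Finset.sum_eq_single i (fun x _ hx => by simp [Ne.symm hx]) (by simp)]
    simp
  have hpol : QuadraticMap.polarBilin (LinearMap.BilinMap.toQuadraticMap C) = B := by
    refine LinearMap.ext_basis b b fun i j => ?_
    rw [QuadraticMap.polarBilin_apply_apply, LinearMap.BilinMap.polar_toQuadraticMap, hC, hC]
    rcases lt_trichotomy (o i) (o j) with h | h | h
    · have : j ≠ i := fun e => h.ne (by rw [e])
      simp [h, h.asymm, this]
    · obtain rfl := o.injective h
      simp [hB.self_eq_zero, CharTwo.add_self_eq_zero]
    · have : i ≠ j := fun e => h.ne (by rw [e])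
      simp [h, h.asymm, this, hsym (b i) (b j)]
  have hval : ∀ i, LinearMap.BilinMap.toQuadraticMap C (b i) = c i := fun i => by
    rw [LinearMap.BilinMap.toQuadraticMap_apply, hC]; simp
  refine ⟨LinearMap.BilinMap.toQuadraticMap C, ⟨hpol, hval⟩, ?_⟩
  rintro Q ⟨hQ1, hQ2⟩
  ext v
  have hadd : ∀ x y, Q (x + y) = Q x + Q y + B x y := fun x y => by
    rw [← hQ1, QuadraticMap.polarBilin_apply_apply]; simp [QuadraticMap.polar]
  have hadd' : ∀ x y, LinearMap.BilinMap.toQuadraticMap C (x + y)
      = LinearMap.BilinMap.toQuadraticMap C x + LinearMap.BilinMap.toQuadraticMap C y + B x y :=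
    fun x y => by
      rw [← hpol, QuadraticMap.polarBilin_apply_apply]; simp [QuadraticMap.polar]
  have hv : v ∈ Submodule.span F (Set.range b) := by rw [b.span_eq]; trivial
  induction hv using Submodule.span_induction with
  | mem x hx => obtain ⟨i, rfl⟩ := hx; rw [hQ2, hval]
  | zero => simp
  | add x y _ _ hx hy => rw [hadd, hadd', hx, hy]
  | smul r x _ hx => rw [QuadraticMap.map_smul, QuadraticMap.map_smul, hx]

end Cfsg.Agent.S2619
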