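import Cfsg.Statements.S2621
import Cfsg.Agent.H57.Discriminant

set_option autoImplicit false
open Cfsg

namespace Cfsg.Agent.S2621

/-- Discriminant of an elliptic quadratic form Σ_(i<m−1) x_i y_i + z₁² + a z₁z₂ + c z₂² (binary part anisotropic) in dimension 2m over a field with q elements, q odd, m ≥ 1: the determinant of the Gram matrix of its polar form in any basis is a square if and only if m(q − 1)/2 is odd (equivalently q^m ≡ 3 (mod 4)). -/
theorem result {F : Type*} [Field F] [Fintype F] {q : ℕ} (hF : Fintype.card F = q) (hq : Odd q) {m : ℕ} (hm : 1 ≤ m) (a c : F) (hac : ∀ z₁ z₂ : F, z₁ ^ 2 + a * z₁ * z₂ + c * z₂ ^ 2 = 0 → z₁ = 0 ∧ z₂ = 0) {ι : Type*} [Fintype ι] [DecidableEq ι] (b : Module.Basis ι F ((Fin (m - 1) ⊕ Fin (m - 1)) ⊕ Fin 2 → F)) : IsSquare (Matrix.of (fun i j : ι => QuadraticMap.polar (Cfsg.quadFormMinus (m - 1) F a c) (b i) (b j))).det ↔ ¬ Even (m * (q - 1) / 2) := by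
  subst hF
  obtain ⟨k, rfl⟩ : ∃ k, m = k + 1 := ⟨m - 1, by omega⟩
  let P : Matrix ((Fin k ⊕ Fin k) ⊕ Fin 2) ((Fin k ⊕ Fin k) ⊕ Fin 2) F :=
    Matrix.fromBlocks (Matrix.fromBlocks 0 1 0 0) 0 0 !![1, a; 0, c]
  obtain ⟨d, hd, h⟩ := H57.gram_det_change
    (B := (LinearMap.BilinMap.toQuadraticMap (Matrix.toBilin' P)).polarBilin)
    b (Pi.basisFun F ((Fin k ⊕ Fin k) ⊕ Fin 2))
  have hQ : ⇑(LinearMap.BilinMap.toQuadraticMap (Matrix.toBilin' P))
      = Cfsg.quadFormMinus k F a c := by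
    funext v
    simp [P, Cfsg.quadFormMinus, Matrix.toBilin'_apply', dotProduct, Matrix.fromBlocks_mulVec,
      Fin.sum_univ_two]
    ring
  simp only [QuadraticMap.polarBilin_apply_apply, hQ, Pi.basisFun_apply] at h
  have hval : (2 : F) * (2 * c) - a * a = -1 * (a ^ 2 - 4 * c) := by ring
  refine Iff.trans (Eq.to_iff (congrArg IsSquare h)) ?_
  rw [H57.isSquare_mul_sq_iff hd, H57.gram_quadFormMinus, Matrix.det_fromBlocks_zero₂₁,
    H57.det_hyperbolicGram, Matrix.det_fin_two_of, hval, ← mul_assoc, ← pow_succ]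
  have hns := H57.disc_nonsquare hq hac
  have hne : a ^ 2 - 4 * c ≠ 0 := fun h0 => hns (by rw [h0]; exact IsSquare.zero)
  rw [H57.isSquare_mul_nonsquare (pow_ne_zero _ (neg_ne_zero.2 one_ne_zero)) hne hns,
    H57.isSquare_neg_one_pow_iff hq]

end Cfsg.Agent.S2621
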