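import Cfsg.Statements.S2622


set_option autoImplicit false
open Cfsg

namespace Cfsg.Agent.S2622

/-- Over a finite field of characteristic two, a non-degenerate symmetric bilinear form that is not alternating (some vector v has B(v, v) ≠ 0) admits an orthonormal basis. -/
theorem result {F V : Type*} [Field F] [Finite F] [CharP F 2] [AddCommGroup V] [Module F V] [FiniteDimensional F V] {n : ℕ} (hV : Module.finrank F V = n) (B : LinearMap.BilinForm F V) (hS : B.IsSymm) (hB : B.Nondegenerate) (hna : ∃ v : V, B v v ≠ 0) : ∃ b : Module.Basis (Fin n) F V, ∀ i j, B (b i) (b j) = if i = j then 1 else 0 := by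
  classical
  have : ExpChar F 2 := ExpChar.prime Nat.prime_two
  have hsqrt : ∀ c : F, ∃ r, r ^ 2 = c := fun c =>
    (Finite.injective_iff_surjective.1 (frobenius_inj F 2)) c
  have hnorm : ∀ x : V, B x x ≠ 0 → ∃ t : F, B (t • x) (t • x) = 1 := by
    intro x hx
    obtain ⟨t, ht⟩ := hsqrt (B x x)⁻¹
    refine ⟨t, ?_⟩
    simp only [map_smul, LinearMap.smul_apply, smul_eq_mul]
    rw [← mul_assoc, ← sq, ht, inv_mul_cancel₀ hx]
  have key : ∀ k, k ≤ n → ∃ v : Fin k → V, (∀ i j, B (v i) (v j) = if i = j then 1 else 0) ∧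
      (k = n ∨ ∃ x : V, (∀ i, B (v i) x = 0) ∧ B x x ≠ 0) := by
    intro k
    induction k with
    | zero =>
      intro _
      obtain ⟨x, hx⟩ := hna
      exact ⟨Fin.elim0, fun i => i.elim0, Or.inr ⟨x, fun i => i.elim0, hx⟩⟩
    | succ k ih =>
      intro hk
      obtain ⟨v, hv, hcase⟩ := ih (by omega)
      obtain ⟨x₀, hx₀, hx₀'⟩ := hcase.resolve_left (by omega)
      obtain ⟨t, ht⟩ := hnorm x₀ hx₀'
      set u := t • x₀ with hu
      have hvu : ∀ i, B (v i) u = 0 := fun i => by simp [hu, hx₀ i]
      have hfam : ∀ w : V, (∀ i, B (v i) w = 0) → B w w = 1 →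
          ∀ i j, B (Fin.snoc (α := fun _ => V) v w i) (Fin.snoc (α := fun _ => V) v w j)
            = if i = j then 1 else 0 := by
        intro w h1 h2 i j
        induction i using Fin.lastCases with
        | last =>
          induction j using Fin.lastCases with
          | last => simp [h2]
          | cast j => rw [hS.eq]; simp [h1 j, (Fin.castSucc_lt_last j).ne']
        | cast i =>
          induction j using Fin.lastCases with
          | last => simp [h1 i, (Fin.castSucc_lt_last i).ne]
          | cast j => simp [hv i j]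
      by_cases hkn : k + 1 = n
      · exact ⟨Fin.snoc v u, hfam u hvu ht, Or.inl hkn⟩
      by_cases hW : ∃ x, (∀ i, B (v i) x = 0) ∧ B u x = 0 ∧ B x x ≠ 0
      · obtain ⟨x, h1, h2, h3⟩ := hW
        refine ⟨Fin.snoc v u, hfam u hvu ht, Or.inr ⟨x, fun i => ?_, h3⟩⟩
        induction i using Fin.lastCases with
        | last => simpa using h2
        | cast i => simpa using h1 i
      push Not at hW
      let f : V →ₗ[F] (Fin k → F) × F := (LinearMap.pi fun i => B (v i)).prod (B u)
      have hker : LinearMap.ker f ≠ ⊥ := by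
        intro hbot
        have h1 := LinearMap.finrank_le_finrank_of_injective (LinearMap.ker_eq_bot.1 hbot)
        rw [hV, Module.finrank_prod, Module.finrank_fin_fun, Module.finrank_self] at h1
        omega
      obtain ⟨x, hxk, hxne⟩ := Submodule.exists_mem_ne_zero_of_ne_bot hker
      have hxv : ∀ i, B (v i) x = 0 := fun i => congrFun (congrArg Prod.fst hxk) i
      have hxu : B u x = 0 := congrArg Prod.snd hxk
      obtain ⟨y₀, hy₀⟩ : ∃ y, B x y ≠ 0 := by
        by_contra hc
        push Not at hc
        exact hxne (hB.1 x hc)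
      set y₁ := (B x y₀)⁻¹ • y₀ with hy₁
      have hxy₁ : B x y₁ = 1 := by simp [hy₁, hy₀]
      set y := y₁ - (∑ i, B (v i) y₁ • v i) - B u y₁ • u with hy
      have hyv : ∀ i, B (v i) y = 0 := fun i => by simp [hy, hv, hvu]
      have huv : ∀ i, B u (v i) = 0 := fun i => by rw [hS.eq, hvu i]
      have hyu : B u y = 0 := by simp [hy, huv, ht]
      have hxy : B x y = 1 := by
        have h1 : ∀ i, B x (v i) = 0 := fun i => by rw [hS.eq, hxv i]
        have h2 : B x u = 0 := by rw [hS.eq, hxu]
        simp [hy, h1, h2, hxy₁]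
      have hxx : B x x = 0 := hW x hxv hxu
      have hyy : B y y = 0 := hW y hyv hyu
      have hu1 : B (u + x) (u + x) = 1 := by simp [ht, hxu, hxx, hS.eq x u]
      have hu1v : ∀ i, B (v i) (u + x) = 0 := fun i => by simp [hvu, hxv]
      refine ⟨Fin.snoc v (u + x), hfam _ hu1v hu1, Or.inr ⟨u + y, fun i => ?_, ?_⟩⟩
      · induction i using Fin.lastCases with
        | last => simp [ht, hyu, hS.eq x u, hxu, hxy, CharTwo.add_self_eq_zero]
        | cast i => simp [hvu, hyv]
      · simp [ht, hyu, hS.eq y u, hyy]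
  obtain ⟨v, hv, -⟩ := key n le_rfl
  have hli : LinearIndependent F v := by
    refine Fintype.linearIndependent_iff.2 fun c hc i => ?_
    have := congrArg (B (v i)) hc
    simpa [hv] using this
  rcases Nat.eq_zero_or_pos n with hn | hn
  · subst hn
    obtain ⟨x, hx⟩ := hna
    have : Subsingleton V := Module.finrank_zero_iff.1 hV
    rw [Subsingleton.elim x 0] at hx
    simp at hx
  · have : Nonempty (Fin n) := ⟨⟨0, hn⟩⟩
    refine ⟨basisOfLinearIndependentOfCardEqFinrank hli (by simp [hV]), fun i j => ?_⟩
    simpa using hv i j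

end Cfsg.Agent.S2622
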