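import Cfsg.Statements.S2623
import Cfsg.Agent.H57.Diagonalise

set_option autoImplicit false
open Cfsg

namespace Cfsg.Agent.S2623

/-- Over a finite field of odd order, two quadratic forms on F^n with non-degenerate polar forms are isometric (related by an invertible linear change of variables) if and only if their discriminants (determinants of the Gram matrices of their polar forms) lie in the same square class. -/
theorem result {F : Type*} [Field F] [Fintype F] (h2 : (2 : F) ≠ 0) {n : ℕ} (Q₁ Q₂ : QuadraticForm F (Fin n → F)) (h₁ : (QuadraticMap.polarBilin Q₁).Nondegenerate) (h₂ : (QuadraticMap.polarBilin Q₂).Nondegenerate) : (∃ g : (Fin n → F) ≃ₗ[F] (Fin n → F), ∀ v, Q₂ (g v) = Q₁ v) ↔ IsSquare ((Matrix.of (fun i j : Fin n => QuadraticMap.polar ⇑Q₁ (Pi.single i 1) (Pi.single j 1))).det * (Matrix.of (fun i j : Fin n => QuadraticMap.polar ⇑Q₂ (Pi.single i 1) (Pi.single j 1))).det) := by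
  classical
  have N₁ := Orthogonal.nondeg_of_polarBilin h₁
  have N₂ := Orthogonal.nondeg_of_polarBilin h₂
  have hgram : ∀ (Q : QuadraticForm F (Fin n → F)) (b : Module.Basis (Fin n) F (Fin n → F)),
      ∃ s : F, s ≠ 0 ∧
        (Matrix.of fun i j : Fin n => QuadraticMap.polar (⇑Q) (Pi.single i 1) (Pi.single j 1)).det
          = s ^ 2 * (Matrix.of fun i j : Fin n => QuadraticMap.polar (⇑Q) (b i) (b j)).det := by
    intro Q b
    obtain ⟨s, hs, h⟩ := H57.gram_det_change Q.polarBilin (Pi.basisFun F (Fin n)) b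
    simp only [QuadraticMap.polarBilin_apply_apply, Pi.basisFun_apply] at h
    exact ⟨s, hs, h⟩
  have hne : ∀ (Q : QuadraticForm F (Fin n → F)), (QuadraticMap.polarBilin Q).Nondegenerate →
      (Matrix.of fun i j : Fin n =>
        QuadraticMap.polar (⇑Q) (Pi.single i 1) (Pi.single j 1)).det ≠ 0 := by
    intro Q hQ
    have := (LinearMap.BilinForm.nondegenerate_iff_det_ne_zero (Pi.basisFun F (Fin n))).1 hQ
    convert this using 2
    ext i j
    simp [LinearMap.BilinForm.toMatrix_apply]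
  constructor
  · rintro ⟨g, hg⟩
    obtain ⟨s, hs, h⟩ := hgram Q₂ ((Pi.basisFun F (Fin n)).map g)
    have hp : ∀ x y, QuadraticMap.polar (⇑Q₂) (g x) (g y) = QuadraticMap.polar (⇑Q₁) x y :=
      fun x y => by simp only [QuadraticMap.polar, ← map_add, hg]
    simp only [Module.Basis.map_apply, Pi.basisFun_apply, hp] at h
    rw [h]
    exact ⟨s * _, by ring⟩
  intro hsq
  rcases Nat.eq_zero_or_pos n with hn | hn
  · subst hn
    refine ⟨LinearEquiv.refl F _, fun v => ?_⟩
    obtain rfl : v = 0 := Subsingleton.elim v 0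
    rw [map_zero, QuadraticMap.map_zero, QuadraticMap.map_zero]
  obtain ⟨k, rfl⟩ : ∃ k, n = k + 1 := ⟨n - 1, by omega⟩
  obtain ⟨d₁, b₁, hd₁, q₁, o₁⟩ := H57.exists_diag h2 Q₁ N₁ k (by simp)
  obtain ⟨d₂, b₂, hd₂, q₂, o₂⟩ := H57.exists_diag h2 Q₂ N₂ k (by simp)
  have hdet : ∀ (Q : QuadraticForm F (Fin (k + 1) → F))
      (b : Module.Basis (Fin (k + 1)) F (Fin (k + 1) → F)) (d : F),
      (∀ i, Q (b i) = H57.lastWeight k d i) →
      (∀ i j, i ≠ j → QuadraticMap.polar (⇑Q) (b i) (b j) = 0) →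
      (Matrix.of fun i j : Fin (k + 1) => QuadraticMap.polar (⇑Q) (b i) (b j)).det
        = 2 ^ (k + 1) * d := by
    intro Q b d hq ho
    have : (Matrix.of fun i j : Fin (k + 1) => QuadraticMap.polar (⇑Q) (b i) (b j))
        = Matrix.diagonal (fun i => 2 * H57.lastWeight k d i) := by
      ext i j
      by_cases hij : i = j
      · subst hij; simp [hq, Orthogonal.polar_self']
      · simp [hij, ho i j hij]
    rw [this, Matrix.det_diagonal, Finset.prod_mul_distrib, Finset.prod_const, Finset.card_univ,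
      Fintype.card_fin, Fin.prod_univ_castSucc]
    simp [H57.lastWeight]
  obtain ⟨s₁, hs₁, e₁⟩ := hgram Q₁ b₁
  obtain ⟨s₂, hs₂, e₂⟩ := hgram Q₂ b₂
  rw [hdet Q₁ b₁ d₁ q₁ o₁] at e₁
  rw [hdet Q₂ b₂ d₂ q₂ o₂] at e₂
  obtain ⟨t, ht⟩ := hsq
  rw [e₁, e₂] at ht
  -- `d₁ * d₂` is a square, so rescale the last vector
  have h20 : (2 : F) ^ (k + 1) ≠ 0 := pow_ne_zero _ h2
  set r : F := t / (2 ^ (k + 1) * (s₁ * s₂) * d₂) with hr
  have hr2 : r ^ 2 * d₂ = d₁ := by
    rw [hr]; field_simp; linear_combination -ht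
  have hr0 : r ≠ 0 := fun h0 => hd₁ (by rw [← hr2, h0]; ring)
  let b₂' := b₂.unitsSMul (Fin.snoc (fun _ => 1) (Units.mk0 r hr0))
  obtain ⟨e, -, he⟩ := Orthogonal.equiv_of_bases b₁ b₂' (Q := Q₁) (Q' := Q₂)
    (fun i => by
      simp only [b₂', Module.Basis.unitsSMul_apply, Units.smul_def, QuadraticMap.map_smul,
        smul_eq_mul, q₁, q₂]
      induction i using Fin.lastCases with
      | last => simp [H57.lastWeight]; linear_combination hr2
      | cast i => simp [H57.lastWeight])
    (fun i j hij => by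
      simp [b₂', Module.Basis.unitsSMul_apply, Units.smul_def, QuadraticMap.polar_smul_left,
        QuadraticMap.polar_smul_right, o₁ i j hij, o₂ i j hij])
  exact ⟨e, he⟩

end Cfsg.Agent.S2623
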