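import Cfsg.Statements.S2625


set_option autoImplicit false
open Cfsg

namespace Cfsg.Agent.S2625

/-- For a quadratic form Q on F^n with non-degenerate polar form, F finite and n odd (so |F| is odd), the multiplier of any similarity is a square: if g is an invertible linear map with Q(g v) = c·Q(v) for all v then c is a square. -/
theorem result {F : Type*} [Field F] [Fintype F] {n : ℕ} (hn : Odd n) (Q : QuadraticForm F (Fin n → F)) (hQ : (QuadraticMap.polarBilin Q).Nondegenerate) (g : (Fin n → F) ≃ₗ[F] (Fin n → F)) (c : F) (hg : ∀ v, Q (g v) = c * Q v) : IsSquare c := by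
  classical
  let b : Module.Basis (Fin n) F (Fin n → F) := Pi.basisFun F (Fin n)
  let B : LinearMap.BilinForm F (Fin n → F) := QuadraticMap.polarBilin Q
  let f : (Fin n → F) →ₗ[F] (Fin n → F) := g.toLinearMap
  have hcomp : B.comp f f = c • B := by
    refine LinearMap.ext fun x => LinearMap.ext fun y => ?_
    simp only [LinearMap.BilinForm.comp_apply, LinearMap.smul_apply, smul_eq_mul, B, f,
      QuadraticMap.polarBilin_apply_apply, QuadraticMap.polar, LinearEquiv.coe_coe, ← map_add, hg]
    ring
  have h1 : LinearMap.BilinForm.toMatrix b (B.comp f f)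
      = c • LinearMap.BilinForm.toMatrix b B := by rw [hcomp, map_smul]
  rw [LinearMap.BilinForm.toMatrix_comp b (c := b)] at h1
  have h2 := congrArg Matrix.det h1
  simp only [Matrix.det_mul, Matrix.det_transpose, Matrix.det_smul, Fintype.card_fin] at h2
  have hd : (LinearMap.BilinForm.toMatrix b B).det ≠ 0 :=
    (LinearMap.BilinForm.nondegenerate_iff_det_ne_zero b).1 hQ
  set D := (LinearMap.toMatrix b b f).det
  have h3 : D ^ 2 = c ^ n := mul_right_cancel₀ hd (by linear_combination h2)
  obtain ⟨k, rfl⟩ := hn
  by_cases hc : c = 0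
  · subst hc; exact ⟨0, by simp⟩
  · refine ⟨D / c ^ k, ?_⟩
    field_simp
    linear_combination -h3

end Cfsg.Agent.S2625
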