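import Cfsg.Statements.S2627
import Cfsg.Agent.H57.BlockIso
import Cfsg.Agent.H57.ReflProd

set_option autoImplicit false
open Cfsg

namespace Cfsg.Agent.S2627

/-- For an orthogonal direct sum Q = Q₁ ⊕ Q₂ of quadratic forms with non-degenerate polar forms over a finite field, an isometry g₁ of Q₁ extended by the identity on the second summand lies in Ω(Q) (the commutator subgroup of the orthogonal group of Q) if and only if g₁ lies in Ω(Q₁). (Excluded: the field of two elements when the first summand or the whole space has dimension 4, where the commutator subgroup of O⁺₄(2) is smaller than the group usually called Ω.) -/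
theorem result {F : Type*} [Field F] [Fintype F] {k l : ℕ} (h : Fintype.card F ≠ 2 ∨ (k ≠ 4 ∧ k + l ≠ 4)) (Q₁ : QuadraticForm F (Fin k → F)) (Q₂ : QuadraticForm F (Fin l → F)) (h₁ : (QuadraticMap.polarBilin Q₁).Nondegenerate) (h₂ : (QuadraticMap.polarBilin Q₂).Nondegenerate) (g₁ : ↥(Cfsg.isometryGroup F ⇑Q₁)) : (∃ g : ↥(Cfsg.isometryGroup F (fun v : Fin k ⊕ Fin l → F => Q₁ (v ∘ Sum.inl) + Q₂ (v ∘ Sum.inr))), g ∈ Cfsg.Omega F (fun v : Fin k ⊕ Fin l → F => Q₁ (v ∘ Sum.inl) + Q₂ (v ∘ Sum.inr)) ∧ ((g : Matrix.GeneralLinearGroup (Fin k ⊕ Fin l) F) : Matrix (Fin k ⊕ Fin l) (Fin k ⊕ Fin l) F) = Matrix.fromBlocks ((g₁ : Matrix.GeneralLinearGroup (Fin k) F) : Matrix (Fin k) (Fin k) F) 0 0 1) ↔ g₁ ∈ Cfsg.Omega F ⇑Q₁ := by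
  open Cfsg.Agent.Orthogonal in
  let f₁ := LinearMap.funLeft F F (Sum.inl : Fin k → Fin k ⊕ Fin l)
  let f₂ := LinearMap.funLeft F F (Sum.inr : Fin l → Fin k ⊕ Fin l)
  let Q : QuadraticForm F (Fin k ⊕ Fin l → F) := Q₁.comp f₁ + Q₂.comp f₂
  show (∃ g : ↥(Cfsg.isometryGroup F (⇑Q)), g ∈ Cfsg.Omega F (⇑Q) ∧
    ((g : Matrix.GeneralLinearGroup (Fin k ⊕ Fin l) F) :
      Matrix (Fin k ⊕ Fin l) (Fin k ⊕ Fin l) F) = _) ↔ _
  have n1 : Orthogonal.Nondeg Q₁ := Orthogonal.nondeg_of_polarBilin h₁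
  have n2 : Orthogonal.Nondeg Q₂ := Orthogonal.nondeg_of_polarBilin h₂
  have hpol : ∀ x y : Fin k ⊕ Fin l → F, QuadraticMap.polar Q x y =
      QuadraticMap.polar Q₁ (x ∘ Sum.inl) (y ∘ Sum.inl) +
        QuadraticMap.polar Q₂ (x ∘ Sum.inr) (y ∘ Sum.inr) := fun x y => by
    show (Q₁ ((x + y) ∘ Sum.inl) + Q₂ ((x + y) ∘ Sum.inr)) - (Q₁ (x ∘ Sum.inl) + Q₂ (x ∘ Sum.inr))
      - (Q₁ (y ∘ Sum.inl) + Q₂ (y ∘ Sum.inr)) = _
    simp only [QuadraticMap.polar, Pi.add_comp]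
    ring
  have hQ : Orthogonal.Nondeg Q := by
    intro x hx
    have a : x ∘ Sum.inl = 0 := n1 _ fun y => by
      have := hx (Sum.elim y 0)
      rwa [hpol, Sum.elim_comp_inl, Sum.elim_comp_inr, QuadraticMap.polar_zero_right, add_zero]
        at this
    have b : x ∘ Sum.inr = 0 := n2 _ fun y => by
      have := hx (Sum.elim 0 y)
      rwa [hpol, Sum.elim_comp_inl, Sum.elim_comp_inr, QuadraticMap.polar_zero_right, zero_add]
        at this
    funext i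
    rcases i with i | i
    · exact congrFun a i
    · exact congrFun b i
  let S : ↥(Cfsg.isometryGroup F (⇑Q₁)) × ↥(Cfsg.isometryGroup F (⇑Q₂)) →*
      ↥(Cfsg.isometryGroup F (⇑Q)) := H57.sumIso (⇑Q₁) (⇑Q₂)
  have hS : ∀ p, ((S p : GL (Fin k ⊕ Fin l) F) : Matrix (Fin k ⊕ Fin l) (Fin k ⊕ Fin l) F) =
      Matrix.fromBlocks ((p.1 : GL (Fin k) F) : Matrix (Fin k) (Fin k) F) 0 0
        ((p.2 : GL (Fin l) F) : Matrix (Fin l) (Fin l) F) := fun p => rfl
  let E : Orthogonal.O Q₁ →* Orthogonal.O Q :=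
    (Orthogonal.toO Q).toMonoidHom.comp
      (S.comp
        ((MonoidHom.inl _ _).comp (Orthogonal.toO Q₁).symm.toMonoidHom))
  have hE : ∀ v : Fin k → F, E (Orthogonal.rO Q₁ v) =
      Orthogonal.rO Q (Sum.elim v 0 : Fin k ⊕ Fin l → F) := by
    intro v
    refine Orthogonal.O.ext_app fun x => ?_
    rw [Orthogonal.rO_app]
    have hQv : Q (Sum.elim v 0 : Fin k ⊕ Fin l → F) = Q₁ v := by
      show Q₁ ((Sum.elim v 0 : Fin k ⊕ Fin l → F) ∘ Sum.inl) +
        Q₂ ((Sum.elim v 0 : Fin k ⊕ Fin l → F) ∘ Sum.inr) = _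
      rw [Sum.elim_comp_inl, Sum.elim_comp_inr, QuadraticMap.map_zero, add_zero]
    rw [hQv, hpol, Sum.elim_comp_inl, Sum.elim_comp_inr, QuadraticMap.polar_zero_left, add_zero]
    show ((S ((Orthogonal.toO Q₁).symm (Orthogonal.rO Q₁ v), 1) :
      GL (Fin k ⊕ Fin l) F) : Matrix (Fin k ⊕ Fin l) (Fin k ⊕ Fin l) F).mulVec x = _
    rw [hS, Matrix.fromBlocks_mulVec]
    funext i
    rcases i with i | i
    · simp [Orthogonal.toO_symm_apply, Orthogonal.rO_app]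
    · simp
  have key : (∃ g : ↥(Cfsg.isometryGroup F (⇑Q)), g ∈ Cfsg.Omega F (⇑Q) ∧
      ((g : Matrix.GeneralLinearGroup (Fin k ⊕ Fin l) F) :
        Matrix (Fin k ⊕ Fin l) (Fin k ⊕ Fin l) F) =
      Matrix.fromBlocks ((g₁ : Matrix.GeneralLinearGroup (Fin k) F) : Matrix (Fin k) (Fin k) F) 0 0 1)
      ↔ E (Orthogonal.toO Q₁ g₁) ∈ commutator (Orthogonal.O Q) := by
    have e : E (Orthogonal.toO Q₁ g₁) = Orthogonal.toO Q (S (g₁, 1)) := by
      show Orthogonal.toO Q (S ((Orthogonal.toO Q₁).symm (Orthogonal.toO Q₁ g₁), 1)) = _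
      rw [MulEquiv.symm_apply_apply]
    rw [e, ← Orthogonal.mem_omega_iff]
    constructor
    · rintro ⟨g, hg, hgM⟩
      have : g = S (g₁, 1) := Subtype.ext (Units.ext (hgM.trans (hS (g₁, 1)).symm))
      exact this ▸ hg
    · exact fun hg => ⟨_, hg, hS (g₁, 1)⟩
  rw [key, Orthogonal.mem_omega_iff]
  refine ⟨fun hg => ?_, fun hg => H57.mem_commutator_map E hg⟩
  by_cases h2 : (2 : F) = 0
  · have hr1 : Orthogonal.reflGroup Q₁ = ⊤ := Orthogonal.reflGroup_eq_top n1 (by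
      rw [Nat.card_eq_fintype_card, Module.finrank_fin_fun]
      exact h.imp_right And.left)
    have hr : Orthogonal.reflGroup Q = ⊤ := Orthogonal.reflGroup_eq_top hQ (by
      rw [Nat.card_eq_fintype_card, Module.finrank_fintype_fun_eq_card, Fintype.card_sum,
        Fintype.card_fin, Fintype.card_fin]
      exact h.imp_right And.right)
    rw [Orthogonal.commutator_eq_ker_dickson hQ hr h2, MonoidHom.mem_ker] at hg
    rw [Orthogonal.commutator_eq_ker_dickson n1 hr1 h2, MonoidHom.mem_ker, ← hg]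
    refine DFunLike.congr_fun (?_ : Orthogonal.dickson n1 hr1 =
      (Orthogonal.dickson hQ hr).comp E) _
    refine MonoidHom.eq_of_eqOn_dense hr1 ?_
    rintro - ⟨v, rfl⟩
    by_cases hv : Q₁ v = 0
    · rw [Orthogonal.rO_of_singular hv, map_one, map_one]
    · rw [MonoidHom.comp_apply, hE, Orthogonal.dickson_rO n1 hr1 hv, Orthogonal.dickson_rO hQ hr]
      show Q₁ ((Sum.elim v 0 : Fin k ⊕ Fin l → F) ∘ Sum.inl) +
        Q₂ ((Sum.elim v 0 : Fin k ⊕ Fin l → F) ∘ Sum.inr) ≠ 0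
      rwa [Sum.elim_comp_inl, Sum.elim_comp_inr, QuadraticMap.map_zero, add_zero]
  · rw [Orthogonal.mem_commutator_iff hQ h2] at hg
    rw [Orthogonal.mem_commutator_iff n1 h2]
    have hval : ∀ v : Fin k → F, Q (Sum.elim v 0 : Fin k ⊕ Fin l → F) = Q₁ v := fun v => by
      show Q₁ ((Sum.elim v 0 : Fin k ⊕ Fin l → F) ∘ Sum.inl) +
        Q₂ ((Sum.elim v 0 : Fin k ⊕ Fin l → F) ∘ Sum.inr) = _
      rw [Sum.elim_comp_inl, Sum.elim_comp_inr, QuadraticMap.map_zero, add_zero]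
    refine ⟨Eq.trans ?_ hg.1, Eq.trans ?_ hg.2⟩
    · refine DFunLike.congr_fun (Orthogonal.hom_ext_rO n1 h2
        (ψ := (Orthogonal.detSign Q hQ h2).comp E) fun v hv => ?_) _
      rw [MonoidHom.comp_apply, hE, Orthogonal.detSign_rO n1 h2 hv,
        Orthogonal.detSign_rO hQ h2 (by rwa [hval])]
    · refine DFunLike.congr_fun (Orthogonal.hom_ext_rO n1 h2
        (ψ := (Orthogonal.spinor Q hQ h2).comp E) fun v hv => ?_) _
      rw [MonoidHom.comp_apply, hE, Orthogonal.spinor_rO n1 h2 hv,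
        Orthogonal.spinor_rO hQ h2 (by rwa [hval]), hval]

end Cfsg.Agent.S2627
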