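import Cfsg.Statements.S2628
import Cfsg.Agent.H57.ReflClass
import Cfsg.Agent.H57.BlockIso
import Cfsg.Agent.Orthogonal.Det

set_option autoImplicit false
open Cfsg

namespace Cfsg.Agent.S2628

/-- For the orthogonal direct sum Q ⊕ Q of two copies of a quadratic form Q with non-degenerate polar form on F^k (F finite), every isometry g of Q acting diagonally, diag(g, g), lies in Ω(Q ⊕ Q), the commutator subgroup of the orthogonal group of Q ⊕ Q. (Excluded: k = 2 over the field of two elements, where Q ⊕ Q is the hyperbolic 4-space whose orthogonal group's commutator subgroup is smaller than the group usually called Ω.) -/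
theorem result {F : Type*} [Field F] [Fintype F] {k : ℕ} (h : Fintype.card F ≠ 2 ∨ k ≠ 2) (Q : QuadraticForm F (Fin k → F)) (hQ : (QuadraticMap.polarBilin Q).Nondegenerate) (g : ↥(Cfsg.isometryGroup F ⇑Q)) : ∃ x : ↥(Cfsg.isometryGroup F (fun v : Fin k ⊕ Fin k → F => Q (v ∘ Sum.inl) + Q (v ∘ Sum.inr))), x ∈ Cfsg.Omega F (fun v : Fin k ⊕ Fin k → F => Q (v ∘ Sum.inl) + Q (v ∘ Sum.inr)) ∧ ((x : Matrix.GeneralLinearGroup (Fin k ⊕ Fin k) F) : Matrix (Fin k ⊕ Fin k) (Fin k ⊕ Fin k) F) = Matrix.fromBlocks ((g : Matrix.GeneralLinearGroup (Fin k) F) : Matrix (Fin k) (Fin k) F) 0 0 ((g : Matrix.GeneralLinearGroup (Fin k) F) : Matrix (Fin k) (Fin k) F) := by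
  classical
  let QQ : QuadraticForm F (Fin k ⊕ Fin k → F) :=
    Q.comp (LinearMap.funLeft F F Sum.inl) + Q.comp (LinearMap.funLeft F F Sum.inr)
  have hQQ : (⇑QQ : (Fin k ⊕ Fin k → F) → F) = H57.sumForm ⇑Q ⇑Q := by
    funext v; rfl
  have N : Orthogonal.Nondeg QQ := by
    intro x hx
    have N0 := Orthogonal.nondeg_of_polarBilin hQ
    have key : ∀ y, QuadraticMap.polar (⇑QQ) x y
        = QuadraticMap.polar (⇑Q) (x ∘ Sum.inl) (y ∘ Sum.inl)
          + QuadraticMap.polar (⇑Q) (x ∘ Sum.inr) (y ∘ Sum.inr) := fun y => by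
      rw [hQQ]
      simp only [QuadraticMap.polar, H57.sumForm, show ∀ f : Fin k → Fin k ⊕ Fin k,
        (x + y) ∘ f = x ∘ f + y ∘ f from fun f => rfl]
      ring
    have h1 : x ∘ Sum.inl = 0 := N0 _ fun z => by
      have := hx (Sum.elim z 0)
      rwa [key, Sum.elim_comp_inl, Sum.elim_comp_inr, QuadraticMap.polar_zero_right, add_zero] at this
    have h2 : x ∘ Sum.inr = 0 := N0 _ fun z => by
      have := hx (Sum.elim 0 z)
      rwa [key, Sum.elim_comp_inl, Sum.elim_comp_inr, QuadraticMap.polar_zero_right, zero_add] at this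
    funext s
    rcases s with i | i
    · exact congrFun h1 i
    · exact congrFun h2 i
  have htop := Orthogonal.closure_reflections_eq_top N (by
    rw [Nat.card_eq_fintype_card, Fintype.card_sum, Fintype.card_fin]
    rcases h with h | h
    · exact Or.inl h
    · exact Or.inr (by omega))
  -- every class squares to one
  let G := ↥(Cfsg.isometryGroup F ⇑QQ)
  have hsq : ∀ g : G, (Abelianization.of g : Abelianization G) ^ 2 = 1 := by
    intro g
    have hg : g ∈ (powMonoidHom 2 : Abelianization G →* Abelianization G).ker.comap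
        Abelianization.of := by
      have hle : ∀ y ∈ ({g : G | ∃ v, QQ v ≠ 0 ∧ ((g : GL (Fin k ⊕ Fin k) F) :
          Matrix _ _ F) = Cfsg.reflectionMatrix (⇑QQ) v}),
          y ∈ (powMonoidHom 2 : Abelianization G →* Abelianization G).ker.comap
            Abelianization.of := by
        rintro y ⟨v, -, hy⟩
        rw [Subgroup.mem_comap, MonoidHom.mem_ker, powMonoidHom_apply, ← map_pow]
        have : y = Orthogonal.reflIso QQ v :=
          Subtype.ext (Units.ext (by rw [hy, Orthogonal.reflIso_val]))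
        rw [this, sq, Orthogonal.reflIso, ← map_mul, Orthogonal.rO_mul_self, map_one, map_one]
      exact (Subgroup.closure_le _).2 hle (by rw [htop]; trivial)
    simpa [powMonoidHom_apply] using hg
  let S := H57.sumIso ⇑Q ⇑Q
  have hswapmem : Matrix.GeneralLinearGroup.mkOfDetNeZero
      ((Equiv.Perm.permMatrix F (Equiv.sumComm (Fin k) (Fin k) : Equiv.Perm (Fin k ⊕ Fin k)))) (by
        rw [Matrix.det_permutation]
        rcases Int.units_eq_one_or (Equiv.Perm.sign (Equiv.sumComm (Fin k) (Fin k) : Equiv.Perm (Fin k ⊕ Fin k))) with h' | h' <;>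
          simp [h']) ∈ Cfsg.isometryGroup F (H57.sumForm ⇑Q ⇑Q) := by
    intro v w
    show H57.sumForm ⇑Q ⇑Q ((Equiv.Perm.permMatrix F
      (Equiv.sumComm (Fin k) (Fin k) : Equiv.Perm (Fin k ⊕ Fin k))).mulVec v)
        = H57.sumForm ⇑Q ⇑Q v
    rw [Matrix.permMatrix_mulVec]
    show Q ((v ∘ _) ∘ Sum.inl) + Q ((v ∘ _) ∘ Sum.inr) = Q (v ∘ Sum.inl) + Q (v ∘ Sum.inr)
    rw [add_comm]; rfl
  set w : ↥(Cfsg.isometryGroup F (H57.sumForm ⇑Q ⇑Q)) := ⟨_, hswapmem⟩ with hw
  have hconj : S (1, g) * w = w * S (g, 1) := by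
    apply Subtype.ext; apply Units.ext
    rw [Subgroup.coe_mul, Subgroup.coe_mul, Units.val_mul, Units.val_mul, H57.sumIso_coe,
      H57.sumIso_coe]
    show _ * (Equiv.Perm.permMatrix F (Equiv.sumComm (Fin k) (Fin k) : Equiv.Perm (Fin k ⊕ Fin k))) = (Equiv.Perm.permMatrix F (Equiv.sumComm (Fin k) (Fin k) : Equiv.Perm (Fin k ⊕ Fin k))) * _
    refine Matrix.ext_iff_mulVec.2 fun v => ?_
    rw [← Matrix.mulVec_mulVec, ← Matrix.mulVec_mulVec, Matrix.permMatrix_mulVec,
      Matrix.permMatrix_mulVec, Matrix.fromBlocks_mulVec, Matrix.fromBlocks_mulVec]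
    funext s
    rcases s with i | i <;> simp [Function.comp_def]
  refine ⟨S (g, g), ?_, H57.sumIso_coe ⇑Q ⇑Q (g, g)⟩
  have hof : ∀ x : ↥(Cfsg.isometryGroup F (H57.sumForm ⇑Q ⇑Q)),
      (Abelianization.of x : Abelianization _) ^ 2 = 1 := hsq
  rw [Cfsg.Omega, ← H57.of_eq_one_iff, show ((g, g) : _ × _) = (g, 1) * (1, g) by simp, map_mul,
    map_mul]
  have := congrArg Abelianization.of hconj
  rw [map_mul, map_mul, mul_comm (Abelianization.of w)] at this
  rw [mul_right_cancel this, ← sq]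
  exact hof _

end Cfsg.Agent.S2628
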