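import Cfsg.Statements.S2631
import Cfsg.Agent.H57.HyperbolicOmega
import Cfsg.Agent.Orthogonal.Witt

set_option autoImplicit false
open Cfsg

namespace Cfsg.Agent.S2631

/-- For the hyperbolic form Σ x_i y_i on F^(2m) over a finite field (m ≥ 1, excluding m = 2 over the field of two elements), Ω (the commutator subgroup of the orthogonal group) acts transitively on each of the two classes of maximal totally singular subspaces: if U and W are m-dimensional totally singular subspaces with m − dim(U ∩ W) even, some element of Ω carries U to W. -/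
theorem result {F : Type*} [Field F] [Fintype F] {m : ℕ} (hm : 1 ≤ m) (h : Fintype.card F ≠ 2 ∨ m ≠ 2) (U W : Submodule F (Fin m ⊕ Fin m → F)) (hU : Module.finrank F U = m) (hW : Module.finrank F W = m) (hU0 : ∀ u ∈ U, Cfsg.quadFormPlus m F u = 0) (hW0 : ∀ w ∈ W, Cfsg.quadFormPlus m F w = 0) (he : Even (m - Module.finrank F ↥(U ⊓ W))) : ∃ g : ↥(Cfsg.isometryGroup F (Cfsg.quadFormPlus m F)), g ∈ Cfsg.Omega F (Cfsg.quadFormPlus m F) ∧ U.map (Matrix.mulVecLin ((g : Matrix.GeneralLinearGroup (Fin m ⊕ Fin m) F) : Matrix (Fin m ⊕ Fin m) (Fin m ⊕ Fin m) F)) = W := by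
  classical
  let Q := Orthogonal.formPlus F m
  have hQ : Orthogonal.Nondeg Q := by
    intro x hx
    funext k
    rcases k with i | i
    · have := hx (Pi.single (Sum.inr i) 1)
      simpa [Q, Orthogonal.formPlus_coe, QuadraticMap.polar, Cfsg.quadFormPlus, add_mul, mul_add,
        Finset.sum_add_distrib, Pi.single_apply] using this
    · have := hx (Pi.single (Sum.inl i) 1)
      simpa [Q, Orthogonal.formPlus_coe, QuadraticMap.polar, Cfsg.quadFormPlus, add_mul, mul_add,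
        Finset.sum_add_distrib, Pi.single_apply] using this
  set U₀ := LinearMap.ker (LinearMap.funLeft F F (Sum.inr : Fin m → Fin m ⊕ Fin m)) with hU₀
  have hU₀0 : Orthogonal.TotSing Q U₀ := fun w hw => by
    show Cfsg.quadFormPlus m F w = 0
    simp [Cfsg.quadFormPlus, (H57.Hyp.mem_kerInr w).1 hw]
  have hU₀m : Module.finrank F U₀ = m := by
    have h1 := LinearMap.finrank_range_add_finrank_ker
      (LinearMap.funLeft F F (Sum.inr : Fin m → Fin m ⊕ Fin m))
    rw [LinearMap.range_eq_top.2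
      (LinearMap.funLeft_surjective_of_injective F F _ Sum.inr_injective), finrank_top,
      Module.finrank_fin_fun, Module.finrank_pi, Fintype.card_sum, Fintype.card_fin, ← hU₀] at h1
    omega
  have key : ∀ X : Submodule F (Fin m ⊕ Fin m → F), Module.finrank F X = m →
      (∀ x ∈ X, Cfsg.quadFormPlus m F x = 0) → ∃ g : H57.Hyp.Op m F,
      U₀.map (Matrix.mulVecLin (H57.Hyp.mt g)) = X := by
    intro X hX hX0
    obtain ⟨g, hg⟩ := hU₀0.exists_map_le hQ (W' := X) hX0 (by rw [hU₀m, hX])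
    refine ⟨(Orthogonal.toO Q).symm g, ?_⟩
    have hlin : Matrix.mulVecLin (H57.Hyp.mt ((Orthogonal.toO Q).symm g))
        = ((g : (Fin m ⊕ Fin m → F) ≃ₗ[F] (Fin m ⊕ Fin m → F)) :
            (Fin m ⊕ Fin m → F) →ₗ[F] (Fin m ⊕ Fin m → F)) :=
      LinearMap.ext fun v => Orthogonal.toO_symm_apply Q g v
    rw [hlin]
    exact Submodule.eq_of_le_of_finrank_eq hg (by rw [LinearEquiv.finrank_map_eq, hU₀m, hX])
  obtain ⟨g₁, hg₁⟩ := key U hU hU0
  obtain ⟨g₂, hg₂⟩ := key W hW hW0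
  have hmap : ∀ (a b : H57.Hyp.Op m F) (X : Submodule F (Fin m ⊕ Fin m → F)),
      X.map (Matrix.mulVecLin (H57.Hyp.mt (a * b)))
        = (X.map (Matrix.mulVecLin (H57.Hyp.mt b))).map (Matrix.mulVecLin (H57.Hyp.mt a)) :=
    fun a b X => by rw [H57.Hyp.mt_mul, Matrix.mulVecLin_mul, Submodule.map_comp]
  set g := g₁⁻¹ * g₂ with hgdef
  have hUW : U ⊓ W = (U₀ ⊓ U₀.map (Matrix.mulVecLin (H57.Hyp.mt g))).map
      (Matrix.mulVecLin (H57.Hyp.mt g₁)) := by
    rw [Submodule.map_inf _ (Matrix.mulVec_injective_iff_isUnit.2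
      (g₁ : GL (Fin m ⊕ Fin m) F).isUnit), ← hmap, hgdef, mul_inv_cancel_left, hg₁, hg₂]
  have hfr : Module.finrank F ↥(U ⊓ W)
      = Module.finrank F ↥(U₀ ⊓ U₀.map (Matrix.mulVecLin (H57.Hyp.mt g))) := by
    rw [hUW]
    exact ((Submodule.equivMapOfInjective _ (Matrix.mulVec_injective_iff_isUnit.2
      (g₁ : GL (Fin m ⊕ Fin m) F).isUnit) _).finrank_eq).symm
  rw [hfr, hU₀, H57.Hyp.parity_eq_rank g] at he
  obtain ⟨p₁, h₁, p₂, h₂, T, hgT, hT⟩ := H57.Hyp.exists_cell g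
  rw [← hT] at he
  have hstab : ∀ p ∈ H57.Hyp.parabolic m F, U₀.map (Matrix.mulVecLin (H57.Hyp.mt p)) = U₀ := by
    intro p hp
    refine Submodule.eq_of_le_of_finrank_eq ?_ ?_
    · rintro - ⟨v, hv, rfl⟩
      refine (H57.Hyp.mem_kerInr _).2 fun i => ?_
      rw [Matrix.mulVecLin_apply, H57.Hyp.mt_eq p, Matrix.fromBlocks_mulVec,
        H57.Hyp.mem_parabolic.1 hp]
      have : v ∘ Sum.inr = 0 := funext ((H57.Hyp.mem_kerInr v).1 hv)
      simp [this]
    · exact ((Submodule.equivMapOfInjective _ (Matrix.mulVec_injective_iff_isUnit.2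
        (p : GL (Fin m ⊕ Fin m) F).isUnit) _).finrank_eq).symm
  refine ⟨g₁ * (p₁ * H57.Hyp.swapT T * p₁⁻¹) * g₁⁻¹,
    (inferInstance : (commutator _).Normal).conj_mem _
      ((inferInstance : (commutator _).Normal).conj_mem _ (H57.Hyp.swapT_mem_om he) p₁) g₁, ?_⟩
  show U.map (Matrix.mulVecLin (H57.Hyp.mt _)) = W
  rw [← hg₁, ← hmap, inv_mul_cancel_right, ← hg₂, show g₂ = g₁ * g by rw [hgdef]; group, hgT,
    hmap g₁ (p₁ * H57.Hyp.swapT T * p₁⁻¹), hmap g₁ (p₁ * H57.Hyp.swapT T * p₂),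
    hmap _ p₁⁻¹, hmap _ p₂, hstab _ h₂, hstab _ (inv_mem h₁)]

end Cfsg.Agent.S2631
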