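import Cfsg.Statements.S2632
import Cfsg.Agent.H57.ReflClass

set_option autoImplicit false
open Cfsg

namespace Cfsg.Agent.S2632

/-- Ω is transitive on non-degenerate subspaces of each isometry type: for a quadratic form Q on F^n, n ≥ 3, with non-degenerate polar form (F finite; excluding dimension 4 over the field of two elements), if U and W are subspaces on which the polar form is non-degenerate and there is a Q-preserving linear isomorphism U → W, then some element of Ω (the commutator subgroup of the orthogonal group) carries U to W. (In dimension 2 this fails: Ω can be {±1}, which fixes every line.) -/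
theorem result {F : Type*} [Field F] [Fintype F] {n : ℕ} (hn : 3 ≤ n) (h : Fintype.card F ≠ 2 ∨ n ≠ 4) (Q : QuadraticForm F (Fin n → F)) (hQ : (QuadraticMap.polarBilin Q).Nondegenerate) (U W : Submodule F (Fin n → F)) (hU : U ⊓ LinearMap.BilinForm.orthogonal (QuadraticMap.polarBilin Q) U = ⊥) (hW : W ⊓ LinearMap.BilinForm.orthogonal (QuadraticMap.polarBilin Q) W = ⊥) (e : U ≃ₗ[F] W) (he : ∀ u : U, Q (e u : Fin n → F) = Q (u : Fin n → F)) : ∃ g : ↥(Cfsg.isometryGroup F ⇑Q), g ∈ Cfsg.Omega F ⇑Q ∧ U.map (Matrix.mulVecLin ((g : Matrix.GeneralLinearGroup (Fin n) F) : Matrix (Fin n) (Fin n) F)) = W := by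
  classical
  have N := Orthogonal.nondeg_of_polarBilin hQ
  have NU : Orthogonal.Nondeg (Orthogonal.restr Q U) :=
    (Orthogonal.nondeg_restr_iff U).2 (by rw [Orthogonal.perp_eq_orthogonal]; exact hU)
  obtain ⟨g, hg⟩ := Orthogonal.witt N U (W.subtype.comp e.toLinearMap)
    (W.injective_subtype.comp e.injective) he
  have hgmap : U.map (((g : (Fin n → F) ≃ₗ[F] (Fin n → F))) :
      (Fin n → F) →ₗ[F] (Fin n → F)) = W := by
    ext x
    constructor
    · rintro ⟨y, hy, rfl⟩
      rw [LinearEquiv.coe_coe, show (g : (Fin n → F) ≃ₗ[F] (Fin n → F)) y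
        = ((e ⟨y, hy⟩ : W) : Fin n → F) from hg ⟨y, hy⟩]
      exact (e ⟨y, hy⟩).2
    · intro hx
      refine ⟨(e.symm ⟨x, hx⟩ : U), (e.symm ⟨x, hx⟩).2, ?_⟩
      rw [LinearEquiv.coe_coe, hg]
      simp
  obtain ⟨k, hk, hkmap⟩ := H57.exists_commutator_map
    (Orthogonal.reflGroup_eq_top N (by simpa [Nat.card_eq_fintype_card] using h))
    (fun v hv => H57.rc_mem_stab_nondeg N NU (by simpa using hn) hv) hgmap
  refine ⟨(Orthogonal.toO Q).symm k, ?_, ?_⟩
  · rw [Orthogonal.mem_omega_iff, MulEquiv.apply_symm_apply]; exact hk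
  · rw [← hkmap]; congr 1
    exact LinearMap.ext fun x => Orthogonal.toO_symm_apply Q k x

end Cfsg.Agent.S2632
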