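import Cfsg.Statements.S2633
import Cfsg.Agent.H57.ReflClass

set_option autoImplicit false
open Cfsg

namespace Cfsg.Agent.S2633

/-- Ω is transitive on totally singular subspaces of each dimension less than half the dimension: for a quadratic form Q on F^n with non-degenerate polar form (F finite; excluding dimension 4 over the field of two elements), if U and W are subspaces of the same dimension k with 2k < n on which Q vanishes, then some element of Ω (the commutator subgroup of the orthogonal group) carries U to W. -/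
theorem result {F : Type*} [Field F] [Fintype F] {n : ℕ} (h : Fintype.card F ≠ 2 ∨ n ≠ 4) (Q : QuadraticForm F (Fin n → F)) (hQ : (QuadraticMap.polarBilin Q).Nondegenerate) (U W : Submodule F (Fin n → F)) {k : ℕ} (hk : 2 * k < n) (hU : Module.finrank F U = k) (hW : Module.finrank F W = k) (hU0 : ∀ u ∈ U, Q u = 0) (hW0 : ∀ w ∈ W, Q w = 0) : ∃ g : ↥(Cfsg.isometryGroup F ⇑Q), g ∈ Cfsg.Omega F ⇑Q ∧ U.map (Matrix.mulVecLin ((g : Matrix.GeneralLinearGroup (Fin n) F) : Matrix (Fin n) (Fin n) F)) = W := by
  classical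
  have N := Orthogonal.nondeg_of_polarBilin hQ
  rcases eq_or_ne U ⊥ with rfl | hUne
  · refine ⟨1, one_mem _, ?_⟩
    rw [finrank_bot] at hU
    rw [Submodule.map_bot, eq_comm, ← Submodule.finrank_eq_zero, hW, ← hU]
  obtain ⟨g, hg⟩ := Orthogonal.TotSing.exists_map_le N (W := U) (W' := W) hU0 hW0 (by omega)
  have hgmap : U.map (((g : (Fin n → F) ≃ₗ[F] (Fin n → F))) :
      (Fin n → F) →ₗ[F] (Fin n → F)) = W :=
    Submodule.eq_of_le_of_finrank_eq hg (by rw [LinearEquiv.finrank_map_eq, hU, hW])
  obtain ⟨j, hj, hjmap⟩ := H57.exists_commutator_map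
    (Orthogonal.reflGroup_eq_top N (by simpa [Nat.card_eq_fintype_card] using h))
    (fun v hv => H57.rc_mem_stab_totSing N hU0 hUne (by simpa [hU] using hk) hv) hgmap
  refine ⟨(Orthogonal.toO Q).symm j, ?_, ?_⟩
  · rw [Orthogonal.mem_omega_iff, MulEquiv.apply_symm_apply]; exact hj
  · rw [← hjmap]; congr 1
    exact LinearMap.ext fun x => Orthogonal.toO_symm_apply Q j x

end Cfsg.Agent.S2633
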