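import Cfsg.Statements.S2634
import Cfsg.Agent.Orthogonal.StdForms

set_option autoImplicit false
open Cfsg

namespace Cfsg.Agent.S2634

/-- Over a finite field of characteristic two, Ω (the commutator subgroup of the orthogonal group of a quadratic form Q on F^n with non-degenerate polar form; excluding dimension 4 over the field of two elements) acts transitively on the non-singular 1-spaces: for u, v with Q(u) ≠ 0 and Q(v) ≠ 0 some element of Ω carries the line through u to the line through v. -/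
theorem result {F : Type*} [Field F] [Fintype F] [CharP F 2] {n : ℕ} (h : Fintype.card F ≠ 2 ∨ n ≠ 4) (Q : QuadraticForm F (Fin n → F)) (hQ : (QuadraticMap.polarBilin Q).Nondegenerate) (u v : Fin n → F) (hu : Q u ≠ 0) (hv : Q v ≠ 0) : ∃ g : ↥(Cfsg.isometryGroup F ⇑Q), g ∈ Cfsg.Omega F ⇑Q ∧ (F ∙ ((g : Matrix.GeneralLinearGroup (Fin n) F) : Matrix (Fin n) (Fin n) F).mulVec u) = F ∙ v := by
  classical
  have N := Orthogonal.nondeg_of_polarBilin hQ
  have hv0 : v ≠ 0 := fun h0 => hv (by rw [h0, QuadraticMap.map_zero])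
  have hu0 : u ≠ 0 := fun h0 => hu (by rw [h0, QuadraticMap.map_zero])
  have h2 : (2 : F) = 0 := CharTwo.two_eq_zero
  -- rescale `v`
  obtain ⟨c, hc⟩ := Orthogonal.isSquare_of_two_eq_zero h2 (Q u / Q v)
  have hc0 : c ≠ 0 := fun h0 => div_ne_zero hu hv (by rw [hc, h0, mul_zero])
  set w := c • v with hw
  have hQw : Q w = Q u := by
    rw [hw, Orthogonal.qmap_smul, sq, ← hc, div_mul_cancel₀ _ hv]
  have hw0 : w ≠ 0 := smul_ne_zero hc0 hv0
  suffices H : ∃ g : Orthogonal.O Q, g ∈ commutator (Orthogonal.O Q) ∧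
      (g : (Fin n → F) ≃ₗ[F] (Fin n → F)) u = w by
    obtain ⟨g, hg, hgu⟩ := H
    refine ⟨(Orthogonal.toO Q).symm g, ?_, ?_⟩
    · rw [Orthogonal.mem_omega_iff, MulEquiv.apply_symm_apply]; exact hg
    · rw [Orthogonal.toO_symm_apply, hgu, hw]
      exact Submodule.span_singleton_smul_eq (isUnit_iff_ne_zero.2 hc0) v
  have hneg : ∀ x : Fin n → F, -x = x := fun x => by
    funext i; exact CharTwo.neg_eq (x i)
  -- reflections are congruent modulo the commutator subgroup
  have hpair : ∀ x y : Fin n → F, Q x ≠ 0 → Q y ≠ 0 →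
      Orthogonal.rO Q x * Orthogonal.rO Q y ∈ commutator (Orthogonal.O Q) := by
    intro x y hx hy
    obtain ⟨t, ht⟩ := Orthogonal.isSquare_of_two_eq_zero h2 (Q x / Q y)
    have ht0 : t ≠ 0 := fun h0 => div_ne_zero hx hy (by rw [ht, h0, mul_zero])
    have hx0 : x ≠ 0 := fun h0 => hx (by rw [h0, QuadraticMap.map_zero])
    have hy0 : t • y ≠ 0 :=
      smul_ne_zero ht0 fun h0 => hy (by rw [h0, QuadraticMap.map_zero])
    obtain ⟨g, hg⟩ := Orthogonal.exists_map_vec N hy0 hx0
      (by rw [Orthogonal.qmap_smul, sq, ← ht, div_mul_cancel₀ _ hy])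
    have hconj := Orthogonal.conj_rO g (t • y)
    rw [hg, Orthogonal.rO_smul ht0] at hconj
    rw [← hconj]
    have hc := Subgroup.commutator_mem_commutator (Subgroup.mem_top g)
      (Subgroup.mem_top (Orthogonal.rO Q y))
    rw [commutatorElement_def, Orthogonal.rO_inv, ← commutator_def] at hc
    exact hc
  have hsum : ∀ x y : Fin n → F, Q x = Q y → Q (x - y) = QuadraticMap.polar (⇑Q) x y := by
    intro x y hxy
    rw [Orthogonal.qmap_sub, hxy]
    linear_combination (Q y - QuadraticMap.polar (⇑Q) x y) * h2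
  by_cases huw : u = w
  · exact ⟨1, one_mem _, huw⟩
  by_cases hf : QuadraticMap.polar (⇑Q) u w ≠ 0
  · refine ⟨Orthogonal.rO Q (u - w) * Orthogonal.rO Q u, hpair _ _ ?_ hu, ?_⟩
    · rw [hsum u w hQw.symm]; exact hf
    · rw [Subgroup.coe_mul, Orthogonal.mul_app, Orthogonal.rO_self hu, hneg,
        Orthogonal.rO_sub_swap hQw.symm (by rw [hsum u w hQw.symm]; exact hf)]
  push Not at hf
  -- an intermediate vector
  suffices H : ∃ m, Q m = Q u ∧ QuadraticMap.polar (⇑Q) u m ≠ 0 ∧
      QuadraticMap.polar (⇑Q) m w ≠ 0 by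
    obtain ⟨m, hm, h1, h2'⟩ := H
    have a1 : Q (u - m) ≠ 0 := by rw [hsum u m hm.symm]; exact h1
    have a2 : Q (m - w) ≠ 0 := by rw [hsum m w (hm.trans hQw.symm)]; exact h2'
    refine ⟨Orthogonal.rO Q (m - w) * Orthogonal.rO Q (u - m), hpair _ _ a2 a1, ?_⟩
    rw [Subgroup.coe_mul, Orthogonal.mul_app, Orthogonal.rO_sub_swap hm.symm a1,
      Orthogonal.rO_sub_swap (hm.trans hQw.symm) a2]
  have huu : ∀ x : Fin n → F, QuadraticMap.polar (⇑Q) x x = 0 := fun x => by
    rw [Orthogonal.polar_self', h2, zero_mul]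
  -- a vector pairing to 1 with both
  have hsep : ∀ a b : Fin n → F, a ≠ 0 → b ≠ 0 → Q a = Q b → Q a ≠ 0 → a ≠ b →
      ∃ z, QuadraticMap.polar (⇑Q) a z = 0 ∧ QuadraticMap.polar (⇑Q) b z = 1 := by
    intro a b ha hb hab hQa hne'
    by_contra hno
    push Not at hno
    have hle : Orthogonal.perp Q (Submodule.span F {a}) ≤ Orthogonal.perp Q (Submodule.span F {b}) := by
      intro z hz
      rw [Orthogonal.mem_perp_span_singleton] at hz ⊢
      by_contra hbz
      refine hno ((QuadraticMap.polar (⇑Q) b z)⁻¹ • z) ?_ ?_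
      · rw [Orthogonal.polar_smul_right', hz, mul_zero]
      · rw [Orthogonal.polar_smul_right', inv_mul_cancel₀ hbz]
    have := Orthogonal.perp_anti Q hle
    rw [N.perp_perp, N.perp_perp] at this
    obtain ⟨r, hr⟩ := Submodule.mem_span_singleton.1 (this (Submodule.mem_span_singleton_self b))
    rw [← hr, Orthogonal.qmap_smul] at hab
    have hr1 : r ^ 2 = 1 := mul_right_cancel₀ hQa (by linear_combination -hab)
    have : r = 1 := by
      have : (r - 1) ^ 2 = 0 := by linear_combination hr1 + (1 - r) * h2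
      exact sub_eq_zero.1 ((pow_eq_zero_iff two_ne_zero).1 this)
    exact hne' (by rw [← hr, this, one_smul])
  obtain ⟨z, hz1, hz2⟩ := hsep u w hu0 hw0 hQw.symm hu huw
  obtain ⟨z', hz1', hz2'⟩ := hsep w u hw0 hu0 hQw (by rw [hQw]; exact hu) (Ne.symm huw)
  -- `x` pairs to 1 with both
  suffices H : ∃ x, QuadraticMap.polar (⇑Q) u x = 1 ∧ QuadraticMap.polar (⇑Q) w x = 1 ∧ Q x ≠ 0 by
    obtain ⟨x, hx1, hx2, hx3⟩ := H
    refine ⟨u + (Q x)⁻¹ • x, ?_, ?_, ?_⟩
    · rw [Orthogonal.map_add_polar, Orthogonal.qmap_smul, Orthogonal.polar_smul_right', hx1]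
      field_simp
      linear_combination h2
    · rw [QuadraticMap.polar_add_right, huu, Orthogonal.polar_smul_right', hx1, zero_add, mul_one]
      exact inv_ne_zero hx3
    · rw [QuadraticMap.polar_add_left, hf, Orthogonal.polar_smul_left',
        QuadraticMap.polar_comm _ x w, hx2, zero_add, mul_one]
      exact inv_ne_zero hx3
  set x₀ := z + z' with hx₀
  have hxu : QuadraticMap.polar (⇑Q) u x₀ = 1 := by
    rw [hx₀, QuadraticMap.polar_add_right, hz1, hz2', zero_add]
  have hxw : QuadraticMap.polar (⇑Q) w x₀ = 1 := by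
    rw [hx₀, QuadraticMap.polar_add_right, hz2, hz1', add_zero]
  by_cases hx₀Q : Q x₀ ≠ 0
  · exact ⟨x₀, hxu, hxw, hx₀Q⟩
  push Not at hx₀Q
  by_cases hcard : ∃ l : F, l ≠ 0 ∧ l * Q u ≠ 1
  · obtain ⟨l, hl, hl'⟩ := hcard
    refine ⟨x₀ + l • u, ?_, ?_, ?_⟩
    · rw [QuadraticMap.polar_add_right, Orthogonal.polar_smul_right', hxu, huu, mul_zero, add_zero]
    · rw [QuadraticMap.polar_add_right, Orthogonal.polar_smul_right', hxw,
        QuadraticMap.polar_comm _ w u, hf, mul_zero, add_zero]
    · rw [Orthogonal.map_add_polar, Orthogonal.qmap_smul, Orthogonal.polar_smul_right', hx₀Q,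
        QuadraticMap.polar_comm _ x₀ u, hxu]
      intro h0
      have h0' : l * (l * Q u + 1) = 0 := by linear_combination h0
      exact hl' (by linear_combination ((mul_eq_zero.1 h0').resolve_left hl) - h2)
  push Not at hcard
  have hq2 : Fintype.card F = 2 := by
    have h1 : Q u = 1 := by simpa using hcard 1 one_ne_zero
    have hall : ∀ l : F, l = 0 ∨ l = 1 := fun l => by
      by_cases hl : l = 0
      · exact Or.inl hl
      · exact Or.inr (by simpa [h1] using hcard l hl)
    rw [← Finset.card_univ, show (Finset.univ : Finset F) = {0, 1} by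
      ext l; simpa using hall l, Finset.card_pair zero_ne_one]
  have hn4 : n ≠ 4 := h.resolve_left (fun e => e hq2)
  set Z := Orthogonal.perp Q (Submodule.span F {u, w}) with hZ
  by_contra hnone
  push Not at hnone
  have hlin : ∀ y ∈ Z, Q y + QuadraticMap.polar (⇑Q) x₀ y = 0 := by
    intro y hy
    obtain ⟨y1, y2⟩ := (Orthogonal.mem_perp_span_pair Q).1 hy
    have := hnone (x₀ + y) (by rw [QuadraticMap.polar_add_right, hxu, y1, add_zero])
      (by rw [QuadraticMap.polar_add_right, hxw, y2, add_zero])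
    rwa [Orthogonal.map_add_polar, hx₀Q, zero_add] at this
  have hiso : Z ≤ Orthogonal.perp Q Z := by
    intro y hy y' hy'
    have h3 := hlin (y' + y) (Z.add_mem hy' hy)
    rw [Orthogonal.map_add_polar, QuadraticMap.polar_add_right] at h3
    linear_combination h3 - hlin y' hy' - hlin y hy
  rw [hZ, N.perp_perp] at hiso
  have hli : LinearIndependent F ![u, w] := by
    rw [LinearIndependent.pair_iff]
    intro s t hst
    have hs := congrArg (fun y => QuadraticMap.polar (⇑Q) y z) hst
    have ht := congrArg (fun y => QuadraticMap.polar (⇑Q) y z') hst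
    simp only [QuadraticMap.polar_add_left, Orthogonal.polar_smul_left', hz1, hz2, hz1', hz2',
      mul_zero, zero_add, add_zero, mul_one, QuadraticMap.polar_zero_left] at hs ht
    exact ⟨ht, hs⟩
  have hr2 : Module.finrank F (Submodule.span F {u, w}) = 2 := by
    have hh := finrank_span_eq_card hli
    rw [Matrix.range_cons_cons_empty] at hh
    simpa using hh
  have e1 := N.finrank_add_perp (Submodule.span F {u, w})
  have e2 := Submodule.finrank_mono hiso
  rw [Module.finrank_fin_fun, hr2] at e1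
  rw [hr2] at e2
  obtain rfl | rfl : n = 2 ∨ n = 3 := by omega
  · have hp := N.finrank_perp_singleton hu0
    rw [Module.finrank_fin_fun] at hp
    have hsub : Submodule.span F {u, w} ≤ Orthogonal.perp Q (Submodule.span F {u}) :=
      Submodule.span_le.2 fun y hy => by
        rcases hy with rfl | rfl
        · exact (Orthogonal.mem_perp_span_singleton Q).2 (huu y)
        · exact (Orthogonal.mem_perp_span_singleton Q).2 hf
    have := Submodule.finrank_mono hsub
    omega
  · exact (N.classify_odd (m := 1) (by simp)).1 h2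

end Cfsg.Agent.S2634
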