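import Cfsg.Statements.S2635
import Cfsg.Agent.H57.ReflClass
import Cfsg.Agent.Orthogonal.Det

set_option autoImplicit false
open Cfsg

namespace Cfsg.Agent.S2635

/-- Over a finite field of characteristic two, for a quadratic form Q on F^n with non-degenerate polar form, n ≥ 2, other than dimension 4 over the field of two elements, Ω (the commutator subgroup of the orthogonal group) is exactly the subgroup generated by the products of two reflections (orthogonal transvections) x ↦ x − Q(v)⁻¹ f(x, v) v, Q(v) ≠ 0: the products of an even number of reflections. -/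
theorem result {F : Type*} [Field F] [Fintype F] [CharP F 2] {n : ℕ} (hn : 2 ≤ n) (h : Fintype.card F ≠ 2 ∨ n ≠ 4) (Q : QuadraticForm F (Fin n → F)) (hQ : (QuadraticMap.polarBilin Q).Nondegenerate) : Cfsg.Omega F ⇑Q = Subgroup.closure {g : ↥(Cfsg.isometryGroup F ⇑Q) | ∃ u v : Fin n → F, Q u ≠ 0 ∧ Q v ≠ 0 ∧ ((g : Matrix.GeneralLinearGroup (Fin n) F) : Matrix (Fin n) (Fin n) F) = Cfsg.reflectionMatrix ⇑Q u * Cfsg.reflectionMatrix ⇑Q v} := by
  classical
  have N := Orthogonal.nondeg_of_polarBilin hQ
  have h2 : (2 : F) = 0 := CharTwo.two_eq_zero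
  set S : Set ↥(Cfsg.isometryGroup F ⇑Q) := {g | ∃ u v : Fin n → F, Q u ≠ 0 ∧ Q v ≠ 0 ∧
    ((g : Matrix.GeneralLinearGroup (Fin n) F) : Matrix (Fin n) (Fin n) F) =
      Cfsg.reflectionMatrix ⇑Q u * Cfsg.reflectionMatrix ⇑Q v} with hS
  have hgen : ∀ u v, Q u ≠ 0 → Q v ≠ 0 →
      Orthogonal.reflIso Q u * Orthogonal.reflIso Q v ∈ S := fun u v hu hv =>
    ⟨u, v, hu, hv, by rw [Subgroup.coe_mul, Units.val_mul, Orthogonal.reflIso_val,
      Orthogonal.reflIso_val]⟩
  refine le_antisymm ?_ ?_
  · set H := Subgroup.closure S with hH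
    have htop := Orthogonal.reflGroup_eq_top N (by simpa [Nat.card_eq_fintype_card] using h)
    -- every element is in `H` or in `H * r`
    obtain ⟨v₀, hv₀⟩ := N.exists_value (by simpa using hn) (1 : F)
    have hv₀' : Q v₀ ≠ 0 := by rw [hv₀]; exact one_ne_zero
    set r := Orthogonal.reflIso Q v₀
    have hall : ∀ g : ↥(Cfsg.isometryGroup F ⇑Q), g ∈ H ∨ g * r ∈ H := by
      have hrr : ∀ v : Fin n → F, Orthogonal.reflIso Q v * Orthogonal.reflIso Q v = 1 := fun v => by
        rw [Orthogonal.reflIso, ← map_mul, Orthogonal.rO_mul_self, map_one]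
      have hsing : ∀ v : Fin n → F, Q v = 0 → Orthogonal.reflIso Q v = 1 := fun v hv => by
        rw [Orthogonal.reflIso, Orthogonal.rO_of_singular hv, map_one]
      have hnorm : ∀ x ∈ H, r * x * r ∈ H := by
        intro x hx
        induction hx using Subgroup.closure_induction with
        | mem y hy =>
          obtain ⟨u, w, hu, hw, hy⟩ := hy
          have hy' : y = Orthogonal.reflIso Q u * Orthogonal.reflIso Q w :=
            Subtype.ext (Units.ext (by rw [hy, Subgroup.coe_mul, Units.val_mul,
              Orthogonal.reflIso_val, Orthogonal.reflIso_val]))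
          rw [hy', mul_assoc, mul_assoc, ← mul_assoc r]
          exact mul_mem (Subgroup.subset_closure (hgen _ _ hv₀' hu))
            (Subgroup.subset_closure (hgen _ _ hw hv₀'))
        | one => rw [mul_one, hrr]; exact one_mem _
        | mul a b _ _ ha hb =>
          have := mul_mem ha hb
          rwa [show r * a * r * (r * b * r) = r * a * (r * r) * (b * r) by group, hrr, mul_one,
            ← mul_assoc (r * a), mul_assoc r a b] at this
        | inv a _ ha =>
          have := inv_mem ha
          rwa [mul_inv_rev, mul_inv_rev, inv_eq_of_mul_eq_one_right (hrr v₀), ← mul_assoc] at this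
      intro g
      have hg : Orthogonal.toO Q g ∈ Orthogonal.reflGroup Q := htop ▸ Subgroup.mem_top _
      have key : ∀ x ∈ Orthogonal.reflGroup Q,
          (Orthogonal.toO Q).symm x ∈ H ∨ (Orthogonal.toO Q).symm x * r ∈ H := by
        intro x hx
        induction hx using Subgroup.closure_induction with
        | mem y hy =>
          obtain ⟨v, rfl⟩ := hy
          by_cases hv : Q v = 0
          · left; rw [show (Orthogonal.toO Q).symm (Orthogonal.rO Q v) = 1 from hsing v hv]
            exact one_mem _
          · exact Or.inr (Subgroup.subset_closure (hgen v v₀ hv hv₀'))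
        | one => left; rw [map_one]; exact one_mem _
        | mul a b _ _ ha hb =>
          rw [map_mul]
          rcases ha with ha | ha <;> rcases hb with hb | hb
          · exact Or.inl (mul_mem ha hb)
          · exact Or.inr (by rw [mul_assoc]; exact mul_mem ha hb)
          · right
            have := mul_mem ha (hnorm _ hb)
            rwa [show ∀ p q : ↥(Cfsg.isometryGroup F ⇑Q), p * r * (r * q * r) = p * (r * r) * q * r
              from fun p q => by group, hrr, mul_one] at this
          · left
            have := mul_mem ha (hnorm _ hb)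
            rwa [show ∀ p q : ↥(Cfsg.isometryGroup F ⇑Q),
              p * r * (r * (q * r) * r) = p * (r * r) * q * (r * r) from fun p q => by group,
              hrr, mul_one, mul_one] at this
        | inv a _ ha =>
          rw [map_inv]
          rcases ha with ha | ha
          · exact Or.inl (inv_mem ha)
          · right
            have := hnorm _ (inv_mem ha)
            rwa [mul_inv_rev, inv_eq_of_mul_eq_one_right (hrr v₀), ← mul_assoc, hrr, one_mul] at this
      simpa using key _ hg
    -- commutators lie in `H`
    rw [Cfsg.Omega, commutator_def, Subgroup.commutator_le]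
    have hrr : r * r = 1 := by
      rw [show r = (Orthogonal.toO Q).symm (Orthogonal.rO Q v₀) from rfl, ← map_mul,
        Orthogonal.rO_mul_self, map_one]
    by_cases hr : r ∈ H
    · have : ∀ g, g ∈ H := fun g => (hall g).elim id fun hg => by
        have := mul_mem hg hr
        rwa [mul_assoc, hrr, mul_one] at this
      exact fun a _ b _ => this _
    have hiff : ∀ a b, (a * b ∈ H ↔ (a ∈ H ↔ b ∈ H)) := by
      intro a b
      refine ⟨fun hab => ⟨fun ha => (Subgroup.mul_mem_cancel_left H ha).1 hab,
        fun hb => (Subgroup.mul_mem_cancel_right H hb).1 hab⟩, fun hiff => ?_⟩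
      by_cases ha : a ∈ H
      · exact mul_mem ha (hiff.1 ha)
      · have hb : b ∉ H := fun hb => ha (hiff.2 hb)
        have har := (hall a).resolve_left ha
        have hbr := (hall b⁻¹).resolve_left (fun h' => hb (by simpa using inv_mem h'))
        have := mul_mem har (inv_mem hbr)
        rwa [mul_inv_rev, inv_inv, inv_eq_of_mul_eq_one_right hrr, ← mul_assoc, mul_assoc a r r,
          hrr, mul_one] at this
    intro a _ b _
    rw [commutatorElement_def, hiff, hiff, hiff, H.inv_mem_iff, H.inv_mem_iff]
    tauto
  · rw [Subgroup.closure_le]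
    rintro g ⟨u, v, hu, hv, hg⟩
    have hg' : g = Orthogonal.reflIso Q u * Orthogonal.reflIso Q v :=
      Subtype.ext (Units.ext (by rw [hg, Subgroup.coe_mul, Units.val_mul, Orthogonal.reflIso_val,
        Orthogonal.reflIso_val]))
    show g ∈ Cfsg.Omega F ⇑Q
    rw [hg', Orthogonal.mem_omega_iff, map_mul, Orthogonal.reflIso, Orthogonal.reflIso,
      MulEquiv.apply_symm_apply, MulEquiv.apply_symm_apply, ← H57.of_eq_one_iff, map_mul]
    obtain ⟨c, hc⟩ := Orthogonal.isSquare_of_two_eq_zero h2 (Q u / Q v)
    have hc0 : c ≠ 0 := fun h0 => div_ne_zero hu hv (by rw [hc, h0, mul_zero])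
    show H57.rc Q u * H57.rc Q v = 1
    rw [H57.rc_eq N hv hc0 (by rw [sq, ← hc, div_mul_cancel₀ _ hv]), H57.rc_sq]

end Cfsg.Agent.S2635
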