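import Cfsg.Statements.S2636
import Cfsg.Prelude.Def_Classical

set_option autoImplicit false
open Cfsg

namespace Cfsg.Agent.S2636

/-- Centraliser of a field automorphism in PGL_n: let F be the field with q = q₀^r elements, σ a field automorphism of F of prime order r (so its fixed field has q₀ elements) and n ≥ 1. The invertible matrices g whose entrywise image under σ is a scalar multiple of g — those whose coset modulo scalars is fixed by σ — number (q − 1)/(q₀ − 1) · |GL_n(q₀)|; equivalently the centraliser in PGL_n(q) of the induced automorphism has the order of PGL_n(q₀). -/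
theorem result {F : Type*} [Field F] [Fintype F] {q₀ r n : ℕ} (hr : r.Prime) (hn : 1 ≤ n) (hF : Fintype.card F = q₀ ^ r) (σ : F ≃+* F) (hσ : orderOf σ = r) : Nat.card {g : GL (Fin n) F // ∃ c : F, c ≠ 0 ∧ (g : Matrix (Fin n) (Fin n) F).map σ = c • (g : Matrix (Fin n) (Fin n) F)} = (q₀ ^ r - 1) / (q₀ - 1) * ∏ i : Fin n, (q₀ ^ n - q₀ ^ (i : ℕ)) := by
  classical
  let K : Subfield F := FixedPoints.subfield (Subgroup.zpowers σ) F
  have hK : ∀ x : F, x ∈ K ↔ σ x = x := by
    intro x
    constructor
    · intro hx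
      exact hx ⟨σ, Subgroup.mem_zpowers σ⟩
    · intro hx s
      have : Subgroup.zpowers σ ≤ MulAction.stabilizer (F ≃+* F) x := by
        rw [Subgroup.zpowers_le]; exact hx
      exact this s.2
  have hKc : Fintype.card K = q₀ := by
    haveI : Finite (F ≃+* F) := Finite.of_injective (fun f => (f : F → F)) DFunLike.coe_injective
    haveI : Fintype (Subgroup.zpowers σ) := Fintype.ofFinite _
    have hfr : Module.finrank K F = r := by
      rw [← hσ, ← Nat.card_zpowers, Nat.card_eq_fintype_card]
      exact FixedPoints.finrank_eq_card (Subgroup.zpowers σ) F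
    have h1 := Module.card_eq_pow_finrank (K := K) (V := F)
    rw [hfr, hF] at h1
    exact (Nat.pow_left_injective hr.ne_zero h1).symm
  let sc : Fˣ →* GL (Fin n) F := Units.map (Matrix.scalar (Fin n)).toMonoidHom
  have hsc : ∀ c : Fˣ, (sc c : Matrix (Fin n) (Fin n) F) = (c : F) • 1 := fun c => by
    show Matrix.scalar (Fin n) (c : F) = _
    rw [Matrix.scalar_apply, Matrix.smul_one_eq_diagonal]
  have hcomm : ∀ (c : Fˣ) (g : GL (Fin n) F), sc c * g = g * sc c := fun c g =>
    Units.ext (by rw [Units.val_mul, Units.val_mul, hsc]; simp)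
  let mp : GL (Fin n) K →* GL (Fin n) F := Matrix.GeneralLinearGroup.map K.subtype
  let φ : Fˣ × GL (Fin n) K →* GL (Fin n) F :=
    { toFun := fun p => sc p.1 * mp p.2
      map_one' := by simp
      map_mul' := fun a b => by
        rw [Prod.fst_mul, Prod.snd_mul, map_mul, map_mul, mul_assoc, mul_assoc]
        congr 1
        rw [← mul_assoc, hcomm b.1 (mp a.2), mul_assoc] }
  have hφ : ∀ (c : Fˣ) (h : GL (Fin n) K) i j,
      (φ (c, h) : Matrix (Fin n) (Fin n) F) i j =
        (c : F) * (((h : Matrix (Fin n) (Fin n) K) i j : K) : F) := by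
    intro c h i j
    show ((sc c * mp h : GL (Fin n) F) : Matrix (Fin n) (Fin n) F) i j = _
    rw [Units.val_mul, hsc, smul_mul_assoc, one_mul]
    rfl
  let i₀ : Fin n := ⟨0, hn⟩
  have hrange : ∀ g : GL (Fin n) F, g ∈ φ.range ↔ ∃ c : F, c ≠ 0 ∧
      (g : Matrix (Fin n) (Fin n) F).map σ = c • (g : Matrix (Fin n) (Fin n) F) := by
    intro g
    constructor
    · rintro ⟨⟨c, h⟩, rfl⟩
      refine ⟨σ (c : F) / c, div_ne_zero (by simp) c.ne_zero, ?_⟩
      ext i j
      rw [Matrix.map_apply, Matrix.smul_apply, hφ, map_mul,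
        (hK _).1 (SetLike.coe_mem _), smul_eq_mul]
      field_simp
    · rintro ⟨c, hc, hg⟩
      obtain ⟨i, j, hb⟩ : ∃ i j, (g : Matrix (Fin n) (Fin n) F) i j ≠ 0 := by
        by_contra hz
        push Not at hz
        have hdet := Matrix.GeneralLinearGroup.det_ne_zero g
        exact hdet (Matrix.det_eq_zero_of_row_eq_zero i₀ fun j => hz i₀ j)
      set b := (g : Matrix (Fin n) (Fin n) F) i j
      have hgσ : ∀ a a', σ ((g : Matrix (Fin n) (Fin n) F) a a') =
          c * (g : Matrix (Fin n) (Fin n) F) a a' := fun a a' => congrFun (congrFun hg a) a'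
      let M : Matrix (Fin n) (Fin n) K := Matrix.of fun a a' =>
        ⟨b⁻¹ * (g : Matrix (Fin n) (Fin n) F) a a', (hK _).2 (by
          rw [map_mul, map_inv₀, show σ b = c * b from hgσ i j, hgσ]
          field_simp)⟩
      have hM : M.map K.subtype = b⁻¹ • (g : Matrix (Fin n) (Fin n) F) := by ext a a'; rfl
      have hdet : M.det ≠ 0 := by
        intro h0
        have := congrArg K.subtype h0
        rw [RingHom.map_det, RingHom.mapMatrix_apply, hM, map_zero, Matrix.det_smul,
          mul_eq_zero] at this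
        rcases this with h | h
        · exact inv_ne_zero hb (pow_eq_zero_iff (by simp; omega) |>.1 h)
        · exact Matrix.GeneralLinearGroup.det_ne_zero g h
      refine ⟨(Units.mk0 b hb, Matrix.GeneralLinearGroup.mkOfDetNeZero M hdet), ?_⟩
      apply Units.ext
      ext a a'
      rw [hφ]
      show b * (b⁻¹ * (g : Matrix (Fin n) (Fin n) F) a a') = _
      exact mul_inv_cancel_left₀ hb _
  let ψ : Kˣ → φ.ker := fun k => ⟨(Units.map (K.subtype : K →* F) k,
    Units.map (Matrix.scalar (Fin n)).toMonoidHom k⁻¹), by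
    rw [MonoidHom.mem_ker]
    apply Units.ext
    ext i j
    rw [hφ]
    show ((k : K) : F) * (((Matrix.scalar (Fin n) ((k⁻¹ : Kˣ) : K)) i j : K) : F) = _
    by_cases hij : i = j <;> simp [hij, Matrix.one_apply]⟩
  have hψ : Function.Bijective ψ := by
    constructor
    · intro a b hab
      have := congrArg (fun p : φ.ker => ((p.1.1 : Fˣ) : F)) hab
      exact Units.ext (Subtype.ext this)
    · rintro ⟨⟨c, h⟩, hp⟩
      rw [MonoidHom.mem_ker] at hp
      have he : ∀ i j, (c : F) * (((h : Matrix (Fin n) (Fin n) K) i j : K) : F) =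
          (1 : Matrix (Fin n) (Fin n) F) i j := fun i j => by rw [← hφ, hp]; rfl
      set t : K := (h : Matrix (Fin n) (Fin n) K) i₀ i₀
      have ht : (c : F) * t = 1 := by simpa using he i₀ i₀
      have hct : (c : F) = ((t⁻¹ : K) : F) := by
        rw [Subfield.coe_inv]
        exact eq_inv_of_mul_eq_one_left ht
      have ht0 : t ≠ 0 := fun h0 => by simp [h0] at ht
      refine ⟨Units.mk0 t⁻¹ (inv_ne_zero ht0), Subtype.ext (Prod.ext (Units.ext hct.symm) ?_)⟩
      apply Units.ext
      ext i j
      apply mul_left_cancel₀ c.ne_zero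
      rw [he i j, hct]
      show ((t⁻¹ : K) : F) * (((Matrix.scalar (Fin n) (t⁻¹)⁻¹) i j : K) : F) = _
      by_cases hij : i = j <;> simp [hij, Matrix.one_apply, ht0]
  have hcard : Nat.card φ.range * Nat.card φ.ker = Nat.card (Fˣ × GL (Fin n) K) := by
    rw [← Subgroup.index_ker, mul_comm, Subgroup.card_mul_index]
  rw [← Nat.card_congr (Equiv.ofBijective ψ hψ), Nat.card_units, Nat.card_prod, Nat.card_units,
    Nat.card_eq_fintype_card (α := F), Nat.card_eq_fintype_card (α := K), Matrix.card_GL_field,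
    hF, hKc] at hcard
  rw [← Nat.card_congr (Equiv.subtypeEquivRight hrange)]
  have hq0 : 2 ≤ q₀ := hKc ▸ Fintype.one_lt_card
  obtain ⟨e, he⟩ := Nat.sub_one_dvd_pow_sub_one q₀ r
  rw [he, Nat.mul_div_cancel_left _ (by omega : 0 < q₀ - 1)]
  rw [he] at hcard
  have : Nat.card φ.range * (q₀ - 1) = e * (∏ i : Fin n, (q₀ ^ n - q₀ ^ (i : ℕ))) * (q₀ - 1) := by
    rw [hcard]; ring
  exact Nat.eq_of_mul_eq_mul_right (by omega) this

end Cfsg.Agent.S2636
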