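import Cfsg.Statements.S2638
import Cfsg.Agent.Arith.PrimDiv
-- import your own Cfsg.Agent.* helpers here

set_option autoImplicit false
open Cfsg

namespace Cfsg.Agent.S2638

open Cfsg.Agent Polynomial

/-- Irreducible factors of `X ^ r - 1` other than `X - 1` have degree a multiple of `n`. -/
lemma dvd_natDegree_factor {F : Type*} [Field F] [Fintype F] {q n r : ℕ}
    (hF : Fintype.card F = q) (hr : r.Prime) (hi : orderOf (q : ZMod r) = n) {f : F[X]}
    (hf : Irreducible f) (hfd : f ∣ X ^ r - 1) (hf1 : ¬ f ∣ X - 1) : n ∣ f.natDegree := by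
  have := Fact.mk hr
  have := Fact.mk hf
  let K := AdjoinRoot f
  have : Module.Finite F K := (AdjoinRoot.powerBasis hf.ne_zero).finite
  have hfin : Finite K := Module.finite_of_finite F
  let _ := Fintype.ofFinite K
  have hcard : Nat.card K = q ^ f.natDegree := by
    rw [Module.natCard_eq_pow_finrank (K := F), (AdjoinRoot.powerBasis hf.ne_zero).finrank,
      AdjoinRoot.powerBasis_dim, Nat.card_eq_fintype_card, hF]
  have hz : (AdjoinRoot.root f) ^ r = 1 := by
    have := AdjoinRoot.mk_eq_zero.2 hfd
    rwa [map_sub, map_pow, AdjoinRoot.mk_X, map_one, sub_eq_zero] at this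
  have hz1 : AdjoinRoot.root f ≠ 1 := by
    intro h
    apply hf1
    rw [← AdjoinRoot.mk_eq_zero, map_sub, AdjoinRoot.mk_X, map_one, h, sub_self]
  have hord : orderOf (AdjoinRoot.root f) = r := orderOf_eq_prime hz hz1
  have hz0 : AdjoinRoot.root f ≠ 0 := fun h => by
    rw [h, zero_pow hr.ne_zero] at hz; exact zero_ne_one hz
  have h1 : r ∣ q ^ f.natDegree - 1 := by
    rw [← hcard, Nat.card_eq_fintype_card, ← hord]
    exact orderOf_dvd_of_pow_eq_one (FiniteField.pow_card_sub_one_eq_one _ hz0)
  rw [← hi]
  exact (Arith.dvd_pow_sub_one_iff (hF ▸ Fintype.card_pos)).1 h1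

set_option maxHeartbeats 1000000 in
lemma main {F : Type*} [Field F] [Fintype F] {p q : ℕ} [Fact p.Prime] [CharP F p]
    (hF : Fintype.card F = q) {n r : ℕ} (hn : 1 ≤ n) (hr : r.Prime) (hrp : r ≠ p)
    (hi : orderOf (q : ZMod r) = n) (x : GL (Fin n) F) (hx : orderOf x = r) :
    IsCyclic ↥(Subgroup.centralizer ({x} : Set (GL (Fin n) F))) ∧
      Nat.card ↥(Subgroup.centralizer ({x} : Set (GL (Fin n) F))) = q ^ n - 1 := by
  classical
  let A : Matrix (Fin n) (Fin n) F := x
  have : Nonempty (Fin n) := ⟨⟨0, hn⟩⟩
  have hAr : A ^ r = 1 := by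
    show (x : Matrix (Fin n) (Fin n) F) ^ r = 1
    rw [← Units.val_pow_eq_pow_val, ← hx, pow_orderOf_eq_one, Units.val_one]
  have hA1 : A ≠ 1 := fun h => by
    have : x = 1 := Units.ext h
    rw [this, orderOf_one] at hx
    exact hr.one_lt.ne hx
  have hint : IsIntegral F A := IsIntegral.of_finite F A
  set μ := minpoly F A with hμ
  have hμd : μ ∣ X ^ r - 1 := minpoly.dvd F A (by simp [hAr])
  have hμdeg : μ.natDegree ≤ n := by
    have hle := natDegree_le_of_dvd (minpoly.dvd F A A.aeval_self_charpoly) A.charpoly_monic.ne_zero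
    rwa [Matrix.charpoly_natDegree_eq_dim, Fintype.card_fin] at hle
  have hsep : (X ^ r - 1 : F[X]).Separable := by
    have hr0 : (r : F) ≠ 0 := fun h => hrp
      ((Nat.prime_dvd_prime_iff_eq Fact.out hr).1 ((CharP.cast_eq_zero_iff F p r).1 h)).symm
    simpa using separable_X_pow_sub_C (1 : F) hr0 one_ne_zero
  have hsq : Squarefree μ := (hsep.of_dvd hμd).squarefree
  have hμ1 : ¬ μ ∣ X - 1 := by
    intro h
    obtain ⟨c, hc⟩ := h
    have := congrArg (aeval A) hc
    rw [map_sub, aeval_X, map_one, map_mul, minpoly.aeval, zero_mul, sub_eq_zero] at this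
    exact hA1 this
  obtain ⟨f, hf, hfμ, hf1⟩ : ∃ f, Irreducible f ∧ f ∣ μ ∧ ¬ f ∣ X - 1 := by
    by_contra hc
    push Not at hc
    apply hμ1
    refine (UniqueFactorizationMonoid.dvd_iff_normalizedFactors_le_normalizedFactors
      (minpoly.ne_zero hint) (by simpa using X_sub_C_ne_zero (1 : F))).2 ?_
    rw [Multiset.le_iff_count]
    intro g
    by_cases hg : g ∈ UniqueFactorizationMonoid.normalizedFactors μ
    · have h1 := Multiset.nodup_iff_count_le_one.1
        ((UniqueFactorizationMonoid.squarefree_iff_nodup_normalizedFactors (minpoly.ne_zero hint)).1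
          hsq) g
      have h2 : g ∈ UniqueFactorizationMonoid.normalizedFactors (X - 1 : F[X]) := by
        have hirr := UniqueFactorizationMonoid.irreducible_of_normalized_factor g hg
        refine (UniqueFactorizationMonoid.mem_normalizedFactors_iff'
          (by simpa using X_sub_C_ne_zero (1 : F))).2 ⟨hirr, ?_, ?_⟩
        · exact UniqueFactorizationMonoid.normalize_normalized_factor g hg
        · exact hc g hirr (UniqueFactorizationMonoid.dvd_of_mem_normalizedFactors hg)
      have := Multiset.count_pos.2 h2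
      omega
    · rw [Multiset.count_eq_zero.2 hg]; exact Nat.zero_le _
  have hfdeg : n ≤ f.natDegree := Nat.le_of_dvd hf.natDegree_pos
    (dvd_natDegree_factor hF hr hi hf (hfμ.trans hμd) hf1)
  have hassoc : Associated f μ := by
    obtain ⟨c, hc⟩ := hfμ
    have hc0 : c ≠ 0 := fun h => minpoly.ne_zero hint (by rw [← hμ, hc, h, mul_zero])
    have hdeg := natDegree_mul hf.ne_zero hc0
    rw [← hc] at hdeg
    obtain ⟨a, ha⟩ : IsUnit c := isUnit_iff_degree_eq_zero.2 (by
      rw [degree_eq_natDegree hc0, show c.natDegree = 0 by omega]; rfl)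
    exact ⟨a, by rw [ha, ← hc]⟩
  have hμirr : Irreducible μ := hassoc.irreducible hf
  have hμn : μ.natDegree = n := by
    have := natDegree_eq_of_degree_eq (degree_eq_degree_of_associated hassoc)
    omega
  have := Fact.mk hμirr
  let φ : AdjoinRoot μ →ₐ[F] Matrix (Fin n) (Fin n) F :=
    Ideal.Quotient.liftₐ (Ideal.span {μ}) (aeval A) (fun a ha => by
      obtain ⟨c, rfl⟩ := Ideal.mem_span_singleton'.1 ha
      rw [map_mul, hμ, minpoly.aeval, mul_zero])
  have hφinj : Function.Injective φ := φ.toRingHom.injective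
  have : Module.Finite F (AdjoinRoot μ) := (AdjoinRoot.powerBasis hμirr.ne_zero).finite
  have hfin : Finite (AdjoinRoot μ) := Module.finite_of_finite F
  have hcardK : Nat.card (AdjoinRoot μ) = q ^ n := by
    rw [Module.natCard_eq_pow_finrank (K := F), (AdjoinRoot.powerBasis hμirr.ne_zero).finrank,
      AdjoinRoot.powerBasis_dim, hμn, Nat.card_eq_fintype_card, hF]
  let Φ : (AdjoinRoot μ)ˣ →* GL (Fin n) F := Units.map φ.toRingHom.toMonoidHom
  have hΦinj : Function.Injective Φ := Units.map_injective hφinj
  have hroot : φ (AdjoinRoot.root μ) = A := by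
    show φ (AdjoinRoot.mk μ X) = A
    exact (aeval_X A)
  have hrange : Φ.range = Subgroup.centralizer ({x} : Set (GL (Fin n) F)) := by
    apply le_antisymm
    · rintro _ ⟨u, rfl⟩
      rw [Subgroup.mem_centralizer_singleton_iff]
      apply Units.ext
      show φ (u : AdjoinRoot μ) * A = A * φ (u : AdjoinRoot μ)
      rw [← hroot, ← map_mul, ← map_mul, mul_comm]
    · intro g hg
      rw [Subgroup.mem_centralizer_singleton_iff] at hg
      have hB : (g : Matrix (Fin n) (Fin n) F) * A = A * (g : Matrix (Fin n) (Fin n) F) :=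
        congrArg Units.val hg
      have hcomm : ∀ k, (g : Matrix (Fin n) (Fin n) F) * φ k = φ k * (g : Matrix (Fin n) (Fin n) F) := by
        intro k
        induction k using AdjoinRoot.induction_on with
        | ih s =>
          have h1 : φ (AdjoinRoot.mk μ s) = aeval A s := rfl
          rw [h1]
          clear h1
          induction s using Polynomial.induction_on' with
          | add a b ha hb => rw [map_add, mul_add, add_mul, ha, hb]
          | monomial i c =>
            rw [aeval_monomial, ← mul_assoc, ← Algebra.commutes c, mul_assoc, mul_assoc]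
            congr 1
            exact Commute.pow_right hB i
      let v : Fin n → F := fun _ => 1
      have hv : v ≠ 0 := fun h => one_ne_zero (congrFun h ⟨0, hn⟩)
      let ev : AdjoinRoot μ → (Fin n → F) := fun k => (φ k).mulVec v
      have hev : Function.Injective ev := by
        intro a b hab
        by_contra hne
        have h0 : (φ (a - b)).mulVec v = 0 := by
          rw [map_sub, Matrix.sub_mulVec, sub_eq_zero]; exact hab
        have hu : (φ ((a - b)⁻¹)).mulVec ((φ (a - b)).mulVec v) = v := by
          rw [Matrix.mulVec_mulVec, ← map_mul, inv_mul_cancel₀ (sub_ne_zero.2 hne), map_one,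
            Matrix.one_mulVec]
        rw [h0, Matrix.mulVec_zero] at hu
        exact hv hu.symm
      let _ := Fintype.ofFinite (AdjoinRoot μ)
      have hbij : Function.Bijective ev := by
        rw [Fintype.bijective_iff_injective_and_card]
        refine ⟨hev, ?_⟩
        rw [← Nat.card_eq_fintype_card, hcardK, Fintype.card_fun, hF, Fintype.card_fin]
      obtain ⟨k, hk⟩ := hbij.2 ((g : Matrix (Fin n) (Fin n) F).mulVec v)
      have hgk : (g : Matrix (Fin n) (Fin n) F) = φ k := by
        refine Matrix.ext_of_mulVec_single fun i => ?_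
        obtain ⟨l, hl⟩ := hbij.2 (Pi.single i 1)
        rw [← hl]
        show (g : Matrix (Fin n) (Fin n) F).mulVec ((φ l).mulVec v)
          = (φ k).mulVec ((φ l).mulVec v)
        rw [Matrix.mulVec_mulVec, Matrix.mulVec_mulVec, hcomm, ← map_mul, mul_comm k l, map_mul,
          ← Matrix.mulVec_mulVec, ← Matrix.mulVec_mulVec, ← hk]
      have hk0 : k ≠ 0 := by
        intro h
        rw [h, map_zero] at hgk
        exact g.ne_zero hgk
      exact ⟨Units.mk0 k hk0, Units.ext hgk.symm⟩
  constructor
  · rw [← hrange]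
    exact isCyclic_of_surjective _ (MonoidHom.ofInjective hΦinj).surjective
  · rw [← hrange, ← Nat.card_congr (MonoidHom.ofInjective hΦinj).toEquiv, Nat.card_units, hcardK]

/-- If an element x of GL_n(q), n ≥ 1, has prime order r and the multiplicative order of q modulo r is n (r is a primitive prime divisor of q^n − 1, so x acts irreducibly), then the centraliser of x in GL_n(q) is cyclic of order q^n − 1 (the multiplicative group of the field with q^n elements, a Singer cycle). -/
theorem result {F : Type*} [Field F] [Fintype F] {p q : ℕ} [Fact p.Prime] [CharP F p] (hF : Fintype.card F = q) {n r : ℕ} (hn : 1 ≤ n) (hr : r.Prime) (hrp : r ≠ p) (hi : orderOf (q : ZMod r) = n) (x : GL (Fin n) F) (hx : orderOf x = r) : IsCyclic ↥(Subgroup.centralizer ({x} : Set (GL (Fin n) F))) ∧ Nat.card ↥(Subgroup.centralizer ({x} : Set (GL (Fin n) F))) = q ^ n - 1 := by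
  exact main hF hn hr hrp hi x hx

end Cfsg.Agent.S2638
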