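import Cfsg.Statements.S2640
import Cfsg.Agent.H57.UnitaryEmbed

set_option autoImplicit false
open Cfsg

namespace Cfsg.Agent.S2640

/-- For m even, the unitary group GU_m(q) (over the field with q² elements) embeds in the orthogonal group O⁺_2m(q) of the hyperbolic form Σ x_i y_i over the field with q elements (there is an injective homomorphism). -/
theorem result {K F : Type*} [Field K] [Fintype K] [Field F] [Fintype F] {q : ℕ} (hK : Fintype.card K = q ^ 2) (hF : Fintype.card F = q) (m : ℕ) (hm : Even m) : ∃ φ : ↥(Cfsg.GU m K q) →* ↥(Cfsg.isometryGroup F (Cfsg.quadFormPlus m F)), Function.Injective φ := by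
  obtain ⟨k, rfl⟩ := hm
  obtain ⟨ι, -⟩ := H57.exists_incl hK hF
  obtain ⟨L, hL, hLq⟩ := H57.exists_coords_plus ι hK hF k
  obtain ⟨φ, hφ, happ⟩ := H57.exists_semilinear_hom ι L hL
  refine ⟨(φ.comp (Cfsg.GU (k + k) K q).subtype).codRestrict _ (fun g => ?_),
    fun a b h => Subtype.ext (hφ (congrArg Subtype.val h))⟩
  intro u _
  obtain ⟨v, rfl⟩ := L.surjective u
  show Cfsg.quadFormPlus (k + k) F ((φ (g : GL (Fin (k + k)) K) : Matrix _ _ F).mulVec (L v)) = _
  rw [happ]
  apply ι.injective
  rw [hLq, hLq]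
  exact g.2 v v

end Cfsg.Agent.S2640
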