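import Cfsg.Statements.S2641
import Cfsg.Agent.H57.UnitaryEmbed

set_option autoImplicit false
open Cfsg

namespace Cfsg.Agent.S2641

/-- For m odd, the unitary group GU_m(q) (over the field with q² elements) embeds in the orthogonal group O⁻_2m(q) of an elliptic form (Σ_(i<m−1) x_i y_i plus an anisotropic binary form) over the field with q elements (there is an injective homomorphism). -/
theorem result {K F : Type*} [Field K] [Fintype K] [Field F] [Fintype F] {q : ℕ} (hK : Fintype.card K = q ^ 2) (hF : Fintype.card F = q) (m : ℕ) (hm : Odd m) (a b : F) (hab : ∀ z₁ z₂ : F, z₁ ^ 2 + a * z₁ * z₂ + b * z₂ ^ 2 = 0 → z₁ = 0 ∧ z₂ = 0) : ∃ φ : ↥(Cfsg.GU m K q) →* ↥(Cfsg.isometryGroup F (Cfsg.quadFormMinus (m - 1) F a b)), Function.Injective φ := by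
  obtain ⟨k, rfl⟩ : ∃ k, m = k + k + 1 := by obtain ⟨k, hk⟩ := hm; exact ⟨k, by omega⟩
  obtain ⟨ι, -⟩ := H57.exists_incl hK hF
  have hr : ∀ t : F, t ^ 2 + a * t + b ≠ 0 := fun t ht =>
    one_ne_zero (hab t 1 (by linear_combination ht)).2
  obtain ⟨L, hL, hLq⟩ := H57.exists_coords_minus ι hK hF k a b hr
  obtain ⟨φ, hφ, happ⟩ := H57.exists_semilinear_hom ι L hL
  refine ⟨(φ.comp (Cfsg.GU (k + k + 1) K q).subtype).codRestrict
    (Cfsg.isometryGroup F (Cfsg.quadFormMinus (k + k) F a b)) (fun g => ?_),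
    fun x y h => Subtype.ext (hφ (congrArg Subtype.val h))⟩
  intro u _
  obtain ⟨v, rfl⟩ := L.surjective u
  show Cfsg.quadFormMinus (k + k) F a b
    ((φ (g : GL (Fin (k + k + 1)) K) : Matrix _ _ F).mulVec (L v)) = _
  rw [happ]
  apply ι.injective
  rw [hLq, hLq]
  exact g.2 v v

end Cfsg.Agent.S2641
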