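import Cfsg.Statements.S2645
import Cfsg.Agent.H68.RootClasses
import Cfsg.Agent.H54.RegularClasses
import Cfsg.Agent.H54.SympSemisimple
-- import your own Cfsg.Agent.* helpers here

set_option autoImplicit false
set_option linter.style.haveILetI false
open Cfsg

namespace Cfsg.Agent.S2645

open Polynomial

/-- Symplectic matrices as elements of `GL (Fin (m + m)) F`. -/
noncomputable def toGL (F : Type*) [Field F] (m : ℕ) :
    Matrix.symplecticGroup (Fin m) F →* GL (Fin (m + m)) F :=
  (Units.map (Matrix.reindexAlgEquiv F F (finSumFinEquiv (m := m) (n := m))).toMonoidHom).comp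
    ((Matrix.symplecticGroup (Fin m) F).subtype.toHomUnits)

theorem toGL_injective {F : Type*} [Field F] (m : ℕ) : Function.Injective (toGL F m) := fun _ _ hgh =>
  Subtype.ext ((Matrix.reindexAlgEquiv F F (finSumFinEquiv (m := m) (n := m))).injective (Units.ext_iff.1 hgh))

theorem charpoly_toGL {F : Type*} [Field F] {m : ℕ} (g : Matrix.symplecticGroup (Fin m) F) :
    (toGL F m g : Matrix (Fin (m + m)) (Fin (m + m)) F).charpoly =
      (g : Matrix (Fin m ⊕ Fin m) (Fin m ⊕ Fin m) F).charpoly :=
  Matrix.charpoly_reindex _ _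

/-- Number of conjugacy classes of elements of odd prime order r, r different from the characteristic, in the symplectic group Sp_2m(q): let i be the multiplicative order of q modulo r and t = (r − 1)/i. If i is odd the eigenvalue orbits pair off (Λ ≠ Λ⁻¹) and the classes correspond to the non-zero (t/2)-tuples (a_j) with 2i Σ a_j ≤ 2m, giving C(⌊m/i⌋ + t/2, t/2) − 1 classes; if i is even (Λ = Λ⁻¹) they correspond to the non-zero t-tuples with i Σ a_j ≤ 2m, giving C(⌊2m/i⌋ + t, t) − 1 classes. -/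
theorem result {F : Type*} [Field F] [Fintype F] {p q : ℕ} [Fact p.Prime] [CharP F p] (hF : Fintype.card F = q) (m r i t : ℕ) (hr : r.Prime) (hr2 : r ≠ 2) (hrp : r ≠ p) (hi : i = orderOf (q : ZMod r)) (ht : t * i = r - 1) : Nat.card {C : ConjClasses ↥(Matrix.symplecticGroup (Fin m) F) // ∃ g : Matrix.symplecticGroup (Fin m) F, ConjClasses.mk g = C ∧ orderOf g = r} = if Odd i then Nat.choose (m / i + t / 2) (t / 2) - 1 else Nat.choose (2 * m / i + t) t - 1 := by
  classical
  haveI : Fact r.Prime := ⟨hr⟩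
  haveI : Finite (Matrix.symplecticGroup (Fin m) F) := Subtype.finite
  have hp := Fact.out (p := p.Prime)
  have hrc : r.Coprime p := (Nat.coprime_primes hr hp).2 hrp
  have hco : ∀ {H : Type _} [Monoid H] (x : H), x ^ r = 1 → (orderOf x).Coprime p := fun x hx =>
    Nat.Coprime.coprime_dvd_left (orderOf_dvd_of_pow_eq_one hx) hrc
  have hτ : ∀ x : F, RingHom.id F x = x ^ p ^ 0 := fun x => by simp
  have hnec : ∀ g : Matrix.symplecticGroup (Fin m) F,
      H68.RootClasses.tw (RingHom.id F) (toGL F m g : Matrix (Fin (m + m)) (Fin (m + m)) F).charpoly =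
        (toGL F m g : Matrix (Fin (m + m)) (Fin (m + m)) F).charpoly := by
    intro g
    rw [charpoly_toGL, H68.RootClasses.tw, Polynomial.map_id]
    set P := (g : Matrix (Fin m ⊕ Fin m) (Fin m ⊕ Fin m) F).charpoly with hP
    have hd : P.natDegree = 2 * m := by
      rw [hP, Matrix.charpoly_natDegree_eq_dim, Fintype.card_sum, Fintype.card_fin, two_mul]
    have htop : P.coeff (2 * m) = 1 := by rw [← hd]; exact (Matrix.charpoly_monic _).coeff_natDegree
    have h0 : P.coeff 0 = 1 := by
      rw [← H54.SympSS.coeff_charpoly_reciprocal p g 0 (Nat.zero_le _), Nat.sub_zero, htop]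
    rw [h0, inv_one, C_1, one_mul]
    ext j
    rw [coeff_reverse, hd]
    rcases le_or_gt j (2 * m) with hj | hj
    · rw [revAt_le hj, H54.SympSS.coeff_charpoly_reciprocal p g j hj]
    · rw [revAt_eq_self_of_lt hj]
  have hreal : ∀ A : GL (Fin (m + m)) F, A ^ r = 1 →
      H68.RootClasses.tw (RingHom.id F) (A : Matrix (Fin (m + m)) (Fin (m + m)) F).charpoly =
        (A : Matrix (Fin (m + m)) (Fin (m + m)) F).charpoly →
      ∃ g : Matrix.symplecticGroup (Fin m) F, g ^ r = 1 ∧
        (toGL F m g : Matrix (Fin (m + m)) (Fin (m + m)) F).charpoly =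
          (A : Matrix (Fin (m + m)) (Fin (m + m)) F).charpoly := by
    intro A hA htw
    set f := (A : Matrix (Fin (m + m)) (Fin (m + m)) F).charpoly with hf
    have hd : f.natDegree = 2 * m := by rw [hf, Matrix.charpoly_natDegree_eq_dim, Fintype.card_fin, two_mul]
    have hdet : f.coeff 0 = (A : Matrix (Fin (m + m)) (Fin (m + m)) F).det := by
      rw [Matrix.det_eq_sign_charpoly_coeff, ← hf, Fintype.card_fin, ← two_mul, pow_mul, neg_one_sq,
        one_pow, one_mul]
    have hcr : f.coeff 0 ^ r = 1 := by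
      rw [hdet, ← Matrix.det_pow, ← Units.val_pow_eq_pow_val, hA, Units.val_one, Matrix.det_one]
    have hc0 : f.coeff 0 ≠ 0 := fun h => by rw [h, zero_pow hr.ne_zero] at hcr; exact zero_ne_one hcr
    rw [H68.RootClasses.tw, Polynomial.map_id] at htw
    have hc2 : f.coeff 0 ^ 2 = 1 := by
      have h := congrArg (fun P : F[X] => P.coeff 0) htw
      simp only [coeff_C_mul, coeff_zero_reverse, (Matrix.charpoly_monic _).leadingCoeff, hf, mul_one] at h
      rw [← hf] at h
      rw [sq]
      nth_rewrite 2 [← h]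
      exact mul_inv_cancel₀ hc0
    have hc1 : f.coeff 0 = 1 := by
      have h := pow_gcd_eq_one.2 ⟨hc2, hcr⟩
      rwa [Nat.Coprime.gcd_eq_one ((Nat.coprime_primes Nat.prime_two hr).2 hr2.symm), pow_one] at h
    rw [hc1, inv_one, C_1, one_mul] at htw
    have hrec : ∀ j, j ≤ 2 * m → f.coeff (2 * m - j) = f.coeff j := fun j hj => by
      conv_rhs => rw [← htw, coeff_reverse, hd, revAt_le hj]
    obtain ⟨g, hg, hga⟩ := H54.SympSS.exists_coeff (n := m) p (fun j : Fin m => f.coeff ((j : ℕ) + 1))
    have hgd : (g : Matrix (Fin m ⊕ Fin m) (Fin m ⊕ Fin m) F).charpoly.natDegree = 2 * m := by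
      rw [Matrix.charpoly_natDegree_eq_dim, Fintype.card_sum, Fintype.card_fin, two_mul]
    have hlow : ∀ j ≤ m, (g : Matrix (Fin m ⊕ Fin m) (Fin m ⊕ Fin m) F).charpoly.coeff j = f.coeff j := by
      intro j hj
      cases j with
      | zero =>
        rw [hc1, ← H54.SympSS.coeff_charpoly_reciprocal p g 0 (Nat.zero_le _), Nat.sub_zero, ← hgd]
        exact (Matrix.charpoly_monic _).coeff_natDegree
      | succ j => exact hga ⟨j, hj⟩
    have hcp : (toGL F m g : Matrix (Fin (m + m)) (Fin (m + m)) F).charpoly = f := by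
      rw [charpoly_toGL]
      ext j
      rcases le_or_gt j m with hj | hj
      · exact hlow j hj
      rcases le_or_gt j (2 * m) with hj' | hj'
      · rw [← H54.SympSS.coeff_charpoly_reciprocal p g j hj', ← hrec j hj']
        exact hlow _ (by omega)
      · rw [coeff_eq_zero_of_natDegree_lt (hgd ▸ hj'), coeff_eq_zero_of_natDegree_lt (hd ▸ hj')]
    refine ⟨g, toGL_injective m ?_, hcp⟩
    have hgo : (orderOf (toGL F m g)).Coprime p :=
      Nat.Coprime.coprime_dvd_left (orderOf_map_dvd _ g) hg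
    obtain ⟨c, hc⟩ := isConj_iff.1 (H54.isConj_GL p (hco A hA) hgo hcp.symm)
    rw [map_pow, map_one, ← hc, conj_pow, hA, mul_one, mul_inv_cancel]
  have hconj : ∀ g h : Matrix.symplecticGroup (Fin m) F, g ^ r = 1 → h ^ r = 1 →
      (toGL F m g : Matrix (Fin (m + m)) (Fin (m + m)) F).charpoly =
        (toGL F m h : Matrix (Fin (m + m)) (Fin (m + m)) F).charpoly → IsConj g h := fun g h hg hh hgh => by
    rw [charpoly_toGL, charpoly_toGL] at hgh
    exact H54.SympSS.isConj_of_charpoly g h (hco g hg) (hco h hh) hgh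
  rw [H68.RootClasses.card_classes p 0 hF hr hrp hi ht (RingHom.id F) hτ (fun x => rfl) (toGL F m) hconj
    (fun g _ => hnec g) hreal, pow_zero]
  have hcast : ∀ j, r ∣ q ^ j + 1 ↔ (q : ZMod r) ^ j = -1 := fun j => by
    rw [← ZMod.natCast_eq_zero_iff, Nat.cast_add, Nat.cast_pow, Nat.cast_one, add_eq_zero_iff_eq_neg]
  have hne : (-1 : ZMod r) ≠ 1 := by
    haveI : Fact (2 < r) := ⟨lt_of_le_of_ne hr.two_le hr2.symm⟩
    exact ZMod.neg_one_ne_one
  rcases Nat.even_or_odd i with hie | hio
  · have hex : ∃ j, r ∣ q ^ j + 1 := by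
      obtain ⟨j, hj⟩ := hie
      have hj0 : 0 < j := by
        have hi0 : i ≠ 0 := by
          rintro rfl
          rw [mul_zero] at ht
          have := hr.two_le
          omega
        omega
      refine ⟨j, (hcast j).2 ?_⟩
      have h1 : ((q : ZMod r) ^ j) ^ 2 = 1 := by
        rw [← pow_mul, show j * 2 = i by omega, hi, pow_orderOf_eq_one]
      rcases sq_eq_one_iff.1 h1 with h | h
      · exact absurd (Nat.le_of_dvd hj0 (hi ▸ orderOf_dvd_of_pow_eq_one h)) (by omega)
      · exact h
    rw [if_pos hex, if_neg (Nat.not_odd_iff_even.2 hie), two_mul]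
  · have hnex : ¬ ∃ j, r ∣ q ^ j + 1 := by
      rintro ⟨j, hj⟩
      rw [hcast] at hj
      have h1 : i ∣ j * 2 := hi ▸ orderOf_dvd_of_pow_eq_one (by rw [pow_mul, hj, neg_one_sq])
      have h2 : i ∣ j := ((Nat.coprime_two_right.2 hio).dvd_mul_right).1 h1
      obtain ⟨k, hk⟩ := h2
      rw [hk, pow_mul, hi, pow_orderOf_eq_one, one_pow] at hj
      exact hne hj.symm
    rw [if_neg hnex, if_pos hio, ← two_mul m, Nat.mul_div_mul_left _ _ two_pos]

end Cfsg.Agent.S2645
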