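import Cfsg.Statements.S2653
import Cfsg.Agent.H85.AltDeg.Main

set_option autoImplicit false
open scoped MatrixGroups
open Cfsg

namespace Cfsg.Agent.S2653

/-- Alternating sections of finite linear groups. Let `F` be a finite field of characteristic `p` and `n` a natural number, and suppose some subgroup `H` of GL_n(F) has a normal subgroup `K` with `H ⧸ K` isomorphic to the alternating group of degree `r ≥ 9`. Then `n ≥ r - 2` when `p` divides `r`, and `n ≥ r - 1` otherwise (the smallest degree of a nontrivial projective representation of that alternating group in characteristic `p`). The same bound follows for every classical group with natural module of dimension `n` over `F`, since each is a section of a subgroup of GL_n(F). -/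
theorem result {F : Type*} [Field F] [Fintype F] (p : ℕ) [Fact p.Prime] [CharP F p]
    (n : ℕ) (r : ℕ) (H : Subgroup (GL (Fin n) F)) (K : Subgroup ↥H) [K.Normal]
    (h : Nonempty (↥H ⧸ K ≃* ↥(alternatingGroup (Fin r)))) (hr : 9 ≤ r) :
    r - 1 - (if p ∣ r then 1 else 0) ≤ n := by
  classical
  obtain ⟨e⟩ := h
  let k := AlgebraicClosure (ZMod p)
  letI : Algebra (ZMod p) F := ZMod.algebra F p
  haveI : Module.Finite (ZMod p) F := Module.Finite.of_finite
  haveI : Algebra.IsAlgebraic (ZMod p) F := Algebra.IsAlgebraic.of_finite (ZMod p) F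
  let f : F →ₐ[ZMod p] k := IsAlgClosed.lift
  let g : ↥H →* Matrix (Fin n) (Fin n) k :=
    ((f.toRingHom.mapMatrix : Matrix (Fin n) (Fin n) F →+* Matrix (Fin n) (Fin n) k).toMonoidHom.comp
      (Units.coeHom _)).comp H.subtype
  have hg : Function.Injective g := fun a b hab =>
    Subtype.ext (Units.ext (Matrix.map_injective f.toRingHom.injective hab))
  let L := g.toHomUnits.range
  have hgu : Function.Injective g.toHomUnits := fun a b hab => hg (congrArg Units.val hab)
  let e' : ↥H ≃* ↥L := MonoidHom.ofInjective hgu
  let π : ↥L →* alternatingGroup (Fin r) :=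
    (e.toMonoidHom.comp (QuotientGroup.mk' K)).comp e'.symm.toMonoidHom
  let ρ : ↥L →* Module.End k (Fin n → k) :=
    ((Matrix.toLinAlgEquiv' : Matrix (Fin n) (Fin n) k ≃ₐ[k] _).toMonoidHom.comp (Units.coeHom _)).comp
      L.subtype
  haveI : Finite ↥L := Finite.of_equiv _ e'.toEquiv
  have hρ : Function.Injective ρ := fun a b hab => Subtype.ext (Units.ext
    ((Matrix.toLinAlgEquiv' : Matrix (Fin n) (Fin n) k ≃ₐ[k] _).injective hab))
  have hπ : Function.Surjective π :=
    (e.surjective.comp (QuotientGroup.mk'_surjective K)).comp e'.symm.surjective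
  obtain ⟨h1, h2⟩ := Cfsg.Agent.H85.AltDeg.section_bound n k (Fin n → k) ↥L ρ hρ r π hπ hr
    (Module.finrank_fin_fun k)
  rw [Module.finrank_fin_fun] at h1 h2
  by_cases hp : p ∣ r
  · rw [if_pos hp]
    omega
  · rw [if_neg hp, Nat.sub_zero]
    exact h2 fun h0 => hp ((CharP.cast_eq_zero_iff k p r).1 h0)

end Cfsg.Agent.S2653
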