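import Cfsg.Statements.S2657
import Cfsg.Agent.H77.Automizer.AltF4

set_option autoImplicit false
open scoped MatrixGroups
open Cfsg

namespace Cfsg.Agent.S2657

open Equiv in
/-- `i ↦ i + 1` on eleven points. -/
def x11 : Perm (Fin 11) :=
  ⟨fun i => i + 1, fun i => i - 1, fun i => by simp, fun i => by simp⟩

open Equiv in
/-- `i ↦ 3 i` on eleven points. -/
def y11 : Perm (Fin 11) :=
  ⟨fun i => 3 * i, fun i => 4 * i, fun i => by revert i; decide, fun i => by revert i; decide⟩

open Equiv in
/-- A five-cycle times a seven-cycle. -/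
def x12 : Perm (Fin 12) :=
  ⟨![1, 2, 3, 4, 0, 6, 7, 8, 9, 10, 11, 5], ![4, 0, 1, 2, 3, 11, 5, 6, 7, 8, 9, 10],
    fun i => by revert i; decide, fun i => by revert i; decide⟩

open Equiv in
/-- Multiplication by `2` modulo `5` and by `3` modulo `7`. -/
def y12 : Perm (Fin 12) :=
  ⟨![0, 2, 4, 1, 3, 5, 8, 11, 7, 10, 6, 9], ![0, 3, 1, 4, 2, 5, 10, 8, 6, 11, 9, 7],
    fun i => by revert i; decide, fun i => by revert i; decide⟩

/-- Carry a pair of even permutations satisfying a relation into a larger alternating group. -/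
theorem exists_pair {n r : ℕ} (hnr : n ≤ r) {x y : Equiv.Perm (Fin n)}
    (hx : Equiv.Perm.sign x = 1) (hy : Equiv.Perm.sign y = 1) {d k : ℕ} (hd : orderOf x = d)
    (hxy : y * x * y⁻¹ = x ^ k) :
    ∃ a b : ↥(alternatingGroup (Fin r)), orderOf a = d ∧ b * a * b⁻¹ = a ^ k := by
  set f := Equiv.Perm.viaEmbeddingHom (Fin.castLEEmb hnr) with hf
  have hs : ∀ g, Equiv.Perm.sign (f g) = Equiv.Perm.sign g := fun g => by
    rw [hf, Equiv.Perm.viaEmbeddingHom_apply, Equiv.Perm.viaEmbedding]
    letI := Classical.decPred fun a => a ∈ Set.range (Fin.castLEEmb hnr).toFun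
    exact Equiv.Perm.sign_extendDomain g _
  refine ⟨⟨f x, ?_⟩, ⟨f y, ?_⟩, ?_, ?_⟩
  · rw [Equiv.Perm.mem_alternatingGroup, hs, hx]
  · rw [Equiv.Perm.mem_alternatingGroup, hs, hy]
  · rw [← Subgroup.orderOf_coe, orderOf_injective f (Equiv.Perm.viaEmbeddingHom_injective _), hd]
  · refine Subtype.ext ?_
    simp only [Subgroup.coe_mul, Subgroup.coe_inv, SubmonoidClass.coe_pow]
    rw [← map_inv, ← map_mul, ← map_mul, hxy, map_pow]

/-- Alternating sections of the groups of type F₄. Let `F` be a finite field of characteristic `p` and let `G` be the Chevalley group of type F₄ over `F`. If some subgroup of `G` has a quotient isomorphic to the alternating group of degree `r`, then `r` is at most 10, or 11 in characteristic 11. (Only an upper bound is asserted.) -/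
theorem result {F : Type*} [Field F] [Fintype F] (p : ℕ) [Fact p.Prime] [CharP F p]
    (r : ℕ) (H : Subgroup ↥(Cfsg.Lie.chevF4.group F)) (K : Subgroup ↥H) [K.Normal]
    (h : Nonempty (↥H ⧸ K ≃* ↥(alternatingGroup (Fin r)))) :
    r ≤ 10 + (if p = 11 then 1 else 0) := by
  obtain ⟨e⟩ := h
  set π : ↥H →* ↥(alternatingGroup (Fin r)) := e.toMonoidHom.comp (QuotientGroup.mk' K)
  have hπ : Function.Surjective π := e.surjective.comp (QuotientGroup.mk'_surjective K)
  obtain ⟨n, hn, hcard⟩ := FiniteField.card F p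
  have hdvd : ∀ s : ℕ, s.Prime → p ≠ s → ¬ s ∣ Fintype.card F := fun s hs hps hd => by
    rw [hcard] at hd
    exact hps ((Nat.prime_dvd_prime_iff_eq hs hn).1 (hs.dvd_of_dvd_pow hd)).symm
  by_contra hlt
  split_ifs at hlt with hp
  · obtain ⟨a, b, ha, hab⟩ := exists_pair (r := r) (show 12 ≤ r by omega) (x := x12) (y := y12)
      (d := 35) (k := 17) (by decide +kernel) (by decide +kernel)
      (orderOf_eq_of_pow_and_pow_div_prime (by norm_num) (by decide +kernel) (by
        intro s hs hd
        have h57 : s = 5 ∨ s = 7 := by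
          rcases hs.dvd_mul.1 (show s ∣ 5 * 7 from hd) with h | h
          · exact Or.inl ((Nat.prime_dvd_prime_iff_eq hs (by norm_num)).1 h)
          · exact Or.inr ((Nat.prime_dvd_prime_iff_eq hs (by norm_num)).1 h)
        rcases h57 with rfl | rfl <;> decide +kernel))
      (by decide +kernel)
    exact H77.Automizer.no_thirty_five (hdvd 5 (by norm_num) (by omega))
      (hdvd 7 (by norm_num) (by omega)) π hπ ha hab
  · obtain ⟨a, b, ha, hab⟩ := exists_pair (r := r) (show 11 ≤ r by omega) (x := x11) (y := y11)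
      (d := 11) (k := 3) (by decide +kernel) (by decide +kernel)
      (orderOf_eq_prime (hp := ⟨by norm_num⟩) (by decide +kernel) (by decide +kernel))
      (by decide +kernel)
    exact H77.Automizer.no_eleven_five (hdvd 11 (by norm_num) hp) π hπ ha hab

end Cfsg.Agent.S2657
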