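import Cfsg.Statements.S2661
import Cfsg.Agent.H1.TorusFusion
import Cfsg.Agent.H37.Twist.F4Perfect
-- import your own Cfsg.Agent.* helpers here

set_option autoImplicit false
open scoped MatrixGroups
open Cfsg

namespace Cfsg.Agent.S2661

/-- Alternating sections of the large Ree groups ²F₄. Let `m ≥ 1`, let `K` be a field with `2^(2m+1)` elements and let `G` be the large Ree group ²F₄(2^(2m+1)) realised over `K`. If some subgroup of `G` has a quotient isomorphic to the alternating group of degree `r`, then `r ≤ 6`. (Only an upper bound is asserted.) -/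
theorem result {K : Type*} [Field K] [Fintype K] {m : ℕ} (hm : 1 ≤ m)
    (hK : Fintype.card K = 2 ^ (2 * m + 1)) (r : ℕ) (H : Subgroup ↥(Cfsg.Lie.twistedF4 K (2 ^ m))) (N : Subgroup ↥H) [N.Normal]
    (h : Nonempty (↥H ⧸ N ≃* ↥(alternatingGroup (Fin r)))) :
    r ≤ 6 := by
  haveI : CharP K 2 := Cfsg.Agent.H37.Twist.charP_of_card Nat.prime_two hK
  obtain ⟨φ, hφ⟩ := Cfsg.Agent.H37.Twist.exists_iterHom K 2 m Nat.prime_two
  obtain ⟨e⟩ := h
  let Md := Cfsg.Agent.H37.Twist.F4.model hφ hK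
  haveI : Finite ↥Md.T := inferInstance
  have hG : Nat.card ↥Md.T = _ := Cfsg.Agent.H37.Twist.F4.card_group hφ hK
  have hH : Nat.card Md.tw.H = (2 ^ (2 * m + 1) - 1) ^ 2 := by
    rw [Md.tw_H, ← Md.card_inf_eq]; exact Cfsg.Agent.H37.Twist.F4.card_H hφ hK
  have hU : Nat.card Md.tw.U = (2 ^ (2 * m + 1)) ^ 12 := by
    rw [Md.tw_U, ← Md.card_inf_eq]; exact Cfsg.Agent.H37.Twist.F4.card_U hφ hK
  refine Cfsg.Agent.H1.TorusFusion.alternating_section_le_six (G := ↥(Cfsg.Lie.twistedF4 K (2 ^ m))) Md.tw ?_ ?_ ?_ ?_ H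
    (e.toMonoidHom.comp (QuotientGroup.mk' N))
    (e.surjective.comp (QuotientGroup.mk'_surjective N))
  · show (Nat.card Md.tw.U).Coprime (Nat.card Md.tw.H)
    rw [hH, hU]
    refine Nat.Coprime.pow _ _ (Nat.Coprime.pow_left _ ?_)
    rw [Nat.Prime.coprime_iff_not_dvd Nat.prime_two]
    have : 2 ∣ 2 ^ (2 * m + 1) := dvd_pow_self 2 (by omega)
    have : 0 < 2 ^ (2 * m + 1) := Nat.two_pow_pos _
    omega
  · rw [Md.tw_H]
    intro a ha b hb
    apply Subtype.ext
    exact (Cfsg.Agent.H37.Twist.F4.QD K).diag_comm ha hb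
  · decide
  · have hq : (2 ^ (2 * m + 1)) % 7 = 1 ∨ (2 ^ (2 * m + 1)) % 7 = 2 ∨ (2 ^ (2 * m + 1)) % 7 = 4 := by
      generalize 2 * m + 1 = n
      induction n with
      | zero => simp
      | succ n ih => rw [pow_succ, Nat.mul_mod]; rcases ih with h | h | h <;> simp [h]
    have hidx := Md.tw.H.card_mul_index
    rw [hH, hG] at hidx
    generalize hqd : 2 ^ (2 * m + 1) = q at hidx hq
    have hq2 : 2 ≤ q := hqd ▸ Nat.le_self_pow (by omega) 2
    have h4 : q ^ 4 - 1 = (q - 1) * ((q + 1) * (q ^ 2 + 1)) := by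
      obtain ⟨k, rfl⟩ : ∃ k, q = k + 1 := ⟨q - 1, by omega⟩
      refine Nat.sub_eq_of_eq_add ?_
      rw [Nat.add_sub_cancel]
      ring
    have hval : Md.tw.H.index = q ^ 12 * (q ^ 3 + 1) * (q ^ 6 + 1) * ((q + 1) * (q ^ 2 + 1)) := by
      refine Nat.eq_of_mul_eq_mul_left (show 0 < (q - 1) ^ 2 from pow_pos (by omega) 2) ?_
      rw [hidx, h4]
      ring
    show ¬ 7 ∣ Md.tw.H.index
    rw [hval]
    intro hd
    have hd' := Nat.mod_eq_zero_of_dvd hd
    rcases hq with h | h | h <;> simp [Nat.mul_mod, Nat.add_mod, Nat.pow_mod, h] at hd'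


end Cfsg.Agent.S2661
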