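import Cfsg.Statements.S2665
import Cfsg.Agent.H57.LangGL

set_option autoImplicit false
open scoped MatrixGroups
open Cfsg

namespace Cfsg.Agent.S2665

/-- The Lang–Steinberg Theorem for the general linear group. Let `K` be an algebraically closed field of prime characteristic `p`, let `q = p^f` with `f ≥ 1`, and let `σ` be the endomorphism of GL_n(K) raising every matrix entry to the `q`-th power. Then every element `g` of GL_n(K) can be written `g = x · σ(x)⁻¹` for some `x` in GL_n(K): the map `x ↦ x σ(x)⁻¹` is surjective. -/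
theorem result {K : Type*} [Field K] [IsAlgClosed K] (p : ℕ) [Fact p.Prime] [CharP K p]
    (f : ℕ) (hf : 1 ≤ f) (n : ℕ) (g : GL (Fin n) K) :
    ∃ x : GL (Fin n) K, g = x * (Matrix.GeneralLinearGroup.map (iterateFrobenius K p f) x)⁻¹ := by
  classical
  have hq : 2 ≤ p ^ f := le_trans (Fact.out (p := p.Prime)).two_le (Nat.le_self_pow (by omega) p)
  set fr := iterateFrobenius K p f with hfr
  let φ : (Fin n → K) →+ (Fin n → K) :=
    { toFun := fun v => (g : Matrix (Fin n) (Fin n) K).mulVec (fun i => fr (v i))
      map_zero' := by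
        rw [show (fun i => fr ((0 : Fin n → K) i)) = 0 by funext i; simp]
        exact Matrix.mulVec_zero _
      map_add' := fun u v => by
        rw [← Matrix.mulVec_add]; congr 1; funext i; simp }
  have hφ : ∀ (c : K) (v : Fin n → K), φ (c • v) = c ^ (p ^ f) • φ v := by
    intro c v
    show (g : Matrix (Fin n) (Fin n) K).mulVec _ = _ • (g : Matrix (Fin n) (Fin n) K).mulVec _
    rw [← Matrix.mulVec_smul]; congr 1; funext i
    simp [hfr, iterateFrobenius_def, mul_pow]
  have hinj : Function.Injective φ := by
    intro u v h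
    have h2 := Matrix.mulVec_injective_iff_isUnit.2 g.isUnit h
    funext i
    exact fr.injective (congrFun h2 i)
  have hspan := H57.span_fixed_semilinear (p ^ f) hq φ hφ hinj
  obtain ⟨b, hsub, hsp, hli⟩ := exists_linearIndependent K {v | φ v = v}
  let B := Module.Basis.mk hli (by rw [Subtype.range_coe, hsp, hspan])
  haveI : Fintype b := FiniteDimensional.fintypeBasisIndex B
  let e : b ≃ Fin n := Fintype.equivFinOfCardEq (by
    rw [← Module.finrank_eq_card_basis B, Module.finrank_fin_fun])
  let B' := B.reindex e
  have hB : ∀ j, φ (B' j) = B' j := fun j => by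
    have hBj : B' j = ((e.symm j : b) : Fin n → K) := by
      simp [B', B, Module.Basis.reindex_apply]
    rw [hBj]
    exact hsub (e.symm j).2
  let M : Matrix (Fin n) (Fin n) K := (Pi.basisFun K (Fin n)).toMatrix B'
  haveI : Invertible M := (Pi.basisFun K (Fin n)).invertibleToMatrix B'
  let x : GL (Fin n) K := unitOfInvertible M
  refine ⟨x, eq_mul_inv_iff_mul_eq.2 ?_⟩
  apply Units.ext
  ext i j
  have h1 := congrFun (hB j) i
  rw [Units.val_mul, Matrix.mul_apply]
  refine Eq.trans ?_ (h1.trans ?_)
  · simp [φ, x, M, Matrix.mulVec, dotProduct, Module.Basis.toMatrix_apply]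
  · simp [x, M, Module.Basis.toMatrix_apply]

end Cfsg.Agent.S2665
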