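import Cfsg.Statements.S2669
import Cfsg.Agent.H57.Shintani

set_option autoImplicit false
open Cfsg

namespace Cfsg.Agent.S2669

/-- Shintani descent preserves numbers of fixed points on coset spaces (abstract form). Let `σ` be an automorphism of a group `X` and `e ≥ 1`; write `G` for the fixed points of `σᵉ` and `H` for the fixed points of `σ`, and assume `G` is finite. Let `Y` be a `σ`-stable subgroup of `X` on which the maps `a ↦ a σ(a)⁻¹` and `a ↦ a σᵉ(a)⁻¹` are surjective (as for a closed connected `σ`-stable subgroup of an algebraic group). Let `g ∈ G`, let `a ∈ X` satisfy `g = a σ(a)⁻¹` and put `x = σᵉ(a)⁻¹ a` (the Shintani image, an element of `H`). The element `g σ` of the semidirect product acts on the cosets of `Y ∩ G` in `G` by `k (Y ∩ G) ↦ g σ(k) (Y ∩ G)`, fixing that coset exactly when `k⁻¹ g σ(k) ∈ Y`; and `x` fixes the coset `h (Y ∩ H)` of `H` exactly when `h⁻¹ x h ∈ Y`. Then the two numbers of fixed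 cosets agree; in cross-multiplied form, `#{k ∈ G : k⁻¹ g σ(k) ∈ Y} · |Y ∩ H| = #{h ∈ H : h⁻¹ x h ∈ Y} · |Y ∩ G|`. -/
theorem result {X : Type*} [Group X] (σ : MulAut X) (e : ℕ) (he : 1 ≤ e)
    [Finite ↥((MulEquiv.toMonoidHom (σ ^ e)).eqLocus (MonoidHom.id X))]
    (Y : Subgroup X) (hY : ∀ y : X, y ∈ Y ↔ σ y ∈ Y)
    (hYL : ∀ y ∈ Y, ∃ a ∈ Y, y = a * (σ a)⁻¹) (hYLe : ∀ y ∈ Y, ∃ a ∈ Y, y = a * ((σ ^ e) a)⁻¹)
    (g : X) (hg : g ∈ (MulEquiv.toMonoidHom (σ ^ e)).eqLocus (MonoidHom.id X)) (a : X) (ha : g = a * (σ a)⁻¹) :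
    Nat.card {k : ↥((MulEquiv.toMonoidHom (σ ^ e)).eqLocus (MonoidHom.id X)) // (k : X)⁻¹ * g * σ k ∈ Y} *
        Nat.card ↥(Y ⊓ (MulEquiv.toMonoidHom σ).eqLocus (MonoidHom.id X)) =
      Nat.card {h : ↥((MulEquiv.toMonoidHom σ).eqLocus (MonoidHom.id X)) // (h : X)⁻¹ * (((σ ^ e) a)⁻¹ * a) * h ∈ Y} *
        Nat.card ↥(Y ⊓ (MulEquiv.toMonoidHom (σ ^ e)).eqLocus (MonoidHom.id X)) := by
  classical
  set G := (MulEquiv.toMonoidHom (σ ^ e)).eqLocus (MonoidHom.id X) with hG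
  set H := (MulEquiv.toMonoidHom σ).eqLocus (MonoidHom.id X) with hH
  set x := ((σ ^ e) a)⁻¹ * a with hxdef
  let P := {kh : ↥G × ↥H // (kh.1 : X)⁻¹ * a * (kh.2 : X) ∈ Y}
  -- the linking element and the two conditions
  have condA : ∀ p : P, (p.1.1 : X)⁻¹ * g * σ (p.1.1 : X) ∈ Y := by
    rintro ⟨⟨k, h⟩, hc⟩
    have hh : σ (h : X) = h := h.2
    have hs := (hY _).1 hc
    simp only [map_mul, map_inv, hh] at hs
    have : (k : X)⁻¹ * g * σ (k : X)
        = ((k : X)⁻¹ * a * h) * ((σ (k : X))⁻¹ * σ a * h)⁻¹ := by rw [ha]; group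
    show (k : X)⁻¹ * g * σ (k : X) ∈ Y
    rw [this]; exact Y.mul_mem hc (Y.inv_mem hs)
  have pow_mem : ∀ (n : ℕ) (y : X), y ∈ Y → (σ ^ n) y ∈ Y := by
    intro n
    induction n with
    | zero => simp
    | succ n ih => intro y hy; rw [← H57.twist_pow_succ_apply']; exact ih _ ((hY y).1 hy)
  have condB : ∀ p : P, (p.1.2 : X)⁻¹ * x * (p.1.2 : X) ∈ Y := by
    rintro ⟨⟨k, h⟩, hc⟩
    have hh : (σ ^ e) (h : X) = h := H57.pow_fixed σ h.2 e
    have hk : (σ ^ e) (k : X) = k := k.2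
    have hs := pow_mem e _ hc
    simp only [map_mul, map_inv, hh, hk] at hs
    have : (h : X)⁻¹ * x * (h : X)
        = ((k : X)⁻¹ * (σ ^ e) a * h)⁻¹ * ((k : X)⁻¹ * a * h) := by rw [hxdef]; group
    show (h : X)⁻¹ * x * (h : X) ∈ Y
    rw [this]; exact Y.mul_mem (Y.inv_mem hs) hc
  -- every good k has a partner
  have exA : ∀ k : {k : ↥G // (k : X)⁻¹ * g * σ k ∈ Y}, ∃ h : ↥H, (k.1 : X)⁻¹ * a * h ∈ Y := by
    rintro ⟨k, hk⟩
    obtain ⟨c, hcY, hc⟩ := hYL _ hk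
    have h1 : σ (a⁻¹ * (k : X) * c) = a⁻¹ * (k : X) * c := by
      have hc' : (σ c)⁻¹ = c⁻¹ * ((k : X)⁻¹ * g * σ (k : X)) := by rw [hc]; group
      rw [map_mul, map_mul, map_inv, ← inv_inv (σ c), hc', ha]; group
    exact ⟨⟨a⁻¹ * (k : X) * c, h1⟩, by
      show (k : X)⁻¹ * a * (a⁻¹ * (k : X) * c) ∈ Y
      rwa [show (k : X)⁻¹ * a * (a⁻¹ * (k : X) * c) = c by group]⟩
  have exB : ∀ h : {h : ↥H // (h : X)⁻¹ * x * h ∈ Y}, ∃ k : ↥G, (k : X)⁻¹ * a * h.1 ∈ Y := by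
    rintro ⟨h, hh⟩
    obtain ⟨b, hbY, hb⟩ := hYLe _ (Y.inv_mem hh)
    have hh' : (σ ^ e) (h : X) = h := H57.pow_fixed σ h.2 e
    have h1 : (σ ^ e) (a * (h : X) * b) = a * (h : X) * b := by
      have hb' : (σ ^ e) b = ((h : X)⁻¹ * x * (h : X)) * b := by
        rw [← inv_inv ((h : X)⁻¹ * x * (h : X)), hb]; group
      rw [map_mul, map_mul, hh', hb', hxdef]; group
    exact ⟨⟨a * (h : X) * b, h1⟩, by
      show (a * (h : X) * b)⁻¹ * a * (h : X) ∈ Y
      rw [show (a * (h : X) * b)⁻¹ * a * (h : X) = b⁻¹ by group]; exact Y.inv_mem hbY⟩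
  choose hA hhA using exA
  choose kB hkB using exB
  let eA : P ≃ {k : ↥G // (k : X)⁻¹ * g * σ k ∈ Y} × ↥(Y ⊓ H) :=
    { toFun := fun p => (⟨p.1.1, condA p⟩,
        ⟨((hA ⟨p.1.1, condA p⟩)⁻¹ * p.1.2 : ↥H), by
          refine ⟨?_, SetLike.coe_mem _⟩
          have := Y.mul_mem (Y.inv_mem (hhA ⟨p.1.1, condA p⟩)) p.2
          show _ ∈ Y
          push_cast
          convert this using 1
          group⟩)
      invFun := fun q => ⟨(q.1.1, ⟨(hA q.1 : X) * (q.2 : X), H.mul_mem (hA q.1).2 q.2.2.2⟩), by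
        have := Y.mul_mem (hhA q.1) q.2.2.1
        show (q.1.1 : X)⁻¹ * a * ((hA q.1 : X) * (q.2 : X)) ∈ Y
        convert this using 1
        group⟩
      left_inv := fun p => by
        apply Subtype.ext; apply Prod.ext
        · rfl
        · apply Subtype.ext; simp
      right_inv := fun q => by
        apply Prod.ext
        · rfl
        · apply Subtype.ext; simp }
  let eB : P ≃ {h : ↥H // (h : X)⁻¹ * x * h ∈ Y} × ↥(Y ⊓ G) :=
    { toFun := fun p => (⟨p.1.2, condB p⟩,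
        ⟨((p.1.1⁻¹ * kB ⟨p.1.2, condB p⟩ : ↥G) : X), by
          refine ⟨?_, ?_⟩
          · have := Y.mul_mem p.2 (Y.inv_mem (hkB ⟨p.1.2, condB p⟩))
            show _ ∈ Y
            push_cast
            convert this using 1
            group
          · exact SetLike.coe_mem _⟩)
      invFun := fun q => ⟨(⟨(kB q.1 : X) * (q.2 : X)⁻¹, G.mul_mem (kB q.1).2 (G.inv_mem q.2.2.2)⟩, q.1.1), by
        have := Y.mul_mem q.2.2.1 (hkB q.1)
        show ((kB q.1 : X) * (q.2 : X)⁻¹)⁻¹ * a * (q.1.1 : X) ∈ Y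
        convert this using 1
        group⟩
      left_inv := fun p => by
        apply Subtype.ext; apply Prod.ext
        · apply Subtype.ext; simp
        · rfl
      right_inv := fun q => by
        apply Prod.ext
        · rfl
        · apply Subtype.ext; simp }
  have h1 := Nat.card_congr eA
  have h2 := Nat.card_congr eB
  rw [Nat.card_prod] at h1 h2
  rw [← h1, ← h2]

end Cfsg.Agent.S2669
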