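import Cfsg.Statements.S2671
import Cfsg.Agent.H68.RootClasses
import Cfsg.Agent.H54.RegularClasses
import Cfsg.Agent.Unitary.Wall
-- import your own Cfsg.Agent.* helpers here

set_option autoImplicit false
set_option linter.style.haveILetI false
open Cfsg

namespace Cfsg.Agent.S2671

open Polynomial

/-- The characteristic polynomial of an inverse. -/
theorem charpoly_inv_eq {F : Type*} [Field F] {n : ℕ} (M : Matrix (Fin n) (Fin n) F) (h : IsUnit M) :
    M⁻¹.charpoly = C (M.charpoly.coeff 0)⁻¹ * M.charpoly.reverse := by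
  have hd : M.det ≠ 0 := ((Matrix.isUnit_iff_isUnit_det M).1 h).ne_zero
  have h0 : M.charpoly.coeff 0 = (-1) ^ n * M.det := by
    rw [Matrix.det_eq_sign_charpoly_coeff, Fintype.card_fin, ← mul_assoc, ← mul_pow, neg_one_mul, neg_neg,
      one_pow, one_mul]
  rw [Matrix.charpoly_inv M h, Matrix.reverse_charpoly, h0, mul_inv, ← inv_pow, inv_neg, inv_one,
    Ring.inverse_eq_inv', Fintype.card_fin, C_mul, C_pow, C_neg, C_1]

/-- Number of conjugacy classes of elements of odd prime order r in the general unitary group GU_n(q), for r not dividing q(q + 1): let i be the multiplicative order of q modulo r, b = i if i is odd and b = i/2 if i is even, and s = (r − 1)/b. If i ≢ 2 (mod 4) the eigenvalue orbits pair off into dual pairs of totally isotropic blocks and there are C(⌊n/(2b)⌋ + s/2, s/2) − 1 classes; if i ≡ 2 (mod 4) each orbit gives a non-degenerate block of dimension i/2 and there are C(⌊2n/i⌋ + s, s) − 1 classes. -/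
theorem result {K : Type*} [Field K] [Fintype K] {p q n r i b s : ℕ} [Fact p.Prime] [CharP K p] (hK : Fintype.card K = q ^ 2) (hr : r.Prime) (hr2 : r ≠ 2) (hrp : r ≠ p) (hi : i = orderOf (q : ZMod r)) (hi2 : i ≠ 2) (hb : b = if Odd i then i else i / 2) (hs : s * b = r - 1) : Nat.card {C : ConjClasses ↥(Cfsg.GU n K q) // ∃ g : ↥(Cfsg.GU n K q), ConjClasses.mk g = C ∧ orderOf g = r} = if i % 4 = 2 then Nat.choose (2 * n / i + s) s - 1 else Nat.choose (n / (2 * b) + s / 2) (s / 2) - 1 := by
  classical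
  haveI : Fact r.Prime := ⟨hr⟩
  have hp := Fact.out (p := p.Prime)
  have hrc : r.Coprime p := (Nat.coprime_primes hr hp).2 hrp
  have hco : ∀ {H : Type _} [Monoid H] (x : H), x ^ r = 1 → (orderOf x).Coprime p := fun x hx =>
    Nat.Coprime.coprime_dvd_left (orderOf_dvd_of_pow_eq_one hx) hrc
  obtain ⟨f, -, hf⟩ := FiniteField.card K p
  obtain ⟨e, -, he⟩ : ∃ e ≤ (f : ℕ), q = p ^ e :=
    (Nat.dvd_prime_pow hp).1 (by rw [← hf, hK]; exact dvd_pow_self q two_ne_zero)
  have hfrob : ∀ x : K, iterateFrobenius K p e x = x ^ q := fun x => by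
    rw [iterateFrobenius_def, he]
  have hττ : ∀ x : K, iterateFrobenius K p e (iterateFrobenius K p e x) = x := fun x => by
    rw [hfrob, hfrob]; exact Unitary.pow_q_q hK x
  have htwc : ∀ M : Matrix (Fin n) (Fin n) K, IsUnit M →
      (Unitary.hstar q M)⁻¹.charpoly = H68.RootClasses.tw (iterateFrobenius K p e) M.charpoly := by
    intro M hM
    rw [charpoly_inv_eq _ (Unitary.hstar_isUnit hK hM), H68.RootClasses.tw]
    have h1 : (Unitary.hstar q M).charpoly = M.charpoly.map (iterateFrobenius K p e) := by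
      rw [Unitary.hstar, Matrix.charpoly_transpose, ← Matrix.charpoly_map]
      congr 1
      ext a b
      simp [hfrob]
    rw [h1]
  have hnec : ∀ g : Cfsg.GU n K q,
      H68.RootClasses.tw (iterateFrobenius K p e) ((Cfsg.GU n K q).subtype g : Matrix (Fin n) (Fin n) K).charpoly =
        ((Cfsg.GU n K q).subtype g : Matrix (Fin n) (Fin n) K).charpoly := by
    intro g
    have hc := (Unitary.exists_similar_GU_iff hK (g : GL (Fin n) K)).1 ⟨g, IsConj.refl _⟩
    rw [Subgroup.subtype_apply, ← htwc _ (g : GL (Fin n) K).isUnit]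
    obtain ⟨c, hc⟩ := hc
    have h2 : (Unitary.hstar q ((g : GL (Fin n) K) : Matrix (Fin n) (Fin n) K))⁻¹ =
        (c : Matrix (Fin n) (Fin n) K) * ((g : GL (Fin n) K) : Matrix (Fin n) (Fin n) K) *
          (↑c⁻¹ : Matrix (Fin n) (Fin n) K) := by
      rw [hc.eq, mul_assoc, Units.mul_inv, mul_one]
    rw [h2, Matrix.coe_units_inv]
    exact Matrix.charpoly_units_conj c _
  have hreal : ∀ A : GL (Fin n) K, A ^ r = 1 →
      H68.RootClasses.tw (iterateFrobenius K p e) (A : Matrix (Fin n) (Fin n) K).charpoly =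
        (A : Matrix (Fin n) (Fin n) K).charpoly →
      ∃ g : Cfsg.GU n K q, g ^ r = 1 ∧
        ((Cfsg.GU n K q).subtype g : Matrix (Fin n) (Fin n) K).charpoly =
          (A : Matrix (Fin n) (Fin n) K).charpoly := by
    intro A hA htw
    have hu := Unitary.hstar_isUnit hK A.isUnit
    set B : GL (Fin n) K := hu.unit⁻¹ with hB
    have hBv : (B : Matrix (Fin n) (Fin n) K) = (Unitary.hstar q (A : Matrix (Fin n) (Fin n) K))⁻¹ := by
      rw [hB, Matrix.coe_units_inv, IsUnit.unit_spec]
    have hpow : ∀ k : ℕ, Unitary.hstar q (A : Matrix (Fin n) (Fin n) K) ^ k =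
        Unitary.hstar q ((A : Matrix (Fin n) (Fin n) K) ^ k) := by
      intro k
      induction k with
      | zero => rw [pow_zero, pow_zero, Unitary.hstar_one hK]
      | succ k ih => rw [pow_succ, ih, pow_succ' (A : Matrix (Fin n) (Fin n) K), Unitary.hstar_mul hK]
    have hBr : B ^ r = 1 := by
      rw [hB, inv_pow, inv_eq_one]
      refine Units.ext ?_
      rw [Units.val_pow_eq_pow_val, IsUnit.unit_spec, hpow, ← Units.val_pow_eq_pow_val, hA, Units.val_one,
        Unitary.hstar_one hK]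
    have hconjAB : IsConj A B := H54.isConj_GL p (hco A hA) (hco B hBr) (by
      rw [hBv, htwc _ A.isUnit, htw])
    obtain ⟨g, hg⟩ := (Unitary.exists_similar_GU_iff hK A).2
      (hBv ▸ MonoidHom.map_isConj (Units.coeHom _) hconjAB)
    obtain ⟨c, hc⟩ := isConj_iff.1 hg
    refine ⟨g, Subtype.ext ?_, ?_⟩
    · rw [Subgroup.coe_pow, Subgroup.coe_one, ← hc, conj_pow, hA, mul_one, mul_inv_cancel]
    · rw [Subgroup.subtype_apply, ← hc, Units.val_mul, Units.val_mul, Matrix.coe_units_inv]
      exact Matrix.charpoly_units_conj c _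
  have hconj : ∀ g h : Cfsg.GU n K q, g ^ r = 1 → h ^ r = 1 →
      ((Cfsg.GU n K q).subtype g : Matrix (Fin n) (Fin n) K).charpoly =
        ((Cfsg.GU n K q).subtype h : Matrix (Fin n) (Fin n) K).charpoly → IsConj g h := fun g h hg hh hgh =>
    (Unitary.isConj_GU_iff hK g h).2 (H54.isConj_GL p
      (hco _ (by rw [← Subgroup.coe_pow, hg, Subgroup.coe_one]))
      (hco _ (by rw [← Subgroup.coe_pow, hh, Subgroup.coe_one])) hgh)
  have hi0 : 0 < i := by
    rcases Nat.eq_zero_or_pos i with rfl | h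
    · exfalso
      have hb0 : b = 0 := by rw [hb]; split_ifs <;> simp
      rw [hb0, mul_zero] at hs
      have := hr.two_le
      omega
    · exact h
  have hbord : b = orderOf ((q ^ 2 : ℕ) : ZMod r) := by
    rw [Nat.cast_pow, orderOf_pow' _ two_ne_zero, ← hi, hb]
    rcases Nat.even_or_odd i with hie | hio
    · rw [if_neg (Nat.not_odd_iff_even.2 hie), Nat.gcd_eq_right (even_iff_two_dvd.1 hie)]
    · rw [if_pos hio, (Nat.coprime_two_right.2 hio).gcd_eq_one, Nat.div_one]
  rw [H68.RootClasses.card_classes p e hK hr hrp hbord hs (iterateFrobenius K p e)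
    (fun x => iterateFrobenius_def ..) hττ
    (Cfsg.GU n K q).subtype hconj (fun g _ => hnec g) hreal, ← he]
  have hcast : ∀ j, r ∣ (q ^ 2) ^ j + q ↔ (q : ZMod r) ^ (2 * j) = -(q : ZMod r) := fun j => by
    rw [← ZMod.natCast_eq_zero_iff, Nat.cast_add, Nat.cast_pow, Nat.cast_pow, ← pow_mul,
      add_eq_zero_iff_eq_neg]
  have hq0 : (q : ZMod r) ≠ 0 := by
    intro h
    rw [h, orderOf_zero] at hi
    omega
  have hne : (-1 : ZMod r) ≠ 1 := by
    haveI : Fact (2 < r) := ⟨lt_of_le_of_ne hr.two_le hr2.symm⟩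
    exact ZMod.neg_one_ne_one
  by_cases h4 : i % 4 = 2
  · have hex : ∃ j, r ∣ (q ^ 2) ^ j + q := by
      refine ⟨i / 4 + 1, (hcast _).2 ?_⟩
      have h1 : ((q : ZMod r) ^ (i / 2)) ^ 2 = 1 := by
        rw [← pow_mul, show i / 2 * 2 = i by omega, hi, pow_orderOf_eq_one]
      rw [show 2 * (i / 4 + 1) = i / 2 + 1 by omega, pow_succ]
      rcases sq_eq_one_iff.1 h1 with h | h
      · exact absurd (Nat.le_of_dvd (by omega) (hi ▸ orderOf_dvd_of_pow_eq_one h)) (by omega)
      · rw [h, neg_one_mul]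
    rw [if_pos hex, if_pos h4]
    have hio : ¬ Odd i := by rw [Nat.not_odd_iff]; omega
    rw [if_neg hio] at hb
    rw [show 2 * n / i = 2 * n / (2 * b) by rw [hb]; congr 1; omega, Nat.mul_div_mul_left _ _ two_pos]
  · have hnex : ¬ ∃ j, r ∣ (q ^ 2) ^ j + q := by
      rintro ⟨j, hj⟩
      rw [hcast] at hj
      have h1 : (q : ZMod r) ^ (4 * j) = (q : ZMod r) ^ 2 := by
        rw [show 4 * j = 2 * j * 2 by ring, pow_mul, hj, neg_sq]
      rw [(IsUnit.mk0 _ hq0).isOfFinOrder.pow_eq_pow_iff_modEq, ← hi] at h1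
      rcases Nat.even_or_odd i with hie | hio
      · have h4' : 4 ∣ i := by
          obtain ⟨k, hk⟩ := hie
          omega
        have h2 : 4 * j % 4 = 2 % 4 := Nat.ModEq.of_dvd h4' h1
        omega
      · have h2 : 2 * j ≡ 1 [MOD i] :=
          Nat.ModEq.cancel_left_of_coprime (c := 2) (Nat.coprime_two_right.2 hio)
            (by rw [← mul_assoc]; exact h1)
        rw [pow_eq_pow_of_modEq h2 (hi ▸ pow_orderOf_eq_one _), pow_one] at hj
        apply hne
        have : (-1 : ZMod r) * q = 1 * q := by rw [neg_one_mul, one_mul, ← hj]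
        exact mul_right_cancel₀ hq0 this
    rw [if_neg hnex, if_neg h4]

end Cfsg.Agent.S2671
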