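import Cfsg.Statements.S2672
import Cfsg.Agent.Linear.PGLOrderClasses
import Cfsg.Agent.H68.OrthoClasses
import Cfsg.Agent.Unitary.Wall
import Cfsg.Agent.Unitary.GUCenter
-- import your own Cfsg.Agent.* helpers here

set_option autoImplicit false
set_option linter.style.haveILetI false
set_option maxHeartbeats 400000
open Cfsg

namespace Cfsg.Agent.S2672

open Polynomial Matrix Cfsg.Agent.Linear UniqueFactorizationMonoid

theorem map_mk' {G H : Type*} [Group G] [Group H] (f : G →* H) (a : G) :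
    ConjClasses.map f (ConjClasses.mk a) = ConjClasses.mk (f a) := rfl

/-- Number of conjugacy classes of elements of odd prime order r in PGU_n(q) = GU_n(q)/scalars (n ≥ 3) when r divides q + 1: as in the linear case with q − 1 replaced by q + 1, the classes correspond to the rotation orbits on r-tuples of eigenvalue multiplicities summing to n with every entry < n, plus r − 1 further classes when r divides n; in all (C(n+r−1, r−1) − r − [r ∣ n])/r + r·[r ∣ n]. -/
theorem result {K : Type*} [Field K] [Fintype K] {q n r : ℕ} (hK : Fintype.card K = q ^ 2) (hn : 3 ≤ n) (hr : r.Prime) (hr2 : r ≠ 2) (hrq : r ∣ q + 1) : Nat.card {C : ConjClasses (↥(Cfsg.GU n K q) ⧸ Subgroup.center ↥(Cfsg.GU n K q)) // ∃ g : ↥(Cfsg.GU n K q) ⧸ Subgroup.center ↥(Cfsg.GU n K q), ConjClasses.mk g = C ∧ orderOf g = r} = (Nat.choose (n + r - 1) (r - 1) - r - (if r ∣ n then 1 else 0)) / r + r * (if r ∣ n then 1 else 0) := by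
  classical
  haveI : Fact r.Prime := ⟨hr⟩
  haveI : NeZero n := ⟨by omega⟩
  have hq2 := Unitary.two_le_q hK
  obtain ⟨p, hpch⟩ := CharP.exists K
  obtain ⟨f, hp, hf⟩ := FiniteField.card K p
  haveI : Fact p.Prime := ⟨hp⟩
  obtain ⟨e, -, he⟩ : ∃ e ≤ (f : ℕ), q = p ^ e :=
    (Nat.dvd_prime_pow hp).1 (by rw [← hf, hK]; exact dvd_pow_self q two_ne_zero)
  have he0 : e ≠ 0 := fun h => by rw [h, pow_zero] at he; omega
  have hpq : p ∣ q := he ▸ dvd_pow_self p he0
  have hp1 : ¬ p ∣ q + 1 := fun h => hp.one_lt.ne' (Nat.dvd_one.1 ((Nat.dvd_add_right hpq).1 h))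
  have hrp : r ≠ p := fun h => hp1 (h ▸ hrq)
  have hr1 : Nat.Coprime r (q - 1) := by
    refine hr.coprime_iff_not_dvd.2 fun h => hr2 ?_
    have := Nat.le_of_dvd two_pos (show r ∣ 2 by
      have := Nat.dvd_sub hrq h
      rwa [show q + 1 - (q - 1) = 2 by omega] at this)
    have := hr.two_le
    omega
  have hKu : Fintype.card Kˣ = (q + 1) * (q - 1) := by
    rw [Fintype.card_units, hK, ← Nat.sq_sub_sq q 1, one_pow]
  have hrK : r ∣ Fintype.card K - 1 := by
    rw [← Fintype.card_units, hKu]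
    exact hrq.mul_right _
  have hsq : ∀ s : Kˣ, (s ^ (q + 1)) ^ (q - 1) = 1 := fun s => by
    rw [← pow_mul, ← hKu, pow_card_eq_one]
  have hkey : ∀ s : Kˣ, (s ^ r) ^ (q + 1) = 1 → s ^ (q + 1) = 1 := fun s hs => by
    have h := pow_gcd_eq_one.2 ⟨show (s ^ (q + 1)) ^ r = 1 by rw [← pow_mul, mul_comm, pow_mul, hs], hsq s⟩
    rwa [hr1.gcd_eq_one, pow_one] at h
  have hdec : ∀ c : Kˣ, ∃ s : Kˣ, (c * s ^ r) ^ (q + 1) = 1 := fun c => by
    obtain ⟨m, hm⟩ := exists_pow_eq_self_of_coprime
      (x := c ^ (q + 1)) (n := r) (hr1.coprime_dvd_right (orderOf_dvd_of_pow_eq_one (hsq c)))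
    refine ⟨(c⁻¹) ^ m, ?_⟩
    rw [mul_pow, ← pow_mul, ← pow_mul, inv_pow, mul_inv_eq_one]
    conv_lhs => rw [← hm]
    rw [← pow_mul, ← pow_mul]
    congr 1
    ring
  let ρ : Cfsg.GU n K q →* GL (Fin n) K ⧸ Subgroup.center (GL (Fin n) K) :=
    (QuotientGroup.mk' (Subgroup.center (GL (Fin n) K))).comp (Cfsg.GU n K q).subtype
  have hker : Subgroup.center (Cfsg.GU n K q) = ρ.ker := by
    ext g
    rw [MonoidHom.mem_ker, MonoidHom.comp_apply, QuotientGroup.mk'_apply, QuotientGroup.eq_one_iff,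
      Subgroup.subtype_apply]
    constructor
    · intro hg
      obtain ⟨c, hc, -⟩ := Unitary.eq_smul_of_mem_center_GU hK hg
      rw [Subgroup.mem_center_iff]
      intro x
      refine Units.ext ?_
      rw [Units.val_mul, Units.val_mul, hc, Matrix.mul_smul, Matrix.smul_mul, mul_one, one_mul]
    · intro hg
      exact Subgroup.mem_center_iff.2 fun x => Subtype.ext (Subgroup.mem_center_iff.1 hg _)
  obtain ⟨φ, hφm, hφ⟩ :
      ∃ φ : Cfsg.GU n K q ⧸ Subgroup.center (Cfsg.GU n K q) →* GL (Fin n) K ⧸ Subgroup.center (GL (Fin n) K),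
        (∀ g : Cfsg.GU n K q, φ (QuotientGroup.mk g) = QuotientGroup.mk (g : GL (Fin n) K)) ∧
          Function.Injective φ := by
    refine ⟨QuotientGroup.lift _ ρ hker.le, fun g => ?_, ?_⟩
    · rw [QuotientGroup.lift_mk]
      rfl
    · rw [← MonoidHom.ker_eq_bot_iff, QuotientGroup.ker_lift, ← hker, QuotientGroup.map_mk'_self]
  have hscal : ∀ s : Kˣ, s ^ (q + 1) = 1 → (PGLOrderClasses.scal s : GL (Fin n) K) ∈ Cfsg.GU n K q := by
    intro s hs
    rw [Unitary.mem_GU_iff, PGLOrderClasses.coe_scal, Matrix.scalar_apply, ← Matrix.smul_one_eq_diagonal]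
    refine Unitary.preserves_smul_one ?_
    rw [← pow_succ', ← Units.val_pow_eq_pow_val, hs, Units.val_one]
  have hscal' : ∀ s : Kˣ, (PGLOrderClasses.scal s : GL (Fin n) K) ∈ Cfsg.GU n K q → s ^ (q + 1) = 1 := by
    intro s hs
    have h0 := Unitary.mem_GU_iff.1 hs (Pi.single 0 1) (Pi.single 0 1)
    rw [PGLOrderClasses.coe_scal, Matrix.scalar_apply, ← Matrix.smul_one_eq_diagonal, smul_mulVec, one_mulVec,
      Unitary.herm_self_smul, Unitary.herm_single_single hK, if_pos rfl, mul_one] at h0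
    refine Units.ext ?_
    rw [Units.val_pow_eq_pow_val, Units.val_one, pow_succ']
    exact h0
  have hco : ∀ (x : GL (Fin n) K) (c : Kˣ), c ^ (q + 1) = 1 → x ^ r = PGLOrderClasses.scal c →
      (orderOf x).Coprime p := fun x c hc hx => by
    refine Nat.Coprime.coprime_dvd_left (orderOf_dvd_of_pow_eq_one (n := r * (q + 1)) ?_)
      (Nat.Coprime.mul_left ((Nat.coprime_primes hr hp).2 hrp) (hp.coprime_iff_not_dvd.2 hp1).symm)
    rw [pow_mul, hx, ← PGLOrderClasses.scal_pow, hc, PGLOrderClasses.scal_one]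
  -- a normalised element of order `r` modulo scalars is similar to a unitary one
  have hsim : ∀ (A : GL (Fin n) K) (c : Kˣ), c ^ (q + 1) = 1 → A ^ r = PGLOrderClasses.scal c →
      ∃ g : Cfsg.GU n K q, IsConj A (g : GL (Fin n) K) := by
    intro A c hc hA
    set τ := iterateFrobenius K p e
    have hfrob : ∀ x : K, τ x = x ^ q := fun x => by rw [iterateFrobenius_def, he]
    have htwc : (Unitary.hstar q (A : Matrix (Fin n) (Fin n) K))⁻¹.charpoly =
        H68.RootClasses.tw τ (A : Matrix (Fin n) (Fin n) K).charpoly := by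
      rw [H68.OrthoClasses.charpoly_inv_eq _ (Unitary.hstar_isUnit hK A.isUnit), H68.RootClasses.tw]
      have h1 : (Unitary.hstar q (A : Matrix (Fin n) (Fin n) K)).charpoly =
          (A : Matrix (Fin n) (Fin n) K).charpoly.map τ := by
        rw [Unitary.hstar, Matrix.charpoly_transpose, ← Matrix.charpoly_map]
        congr 1
        ext a b
        simp [hfrob]
      rw [h1]
    have hbin : ∀ (k : ℕ) (d : Kˣ), 0 < k → d ^ (q + 1) = 1 →
        H68.RootClasses.tw τ (X ^ k - C (d : K)) = X ^ k - C (d : K) := by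
      intro k d hk hd
      have hdq : τ (d : K) * d = 1 := by
        rw [hfrob, ← pow_succ, ← Units.val_pow_eq_pow_val, hd, Units.val_one]
      have hdeg : (X ^ k - C (τ (d : K)) : K[X]).natDegree = k := natDegree_X_pow_sub_C
      have hrev : (X ^ k - C (τ (d : K)) : K[X]).reverse = 1 - C (τ (d : K)) * X ^ k := by
        rw [Polynomial.reverse, hdeg, reflect_sub, reflect_monomial, reflect_C, revAt_le le_rfl, Nat.sub_self,
          pow_zero]
      have hc0 : (X ^ k - C (τ (d : K)) : K[X]).coeff 0 = -τ (d : K) := by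
        simp [hk.ne]
      have hinv : (-τ (d : K))⁻¹ = -(d : K) := by
        rw [inv_neg, inv_eq_of_mul_eq_one_right hdq]
      rw [H68.RootClasses.tw, Polynomial.map_sub, Polynomial.map_pow, map_X, map_C, hrev, hc0, hinv, C_neg,
        mul_sub, mul_one, neg_mul, ← mul_assoc, ← C_mul, mul_comm (d : K), hdq, C_1, one_mul]
      ring
    have hfac : ∀ a ∈ normalizedFactors (A : Matrix (Fin n) (Fin n) K).charpoly,
        H68.RootClasses.tw τ a = a := by
      intro a ha
      have hai := irreducible_of_normalized_factor a ha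
      have ham := S2568.monic_of_mem_normalizedFactors ha
      set T : Module.End K (Fin n → K) := Matrix.toLinAlgEquiv' (A : Matrix (Fin n) (Fin n) K) with hT
      have hcp : T.charpoly = (A : Matrix (Fin n) (Fin n) K).charpoly := Matrix.charpoly_toLin' _
      obtain ⟨v, hv, hfv⟩ := H54.exists_ne_zero_aeval_eq_zero T hai (hcp ▸ dvd_of_mem_normalizedFactors ha)
      have hadvd : a ∣ X ^ r - C (c : K) := by
        by_contra hdvd
        obtain ⟨x, y, hxy⟩ := (hai.coprime_iff_not_dvd).2 hdvd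
        have h2 := congrArg (fun P => Polynomial.aeval T P v) hxy
        have hT0 : Polynomial.aeval T (X ^ r - C (c : K)) = 0 := PGLOrderClasses.aeval_X_pow_sub hA
        simp only [map_add, map_mul, map_one, LinearMap.add_apply, Module.End.mul_apply, hfv, map_zero,
          hT0, LinearMap.zero_apply, add_zero, Module.End.one_apply] at h2
        exact hv h2.symm
      by_cases hcs : ∃ s : Kˣ, c = s ^ r
      · obtain ⟨s, rfl⟩ := hcs
        obtain ⟨u, hu⟩ := PGLOrderClasses.exists_root_of_order (F := K) (r := r) hrK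
        have hprim : IsPrimitiveRoot (u : K) r := by
          rw [← hu, ← orderOf_units]; exact IsPrimitiveRoot.orderOf _
        have hs : s ^ (q + 1) = 1 := hkey s hc
        rw [X_pow_sub_C_eq_prod hprim hr.pos (α := (s : K)) (by rw [← Units.val_pow_eq_pow_val])] at hadvd
        obtain ⟨i, -, hi⟩ := (hai.prime.dvd_finsetProd_iff _).1 hadvd
        have heq : a = X - C (((u ^ i * s : Kˣ) : K)) := by
          rw [Units.val_mul, Units.val_pow_eq_pow_val]
          exact eq_of_monic_of_associated ham (monic_X_sub_C _)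
            (hai.associated_of_dvd (irreducible_X_sub_C _) hi)
        have hu1 : (u ^ i * s) ^ (q + 1) = 1 := by
          obtain ⟨d, hd⟩ := hrq
          rw [mul_pow, hs, mul_one, ← pow_mul, mul_comm, pow_mul, hd, pow_mul,
            show u ^ r = 1 from hu ▸ pow_orderOf_eq_one u, one_pow, one_pow]
        rw [heq, ← pow_one (X : K[X])]
        exact hbin 1 _ one_pos hu1
      · have hirr := PGLOrderClasses.irreducible_kummer (r := r) (c := c) (fun s h => hcs ⟨s, h⟩)
        rw [eq_of_monic_of_associated ham (monic_X_pow_sub_C _ hr.ne_zero) (hai.associated_of_dvd hirr hadvd)]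
        exact hbin r c hr.pos hc
    have htw : H68.RootClasses.tw τ (A : Matrix (Fin n) (Fin n) K).charpoly =
        (A : Matrix (Fin n) (Fin n) K).charpoly := by
      have hP0 : (A : Matrix (Fin n) (Fin n) K).charpoly ≠ 0 := (Matrix.charpoly_monic _).ne_zero
      have hprod : (normalizedFactors (A : Matrix (Fin n) (Fin n) K).charpoly).prod =
          (A : Matrix (Fin n) (Fin n) K).charpoly := by
        refine eq_of_monic_of_associated ?_ (Matrix.charpoly_monic _) (prod_normalizedFactors hP0)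
        simpa using monic_multiset_prod_of_monic (normalizedFactors (A : Matrix (Fin n) (Fin n) K).charpoly) id
          (fun a ha => S2568.monic_of_mem_normalizedFactors ha)
      rw [← hprod, H68.RootClasses.tw_prod, Multiset.map_congr rfl hfac, Multiset.map_id']
    have hu := Unitary.hstar_isUnit hK A.isUnit
    set B : GL (Fin n) K := hu.unit⁻¹ with hB
    have hBv : (B : Matrix (Fin n) (Fin n) K) = (Unitary.hstar q (A : Matrix (Fin n) (Fin n) K))⁻¹ := by
      rw [hB, Matrix.coe_units_inv, IsUnit.unit_spec]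
    have hpow : ∀ k : ℕ, Unitary.hstar q (A : Matrix (Fin n) (Fin n) K) ^ k =
        Unitary.hstar q ((A : Matrix (Fin n) (Fin n) K) ^ k) := by
      intro k
      induction k with
      | zero => rw [pow_zero, pow_zero, Unitary.hstar_one hK]
      | succ k ih => rw [pow_succ, ih, pow_succ' (A : Matrix (Fin n) (Fin n) K), Unitary.hstar_mul hK]
    have hBr : B ^ r = PGLOrderClasses.scal c := by
      rw [hB, inv_pow, inv_eq_iff_mul_eq_one]
      refine Units.ext ?_
      rw [Units.val_mul, Units.val_pow_eq_pow_val, IsUnit.unit_spec, hpow, ← Units.val_pow_eq_pow_val, hA,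
        PGLOrderClasses.coe_scal, Units.val_one, show Matrix.scalar (Fin n) (c : K) = algebraMap K (Matrix (Fin n) (Fin n) K) c from rfl,
        Unitary.hstar_algebraMap hK, ← map_mul, ← pow_succ, ← Units.val_pow_eq_pow_val, hc, Units.val_one,
        map_one]
    have hconjAB : IsConj A B := H54.isConj_GL p (hco A c hc hA) (hco B c hc hBr) (by
      rw [hBv, htwc, htw])
    exact (Unitary.exists_similar_GU_iff hK A).2 (hBv ▸ MonoidHom.map_isConj (Units.coeHom _) hconjAB)
  let Ψ : {C : ConjClasses (↥(Cfsg.GU n K q) ⧸ Subgroup.center ↥(Cfsg.GU n K q)) //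
      ∃ g : ↥(Cfsg.GU n K q) ⧸ Subgroup.center ↥(Cfsg.GU n K q), ConjClasses.mk g = C ∧ orderOf g = r} →
      {C : ConjClasses (GL (Fin n) K ⧸ Subgroup.center (GL (Fin n) K)) //
        ∃ g : GL (Fin n) K ⧸ Subgroup.center (GL (Fin n) K), ConjClasses.mk g = C ∧ orderOf g = r} :=
    fun C => ⟨ConjClasses.map φ C.1, by
      obtain ⟨g, hg, hgo⟩ := C.2
      exact ⟨φ g, (map_mk' φ g).symm.trans (congrArg (ConjClasses.map φ) hg), by rw [orderOf_injective φ hφ, hgo]⟩⟩
  have hΨ : Function.Bijective Ψ := by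
    constructor
    · rintro ⟨_, x, rfl, hx⟩ ⟨_, y, rfl, hy⟩ h
      obtain ⟨g, rfl⟩ := QuotientGroup.mk_surjective x
      obtain ⟨g', rfl⟩ := QuotientGroup.mk_surjective y
      have h' : PGLOrderClasses.cls (g : GL (Fin n) K) = PGLOrderClasses.cls (g' : GL (Fin n) K) := by
        have h2 := ((map_mk' φ _).symm.trans (congrArg Subtype.val h)).trans (map_mk' φ _)
        rw [hφm, hφm] at h2
        exact h2
      obtain ⟨c, s, hcs⟩ := PGLOrderClasses.cls_eq_iff.1 h'
      have hox := orderOf_injective φ hφ (g : _ ⧸ Subgroup.center ↥(Cfsg.GU n K q))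
      have hoy := orderOf_injective φ hφ (g' : _ ⧸ Subgroup.center ↥(Cfsg.GU n K q))
      rw [hx, hφm] at hox
      rw [hy, hφm] at hoy
      obtain ⟨⟨a, ha⟩, -⟩ := (PGLOrderClasses.orderOf_mk_iff hr (g := (g : GL (Fin n) K))).1 hox
      obtain ⟨⟨b, hb⟩, -⟩ := (PGLOrderClasses.orderOf_mk_iff hr (g := (g' : GL (Fin n) K))).1 hoy
      have ha' : a ^ (q + 1) = 1 := hscal' a (ha ▸ (Cfsg.GU n K q).pow_mem g.2 r)
      have hb' : b ^ (q + 1) = 1 := hscal' b (hb ▸ (Cfsg.GU n K q).pow_mem g'.2 r)
      have hpw := congrArg (· ^ r) hcs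
      simp only [conj_pow, (show Commute (g' : GL (Fin n) K) (PGLOrderClasses.scal s) from
        (PGLOrderClasses.scal_comm s _).symm).mul_pow, ha, hb] at hpw
      rw [← PGLOrderClasses.scal_comm a c, mul_inv_cancel_right, ← PGLOrderClasses.scal_pow,
        ← PGLOrderClasses.scal_mul] at hpw
      have hab := PGLOrderClasses.scal_inj (n := n) (by omega) hpw
      rw [hab, mul_pow, hb', one_mul] at ha'
      have hs := hkey s ha'
      obtain ⟨z, hzv⟩ : ∃ z : Cfsg.GU n K q, (z : GL (Fin n) K) = PGLOrderClasses.scal s :=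
        ⟨⟨_, hscal s hs⟩, rfl⟩
      have hz : z ∈ Subgroup.center (Cfsg.GU n K q) := by
        refine Subgroup.mem_center_iff.2 fun w => Subtype.ext ?_
        rw [Subgroup.coe_mul, Subgroup.coe_mul, hzv]
        exact (PGLOrderClasses.scal_comm s _).symm
      refine Subtype.ext ?_
      show ConjClasses.mk (g : _ ⧸ Subgroup.center ↥(Cfsg.GU n K q)) = ConjClasses.mk (g' : _ ⧸ _)
      rw [ConjClasses.mk_eq_mk_iff_isConj, ← QuotientGroup.mk_mul_of_mem g' hz]
      have h3 : IsConj (g : GL (Fin n) K) ((g' * z : Cfsg.GU n K q) : GL (Fin n) K) := by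
        rw [Subgroup.coe_mul, hzv]
        exact isConj_iff.2 ⟨c, hcs⟩
      have h4 := (Unitary.isConj_GU_iff hK g (g' * z)).2 h3
      exact (QuotientGroup.mk' (Subgroup.center ↥(Cfsg.GU n K q))).map_isConj h4
    · rintro ⟨_, x, rfl, hx⟩
      obtain ⟨A, rfl⟩ := QuotientGroup.mk_surjective x
      obtain ⟨⟨c, hc⟩, -⟩ := (PGLOrderClasses.orderOf_mk_iff hr).1 hx
      obtain ⟨s, hs⟩ := hdec c
      have hA : (A * PGLOrderClasses.scal s) ^ r = PGLOrderClasses.scal (c * s ^ r) := by
        rw [(show Commute A (PGLOrderClasses.scal s) from (PGLOrderClasses.scal_comm s _).symm).mul_pow, hc,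
          ← PGLOrderClasses.scal_pow, ← PGLOrderClasses.scal_mul]
      obtain ⟨g, hg⟩ := hsim _ _ hs hA
      have hcl : ConjClasses.mk (φ (QuotientGroup.mk g)) = ConjClasses.mk ((A : GL (Fin n) K ⧸ Subgroup.center (GL (Fin n) K))) := by
        rw [hφm, ConjClasses.mk_eq_mk_iff_isConj,
          ← QuotientGroup.mk_mul_of_mem A (PGLOrderClasses.mem_center.2 ⟨s, rfl⟩)]
        exact (QuotientGroup.mk' (Subgroup.center (GL (Fin n) K))).map_isConj hg.symm
      refine ⟨⟨ConjClasses.mk (g : _ ⧸ Subgroup.center ↥(Cfsg.GU n K q)), _, rfl, ?_⟩, Subtype.ext ((map_mk' φ _).trans hcl)⟩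
      rw [← orderOf_injective φ hφ, ← hx]
      obtain ⟨d, hd⟩ := isConj_iff.1 (ConjClasses.mk_eq_mk_iff_isConj.1 hcl)
      rw [← hd]
      exact (orderOf_injective (MulAut.conj d).toMonoidHom (MulAut.conj d).injective _).symm
  rw [Nat.card_congr (Equiv.ofBijective Ψ hΨ)]
  exact PGLOrderClasses.card_classes (by omega) hrK

end Cfsg.Agent.S2672
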