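import Cfsg.Statements.S2673
import Cfsg.Agent.H68.OrthoClasses
import Cfsg.Agent.H57.Discriminant
-- import your own Cfsg.Agent.* helpers here

set_option autoImplicit false
set_option linter.style.haveILetI false
open Cfsg

namespace Cfsg.Agent.S2673

open Polynomial Matrix

/-- Number of conjugacy classes of elements of odd prime order r ≠ p in the orthogonal group O_(2m+1)(q) of x_0² + Σ x_j y_j, q odd: with i the multiplicative order of q mod r and t = (r − 1)/i, there are C(⌊m/i⌋ + t/2, t/2) − 1 classes if i is odd (dual pairs of totally singular i-blocks) and C(⌊(2m+1)/i⌋ + t, t) − 1 if i is even (elliptic i-blocks). -/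
theorem result {F : Type*} [Field F] [Fintype F] {p q : ℕ} [Fact p.Prime] [CharP F p] (hF : Fintype.card F = q) (hq : Odd q) (m r i t : ℕ) (hr : r.Prime) (hr2 : r ≠ 2) (hrp : r ≠ p) (hi : i = orderOf (q : ZMod r)) (ht : t * i = r - 1) : Nat.card {C : ConjClasses ↥(Cfsg.isometryGroup F (Cfsg.quadFormOdd m F)) // ∃ g : ↥(Cfsg.isometryGroup F (Cfsg.quadFormOdd m F)), ConjClasses.mk g = C ∧ orderOf g = r} = if Odd i then Nat.choose (m / i + t / 2) (t / 2) - 1 else Nat.choose ((2 * m + 1) / i + t) t - 1 := by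
  classical
  haveI : Fact r.Prime := ⟨hr⟩
  have hp := Fact.out (p := p.Prime)
  have h2 : (2 : F) ≠ 0 := H57.card_odd_two_ne_zero (hF.symm ▸ hq)
  have hrc : r.Coprime p := (Nat.coprime_primes hr hp).2 hrp
  have hco : ∀ {H : Type _} [Monoid H] (x : H), x ^ r = 1 → (orderOf x).Coprime p := fun x hx =>
    Nat.Coprime.coprime_dvd_left (orderOf_dvd_of_pow_eq_one hx) hrc
  have hrF : (r : F) ≠ 0 := by
    rw [Ne, CharP.cast_eq_zero_iff F p]
    exact fun h => hrp ((Nat.prime_dvd_prime_iff_eq hp hr).1 h).symm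
  have hodd : Odd r := hr.odd_of_ne_two hr2
  have hQ := Orthogonal.formOdd_nondeg F m h2
  let e : Unit ⊕ (Fin m ⊕ Fin m) ≃ Fin (2 * m + 1) := Fintype.equivFinOfCardEq (by simp; omega)
  let toFin : GL (Unit ⊕ (Fin m ⊕ Fin m)) F →* GL (Fin (2 * m + 1)) F :=
    Units.map (Matrix.reindexAlgEquiv F F e).toMonoidHom
  have htoFin : Function.Injective toFin := fun a b h =>
    Units.ext ((Matrix.reindexAlgEquiv F F e).injective (Units.ext_iff.1 h))
  have hcp : ∀ A : GL (Unit ⊕ (Fin m ⊕ Fin m)) F, (toFin A : Matrix (Fin (2 * m + 1)) (Fin (2 * m + 1)) F).charpoly =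
      (A : Matrix (Unit ⊕ (Fin m ⊕ Fin m)) (Unit ⊕ (Fin m ⊕ Fin m)) F).charpoly := fun A =>
    Matrix.charpoly_reindex _ _
  let G := Cfsg.isometryGroup F (⇑(Orthogonal.formOdd F m))
  let ψ : G →* GL (Fin (2 * m + 1)) F := toFin.comp G.subtype
  have hψ : ∀ g : G, (ψ g : Matrix (Fin (2 * m + 1)) (Fin (2 * m + 1)) F).charpoly =
      ((g : GL (Unit ⊕ (Fin m ⊕ Fin m)) F) : Matrix (Unit ⊕ (Fin m ⊕ Fin m)) (Unit ⊕ (Fin m ⊕ Fin m)) F).charpoly :=
    fun g => hcp _
  have hreal : ∀ A : GL (Fin (2 * m + 1)) F, A ^ r = 1 →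
      H68.RootClasses.tw (RingHom.id F) (A : Matrix (Fin (2 * m + 1)) (Fin (2 * m + 1)) F).charpoly =
        (A : Matrix (Fin (2 * m + 1)) (Fin (2 * m + 1)) F).charpoly →
      ∃ g : G, g ^ r = 1 ∧ (ψ g : Matrix (Fin (2 * m + 1)) (Fin (2 * m + 1)) F).charpoly =
          (A : Matrix (Fin (2 * m + 1)) (Fin (2 * m + 1)) F).charpoly := by
    intro A hA htw
    set f := (A : Matrix (Fin (2 * m + 1)) (Fin (2 * m + 1)) F).charpoly with hf
    have hfm : f.Monic := Matrix.charpoly_monic _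
    have hfd : f.natDegree = 2 * m + 1 := by rw [hf, Matrix.charpoly_natDegree_eq_dim, Fintype.card_fin]
    have hdet : f.coeff 0 = -(A : Matrix (Fin (2 * m + 1)) (Fin (2 * m + 1)) F).det := by
      rw [Matrix.det_eq_sign_charpoly_coeff, ← hf, Fintype.card_fin, pow_succ, pow_mul, neg_one_sq,
        one_pow, one_mul, neg_one_mul, neg_neg]
    have hdr : (A : Matrix (Fin (2 * m + 1)) (Fin (2 * m + 1)) F).det ^ r = 1 := by
      rw [← Matrix.det_pow, ← Units.val_pow_eq_pow_val, hA, Units.val_one, Matrix.det_one]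
    have hd0 : f.coeff 0 ≠ 0 := by
      rw [hdet, neg_ne_zero]
      intro h
      rw [h, zero_pow hr.ne_zero] at hdr
      exact zero_ne_one hdr
    have hd1 : (A : Matrix (Fin (2 * m + 1)) (Fin (2 * m + 1)) F).det = 1 := by
      have h := congrArg (fun P : F[X] => P.coeff 0) htw
      simp only [H68.RootClasses.tw, Polynomial.map_id, coeff_C_mul, coeff_zero_reverse, hfm.leadingCoeff,
        mul_one] at h
      have hsq : (A : Matrix (Fin (2 * m + 1)) (Fin (2 * m + 1)) F).det ^ 2 = 1 := by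
        rw [← neg_sq, ← hdet, sq]
        nth_rewrite 2 [← h]
        exact mul_inv_cancel₀ hd0
      have h' := pow_gcd_eq_one.2 ⟨hsq, hdr⟩
      rwa [Nat.Coprime.gcd_eq_one ((Nat.coprime_primes Nat.prime_two hr).2 hr2.symm), pow_one] at h'
    rw [hd1] at hdet
    have hroot : f.IsRoot 1 := by
      have h := congrArg (eval 1) htw
      rw [H68.RootClasses.tw, Polynomial.map_id, hdet, eval_mul, eval_C, inv_neg, inv_one] at h
      have hrev : f.reverse.eval 1 = f.eval 1 := by
        letI : Invertible (1 : F) := invertibleOne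
        have := eval₂_reverse_mul_pow (RingHom.id F) (1 : F) f
        simpa [eval₂_id] using this
      rw [hrev, neg_one_mul] at h
      have h3 : (2 : F) * f.eval 1 = 0 := by linear_combination -h
      exact (mul_eq_zero.1 h3).resolve_left h2
    obtain ⟨k, hk⟩ := dvd_iff_isRoot.2 hroot
    have hkm : k.Monic := Monic.of_mul_monic_left (monic_X_sub_C 1) (hk ▸ hfm)
    have hkd : k.natDegree = 2 * m := by
      have h := congrArg natDegree hk
      rw [Monic.natDegree_mul (monic_X_sub_C 1) hkm, hfd, natDegree_X_sub_C] at h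
      omega
    have hk0 : k.coeff 0 = 1 := by
      have h := congrArg (fun P : F[X] => P.coeff 0) hk
      simp [hdet, mul_coeff_zero] at h
      exact h.symm
    have hktw : H68.RootClasses.tw (RingHom.id F) k = k := by
      rw [hk, H68.RootClasses.tw_mul, C_1, H68.RootClasses.tw_X_sub_one] at htw
      exact mul_left_cancel₀ (C_1 (R := F) ▸ X_sub_C_ne_zero (1 : F)) htw
    obtain ⟨g₀, hg₀, hg₀c⟩ := H68.OrthoClasses.exists_symp p m hkm hkd hk0 hktw
    let φ : Matrix.symplecticGroup (Fin m) F →* GL (Unit ⊕ (Fin m ⊕ Fin m)) F := MonoidHom.toHomUnits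
      { toFun := fun x => Matrix.fromBlocks 1 0 0 (x : Matrix (Fin m ⊕ Fin m) (Fin m ⊕ Fin m) F)
        map_one' := by simp
        map_mul' := fun x y => by simp [Matrix.fromBlocks_multiply] }
    have hφ : ∀ x : Matrix.symplecticGroup (Fin m) F,
        (φ x : Matrix (Unit ⊕ (Fin m ⊕ Fin m)) (Unit ⊕ (Fin m ⊕ Fin m)) F) =
          Matrix.fromBlocks 1 0 0 (x : Matrix (Fin m ⊕ Fin m) (Fin m ⊕ Fin m) F) := fun x => rfl
    have hφc : (φ g₀ : Matrix (Unit ⊕ (Fin m ⊕ Fin m)) (Unit ⊕ (Fin m ⊕ Fin m)) F).charpoly = f := by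
      rw [hφ, Matrix.charpoly_fromBlocks_zero₁₂, Matrix.charpoly_one, hg₀c, Fintype.card_unit, pow_one, hk, C_1]
    have hφr : φ g₀ ^ r = 1 := by
      have hco2 : (orderOf (toFin (φ g₀))).Coprime p :=
        Nat.Coprime.coprime_dvd_left ((orderOf_map_dvd _ _).trans (orderOf_map_dvd _ g₀)) hg₀
      obtain ⟨c, hc⟩ := isConj_iff.1 (H54.isConj_GL p (hco A hA) hco2 (by rw [hcp, hφc]))
      refine htoFin ?_
      rw [map_pow, map_one, ← hc, conj_pow, hA, mul_one, mul_inv_cancel]
    set T := Matrix.toLin' (φ g₀ : Matrix (Unit ⊕ (Fin m ⊕ Fin m)) (Unit ⊕ (Fin m ⊕ Fin m)) F) with hT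
    have hTr : T ^ r = 1 := by
      rw [hT, ← Matrix.toLin'_pow, ← Units.val_pow_eq_pow_val, hφr, Units.val_one, Matrix.toLin'_one]
      rfl
    let π : (Unit ⊕ (Fin m ⊕ Fin m) → F) →ₗ[F] (Fin m ⊕ Fin m → F) := LinearMap.funLeft F F Sum.inr
    let B : LinearMap.BilinForm F (Unit ⊕ (Fin m ⊕ Fin m) → F) :=
      (Matrix.toLinearMap₂' F (Matrix.J (Fin m) F)).compl₁₂ π π
    have hB : ∀ x y, B x y = π x ⬝ᵥ Matrix.J (Fin m) F *ᵥ π y := fun x y => by
      rw [LinearMap.compl₁₂_apply]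
      exact Matrix.toLinearMap₂'_apply' _ _ _
    have hπ : ∀ x, π (T x) = (g₀ : Matrix (Fin m ⊕ Fin m) (Fin m ⊕ Fin m) F) *ᵥ π x := fun x => by
      funext i
      simp [π, hT, hφ, Matrix.fromBlocks_mulVec, Function.comp_def, LinearMap.funLeft]
    obtain ⟨Q, hQn, hQi⟩ := H68.OrthoClasses.exists_invariant_form h2 hodd hrF T hTr B
      (fun x => by
        rw [hB]
        simp [Matrix.J, dotProduct, Matrix.mulVec, Fintype.sum_sum_type, Matrix.one_apply, mul_comm])
      (fun x y => by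
        rw [hB, hB, hπ, hπ]
        have hadj : ∀ (M : Matrix (Fin m ⊕ Fin m) (Fin m ⊕ Fin m) F) u v, (M *ᵥ u) ⬝ᵥ v = u ⬝ᵥ Mᵀ *ᵥ v :=
          fun M u v => by rw [Matrix.dotProduct_mulVec, Matrix.vecMul_transpose]
        rw [hadj, Matrix.mulVec_mulVec, Matrix.mulVec_mulVec, SymplecticGroup.mem_iff'.1 g₀.2])
      (fun x hx => by
        have h1 : π x ᵥ* Matrix.J (Fin m) F = 0 := dotProduct_eq_zero _ fun w => by
          have := hx (Sum.elim 0 w)
          rw [hB, Matrix.dotProduct_mulVec] at this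
          simpa [π, LinearMap.funLeft, Function.comp_def] using this
        have h2 : π x = 0 := by
          have := congrArg (fun v => v ᵥ* Matrix.J (Fin m) F) h1
          simpa [Matrix.vecMul_vecMul, Matrix.J_squared, Matrix.vecMul_neg, Matrix.vecMul_one] using this
        funext k
        rcases k with u | i
        · simp [hT, hφ, Matrix.fromBlocks_mulVec]
        · have h3 := congrFun (hπ x) i
          rw [h2, Matrix.mulVec_zero] at h3
          have h4 := congrFun h2 i
          simp only [π, LinearMap.funLeft_apply, Pi.zero_apply] at h3 h4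
          rw [h3, h4])
    obtain ⟨-, α, E, hα, hE⟩ := hQn.classify_odd (Orthogonal.finrank_formOdd F m)
    set c := Orthogonal.glEquiv.symm E with hcdef
    have hcE : Orthogonal.glEquiv c = E := MulEquiv.apply_symm_apply _ _
    set a := c⁻¹ * φ g₀ * c with hadef
    have ha : a ∈ G := by
      refine (Orthogonal.mem_isometryGroup_iff _ _).2 fun v => ?_
      have h3 : E ((a : Matrix (Unit ⊕ (Fin m ⊕ Fin m)) (Unit ⊕ (Fin m ⊕ Fin m)) F) *ᵥ v) = T (E v) := by
        rw [hT, Matrix.toLin'_apply, ← hcE, Orthogonal.glEquiv_apply, Orthogonal.glEquiv_apply,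
          Matrix.mulVec_mulVec, Matrix.mulVec_mulVec, ← Units.val_mul, ← Units.val_mul, hadef]
        simp [mul_assoc]
      have h4 := congrArg Q h3
      rw [hQi, hE, hE] at h4
      exact mul_left_cancel₀ hα h4
    refine ⟨⟨a, ha⟩, Subtype.ext ?_, ?_⟩
    · rw [Subgroup.coe_pow, Subgroup.coe_one]
      show (c⁻¹ * φ g₀ * c) ^ r = 1
      have := conj_pow (a := c⁻¹) (b := φ g₀) (i := r)
      rw [inv_inv] at this
      rw [this, hφr, mul_one, inv_mul_cancel]
    · rw [hψ]
      show (a : Matrix (Unit ⊕ (Fin m ⊕ Fin m)) (Unit ⊕ (Fin m ⊕ Fin m)) F).charpoly = f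
      rw [hadef, Units.val_mul, Units.val_mul, Matrix.coe_units_inv, Matrix.charpoly_units_conj' c, hφc]
  have hmain := H68.RootClasses.card_classes p 0 hF hr hrp hi ht (RingHom.id F) (fun x => by simp)
    (fun x => rfl) ψ (fun g h hg hh hgh => H68.OrthoClasses.isConj_of_charpoly _ hQ hodd hrF g h hg hh
      (by rwa [hψ, hψ] at hgh))
    (fun g _ => by rw [hψ]; exact H68.OrthoClasses.tw_charpoly _ hQ g) hreal
  refine hmain.trans ?_
  rw [pow_zero]
  have hcast : ∀ j, r ∣ q ^ j + 1 ↔ (q : ZMod r) ^ j = -1 := fun j => by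
    rw [← ZMod.natCast_eq_zero_iff, Nat.cast_add, Nat.cast_pow, Nat.cast_one, add_eq_zero_iff_eq_neg]
  have hne : (-1 : ZMod r) ≠ 1 := by
    haveI : Fact (2 < r) := ⟨lt_of_le_of_ne hr.two_le hr2.symm⟩
    exact ZMod.neg_one_ne_one
  rcases Nat.even_or_odd i with hie | hio
  · have hex : ∃ j, r ∣ q ^ j + 1 := by
      obtain ⟨j, hj⟩ := hie
      have hj0 : 0 < j := by
        have hi0 : i ≠ 0 := by
          rintro rfl
          rw [mul_zero] at ht
          have := hr.two_le
          omega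
        omega
      refine ⟨j, (hcast j).2 ?_⟩
      have h1 : ((q : ZMod r) ^ j) ^ 2 = 1 := by
        rw [← pow_mul, show j * 2 = i by omega, hi, pow_orderOf_eq_one]
      rcases sq_eq_one_iff.1 h1 with h | h
      · exact absurd (Nat.le_of_dvd hj0 (hi ▸ orderOf_dvd_of_pow_eq_one h)) (by omega)
      · exact h
    rw [if_pos hex, if_neg (Nat.not_odd_iff_even.2 hie)]
  · have hnex : ¬ ∃ j, r ∣ q ^ j + 1 := by
      rintro ⟨j, hj⟩
      rw [hcast] at hj
      have h1 : i ∣ j * 2 := hi ▸ orderOf_dvd_of_pow_eq_one (by rw [pow_mul, hj, neg_one_sq])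
      have h3 : i ∣ j := ((Nat.coprime_two_right.2 hio).dvd_mul_right).1 h1
      obtain ⟨k, hk⟩ := h3
      rw [hk, pow_mul, hi, pow_orderOf_eq_one, one_pow] at hj
      exact hne hj.symm
    rw [if_neg hnex, if_pos hio, ← Nat.div_div_eq_div_mul, show (2 * m + 1) / 2 = m by omega]

end Cfsg.Agent.S2673
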