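import Cfsg.Statements.S2675
import Cfsg.Agent.H68.EvenOrtho
-- import your own Cfsg.Agent.* helpers here

set_option autoImplicit false
set_option linter.style.haveILetI false
open Cfsg

namespace Cfsg.Agent.S2675

/-- Number of conjugacy classes of elements of odd prime order r ≠ p in the orthogonal group O⁻_2m(q) of an elliptic form Σ_(j<m−1) x_j y_j + z₁² + a z₁z₂ + c z₂² (binary part anisotropic, m ≥ 1): with i the multiplicative order of q mod r and t = (r − 1)/i — if i is odd, C(⌊m/i⌋ + t/2, t/2) − 1 minus, when i divides m, the C(m/i + t/2 − 1, t/2 − 1) tuples filling the whole space (dual pairs of totally singular blocks fill a hyperbolic space); if i is even, C(⌊2m/i⌋ + t, t) − 1 minus, when i divides 2m with even quotient, the C(2m/i + t − 1, t − 1) tuples filling the whole space with an even number of elliptic blocks. -/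
theorem result {F : Type*} [Field F] [Fintype F] {p q : ℕ} [Fact p.Prime] [CharP F p] (hF : Fintype.card F = q) (m r i t : ℕ) (hm : 1 ≤ m) (a c : F) (hac : ∀ z₁ z₂ : F, z₁ ^ 2 + a * z₁ * z₂ + c * z₂ ^ 2 = 0 → z₁ = 0 ∧ z₂ = 0) (hr : r.Prime) (hr2 : r ≠ 2) (hrp : r ≠ p) (hi : i = orderOf (q : ZMod r)) (ht : t * i = r - 1) : Nat.card {C : ConjClasses ↥(Cfsg.isometryGroup F (Cfsg.quadFormMinus (m - 1) F a c)) // ∃ g : ↥(Cfsg.isometryGroup F (Cfsg.quadFormMinus (m - 1) F a c)), ConjClasses.mk g = C ∧ orderOf g = r} = if Odd i then Nat.choose (m / i + t / 2) (t / 2) - 1 - (if i ∣ m then Nat.choose (m / i + t / 2 - 1) (t / 2 - 1) else 0) else Nat.choose (2 * m / i + t) t - 1 - (if i ∣ 2 * m ∧ Even (2 * m / i) then Nat.choose (2 * m / i + t - 1) (t - 1) else 0) := by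
  classical
  haveI : Fact r.Prime := ⟨hr⟩
  obtain ⟨k, rfl⟩ : ∃ k, m = k + 1 := ⟨m - 1, by omega⟩
  have hi0 : 0 < i := by
    rcases Nat.eq_zero_or_pos i with rfl | h
    · rw [mul_zero] at ht
      have := hr.two_le
      omega
    · exact h
  have ht0 : 0 < t := by
    rcases Nat.eq_zero_or_pos t with rfl | h
    · rw [zero_mul] at ht
      have := hr.two_le
      omega
    · exact h
  have hne : (-1 : ZMod r) ≠ 1 := by
    haveI : Fact (2 < r) := ⟨lt_of_le_of_ne hr.two_le hr2.symm⟩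
    exact ZMod.neg_one_ne_one
  have hqi : (q : ZMod r) ^ i = 1 := by rw [hi, pow_orderOf_eq_one]
  have hodd_t : Odd i → 0 < t / 2 := by
    intro hio
    rcases Nat.even_or_odd t with ⟨c, hc⟩ | ho
    · omega
    · exfalso
      obtain ⟨c, hc⟩ := hr.odd_of_ne_two hr2
      obtain ⟨d, hd⟩ := ho.mul hio
      omega
  have hhalf : Even i → ∀ s, 2 * (k + 1) = i * s → (q : ZMod r) ^ (k + 1) = (-1) ^ s := by
    rintro ⟨j, rfl⟩ s hs
    have hks : k + 1 = j * s := by
      have : (j + j) * s = 2 * (j * s) := by ring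
      omega
    have h1 : (q : ZMod r) ^ j = -1 := by
      have h2 : ((q : ZMod r) ^ j) ^ 2 = 1 := by rw [← pow_mul, mul_two, hqi]
      refine (sq_eq_one_iff.1 h2).resolve_left fun h => ?_
      have := Nat.le_of_dvd (show 0 < j by omega) (hi ▸ orderOf_dvd_of_pow_eq_one h)
      omega
    rw [hks, pow_mul, h1]
  have hdvd : i ∣ (k + 1) → (q : ZMod r) ^ (k + 1) = 1 := by
    rintro ⟨c, hc⟩
    rw [hc, pow_mul, hqi, one_pow]
  have hmain := H68.EvenOrtho.card_classes_even hF (Orthogonal.formMinus F (k + 1 - 1) a c)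
    (Orthogonal.formMinus_nondeg (k + 1 - 1) hac) (k := k) (by simp; omega) (Or.inr rfl)
    (H68.EvenOrtho.sign_formMinus k hac) hr hr2 hrp hi ht
  refine hmain.trans ?_
  rw [Int.cast_neg, Int.cast_one]
  rcases Nat.even_or_odd i with hie | hio
  · rw [if_neg (Nat.not_odd_iff_even.2 hie), if_neg (Nat.not_odd_iff_even.2 hie)]
    by_cases hone : (q : ZMod r) ^ (k + 1) = -1
    · rw [if_pos hone, if_neg, Nat.sub_zero]
      rintro ⟨hd, he⟩
      rw [hhalf hie _ (Nat.mul_div_cancel' hd).symm, he.neg_one_pow] at hone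
      exact hne hone.symm
    · rw [if_neg hone, H68.EvenOrtho.choose_pred hi0 (by omega) ht0]
      congr 1
      refine if_congr ⟨fun hd => ⟨hd, Nat.not_odd_iff_even.1 fun ho => hone ?_⟩, And.left⟩ rfl rfl
      rw [hhalf hie _ (Nat.mul_div_cancel' hd).symm, ho.neg_one_pow]
  · rw [if_pos hio, if_pos hio]
    have hiff : 2 * i ∣ 2 * (k + 1) ↔ i ∣ k + 1 := Nat.mul_dvd_mul_iff_left two_pos
    have hone : (q : ZMod r) ^ (k + 1) ≠ -1 := by
      intro h
      have h1 : i ∣ (k + 1) * 2 := hi ▸ orderOf_dvd_of_pow_eq_one (by rw [pow_mul, h, neg_one_sq])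
      rw [hdvd (((Nat.coprime_two_right.2 hio).dvd_mul_right).1 h1)] at h
      exact hne h.symm
    rw [if_neg hone, H68.EvenOrtho.choose_pred (by omega) (by omega) (hodd_t hio),
      Nat.mul_div_mul_left _ _ two_pos]
    simp only [hiff]

end Cfsg.Agent.S2675
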