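import Cfsg.Statements.S2678
import Cfsg.Agent.H57.FieldEmbed

set_option autoImplicit false
open Cfsg

namespace Cfsg.Agent.S2678

/-- Field-extension embedding of symplectic groups: for a field K with q² elements and a field F with q elements there is an injective homomorphism Sp_2a(K) → Sp_4a(F). -/
theorem result {K F : Type*} [Field K] [Fintype K] [Field F] [Fintype F] {q : ℕ} (hK : Fintype.card K = q ^ 2) (hF : Fintype.card F = q) (a : ℕ) : ∃ φ : ↥(Matrix.symplecticGroup (Fin a) K) →* ↥(Matrix.symplecticGroup (Fin (2 * a)) F), Function.Injective φ := by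
  classical
  obtain ⟨ι, -⟩ := H57.exists_incl hK hF
  obtain ⟨T, L, hL, hLq⟩ := H57.exists_coords_symp ι hK hF a
  obtain ⟨φ, hφ, happ⟩ := H57.exists_semilinear_hom ι L hL
  let u : ↥(Matrix.symplecticGroup (Fin a) K) →* GL (Fin a ⊕ Fin a) K :=
    ((Units.map (Matrix.symplecticGroup (Fin a) K).subtype).comp
      (toUnits (G := ↥(Matrix.symplecticGroup (Fin a) K))).toMonoidHom)
  have hu : Function.Injective u := fun x y h => Subtype.ext (congrArg Units.val h)
  refine ⟨((Units.coeHom _).comp (φ.comp u)).codRestrict _ (fun g => ?_), fun x y h => ?_⟩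
  · rw [Symplectic.mem_symplectic_iff_form]
    intro x y
    obtain ⟨x, rfl⟩ := L.surjective x
    obtain ⟨y, rfl⟩ := L.surjective y
    show Cfsg.sympForm (2 * a) F ((φ (u g) : Matrix _ _ F).mulVec (L x))
      ((φ (u g) : Matrix _ _ F).mulVec (L y)) = _
    rw [happ, happ, hLq, hLq]
    congr 1
    exact (Symplectic.mem_symplectic_iff_form _).1 g.2 x y
  · exact hu (hφ (Units.ext (congrArg Subtype.val h)))

end Cfsg.Agent.S2678
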