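import Cfsg.Statements.S2686
import Cfsg.Agent.H58.PSLFieldBalance
import Cfsg.Agent.H58.PSLGraphBalance

set_option autoImplicit false
open Cfsg

namespace Cfsg.Agent.S2686

/-- A criterion for the failure of local balance in almost simple groups with linear socle. Let F be a finite field of characteristic r and K = PSL_n(F) (n ≥ 2) simple. Let A be a group of automorphisms of K containing all inner automorphisms (an almost simple group with socle K), and β ∈ A an automorphism of prime order p ≠ r that is not inner-diagonal (not induced by conjugation by an invertible matrix). Then the largest normal subgroup of C_A(β) of order prime to p is nontrivial if and only if β is the composite of an inner-diagonal automorphism with the automorphism induced by a field automorphism applied entrywise (β is of field type) and p does not divide the number of fixed points of β on K. -/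
theorem result
    (F : Type*) [Field F] [Fintype F] (r : ℕ) [Fact r.Prime] [CharP F r] (n : ℕ) (hn : 2 ≤ n)
    (hK : IsSimpleGroup (Matrix.ProjectiveSpecialLinearGroup (Fin n) F))
    (𝒢 : Subgroup (MulAut (Matrix.ProjectiveSpecialLinearGroup (Fin n) F))) (hinn : ∀ k : Matrix.ProjectiveSpecialLinearGroup (Fin n) F, MulAut.conj k ∈ 𝒢)
    (p : ℕ) [Fact p.Prime] (hpr : p ≠ r) (β : MulAut (Matrix.ProjectiveSpecialLinearGroup (Fin n) F)) (hβ : β ∈ 𝒢) (hord : orderOf β = p)
    (hnot : ¬ Cfsg.IsInnerDiagonalAutPSL β) :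
    Cfsg.pPrimeCore p ↥(𝒢 ⊓ Subgroup.centralizer {β}) ≠ ⊥ ↔
      ((∃ γ φ : MulAut (Matrix.ProjectiveSpecialLinearGroup (Fin n) F), Cfsg.IsInnerDiagonalAutPSL γ ∧ Cfsg.IsFieldAutPSL φ ∧ β = φ.trans γ) ∧
        Nat.Coprime p (Nat.card ↥(MonoidHom.eqLocus β.toMonoidHom (MonoidHom.id (Matrix.ProjectiveSpecialLinearGroup (Fin n) F))))) := by
  open Cfsg.Agent.H56 Cfsg.Agent.H58.PSLAut Cfsg.Agent.H58.PSLTwist Cfsg.Agent.H58.LocalBalance in
  · have hn' : 2 ≤ n := hn
    have hp := (Fact.out : p.Prime)
    have hle : Cfsg.Inn (Matrix.ProjectiveSpecialLinearGroup (Fin n) F) ≤ 𝒢 := by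
      rintro _ ⟨k, rfl⟩
      exact hinn k
    have hinj : Function.Injective (MulAut.conj : PSLn n F →* MulAut (PSLn n F)) := by
      rw [injective_iff_map_eq_one]
      intro k hk
      obtain ⟨s, rfl⟩ := toP_surjective k
      rw [conjAut_eq_glAut, glAut_eq_one_iff hn'] at hk
      obtain ⟨c, hc⟩ := hk
      exact (H58.PSLFieldBalance.toP_eq_one_iff s).2 ⟨c, (congrArg Units.val hc).trans (Matrix.GeneralLinearGroup.coe_scalar c)⟩
    obtain ⟨g, σ, rfl | ⟨h3, rfl⟩⟩ := exists_decomp hn' β
    · have hσne : σ ≠ 1 := fun h => hnot (isInnerDiag_iff.2 ⟨g, by rw [h]; rfl⟩)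
      have hpow : semiAut g σ ^ p = 1 := by rw [← hord]; exact pow_orderOf_eq_one _
      have hσp : orderOf σ = p := by
        refine orderOf_eq_prime ?_ hσne
        rw [semiAut_split, H58.Twist.mul_pow_eq glAut (glMap σ) _ (field_conj σ), field_pow, ← semiAut_split] at hpow
        exact (eq_of_semiAut_eq_one hn' hpow).1
      obtain ⟨B, hB⟩ := field_coset hn' σ g (by rw [hσp, ← semiAut_split]; exact hpow)
      rw [← semiAut_split] at hB
      let : Fintype (FixedPoints.subfield (Subgroup.zpowers σ) F) := Fintype.ofFinite _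
      let e : FixedPoints.subfield (Subgroup.zpowers σ) F →+* F := (FixedPoints.subfield (Subgroup.zpowers σ) F).subtype
      have he : ∀ x, σ (e x) = e x := fun x => (H58.Descent.mem_fixedField σ).1 x.2
      have he' : ∀ a, σ a = a → ∃ x, e x = a := fun a ha => ⟨⟨a, (H58.Descent.mem_fixedField σ).2 ha⟩, rfl⟩
      have hr : ¬ p ∣ Fintype.card (FixedPoints.subfield (Subgroup.zpowers σ) F) := fun hd => by
        obtain ⟨f, hf, hcard⟩ := FiniteField.card F r
        have h1 : p ∣ Fintype.card F := by
          rw [H58.Descent.card_eq_pow σ]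
          rw [← Nat.card_eq_fintype_card] at hd
          exact hσp ▸ dvd_pow hd hp.ne_zero
        rw [hcard] at h1
        exact hpr ((Nat.prime_dvd_prime_iff_eq hp (Fact.out : r.Prime)).1 (hp.dvd_of_dvd_pow h1))
      have hne : Cfsg.Inn (PSLn n F) ⊓ Subgroup.centralizer {semiAut g σ} ≠ ⊥ := by
        rw [hB, centralizer_conj]
        exact fun h => H58.PSLFieldBalance.inf_ne_bot e he hn' ((Subgroup.map_eq_bot_iff_of_injective _
          (MulEquiv.injective _)).1 h)
      rw [core_ne_bot_iff 𝒢 hle hord hne ?_ ?_, ← card_inn_inf_centralizer hinj (semiAut g σ)]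
      · exact ⟨fun h => ⟨⟨glAut g, semiAut 1 σ, isInnerDiag_iff.2 ⟨g, rfl⟩, ⟨σ, isStdField_iff.2 rfl⟩,
          semiAut_split g σ⟩, h⟩, fun h => h.2⟩
      · intro hd
        rw [hB] at hd ⊢
        refine noPrimeSub_conj _ (H58.PSLFieldBalance.noPrimeSub e he he' hn' hr ?_)
        rwa [centralizer_conj, Subgroup.card_map_of_injective (MulEquiv.injective _)] at hd
      · rw [hB]
        exact selfCent_conj _ (H58.PSLFieldBalance.selfCent e he he' hn')
    · have hsq : (semiAut g σ * invTAut) ^ 2 = semiAut (g * glMap σ (contra g)) (σ.trans σ) := by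
        rw [pow_two, mul_assoc, ← mul_assoc invTAut, invTAut_mul_semiAut, mul_assoc (semiAut (contra g) σ),
          invTAut_mul_self, mul_one, semiAut_mul]
      have hp2 : p = 2 := by
        by_contra h2
        obtain ⟨k, hk⟩ := hp.odd_of_ne_two h2
        have hpow : (semiAut g σ * invTAut) ^ p = 1 := by rw [← hord]; exact pow_orderOf_eq_one _
        obtain ⟨A, τ, hA⟩ : ∃ A τ, ((semiAut g σ * invTAut) ^ 2) ^ k = semiAut A τ := by
          rw [hsq]
          generalize g * glMap σ (contra g) = A
          generalize σ.trans σ = τ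
          clear hk
          induction k with
          | zero => exact ⟨1, RingEquiv.refl F, semiAut_one.symm⟩
          | succ k ih =>
            obtain ⟨B, υ, hB⟩ := ih
            exact ⟨_, _, by rw [pow_succ, hB, semiAut_mul]⟩
        rw [hk, pow_succ, pow_mul, hA, mul_eq_one_iff_inv_eq, semiAut_inv] at hpow
        exact semiAut_ne_invT h3 _ g _ σ hpow
      subst hp2
      have h2F : (2 : F) ≠ 0 := fun h0 => hpr (by
        have hd := (CharP.cast_eq_zero_iff F r 2).1 (by exact_mod_cast h0)
        exact ((Nat.prime_dvd_prime_iff_eq (Fact.out : r.Prime) Nat.prime_two).1 hd).symm)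
      have hcore : NoPrimeSub (Cfsg.Inn (PSLn n F)) 2 (semiAut g σ * invTAut) ∧
          SelfCent (Cfsg.Inn (PSLn n F)) (semiAut g σ * invTAut) := by
        have hpow : (semiAut g σ * invTAut) ^ 2 = 1 := by rw [← hord]; exact pow_orderOf_eq_one _
        by_cases hσ1 : σ = 1
        · subst hσ1
          have e : semiAut g 1 * invTAut = H58.GraphPSL.gam g⁻¹ := by rw [H58.GraphPSL.gam, inv_inv]; rfl
          rw [e] at hord ⊢
          have hG := (H58.GraphPSL.orderOf_gam_iff h3 _).1 hord
          exact ⟨H58.PSLGraphBalance.graph_noPrimeSub h3 h2F hG, H58.PSLGraphBalance.graph_selfCent h3 h2F hG⟩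
        · have hσ2 : orderOf σ = 2 := by
            refine orderOf_eq_prime ?_ hσ1
            have h1 := hpow
            rw [hsq] at h1
            rw [pow_two]
            exact (eq_of_semiAut_eq_one hn' h1).1
          obtain ⟨B, hB⟩ := gf_coset h3 hσ2 g (by rw [← mul_assoc, ← semiAut_split]; exact hpow)
          rw [← mul_assoc, ← semiAut_split] at hB
          obtain ⟨f, -, hcard⟩ := FiniteField.card F r
          obtain ⟨-, hq⟩ := H58.PSLGraphField.card_eq_sq hσ2 hcard
          have hσq := H58.PSLGraphField.apply_eq_pow hσ2 hq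
          rw [hB]
          exact ⟨noPrimeSub_conj _ (H58.PSLGraphBalance.gf_noPrimeSub hq h3 h2F hσ2 hσq),
            selfCent_conj _ (H58.PSLGraphBalance.gf_selfCent hq h3 hσ2 hσq)⟩
      constructor
      · intro h
        exact absurd (core_eq_bot 𝒢 hle hord hcore.1 hcore.2) h
      · rintro ⟨⟨γ, φ, hγ, ⟨τ, hφ⟩, e⟩, -⟩
        obtain ⟨A, rfl⟩ := isInnerDiag_iff.1 hγ
        rw [isStdField_iff.1 hφ] at e
        exfalso
        refine semiAut_ne_invT h3 A g τ σ ?_
        rw [semiAut_split A τ]
        exact e.symm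

end Cfsg.Agent.S2686
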