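import Cfsg.Statements.S2687
import Cfsg.Agent.H58.PSUFieldBalance
import Cfsg.Agent.H58.PSUGraphBalance

set_option autoImplicit false
open Cfsg

namespace Cfsg.Agent.S2687

/-- A criterion for the failure of local balance in almost simple groups with unitary socle. Let F be a finite field of characteristic r with q² elements and K = PSU_n(q) (n ≥ 3, the central quotient of the determinant-one isometries of the standard Hermitian form) simple. Let A be a group of automorphisms of K containing all inner automorphisms, and β ∈ A an automorphism of prime order p ≠ r that is not inner-diagonal (not induced by conjugation by a matrix of the general unitary group). Then the largest normal subgroup of C_A(β) of order prime to p is nontrivial if and only if β is the composite of an inner-diagonal automorphism with the automorphism induced by a field automorphism of F applied entrywise and p does not divide the number of fixed points of β on K. -/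
theorem result
    (F : Type*) [Field F] [Fintype F] (r : ℕ) [Fact r.Prime] [CharP F r] (q : ℕ) (hF : Fintype.card F = q ^ 2)
    (n : ℕ) (hn : 3 ≤ n) (hK : IsSimpleGroup (Cfsg.PSU n F q))
    (𝒢 : Subgroup (MulAut (Cfsg.PSU n F q))) (hinn : ∀ k : Cfsg.PSU n F q, MulAut.conj k ∈ 𝒢)
    (p : ℕ) [Fact p.Prime] (hpr : p ≠ r) (β : MulAut (Cfsg.PSU n F q)) (hβ : β ∈ 𝒢) (hord : orderOf β = p)
    (hnot : ¬ Cfsg.IsInnerDiagonalAutPSU β) :
    Cfsg.pPrimeCore p ↥(𝒢 ⊓ Subgroup.centralizer {β}) ≠ ⊥ ↔
      ((∃ γ φ : MulAut (Cfsg.PSU n F q), Cfsg.IsInnerDiagonalAutPSU γ ∧ (∃ σ : F ≃+* F, Cfsg.IsFieldAutPSUOf σ φ) ∧ β = φ.trans γ) ∧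
        Nat.Coprime p (Nat.card ↥(MonoidHom.eqLocus β.toMonoidHom (MonoidHom.id (Cfsg.PSU n F q))))) := by
  open Cfsg.Agent.H58.UnitaryTwist Cfsg.Agent.H58.LocalBalance Cfsg.Agent.Unitary Cfsg.Agent.H58.Descent in
  · have hp := (Fact.out : p.Prime)
    have hr := (Fact.out : r.Prime)
    have h32 : ¬ (n = 3 ∧ q = 2) := by
      rintro ⟨rfl, rfl⟩
      obtain ⟨h72, hsol⟩ := Cfsg.Agent.S0282.result (F := F) hF
      have hcomm := IsSimpleGroup.comm_iff_isSolvable.2 hsol
      let : CommGroup (Cfsg.PSU 3 F 2) := { mul_comm := hcomm }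
      have hpr' : (Nat.card (Cfsg.PSU 3 F 2)).Prime := IsSimpleGroup.prime_card
      rw [h72] at hpr'
      norm_num at hpr'
    have hle : Cfsg.Inn (Cfsg.PSU n F q) ≤ 𝒢 := by
      rintro _ ⟨k, rfl⟩
      exact hinn k
    have hinj : Function.Injective (MulAut.conj : Cfsg.PSU n F q →* MulAut (Cfsg.PSU n F q)) := by
      rw [injective_iff_map_eq_one]
      intro k hk
      obtain ⟨s, rfl⟩ := toPSU_surjective k
      rw [← semiAut_suGU hF] at hk
      obtain ⟨-, c, hc⟩ := eq_of_semiAut_eq_one hF hn hk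
      rw [← MonoidHom.mem_ker, ker_toPSU]
      exact smul_mem_center fun x => (gap_suGU hF s x).symm.trans (hc x)
    obtain ⟨g, σ, rfl⟩ := exists_semiAut hF hn h32 β
    have hσne : σ ≠ 1 := fun h => hnot (by rw [h]; exact isInnerDiagonal_semiAut g)
    have hsplit : semiAut g σ = diagHom hF g * semiAut 1 σ := by
      rw [Unitary.semiAut_split hF, diagHom_apply]
    have hpow : (diagHom hF g * semiAut (1 : Cfsg.GU n F q) σ) ^ p = 1 := by
      rw [← hsplit, ← hord]; exact pow_orderOf_eq_one _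
    have hσp : orderOf σ = p := by
      refine orderOf_eq_prime ?_ hσne
      have h1 := hpow
      rw [H58.Twist.mul_pow_eq (diagHom hF) (theta hF σ) _ (field_conj hF σ), field_pow hF, diagHom_apply,
        ← Unitary.semiAut_split hF] at h1
      exact semiAut_inj_field hF hn (h1.trans semiAut_one.symm)
    have hex : ∃ γ φ : MulAut (Cfsg.PSU n F q), Cfsg.IsInnerDiagonalAutPSU γ ∧
        (∃ σ : F ≃+* F, Cfsg.IsFieldAutPSUOf σ φ) ∧ semiAut g σ = φ.trans γ :=
      ⟨semiAut g (RingEquiv.refl F), semiAut 1 σ, isInnerDiagonal_semiAut g, ⟨σ, isFieldAut_semiAut σ⟩,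
        Unitary.semiAut_split hF g σ⟩
    let : Fintype (FixedPoints.subfield (Subgroup.zpowers σ) F) := Fintype.ofFinite _
    let e : FixedPoints.subfield (Subgroup.zpowers σ) F →+* F := (FixedPoints.subfield (Subgroup.zpowers σ) F).subtype
    have he : ∀ x, σ (e x) = e x := fun x => (mem_fixedField σ).1 x.2
    have he' : ∀ a, σ a = a → ∃ x, e x = a := fun a ha => ⟨⟨a, (mem_fixedField σ).2 ha⟩, rfl⟩
    have hcrit : (NoPrimeSub (Cfsg.Inn (Cfsg.PSU n F q)) p (semiAut g σ) ∨
          ¬ p ∣ Nat.card ↥(Cfsg.Inn (Cfsg.PSU n F q) ⊓ Subgroup.centralizer {semiAut g σ})) ∧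
        SelfCent (Cfsg.Inn (Cfsg.PSU n F q)) (semiAut g σ) ∧
        Cfsg.Inn (Cfsg.PSU n F q) ⊓ Subgroup.centralizer {semiAut g σ} ≠ ⊥ := by
      rcases hp.eq_two_or_odd' with rfl | hodd
      · have h2 : (2 : FixedPoints.subfield (Subgroup.zpowers σ) F) ≠ 0 := fun h0 => hpr (by
          have h2F : (2 : F) = 0 := by rw [← map_ofNat e 2, h0, map_zero]
          have hd := (CharP.cast_eq_zero_iff F r 2).1 (by exact_mod_cast h2F)
          exact ((Nat.prime_dvd_prime_iff_eq hr Nat.prime_two).1 hd).symm)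
        let P : H58.GraphPSU.Frame F (FixedPoints.subfield (Subgroup.zpowers σ) F) n q :=
          ⟨hF, hn, σ, H58.PSLGraphField.apply_eq_pow hσp hF, hσp, e, he, he'⟩
        have hord' : orderOf (diagHom hF g * semiAut (1 : Cfsg.GU n F q) σ) = 2 := by rw [← hsplit, hord]
        obtain ⟨h, hR⟩ := P.exists_rep (P.isGraph g) hord'
        obtain ⟨h1, h3, h4⟩ := H58.PSUGraphBalance.noPrimeSub_selfCent P h32 h2 hR
        rw [hsplit]
        exact ⟨Or.inl h1, h3, h4⟩
      · obtain ⟨f, -, hcard⟩ := FiniteField.card F r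
        obtain ⟨a, -, ha⟩ := (Nat.dvd_prime_pow hr).1 (show q ∣ r ^ (f : ℕ) from ⟨q, by rw [← hcard, hF, pow_two]⟩)
        obtain ⟨-, hq, -⟩ := orderOf_dvd (p := r) hF ha σ (hσp ▸ hodd)
        have hF₀ : Fintype.card (FixedPoints.subfield (Subgroup.zpowers σ) F) = (r ^ (a / orderOf σ)) ^ 2 := by
          refine Nat.pow_left_injective (hσp ▸ hp.ne_zero : orderOf σ ≠ 0) ?_
          show _ ^ orderOf σ = _ ^ orderOf σ
          rw [← pow_mul, mul_comm 2, pow_mul, ← hq, ← hF, card_eq_pow σ, Nat.card_eq_fintype_card]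
        have hpow' : ∀ x, e x ^ q = e (x ^ (r ^ (a / orderOf σ))) :=
          fun x => hpow_of_odd hF₀ e (hσp ▸ hodd) hq x
        have hr' : ¬ p ∣ r ^ (a / orderOf σ) := fun hd =>
          hpr ((Nat.prime_dvd_prime_iff_eq hp hr).1 (hp.dvd_of_dvd_pow hd))
        obtain ⟨B, hB⟩ := field_coset hF hF₀ e hpow' he he' hn (hσp ▸ hodd) g (hσp ▸ hpow)
        rw [← hsplit] at hB
        refine ⟨?_, ?_, ?_⟩
        · by_cases hd : p ∣ Nat.card ↥(Cfsg.Inn (Cfsg.PSU n F q) ⊓ Subgroup.centralizer {semiAut g σ})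
          · rw [hB, centralizer_conj, Subgroup.card_map_of_injective (MulEquiv.injective _)] at hd
            rw [hB]
            exact Or.inl (noPrimeSub_conj _ (H58.PSUFieldBalance.noPrimeSub hF hF₀ e hpow' he he' hn hr' hd))
          · exact Or.inr hd
        · rw [hB]
          exact selfCent_conj _ (H58.PSUFieldBalance.selfCent hF hF₀ e hpow' he he' hn h32)
        · rw [hB, centralizer_conj]
          exact fun h => H58.PSUFieldBalance.inf_ne_bot hF hF₀ e hpow' he hn ((Subgroup.map_eq_bot_iff_of_injective _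
            (MulEquiv.injective _)).1 h)
    obtain ⟨h1, h2, h3⟩ := hcrit
    rw [core_ne_bot_iff 𝒢 hle hord h3 (fun hd => h1.resolve_right (not_not_intro hd)) h2,
      ← card_inn_inf_centralizer hinj (semiAut g σ)]
    exact ⟨fun h => ⟨hex, h⟩, fun h => h.2⟩

end Cfsg.Agent.S2687
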