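import Cfsg.Statements.S2690
import Cfsg.Agent.H56.OutPSL

set_option autoImplicit false
open Cfsg

namespace Cfsg.Agent.S2690

/-- Every automorphism of a simple projective special linear group PSL_n(F) over a finite field (n ≥ 2; |F| ≥ 4 when n = 2) is a product δ φ γ of an inner-diagonal automorphism δ (induced by an invertible matrix), a standard field automorphism φ (one automorphism of F applied to every entry, possibly the identity) and γ either the identity or the inverse-transpose automorphism. -/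
theorem result {F : Type*} [Field F] [Fintype F] {p f : ℕ} [Fact p.Prime] (hF : Fintype.card F = p ^ f) (hf : 1 ≤ f) {n : ℕ} (hn : 2 ≤ n) (hs : n = 2 → 4 ≤ Fintype.card F) (β : MulAut (Matrix.ProjectiveSpecialLinearGroup (Fin n) F)) :
    ∃ (δ φ γ : MulAut (Matrix.ProjectiveSpecialLinearGroup (Fin n) F)) (σ : F ≃+* F), Cfsg.IsInnerDiagonalAutPSL δ ∧ Cfsg.IsStdFieldAutPSL σ φ ∧ (γ = 1 ∨ Cfsg.IsInverseTransposeAutPSL γ) ∧ β = δ * φ * γ := by
  classical
  obtain ⟨g, σ, h⟩ := H56.exists_decomp hn β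
  have hδ : Cfsg.IsInnerDiagonalAutPSL (H56.semiAut g (RingEquiv.refl F)) := by
    refine ⟨g, fun s s' hs' => congrArg QuotientGroup.mk (Subtype.ext ?_)⟩
    show H56.smat (H56.semiSL g (RingEquiv.refl F) s) = H56.smat s'
    rw [H56.smat_semiSL]
    simp [H56.smat, hs']
  have hφ : Cfsg.IsStdFieldAutPSL σ (H56.semiAut (1 : GL (Fin n) F) σ) := by
    intro s s' hs'
    refine congrArg QuotientGroup.mk (Subtype.ext ?_)
    show H56.smat (H56.semiSL 1 σ s) = H56.smat s'
    rw [H56.smat_semiSL]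
    simp [H56.smat, hs']
  have hsplit : H56.semiAut g σ = H56.semiAut g (RingEquiv.refl F) * H56.semiAut 1 σ := by
    rw [H56.semiAut_mul, map_one, mul_one]
    rfl
  rcases h with rfl | ⟨-, rfl⟩
  · exact ⟨_, _, 1, σ, hδ, hφ, Or.inl rfl, by rw [mul_one]; exact hsplit⟩
  · refine ⟨_, _, H56.invTAut, σ, hδ, hφ, Or.inr (fun s s' hs' => congrArg QuotientGroup.mk (Subtype.ext hs'.symm)), ?_⟩
    rw [hsplit]

end Cfsg.Agent.S2690
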