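import Cfsg.Statements.S2697
import Cfsg.Agent.H58.PSLTwist

set_option autoImplicit false
open Cfsg

namespace Cfsg.Agent.S2697

/-- Let T = PSL_n(F) be simple over a finite field (n ≥ 2; |F| ≥ 4 when n = 2) and let x be a field automorphism or a graph-field automorphism of T of prime order r. Then an element y of the coset Inndiag(T)·x (that is, y = δ x with δ in the inner-diagonal group, the image of PGL_n(F)) has order r if and only if y is conjugate to x by an element of Inndiag(T). -/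
theorem result {F : Type*} [Field F] [Fintype F] {p f : ℕ} [Fact p.Prime] (hF : Fintype.card F = p ^ f) (hf : 1 ≤ f) {n : ℕ} (hn : 2 ≤ n) (hs : n = 2 → 4 ≤ Fintype.card F) (x δ : MulAut (Matrix.ProjectiveSpecialLinearGroup (Fin n) F)) (hx : Cfsg.IsFieldAutClassPSL x ∨ Cfsg.IsGraphFieldAutClassPSL x) {r : ℕ} (hr : r.Prime) (hxr : orderOf x = r) (hδ : δ ∈ Cfsg.inndiagPSL n F) :
    orderOf (δ * x) = r ↔ Cfsg.IsConjUnder (Cfsg.inndiagPSL n F) x (δ * x) := by
  open Cfsg.Agent.H56 Cfsg.Agent.H58.PSLAut Cfsg.Agent.H58.PSLTwist in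
    haveI := inndiag_normal (F := F) hn
    suffices h : ∀ (α : MulAut (Matrix.ProjectiveSpecialLinearGroup (Fin n) F))
        (φ : MulAut (Matrix.ProjectiveSpecialLinearGroup (Fin n) F)), α * x * α⁻¹ = φ →
        (∀ A : GL (Fin n) F, (glAut A * φ) ^ r = 1 → ∃ B, glAut A * φ = glAut B * φ * (glAut B)⁻¹) →
        (orderOf (δ * x) = r ↔ Cfsg.IsConjUnder (Cfsg.inndiagPSL n F) x (δ * x)) by
      rcases hx with ⟨α, σ, hσ, hφ⟩ | ⟨hn3, α, φ, γ, σ, hσ, hφ, hγ, hψ⟩
      · rw [isStdField_iff] at hφ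
        refine h α _ hφ fun A hA => ?_
        have hord : orderOf σ = r := by
          rw [← hxr, ← orderOf_field hn σ, ← hφ, Cfsg.Agent.H58.Twist.orderOf_conj]
        exact field_coset hn σ A (hord ▸ hA)
      · obtain rfl := isStdField_iff.mp hφ
        obtain rfl := isInvT_iff.mp hγ
        refine h α _ hψ fun A hA => ?_
        have hord : orderOf (semiAut (1 : GL (Fin n) F) σ * invTAut) = r := by
          rw [← hxr, ← hψ, Cfsg.Agent.H58.Twist.orderOf_conj]
        obtain ⟨rfl, hσ2⟩ := gf_order hn3 hr hσ hord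
        exact gf_coset hn3 hσ2 A hA
    intro α φ hφ key
    constructor
    · intro hy
      rw [Cfsg.Agent.H58.Twist.conjUnder_iff α, hφ]
      have hmem : α * δ * α⁻¹ ∈ Cfsg.inndiagPSL n F := Subgroup.Normal.conj_mem inferInstance δ hδ α
      obtain ⟨A, hA⟩ := mem_inndiag.mp hmem
      have he : α * (δ * x) * α⁻¹ = glAut A * φ := by
        rw [← hφ, glAut_apply, ← hA]; group
      obtain ⟨B, hB⟩ := key A (by
        rw [← he, ← hy, ← Cfsg.Agent.H58.Twist.orderOf_conj α (δ * x)]
        exact pow_orderOf_eq_one _)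
      exact ⟨glAut B, by rw [inndiag_eq]; exact ⟨B, rfl⟩, he.trans hB⟩
    · rintro ⟨h, -, e⟩
      rw [e, Cfsg.Agent.H58.Twist.orderOf_conj, hxr]

end Cfsg.Agent.S2697
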