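import Cfsg.Statements.S2698
import Cfsg.Agent.H58.PSLCentralizer

set_option autoImplicit false
open Cfsg

namespace Cfsg.Agent.S2698

/-- Let T = PSL_n(F) be simple over the field F with p^f elements (n ≥ 2; p^f ≥ 4 when n = 2), G = Inndiag(T) the image of PGL_n(F) in Aut(T), and x a field automorphism of T of prime order r. Then r divides f; the centralizer C_G(x) is isomorphic to PGL_n(F₀) for the subfield size |F₀| = p^(f/r); and the G-class of x is the union of exactly gcd(n, (p^f − 1)/(p^(f/r) − 1)) classes under conjugation by T (the inner automorphism group). -/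
theorem result {F : Type*} [Field F] [Fintype F] {p f : ℕ} [Fact p.Prime] (hF : Fintype.card F = p ^ f) (hf : 1 ≤ f) {n : ℕ} (hn : 2 ≤ n) (hs : n = 2 → 4 ≤ Fintype.card F) (x : MulAut (Matrix.ProjectiveSpecialLinearGroup (Fin n) F)) (hx : Cfsg.IsFieldAutClassPSL x) {r : ℕ} (hr : r.Prime) (hxr : orderOf x = r) (F₀ : Type*) [Field F₀] [Fintype F₀] (hF₀ : Fintype.card F₀ = p ^ (f / r)) :
    r ∣ f ∧ Nonempty (↥(Cfsg.inndiagPSL n F ⊓ Subgroup.centralizer {x}) ≃* Matrix.ProjGenLinGroup (Fin n) F₀) ∧ Cfsg.splitClassCount (Cfsg.inndiagPSL n F) (Cfsg.Inn (Matrix.ProjectiveSpecialLinearGroup (Fin n) F)) x = Nat.gcd n ((p ^ f - 1) / (p ^ (f / r) - 1)) := by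
  open Cfsg.Agent.H56 Cfsg.Agent.H58.PSLAut Cfsg.Agent.H58.PSLTwist Cfsg.Agent.H58.PSLCentralizer in
    haveI := inndiag_normal (F := F) hn
    obtain ⟨α, σ, hσ, hφ⟩ := hx
    rw [isStdField_iff] at hφ
    have hord : orderOf σ = r := by
      rw [← hxr, ← orderOf_field hn σ, ← hφ, Cfsg.Agent.H58.Twist.orderOf_conj]
    subst hord
    have hr' := Cfsg.Agent.H58.Descent.orderOf_dvd_of_card σ hF
    obtain ⟨e, he, he'⟩ := exists_subfield_hom hF σ F₀ hF₀
    refine ⟨hr'.1, ?_, ?_⟩
    · obtain ⟨i⟩ := Cfsg.Agent.H58.Twist.nonempty_centralizer_conj α (H := Cfsg.inndiagPSL n F) x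
      rw [hφ] at i
      obtain ⟨j⟩ := field_centralizer_iso hn e he he'
      exact ⟨i.trans j⟩
    · rw [← Cfsg.Agent.H58.Twist.splitClassCount_conj α, hφ, splitClassCount_eq hn _ _ (field_centralizer hn e he he'),
        det_map_range (by omega : 0 < n) e, hF₀]
      refine index_ker_pow_sup_range_pow n ?_
      rw [Nat.card_units, Nat.card_eq_fintype_card, hF, Nat.mul_div_cancel']
      conv_rhs => rw [show p ^ f = (p ^ (f / orderOf σ)) ^ orderOf σ by rw [← pow_mul, Nat.div_mul_cancel hr'.1]]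
      simpa using Nat.sub_dvd_pow_sub_pow (p ^ (f / orderOf σ)) 1 (orderOf σ)

end Cfsg.Agent.S2698
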