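import Cfsg.Statements.S2703
import Cfsg.Agent.H58.PSLInvTranspose

set_option autoImplicit false
open Cfsg

namespace Cfsg.Agent.S2703

/-- Let T = PSL_n(F) over the field with q elements, q odd, n = 2m ≥ 4 even, and ι the inverse-transpose automorphism. Its centralizer in G = Inndiag(T) (the image of PGL_n(F)) is isomorphic to the projective conformal orthogonal group of the plus-type form Σ xᵢ yᵢ in dimension n when n(q − 1)/4 is even, and to that of a minus-type form (Σ xᵢ yᵢ + z₁² + a z₁ z₂ + b z₂² with anisotropic binary part) when n(q − 1)/4 is odd. -/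
theorem result {F : Type*} [Field F] [Fintype F] (hodd : Odd (Fintype.card F)) {n m : ℕ} (hm : 2 ≤ m) (hnm : n = 2 * m) (ι : MulAut (Matrix.ProjectiveSpecialLinearGroup (Fin n) F)) (hι : Cfsg.IsInverseTransposeAutPSL ι) :
    (Even (n * (Fintype.card F - 1) / 4) → Nonempty (↥(Cfsg.inndiagPSL n F ⊓ Subgroup.centralizer {ι}) ≃* Cfsg.PGO F (Cfsg.quadFormPlus m F))) ∧ (¬ Even (n * (Fintype.card F - 1) / 4) → ∃ a b : F, (∀ z₁ z₂ : F, z₁ ^ 2 + a * z₁ * z₂ + b * z₂ ^ 2 = 0 → z₁ = 0 ∧ z₂ = 0) ∧ Nonempty (↥(Cfsg.inndiagPSL n F ⊓ Subgroup.centralizer {ι}) ≃* Cfsg.PGO F (Cfsg.quadFormMinus (m - 1) F a b))) := by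
  open Cfsg.Agent.H58.SumSquares in
    obtain rfl := Cfsg.Agent.H58.PSLAut.isInvT_iff.mp hι
    have h2 : (2 : F) ≠ 0 := by
      refine Ring.two_ne_zero fun h => ?_
      rw [Nat.odd_iff] at hodd
      have := FiniteField.even_card_of_char_two h
      omega
    obtain ⟨k, hk⟩ : ∃ k, Fintype.card F = 4 * k + 1 ∨ Fintype.card F = 4 * k + 3 :=
      ⟨Fintype.card F / 4, by rcases hodd with ⟨r, hr⟩; omega⟩
    constructor
    · intro hev
      rcases hk with hk | hk
      · obtain ⟨i, hi⟩ := (FiniteField.isSquare_neg_one_iff (F := F)).mpr (by omega)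
        obtain ⟨E, hE⟩ := plus_of_sqrt h2 (m := m) hi.symm
        exact Cfsg.Agent.H58.PSLInvTranspose.centralizer_iso (by omega) h2 E hE (by simp; omega)
      · obtain ⟨j, rfl⟩ : Even m := by
          rw [hk, hnm, show 4 * k + 3 - 1 = 2 * (2 * k + 1) by omega, show 2 * m * (2 * (2 * k + 1)) = 4 * (m * (2 * k + 1)) by ring,
            Nat.mul_div_cancel_left _ (by norm_num), Nat.even_mul] at hev
          exact hev.resolve_right (by simp [parity_simps])
        obtain ⟨E, hE⟩ := plus_of_even (F := F) h2 j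
        exact Cfsg.Agent.H58.PSLInvTranspose.centralizer_iso (by omega) h2 E hE (by simp; omega)
    · intro hev
      rcases hk with hk | hk
      · exact absurd (by
          rw [hk, hnm, show 4 * k + 1 - 1 = 4 * k by omega, show 2 * m * (4 * k) = 4 * (2 * (m * k)) by ring,
            Nat.mul_div_cancel_left _ (by norm_num)]
          exact even_two_mul _) hev
      · obtain ⟨j, hj⟩ : Odd m := by
          rw [hk, hnm, show 4 * k + 3 - 1 = 2 * (2 * k + 1) by omega, show 2 * m * (2 * (2 * k + 1)) = 4 * (m * (2 * k + 1)) by ring,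
            Nat.mul_div_cancel_left _ (by norm_num), Nat.not_even_iff_odd, Nat.odd_mul] at hev
          exact hev.1
        have hns : ¬ IsSquare (-1 : F) := by rw [FiniteField.isSquare_neg_one_iff]; omega
        refine ⟨0, 1, fun z₁ z₂ hz => ?_, ?_⟩
        · by_cases h : z₂ = 0
          · subst h; exact ⟨by simpa using hz, rfl⟩
          · refine absurd ⟨z₁ / z₂, ?_⟩ hns
            field_simp
            linear_combination (-1 : F) * hz
        · obtain rfl : m = j + j + 1 := by omega
          rw [show j + j + 1 - 1 = j + j by omega]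
          obtain ⟨P, hP⟩ := plus_of_even (F := F) h2 j
          obtain ⟨E, hE⟩ := minus_of_plus P hP (sumSq_two_nondeg h2)
          exact Cfsg.Agent.H58.PSLInvTranspose.centralizer_iso (by omega) h2 E hE (by simp; omega)

end Cfsg.Agent.S2703
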