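import Cfsg.Statements.S2704
import Cfsg.Agent.H58.PSLGraphField

set_option autoImplicit false
open Cfsg

namespace Cfsg.Agent.S2704

/-- Let T = PSL_n(F) over the field F with p^f elements, n ≥ 3, and G = Inndiag(T) the image of PGL_n(F). If x is an involutory graph-field automorphism of T then f is even; x is G-conjugate to every other involutory graph-field automorphism; C_G(x) is isomorphic to the projective general unitary group PGU_n(q₀) with q₀² = p^f, realised over F itself through the Hermitian form Σ uᵢ vᵢ^{q₀}; and the G-class of x is the union of exactly gcd(n, q₀ − 1) T-classes. -/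
theorem result {F : Type*} [Field F] [Fintype F] {p f : ℕ} [Fact p.Prime] (hF : Fintype.card F = p ^ f) (hf : 1 ≤ f) {n : ℕ} (hn : 3 ≤ n) (x : MulAut (Matrix.ProjectiveSpecialLinearGroup (Fin n) F)) (hx : Cfsg.IsGraphFieldAutClassPSL x) (hx2 : orderOf x = 2) :
    Even f ∧ (∀ y : MulAut (Matrix.ProjectiveSpecialLinearGroup (Fin n) F), Cfsg.IsGraphFieldAutClassPSL y → orderOf y = 2 → Cfsg.IsConjUnder (Cfsg.inndiagPSL n F) x y) ∧ Nonempty (↥(Cfsg.inndiagPSL n F ⊓ Subgroup.centralizer {x}) ≃* Cfsg.PGU n F (p ^ (f / 2))) ∧ Cfsg.splitClassCount (Cfsg.inndiagPSL n F) (Cfsg.Inn (Matrix.ProjectiveSpecialLinearGroup (Fin n) F)) x = Nat.gcd n (p ^ (f / 2) - 1) := by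
  open Cfsg.Agent.H56 Cfsg.Agent.H58.PSLAut Cfsg.Agent.H58.PSLTwist Cfsg.Agent.H58.PSLCentralizer Cfsg.Agent.H58.PSLGraphField in
    haveI := inndiag_normal (F := F) (by omega : 2 ≤ n)
    obtain ⟨-, α, φ, γ, σ, hσ, hφ, hγ, hψ⟩ := hx
    obtain rfl := isStdField_iff.mp hφ
    obtain rfl := isInvT_iff.mp hγ
    have hσ2 : orderOf σ = 2 := (gf_order hn Nat.prime_two hσ (by rw [← hψ, Cfsg.Agent.H58.Twist.orderOf_conj, hx2])).2
    obtain ⟨hev, hcard⟩ := card_eq_sq hσ2 hF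
    have hpow := apply_eq_pow hσ2 hcard
    refine ⟨hev, ?_, ?_, ?_⟩
    · rintro y ⟨-, β, φ', γ', τ, hτ, hφ', hγ', hψ'⟩ hy2
      obtain rfl := isStdField_iff.mp hφ'
      obtain rfl := isInvT_iff.mp hγ'
      have hτ2 : orderOf τ = 2 := (gf_order hn Nat.prime_two hτ (by rw [← hψ', Cfsg.Agent.H58.Twist.orderOf_conj, hy2])).2
      obtain rfl := eq_of_orderOf_two hσ2 hτ2
      obtain ⟨h, hh, ex⟩ := conjUnder_of_conj (F := F) (n := n) (by omega) hσ2 α⁻¹
      obtain ⟨k, hk, ey⟩ := conjUnder_of_conj (F := F) (n := n) (by omega) hσ2 β⁻¹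
      rw [← hψ, show α⁻¹ * (α * x * α⁻¹) * α⁻¹⁻¹ = x by group, hψ] at ex
      rw [← hψ', show β⁻¹ * (β * y * β⁻¹) * β⁻¹⁻¹ = y by group, hψ'] at ey
      exact ⟨k * h⁻¹, mul_mem hk (inv_mem hh), by rw [ey, ex]; group⟩
    · obtain ⟨i⟩ := Cfsg.Agent.H58.Twist.nonempty_centralizer_conj α (H := Cfsg.inndiagPSL n F) x
      rw [hψ, centralizer_eq (by omega) hσ2 hpow] at i
      obtain ⟨j⟩ := nonempty_map_glAut_iso (by omega : 2 ≤ n) (Cfsg.GU n F (p ^ (f / 2)))
      exact ⟨i.trans j⟩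
    · rw [← Cfsg.Agent.H58.Twist.splitClassCount_conj α, hψ,
        splitClassCount_eq (by omega) _ _ (centralizer_eq (by omega) hσ2 hpow), det_map_GU (by omega) hpow]
      exact index_ker_pow_sup_range_pow n (Cfsg.Agent.Unitary.card_units hcard)

end Cfsg.Agent.S2704
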