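import Cfsg.Statements.S2705
import Cfsg.Agent.H58.UnitaryTwist

set_option autoImplicit false
open Cfsg

namespace Cfsg.Agent.S2705

/-- Let T = PSU_n(q) be simple (n ≥ 3, (n, q) ≠ (3, 2), q = p^f), realised over the field F with q² elements, G = Inndiag(T) the image of PGU_n(q) in Aut(T), and x a field automorphism of T (conjugate to a standard field automorphism of odd order) of odd prime order r. Then r divides f; C_G(x) is isomorphic to PGU_n(q₀) with q₀ = p^(f/r), realised over a field F₀ with q₀² elements; and the G-class of x is the union of exactly gcd(n, (q + 1)/(q₀ + 1)) T-classes. -/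
theorem result {F : Type*} [Field F] [Fintype F] {p f q : ℕ} [Fact p.Prime] (hq : q = p ^ f) (hf : 1 ≤ f) (hF : Fintype.card F = q ^ 2) {n : ℕ} (hn : 3 ≤ n) (hs : ¬ (n = 3 ∧ q = 2)) (x : MulAut (Cfsg.PSU n F q)) (hx : Cfsg.IsFieldAutClassPSU x) {r : ℕ} (hr : r.Prime) (hro : Odd r) (hxr : orderOf x = r) (F₀ : Type*) [Field F₀] [Fintype F₀] (hF₀ : Fintype.card F₀ = p ^ (2 * (f / r))) :
    r ∣ f ∧ Nonempty (↥(Cfsg.inndiagPSU n F q ⊓ Subgroup.centralizer {x}) ≃* Cfsg.PGU n F₀ (p ^ (f / r))) ∧ Cfsg.splitClassCount (Cfsg.inndiagPSU n F q) (Cfsg.Inn (Cfsg.PSU n F q)) x = Nat.gcd n ((q + 1) / (p ^ (f / r) + 1)) := by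
  open Cfsg.Agent.H58.UnitaryTwist Cfsg.Agent.Unitary in
    haveI := inndiag_normal hF hn hs
    obtain ⟨α, φ, σ, hσ, hodd, hφ, hx⟩ := hx
    obtain rfl := eq_semiAut_of_isFieldAut hφ
    have hord : orderOf σ = r := by
      rw [← hxr, ← orderOf_field hF hn σ, ← hx, Cfsg.Agent.H58.Twist.orderOf_conj]
    subst hord
    obtain ⟨h1, h2, h3⟩ := Cfsg.Agent.H58.UnitaryTwist.orderOf_dvd hF hq σ hodd
    have hF' : Fintype.card F = p ^ (2 * f) := by rw [hF, hq, ← pow_mul, mul_comm]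
    obtain ⟨e, he, he'⟩ := Cfsg.Agent.H58.PSLCentralizer.exists_subfield_hom hF' σ F₀ (by rw [hF₀, h3])
    have hF₀' : Fintype.card F₀ = (p ^ (f / orderOf σ)) ^ 2 := by rw [hF₀, ← pow_mul, mul_comm]
    have hpow := hpow_of_odd hF₀' e hodd h2
    refine ⟨h1, ?_, ?_⟩
    · obtain ⟨i⟩ := Cfsg.Agent.H58.Twist.nonempty_centralizer_conj α (H := Cfsg.inndiagPSU n F q) x
      rw [hx] at i
      obtain ⟨j⟩ := field_centralizer_iso hF hF₀' e hpow he he' hn
      exact ⟨i.trans j⟩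
    · rw [← Cfsg.Agent.H58.Twist.splitClassCount_conj α, hx]
      refine splitClassCount_field hF hF₀' e hpow he he' hn (Nat.mul_div_cancel' ?_).symm
      conv_rhs => rw [h2]
      simpa using Odd.nat_add_dvd_pow_add_pow (p ^ (f / orderOf σ)) 1 hodd

end Cfsg.Agent.S2705
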