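import Cfsg.Statements.S2710
import Cfsg.Agent.H58.UnitaryQPower

set_option autoImplicit false
open Cfsg

namespace Cfsg.Agent.S2710

/-- Let T = PSU_n(q) with n ≥ 4 divisible by 4 (n = 2m) and q odd, realised over the field F with q² elements, G = Inndiag(T) the image of PGU_n(q), and φ the standard field automorphism of T attached to the q-th power map of F (it induces inverse-transpose on the unitary matrices and is a graph automorphism). Its centralizer in G is isomorphic to the projective conformal orthogonal group of the plus-type form Σ xᵢ yᵢ in dimension n over a field F₀ with q elements. (Dimensions n ≡ 2 (mod 4) are not covered.) -/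
theorem result {F : Type*} [Field F] [Fintype F] {q : ℕ} (hodd : Odd q) (hF : Fintype.card F = q ^ 2) {n m : ℕ} (hm : 2 ≤ m) (hnm : n = 2 * m) (h4 : 4 ∣ n) (F₀ : Type*) [Field F₀] [Fintype F₀] (hF₀ : Fintype.card F₀ = q) (σ : F ≃+* F) (hσ : ∀ a : F, σ a = a ^ q) (φ : MulAut (Cfsg.PSU n F q)) (hφ : Cfsg.IsFieldAutPSUOf σ φ) :
    Nonempty (↥(Cfsg.inndiagPSU n F q ⊓ Subgroup.centralizer {φ}) ≃* Cfsg.PGO F₀ (Cfsg.quadFormPlus m F₀)) := by
  open Cfsg.Agent.H58.UnitaryTwist Cfsg.Agent.H58.UnitaryQPower Cfsg.Agent.H58.SumSquares Cfsg.Agent.Unitary in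
    subst hnm
    obtain rfl := eq_semiAut_of_isFieldAut hφ
    obtain ⟨p, f, hp, hf, hchar, hqe⟩ := exists_char_pow hF
    haveI : Fact p.Prime := ⟨hp⟩
    have hne : ∃ a : F, a ^ q ≠ a := by
      by_contra hcon
      push Not at hcon
      have h1 := card_norm_eq_one hF
      obtain ⟨b, hb⟩ := exists_trace_ne_zero hF
      obtain ⟨δ, hδ0, hδ⟩ := exists_skew hF
      have h2 : (2 : F) * δ = 0 := by linear_combination (hcon δ).symm.trans hδ
      have h3 : (2 : F) = 0 := (mul_eq_zero.1 h2).resolve_right hδ0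
      exact hb (by rw [hcon b]; linear_combination b * h3)
    have hord : orderOf σ = 2 := by
      haveI := Fact.mk Nat.prime_two
      refine orderOf_eq_prime (RingEquiv.ext fun a => ?_) ?_
      · rw [pow_two]
        show σ (σ a) = a
        rw [hσ, hσ, pow_q_q hF]
      · intro h
        obtain ⟨a, ha⟩ := hne
        exact ha (by rw [← hσ, h]; rfl)
    have hF' : Fintype.card F = p ^ (2 * f) := by rw [hF, hqe, ← pow_mul, mul_comm]
    obtain ⟨e, he, he'⟩ := Cfsg.Agent.H58.PSLCentralizer.exists_subfield_hom hF' σ F₀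
      (by rw [hF₀, hord, Nat.mul_div_cancel_left f (by norm_num), hqe])
    have h2 : (2 : F₀) ≠ 0 := by
      refine Ring.two_ne_zero fun h => ?_
      have := FiniteField.even_card_of_char_two h
      rw [hF₀] at this
      rw [Nat.odd_iff] at hodd
      omega
    obtain ⟨i⟩ := centralizer_iso (n := 2 * m) hF e (by omega) h2 he he' hσ
    obtain ⟨j, rfl⟩ : ∃ j, m = j + j := ⟨m / 2, by omega⟩
    obtain ⟨E, hE⟩ := plus_of_even h2 j
    let r : Fin (2 * (j + j)) ≃ Fin (j + j) ⊕ Fin (j + j) := (finCongr (two_mul _)).trans finSumFinEquiv.symm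
    obtain ⟨k⟩ := Cfsg.Agent.H58.SimIso.nonempty_PGO_iso (F := F₀) (Q := (sumSq : (Fin (2 * (j + j)) → F₀) → F₀))
      (E.trans (LinearEquiv.funCongrLeft F₀ F₀ r)) one_ne_zero
      (fun x => (sumSq_comp r (E x)).trans (hE x))
    exact ⟨i.trans k⟩

end Cfsg.Agent.S2710
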