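import Cfsg.Statements.S2711
import Cfsg.Agent.H58.UnitaryTwist

set_option autoImplicit false
open Cfsg

namespace Cfsg.Agent.S2711

/-- Let T = PSU_n(q) be simple (n ≥ 3, (n,q) ≠ (3,2)), realised over the field F with q² elements, and let x be a field automorphism of T (conjugate to a standard field automorphism of odd order) of prime order r. Then an element y of the coset Inndiag(T)·x (y = δ x with δ in the image of PGU_n(q)) has order r if and only if y is conjugate to x by an element of Inndiag(T). (T has no graph-field automorphisms.) -/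
theorem result {F : Type*} [Field F] [Fintype F] {p f q : ℕ} [Fact p.Prime] (hq : q = p ^ f) (hf : 1 ≤ f) (hF : Fintype.card F = q ^ 2) {n : ℕ} (hn : 3 ≤ n) (hs : ¬ (n = 3 ∧ q = 2)) (x δ : MulAut (Cfsg.PSU n F q)) (hx : Cfsg.IsFieldAutClassPSU x) {r : ℕ} (hr : r.Prime) (hxr : orderOf x = r) (hδ : δ ∈ Cfsg.inndiagPSU n F q) :
    orderOf (δ * x) = r ↔ Cfsg.IsConjUnder (Cfsg.inndiagPSU n F q) x (δ * x) := by
  open Cfsg.Agent.H58.UnitaryTwist Cfsg.Agent.Unitary in
    haveI := inndiag_normal hF hn hs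
    obtain ⟨α, φ, σ, hσ, hodd, hφ, hx⟩ := hx
    obtain rfl := eq_semiAut_of_isFieldAut hφ
    have hord : orderOf σ = r := by
      rw [← hxr, ← orderOf_field hF hn σ, ← hx, Cfsg.Agent.H58.Twist.orderOf_conj]
    subst hord
    obtain ⟨h1, h2, h3⟩ := Cfsg.Agent.H58.UnitaryTwist.orderOf_dvd hF hq σ hodd
    constructor
    · intro hy
      rw [Cfsg.Agent.H58.Twist.conjUnder_iff α, hx]
      have hmem : α * δ * α⁻¹ ∈ Cfsg.inndiagPSU n F q := Subgroup.Normal.conj_mem inferInstance δ hδ α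
      rw [inndiagPSU_eq hF] at hmem
      obtain ⟨A, hA⟩ := hmem
      have he : α * (δ * x) * α⁻¹ = diagHom hF A * semiAut (1 : Cfsg.GU n F q) σ := by
        rw [← hx, hA]; group
      letI : Fintype (Cfsg.Agent.H58.Descent.fixedField σ) := Fintype.ofFinite _
      have hF₀' : Fintype.card (Cfsg.Agent.H58.Descent.fixedField σ) = (p ^ (f / orderOf σ)) ^ 2 := by
        rw [← Nat.card_eq_fintype_card, (Cfsg.Agent.H58.Descent.orderOf_dvd_of_card σ (p := p) (f := 2 * f)
          (by rw [hF, hq, ← pow_mul, mul_comm])).2, h3, ← pow_mul, mul_comm]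
      obtain ⟨B, hB⟩ := field_coset hF hF₀' (Cfsg.Agent.H58.Descent.fixedField σ).subtype
        (hpow_of_odd hF₀' _ hodd h2) (fun y => (Cfsg.Agent.H58.Descent.mem_fixedField σ).1 y.2)
        (fun a ha => ⟨⟨a, (Cfsg.Agent.H58.Descent.mem_fixedField σ).2 ha⟩, rfl⟩) hn hodd A (by
          rw [← he, ← hy, ← Cfsg.Agent.H58.Twist.orderOf_conj α (δ * x)]
          exact pow_orderOf_eq_one _)
      exact ⟨diagHom hF B, by rw [inndiagPSU_eq hF]; exact ⟨B, rfl⟩, he.trans hB⟩
    · rintro ⟨h, -, e⟩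
      rw [e, Cfsg.Agent.H58.Twist.orderOf_conj, hxr]

end Cfsg.Agent.S2711
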