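import Cfsg.Statements.S2712
import Cfsg.Agent.H99.SympField

set_option autoImplicit false
open Cfsg

namespace Cfsg.Agent.S2712

/-- Let T = PSp_{2m}(F) be simple over the field F with p^f elements (m ≥ 2, (2m, |F|) ≠ (4, 2)), G = Inndiag(T) the image of the projective conformal symplectic group PGSp_{2m}(F), and x a field automorphism of T of prime order r. Then r divides f; C_G(x) is isomorphic to PGSp_{2m}(F₀) for a field F₀ with p^(f/r) elements; and the G-class of x is the union of exactly gcd(gcd(2, p^f − 1), r) T-classes. -/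
theorem result {F : Type*} [Field F] [Fintype F] {p f : ℕ} [Fact p.Prime] (hF : Fintype.card F = p ^ f) (hf : 1 ≤ f) {m : ℕ} (hm : 2 ≤ m) (hs : m = 2 → 3 ≤ Fintype.card F) (x : MulAut (Cfsg.PSp m F)) (hx : Cfsg.IsFieldAutClassPSp x) {r : ℕ} (hr : r.Prime) (hxr : orderOf x = r) (F₀ : Type*) [Field F₀] [Fintype F₀] (hF₀ : Fintype.card F₀ = p ^ (f / r)) :
    r ∣ f ∧ Nonempty (↥(Cfsg.inndiagPSp m F ⊓ Subgroup.centralizer {x}) ≃* Cfsg.PGSp m F₀) ∧ Cfsg.splitClassCount (Cfsg.inndiagPSp m F) (Cfsg.Inn (Cfsg.PSp m F)) x = Nat.gcd (Nat.gcd 2 (p ^ f - 1)) r := by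
  haveI : CharP F p := charP_of_card_eq_prime_pow hF
  open Cfsg.Agent.H99.SympField in
    haveI := inndiag_normal (p := p) (F := F) hm
    haveI : (Cfsg.Inn (Cfsg.PSp m F)).Normal := inn_normal
    obtain ⟨α, σ, -, hφ⟩ := hx
    have hx' := eq_fld hφ
    have hord : orderOf σ = r := by
      rw [← hxr, ← orderOf_injective (fld (m := m)) (fld_injective (p := p) (by omega)) σ, ← hx',
        Cfsg.Agent.H58.Twist.orderOf_conj]
    obtain ⟨hrf, -⟩ := Cfsg.Agent.H58.Descent.orderOf_dvd_of_card σ hF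
    obtain ⟨e, he, he'⟩ := Cfsg.Agent.H58.PSLCentralizer.exists_subfield_hom hF σ F₀ (hord.symm ▸ hF₀)
    rw [hord] at hrf
    refine ⟨hrf, ?_, ?_⟩
    · obtain ⟨i₁⟩ := Cfsg.Agent.H58.Twist.nonempty_centralizer_conj (H := Cfsg.inndiagPSp m F) α x
      rw [hx'] at i₁
      obtain ⟨i₂⟩ := centralizer_iso e (p := p) (m := m) (by omega) he he'
      exact ⟨i₁.trans i₂⟩
    · rw [← Cfsg.Agent.H58.Twist.splitClassCount_conj α x, hx']
      obtain ⟨k, rfl⟩ := hrf
      have hk : r * k / r = k := Nat.mul_div_cancel_left k hr.pos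
      rw [hk] at hF₀
      have hsum : (p ^ k - 1) * (∑ i ∈ Finset.range r, (p ^ k) ^ i) = p ^ (r * k) - 1 := by
        rw [mul_comm r k, pow_mul]
        have h := geom_sum_mul_of_one_le (Nat.one_le_pow k p (Fact.out : p.Prime).pos) r
        rw [mul_comm]; exact h
      rw [split_count e (p := p) (by omega) he he' (d := ∑ i ∈ Finset.range r, (p ^ k) ^ i) (by
        rw [hF₀, Nat.card_units, Nat.card_eq_fintype_card, hF, hsum])]
      have hk0 : k ≠ 0 := by rintro rfl; simp at hf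
      rcases (Fact.out : p.Prime).eq_two_or_odd' with rfl | hodd
      · have h1 : Nat.gcd 2 (2 ^ (r * k) - 1) = 1 := by
          refine Nat.coprime_two_left.mpr (Nat.Even.sub_odd (Nat.one_le_pow _ _ (by norm_num)) ?_ odd_one)
          exact (Nat.even_pow).mpr ⟨even_two, Nat.mul_ne_zero hr.pos.ne' hk0⟩
        have hd1 : Nat.gcd 2 (∑ i ∈ Finset.range r, (2 ^ k) ^ i) = 1 :=
          Nat.Coprime.coprime_dvd_right (Dvd.intro_left (2 ^ k - 1) hsum) h1
        rw [h1, hd1, Nat.gcd_one_left]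
      · have h1 : Nat.gcd 2 (p ^ (r * k) - 1) = 2 :=
          Nat.gcd_eq_left (Nat.Odd.sub_odd (hodd.pow) odd_one).two_dvd
        rw [h1]
        have hmod : (∑ i ∈ Finset.range r, (p ^ k) ^ i) % 2 = r % 2 := by
          rw [Finset.sum_nat_mod, Finset.sum_congr rfl fun i _ => Nat.odd_iff.mp ((hodd.pow).pow : Odd ((p ^ k) ^ i))]
          simp
        rw [Nat.gcd_rec 2, Nat.gcd_rec 2 r, hmod]

end Cfsg.Agent.S2712
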