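import Cfsg.Statements.S2713
import Cfsg.Agent.H99.SympField

set_option autoImplicit false
open Cfsg

namespace Cfsg.Agent.S2713

/-- Let T = PSp_{2m}(F) be simple over a finite field (m ≥ 2, (2m, |F|) ≠ (4, 2)) and let x be a field automorphism of T of prime order r. Then an element y of the coset Inndiag(T)·x (y = δ x with δ in the image of the projective conformal symplectic group) has order r if and only if y is conjugate to x by an element of Inndiag(T). -/
theorem result {F : Type*} [Field F] [Fintype F] {m : ℕ} (hm : 2 ≤ m) (hs : m = 2 → 3 ≤ Fintype.card F) (x δ : MulAut (Cfsg.PSp m F)) (hx : Cfsg.IsFieldAutClassPSp x) {r : ℕ} (hr : r.Prime) (hxr : orderOf x = r) (hδ : δ ∈ Cfsg.inndiagPSp m F) :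
    orderOf (δ * x) = r ↔ Cfsg.IsConjUnder (Cfsg.inndiagPSp m F) x (δ * x) := by
  obtain ⟨p, hcp⟩ := CharP.exists F
  haveI := hcp
  haveI : Fact p.Prime := ⟨(CharP.char_is_prime_or_zero F p).resolve_right (CharP.char_ne_zero_of_finite F p)⟩
  open Cfsg.Agent.H99.SympField in
    haveI := inndiag_normal (p := p) (F := F) hm
    obtain ⟨α, σ, -, hφ⟩ := hx
    have hx' := eq_fld hφ
    have hord : orderOf σ = r := by
      rw [← hxr, ← orderOf_injective (fld (m := m)) (fld_injective (p := p) (by omega)) σ, ← hx',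
        Cfsg.Agent.H58.Twist.orderOf_conj]
    constructor
    · intro hy
      rw [Cfsg.Agent.H58.Twist.conjUnder_iff α, hx']
      have hmem : α * δ * α⁻¹ ∈ Cfsg.inndiagPSp m F := Subgroup.Normal.conj_mem inferInstance δ hδ α
      rw [inndiag_eq] at hmem
      obtain ⟨A, hA⟩ := hmem
      have he : α * (δ * x) * α⁻¹ = jAut A * fld σ := by
        rw [← hx', hA]; group
      obtain ⟨B, hB⟩ := field_coset (p := p) (by omega) A (σ := σ) (by
        rw [← he, hord, ← hy, ← Cfsg.Agent.H58.Twist.orderOf_conj α (δ * x)]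
        exact pow_orderOf_eq_one _)
      exact ⟨jAut B, by rw [inndiag_eq]; exact ⟨B, rfl⟩, he.trans hB⟩
    · rintro ⟨h, -, e⟩
      rw [e, Cfsg.Agent.H58.Twist.orderOf_conj, hxr]

end Cfsg.Agent.S2713
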