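import Cfsg.Statements.S2718
import Cfsg.Agent.H96.OrthClass.GraphSplit

set_option autoImplicit false
open Cfsg

namespace Cfsg.Agent.S2718

/-- Let T = PΩ⁺_{2m}(F) with m ≥ 4 and |F| = q odd, G = Inndiag(T), and γ an involutory graph automorphism of T induced by a similarity (one interchanging the two classes of maximal totally singular subspaces). Then the G-class of γ is either a single T-class or the union of exactly two T-classes, and it is the union of two unless m is odd and q ≡ 3 (mod 4). -/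
theorem result {F : Type*} [Field F] [Fintype F] (hodd : Odd (Fintype.card F)) {m : ℕ} (hm : 4 ≤ m) (γ : MulAut (Cfsg.POmega F (Cfsg.quadFormPlus m F))) (hγ : Cfsg.IsSimilarityGraphAutPOmegaPlus m γ) (hγ2 : orderOf γ = 2) :
    (Cfsg.splitClassCount (Cfsg.inndiagPOmegaPlus m F) (Cfsg.Inn (Cfsg.POmega F (Cfsg.quadFormPlus m F))) γ = 1 ∨ Cfsg.splitClassCount (Cfsg.inndiagPOmegaPlus m F) (Cfsg.Inn (Cfsg.POmega F (Cfsg.quadFormPlus m F))) γ = 2) ∧ (¬ (Odd m ∧ Fintype.card F % 4 = 3) → Cfsg.splitClassCount (Cfsg.inndiagPOmegaPlus m F) (Cfsg.Inn (Cfsg.POmega F (Cfsg.quadFormPlus m F))) γ = 2) := by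
  have H := Cfsg.Agent.H58.OrthoWitness.setup_plus hodd hm
  obtain ⟨f1, f2⟩ := Cfsg.Agent.H58.OrthoWitness.sqSign_neg_one_pow hodd m
  obtain ⟨r, s, d, hr, hr', hs, hrs⟩ := Cfsg.Agent.H58.OrthoWitness.plus hodd H
  obtain ⟨g, hg, hnp, hind⟩ := hγ
  have hγe : γ = Cfsg.Agent.H58.OrthoAut.simAut (Cfsg.Agent.Orthogonal.formPlus F m) ⟨g, hg⟩ :=
    Cfsg.Agent.H58.OrthoAut.eq_simAut (Q := Cfsg.Agent.Orthogonal.formPlus F m)
      (g := (⟨g, hg⟩ : Cfsg.Agent.H58.OrthoAut.sim (Cfsg.Agent.Orthogonal.formPlus F m))) hind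
  subst hγe
  have hds : H.ds (⟨g, hg⟩ : Cfsg.Agent.H58.OrthoAut.sim (Cfsg.Agent.Orthogonal.formPlus F m)) = -1 :=
    (Int.units_eq_one_or _).resolve_left fun h => hnp
      ((Cfsg.Agent.H58.OrthoClasses.classes_plus H.two (Units.ne_zero _)
        (Cfsg.Agent.H58.OrthoKlein.mu_spec (Q := Cfsg.Agent.Orthogonal.formPlus F m) ⟨g, hg⟩)).2
          ((H.ds_eq_one_iff _).1 h))
  have hI : Cfsg.inndiagPOmegaPlus m F = H.ds.ker.map (Cfsg.Agent.H58.OrthoAut.simAut _) :=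
    Cfsg.Agent.H58.OrthoClasses.inndiag_plus H
  rw [hI]
  obtain ⟨h1, h2⟩ := Cfsg.Agent.H96.OrthClass.split H hm hds hγ2 ⟨r, s, d, m, hr, hr', hs, hrs⟩
  by_cases hc : Odd m ∧ Fintype.card F % 4 = 3
  · exact ⟨h2 ((Cfsg.Agent.H52.OrthoRank.negSign_plus F m H.two).trans (f1 hc)), fun h => absurd hc h⟩
  · have h := h1 ((Cfsg.Agent.H52.OrthoRank.negSign_plus F m H.two).trans (f2 hc))
    exact ⟨Or.inr h, fun _ => h⟩

end Cfsg.Agent.S2718
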