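import Cfsg.Statements.S2719
import Cfsg.Agent.H96.OrthClass.GraphMinus

set_option autoImplicit false
open Cfsg

namespace Cfsg.Agent.S2719

/-- Let T = PΩ⁻_{2m+2}(F) with m ≥ 3 and |F| = q odd (form with anisotropic binary part z₁² + a z₁ z₂ + b z₂²), G = Inndiag(T), and γ an involutory graph automorphism of T (an automorphism in the image of the semisimilarity group, not inner-diagonal, of order 2). Then the G-class of γ is either a single T-class or the union of exactly two T-classes, and it is the union of two unless m is even and q ≡ 1 (mod 4). -/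
theorem result {F : Type*} [Field F] [Fintype F] (hodd : Odd (Fintype.card F)) {m : ℕ} (hm : 3 ≤ m) (a b : F) (hab : (∀ z₁ z₂ : F, z₁ ^ 2 + a * z₁ * z₂ + b * z₂ ^ 2 = 0 → z₁ = 0 ∧ z₂ = 0)) (γ : MulAut (Cfsg.POmega F (Cfsg.quadFormMinus m F a b))) (hγ : Cfsg.IsGraphAutClassPOmegaMinus m a b γ) (hγ2 : orderOf γ = 2) :
    (Cfsg.splitClassCount (Cfsg.inndiagPOmegaMinus m F a b) (Cfsg.Inn (Cfsg.POmega F (Cfsg.quadFormMinus m F a b))) γ = 1 ∨ Cfsg.splitClassCount (Cfsg.inndiagPOmegaMinus m F a b) (Cfsg.Inn (Cfsg.POmega F (Cfsg.quadFormMinus m F a b))) γ = 2) ∧ (¬ (Even m ∧ Fintype.card F % 4 = 1) → Cfsg.splitClassCount (Cfsg.inndiagPOmegaMinus m F a b) (Cfsg.Inn (Cfsg.POmega F (Cfsg.quadFormMinus m F a b))) γ = 2) := by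
  have H := Cfsg.Agent.H58.OrthoWitness.setup_minus hodd hm hab
  obtain ⟨f1, f2⟩ := Cfsg.Agent.H58.OrthoWitness.sqSign_neg_one_pow hodd (m + 1)
  obtain ⟨r, s, d, hr, hr', hs, hrs⟩ := Cfsg.Agent.H58.OrthoWitness.minus hodd hab H
  obtain ⟨g, rfl⟩ := Cfsg.Agent.H96.OrthClass.exists_sim_of_involution hm hab γ hγ2
  have hI : Cfsg.inndiagPOmegaMinus m F a b = H.ds.ker.map (Cfsg.Agent.H58.OrthoAut.simAut _) :=
    Cfsg.Agent.H58.OrthoClasses.inndiag_minus hab H
  have hds : H.ds g = -1 :=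
    (Int.units_eq_one_or _).resolve_left fun h => hγ.2.1 (by rw [hI]; exact ⟨g, h, rfl⟩)
  rw [hI]
  obtain ⟨h1, h2⟩ := Cfsg.Agent.H96.OrthClass.split H (by omega) hds hγ2 ⟨r, s, d, m + 1, hr, hr', hs, hrs⟩
  have hneg := Cfsg.Agent.H52.OrthoRank.negSign_minus (F := F) (m := m) H.two hab
  by_cases hc : Odd (m + 1) ∧ Fintype.card F % 4 = 3
  · rw [f1 hc, neg_neg] at hneg
    have h := h1 hneg
    exact ⟨Or.inr h, fun _ => h⟩
  · rw [f2 hc] at hneg
    refine ⟨h2 hneg, fun h => ?_⟩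
    have hmodd : ¬ Even m := fun hev => by
      have hq : Fintype.card F % 4 ≠ 1 := fun h4 => h ⟨hev, h4⟩
      have hq2 : Fintype.card F % 2 = 1 := Nat.odd_iff.1 hodd
      exact hc ⟨hev.add_one, by omega⟩
    exact Cfsg.Agent.H96.OrthClass.split_even H (Nat.even_add_one.2 hmodd) hds hγ2 hr hr' hneg

end Cfsg.Agent.S2719
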