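import Cfsg.Statements.S2722
import Cfsg.Agent.H58.OrthoKlein
import Cfsg.Agent.Orthogonal.StdForms

set_option autoImplicit false
open Cfsg

namespace Cfsg.Agent.S2722

/-- Let T = PΩ⁺_{2m}(F) with m ≥ 4 and |F| = q odd. Inside Aut(T), the image G̃ of the conformal orthogonal group of the form modulo the image of the special orthogonal group is elementary abelian of order 4. -/
theorem result {F : Type*} [Field F] [Fintype F] (hodd : Odd (Fintype.card F)) {m : ℕ} (hm : 4 ≤ m) :
    (∃ φ : ↥(Cfsg.pgoAut F (Cfsg.quadFormPlus m F)) →* Multiplicative (ZMod 2 × ZMod 2), Function.Surjective φ ∧ φ.ker = (Cfsg.psoAut F (Cfsg.quadFormPlus m F)).subgroupOf (Cfsg.pgoAut F (Cfsg.quadFormPlus m F))) := by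
  open Cfsg.Agent.Orthogonal Cfsg.Agent.H58.OrthoKlein in
    have h2 : (2 : F) ≠ 0 := by
      refine Ring.two_ne_zero fun h => ?_
      rw [Nat.odd_iff] at hodd
      have := FiniteField.even_card_of_char_two h
      omega
    obtain ⟨ν, hν⟩ := exists_not_isSquare h2
    have hν0 : ν ≠ 0 := fun h => hν (h ▸ IsSquare.zero)
    refine klein (Q := formPlus F m) (formPlus_nondeg F m) h2 (m := m) (by simp; omega) (by simp; omega) ?_
    obtain ⟨g, c, rfl, hg⟩ := exists_sim_of_linear (formPlus_nondeg F m) (Units.mk0 ν hν0)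
      { toFun := fun v => Sum.elim (fun i => ν * v (.inl i)) (fun i => v (.inr i))
        map_add' := fun v w => by funext s; rcases s with i | i <;> simp [mul_add]
        map_smul' := fun k v => by funext s; rcases s with i | i <;> simp [mul_left_comm] }
      (fun v => by
        simp only [formPlus_coe, Cfsg.quadFormPlus, LinearMap.coe_mk, AddHom.coe_mk, Sum.elim_inl, Sum.elim_inr,
          Finset.mul_sum, Units.val_mk0]
        exact Finset.sum_congr rfl fun i _ => mul_assoc _ _ _)
    exact ⟨g, _, hν, hg⟩

end Cfsg.Agent.S2722
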