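import Cfsg.Statements.S2726
import Cfsg.Agent.H58.OrthoKlein
import Cfsg.Agent.Orthogonal.StdForms

set_option autoImplicit false
open Cfsg

namespace Cfsg.Agent.S2726

/-- Let T = PΩ⁻_{2m+2}(F) with m ≥ 3 and |F| = q odd (form with anisotropic binary part). Inside Aut(T), the image G̃ of the conformal orthogonal group of the form modulo the image of the special orthogonal group is elementary abelian of order 4. -/
theorem result {F : Type*} [Field F] [Fintype F] (hodd : Odd (Fintype.card F)) {m : ℕ} (hm : 3 ≤ m) (a b : F) (hab : (∀ z₁ z₂ : F, z₁ ^ 2 + a * z₁ * z₂ + b * z₂ ^ 2 = 0 → z₁ = 0 ∧ z₂ = 0)) :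
    (∃ φ : ↥(Cfsg.pgoAut F (Cfsg.quadFormMinus m F a b)) →* Multiplicative (ZMod 2 × ZMod 2), Function.Surjective φ ∧ φ.ker = (Cfsg.psoAut F (Cfsg.quadFormMinus m F a b)).subgroupOf (Cfsg.pgoAut F (Cfsg.quadFormMinus m F a b))) := by
  open Cfsg.Agent.Orthogonal Cfsg.Agent.H58.OrthoKlein in
    have h2 : (2 : F) ≠ 0 := by
      refine Ring.two_ne_zero fun h => ?_
      rw [Nat.odd_iff] at hodd
      have := FiniteField.even_card_of_char_two h
      omega
    obtain ⟨ν, hν⟩ := exists_not_isSquare h2
    have hν0 : ν ≠ 0 := fun h => hν (h ▸ IsSquare.zero)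
    have hd : b - a ^ 2 / 4 ≠ 0 := fun h => by
      have h4 : (4 : F) ≠ 0 := by
        intro h4; apply h2; have : (2 : F) * 2 = 0 := by rw [← h4]; norm_num
        simpa using this
      refine one_ne_zero (hab (-a / 2) 1 ?_).2
      field_simp at h ⊢
      linear_combination h
    obtain ⟨x, y, hxy⟩ := FiniteField.exists_root_sum_quadratic (f := Polynomial.X ^ 2)
      (g := Polynomial.C (b - a ^ 2 / 4) * Polynomial.X ^ 2 - Polynomial.C ν)
      (Polynomial.degree_X_pow 2)
      ((Polynomial.degree_sub_eq_left_of_degree_lt (by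
        rw [Polynomial.degree_C_mul_X_pow 2 hd]
        exact Polynomial.degree_C_le.trans_lt (by decide))).trans (Polynomial.degree_C_mul_X_pow 2 hd))
      (Nat.odd_iff.1 hodd)
    simp only [Polynomial.eval_pow, Polynomial.eval_X, Polynomial.eval_sub, Polynomial.eval_mul, Polynomial.eval_C] at hxy
    set w₁ := x - a / 2 * y with hw₁
    have hnorm : w₁ ^ 2 + a * w₁ * y + b * y ^ 2 = ν := by
      rw [hw₁]
      have h22 : (2 : F) * 2 = 4 := by norm_num
      have h4 : (4 : F) ≠ 0 := h22 ▸ mul_ne_zero h2 h2
      field_simp at hxy ⊢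
      linear_combination hxy
    refine klein (Q := formMinus F m a b) (formMinus_nondeg (F := F) m hab) h2 (m := m + 1) (by simp; omega) (by simp; omega) ?_
    obtain ⟨g, c, rfl, hg⟩ := exists_sim_of_linear (formMinus_nondeg (F := F) m hab) (Units.mk0 ν hν0)
      { toFun := fun v => Sum.elim (Sum.elim (fun i => ν * v (.inl (.inl i))) (fun i => v (.inl (.inr i))))
          ![v (.inr 0) * w₁ - b * v (.inr 1) * y, v (.inr 0) * y + v (.inr 1) * w₁ + a * v (.inr 1) * y]
        map_add' := fun v w => by
          funext s; rcases s with (i | i) | j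
          · simp [mul_add]
          · simp
          · fin_cases j <;> simp <;> ring
        map_smul' := fun k v => by
          funext s; rcases s with (i | i) | j
          · simp [mul_left_comm]
          · simp
          · fin_cases j <;> simp <;> ring }
      (fun v => by
        simp only [formMinus_coe, Cfsg.quadFormMinus, LinearMap.coe_mk, AddHom.coe_mk, Sum.elim_inl, Sum.elim_inr,
          Matrix.cons_val_zero, Matrix.cons_val_one, Units.val_mk0]
        conv_rhs => rw [mul_add, Finset.mul_sum]
        congr 1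
        · exact Finset.sum_congr rfl fun i _ => mul_assoc _ _ _
        · rw [← hnorm]; ring)
    exact ⟨g, _, hν, hg⟩

end Cfsg.Agent.S2726
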