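import Cfsg.Statements.S2728
import Cfsg.Agent.H58.OrthoWitness

set_option autoImplicit false
set_option maxHeartbeats 2000000
open Cfsg

namespace Cfsg.Agent.S2728

/-- Let T = PΩ⁻_{2m+2}(F) with m ≥ 3 and |F| = q odd (form with anisotropic binary part). The image G̃ of the conformal orthogonal group in Aut(T), taken modulo the inner automorphism group T, is dihedral of order 8 when m is even and q ≡ 3 (mod 4), and elementary abelian of order 4 otherwise. -/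
theorem result {F : Type*} [Field F] [Fintype F] (hodd : Odd (Fintype.card F)) {m : ℕ} (hm : 3 ≤ m) (a b : F) (hab : (∀ z₁ z₂ : F, z₁ ^ 2 + a * z₁ * z₂ + b * z₂ ^ 2 = 0 → z₁ = 0 ∧ z₂ = 0)) :
    ((Even m ∧ Fintype.card F % 4 = 3) → (∃ φ : ↥(Cfsg.pgoAut F (Cfsg.quadFormMinus m F a b)) →* DihedralGroup 4, Function.Surjective φ ∧ φ.ker = (Cfsg.Inn (Cfsg.POmega F (Cfsg.quadFormMinus m F a b))).subgroupOf (Cfsg.pgoAut F (Cfsg.quadFormMinus m F a b)))) ∧ (¬ (Even m ∧ Fintype.card F % 4 = 3) → (∃ φ : ↥(Cfsg.pgoAut F (Cfsg.quadFormMinus m F a b)) →* Multiplicative (ZMod 2 × ZMod 2), Function.Surjective φ ∧ φ.ker = (Cfsg.Inn (Cfsg.POmega F (Cfsg.quadFormMinus m F a b))).subgroupOf (Cfsg.pgoAut F (Cfsg.quadFormMinus m F a b)))) := by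
  have H := Cfsg.Agent.H58.OrthoWitness.setup_minus hodd hm hab
  obtain ⟨f1, f2⟩ := Cfsg.Agent.H58.OrthoWitness.sqSign_neg_one_pow hodd (m + 1)
  have e := Cfsg.Agent.H52.OrthoRank.negSign_minus F m H.two hab
  obtain ⟨g, s, d, hg, hd, hs, hgs⟩ := Cfsg.Agent.H58.OrthoWitness.minus hodd hab H
  refine ⟨fun h => H.pgo_dihedral (e.trans (by rw [f1 ⟨h.1.add_one, h.2⟩, neg_neg])) ⟨g, hg⟩,
    fun h => Cfsg.Agent.H58.OrthoWitness.pgo_klein H (e.trans (by rw [f2 fun h' => h ⟨by simpa [Nat.odd_add_one] using h'.1, h'.2⟩])) hg⟩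

end Cfsg.Agent.S2728
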