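import Cfsg.Statements.S2730
import Cfsg.Agent.H58.PSpFieldBalance

set_option autoImplicit false
open Cfsg

namespace Cfsg.Agent.S2730

/-- A criterion for the failure of local balance in almost simple groups whose socle is a projective symplectic group PSp_{2m}(F) (m ≥ 2, (2m, |F|) ≠ (4, 2)). Let F be a finite field of characteristic r and K the (simple) group in question; let A be a group of automorphisms of K containing all inner automorphisms, and x ∈ A an automorphism of prime order p ≠ r that is not inner-diagonal (not induced by a conformal symplectic matrix). Then the largest normal subgroup of C_A(x) of order prime to p is nontrivial if and only if x is a field automorphism of K (conjugate under Aut(K) to a non-identity standard field automorphism) and p does not divide the number of fixed points of x on K. -/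
theorem result {F : Type*} [Field F] [Fintype F] {r : ℕ} [Fact r.Prime] [CharP F r] {m : ℕ} (hm : 2 ≤ m) (hs : m = 2 → 3 ≤ Fintype.card F) (hK : IsSimpleGroup (Cfsg.PSp m F)) (A : Subgroup (MulAut (Cfsg.PSp m F))) (hinn : ∀ k : Cfsg.PSp m F, MulAut.conj k ∈ A) {p : ℕ} [Fact p.Prime] (hpr : p ≠ r) (x : MulAut (Cfsg.PSp m F)) (hxA : x ∈ A) (hord : orderOf x = p) (hnot : ¬ Cfsg.IsInnerDiagonalAutPSp x) :
    Cfsg.pPrimeCore p ↥(A ⊓ Subgroup.centralizer {x}) ≠ ⊥ ↔ (Cfsg.IsFieldAutClassPSp x ∧ Nat.Coprime p (Nat.card ↥(MonoidHom.eqLocus x.toMonoidHom (MonoidHom.id (Cfsg.PSp m F))))) := by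
  open Cfsg.Agent.H58.LocalBalance Cfsg.Agent.Symplectic Cfsg.Agent.H99.SympField Cfsg.Agent.H58.Descent in
  · have hp := (Fact.out : p.Prime)
    have hr := (Fact.out : r.Prime)
    have : (Cfsg.Inn (Cfsg.PSp m F)).Normal := inn_normal
    have hle : Cfsg.Inn (Cfsg.PSp m F) ≤ A := by
      rintro _ ⟨k, rfl⟩
      exact hinn k
    have hinj : Function.Injective (MulAut.conj : Cfsg.PSp m F →* MulAut (Cfsg.PSp m F)) := by
      rw [injective_iff_map_eq_one]
      intro k hk
      obtain ⟨s, rfl⟩ := psp_surjective k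
      rw [conj_psp, jAut_eq_one_iff (p := r) (by omega)] at hk
      obtain ⟨c, hc⟩ := hk
      exact psp_eq_one.2 ((Symplectic.mem_center_iff s).2
        ⟨c, fun w => by rw [← scalar_mulVec c w, ← ofSp_coe s, hc, sc_coe]⟩)
    obtain ⟨g, σ, rfl⟩ := H58.PSpFieldBalance.exists_semiPSp_of_odd (r := r) hm x (by
      rw [hord]
      rcases hp.eq_two_or_odd' with h | h
      · exact Or.inl fun _ h2 => hpr (h.trans h2.symm)
      · exact Or.inr h)
    have hsplit : semiPSp g σ = jAut g * fld σ := by
      rw [jAut_apply, fld_apply, semiPSp_mul]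
      congr 1
      rw [show gspMap (RingEquiv.refl F) (1 : Cfsg.GSp m F) = 1 from Subtype.ext (Units.ext (Matrix.map_id _)),
        mul_one]
    have hσne : σ ≠ 1 := fun h => hnot ⟨g.1, g.2, by rw [h]; exact isInduced_semiPSp g (RingEquiv.refl F)⟩
    have hpow : (jAut g * fld σ) ^ p = 1 := by rw [← hsplit, ← hord]; exact pow_orderOf_eq_one _
    have hσp : orderOf σ = p := by
      refine orderOf_eq_prime ?_ hσne
      have h1 := hpow
      rw [H58.Twist.mul_pow_eq jAut (th σ) (fld σ) (fld_conj σ), ← map_pow, jAut_apply, fld_apply, semiPSp_mul] at h1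
      exact (H99.SympField.eq_of_semiPSp_eq_one (p := r) (by omega) h1).1
    obtain ⟨B, hB⟩ := H99.SympField.field_coset (p := r) (by omega) g (σ := σ) (by rw [hσp]; exact hpow)
    rw [← hsplit] at hB
    have hclass : Cfsg.IsFieldAutClassPSp (semiPSp g σ) := by
      refine ⟨(jAut B)⁻¹, σ, hσne, ?_⟩
      rw [hB, show (jAut B)⁻¹ * (jAut B * fld σ * (jAut B)⁻¹) * ((jAut B)⁻¹)⁻¹ = fld σ by group]
      intro s s' hs
      exact isInduced_semiPSp (1 : Cfsg.GSp m F) σ s s' (by rw [hs]; simp)
    let : Fintype (FixedPoints.subfield (Subgroup.zpowers σ) F) := Fintype.ofFinite _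
    let e : FixedPoints.subfield (Subgroup.zpowers σ) F →+* F := (FixedPoints.subfield (Subgroup.zpowers σ) F).subtype
    have : CharP (FixedPoints.subfield (Subgroup.zpowers σ) F) r := (RingHom.charP_iff e e.injective r).2 inferInstance
    have he : ∀ a, σ (e a) = e a := fun a => (mem_fixedField σ).1 a.2
    have he' : ∀ a, σ a = a → ∃ b, e b = a := fun a ha => ⟨⟨a, (mem_fixedField σ).2 ha⟩, rfl⟩
    have hrp : ¬ p ∣ Fintype.card (FixedPoints.subfield (Subgroup.zpowers σ) F) := fun hd => by
      obtain ⟨f, -, hcard⟩ := FiniteField.card (FixedPoints.subfield (Subgroup.zpowers σ) F) r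
      rw [hcard] at hd
      exact hpr ((Nat.prime_dvd_prime_iff_eq hp hr).1 (hp.dvd_of_dvd_pow hd))
    have hne : Cfsg.Inn (Cfsg.PSp m F) ⊓ Subgroup.centralizer {semiPSp g σ} ≠ ⊥ := by
      rw [hB, centralizer_conj]
      exact fun h => H58.PSpFieldBalance.inf_ne_bot (r := r) e he (show 1 ≤ m by omega)
        ((Subgroup.map_eq_bot_iff_of_injective _ (MulEquiv.injective _)).1 h)
    rw [core_ne_bot_iff A hle hord hne ?_ ?_, ← card_inn_inf_centralizer hinj (semiPSp g σ)]
    · exact ⟨fun h => ⟨hclass, h⟩, fun h => h.2⟩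
    · intro hd
      rw [hB] at hd ⊢
      refine noPrimeSub_conj _ (H58.PSpFieldBalance.noPrimeSub (r := r) e he he' hm hrp ?_)
      rwa [centralizer_conj, Subgroup.card_map_of_injective (MulEquiv.injective _)] at hd
    · rw [hB]
      exact selfCent_conj _ (H58.PSpFieldBalance.selfCent (r := r) e he he' hm)

end Cfsg.Agent.S2730
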