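import Cfsg.Statements.S2738
import Cfsg.Agent.Linear.Order
import Cfsg.Agent.Linear.Generation

set_option autoImplicit false
open Cfsg
open scoped commutatorElement

namespace Cfsg.Agent.S2738

/-- The special linear group SL(3, 4) has centre of order 3 and does not split over it: no subgroup is a complement to the centre (so SL(3, 4) is a non-split central extension of PSL(3, 4) by a group of order 3). -/
theorem result (F : Type*) [Field F] [Fintype F] (hF : Fintype.card F = 4) : Nat.card ↥(Subgroup.center (Matrix.SpecialLinearGroup (Fin 3) F)) = 3 ∧ ¬ ∃ K : Subgroup (Matrix.SpecialLinearGroup (Fin 3) F), Subgroup.IsComplement' (Subgroup.center (Matrix.SpecialLinearGroup (Fin 3) F)) K := by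
  classical
  have hc : Nat.card ↥(Subgroup.center (Matrix.SpecialLinearGroup (Fin 3) F)) = 3 := by
    rw [Linear.card_center_SL, Fintype.card_fin, hF]; decide
  refine ⟨hc, ?_⟩
  rintro ⟨K, hK⟩
  have hsup := hK.sup_eq_top
  have hperf := Linear.commutator_SL_eq_top (ι := Fin 3) (F := F) (Or.inl (by simp))
  have hsurj : ∀ g : Matrix.SpecialLinearGroup (Fin 3) F, ∃ k ∈ K,
      ∃ z ∈ Subgroup.center (Matrix.SpecialLinearGroup (Fin 3) F), g = z * k := by
    intro g
    have : g ∈ Subgroup.center (Matrix.SpecialLinearGroup (Fin 3) F) ⊔ K := by rw [hsup]; trivial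
    obtain ⟨z, hz, k, hk, rfl⟩ := Subgroup.mem_sup_of_normal_left.1 this
    exact ⟨k, hk, z, hz, rfl⟩
  have htop : K = ⊤ := by
    rw [eq_top_iff, ← hperf, commutator_def, Subgroup.commutator_le]
    intro a _ b _
    obtain ⟨k, hk, z, hz, rfl⟩ := hsurj a
    obtain ⟨k', hk', z', hz', rfl⟩ := hsurj b
    have h1 : ∀ x, x * z = z * x := Subgroup.mem_center_iff.1 hz
    have h2 : ∀ x, x * z' = z' * x := Subgroup.mem_center_iff.1 hz'
    have e : ⁅z * k, z' * k'⁆ = ⁅k, k'⁆ := by
      simp only [commutatorElement_def]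
      have ha : ∀ y, z * k * y * (z * k)⁻¹ = k * y * k⁻¹ := fun y => by
        rw [← h1 k]; calc k * z * y * (k * z)⁻¹ = k * (z * y * z⁻¹) * k⁻¹ := by group
          _ = k * y * k⁻¹ := by rw [← h1 y, mul_inv_cancel_right]
      have hb : ∀ y, z' * k' * y * (z' * k')⁻¹ = k' * y * k'⁻¹ := fun y => by
        rw [← h2 k']; calc k' * z' * y * (k' * z')⁻¹ = k' * (z' * y * z'⁻¹) * k'⁻¹ := by group
          _ = k' * y * k'⁻¹ := by rw [← h2 y, mul_inv_cancel_right]
      calc z * k * (z' * k') * (z * k)⁻¹ * (z' * k')⁻¹ = k * (z' * k') * k⁻¹ * (z' * k')⁻¹ := by rw [ha]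
        _ = k * ((z' * k') * k⁻¹ * (z' * k')⁻¹) := by group
        _ = k * (k' * k⁻¹ * k'⁻¹) := by rw [hb]
        _ = k * k' * k⁻¹ * k'⁻¹ := by group
    rw [e]
    exact K.mul_mem (K.mul_mem (K.mul_mem hk hk') (K.inv_mem hk)) (K.inv_mem hk')
  have hdis := hK.disjoint
  rw [htop, disjoint_top] at hdis
  rw [hdis, Subgroup.card_bot] at hc
  omega

end Cfsg.Agent.S2738
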