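import Cfsg.Statements.S2751
import Cfsg.Agent.H88.GbBound
import Cfsg.Agent.Cores.PCore
-- import your own Cfsg.Agent.* helpers here

set_option autoImplicit false
set_option linter.style.haveILetI false
open Cfsg

namespace Cfsg.Agent.S2751

theorem card_core_eq {G H : Type*} [Group G] [Group H] (e : G ≃* H) :
    Nat.card (Cfsg.pCore 2 H) = Nat.card (Cfsg.pCore 2 G) := by
  rw [← Cfsg.Agent.Cores.pCore_map_mulEquiv e, Subgroup.card_map_of_injective]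
  exact e.injective

theorem six {G : Type*} [Group G] (M X : Subgroup G) (hle : M ≤ X)
    (hb : Nonempty (M ⧸ Cfsg.pCore 2 M ≃* Equiv.Perm (Fin 3))) :
    Nat.card (M.subgroupOf X) = 6 * Nat.card (Cfsg.pCoreOf 2 (M.subgroupOf X)) := by
  obtain ⟨e⟩ := hb
  rw [Cfsg.pCoreOf, Subgroup.card_map_of_injective (Subgroup.subtype_injective _),
    card_core_eq (Subgroup.subgroupOfEquivOfLe hle).symm,
    Nat.card_congr (Subgroup.subgroupOfEquivOfLe hle).toEquiv,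
    Subgroup.card_eq_card_quotient_mul_card_subgroup (Cfsg.pCore 2 M), Nat.card_congr e.toEquiv,
    Nat.card_perm, Nat.card_eq_fintype_card (α := Fin 3), Fintype.card_fin]
  rfl

/-- Goldschmidt's bound for amalgams of index (3, 3): let M₁ and M₂ be finite subgroups of a group G such that M₁ ⊓ M₂ is a Sylow 2-subgroup of both M₁ and M₂, each quotient Mᵢ / O₂(Mᵢ) is isomorphic to the symmetric group of degree 3, and no nontrivial subgroup of M₁ ⊓ M₂ is normal in both M₁ and M₂. Then M₁ ⊓ M₂ has order at most 2^7. -/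
theorem result {G : Type*} [Group G] (M₁ M₂ : Subgroup G) [Finite M₁] [Finite M₂] (ha₁ : ∃ P : Sylow 2 M₁, (P : Subgroup M₁) = (M₁ ⊓ M₂).subgroupOf M₁) (ha₂ : ∃ P : Sylow 2 M₂, (P : Subgroup M₂) = (M₁ ⊓ M₂).subgroupOf M₂) (hb₁ : Nonempty (M₁ ⧸ Cfsg.pCore 2 M₁ ≃* Equiv.Perm (Fin 3))) (hb₂ : Nonempty (M₂ ⧸ Cfsg.pCore 2 M₂ ≃* Equiv.Perm (Fin 3))) (hc : ∀ N : Subgroup G, N ≤ M₁ ⊓ M₂ → (N.subgroupOf M₁).Normal → (N.subgroupOf M₂).Normal → N = ⊥) : Nat.card ↥(M₁ ⊓ M₂) ≤ 2 ^ 7 := by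
  haveI : Fact (Nat.Prime 2) := ⟨Nat.prime_two⟩
  set X := M₁ ⊔ M₂ with hX
  have l₁ : M₁ ≤ X := le_sup_left
  have l₂ : M₂ ≤ X := le_sup_right
  set P₁ := M₁.subgroupOf X with hP1
  set P₂ := M₂.subgroupOf X with hP2
  haveI f₁ : Finite P₁ := Finite.of_equiv _ (Subgroup.subgroupOfEquivOfLe l₁).symm.toEquiv
  haveI f₂ : Finite P₂ := Finite.of_equiv _ (Subgroup.subgroupOfEquivOfLe l₂).symm.toEquiv
  have hT : P₁ ⊓ P₂ = (M₁ ⊓ M₂).subgroupOf X := rfl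
  have hcT : Nat.card ↥(P₁ ⊓ P₂) = Nat.card ↥(M₁ ⊓ M₂) := by
    rw [hT]; exact Nat.card_congr (Subgroup.subgroupOfEquivOfLe (inf_le_left.trans l₁)).toEquiv
  have hsyl : ∀ (M : Subgroup G) [Finite M], M ≤ X → M₁ ⊓ M₂ ≤ M →
      (∃ P : Sylow 2 M, (P : Subgroup M) = (M₁ ⊓ M₂).subgroupOf M) →
      Nat.card ↥(M₁ ⊓ M₂) = 2 ^ (Nat.card (M.subgroupOf X)).factorization 2 := by
    rintro M _ hMX hTM ⟨P, hP⟩
    rw [Nat.card_congr (Subgroup.subgroupOfEquivOfLe hMX).toEquiv, ← P.card_eq_multiplicity]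
    exact (Nat.card_congr ((Subgroup.subgroupOfEquivOfLe hTM).symm.trans
      (MulEquiv.subgroupCongr hP.symm)).toEquiv)
  have h6₁ := six M₁ X l₁ hb₁
  have h6₂ := six M₂ X l₂ hb₂
  have s₁ : Cfsg.Agent.H58.IsSylIn 2 (P₁ ⊓ P₂) P₁ :=
    ⟨inf_le_left, hcT.trans (hsyl M₁ l₁ inf_le_left ha₁)⟩
  have s₂ : Cfsg.Agent.H58.IsSylIn 2 (P₁ ⊓ P₂) P₂ :=
    ⟨inf_le_right, hcT.trans (hsyl M₂ l₂ inf_le_right ha₂)⟩
  -- a subgroup of order divisible by three is not contained in a two-group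
  have hproper : ∀ P : Subgroup X, P ≤ P₁ ⊓ P₂ → Finite P → ∀ n, Nat.card P ≠ 6 * n := by
    intro P hP _ n hn
    haveI : Finite ↥(P₁ ⊓ P₂) := Finite.of_injective _ (Subgroup.inclusion_injective inf_le_left)
    have h1 := Subgroup.card_dvd_of_le hP
    rw [s₁.2, hn] at h1
    have := Nat.prime_three.dvd_of_dvd_pow ((Dvd.intro (2 * n) (by ring)).trans h1)
    omega
  have hne₁ : P₁ ≠ ⊤ := fun h =>
    hproper P₂ (le_inf (h ▸ le_top) le_rfl) f₂ _ h6₂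
  have hne₂ : P₂ ≠ ⊤ := fun h =>
    hproper P₁ (le_inf le_rfl (h ▸ le_top)) f₁ _ h6₁
  have hsup : P₁ ⊔ P₂ = ⊤ := by
    rw [hP1, hP2, ← Subgroup.subgroupOf_sup l₁ l₂, ← hX, Subgroup.subgroupOf_self]
  have hfaith : ∀ N : Subgroup X, N ≤ P₁ ⊓ P₂ → N.Normal → N = ⊥ := by
    intro N hN hn
    have hle : N.map X.subtype ≤ M₁ ⊓ M₂ := by
      rintro _ ⟨x, hx, rfl⟩
      exact hN hx
    have hnorm : ∀ M : Subgroup G, M ≤ X → ((N.map X.subtype).subgroupOf M).Normal := fun M hM => by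
      refine ⟨fun x hx g => ?_⟩
      obtain ⟨y, hy, hye⟩ := hx
      refine ⟨_, hn.conj_mem y hy ⟨g, hM g.2⟩, ?_⟩
      simp [show (y : G) = x from hye]
    have h := hc _ hle (hnorm M₁ l₁) (hnorm M₂ l₂)
    rw [Subgroup.eq_bot_iff_forall] at h ⊢
    exact fun x hx => Subtype.ext (h x ⟨x, hx, rfl⟩)
  have hcub : Cfsg.Agent.H88.Am.Cub P₁ P₂ :=
    ⟨⟨hsup, hne₁, hne₂, hfaith⟩, f₁, f₂, h6₁, h6₂, s₁, s₂⟩
  rw [← hcT]
  exact hcub.bound.trans (by norm_num)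

end Cfsg.Agent.S2751
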