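import Cfsg.Statements.S2752
import Cfsg.Agent.Thompson.PieceRatio
import Cfsg.Agent.Thompson.PieceConj
-- import your own Cfsg.Agent.* helpers here

set_option autoImplicit false
universe u
open Cfsg

namespace Cfsg.Agent.S2752

/-- Let M be an elementary abelian 2-subgroup of a finite group L and G a subgroup of L acting faithfully on M by conjugation (G normalizes M and meets C(M) trivially). Assume O₂(G) = 1, the symmetric group of degree 3 is not involved in G, and every non-abelian composition factor of G is a Suzuki group Sz(2^(2n+1)) or a group PSL₂(3^(2n+1)). Then every elementary abelian 2-subgroup A of G satisfies |M / C_M(A)| ≥ |A|² and |[M, A]| ≥ |A|². -/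
theorem result {L : Type u} [Group L] [Finite L] (M G : Subgroup L) (hM : Cfsg.IsElementaryAbelian 2 M) (hGM : G ≤ Subgroup.normalizer (M : Set L)) (hf : G ⊓ Subgroup.centralizer (M : Set L) = ⊥) (ha : Cfsg.pCore 2 ↥G = ⊥) (hb : ¬ Cfsg.Involves (Equiv.Perm (Fin 3)) ↥G) (hc : Cfsg.IsCompositionKGroupWith Cfsg.IsSuzukiOrPSL2OddPowerThree ↥G) (A : Subgroup L) (hA : A ≤ G) (hAe : Cfsg.IsElementaryAbelian 2 A) : Nat.card A ^ 2 * Nat.card ↥(M ⊓ Subgroup.centralizer (A : Set L)) ≤ Nat.card M ∧ Nat.card A ^ 2 ≤ Nat.card ↥⁅M, A⁆ := by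
  haveI : Fact (Nat.Prime 2) := ⟨Nat.prime_two⟩
  have hMel : ∀ x ∈ M, x * x = 1 := fun x hx => by rw [← sq]; exact hM.2 x hx
  set ρ := Thompson.Pc.modRep G M hMel hGM with hρdef
  have hρ : Function.Injective ρ := by
    refine (injective_iff_map_eq_one ρ).mpr fun g hg => Subtype.ext ?_
    have hmem : (g : L) ∈ G ⊓ Subgroup.centralizer (M : Set L) := by
      refine ⟨g.2, Subgroup.mem_centralizer_iff.mpr fun x hx => ?_⟩
      have h := congrArg (fun e : AddMonoid.End (Thompson.Pc.Mod2 M hMel) =>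
        (e (Thompson.Pc.Mod2.mk x hx)).val) hg
      have h' : (g : L) * x * (g : L)⁻¹ = x := h
      exact (mul_inv_eq_iff_eq_mul.mp h').symm
    rw [hf] at hmem
    exact Subgroup.mem_bot.mp hmem
  have hinv : ¬ Thompson.Par.Inv3 G := fun h => hb (Thompson.Pc.involves_of_inv3 h)
  have hex := fun (B : Subgroup G) hB hne =>
    Thompson.Pc.exists_piece ha hinv (Thompson.Pc.goodFac_of_compositionK hc) (A := B) hB hne
  set A' := A.subgroupOf G with hA'
  have hA'el : Thompson.Par.El A' := fun a haA => Subtype.ext (by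
    have := hAe.2 a.1 haA
    rwa [sq] at this)
  have hcardA : Nat.card A' = Nat.card A :=
    Nat.card_congr (Subgroup.subgroupOfEquivOfLe hA).toEquiv
  obtain ⟨a, haa⟩ := IsPGroup.iff_card.mp hA'el.isPGroup
  have hV : ∀ w : Thompson.Pc.Mod2 M hMel, w + w = 0 := Thompson.Pc.Mod2.add_self
  have h1 := Thompson.Pc.codim_two hV hρ hex A' hA'el a haa
  have h2 := Thompson.Pc.comm_two hV hρ hex hA'el haa
  rw [← hcardA, haa, ← pow_mul, mul_comm a 2]
  have hfix : Nat.card (Thompson.Off.fixV ρ A') = Nat.card ↥(M ⊓ Subgroup.centralizer (A : Set L)) := by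
    refine Nat.card_congr
      { toFun := fun w => ⟨w.1.val, w.1.val_mem, Subgroup.mem_centralizer_iff.mpr fun x hx => ?_⟩
        invFun := fun x => ⟨Thompson.Pc.Mod2.mk x.1 x.2.1, fun g hg => Thompson.Pc.Mod2.val_injective ?_⟩
        left_inv := fun w => rfl
        right_inv := fun x => rfl }
    · have h := congrArg Thompson.Pc.Mod2.val (w.2 ⟨x, hA hx⟩ hx)
      have h' : x * w.1.val * x⁻¹ = w.1.val := h
      exact mul_inv_eq_iff_eq_mul.mp h'
    · show (g : L) * x.1 * (g : L)⁻¹ = x.1
      rw [Subgroup.mem_centralizer_iff.mp x.2.2 g.1 hg, mul_inv_cancel_right]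
  refine ⟨?_, ?_⟩
  · rw [← hfix, Thompson.GenOff.card_eq_two_pow hV, ← Thompson.Pc.card_mod2 (hM := hMel),
      ← AddSubgroup.card_top (G := Thompson.Pc.Mod2 M hMel), Thompson.GenOff.card_eq_two_pow hV, ← pow_add]
    exact Nat.pow_le_pow_right (by norm_num) (by omega)
  · refine le_trans ((Nat.pow_le_pow_right (by norm_num) h2).trans_eq
      (Thompson.GenOff.card_eq_two_pow hV _).symm) ?_
    have hmem : ∀ w ∈ Thompson.Pc.comV ρ A', w.val ∈ ⁅M, A⁆ := by
      intro w hw
      induction hw using AddSubgroup.closure_induction with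
      | mem w hw =>
        obtain ⟨x, hx, u, rfl⟩ := hw
        rw [Thompson.Pc.Mod2.val_sub]
        show (x : L) * u.val * (x : L)⁻¹ * u.val⁻¹ ∈ _
        rw [Subgroup.commutator_comm]
        exact Subgroup.commutator_mem_commutator (show (x : L) ∈ A from hx) u.val_mem
      | zero => exact one_mem _
      | add p q _ _ hp hq => exact mul_mem hp hq
      | neg p _ hp => exact inv_mem hp
    exact Nat.card_le_card_of_injective (fun w => (⟨w.1.val, hmem w.1 w.2⟩ : (⁅M, A⁆ : Subgroup L)))
      fun p q h => Subtype.ext (Thompson.Pc.Mod2.val_injective (congrArg (fun z : (⁅M, A⁆ : Subgroup L) => (z : L)) h))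


end Cfsg.Agent.S2752
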