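import Cfsg.Statements.S2756
import Cfsg.Agent.H61.TwoClosed

set_option autoImplicit false
open Cfsg

namespace Cfsg.Agent.S2756

/-- For a finite group G the following are equivalent: (a) G has a normal Sylow 2-subgroup; (b) for every odd prime q dividing the order of G and every Sylow q-subgroup T, the normalizer of Z(J(T)) has a normal Sylow 2-subgroup; (c) for every odd prime q and every Sylow q-subgroup T, no nonidentity element of T is inverted by an element of the normalizer of Z(J(T)). Here J(T) is the Thompson subgroup generated by the abelian subgroups of T of largest order. Stated as the two equivalences (a) ⇔ (b) and (a) ⇔ (c). -/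
theorem result {G : Type*} [Group G] [Finite G] : ((∀ P : Sylow 2 G, (P : Subgroup G).Normal) ↔ ∀ (q : ℕ) [Fact q.Prime], q ≠ 2 → q ∣ Nat.card G → ∀ T : Sylow q G, ∀ P : Sylow 2 ↥(Subgroup.normalizer (Cfsg.centerThompsonAOf (T : Subgroup G) : Set G)), (P : Subgroup ↥(Subgroup.normalizer (Cfsg.centerThompsonAOf (T : Subgroup G) : Set G))).Normal) ∧ ((∀ P : Sylow 2 G, (P : Subgroup G).Normal) ↔ ∀ (q : ℕ) [Fact q.Prime], q ≠ 2 → ∀ T : Sylow q G, ∀ x ∈ (T : Subgroup G), x ≠ 1 → ∀ g ∈ Subgroup.normalizer (Cfsg.centerThompsonAOf (T : Subgroup G) : Set G), g * x * g⁻¹ ≠ x⁻¹) := by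
  classical
  haveI : Fact (Nat.Prime 2) := ⟨Nat.prime_two⟩
  -- a normal Sylow 2-subgroup passes to subgroups
  have hsub : (∀ P : Sylow 2 G, (P : Subgroup G).Normal) →
      ∀ (H : Subgroup G) (P : Sylow 2 ↥H), (P : Subgroup ↥H).Normal := by
    intro h H P
    obtain ⟨P0⟩ := (inferInstance : Nonempty (Sylow 2 G))
    haveI := h P0
    have hN : ((P0 : Subgroup G).subgroupOf H).Normal := inferInstance
    have hp : IsPGroup 2 ((P0 : Subgroup G).subgroupOf H) := P0.isPGroup'.comap_subtype
    obtain ⟨P1, hP1⟩ := ((P.isPGroup').map H.subtype).exists_le_sylow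
    haveI := Sylow.unique_of_normal P0 (h P0)
    rw [show P1 = P0 from Subsingleton.elim _ _] at hP1
    have he : (P0 : Subgroup G).subgroupOf H = (P : Subgroup ↥H) :=
      P.is_maximal' hp (fun x hx => hP1 ⟨x, hx, rfl⟩)
    exact he ▸ hN
  -- (b) gives cleanness of every `N(Z(J(T)))`, hence of `G`
  have hmain : (∀ (q : ℕ) [Fact q.Prime], q ≠ 2 → ∀ T : Sylow q G,
        Cfsg.Agent.H61.CleanOn q (Subgroup.normalizer (Cfsg.centerThompsonAOf (T : Subgroup G) : Set G))) →
      ∀ P : Sylow 2 G, (P : Subgroup G).Normal := by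
    intro h P
    refine Cfsg.Agent.H61.two_closed_of_clean (fun q _ hq => ?_) P
    obtain ⟨T⟩ := (inferInstance : Nonempty (Sylow q G))
    have h1 := h q hq T
    rw [Cfsg.Agent.Thompson.centerThompsonAOf_eq] at h1
    exact Cfsg.Agent.H61.clean_of_zjay_normalizer hq (Nat.card G) G le_rfl T h1
  refine ⟨⟨fun h q _ _ _ T P => hsub h _ P, fun h => hmain fun q _ hq T => ?_⟩,
    ⟨fun h q _ hq T x hxT hx g hg hinv => ?_, fun h => hmain fun q _ hq T => ?_⟩⟩
  · by_cases hd : q ∣ Nat.card G
    · exact Cfsg.Agent.H61.cleanOn_of_two_closed hq (h q hq hd T)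
    · exact Cfsg.Agent.H61.cleanOn_of_not_dvd hd _
  · have hc := Cfsg.Agent.H61.cleanOn_of_two_closed (H := (⊤ : Subgroup G)) hq (hsub h ⊤)
    obtain ⟨b, hb, hb2⟩ := Cfsg.Agent.H61.exists_odd_pow_isTwoEl g
    have hiter : ∀ n : ℕ, g ^ n * x * (g ^ n)⁻¹ = if Odd n then x⁻¹ else x := by
      intro n
      induction n with
      | zero => simp
      | succ n ih =>
        have e : g ^ (n + 1) * x * (g ^ (n + 1))⁻¹ = g * (g ^ n * x * (g ^ n)⁻¹) * g⁻¹ := by
          rw [pow_succ']; group
        rw [e, ih]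
        rcases Nat.even_or_odd n with hn | hn
        · rw [if_neg (Nat.not_odd_iff_even.mpr hn), if_pos hn.add_one, hinv]
        · rw [if_pos hn, if_neg (Nat.not_odd_iff_even.mpr hn.add_one), ← conj_inv, hinv, inv_inv]
    have hy := hiter b
    rw [if_pos hb] at hy
    have hqo : Odd q := (Fact.out : q.Prime).odd_of_ne_two hq
    have hzp : IsPGroup q (Subgroup.zpowers x) := T.isPGroup'.to_le (Subgroup.zpowers_le.mpr hxT)
    have hcen := hc (Subgroup.zpowers x) le_top hzp (g ^ b) trivial hb2 (by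
      refine Cfsg.Agent.H48.mem_normalizer_of_cj_eq ?_
      rw [Cfsg.Agent.H48.cj, MonoidHom.map_zpowers]
      show Subgroup.zpowers (g ^ b * x * (g ^ b)⁻¹) = Subgroup.zpowers x
      rw [hy, Subgroup.zpowers_inv])
    rw [← Subgroup.mem_centralizer_iff.mp hcen x (Subgroup.mem_zpowers x), mul_inv_cancel_right] at hy
    obtain ⟨i, hi⟩ := Cfsg.Agent.H61.exists_qPow hzp (Subgroup.mem_zpowers x)
    exact hx (Cfsg.Agent.H61.eq_one_of_qEl_of_pow_two (k := 1) hqo hi
      (by rw [pow_one, pow_two]; exact mul_eq_one_iff_eq_inv.mpr hy))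
  · exact Cfsg.Agent.H61.cleanOn_of_no_inversion hq T
      (le_trans Subgroup.le_normalizer (le_trans
        (le_of_eq_of_le rfl (Cfsg.Agent.Thompson.normalizer_le_normalizer_jay 0 (T : Subgroup G)))
        (by rw [Cfsg.Agent.Thompson.centerThompsonAOf_eq]
            exact Cfsg.Agent.Thompson.normalizer_jay_le_normalizer_zjay 0 (T : Subgroup G))))
      (fun x hxT hx g hg => h q hq T x hxT hx g hg)

end Cfsg.Agent.S2756
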