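import Cfsg.Statements.S2762
import Cfsg.Agent.H58.Qd

set_option autoImplicit false
open Cfsg

namespace Cfsg.Agent.S2762

/-- Structure of Qd over a finite field F of characteristic p (the affine subgroup of SL₃(F)): its largest normal p-subgroup is the group of translations (matrices with upper-left block the identity), the block-diagonal matrices form a complement isomorphic to SL₂(F), and the translation subgroup is a natural SL₂(F)-module for that complement. -/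
theorem result {F : Type*} [Field F] [Fintype F] {p : ℕ} [Fact p.Prime] [CharP F p] : (∀ M : ↥(Cfsg.qdOver F), M ∈ Cfsg.pCore p ↥(Cfsg.qdOver F) ↔ ((M : Matrix.SpecialLinearGroup (Fin 3) F) : Matrix (Fin 3) (Fin 3) F) 0 0 = 1 ∧ ((M : Matrix.SpecialLinearGroup (Fin 3) F) : Matrix (Fin 3) (Fin 3) F) 0 1 = 0 ∧ ((M : Matrix.SpecialLinearGroup (Fin 3) F) : Matrix (Fin 3) (Fin 3) F) 1 0 = 0 ∧ ((M : Matrix.SpecialLinearGroup (Fin 3) F) : Matrix (Fin 3) (Fin 3) F) 1 1 = 1) ∧ ∃ K : Subgroup ↥(Cfsg.qdOver F), (∀ M : ↥(Cfsg.qdOver F), M ∈ K ↔ ((M : Matrix.SpecialLinearGroup (Fin 3) F) : Matrix (Fin 3) (Fin 3) F) 0 2 = 0 ∧ ((M : Matrix.SpecialLinearGroup (Fin 3) F) : Matrix (Fin 3) (Fin 3) F) 1 2 = 0) ∧ K ⊓ Cfsg.pCore p ↥(Cfsg.qdOver F) = ⊥ ∧ K ⊔ Cfsg.pCore p ↥(Cfsg.qdOver F) = ⊤ ∧ Nonempty (↥K ≃* Matrix.SpecialLinearGroup (Fin 2) F) ∧ Cfsg.IsNaturalSL2Module F (Cfsg.pCore p ↥(Cfsg.qdOver F)) K := by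
  open Cfsg.Agent.H58.Qd in
  have hmain : (∀ M : ↥(Cfsg.qdOver F), M ∈ Cfsg.pCore p ↥(Cfsg.qdOver F) ↔
      toSL2 M = 1) := fun M => by rw [pCore_eq_trans]; rfl
  refine ⟨fun M => (hmain M).trans (H58.Qd.toSL2_eq_one_iff M), ?_⟩
  let sec : Matrix.SpecialLinearGroup (Fin 2) F →* ↥(Cfsg.qdOver F) :=
    { toFun := fun A => H58.Qd.mk A 0
      map_one' := H58.Qd.mk_one
      map_mul' := fun A B => by rw [H58.Qd.mk_mul, Matrix.mulVec_zero, add_zero] }
  have hsec : ∀ A, H58.Qd.toSL2 (sec A) = A := fun A => H58.Qd.toSL2_mk A 0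
  have hmem : ∀ M : ↥(Cfsg.qdOver F), M ∈ sec.range ↔
      H58.Qd.ent M 0 2 = 0 ∧ H58.Qd.ent M 1 2 = 0 := by
    intro M
    constructor
    · rintro ⟨A, rfl⟩; simp [sec]
    · rintro ⟨h0, h1⟩
      refine ⟨H58.Qd.toSL2 M, ?_⟩
      show H58.Qd.mk _ 0 = M
      conv_rhs => rw [H58.Qd.eq_mk M, h0, h1]
      congr 1
      ext i; fin_cases i <;> rfl
  set V := Cfsg.pCore p ↥(Cfsg.qdOver F) with hVdef
  have hV : V = H58.Qd.trans F := H58.Qd.pCore_eq_trans
  have hinj : Function.Injective sec := fun A B h => by rw [← hsec A, ← hsec B, h]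
  have hVn : V.Normal := inferInstance
  refine ⟨sec.range, hmem, ?_, ?_, ⟨(MonoidHom.ofInjective hinj).symm⟩, ?_⟩
  · rw [Subgroup.eq_bot_iff_forall]
    rintro x ⟨⟨A, rfl⟩, hx⟩
    have := (hmain _).1 hx
    rw [hsec] at this
    rw [this, map_one]
  · rw [eq_top_iff]
    intro M _
    have hd : (sec (H58.Qd.toSL2 M))⁻¹ * M ∈ V := (hmain _).2 (by rw [map_mul, map_inv, hsec, inv_mul_cancel])
    have : M = sec (H58.Qd.toSL2 M) * ((sec (H58.Qd.toSL2 M))⁻¹ * M) := by group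
    rw [this]
    exact Subgroup.mul_mem_sup ⟨_, rfl⟩ hd
  · refine ⟨fun x _ => Subgroup.normalizer_eq_top (H := V) ▸ Subgroup.mem_top x, ?_⟩
    have hv : ∀ v : V, ∃ w, (v : ↥(Cfsg.qdOver F)) = H58.Qd.mk 1 w := fun v =>
      (H58.Qd.mem_trans_iff _).1 (hV ▸ v.2)
    have hcoord : ∀ v : V, (v : ↥(Cfsg.qdOver F)) =
        H58.Qd.mk 1 ![H58.Qd.ent v.1 0 2, H58.Qd.ent v.1 1 2] := fun v => by
      conv_lhs => rw [H58.Qd.eq_mk v.1, (hmain v.1).1 v.2]
    have hmul : ∀ u w : V, ![H58.Qd.ent ((u * w : V) : ↥(Cfsg.qdOver F)) 0 2, H58.Qd.ent ((u * w : V) : ↥(Cfsg.qdOver F)) 1 2] =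
        ![H58.Qd.ent u.1 0 2, H58.Qd.ent u.1 1 2] + ![H58.Qd.ent w.1 0 2, H58.Qd.ent w.1 1 2] := by
      intro u w
      obtain ⟨a, ha⟩ := hv u
      obtain ⟨b, hb⟩ := hv w
      have : ((u * w : V) : ↥(Cfsg.qdOver F)) = H58.Qd.mk 1 (b + a) := by
        rw [Subgroup.coe_mul, ha, hb, H58.Qd.mk_mul, one_mul, Matrix.SpecialLinearGroup.coe_one,
          Matrix.one_mulVec]
      rw [this, ha, hb]
      ext i; fin_cases i <;> simp [add_comm]
    let ψ : Additive V ≃+ (Fin 2 → F) :=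
      { toFun := fun v => ![H58.Qd.ent (Additive.toMul v).1 0 2, H58.Qd.ent (Additive.toMul v).1 1 2]
        invFun := fun w => Additive.ofMul ⟨H58.Qd.mk 1 w, (hmain _).2 (H58.Qd.toSL2_mk 1 w)⟩
        left_inv := fun v => by
          apply Additive.toMul.injective
          exact Subtype.ext (hcoord (Additive.toMul v)).symm
        right_inv := fun w => by ext i; fin_cases i <;> simp
        map_add' := fun u w => hmul (Additive.toMul u) (Additive.toMul w) }
    refine ⟨H58.Qd.toSL2.comp sec.range.subtype, ψ, fun A => ⟨⟨sec A, A, rfl⟩, hsec A⟩, ?_, ?_⟩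
    · ext ⟨x, A, rfl⟩
      rw [MonoidHom.mem_ker, Subgroup.mem_subgroupOf, Subgroup.mem_centralizer_iff]
      simp only [MonoidHom.coe_comp, Subgroup.coe_subtype, Function.comp_apply, hsec]
      constructor
      · rintro rfl y _; simp
      · intro h
        have h' : ∀ w : Fin 2 → F, (A : Matrix (Fin 2) (Fin 2) F).mulVec w = w := by
          intro w
          have := h _ ((hmain _).2 (H58.Qd.toSL2_mk 1 w))
          simp only [sec, MonoidHom.coe_mk, OneHom.coe_mk, H58.Qd.mk_mul, one_mul, mul_one,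
            Matrix.SpecialLinearGroup.coe_one, Matrix.one_mulVec, zero_add, add_zero] at this
          have h2 := congrArg (fun M => ![H58.Qd.ent M 0 2, H58.Qd.ent M 1 2]) this
          simp only [H58.Qd.ent_mk_02, H58.Qd.ent_mk_12] at h2
          ext i
          have := congrFun h2 i
          fin_cases i <;> simpa using this.symm
        apply Matrix.SpecialLinearGroup.ext
        intro i j
        have := congrFun (h' (Pi.single j 1)) i
        simpa [Matrix.one_apply, Pi.single_apply] using this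
    · rintro ⟨l, A, rfl⟩ v
      refine ⟨⟨sec A * (v : ↥(Cfsg.qdOver F)) * (sec A)⁻¹, hVn.conj_mem _ v.2 _⟩, rfl, ?_⟩
      obtain ⟨w, hw⟩ := hv v
      have hinv : (sec A)⁻¹ = H58.Qd.mk A⁻¹ 0 := (map_inv sec A).symm
      show ![_, _] = _
      simp only [Additive.toMul, Additive.ofMul, ψ, AddEquiv.coe_mk, Equiv.coe_fn_mk, MonoidHom.coe_comp,
        Subgroup.coe_subtype, Function.comp_apply, hsec, hw, hinv]
      simp only [sec, MonoidHom.coe_mk, OneHom.coe_mk, H58.Qd.mk_mul, Matrix.mulVec_zero, add_zero, zero_add]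
      ext i; fin_cases i <;> simp [hw]

end Cfsg.Agent.S2762
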