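import Cfsg.Statements.S2766
import Cfsg.Agent.H31.PushUp.Maximal
import Cfsg.Agent.S2764
import Cfsg.Agent.Cores.AutomizerPrime

set_option autoImplicit false
open Cfsg

namespace Cfsg.Agent.S2766

open H31.PushUp in
theorem aux {H : Type*} [Group H] [Finite H] {p : ℕ} [Fact p.Prime] (hp : 5 ≤ p) (G : Subgroup H) (S : Sylow p G)
    (F : Type) [Field F] [Fintype F] {n : ℕ} (hn : 1 ≤ n) (hF : Fintype.card F = p ^ n) (P : PU S F)
    (hnorm : ∀ R : Subgroup G, R.Normal → IsPGroup p R → R ≠ ⊥ →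
      Subgroup.normalizer ((R.map G.subtype : Subgroup H) : Set H) = G)
    (hN : ¬ Subgroup.normalizer (((S : Subgroup G).map G.subtype : Subgroup H) : Set H) ≤ G) :
    ∃ G₀ E : Subgroup H, Cfsg.IsInternalDirectProduct G₀ E G ∧ Cfsg.IsElementaryAbelian p E ∧
      Nonempty (↥G₀ ≃* ↥(Cfsg.qdOver F)) := by
  rcases exists_cases P with ⟨⟨C⟩⟩ | ⟨⟨C⟩⟩
  swap
  · have := C.p_eq_three; omega
  obtain ⟨T⟩ := C.exists_inv hp
  obtain ⟨f⟩ := T.nonempty_equiv
  refine ⟨T.G0.map G.subtype, T.E.map G.subtype, ⟨Subgroup.map_subtype_le _, Subgroup.map_subtype_le _, ?_, ?_, ?_⟩,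
    (H31.elem_map_iff G.subtype_injective).mpr
      (H31.elem_mk (E_abelian T hn hF hnorm hN) fun e he => T.E_pow he),
    ⟨(Subgroup.equivMapOfInjective T.G0 G.subtype G.subtype_injective).symm.trans f⟩⟩
  · rintro _ ⟨x, hx, rfl⟩ _ ⟨y, hy, rfl⟩
    rw [← map_mul, ← map_mul, T.G0_comm_E hx hy]
  · rw [← Subgroup.map_inf _ _ _ G.subtype_injective, T.G0_inf_E, Subgroup.map_bot]
  · rw [← Subgroup.map_sup, T.G0_sup, ← MonoidHom.range_eq_map, Subgroup.range_subtype]

/-- Let p ≥ 5 be prime and G a maximal p-local subgroup of a finite group H (G is the normalizer of a nontrivial p-subgroup and lies in no other such normalizer). Suppose C_G(O_p(G)) ≤ O_p(G), G/K ≅ PSL₂(p^n) for some normal K and n ≥ 1, a Sylow p-subgroup S of G lies in exactly one maximal subgroup of G, and N_H(S) is not contained in G. Then G = G₀ × E for subgroups G₀ ≅ Qd(p^n) (the natural semidirect product of the plane over the field with p^n elements by SL₂)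 and E an elementary abelian p-group. -/
theorem result {H : Type*} [Group H] [Finite H] {p : ℕ} [Fact p.Prime] (hp : 5 ≤ p) (G : Subgroup H) (hloc : ∃ R : Subgroup H, IsPGroup p ↥R ∧ R ≠ ⊥ ∧ G = Subgroup.normalizer (R : Set H)) (hmax : ∀ R : Subgroup H, IsPGroup p ↥R → R ≠ ⊥ → G ≤ Subgroup.normalizer (R : Set H) → Subgroup.normalizer (R : Set H) = G) (S : Sylow p ↥G) (hE₁ : Subgroup.centralizer (Cfsg.pCore p ↥G : Set ↥G) ≤ Cfsg.pCore p ↥G) (hE₂ : ∃! M : Subgroup ↥G, IsCoatom M ∧ (S : Subgroup ↥G) ≤ M) (K : Subgroup ↥G) [K.Normal] (F : Type) [Field F] [Fintype F] (n : ℕ) (hn : 1 ≤ n) (hF : Fintype.card F = p ^ n) (hE₃ : Nonempty (↥G ⧸ K ≃* Matrix.ProjectiveSpecialLinearGroup (Fin 2) F)) (hN : ¬ Subgroup.normalizer (((S : Subgroup ↥G).map G.subtype : Subgroup H) : Set H) ≤ G) : ∃ G₀ E : Subgroup H, Cfsg.IsInternalDirectProduct G₀ E G ∧ Cfsg.IsElementaryAbelian p E ∧ Nonempty (↥G₀ ≃* ↥(Cfsg.qdOver F)) := by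
  have hnorm : ∀ R : Subgroup G, R.Normal → IsPGroup p R → R ≠ ⊥ →
      Subgroup.normalizer ((R.map G.subtype : Subgroup H) : Set H) = G := fun R hRn hRp hR => by
    refine hmax _ (hRp.map _) (fun h => hR ((Subgroup.map_eq_bot_iff_of_injective _ G.subtype_injective).mp h)) ?_
    intro g hg
    rw [← H60.cj_eq_self_iff]
    refine Subgroup.eq_of_le_of_card_ge ?_ (by rw [H60.card_cj])
    rintro _ ⟨_, ⟨x, hx, rfl⟩, rfl⟩
    exact ⟨⟨g, hg⟩ * x * ⟨g, hg⟩⁻¹, hRn.conj_mem x hx _, by simp⟩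
  have hd : ∀ T : Subgroup ↥(S : Subgroup G), T ≠ ⊥ → T.Characteristic →
      ¬ (T.map (S : Subgroup G).subtype).Normal := fun T hT hc hn' => by
    refine hN ?_
    refine le_trans ?_ (hnorm _ hn' ((S.2.to_subgroup T).map _)
      (fun h => hT ((Subgroup.map_eq_bot_iff_of_injective _ (S : Subgroup G).subtype_injective).mp h))).le
    let e0 := Subgroup.equivMapOfInjective (S : Subgroup G) G.subtype G.subtype_injective
    refine Cores.AutomizerPrime.charIn_normalizer_le ⟨Subgroup.map_mono (Subgroup.map_subtype_le T), fun e k hk => ?_⟩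
    obtain ⟨_, ⟨t, ht, rfl⟩, he⟩ := hk
    obtain rfl : k = e0 t := Subtype.ext he.symm
    have h := (Subgroup.characteristic_iff_map_eq.mp hc ((e0.trans e).trans e0.symm)).le ⟨t, ht, rfl⟩
    refine ⟨_, ⟨_, h, rfl⟩, ?_⟩
    show ((e0 (e0.symm (e (e0 t))) : ↥((S : Subgroup G).map G.subtype)) : H) = _
    rw [e0.apply_symm_apply]
  exact aux hp G S F hn hF (S2764.mkPU hE₁ hE₂ K F n hF hE₃ hd) hnorm hN

end Cfsg.Agent.S2766
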