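import Cfsg.Statements.S2772
import Cfsg.Agent.H19.Cubic.Swap
-- import your own Cfsg.Agent.* helpers here

set_option autoImplicit false
open Cfsg

namespace Cfsg.Agent.S2772

/-- Sims' Theorem in local form: let H be a finite non-abelian simple group and G a maximal subgroup of H with C_G(O₂(G)) ≤ O₂(G), such that N_H(S) is not contained in G for a Sylow 2-subgroup S of G and G/O₂(G) is dihedral of order 2q for a prime q. Then G is isomorphic to the symmetric group of degree 4 or to its direct product with a group of order 2. -/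
theorem result {H : Type*} [Group H] [Finite H] [IsSimpleGroup H] (hna : ¬ IsMulCommutative H) (G : Subgroup H) (hG : IsCoatom G) (hchar : Subgroup.centralizer (Cfsg.pCore 2 ↥G : Set ↥G) ≤ Cfsg.pCore 2 ↥G) (S : Sylow 2 ↥G) (hN : ¬ Subgroup.normalizer (((S : Subgroup ↥G).map G.subtype : Subgroup H) : Set H) ≤ G) (q : ℕ) (hq : q.Prime) (hD : Nonempty (↥G ⧸ Cfsg.pCore 2 ↥G ≃* DihedralGroup q)) : Nonempty (↥G ≃* Equiv.Perm (Fin 4)) ∨ Nonempty (↥G ≃* Equiv.Perm (Fin 4) × Multiplicative (ZMod 2)) := by
  haveI : Fact (Nat.Prime 2) := ⟨Nat.prime_two⟩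
  set SX : Subgroup H := (S : Subgroup ↥G).map G.subtype with hSX
  have hSG : SX ≤ G := Subgroup.map_subtype_le _
  have hS : (S : Subgroup ↥G) = SX.subgroupOf G :=
    (Subgroup.comap_map_eq_self_of_injective G.subtype_injective _).symm
  have hcard : Nat.card (↥G ⧸ Cfsg.pCore 2 ↥G) = 2 * q := by
    rw [Nat.card_congr hD.some.toEquiv, DihedralGroup.nat_card]
  have hq2 : q ≠ 2 := by
    rintro rfl
    -- then `G` is a 2-group equal to its 2-core
    have hG2 : IsPGroup 2 ↥G := by
      obtain ⟨a, ha⟩ := IsPGroup.iff_card.1 (H58.pCore_isPGroup (p := 2) (G := ↥G))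
      refine IsPGroup.of_card (n := a + 2) ?_
      rw [← (Cfsg.pCore 2 ↥G).card_mul_index, ha, Subgroup.index, hcard]
      ring
    have htop : Cfsg.pCore 2 ↥G = ⊤ :=
      top_le_iff.1 (le_sSup ⟨inferInstance, hG2.of_equiv Subgroup.topEquiv.symm⟩)
    have h1 : Nat.card (↥G ⧸ Cfsg.pCore 2 ↥G) = 1 := by
      show (Cfsg.pCore 2 ↥G).index = 1
      rw [htop, Subgroup.index_top]
    omega
  obtain ⟨h1, h2, h3⟩ := H19.Cubic.orders_of_quotient hSG q hq hq2 S hS hcard
  obtain ⟨n, hn, hnG⟩ := SetLike.not_le_iff_exists.1 hN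
  have hne : G.map (MulAut.conj n).toMonoidHom ≠ G := by
    intro e
    have hmem := H58.mem_normalizer_of_map_conj_eq e
    rcases hG.le_iff.1 (Subgroup.le_normalizer : G ≤ Subgroup.normalizer (G : Set H)) with h | h
    · rcases (Subgroup.normalizer_eq_top_iff.1 h).eq_bot_or_eq_top with h' | h'
      · have hbot : Subsingleton ↥G := by rw [h']; infer_instance
        have : Nat.card (↥G ⧸ Cfsg.pCore 2 ↥G) = 1 := Nat.card_of_subsingleton (1 : ↥G ⧸ _)
        rw [hcard] at this
        omega
      · exact hG.1 h'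
    · exact hnG (h ▸ hmem)
  have hsw : H19.Cubic.Swap G SX n := by
    refine ⟨?_, hn, ?_, ?_⟩
    · have hle : SX ≤ G ⊓ G.map (MulAut.conj n).toMonoidHom :=
        le_inf hSG ((H58.map_conj_eq_self hn).ge.trans (Subgroup.map_mono hSG))
      set T0 := G ⊓ G.map (MulAut.conj n).toMonoidHom
      have hmul : (SX.subgroupOf T0).index * (T0.subgroupOf G).index = q := by
        rw [← h2]; exact Subgroup.relIndex_mul_relIndex SX T0 G hle inf_le_left
      rcases hq.eq_one_or_self_of_dvd _ ⟨_, hmul.symm⟩ with h | h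
      · exact le_antisymm (Subgroup.subgroupOf_eq_top.1 (Subgroup.index_eq_one.1 h)) hle
      · exfalso
        rw [h] at hmul
        have h' : (T0.subgroupOf G).index = 1 :=
          Nat.eq_of_mul_eq_mul_left hq.pos (hmul.trans (mul_one q).symm)
        apply hne
        refine (Subgroup.eq_of_le_of_card_ge
          ((Subgroup.subgroupOf_eq_top.1 (Subgroup.index_eq_one.1 h')).trans inf_le_right) ?_).symm
        exact le_of_eq (Subgroup.card_map_of_injective (MulAut.conj n).injective)
    · by_contra h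
      apply hne
      have hle : G.map (MulAut.conj n).toMonoidHom ≤ G :=
        le_of_le_of_eq le_sup_right ((hG.le_iff.1 le_sup_left).resolve_left h)
      exact Subgroup.eq_of_le_of_card_ge hle
        (le_of_eq (Subgroup.card_map_of_injective (f := (MulAut.conj n).toMonoidHom)
          (MulAut.conj n).injective).symm)
    · intro N hNn hNS
      rcases hNn.eq_bot_or_eq_top with h | h
      · exact h
      · exact absurd (top_le_iff.1 (h ▸ hNS.trans hSG)) hG.1
  have hne' : SX ≠ ⊥ := by
    intro e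
    rw [e, Subgroup.card_bot] at h3
    omega
  refine hsw.iso q hq hq2 h1 hne' h2 h3 ?_
  rintro x ⟨hx, hxc⟩
  refine ⟨⟨x, hx⟩, hchar fun a ha => ?_, rfl⟩
  exact Subtype.ext (hxc (a : H) ⟨a, ha, rfl⟩)

end Cfsg.Agent.S2772
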