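import Cfsg.Statements.S2779
import Cfsg.Agent.H59.Natural

set_option autoImplicit false
open Cfsg

namespace Cfsg.Agent.S2779

open Subgroup

/-- Let L act on the elementary abelian p-group V (inside a finite group, by conjugation, faithfully) as SL₂(F) on its natural module, F a field with p^n elements, and let S be a Sylow p-subgroup of L. Then [V, S, S] = 1; |V| = p^(2n) and |C_V(S)| = p^n; and for every nonidentity s ∈ S and every v ∈ V outside C_V(S): C_V(s) = C_V(S) = [V, S] = [V, s] = the subgroup generated by the commutators [v, t], t ∈ S. -/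
theorem result {G : Type*} [Group G] [Finite G] {p : ℕ} [Fact p.Prime] {F : Type*} [Field F] [Fintype F] (n : ℕ) (hF : Fintype.card F = p ^ n) (V L : Subgroup G) (hnat : Cfsg.IsNaturalSL2Module F V L) (hf : L ⊓ Subgroup.centralizer (V : Set G) = ⊥) (S : Sylow p ↥L) (T : Subgroup G) (hT : T = ((S : Subgroup ↥L).map L.subtype)) : ⁅⁅V, T⁆, T⁆ = ⊥ ∧ Nat.card V = p ^ (2 * n) ∧ Nat.card ↥(V ⊓ Subgroup.centralizer ((T : Subgroup G) : Set G)) = p ^ n ∧ ∀ s ∈ T, s ≠ 1 → (V ⊓ Subgroup.centralizer ({s} : Set G)) = (V ⊓ Subgroup.centralizer ((T : Subgroup G) : Set G)) ∧ ⁅V, T⁆ = (V ⊓ Subgroup.centralizer ((T : Subgroup G) : Set G)) ∧ ⁅V, Subgroup.zpowers s⁆ = (V ⊓ Subgroup.centralizer ((T : Subgroup G) : Set G)) ∧ ∀ v ∈ V, v ∉ Subgroup.centralizer (T : Set G) → Subgroup.closure {x : G | ∃ t ∈ T, x = v * t * v⁻¹ * t⁻¹} = (V ⊓ Subgroup.centralizer ((T : Subgroup G) : Set G)) := by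
  obtain ⟨K⟩ := Cfsg.Agent.H59.exists_coords hF hnat hf S
  rw [← hT] at K
  have hVT : ⁅V, T⁆ = V ⊓ centralizer (T : Set G) := by
    apply le_antisymm
    · exact commutator_le.mpr fun x hx t ht => K.commutator_mem_fix ⟨x, hx⟩ ht
    · obtain ⟨v, -, hv⟩ := K.exists_not_fix 1 one_ne_zero
      rw [← K.closure_commutator v hv]
      refine (closure_le _).mpr ?_
      rintro _ ⟨t, ht, rfl⟩
      exact commutator_mem_commutator v.2 ht
  refine ⟨?_, ?_, ?_, fun s hs hs1 => ?_⟩
  · rw [hVT, commutator_eq_bot_iff_le_centralizer]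
    exact inf_le_right
  · rw [K.card_V, hF, ← pow_mul, mul_comm]
  · rw [K.card_fix, hF]
  set l : L := ⟨s, K.Tle hs⟩
  have hl : (l : G) ∈ T := hs
  have hb : ((K.ρ l : Matrix.SpecialLinearGroup (Fin 2) F) : Matrix (Fin 2) (Fin 2) F) 0 1 ≠ 0 := by
    intro h
    refine hs1 (congrArg Subtype.val (K.inj (a₁ := l) (a₂ := 1) (Subtype.ext ?_)))
    rw [map_one, Matrix.SpecialLinearGroup.coe_one, K.ρ_eq_upper hl, h, Matrix.one_fin_two]
  refine ⟨?_, hVT, ?_, fun v hv hv' => K.closure_commutator ⟨v, hv⟩ hv'⟩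
  · apply le_antisymm
    · intro v hv
      refine ⟨hv.1, (K.mem_fix_iff ⟨v, hv.1⟩).mpr ?_⟩
      have h := congrFun ((K.commute_iff l ⟨v, hv.1⟩).mp (hv.2 s rfl)) 0
      rw [K.ρ_eq_upper hl] at h
      simpa [dotProduct, Fin.sum_univ_two, hb] using h
    · exact inf_le_inf_left _ (centralizer_le (by simpa using hs))
  · apply le_antisymm
    · exact hVT ▸ commutator_mono le_rfl (zpowers_le.mpr hs)
    · intro w hw
      have hw1 := (K.mem_fix_iff ⟨w, hw.1⟩).mp hw.2
      obtain ⟨v, hv⟩ := K.e.surjective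
        ![0, -K.e ⟨w, hw.1⟩ 0 / ((K.ρ l : Matrix.SpecialLinearGroup (Fin 2) F) : Matrix (Fin 2) (Fin 2) F) 0 1]
      have h : (⟨w, hw.1⟩ : V) = ⟨_, K.commutator_mem v hs⟩ := by
        refine K.e.injective ?_
        rw [K.e_commutator v l hl (K.commutator_mem v hs), hv]
        ext i
        fin_cases i
        · simp [mul_div_cancel₀, hb]
        · simpa using hw1
      rw [show w = _ from congrArg Subtype.val h]
      exact commutator_mem_commutator v.2 (mem_zpowers s)

end Cfsg.Agent.S2779
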