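import Cfsg.Statements.S2780
import Cfsg.Agent.H59.Natural
import Cfsg.Agent.Linear.TwoTorus

set_option autoImplicit false
open Cfsg

namespace Cfsg.Agent.S2780

open Subgroup

/-- Let L act on the elementary abelian p-group V (inside a finite group, faithfully) as SL₂(F) on its natural module, F a field with p^n elements, S a Sylow p-subgroup of L. Then: for every g ∈ L not normalizing S, V is the internal direct product of C_V(S) and C_V(gSg⁻¹); every nonidentity element of L of order prime to p acts on V without nonidentity fixed points; and C_V(S) and V/C_V(S) are irreducible for N_L(S): the only N_L(S)-invariant subgroups of C_V(S) are 1 and C_V(S), and the only N_L(S)-invariant subgroups between C_V(S) and V are those two. -/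
theorem result {G : Type*} [Group G] [Finite G] {p : ℕ} [Fact p.Prime] {F : Type*} [Field F] [Fintype F] (n : ℕ) (hF : Fintype.card F = p ^ n) (V L : Subgroup G) (hnat : Cfsg.IsNaturalSL2Module F V L) (hf : L ⊓ Subgroup.centralizer (V : Set G) = ⊥) (S : Sylow p ↥L) (T : Subgroup G) (hT : T = ((S : Subgroup ↥L).map L.subtype)) : (∀ g ∈ L, g ∉ Subgroup.normalizer (T : Set G) → Cfsg.IsInternalDirectProduct (V ⊓ Subgroup.centralizer ((T : Subgroup G) : Set G)) (V ⊓ Subgroup.centralizer ((T.map (MulAut.conj g).toMonoidHom : Subgroup G) : Set G)) V) ∧ (∀ x ∈ L, x ≠ 1 → (orderOf x).Coprime p → (V ⊓ Subgroup.centralizer ({x} : Set G)) = ⊥) ∧ (∀ U : Subgroup G, U ≤ (V ⊓ Subgroup.centralizer ((T : Subgroup G) : Set G)) → L ⊓ Subgroup.normalizer (T : Set G) ≤ Subgroup.normalizer (U : Set G) → U = ⊥ ∨ U = (V ⊓ Subgroup.centralizer ((T : Subgroup G) : Set G))) ∧ (∀ U : Subgroup G, (V ⊓ Subgroup.centralizer ((T : Subgroup G) : Set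 G)) ≤ U → U ≤ V → L ⊓ Subgroup.normalizer (T : Set G) ≤ Subgroup.normalizer (U : Set G) → U = (V ⊓ Subgroup.centralizer ((T : Subgroup G) : Set G)) ∨ U = V) := by
  obtain ⟨K⟩ := Cfsg.Agent.H59.exists_coords hF hnat hf S
  rw [← hT] at K
  obtain ⟨hchar, -⟩ := Cfsg.Agent.H59.charP_of_card_eq hF
  have hup : ∀ l : L, ((K.ρ l : Matrix.SpecialLinearGroup (Fin 2) F) : Matrix (Fin 2) (Fin 2) F) 1 0 = 0 →
      (l : G) ∈ normalizer (T : Set G) := by
    intro l hl
    refine Subgroup.mem_normalizer_fintype fun t ht => ?_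
    have hdet := Cfsg.Agent.Linear.SL_det_two (K.ρ l)
    obtain ⟨i00, i11, i01, i10⟩ := Cfsg.Agent.Linear.SL_inv_entries (K.ρ l)
    obtain ⟨t10, t00, t11⟩ := (K.memT ⟨t, K.Tle ht⟩).mp ht
    have hmem := K.memT (l * ⟨t, K.Tle ht⟩ * l⁻¹)
    rw [map_mul, map_mul, map_inv, Matrix.SpecialLinearGroup.coe_mul, Matrix.SpecialLinearGroup.coe_mul] at hmem
    refine hmem.mpr ?_
    simp only [Matrix.mul_apply, Fin.sum_univ_two, i00, i11, i01, i10, hl, t10, t00, t11]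
    refine ⟨by ring, ?_, ?_⟩ <;> linear_combination hdet + ((K.ρ l : Matrix.SpecialLinearGroup (Fin 2) F) : Matrix (Fin 2) (Fin 2) F) 0 1 * hl
  have htor : ∀ k : F, k ≠ 0 → ∃ l : L, (l : G) ∈ L ⊓ normalizer (T : Set G) ∧
      ((K.ρ l : Matrix.SpecialLinearGroup (Fin 2) F) : Matrix (Fin 2) (Fin 2) F) = !![k, 0; 0, k⁻¹] := by
    intro k hk
    obtain ⟨l, hl⟩ := K.surj ⟨!![k, 0; 0, k⁻¹], by simp [Matrix.det_fin_two, hk]⟩
    exact ⟨l, ⟨l.2, hup l (by simp [hl])⟩, by simp [hl]⟩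
  have hcomm : ∀ a ∈ V, ∀ b ∈ V, a * b = b * a := fun a ha b hb =>
    congrArg Subtype.val (K.e.injective (a₁ := ⟨a, ha⟩ * ⟨b, hb⟩) (a₂ := ⟨b, hb⟩ * ⟨a, ha⟩)
      (by rw [K.e_mul, K.e_mul, add_comm]))
  have hact : ∀ U : Subgroup G, L ⊓ normalizer (T : Set G) ≤ normalizer (U : Set G) → ∀ u : V, (u : G) ∈ U →
      ∀ k : F, k ≠ 0 → ∃ w : V, (w : G) ∈ U ∧ K.e w = ![k * K.e u 0, k⁻¹ * K.e u 1] := by
    intro U hU u hu k hk
    obtain ⟨l, hl, hlm⟩ := htor k hk
    refine ⟨⟨_, (mem_normalizer_iff.mp (K.norm l.2) _).mp u.2⟩, (mem_normalizer_iff.mp (hU hl) _).mp hu, ?_⟩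
    rw [K.e_conj, hlm]
    ext i
    fin_cases i <;> simp [dotProduct, Fin.sum_univ_two]
  refine ⟨?_, ?_, ?_, ?_⟩
  · intro g hg hgN
    set l : L := ⟨g, hg⟩
    have hc : ((K.ρ l : Matrix.SpecialLinearGroup (Fin 2) F) : Matrix (Fin 2) (Fin 2) F) 1 0 ≠ 0 :=
      fun h => hgN (hup l h)
    set M := ((K.ρ l : Matrix.SpecialLinearGroup (Fin 2) F) : Matrix (Fin 2) (Fin 2) F)
    have himg : ∀ v : V, (v : G) ∈ centralizer (T.map (MulAut.conj g).toMonoidHom : Set G) ↔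
        ∃ a : F, K.e v = M.mulVec ![a, 0] := by
      intro v
      have key : (v : G) ∈ centralizer (T.map (MulAut.conj g).toMonoidHom : Set G) ↔
          g⁻¹ * (v : G) * g ∈ centralizer (T : Set G) := by
        simp only [mem_centralizer_iff, SetLike.mem_coe]
        refine ⟨fun h t ht => ?_, fun h x hx => ?_⟩
        · have e : g * t * g⁻¹ * v = v * (g * t * g⁻¹) := h _ (mem_map_of_mem _ ht)
          calc t * (g⁻¹ * v * g) = g⁻¹ * (g * t * g⁻¹ * v) * g := by group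
            _ = g⁻¹ * v * g * t := by rw [e]; group
        · obtain ⟨t, ht, rfl⟩ := hx
          have e := h t ht
          change g * t * g⁻¹ * v = v * (g * t * g⁻¹)
          calc g * t * g⁻¹ * v = g * (t * (g⁻¹ * v * g)) * g⁻¹ := by group
            _ = v * (g * t * g⁻¹) := by rw [e]; group
      have hw : g⁻¹ * (v : G) * g ∈ V := (mem_normalizer_iff''.mp (K.norm hg) _).mp v.2
      have hv : g * (g⁻¹ * (v : G) * g) * g⁻¹ ∈ V := by
        rw [show g * (g⁻¹ * (v : G) * g) * g⁻¹ = v by group]; exact v.2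
      have he : K.e v = M.mulVec (K.e ⟨_, hw⟩) := by
        rw [← K.e_conj l ⟨_, hw⟩ hv]
        exact congrArg K.e (Subtype.ext (by simp [l, mul_assoc]))
      rw [key, K.mem_fix_iff ⟨_, hw⟩]
      refine ⟨fun h => ⟨K.e ⟨_, hw⟩ 0, he.trans (congrArg _ ?_)⟩, fun ⟨a, ha⟩ => ?_⟩
      · ext i
        fin_cases i <;> simp [h]
      · have hinj : Function.Injective M.mulVec := Matrix.mulVec_injective_iff_isUnit.mpr (by
          rw [Matrix.isUnit_iff_isUnit_det, show M.det = 1 from Matrix.SpecialLinearGroup.det_coe _]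
          exact isUnit_one)
        rw [hinj (he.symm.trans ha)]
        rfl
    refine ⟨inf_le_left, inf_le_left, fun a ha b hb => hcomm a ha.1 b hb.1, ?_, ?_⟩
    · rw [eq_bot_iff]
      intro v hv
      obtain ⟨a, ha⟩ := (himg ⟨v, hv.1.1⟩).mp hv.2.2
      have h1 := (K.mem_fix_iff ⟨v, hv.1.1⟩).mp hv.1.2
      have h2 : a = 0 := by
        have h3 := congrFun ha 1
        rw [h1] at h3
        simpa [dotProduct, Fin.sum_univ_two, hc] using h3.symm
      have h0 : K.e ⟨v, hv.1.1⟩ = K.e 1 := by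
        rw [ha, h2, K.e_one]
        ext i
        fin_cases i <;> simp [dotProduct, Fin.sum_univ_two]
      exact congrArg Subtype.val (K.e.injective h0)
    · apply le_antisymm (sup_le inf_le_left inf_le_left)
      intro v hv
      obtain ⟨w, hw⟩ := K.e.surjective (M.mulVec ![K.e ⟨v, hv⟩ 1 / M 1 0, 0])
      have h1 : ((⟨v, hv⟩ * w⁻¹ : V) : G) ∈ centralizer (T : Set G) := by
        rw [K.mem_fix_iff, K.e_mul, K.e_inv, hw]
        simp [dotProduct, Fin.sum_univ_two, mul_div_cancel₀, hc]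
      have e : v = ((⟨v, hv⟩ * w⁻¹ : V) : G) * w := by simp
      rw [e]
      exact mul_mem (mem_sup_left ⟨SetLike.coe_mem _, h1⟩)
        (mem_sup_right ⟨w.2, (himg w).mpr ⟨_, hw⟩⟩)
  · intro x hx hx1 hcop
    rw [eq_bot_iff]
    intro v hv
    by_contra hv1
    have hfix := (K.commute_iff ⟨x, hx⟩ ⟨v, hv.1⟩).mp (hv.2 x rfl)
    set g := K.ρ ⟨x, hx⟩ with hg
    have hne : K.e ⟨v, hv.1⟩ ≠ 0 := fun h =>
      hv1 (congrArg Subtype.val (K.e.injective (h.trans K.e_one.symm)))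
    have hdet : ((g : Matrix (Fin 2) (Fin 2) F) - 1).det = 0 := by
      refine Matrix.exists_mulVec_eq_zero_iff.mp ⟨_, hne, ?_⟩
      rw [Matrix.sub_mulVec, hfix, Matrix.one_mulVec, sub_self]
    have htr : (g : Matrix (Fin 2) (Fin 2) F).trace = 2 := by
      have hd := Cfsg.Agent.Linear.SL_det_two g
      rw [Matrix.det_fin_two] at hdet
      simp at hdet
      rw [Matrix.trace_fin_two]
      linear_combination -hdet + hd
    have hp : (⟨x, hx⟩ : L) ^ p = 1 := K.inj (by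
      rw [map_pow, map_one, (Cfsg.Agent.Linear.pow_char_eq_one_iff p _).mpr htr])
    have hd : orderOf x ∣ p := orderOf_dvd_of_pow_eq_one (congrArg Subtype.val hp)
    exact hx1 (orderOf_eq_one_iff.mp (hcop.eq_one_of_dvd hd))
  · intro U hUC hU
    by_cases hbot : U = ⊥
    · exact Or.inl hbot
    obtain ⟨u, hu, hu1⟩ := (Subgroup.bot_or_exists_ne_one U).resolve_left hbot
    have huv : u ∈ V := (hUC hu).1
    have hu01 : K.e ⟨u, huv⟩ 1 = 0 := (K.mem_fix_iff ⟨u, huv⟩).mp (hUC hu).2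
    have hu00 : K.e ⟨u, huv⟩ 0 ≠ 0 := fun h => hu1 (congrArg Subtype.val (K.e.injective
      (show K.e ⟨u, huv⟩ = K.e 1 by rw [K.e_one]; ext i; fin_cases i <;> simp [h, hu01])))
    refine Or.inr (le_antisymm hUC fun v hv => ?_)
    have hv1 : K.e ⟨v, hv.1⟩ 1 = 0 := (K.mem_fix_iff ⟨v, hv.1⟩).mp hv.2
    by_cases hv0 : K.e ⟨v, hv.1⟩ 0 = 0
    · have : K.e ⟨v, hv.1⟩ = K.e 1 := by rw [K.e_one]; ext i; fin_cases i <;> simp [hv0, hv1]
      rw [show v = 1 from congrArg Subtype.val (K.e.injective this)]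
      exact one_mem U
    obtain ⟨w, hw, hwe⟩ := hact U hU ⟨u, huv⟩ hu (K.e ⟨v, hv.1⟩ 0 / K.e ⟨u, huv⟩ 0) (div_ne_zero hv0 hu00)
    have : w = ⟨v, hv.1⟩ := K.e.injective (by
      rw [hwe]; ext i; fin_cases i <;> simp [hv1, hu01, hu00])
    rw [this] at hw; exact hw
  · intro U hCU hUV hU
    by_cases hC : U ≤ V ⊓ centralizer (T : Set G)
    · exact Or.inl (le_antisymm hC hCU)
    obtain ⟨u, hu, hu'⟩ := SetLike.not_le_iff_exists.mp hC
    have hu01 : K.e ⟨u, hUV hu⟩ 1 ≠ 0 := fun h => hu' ⟨hUV hu, (K.mem_fix_iff ⟨u, hUV hu⟩).mpr h⟩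
    refine Or.inr (le_antisymm hUV fun v hv => ?_)
    by_cases hv1 : K.e ⟨v, hv⟩ 1 = 0
    · exact hCU ⟨hv, (K.mem_fix_iff ⟨v, hv⟩).mpr hv1⟩
    obtain ⟨w, hw, hwe⟩ := hact U hU ⟨u, hUV hu⟩ hu (K.e ⟨u, hUV hu⟩ 1 / K.e ⟨v, hv⟩ 1) (div_ne_zero hu01 hv1)
    have h1 : ((⟨v, hv⟩ * w⁻¹ : V) : G) ∈ U :=
      hCU ⟨SetLike.coe_mem _, (K.mem_fix_iff _).mpr (by
        rw [K.e_mul, K.e_inv, hwe]; simp [hu01])⟩
    have e : v = ((⟨v, hv⟩ * w⁻¹ : V) : G) * w := by simp
    rw [e]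
    exact mul_mem h1 hw

end Cfsg.Agent.S2780
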