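import Cfsg.Statements.S2781
import Cfsg.Agent.H59.Trace

set_option autoImplicit false
open Cfsg

namespace Cfsg.Agent.S2781

open Subgroup

/-- Let H act faithfully by conjugation on the elementary abelian p-subgroup V of a finite group, let O^p(H) be the subgroup of H generated by its elements of order prime to p, and T a Sylow p-subgroup of O^p(H). If V is generated by the H-conjugates of C_V(T) (V is the smallest H-invariant subgroup containing C_V(T)), then V = [V, O^p(H)]·C_V(O^p(H)). -/
theorem result {G : Type*} [Group G] [Finite G] {p : ℕ} [Fact p.Prime] (V H : Subgroup G) (hV : Cfsg.IsElementaryAbelian p V) (hHV : H ≤ Subgroup.normalizer (V : Set G)) (hf : H ⊓ Subgroup.centralizer (V : Set G) = ⊥) (R : Subgroup G) (hR : R = (Cfsg.pResidual p ↥H).map H.subtype) (S : Sylow p ↥R) (T : Subgroup G) (hT : T = ((S : Subgroup ↥R).map R.subtype)) (hgen : ∀ W : Subgroup G, H ≤ Subgroup.normalizer (W : Set G) → (V ⊓ Subgroup.centralizer ((T : Subgroup G) : Set G)) ≤ W → V ≤ W) : ⁅V, R⁆ ⊔ (V ⊓ Subgroup.centralizer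 ((R : Subgroup G) : Set G)) = V := by
  have hRH : R ≤ H := hR ▸ map_subtype_le _
  have hHR : H ≤ normalizer (R : Set G) := fun g hg => H59.mem_normalizer_of_forall fun u hu => by
    rw [hR] at hu ⊢
    obtain ⟨y, hy, rfl⟩ := hu
    exact ⟨⟨g, hg⟩ * y * ⟨g, hg⟩⁻¹, Normal.conj_mem inferInstance y hy _, rfl⟩
  have hRV : R ≤ normalizer (V : Set G) := hRH.trans hHV
  have hWV : ⁅V, R⁆ ≤ V := le_normalizer_iff_commutator_le_left.mp hRV
  refine le_antisymm (sup_le hWV inf_le_left) (hgen _ ?_ ?_)
  · intro g hg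
    rw [mem_normalizer_iff_map_conj_eq, Subgroup.map_sup, map_commutator,
      map_inf _ _ _ (MulEquiv.injective _), mem_normalizer_iff_map_conj_eq.mp (hHV hg),
      mem_normalizer_iff_map_conj_eq.mp (hHR hg),
      mem_normalizer_iff_map_conj_eq.mp
        ((H60.normalizer_le_normalizer_centralizer R) (hHR hg))]
  · rintro z ⟨hzV, hzT⟩
    obtain ⟨π, hπV, hπc, hπW⟩ := H59.exists_trace hV.1 hRV hzV (S := T)
      (fun s hs => hzT s hs) ⁅V, R⁆ fun x hx => commutator_mem_commutator hzV hx
    have hn : ¬ p ∣ T.relIndex R := by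
      have hTsub : T.subgroupOf R = (S : Subgroup R) := by
        rw [hT]; exact comap_map_eq_self_of_injective R.subtype_injective _
      rw [relIndex, hTsub]; exact S.not_dvd_index
    refine H59.mem_of_pow_mem (hV.2 z hzV) hn ?_
    have := mul_mem (mem_sup_left (T := V ⊓ centralizer (R : Set G)) hπW)
      (mem_sup_right (S := ⁅V, R⁆) (show π ∈ V ⊓ centralizer (R : Set G) from ⟨hπV, hπc⟩))
    rwa [inv_mul_cancel_right] at this

end Cfsg.Agent.S2781
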