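import Cfsg.Statements.S2787
import Cfsg.Agent.Thompson.PStable
import Cfsg.Agent.S0261
import Cfsg.Agent.H38.Ree.SylowTwo

set_option autoImplicit false
open Cfsg

namespace Cfsg.Agent.S2787
open Cfsg Subgroup Cfsg.Agent.Thompson

/-- Non-involutory elements of a `2`-subgroup commute. -/
def Cond (K : Type*) [Group K] : Prop :=
  ∀ T : Subgroup K, IsPGroup 2 T → ∀ x ∈ T, ∀ y ∈ T, x * x ≠ 1 → y * y ≠ 1 → x * y = y * x

theorem Cond.of_equiv {K L : Type*} [Group K] [Group L] (h : Cond L) (e : K ≃* L) : Cond K := by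
  intro T hT x hx y hy hx2 hy2
  refine e.injective ?_
  rw [map_mul, map_mul]
  exact h (T.map e.toMonoidHom) (hT.map _) _ ⟨x, hx, rfl⟩ _ ⟨y, hy, rfl⟩
    (fun h => hx2 (e.injective (by rw [map_mul, map_one]; exact h)))
    (fun h => hy2 (e.injective (by rw [map_mul, map_one]; exact h)))

theorem sl2_sq_one_central {F : Type*} [Field F] (h2 : (2 : F) ≠ 0)
    {z : Matrix.SpecialLinearGroup (Fin 2) F} (hz : z * z = 1) :
    z ∈ center (Matrix.SpecialLinearGroup (Fin 2) F) := by
  have hinv : z⁻¹ = z := inv_eq_of_mul_eq_one_right hz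
  have h := congrArg (fun m : Matrix.SpecialLinearGroup (Fin 2) F => (m : Matrix (Fin 2) (Fin 2) F)) hinv
  simp only [Matrix.SpecialLinearGroup.coe_inv, Matrix.adjugate_fin_two] at h
  have h00 := congrFun (congrFun h 0) 0
  have h01 := congrFun (congrFun h 0) 1
  have h10 := congrFun (congrFun h 1) 0
  simp at h00 h01 h10
  have e01 : z 0 1 = 0 :=
    (mul_eq_zero.1 (by linear_combination -h01 : z 0 1 * (2 : F) = 0)).resolve_right h2
  have e10 : z 1 0 = 0 :=
    (mul_eq_zero.1 (by linear_combination -h10 : z 1 0 * (2 : F) = 0)).resolve_right h2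
  rw [mem_center_iff]
  intro g
  ext i j
  fin_cases i <;> fin_cases j <;>
    simp [Matrix.mul_apply, Fin.sum_univ_two, e01, e10, h00] <;> ring

theorem cond_psl {F : Type*} [Field F] [Fintype F] (hF : Odd (Fintype.card F)) :
    Cond (Matrix.ProjectiveSpecialLinearGroup (Fin 2) F) := by
  classical
  haveI : Fact (Nat.Prime 2) := ⟨Nat.prime_two⟩
  have h2 : (2 : F) ≠ 0 := Ring.two_ne_zero fun h => by
    haveI : CharP F 2 := ringChar.of_eq h
    exact absurd (FiniteField.even_card_of_char_two h) (by rw [Nat.odd_iff.1 hF]; decide)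
  intro T hT x hx y hy hx2 hy2
  set π := QuotientGroup.mk' (center (Matrix.SpecialLinearGroup (Fin 2) F)) with hπ
  have hker : IsPGroup 2 π.ker := by
    rw [hπ, QuotientGroup.ker_mk']
    rintro ⟨z, hz⟩
    refine ⟨1, Subtype.ext ?_⟩
    obtain ⟨r, hr, hrz⟩ := Matrix.SpecialLinearGroup.mem_center_iff.1 hz
    apply Matrix.SpecialLinearGroup.ext
    intro i j
    simp only [SubgroupClass.coe_pow, Matrix.SpecialLinearGroup.coe_pow, ← hrz, pow_one]
    rw [← map_pow]
    rw [show Fintype.card (Fin 2) = 2 from rfl] at hr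
    simp [hr]
  obtain ⟨S, hS⟩ := (hT.comap_of_ker_isPGroup π hker).exists_le_sylow
  obtain ⟨k, -, ⟨e⟩⟩ := Cfsg.Agent.S0261.result hF S
  have key : ∀ {a : Matrix.SpecialLinearGroup (Fin 2) F} (ha : a ∈ (S : Subgroup _)),
      π a * π a ≠ 1 → ∃ i, e ⟨a, ha⟩ = QuaternionGroup.a i := by
    intro a ha hne
    rcases he : e ⟨a, ha⟩ with i | i
    · exact ⟨i, rfl⟩
    · exfalso
      refine hne ?_
      rw [← map_mul, hπ, QuotientGroup.mk'_apply, QuotientGroup.eq_one_iff]
      refine sl2_sq_one_central h2 ?_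
      have h4 := QuaternionGroup.orderOf_xa (n := 2 ^ k) i
      have h : (⟨a, ha⟩ : (S : Subgroup _)) ^ 4 = 1 := e.injective (by
        rw [map_pow, he, map_one, ← h4, pow_orderOf_eq_one])
      have := congrArg Subtype.val h
      rw [SubgroupClass.coe_pow, OneMemClass.coe_one] at this
      rw [show a * a * (a * a) = a ^ 4 by simp [pow_succ, mul_assoc]]
      exact this
  obtain ⟨a, rfl⟩ := QuotientGroup.mk'_surjective _ x
  obtain ⟨b, rfl⟩ := QuotientGroup.mk'_surjective _ y
  obtain ⟨i, hi⟩ := key (hS (show a ∈ T.comap π from hx)) hx2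
  obtain ⟨j, hj⟩ := key (hS (show b ∈ T.comap π from hy)) hy2
  have hc : (⟨a, hS hx⟩ : (S : Subgroup _)) * ⟨b, hS hy⟩ = ⟨b, hS hy⟩ * ⟨a, hS hx⟩ :=
    e.injective (by rw [map_mul, map_mul, hi, hj, QuaternionGroup.a_mul_a, QuaternionGroup.a_mul_a,
      add_comm])
  rw [← map_mul, ← map_mul]
  exact congrArg π (congrArg Subtype.val hc)

theorem cond_ree {H : Type*} [Group H] (h : Cfsg.Lie.IsoRee H) : Cond H := by
  haveI : Fact (Nat.Prime 2) := ⟨Nat.prime_two⟩
  obtain ⟨K, _, _, m, -, hK, ⟨e⟩⟩ := h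
  refine Cond.of_equiv ?_ e
  obtain ⟨P, he⟩ := Cfsg.Agent.H38.Ree.exists_par hK
  rw [← he]
  intro T hT x hx y hy hx2 _
  obtain ⟨S, hS⟩ := hT.exists_le_sylow
  exact absurd ((P.sylow_two S).2 x (hS hx)) hx2

/-- A nontrivial quadratic action forces noncommuting non-involutory elements in a `2`-subgroup. -/
theorem trivial_of_quadratic {G : Type*} [Group G] [Finite G] {p : ℕ} [Fact p.Prime] (hp : p ≠ 2)
    (V H : Subgroup G) (hVc : IsMulCommutative V) (hVp : ∀ v ∈ V, v ^ p = 1)
    (hHV : H ≤ normalizer (V : Set G))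
    (hirr : ∀ U : Subgroup G, U ≤ V → H ≤ normalizer (U : Set G) → U = ⊥ ∨ U = V)
    [((centralizer (V : Set G)).subgroupOf H).Normal]
    (hcond : Cond (↥H ⧸ (centralizer (V : Set G)).subgroupOf H))
    {a : G} (ha : a ∈ H) (hq : ⁅⁅V, zpowers a⁆, zpowers a⁆ = ⊥) :
    a ∈ centralizer (V : Set G) := by
  classical
  by_cases hV : V = ⊥
  · subst hV
    exact mem_centralizer_iff.2 fun v hv => by rw [mem_bot.1 hv, one_mul, mul_one]
  set π := QuotientGroup.mk' ((centralizer (V : Set G)).subgroupOf H) with hπ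
  by_cases hall : ∀ g : ↥H ⧸ (centralizer (V : Set G)).subgroupOf H,
      IsPGroup p (closure ({π ⟨a, ha⟩, g * π ⟨a, ha⟩ * g⁻¹} : Set _))
  · obtain ⟨N, hN, hNp, haN⟩ := baer_suzuki hall
    set M : Subgroup H := N.comap π with hM
    haveI : M.Normal := hN.comap π
    -- the fixed points of `M` in `V` form an invariant subgroup
    let U : Subgroup G := V ⊓ centralizer ((M.map H.subtype : Subgroup G) : Set G)
    have hU : H ≤ normalizer (U : Set G) := by
      intro h hh
      rw [mem_normalizer_iff_map_conj_eq]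
      refine eq_of_le_of_card_ge ?_ (card_map_of_injective (MulAut.conj h).injective).ge
      rintro _ ⟨u, ⟨huV, huC⟩, rfl⟩
      refine ⟨(mem_normalizer_iff.1 (hHV hh) u).1 huV, mem_centralizer_iff.2 ?_⟩
      rintro _ ⟨m, hm, rfl⟩
      have := mem_centralizer_iff.1 huC _ ⟨_, Normal.conj_mem' inferInstance m hm ⟨h, hh⟩, rfl⟩
      simp only [Subgroup.coe_subtype, Subgroup.coe_mul, Subgroup.coe_inv] at this ⊢
      calc (m : G) * (h * u * h⁻¹) = h * ((h⁻¹ * m * h) * u) * h⁻¹ := by group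
        _ = h * (u * (h⁻¹ * m * h)) * h⁻¹ := by rw [this]
        _ = h * u * h⁻¹ * m := by group
    rcases hirr U inf_le_left hU with hU0 | hU1
    · exfalso
      obtain ⟨P, hP⟩ : ∃ P : Sylow p M, True := ⟨default, trivial⟩
      -- `M = P · (M ∩ C(V))`
      have hMP : ∀ m ∈ M, ∃ x : M, x ∈ (P : Subgroup M) ∧ π (x : H) = π m := by
        intro m hm
        let φ : M →* N := (π.comp M.subtype).codRestrict N fun x => x.2
        have hφ : Function.Surjective φ := fun n => by
          obtain ⟨h, hh⟩ := QuotientGroup.mk'_surjective _ (n : ↥H ⧸ (centralizer (V : Set G)).subgroupOf H)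
          exact ⟨⟨h, show π h ∈ N by rw [hπ, hh]; exact n.2⟩, Subtype.ext hh⟩
        obtain ⟨Q, hQ⟩ := (IsPGroup.of_equiv hNp Subgroup.topEquiv.symm).exists_le_sylow
        have hQtop : (Q : Subgroup N) = ⊤ := top_le_iff.1 hQ
        have htop : (P : Subgroup M).map φ = ⊤ := by
          have := (P.mapSurjective hφ).3 (IsPGroup.of_equiv hNp Subgroup.topEquiv.symm) le_top
          rw [Sylow.coe_mapSurjective] at this
          exact this.symm
        obtain ⟨x, hx, hxe⟩ := htop.ge (mem_top (φ ⟨m, hm⟩))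
        exact ⟨x, hx, congrArg Subtype.val hxe⟩
      set P' : Subgroup G := ((P : Subgroup M).map M.subtype).map H.subtype with hP'
      have hP'p : IsPGroup p P' := (P.isPGroup'.map _).map _
      have hP'V : P' ≤ normalizer (V : Set G) := (map_subtype_le _).trans hHV
      letI : MulAction P' V :=
        { smul := fun g v => ⟨g * v * (g : G)⁻¹, (mem_normalizer_iff.1 (hP'V g.2) v).1 v.2⟩
          one_smul := fun v => Subtype.ext (show (1 : G) * v * (1 : G)⁻¹ = v by group)
          mul_smul := fun g k v => Subtype.ext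
            (show (g : G) * k * v * ((g : G) * k)⁻¹ = g * (k * v * (k : G)⁻¹) * (g : G)⁻¹ by group) }
      have hdvd : p ∣ Nat.card V := by
        obtain ⟨v, hv, hv1⟩ := V.bot_or_exists_ne_one.resolve_left hV
        rw [← orderOf_eq_prime (hVp v hv) hv1]
        exact Subgroup.orderOf_dvd_natCard V hv
      obtain ⟨w, hw, hw1⟩ := hP'p.exists_fixed_point_of_prime_dvd_card_of_fixed_point V hdvd
        (a := (1 : V)) (fun g => Subtype.ext (show (g : G) * 1 * (g : G)⁻¹ = 1 by group))
      refine hw1 (Subtype.ext ?_).symm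
      rw [OneMemClass.coe_one]
      refine mem_bot.1 (hU0 ▸ (⟨w.2, mem_centralizer_iff.2 ?_⟩ : (w : G) ∈ U))
      rintro _ ⟨m, hm, rfl⟩
      obtain ⟨x, hx, hxe⟩ := hMP m hm
      rw [hπ, QuotientGroup.mk'_apply, QuotientGroup.mk'_apply, QuotientGroup.eq] at hxe
      have hc : ((x : H) : G)⁻¹ * (m : G) ∈ centralizer (V : Set G) := hxe
      have h1 := (mem_centralizer_iff.1 hc w w.2).symm
      have h2 : ((x : H) : G) * w * ((x : H) : G)⁻¹ = w :=
        congrArg Subtype.val (hw ⟨_, ⟨_, ⟨x, hx, rfl⟩, rfl⟩⟩)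
      simp only [Subgroup.coe_subtype]
      calc (m : G) * w = ((x : H) : G) * (((x : H) : G)⁻¹ * m * w) := by group
        _ = ((x : H) : G) * w * ((x : H) : G)⁻¹ * m := by rw [h1]; group
        _ = w * m := by rw [h2]
    · refine mem_centralizer_iff.2 fun v hv => ?_
      have hv' : v ∈ centralizer ((M.map H.subtype : Subgroup G) : Set G) := (hU1.ge hv).2
      exact (mem_centralizer_iff.1 hv' a ⟨⟨a, ha⟩, haN, rfl⟩).symm
  · exfalso
    simp only [not_forall] at hall
    obtain ⟨g, hg⟩ := hall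
    obtain ⟨g, rfl⟩ := QuotientGroup.mk'_surjective _ g
    have hb : (g : G) * a * (g : G)⁻¹ ∈ H := mul_mem (mul_mem g.2 ha) (inv_mem g.2)
    have hqb : ⁅⁅V, zpowers ((g : G) * a * (g : G)⁻¹)⁆, zpowers ((g : G) * a * (g : G)⁻¹)⁆ = ⊥ := by
      have h := congrArg (Subgroup.map (MulAut.conj (g : G)).toMonoidHom) hq
      rw [map_commutator, map_commutator, MonoidHom.map_zpowers,
        map_conj_of_mem_normalizer (hHV g.2), Subgroup.map_bot] at h
      exact h
    have hle : closure ({a, (g : G) * a * (g : G)⁻¹} : Set G) ≤ H :=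
      (closure_le _).2 (Set.insert_subset ha (Set.singleton_subset_iff.2 hb))
    obtain ⟨M, φ, f, hM, hφ, hf, hfV, hconj⟩ := exists_natural_section hp hVc hVp (hHV ha) (hHV hb)
      hq hqb (by
      intro h
      refine hg ?_
      rintro ⟨y, hy⟩
      have hy' : y ∈ (closure ({⟨a, ha⟩, g * ⟨a, ha⟩ * g⁻¹} : Set H)).map π := by
        rw [MonoidHom.map_closure, Set.image_pair, map_mul, map_mul, map_inv]
        exact hy
      obtain ⟨z, hz, rfl⟩ := hy'
      have hz' : (z : G) ∈ closure ({a, (g : G) * a * (g : G)⁻¹} : Set G) := by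
        have := mem_map_of_mem H.subtype hz
        rw [MonoidHom.map_closure, Set.image_pair] at this
        exact this
      obtain ⟨n, hn⟩ := h z hz'
      exact ⟨n, Subtype.ext ((map_pow π z _).symm.trans
        ((QuotientGroup.eq_one_iff _).mpr (show ((z ^ p ^ n : H) : G) ∈ _ by simpa using hn)))⟩)
    let ι : M →* H := inclusion (hM.trans hle)
    have hker : ∀ m : M, π (ι m) = 1 → φ m = 1 := by
      intro m hm
      have hm' : (m : G) ∈ centralizer (V : Set G) := (QuotientGroup.eq_one_iff (ι m)).1 hm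
      refine Subtype.ext (Matrix.ext_iff_mulVec.2 fun v => ?_)
      have h1 := hconj m v
      rw [← mem_centralizer_iff.1 hm' _ (hfV ⟨_, rfl⟩), mul_inv_cancel_right] at h1
      rw [Matrix.SpecialLinearGroup.coe_one, Matrix.one_mulVec]
      exact (Multiplicative.ofAdd.injective (hf h1)).symm
    haveI : Finite (Matrix.SpecialLinearGroup (Fin 2) (ZMod p)) := Finite.of_surjective _ hφ
    haveI : Fact (Nat.Prime 2) := ⟨Nat.prime_two⟩
    obtain ⟨u, w, hQ, hne⟩ := exists_sl2_quaternion hp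
    obtain ⟨S', hS'⟩ := hQ.exists_le_sylow
    obtain ⟨S, rfl⟩ := Sylow.mapSurjective_surjective hφ 2 (S' : Sylow 2 (Matrix.SpecialLinearGroup (Fin 2) (ZMod p)))
    obtain ⟨m, hm, hmu⟩ := hS' (subset_closure (Set.mem_insert _ _))
    obtain ⟨n, hn, hnw⟩ := hS' (subset_closure (Set.mem_insert_of_mem _ rfl))
    have hsq : ∀ {x : M} {s : Matrix.SpecialLinearGroup (Fin 2) (ZMod p)}, φ x = s → s * s ≠ 1 → π (ι x) * π (ι x) ≠ 1 := by
      intro x s hx hs h
      refine hs ?_
      rw [← hx, ← map_mul]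
      exact hker _ (by rw [map_mul, map_mul]; exact h)
    have hcent : ∀ s : Matrix.SpecialLinearGroup (Fin 2) (ZMod p), s * s = 1 → ∀ t, s * t = t * s := fun s hs t =>
      ((mem_center_iff.1 (sl2_sq_one_central
        (Ring.two_ne_zero (by rw [ZMod.ringChar_zmod_n]; exact hp)) hs)) t).symm
    have hu : u * u ≠ 1 := fun h => hne (hcent u h w)
    have hw : w * w ≠ 1 := fun h => hne (hcent w h u).symm
    have hc := hcond (((S : Subgroup M).map ι).map π) ((S.isPGroup'.map _).map _)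
      _ ⟨_, ⟨m, hm, rfl⟩, rfl⟩ _ ⟨_, ⟨n, hn, rfl⟩, rfl⟩ (hsq hmu hu) (hsq hnw hw)
    refine hne (Commute.eq (commutatorElement_eq_one_iff_commute.1 ?_))
    rw [← hmu, ← hnw, ← map_commutatorElement]
    refine hker _ ?_
    rw [map_commutatorElement, map_commutatorElement, commutatorElement_eq_one_iff_commute]
    exact hc

/-- Let p be a prime and let H act by conjugation on the elementary abelian p-subgroup V of a finite group, irreducibly (no H-invariant subgroups of V other than 1 and V) and nontrivially, and suppose H/C_H(V) is isomorphic to PSL₂(F) for a field F with p^n elements, p^n odd, or p = 3 and H/C_H(V) is isomorphic to a Ree group ²G₂(3^(2m+1)), m ≥ 1. Then no subgroup A of H acting nontrivially on V acts quadratically: [V, A, A] = 1 forces [V, A] = 1. -/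
theorem result {G : Type*} [Group G] [Finite G] {p : ℕ} [Fact p.Prime] (V H : Subgroup G) (hV : Cfsg.IsElementaryAbelian p V) (hHV : H ≤ Subgroup.normalizer (V : Set G)) (hirr : ∀ U : Subgroup G, U ≤ V → H ≤ Subgroup.normalizer (U : Set G) → U = ⊥ ∨ U = V) (hnt : ¬ H ≤ Subgroup.centralizer (V : Set G)) [hn : ((Subgroup.centralizer (V : Set G)).subgroupOf H).Normal] (hq : (∃ (F : Type) (_ : Field F) (_ : Fintype F) (n : ℕ), Fintype.card F = p ^ n ∧ Odd (Fintype.card F) ∧ Nonempty (↥H ⧸ (Subgroup.centralizer (V : Set G)).subgroupOf H ≃* Matrix.ProjectiveSpecialLinearGroup (Fin 2) F)) ∨ (p = 3 ∧ Cfsg.Lie.IsoRee (↥H ⧸ (Subgroup.centralizer (V : Set G)).subgroupOf H))) (A : Subgroup G) (hA : A ≤ H) (hquad : ⁅⁅V, A⁆, A⁆ = ⊥) : ⁅V, A⁆ = ⊥ := by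
  have hp2 : p ≠ 2 ∧ Cond (↥H ⧸ (Subgroup.centralizer (V : Set G)).subgroupOf H) := by
    rcases hq with ⟨F, _, _, n, hn, hodd, ⟨e⟩⟩ | ⟨rfl, hR⟩
    · refine ⟨?_, (cond_psl hodd).of_equiv e⟩
      rintro rfl
      rw [hn] at hodd
      cases n with
      | zero => exact absurd Fintype.one_lt_card (by rw [hn]; simp)
      | succ n => exact absurd hodd (by simp [Nat.odd_pow_iff])
    · exact ⟨by norm_num, cond_ree hR⟩
  refine eq_bot_iff.2 ((Subgroup.commutator_le).2 fun v hv a ha => ?_)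
  have hqa : ⁅⁅V, Subgroup.zpowers a⁆, Subgroup.zpowers a⁆ = ⊥ := eq_bot_iff.2
    ((Subgroup.commutator_mono (Subgroup.commutator_mono le_rfl (Subgroup.zpowers_le.2 ha))
      (Subgroup.zpowers_le.2 ha)).trans hquad.le)
  have hc := trivial_of_quadratic hp2.1 V H hV.1 hV.2 hHV hirr hp2.2 (hA ha) hqa
  rw [Subgroup.mem_bot, commutatorElement_eq_one_iff_mul_comm]
  exact Subgroup.mem_centralizer_iff.1 hc v hv

end Cfsg.Agent.S2787
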