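import Cfsg.Statements.S2788
import Cfsg.Agent.H59.SL2Bound

set_option autoImplicit false
open Cfsg

namespace Cfsg.Agent.S2788

open Subgroup Cfsg.Agent

/-- Let H act faithfully by conjugation on the elementary abelian p-subgroup V of a finite group with H ≅ SL₂(F), F a field with p^n elements, S a Sylow p-subgroup of H, and A ≤ S a subgroup of order at least 3 acting quadratically on V ([V, A, A] = 1). Then |V/C_V(a)| ≥ p^n for every nonidentity a ∈ A. -/
theorem result {G : Type*} [Group G] [Finite G] {p : ℕ} [Fact p.Prime] (V H : Subgroup G) (hV : Cfsg.IsElementaryAbelian p V) (hHV : H ≤ Subgroup.normalizer (V : Set G)) (hf : H ⊓ Subgroup.centralizer (V : Set G) = ⊥) {F : Type*} [Field F] [Fintype F] (n : ℕ) (hF : Fintype.card F = p ^ n) (hiso : Nonempty (↥H ≃* Matrix.SpecialLinearGroup (Fin 2) F)) (S : Sylow p ↥H) (T : Subgroup G) (hT : T = ((S : Subgroup ↥H).map H.subtype)) (A : Subgroup G) (hA : A ≤ T) (hA3 : 3 ≤ Nat.card A) (hquad : ⁅⁅V, A⁆, A⁆ = ⊥) :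 ∀ a ∈ A, a ≠ 1 → p ^ n ≤ ((V ⊓ Subgroup.centralizer ({a} : Set G))).relIndex V := by
  obtain ⟨e⟩ := hiso
  let π := QuotientGroup.mk' (center (Matrix.SpecialLinearGroup (Fin 2) F))
  let f : H →* Matrix.ProjectiveSpecialLinearGroup (Fin 2) F := π.comp e.toMonoidHom
  have hf' : Function.Surjective f := (QuotientGroup.mk'_surjective _).comp e.surjective
  have hker : ∀ h : H, (h : G) ∈ centralizer (V : Set G) → f h = 1 := by
    intro h hh
    have h1 : (h : G) ∈ (⊥ : Subgroup G) := hf ▸ (⟨h.2, hh⟩ : (h : G) ∈ H ⊓ centralizer (V : Set G))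
    rw [show h = 1 from Subtype.ext (mem_bot.mp h1), map_one]
  intro s hsA hs1
  obtain ⟨a, ha, rfl⟩ := (hT ▸ hA hsA : s ∈ (S : Subgroup H).map H.subtype)
  obtain ⟨k, hk⟩ := S.isPGroup' ⟨a, ha⟩
  refine (H59.sl2_bound (H60.isPGroup_of_isElementaryAbelian hV) hHV hF f hf' hker a
    ⟨k, congrArg Subtype.val hk⟩ fun h => hs1 ?_).1
  have hak : a ^ p ^ k = 1 := congrArg Subtype.val hk
  suffices h2 : e a = 1 by rw [show a = 1 from e.injective (h2.trans (map_one e).symm)]; rfl
  have hea : e a ^ p ^ k = 1 := by rw [← map_pow, hak, map_one]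
  obtain ⟨hchar, -⟩ := H59.charP_of_card_eq hF
  rcases Linear.mem_center_SL_two.mp ((QuotientGroup.eq_one_iff _).mp h) with h3 | h3
  · exact h3
  rcases (Fact.out : p.Prime).eq_two_or_odd' with h2 | h2
  · subst h2
    rw [show e a = -1 from h3]
    ext i j
    simp [CharTwo.neg_eq]
  · have h4 : e a ^ 2 = 1 := by rw [show e a = -1 from h3, neg_one_sq]
    have hco : Nat.Coprime 2 (p ^ k) := (Nat.coprime_two_left.mpr h2).pow_right k
    have := pow_gcd_eq_one.mpr ⟨h4, hea⟩
    rwa [hco, pow_one] at this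

end Cfsg.Agent.S2788
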