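import Cfsg.Statements.S2794
import Cfsg.Agent.Thompson.QdLocal
-- import your own Cfsg.Agent.* helpers here

set_option autoImplicit false
open Cfsg

namespace Cfsg.Agent.S2794

/-- For an odd prime p and a finite group G, the group Qd(p) is not involved in G if and only if in every section K/R of G, for every Sylow p-subgroup S* of K/R, the centre of J(S*) (J generated by the abelian subgroups of largest order) controls strong fusion in K/R. -/
theorem result {G : Type*} [Group G] [Finite G] {p : ℕ} [Fact p.Prime] (hp : p ≠ 2) : ¬ Cfsg.Involves ↥(Cfsg.qd p) G ↔ ∀ (K R : Subgroup G) [hR : (R.subgroupOf K).Normal], ∀ T : Sylow p (K ⧸ R.subgroupOf K), Cfsg.ControlsStrongFusion p (Cfsg.centerThompsonAOf (T : Subgroup (K ⧸ R.subgroupOf K))) := by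
  constructor
  · intro hno K R _ T
    rw [Thompson.centerThompsonAOf_eq]
    have hfree : ¬ Thompson.HasSection (Cfsg.qd p) (K ⧸ R.subgroupOf K) := fun h => hno
      (Thompson.hasSection_iff.mp ((h.of_surjective (QuotientGroup.mk'_surjective _)).of_injective K.subtype_injective))
    refine ⟨T, Thompson.zjay_le, fun A hA => ⟨hA, fun g hg => ?_⟩⟩
    obtain ⟨n, hn, h⟩ := Thompson.strongFusion_zjay hp (e := 0) (.inl rfl) _ hfree T A g hA hg
    exact ⟨n, hn, fun a ha => (h a ha).symm⟩
  · rintro h ⟨K, R, hR, ⟨e⟩⟩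
    obtain ⟨T, hT⟩ := Thompson.not_controlsStrongFusion_zjay_of_equiv_qd hp
      (e.trans (MulEquiv.subgroupCongr (show Cfsg.qd p = Cfsg.qdOver (ZMod p) from rfl)))
    exact hT (Thompson.centerThompsonAOf_eq (T : Subgroup (K ⧸ R.subgroupOf K)) ▸ h K R T)

end Cfsg.Agent.S2794
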