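import Cfsg.Statements.S2803
import Cfsg.Agent.H59.PReduced

set_option autoImplicit false
open Cfsg

namespace Cfsg.Agent.S2803

open Subgroup

/-- Let L be a finite group and p a prime with C_L(O_p(L)) ≤ O_p(L), T a Sylow p-subgroup, and Y the largest p-reduced normal subgroup of L. Put T_L = C_T(Y) and L_T = N_L(T_L). Then L = L_T · C_L(Y) (elementwise), T_L = O_p(L_T), and Y = Ω₁(Z(T_L)). -/
theorem result {L : Type*} [Group L] [Finite L] {p : ℕ} [Fact p.Prime] (hchar : Subgroup.centralizer (Cfsg.pCore p L : Set L) ≤ Cfsg.pCore p L) (T : Sylow p L) (Y : Subgroup L) (hY : (Cfsg.IsPReducedNormal p Y ∧ ∀ V : Subgroup L, Cfsg.IsPReducedNormal p V → V ≤ Y)) (TL : Subgroup L) (hTL : TL = (T : Subgroup L) ⊓ Subgroup.centralizer (Y : Set L)) : (∀ g : L, ∃ a ∈ Subgroup.normalizer (TL : Set L), ∃ c ∈ Subgroup.centralizer (Y : Set L), g = a * c) ∧ (Cfsg.pCore p ↥(Subgroup.normalizer (TL : Set L))).map (Subgroup.normalizer (TL : Set L)).subtype = TL ∧ Y = Cfsg.omegaOne p (TL ⊓ Subgroup.centralizer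 (TL : Set L)) := by
  obtain ⟨⟨hYn, hYel, hYc, hYq⟩, hmax⟩ := hY
  have hY' := (H59.isPReducedNormal_iff.mp ⟨hYn, hYel, hYc, hYq⟩).2
  set C := centralizer (Y : Set L) with hC
  have hCn : C.Normal := normal_centralizer
  subst hTL
  set TL := (T : Subgroup L) ⊓ C with hTL
  set N := normalizer (TL : Set L) with hN
  have hTN : (T : Subgroup L) ≤ N := fun t ht => H59.mem_normalizer_of_forall fun u hu =>
    ⟨(show t * u * t⁻¹ ∈ (T : Subgroup L) from mul_mem (mul_mem ht hu.1) (inv_mem ht)),
      hCn.conj_mem u hu.2 t⟩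
  obtain ⟨P, hP⟩ := H59.exists_sylow_eq_inf T (C := C) le_normalizer_of_normal
  have hfr := Sylow.normalizer_sup_eq_top P
  rw [hP, subgroupOf_map_subtype, inf_of_le_left inf_le_right] at hfr
  refine ⟨fun g => ?_, ?_, ?_⟩
  · have hg : g ∈ ((N ⊔ C : Subgroup L) : Set L) := by rw [hfr]; trivial
    rw [mul_normal] at hg
    obtain ⟨a, ha, c, hc, rfl⟩ := hg
    exact ⟨a, ha, c, hc, rfl⟩
  · refine le_antisymm ?_ (H60.le_pCoreOf Subgroup.le_normalizer le_rfl (T.isPGroup'.to_le inf_le_left))
    set P' : Subgroup L := Cfsg.pCoreOf p N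
    have hP'p : IsPGroup p P' := H60.pCoreOf_isPGroup N
    have hP'T : P' ≤ T := by
      have h1 := Subgroup.map_mono (f := N.subtype) (Cores.pCore_le_sylow (T.subtype hTN))
      rw [Sylow.coe_subtype, subgroupOf_map_subtype, inf_of_le_left hTN] at h1
      exact h1
    have hn : (P' ⊔ C).Normal := by
      refine normalizer_eq_top_iff.mp (top_le_iff.mp ?_)
      rw [← hfr, sup_le_iff]
      refine ⟨fun g hg => H59.mem_normalizer_of_forall fun u hu => ?_,
        le_sup_right.trans le_normalizer⟩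
      · have h1 : (P' ⊔ C).map (MulAut.conj g).toMonoidHom ≤ P' ⊔ C := by
          rw [Subgroup.map_sup]
          refine sup_le_sup ?_ ?_
          · rintro _ ⟨y, hy, rfl⟩
            exact (mem_normalizer_iff.mp (H60.le_normalizer_pCoreOf N hg) y).mp hy
          · rintro _ ⟨y, hy, rfl⟩
            exact hCn.conj_mem y hy g
        exact h1 (mem_map_of_mem (MulAut.conj g).toMonoidHom hu)
    refine le_inf hP'T (le_trans le_sup_left (hY' _ hn fun x hx => ?_))
    rw [← SetLike.mem_coe, mul_normal] at hx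
    obtain ⟨a, ha, c, hc, rfl⟩ := hx
    obtain ⟨k, hk⟩ := hP'p ⟨a, ha⟩
    refine ⟨k, ?_⟩
    refine (QuotientGroup.eq_one_iff _).mp ?_
    rw [QuotientGroup.mk_pow, QuotientGroup.mk_mul_of_mem a hc, ← QuotientGroup.mk_pow,
      show a ^ p ^ k = 1 from congrArg Subtype.val hk, QuotientGroup.mk_one]
  · have hYT : Y ≤ (T : Subgroup L) := (H60.preduced_le_pCore ⟨hYn, hYel, hYc, hYq⟩).trans
      (Cores.pCore_le_sylow T)
    have hTT : TL ⊓ centralizer (TL : Set L) ≤
        centralizer ((TL ⊓ centralizer (TL : Set L) : Subgroup L) : Set L) :=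
      fun a ha b hb => mem_centralizer_iff.mp ha.2 b hb.1
    rw [H59.omegaOne_eq_omegaAb _ hTT]
    set W := H59.omegaAb p (TL ⊓ centralizer (TL : Set L)) hTT with hW
    have hYW : Y ≤ W := fun y hy =>
      ⟨⟨⟨hYT hy, H59.le_centralizer_self hYel.1 hy⟩, fun t ht => (ht.2 y hy).symm⟩, hYel.2 y hy⟩
    refine le_antisymm hYW ?_
    have hWN : W ≤ N := fun w hw => Subgroup.le_normalizer hw.1.1
    have hNW : N ≤ normalizer (W : Set L) := fun g hg => H59.mem_normalizer_of_forall fun w hw => by
      refine ⟨⟨(mem_normalizer_iff.mp hg w).mp hw.1.1, fun t ht => ?_⟩,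
        by rw [conj_pow, hw.2, mul_one, mul_inv_cancel]⟩
      have h1 := hw.1.2 _ ((mem_normalizer_iff.mp (inv_mem hg) t).mp ht)
      calc t * (g * w * g⁻¹) = g * ((g⁻¹ * t * g⁻¹⁻¹) * w) * g⁻¹ := by group
        _ = g * w * g⁻¹ * t := by rw [h1]; group
    have hWn : (W.subgroupOf N).Normal := (normal_subgroupOf_iff_le_normalizer hWN).mpr hNW
    have hWel := H59.isElementaryAbelian_omegaAb (p := p) _ hTT
    have hred : Cfsg.IsPReducedNormal p (W.subgroupOf N) := by
      refine H59.isPReducedNormal_iff.mpr ⟨⟨⟨⟨fun a b => Subtype.ext (Subtype.ext ?_)⟩⟩, ?_⟩, ?_⟩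
      · exact congrArg (fun z : W => (z : L))
          (hWel.1.is_comm.comm (⟨((a : N) : L), a.2⟩ : W) ⟨((b : N) : L), b.2⟩)
      · exact fun a ha => Subtype.ext (hWel.2 _ ha)
      · intro N' hN' hpow x hx
        have hCW : ∀ z : N, z ∈ centralizer (W.subgroupOf N : Set N) →
            (z : L) ∈ centralizer (W : Set L) := fun z hz w hw =>
          congrArg Subtype.val (hz ⟨w, hWN hw⟩ hw)
        have hN'C : N' ≤ C.subgroupOf N := by
          have hn : ((N'.map N.subtype) ⊔ C).Normal := by
            refine normalizer_eq_top_iff.mp (top_le_iff.mp ?_)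
            rw [← hfr, sup_le_iff]
            refine ⟨fun g hg => H59.mem_normalizer_of_forall fun u hu => ?_,
              le_sup_right.trans le_normalizer⟩
            have h1 : (N'.map N.subtype ⊔ C).map (MulAut.conj g).toMonoidHom ≤
                N'.map N.subtype ⊔ C := by
              rw [Subgroup.map_sup]
              refine sup_le_sup ?_ ?_
              · rintro _ ⟨_, ⟨y, hy, rfl⟩, rfl⟩
                exact ⟨⟨g, hg⟩ * y * ⟨g, hg⟩⁻¹, hN'.conj_mem y hy _, rfl⟩
              · rintro _ ⟨y, hy, rfl⟩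
                exact hCn.conj_mem y hy g
            exact h1 (mem_map_of_mem (MulAut.conj g).toMonoidHom hu)
          refine fun z hz => hY' _ hn (fun y hy => ?_) (mem_sup_left (mem_map_of_mem N.subtype hz))
          rw [← SetLike.mem_coe, mul_normal] at hy
          obtain ⟨_, ⟨a, ha, rfl⟩, c, hc, rfl⟩ := hy
          obtain ⟨k, hk⟩ := hpow a ha
          refine ⟨k, (QuotientGroup.eq_one_iff _).mp ?_⟩
          rw [QuotientGroup.mk_pow, QuotientGroup.mk_mul_of_mem _ hc, ← QuotientGroup.mk_pow]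
          refine (QuotientGroup.eq_one_iff _).mpr ?_
          exact centralizer_le hYW (by simpa using hCW _ hk)
        obtain ⟨k, hk⟩ := hpow x hx
        obtain ⟨e, m, hm, hem⟩ := Nat.exists_eq_pow_mul_and_not_dvd (orderOf_pos x).ne' p
          (Fact.out : p.Prime).ne_one
        set u := x ^ m with hu
        have hup : IsPGroup p (zpowers (u : L)) := by
          intro z
          refine ⟨e, Subtype.ext ?_⟩
          obtain ⟨i, hi⟩ := z.2
          rw [SubgroupClass.coe_pow, ← hi, ← zpow_natCast, zpow_comm, zpow_natCast, hu,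
            SubgroupClass.coe_pow, ← pow_mul, mul_comm, ← hem]
          rw [← Subgroup.orderOf_coe, pow_orderOf_eq_one, one_zpow]
          rfl
        have huC : (u : L) ∈ C := pow_mem (hN'C hx) m
        have huT : (u : L) ∈ TL := by
          have hzC : zpowers (u : L) ≤ C := zpowers_le.mpr huC
          have hj : IsPGroup p ↥(zpowers (u : L) ⊔ TL) :=
            hup.to_sup_of_normal_right' (T.isPGroup'.to_le inf_le_left)
              (zpowers_le.mpr (show (u : L) ∈ N from (x ^ m).2))
          have h2 := P.is_maximal' (Q := (zpowers (u : L) ⊔ TL).subgroupOf C) hj.comap_subtype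
            (by rw [hP]; exact fun z hz => mem_sup_right (show (z : L) ∈ TL from hz))
          rw [hP] at h2
          exact h2.le (show (⟨u, huC⟩ : C) ∈ (zpowers (u : L) ⊔ TL).subgroupOf C from
            mem_sup_left (mem_zpowers _))
        have hucen : u ∈ centralizer (W.subgroupOf N : Set N) := fun w hw =>
          Subtype.ext (hw.1.2 _ huT).symm
        have hcop : Nat.Coprime (p ^ k) m :=
          Nat.Coprime.pow_left k ((Nat.Prime.coprime_iff_not_dvd Fact.out).mpr hm)
        have := mul_mem (zpow_mem hk (Nat.gcdA (p ^ k) m)) (zpow_mem hucen (Nat.gcdB (p ^ k) m))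
        rwa [hu, ← zpow_natCast, ← zpow_natCast, ← zpow_mul, ← zpow_mul, ← zpow_add,
          ← Nat.gcd_eq_gcd_ab, hcop, Nat.cast_one, zpow_one] at this
    have h3 := H59.isPReducedNormal_normalClosure hchar T N hTN _ hred
    intro w hw
    refine hmax _ h3 (subset_normalClosure ?_)
    exact ⟨⟨w, hWN hw⟩, hw, rfl⟩

end Cfsg.Agent.S2803
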