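import Cfsg.Statements.S2804
import Cfsg.Agent.H59.PReduced

set_option autoImplicit false
open Cfsg

namespace Cfsg.Agent.S2804

open Subgroup

/-- Let L be a finite group and p a prime with C_L(O_p(L)) ≤ O_p(L), V a p-reduced normal subgroup of L and K a subnormal subgroup of L. Then [V, O^p(K)] is contained in K and is a p-reduced normal subgroup of K, where O^p(K) is the subgroup of K generated by its elements of order prime to p. -/
theorem result {L : Type*} [Group L] [Finite L] {p : ℕ} [Fact p.Prime] (hchar : Subgroup.centralizer (Cfsg.pCore p L : Set L) ≤ Cfsg.pCore p L) (V : Subgroup L) (hV : Cfsg.IsPReducedNormal p V) (K : Subgroup L) (hK : K.IsSubnormal) : ⁅V, (Cfsg.pResidual p ↥K).map K.subtype⁆ ≤ K ∧ Cfsg.IsPReducedNormal p ((⁅V, (Cfsg.pResidual p ↥K).map K.subtype⁆).subgroupOf K) := by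
  set B : Subgroup L := (Cfsg.pResidual p ↥K).map K.subtype with hB
  have hVn : V.Normal := hV.1
  have hBK : B ≤ K := map_subtype_le _
  have hBsn : B.IsSubnormal :=
    Subgroup.IsSubnormal.trans' (Subgroup.Normal.isSubnormal inferInstance) hK
  have hres : (Cfsg.pResidual p ↥B).map B.subtype = B := by
    have h1 : Cfsg.pResidual p ↥B = ⊤ := by
      rw [hB, ← Fusion.map_pResidual_equiv
        ((Cfsg.pResidual p ↥K).equivMapOfInjective K.subtype K.subtype_injective),
        Fusion.pResidual_pResidual_eq_top]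
      exact Subgroup.map_top_of_surjective _
        ((Cfsg.pResidual p ↥K).equivMapOfInjective K.subtype K.subtype_injective).surjective
    rw [h1, ← MonoidHom.range_eq_map, range_subtype]
  have hVB := (H59.normalizes_of_subnormal hVn.isSubnormal hBsn
    (H60.isPGroup_of_isElementaryAbelian hV.2.1) hres).1
  set W := ⁅V, B⁆ with hW
  have hWB : W ≤ B := le_normalizer_iff_commutator_le_right.mp hVB
  have hWV : W ≤ V := Subgroup.commutator_le_left V B
  refine ⟨hWB.trans hBK, ?_⟩
  have hKB : K ≤ normalizer (B : Set L) := by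
    refine fun g hg => H59.mem_normalizer_of_forall ?_
    rintro _ ⟨y, hy, rfl⟩
    exact ⟨⟨g, hg⟩ * y * ⟨g, hg⟩⁻¹, Subgroup.Normal.conj_mem inferInstance y hy _, rfl⟩
  have hKW : K ≤ normalizer (W : Set L) := fun g hg => by
    rw [mem_normalizer_iff_map_conj_eq, hW, map_commutator]
    rw [mem_normalizer_iff_map_conj_eq.mp (le_normalizer_of_normal (mem_top g) : g ∈ normalizer (V : Set L)),
      mem_normalizer_iff_map_conj_eq.mp (hKB hg)]
  have : (W.subgroupOf K).Normal := (normal_subgroupOf_iff_le_normalizer (hWB.trans hBK)).mpr hKW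
  refine H59.isPReducedNormal_iff.mpr ⟨⟨⟨⟨fun a b => Subtype.ext (Subtype.ext ?_)⟩⟩, ?_⟩, ?_⟩
  · exact congrArg (fun z : V => (z : L))
      (hV.2.1.1.is_comm.comm (⟨((a : K) : L), hWV a.2⟩ : V) ⟨((b : K) : L), hWV b.2⟩)
  · exact fun a ha => Subtype.ext (hV.2.1.2 _ (hWV ha))
  intro N hN hpow
  have hCW : ∀ z : K, z ∈ centralizer (W.subgroupOf K : Set K) →
      (z : L) ∈ centralizer (W : Set L) := fun z hz w hw =>
    congrArg Subtype.val (hz ⟨w, hBK (hWB hw)⟩ hw)
  have hco : ∀ x ∈ N, (orderOf x).Coprime p → (x : L) ∈ centralizer (V : Set L) := by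
    intro x hx hxp v hv
    obtain ⟨k, hk⟩ := hpow x hx
    obtain ⟨j, hj⟩ := exists_pow_eq_self_of_coprime (x := x) (n := p ^ k) (hxp.pow_right k).symm
    have hxW : (x : L) ∈ centralizer (W : Set L) := hCW x (by rw [← hj]; exact pow_mem hk j)
    have hxB : (x : L) ∈ B := mem_map_of_mem K.subtype (Fusion.mem_pResidual hxp)
    have hd : (x : L) * v * (x : L)⁻¹ * v⁻¹ ∈ W := by
      rw [hW, Subgroup.commutator_comm]
      exact commutator_mem_commutator hxB hv
    exact (H61.commute_of_comm_mem ((H60.isPGroup_of_isElementaryAbelian hV.2.1).to_le hWV)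
      (by rwa [Subgroup.orderOf_coe]) hd (hxW _ hd).symm).symm
  set f := QuotientGroup.mk' (centralizer (V : Set L)) with hf
  have hsn : ((N.map K.subtype).map f).IsSubnormal :=
    Subgroup.IsSubnormal.map (QuotientGroup.mk'_surjective _)
      (Subgroup.IsSubnormal.trans' hN.isSubnormal hK)
  have hp' : IsPGroup p ((N.map K.subtype).map f) := by
    rintro ⟨_, _, ⟨x, hx, rfl⟩, rfl⟩
    obtain ⟨k, hk⟩ := Fusion.exists_pow_coprime (p := p) x
    exact ⟨k, Subtype.ext ((QuotientGroup.eq_one_iff _).mpr (hco _ (pow_mem hx _) hk))⟩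
  have h0 := Cores.le_pCore_of_isSubnormal hsn hp'
  obtain ⟨_, hcore⟩ := hV.2.2
  intro x hx
  have h1 := h0 (mem_map_of_mem f (mem_map_of_mem K.subtype hx))
  rw [hcore, mem_bot] at h1
  exact fun w hw => Subtype.ext ((QuotientGroup.eq_one_iff _).mp h1 _ (hWV hw))

end Cfsg.Agent.S2804
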