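import Cfsg.Statements.S2806
import Cfsg.Agent.H59.KielerLocal

set_option autoImplicit false
open Cfsg

namespace Cfsg.Agent.S2806

open Subgroup Cfsg.Agent

/-- Let H be a finite group of local characteristic p, T a Sylow p-subgroup, and L₁, L₂ subnormal subgroups of H generating the subgroup L. Then the point stabilizer of L with respect to T ∩ L is generated by the point stabilizers of L₁ and L₂ with respect to T ∩ L₁ and T ∩ L₂ (point stabilizer of X w.r.t. R: the subgroup generated by the p-elements of X centralizing Ω₁(Z(R))). -/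
theorem result {H : Type*} [Group H] [Finite H] {p : ℕ} [Fact p.Prime] (hH : Cfsg.IsOfLocalCharacteristic p H) (T : Sylow p H) (L₁ L₂ : Subgroup H) (h₁ : L₁.IsSubnormal) (h₂ : L₂.IsSubnormal) : Cfsg.pointStabilizer p (L₁ ⊔ L₂) ((T : Subgroup H) ⊓ (L₁ ⊔ L₂)) = Cfsg.pointStabilizer p L₁ ((T : Subgroup H) ⊓ L₁) ⊔ Cfsg.pointStabilizer p L₂ ((T : Subgroup H) ⊓ L₂) := by
  have hL : (L₁ ⊔ L₂).IsSubnormal := Cfsg.Agent.H30.isSubnormal_sup h₁ h₂
  rw [H59.pointStabilizer_eq hH T hL, H59.pointStabilizer_eq hH T h₁, H59.pointStabilizer_eq hH T h₂]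
  apply le_antisymm
  · refine (closure_le _).mpr fun x hx => ?_
    obtain ⟨hxL, k, hk⟩ := hx
    refine H59.mem_sup_pElementClosure T h₁ h₂ _ ?_ hxL hk
    intro t ht z hz
    exact ((H59.mem_omegaOne_center hz).2.1 t ht).symm
  · exact sup_le (Subgroup.closure_mono fun x hx => ⟨⟨mem_sup_left hx.1.1, hx.1.2⟩, hx.2⟩)
      (Subgroup.closure_mono fun x hx => ⟨⟨mem_sup_right hx.1.1, hx.1.2⟩, hx.2⟩)

end Cfsg.Agent.S2806
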