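import Cfsg.Statements.S2809
import Cfsg.Agent.H61.CharP

set_option autoImplicit false
open Cfsg

namespace Cfsg.Agent.S2809

open Subgroup

/-- Let H be a finite group, p a prime, R a p-subgroup of H with C_H(R) ≤ R, and L a subgroup of N_H(R) acting nilpotently on R (some iterated commutator [R, L, …, L] is trivial). Then L is a p-group. -/
theorem result {H : Type*} [Group H] [Finite H] {p : ℕ} [Fact p.Prime] (R : Subgroup H) (hR : IsPGroup p ↥R) (hC : Subgroup.centralizer (R : Set H) ≤ R) (L : Subgroup H) (hL : L ≤ Subgroup.normalizer (R : Set H)) (hnil : ∃ n : ℕ, Cfsg.iterCommutator R L n = ⊥) : IsPGroup p ↥L := by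
  obtain ⟨n, hn⟩ := hnil
  refine H61.isPGroup_of_forall_coprime fun c hc hco => ?_
  have hle : ∀ i, Cfsg.iterCommutator R L i ≤ R := fun i => by
    induction i with
    | zero => exact le_rfl
    | succ i ih =>
      exact (commutator_mono ih le_rfl).trans (le_normalizer_iff_commutator_le_left.mp hL)
  have key : ∀ j, ∀ i, n ≤ i + j → ∀ x ∈ Cfsg.iterCommutator R L i, Commute c x := by
    intro j
    induction j with
    | zero =>
      intro i hi x hx
      have hb : ∀ k, Cfsg.iterCommutator R L (n + k) = ⊥ := fun k => by
        induction k with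
        | zero => exact hn
        | succ k ih =>
          change ⁅Cfsg.iterCommutator R L (n + k), L⁆ = ⊥
          rw [ih, commutator_bot_left]
      obtain ⟨k, rfl⟩ := Nat.exists_eq_add_of_le (show n ≤ i by omega)
      rw [hb k, mem_bot] at hx
      rw [hx]; exact Commute.one_right c
    | succ j ih =>
      intro i hi x hx
      have hd : c * x * c⁻¹ * x⁻¹ ∈ Cfsg.iterCommutator R L (i + 1) := by
        change _ ∈ ⁅Cfsg.iterCommutator R L i, L⁆
        rw [Subgroup.commutator_comm]
        exact commutator_mem_commutator hc hx
      exact H61.commute_of_comm_mem hR hco (hle _ hd) (ih (i + 1) (by omega) _ hd)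
  exact H61.eq_one_of_mem_pGroup hR (hC fun x hx => (key n 0 (by omega) x hx).symm) hco

end Cfsg.Agent.S2809
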