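import Cfsg.Statements.S2810
import Cfsg.Agent.H61.CharP
import Cfsg.Agent.Cores.PCore

set_option autoImplicit false
open Cfsg

namespace Cfsg.Agent.S2810

open Subgroup

/-- Let H be a finite group of characteristic p and L a subgroup of H centralizing every factor of some H-invariant chain 1 = A₀ ≤ A₁ ≤ … ≤ Aₙ = O_p(H) of normal subgroups (that is, [A_{i+1}, L] ≤ Aᵢ for each i). Then L ≤ O_p(H). -/
theorem result {H : Type*} [Group H] [Finite H] {p : ℕ} [Fact p.Prime] (hchar : Subgroup.centralizer (Cfsg.pCore p H : Set H) ≤ Cfsg.pCore p H) (L : Subgroup H) (n : ℕ) (A : Fin (n + 1) → Subgroup H) (h0 : A 0 = ⊥) (hn : A (Fin.last n) = Cfsg.pCore p H) (hmono : Monotone A) (hnorm : ∀ i, (A i).Normal) (hcent : ∀ i : Fin n, ⁅A i.succ, L⁆ ≤ A i.castSucc) : L ≤ Cfsg.pCore p H := by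
  have hn' : ∀ i, (A i).Normal := hnorm
  let S0 : Subgroup H := ⨅ i : Fin n, Cfsg.sectionKernel (A i.succ) (A i.castSucc)
  have hS0n : S0.Normal := normal_iInf_normal fun i => by
    have : ((A i.succ).map (QuotientGroup.mk' (A i.castSucc))).Normal :=
      (hnorm i.succ).map _ (QuotientGroup.mk'_surjective _)
    exact Normal.comap normal_centralizer _
  have hmem : ∀ (g : H) (i : Fin n), g ∈ Cfsg.sectionKernel (A i.succ) (A i.castSucc) ↔
      ∀ a ∈ A i.succ, g * a * g⁻¹ * a⁻¹ ∈ A i.castSucc := by
    intro g i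
    constructor
    · intro h a ha
      refine (QuotientGroup.eq_one_iff _).mp ?_
      have h1 := h _ (mem_map_of_mem (QuotientGroup.mk' (A i.castSucc)) ha)
      change QuotientGroup.mk' (A i.castSucc) (g * a * g⁻¹ * a⁻¹) = 1
      rw [map_mul, map_mul, map_mul, map_inv, map_inv, ← h1, mul_inv_cancel_right, mul_inv_cancel]
    · rintro h _ ⟨a, ha, rfl⟩
      have h1 : QuotientGroup.mk' (A i.castSucc) (g * a * g⁻¹ * a⁻¹) = 1 :=
        (QuotientGroup.eq_one_iff _).mpr (h a ha)
      rw [map_mul, map_mul, map_mul, map_inv, map_inv, mul_inv_eq_one, mul_inv_eq_iff_eq_mul] at h1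
      exact h1.symm
  have hLS : L ≤ S0 := le_iInf fun i l hl => (hmem l i).mpr fun a ha => by
    refine hcent i ?_
    rw [Subgroup.commutator_comm]
    exact commutator_mem_commutator hl ha
  have hp' : IsPGroup p S0 := by
    refine H61.isPGroup_of_forall_coprime fun c hc hco => ?_
    have key : ∀ i : Fin (n + 1), ∀ x ∈ A i, Commute c x := by
      intro i
      induction i using Fin.induction with
      | zero =>
        intro x hx
        rw [h0, mem_bot] at hx
        rw [hx]; exact Commute.one_right c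
      | succ i ih =>
        intro x hx
        have hd := (hmem c i).mp (mem_iInf.mp hc i) x hx
        refine H61.commute_of_comm_mem Cores.pCore_isPGroup hco ?_ (ih _ hd)
        exact hn ▸ hmono (Fin.le_last _) hd
    refine H61.eq_one_of_mem_pGroup Cores.pCore_isPGroup (hchar fun x hx => ?_) hco
    exact (key (Fin.last n) x (hn.symm ▸ hx)).symm
  exact hLS.trans (Cores.le_pCore hp')

end Cfsg.Agent.S2810
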