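import Cfsg.Statements.S2812
import Cfsg.Agent.Components.PAction
-- import your own Cfsg.Agent.* helpers here

set_option autoImplicit false
open Cfsg

namespace Cfsg.Agent.S2812

open Cfsg.Agent.Components
open scoped commutatorElement
set_option linter.style.haveILetI false

/-- Let H be a subgroup of the finite group G with O_p(H) = 1, Y a p-subgroup of G normalizing H, and L a subgroup of the generalized Fitting subgroup F*(H) that is subnormal in H and normalized by Y. Then L = [L, Y]·C_L(Y) and [L, Y] = [L, Y, Y]. -/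
theorem result {G : Type*} [Group G] [Finite G] {p : ℕ} [Fact p.Prime] (H : Subgroup G) (hO : Cfsg.pCore p ↥H = ⊥) (Y : Subgroup G) (hY : IsPGroup p ↥Y) (hYH : Y ≤ Subgroup.normalizer (H : Set G)) (L : Subgroup G) (hLF : L ≤ (Cfsg.generalizedFittingSubgroup ↥H).map H.subtype) (hLsn : (L.subgroupOf H).IsSubnormal) (hYL : Y ≤ Subgroup.normalizer (L : Set G)) : ⁅L, Y⁆ ⊔ (L ⊓ Subgroup.centralizer (Y : Set G)) = L ∧ ⁅L, Y⁆ = ⁅⁅L, Y⁆, Y⁆ := by
  have hle : L ≤ H := hLF.trans (Subgroup.map_subtype_le _)
  set e := Subgroup.subgroupOfEquivOfLe hle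
  have hle' : L.subgroupOf H ≤ Cfsg.generalizedFittingSubgroup ↥H := by
    have := Subgroup.comap_mono (f := H.subtype) hLF
    rwa [Subgroup.comap_map_eq_self_of_injective H.subtype_injective] at this
  have h1 : Cfsg.generalizedFittingSubgroup ↥L = ⊤ := by
    rw [← map_genFitting_equiv e, genFitting_eq_top_of_le hLsn hle',
      Subgroup.map_top_of_surjective _ e.surjective]
  have h2 : Cfsg.pCore p ↥L = ⊥ := by
    rw [← Cfsg.Agent.Cores.pCore_map_mulEquiv e, pCore_subnormal_eq_bot hLsn hO, Subgroup.map_bot]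
  exact ⟨commutator_sup_centralizer_genFitting h1 h2 hY hYL,
    (commutator_commutator_genFitting h1 h2 hY hYL).symm⟩

end Cfsg.Agent.S2812
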