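import Cfsg.Statements.S2813
import Cfsg.Agent.Cores.PCore

set_option autoImplicit false
open Cfsg

namespace Cfsg.Agent.S2813

open Subgroup
open scoped commutatorElement

/-- Let K be a subgroup of the finite group H with O_p(K) = 1 and Y a p-subgroup of N_H(K) with [K, Y, Y] = 1. Then [K, Y] = 1. -/
theorem result {H : Type*} [Group H] [Finite H] {p : ℕ} [Fact p.Prime] (K : Subgroup H) (hO : Cfsg.pCore p ↥K = ⊥) (Y : Subgroup H) (hY : IsPGroup p ↥Y) (hYK : Y ≤ Subgroup.normalizer (K : Set H)) (hq : ⁅⁅K, Y⁆, Y⁆ = ⊥) : ⁅K, Y⁆ = ⊥ := by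
  have hKn : K ≤ normalizer ((⁅K, Y⁆ : Subgroup H) : Set H) := normalizer_commutator_ge_left K Y
  have hCK : ⁅K, Y⁆ ≤ K := le_normalizer_iff_commutator_le_left.mp hYK
  set C := ⁅K, Y⁆ with hC
  have hYc : ∀ y ∈ Y, ∀ d ∈ C, Commute y d := fun y hy d hd => by
    have h1 := commutator_mem_commutator hd hy
    rw [hq, mem_bot] at h1
    exact (commutatorElement_eq_one_iff_mul_comm.mp h1).symm
  -- conjugates of `Y` centralize `C`
  have hconj : ∀ k ∈ K, ∀ y ∈ Y, ∀ d ∈ C, Commute (k * y * k⁻¹) d := fun k hk y hy d hd => by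
    have h1 := hYc y hy _ ((mem_normalizer_iff.mp (inv_mem (hKn hk)) d).mp hd)
    have h2 := h1.map (MulAut.conj k).toMonoidHom
    simpa [mul_assoc] using h2
  have hcomm : ∀ k ∈ K, ∀ y ∈ Y, ∀ d ∈ C, Commute ⁅k, y⁆ d := fun k hk y hy d hd => by
    rw [commutatorElement_def]
    exact (hconj k hk y hy d hd).mul_left (hYc _ (inv_mem hy) d hd)
  have hCC : C ≤ centralizer (C : Set H) := by
    refine commutator_le.mpr fun k hk y hy d hd => ?_
    exact (hcomm k hk y hy d hd).symm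
  have hpow : ∀ k ∈ K, ∀ y ∈ Y, ∀ m : ℕ, ⁅k, y ^ m⁆ = ⁅k, y⁆ ^ m := by
    intro k hk y hy m
    induction m with
    | zero => simp
    | succ m ih =>
      have hcd := hYc (y ^ m) (pow_mem hy m) _ (commutator_mem_commutator hk hy)
      rw [pow_succ ⁅k, y⁆, ← ih, pow_succ]
      calc ⁅k, y ^ m * y⁆ = ⁅k, y ^ m⁆ * (y ^ m * ⁅k, y⁆ * (y ^ m)⁻¹) := by
            simp only [commutatorElement_def]; group
        _ = ⁅k, y ^ m⁆ * ⁅k, y⁆ := by rw [hcd.eq, mul_inv_cancel_right]
  have hCp : IsPGroup p C := by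
    let P : Subgroup H :=
      { carrier := {d | d ∈ C ∧ ∃ k, d ^ p ^ k = 1}
        one_mem' := ⟨one_mem _, 0, one_pow _⟩
        mul_mem' := by
          rintro a b ⟨ha, i, hi⟩ ⟨hb, j, hj⟩
          refine ⟨mul_mem ha hb, i + j, ?_⟩
          rw [(show Commute a b from hCC hb a ha).mul_pow, pow_add, pow_mul, hi, one_pow, one_mul,
            mul_comm, pow_mul, hj, one_pow]
        inv_mem' := by
          rintro a ⟨ha, i, hi⟩
          exact ⟨inv_mem ha, i, by rw [inv_pow, hi, inv_one]⟩ }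
    have hle : C ≤ P := commutator_le.mpr fun k hk y hy => by
      obtain ⟨m, hm⟩ := hY ⟨y, hy⟩
      refine ⟨commutator_mem_commutator hk hy, m, ?_⟩
      rw [← hpow k hk y hy, show y ^ p ^ m = 1 from congrArg Subtype.val hm, commutatorElement_one_right]
    intro d
    obtain ⟨-, k, hk⟩ := hle d.2
    exact ⟨k, Subtype.ext hk⟩
  have hn : (C.subgroupOf K).Normal := (normal_subgroupOf_iff_le_normalizer hCK).mpr hKn
  have h1 := Cores.le_pCore (N := C.subgroupOf K) hCp.comap_subtype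
  rw [hO, le_bot_iff, subgroupOf_eq_bot] at h1
  exact (inf_eq_left.mpr hCK).symm.trans h1.eq_bot

end Cfsg.Agent.S2813
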