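import Cfsg.Statements.S2814
import Cfsg.Agent.H59.PIrred
import Cfsg.Agent.H77.Subnormal

set_option autoImplicit false
open Cfsg

namespace Cfsg.Agent.S2814

open Subgroup Cfsg.Agent
open scoped Pointwise commutatorElement

/-- Let A be a subgroup of the finite group H and K the subnormal closure of A (intersection of the subnormal subgroups containing A). Then K is the normal closure of A inside K and N_H(A) ≤ N_H(K); K = A·O^p(K), O^p(K) being generated by the elements of K of order prime to p; and if A is a p-group, O^p(K) = [O^p(K), A]. -/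
theorem result {H : Type*} [Group H] [Finite H] {p : ℕ} [Fact p.Prime] (A : Subgroup H) (K : Subgroup H) (hK : K = Cfsg.subnormalClosure A) : (Subgroup.normalClosure ((A.subgroupOf K : Subgroup ↥K) : Set ↥K)).map K.subtype = K ∧ Subgroup.normalizer (A : Set H) ≤ Subgroup.normalizer (K : Set H) ∧ A ⊔ (Cfsg.pResidual p ↥K).map K.subtype = K ∧ (IsPGroup p ↥A → ⁅(Cfsg.pResidual p ↥K).map K.subtype, A⁆ = (Cfsg.pResidual p ↥K).map K.subtype) := by
  subst hK
  set K := Cfsg.subnormalClosure A with hK
  have hsn : K.IsSubnormal := by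
    have key : ∀ S : Set (Subgroup H), S.Finite → (∀ X ∈ S, X.IsSubnormal) → (sInf S).IsSubnormal := by
      intro S hS
      induction S, hS using Set.Finite.induction_on with
      | empty => intro _; rw [sInf_empty]; exact .top
      | @insert X S _ _ ih =>
        intro h
        rw [sInf_insert]
        exact (h X (Set.mem_insert _ _)).inf (ih fun Y hY => h Y (Set.mem_insert_of_mem _ hY))
    exact key _ (Set.toFinite _) fun X hX => hX.2
  have hAK : A ≤ K := le_sInf fun X hX => hX.1
  have hmin : ∀ X : Subgroup H, A ≤ X → X.IsSubnormal → K ≤ X := fun X h1 h2 => sInf_le ⟨h1, h2⟩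
  -- subnormal subgroups of `K`
  have hminK : ∀ X : Subgroup K, A.subgroupOf K ≤ X → X.IsSubnormal → X = ⊤ := by
    intro X h1 h2
    refine eq_top_iff.mpr fun x _ => ?_
    obtain ⟨y, hy, hyx⟩ := hmin (X.map K.subtype) (fun a ha => ⟨⟨a, hAK ha⟩, h1 ha, rfl⟩)
      (Subgroup.IsSubnormal.trans' h2 hsn) x.2
    rwa [show y = x from Subtype.ext hyx] at hy
  set R := Cfsg.pResidual p ↥K with hR
  have h3 : A.subgroupOf K ⊔ R = ⊤ := by
    refine hminK _ le_sup_left ?_
    have hnil : Group.IsNilpotent (K ⧸ R) := (Fusion.isPGroup_quotient_pResidual (p := p) (G := K)).isNilpotent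
    have h1 := (H77.isSubnormal_of_isNilpotent hnil ((A.subgroupOf K).map (QuotientGroup.mk' R))).comap
      (QuotientGroup.mk' R)
    rwa [comap_map_eq, QuotientGroup.ker_mk'] at h1
  refine ⟨?_, ?_, ?_, fun hA => ?_⟩
  · rw [hminK _ subset_normalClosure (Subgroup.Normal.isSubnormal inferInstance),
      ← MonoidHom.range_eq_map, range_subtype]
  · intro g hg
    have hle : ∀ g, g ∈ normalizer (A : Set H) → K ≤ K.map (MulAut.conj g).toMonoidHom := by
      intro g hg
      refine hmin _ ?_ (hsn.map (MulAut.conj g).surjective)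
      calc A = A.map (MulAut.conj g).toMonoidHom := (mem_normalizer_iff_map_conj_eq.mp hg).symm
        _ ≤ _ := Subgroup.map_mono hAK
    refine H59.mem_normalizer_of_forall fun u hu => ?_
    obtain ⟨v, hv, hvu⟩ := hle g⁻¹ (inv_mem hg) hu
    have h4 : g⁻¹ * v * g⁻¹⁻¹ = u := hvu
    rw [show g * u * g⁻¹ = v by rw [← h4]; group]
    exact hv
  · have h4 := congrArg (Subgroup.map K.subtype) h3
    rwa [Subgroup.map_sup, subgroupOf_map_subtype, inf_of_le_left hAK, ← MonoidHom.range_eq_map,
      range_subtype] at h4
  · set A' := A.subgroupOf K with hA'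
    have hA'p : IsPGroup p A' := hA.comap_subtype
    set W := ⁅R, A'⁆ with hW
    have hWR : W ≤ R := Subgroup.commutator_le_left R A'
    have hWn : W.Normal := by
      refine normalizer_eq_top_iff.mp (top_le_iff.mp ?_)
      rw [← h3, sup_le_iff]
      exact ⟨normalizer_commutator_ge_right R A', normalizer_commutator_ge_left R A'⟩
    have htop : A' ⊔ W = ⊤ := by
      refine hminK _ le_sup_left (Subgroup.Normal.isSubnormal ?_)
      refine normalizer_eq_top_iff.mp (top_le_iff.mp ?_)
      rw [← h3, sup_le_iff]
      refine ⟨le_sup_left.trans Subgroup.le_normalizer, fun r hr => H59.mem_normalizer_of_forall fun u hu => ?_⟩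
      have h5 : (A' ⊔ W).map (MulAut.conj r).toMonoidHom ≤ A' ⊔ W := by
        rw [Subgroup.map_sup]
        refine sup_le ?_ ?_
        · rintro _ ⟨a, ha, rfl⟩
          have := mul_mem (mem_sup_right (S := A') (commutator_mem_commutator hr ha)) (mem_sup_left (T := W) ha)
          rw [commutatorElement_def, inv_mul_cancel_right] at this
          exact this
        · rintro _ ⟨w, hw, rfl⟩
          exact mem_sup_right (hWn.conj_mem w hw r)
      exact h5 (mem_map_of_mem _ hu)
    have hle : R ≤ W := by
      refine H59.pResidual_le_of_forall_pow fun x => ?_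
      have hx : x ∈ ((A' ⊔ W : Subgroup K) : Set K) := htop ▸ mem_top x
      rw [mul_normal] at hx
      obtain ⟨a, ha, w, hw, rfl⟩ := hx
      obtain ⟨k, hk⟩ := hA'p ⟨a, ha⟩
      refine ⟨k, (QuotientGroup.eq_one_iff _).mp ?_⟩
      rw [QuotientGroup.mk_pow, QuotientGroup.mk_mul_of_mem a hw, ← QuotientGroup.mk_pow,
        show a ^ p ^ k = 1 from congrArg Subtype.val hk, QuotientGroup.mk_one]
    have h6 := congrArg (Subgroup.map K.subtype) (le_antisymm hWR hle)
    rwa [hW, map_commutator, subgroupOf_map_subtype, inf_of_le_left hAK] at h6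

end Cfsg.Agent.S2814
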