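import Cfsg.Statements.S2815
import Cfsg.Agent.Components.PAction
import Cfsg.Agent.Cores.Residual
-- import your own Cfsg.Agent.* helpers here

set_option autoImplicit false
open Cfsg

namespace Cfsg.Agent.S2815

open Cfsg.Agent.Components
open scoped commutatorElement
set_option linter.style.haveILetI false

/-- Let H be a finite group and p a prime dividing its order with O_p(H) = 1, and suppose K = O^p(H) (generated by the elements of order prime to p) is quasisimple. Then K = F*(H); for every nontrivial p-subgroup Y of H, K = [K, Y] and K lies in the subgroup generated by the K-conjugates of Y; every normal subgroup of H not containing K has order prime to p; and H is p-irreducible. -/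
theorem result {H : Type*} [Group H] [Finite H] {p : ℕ} [Fact p.Prime] (hp : p ∣ Nat.card H) (hO : Cfsg.pCore p H = ⊥) (hq : Cfsg.IsQuasisimple ↥(Cfsg.pResidual p H)) : Cfsg.pResidual p H = Cfsg.generalizedFittingSubgroup H ∧ (∀ Y : Subgroup H, IsPGroup p ↥Y → Y ≠ ⊥ → ⁅Cfsg.pResidual p H, Y⁆ = Cfsg.pResidual p H ∧ Cfsg.pResidual p H ≤ ⨆ k : ↥(Cfsg.pResidual p H), Y.map (MulAut.conj (k : H)).toMonoidHom) ∧ (∀ C : Subgroup H, C.Normal → ¬ Cfsg.pResidual p H ≤ C → (Nat.card ↥C).Coprime p) ∧ Cfsg.IsPIrreducible p H := by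
  set K := Cfsg.pResidual p H with hK
  haveI hKn : K.Normal := Cfsg.Agent.Cores.pResidual_normal
  have hcomp : Cfsg.IsComponent K := ⟨hKn.isSubnormal, hq⟩
  have hKp : IsPGroup p (H ⧸ K) := Cfsg.Agent.Cores.isPGroup_quotient_pResidual
  have hcop : ∀ A : Subgroup H, (Nat.card ↥A).Coprime p → A ≤ K := fun A hA =>
    Cfsg.Agent.Cores.le_pResidual_of_coprime hA
  have hE : Cfsg.layer H = K := by
    refine le_antisymm (layer_le_iff.mpr fun L hL => ?_) (component_le_layer hcomp)
    haveI : Group.IsNilpotent ↥(L.map (QuotientGroup.mk' K)) :=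
      (hKp.to_subgroup _).isNilpotent
    have hperf : Group.IsPerfect ↥(L.map (QuotientGroup.mk' K)) := by
      rw [Subgroup.isPerfect_iff, ← Subgroup.map_commutator, component_perfect hL]
    rw [← QuotientGroup.ker_mk' K, ← Subgroup.map_eq_bot_iff]
    by_contra hne
    haveI := (Subgroup.nontrivial_iff_ne_bot _).mpr hne
    exact Group.IsPerfect.not_isNilpotent ↥(L.map (QuotientGroup.mk' K)) inferInstance
  have hF : Cfsg.generalizedFittingSubgroup H = K := by
    rw [genFitting_eq_sup, hE, sup_eq_left]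
    exact hcop _ (coprime_card_fitting hO)
  have hcent : Subgroup.centralizer (K : Set H) ≤ K := hF ▸ centralizer_genFitting_le
  have hY0 : ∀ Y : Subgroup H, IsPGroup p ↥Y → Y ≤ Subgroup.centralizer (K : Set H) → Y = ⊥ := by
    intro Y hY hle
    haveI : Group.IsNilpotent ↥(Subgroup.centralizer (K : Set H)) := by
      haveI : IsMulCommutative ↥(Subgroup.centralizer (K : Set H)) :=
        ⟨⟨fun a b => Subtype.ext (Subgroup.mem_centralizer_iff.mp b.2 a (hcent a.2))⟩⟩
      open scoped IsMulCommutative in infer_instance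
    have hc : (Nat.card ↥(Subgroup.centralizer (K : Set H))).Coprime p :=
      Nat.Coprime.coprime_dvd_left (Subgroup.card_dvd_of_le
        (normal_nilpotent_le_fitting inferInstance inferInstance)) (coprime_card_fitting hO)
    have h := Cfsg.Agent.Cores.disjoint_of_isPGroup_of_coprime hY hc
    rwa [inf_eq_left.mpr hle] at h
  have hYK : ∀ Y : Subgroup H, IsPGroup p ↥Y → Y ≠ ⊥ → ⁅K, Y⁆ = K := by
    intro Y hY hY1
    refine le_antisymm (Subgroup.commutator_le_left _ _) ?_
    refine (qs_le_commutator_or hq le_rfl ?_ (le_normalizer_of_normal _)).resolve_right fun h =>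
      hY1 (hY0 Y hY (Subgroup.commutator_eq_bot_iff_le_centralizer.mp
        (by rwa [Subgroup.commutator_comm])))
    rw [Subgroup.subgroupOf_self]
    exact Subgroup.IsSubnormal.top
  have hnormal : ∀ C : Subgroup H, C.Normal → ¬ K ≤ C → (Nat.card ↥C).Coprime p := by
    intro C hC hKC
    rw [Nat.coprime_comm, (Fact.out : p.Prime).coprime_iff_not_dvd]
    intro hdvd
    obtain ⟨P⟩ : Nonempty (Sylow p ↥C) := inferInstance
    have hP1 := P.ne_bot_of_dvd_card hdvd
    rw [ne_eq, ← Subgroup.map_eq_bot_iff_of_injective _ C.subtype_injective] at hP1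
    have h1 := hYK _ (P.isPGroup'.map C.subtype) hP1
    exact hKC (h1.ge.trans ((Subgroup.commutator_mono le_rfl (Subgroup.map_subtype_le _)).trans
      (Subgroup.commutator_le_right K C)))
  refine ⟨hF.symm, fun Y hY hY1 => ⟨hYK Y hY hY1, ?_⟩, hnormal, ?_, ?_⟩
  · set S := ⨆ k : ↥K, Y.map (MulAut.conj (k : H)).toMonoidHom
    refine (hYK Y hY hY1).ge.trans ?_
    rw [Subgroup.commutator_le]
    intro k hk y hy
    have h1 : k * y * k⁻¹ ∈ S := Subgroup.mem_iSup_of_mem ⟨k, hk⟩ ⟨y, hy, rfl⟩
    have h2 : y ∈ S := Subgroup.mem_iSup_of_mem 1 ⟨y, hy, by simp⟩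
    rw [commutatorElement_def]
    exact S.mul_mem h1 (S.inv_mem h2)
  · intro hclosed
    obtain ⟨P⟩ : Nonempty (Sylow p H) := inferInstance
    haveI := hclosed P
    refine P.ne_bot_of_dvd_card hp (le_bot_iff.mp ?_)
    exact (le_pCore (hclosed P) P.isPGroup').trans hO.le
  · intro N hN hnc
    by_contra hKN
    apply hnc
    intro P
    have hb : (P : Subgroup ↥N) = ⊥ := by
      have h := Cfsg.Agent.Cores.disjoint_of_isPGroup_of_coprime (A := (P : Subgroup ↥N))
        (B := (⊤ : Subgroup ↥N)) P.isPGroup' (by rw [Subgroup.card_top]; exact hnormal N hN hKN)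
      rwa [inf_top_eq] at h
    rw [hb]
    infer_instance

end Cfsg.Agent.S2815
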