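import Cfsg.Statements.S2816
import Cfsg.Agent.Components.PAction
-- import your own Cfsg.Agent.* helpers here

set_option autoImplicit false
open Cfsg

namespace Cfsg.Agent.S2816

open Cfsg.Agent.Components
open scoped commutatorElement
set_option linter.style.haveILetI false

/-- Let H be a finite group and p a prime with O_p(H) = 1, and Y a p-subgroup of H. Then for every subnormal subgroup K of H containing Y, [F*(H), Y] = [F*(K), Y] = [F*(K), Y, Y]; and if Y₀ ≤ Y with [F*(H), Y, Y₀] = 1 then Y₀ = 1 (in particular [F*(H), Y] = 1 forces Y = 1). -/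
theorem result {H : Type*} [Group H] [Finite H] {p : ℕ} [Fact p.Prime] (hO : Cfsg.pCore p H = ⊥) (Y : Subgroup H) (hY : IsPGroup p ↥Y) : (∀ K : Subgroup H, K.IsSubnormal → Y ≤ K → ⁅Cfsg.generalizedFittingSubgroup H, Y⁆ = ⁅(Cfsg.generalizedFittingSubgroup ↥K).map K.subtype, Y⁆ ∧ ⁅(Cfsg.generalizedFittingSubgroup ↥K).map K.subtype, Y⁆ = ⁅⁅(Cfsg.generalizedFittingSubgroup ↥K).map K.subtype, Y⁆, Y⁆) ∧ (∀ Y₀ : Subgroup H, Y₀ ≤ Y → ⁅⁅Cfsg.generalizedFittingSubgroup H, Y⁆, Y₀⁆ = ⊥ → Y₀ = ⊥) := by
  set FH := Cfsg.generalizedFittingSubgroup H with hFH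
  have hFn : FH.Normal := inferInstance
  have h1 : Cfsg.generalizedFittingSubgroup ↥FH = ⊤ :=
    genFitting_eq_top_of_le hFn.isSubnormal le_rfl
  have h2 : Cfsg.pCore p ↥FH = ⊥ := pCore_subnormal_eq_bot hFn.isSubnormal hO
  have hYF : ∀ Z : Subgroup H, Z ≤ Subgroup.normalizer (FH : Set H) := fun Z =>
    le_normalizer_of_normal _
  have hW := commutator_commutator_genFitting h1 h2 hY (hYF Y)
  refine ⟨fun K hK hYK => ?_, fun Y₀ hY₀ h0 => ?_⟩
  · set FK := (Cfsg.generalizedFittingSubgroup ↥K).map K.subtype with hFK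
    have hFK' : FK = FH ⊓ K := genFitting_subnormal hK
    have hWK : ∀ T : Subgroup H, T.IsSubnormal → Y ≤ T → ⁅FH, Y⁆ ≤ T := by
      intro T hT
      induction hT with
      | top => exact fun _ => le_top
      | step A B hAB _ hn ih =>
        intro hYA
        refine hW.ge.trans ((Subgroup.commutator_mono (ih (hYA.trans hAB)) hYA).trans ?_)
        exact commutator_le_of_le_normalizer (le_normalizer_of_normal_subgroupOf hAB hn)
    have hle : ⁅FH, Y⁆ ≤ FK := by
      rw [hFK']
      exact le_inf (Subgroup.commutator_le_left _ _) (hWK K hK hYK)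
    have heq : ⁅FH, Y⁆ = ⁅FK, Y⁆ :=
      le_antisymm (hW.ge.trans (Subgroup.commutator_mono hle le_rfl))
        (Subgroup.commutator_mono (hFK'.le.trans inf_le_left) le_rfl)
    refine ⟨heq, ?_⟩
    rw [← heq, hW]
  · have hY0p : IsPGroup p ↥Y₀ := hY.to_le hY₀
    have h3 : ⁅FH, Y₀⁆ = ⊥ := by
      refine commutator_eq_bot_genFitting h1 h2 hY0p (hYF Y₀) (le_bot_iff.mp ?_)
      exact (Subgroup.commutator_mono (Subgroup.commutator_mono le_rfl hY₀) le_rfl).trans h0.le
    rw [Subgroup.commutator_comm, Subgroup.commutator_eq_bot_iff_le_centralizer] at h3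
    have hc : (Nat.card ↥(Subgroup.centralizer (FH : Set H))).Coprime p := by
      haveI : IsMulCommutative ↥(Subgroup.centralizer (FH : Set H)) :=
        ⟨⟨fun a b => Subtype.ext (Subgroup.mem_centralizer_iff.mp b.2 a
          (centralizer_genFitting_le a.2))⟩⟩
      haveI : Group.IsNilpotent ↥(Subgroup.centralizer (FH : Set H)) := by
        open scoped IsMulCommutative in infer_instance
      exact Nat.Coprime.coprime_dvd_left (Subgroup.card_dvd_of_le
        (normal_nilpotent_le_fitting inferInstance inferInstance)) (coprime_card_fitting hO)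
    have h := Cfsg.Agent.Cores.disjoint_of_isPGroup_of_coprime hY0p hc
    rwa [inf_eq_left.mpr h3] at h

end Cfsg.Agent.S2816
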