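import Cfsg.Statements.S2817
import Cfsg.Agent.Components.PAction
import Cfsg.Agent.PGroups.Basic
-- import your own Cfsg.Agent.* helpers here

set_option autoImplicit false
open Cfsg

namespace Cfsg.Agent.S2817

open Cfsg.Agent.Components
open scoped commutatorElement
set_option linter.style.haveILetI false

/-- Let H be a finite group and p a prime with O_p(H) = 1, Q a p-subgroup of H, L = [F*(H), Q], and F the largest normal subgroup of F*(H) centralized by Q (a normal subgroup of F*(H) centralized by Q and containing every such). Then F = C_{F*(H)}(LQ); L = [L, Q]; L ∩ F ≤ Φ(L); every p-subgroup B of N_H(Q) with [L, B] ≤ F satisfies [L, B] = 1; and C_H(FL) has order prime to p. -/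
theorem result {H : Type*} [Group H] [Finite H] {p : ℕ} [Fact p.Prime] (hO : Cfsg.pCore p H = ⊥) (Q : Subgroup H) (hQ : IsPGroup p ↥Q) (L : Subgroup H) (hL : L = ⁅Cfsg.generalizedFittingSubgroup H, Q⁆) (F : Subgroup H) (hF : F ≤ Cfsg.generalizedFittingSubgroup H ∧ Cfsg.generalizedFittingSubgroup H ≤ Subgroup.normalizer (F : Set H) ∧ Q ≤ Subgroup.centralizer (F : Set H) ∧ ∀ N : Subgroup H, N ≤ Cfsg.generalizedFittingSubgroup H → Cfsg.generalizedFittingSubgroup H ≤ Subgroup.normalizer (N : Set H) → Q ≤ Subgroup.centralizer (N : Set H) → N ≤ F) : F = Cfsg.generalizedFittingSubgroup H ⊓ Subgroup.centralizer ((L ⊔ Q : Subgroup H) : Set H) ∧ ⁅L, Q⁆ = L ∧ L ⊓ F ≤ (frattini ↥L).map L.subtype ∧ (∀ B : Subgroup H, IsPGroup p ↥B → B ≤ Subgroup.normalizer (Q : Set H) → ⁅L, B⁆ ≤ F → ⁅L, B⁆ = ⊥) ∧ (Nat.card ↥(Subgroup.centralizer ((F ⊔ L : Subgroup H) : Set H))).Coprime p := by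
  obtain ⟨hFle, hFn, hQF, hFmax⟩ := hF
  set S := Cfsg.generalizedFittingSubgroup H with hSdef
  have hSn : S.Normal := inferInstance
  have h1 : Cfsg.generalizedFittingSubgroup ↥S = ⊤ :=
    genFitting_eq_top_of_le hSn.isSubnormal le_rfl
  have h2 : Cfsg.pCore p ↥S = ⊥ := pCore_subnormal_eq_bot hSn.isSubnormal hO
  have hYS : ∀ Z : Subgroup H, Z ≤ Subgroup.normalizer (S : Set H) := fun Z =>
    le_normalizer_of_normal _
  have hSC := commutator_sup_centralizer_genFitting h1 h2 hQ (hYS Q)
  rw [← hL] at hSC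
  have hLQ : ⁅L, Q⁆ = L := by rw [hL, commutator_commutator_genFitting h1 h2 hQ (hYS Q)]
  have hLS : L ≤ S := hL ▸ Subgroup.commutator_le_left _ _
  have hQL : Q ≤ Subgroup.normalizer (L : Set H) :=
    hL ▸ Subgroup.normalizer_commutator_ge_right _ _
  have hSL : S ≤ Subgroup.normalizer (L : Set H) :=
    hL ▸ Subgroup.normalizer_commutator_ge_left _ _
  have hLsn : L.IsSubnormal :=
    .step _ _ hLS hSn.isSubnormal ((Subgroup.normal_subgroupOf_iff_le_normalizer hLS).mpr hSL)
  have hLtop : Cfsg.generalizedFittingSubgroup ↥L = ⊤ := genFitting_eq_top_of_le hLsn hLS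
  have hLO : Cfsg.pCore p ↥L = ⊥ := pCore_subnormal_eq_bot hLsn hO
  have hFQ : ⁅F, Q⁆ = ⊥ := by
    rw [Subgroup.commutator_comm]
    exact Subgroup.commutator_eq_bot_iff_le_centralizer.mpr hQF
  have hLF : ⁅L, F⁆ = ⊥ := by
    rw [hL]
    refine Subgroup.commutator_commutator_eq_bot_of_rotate ?_ ?_
    · rw [Subgroup.commutator_comm Q F, hFQ, Subgroup.commutator_bot_left]
    · exact le_bot_iff.mp ((Subgroup.commutator_mono
        (Subgroup.le_normalizer_iff_commutator_le_left.mp hFn) le_rfl).trans hFQ.le)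
  have hFeq : F = S ⊓ Subgroup.centralizer ((L ⊔ Q : Subgroup H) : Set H) := by
    refine le_antisymm (le_inf hFle ?_) (hFmax _ inf_le_left ?_ ?_)
    · rw [Subgroup.le_centralizer_iff]
      exact sup_le (Subgroup.commutator_eq_bot_iff_le_centralizer.mp hLF) hQF
    · set C := Subgroup.centralizer ((L ⊔ Q : Subgroup H) : Set H) with hC
      refine hSC.ge.trans (sup_le ?_ ?_)
      · refine le_normalizer_of_commutator_eq_bot ?_
        rw [Subgroup.commutator_eq_bot_iff_le_centralizer, Subgroup.le_centralizer_iff]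
        exact inf_le_right.trans (Subgroup.centralizer_le (show (L : Set H) ⊆ (L ⊔ Q : Subgroup H)
          from fun x hx => Subgroup.mem_sup_left hx))
      · intro c hc
        have hcQ := map_conj_eq_of_mem_normalizer (Subgroup.centralizer_le_normalizer (Q : Set H) hc.2)
        have hcS := map_conj_eq_of_mem_normalizer (hYS ⊤ (Subgroup.mem_top c))
        have hcC : c ∈ Subgroup.normalizer (C : Set H) := by
          have hn : c ∈ Subgroup.normalizer ((L ⊔ Q : Subgroup H) : Set H) := by
            refine mem_normalizer_of_map_conj_eq ?_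
            rw [Subgroup.map_sup, hL, Subgroup.map_commutator, hcS, hcQ]
          refine Subgroup.mem_normalizer_iff.mpr fun z => ?_
          simp only [hC, Subgroup.mem_centralizer_iff, SetLike.mem_coe]
          constructor
          · intro hz w hw
            have hw' := (Subgroup.mem_normalizer_iff.mp hn (c⁻¹ * w * c)).mpr
              (by simpa [mul_assoc] using hw)
            have h3 := congrArg (fun t => c * t * c⁻¹) (hz _ hw')
            simpa [mul_assoc] using h3
          · intro hz w hw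
            have h3 := congrArg (fun t => c⁻¹ * t * c)
              (hz _ ((Subgroup.mem_normalizer_iff.mp hn w).mp hw))
            simpa [mul_assoc] using h3
        exact Subgroup.inf_normalizer_le_normalizer_inf ⟨hYS ⊤ (Subgroup.mem_top c), hcC⟩
    · rw [Subgroup.le_centralizer_iff]
      exact inf_le_right.trans (Subgroup.centralizer_le (show (Q : Set H) ⊆ (L ⊔ Q : Subgroup H)
        from fun x hx => Subgroup.mem_sup_right hx))
  -- `L ∩ F` is central in `L` and centralized by `Q`
  have hDL : ∀ d ∈ L ⊓ F, ∀ l ∈ L, l * d = d * l := fun d hd l hl =>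
    commute_of_commutator_eq_bot hLF hl hd.2
  have hDQ : ∀ d ∈ L ⊓ F, ∀ q ∈ Q, q * d = d * q := fun d hd q hq =>
    (commute_of_commutator_eq_bot hFQ hd.2 hq).symm
  have hab : L ⊓ F ≤ ⁅L, L⁆ := by
    intro z hz
    haveI : IsMulCommutative (↥L ⧸ commutator ↥L) :=
      (Subgroup.Normal.quotient_commutative_iff_commutator_le).mpr le_rfl
    haveI : Fintype ↥Q := Fintype.ofFinite _
    open scoped IsMulCommutative in
    let ψ : ↥L →* ↥L ⧸ commutator ↥L :=
      { toFun := fun l => ∏ q : ↥Q, QuotientGroup.mk'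
          (commutator ↥L) ⟨(q : H) * l * (q : H)⁻¹,
            (Subgroup.mem_normalizer_iff.mp (hQL q.2) l).mp l.2⟩
        map_one' := Finset.prod_eq_one fun q _ => by
          convert map_one (QuotientGroup.mk' (commutator ↥L)) using 2
          exact Subtype.ext (by simp)
        map_mul' := fun a b => by
          rw [← Finset.prod_mul_distrib]
          refine Finset.prod_congr rfl fun q _ => ?_
          rw [← map_mul]
          congr 1
          exact Subtype.ext (by simp [mul_assoc]) }
    have hker : L ≤ ψ.ker.map L.subtype := by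
      conv_lhs => rw [← hLQ]
      rw [Subgroup.commutator_le]
      intro l hl r hr
      have hr' : r * l⁻¹ * r⁻¹ ∈ L :=
        (Subgroup.mem_normalizer_iff.mp (hQL hr) _).mp (L.inv_mem hl)
      refine ⟨⟨l, hl⟩ * ⟨r * l⁻¹ * r⁻¹, hr'⟩, ?_, by
        simp [commutatorElement_def, mul_assoc]⟩
      open scoped IsMulCommutative in
      rw [SetLike.mem_coe, MonoidHom.mem_ker, map_mul, mul_eq_one_iff_eq_inv, ← map_inv]
      show ∏ q : ↥Q, _ = ∏ q : ↥Q, _
      rw [← Equiv.prod_comp (Equiv.mulRight (⟨r, hr⟩ : ↥Q))]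
      refine Finset.prod_congr rfl fun q _ => ?_
      congr 1
      exact Subtype.ext (by simp [mul_assoc])
    obtain ⟨⟨z', hz'L⟩, hz', he⟩ := hker hz.1
    change z' = z at he
    subst he
    rw [← Subgroup.map_subtype_commutator]
    refine ⟨⟨z', hz'L⟩, ?_, rfl⟩
    rw [SetLike.mem_coe, ← QuotientGroup.eq_one_iff]
    have h3 : (QuotientGroup.mk' (commutator ↥L) ⟨z', hz'L⟩) ^ Nat.card ↥Q = 1 := by
      open scoped IsMulCommutative in
      rw [Nat.card_eq_fintype_card, ← Finset.card_univ, ← Finset.prod_const]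
      rw [← MonoidHom.mem_ker.mp hz']
      refine Finset.prod_congr rfl fun q _ => ?_
      congr 1
      exact Subtype.ext (by
        show z' = (q : H) * z' * (q : H)⁻¹
        rw [hDQ z' hz q q.2]; group)
    -- the abelianization of `L` has order prime to `p`
    set π := QuotientGroup.mk' (commutator ↥L)
    have hcard : (Nat.card (↥L ⧸ commutator ↥L)).Coprime p := by
      have htop : (Cfsg.fittingSubgroup ↥L).map π = ⊤ := by
        rw [← Subgroup.map_top_of_surjective π (QuotientGroup.mk'_surjective _), ← hLtop,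
          genFitting_eq_sup, Subgroup.map_sup]
        rw [show (Cfsg.layer ↥L).map π = ⊥ from (Subgroup.map_eq_bot_iff _).mpr (by
          rw [QuotientGroup.ker_mk']
          exact layer_perfect.ge.trans (Subgroup.commutator_mono le_top le_top))]
        rw [bot_sup_eq]
      have h4 := Subgroup.card_map_dvd π (H := Cfsg.fittingSubgroup ↥L)
      rw [htop, Subgroup.card_top] at h4
      exact Nat.Coprime.coprime_dvd_left h4 (coprime_card_fitting hLO)
    obtain ⟨n, hn⟩ := IsPGroup.iff_card.mp hQ
    have h5 : orderOf (π ⟨z', hz'L⟩) = 1 :=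
      Nat.eq_one_of_dvd_coprimes (hcard.pow_right n) (orderOf_dvd_natCard _)
        (hn ▸ orderOf_dvd_of_pow_eq_one h3)
    exact orderOf_eq_one_iff.mp h5
  have hfrat : L ⊓ F ≤ (frattini ↥L).map L.subtype := by
    intro z hz
    refine ⟨⟨z, hz.1⟩, ?_, rfl⟩
    show (⟨z, hz.1⟩ : ↥L) ∈ Order.radical (Subgroup ↥L)
    rw [Order.radical]
    simp only [Subgroup.mem_iInf]
    intro M hM
    by_contra hzM
    have hMn : (M : Subgroup ↥L).Normal := by
      refine Subgroup.normalizer_eq_top_iff.mp (top_le_iff.mp ?_)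
      have hsup : M ⊔ Subgroup.zpowers (⟨z, hz.1⟩ : ↥L) = ⊤ :=
        hM.2 _ (lt_of_le_of_ne le_sup_left fun he =>
          hzM (he ▸ Subgroup.mem_sup_right (Subgroup.mem_zpowers _)))
      rw [← hsup]
      refine sup_le Subgroup.le_normalizer (Subgroup.zpowers_le.mpr
        (Subgroup.centralizer_le_normalizer _ (Subgroup.mem_centralizer_iff.mpr fun m _ => ?_)))
      exact Subtype.ext (hDL z hz m m.2)
    apply hzM
    have hcM : commutator ↥L ≤ M := by
      have hsup : M ⊔ Subgroup.zpowers (⟨z, hz.1⟩ : ↥L) = ⊤ :=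
        hM.2 _ (lt_of_le_of_ne le_sup_left fun he =>
          hzM (he ▸ Subgroup.mem_sup_right (Subgroup.mem_zpowers _)))
      rw [commutator_def, Subgroup.commutator_le]
      intro a _ b _
      obtain ⟨m, hm, u, hu, rfl⟩ := Subgroup.mem_sup_of_normal_left.mp
        (show a ∈ M ⊔ Subgroup.zpowers (⟨z, hz.1⟩ : ↥L) by rw [hsup]; trivial)
      have hu' : ∀ w : ↥L, w * u = u * w := by
        intro w
        obtain ⟨k, rfl⟩ := hu
        exact (Commute.zpow_right (show Commute w (⟨z, hz.1⟩ : ↥L) from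
          Subtype.ext (hDL z hz w w.2)) k).eq
      rw [commutatorElement_mul_left_eq_conj_mul,
        commutatorElement_eq_one_iff_mul_comm.mpr (hu' b).symm]
      simp only [mul_one, mul_inv_cancel, one_mul]
      exact Subgroup.commutator_le_left M ⊤
        (Subgroup.commutator_mem_commutator hm (Subgroup.mem_top b))
    obtain ⟨w, hw, hwz⟩ := (Subgroup.map_subtype_commutator L).ge (hab hz)
    exact (Subtype.ext hwz : w = ⟨z, hz.1⟩) ▸ hcM hw
  refine ⟨hFeq, hLQ, hfrat, fun B hB hBQ hLB => ?_, ?_⟩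
  · have hBL : B ≤ Subgroup.normalizer (L : Set H) := by
      intro b hb
      refine mem_normalizer_of_map_conj_eq ?_
      rw [hL, Subgroup.map_commutator, map_conj_eq_of_mem_normalizer (hYS B hb),
        map_conj_eq_of_mem_normalizer (hBQ hb)]
    have hD : ⁅L, B⁆ ≤ L ⊓ F :=
      le_inf (Subgroup.le_normalizer_iff_commutator_le_left.mp hBL) hLB
    have hQ0 : ⁅L, ⁅B, Q⁆⁆ = ⊥ := by
      have hBQle : ⁅B, Q⁆ ≤ Q := commutator_le_of_le_normalizer hBQ
      have h3 : ⁅⁅L, B⁆, Q⁆ = ⊥ :=
        le_bot_iff.mp ((Subgroup.commutator_mono (hD.trans inf_le_right) le_rfl).trans hFQ.le)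
      refine commutator_eq_bot_genFitting hLtop hLO (hQ.to_le hBQle) (hBQle.trans hQL)
        (le_bot_iff.mp ?_)
      refine le_trans (Subgroup.commutator_mono ?_ hBQle) h3.le
      -- `[B,Q]` centralizes `L` modulo `[L,B]`
      set A := ⁅L, B⁆ with hA
      have hQA : Q ≤ Subgroup.normalizer (A : Set H) :=
        le_normalizer_of_commutator_eq_bot (by rw [Subgroup.commutator_comm, hA]; exact h3)
      have hBA : B ≤ Subgroup.normalizer (A : Set H) := Subgroup.normalizer_commutator_ge_right _ _
      let T : Subgroup H :=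
        { carrier := {w | w ∈ Subgroup.normalizer (A : Set H) ⊓ Subgroup.normalizer (L : Set H) ∧
            ∀ l ∈ L, ⁅l, w⁆ ∈ A}
          one_mem' := ⟨one_mem _, fun l _ => by simp [commutatorElement_def, A.one_mem]⟩
          mul_mem' := fun {u v} hu hv => ⟨mul_mem hu.1 hv.1, fun l hl => by
            have e : ⁅l, u * v⁆ = ⁅l, u⁆ * (u * ⁅l, v⁆ * u⁻¹) := by
              simp [commutatorElement_def, mul_assoc]
            rw [e]
            exact A.mul_mem (hu.2 l hl)
              ((Subgroup.mem_normalizer_iff.mp hu.1.1 _).mp (hv.2 l hl))⟩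
          inv_mem' := fun {u} hu => ⟨inv_mem hu.1, fun l hl => by
            have h4 := A.inv_mem ((Subgroup.mem_normalizer_iff.mp (inv_mem hu.1.1) _).mp
              (hu.2 l hl))
            have e : ⁅l, u⁻¹⁆ = (u⁻¹ * ⁅l, u⁆ * u⁻¹⁻¹)⁻¹ := by
              simp [commutatorElement_def, mul_assoc]
            rw [e]
            exact h4⟩ }
      have hBT : B ≤ T := fun b hb =>
        ⟨⟨hBA hb, hBL hb⟩, fun l hl => Subgroup.commutator_mem_commutator hl hb⟩
      have hconj : ∀ q ∈ Q, ∀ g ∈ T, q * g * q⁻¹ ∈ T := by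
        intro q hq g hg
        refine ⟨⟨Subgroup.mul_mem _ (Subgroup.mul_mem _ (hQA hq) hg.1.1)
            (Subgroup.inv_mem _ (hQA hq)),
          Subgroup.mul_mem _ (Subgroup.mul_mem _ (hQL hq) hg.1.2)
            (Subgroup.inv_mem _ (hQL hq))⟩, fun l hl => ?_⟩
        have hl' : q⁻¹ * l * q ∈ L := by
          simpa using (Subgroup.mem_normalizer_iff.mp (hQL (Q.inv_mem hq)) l).mp hl
        have h4 := (Subgroup.mem_normalizer_iff.mp (hQA hq) _).mp (hg.2 _ hl')
        have e : ⁅l, q * g * q⁻¹⁆ = q * ⁅q⁻¹ * l * q, g⁆ * q⁻¹ := by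
          simp [commutatorElement_def, mul_assoc]
        rwa [e]
      have hBQT : ⁅B, Q⁆ ≤ T := by
        rw [Subgroup.commutator_le]
        intro b hb q hq
        have e : ⁅b, q⁆ = b * (q * b⁻¹ * q⁻¹) := by simp [commutatorElement_def, mul_assoc]
        rw [e]
        exact T.mul_mem (hBT hb) (hconj q hq _ (hBT (B.inv_mem hb)))
      rw [Subgroup.commutator_le]
      exact fun l hl w hw => (hBQT hw).2 l hl
    apply le_bot_iff.mp
    rw [Subgroup.commutator_le]
    intro l hl b hb
    rw [Subgroup.mem_bot, commutatorElement_eq_one_iff_mul_comm]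
    have hfix : L ≤ Subgroup.centralizer {b} := by
      rw [← hLQ, Subgroup.commutator_le]
      intro m hm q hq
      rw [Subgroup.mem_centralizer_singleton_iff]
      have hd : b * m * b⁻¹ * m⁻¹ ∈ L ⊓ F := by
        rw [Subgroup.commutator_comm] at hD
        exact hD (Subgroup.commutator_mem_commutator hb hm)
      have hw : b * q * b⁻¹ * q⁻¹ ∈ ⁅B, Q⁆ := Subgroup.commutator_mem_commutator hb hq
      have hq' : b * q * b⁻¹ ∈ Q := (Subgroup.mem_normalizer_iff.mp (hBQ hb) q).mp hq
      generalize hdd : b * m * b⁻¹ * m⁻¹ = d at hd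
      generalize hww : b * q * b⁻¹ * q⁻¹ = w at hw
      have hmw : ∀ x ∈ L, x * w = w * x := fun x hx => commute_of_commutator_eq_bot hQ0 hx hw
      have e1 : b * ⁅m, q⁆ * b⁻¹ = ⁅d * m, w * q⁆ := by
        rw [← hdd, ← hww]
        simp [commutatorElement_def, mul_assoc]
      have e2 : ⁅d * m, w * q⁆ = ⁅m, w * q⁆ := by
        have hdc : d * (w * q) = w * q * d := by
          have := hDQ d hd (w * q) (by rw [← hww]; simpa using hq')
          exact this.symm
        rw [commutatorElement_mul_left_eq_conj_mul]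
        rw [commutatorElement_eq_one_iff_mul_comm.mpr hdc, mul_one]
        have hL1 : ⁅m, w * q⁆ ∈ L := Subgroup.le_normalizer_iff_commutator_le_left.mp hQL
          (Subgroup.commutator_mem_commutator hm (by rw [← hww]; simpa using hq'))
        rw [← hDL d hd _ hL1]
        group
      have e3 : ⁅m, w * q⁆ = ⁅m, q⁆ := by
        have hqm : q * m⁻¹ * q⁻¹ ∈ L :=
          (Subgroup.mem_normalizer_iff.mp (hQL hq) _).mp (L.inv_mem hm)
        calc ⁅m, w * q⁆ = m * w * (q * m⁻¹ * q⁻¹) * w⁻¹ := by
              simp [commutatorElement_def, mul_assoc]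
          _ = m * (q * m⁻¹ * q⁻¹) := by
              rw [mul_assoc m w, ← hmw _ hqm]; group
          _ = ⁅m, q⁆ := by simp [commutatorElement_def, mul_assoc]
      rw [e2, e3] at e1
      calc ⁅m, q⁆ * b = b * ⁅m, q⁆ * b⁻¹ * b := by rw [e1]
        _ = b * ⁅m, q⁆ := by group
    exact Subgroup.mem_centralizer_singleton_iff.mp (hfix hl)
  · set C := Subgroup.centralizer ((F ⊔ L : Subgroup H) : Set H) with hC
    rw [Nat.coprime_comm, (Fact.out : p.Prime).coprime_iff_not_dvd]
    intro hdvd
    have hQC : Q ≤ Subgroup.normalizer (C : Set H) := by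
      intro q hq
      have hn : q ∈ Subgroup.normalizer ((F ⊔ L : Subgroup H) : Set H) :=
        inf_normalizer_le_normalizer_sup F L
          ⟨le_normalizer_of_commutator_eq_bot (by rwa [Subgroup.commutator_comm]) hq, hQL hq⟩
      refine Subgroup.mem_normalizer_iff.mpr fun z => ?_
      simp only [hC, Subgroup.mem_centralizer_iff, SetLike.mem_coe]
      constructor
      · intro hz w hw
        have hw' := (Subgroup.mem_normalizer_iff.mp hn (q⁻¹ * w * q)).mpr
          (by simpa [mul_assoc] using hw)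
        have h3 := congrArg (fun t => q * t * q⁻¹) (hz _ hw')
        simpa [mul_assoc] using h3
      · intro hz w hw
        have h3 := congrArg (fun t => q⁻¹ * t * q)
          (hz _ ((Subgroup.mem_normalizer_iff.mp hn w).mp hw))
        simpa [mul_assoc] using h3
    set T := C ⊔ Q with hT
    haveI hCT : (C.subgroupOf T).Normal :=
      (Subgroup.normal_subgroupOf_iff_le_normalizer le_sup_left).mpr
        (sup_le Subgroup.le_normalizer hQC)
    obtain ⟨P, hP⟩ := (hQ.comap_subtype (K := T)).exists_le_sylow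
    obtain ⟨c, hc⟩ := exists_prime_orderOf_dvd_card' p hdvd
    set c' : T := ⟨(c : H), Subgroup.mem_sup_left c.2⟩
    have hco : orderOf c' = p := by rw [Subgroup.orderOf_mk, Subgroup.orderOf_coe, hc]
    obtain ⟨P', hP'⟩ := (IsPGroup.of_card (n := 1)
      (by rw [Nat.card_zpowers, hco, pow_one]) : IsPGroup p (Subgroup.zpowers c')).exists_le_sylow
    obtain ⟨g, hg⟩ := MulAction.exists_smul_eq T P' P
    have hne : (C.subgroupOf T).subgroupOf (P : Subgroup T) ≠ ⊥ := by
      intro hb
      have hmem : g * c' * g⁻¹ ∈ (P : Subgroup T) := by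
        rw [← hg, Sylow.coe_subgroup_smul]
        exact ⟨c', hP' (Subgroup.mem_zpowers c'), rfl⟩
      have h3 : (⟨_, hmem⟩ : (P : Subgroup T)) ∈ (C.subgroupOf T).subgroupOf (P : Subgroup T) :=
        hCT.conj_mem c' (Subgroup.mem_subgroupOf.mpr c.2) g
      rw [hb, Subgroup.mem_bot] at h3
      have h4 : c' = 1 := by
        have := congrArg (fun t : (P : Subgroup T) => g⁻¹ * (t : T) * g) h3
        simpa [mul_assoc] using this
      rw [h4, orderOf_one] at hco
      exact (Fact.out : p.Prime).ne_one hco.symm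
    obtain ⟨z, hz1⟩ := Subgroup.ne_bot_iff_exists_ne_one.mp
      (Cfsg.Agent.PGroups.inf_center_ne_bot P.isPGroup'
        ((C.subgroupOf T).subgroupOf (P : Subgroup T)) hne)
    have hz := z.2
    set b : H := ((z : P).1 : T).1 with hb
    have hbC : b ∈ C := hz.1
    have hbQ : ∀ q ∈ Q, q * b = b * q := fun q hq =>
      congrArg (fun t : (P : Subgroup T) => ((t : T) : H))
        (Subgroup.mem_center_iff.mp hz.2 ⟨⟨q, Subgroup.mem_sup_right hq⟩, hP hq⟩)
    set Z := Subgroup.zpowers b with hZ
    have hZp : IsPGroup p Z := by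
      obtain ⟨k, hk⟩ := IsPGroup.iff_orderOf.mp P.isPGroup' z.1
      refine IsPGroup.of_card (n := k) ?_
      rw [Nat.card_zpowers, hb, Subgroup.orderOf_coe, Subgroup.orderOf_coe, hk]
    have hZL : ⁅L, Z⁆ = ⊥ := by
      rw [Subgroup.commutator_comm, Subgroup.commutator_eq_bot_iff_le_centralizer,
        Subgroup.zpowers_le]
      exact Subgroup.centralizer_le (show (L : Set H) ⊆ (F ⊔ L : Subgroup H) from
        fun x hx => Subgroup.mem_sup_right hx) hbC
    have hZF : ⁅F, Z⁆ = ⊥ := by
      rw [Subgroup.commutator_comm, Subgroup.commutator_eq_bot_iff_le_centralizer,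
        Subgroup.zpowers_le]
      exact Subgroup.centralizer_le (show (F : Set H) ⊆ (F ⊔ L : Subgroup H) from
        fun x hx => Subgroup.mem_sup_left hx) hbC
    have hZQ : ⁅Q, Z⁆ = ⊥ := by
      rw [Subgroup.commutator_comm, Subgroup.commutator_eq_bot_iff_le_centralizer,
        Subgroup.zpowers_le]
      exact Subgroup.mem_centralizer_iff.mpr hbQ
    have h3 : ⁅S, Z⁆ ≤ F := by
      refine hFmax _ (Subgroup.commutator_le_left _ _) (Subgroup.normalizer_commutator_ge_left _ _) ?_
      rw [← Subgroup.commutator_eq_bot_iff_le_centralizer, Subgroup.commutator_comm]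
      refine Subgroup.commutator_commutator_eq_bot_of_rotate ?_ ?_
      · rw [Subgroup.commutator_comm Z Q, hZQ, Subgroup.commutator_bot_left]
      · rwa [Subgroup.commutator_comm Q S, ← hL]
    have h4 : ⁅S, Z⁆ = ⊥ := commutator_eq_bot_genFitting h1 h2 hZp (hYS Z)
      (le_bot_iff.mp ((Subgroup.commutator_mono h3 le_rfl).trans hZF.le))
    rw [Subgroup.commutator_comm, Subgroup.commutator_eq_bot_iff_le_centralizer] at h4
    have hCS : IsMulCommutative ↥(Subgroup.centralizer (S : Set H)) :=
      ⟨⟨fun u v => Subtype.ext (Subgroup.mem_centralizer_iff.mp v.2 u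
        (centralizer_genFitting_le u.2))⟩⟩
    haveI : Group.IsNilpotent ↥(Subgroup.centralizer (S : Set H)) := by
      open scoped IsMulCommutative in infer_instance
    have h5 := Cfsg.Agent.Cores.disjoint_of_isPGroup_of_coprime hZp
      (Nat.Coprime.coprime_dvd_left (Subgroup.card_dvd_of_le
        (normal_nilpotent_le_fitting (N := Subgroup.centralizer (S : Set H)) inferInstance
          inferInstance)) (coprime_card_fitting hO))
    rw [inf_eq_left.mpr h4, hZ, Subgroup.zpowers_eq_bot] at h5
    exact hz1 (Subtype.ext (Subtype.ext (Subtype.ext h5)))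

end Cfsg.Agent.S2817
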