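import Cfsg.Statements.S2818
import Cfsg.Agent.H59.Kieler
import Cfsg.Agent.PGroups.Basic

set_option autoImplicit false
open Cfsg

namespace Cfsg.Agent.S2818

open Subgroup
open scoped commutatorElement

/-- Let P be a finite p-subgroup of a group G and H a subgroup of N_G(P) with [P, H] ≤ Ω₁(Z(P)) (the elements of order dividing p in the centre of P). Then H centralizes the Frattini subgroup of P. -/
theorem result {G : Type*} [Group G] [Finite G] {p : ℕ} [Fact p.Prime] (P : Subgroup G) (hP : IsPGroup p ↥P) (H : Subgroup G) (hH : H ≤ Subgroup.normalizer (P : Set G)) (h : ⁅P, H⁆ ≤ Cfsg.omegaOne p (P ⊓ Subgroup.centralizer (P : Set G))) : ⁅(frattini ↥P).map P.subtype, H⁆ = ⊥ := by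
  have hd : ∀ h ∈ H, ∀ x ∈ P, ⁅x, h⁆ ∈ P ∧ ⁅x, h⁆ ∈ centralizer (P : Set G) ∧ ⁅x, h⁆ ^ p = 1 :=
    fun g hg x hx => H59.mem_omegaOne_center (h (commutator_mem_commutator hx hg))
  refine commutator_eq_bot_iff_le_centralizer.mpr ?_
  rintro _ ⟨x, hx, rfl⟩ g hg
  -- the endomorphism induced by `g`
  let c : P →* P :=
    { toFun := fun y => ⟨g * y * g⁻¹, (mem_normalizer_iff.mp (hH hg) _).mp y.2⟩
      map_one' := Subtype.ext (by simp)
      map_mul' := fun a b => Subtype.ext (by simp [mul_assoc]) }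
  have hcx : ∀ y : P, ((c y : P) : G) = g * y * g⁻¹ := fun y => rfl
  have hfix : frattini ↥P ≤ MonoidHom.eqLocus c (MonoidHom.id P) := by
    rw [PGroups.frattini_eq hP, sup_le_iff]
    have hkey : ∀ y : P, ∃ d : P, d ∈ center P ∧ d ^ p = 1 ∧ y = d * c y := fun y => by
      obtain ⟨h1, h2, h3⟩ := hd g hg _ y.2
      refine ⟨⟨_, h1⟩, mem_center_iff.mpr fun z => Subtype.ext (h2 _ z.2), Subtype.ext h3, Subtype.ext ?_⟩
      change (y : G) = ⁅(y : G), g⁆ * (g * y * g⁻¹)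
      rw [commutatorElement_def]; group
    refine ⟨?_, (closure_le _).mpr ?_⟩
    · rw [commutator_def, commutator_le]
      intro a _ b _
      obtain ⟨d, hd1, -, hda⟩ := hkey a
      obtain ⟨e, he1, -, heb⟩ := hkey b
      change c ⁅a, b⁆ = ⁅a, b⁆
      conv_rhs => rw [hda, heb]
      rw [map_commutatorElement]
      simp only [commutatorElement_def, mul_inv_rev]
      have k1 : ∀ z, z * d = d * z := mem_center_iff.mp hd1
      have k2 : ∀ z, z * e = e * z := mem_center_iff.mp he1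
      have k3 : ∀ z, z * d⁻¹ = d⁻¹ * z := mem_center_iff.mp (inv_mem hd1)
      have k4 : ∀ z, z * e⁻¹ = e⁻¹ * z := mem_center_iff.mp (inv_mem he1)
      calc c a * c b * (c a)⁻¹ * (c b)⁻¹ = (d * d⁻¹) * (e * e⁻¹) * (c a * c b * (c a)⁻¹ * (c b)⁻¹) := by group
        _ = d * c a * (e * c b) * ((c a)⁻¹ * d⁻¹) * ((c b)⁻¹ * e⁻¹) := by
          rw [show d * c a * (e * c b) * ((c a)⁻¹ * d⁻¹) * ((c b)⁻¹ * e⁻¹) =
            d * (c a * e) * c b * (((c a)⁻¹ * d⁻¹) * ((c b)⁻¹ * e⁻¹)) by group, k2 (c a),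
            k3 (c a)⁻¹, k4 (c b)⁻¹]
          rw [show d * (e * c a) * c b * ((d⁻¹ * (c a)⁻¹) * (e⁻¹ * (c b)⁻¹)) =
            d * e * ((c a * c b) * d⁻¹) * ((c a)⁻¹ * e⁻¹) * (c b)⁻¹ by group, k3 (c a * c b), k4 (c a)⁻¹]
          rw [show d * e * (d⁻¹ * (c a * c b)) * (e⁻¹ * (c a)⁻¹) * (c b)⁻¹ =
            d * (e * d⁻¹) * ((c a * c b) * e⁻¹) * (c a)⁻¹ * (c b)⁻¹ by group, k3 e, k4 (c a * c b)]
          group
    · rintro _ ⟨y, rfl⟩
      obtain ⟨d, hd1, hd3, hy⟩ := hkey y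
      change c (y ^ p) = y ^ p
      conv_rhs => rw [hy, (show Commute d (c y) from (mem_center_iff.mp hd1 _).symm).mul_pow, hd3, one_mul]
      rw [map_pow]
  have h1 : g * (x : G) * g⁻¹ = x := by
    rw [← hcx]; exact congrArg Subtype.val (hfix hx)
  exact mul_inv_eq_iff_eq_mul.mp h1

end Cfsg.Agent.S2818
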