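import Cfsg.Statements.S2819
import Cfsg.Agent.H59.PReduced
import Cfsg.Agent.PGroups.Basic

set_option autoImplicit false
open Cfsg

namespace Cfsg.Agent.S2819

open Subgroup Cfsg.Agent
open scoped Pointwise commutatorElement

/-- Let P be a finite p-subgroup of a group G, H a subgroup of N_G(P), and Y a subgroup of H centralizing the derived subgroup P' such that [P, Y] is elementary abelian. Then O^p(⟨Y^H⟩), the subgroup of the normal closure of Y in H generated by its elements of order prime to p, centralizes the Frattini subgroup of P. -/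
theorem result {G : Type*} [Group G] [Finite G] {p : ℕ} [Fact p.Prime] (P : Subgroup G) (hP : IsPGroup p ↥P) (H : Subgroup G) (hH : H ≤ Subgroup.normalizer (P : Set G)) (Y : Subgroup G) (hYH : Y ≤ H) (hYc : Y ≤ Subgroup.centralizer ((⁅P, P⁆ : Subgroup G) : Set G)) (hel : Cfsg.IsElementaryAbelian p ⁅P, Y⁆) (NY : Subgroup G) (hNY : NY = (Subgroup.normalClosure ((Y.subgroupOf H : Subgroup ↥H) : Set ↥H)).map H.subtype) : (Cfsg.pResidual p ↥NY).map NY.subtype ≤ Subgroup.centralizer (((frattini ↥P).map P.subtype : Subgroup G) : Set G) := by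
  subst hNY
  set P' := ⁅P, P⁆ with hP'
  have hP'P : P' ≤ P := Subgroup.commutator_le_self P
  have hP'n : normalizer (P : Set G) ≤ normalizer (P' : Set G) := fun g hg => by
    have e : P.map (MulAut.conj g).toMonoidHom = P := mem_normalizer_iff_map_conj_eq.mp hg
    refine mem_normalizer_iff_map_conj_eq.mpr ?_
    change P'.map (MulAut.conj g).toMonoidHom = P'
    rw [hP', map_commutator, e]
  let E : Subgroup G :=
    { carrier := {a | a ∈ normalizer (P : Set G) ∧ a ∈ centralizer (P' : Set G) ∧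
        ∀ x ∈ P, a * x ^ p * a⁻¹ * (x ^ p)⁻¹ ∈ P'}
      one_mem' := ⟨one_mem _, one_mem _, fun x _ => by simp⟩
      mul_mem' := by
        rintro a b ⟨ha, hac, ha'⟩ ⟨hb, hbc, hb'⟩
        refine ⟨mul_mem ha hb, mul_mem hac hbc, fun x hx => ?_⟩
        have : a * b * x ^ p * (a * b)⁻¹ * (x ^ p)⁻¹ =
            a * (b * x ^ p * b⁻¹ * (x ^ p)⁻¹) * a⁻¹ * (a * x ^ p * a⁻¹ * (x ^ p)⁻¹) := by group
        rw [this, ← hac _ (hb' x hx), mul_inv_cancel_right]
        exact mul_mem (hb' x hx) (ha' x hx)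
      inv_mem' := by
        rintro a ⟨ha, hac, ha'⟩
        refine ⟨inv_mem ha, inv_mem hac, fun x hx => ?_⟩
        have hx' : a⁻¹ * x * a⁻¹⁻¹ ∈ P := (mem_normalizer_iff.mp (inv_mem ha) x).mp hx
        have h1 := inv_mem (ha' _ hx')
        rw [conj_pow] at h1
        simpa [mul_assoc] using h1 }
  have hYE : Y ≤ E := fun y hy => by
    have hyP := hH (hYH hy)
    refine ⟨hyP, hYc hy, fun x hx => ?_⟩
    have hc : ⁅x, y⁆ ∈ P := by
      rw [commutatorElement_def, mul_assoc, mul_assoc, ← mul_assoc y]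
      exact mul_mem hx ((mem_normalizer_iff.mp hyP _).mp (inv_mem hx))
    -- compute in the abelianization of `P`
    let f : P →* Abelianization P := Abelianization.of
    have hker : ∀ u : P, f u = 1 → (u : G) ∈ P' := by
      intro u hu
      have hu' : u ∈ commutator P := (QuotientGroup.eq_one_iff u).mp hu
      have := mem_map_of_mem P.subtype hu'
      rwa [map_subtype_commutator] at this
    set xP : P := ⟨x, hx⟩
    set cP : P := ⟨⁅x, y⁆, hc⟩
    have hcp : cP ^ p = 1 := Subtype.ext (hel.2 _ (commutator_mem_commutator hx hy))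
    have h2 := hker ((cP⁻¹ * xP) ^ p * (xP ^ p)⁻¹) (by
      rw [map_mul, map_pow, map_mul, map_inv, map_inv, map_pow, mul_pow, inv_pow, ← map_pow f cP,
        hcp, map_one, inv_one, one_mul, mul_inv_cancel])
    have h3 : (⁅x, y⁆⁻¹ * x) = y * x * y⁻¹ := by simp only [commutatorElement_def]; group
    have h4 : (y * x * y⁻¹) ^ p * (x ^ p)⁻¹ ∈ P' := by rw [← h3]; exact h2
    rwa [conj_pow] at h4
  have hnE : ∀ a ∈ normalizer (P : Set G), ∀ b ∈ E, a * b * a⁻¹ ∈ E := by
    rintro a ha b ⟨hb, hbc, hb'⟩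
    refine ⟨mul_mem (mul_mem ha hb) (inv_mem ha),
      (mem_normalizer_iff.mp (H60.normalizer_le_normalizer_centralizer P' (hP'n ha)) b).mp hbc,
      fun x hx => ?_⟩
    have hx' : a⁻¹ * x * a⁻¹⁻¹ ∈ P := (mem_normalizer_iff.mp (inv_mem ha) x).mp hx
    have h1 := (mem_normalizer_iff.mp (hP'n ha) _).mp (hb' _ hx')
    rw [conj_pow] at h1
    simpa [mul_assoc] using h1
  set NY := (Subgroup.normalClosure ((Y.subgroupOf H : Subgroup ↥H) : Set ↥H)).map H.subtype with hNY
  have hNE : NY ≤ E := by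
    rintro _ ⟨u, hu, rfl⟩
    have : (E.subgroupOf H).Normal := ⟨fun b hb a => hnE a (hH a.2) b hb⟩
    exact normalClosure_le_normal (N := E.subgroupOf H) (fun y hy => hYE hy) hu
  rw [map_le_iff_le_comap]
  refine Fusion.pResidual_le.mpr fun r hr => ?_
  obtain ⟨hrP, hrc, hr'⟩ := hNE r.2
  have hΦ : (frattini ↥P).map P.subtype ≤ centralizer ({(r : G)} : Set G) := by
    rw [PGroups.frattini_eq hP, Subgroup.map_sup, MonoidHom.map_closure]
    refine sup_le ?_ ((closure_le _).mpr ?_)
    · rw [map_subtype_commutator]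
      intro u hu
      rintro _ rfl
      exact (hrc u hu).symm
    · rintro _ ⟨_, ⟨x, rfl⟩, rfl⟩ _ rfl
      refine (H61.commute_of_comm_mem (hP.to_le hP'P) (by rwa [Subgroup.orderOf_coe]) (hr' x x.2) ?_).eq
      exact (hrc _ (hr' x x.2)).symm
  exact fun u hu => (hΦ hu (r : G) rfl).symm

end Cfsg.Agent.S2819
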