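import Cfsg.Statements.S2823
import Cfsg.Agent.H59.Trace

set_option autoImplicit false
open Cfsg

namespace Cfsg.Agent.S2823

open Subgroup
open scoped commutatorElement

/-- Let H be a finite group, p a prime, T a Sylow p-subgroup and L a subgroup of characteristic p containing T; let Z_L be the subgroup generated by the Ω₁(Z(S)) over the Sylow p-subgroups S of L and O^p(L) the subgroup generated by the elements of L of order prime to p. Then Z_L = Ω₁(Z(L))·[Z_L, O^p(L)] and [Z_L, L] = [Z_L, O^p(L)]. -/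
theorem result {H : Type*} [Group H] [Finite H] {p : ℕ} [Fact p.Prime] (T : Sylow p H) (L : Subgroup H) (hTL : (T : Subgroup H) ≤ L) (hL : Subgroup.centralizer (Cfsg.pCore p ↥L : Set ↥L) ≤ Cfsg.pCore p ↥L) : Cfsg.sylowCenterClosure p L = (Cfsg.omegaOne p (L ⊓ Subgroup.centralizer ((L : Subgroup H) : Set H))) ⊔ ⁅Cfsg.sylowCenterClosure p L, (Cfsg.pResidual p ↥L).map L.subtype⁆ ∧ ⁅Cfsg.sylowCenterClosure p L, L⁆ = ⁅Cfsg.sylowCenterClosure p L, (Cfsg.pResidual p ↥L).map L.subtype⁆ := by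
  set R := (Cfsg.pResidual p ↥L).map L.subtype with hR
  set Z := Cfsg.sylowCenterClosure p L with hZ
  have hZY : Z ≤ Cfsg.largestPReducedOf p L := H59.sylowCenterClosure_le_yOf hL
  have hZel : Cfsg.IsElementaryAbelian p Z :=
    H59.isElementaryAbelian_mono (H60.isElementaryAbelian_yOf L) hZY
  have hZL : Z ≤ L := hZY.trans (H60.yOf_le L)
  have hconj : ∀ g ∈ L, ∀ z ∈ Z, g * z * g⁻¹ ∈ Z := by
    intro g hg z hz
    suffices h : Z.map (MulAut.conj g).toMonoidHom ≤ Z from h (mem_map_of_mem _ hz)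
    rw [hZ, Cfsg.sylowCenterClosure, Subgroup.map_iSup]
    refine iSup_le fun S => ?_
    rw [Cfsg.omegaOne, MonoidHom.map_closure]
    refine (closure_le _).mpr ?_
    rintro _ ⟨x, ⟨⟨⟨s, hs, rfl⟩, hxc⟩, hxp⟩, rfl⟩
    refine le_iSup (fun S : Sylow p L => Cfsg.omegaOne p (((S : Subgroup L).map L.subtype) ⊓
      centralizer (((S : Subgroup L).map L.subtype : Subgroup H) : Set H))) ((⟨g, hg⟩ : L) • S)
      (subset_closure ⟨⟨⟨⟨g, hg⟩ * s * ⟨g, hg⟩⁻¹, ⟨s, hs, rfl⟩, rfl⟩, ?_⟩, ?_⟩)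
    · rintro _ ⟨_, ⟨t, ht, rfl⟩, rfl⟩
      have := (show Commute ((t : L) : H) ((s : L) : H) from hxc _ (mem_map_of_mem L.subtype ht)).map
        (MulAut.conj g).toMonoidHom
      exact this
    · change (g * (s : H) * g⁻¹) ^ p = 1
      rw [conj_pow, show (s : H) ^ p = 1 from hxp, mul_one, mul_inv_cancel]
  have hLn : L ≤ normalizer (Z : Set H) := fun g hg =>
    H59.mem_normalizer_of_forall (hconj g hg)
  have hRn : L ≤ normalizer (R : Set H) := fun g hg => H59.mem_normalizer_of_forall fun u hu => by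
    obtain ⟨y, hy, rfl⟩ := hu
    exact ⟨⟨g, hg⟩ * y * ⟨g, hg⟩⁻¹, Normal.conj_mem inferInstance y hy _, rfl⟩
  have hRL : R ≤ L := map_subtype_le _
  set W := ⁅Z, R⁆ with hW
  have hWZ : W ≤ Z := le_normalizer_iff_commutator_le_left.mp (hRL.trans hLn)
  have hsup : ∀ S : Sylow p L, L ≤ R ⊔ (S : Subgroup L).map L.subtype := fun S => by
    have := congrArg (Subgroup.map L.subtype) (Fusion.sylow_sup_pResidual S)
    rw [Subgroup.map_sup, ← MonoidHom.range_eq_map, range_subtype] at this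
    rw [sup_comm]; exact this.ge
  -- the elements whose commutators with `L` lie in `W`
  let K : Subgroup H :=
    { carrier := {z | z ∈ Z ∧ ∀ l ∈ L, ⁅z, l⁆ ∈ W}
      one_mem' := ⟨one_mem _, fun l _ => by rw [commutatorElement_one_left]; exact one_mem _⟩
      mul_mem' := by
        rintro a b ⟨ha, ha'⟩ ⟨hb, hb'⟩
        refine ⟨mul_mem ha hb, fun l hl => ?_⟩
        have hc : a * ⁅b, l⁆ = ⁅b, l⁆ * a :=
          congrArg (fun z : Z => (z : H)) (hZel.1.is_comm.comm (⟨a, ha⟩ : Z) ⟨_, hWZ (hb' l hl)⟩)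
        have : ⁅a * b, l⁆ = a * ⁅b, l⁆ * a⁻¹ * ⁅a, l⁆ := by simp only [commutatorElement_def]; group
        rw [this, hc, mul_inv_cancel_right]
        exact mul_mem (hb' l hl) (ha' l hl)
      inv_mem' := by
        rintro a ⟨ha, ha'⟩
        refine ⟨inv_mem ha, fun l hl => ?_⟩
        have hc : a⁻¹ * ⁅a, l⁆⁻¹ = ⁅a, l⁆⁻¹ * a⁻¹ :=
          congrArg (fun z : Z => (z : H))
            (hZel.1.is_comm.comm (⟨_, inv_mem ha⟩ : Z) ⟨_, inv_mem (hWZ (ha' l hl))⟩)
        have : ⁅a⁻¹, l⁆ = a⁻¹ * ⁅a, l⁆⁻¹ * a := by simp only [commutatorElement_def]; group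
        rw [this, hc, inv_mul_cancel_right]
        exact inv_mem (ha' l hl) }
  have hZK : Z ≤ K := iSup_le fun S => (closure_le _).mpr fun z hz =>
    have hzZ : z ∈ Z := le_iSup (fun S : Sylow p L => Cfsg.omegaOne p (((S : Subgroup L).map L.subtype) ⊓
      centralizer (((S : Subgroup L).map L.subtype : Subgroup H) : Set H))) S (subset_closure hz)
    ⟨hzZ, H59.commutatorElement_mem_of_fixed ((map_subtype_le _).trans hRn)
      (fun s hs => hz.1.2 s hs) (hsup S) fun r hr => commutator_mem_commutator hzZ hr⟩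
  refine ⟨le_antisymm ?_ (sup_le ?_ hWZ),
    le_antisymm (commutator_le.mpr fun z hz l hl => (hZK hz).2 l hl) (commutator_mono le_rfl hRL)⟩
  · refine iSup_le fun S => (closure_le _).mpr fun z hz => ?_
    have hzZ : z ∈ Z := le_iSup (fun S : Sylow p L => Cfsg.omegaOne p (((S : Subgroup L).map L.subtype) ⊓
      centralizer (((S : Subgroup L).map L.subtype : Subgroup H) : Set H))) S (subset_closure hz)
    obtain ⟨π, hπZ, hπc, hπW⟩ := H59.exists_trace hZel.1 hLn hzZ (fun s hs => hz.1.2 s hs) W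
      fun l hl => (hZK hzZ).2 l hl
    have hn : ¬ p ∣ ((S : Subgroup L).map L.subtype).relIndex L := by
      rw [relIndex, show ((S : Subgroup L).map L.subtype).subgroupOf L = (S : Subgroup L) from
        comap_map_eq_self_of_injective L.subtype_injective _]
      exact S.not_dvd_index
    refine H59.mem_of_pow_mem hz.2 hn ?_
    have h1 : π ∈ Cfsg.omegaOne p (L ⊓ centralizer (L : Set H)) :=
      subset_closure ⟨⟨hZL hπZ, hπc⟩, hZel.2 π hπZ⟩
    have h2 := mul_mem (mem_sup_right (S := Cfsg.omegaOne p (L ⊓ centralizer (L : Set H))) hπW)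
      (mem_sup_left (T := W) h1)
    rwa [inv_mul_cancel_right] at h2
  · refine (closure_le _).mpr ?_
    rintro x ⟨⟨hxL, hxc⟩, hxp⟩
    have hxcore : x ∈ Cfsg.pCoreOf p L := ⟨⟨x, hxL⟩, hL (show (⟨x, hxL⟩ : L) ∈ _ from
      fun q _ => Subtype.ext (hxc _ q.2)), rfl⟩
    exact H59.omegaOne_center_le_sylowCenterClosure T hTL
      (subset_closure ⟨⟨H59.pCoreOf_le_sylow T hTL hxcore, fun t ht => hxc t (hTL ht)⟩, hxp⟩)

end Cfsg.Agent.S2823
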