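import Cfsg.Statements.S2824
import Cfsg.Agent.H59.YClosure
import Cfsg.Agent.S2803

set_option autoImplicit false
open Cfsg

namespace Cfsg.Agent.S2824

open Subgroup

/-- Let H be a finite group, p a prime, T a Sylow p-subgroup, L and M subgroups of characteristic p containing T, Y_L the largest p-reduced normal subgroup of L and T₀ = C_T(Y_L). If M·C_H(Y_L) = L·C_H(Y_L), then L* := N_M(T₀) has Y_{L*} = Y_L and L·C_H(Y_L) = L*·C_H(Y_L). -/
theorem result {H : Type*} [Group H] [Finite H] {p : ℕ} [Fact p.Prime] (T : Sylow p H) (L M : Subgroup H) (hTL : (T : Subgroup H) ≤ L) (hTM : (T : Subgroup H) ≤ M) (hL : Subgroup.centralizer (Cfsg.pCore p ↥L : Set ↥L) ≤ Cfsg.pCore p ↥L) (hM : Subgroup.centralizer (Cfsg.pCore p ↥M : Set ↥M) ≤ Cfsg.pCore p ↥M) (T₀ : Subgroup H) (hT₀ : T₀ = (T : Subgroup H) ⊓ Subgroup.centralizer (((Cfsg.largestPReducedOf p L) : Subgroup H) : Set H)) (hfac : M ⊔ Subgroup.centralizer (((Cfsg.largestPReducedOf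 p L) : Subgroup H) : Set H) = L ⊔ Subgroup.centralizer (((Cfsg.largestPReducedOf p L) : Subgroup H) : Set H)) (Ls : Subgroup H) (hLs : Ls = M ⊓ Subgroup.normalizer ((T₀ : Subgroup H) : Set H)) : (Cfsg.largestPReducedOf p Ls) = (Cfsg.largestPReducedOf p L) ∧ L ⊔ Subgroup.centralizer (((Cfsg.largestPReducedOf p L) : Subgroup H) : Set H) = Ls ⊔ Subgroup.centralizer (((Cfsg.largestPReducedOf p L) : Subgroup H) : Set H) := by
  subst hT₀
  subst hLs
  set Y := Cfsg.largestPReducedOf p L with hY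
  set C := centralizer (Y : Set H) with hC
  set T₀ := (T : Subgroup H) ⊓ C with hT₀
  set Ls := M ⊓ normalizer (T₀ : Set H) with hLs
  have hLCn : L ⊔ C ≤ normalizer (C : Set H) :=
    (H60.sup_centralizer_le_normalizer_yOf L).trans (H60.normalizer_le_normalizer_centralizer _)
  have hMC : M ≤ normalizer (C : Set H) := (le_sup_left.trans hfac.le).trans hLCn
  have hTLs : (T : Subgroup H) ≤ Ls := le_inf hTM fun t ht => H59.mem_normalizer_of_forall
    fun u hu => ⟨(mul_mem (mul_mem ht hu.1) (inv_mem ht) : t * u * t⁻¹ ∈ (T : Subgroup H)),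
      (mem_normalizer_iff.mp (hMC (hTM ht)) u).mp hu.2⟩
  have hD : ((M ⊓ C).subgroupOf M).Normal := by
    refine (normal_subgroupOf_iff_le_normalizer inf_le_left).mpr fun g hg => ?_
    exact H59.mem_normalizer_of_forall fun u hu =>
      ⟨(mul_mem (mul_mem hg hu.1) (inv_mem hg) : g * u * g⁻¹ ∈ M), (mem_normalizer_iff.mp (hMC hg) u).mp hu.2⟩
  have hMLs : M ≤ Ls ⊔ C := by
    intro m hm
    obtain ⟨P, hP⟩ := H59.exists_sylow_eq_inf (T.subtype hTM) (C := (M ⊓ C).subgroupOf M)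
      le_normalizer_of_normal
    have hfr := Sylow.normalizer_sup_eq_top P
    rw [hP, subgroupOf_map_subtype, inf_of_le_left inf_le_right] at hfr
    have hmm := hfr.ge (mem_top (⟨m, hm⟩ : M))
    rw [← SetLike.mem_coe, mul_normal] at hmm
    obtain ⟨a, ha, d, hd, had⟩ := hmm
    have hma : m = (a : H) * d := (congrArg Subtype.val had).symm
    rw [hma]
    refine mul_mem (mem_sup_left ⟨a.2, H59.mem_normalizer_of_forall fun u hu => ?_⟩) (mem_sup_right hd.2)
    have h1 := (mem_normalizer_iff.mp ha (⟨u, hTM hu.1⟩ : M)).mp ⟨hu.1, hTM hu.1, hu.2⟩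
    exact ⟨h1.1, h1.2.2⟩
  have hsup : L ⊔ C = Ls ⊔ C := by
    refine hfac.symm.trans (le_antisymm (sup_le hMLs le_sup_right) (sup_le_sup_right inf_le_left _))
  have hYT : Y ≤ (T : Subgroup H) := (H60.yOf_le_pCoreOf L).trans (H59.pCoreOf_le_sylow T hTL)
  have h1 : Y ≤ Cfsg.largestPReducedOf p Ls :=
    H59.yOf_le_yOf_of_sup_eq (hYT.trans hTLs) hsup.symm
  refine ⟨le_antisymm ?_ h1, hsup⟩
  have hT₀core : T₀ ≤ Cfsg.pCoreOf p Ls :=
    H60.le_pCoreOf (inf_le_left.trans hTLs) inf_le_right (T.isPGroup'.to_le inf_le_left)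
  intro y hy
  have hyc : y ∈ centralizer (T₀ : Set H) := centralizer_le hT₀core
    (le_centralizer_iff.mp (H60.pCoreOf_le_centralizer_yOf Ls) hy)
  have hyT₀ : y ∈ T₀ := by
    refine ⟨H59.pCoreOf_le_sylow T hTLs (H60.yOf_le_pCoreOf Ls hy), ?_⟩
    exact centralizer_le h1 (H59.le_centralizer_self (H60.isElementaryAbelian_yOf Ls).1 hy)
  have hYd : Cfsg.IsPReducedNormal p (Cfsg.largestPReduced p L) ∧
      ∀ V : Subgroup L, Cfsg.IsPReducedNormal p V → V ≤ Cfsg.largestPReduced p L :=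
    ⟨H60.isPReducedNormal_largest, fun V hV => le_sSup (α := Subgroup L) hV⟩
  have h3 := (S2803.result hL (T.subtype hTL) _ hYd _ rfl).2.2
  have hyL : y ∈ L := hTL hyT₀.1
  refine ⟨⟨y, hyL⟩, h3.ge (subset_closure ⟨⟨⟨hyT₀.1, ?_⟩, ?_⟩, ?_⟩), rfl⟩
  · exact fun v hv => Subtype.ext (hyT₀.2 _ (mem_map_of_mem L.subtype hv))
  · rintro t ⟨ht, htc⟩
    refine Subtype.ext (hyc _ ⟨ht, ?_⟩)
    rintro _ ⟨v, hv, rfl⟩
    exact congrArg Subtype.val (htc v hv)
  · exact Subtype.ext ((H60.isElementaryAbelian_yOf Ls).2 y hy)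

end Cfsg.Agent.S2824
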