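import Cfsg.Statements.S2825
import Cfsg.Agent.H59.SubnormalY

set_option autoImplicit false
open Cfsg

namespace Cfsg.Agent.S2825

open Subgroup Cfsg.Agent

/-- Let L be a subnormal subgroup of the finite group H, p a prime, Y_H and Y_L the largest p-reduced normal subgroups. Then Y_H ∩ L = Y_H ∩ Y_L and this subgroup is a p-reduced normal subgroup of L; C_L(Y_L) = C_L(Y_H) = C_L(Y_H ∩ L); and if O^p(H) ≤ L, then [Y_L, L] = 1 if and only if [Y_H, H] = 1. -/
theorem result {H : Type*} [Group H] [Finite H] {p : ℕ} [Fact p.Prime] (L : Subgroup H) (hL : L.IsSubnormal) : Cfsg.largestPReduced p H ⊓ L = Cfsg.largestPReduced p H ⊓ (Cfsg.largestPReducedOf p L) ∧ Cfsg.IsPReducedNormal p ((Cfsg.largestPReduced p H ⊓ L).subgroupOf L) ∧ L ⊓ Subgroup.centralizer ((Cfsg.largestPReducedOf p L : Subgroup H) : Set H) = L ⊓ Subgroup.centralizer (Cfsg.largestPReduced p H : Set H) ∧ L ⊓ Subgroup.centralizer (Cfsg.largestPReduced p H : Set H) = L ⊓ Subgroup.centralizer ((Cfsg.largestPReduced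 p H ⊓ L : Subgroup H) : Set H) ∧ (Cfsg.pResidual p H ≤ L → (⁅(Cfsg.largestPReducedOf p L), L⁆ = ⊥ ↔ ⁅Cfsg.largestPReduced p H, (⊤ : Subgroup H)⁆ = ⊥)) := by
  have hY : Cfsg.IsPReducedNormal p (Cfsg.largestPReduced p H) := H60.isPReducedNormal_largest
  set Y := Cfsg.largestPReduced p H with hYd
  set YL := Cfsg.largestPReducedOf p L with hYL
  have hred := H59.isPReducedNormal_inf hY hL
  have hle : Y ⊓ L ≤ YL := fun v hv => ⟨⟨v, hv.2⟩, le_sSup (α := Subgroup L) hred hv, rfl⟩
  have hC := H59.centralizer_yOf_aux (p := p) (Nat.card H) H le_rfl L hL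
  refine ⟨le_antisymm (le_inf inf_le_left hle) (inf_le_inf_left _ (H60.yOf_le L)), hred, hC,
    (H59.centralizer_inf_eq hY hL).symm, fun hR => ?_⟩
  rw [commutator_eq_bot_iff_le_centralizer, commutator_eq_bot_iff_le_centralizer,
    le_centralizer_iff, le_centralizer_iff (H := Y)]
  constructor
  · intro h
    have hLY : L ≤ centralizer (Y : Set H) := fun x hx => (hC.le ⟨hx, h hx⟩).2
    obtain ⟨_, hcore⟩ := hY.2.2
    intro x _
    have hp' : IsPGroup p (H ⧸ centralizer (Y : Set H)) := by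
      intro q
      obtain ⟨g, rfl⟩ := QuotientGroup.mk'_surjective _ q
      obtain ⟨k, hk⟩ := Fusion.exists_pow_mem_pResidual (p := p) g
      exact ⟨k, (QuotientGroup.eq_one_iff _).mpr (hLY (hR hk))⟩
    have h1 : (QuotientGroup.mk' (centralizer (Y : Set H))) x ∈ Cfsg.pCore p (H ⧸ centralizer (Y : Set H)) :=
      (Cores.pCore_eq_top_iff.mpr hp') ▸ mem_top _
    rw [hcore, mem_bot] at h1
    exact (QuotientGroup.eq_one_iff _).mp h1
  · intro h x hx
    exact (hC.ge ⟨hx, h (mem_top x)⟩).2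

end Cfsg.Agent.S2825
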