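import Cfsg.Statements.S2826
import Cfsg.Agent.H59.Trace

set_option autoImplicit false
open Cfsg

namespace Cfsg.Agent.S2826

open Subgroup

/-- Let H be a finite group of characteristic p, T a Sylow p-subgroup, and V a normal elementary abelian p-subgroup of H containing Ω₁(Z(T)). Then C_H(Ω₁(Z(T))) = C_H([V, O^p(H)] ∩ Ω₁(Z(T))), O^p(H) being generated by the elements of order prime to p. -/
theorem result {H : Type*} [Group H] [Finite H] {p : ℕ} [Fact p.Prime] (hH : Subgroup.centralizer (Cfsg.pCore p H : Set H) ≤ Cfsg.pCore p H) (T : Sylow p H) (V : Subgroup H) [V.Normal] (hV : Cfsg.IsElementaryAbelian p V) (hZV : (Cfsg.omegaOne p ((T : Subgroup H) ⊓ Subgroup.centralizer (((T : Subgroup H) : Subgroup H) : Set H))) ≤ V) : Subgroup.centralizer ((Cfsg.omegaOne p ((T : Subgroup H) ⊓ Subgroup.centralizer (((T : Subgroup H) : Subgroup H) : Set H))) : Set H) = Subgroup.centralizer (((⁅V, Cfsg.pResidual p H⁆ ⊓ (Cfsg.omegaOne p ((T : Subgroup H) ⊓ Subgroup.centralizer (((T : Subgroup H)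 : Subgroup H) : Set H)))) : Subgroup H) : Set H) := by
  set Z := Cfsg.omegaOne p ((T : Subgroup H) ⊓ centralizer ((T : Subgroup H) : Set H)) with hZ
  refine le_antisymm (centralizer_le inf_le_right) fun g hg z hz => ?_
  have hzT : ∀ s ∈ (T : Subgroup H), s * z = z * s := by
    intro s hs
    have h : Z ≤ centralizer ((T : Subgroup H) : Set H) := (closure_le _).mpr fun x hx => hx.1.2
    exact h hz s hs
  have hVT : V ≤ (T : Subgroup H) :=
    (Cores.le_pCore (H60.isPGroup_of_isElementaryAbelian hV)).trans (Cores.pCore_le_sylow T)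
  obtain ⟨π, hπV, hπc, hπW⟩ := H59.exists_trace hV.1 (X := ⊤)
    (le_normalizer_of_normal (H := V)) (hZV hz) hzT ⁅V, Cfsg.pResidual p H⁆
    (H59.commutatorElement_mem_of_fixed (R := Cfsg.pResidual p H) (S := (T : Subgroup H))
      le_normalizer_of_normal hzT (by rw [sup_comm, Fusion.sylow_sup_pResidual])
      fun r hr => commutator_mem_commutator (hZV hz) hr)
  have hπZ : π ∈ Z := subset_closure ⟨⟨hVT hπV, fun t _ => hπc t (mem_top t)⟩, hV.2 π hπV⟩
  have h1 : g ∈ centralizer ({π} : Set H) := by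
    rintro x rfl; exact (hπc g (mem_top g)).symm
  have hn : ¬ p ∣ (T : Subgroup H).relIndex ⊤ := by
    rw [relIndex_top_right]; exact T.not_dvd_index
  have h2 : z ∈ centralizer ({g} : Set H) := by
    refine H59.mem_of_pow_mem (hV.2 z (hZV hz)) hn ?_
    have h3 : z ^ (T : Subgroup H).relIndex ⊤ * π⁻¹ ∈ centralizer ({g} : Set H) := by
      rintro x rfl
      exact (hg _ ⟨hπW, (mul_mem (pow_mem hz _) (inv_mem hπZ) : z ^ (T : Subgroup H).relIndex ⊤ * π⁻¹ ∈ Z)⟩).symm
    have h4 : π ∈ centralizer ({g} : Set H) := by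
      rintro x rfl; exact hπc x (mem_top x)
    simpa using mul_mem h3 h4
  exact (h2 g rfl).symm

end Cfsg.Agent.S2826
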