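import Cfsg.Statements.S2827
import Cfsg.Agent.H59.PIrred

set_option autoImplicit false
open Cfsg

namespace Cfsg.Agent.S2827

open Subgroup
open scoped commutatorElement

/-- Let H be a finite p-irreducible group (not p-closed, and O^p(H) lies in every normal subgroup that is not p-closed) and T a Sylow p-subgroup. Then H is generated by the conjugates of T and H = H'·T; O^p(H) ≤ H'; and for every normal subgroup Y of T not contained in O_p(H), O^p(H) = [O^p(H), Y] and O^p(H) is contained in the normal closure of Y in H. -/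
theorem result {H : Type*} [Group H] [Finite H] {p : ℕ} [Fact p.Prime] (hH : Cfsg.IsPIrreducible p H) (T : Sylow p H) : Subgroup.normalClosure ((T : Subgroup H) : Set H) = ⊤ ∧ commutator H ⊔ (T : Subgroup H) = ⊤ ∧ Cfsg.pResidual p H ≤ commutator H ∧ ∀ Y : Subgroup H, Y ≤ (T : Subgroup H) → (T : Subgroup H) ≤ Subgroup.normalizer (Y : Set H) → ¬ Y ≤ Cfsg.pCore p H → ⁅Cfsg.pResidual p H, Y⁆ = Cfsg.pResidual p H ∧ Cfsg.pResidual p H ≤ Subgroup.normalClosure (Y : Set H) := by
  set R := Cfsg.pResidual p H with hR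
  obtain ⟨hnc, hirr⟩ := hH
  have hTR : (T : Subgroup H) ⊔ R = ⊤ := Fusion.sylow_sup_pResidual T
  set X := normalClosure ((T : Subgroup H) : Set H) with hX
  have hXn : ¬ Cfsg.IsPClosed p X := fun h => H59.sylow_not_le_pCore hnc T
    ((le_inf le_rfl subset_normalClosure).trans ((H59.isPClosed_normal_iff X T).mp h))
  have htop : X = ⊤ := by
    rw [eq_top_iff, ← hTR]
    exact sup_le subset_normalClosure (hirr X inferInstance hXn)
  have hD : commutator H ⊔ (T : Subgroup H) = ⊤ := by
    have : (commutator H ⊔ (T : Subgroup H)).Normal := Subgroup.Normal.of_commutator_le H le_sup_left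
    rw [eq_top_iff, ← htop]
    exact normalClosure_le_normal fun x hx => mem_sup_right hx
  refine ⟨htop, hD, H59.pResidual_le_of_sylow_sup T (by rw [sup_comm, hD]), fun Y hYT hTY hYc => ?_⟩
  set Z := normalClosure (Y : Set H) with hZ
  have hZn : ¬ Cfsg.IsPClosed p Z := fun h => hYc
    ((le_inf hYT subset_normalClosure).trans ((H59.isPClosed_normal_iff Z T).mp h))
  have hRZ : R ≤ Z := hirr Z inferInstance hZn
  refine ⟨?_, hRZ⟩
  set W := ⁅R, Y⁆ with hW
  have hWR : W ≤ R := Subgroup.commutator_le_left R Y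
  have hWn : W.Normal := by
    refine normalizer_eq_top_iff.mp (top_le_iff.mp ?_)
    rw [← hTR, sup_le_iff]
    refine ⟨fun t ht => ?_, normalizer_commutator_ge_left R Y⟩
    rw [mem_normalizer_iff_map_conj_eq, hW, map_commutator, mem_normalizer_iff_map_conj_eq.mp (hTY ht),
      mem_normalizer_iff_map_conj_eq.mp (le_normalizer_of_normal (mem_top t) : t ∈ normalizer (R : Set H))]
  have hYW : (Y ⊔ W).Normal := by
    refine normalizer_eq_top_iff.mp (top_le_iff.mp ?_)
    rw [← hTR, sup_le_iff]
    have key : ∀ g : H, (∀ y ∈ Y, g * y * g⁻¹ ∈ Y ⊔ W) → g ∈ normalizer ((Y ⊔ W : Subgroup H) : Set H) := by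
      intro g hg
      refine H59.mem_normalizer_of_forall fun u hu => ?_
      have h1 : (Y ⊔ W).map (MulAut.conj g).toMonoidHom ≤ Y ⊔ W := by
        rw [Subgroup.map_sup]
        refine sup_le ?_ ?_
        · rintro _ ⟨y, hy, rfl⟩
          exact hg y hy
        · rintro _ ⟨y, hy, rfl⟩
          exact mem_sup_right (hWn.conj_mem y hy g)
      exact h1 (mem_map_of_mem (MulAut.conj g).toMonoidHom hu)
    refine ⟨fun t ht => key t fun y hy => mem_sup_left ((mem_normalizer_iff.mp (hTY ht) y).mp hy),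
      fun r hr => key r fun y hy => ?_⟩
    have h1 : ⁅r, y⁆ * y ∈ Y ⊔ W :=
      mul_mem (mem_sup_right (commutator_mem_commutator hr hy)) (mem_sup_left hy)
    rwa [commutatorElement_def, inv_mul_cancel_right] at h1
  refine le_antisymm hWR (Fusion.pResidual_le.mpr fun x hx => ?_)
  have hxY : x ∈ ((Y ⊔ W : Subgroup H) : Set H) :=
    (normalClosure_le_normal (fun y hy => mem_sup_left hy)) (hRZ (Fusion.mem_pResidual hx))
  rw [mul_normal] at hxY
  obtain ⟨y, hy, w, hw, rfl⟩ := hxY
  obtain ⟨k, hk⟩ := (T.isPGroup'.to_le hYT) ⟨y, hy⟩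
  refine H59.mem_of_pow_prime_pow_mem hx (k := k) ?_
  refine (QuotientGroup.eq_one_iff _).mp ?_
  rw [QuotientGroup.mk_pow, QuotientGroup.mk_mul_of_mem y hw, ← QuotientGroup.mk_pow,
    show y ^ p ^ k = 1 from congrArg Subtype.val hk, QuotientGroup.mk_one]

end Cfsg.Agent.S2827
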