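import Cfsg.Statements.S2828
import Cfsg.Agent.H59.PIrred

set_option autoImplicit false
open Cfsg

namespace Cfsg.Agent.S2828

open Subgroup

/-- Let H be a finite group, p a prime and D a normal p-subgroup of H. Then H is p-irreducible if and only if H/D is p-irreducible, and H is strongly p-irreducible if and only if H/D is strongly p-irreducible. -/
theorem result {H : Type*} [Group H] [Finite H] {p : ℕ} [Fact p.Prime] (D : Subgroup H) [D.Normal] (hD : IsPGroup p ↥D) : (Cfsg.IsPIrreducible p H ↔ Cfsg.IsPIrreducible p (H ⧸ D)) ∧ (Cfsg.IsStronglyPIrreducible p H ↔ Cfsg.IsStronglyPIrreducible p (H ⧸ D)) := by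
  set f := QuotientGroup.mk' D with hf
  have hsurj : Function.Surjective f := QuotientGroup.mk'_surjective D
  set P := Cfsg.pCore p H with hP
  have hDP : D ≤ P := Cores.le_pCore hD
  have hcomap : (Cfsg.pCore p (H ⧸ D)).comap f = P := Cores.comap_pCore_quotient D hD
  obtain ⟨T⟩ := Sylow.nonempty (p := p) (G := H)
  have hres : (Cfsg.pResidual p H).map f = Cfsg.pResidual p (H ⧸ D) :=
    Fusion.map_pResidual_of_surjective f hsurj
  -- closedness
  have hcl : ∀ N : Subgroup H, N.Normal → D ≤ N →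
      (Cfsg.IsPClosed p N ↔ Cfsg.IsPClosed p (N.map f)) := by
    intro N hN hDN
    have := hN.map f hsurj
    rw [H59.isPClosed_normal_iff N T, H59.isPClosed_normal_iff (N.map f) (T.mapSurjective hsurj),
      Sylow.coe_mapSurjective]
    constructor
    · rintro h _ ⟨⟨t, ht, rfl⟩, n, hn, hnt⟩
      have h1 : t ∈ N := by
        have h2 : n⁻¹ * t ∈ D := QuotientGroup.eq.mp hnt
        simpa using mul_mem hn (hDN h2)
      exact hcomap.ge (h ⟨ht, h1⟩)
    · intro h x hx
      exact hcomap.le (h ⟨mem_map_of_mem f hx.1, mem_map_of_mem f hx.2⟩)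
  have htop : Cfsg.IsPClosed p H ↔ Cfsg.IsPClosed p (H ⧸ D) := by
    rw [← H59.isPClosed_top_iff, hcl ⊤ inferInstance le_top, Subgroup.map_top_of_surjective f hsurj,
      H59.isPClosed_top_iff]
  -- the residual
  have hR : ∀ N : Subgroup H, N.Normal →
      (Cfsg.pResidual p H ≤ N ↔ Cfsg.pResidual p (H ⧸ D) ≤ N.map f) := by
    intro N hN
    refine ⟨fun h => hres.symm.le.trans (Subgroup.map_mono h), fun h => Fusion.pResidual_le.mpr fun x hx => ?_⟩
    obtain ⟨n, hn, hnx⟩ := h (hres.le (mem_map_of_mem f (Fusion.mem_pResidual hx)))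
    have hd : n⁻¹ * x ∈ D := QuotientGroup.eq.mp hnx
    obtain ⟨k, hk⟩ := hD ⟨_, hd⟩
    refine H59.mem_of_pow_prime_pow_mem hx (k := k) ?_
    refine (QuotientGroup.eq_one_iff _).mp ?_
    rw [QuotientGroup.mk_pow, show (x : H) = n * (n⁻¹ * x) by group, QuotientGroup.mk_mul,
      (QuotientGroup.eq_one_iff n).mpr hn, one_mul, ← QuotientGroup.mk_pow,
      show (n⁻¹ * x) ^ p ^ k = 1 from congrArg Subtype.val hk, QuotientGroup.mk_one]
  have hsupcl : ∀ N : Subgroup H, N.Normal → Cfsg.IsPClosed p ↥(N ⊔ D) → Cfsg.IsPClosed p N := by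
    intro N hN h
    rw [H59.isPClosed_normal_iff _ T] at h ⊢
    exact (inf_le_inf_left _ le_sup_left).trans h
  have hmapsup : ∀ N : Subgroup H, (N ⊔ D).map f = N.map f := by
    intro N
    rw [Subgroup.map_sup, (Subgroup.map_eq_bot_iff _).mpr (le_of_eq (QuotientGroup.ker_mk' D).symm),
      sup_bot_eq]
  have hcore : (Cfsg.pCore p H).map f = Cfsg.pCore p (H ⧸ D) := by
    rw [← hP, ← hcomap, map_comap_eq_self_of_surjective hsurj]
  have hcomm : ∀ N : Subgroup H, (⁅N.map f, (⊤ : Subgroup (H ⧸ D))⁆ ≤ Cfsg.pCore p (H ⧸ D) ↔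
      ⁅N, (⊤ : Subgroup H)⁆ ≤ P) := by
    intro N
    rw [← Subgroup.map_top_of_surjective f hsurj, ← map_commutator, map_le_iff_le_comap, hcomap]
  refine ⟨⟨fun h => ⟨fun hc => h.1 (htop.mpr hc), fun Nb hNb hNc => ?_⟩,
    fun h => ⟨fun hc => h.1 (htop.mp hc), fun N hN hNc => ?_⟩⟩,
    ⟨fun h => ⟨fun hc => h.1 (htop.mpr hc), fun Nb hNb hNc => ?_⟩,
    fun h => ⟨fun hc => h.1 (htop.mp hc), fun N hN hNc => ?_⟩⟩⟩
  · have he : (Nb.comap f).map f = Nb := map_comap_eq_self_of_surjective hsurj Nb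
    have hDN : D ≤ Nb.comap f := fun x hx => by
      rw [mem_comap, hf, QuotientGroup.mk'_apply, (QuotientGroup.eq_one_iff x).mpr hx]
      exact one_mem Nb
    rw [← he]
    refine (hR _ inferInstance).mp (h.2 _ inferInstance fun hc => hNc ?_)
    rw [← he]
    exact (hcl _ inferInstance hDN).mp hc
  · refine (hR N hN).mpr (h.2 _ (hN.map f hsurj) fun hc => hNc ?_)
    rw [← hmapsup] at hc
    exact hsupcl N hN ((hcl _ inferInstance le_sup_right).mpr hc)
  · have he : (Nb.comap f).map f = Nb := map_comap_eq_self_of_surjective hsurj Nb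
    rw [← he] at hNc ⊢
    exact (hR _ inferInstance).mp (h.2 _ inferInstance fun hc => hNc ((hcomm _).mpr hc))
  · exact (hR N hN).mpr (h.2 _ (hN.map f hsurj) fun hc => hNc ((hcomm N).mp hc))

end Cfsg.Agent.S2828
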