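import Cfsg.Statements.S2830
import Cfsg.Agent.H59.PIrred

set_option autoImplicit false
open Cfsg

namespace Cfsg.Agent.S2830

open Subgroup

/-- Let H act by conjugation on the elementary abelian p-subgroup V of a finite group G (H ≤ N(V)), with H p-irreducible and O^p(H) not centralizing V. Then C_H(V) is p-closed and C_T(V) ≤ O_p(H) for every p-subgroup T of H. If in addition O_p(H) centralizes V, then C_T(V) = T ∩ O_p(H) for every p-subgroup T of H, and V is p-reduced for H: O_p(H/C_H(V)) = 1. -/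
theorem result {G : Type*} [Group G] [Finite G] {p : ℕ} [Fact p.Prime] (V H : Subgroup G) (hV : Cfsg.IsElementaryAbelian p V) (hHV : H ≤ Subgroup.normalizer (V : Set G)) (hH : Cfsg.IsPIrreducible p ↥H) (hnc : ¬ (Cfsg.pResidual p ↥H).map H.subtype ≤ Subgroup.centralizer (V : Set G)) [hn : ((Subgroup.centralizer (V : Set G)).subgroupOf H).Normal] : Cfsg.IsPClosed p ↥(H ⊓ Subgroup.centralizer (V : Set G)) ∧ (∀ T : Subgroup G, T ≤ H → IsPGroup p ↥T → T ⊓ Subgroup.centralizer (V : Set G) ≤ Cfsg.pCoreOf p H) ∧ (Cfsg.pCoreOf p H ≤ Subgroup.centralizer (V : Set G) → (∀ T : Subgroup G, T ≤ H → IsPGroup p ↥T → T ⊓ Subgroup.centralizer (V : Set G) = T ⊓ Cfsg.pCoreOf p H) ∧ Cfsg.pCore p (↥H ⧸ (Subgroup.centralizer (V : Set G)).subgroupOf H) = ⊥) := by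
  set C := (centralizer (V : Set G)).subgroupOf H with hC
  have hRC : ¬ Cfsg.pResidual p ↥H ≤ C := fun h => hnc (by
    rintro _ ⟨x, hx, rfl⟩
    exact h hx)
  have hCcl : Cfsg.IsPClosed p C := by
    by_contra h
    exact hRC (hH.2 C hn h)
  have hTC : ∀ T : Subgroup G, T ≤ H → IsPGroup p ↥T →
      T ⊓ centralizer (V : Set G) ≤ Cfsg.pCoreOf p H := by
    intro T hTH hT x hx
    obtain ⟨P, hP⟩ := (hT.comap_subtype : IsPGroup p (T.subgroupOf H)).exists_le_sylow
    exact ⟨⟨x, hTH hx.1⟩, (H59.isPClosed_normal_iff C P).mp hCcl ⟨hP hx.1, hx.2⟩, rfl⟩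
  refine ⟨fun P => ?_, hTC, fun hOC => ⟨fun T hTH hT => le_antisymm (le_inf inf_le_left (hTC T hTH hT))
    fun x hx => ⟨hx.1, hOC hx.2⟩, ?_⟩⟩
  · have hD : ∀ x, x ∈ H ⊓ centralizer (V : Set G) → x ∈ H := fun x hx => hx.1
    let e : C ≃* ↥(H ⊓ centralizer (V : Set G)) :=
      { toFun := fun x => ⟨(x : H), (x : H).2, x.2⟩
        invFun := fun y => ⟨⟨y, y.2.1⟩, y.2.2⟩
        left_inv := fun x => rfl
        right_inv := fun y => rfl
        map_mul' := fun a b => rfl }
    have h1 := hCcl (P.comapOfInjective e.toMonoidHom e.injective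
      (by rw [MonoidHom.range_eq_top.mpr e.surjective]; exact le_top))
    have h2 : Subgroup.Normal _ := h1.map e.toMonoidHom e.surjective
    change Subgroup.Normal (((P : Subgroup _).comap e.toMonoidHom).map e.toMonoidHom) at h2
    rwa [map_comap_eq_self_of_surjective (f := e.toMonoidHom) e.surjective] at h2
  · refine (eq_bot_iff_forall _).mpr fun q hq => ?_
    obtain ⟨x, rfl⟩ := QuotientGroup.mk'_surjective C q
    refine (QuotientGroup.eq_one_iff x).mpr ?_
    set N := (Cfsg.pCore p (H ⧸ C)).comap (QuotientGroup.mk' C) with hN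
    have hpow : ∀ y ∈ N, ∃ k, y ^ p ^ k ∈ C := by
      intro y hy
      obtain ⟨k, hk⟩ := Cores.pCore_isPGroup (⟨_, hy⟩ : Cfsg.pCore p (H ⧸ C))
      exact ⟨k, (QuotientGroup.eq_one_iff _).mp (congrArg Subtype.val hk)⟩
    have hxN : x ∈ N := hq
    by_cases hNc : Cfsg.IsPClosed p N
    · obtain ⟨k, hk⟩ := hpow x hxN
      obtain ⟨e, m, hm, hem⟩ := Nat.exists_eq_pow_mul_and_not_dvd (orderOf_pos x).ne' p
        (Fact.out : p.Prime).ne_one
      have hup : IsPGroup p (zpowers (x ^ m)) := by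
        intro z
        refine ⟨e, Subtype.ext ?_⟩
        obtain ⟨i, hi⟩ := z.2
        rw [SubgroupClass.coe_pow, ← hi, ← zpow_natCast, zpow_comm, zpow_natCast, ← pow_mul, mul_comm,
          ← hem, pow_orderOf_eq_one, one_zpow, OneMemClass.coe_one]
      obtain ⟨P, hP⟩ := hup.exists_le_sylow
      have hu : x ^ m ∈ C := by
        refine hOC ⟨x ^ m, (H59.isPClosed_normal_iff N P).mp hNc ⟨hP (mem_zpowers _), pow_mem hxN m⟩, rfl⟩
      have hcop : Nat.Coprime (p ^ k) m :=
        Nat.Coprime.pow_left k ((Nat.Prime.coprime_iff_not_dvd Fact.out).mpr hm)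
      have := mul_mem (zpow_mem hk (Nat.gcdA (p ^ k) m)) (zpow_mem hu (Nat.gcdB (p ^ k) m))
      rwa [← zpow_natCast, ← zpow_natCast, ← zpow_mul, ← zpow_mul, ← zpow_add,
        ← Nat.gcd_eq_gcd_ab, hcop, Nat.cast_one, zpow_one] at this
    · exact absurd (Fusion.pResidual_le.mpr fun y hy => (hpow y (hH.2 N inferInstance hNc
        (Fusion.mem_pResidual hy))).elim fun _ hk => H59.mem_of_pow_prime_pow_mem hy hk) hRC

end Cfsg.Agent.S2830
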