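import Cfsg.Statements.S2831
import Cfsg.Agent.H59.PIrred

set_option autoImplicit false
open Cfsg

namespace Cfsg.Agent.S2831

open Subgroup

/-- Let H be a finite group with Sylow p-subgroup T such that H is T-minimal (H is generated by the conjugates of T and T lies in exactly one maximal subgroup of H). Then H is p-irreducible: H is not p-closed and O^p(H) lies in every normal subgroup of H that is not p-closed. -/
theorem result {H : Type*} [Group H] [Finite H] {p : ℕ} [Fact p.Prime] (T : Sylow p H) (hmin : Cfsg.IsMinimalOver (T : Subgroup H)) : Cfsg.IsPIrreducible p H := by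
  obtain ⟨hcl, M, ⟨hM, hTM⟩, huniq⟩ := hmin
  have hle : ∀ K : Subgroup H, (T : Subgroup H) ≤ K → K ≠ ⊤ → K ≤ M := by
    intro K hTK hK
    obtain ⟨M', hM', hKM'⟩ := (eq_top_or_exists_le_coatom K).resolve_left hK
    exact huniq M' ⟨hM', hTK.trans hKM'⟩ ▸ hKM'
  refine ⟨fun hc => ?_, fun N hN hNc => ?_⟩
  · have := hc T
    have htop : (T : Subgroup H) = ⊤ := (normalClosure_eq_self (T : Subgroup H)).symm.trans hcl
    exact hM.1 (top_le_iff.mp (htop ▸ hTM))
  by_contra hR
  have hsup : (T : Subgroup H) ⊔ N ≠ ⊤ := fun h => hR (H59.pResidual_le_of_sylow_sup T h)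
  have h1 := hle _ le_sup_left hsup
  obtain ⟨P, hP⟩ := H59.exists_sylow_eq_inf T (C := N) le_normalizer_of_normal
  have hfr := Sylow.normalizer_sup_eq_top P
  rw [hP, subgroupOf_map_subtype, inf_of_le_left inf_le_right] at hfr
  have hK : normalizer (((T : Subgroup H) ⊓ N : Subgroup H) : Set H) ≠ ⊤ := by
    intro h
    have := normalizer_eq_top_iff.mp h
    exact hNc ((H59.isPClosed_normal_iff N T).mpr (Cores.le_pCore (T.isPGroup'.to_le inf_le_left)))
  have hTK : (T : Subgroup H) ≤ normalizer (((T : Subgroup H) ⊓ N : Subgroup H) : Set H) :=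
    fun t ht => H59.mem_normalizer_of_forall fun u hu =>
      ⟨(mul_mem (mul_mem ht hu.1) (inv_mem ht) : t * u * t⁻¹ ∈ (T : Subgroup H)), hN.conj_mem u hu.2 t⟩
  exact hM.1 (top_le_iff.mp (hfr ▸ sup_le (hle _ hTK hK) (le_sup_right.trans h1)))

end Cfsg.Agent.S2831
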