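import Cfsg.Statements.S2832
import Cfsg.Agent.H59.PIrred

set_option autoImplicit false
open Cfsg

namespace Cfsg.Agent.S2832

open Subgroup

/-- Let H be a finite group with Sylow p-subgroup T such that H is T-minimal (generated by the conjugates of T, with T in exactly one maximal subgroup), and let N be a normal subgroup of H. Then either H/N is a p-group or H/N is minimal over the image of T in the same sense. -/
theorem result {H : Type*} [Group H] [Finite H] {p : ℕ} [Fact p.Prime] (T : Sylow p H) (hmin : Cfsg.IsMinimalOver (T : Subgroup H)) (N : Subgroup H) [N.Normal] : IsPGroup p (H ⧸ N) ∨ Cfsg.IsMinimalOver ((T : Subgroup H).map (QuotientGroup.mk' N)) := by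
  refine or_iff_not_imp_left.mpr fun hnp => ?_
  obtain ⟨hcl, M, ⟨hM, hTM⟩, huniq⟩ := hmin
  have hsurj := QuotientGroup.mk'_surjective N
  have hsup : (T : Subgroup H) ⊔ N ≠ ⊤ := by
    intro h
    refine hnp fun q => ?_
    obtain ⟨x, rfl⟩ := QuotientGroup.mk_surjective q
    have hx : x ∈ (((T : Subgroup H) ⊔ N : Subgroup H) : Set H) := h ▸ mem_top x
    rw [mul_normal] at hx
    obtain ⟨t, ht, n, hn, rfl⟩ := hx
    obtain ⟨k, hk⟩ := T.isPGroup' ⟨t, ht⟩
    exact ⟨k, by rw [QuotientGroup.mk_mul_of_mem t hn, ← QuotientGroup.mk_pow,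
      show t ^ p ^ k = 1 from congrArg Subtype.val hk, QuotientGroup.mk_one]⟩
  obtain ⟨M', hM', hle⟩ := (eq_top_or_exists_le_coatom _).resolve_left hsup
  have hNM : N ≤ M := huniq M' ⟨hM', le_sup_left.trans hle⟩ ▸ le_sup_right.trans hle
  have hker : ∀ K : Subgroup H, N ≤ K → (K.map (QuotientGroup.mk' N)).comap (QuotientGroup.mk' N) = K :=
    fun K hK => Subgroup.comap_map_eq_self (by rwa [QuotientGroup.ker_mk'])
  refine ⟨?_, M.map (QuotientGroup.mk' N), ⟨⟨?_, ?_⟩, Subgroup.map_mono hTM⟩, ?_⟩
  · rw [coe_map, ← Subgroup.map_normalClosure _ _ hsurj, hcl, Subgroup.map_top_of_surjective _ hsurj]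
  · intro h
    exact hM.1 (by rw [← hker M hNM, h, comap_top])
  · intro K hK
    have h1 : M < K.comap (QuotientGroup.mk' N) := by
      refine lt_of_le_of_ne ?_ fun h => ?_
      · rw [← hker M hNM]; exact comap_mono hK.le
      · exact hK.ne (by rw [h, map_comap_eq_self_of_surjective hsurj])
    rw [← map_comap_eq_self_of_surjective hsurj K, hM.2 _ h1, Subgroup.map_top_of_surjective _ hsurj]
  · rintro K ⟨hK, hTK⟩
    have hKc : IsCoatom (K.comap (QuotientGroup.mk' N)) := by
      refine ⟨fun h => hK.1 ?_, fun L hL => ?_⟩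
      · rw [← map_comap_eq_self_of_surjective hsurj K, h, Subgroup.map_top_of_surjective _ hsurj]
      · have hNL : N ≤ L := by
          refine le_trans ?_ hL.le
          intro x hx
          rw [mem_comap, QuotientGroup.mk'_apply, (QuotientGroup.eq_one_iff x).mpr hx]
          exact one_mem K
        have h1 : K < L.map (QuotientGroup.mk' N) := by
          refine lt_of_le_of_ne ?_ fun h => ?_
          · rw [← map_comap_eq_self_of_surjective hsurj K]; exact Subgroup.map_mono hL.le
          · exact hL.ne (by rw [h, hker L hNL])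
        rw [← hker L hNL, hK.2 _ h1, comap_top]
    rw [← huniq _ ⟨hKc, map_le_iff_le_comap.mp hTK⟩, map_comap_eq_self_of_surjective hsurj]

end Cfsg.Agent.S2832
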