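import Cfsg.Statements.S2833
import Cfsg.Agent.H59.ThompsonComplement

set_option autoImplicit false
open Cfsg

namespace Cfsg.Agent.S2833

open Subgroup
open scoped commutatorElement

/-- Let V be a subgroup of a finite group G normalized by the subgroup L, let X ≤ L and g ∈ L with [V, X, X] = 1 and L generated by X and gXg⁻¹. Put W = [V, L]. Then W = [V, X]·[V, gXg⁻¹], C_W(X) = [V, X], and C_W(L) = [V, X] ∩ [V, gXg⁻¹]. -/
theorem result {G : Type*} [Group G] [Finite G] (V L : Subgroup G) (hLV : L ≤ Subgroup.normalizer (V : Set G)) (X : Subgroup G) (hX : X ≤ L) (g : G) (hg : g ∈ L) (hq : ⁅⁅V, X⁆, X⁆ = ⊥) (hgen : X ⊔ X.map (MulAut.conj g).toMonoidHom = L) (W : Subgroup G) (hW : W = ⁅V, L⁆) : ⁅V, X⁆ ⊔ ⁅V, X.map (MulAut.conj g).toMonoidHom⁆ = W ∧ W ⊓ Subgroup.centralizer (X : Set G) = ⁅V, X⁆ ∧ W ⊓ Subgroup.centralizer (L : Set G) = ⁅V, X⁆ ⊓ ⁅V, X.map (MulAut.conj g).toMonoidHom⁆ := by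
  set Xg := X.map (MulAut.conj g).toMonoidHom with hXg
  have hXgL : Xg ≤ L := hgen ▸ le_sup_right
  set A := ⁅V, X⁆ with hA
  set B := ⁅V, Xg⁆ with hB
  have hVg : V.map (MulAut.conj g).toMonoidHom = V := mem_normalizer_iff_map_conj_eq.mp (hLV hg)
  have hBA : B = A.map (MulAut.conj g).toMonoidHom := by rw [hB, hA, map_commutator, hVg]
  have hAV : A ≤ V := le_normalizer_iff_commutator_le_left.mp (hX.trans hLV)
  have hBV : B ≤ V := le_normalizer_iff_commutator_le_left.mp (hXgL.trans hLV)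
  have hAc : A ≤ centralizer (X : Set G) := commutator_eq_bot_iff_le_centralizer.mp hq
  have hBc : B ≤ centralizer (Xg : Set G) := by
    refine commutator_eq_bot_iff_le_centralizer.mp ?_
    rw [hBA, hXg, ← map_commutator, hq, Subgroup.map_bot]
  have hAn : V ≤ normalizer (A : Set G) := normalizer_commutator_ge_left V X
  have hBn : V ≤ normalizer (B : Set G) := normalizer_commutator_ge_left V Xg
  set U := A ⊔ B with hU
  have hUV : U ≤ V := sup_le hAV hBV
  have hgenX : ∀ Y : Subgroup G, Y ≤ normalizer (V : Set G) → V ≤ normalizer (U : Set G) →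
      ⁅V, Y⁆ ≤ U → Y ≤ normalizer (U : Set G) := by
    intro Y hY _ hYU x hx
    refine H59.mem_normalizer_of_forall fun u hu => ?_
    have h1 := hYU (commutator_mem_commutator (hUV hu) hx)
    have h2 := mul_mem (inv_mem h1) hu
    rwa [commutatorElement_inv, commutatorElement_def, inv_mul_cancel_right] at h2
  have hUn : V ≤ normalizer (U : Set G) := fun v hv => H59.mem_normalizer_of_forall fun u hu => by
    have h1 : U.map (MulAut.conj v).toMonoidHom ≤ U := by
      have ea : A.map (MulAut.conj v).toMonoidHom = A := mem_normalizer_iff_map_conj_eq.mp (hAn hv)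
      have eb : B.map (MulAut.conj v).toMonoidHom = B := mem_normalizer_iff_map_conj_eq.mp (hBn hv)
      rw [hU, Subgroup.map_sup, ea, eb]
    exact h1 (mem_map_of_mem (MulAut.conj v).toMonoidHom hu)
  have hLU : L ≤ normalizer (U : Set G) := hgen ▸ sup_le
    (hgenX X (hX.trans hLV) hUn le_sup_left) (hgenX Xg (hXgL.trans hLV) hUn le_sup_right)
  have hWU : U = W := by
    refine le_antisymm (sup_le (hW ▸ commutator_mono le_rfl hX) (hW ▸ commutator_mono le_rfl hXgL)) ?_
    rw [hW]
    refine commutator_le.mpr fun v hv l hl => ?_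
    rw [← hgen] at hl
    let K : Subgroup G :=
      { carrier := {x | x ∈ L ∧ ⁅v, x⁆ ∈ U}
        one_mem' := ⟨one_mem _, by rw [commutatorElement_one_right]; exact one_mem _⟩
        mul_mem' := by
          rintro a b ⟨ha, ha'⟩ ⟨hb, hb'⟩
          refine ⟨mul_mem ha hb, ?_⟩
          have : ⁅v, a * b⁆ = ⁅v, a⁆ * (a * ⁅v, b⁆ * a⁻¹) := by simp only [commutatorElement_def]; group
          rw [this]
          exact mul_mem ha' ((mem_normalizer_iff.mp (hLU ha) _).mp hb')
        inv_mem' := by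
          rintro a ⟨ha, ha'⟩
          refine ⟨inv_mem ha, ?_⟩
          have : ⁅v, a⁻¹⁆ = a⁻¹ * ⁅v, a⁆⁻¹ * a⁻¹⁻¹ := by simp only [commutatorElement_def]; group
          rw [this]
          exact (mem_normalizer_iff.mp (hLU (inv_mem ha)) _).mp (inv_mem ha') }
    exact ((sup_le (fun x hx => ⟨hX hx, mem_sup_left (commutator_mem_commutator hv hx)⟩)
      (fun x hx => ⟨hXgL hx, mem_sup_right (commutator_mem_commutator hv hx)⟩) : X ⊔ Xg ≤ K) hl).2
  have hLc : ∀ x, x ∈ centralizer (X : Set G) → x ∈ centralizer (Xg : Set G) →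
      x ∈ centralizer (L : Set G) := fun x hx hx' => by
    have : L ≤ centralizer ({x} : Set G) := hgen ▸ sup_le
      (fun y hy => by rintro _ rfl; exact (hx y hy).symm)
      (fun y hy => by rintro _ rfl; exact (hx' y hy).symm)
    exact fun y hy => (this hy x rfl).symm
  have hgc : ∀ x, x ∈ centralizer (L : Set G) → g * x * g⁻¹ = x := fun x hx => by
    rw [hx g hg, mul_inv_cancel_right]
  have hABL : A ⊓ B ≤ centralizer (L : Set G) := fun x hx => hLc x (hAc hx.1) (hBc hx.2)
  have hWc : W ⊓ centralizer (X : Set G) = A := by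
    refine le_antisymm ?_ (le_inf (hWU ▸ le_sup_left) hAc)
    rintro w ⟨hw, hwc⟩
    have hw' : w ∈ ((A ⊔ B : Subgroup G) : Set G) := by rw [← hU, hWU]; exact hw
    rw [Subgroup.coe_mul_of_left_le_normalizer_right A B (hAV.trans hBn)] at hw'
    obtain ⟨a, ha, b, hb, rfl⟩ := hw'
    have hbX : b ∈ centralizer (X : Set G) := by
      have := mul_mem (inv_mem (hAc ha)) hwc
      simpa using this
    refine mul_mem ha ?_
    have hbL := hLc b hbX (hBc hb)
    rw [hBA] at hb
    obtain ⟨a', ha', hab⟩ := hb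
    have hab' : g * a' * g⁻¹ = b := hab
    have h5 : a' = b := by
      have h6 : g * a' * g⁻¹ = g * b * g⁻¹ := hab'.trans (hgc b hbL).symm
      simpa using h6
    exact h5 ▸ ha'
  refine ⟨hWU, hWc, le_antisymm ?_ (le_inf (hWU ▸ inf_le_of_left_le le_sup_left) hABL)⟩
  rintro w ⟨hw, hwL⟩
  have hwA : w ∈ A := hWc.le ⟨hw, centralizer_le hX hwL⟩
  refine ⟨hwA, ?_⟩
  rw [hBA]
  exact ⟨w, hwA, hgc w hwL⟩

end Cfsg.Agent.S2833
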