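import Cfsg.Statements.S2836
import Cfsg.Agent.H59.YMinimal

set_option autoImplicit false
open Cfsg

namespace Cfsg.Agent.S2836

open Subgroup Cfsg.Agent
open scoped Pointwise

/-- Let L be a finite group, L₀ a maximal subgroup, T a Sylow p-subgroup of L₀, Y ≤ T, and suppose L is Y-minimal. Let D be the intersection of the conjugates of L₀ (the core of L₀). Then D contains O_p(L) and D/O_p(L) is the Frattini subgroup of L/O_p(L), so D is p-closed; and every normal subgroup N of L contained in L₀ is p-closed with N/O_p(N) a nilpotent group of order prime to p. -/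
theorem result {L : Type*} [Group L] [Finite L] {p : ℕ} [Fact p.Prime] (L₀ : Subgroup L) (hL₀ : IsCoatom L₀) (T : Sylow p ↥L₀) (Y : Subgroup L) (hYT : Y ≤ (T : Subgroup ↥L₀).map L₀.subtype) (hmin : Cfsg.IsMinimalOver Y) : (Cfsg.pCore p L ≤ L₀.normalCore ∧ (L₀.normalCore).map (QuotientGroup.mk' (Cfsg.pCore p L)) = frattini (L ⧸ Cfsg.pCore p L) ∧ Cfsg.IsPClosed p ↥(L₀.normalCore)) ∧ ∀ (N : Subgroup L) [N.Normal], N ≤ L₀ → Cfsg.IsPClosed p ↥N ∧ Group.IsNilpotent (↥N ⧸ Cfsg.pCore p ↥N) ∧ (Nat.card (↥N ⧸ Cfsg.pCore p ↥N)).Coprime p := by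
  have hYM : Y ≤ L₀ := hYT.trans (map_subtype_le _)
  obtain ⟨P, hP⟩ := H59.minOver_exists_sylow hmin hL₀ T hYT
  have hYP : Y ≤ (P : Subgroup L) := hP ▸ hYT
  have hPM : (P : Subgroup L) ≤ L₀ := hP ▸ map_subtype_le _
  set O := Cfsg.pCore p L with hO
  have hOM : O ≤ L₀ := H59.minOver_pCore_le hmin hL₀ hYM ((T.isPGroup'.map L₀.subtype).to_le hYT)
  set D := L₀.normalCore with hD
  have hOD : O ≤ D := normal_le_normalCore.mpr hOM
  have hDM : D ≤ L₀ := normalCore_le L₀
  obtain ⟨hDcl, -⟩ := H59.minOver_isPClosed (p := p) hmin hL₀ P hYP hPM (N := D) hDM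
  set f := QuotientGroup.mk' O with hf
  have hsurj : Function.Surjective f := QuotientGroup.mk'_surjective O
  -- maximal subgroups over `O` contain `D`
  have hmax : ∀ M : Subgroup L, IsCoatom M → O ≤ M → D ≤ M := by
    intro M hM hOM'
    by_contra hDM'
    have htop : M ⊔ D = ⊤ := hM.2 _ (left_lt_sup.mpr hDM')
    have hidx : ¬ p ∣ M.index := by
      intro hd
      have hPD : (P : Subgroup L) ⊓ D ≤ M := ((H59.isPClosed_normal_iff D P).mp hDcl).trans hOM'
      have h1 := Cores.card_sup_mul_card_inf M D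
      rw [htop, card_top, ← card_mul_index M, mul_assoc] at h1
      have h2 : Nat.card D = M.index * Nat.card ↥(M ⊓ D) :=
        (Nat.eq_of_mul_eq_mul_left Nat.card_pos h1).symm
      obtain ⟨R, hR⟩ := H59.exists_sylow_eq_inf P (C := D) le_normalizer_of_normal
      refine R.not_dvd_index (hd.trans ?_)
      have h3 : Nat.card R ∣ Nat.card ↥(M ⊓ D) := by
        refine dvd_trans (dvd_of_eq ?_) (card_dvd_of_le (le_inf hPD inf_le_right))
        rw [hR]
        exact Nat.card_congr (subgroupOfEquivOfLe inf_le_right).toEquiv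
      obtain ⟨c, hc⟩ := h3
      refine ⟨c, ?_⟩
      have h4 := (R : Subgroup D).card_mul_index
      rw [h2, hc, mul_left_comm] at h4
      exact Nat.eq_of_mul_eq_mul_left Nat.card_pos h4
    obtain ⟨Q⟩ := Sylow.nonempty (p := p) (G := M)
    have hQidx : ¬ p ∣ ((Q : Subgroup M).map M.subtype).index := by
      rw [index_map_subtype]
      exact fun hd => ((Fact.out : p.Prime).dvd_mul.mp hd).elim Q.not_dvd_index hidx
    obtain ⟨g, hg⟩ := MulAction.exists_smul_eq L P ((Q.isPGroup'.map M.subtype).toSylow hQidx)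
    have hgM : H60.cj (P : Subgroup L) g ≤ M := by
      have h5 : (((g • P : Sylow p L)) : Subgroup L) ≤ M := by rw [hg]; exact map_subtype_le _
      exact h5
    have h6 : Y ≤ H60.cj M g⁻¹ := hYP.trans ((H60.cj_le_iff g).mp hgM)
    have h7 : H60.cj M g⁻¹ ≠ ⊤ := fun e => hM.1 (H60.cj_inj (g := g⁻¹).mp
      (e.trans (Subgroup.map_top_of_surjective _ (MulAut.conj g⁻¹).surjective).symm))
    have h9 : H60.cj M g⁻¹ ≤ L₀ := H59.minOver_le hmin hL₀ hYM h6 h7
    refine hDM' fun d hd => ?_
    have h10 : H60.cj M g⁻¹ = L₀ := by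
      by_contra hne
      have h11 : H60.cj L₀ g = ⊤ := hM.2 _ (lt_of_le_of_ne ((H60.le_cj_iff g).mpr h9)
        fun e => hne (by rw [e, H60.cj_cj, inv_mul_cancel, H60.cj_one]))
      refine hL₀.1 (H60.cj_inj (g := g).mp (h11.trans ?_))
      exact (Subgroup.map_top_of_surjective _ (MulAut.conj g).surjective).symm
    have h12 : g⁻¹ * d * g ∈ H60.cj M g⁻¹ := by
      rw [h10]
      exact hDM (by simpa using (inferInstance : D.Normal).conj_mem d hd g⁻¹)
    simpa [H60.mem_cj, mul_assoc] using h12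
  have hfrat : D.map f = frattini (L ⧸ O) := by
    refine le_antisymm ?_ ?_
    · simp only [frattini, Order.radical, le_iInf_iff]
      intro M hM
      rw [map_le_iff_le_comap]
      refine hmax _ (Subgroup.isCoatom_comap_of_surjective hsurj hM) ?_
      intro x hx
      rw [mem_comap, hf, QuotientGroup.mk'_apply, (QuotientGroup.eq_one_iff x).mpr hx]
      exact one_mem M
    · intro y hy
      obtain ⟨x, rfl⟩ := hsurj y
      refine mem_map_of_mem f fun g => ?_
      have hL₀O : O ≤ H60.cj L₀ g⁻¹ := fun z hz => H60.mem_cj.mpr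
        (hOM (by simpa using (inferInstance : O.Normal).conj_mem z hz g))
      have hcoat : IsCoatom (H60.cj L₀ g⁻¹) := ((MulAut.conj g⁻¹).mapSubgroup.isCoatom_iff L₀).mpr hL₀
      have hm : IsCoatom ((H60.cj L₀ g⁻¹).map f) := by
        refine ⟨fun e => hcoat.1 ?_, fun K hK => ?_⟩
        · have := congrArg (Subgroup.comap f) e
          rwa [comap_map_eq, QuotientGroup.ker_mk', sup_of_le_left hL₀O, comap_top] at this
        · have : K.comap f = ⊤ := hcoat.2 _ (lt_of_le_of_ne (map_le_iff_le_comap.mp hK.le) fun e =>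
            hK.ne (by rw [e, map_comap_eq_self_of_surjective hsurj]))
          rw [← map_comap_eq_self_of_surjective hsurj K, this, Subgroup.map_top_of_surjective f hsurj]
      have h1 := frattini_le_coatom hm hy
      obtain ⟨z, hz, hzx⟩ := h1
      have h2 : x ∈ H60.cj L₀ g⁻¹ := by
        have := mul_mem hz (hL₀O (QuotientGroup.eq.mp hzx))
        simpa using this
      have h3 := H60.mem_cj.mp h2
      rwa [inv_inv] at h3
  refine ⟨⟨hOD, hfrat, hDcl⟩, fun N _ hNM => ?_⟩
  obtain ⟨hNcl, hNcore⟩ := H59.minOver_isPClosed (p := p) hmin hL₀ P hYP hPM (N := N) hNM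
  refine ⟨hNcl, ?_, ?_⟩
  · have hker : Cfsg.pCore p N = O.subgroupOf N := by
      refine le_antisymm (fun x hx => Cores.map_pCore_le_of_normal N (mem_map_of_mem N.subtype hx))
        (Cores.subgroupOf_pCore_le N)
    let φ : N ⧸ Cfsg.pCore p N →* frattini (L ⧸ O) :=
      QuotientGroup.lift _ ((f.comp N.subtype).codRestrict _ fun x =>
        hfrat.le (mem_map_of_mem f (normal_le_normalCore.mpr hNM x.2))) fun x hx => by
          rw [MonoidHom.mem_ker]
          exact Subtype.ext ((QuotientGroup.eq_one_iff _).mpr (hker.le hx))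
    have hφ : Function.Injective φ := by
      refine (injective_iff_map_eq_one φ).mpr fun q hq => ?_
      obtain ⟨x, rfl⟩ := QuotientGroup.mk_surjective q
      exact (QuotientGroup.eq_one_iff x).mpr (hker.ge
        ((QuotientGroup.eq_one_iff (x : L)).mp (congrArg Subtype.val hq)))
    have := frattini_nilpotent (G := L ⧸ O)
    exact Subgroup.isNilpotent_of_ker_le_center φ (by rw [(MonoidHom.ker_eq_bot_iff φ).mpr hφ]; exact bot_le)
  · rw [← index_eq_card]
    obtain ⟨R⟩ := Sylow.nonempty (p := p) (G := N)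
    have : Cfsg.pCore p N = (R : Subgroup N) :=
      le_antisymm (Cores.pCore_le_sylow R) (H59.isPClosed_iff.mp hNcl R)
    rw [this]
    exact ((Nat.Prime.coprime_iff_not_dvd Fact.out).mpr R.not_dvd_index).symm

end Cfsg.Agent.S2836
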