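import Cfsg.Statements.S2837
import Cfsg.Agent.H59.YMinimal
import Cfsg.Agent.PGroups.Basic
import Cfsg.Agent.H60.FrakM

set_option autoImplicit false
open Cfsg

namespace Cfsg.Agent.S2837

open Subgroup Cfsg.Agent
open scoped Pointwise commutatorElement

/-- Let L be a finite group of characteristic p, L₀ a maximal subgroup, Y an elementary abelian p-subgroup of L₀ with L Y-minimal and O_p(L) ≤ N_L(Y). Put A = the normal closure of O_p(L) ∩ Y in L. Then for every g ∈ L outside L₀: Φ(A) = A' = [A ∩ Y, A] = [A ∩ Y, A ∩ gYg⁻¹] ≤ C_Y(L), and Y ∩ gYg⁻¹ = (A ∩ Y) ∩ (A ∩ gYg⁻¹) = C_Y(L) = C_A(L). -/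
theorem result {L : Type*} [Group L] [Finite L] {p : ℕ} [Fact p.Prime] (hchar : Subgroup.centralizer (Cfsg.pCore p L : Set L) ≤ Cfsg.pCore p L) (L₀ : Subgroup L) (hL₀ : IsCoatom L₀) (Y : Subgroup L) (hYL₀ : Y ≤ L₀) (hYel : Cfsg.IsElementaryAbelian p Y) (hmin : Cfsg.IsMinimalOver Y) (hOY : Cfsg.pCore p L ≤ Subgroup.normalizer (Y : Set L)) (A : Subgroup L) (hA : A = Subgroup.normalClosure (((Cfsg.pCore p L ⊓ Y : Subgroup L)) : Set L)) (g : L) (hg : g ∉ L₀) : (frattini ↥A).map A.subtype = ⁅A, A⁆ ∧ ⁅A, A⁆ = ⁅A ⊓ Y, A⁆ ∧ ⁅A ⊓ Y, A⁆ = ⁅A ⊓ Y, A ⊓ Y.map (MulAut.conj g).toMonoidHom⁆ ∧ ⁅A ⊓ Y, A⁆ ≤ Y ⊓ Subgroup.center L ∧ Y ⊓ Y.map (MulAut.conj g).toMonoidHom = Y ⊓ Subgroup.center L ∧ (A ⊓ Y) ⊓ (A ⊓ Y.map (MulAut.conj g).toMonoidHom) = Y ⊓ Subgroup.center L ∧ A ⊓ Subgroup.center L = Y ⊓ Subgroup.center L := by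
  subst hA
  set Q := Cfsg.pCore p L with hQ
  have hQn : Q.Normal := inferInstance
  set Y₀ := Q ⊓ Y with hY₀
  set A := normalClosure (Y₀ : Set L) with hA
  set Yg := Y.map (MulAut.conj g).toMonoidHom with hYg
  set C := Y ⊓ center L with hC
  have hYc := H59.le_centralizer_self hYel.1
  have hYp : IsPGroup p Y := H60.isPGroup_of_isElementaryAbelian hYel
  obtain ⟨T, hT⟩ := (hYp.comap_subtype : IsPGroup p (Y.subgroupOf L₀)).exists_le_sylow
  have hYT : Y ≤ (T : Subgroup L₀).map L₀.subtype := fun y hy => ⟨⟨y, hYL₀ hy⟩, hT hy, rfl⟩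
  have hinf : Y ⊓ Yg = C := H59.minOver_inf_conj hmin hL₀ hYL₀ hYel.1 hg
  have hsup : Y ⊔ Yg = ⊤ := H59.minOver_sup_conj hmin hL₀ hYL₀ hg
  have hQYg : Q ≤ normalizer (Yg : Set L) := fun u hu => by
    have h1 := hOY (show g⁻¹ * u * g⁻¹⁻¹ ∈ Q from hQn.conj_mem u hu _)
    have h2 := (H60.cj_normalizer Y g).le (mem_map_of_mem (MulAut.conj g).toMonoidHom h1)
    rw [show (MulAut.conj g).toMonoidHom (g⁻¹ * u * g⁻¹⁻¹) = u by simp [mul_assoc]] at h2
    exact h2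
  have hAQ : A ≤ Q := normalClosure_le_normal fun y hy => hy.1
  have hAn : A.Normal := inferInstance
  have hY₀A : Y₀ ≤ A := subset_normalClosure
  set Y₁ := Q ⊓ Yg with hY₁
  have hY₁A : Y₁ ≤ A := by
    rintro _ ⟨hu, y, hy, rfl⟩
    refine hAn.conj_mem y (hY₀A ⟨?_, hy⟩) g
    simpa [mul_assoc] using hQn.conj_mem _ hu g⁻¹
  have hAY : A ⊓ Y = Y₀ := le_antisymm (inf_le_inf_right _ hAQ) (le_inf hY₀A inf_le_right)
  have hAYg : A ⊓ Yg = Y₁ := le_antisymm (inf_le_inf_right _ hAQ) (le_inf hY₁A inf_le_right)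
  -- `A` is the product
  have hstep : ∀ Z : Subgroup L, Q ≤ normalizer (Z : Set L) →
      ∀ y ∈ Z, ∀ u ∈ Q, ⁅y, u⁆ ∈ Q ⊓ Z := fun Z hZ y hy u hu => by
    rw [commutatorElement_def]
    refine ⟨(mul_mem (hQn.conj_mem u hu y) (inv_mem hu) : y * u * y⁻¹ * u⁻¹ ∈ Q), ?_⟩
    rw [mul_assoc, mul_assoc, ← mul_assoc u]
    exact mul_mem hy ((mem_normalizer_iff.mp (hZ hu) _).mp (inv_mem hy))
  have hB : A = Y₀ ⊔ Y₁ := by
    refine le_antisymm ?_ (sup_le hY₀A hY₁A)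
    have hn : (Y₀ ⊔ Y₁).Normal := by
      refine normalizer_eq_top_iff.mp (top_le_iff.mp ?_)
      rw [← hsup, sup_le_iff]
      have key : ∀ Z : Subgroup L, Q ≤ normalizer (Z : Set L) → Q ⊓ Z ≤ Y₀ ⊔ Y₁ →
          Z ≤ normalizer ((Y₀ ⊔ Y₁ : Subgroup L) : Set L) := by
        intro Z hZ hle y hy
        refine H59.mem_normalizer_of_forall fun u hu => ?_
        have huQ : u ∈ Q := (sup_le inf_le_left inf_le_left : Y₀ ⊔ Y₁ ≤ Q) hu
        have := mul_mem (hle (hstep Z hZ y hy u huQ)) hu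
        rwa [commutatorElement_def, inv_mul_cancel_right] at this
      exact ⟨key Y hOY le_sup_left, key Yg hQYg le_sup_right⟩
    exact normalClosure_le_normal fun y hy => mem_sup_left hy
  set K := ⁅Y₀, Y₁⁆ with hK
  have hKC : K ≤ C := by
    rw [← hinf]
    exact (H60.commutator_le_inf_of_le_normalizer (inf_le_left.trans (H60.le_normalizer_inf le_normalizer_of_normal hQYg))
      (inf_le_left.trans (H60.le_normalizer_inf le_normalizer_of_normal hOY))).trans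
      (inf_le_inf inf_le_right inf_le_right)
  have hKn : K.Normal := ⟨fun k hk x => by
    rw [mem_center_iff.mp (hKC hk).2 x, mul_inv_cancel_right]
    exact hk⟩
  set f := QuotientGroup.mk' K with hf
  have hY₁c : Y₁ ≤ centralizer (Y₁ : Set L) := by
    intro a ha b hb
    obtain ⟨u, hu, rfl⟩ := ha.2
    obtain ⟨v, hv, rfl⟩ := hb.2
    rw [← map_mul, ← map_mul, mem_centralizer_iff.mp (hYc hu) v hv]
  have hcommf : ∀ a ∈ Y₀, ∀ b ∈ Y₁, Commute (f a) (f b) := fun a ha b hb => by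
    refine commutatorElement_eq_one_iff_mul_comm.mp ?_
    rw [← map_commutatorElement]
    exact (QuotientGroup.eq_one_iff _).mpr (commutator_mem_commutator ha hb)
  have hfA : A.map f ≤ centralizer (A.map f : Set (L ⧸ K)) := by
    rw [hB, Subgroup.map_sup]
    have h0 : Y₀.map f ≤ centralizer (((Y₀.map f ⊔ Y₁.map f : Subgroup _)) : Set (L ⧸ K)) := by
      rw [le_centralizer_iff]
      refine sup_le ?_ ?_
      · rintro _ ⟨a, ha, rfl⟩ _ ⟨b, hb, rfl⟩
        rw [← map_mul, ← map_mul, mem_centralizer_iff.mp (hYc ha.2) b hb.2]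
      · rintro _ ⟨b, hb, rfl⟩ _ ⟨a, ha, rfl⟩
        exact hcommf a ha b hb
    refine sup_le h0 ?_
    rw [le_centralizer_iff]
    refine sup_le ?_ ?_
    · rintro _ ⟨a, ha, rfl⟩ _ ⟨b, hb, rfl⟩
      exact (hcommf a ha b hb).symm
    · rintro _ ⟨a, ha, rfl⟩ _ ⟨b, hb, rfl⟩
      rw [← map_mul, ← map_mul, hY₁c ha b hb]
  have hAAK : ⁅A, A⁆ ≤ K := commutator_le.mpr fun a ha b hb => by
    refine (QuotientGroup.eq_one_iff _).mp ?_
    change f ⁅a, b⁆ = 1
    rw [map_commutatorElement]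
    exact commutatorElement_eq_one_iff_mul_comm.mpr
      (hfA (mem_map_of_mem f hb) _ (mem_map_of_mem f ha))
  have e1 : ⁅A, A⁆ = K := le_antisymm hAAK (commutator_mono hY₀A hY₁A)
  have e2 : ⁅Y₀, A⁆ = K := le_antisymm ((commutator_mono hY₀A le_rfl).trans hAAK) (commutator_mono le_rfl hY₁A)
  have hCY₀ : C ≤ Y₀ := fun z hz => by
    refine ⟨?_, hz.1⟩
    have : (zpowers z).Normal := ⟨fun x hx w => by
      rw [mem_center_iff.mp ((zpowers_le.mpr hz.2) hx) w, mul_inv_cancel_right]; exact hx⟩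
    exact Cores.le_pCore (hYp.to_le (zpowers_le.mpr hz.1)) (mem_zpowers z)
  rw [hAY, hAYg, e1, e2]
  refine ⟨?_, rfl, rfl, hKC, hinf, ?_, ?_⟩
  · have hAp : IsPGroup p A := (Cores.pCore_isPGroup (p := p) (G := L)).to_le hAQ
    rw [PGroups.frattini_eq hAp, Subgroup.map_sup, map_subtype_commutator, e1, MonoidHom.map_closure]
    refine sup_eq_left.mpr ((closure_le _).mpr ?_)
    rintro _ ⟨_, ⟨x, rfl⟩, rfl⟩
    have hx : (x : L) ∈ ((Y₀ ⊔ Y₁ : Subgroup L) : Set L) := hB.le x.2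
    have hn₁ : Y₁ ≤ normalizer (Y₀ : Set L) :=
      inf_le_left.trans (H60.le_normalizer_inf le_normalizer_of_normal hOY)
    rw [Subgroup.coe_mul_of_right_le_normalizer_left Y₀ Y₁ hn₁] at hx
    obtain ⟨a, ha, b, hb, hab⟩ := hx
    refine (QuotientGroup.eq_one_iff _).mp ?_
    change f ((x : L) ^ p) = 1
    obtain ⟨u, hu, hu'⟩ := hb.2
    rw [← hab, map_pow, map_mul, (hcommf a ha b hb).mul_pow, ← map_pow, ← map_pow, hYel.2 a ha.2,
      show b ^ p = 1 by rw [← hu', ← map_pow, hYel.2 u hu, map_one], map_one, one_mul]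
  · refine le_antisymm ((inf_le_inf inf_le_right inf_le_right).trans hinf.le) (le_inf hCY₀ ?_)
    exact le_inf (hCY₀.trans inf_le_left) (hinf.ge.trans inf_le_right)
  · refine le_antisymm (fun z hz => ⟨?_, hz.2⟩) (le_inf (hCY₀.trans hY₀A) inf_le_right)
    have hn₁ : Y₁ ≤ normalizer (Y₀ : Set L) :=
      inf_le_left.trans (H60.le_normalizer_inf le_normalizer_of_normal hOY)
    have hz' : z ∈ ((Y₀ ⊔ Y₁ : Subgroup L) : Set L) := hB.le hz.1
    rw [Subgroup.coe_mul_of_right_le_normalizer_left Y₀ Y₁ hn₁] at hz'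
    obtain ⟨a, ha, b, hb, rfl⟩ := hz'
    have hbY : b ∈ centralizer (Y : Set L) := by
      have := mul_mem (inv_mem (hYc ha.2)) (show a * b ∈ centralizer (Y : Set L) from
        fun y _ => mem_center_iff.mp hz.2 y)
      simpa using this
    have hbc : b ∈ center L := by
      have : (⊤ : Subgroup L) ≤ centralizer ({b} : Set L) := by
        rw [← hsup]
        refine sup_le (fun y hy => ?_) (fun y hy => ?_)
        · rintro _ rfl; exact (hbY y hy).symm
        · rintro _ rfl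
          obtain ⟨u, hu, hu'⟩ := hb.2
          obtain ⟨v, hv, rfl⟩ := hy
          rw [← hu', ← map_mul, ← map_mul, mem_centralizer_iff.mp (hYc hv) u hu]
      exact mem_center_iff.mpr fun x => (this (mem_top x) b rfl).symm
    refine mul_mem ha.2 ?_
    obtain ⟨u, hu, hu'⟩ := hb.2
    have h7 : g * u * g⁻¹ = b := hu'
    have h9 : u = b := by
      rw [show u = g⁻¹ * (g * u * g⁻¹) * g by group, h7, mul_assoc, ← mem_center_iff.mp hbc g,
        inv_mul_cancel_left]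
    rwa [← h9]

end Cfsg.Agent.S2837
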