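import Cfsg.Statements.S2839
import Cfsg.Agent.H59.WeaklyClosed

set_option autoImplicit false
open Cfsg

namespace Cfsg.Agent.S2839

open Subgroup
open scoped Pointwise commutatorElement

/-- Let Q be a nontrivial p-subgroup of the finite group H that is a weakly closed subgroup, K a subgroup containing Q and N a normal subgroup of H. Then Q is a weakly closed subgroup of K; every H-conjugate of Q contained in K is a K-conjugate of Q; N_K(Q) contains a Sylow p-subgroup of K; N = N_N(Q)·O^p(N); and QN/N is a weakly closed subgroup of H/N. -/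
theorem result {H : Type*} [Group H] [Finite H] {p : ℕ} [Fact p.Prime] (Q : Subgroup H) (hQp : IsPGroup p ↥Q) (hQ1 : Q ≠ ⊥) (hwc : Cfsg.IsWeaklyClosedSubgroup p Q) (K : Subgroup H) (hQK : Q ≤ K) (N' : Subgroup H) [N'.Normal] : Cfsg.IsWeaklyClosedSubgroup p (Q.subgroupOf K) ∧ (∀ g : H, ((Q : Subgroup H).map (MulAut.conj (g : H)).toMonoidHom) ≤ K → ∃ k ∈ K, ((Q : Subgroup H).map (MulAut.conj (g : H)).toMonoidHom) = ((Q : Subgroup H).map (MulAut.conj (k : H)).toMonoidHom)) ∧ Cfsg.IsParabolic p ((Subgroup.normalizer ((Q : Subgroup H) : Set H)).subgroupOf K) ∧ (N' ⊓ Subgroup.normalizer ((Q : Subgroup H) : Set H)) ⊔ (Cfsg.pResidual p ↥N').map N'.subtype = N' ∧ Cfsg.IsWeaklyClosedSubgroup p (Q.map (QuotientGroup.mk' N')) := by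
  obtain ⟨T, hTN⟩ : ∃ T : Sylow p H, (T : Subgroup H) ≤ normalizer (Q : Set H) := by
    obtain ⟨T, hT⟩ := hQp.exists_le_sylow
    exact ⟨T, Subgroup.le_normalizer.trans (H59.normalizer_le_of_isWeaklyClosed hwc T.isPGroup' hT)⟩
  refine ⟨H59.isWeaklyClosed_subgroupOf hQp hwc hQK, fun g hg => H59.exists_conj_of_le hQp hwc hQK hg,
    ?_, ?_, ?_⟩
  · obtain ⟨P, hP⟩ := H59.le_normalizer_sylow hQp hwc hQK
    exact ⟨P, fun x hx => hP (mem_map_of_mem K.subtype hx)⟩
  · obtain ⟨P, hP⟩ := H59.exists_sylow_eq_inf T (C := N') le_normalizer_of_normal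
    have h1 := congrArg (Subgroup.map N'.subtype) (Fusion.sylow_sup_pResidual P)
    rw [Subgroup.map_sup, hP, subgroupOf_map_subtype, inf_of_le_left inf_le_right,
      ← MonoidHom.range_eq_map, range_subtype] at h1
    refine le_antisymm (sup_le inf_le_left (map_subtype_le _)) (h1.ge.trans (sup_le_sup_right ?_ _))
    exact le_inf inf_le_right (inf_le_left.trans hTN)
  · set f := QuotientGroup.mk' N' with hf
    have hsurj : Function.Surjective f := QuotientGroup.mk'_surjective N'
    obtain ⟨T', hT'⟩ := hQp.exists_le_sylow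
    refine ⟨T'.mapSurjective hsurj, Subgroup.map_mono hT', fun y hy => ?_⟩
    obtain ⟨g, rfl⟩ := hsurj y
    have hcm : ∀ g : H, (Q.map f).map (MulAut.conj (f g)).toMonoidHom = (H60.cj Q g).map f := by
      intro g
      rw [Subgroup.map_map, Subgroup.map_map]
      congr 1
    rw [hcm] at hy ⊢
    have hg : H60.cj Q g ≤ (T' : Subgroup H) ⊔ N' := by
      intro x hx
      obtain ⟨t, ht, htx⟩ := hy (mem_map_of_mem f hx)
      obtain ⟨c, hc, rfl⟩ : ∃ c ∈ N', x = t * c :=
        ⟨t⁻¹ * x, QuotientGroup.eq.mp htx, by group⟩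
      exact mul_mem (mem_sup_left ht) (mem_sup_right hc)
    obtain ⟨k, hk, he⟩ := H59.exists_conj_of_le hQp hwc (hT'.trans le_sup_left) hg
    rw [← SetLike.mem_coe, mul_normal] at hk
    obtain ⟨t, ht, c, hc, rfl⟩ := hk
    have htQ : t ∈ normalizer (Q : Set H) :=
      H59.normalizer_le_of_isWeaklyClosed hwc T'.isPGroup' hT' (Subgroup.le_normalizer ht)
    rw [show H60.cj Q g = H60.cj Q (t * c) from he, ← hcm, map_mul, show f c = 1 from (QuotientGroup.eq_one_iff c).mpr hc,
      mul_one, hcm, H60.cj_eq_self_iff.mpr htQ]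

end Cfsg.Agent.S2839
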