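import Cfsg.Statements.S2840
import Cfsg.Agent.H59.WeaklyClosed

set_option autoImplicit false
open Cfsg

namespace Cfsg.Agent.S2840

open Subgroup
open scoped Pointwise commutatorElement

/-- Let Q be a nontrivial p-subgroup of the finite group H that is a weakly closed subgroup and K a subgroup containing Q; let K° be the weak closure of Q in K (generated by the H-conjugates of Q inside K). Then K° is generated by the K-conjugates of Q, and K° is the subnormal closure of Q in K. -/
theorem result {H : Type*} [Group H] [Finite H] {p : ℕ} [Fact p.Prime] (Q : Subgroup H) (hQp : IsPGroup p ↥Q) (hQ1 : Q ≠ ⊥) (hwc : Cfsg.IsWeaklyClosedSubgroup p Q) (K : Subgroup H) (hQK : Q ≤ K) (Kc : Subgroup H) (hKc : Kc = Cfsg.weakClosure Q K) : Kc = ⨆ k : ↥K, ((Q : Subgroup H).map (MulAut.conj ((k : H) : H)).toMonoidHom) ∧ Kc = (Cfsg.subnormalClosure (Q.subgroupOf K)).map K.subtype := by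
  subst hKc
  have h1 : Cfsg.weakClosure Q K = ⨆ k : K, H60.cj Q (k : H) := by
    refine le_antisymm (iSup_le fun ⟨g, hg⟩ => ?_) (iSup_le fun k => ?_)
    · obtain ⟨k, hk, he⟩ := H59.exists_conj_of_le hQp hwc hQK hg
      exact he.le.trans (le_iSup (fun k : K => H60.cj Q (k : H)) ⟨k, hk⟩)
    · exact le_iSup_of_le ⟨(k : H), (H60.cj_mono hQK _).trans (H60.cj_le_of_mem k.2)⟩ le_rfl
  refine ⟨h1, le_antisymm ?_ ?_⟩
  · rw [h1]
    refine iSup_le fun k => ?_
    have key : ∀ M : Subgroup K, M.IsSubnormal → Q.subgroupOf K ≤ M →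
        H60.cj Q (k : H) ≤ M.map K.subtype := by
      intro M hM
      induction hM with
      | top =>
        intro _
        rw [← MonoidHom.range_eq_map, range_subtype]
        exact (H60.cj_mono hQK _).trans (H60.cj_le_of_mem k.2)
      | step M M' hle _ hn ih =>
        intro hQM
        have hQM' : Q.subgroupOf K ≤ M' := hQM.trans hle
        obtain ⟨m, hm, he⟩ := H59.exists_conj_of_le hQp hwc
          (K := M'.map K.subtype) (fun q hq => ⟨⟨q, hQK hq⟩, hQM' hq, rfl⟩) (ih hQM')
        rw [show H60.cj Q (k : H) = H60.cj Q m from he]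
        obtain ⟨m', hm', rfl⟩ := hm
        rintro _ ⟨q, hq, rfl⟩
        exact ⟨m' * ⟨q, hQK hq⟩ * m'⁻¹,
          hn.conj_mem (⟨⟨q, hQK hq⟩, hQM' hq⟩ : M') (hQM hq) ⟨m', hm'⟩, rfl⟩
    intro x hx
    have hxK : x ∈ K := ((H60.cj_mono hQK _).trans (H60.cj_le_of_mem k.2)) hx
    refine ⟨⟨x, hxK⟩, ?_, rfl⟩
    refine Subgroup.mem_sInf.mpr fun M hM => ?_
    obtain ⟨y, hy, hyx⟩ := key M hM.2 hM.1 hx
    have : y = ⟨x, hxK⟩ := Subtype.ext hyx
    exact this ▸ hy
  · set W := Cfsg.weakClosure Q K with hW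
    have hQW : Q ≤ W := le_iSup_of_le ⟨1, (H60.cj_one Q).le.trans hQK⟩
      (H60.cj_one Q).ge
    have hWK : W ≤ K := iSup_le fun g => g.2
    have hn : (W.subgroupOf K).Normal := by
      refine (normal_subgroupOf_iff_le_normalizer hWK).mpr fun k hk => ?_
      refine H59.mem_normalizer_of_forall fun u hu => ?_
      have h5 : H60.cj W k ≤ W := by
        rw [h1, H60.cj, Subgroup.map_iSup]
        refine iSup_le fun l => ?_
        change H60.cj (H60.cj Q (l : H)) k ≤ _
        rw [H60.cj_cj]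
        exact le_iSup (fun k : K => H60.cj Q (k : H)) ⟨k * l, mul_mem hk l.2⟩
      exact h5 (mem_map_of_mem _ hu)
    refine (Subgroup.map_mono (sInf_le (α := Subgroup K) ?_)).trans
      (le_of_eq ((subgroupOf_map_subtype W K).trans (inf_of_le_left hWK)))
    exact ⟨fun q hq => hQW hq, hn.isSubnormal⟩

end Cfsg.Agent.S2840
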