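import Cfsg.Statements.S2841
import Cfsg.Agent.H59.WeaklyClosed

set_option autoImplicit false
open Cfsg

namespace Cfsg.Agent.S2841

open Subgroup
open scoped Pointwise commutatorElement

/-- Let Q be a nontrivial p-subgroup of the finite group H that is a weakly closed subgroup and N a normal subgroup of H. Then N = N_N(Q)·[N, Q] and [N, Q] = (Q ∩ [N, Q])·[N, Q, Q]. -/
theorem result {H : Type*} [Group H] [Finite H] {p : ℕ} [Fact p.Prime] (Q : Subgroup H) (hQp : IsPGroup p ↥Q) (hQ1 : Q ≠ ⊥) (hwc : Cfsg.IsWeaklyClosedSubgroup p Q) (N' : Subgroup H) [N'.Normal] : (∀ n : H, n ∈ N' → ∃ a ∈ N' ⊓ Subgroup.normalizer ((Q : Subgroup H) : Set H), ∃ b ∈ ⁅N', Q⁆, n = a * b) ∧ (∀ c : H, c ∈ ⁅N', Q⁆ → ∃ a ∈ Q ⊓ ⁅N', Q⁆, ∃ b ∈ ⁅⁅N', Q⁆, Q⁆, c = a * b) := by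
  set N := N' with hN
  set W := ⁅N, Q⁆ with hW
  refine ⟨fun n hn => H59.exists_mul_mem_commutator hQp hwc hn, fun c hc => ?_⟩
  have hWN : W ≤ N := Subgroup.commutator_le_left N Q
  have hQW : Q ≤ normalizer (W : Set H) := normalizer_commutator_ge_right N Q
  set B := ⁅W, Q⁆ with hB
  have hWB : W ≤ normalizer (B : Set H) := normalizer_commutator_ge_left W Q
  have hNW : N ≤ normalizer (W : Set H) := normalizer_commutator_ge_left N Q
  set U := (Q ⊓ W) ⊔ B with hU
  have hle : W ≤ U := by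
    refine commutator_le.mpr fun n hn q hq => ?_
    obtain ⟨a, ha, b, hb, rfl⟩ := H59.exists_mul_mem_commutator hQp hwc hn
    have h1 : ⁅a * b, q⁆ = (a * ⁅b, q⁆ * a⁻¹) * ⁅a, q⁆ := by simp only [commutatorElement_def]; group
    rw [h1]
    refine mul_mem (mem_sup_right ?_) (mem_sup_left ⟨?_, commutator_mem_commutator ha.1 hq⟩)
    · have hB' : B.map (MulAut.conj a).toMonoidHom = B := by
        have e1 : W.map (MulAut.conj a).toMonoidHom = W := mem_normalizer_iff_map_conj_eq.mp (hNW ha.1)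
        have e2 : Q.map (MulAut.conj a).toMonoidHom = Q := mem_normalizer_iff_map_conj_eq.mp ha.2
        rw [hB, map_commutator, e1, e2]
      exact hB'.le (mem_map_of_mem (MulAut.conj a).toMonoidHom (commutator_mem_commutator hb hq))
    · rw [commutatorElement_def]
      exact (mul_mem ((mem_normalizer_iff.mp ha.2 q).mp hq) (inv_mem hq) : a * q * a⁻¹ * q⁻¹ ∈ Q)
  have hc' : c ∈ ((U : Subgroup H) : Set H) := hle hc
  rw [hU, Subgroup.coe_mul_of_left_le_normalizer_right (Q ⊓ W) B (inf_le_right.trans hWB)] at hc'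
  obtain ⟨a, ha, b, hb, rfl⟩ := hc'
  exact ⟨a, ha, b, hb, rfl⟩

end Cfsg.Agent.S2841
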