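import Cfsg.Statements.S2842
import Cfsg.Agent.H59.WeaklyClosed

set_option autoImplicit false
open Cfsg

namespace Cfsg.Agent.S2842

open Subgroup
open scoped commutatorElement

/-- Let Q be a nontrivial p-subgroup of the finite group H that is a weakly closed subgroup with C_H(Q) ≤ Q, and Q ≤ L ≤ H. Suppose H has characteristic p, or more generally that C_H(y) has characteristic p for some nonidentity y ∈ C_{O_p(L)}(Q). Then [Q, C_H(O_p(L))] ≤ Q ∩ O_p(L), C_H(O_p(L)) is a p-group, and L has characteristic p. -/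
theorem result {H : Type*} [Group H] [Finite H] {p : ℕ} [Fact p.Prime] (Q : Subgroup H) (hQp : IsPGroup p ↥Q) (hQ1 : Q ≠ ⊥) (hwc : Cfsg.IsWeaklyClosedSubgroup p Q) (hCQ : Subgroup.centralizer ((Q : Subgroup H) : Set H) ≤ Q) (L : Subgroup H) (hQL : Q ≤ L) (hyp : Subgroup.centralizer (Cfsg.pCore p H : Set H) ≤ Cfsg.pCore p H ∨ ∃ y : H, y ≠ 1 ∧ y ∈ (Cfsg.pCoreOf p L) ⊓ Subgroup.centralizer ((Q : Subgroup H) : Set H) ∧ Subgroup.centralizer (Cfsg.pCore p ↥(Subgroup.centralizer ({y} : Set H)) : Set ↥(Subgroup.centralizer ({y} : Set H))) ≤ Cfsg.pCore p ↥(Subgroup.centralizer ({y} : Set H))) : ⁅Q, Subgroup.centralizer (((Cfsg.pCoreOf p L) : Subgroup H) : Set H)⁆ ≤ Q ⊓ (Cfsg.pCoreOf p L) ∧ IsPGroup p ↥(Subgroup.centralizer (((Cfsg.pCoreOf p L) : Subgroup H) : Set H)) ∧ Subgroup.centralizer (Cfsg.pCore p ↥L : Set ↥L) ≤ Cfsg.pCore p ↥L := by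
  set P := Cfsg.pCoreOf p L with hP
  set C := centralizer (P : Set H) with hC
  have hLP : L ≤ normalizer (P : Set H) := H60.le_normalizer_pCoreOf L
  have hLC : L ≤ normalizer (C : Set H) := hLP.trans (H60.normalizer_le_normalizer_centralizer P)
  obtain ⟨D, hQD, hCD, hD⟩ : ∃ D : Subgroup H, Q ≤ D ∧ C ≤ D ∧
      centralizer (Cfsg.pCore p D : Set D) ≤ Cfsg.pCore p D := by
    rcases hyp with h | ⟨y, -, hy, h⟩
    · exact ⟨⊤, le_top, le_top, H61.charP_of_injective h (⊤ : Subgroup H).subtype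
        (⊤ : Subgroup H).subtype_injective (by rw [range_subtype]; exact le_normalizer_of_normal)⟩
    · exact ⟨_, fun q hq => by rintro _ rfl; exact (hy.2 q hq).symm,
        centralizer_le (by rintro _ rfl; exact hy.1), h⟩
  -- overgroups of `Q` in `D` have characteristic `p`
  have hchar : ∀ M : Subgroup H, Q ≤ M → M ≤ D →
      centralizer (Cfsg.pCore p M : Set M) ≤ Cfsg.pCore p M := by
    intro M hQM hMD
    obtain ⟨T, hT⟩ := (hQp.comap_subtype : IsPGroup p (Q.subgroupOf D)).exists_le_sylow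
    have hwD := H59.isWeaklyClosed_subgroupOf hQp hwc hQD
    have h1 := H61.charP_of_overgroup hD T (Q.subgroupOf D) hT
      (Subgroup.le_normalizer.trans (H59.normalizer_le_of_isWeaklyClosed hwD T.isPGroup' hT))
      (fun x hx => hCQ fun q hq => congrArg Subtype.val (hx.2 (⟨q, hQD hq⟩ : D) hq))
      (M.subgroupOf D) (fun x hx => hQM hx)
    refine H61.charP_of_injective h1 (subgroupOfEquivOfLe hMD).symm.toMonoidHom
      (subgroupOfEquivOfLe hMD).symm.injective ?_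
    rw [MonoidHom.range_eq_top.mpr (subgroupOfEquivOfLe hMD).symm.surjective]
    exact le_normalizer_of_normal
  -- a normal subgroup with central `p`-core is a `p`-group
  have key : ∀ M N : Subgroup H, Q ≤ M → M ≤ D → N ≤ M → M ≤ normalizer (N : Set H) →
      (∀ c ∈ N, (orderOf c).Coprime p → ∀ e ∈ N ⊓ Cfsg.pCoreOf p M, c * e = e * c) →
      IsPGroup p N := by
    intro M N hQM hMD hNM hMN h
    refine H61.isPGroup_of_forall_coprime fun c hc hco => ?_
    have hMM := H60.le_normalizer_pCoreOf (p := p) M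
    have h2 : (⟨c, hNM hc⟩ : M) ∈ Cfsg.pCore p M := by
      refine hchar M hQM hMD fun r hr => ?_
      refine (H61.commute_of_comm_mem (Cores.pCore_isPGroup (p := p) (G := M)) ?_ ?_ ?_).symm.eq
      · rwa [Subgroup.orderOf_mk]
      · exact mul_mem ((inferInstance : (Cfsg.pCore p M).Normal).conj_mem r hr _) (inv_mem hr)
      · refine Subtype.ext (h c hc hco _ ⟨?_, mem_map_of_mem M.subtype
          (mul_mem ((inferInstance : (Cfsg.pCore p M).Normal).conj_mem r hr _) (inv_mem hr))⟩)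
        change c * r * c⁻¹ * (r : H)⁻¹ ∈ N
        rw [mul_assoc, mul_assoc, ← mul_assoc (r : H)]
        exact mul_mem hc ((mem_normalizer_iff.mp (hMN r.2) _).mp (inv_mem hc))
    have h3 := H61.eq_one_of_mem_pGroup (Cores.pCore_isPGroup (p := p) (G := M)) h2
      (by rwa [Subgroup.orderOf_mk])
    exact congrArg Subtype.val h3
  -- `C ⊓ L`
  set C₀ := C ⊓ L with hC₀
  have hC₀n : L ≤ normalizer (C₀ : Set H) := H60.le_normalizer_inf hLC Subgroup.le_normalizer
  have hC₀P : C₀ ≤ P := by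
    have hp₀ : IsPGroup p C₀ := by
      refine key (L ⊓ D) C₀ (le_inf hQL hQD) inf_le_right (le_inf inf_le_right (inf_le_left.trans hCD))
        (inf_le_left.trans hC₀n) fun c hc _ e he => ?_
      have h1 : (C₀ ⊓ Cfsg.pCoreOf p (L ⊓ D)) ≤ Cfsg.pCoreOf p C₀ :=
        H60.le_pCoreOf inf_le_left (H60.le_normalizer_inf Subgroup.le_normalizer
          ((le_inf inf_le_right (inf_le_left.trans hCD)).trans (H60.le_normalizer_pCoreOf _)))
          ((H60.pCoreOf_isPGroup (L ⊓ D)).to_le inf_le_right)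
      have h2 : Cfsg.pCoreOf p C₀ ≤ P :=
        H60.le_pCoreOf ((H60.pCoreOf_le C₀).trans inf_le_right)
          (hC₀n.trans (H60.normalizer_le_normalizer_pCoreOf C₀)) (H60.pCoreOf_isPGroup C₀)
      exact (hc.1 e (h2 (h1 he))).symm
    exact H60.le_pCoreOf inf_le_right hC₀n hp₀
  set B := C ⊓ Q with hB
  have hBP : B ≤ P := (inf_le_inf_left C hQL).trans hC₀P
  have hBc : ∀ b ∈ B, ∀ c ∈ C, c * b = b * c := fun b hb c hc => (hc b (hBP hb)).symm
  have hQC : Q ≤ normalizer (C : Set H) := hQL.trans hLC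
  have hQB : Q ≤ normalizer (B : Set H) := H60.le_normalizer_inf hQC Subgroup.le_normalizer
  set E := Cfsg.pCoreOf p C with hE
  have hQE : Q ≤ normalizer (E : Set H) := hQC.trans (H60.normalizer_le_normalizer_pCoreOf C)
  have hEC : E ≤ C := H60.pCoreOf_le C
  have hEQ : E ≤ normalizer (Q : Set H) := le_sup_left.trans (Subgroup.le_normalizer.trans
    (H59.normalizer_le_of_isWeaklyClosed hwc ((H60.pCoreOf_isPGroup C).to_sup_of_normal_left' hQp hQE)
      le_sup_right))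
  have hqe : ∀ q ∈ Q, ∀ e ∈ E, q * e * q⁻¹ * e⁻¹ ∈ B := fun q hq e he => by
    refine ⟨(mul_mem ((mem_normalizer_iff.mp (hQC hq) e).mp (hEC he)) (inv_mem (hEC he)) : q * e * q⁻¹ * e⁻¹ ∈ C), ?_⟩
    rw [mul_assoc, mul_assoc, ← mul_assoc e]
    exact mul_mem hq ((mem_normalizer_iff.mp (hEQ he) _).mp (inv_mem hq))
  set W := ⁅C, Q⁆ with hW
  have hWC : W ≤ C := le_normalizer_iff_commutator_le_left.mp hQC
  have hCE : C ≤ normalizer (E : Set H) := H60.le_normalizer_pCoreOf C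
  let K : Subgroup H :=
    { carrier := {w | w ∈ C ∧ ∀ e ∈ E, w * e * w⁻¹ * e⁻¹ ∈ B}
      one_mem' := ⟨one_mem _, fun e _ => by simp⟩
      mul_mem' := by
        rintro u v ⟨hu, hu'⟩ ⟨hv, hv'⟩
        refine ⟨mul_mem hu hv, fun e he => ?_⟩
        have h1 := hv' e he
        have : u * v * e * (u * v)⁻¹ * e⁻¹ = u * (v * e * v⁻¹ * e⁻¹) * u⁻¹ * (u * e * u⁻¹ * e⁻¹) := by group
        rw [this, hBc _ h1 u hu, mul_inv_cancel_right]
        exact mul_mem h1 (hu' e he)
      inv_mem' := by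
        rintro u ⟨hu, hu'⟩
        refine ⟨inv_mem hu, fun e he => ?_⟩
        have he' : u⁻¹ * e * u⁻¹⁻¹ ∈ E := (mem_normalizer_iff.mp (hCE (inv_mem hu)) e).mp he
        have h1 := inv_mem (hu' _ he')
        simpa [mul_assoc] using h1 }
  have hWK : W ≤ K := by
    refine commutator_le.mpr fun c hc q hq =>
      ⟨hWC (commutator_mem_commutator hc hq), fun e he => ?_⟩
    -- three steps
    have hb1 := hqe q⁻¹ (inv_mem hq) e he
    have he2 : c⁻¹ * e * c⁻¹⁻¹ ∈ E := (mem_normalizer_iff.mp (hCE (inv_mem hc)) e).mp he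
    set b1 := q⁻¹ * e * q⁻¹⁻¹ * e⁻¹ with hb1d
    have hb3 : (q * b1 * q⁻¹) * (q * (c⁻¹ * e * c⁻¹⁻¹) * q⁻¹ * (c⁻¹ * e * c⁻¹⁻¹)⁻¹) ∈ B :=
      mul_mem ((mem_normalizer_iff.mp (hQB hq) b1).mp hb1) (hqe q hq _ he2)
    set b3 := (q * b1 * q⁻¹) * (q * (c⁻¹ * e * c⁻¹⁻¹) * q⁻¹ * (c⁻¹ * e * c⁻¹⁻¹)⁻¹) with hb3d
    have h4 : ⁅c, q⁆ * e * ⁅c, q⁆⁻¹ * e⁻¹ = b3 := by
      have e1 : c⁻¹ * b1 = b1 * c⁻¹ := hBc b1 hb1 c⁻¹ (inv_mem hc)
      calc ⁅c, q⁆ * e * ⁅c, q⁆⁻¹ * e⁻¹ = c * q * ((c⁻¹ * b1) * e * c) * q⁻¹ * c⁻¹ * e⁻¹ := by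
            simp only [hb1d, commutatorElement_def]; group
        _ = c * b3 * c⁻¹ := by rw [e1, hb3d]; group
        _ = b3 := by rw [hBc b3 hb3 c hc, mul_inv_cancel_right]
    rw [h4]
    exact hb3
  have hWp : IsPGroup p W := by
    refine key (C ⊔ Q) W le_sup_right (sup_le hCD hQD) (hWC.trans le_sup_left)
      (sup_le (normalizer_commutator_ge_left C Q) (normalizer_commutator_ge_right C Q))
      fun c hc hco e he => ?_
    have heE : e ∈ E := by
      refine H60.le_pCoreOf (H := C) (N := C ⊓ Cfsg.pCoreOf p (C ⊔ Q)) inf_le_left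
        (H60.le_normalizer_inf Subgroup.le_normalizer (le_sup_left.trans (H60.le_normalizer_pCoreOf _)))
        ((H60.pCoreOf_isPGroup _).to_le inf_le_right) ⟨hWC he.1, he.2⟩
    have hd := (hWK hc).2 e heE
    exact (H61.commute_of_comm_mem (hQp.to_le (inf_le_right : B ≤ Q)) hco hd (hBc _ hd c (hWC hc))).eq
  have hCQn : C ≤ normalizer (Q : Set H) := fun c hc => by
    refine H60.cj_eq_self_iff.mp (H59.eq_of_isWeaklyClosed hwc
      (hWp.to_sup_of_normal_left' hQp (normalizer_commutator_ge_right C Q)) le_sup_right ?_)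
    rintro _ ⟨q, hq, rfl⟩
    have := mul_mem (mem_sup_left (T := Q) (commutator_mem_commutator hc hq)) (mem_sup_right (S := W) hq)
    rw [commutatorElement_def, inv_mul_cancel_right] at this
    exact this
  refine ⟨?_, ?_, ?_⟩
  · refine commutator_le.mpr fun q hq c hc => ?_
    have h1 : ⁅q, c⁆ ∈ Q := by
      rw [commutatorElement_def, mul_assoc, mul_assoc, ← mul_assoc c]
      exact mul_mem hq ((mem_normalizer_iff.mp (hCQn hc) _).mp (inv_mem hq))
    have h2 : ⁅q, c⁆ ∈ C := by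
      rw [commutatorElement_def]
      exact mul_mem ((mem_normalizer_iff.mp (hQC hq) c).mp hc) (inv_mem hc)
    exact ⟨h1, hBP ⟨h2, h1⟩⟩
  · refine H61.isPGroup_of_forall_coprime fun c hc hco => ?_
    have hcQ : c ∈ Q := by
      refine hCQ fun q hq => ?_
      have hd : c * q * c⁻¹ * q⁻¹ ∈ B := by
        refine ⟨?_, (mul_mem ((mem_normalizer_iff.mp (hCQn hc) q).mp hq) (inv_mem hq) : c * q * c⁻¹ * q⁻¹ ∈ Q)⟩
        rw [mul_assoc, mul_assoc, ← mul_assoc q]
        exact mul_mem hc ((mem_normalizer_iff.mp (hQC hq) _).mp (inv_mem hc))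
      exact (H61.commute_of_comm_mem (hQp.to_le (inf_le_right : B ≤ Q)) hco hd (hBc _ hd c hc)).symm.eq
    exact H61.eq_one_of_mem_pGroup hQp hcQ hco
  · intro x hx
    obtain ⟨y, hy, hyx⟩ := hC₀P (show (x : H) ∈ C₀ from ⟨fun r hr => by
      obtain ⟨r', hr', rfl⟩ := hr
      exact congrArg Subtype.val (hx r' hr'), x.2⟩)
    rwa [show y = x from Subtype.ext hyx] at hy

end Cfsg.Agent.S2842
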