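import Cfsg.Statements.S2843
import Cfsg.Agent.H60.Large

set_option autoImplicit false
open Cfsg

namespace Cfsg.Agent.S2843

open Subgroup Cfsg.Agent.H60


/-- Let Q be a nontrivial large p-subgroup of the finite group H, Q ≤ L ≤ H, and Y a nontrivial p-subgroup of H normalized by L. Let L° be the weak closure of Q in L (generated by the conjugates of Q inside L). Then L° equals the weak closure of Q in L·C_H(Y), and [L°, C_H(Y)] ≤ O_p(L°); in particular C_H(Y) normalizes L°. -/
theorem result {H : Type*} [Group H] [Finite H] {p : ℕ} [Fact p.Prime] (Q : Subgroup H) (hQp : IsPGroup p ↥Q) (hQ1 : Q ≠ ⊥) (hL : Cfsg.IsLarge Q) (L : Subgroup H) (hQL : Q ≤ L) (Y : Subgroup H) (hYp : IsPGroup p ↥Y) (hY1 : Y ≠ ⊥) (hLY : L ≤ Subgroup.normalizer ((Y : Subgroup H) : Set H)) : Cfsg.weakClosure Q L = Cfsg.weakClosure Q (L ⊔ Subgroup.centralizer ((Y : Subgroup H) : Set H)) ∧ ⁅Cfsg.weakClosure Q L, Subgroup.centralizer ((Y : Subgroup H) : Set H)⁆ ≤ (Cfsg.pCoreOf p (Cfsg.weakClosure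 Q L)) ∧ Subgroup.centralizer ((Y : Subgroup H) : Set H) ≤ Subgroup.normalizer (((Cfsg.weakClosure Q L) : Subgroup H) : Set H) := by
  set C := centralizer (Y : Set H) with hC
  have hLC : L ≤ normalizer (C : Set H) := le_trans hLY (normalizer_le_normalizer_centralizer Y)
  have hKY : L ⊔ C ≤ normalizer (Y : Set H) := sup_le hLY (centralizer_le_normalizer _)
  have hfix : ∀ g : H, cj Q g ≤ normalizer (Y : Set H) → C ≤ normalizer (cj Q g : Set H) := fun g hg =>
    large_centralizer_le_normalizer (isLarge_cj hL g) (isPGroup_cj hQp g) hYp hY1 hg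
  have hmain : ∀ g : H, cj Q g ≤ L ⊔ C → cj Q g ≤ L := by
    intro g hg
    set K := L ⊔ C with hK
    have hQK : Q ≤ K := le_trans hQL le_sup_left
    obtain ⟨P1, hP1⟩ := (hQp.comap_subtype : IsPGroup p (Q.subgroupOf K)).exists_le_sylow
    obtain ⟨P2, hP2⟩ := ((isPGroup_cj hQp g).comap_subtype : IsPGroup p ((cj Q g).subgroupOf K)).exists_le_sylow
    obtain ⟨x, hx⟩ := MulAction.exists_smul_eq ↥K P2 P1
    obtain ⟨T, hT⟩ := (P1.2.map K.subtype).exists_le_sylow
    have hQT : Q ≤ (T : Subgroup H) := fun y hy =>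
      hT ⟨⟨y, hQK hy⟩, hP1 hy, rfl⟩
    have hgT : cj (cj Q g) (x : H) ≤ (T : Subgroup H) := by
      rintro _ ⟨y, hy, rfl⟩
      refine hT ⟨x * ⟨y, hg hy⟩ * x⁻¹, ?_, rfl⟩
      rw [SetLike.mem_coe, ← hx]
      exact ⟨⟨y, hg hy⟩, hP2 hy, rfl⟩
    rw [cj_cj] at hgT
    have heq := large_cj_eq_of_le_sylow hL hQ1 T hQT _ hgT
    have hx' : cj Q g = cj Q (x : H)⁻¹ := by
      conv_rhs => rw [← heq, cj_cj, ← mul_assoc, inv_mul_cancel, one_mul]
    rw [hx']
    have hmem : (x : H)⁻¹ ∈ L ⊔ C := inv_mem x.2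
    rw [← SetLike.mem_coe, coe_mul_of_left_le_normalizer_right L C hLC] at hmem
    obtain ⟨l, hl, c, hc, hlc⟩ := hmem
    rw [← hlc, ← cj_cj]
    have hQc : cj Q c = Q := by
      refine cj_eq_self_iff.2 ?_
      exact large_centralizer_le_normalizer hL hQp hYp hY1 (le_trans hQL hLY) hc
    rw [hQc]
    exact le_trans (cj_mono hQL l) (cj_le_of_mem hl)
  have h1 : Cfsg.weakClosure Q L = Cfsg.weakClosure Q (L ⊔ C) :=
    le_antisymm (weakClosure_mono le_sup_left)
      (weakClosure_le fun g hg => le_weakClosure_of_cj_le (hmain g hg))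
  set W := Cfsg.weakClosure Q L with hW
  have hWC : W ≤ normalizer (C : Set H) := le_trans (weakClosure_le_self Q L) hLC
  have hCW : C ≤ normalizer (W : Set H) := by
    rw [le_normalizer_iff]
    intro c hc x hx
    have h : cj W c ≤ W := by
      rw [cj_le_iff]
      refine weakClosure_le fun g hg => ?_
      rw [le_cj_iff, inv_inv, cj_eq_self_iff.2 (hfix g (le_trans hg hLY) hc)]
      exact le_weakClosure_of_cj_le hg
    exact h (mem_cj.2 (by simpa [mul_assoc] using hx))
  refine ⟨h1, ?_, hCW⟩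
  -- the commutator is inside a normal p-subgroup
  have hO : Cfsg.pCoreOf p C ⊓ W ≤ Cfsg.pCoreOf p W :=
    le_pCoreOf inf_le_right
      (le_normalizer_inf (le_trans hWC (normalizer_le_normalizer_pCoreOf C)) Subgroup.le_normalizer)
      ((pCoreOf_isPGroup C).to_inf_left)
  refine le_trans (le_inf ?_ ?_) hO
  · refine iSup_commutator_le (fun g => ?_) (fun g => ?_)
    · exact le_trans g.2 (le_trans hLC (normalizer_le_normalizer_pCoreOf C))
    · have hgC : cj Q g.1 ≤ normalizer (C : Set H) := le_trans g.2 hLC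
      have hCg := hfix g.1 (le_trans g.2 hLY)
      refine le_trans (commutator_le_inf_of_le_normalizer hgC hCg) ?_
      exact le_pCoreOf inf_le_right (le_normalizer_inf hCg Subgroup.le_normalizer)
        ((isPGroup_cj hQp g.1).to_inf_left)
  · rw [commutator_comm]
    exact commutator_le_of_le_normalizer hCW

end Cfsg.Agent.S2843
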