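import Cfsg.Statements.S2844
import Cfsg.Agent.H60.Large

set_option autoImplicit false
open Cfsg

namespace Cfsg.Agent.S2844

open Subgroup Cfsg.Agent.H60


/-- Let Q be a nontrivial large p-subgroup of the finite group H and Q• = O_p(N_H(Q)). Then for every g ∈ H outside N_H(Q): C_H(Q) ∩ C_H(gQg⁻¹) = 1, C_H(Q•) ∩ C_H(gQ•g⁻¹) = 1, Z(Q) ∩ Z(gQg⁻¹) = 1 and Z(Q•) ∩ Z(gQ•g⁻¹) = 1; moreover N_H(Q) = N_H(Q•) and Q• is large in H. -/
theorem result {H : Type*} [Group H] [Finite H] {p : ℕ} [Fact p.Prime] (Q : Subgroup H) (hQp : IsPGroup p ↥Q) (hQ1 : Q ≠ ⊥) (hL : Cfsg.IsLarge Q) (Qb : Subgroup H) (hQb : Qb = Cfsg.largeBullet p Q) : (∀ g : H, g ∉ Subgroup.normalizer ((Q : Subgroup H) : Set H) → Subgroup.centralizer ((Q : Subgroup H) : Set H) ⊓ Subgroup.centralizer ((((Q : Subgroup H).map (MulAut.conj (g : H)).toMonoidHom) : Subgroup H) : Set H) = ⊥ ∧ Subgroup.centralizer ((Qb : Subgroup H) : Set H) ⊓ Subgroup.centralizer ((((Qb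 : Subgroup H).map (MulAut.conj (g : H)).toMonoidHom) : Subgroup H) : Set H) = ⊥ ∧ (Q ⊓ Subgroup.centralizer ((Q : Subgroup H) : Set H)) ⊓ (((Q : Subgroup H).map (MulAut.conj (g : H)).toMonoidHom) ⊓ Subgroup.centralizer ((((Q : Subgroup H).map (MulAut.conj (g : H)).toMonoidHom) : Subgroup H) : Set H)) = ⊥ ∧ (Qb ⊓ Subgroup.centralizer ((Qb : Subgroup H) : Set H)) ⊓ (((Qb : Subgroup H).map (MulAut.conj (g : H)).toMonoidHom) ⊓ Subgroup.centralizer ((((Qb : Subgroup H).map (MulAut.conj (g : H)).toMonoidHom) : Subgroup H) : Set H)) = ⊥) ∧ Subgroup.normalizer ((Q : Subgroup H) : Set H) = Subgroup.normalizer ((Qb : Subgroup H) : Set H) ∧ Cfsg.IsLarge Qb := by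
  subst hQb
  set Qb := Cfsg.largeBullet p Q with hQbdef
  have hQQb : Q ≤ Qb := le_pCoreOf Subgroup.le_normalizer le_rfl hQp
  have hQbp : IsPGroup p Qb := pCoreOf_isPGroup _
  have hNN : normalizer (Q : Set H) ≤ normalizer (Qb : Set H) := le_normalizer_pCoreOf _
  have hCb : centralizer (Qb : Set H) ≤ centralizer (Q : Set H) := centralizer_le hQQb
  have hQb1 : Qb ≠ ⊥ := fun h => hQ1 (le_bot_iff.1 (h ▸ hQQb))
  have hN : normalizer (Q : Set H) = normalizer (Qb : Set H) := by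
    refine le_antisymm hNN ?_
    refine le_trans (le_normalizer_inf le_rfl (normalizer_le_normalizer_centralizer Qb))
      (hL.2 _ (le_trans inf_le_right hCb) ?_)
    exact inf_centralizer_ne_bot hQbp hQbp Subgroup.le_normalizer hQb1
  refine ⟨fun g hg => ?_, hN, ⟨le_trans hCb (le_trans hL.1 hQQb), fun U hU hU1 => ?_⟩⟩
  · have h := large_centralizer_inf_eq_bot hL hQp hQ1 g hg
    have h2 : centralizer (Qb : Set H) ⊓ centralizer (cj Qb g : Set H) = ⊥ :=
      le_bot_iff.1 (h ▸ inf_le_inf hCb (centralizer_le (cj_mono hQQb g)))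
    exact ⟨h, h2, le_bot_iff.1 (h ▸ inf_le_inf inf_le_right inf_le_right),
      le_bot_iff.1 (h2 ▸ inf_le_inf inf_le_right inf_le_right)⟩
  · rw [← hN]; exact hL.2 U (le_trans hU hCb) hU1

end Cfsg.Agent.S2844
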