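import Cfsg.Statements.S2845
import Cfsg.Agent.H60.Large

set_option autoImplicit false
open Cfsg

namespace Cfsg.Agent.S2845

open Subgroup Cfsg.Agent.H60


/-- Let Q be a nontrivial large p-subgroup of the finite group H. Then for every subgroup L ≥ Q with O_p(L) ≠ 1, C_H(O_p(L)) is a p-group and L has characteristic p, and either the weak closure L° of Q in L equals Q or C_H(L°) = 1; for every subgroup R of H containing a Sylow p-subgroup of H with O_p(R) ≠ 1, C_H(O_p(R)) ≤ O_p(R); and H has parabolic characteristic p. -/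
theorem result {H : Type*} [Group H] [Finite H] {p : ℕ} [Fact p.Prime] (Q : Subgroup H) (hQp : IsPGroup p ↥Q) (hQ1 : Q ≠ ⊥) (hL : Cfsg.IsLarge Q) : (∀ L : Subgroup H, Q ≤ L → Cfsg.pCore p ↥L ≠ ⊥ → IsPGroup p ↥(Subgroup.centralizer (((Cfsg.pCoreOf p L) : Subgroup H) : Set H)) ∧ Subgroup.centralizer (Cfsg.pCore p ↥L : Set ↥L) ≤ Cfsg.pCore p ↥L ∧ (Cfsg.weakClosure Q L = Q ∨ Subgroup.centralizer (((Cfsg.weakClosure Q L) : Subgroup H) : Set H) = ⊥)) ∧ (∀ R : Subgroup H, Cfsg.IsParabolic p R → Cfsg.pCore p ↥R ≠ ⊥ → Subgroup.centralizer (((Cfsg.pCoreOf p R) : Subgroup H) : Set H) ≤ (Cfsg.pCoreOf p R)) ∧ Cfsg.IsOfParabolicCharacteristic p H := by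
  have hA : ∀ Q' : Subgroup H, Cfsg.IsLarge Q' → IsPGroup p Q' → ∀ L : Subgroup H, Q' ≤ L →
      Cfsg.pCore p ↥L ≠ ⊥ → IsPGroup p ↥(centralizer (Cfsg.pCoreOf p L : Set H)) := by
    intro Q' hL' hQp' L hQL hO
    set P := Cfsg.pCoreOf p L with hP
    set K := centralizer (P : Set H) with hK
    have hP1 : P ≠ ⊥ := fun h => hO ((pCoreOf_eq_bot_iff L).1 h)
    have hQP : Q' ≤ normalizer (P : Set H) := le_trans hQL (le_normalizer_pCoreOf L)
    have hKQ : K ≤ normalizer (Q' : Set H) :=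
      large_centralizer_le_normalizer hL' hQp' (pCoreOf_isPGroup L) hP1 hQP
    have hLK : L ≤ normalizer (K : Set H) :=
      le_trans (le_normalizer_pCoreOf L) (normalizer_le_normalizer_centralizer P)
    have hM : Q' ⊓ K ≤ P := by
      refine le_trans (le_inf ?_ (le_trans inf_le_left hQL)) (b := Cfsg.pCoreOf p K ⊓ L) ?_
      · exact le_pCoreOf inf_le_right (le_normalizer_inf hKQ Subgroup.le_normalizer)
          (hQp'.to_inf_left)
      · exact le_pCoreOf inf_le_right
          (le_normalizer_inf (le_trans hLK (normalizer_le_normalizer_pCoreOf K)) Subgroup.le_normalizer)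
          ((pCoreOf_isPGroup K).to_inf_left)
    refine isPGroup_of_coprime_eq_one fun x hx hco => ?_
    have hxQ : x ∈ centralizer (Q' : Set H) := by
      refine mem_centralizer_iff.2 fun y hy => ?_
      refine (commute_of_commutator_fixed (M := Q' ⊓ K) hQp'.to_inf_left hco ?_ ?_).symm
      · intro m hm
        exact ((mem_centralizer_iff.1 hx) m (hM hm)).symm
      · refine ⟨Q'.mul_mem ((mem_normalizer_iff.1 (hKQ hx) y).1 hy) (Q'.inv_mem hy), ?_⟩
        have h1 : y * x⁻¹ * y⁻¹ ∈ K :=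
          (mem_normalizer_iff.1 (hLK (hQL hy)) _).1 (K.inv_mem hx)
        simpa [mul_assoc] using K.mul_mem hx h1
    obtain ⟨k, hk⟩ := hQp' ⟨x, hL'.1 hxQ⟩
    have hk1 : orderOf x ∣ p ^ k := orderOf_dvd_of_pow_eq_one (congrArg Subtype.val hk)
    have hd : orderOf x ∣ Nat.gcd (orderOf x) (p ^ k) := Nat.dvd_gcd dvd_rfl hk1
    rwa [Nat.Coprime.pow_right k hco, Nat.dvd_one, orderOf_eq_one_iff] at hd
  have hB : ∀ R : Subgroup H, Cfsg.IsParabolic p R → Cfsg.pCore p ↥R ≠ ⊥ →
      centralizer (Cfsg.pCoreOf p R : Set H) ≤ Cfsg.pCoreOf p R := by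
    rintro R ⟨T, hTR⟩ hO
    obtain ⟨T0, hT0⟩ := hQp.exists_le_sylow
    obtain ⟨g, hg⟩ := MulAction.exists_smul_eq H T0 T
    have hgT : cj Q g ≤ (T : Subgroup H) := by
      rintro _ ⟨y, hy, rfl⟩
      rw [← hg]
      exact ⟨y, hT0 hy, rfl⟩
    have hC := hA _ (isLarge_cj hL g) (isPGroup_cj hQp g) R (le_trans hgT hTR) hO
    set C := centralizer (Cfsg.pCoreOf p R : Set H) with hCdef
    have hRC : R ≤ normalizer (C : Set H) :=
      le_trans (le_normalizer_pCoreOf R) (normalizer_le_normalizer_centralizer _)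
    have hCT : C ≤ (T : Subgroup H) :=
      le_trans le_sup_right (T.3 (T.2.to_sup_of_normal_right' hC (le_trans hTR hRC)) le_sup_left).le
    exact le_pCoreOf (le_trans hCT hTR) hRC hC
  refine ⟨fun L hQL hO => ?_, hB, fun R hRp hR1 hpar => ?_⟩
  · have hC := hA Q hL hQp L hQL hO
    refine ⟨hC, (hasCharP_iff L).2 ?_, ?_⟩
    · exact le_pCoreOf inf_le_left (le_normalizer_inf Subgroup.le_normalizer
        (le_trans (le_normalizer_pCoreOf L) (normalizer_le_normalizer_centralizer _))) hC.to_inf_right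
    · by_cases h : ∀ g : H, cj Q g ≤ L → cj Q g = Q
      · exact Or.inl (le_antisymm (weakClosure_le fun g hg => (h g hg).le) (le_weakClosure hQL))
      · obtain ⟨g, hgL, hne⟩ : ∃ g : H, cj Q g ≤ L ∧ cj Q g ≠ Q := by
          push Not at h
          exact h
        refine Or.inr (le_bot_iff.1 ?_)
        rw [← large_centralizer_inf_eq_bot hL hQp hQ1 g fun hn => hne (cj_eq_self_iff.2 hn)]
        exact le_inf (centralizer_le (le_weakClosure hQL)) (centralizer_le (le_weakClosure_of_cj_le hgL))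
  · refine (hasCharP_iff _).2 (le_trans inf_le_right (hB _ hpar ?_))
    intro hb
    exact hR1 (le_bot_iff.1 ((pCoreOf_eq_bot_iff _).2 hb ▸
      le_pCoreOf Subgroup.le_normalizer le_rfl hRp))

end Cfsg.Agent.S2845
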