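import Cfsg.Statements.S2846
import Cfsg.Agent.H72.FrakMExists
import Cfsg.Agent.S2843

set_option autoImplicit false
open Cfsg

namespace Cfsg.Agent.S2846

/-- Let Q be a nontrivial large p-subgroup of the finite group H, S a Sylow p-subgroup containing Q, and L a subgroup containing S with O_p(L) ≠ 1 and C_H(O_p(L)) ≤ O_p(L). Then there are a subgroup M containing S having the basic property (M ∈ 𝔐_H, writing Y_X for the largest p-reduced normal subgroup of X and 𝓛_H for the set of subgroups X with O_p(X) ≠ 1 and C_H(O_p(X)) ≤ O_p(X): M ∈ 𝓛_H, M·C_H(Y_M) is the only maximal member of 𝓛_H containing M and its largest p-reduced normal subgroup is again Y_M, C_M(Y_M) is p-closed, and the image of C_M(Y_M) in M/O_p(M) lies in the Frattini subgroup of M/O_p(M)) and a subgroup L* with S ≤ L* ≤ M, O_p(L*) ≠ 1, C_H(O_p(L*)) ≤ O_p(L*), such that L·C_H(Y_L) = L*·C_H(Y_L), the weak closures of Q in L and in L* agree and lie in that of M, and Y_L =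 Y_{L*} ≤ Y_M. If moreover Q is not normal in L, then Q is normal in neither L* nor M. -/
theorem result {H : Type*} [Group H] [Finite H] {p : ℕ} [Fact p.Prime] (Q : Subgroup H) (hQp : IsPGroup p ↥Q) (hQ1 : Q ≠ ⊥) (hLg : Cfsg.IsLarge Q) (S : Sylow p H) (hQS : Q ≤ (S : Subgroup H)) (L : Subgroup H) (hSL : (S : Subgroup H) ≤ L) (hL : L ∈ Cfsg.charPSubgroups p H) : ∃ M Ls : Subgroup H, (S : Subgroup H) ≤ M ∧ Cfsg.IsInFrakM p M ∧ (S : Subgroup H) ≤ Ls ∧ Ls ≤ M ∧ Ls ∈ Cfsg.charPSubgroups p H ∧ L ⊔ Subgroup.centralizer (((Cfsg.largestPReducedOf p L) : Subgroup H) : Set H) = Ls ⊔ Subgroup.centralizer (((Cfsg.largestPReducedOf p L) : Subgroup H) : Set H) ∧ Cfsg.weakClosure Q L = Cfsg.weakClosure Q Ls ∧ Cfsg.weakClosure Q Ls ≤ Cfsg.weakClosure Q M ∧ (Cfsg.largestPReducedOf p L) = (Cfsg.largestPReducedOf p Ls) ∧ (Cfsg.largestPReducedOf p Ls) ≤ (Cfsg.largestPReducedOf p M) ∧ (¬ L ≤ Subgroup.normalizer ((Q : Subgroup H) : Set H) → ¬ Ls ≤ Subgroup.normalizer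 ((Q : Subgroup H) : Set H) ∧ ¬ M ≤ Subgroup.normalizer ((Q : Subgroup H) : Set H)) := by
  have hpar : H72.FrakMExists.Par p S := fun R hR hO => H60.parabolic_mem_charP hQp hLg ⟨S, hR⟩ hO
  obtain ⟨M, Ls, hSM, hM, hSLs, hLsM, hLsc, hY, hYM, hsup⟩ :=
    H72.FrakMExists.exists_frakM S hpar hSL hL
  set Y := Cfsg.largestPReducedOf p L with hYdef
  have hY1 : Y ≠ ⊥ := H72.FrakMExists.yOf_ne_bot S hSL hL
  have hYp : IsPGroup p Y := H60.isPGroup_of_isElementaryAbelian (H60.isElementaryAbelian_yOf L)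
  have hN := H60.sup_centralizer_le_normalizer_yOf (p := p) L
  have e1 := (S2843.result Q hQp hQ1 hLg L (hQS.trans hSL) Y hYp hY1 (le_sup_left.trans hN)).1
  have e2 := (S2843.result Q hQp hQ1 hLg Ls (hQS.trans hSLs) Y hYp hY1
    (le_sup_left.trans (hsup.ge.trans hN))).1
  have hwc : Cfsg.weakClosure Q L = Cfsg.weakClosure Q Ls := by rw [e1, hsup]; exact e2.symm
  refine ⟨M, Ls, hSM, hM, hSLs, hLsM, hLsc, hsup, hwc, H60.weakClosure_mono hLsM, hY, hY ▸ hYM,
    fun hne => ?_⟩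
  have hLs : ¬ Ls ≤ Subgroup.normalizer ((Q : Subgroup H) : Set H) := by
    intro hle
    apply hne
    have h1 : Cfsg.weakClosure Q Ls = Q := le_antisymm
      (H60.weakClosure_le fun g hg =>
        (H60.large_cj_eq_of_le_normalizer hLg hQp hQ1 g (hg.trans hle)).le)
      (H60.le_weakClosure (hQS.trans hSLs))
    have h2 := H60.normalizer_le_normalizer_weakClosure Q L
    rw [hwc, h1] at h2
    exact Subgroup.le_normalizer.trans h2
  exact ⟨hLs, fun hle => hLs (hLsM.trans hle)⟩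

end Cfsg.Agent.S2846
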