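import Cfsg.Statements.S2848
import Cfsg.Agent.H60.FrakM

set_option autoImplicit false
open Cfsg

namespace Cfsg.Agent.S2848

open Subgroup Cfsg.Agent.H60


/-- Standing hypotheses: G a finite group, S a Sylow p-subgroup, Q a nontrivial large p-subgroup of G contained in S (C_G(Q) ≤ Q and N_G(U) ≤ N_G(Q) for all nontrivial U ≤ C_G(Q)), and M a subgroup containing S with the basic property (M ∈ 𝔐_G(S)); Y_M denotes the largest p-reduced normal subgroup of M and M† = M·C_G(Y_M). Then O_p(M) is a weakly closed subgroup of M† (for p): it is the only M†-conjugate of itself inside some Sylow p-subgroup of M† containing it. -/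
theorem result {G : Type*} [Group G] [Finite G] {p : ℕ} [Fact p.Prime] (S : Sylow p G) (Q : Subgroup G) (hQp : IsPGroup p ↥Q) (hQ1 : Q ≠ ⊥) (hQS : Q ≤ (S : Subgroup G)) (hQ : Cfsg.IsLarge Q) (M : Subgroup G) (hSM : (S : Subgroup G) ≤ M) (hM : Cfsg.IsInFrakM p M) : Cfsg.IsWeaklyClosedSubgroup p (((Cfsg.pCoreOf p M)).subgroupOf (M ⊔ Subgroup.centralizer (((Cfsg.largestPReducedOf p M) : Subgroup G) : Set G))) := by
  set P := Cfsg.pCoreOf p M with hP
  set C := centralizer (Cfsg.largestPReducedOf p M : Set G) with hC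
  set K := M ⊔ C with hK
  have hSK : (S : Subgroup G) ≤ K := le_trans hSM le_sup_left
  have hPeq := sylow_inf_centralizer_eq S hSM hM
  have hPK : P ≤ K := le_trans (pCoreOf_le M) le_sup_left
  refine ⟨S.subtype hSK, fun x hx => ?_, fun g hg => ?_⟩
  · exact (hPeq.ge.trans inf_le_left : P ≤ (S : Subgroup G)) hx
  · have hgS : cj P (g : G) ≤ (S : Subgroup G) := by
      rintro _ ⟨x, hx, rfl⟩
      exact hg ⟨⟨x, hPK hx⟩, hx, rfl⟩
    have hgC : cj P (g : G) ≤ C := by
      refine le_trans (cj_mono (pCoreOf_le_centralizer_yOf M) _) ?_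
      refine (cj_eq_self_iff.2 ?_).le
      exact normalizer_le_normalizer_centralizer _ (sup_centralizer_le_normalizer_yOf M g.2)
    have heq : cj P (g : G) = P :=
      eq_of_le_of_card_ge ((le_inf hgS hgC).trans hPeq.le) (card_cj _ _).ge
    apply Subgroup.map_injective K.subtype_injective
    rw [subgroupOf_map_subtype, inf_of_le_left hPK, Subgroup.map_map]
    conv_rhs => rw [← heq]
    show _ = cj P (g : G)
    conv_rhs => rw [show P = (P.subgroupOf K).map K.subtype by rw [subgroupOf_map_subtype, inf_of_le_left hPK]]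
    show _ = ((P.subgroupOf K).map K.subtype).map _
    rw [Subgroup.map_map]
    rfl

end Cfsg.Agent.S2848
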