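import Cfsg.Statements.S2849
import Cfsg.Agent.H60.FrakM

set_option autoImplicit false
open Cfsg

namespace Cfsg.Agent.S2849

open Subgroup Cfsg.Agent.H60


/-- Standing hypotheses: G a finite group, S a Sylow p-subgroup, Q a nontrivial large p-subgroup of G contained in S (C_G(Q) ≤ Q and N_G(U) ≤ N_G(Q) for all nontrivial U ≤ C_G(Q)), and M a subgroup containing S with the basic property (M ∈ 𝔐_G(S)); Y_M denotes the largest p-reduced normal subgroup of M and M† = M·C_G(Y_M). Suppose Y_M is asymmetric in G. Then for every subgroup R with Y_M ≤ R ≤ M†, the normal closure of Y_M in N_G(R) is elementary abelian. -/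
theorem result {G : Type*} [Group G] [Finite G] {p : ℕ} [Fact p.Prime] (S : Sylow p G) (Q : Subgroup G) (hQp : IsPGroup p ↥Q) (hQ1 : Q ≠ ⊥) (hQS : Q ≤ (S : Subgroup G)) (hQ : Cfsg.IsLarge Q) (M : Subgroup G) (hSM : (S : Subgroup G) ≤ M) (hM : Cfsg.IsInFrakM p M) (hasym : ¬ Cfsg.IsSymmetricIn (Cfsg.largestPReducedOf p M)) (R : Subgroup G) (hYR : (Cfsg.largestPReducedOf p M) ≤ R) (hRM : R ≤ (M ⊔ Subgroup.centralizer (((Cfsg.largestPReducedOf p M) : Subgroup G) : Set G))) : Cfsg.IsElementaryAbelian p ((Subgroup.normalClosure ((((Cfsg.largestPReducedOf p M)).subgroupOf (Subgroup.normalizer ((R : Subgroup G) : Set G)) : Subgroup ↥(Subgroup.normalizer ((R : Subgroup G) : Set G))) : Set ↥(Subgroup.normalizer ((R : Subgroup G) : Set G)))).map (Subgroup.normalizer ((R : Subgroup G) : Set G)).subtype) := by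
  set Y := Cfsg.largestPReducedOf p M with hY
  set N := normalizer (R : Set G) with hN
  obtain ⟨hYc, hYp⟩ := isElementaryAbelian_yOf (p := p) M
  have hRY : R ≤ normalizer (Y : Set G) := le_trans hRM (sup_centralizer_le_normalizer_yOf M)
  have hpair : ∀ g ∈ N, ∀ h ∈ N, ∀ x ∈ cj Y g, ∀ y ∈ cj Y h, x * y = y * x := by
    intro g hg h hh x hx y hy
    have hk : g⁻¹ * h ∈ N := mul_mem (inv_mem hg) hh
    have hR : cj R (g⁻¹ * h) = R := cj_eq_self_iff.2 hk
    have h1 : cj Y (g⁻¹ * h) ≤ R := hR ▸ cj_mono hYR _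
    have hbot : ⁅Y, cj Y (g⁻¹ * h)⁆ = ⊥ := by
      refine commutator_eq_bot_of_not_symmetric hasym ?_ (le_trans h1 hRY)
      rw [← cj_normalizer]
      exact le_trans hYR (hR.ge.trans (cj_mono hRY _))
    rw [commutator_eq_bot_iff_le_centralizer] at hbot
    have h2 := cj_mono hbot g
    rw [cj_centralizer, cj_cj, mul_inv_cancel_left] at h2
    exact (mem_centralizer_iff.1 (h2 hx) y hy).symm
  set T := ⨆ g : N, cj Y (g : G) with hT
  have hTel : Cfsg.IsElementaryAbelian p T := by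
    have hc : ∀ x ∈ T, ∀ y ∈ T, x * y = y * x := by
      intro x hx
      have : T ≤ centralizer (T : Set G) := by
        rw [le_centralizer_iff]
        refine iSup_le fun g => ?_
        rw [le_centralizer_iff]
        exact iSup_le fun h => fun a ha => mem_centralizer_iff.2 fun b hb =>
          hpair _ g.2 _ h.2 b hb a ha
      exact fun y hy => (mem_centralizer_iff.1 (this hx) y hy).symm
    refine ⟨⟨⟨fun x y => Subtype.ext (hc x x.2 y y.2)⟩⟩, fun a ha => ?_⟩
    suffices h : a ∈ T ∧ a ^ p = 1 from h.2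
    induction ha using Subgroup.iSup_induction' with
    | hp i x hx =>
      refine ⟨le_iSup (fun g : N => cj Y (g : G)) i hx, ?_⟩
      obtain ⟨y, hy, rfl⟩ := hx
      rw [← map_pow, hYp y hy, map_one]
    | h1 => exact ⟨one_mem _, one_pow _⟩
    | hmul x y _ _ hx hy =>
      exact ⟨mul_mem hx.1 hy.1, by rw [Commute.mul_pow (hc x hx.1 y hy.1), hx.2, hy.2, one_mul]⟩
  suffices hle : (Subgroup.normalClosure ((Y.subgroupOf N : Subgroup ↥N) : Set ↥N)).map N.subtype ≤ T by
    refine ⟨⟨⟨fun x y => Subtype.ext ?_⟩⟩, fun a ha => hTel.2 a (hle ha)⟩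
    show (x : G) * (y : G) = (y : G) * (x : G)
    exact congrArg Subtype.val (hTel.1.is_comm.comm (⟨x, hle x.2⟩ : T) ⟨y, hle y.2⟩)
  rw [Subgroup.map_le_iff_le_comap]
  refine (Subgroup.closure_le _).2 fun z hz => ?_
  obtain ⟨y, hy, hyz⟩ := Group.mem_conjugatesOfSet_iff.1 hz
  obtain ⟨c, hc⟩ := isConj_iff.1 hyz
  refine le_iSup (fun g : N => cj Y (g : G)) c ⟨y, hy, ?_⟩
  rw [← hc]; rfl

end Cfsg.Agent.S2849
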