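import Cfsg.Statements.S2855
import Cfsg.Agent.H60.WeakResidual
import Cfsg.Agent.H59.PIrred
import Cfsg.Agent.H59.PReduced
import Cfsg.Agent.S0542
import Cfsg.Agent.Cores.PCore

set_option autoImplicit false
set_option linter.style.haveILetI false
open Cfsg

namespace Cfsg.Agent.S2855

open Subgroup Cfsg.Agent.H60
open scoped commutatorElement

section

variable {H : Type*} [Group H] [Finite H] {p : ℕ} [Fact p.Prime]

theorem mem_core_of_abelian {O A : Subgroup H} (hA : A.IsSubnormal) (hOA : O ≤ A)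
    (hO : Cfsg.pCore p H = O) (hab : ⁅A, A⁆ ≤ O) {c : H} (hc : c ∈ A) {k : ℕ} (hpk : c ^ p ^ k = 1) : c ∈ O := by
  subst hO
  have hBA : zpowers c ⊔ Cfsg.pCore p H ≤ A := sup_le (zpowers_le.2 hc) hOA
  have hn : A ≤ normalizer ((zpowers c ⊔ Cfsg.pCore p H : Subgroup H) : Set H) := by
    rw [le_normalizer_iff]
    intro a ha x hx
    have e : a * x * a⁻¹ = ⁅a, x⁆ * x := by rw [commutatorElement_def]; group
    rw [e]
    exact mul_mem (mem_sup_right (hab (commutator_mem_commutator ha (hBA hx)))) hx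
  have hp' : IsPGroup p (zpowers c ⊔ Cfsg.pCore p H : Subgroup H) := by
    refine IsPGroup.to_sup_of_normal_right ?_ Cores.pCore_isPGroup
    obtain ⟨j, -, hj⟩ := (Nat.dvd_prime_pow (Fact.out : p.Prime)).1 (orderOf_dvd_of_pow_eq_one hpk)
    exact IsPGroup.of_card (n := j) (by rw [Nat.card_zpowers, hj])
  exact Cores.le_pCore_of_isSubnormal (IsSubnormal.step _ _ hBA hA (normal_subgroupOf_of_le_normalizer hn)) hp'
    (mem_sup_left (mem_zpowers c))

/-- A `p`-element whose commutator with `x` is fixed by it modulo `O_p` centralises `x` modulo `O_p`. -/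
theorem commutator_mem_of_pElement {O A : Subgroup H} (hA : A.IsSubnormal) (hOA : O ≤ A)
    (hO : Cfsg.pCore p H = O) (hab : ⁅A, A⁆ ≤ O) {e x : H} {k : ℕ} (he : e ^ p ^ k = 1)
    (hc : ⁅e, x⁆ ∈ A) (hfix : ⁅e, ⁅e, x⁆⁆ ∈ O) : ⁅e, x⁆ ∈ O := by
  subst hO
  set π := QuotientGroup.mk' (Cfsg.pCore p H) with hπ
  have hcm : π e * π ⁅e, x⁆ = π ⁅e, x⁆ * π e := by
    rw [← commutatorElement_eq_one_iff_mul_comm, ← map_commutatorElement]
    exact (QuotientGroup.eq_one_iff _).2 hfix
  have hit : ∀ n : ℕ, π e ^ n * π x * (π e ^ n)⁻¹ = π ⁅e, x⁆ ^ n * π x := by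
    intro n
    induction n with
    | zero => simp
    | succ n ih =>
      have h1 : π e * π x * (π e)⁻¹ = π ⁅e, x⁆ * π x := by
        rw [map_commutatorElement, commutatorElement_def]; group
      calc π e ^ (n + 1) * π x * (π e ^ (n + 1))⁻¹ = π e * (π e ^ n * π x * (π e ^ n)⁻¹) * (π e)⁻¹ := by
            rw [pow_succ']; group
        _ = π e * (π ⁅e, x⁆ ^ n * π x) * (π e)⁻¹ := by rw [ih]
        _ = (π e * π ⁅e, x⁆ ^ n * (π e)⁻¹) * (π e * π x * (π e)⁻¹) := by group
        _ = π ⁅e, x⁆ ^ (n + 1) * π x := by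
          rw [(show Commute (π e) (π ⁅e, x⁆) from hcm).pow_right n, mul_inv_cancel_right, h1, pow_succ, mul_assoc]
  have h2 := hit (p ^ k)
  rw [← map_pow π e, he, map_one, one_mul, inv_one, mul_one, ← map_pow, right_eq_mul] at h2
  obtain ⟨j, hj⟩ := Cores.pCore_isPGroup (⟨_, (QuotientGroup.eq_one_iff _).1 h2⟩ : Cfsg.pCore p H)
  refine mem_core_of_abelian hA hOA rfl hab hc (k := k + j) ?_
  rw [pow_add, pow_mul]
  exact congrArg Subtype.val hj

/-- The subgroup generated by the p-elements of a strongly p-irreducible group is everything. -/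
theorem closure_pElements_eq_top {G : Type*} [Group G] [Finite G] (h : Cfsg.IsStronglyPIrreducible p G) :
    closure {e : G | ∃ k, e ^ p ^ k = 1} = ⊤ := by
  set N := closure {e : G | ∃ k, e ^ p ^ k = 1} with hN
  haveI hNn : N.Normal := by
    refine ⟨fun x hx g => ?_⟩
    have h1 : N.map (MulAut.conj g).toMonoidHom ≤ N := by
      rw [hN, MonoidHom.map_closure, closure_le]
      rintro _ ⟨e, ⟨k, hk⟩, rfl⟩
      exact subset_closure ⟨k, by rw [← map_pow, hk, map_one]⟩
    exact h1 (mem_map_of_mem _ hx)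
  obtain ⟨T⟩ := Sylow.nonempty (p := p) (G := G)
  have hTN : (T : Subgroup G) ≤ N := fun t ht => subset_closure (by
    obtain ⟨k, hk⟩ := T.2 ⟨t, ht⟩; exact ⟨k, congrArg Subtype.val hk⟩)
  have hres : Cfsg.pResidual p G ≤ N := by
    refine h.2 N hNn fun hc => h.1 (H59.isPClosed_of_exists T ?_)
    have := H59.sylow_inf_normal_le_pCore T hc
    rwa [inf_of_le_left hTN] at this
  exact top_le_iff.1 ((Fusion.sylow_sup_pResidual T).ge.trans (sup_le hTN hres))

end

section Family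

variable {H : Type*} [Group H] [Finite H] {p : ℕ} [Fact p.Prime] {𝒦 : Set (Subgroup H)}

/-- The standing facts about the family. -/
structure Fam (p : ℕ) (𝒦 : Set (Subgroup H)) : Prop where
  inv : ∀ h : H, ∀ E ∈ 𝒦, cj E h ∈ 𝒦
  tr : ∀ E ∈ 𝒦, ∀ K ∈ 𝒦, ∃ h : H, K = cj E h
  res : Cfsg.pResidual p H ≤ sSup 𝒦
  norm : ∀ E ∈ 𝒦, sSup 𝒦 ⊔ Cfsg.pCore p H ≤ normalizer ((E ⊔ Cfsg.pCore p H : Subgroup H) : Set H)

/-- `R O_p(H)`. -/
def big (p : ℕ) (𝒦 : Set (Subgroup H)) : Subgroup H := sSup 𝒦 ⊔ Cfsg.pCore p H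

theorem cj_core (h : H) : cj (Cfsg.pCore p H) h = Cfsg.pCore p H :=
  cj_eq_self_iff.2 (by rw [normalizer_eq_top_iff.2 inferInstance]; exact mem_top h)

theorem big_normal (f : Fam p 𝒦) : (big p 𝒦).Normal := by
  refine ⟨fun x hx h => ?_⟩
  have h1 : cj (big p 𝒦) h ≤ big p 𝒦 := by
    rw [big, cj_sup, cj_core]
    refine sup_le_sup_right ?_ _
    rw [cj_le_iff]
    refine sSup_le fun E hE => ?_
    rw [le_cj_iff, inv_inv]
    exact le_sSup (f.inv h E hE)
  exact h1 (mem_map_of_mem _ hx)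

theorem le_big {E : Subgroup H} (hE : E ∈ 𝒦) : E ⊔ Cfsg.pCore p H ≤ big p 𝒦 :=
  sup_le_sup_right (le_sSup hE) _

theorem isSubnormal_sup (f : Fam p 𝒦) {E : Subgroup H} (hE : E ∈ 𝒦) :
    (E ⊔ Cfsg.pCore p H).IsSubnormal :=
  IsSubnormal.step _ _ (le_big hE) (big_normal f).isSubnormal (normal_subgroupOf_of_le_normalizer (f.norm E hE))

theorem sup_sylow (f : Fam p 𝒦) (T : Sylow p H) : (T : Subgroup H) ⊔ big p 𝒦 = ⊤ :=
  top_le_iff.1 ((Fusion.sylow_sup_pResidual T).ge.trans (sup_le_sup_left (f.res.trans le_sup_left) _))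

theorem exists_sylow_inf (f : Fam p 𝒦) {E : Subgroup H} (hE : E ∈ 𝒦) (T : Sylow p H) :
    ∃ Q : Sylow p ↥E, (Q : Subgroup E) = (T : Subgroup H).subgroupOf E := by
  set O := Cfsg.pCore p H
  obtain ⟨P, hP⟩ := S0542.inf_sylow p (E ⊔ O) (isSubnormal_sup f hE) T
  refine ⟨(T.isPGroup'.comap_of_injective E.subtype E.subtype_injective).toSylow ?_, rfl⟩
  intro hd
  refine P.not_dvd_index ?_
  rw [hP]
  set F := E ⊔ O
  set S := (T : Subgroup H) ⊓ F
  have hSF : S = (T : Subgroup H) ⊓ E ⊔ O := by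
    refine le_antisymm ?_ (sup_le (le_inf inf_le_left (inf_le_right.trans le_sup_left))
      (le_inf (Cores.pCore_le_sylow T) le_sup_right))
    intro x hx
    obtain ⟨hxT, hxF⟩ := mem_inf.1 hx
    obtain ⟨a, ha, o, ho, rfl⟩ := mem_sup_mul (by rw [normalizer_eq_top_iff.2 inferInstance]; exact le_top) hxF
    refine mul_mem (mem_sup_left (mem_inf.2 ⟨?_, ha⟩)) (mem_sup_right ho)
    simpa using mul_mem hxT (inv_mem (Cores.pCore_le_sylow T ho))
  have h1 := Cores.card_sup_mul_card_inf E O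
  have h2 := Cores.card_sup_mul_card_inf ((T : Subgroup H) ⊓ E) O
  rw [← hSF, inf_assoc, inf_of_le_right (inf_le_right.trans (Cores.pCore_le_sylow T))] at h2
  have e1 := ((T : Subgroup H).subgroupOf E).card_mul_index
  rw [← inf_subgroupOf_right, Nat.card_congr (subgroupOfEquivOfLe inf_le_right).toEquiv] at e1
  have e2 := ((T : Subgroup H).subgroupOf F).card_mul_index
  rw [← inf_subgroupOf_right, Nat.card_congr (subgroupOfEquivOfLe inf_le_right).toEquiv] at e2
  change Nat.card S * _ = _ at e2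
  rw [inf_subgroupOf_right] at e1 e2
  rw [← e2, ← e1] at h1
  have key : ((T : Subgroup H).subgroupOf F).index = ((T : Subgroup H).subgroupOf E).index := by
    refine Nat.eq_of_mul_eq_mul_left (n := Nat.card S * Nat.card (E ⊓ O : Subgroup H))
      (Nat.mul_pos Nat.card_pos Nat.card_pos) ?_
    calc Nat.card S * Nat.card (E ⊓ O : Subgroup H) * ((T : Subgroup H).subgroupOf F).index
        = Nat.card S * ((T : Subgroup H).subgroupOf F).index * Nat.card (E ⊓ O : Subgroup H) := by ring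
      _ = Nat.card ((T : Subgroup H) ⊓ E : Subgroup H) * ((T : Subgroup H).subgroupOf E).index * Nat.card O := h1
      _ = Nat.card ((T : Subgroup H) ⊓ E : Subgroup H) * Nat.card O * ((T : Subgroup H).subgroupOf E).index := by ring
      _ = _ := by rw [← h2]
  rw [key]
  exact hd

/-- The greatest proper overgroup of `T ∩ F` in `F`. -/
def IsTop (T F M : Subgroup H) : Prop :=
  M ≤ F ∧ M ≠ F ∧ T ⊓ F ≤ M ∧ ∀ K, K ≤ F → T ⊓ F ≤ K → K ≠ F → K ≤ M

theorem isTop_unique {T F M M' : Subgroup H} (h : IsTop T F M) (h' : IsTop T F M') : M = M' :=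
  le_antisymm (h'.2.2.2 M h.1 h.2.2.1 h.2.1) (h.2.2.2 M' h'.1 h'.2.2.1 h'.2.1)

theorem isTop_cj {T F M : Subgroup H} {h : H} (hh : cj (T ⊓ F) h = T ⊓ cj F h) (hM : IsTop T F M) :
    IsTop T (cj F h) (cj M h) := by
  refine ⟨cj_mono hM.1 h, fun e => hM.2.1 (cj_inj.1 e), hh ▸ cj_mono hM.2.2.1 h, fun K hK hTK hne => ?_⟩
  rw [le_cj_iff]
  refine hM.2.2.2 _ ?_ ?_ ?_
  · rw [← cj_le_cj_iff h, cj_cj, mul_inv_cancel, cj_one]; exact hK
  · rw [← cj_le_cj_iff h, cj_cj, mul_inv_cancel, cj_one, hh]; exact hTK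
  · intro e
    apply hne
    rw [← e, cj_cj, mul_inv_cancel, cj_one]

theorem exists_top (f : Fam p 𝒦) (T : Sylow p H) {E : Subgroup H} (hE : E ∈ 𝒦)
    (hmin : ∀ Q : Sylow p ↥E, Cfsg.IsMinimalOver (Q : Subgroup ↥E)) :
    ∃ M, IsTop (T : Subgroup H) (E ⊔ Cfsg.pCore p H) M := by
  set O := Cfsg.pCore p H
  obtain ⟨Q, hQ⟩ := exists_sylow_inf f hE T
  obtain ⟨-, M₁, ⟨hM₁, hQM₁⟩, huniq⟩ := hmin Q
  have hOn : ∀ X : Subgroup H, X ≤ normalizer (O : Set H) := fun X => by
    rw [normalizer_eq_top_iff.2 inferInstance]; exact le_top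
  have hOT : O ≤ (T : Subgroup H) := Cores.pCore_le_sylow T
  have hTE : (T : Subgroup H) ⊓ E ≤ M₁.map E.subtype := fun x hx => by
    obtain ⟨h1, h2⟩ := mem_inf.1 hx
    exact ⟨⟨x, h2⟩, hQM₁ (show (⟨x, h2⟩ : E) ∈ (Q : Subgroup E) from hQ ▸ h1), rfl⟩
  refine ⟨M₁.map E.subtype ⊔ O, sup_le_sup_right (map_subtype_le _) _, ?_, ?_, fun K hK hSK hne => ?_⟩
  · intro e
    apply hM₁.1
    refine top_le_iff.1 fun z _ => ?_
    obtain ⟨a, ⟨a', ha', rfl⟩, o, ho, hz⟩ := mem_sup_mul (hOn _) (e.ge (mem_sup_left (z.2 : (z : H) ∈ E)))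
    have hoE : o ∈ E := by
      have := mul_mem (inv_mem a'.2) (z.2 : (z : H) ∈ E)
      rwa [hz, show (E.subtype a') = (a' : H) from rfl, inv_mul_cancel_left] at this
    obtain ⟨o', ho', hoe⟩ := hTE (mem_inf.2 ⟨hOT ho, hoE⟩)
    rw [show z = a' * o' from Subtype.ext (by rw [hz]; simp [← hoe])]
    exact mul_mem ha' ho'
  · rintro x hx
    obtain ⟨hxT, hxF⟩ := mem_inf.1 hx
    obtain ⟨a, ha, o, ho, rfl⟩ := mem_sup_mul (hOn E) hxF
    refine mul_mem (mem_sup_left (hTE (mem_inf.2 ⟨?_, ha⟩))) (mem_sup_right ho)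
    simpa using mul_mem hxT (inv_mem (hOT ho))
  · have hOK : O ≤ K := (le_inf hOT le_sup_right).trans hSK
    have hKE : (K.subgroupOf E) ≠ ⊤ := fun e => hne (le_antisymm hK (sup_le (subgroupOf_eq_top.1 e) hOK))
    have hKM : K.subgroupOf E ≤ M₁ := by
      obtain ⟨Mx, hMx, hle⟩ := (eq_top_or_exists_le_coatom _).resolve_left hKE
      have hQK : (Q : Subgroup E) ≤ K.subgroupOf E := fun z hz => by
        rw [hQ] at hz
        exact hSK (mem_inf.2 ⟨hz, mem_sup_left z.2⟩)
      exact huniq Mx ⟨hMx, hQK.trans hle⟩ ▸ hle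
    intro x hx
    obtain ⟨a, ha, o, ho, rfl⟩ := mem_sup_mul (hOn E) (hK hx)
    refine mul_mem (mem_sup_left ⟨⟨a, ha⟩, hKM ?_, rfl⟩) (mem_sup_right ho)
    show a ∈ K
    simpa using mul_mem hx (inv_mem (hOK ho))

theorem top_fixed {F M M' : Subgroup H} (hF : F.IsSubnormal) (T : Sylow p H) (hTM : (T : Subgroup H) ≤ M)
    {x : H} (hxM : x ∈ M) (hxF : cj F x = F) (hMF : M ⊓ F ≠ F) (hm : IsTop (T : Subgroup H) F M') :
    cj M' x = M' := by
  set K := M ⊓ F with hK
  set S := (T : Subgroup H) ⊓ F with hS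
  have hSK : S ≤ K := inf_le_inf_right _ hTM
  have hKm : K ≤ M' := hm.2.2.2 K inf_le_right hSK hMF
  -- Frattini
  obtain ⟨P, hP⟩ := S0542.inf_sylow p F hF T
  let PK : Sylow p K := ((T.isPGroup'.to_le (inf_le_left : S ≤ _)).comap_subtype (K := K)).toSylow (by
    intro hd
    refine P.not_dvd_index (hd.trans ?_)
    rw [hP]
    change S.relIndex K ∣ (T : Subgroup H).relIndex F
    rw [← inf_relIndex_right (T : Subgroup H) F]
    exact dvd_mul_right _ _ |>.trans (dvd_of_eq (relIndex_mul_relIndex S K F hSK inf_le_right)))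
  have hxS : cj S x ≤ K := (cj_mono hSK x).trans (by
    rw [hK, cj_inf, hxF, cj_eq_self_iff.2 (le_normalizer hxM)])
  obtain ⟨PK', hPK'⟩ := (((T.isPGroup'.to_le (inf_le_left : S ≤ _)).map _ : IsPGroup p (cj S x)).comap_subtype
    (K := K)).exists_le_sylow
  obtain ⟨k, hk⟩ := MulAction.exists_smul_eq K PK PK'
  have hSx : cj S x = cj S (k : H) := by
    refine eq_of_le_of_card_ge (fun u hu => ?_) (by rw [card_cj, card_cj])
    have h1 := hPK' (show (⟨u, hxS hu⟩ : K) ∈ (cj S x).subgroupOf K from hu)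
    rw [← hk] at h1
    obtain ⟨s, hs, hse⟩ := h1
    exact ⟨s, hs, congrArg Subtype.val hse⟩
  have hkF : cj F (k : H) = F := cj_eq_self_iff.2 (le_normalizer (mem_inf.1 k.2).2)
  have hS' : cj S ((k : H)⁻¹ * x) = S := by
    rw [← cj_cj, hSx, cj_cj, inv_mul_cancel, cj_one]
  have hF' : cj F ((k : H)⁻¹ * x) = F := by
    rw [← cj_cj, hxF]
    conv_lhs => rw [← hkF]
    rw [cj_cj, inv_mul_cancel, cj_one]
  have hm' : cj M' ((k : H)⁻¹ * x) = M' := by
    have h1 := isTop_cj (h := (k : H)⁻¹ * x) (by rw [hF']; exact hS') hm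
    rw [hF'] at h1
    exact isTop_unique h1 hm
  rw [show x = (k : H) * ((k : H)⁻¹ * x) by group, ← cj_cj, hm',
    cj_eq_self_iff.2 (le_normalizer (hKm k.2))]

theorem minimal_of_family (f : Fam p 𝒦) (hne : 𝒦.Nonempty)
    (hmin : ∀ E ∈ 𝒦, ∀ Q : Sylow p ↥E, Cfsg.IsMinimalOver (Q : Subgroup ↥E)) (T : Sylow p H) :
    Cfsg.IsMinimalOver (T : Subgroup H) := by
  classical
  haveI := big_normal f
  set O := Cfsg.pCore p H with hO
  have hOn : ∀ X : Subgroup H, X ≤ normalizer (O : Set H) := fun X => by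
    rw [normalizer_eq_top_iff.2 inferInstance]; exact le_top
  have hOT : O ≤ (T : Subgroup H) := Cores.pCore_le_sylow T
  have hgen : normalClosure ((T : Subgroup H) : Set H) = ⊤ := by
    refine top_le_iff.1 ((sup_sylow f T).ge.trans (sup_le le_normalClosure (sup_le (sSup_le fun E hE => ?_)
      (hOT.trans le_normalClosure))))
    obtain ⟨Q, hQ⟩ := exists_sylow_inf f hE T
    have h1 : normalClosure ((Q : Subgroup E) : Set E) ≤ (normalClosure ((T : Subgroup H) : Set H)).subgroupOf E :=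
      normalClosure_le_normal fun z hz => by
        rw [SetLike.mem_coe, hQ] at hz
        exact le_normalClosure hz
    rw [(hmin E hE Q).1, top_le_iff, subgroupOf_eq_top] at h1
    exact h1
  refine ⟨hgen, ?_⟩
  have htop : ∀ E : 𝒦, ∃ M, IsTop (T : Subgroup H) ((E : Subgroup H) ⊔ O) M := fun E => exists_top f T E.2 (hmin E E.2)
  choose m hm using htop
  have hcjF : ∀ (E : Subgroup H) (h : H), cj (E ⊔ O) h = cj E h ⊔ O := fun E h => by rw [cj_sup, cj_core]
  let S0 : Subgroup H :=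
    { carrier := {h | ∀ E : 𝒦, cj (m E) h = m ⟨cj E h, f.inv h E E.2⟩}
      one_mem' := fun E => by
        rw [cj_one]; exact congrArg m (Subtype.ext (cj_one _).symm)
      mul_mem' := fun {a b} ha hb E => by
        rw [← cj_cj, hb E, ha ⟨cj E b, f.inv b E E.2⟩]
        exact congrArg m (Subtype.ext (cj_cj _ _ _))
      inv_mem' := fun {a} ha E => by
        have h1 := ha ⟨cj E a⁻¹, f.inv a⁻¹ E E.2⟩
        have h2 : m ⟨cj (cj E a⁻¹) a, f.inv a _ (f.inv a⁻¹ E E.2)⟩ = m E :=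
          congrArg m (Subtype.ext ((cj_cj _ _ _).trans (by rw [mul_inv_cancel, cj_one])))
        rw [h2] at h1
        rw [← h1, cj_cj, inv_mul_cancel, cj_one] }
  have hTS0 : (T : Subgroup H) ≤ S0 := by
    intro t ht E
    refine isTop_unique (isTop_cj ?_ (hm E)) ?_
    · rw [cj_inf, cj_eq_self_iff.2 (le_normalizer ht)]
    · rw [hcjF]; exact hm ⟨cj E t, f.inv t E E.2⟩
  -- every proper overgroup of T lies in S0
  have hkey : ∀ M : Subgroup H, (T : Subgroup H) ≤ M → M ≠ ⊤ → M ≤ S0 := by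
    intro M hTM hM
    have hMF : ∀ E ∈ 𝒦, M ⊓ (E ⊔ O) ≠ E ⊔ O := by
      intro E hE he
      have hle : E ⊔ O ≤ M := he ▸ inf_le_left
      refine hM (top_le_iff.1 ((sup_sylow f T).ge.trans (sup_le hTM (sup_le (sSup_le fun K hK => ?_) (hOT.trans hTM)))))
      obtain ⟨h, rfl⟩ := f.tr E hE K hK
      obtain ⟨t, ht, r, hr, rfl⟩ := mem_sup_mul (by rw [normalizer_eq_top_iff.2 inferInstance]; exact le_top)
        ((sup_sylow f T).ge (mem_top h))
      rw [← cj_cj]
      refine (cj_mono ?_ t).trans ((cj_mono hle t).trans (cj_le_of_mem (hTM ht)))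
      exact (cj_mono le_sup_left r).trans (cj_eq_self_iff.2 (f.norm E hE hr)).le
    intro h hh
    obtain ⟨t, ht, x, hx, rfl⟩ := mem_sup_mul (by rw [normalizer_eq_top_iff.2 inferInstance]; exact le_top)
      ((sup_sylow f T).ge (mem_top h))
    refine mul_mem (hTS0 ht) ?_
    have hxM : x ∈ M := by
      have := mul_mem (inv_mem (hTM ht)) hh
      rwa [inv_mul_cancel_left] at this
    intro E
    set F := (E : Subgroup H) ⊔ O with hF
    have hxF : cj F x = F := cj_eq_self_iff.2 (f.norm E E.2 hx)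
    have hsame : m ⟨cj E x, f.inv x E E.2⟩ = m E := by
      have h1 := hm ⟨cj E x, f.inv x E E.2⟩
      rw [← hcjF, hxF] at h1
      exact isTop_unique h1 (hm E)
    rw [hsame]
    exact top_fixed (isSubnormal_sup f E.2) T hTM hxM hxF (hMF E E.2) (hm E)
  have hS0 : S0 ≠ ⊤ := by
    intro he
    obtain ⟨E, hE⟩ := hne
    obtain ⟨Q, hQ⟩ := exists_sylow_inf f hE T
    haveI hn : ((m ⟨E, hE⟩).subgroupOf E).Normal := by
      refine ⟨fun z hz e => ?_⟩
      have h1 : ∀ E' : 𝒦, cj (m E') (e : H) = m ⟨cj E' (e : H), f.inv _ E' E'.2⟩ := (he ▸ mem_top (e : H) : (e : H) ∈ S0)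
      have h2 := h1 ⟨E, hE⟩
      have h3 : m ⟨cj E (e : H), f.inv _ E hE⟩ = m ⟨E, hE⟩ :=
        congrArg m (Subtype.ext (cj_eq_self_iff.2 (le_normalizer e.2)))
      rw [h3] at h2
      exact h2.le (mem_map_of_mem _ hz)
    have h2 : (Q : Subgroup E) ≤ (m ⟨E, hE⟩).subgroupOf E := fun z hz => by
      rw [hQ] at hz
      exact (hm ⟨E, hE⟩).2.2.1 (mem_inf.2 ⟨hz, mem_sup_left z.2⟩)
    have h3 := (hmin E hE Q).1.ge.trans (normalClosure_le_normal h2)
    rw [top_le_iff, subgroupOf_eq_top] at h3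
    exact (hm ⟨E, hE⟩).2.1 (le_antisymm (hm ⟨E, hE⟩).1
      (sup_le h3 ((le_inf hOT le_sup_right).trans (hm ⟨E, hE⟩).2.2.1)))
  obtain ⟨M0, hM0, hle⟩ := (eq_top_or_exists_le_coatom S0).resolve_left hS0
  refine ⟨M0, ⟨hM0, hTS0.trans hle⟩, fun M ⟨hM, hTM⟩ => ?_⟩
  exact ((hM.le_iff.1 ((hkey M hTM hM.1).trans hle)).resolve_left hM0.1).symm

/-- The facts about a strongly p-irreducible member. -/
theorem member_cases (f : Fam p 𝒦) {E : Subgroup H} (hE : E ∈ 𝒦) (hs : Cfsg.IsStronglyPIrreducible p ↥E)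
    (N : Subgroup H) (hN : big p 𝒦 ≤ normalizer (N : Set H)) :
    resOf p E ≤ N ∨ ⁅N ⊓ E, E⁆ ≤ Cfsg.pCore p H := by
  set N' := N.subgroupOf E with hN'
  have hn : N'.Normal := normal_subgroupOf_iff_le_normalizer_inf.2
    ((le_inf le_normalizer ((le_sup_left.trans (le_big hE)).trans hN)).trans
      (by rw [inf_comm (a := N)]; exact inf_normalizer_le_normalizer_inf))
  by_cases h : ⁅N', (⊤ : Subgroup E)⁆ ≤ Cfsg.pCore p E
  · right
    have hcore : (Cfsg.pCore p E).map E.subtype ≤ Cfsg.pCore p H := by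
      refine le_trans ?_ (Cores.map_pCore_le_of_isSubnormal (isSubnormal_sup f hE))
      have h2 : Cfsg.pCoreOf p E ⊔ Cfsg.pCore p H ≤ Cfsg.pCoreOf p (E ⊔ Cfsg.pCore p H) := by
        refine le_pCoreOf (sup_le_sup_right (pCoreOf_le E) _) (sup_le ?_ ?_)
          ((pCoreOf_isPGroup E).to_sup_of_normal_right Cores.pCore_isPGroup)
        · exact le_normalizer_sup (le_normalizer_pCoreOf E) (by rw [normalizer_eq_top_iff.2 inferInstance]; exact le_top)
        · exact le_trans le_sup_right le_normalizer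
      exact le_trans le_sup_left h2
    have h3 := Subgroup.map_mono (f := E.subtype) h
    rw [map_commutator, ← MonoidHom.range_eq_map, range_subtype, hN', subgroupOf_map_subtype] at h3
    exact h3.trans hcore
  · left
    have h1 := hs.2 N' hn h
    intro x hx
    obtain ⟨y, hy, rfl⟩ := hx
    exact h1 hy

theorem irreducible_of_family (f : Fam p 𝒦) (hne : 𝒦.Nonempty)
    (hirr : ∀ E ∈ 𝒦, Cfsg.IsStronglyPIrreducible p ↥E) :
    Cfsg.IsPIrreducible p H ∧ ∀ E ∈ 𝒦, ∀ K ∈ 𝒦,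
      resOf p (E ⊔ Cfsg.pCore p H) = resOf p (K ⊔ Cfsg.pCore p H) ∨ ⁅E, K⁆ ≤ Cfsg.pCore p H := by
  classical
  haveI := big_normal f
  set O := Cfsg.pCore p H with hO
  have hOn : ∀ X : Subgroup H, X ≤ normalizer (O : Set H) := fun X => by
    rw [normalizer_eq_top_iff.2 inferInstance]; exact le_top
  have hOp : IsPGroup p O := Cores.pCore_isPGroup
  set π := QuotientGroup.mk' O with hπ
  have hpi : ∀ a b : H, ⁅a, b⁆ ∈ O ↔ π a * π b = π b * π a := fun a b => by
    rw [← commutatorElement_eq_one_iff_mul_comm, ← map_commutatorElement]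
    exact (QuotientGroup.eq_one_iff _).symm
  -- E is generated by its p-elements
  have hgen : ∀ E ∈ 𝒦, ∀ D : Subgroup H, (∀ e ∈ E, ∀ k : ℕ, e ^ p ^ k = 1 → e ∈ D) → E ≤ D := by
    intro E hE D h
    have h1 := closure_pElements_eq_top (hirr E hE)
    intro x hx
    have h2 : (⟨x, hx⟩ : E) ∈ closure {e : E | ∃ k, e ^ p ^ k = 1} := h1 ▸ mem_top _
    have h3 : closure {e : E | ∃ k, e ^ p ^ k = 1} ≤ D.subgroupOf E := by
      rw [closure_le]
      rintro e ⟨k, hk⟩
      exact h e e.2 k (congrArg Subtype.val hk)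
    exact h3 h2
  have hdich : ∀ E ∈ 𝒦, ∀ K ∈ 𝒦, resOf p (E ⊔ O) = resOf p (K ⊔ O) ∨ ⁅E, K⁆ ≤ O := by
    intro E hE K hK
    set N := (E ⊔ O) ⊓ (K ⊔ O) with hN
    have hNn : big p 𝒦 ≤ normalizer (N : Set H) := le_normalizer_inf (f.norm E hE) (f.norm K hK)
    have hhalf : ∀ A B : Subgroup H, A ∈ 𝒦 → B ∈ 𝒦 → resOf p A ≤ B ⊔ O → resOf p (A ⊔ O) = resOf p (B ⊔ O) := by
      intro A B hA hB h
      have hnn : A ≤ normalizer ((B ⊔ O : Subgroup H) : Set H) :=
        le_trans (le_trans le_sup_left (le_big hA)) (f.norm B hB)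
      have h1 : resOf p (A ⊔ O) ≤ resOf p (B ⊔ O) := by
        have hAn : A ⊔ O ≤ normalizer ((resOf p A ⊔ O : Subgroup H) : Set H) :=
          sup_le (le_normalizer_sup (le_normalizer_resOf le_normalizer) (hOn A)) (le_trans le_sup_right le_normalizer)
        have h2 : resOf p (A ⊔ O) ≤ resOf p A ⊔ O := by
          obtain ⟨P⟩ := Sylow.nonempty (p := p) (G := ↥A)
          refine resOf_le_of_sup (P := (P : Subgroup A).map A.subtype) (P.2.map _) hAn (sup_le ?_ (le_sup_right.trans le_sup_left))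
            (((map_subtype_le _).trans le_sup_left).trans hAn)
          intro a ha
          obtain ⟨u, hu, r, hr, e⟩ := mem_sup_mul (H := (P : Subgroup A)) (N := Cfsg.pResidual p A)
            (by rw [normalizer_eq_top_iff.2 inferInstance]; exact le_top)
            ((Fusion.sylow_sup_pResidual P).ge (mem_top (⟨a, ha⟩ : A)))
          rw [show a = (u : H) * r from congrArg Subtype.val e]
          exact mul_mem (mem_sup_right ⟨u, hu, rfl⟩) (mem_sup_left (mem_sup_left ⟨r, hr, rfl⟩))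
        calc resOf p (A ⊔ O) = resOf p (resOf p (A ⊔ O)) := (resOf_resOf _).symm
          _ ≤ resOf p (B ⊔ O) := resOf_mono (h2.trans (sup_le h le_sup_right))
      obtain ⟨g, rfl⟩ := f.tr A hA B hB
      refine eq_of_le_of_card_ge h1 ?_
      have h4 := card_le_of_le (cj_resOf_le (p := p) (cj A g ⊔ O) g⁻¹)
      rwa [card_cj, cj_sup, cj_cj, inv_mul_cancel, cj_one, cj_core] at h4
    rcases member_cases f hE (hirr E hE) N hNn with h1 | h1
    · exact Or.inl (hhalf E K hE hK (h1.trans inf_le_right))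
    rcases member_cases f hK (hirr K hK) N hNn with h2 | h2
    · exact Or.inl (hhalf K E hK hE (h2.trans inf_le_left)).symm
    right
    have hNE : ∀ A ∈ 𝒦, ⁅N ⊓ A, A⁆ ≤ O → N ≤ A ⊔ O → ∀ n ∈ N, ∀ a ∈ A ⊔ O, π a * π n = π n * π a := by
      intro A hA h hle n hn a ha
      obtain ⟨n1, hn1, o, ho, rfl⟩ := mem_sup_mul (hOn A) (hle hn)
      obtain ⟨a1, ha1, o', ho', rfl⟩ := mem_sup_mul (hOn A) ha
      have hn1N : n1 ∈ N := by
        have hON : O ≤ N := le_inf le_sup_right le_sup_right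
        simpa using mul_mem hn (inv_mem (hON ho))
      have h' := (hpi n1 a1).1 (h (commutator_mem_commutator (mem_inf.2 ⟨hn1N, hn1⟩) ha1))
      have e1 : π o = 1 := (QuotientGroup.eq_one_iff o).2 ho
      have e2 : π o' = 1 := (QuotientGroup.eq_one_iff o').2 ho'
      rw [map_mul, map_mul, e1, e2, mul_one, mul_one]
      exact h'.symm
    have hab : ⁅N, N⁆ ≤ O := commutator_le.2 fun a ha b hb =>
      (hpi a b).2 (hNE E hE h1 inf_le_left b hb a (inf_le_left (a := E ⊔ O) ha))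
    have hNsub : N.IsSubnormal := IsSubnormal.step _ _ (inf_le_left.trans (le_big hE)) (big_normal f).isSubnormal
      (normal_subgroupOf_of_le_normalizer hNn)
    refine commutator_le.2 fun e he x hx => ?_
    have h3 : E ≤ (centralizer ({π x} : Set (H ⧸ O))).comap π := hgen E hE _ fun a ha k hk => by
      rw [mem_comap, mem_centralizer_singleton_iff, ← hpi]
      have hc : ⁅a, x⁆ ∈ N := by
        rw [hN, mem_inf]
        refine ⟨?_, ?_⟩
        · rw [commutatorElement_def, mul_assoc a x a⁻¹, mul_assoc a]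
          exact mul_mem (mem_sup_left ha) ((mem_normalizer_iff.1 (f.norm E hE (le_big hK (mem_sup_left hx))) _).1
            (mem_sup_left (inv_mem ha)))
        · rw [commutatorElement_def]
          exact mul_mem ((mem_normalizer_iff.1 (f.norm K hK (le_big hE (mem_sup_left ha))) _).1 (mem_sup_left hx))
            (mem_sup_left (inv_mem hx))
      exact commutator_mem_of_pElement hNsub (le_inf le_sup_right le_sup_right) hO.symm hab hk hc
        ((hpi _ _).2 (hNE E hE h1 inf_le_left _ hc a (mem_sup_left ha)))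
    have h4 := h3 he
    rw [mem_comap, mem_centralizer_singleton_iff] at h4
    exact (hpi e x).2 h4
  refine ⟨⟨?_, ?_⟩, hdich⟩
  · intro hc
    obtain ⟨E, hE⟩ := hne
    obtain ⟨T⟩ := Sylow.nonempty (p := p) (G := H)
    obtain ⟨Q, hQ⟩ := exists_sylow_inf f hE T
    refine (hirr E hE).1 (H59.isPClosed_of_exists Q (le_trans ?_ (Cores.subgroupOf_pCore_le E)))
    rw [hQ]
    exact fun z hz => H59.isPClosed_iff.1 hc T hz
  · intro N hNn hNc
    obtain ⟨T⟩ := Sylow.nonempty (p := p) (G := H)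
    set N' := N ⊔ O with hN'
    haveI : N'.Normal := inferInstance
    by_contra hres
    refine hNc ((H59.isPClosed_normal_iff N T).2 (le_trans (inf_le_inf_left _ (le_sup_left : N ≤ N')) ?_))
    have hall : ∀ E ∈ 𝒦, ⁅N' ⊓ E, E⁆ ≤ O := by
      intro E hE
      refine (member_cases f hE (hirr E hE) N' (by rw [normalizer_eq_top_iff.2 inferInstance]; exact le_top)).resolve_left
        fun h => hres ?_
      -- O^p(H) ≤ N
      set ρ := QuotientGroup.mk' N' with hρ
      have hEp : ∀ K ∈ 𝒦, (K ⊔ O).map ρ ≤ Cfsg.pCore p (H ⧸ N') := by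
        intro K hK
        refine Cores.le_pCore_of_isSubnormal ((isSubnormal_sup f hK).map (QuotientGroup.mk'_surjective N')) ?_
        obtain ⟨g, rfl⟩ := f.tr E hE K hK
        obtain ⟨P⟩ := Sylow.nonempty (p := p) (G := ↥(cj E g))
        refine ((P.2.map (ρ.comp (cj E g).subtype))).to_le ?_
        rintro _ ⟨z, hz, rfl⟩
        obtain ⟨z', hz', o, ho, rfl⟩ := mem_sup_mul (hOn _) hz
        obtain ⟨u, hu, r, hr, e⟩ := mem_sup_mul (H := (P : Subgroup (cj E g))) (N := Cfsg.pResidual p ↥(cj E g))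
          (by rw [normalizer_eq_top_iff.2 inferInstance]; exact le_top)
          ((Fusion.sylow_sup_pResidual P).ge (mem_top (⟨z', hz'⟩ : cj E g)))
        have hr' : (r : H) ∈ N' := by
          have h2 : resOf p (cj E g) ≤ N' := by
            refine resOf_le_iff.2 fun w hw hwc => ?_
            have h3 : g⁻¹ * w * g ∈ resOf p E := mem_resOf (mem_cj.1 hw)
              (by rwa [show g⁻¹ * w * g = MulAut.conj g⁻¹ w by simp, MulEquiv.orderOf_eq])
            have h4 := (inferInstance : N'.Normal).conj_mem _ (h h3) g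
            simpa [mul_assoc] using h4
          exact h2 ⟨r, hr, rfl⟩
        refine ⟨u, hu, ?_⟩
        show ρ (u : H) = ρ (z' * o)
        refine QuotientGroup.eq.2 ?_
        have e' : z' = (u : H) * r := congrArg Subtype.val e
        rw [e', mul_assoc, inv_mul_cancel_left]
        exact mul_mem hr' (mem_sup_right ho)
      have h5 : Cfsg.pResidual p H ≤ N' := by
        refine Fusion.pResidual_le.2 fun x hx => ?_
        have h6 : ρ x ∈ Cfsg.pCore p (H ⧸ N') := by
          have h7 : sSup 𝒦 ≤ (Cfsg.pCore p (H ⧸ N')).comap ρ := sSup_le fun K hK =>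
            le_trans le_sup_left (map_le_iff_le_comap.1 (hEp K hK))
          exact h7 (f.res (Fusion.mem_pResidual hx))
        obtain ⟨k, hk⟩ := Cores.pCore_isPGroup ⟨ρ x, h6⟩
        refine (QuotientGroup.eq_one_iff x).1 (orderOf_eq_one_iff.1 (Nat.eq_one_of_dvd_coprimes (hx.pow_right k)
          (orderOf_map_dvd ρ x) (orderOf_dvd_of_pow_eq_one (congrArg Subtype.val hk))))
      calc Cfsg.pResidual p H = resOf p (Cfsg.pResidual p H) := Fusion.map_pResidual_pResidual.symm
        _ ≤ resOf p N' := resOf_mono h5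
        _ ≤ N := resOf_le_of_sup hOp (by rw [normalizer_eq_top_iff.2 inferInstance]; exact le_top) le_rfl
            (by rw [normalizer_eq_top_iff.2 inferInstance]; exact le_top)
    set Z := N' ⊓ big p 𝒦 with hZ
    have hON : O ≤ N' := le_sup_right
    have hOR : O ≤ big p 𝒦 := le_sup_right
    -- commutation with the big subgroup
    have hfull : ∀ E ∈ 𝒦, ∀ y, (∀ e ∈ E, ∀ k : ℕ, e ^ p ^ k = 1 → ⁅e, y⁆ ∈ O) → E ≤ (centralizer ({π y} : Set _)).comap π :=
      fun E hE y h => hgen E hE _ fun e he k hk => by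
        rw [mem_comap, mem_centralizer_singleton_iff]; exact (hpi e y).1 (h e he k hk)
    have hbigc : ∀ y, (∀ E ∈ 𝒦, ∀ e ∈ E, ∀ k : ℕ, e ^ p ^ k = 1 → ⁅e, y⁆ ∈ O) → ∀ r ∈ big p 𝒦, π r * π y = π y * π r := by
      intro y h r hr
      have h1 : big p 𝒦 ≤ (centralizer ({π y} : Set _)).comap π := sup_le (sSup_le fun E hE => hfull E hE y (h E hE))
        (fun o ho => by
          rw [mem_comap, mem_centralizer_singleton_iff, show π o = 1 from (QuotientGroup.eq_one_iff o).2 ho,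
            one_mul, mul_one])
      exact mem_centralizer_singleton_iff.1 (h1 hr)
    have hcent : ∀ x ∈ Z, ∀ r ∈ big p 𝒦, π r * π x = π x * π r := by
      intro x hx
      refine hbigc x fun E hE e he k hk => ?_
      set A := N' ⊓ (E ⊔ O) with hA
      have hAE : ∀ a ∈ A, ∀ b ∈ E ⊔ O, π a * π b = π b * π a := by
        intro a ha b hb
        obtain ⟨a1, ha1, o, ho, rfl⟩ := mem_sup_mul (hOn E) (mem_inf.1 ha).2
        obtain ⟨b1, hb1, o', ho', rfl⟩ := mem_sup_mul (hOn E) hb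
        have ha1N : a1 ∈ N' := by simpa using mul_mem (mem_inf.1 ha).1 (inv_mem (hON ho))
        have h' := (hpi a1 b1).1 (hall E hE (commutator_mem_commutator (mem_inf.2 ⟨ha1N, ha1⟩) hb1))
        rw [map_mul, map_mul, show π o = 1 from (QuotientGroup.eq_one_iff o).2 ho,
          show π o' = 1 from (QuotientGroup.eq_one_iff o').2 ho', mul_one, mul_one]
        exact h'
      have hAsub : A.IsSubnormal := IsSubnormal.step _ _ (inf_le_right.trans (le_big hE)) (big_normal f).isSubnormal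
        (normal_subgroupOf_of_le_normalizer (le_normalizer_inf (by rw [normalizer_eq_top_iff.2 inferInstance]; exact le_top) (f.norm E hE)))
      have hc : ⁅e, x⁆ ∈ A := by
        refine mem_inf.2 ⟨?_, ?_⟩
        · rw [commutatorElement_def]
          exact mul_mem ((inferInstance : N'.Normal).conj_mem x (mem_inf.1 hx).1 e) (inv_mem (mem_inf.1 hx).1)
        · rw [commutatorElement_def, mul_assoc e x e⁻¹, mul_assoc e]
          exact mul_mem (mem_sup_left he) ((mem_normalizer_iff.1 (f.norm E hE (mem_inf.1 hx).2) _).1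
            (mem_sup_left (inv_mem he)))
      exact commutator_mem_of_pElement hAsub (le_inf hON le_sup_right) hO.symm
        (commutator_le.2 fun a ha b hb => (hpi a b).2 (hAE a ha b (inf_le_right (a := N') hb))) hk hc
        ((hpi _ _).2 (hAE _ hc e (mem_sup_left he)).symm)
    have hZab : ⁅Z, Z⁆ ≤ O := commutator_le.2 fun a ha b hb =>
      (hpi a b).2 (hcent b hb a (inf_le_right (a := N') ha))
    have hZsub : Z.IsSubnormal := (inferInstance : Z.Normal).isSubnormal
    have hy : ∀ y ∈ (T : Subgroup H) ⊓ N', ∀ r ∈ big p 𝒦, π r * π y = π y * π r := by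
      intro y hy
      refine hbigc y fun E hE e he k hk => ?_
      have heR : e ∈ big p 𝒦 := le_big hE (mem_sup_left he)
      have hc : ⁅e, y⁆ ∈ Z := by
        refine mem_inf.2 ⟨?_, ?_⟩
        · rw [commutatorElement_def]
          exact mul_mem ((inferInstance : N'.Normal).conj_mem y (mem_inf.1 hy).2 e) (inv_mem (mem_inf.1 hy).2)
        · rw [commutatorElement_def, mul_assoc e y e⁻¹, mul_assoc e]
          exact mul_mem heR ((inferInstance : (big p 𝒦).Normal).conj_mem _ (inv_mem heR) y)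
      exact commutator_mem_of_pElement hZsub (le_inf hON hOR) hO.symm hZab hk hc ((hpi _ _).2 (hcent _ hc e heR))
    -- the Sylow subgroup of N' is normal
    set Y := (T : Subgroup H) ⊓ N' with hY
    have hOY : O ≤ Y := le_inf (Cores.pCore_le_sylow T) hON
    have hYn : N' ≤ normalizer (Y : Set H) := by
      intro n hn
      obtain ⟨t, ht, r, hr, rfl⟩ := mem_sup_mul (by rw [normalizer_eq_top_iff.2 inferInstance]; exact le_top)
        ((sup_sylow f T).ge (mem_top n))
      refine mul_mem ?_ ?_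
      · have htn : t ∈ normalizer ((N' : Subgroup H) : Set H) := by
          rw [normalizer_eq_top_iff.2 inferInstance]; exact mem_top t
        exact le_normalizer_inf (A := zpowers t) (zpowers_le.2 (le_normalizer ht)) (zpowers_le.2 htn) (mem_zpowers t)
      · refine cj_eq_self_iff.1 (eq_of_le_of_card_ge (fun u hu => ?_) (card_cj Y r).ge)
        rw [mem_cj] at hu
        have h1 := (hpi r _).2 (hy _ hu r hr)
        rw [show u = ⁅r, r⁻¹ * u * r⁆ * (r⁻¹ * u * r) by rw [commutatorElement_def]; group]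
        exact mul_mem (hOY h1) hu
    refine le_trans ?_ le_rfl
    exact Cores.le_pCore_of_isSubnormal
      (IsSubnormal.step _ _ inf_le_right (inferInstance : N'.Normal).isSubnormal (normal_subgroupOf_of_le_normalizer hYn))
      (T.isPGroup'.to_le inf_le_left)

end Family


/-- Let H be a finite group, p a prime, and 𝒦 a nonempty set of subgroups of H permuted transitively by conjugation, with R the subgroup generated by the members of 𝒦. Suppose O^p(H) ≤ R, each E ∈ 𝒦 has E·O_p(H) normal in R·O_p(H), and each E ∈ 𝒦 is p-minimal (generated by the conjugates of a Sylow p-subgroup T_E of E, with T_E in exactly one maximal subgroup of E). Then H is p-minimal in the same sense. If instead each E ∈ 𝒦 is strongly p-irreducible, then H is p-irreducible and, for E, K ∈ 𝒦, either O^p(E·O_p(H)) = O^p(K·O_p(H)) or [E, K] ≤ O_p(H). -/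
theorem result {H : Type*} [Group H] [Finite H] {p : ℕ} [Fact p.Prime] (𝒦 : Set (Subgroup H)) (hne : 𝒦.Nonempty) (hinv : ∀ h : H, ∀ E ∈ 𝒦, E.map (MulAut.conj h).toMonoidHom ∈ 𝒦) (htr : ∀ E ∈ 𝒦, ∀ K ∈ 𝒦, ∃ h : H, K = E.map (MulAut.conj h).toMonoidHom) (hres : Cfsg.pResidual p H ≤ sSup 𝒦) (hnorm : ∀ E ∈ 𝒦, sSup 𝒦 ⊔ Cfsg.pCore p H ≤ Subgroup.normalizer ((E ⊔ Cfsg.pCore p H : Subgroup H) : Set H)) : ((∀ E ∈ 𝒦, ∀ T : Sylow p ↥E, Cfsg.IsMinimalOver (T : Subgroup ↥E)) → ∀ T : Sylow p H, Cfsg.IsMinimalOver (T : Subgroup H)) ∧ ((∀ E ∈ 𝒦, Cfsg.IsStronglyPIrreducible p ↥E) → Cfsg.IsPIrreducible p H ∧ ∀ E ∈ 𝒦, ∀ K ∈ 𝒦, (Cfsg.pResidual p ↥(E ⊔ Cfsg.pCore p H)).map (E ⊔ Cfsg.pCore p H).subtype = (Cfsg.pResidual p ↥(K ⊔ Cfsg.pCore p H)).map (K ⊔ Cfsg.pCore p H).subtype ∨ ⁅E, K⁆ ≤ Cfsg.pCore p H) := by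
  have f : Fam p 𝒦 := ⟨hinv, htr, hres, hnorm⟩
  exact ⟨fun h T => minimal_of_family f hne h T, fun h => irreducible_of_family f hne h⟩

end Cfsg.Agent.S2855
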