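import Cfsg.Statements.S2856
import Cfsg.Agent.H60.Amalgam

set_option autoImplicit false
open Cfsg

namespace Cfsg.Agent.S2856

open Subgroup Cfsg.Agent.H60


/-- Let (M₁, M₂) be an amalgam pair in X satisfying the rank-two standing hypothesis (characteristic p, the normalizers in M₁ and in M₂ of a Sylow p-subgroup of M₁ ∩ M₂ equal and contained in M₁ ∩ M₂, and strongly p-embedded residues), λ a vertex of the coset graph, L_λ the subgroup of its stabilizer generated by the p-elements, Q_λ = O_p of the stabilizer, O^p(L_λ) the subgroup of L_λ generated by its elements of order prime to p, and V_λ^{(k)} the subgroup generated by the Z_μ over the vertices μ at distance at most k from λ (Z_μ being generated by the Ω₁(Z(S)), S a Sylow p-subgroup of the stabilizer of μ). If n ≥ 1 and V_λ^{(n)} ≤ Q_λ, then O^p(L_λ) does not centralize V_λ^{(n)}/[V_λ^{(n)}, Q_λ], that is, [V_λ^{(n)}, O^p(L_λ)] is not contained in [V_λ^{(n)}, Q_λ]. -/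
theorem result {X : Type*} [Group X] {p : ℕ} [Fact p.Prime] (M₁ M₂ : Subgroup X) (h : Cfsg.IsSpeAmalgamPair p M₁ M₂) (lam : Cfsg.CosetVertex M₁ M₂) (n : ℕ) (hn : 1 ≤ n) (V : Subgroup X) (hV : V = Cfsg.vertexVIter p M₁ M₂ n lam) (hVQ : V ≤ Cfsg.vertexQ p lam) : ¬ ⁅V, ((Cfsg.pResidual p ↥(Cfsg.pElementClosure p (MulAction.stabilizer X lam))).map (Cfsg.pElementClosure p (MulAction.stabilizer X lam)).subtype)⁆ ≤ ⁅V, Cfsg.vertexQ p lam⁆ := by
  subst hV
  obtain ⟨m, rfl⟩ : ∃ m, n = m + 1 := ⟨n - 1, by omega⟩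
  obtain ⟨d, hd⟩ := H58.exists_adj lam
  have hQd := vertexQ_le_stabilizer h hd
  have hconn := H58.connected h.1.1.1
  set V := Cfsg.vertexVIter p M₁ M₂ (m + 1) lam with hV
  set V0 := Cfsg.vertexVIter p M₁ M₂ m d with hV0
  set Q := Cfsg.vertexQ p lam with hQ
  haveI := finite_stabilizer h.1 lam
  haveI : Finite Q := Finite.of_injective _ (Subgroup.inclusion_injective (pCoreOf_le _))
  have hlV : MulAction.stabilizer X lam ≤ normalizer (V : Set X) :=
    stabilizer_le_normalizer_vertexVIter h.1 _ _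
  have hQN : Q ≤ normalizer (V : Set X) := le_trans (pCoreOf_le _) hlV
  have hcV : ⁅V, Q⁆ ≤ V := by rw [commutator_comm]; exact commutator_le_of_le_normalizer hQN
  intro hc
  apply not_vertexVIter_succ_le h hd m hQd hVQ
  refine le_of_le_sup_commutator (pCoreOf_isPGroup _) hVQ
    (le_trans (vertexVIter_adj_le hconn hd m) hVQ)
    (le_trans hQd (stabilizer_le_normalizer_vertexVIter h.1 _ _)) ?_
  refine vertexVIter_le_of_residual h hd m le_sup_left (sup_le (vertexVIter_adj_le hconn hd m) hcV) ?_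
    (le_trans hc le_sup_right)
  refine le_normalizer_sup (le_trans inf_le_right (stabilizer_le_normalizer_vertexVIter h.1 _ _)) ?_
  rw [le_normalizer_iff]
  intro g hg x hx
  have h1 : cj ⁅V, Q⁆ g ≤ ⁅V, Q⁆ := by
    show (⁅V, Q⁆).map _ ≤ _
    rw [map_commutator]
    exact commutator_mono (cj_eq_self_iff.2 (hlV hg.1)).le
      (cj_eq_self_iff.2 (le_normalizer_pCoreOf _ hg.1)).le
  exact h1 (mem_cj.2 (by simpa [mul_assoc] using hx))

end Cfsg.Agent.S2856
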