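import Cfsg.Statements.S2857
import Cfsg.Agent.H60.Amalgam

set_option autoImplicit false
open Cfsg

namespace Cfsg.Agent.S2857

open Subgroup Cfsg.Agent.H60


/-- Let (M₁, M₂) be an amalgam pair in X satisfying the rank-two standing hypothesis (characteristic p, the normalizers in M₁ and in M₂ of a Sylow p-subgroup of M₁ ∩ M₂ equal and contained in M₁ ∩ M₂, and strongly p-embedded residues), λ a vertex of the coset graph, L_λ the subgroup of its stabilizer generated by the p-elements, Q_λ = O_p of the stabilizer, O^p(L_λ) the subgroup of L_λ generated by its elements of order prime to p, and V_λ^{(k)} the subgroup generated by the Z_μ over the vertices μ at distance at most k from λ (Z_μ being generated by the Ω₁(Z(S)), S a Sylow p-subgroup of the stabilizer of μ). If n ≥ 2 and V_λ^{(n)} ≤ Q_λ, then O^p(L_λ) does not centralize V_λ^{(n)}/V_λ^{(n-2)}, that is, [V_λ^{(n)}, O^p(L_λ)] is not contained in V_λ^{(n-2)}. -/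
theorem result {X : Type*} [Group X] {p : ℕ} [Fact p.Prime] (M₁ M₂ : Subgroup X) (h : Cfsg.IsSpeAmalgamPair p M₁ M₂) (lam : Cfsg.CosetVertex M₁ M₂) (n : ℕ) (hn : 2 ≤ n) (hVQ : Cfsg.vertexVIter p M₁ M₂ n lam ≤ Cfsg.vertexQ p lam) : ¬ ⁅Cfsg.vertexVIter p M₁ M₂ n lam, ((Cfsg.pResidual p ↥(Cfsg.pElementClosure p (MulAction.stabilizer X lam))).map (Cfsg.pElementClosure p (MulAction.stabilizer X lam)).subtype)⁆ ≤ Cfsg.vertexVIter p M₁ M₂ (n - 2) lam := by
  obtain ⟨m, rfl⟩ : ∃ m, n = m + 1 := ⟨n - 1, by omega⟩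
  obtain ⟨d, hd⟩ := H58.exists_adj lam
  have hconn := H58.connected h.1.1.1
  intro hc
  apply not_vertexVIter_succ_le h hd m (vertexQ_le_stabilizer h hd) hVQ
  refine vertexVIter_le_of_residual h hd m le_rfl (vertexVIter_adj_le hconn hd m)
    (le_trans inf_le_right (stabilizer_le_normalizer_vertexVIter h.1 _ _)) (le_trans hc ?_)
  refine iSup_le fun μ => vertexZ_le_vertexVIter d μ.1 m ?_
  have h1 := hconn.dist_triangle (u := d) (v := lam) (w := μ.1)
  have h2 := SimpleGraph.dist_le hd.symm.toWalk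
  have h3 := μ.2
  simp at h2
  omega

end Cfsg.Agent.S2857
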