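import Cfsg.Statements.S2859
import Cfsg.Agent.H60.WeakResidual

set_option autoImplicit false
open Cfsg

namespace Cfsg.Agent.S2859

open Subgroup Cfsg.Agent.H60
open scoped commutatorElement


/-- Let Q be a nontrivial p-subgroup of the finite group H that is a weakly closed subgroup, H° the weak closure of Q in H (generated by the conjugates of Q) and H_∘ = O^p(H°). Suppose H₁, H₂ are normal subgroups of H° with H° = H₁H₂ and [H₁, H₂] ≤ N_H(Q), and put Kᵢ = O^p of the weak closure of Q in HᵢQ. Then for i = 1, 2: Kᵢ = [Kᵢ, Q] = [Kᵢ, Hᵢ] ≤ Hᵢ′ and Kᵢ is normal in H°; H_∘ = K₁K₂; and [K₁, K₂] ≤ O_p(H°). -/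
theorem result {G : Type*} [Group G] [Finite G] {p : ℕ} [Fact p.Prime] (Q : Subgroup G) (hQp : IsPGroup p ↥Q) (hQ1 : Q ≠ ⊥) (hwc : Cfsg.IsWeaklyClosedSubgroup p Q) (Hc : Subgroup G) (hHc : Hc = Cfsg.weakClosure Q ⊤) (H₁ H₂ : Subgroup G) (hn₁ : H₁ ≤ Hc ∧ Hc ≤ Subgroup.normalizer ((H₁ : Subgroup G) : Set G)) (hn₂ : H₂ ≤ Hc ∧ Hc ≤ Subgroup.normalizer ((H₂ : Subgroup G) : Set G)) (hprod : H₁ ⊔ H₂ = Hc) (hcomm : ⁅H₁, H₂⁆ ≤ Subgroup.normalizer ((Q : Subgroup G) : Set G)) (K₁ K₂ : Subgroup G) (hK₁ : K₁ = ((Cfsg.pResidual p ↥(Cfsg.weakClosure Q (H₁ ⊔ Q))).map ((Cfsg.weakClosure Q (H₁ ⊔ Q))).subtype)) (hK₂ : K₂ = ((Cfsg.pResidual p ↥(Cfsg.weakClosure Q (H₂ ⊔ Q))).map ((Cfsg.weakClosure Q (H₂ ⊔ Q))).subtype)) : (⁅K₁, Q⁆ = K₁ ∧ ⁅K₁, H₁⁆ = K₁ ∧ K₁ ≤ ⁅H₁, H₁⁆ ∧ Hc ≤ Subgroup.normalizer ((K₁ : Subgroup G) : Set G)) ∧ (⁅K₂, Q⁆ = K₂ ∧ ⁅K₂, H₂⁆ =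 K₂ ∧ K₂ ≤ ⁅H₂, H₂⁆ ∧ Hc ≤ Subgroup.normalizer ((K₂ : Subgroup G) : Set G)) ∧ K₁ ⊔ K₂ = ((Cfsg.pResidual p ↥Hc).map (Hc).subtype) ∧ ⁅K₁, K₂⁆ ≤ (Cfsg.pCoreOf p Hc) := by
  obtain ⟨h1, hK1H, hK12, hW1, hW1c⟩ := weak_half hQp hwc Hc hHc H₁ H₂ hn₁ hn₂ hprod hcomm
  obtain ⟨h2, hK2H, hK21, hW2, hW2c⟩ :=
    weak_half hQp hwc Hc hHc H₂ H₁ hn₂ hn₁ (sup_comm H₁ H₂ ▸ hprod) (commutator_comm H₁ H₂ ▸ hcomm)
  change K₁ = resOf p _ at hK₁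
  change K₂ = resOf p _ at hK₂
  subst hK₁ hK₂
  refine ⟨h1, h2, le_antisymm (sup_le (resOf_mono hW1c) (resOf_mono hW2c)) ?_,
    (commutator_mono le_rfl hK2H).trans hK12⟩
  set A := resOf p (Cfsg.weakClosure Q (H₁ ⊔ Q)) ⊔ resOf p (Cfsg.weakClosure Q (H₂ ⊔ Q)) with hA
  have hQc : Q ≤ Hc := hHc ▸ le_weakClosure le_top
  have hAn : Hc ≤ normalizer (A : Set G) := le_normalizer_sup h1.2.2.2 h2.2.2.2
  have hQA : Q ≤ normalizer (A : Set G) := hQc.trans hAn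
  -- A ⊔ Q is normalised by H₁ and H₂
  have key : ∀ H : Subgroup G, H ≤ Hc → Cfsg.weakClosure Q (H ⊔ Q) ≤ A ⊔ Q →
      H ≤ normalizer ((A ⊔ Q : Subgroup G) : Set G) := by
    intro H hHle hW
    rw [le_normalizer_iff]
    intro g hg x hx
    have h : cj (A ⊔ Q) g ≤ A ⊔ Q := by
      rw [cj_sup]
      refine sup_le ((cj_eq_self_iff.2 (hAn (hHle hg))).le.trans le_sup_left) ?_
      refine le_trans (le_weakClosure_of_cj_le ?_) hW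
      exact (cj_mono (le_sup_right : Q ≤ H ⊔ Q) g).trans (cj_le_of_mem (mem_sup_left hg))
    exact h (mem_cj.2 (by simpa [mul_assoc] using hx))
  have hN : Hc ≤ normalizer ((A ⊔ Q : Subgroup G) : Set G) := by
    conv_lhs => rw [← hprod]
    refine sup_le (key H₁ hn₁.1 ?_) (key H₂ hn₂.1 ?_)
    · rw [← hW1]; exact sup_le (le_sup_left.trans le_sup_left) le_sup_right
    · rw [← hW2]; exact sup_le (le_sup_right.trans le_sup_left) le_sup_right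
  have hall : Hc ≤ A ⊔ Q := by
    conv_lhs => rw [hHc]
    refine weakClosure_le fun g hg => ?_
    obtain ⟨k, hk, e⟩ := H59.exists_conj_of_le hQp hwc hQc (g := g) (hHc ▸ le_weakClosure_of_cj_le hg)
    rw [e]
    exact (cj_mono le_sup_right k).trans (cj_eq_self_iff.2 (hN hk)).le
  exact resOf_le_of_sup hQp hAn hall hQA

end Cfsg.Agent.S2859
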