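import Cfsg.Statements.S2860
import Cfsg.Agent.H60.WeakResidual
import Cfsg.Agent.H60.FrakM
import Cfsg.Agent.Components.Basic
import Cfsg.Agent.Cores.PCore

set_option autoImplicit false
set_option linter.style.haveILetI false
open Cfsg

namespace Cfsg.Agent.S2860

open Subgroup Cfsg.Agent.H60
open scoped commutatorElement

theorem eq_bot_of_centralizes {X : Type*} [Group X] [Finite X] {p : ℕ} [Fact p.Prime]
    (hcore : Cfsg.pCore p X = ⊥) (K : Subgroup X) (hK : K = Cfsg.pResidual p X)
    (A : Subgroup X) (hA : IsPGroup p A) (hAK : ⁅K, A⁆ = ⊥) : A = ⊥ := by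
  haveI : K.Normal := hK ▸ inferInstance
  set Cx := centralizer (K : Set X)
  haveI : Cx.Normal := normalizer_eq_top_iff.1 (top_le_iff.1 (le_trans
    (normalizer_eq_top_iff.2 (inferInstance : K.Normal)).ge (normalizer_le_normalizer_centralizer K)))
  have hACx : A ≤ Cx := commutator_eq_bot_iff_le_centralizer.1 (commutator_comm K A ▸ hAK)
  have hq : IsPGroup p (X ⧸ K) := (Fusion.isPGroup_quotient_pResidual (p := p) (G := X)).of_equiv
    (QuotientGroup.quotientMulEquivOfEq hK.symm)
  haveI := hq.isNilpotent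
  set f : ↥Cx →* X ⧸ K := (QuotientGroup.mk' K).comp Cx.subtype with hf
  have hker : f.ker ≤ center ↥Cx := by
    intro z hz
    have hzK : (z : X) ∈ K := (QuotientGroup.eq_one_iff _).1 hz
    rw [mem_center_iff]
    intro c
    exact Subtype.ext (c.2 _ hzK).symm
  haveI : Group.IsNilpotent ↥Cx := Subgroup.isNilpotent_of_ker_le_center f hker
  obtain ⟨P, hP⟩ := (hA.comap_subtype : IsPGroup p (A.subgroupOf Cx)).exists_le_sylow
  haveI : (P : Subgroup Cx).Normal := Sylow.normal_of_normalizerCondition Group.normalizerCondition_of_isNilpotent P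
  have h1 : A.subgroupOf Cx ≤ Cfsg.pCore p ↥Cx := hP.trans (Cores.le_pCore P.2)
  have h2 := (Subgroup.map_mono (f := Cx.subtype) h1).trans (Cores.map_pCore_le_of_normal Cx)
  rw [hcore, subgroupOf_map_subtype, inf_of_le_left hACx] at h2
  exact le_bot_iff.1 h2

theorem qs_central_lift {X : Type*} [Group X] [Finite X] (K C : Subgroup X) [K.Normal] [C.Normal]
    (hperf : ⁅(⊤ : Subgroup X), (⊤ : Subgroup X)⁆ = (⊤ : Subgroup X)) (hKC : K ≤ C) (hc : ⁅C, (⊤ : Subgroup X)⁆ ≤ K)
    (hqs : Cfsg.IsQuasisimple (X ⧸ C)) : Cfsg.IsQuasisimple (X ⧸ K) := by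
  set π := QuotientGroup.mk' K with hπ
  set ρ : X ⧸ K →* X ⧸ C := QuotientGroup.map K C (MonoidHom.id X) (by simpa using hKC) with hρ
  have hρs : Function.Surjective ρ := fun z => by
    obtain ⟨z, rfl⟩ := QuotientGroup.mk'_surjective C z
    exact ⟨π z, rfl⟩
  have hρπ : ∀ z : X, ρ (π z) = QuotientGroup.mk' C z := fun z => rfl
  have hkerc : ∀ u, ρ u = 1 → u ∈ center (X ⧸ K) := by
    intro u hu
    obtain ⟨u, rfl⟩ := QuotientGroup.mk'_surjective K u
    rw [hρπ, QuotientGroup.mk'_apply, QuotientGroup.eq_one_iff] at hu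
    rw [mem_center_iff]
    intro v
    obtain ⟨v, rfl⟩ := QuotientGroup.mk'_surjective K v
    refine (commutatorElement_eq_one_iff_mul_comm.1 ?_).symm
    rw [← map_commutatorElement, QuotientGroup.mk'_apply, QuotientGroup.eq_one_iff]
    exact hc (commutator_mem_commutator hu (mem_top v))
  have hp : Group.IsPerfect (X ⧸ K) := by
    rw [Group.isPerfect_def, commutator_def, ← map_top_of_surjective π (QuotientGroup.mk'_surjective K),
      ← Subgroup.map_commutator, hperf]
  haveI : Nontrivial (X ⧸ K) := by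
    haveI := Components.qs_nontrivial hqs
    exact hρs.nontrivial
  refine Components.qs_of_perfect hp fun N hN hne => ?_
  haveI := hN
  haveI : (N.map ρ).Normal := hN.map ρ hρs
  have hlow : N.map ρ ≤ center (X ⧸ C) := by
    refine Components.qs_normal_le_center hqs _ fun ht => hne ?_
    -- N covers the quotient, so it contains the derived subgroup
    have hsup : ∀ u : X ⧸ K, ∃ n ∈ N, n⁻¹ * u ∈ center (X ⧸ K) := fun u => by
      obtain ⟨n, hn, e⟩ : ρ u ∈ N.map ρ := ht ▸ mem_top _
      exact ⟨n, hn, hkerc _ (by rw [map_mul, map_inv, e, inv_mul_cancel])⟩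
    refine top_le_iff.1 (hp.commutator_eq_top ▸ ?_)
    rw [commutator_def, commutator_le]
    intro a _ b _
    obtain ⟨n, hn, ha⟩ := hsup a
    have e : ⁅a, b⁆ = ⁅n, b⁆ := by
      set z := n⁻¹ * a
      have haz : a = n * z := by simp [z]
      have hzb : z * b * z⁻¹ = b := by rw [← mem_center_iff.1 ha b, mul_inv_cancel_right]
      rw [haz, commutatorElement_def, commutatorElement_def]
      calc n * z * b * (n * z)⁻¹ * b⁻¹ = n * (z * b * z⁻¹) * n⁻¹ * b⁻¹ := by group
        _ = _ := by rw [hzb]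
    rw [e]
    exact commutator_le_left N ⊤ (commutator_mem_commutator hn (mem_top b))
  have h2 : ⁅⁅(⊤ : Subgroup (X ⧸ K)), N⁆, (⊤ : Subgroup (X ⧸ K))⁆ = ⊥ := by
    rw [eq_bot_iff, commutator_le]
    intro u hu v _
    refine mem_bot.2 (commutatorElement_eq_one_iff_mul_comm.2 ?_)
    refine (mem_center_iff.1 (hkerc u ?_) v).symm
    have h3 : ⁅(⊤ : Subgroup (X ⧸ K)), N⁆ ≤ ρ.ker := by
      rw [commutator_le]
      intro a _ b hb
      rw [MonoidHom.mem_ker, map_commutatorElement, commutatorElement_eq_one_iff_mul_comm]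
      exact mem_center_iff.1 (hlow (mem_map_of_mem ρ hb)) _
    exact h3 hu
  have hperfK : ⁅(⊤ : Subgroup (X ⧸ K)), (⊤ : Subgroup (X ⧸ K))⁆ = (⊤ : Subgroup (X ⧸ K)) := by rw [← commutator_def]; exact hp.commutator_eq_top
  exact commutator_top_left_eq_bot_iff_le_center.1 (Components.commutator_eq_bot_of_perfect hperfK h2)


/-- Let Q be a nontrivial large p-subgroup of the finite group H, U a nontrivial elementary abelian p-subgroup of H, and Q ≤ E ≤ N_H(U) with Q not normal in E. Suppose O_p(E/C_E(U)) = 1 and O^p(E)·C_E(U)/C_E(U) is quasisimple. Let E° be the weak closure of Q in E (generated by the conjugates of Q inside E) and E_∘ = O^p(E°). Then O^p(E)·C_E(U) = E_∘·C_E(U); E_∘ is perfect and equals O^p(E_∘); E_∘/C_{E_∘}(U) and E_∘/O_p(E_∘) are quasisimple; and E_∘ = [E_∘, Y] for every p-subgroup Y of E not centralizing U. -/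
theorem result {G : Type*} [Group G] [Finite G] {p : ℕ} [Fact p.Prime] (Q : Subgroup G) (hQp : IsPGroup p ↥Q) (hQ1 : Q ≠ ⊥) (hQ : Cfsg.IsLarge Q) (U : Subgroup G) (hU : Cfsg.IsElementaryAbelian p U) (hU1 : U ≠ ⊥) (E : Subgroup G) (hQE : Q ≤ E) (hEU : E ≤ Subgroup.normalizer ((U : Subgroup G) : Set G)) (hQn : ¬ E ≤ Subgroup.normalizer ((Q : Subgroup G) : Set G)) [hn : ((Subgroup.centralizer ((U : Subgroup G) : Set G)).subgroupOf E).Normal] (hred : Cfsg.pCore p (↥E ⧸ (Subgroup.centralizer ((U : Subgroup G) : Set G)).subgroupOf E) = ⊥) (hqs : Cfsg.IsQuasisimple ↥(((Cfsg.pResidual p ↥E) ⊔ (Subgroup.centralizer ((U : Subgroup G) : Set G)).subgroupOf E).map (QuotientGroup.mk' ((Subgroup.centralizer ((U : Subgroup G) : Set G)).subgroupOf E)))) (Er : Subgroup G) (hEr : Er = ((Cfsg.pResidual p ↥(Cfsg.weakClosure Q E)).map ((Cfsg.weakClosure Q E)).subtype)) [hn2 : ((Subgroup.centralizer ((U : Subgroup G) : Set G)).subgroupOf Er).Normal] : ((Cfsg.pResidual p ↥E).map (E).subtype) ⊔ (E ⊓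 Subgroup.centralizer ((U : Subgroup G) : Set G)) = Er ⊔ (E ⊓ Subgroup.centralizer ((U : Subgroup G) : Set G)) ∧ ⁅Er, Er⁆ = Er ∧ ((Cfsg.pResidual p ↥Er).map (Er).subtype) = Er ∧ Cfsg.IsQuasisimple (↥Er ⧸ (Subgroup.centralizer ((U : Subgroup G) : Set G)).subgroupOf Er) ∧ Cfsg.IsQuasisimple (↥Er ⧸ Cfsg.pCore p ↥Er) ∧ ∀ Y : Subgroup G, Y ≤ E → IsPGroup p ↥Y → ¬ Y ≤ Subgroup.centralizer ((U : Subgroup G) : Set G) → ⁅Er, Y⁆ = Er := by
  classical
  set C := E ⊓ centralizer (U : Set G) with hC
  set C' := (centralizer (U : Set G)).subgroupOf E with hC'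
  have hCE : C ≤ E := inf_le_left
  have hQc : E ≤ normalizer (C : Set G) := le_normalizer_inf le_normalizer
    (hEU.trans (normalizer_le_normalizer_centralizer U))
  have hCN : C ≤ normalizer (Q : Set G) := le_trans inf_le_right
    (large_centralizer_le_normalizer hQ hQp (isPGroup_of_isElementaryAbelian hU) hU1 (hQE.trans hEU))
  have hwc : Cfsg.IsWeaklyClosedSubgroup p Q := by
    obtain ⟨T, hT⟩ := hQp.exists_le_sylow
    exact ⟨T, hT, fun g hg => large_cj_eq_of_le_sylow hQ hQ1 T hT g hg⟩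
  set R := Cfsg.pCoreOf p E with hR
  have hRp : IsPGroup p R := pCoreOf_isPGroup E
  have hRn : E ≤ normalizer (R : Set G) := le_normalizer_pCoreOf E
  have hQR : ¬ Q ≤ R := fun h => hQn (hRn.trans (H59.normalizer_le_of_isWeaklyClosed hwc hRp h))
  have hCQ : C ⊓ Q ≤ R := by
    refine (le_pCoreOf (inf_le_left : C ⊓ Q ≤ C) (le_normalizer_inf le_normalizer hCN)
      (hQp.to_le inf_le_right)).trans ?_
    exact le_pCoreOf ((pCoreOf_le C).trans hCE) (hQc.trans (normalizer_le_normalizer_pCoreOf C)) (pCoreOf_isPGroup C)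
  -- W and Er
  set W := Cfsg.weakClosure Q E with hW
  have hQW : Q ≤ W := le_weakClosure hQE
  have hWE : W ≤ E := weakClosure_le_self Q E
  have hWn : E ≤ normalizer (W : Set G) := le_trans le_normalizer (normalizer_le_normalizer_weakClosure Q E)
  obtain ⟨hWQ, hErQ⟩ := resOf_commutator hQp hQW (fun N hQN hWN => by
    refine weakClosure_le fun g hg => ?_
    obtain ⟨k, hk, e⟩ := H59.exists_conj_of_le hQp hwc hQW (g := g) (le_weakClosure_of_cj_le hg)
    rw [e]
    exact (cj_mono hQN k).trans (cj_eq_self_iff.2 (hWN hk)).le)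
  change Er = resOf p W at hEr
  rw [← hEr] at hWQ hErQ
  have hErW : Er ≤ W := hEr ▸ resOf_le W
  have hErE : Er ≤ E := hErW.trans hWE
  have hErn : E ≤ normalizer (Er : Set G) := hEr ▸ le_normalizer_resOf hWn
  have hres : resOf p Er = Er := by rw [hEr, resOf_resOf]
  have hCW : ⁅C, W⁆ ≤ R := by
    rw [commutator_comm]
    refine le_trans (le_of_eq (congrArg (⁅·, C⁆) hW)) (iSup_commutator_le (fun g => ?_) fun g => ?_)
    · exact (show cj Q g.1 ≤ E from g.2).trans hRn
    · obtain ⟨k, hk, e⟩ := H59.exists_conj_of_le hQp hwc hQE (g := g.1) g.2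
      show ⁅cj Q g.1, C⁆ ≤ R
      rw [e, ← cj_eq_self_iff.2 (hQc hk)]
      show ⁅Q.map _, C.map _⁆ ≤ R
      rw [← map_commutator]
      refine (cj_mono ?_ k).trans (cj_eq_self_iff.2 (hRn hk)).le
      rw [commutator_comm]
      exact (commutator_le_inf_of_le_normalizer hCN (hQE.trans hQc)).trans hCQ
  have hCEr : ⁅C ⊓ Er, Er⁆ ≤ Cfsg.pCoreOf p Er := by
    refine le_pCoreOf ((commutator_mono inf_le_right le_rfl).trans ?_) (normalizer_commutator_ge_right _ _)
      (hRp.to_le ((commutator_mono inf_le_left hErW).trans hCW))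
    rw [commutator_le]
    intro a ha b hb
    rw [commutatorElement_def]
    exact mul_mem (mul_mem (mul_mem ha hb) (inv_mem ha)) (inv_mem hb)
  -- the quotient
  set π := QuotientGroup.mk' C' with hπ
  let im : Subgroup G → Subgroup (↥E ⧸ C') := fun A => (A.subgroupOf E).map π
  have him_le : ∀ A B : Subgroup G, A ≤ E → B ≤ E → im A ≤ im B → A ≤ B ⊔ C := by
    intro A B hA hB h a ha
    obtain ⟨b, hb, e⟩ := h (mem_map_of_mem π (show (⟨a, hA ha⟩ : E) ∈ A.subgroupOf E from ha))
    have h1 : (b : G)⁻¹ * a ∈ centralizer (U : Set G) := (QuotientGroup.eq (s := C')).1 e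
    rw [show a = (b : G) * ((b : G)⁻¹ * a) by group]
    exact mul_mem (mem_sup_left hb) (mem_sup_right (mem_inf.2 ⟨mul_mem (inv_mem b.2) (hA ha), h1⟩))
  have him_comm : ∀ A B : Subgroup G, A ≤ E → B ≤ E → im ⁅A, B⁆ = ⁅im A, im B⁆ := by
    intro A B hA hB
    show (⁅A, B⁆.subgroupOf E).map π = ⁅(A.subgroupOf E).map π, (B.subgroupOf E).map π⁆
    rw [← map_commutator]
    congr 1
    apply Subgroup.map_injective E.subtype_injective
    rw [map_commutator, subgroupOf_map_subtype, subgroupOf_map_subtype, subgroupOf_map_subtype, inf_of_le_left hA,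
      inf_of_le_left hB, inf_of_le_left ((commutator_mono hA hB).trans ?_)]
    rw [commutator_le]
    intro a ha b hb
    rw [commutatorElement_def]
    exact mul_mem (mul_mem (mul_mem ha hb) (inv_mem ha)) (inv_mem hb)
  have him_n : ∀ A : Subgroup G, E ≤ normalizer (A : Set G) → (im A).Normal := fun A hA =>
    (normal_subgroupOf_of_le_normalizer hA).map π (QuotientGroup.mk'_surjective C')
  set X := (Cfsg.pResidual p ↥E).map π with hX
  have hXres : X = Cfsg.pResidual p (↥E ⧸ C') :=
    Fusion.map_pResidual_of_surjective π (QuotientGroup.mk'_surjective C')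
  have hXsup : (Cfsg.pResidual p ↥E ⊔ C').map π = X := by
    rw [Subgroup.map_sup, (Subgroup.map_eq_bot_iff _).2 (QuotientGroup.ker_mk' C').ge, sup_bot_eq]
  have hXqs : Cfsg.IsQuasisimple X := hXsup ▸ hqs
  have hXperf : ⁅X, X⁆ = X := Components.qsSub_perfect hXqs
  haveI hXn : X.Normal := (Fusion.pResidual_normal).map π (QuotientGroup.mk'_surjective C')
  have hresE : im (resOf p E) = X := by
    show ((Cfsg.pResidual p ↥E).map E.subtype |>.subgroupOf E).map π = X
    rw [subgroupOf, comap_map_eq_self_of_injective E.subtype_injective]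
  -- im Er = X
  have hErX : im Er ≤ X := hresE ▸ Subgroup.map_mono (comap_mono (hEr ▸ resOf_mono hWE))
  haveI := him_n W hWn
  have hXW : X ≤ im W := by
    rcases Components.qs_subnormal_le_or_commutator_eq_bot hXqs le_top
      ((inferInstance : X.Normal).subgroupOf ⊤).isSubnormal (N := im W) le_top
      (normalizer_eq_top_iff.2 inferInstance).ge with h | h
    · exact h
    exfalso
    have h1 : im Er ≤ im (⊥ : Subgroup G) := by
      calc im Er = ⁅im Er, im Q⁆ := by rw [← him_comm Er Q hErE hQE, hErQ]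
        _ ≤ ⁅X, im W⁆ := commutator_mono hErX (Subgroup.map_mono (comap_mono hQW))
        _ ≤ _ := h.le.trans bot_le
    have h2 : Er ≤ C := (him_le Er ⊥ hErE bot_le h1).trans (by rw [bot_sup_eq])
    have h3 : im W = im Q := by
      refine le_antisymm ?_ (Subgroup.map_mono (comap_mono hQW))
      rintro _ ⟨w, hw, rfl⟩
      obtain ⟨a, ha, b, hb, hab⟩ := mem_sup_mul (hQE.trans hErn) (sup_comm Er Q ▸ hWQ.ge (show (w : G) ∈ W from hw))
      refine ⟨⟨a, hQE ha⟩, ha, ?_⟩
      refine (QuotientGroup.eq (s := C')).2 ?_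
      show a⁻¹ * (w : G) ∈ centralizer (U : Set G)
      rw [hab, inv_mul_cancel_left]
      exact (mem_inf.1 (h2 hb)).2
    have h4 : im Q = ⊥ := by
      have hp' : IsPGroup p (im W) := by rw [h3]; exact hQp.comap_subtype.map π
      have := Cores.le_pCore hp'
      rw [hred, h3] at this
      exact le_bot_iff.1 this
    have h5 : Q ≤ C := by
      refine (him_le Q ⊥ hQE bot_le (h4.le.trans bot_le)).trans ?_
      rw [bot_sup_eq]
    exact hQR ((le_inf h5 le_rfl).trans hCQ)
  have hWC : E ⊓ normalizer (C : Set G) = E := inf_of_le_left hQc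
  have hone : resOf p E ≤ Er ⊔ C := by
    have h1 : resOf p E ≤ W ⊔ C := him_le _ W (resOf_le E) hWE (hresE ▸ hXW)
    have hn' : E ≤ normalizer ((Er ⊔ C : Subgroup G) : Set G) := le_normalizer_sup hErn hQc
    calc resOf p E = resOf p (resOf p E) := (resOf_resOf E).symm
      _ ≤ resOf p (W ⊔ C) := resOf_mono h1
      _ ≤ Er ⊔ C := resOf_le_of_sup hQp ((sup_le hWE hCE).trans hn')
          (by rw [← hWQ]; exact sup_le (sup_le (le_sup_left.trans le_sup_left) le_sup_right)
                (le_sup_right.trans le_sup_left)) (hQE.trans hn')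
  have hErXeq : im Er = X := by
    refine le_antisymm hErX (hresE ▸ ?_)
    rintro _ ⟨w, hw, rfl⟩
    obtain ⟨a, ha, b, hb, hab⟩ := mem_sup_mul (hErE.trans hQc) (hone (show (w : G) ∈ resOf p E from hw))
    refine ⟨⟨a, hErE ha⟩, ha, (QuotientGroup.eq (s := C')).2 ?_⟩
    show a⁻¹ * (w : G) ∈ centralizer (U : Set G)
    rw [hab, inv_mul_cancel_left]
    exact (mem_inf.1 hb).2
  have hperf : ⁅Er, Er⁆ = Er := by
    set D := ⁅Er, Er⁆ with hD
    have hDEr : D ≤ Er := commutator_le.2 fun a ha b hb => by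
      rw [commutatorElement_def]
      exact mul_mem (mul_mem (mul_mem ha hb) (inv_mem ha)) (inv_mem hb)
    have hDn : E ≤ normalizer (D : Set G) := by
      rw [le_normalizer_iff]
      intro g hg x hx
      have h : cj D g ≤ D := by
        show D.map _ ≤ _
        rw [hD, map_commutator]
        exact commutator_mono (cj_eq_self_iff.2 (hErn hg)).le (cj_eq_self_iff.2 (hErn hg)).le
      exact h (mem_cj.2 (by simpa [mul_assoc] using hx))
    have h1 : Er ≤ D ⊔ C := him_le Er D hErE (hDEr.trans hErE) (by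
      rw [hD, him_comm Er Er hErE hErE, hErXeq, hXperf])
    refine le_antisymm hDEr ?_
    have h2 : Er ≤ D ⊔ R := by
      refine hErQ.ge.trans (commutator_le.2 fun x hx q hq => ?_)
      obtain ⟨a, ha, c, hc, rfl⟩ := mem_sup_mul ((hDEr.trans hErE).trans hQc) (h1 hx)
      have e : ⁅a * c, q⁆ = (a * ⁅c, q⁆ * a⁻¹) * ⁅a, q⁆ := by simp only [commutatorElement_def]; group
      rw [e]
      refine mul_mem (mem_sup_right ((mem_normalizer_iff.1 (hRn (hErE (hDEr ha))) _).1
        (hCW (commutator_mem_commutator hc (hQW hq))))) (mem_sup_left ?_)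
      exact commutator_le_of_le_normalizer (hQE.trans hDn) (commutator_comm D Q ▸ commutator_mem_commutator ha hq)
    calc Er = resOf p Er := hres.symm
      _ ≤ D := resOf_le_of_sup hRp (hErE.trans hDn) h2 ((pCoreOf_le E).trans hDn)
  set ψ : ↥Er →* ↥E ⧸ C' := π.comp (inclusion hErE) with hψ
  have hψker : ψ.ker = (centralizer (U : Set G)).subgroupOf Er := by
    ext z
    show π (inclusion hErE z) = 1 ↔ (z : G) ∈ centralizer (U : Set G)
    exact QuotientGroup.eq_one_iff _
  have hψrange : ψ.range = X := by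
    rw [← hErXeq, hψ, MonoidHom.range_comp]
    congr 1
    ext z
    exact ⟨fun ⟨a, ha⟩ => ha ▸ a.2, fun hz => ⟨⟨z, hz⟩, rfl⟩⟩
  have hqs4 : Cfsg.IsQuasisimple (↥Er ⧸ (centralizer (U : Set G)).subgroupOf Er) := by
    refine Components.qs_congr ?_ hXqs
    exact ((QuotientGroup.quotientMulEquivOfEq hψker.symm).trans
      ((QuotientGroup.quotientKerEquivRange ψ).trans (MulEquiv.subgroupCongr hψrange))).symm
  refine ⟨le_antisymm (sup_le hone le_sup_right) (sup_le ((hEr ▸ resOf_mono hWE).trans le_sup_left) le_sup_right),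
    hperf, hres, hqs4, ?_, ?_⟩
  · refine qs_central_lift (Cfsg.pCore p ↥Er) ((centralizer (U : Set G)).subgroupOf Er) ?_ ?_ ?_ hqs4
    · apply Subgroup.map_injective Er.subtype_injective
      rw [map_commutator, ← MonoidHom.range_eq_map, range_subtype, hperf]
    · intro z hz
      have h1 : (z : G) ∈ R := by
        refine le_pCoreOf ((pCoreOf_le Er).trans hErE) (hErn.trans (normalizer_le_normalizer_pCoreOf Er))
          (pCoreOf_isPGroup Er) ⟨z, hz, rfl⟩
      have h2 : im R ≤ Cfsg.pCore p (↥E ⧸ C') := by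
        haveI := him_n R hRn
        exact Cores.le_pCore (hRp.comap_subtype.map π)
      rw [hred] at h2
      have h3 : π ⟨(z : G), hErE z.2⟩ = 1 := mem_bot.1 (h2 (mem_map_of_mem π (show (⟨(z : G), hErE z.2⟩ : E) ∈ R.subgroupOf E from h1)))
      exact (QuotientGroup.eq_one_iff (N := C') _).1 h3
    · rw [commutator_le]
      intro a ha b _
      obtain ⟨c, hc, hce⟩ := hCEr (commutator_mem_commutator (show (a : G) ∈ C ⊓ Er from
        mem_inf.2 ⟨mem_inf.2 ⟨hErE a.2, ha⟩, a.2⟩) b.2)
      have : c = ⁅a, b⁆ := Subtype.ext hce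
      exact this ▸ hc
  · intro Y hYE hYp hYU
    set F := ⁅Er, Y⁆ with hF
    have hFEr : F ≤ Er := by
      rw [hF, commutator_comm]; exact commutator_le_of_le_normalizer (hYE.trans hErn)
    have hFn : Er ≤ normalizer (F : Set G) := normalizer_commutator_ge_left Er Y
    refine le_antisymm hFEr ?_
    have hFX : X ≤ normalizer (im F : Set (↥E ⧸ C')) := by
      rw [← hErXeq]
      rintro _ ⟨z, hz, rfl⟩
      have hn : z ∈ normalizer ((F.subgroupOf E : Subgroup E) : Set E) := by
        rw [← subgroupOf_normalizer_eq (hFEr.trans hErE)]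
        exact hFn hz
      exact Subgroup.le_normalizer_map π ⟨z, hn, rfl⟩
    have hXF : X ≤ im F := by
      rcases Components.qsSub_normal (N := im F) hXqs hFX with h | h
      · exact h
      · exfalso
        rw [inf_eq_right.2 (hErXeq ▸ Subgroup.map_mono (comap_mono hFEr))] at h
        rw [hF, him_comm Er Y hErE hYE, hErXeq, commutator_comm] at h
        have h1 := Components.commutator_eq_bot_of_perfect hXperf h
        have h2 := eq_bot_of_centralizes hred X hXres (im Y) (hYp.comap_subtype.map π) h1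
        exact hYU ((him_le Y ⊥ hYE bot_le (h2.le.trans bot_le)).trans (by rw [bot_sup_eq]; exact inf_le_right))
    have h1 : Er ≤ F ⊔ C := him_le Er F hErE (hFEr.trans hErE) (hErXeq ▸ hXF)
    have hpn : Er ≤ normalizer (Cfsg.pCoreOf p Er : Set G) := le_normalizer_pCoreOf Er
    have h2 : Er ≤ F ⊔ Cfsg.pCoreOf p Er := by
      refine hperf.ge.trans (commutator_le.2 fun x hx y hy => ?_)
      obtain ⟨f, hf, c, hc, rfl⟩ := mem_sup_mul ((hFEr.trans hErE).trans hQc) (h1 hx)
      have hcEr : c ∈ Er := by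
        have := mul_mem (inv_mem (hFEr hf)) hx
        rwa [inv_mul_cancel_left] at this
      have e : ⁅f * c, y⁆ = (f * ⁅c, y⁆ * f⁻¹) * ⁅f, y⁆ := by simp only [commutatorElement_def]; group
      rw [e]
      refine mul_mem (mem_sup_right ((mem_normalizer_iff.1 (hpn (hFEr hf)) _).1
        (hCEr (commutator_mem_commutator (mem_inf.2 ⟨hc, hcEr⟩) hy)))) (mem_sup_left ?_)
      exact commutator_le_of_le_normalizer hFn (commutator_comm F Er ▸ commutator_mem_commutator hf hy)
    calc Er = resOf p Er := hres.symm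
      _ ≤ F := resOf_le_of_sup (pCoreOf_isPGroup Er) hFn h2 ((pCoreOf_le Er).trans hFn)

end Cfsg.Agent.S2860
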