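import Cfsg.Statements.S2861
import Cfsg.Agent.H60.BorelFrakL

set_option autoImplicit false
open Cfsg

namespace Cfsg.Agent.S2861

open Cfsg.Agent.H60


/-- Standing hypotheses: G a finite group, S a Sylow p-subgroup, Q a nontrivial large p-subgroup of G contained in S, M a subgroup containing S with the basic property (M ∈ 𝔐_G(S)); Y_M the largest p-reduced normal subgroup of M and M† = M·C_G(Y_M). Let L ∈ 𝔏_G(Y_M) (L ∈ 𝔏_G(Y_M): Y_M ≤ L; O_p(L) is the normal closure in L of Y_M ∩ O_p(L) and normalizes Y_M; L is Y_M-minimal of characteristic p with N_L(Y_M) its unique maximal subgroup over Y_M; and L/O_p(L) ≅ SL₂(q) with q = |Y_M : Y_M ∩ O_p(L)|, or p = 2 and L/O_p(L) is a Suzuki group Sz(q) or dihedral of order 2r, r an odd prime) and A = O_p(L). Then Y_M·A/A is the unique nontrivial elementary abelian normal p-subgroup of N_L(Y_M)/A. -/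
theorem result {G : Type*} [Group G] [Finite G] {p : ℕ} [Fact p.Prime] (S : Sylow p G) (Q : Subgroup G) (hQp : IsPGroup p ↥Q) (hQ1 : Q ≠ ⊥) (hQS : Q ≤ (S : Subgroup G)) (hQ : Cfsg.IsLarge Q) (M : Subgroup G) (hSM : (S : Subgroup G) ≤ M) (hM : Cfsg.IsInFrakM p M) (L : Subgroup G) (hL : Cfsg.IsInFrakL p M L) (NL : Subgroup G) (hNL : NL = L ⊓ Subgroup.normalizer (((Cfsg.largestPReducedOf p M) : Subgroup G) : Set G)) [hn : (((Cfsg.pCoreOf p L)).subgroupOf NL).Normal] : let Ybar : Subgroup (↥NL ⧸ ((Cfsg.pCoreOf p L)).subgroupOf NL) := (((Cfsg.largestPReducedOf p M)).subgroupOf NL).map (QuotientGroup.mk' (((Cfsg.pCoreOf p L)).subgroupOf NL)); Ybar ≠ ⊥ ∧ Ybar.Normal ∧ Cfsg.IsElementaryAbelian p Ybar ∧ ∀ (V : Subgroup (↥NL ⧸ ((Cfsg.pCoreOf p L)).subgroupOf NL)), V.Normal → Cfsg.IsElementaryAbelian p V → V ≠ ⊥ → V = Ybar := by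
  have hp : p.Prime := Fact.out
  intro Ybar
  obtain ⟨-, -, -, -, -, -, hcases⟩ := id hL
  rcases hcases with ⟨F, _, _, hF, ⟨e⟩⟩ | ⟨rfl, F, _, _, m, hm, hF, ⟨e⟩⟩ | ⟨rfl, r, hr, hr2, ⟨e⟩⟩
  · refine borel_conclude hL e (fun P hPp hP1 hPc hexp => ?_) NL hNL
    have hcF : Nat.card P = Fintype.card F := by rw [hPc, hF]
    obtain ⟨k, hk⟩ := IsPGroup.iff_card.1 hPp
    haveI : CharP F p := charP_of_card_eq_prime_pow (f := k) (by rw [← hcF, hk])
    exact borelPair_SL hPp hcF
  · rcases Nat.eq_zero_or_pos m with rfl | hm1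
    · refine borel_conclude hL e (fun P hPp hP1 hPc hexp => ?_) NL hNL
      obtain ⟨-, h2, -⟩ := goodSz_zero (by simpa using hm) hP1 hexp
      exact ⟨fun u hu hn => by simpa using h2 u 1 hu (by simpa using hn),
        fun V hV _ h1 => irreducible_of_card_prime Nat.prime_two (by rw [hPc, ← hF, hm]; norm_num) V hV h1⟩
    · haveI : Cfsg.Agent.Suzuki.SzField F m := ⟨hm, hm1⟩
      obtain ⟨i⟩ := nonempty_lieSz_equiv (F := F) m
      refine borel_conclude hL (e.trans i) (fun P hPp hP1 hPc hexp => ?_) NL hNL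
      exact borelPair_Sz m hPp (by rw [hPc, ← hF, Nat.card_eq_fintype_card]) hexp
  · refine borel_conclude hL e (fun P hPp hP1 hPc hexp => ?_) NL hNL
    haveI : NeZero r := ⟨hr.ne_zero⟩
    have hcard : Nat.card (DihedralGroup r) = 2 * r := DihedralGroup.nat_card
    have h2 : ∀ T : Sylow 2 (DihedralGroup r), Nat.card T = 2 := by
      intro T
      rw [T.card_eq_multiplicity, hcard, Nat.factorization_mul (by norm_num) hr.ne_zero,
        Finsupp.add_apply, Nat.prime_two.factorization_self, hr.factorization]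
      simp [Finsupp.single_eq_of_ne (Ne.symm hr2)]
    have hc2 : Nat.card P = 2 := by
      obtain ⟨T, hT⟩ := hPp.exists_le_sylow
      have hd := Subgroup.card_dvd_of_le hT
      rw [h2 T] at hd
      rcases (Nat.dvd_prime Nat.prime_two).1 hd with h1 | h1
      · exact absurd (Subgroup.card_eq_one.1 h1) hP1
      · exact h1
    obtain ⟨-, h3⟩ := sylow_hyps hPp fun T => by rw [h2 T, hc2]
    exact ⟨fun u hu hn => by simpa using h3 u 1 hu (by simpa using hn),
      fun V hV _ h1 => irreducible_of_card_prime Nat.prime_two hc2 V hV h1⟩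

end Cfsg.Agent.S2861
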