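import Cfsg.Statements.S2864
import Cfsg.Agent.H60.Dagger
import Cfsg.Agent.H60.PEmbedded
import Cfsg.Agent.Coprime.Centralize
import Cfsg.Agent.Coprime.Commutator
import Cfsg.Agent.PGroups.Basic

set_option autoImplicit false
open Cfsg

namespace Cfsg.Agent.S2864

open Subgroup Cfsg.Agent Cfsg.Agent.H60
open scoped commutatorElement
set_option linter.style.haveILetI false


/-- Standing hypotheses: G a finite group, S a Sylow p-subgroup, Q a nontrivial large p-subgroup of G contained in S, M a subgroup containing S with the basic property (M ∈ 𝔐_G(S)); Y_M the largest p-reduced normal subgroup of M and M† = M·C_G(Y_M). Let I be a nontrivial normal p-subgroup of M and Y ≤ O_p(M†); let L be a subgroup of G containing Y and A a normal p-subgroup of L with I ≤ A ≤ M. If [Y, A] ≤ [I, A], then Y ≤ O_p(L). -/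
theorem result {G : Type*} [Group G] [Finite G] {p : ℕ} [Fact p.Prime] (S : Sylow p G) (Q : Subgroup G) (hQp : IsPGroup p ↥Q) (hQ1 : Q ≠ ⊥) (hQS : Q ≤ (S : Subgroup G)) (hQ : Cfsg.IsLarge Q) (M : Subgroup G) (hSM : (S : Subgroup G) ≤ M) (hM : Cfsg.IsInFrakM p M) (I : Subgroup G) (hI1 : I ≠ ⊥) (hIp : IsPGroup p ↥I) (hIM : I ≤ M ∧ M ≤ Subgroup.normalizer ((I : Subgroup G) : Set G)) (Y : Subgroup G) (hY : Y ≤ (Cfsg.pCoreOf p (M ⊔ Subgroup.centralizer (((Cfsg.largestPReducedOf p M) : Subgroup G) : Set G)))) (L : Subgroup G) (hYL : Y ≤ L) (A : Subgroup G) (hAp : IsPGroup p ↥A) (hAL : A ≤ L ∧ L ≤ Subgroup.normalizer ((A : Subgroup G) : Set G)) (hIA : I ≤ A) (hAM : A ≤ M) (hc : ⁅Y, A⁆ ≤ ⁅I, A⁆) : Y ≤ (Cfsg.pCoreOf p L) := by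
  set Md := M ⊔ centralizer ((Cfsg.largestPReducedOf p M : Subgroup G) : Set G) with hMd
  have hYp : IsPGroup p Y := (pCoreOf_isPGroup Md).to_le hY
  set C1 := L ⊓ centralizer (A : Set G) with hC1
  set D := Cfsg.pCoreOf p C1 with hD
  set A' := ⁅A, A⁆ with hA'
  have hLA : L ≤ normalizer (A : Set G) := hAL.2
  have hLA' : L ≤ normalizer (A' : Set G) := fun g hg =>
    Coprime.mem_normalizer_commutator (hLA hg) (hLA hg)
  have hLC1 : L ≤ normalizer (C1 : Set G) :=
    le_normalizer_inf le_normalizer (hLA.trans (normalizer_le_normalizer_centralizer A))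
  have hLD : L ≤ normalizer (D : Set G) := hLC1.trans (normalizer_le_normalizer_pCoreOf C1)
  have hC1D : C1 ≤ normalizer (D : Set G) := inf_le_left.trans hLD
  set J := Coprime.relCentralizer A' A ⊓ Coprime.relCentralizer D C1 ⊓ L with hJ
  -- Y lies in J
  have hC1Md : C1 ≤ Md := by
    refine le_trans (inf_le_right.trans ?_) (normalizer_le_dagger hQp hQ S hSM hM hI1 hIp hIM.2)
    exact (centralizer_le hIA).trans (centralizer_le_normalizer _)
  have hYJ : Y ≤ J := by
    refine le_inf (le_inf ?_ ?_) hYL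
    · intro y hy
      refine ⟨hLA' (hYL hy), fun a ha => ?_⟩
      exact Subgroup.commutator_mono hIA le_rfl (hc (commutator_mem_commutator hy ha))
    · intro y hy
      refine ⟨hLD (hYL hy), fun c hc' => ?_⟩
      have hpW : IsPGroup p (C1 ⊓ Cfsg.pCoreOf p Md : Subgroup G) := (pCoreOf_isPGroup Md).to_inf_right
      have hmem : ⁅y, c⁆ ∈ C1 ⊓ Cfsg.pCoreOf p Md := by
        rw [commutatorElement_def]
        constructor
        · exact C1.mul_mem ((mem_normalizer_iff.1 (hLC1 (hYL hy)) c).1 hc') (C1.inv_mem hc')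
        · have h := (Cfsg.pCoreOf p Md).mul_mem (hY hy)
            ((mem_normalizer_iff.1 (le_normalizer_pCoreOf Md (hC1Md hc')) y⁻¹).1
              ((Cfsg.pCoreOf p Md).inv_mem (hY hy)))
          simpa [mul_assoc] using h
      exact le_pCoreOf inf_le_left
        (le_normalizer_inf le_normalizer (hC1Md.trans (le_normalizer_pCoreOf Md))) hpW hmem
  have hconjmem : ∀ {N : Subgroup G} {g : G}, g ∈ normalizer (N : Set G) → ∀ {z : G}, z ∈ N → g * z * g⁻¹ ∈ N :=
    fun hg _ hz => (mem_normalizer_iff.1 hg _).1 hz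
  have hLJ : L ≤ normalizer (J : Set G) := by
    rw [le_normalizer_iff]
    rintro g hg x ⟨⟨⟨hx1, hx2⟩, hx3, hx4⟩, hxL⟩
    have hxg : g * x * g⁻¹ ∈ L := L.mul_mem (L.mul_mem hg hxL) (L.inv_mem hg)
    refine ⟨⟨⟨hLA' hxg, fun a ha => ?_⟩, hLD hxg, fun c hc' => ?_⟩, hxg⟩
    · rw [show ⁅g * x * g⁻¹, a⁆ = g * ⁅x, g⁻¹ * a * g⁆ * g⁻¹ by simp only [commutatorElement_def]; group]
      exact hconjmem (hLA' hg) (hx2 _ (by simpa using hconjmem (hLA (L.inv_mem hg)) ha))
    · rw [show ⁅g * x * g⁻¹, c⁆ = g * ⁅x, g⁻¹ * c * g⁆ * g⁻¹ by simp only [commutatorElement_def]; group]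
      exact hconjmem (hLD hg) (hx4 _ (by simpa using hconjmem (hLC1 (L.inv_mem hg)) hc'))
  have hDJ : D ≤ J := by
    intro d hd
    have hdC := pCoreOf_le C1 hd
    refine ⟨⟨⟨hLA' hdC.1, fun a ha => ?_⟩, hLD hdC.1, fun c hc' => ?_⟩, hdC.1⟩
    · rw [commutatorElement_eq_one_iff_mul_comm.2 (mem_centralizer_iff.1 hdC.2 a ha).symm]
      exact one_mem _
    · rw [show ⁅d, c⁆ = d * (c * d⁻¹ * c⁻¹) by rw [commutatorElement_def]; group]
      exact D.mul_mem hd (hconjmem (hC1D hc') (D.inv_mem hd))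
  -- elements of J of order prime to p centralize A
  have hcop : ∀ R : Subgroup G, R ≤ J → (Nat.card R).Coprime p → R ≤ C1 := by
    intro R hRJ hR
    refine le_inf (hRJ.trans inf_le_right) ?_
    obtain ⟨k, hk⟩ := IsPGroup.iff_card.1 (hAp.to_subgroup (frattini A))
    refine Coprime.le_centralizer_of_frattini ((hRJ.trans inf_le_right).trans hLA) (hk ▸ hR.pow_right k) ?_
    intro r hr a ha
    have h : ⁅r, a⁆ ∈ A' := (hRJ hr).1.1.2 a ha
    have hA'le : A' ≤ (frattini A).map A.subtype := by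
      rw [hA', show ⁅A, A⁆ = (commutator A).map A.subtype by
        rw [_root_.commutator_def, map_commutator, ← MonoidHom.range_eq_map, range_subtype]]
      exact map_mono (PGroups.commutator_le_frattini hAp)
    exact hA'le h
  -- the Sylow subgroup of J is normal
  obtain ⟨P, hPD, hPJ, hPp, ⟨P0, hP0⟩, hPmax⟩ := exists_pSubgroup_max (p := p) (pCoreOf_isPGroup C1) hDJ
  have hC0 : C1 ⊓ J ≤ normalizer (P : Set G) := by
    rw [le_normalizer_iff]
    intro c hc' x hx
    have h := (hPJ hx).1.2.2 c hc'.1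
    rw [commutatorElement_def] at h
    have e : c * x * c⁻¹ = (x * c * x⁻¹ * c⁻¹)⁻¹ * x := by group
    rw [e]
    exact P.mul_mem (P.inv_mem (hPD h)) hx
  have hgen : J ≤ P ⊔ C1 ⊓ J := by
    rw [← subgroupOf_eq_top]
    refine eq_top_of_card_eq _ (Nat.dvd_antisymm (card_subgroup_dvd_card _) ?_)
    rw [← Nat.factorization_prime_le_iff_dvd Nat.card_pos.ne' Nat.card_pos.ne']
    intro q hq
    haveI := Fact.mk hq
    rw [← hq.pow_dvd_iff_le_factorization Nat.card_pos.ne']
    by_cases hqp : q = p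
    · subst hqp
      rw [← P0.card_eq_multiplicity]
      exact card_dvd_of_le fun z hz => mem_sup_left (hP0 ▸ ⟨z, hz, rfl⟩)
    · obtain ⟨U⟩ := (inferInstance : Nonempty (Sylow q J))
      rw [← U.card_eq_multiplicity]
      refine card_dvd_of_le fun z hz => mem_sup_right ⟨?_, z.2⟩
      refine hcop ((U : Subgroup J).map J.subtype) (map_subtype_le _) ?_ ⟨z, hz, rfl⟩
      rw [card_map_of_injective J.subtype_injective, U.card_eq_multiplicity]
      exact ((Nat.coprime_primes hq Fact.out).2 hqp).pow_left _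
  have hJN : J ≤ normalizer (P : Set G) := hgen.trans (sup_le le_normalizer hC0)
  have hYP : Y ≤ P :=
    le_sup_left.trans (hPmax _ (hYp.to_sup_of_normal_right' hPp (hYJ.trans hJN)) le_sup_right
      (sup_le hYJ hPJ)).le
  refine hYP.trans ((le_pCoreOf hPJ hJN hPp).trans (le_pCoreOf ?_ ?_ (pCoreOf_isPGroup J)))
  · exact (pCoreOf_le J).trans inf_le_right
  · exact hLJ.trans (normalizer_le_normalizer_pCoreOf J)

end Cfsg.Agent.S2864
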