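import Cfsg.Statements.S2872
import Cfsg.Agent.Fusion.PResidual
import Cfsg.Agent.PGroups.Basic
import Cfsg.Agent.Fusion.Basic
import Cfsg.Agent.Fusion.Alperin

set_option autoImplicit false
open Cfsg

namespace Cfsg.Agent.S2872
open scoped commutatorElement

/-- Let S be a Sylow 2-subgroup of the finite group G. Then G has a proper normal subgroup of 2-power index (O²(G) ≠ G), or Ω₁(Z(S)) is contained in the Frattini subgroup of S, or N_G(S) acts nontrivially on Ω₁(Z(S)) by conjugation. -/
theorem result {G : Type*} [Group G] [Finite G] (S : Sylow 2 G) : Cfsg.pResidual 2 G ≠ ⊤ ∨ Cfsg.omegaOne 2 ((S : Subgroup G) ⊓ Subgroup.centralizer ((S : Subgroup G) : Set G)) ≤ (frattini ↥(S : Subgroup G)).map (S : Subgroup G).subtype ∨ ∃ g ∈ Subgroup.normalizer ((S : Subgroup G) : Set G), ∃ z ∈ Cfsg.omegaOne 2 ((S : Subgroup G) ⊓ Subgroup.centralizer ((S : Subgroup G) : Set G)), g * z * g⁻¹ ≠ z := by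
  haveI : Fact (Nat.Prime 2) := ⟨Nat.prime_two⟩
  set Ω := Cfsg.omegaOne 2 ((S : Subgroup G) ⊓ Subgroup.centralizer ((S : Subgroup G) : Set G)) with hΩ
  by_contra hcon
  simp only [not_or, not_exists, not_and, not_not] at hcon
  obtain ⟨htop, hle, hfix⟩ := hcon
  rw [hΩ, Cfsg.omegaOne, Subgroup.closure_le, Set.not_subset] at hle
  obtain ⟨z, ⟨⟨hzS, hzC⟩, hz2⟩, hzΦ⟩ := hle
  have hzN : ∀ g ∈ Subgroup.normalizer ((S : Subgroup G) : Set G), g * z * g⁻¹ = z := fun g hg =>
    hfix g hg z (Subgroup.subset_closure ⟨⟨hzS, hzC⟩, hz2⟩)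
  have hzs : ∀ s ∈ (S : Subgroup G), s * z = z * s := fun s hs =>
    Subgroup.mem_centralizer_iff.mp hzC s hs
  have hzinv : z⁻¹ = z := inv_eq_of_mul_eq_one_right (by rw [← sq, hz2])
  set Φ := frattini (S : Subgroup G) with hΦ
  have hSp := S.isPGroup'
  letI : CommGroup ((S : Subgroup G) ⧸ Φ) :=
    { (inferInstance : Group ((S : Subgroup G) ⧸ Φ)) with
      mul_comm := fun a b => by
        obtain ⟨a, rfl⟩ := QuotientGroup.mk'_surjective Φ a
        obtain ⟨b, rfl⟩ := QuotientGroup.mk'_surjective Φ b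
        change (QuotientGroup.mk' Φ a) * (QuotientGroup.mk' Φ b) =
          (QuotientGroup.mk' Φ b) * (QuotientGroup.mk' Φ a)
        rw [← map_mul, ← map_mul]
        refine (QuotientGroup.eq (s := Φ)).mpr (PGroups.commutator_le_frattini hSp ?_)
        rw [show (a * b)⁻¹ * (b * a) = ⁅b⁻¹, a⁻¹⁆ by simp only [commutatorElement_def]; group]
        exact Subgroup.commutator_mem_commutator (Subgroup.mem_top _) (Subgroup.mem_top _) }
  set φ : (S : Subgroup G) →* (S : Subgroup G) ⧸ Φ := QuotientGroup.mk' Φ with hφ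
  set c := φ ⟨z, hzS⟩ with hc
  have hc2 : c * c = 1 := by
    rw [hc, ← map_mul]
    convert map_one φ using 2
    exact Subtype.ext (by rw [Subgroup.coe_mul, ← sq, hz2]; rfl)
  let v : G →* (S : Subgroup G) ⧸ Φ := MonoidHom.transfer φ
  letI : Fintype (G ⧸ (S : Subgroup G)) := Fintype.ofFinite _
  classical
  let T : (S : Subgroup G).LeftTransversal := default
  let τ : G ⧸ (S : Subgroup G) → G := fun q => T.2.leftQuotientEquiv q
  have hτ : ∀ q, ((τ q : G) : G ⧸ (S : Subgroup G)) = q := fun q =>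
    Subgroup.IsComplement.quotientGroupMk_leftQuotientEquiv T.2 q
  have hsmul : ∀ (g : G) (q : G ⧸ (S : Subgroup G)), (τ (g • q))⁻¹ * (g * τ q) ∈ (S : Subgroup G) := by
    intro g q
    rw [← QuotientGroup.eq, hτ]
    conv_lhs => rw [← hτ q]
    rfl
  let f : G ⧸ (S : Subgroup G) → (S : Subgroup G) ⧸ Φ := fun q =>
    φ ⟨(τ (z • q))⁻¹ * (z * τ q), hsmul z q⟩
  have hzz : ∀ q : G ⧸ (S : Subgroup G), z • z • q = q := fun q => by
    rw [← mul_smul, ← sq, hz2, one_smul]
  have hv : v z = ∏ q, f q := by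
    change MonoidHom.transfer φ z = _
    rw [MonoidHom.transfer_def φ T z, Subgroup.leftTransversals.diff]
    refine Fintype.prod_congr _ _ fun q => ?_
    have e1 : ((z • T).2.leftQuotientEquiv q : G) = z * τ (z • q) := by
      rw [Subgroup.smul_apply_eq_smul_apply_inv_smul, hzinv]
      rfl
    have e2 : f (z • q) = φ ⟨(τ q)⁻¹ * (z * τ (z • q)), by
        have := hsmul z (z • q); rwa [hzz q] at this⟩ := by
      simp only [f, hzz q]
    -- `f` at `z • q` and at `q` agree
    have e3 : f (z • q) = f q := by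
      have e4 : f (z • q) * f q = 1 := by
        rw [e2]
        simp only [f]
        rw [← map_mul]
        convert map_one φ using 2
        apply Subtype.ext
        rw [Subgroup.coe_mul]
        change (τ q)⁻¹ * (z * τ (z • q)) * ((τ (z • q))⁻¹ * (z * τ q)) = 1
        calc (τ q)⁻¹ * (z * τ (z • q)) * ((τ (z • q))⁻¹ * (z * τ q))
            = (τ q)⁻¹ * (z ^ 2) * τ q := by rw [sq]; group
          _ = 1 := by rw [hz2]; group
      have e5 : f q * f q = 1 := by
        obtain ⟨w, hw⟩ : ∃ w, φ w = f q := ⟨_, rfl⟩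
        rw [← hw, ← map_mul, ← sq]
        exact (QuotientGroup.eq_one_iff (N := Φ) _).mpr (PGroups.pow_mem_frattini hSp w)
      exact mul_right_cancel (e4.trans e5.symm)
    rw [← e3, e2]
    congr 1
    exact Subtype.ext (congrArg ((τ q)⁻¹ * ·) e1)
  let F : G ⧸ (S : Subgroup G) → (S : Subgroup G) ⧸ Φ := fun q =>
    (if z • q = q then f q else 1) * c
  have hFinv : ∀ (s : (S : Subgroup G)) q, F (s • q) = F q := by
    intro s q
    change F ((s : G) • q) = F q
    have hcomm : z • (s : G) • q = (s : G) • z • q := by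
      rw [← mul_smul, ← hzs s s.2, mul_smul]
    by_cases hq : z • q = q
    · have hq' : z • (s : G) • q = (s : G) • q := by rw [hcomm, hq]
      simp only [F, if_pos hq, if_pos hq', f]
      congr 1
      rw [show (⟨_, hsmul z ((s : G) • q)⟩ : (S : Subgroup G)) =
          (⟨_, hsmul (s : G) q⟩ : (S : Subgroup G)) * ⟨_, hsmul z q⟩ *
            (⟨_, hsmul (s : G) q⟩ : (S : Subgroup G))⁻¹ from Subtype.ext ?_]
      · rw [map_mul, map_mul, map_inv, mul_comm (φ _) (φ _), mul_inv_cancel_right]
      · simp only [Subgroup.coe_mul, Subgroup.coe_inv, hq, hq']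
        calc (τ ((s : G) • q))⁻¹ * (z * τ ((s : G) • q))
            = (τ ((s : G) • q))⁻¹ * ((s : G) * ((s : G)⁻¹ * (z * (s : G)))) *
                ((s : G)⁻¹ * τ ((s : G) • q)) := by group
          _ = (τ ((s : G) • q))⁻¹ * ((s : G) * z) * ((s : G)⁻¹ * τ ((s : G) • q)) := by
              rw [← hzs s s.2, inv_mul_cancel_left]
          _ = _ := by group
    · have hq' : ¬ z • (s : G) • q = (s : G) • q := fun h => hq (MulAction.injective (s : G) (hcomm.symm.trans h))
      simp only [F, if_neg hq, if_neg hq']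
  have hFfix : ∀ q : G ⧸ (S : Subgroup G), (∀ s : (S : Subgroup G), s • q = q) → F q = 1 := by
    intro q hq
    have hN : τ q ∈ Subgroup.normalizer ((S : Subgroup G) : Set G) := by
      refine Sylow.smul_eq_iff_mem_normalizer.mp ?_
      apply Sylow.ext
      refine (Subgroup.eq_of_le_of_card_ge ?_ ?_).symm
      · intro s hs
        change s ∈ (τ q • S : Sylow 2 G)
        rw [Fusion.mem_sylow_smul]
        have h1 := hq ⟨s, hs⟩
        change s • q = q at h1
        conv at h1 => rw [← hτ q]
        have h2 := (QuotientGroup.eq (s := (S : Subgroup G))).mp h1.symm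
        rw [mul_assoc]
        exact h2
      · rw [Fusion.sylow_smul_coe, Subgroup.card_map_of_injective (MulAut.conj _).injective]
    have hz1 : z • q = q := hq ⟨z, hzS⟩
    simp only [F, if_pos hz1, f]
    have e6 : (τ (z • q))⁻¹ * (z * τ q) = z := by
      rw [hz1]
      calc (τ q)⁻¹ * (z * τ q) = (τ q)⁻¹ * ((τ q * z * (τ q)⁻¹) * τ q) := by rw [hzN _ hN]
        _ = z := by group
    rw [← hc2, hc]
    congr 2
    exact Subtype.ext e6
  have hexp : ∀ a : (S : Subgroup G) ⧸ Φ, a * a = 1 := by
    intro a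
    obtain ⟨a, rfl⟩ := QuotientGroup.mk'_surjective Φ a
    rw [← map_mul, ← sq]
    exact (QuotientGroup.eq_one_iff _).mpr (PGroups.pow_mem_frattini hSp a)
  have hF : ∏ q, F q = 1 := by
    let π : G ⧸ (S : Subgroup G) → MulAction.orbitRel.Quotient (S : Subgroup G) (G ⧸ (S : Subgroup G)) :=
      Quotient.mk''
    rw [← Finset.prod_fiberwise Finset.univ π F]
    refine Finset.prod_eq_one fun o _ => ?_
    obtain ⟨q, rfl⟩ := Quotient.exists_rep o
    have hset : ∀ r, r ∈ Finset.univ.filter (fun r => π r = π q) ↔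
        r ∈ MulAction.orbit (S : Subgroup G) q := fun r => by
      rw [Finset.mem_filter, and_iff_right (Finset.mem_univ r)]
      exact Quotient.eq''
    change ∏ r ∈ Finset.univ.filter (fun r => π r = π q), F r = 1
    rw [Finset.prod_congr rfl (fun r hr => show F r = F q by
      obtain ⟨s, rfl⟩ := (hset r).mp hr; exact hFinv s q), Finset.prod_const]
    have hcard : (Finset.univ.filter (fun r => π r = π q)).card =
        (MulAction.stabilizer (S : Subgroup G) q).index := by
      rw [MulAction.index_stabilizer, ← Nat.card_coe_set_eq]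
      rw [← Nat.card_eq_finsetCard]
      exact Nat.card_congr (Equiv.subtypeEquivRight hset)
    rw [hcard]
    obtain ⟨k, hk⟩ := hSp.index (H := MulAction.stabilizer (S : Subgroup G) q)
    rw [hk]
    rcases Nat.eq_zero_or_pos k with rfl | hk0
    · rw [pow_zero, pow_one]
      refine hFfix q fun s => ?_
      have : MulAction.stabilizer (S : Subgroup G) q = ⊤ := Subgroup.index_eq_one.mp (by rw [hk, pow_zero])
      exact (this ▸ Subgroup.mem_top s : s ∈ MulAction.stabilizer (S : Subgroup G) q)
    · obtain ⟨j, rfl⟩ : ∃ j, k = j + 1 := ⟨k - 1, by omega⟩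
      rw [pow_succ', pow_mul, sq, hexp, one_pow]
  have hff : ∏ q, f q = ∏ q, (if z • q = q then f q else 1) := by
    rw [← Finset.prod_filter, ← Finset.prod_filter_mul_prod_filter_not Finset.univ (fun q => z • q = q) f]
    refine mul_eq_left.mpr (Finset.prod_involution (fun q _ => z • q) ?_ ?_ ?_ ?_)
    · intro q hq
      simp only [f]
      rw [← map_mul]
      convert map_one φ using 2
      apply Subtype.ext
      rw [Subgroup.coe_mul, Subgroup.coe_one]
      simp only [hzz]
      calc (τ (z • q))⁻¹ * (z * τ q) * ((τ q)⁻¹ * (z * τ (z • q)))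
          = (τ (z • q))⁻¹ * z ^ 2 * τ (z • q) := by rw [sq]; group
        _ = 1 := by rw [hz2]; group
    · intro q hq _
      exact (Finset.mem_filter.mp hq).2
    · intro q hq
      refine Finset.mem_filter.mpr ⟨Finset.mem_univ _, ?_⟩
      rw [hzz]
      exact fun h => (Finset.mem_filter.mp hq).2 h.symm
    · intro q hq
      exact hzz q
  have hodd : Odd (S : Subgroup G).index := by
    rw [← Nat.not_even_iff_odd, even_iff_two_dvd]
    exact S.not_dvd_index
  have hvz : v z = c := by
    have h1 : (∏ q, (if z • q = q then f q else 1)) * c ^ (S : Subgroup G).index = 1 := by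
      rw [Subgroup.index_eq_card, Nat.card_eq_fintype_card, ← Finset.card_univ, ← Finset.prod_const,
        ← Finset.prod_mul_distrib]
      exact hF
    obtain ⟨j, hj⟩ := hodd
    rw [hj, pow_succ, pow_mul, sq, hc2, one_pow, one_mul, ← hff, ← hv] at h1
    exact mul_right_cancel (h1.trans hc2.symm)
  have hv1 : v z = 1 := by
    have hle' := Fusion.pResidual_le_ker (p := 2) (hSp.to_quotient Φ) v
    rw [htop] at hle'
    exact hle' (Subgroup.mem_top z)
  exact hzΦ ⟨⟨z, hzS⟩, (QuotientGroup.eq_one_iff (N := Φ) _).mp (hvz.symm.trans hv1), rfl⟩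

end Cfsg.Agent.S2872
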