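import Cfsg.Statements.S2873
import Cfsg.Agent.Cores.PCore
import Cfsg.Agent.PGroups.Extraspecial
import Mathlib.GroupTheory.SpecificGroups.Dihedral

set_option autoImplicit false
open Cfsg

namespace Cfsg.Agent.S2873

open Subgroup
set_option linter.style.haveILetI false

theorem dihedral_involution_conj {r : ℕ} (hr : Odd r) {u v : DihedralGroup r} (hu : u * u = 1) (hu1 : u ≠ 1)
    (hv : v * v = 1) (hv1 : v ≠ 1) : ∃ q, q * u * q⁻¹ = v := by
  have hrot : ∀ w : DihedralGroup r, w * w = 1 → w ≠ 1 → ∃ i, w = DihedralGroup.sr i := by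
    rintro (i | i) hw hw1
    · exfalso
      apply hw1
      simp at hw ⊢
      rw [← DihedralGroup.r_zero, DihedralGroup.r.injEq] at hw
      obtain ⟨k, rfl⟩ := hr
      have h2 : (2 : ZMod (2 * k + 1)) * ((k : ZMod (2 * k + 1)) + 1) = 1 := by
        have := ZMod.natCast_self (2 * k + 1)
        push_cast at this
        linear_combination this
      have hi : i = 0 := by
        calc i = ((k : ZMod (2 * k + 1)) + 1) * (i + i) := by linear_combination (-i) * h2
          _ = 0 := by rw [hw, mul_zero]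
      rw [hi]
      rfl
    · exact ⟨i, rfl⟩
  obtain ⟨i, rfl⟩ := hrot u hu hu1
  obtain ⟨j, rfl⟩ := hrot v hv hv1
  obtain ⟨k, rfl⟩ := hr
  have h2 : (2 : ZMod (2 * k + 1)) * ((k : ZMod (2 * k + 1)) + 1) = 1 := by
    have := ZMod.natCast_self (2 * k + 1)
    push_cast at this
    linear_combination this
  refine ⟨DihedralGroup.r (((k : ZMod (2 * k + 1)) + 1) * (i - j)), ?_⟩
  simp
  linear_combination (j - i) * h2


/-- Let G be a finite group and r an odd prime such that G ⧸ O₂(G) is dihedral of order 2r, and let R be a Sylow r-subgroup of G with C_{O₂(G)}(R) = 1. Then N_G(R) is dihedral of order 2r; for any involution a of N_G(R), every involution of G outside O₂(G) is conjugate to a; and |C_{O₂(G)}(a)|² = |O₂(G)|. -/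
theorem result {G : Type*} [Group G] [Finite G] {r : ℕ} [Fact r.Prime] (hr : r ≠ 2) [hN : (Cfsg.pCore 2 G).Normal] (hquot : Nonempty (G ⧸ Cfsg.pCore 2 G ≃* DihedralGroup r)) (R : Sylow r G) (hC : Cfsg.pCore 2 G ⊓ Subgroup.centralizer ((R : Subgroup G) : Set G) = ⊥) : Nonempty (↥(Subgroup.normalizer ((R : Subgroup G) : Set G)) ≃* DihedralGroup r) ∧ ∀ a : G, a ∈ Subgroup.normalizer ((R : Subgroup G) : Set G) → orderOf a = 2 → (∀ b : G, orderOf b = 2 → b ∉ Cfsg.pCore 2 G → ∃ g : G, g * a * g⁻¹ = b) ∧ Nat.card ↥(Cfsg.pCore 2 G ⊓ Subgroup.centralizer ({a} : Set G)) ^ 2 = Nat.card ↥(Cfsg.pCore 2 G) := by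
  obtain ⟨e⟩ := hquot
  have hN' : (Cfsg.pCore 2 G).Normal := hN
  have hr' : r.Prime := Fact.out
  haveI : Fact (Nat.Prime 2) := ⟨Nat.prime_two⟩
  haveI : NeZero r := ⟨hr'.ne_zero⟩
  set O := Cfsg.pCore 2 G with hO
  have hOp : IsPGroup 2 O := Cfsg.Agent.Cores.pCore_isPGroup
  let ψ : G →* DihedralGroup r := e.toMonoidHom.comp (QuotientGroup.mk' O)
  have hψ : Function.Surjective ψ := e.surjective.comp (QuotientGroup.mk'_surjective O)
  have hker : ∀ g, ψ g = 1 ↔ g ∈ O := fun g => by simp [ψ, QuotientGroup.eq_one_iff]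
  obtain ⟨n, hn⟩ := IsPGroup.iff_card.1 hOp
  have hcard : Nat.card G = 2 ^ (n + 1) * r := by
    rw [O.card_eq_card_quotient_mul_card_subgroup, Nat.card_congr e.toEquiv, DihedralGroup.nat_card, hn, pow_succ]
    ring
  have hcop : Nat.Coprime (2 ^ (n + 1)) r := ((Nat.coprime_primes Nat.prime_two hr').2 (Ne.symm hr)).pow_left _
  have hRc : ∀ T : Sylow r G, Nat.card T = r := by
    intro T
    rw [T.card_eq_multiplicity, hcard, Nat.factorization_mul (by positivity) hr'.ne_zero, Finsupp.add_apply,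
      hr'.factorization_self, Nat.prime_two.factorization_pow, Finsupp.single_eq_of_ne hr]
    simp
  set N := normalizer ((R : Subgroup G) : Set G) with hNdef
  haveI : Nontrivial (R : Subgroup G) := by
    rw [← Finite.one_lt_card_iff_nontrivial, hRc R]; exact hr'.one_lt
  obtain ⟨⟨x, hxR⟩, hxne⟩ := exists_ne (1 : (R : Subgroup G))
  have hx1 : x ≠ 1 := fun h => hxne (Subtype.ext h)
  have hRx : (R : Subgroup G) = zpowers x :=
    (Cfsg.Agent.PGroups.zpowers_eq_of_card_eq (p := r) (hRc R) hxR hx1).symm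
  have hRO : (R : Subgroup G) ⊓ O = ⊥ := by
    refine inf_eq_bot_of_coprime ?_
    rw [hRc R, hn]
    exact (((Nat.coprime_primes Nat.prime_two hr').2 (Ne.symm hr)).pow_left _).symm
  have hRO' : ∀ z ∈ (R : Subgroup G), z ∈ O → z = 1 := fun z h1 h2 =>
    Subgroup.mem_bot.1 (hRO ▸ ⟨h1, h2⟩)
  -- N_O(R) = 1
  have hNO : ∀ g ∈ N, g ∈ O → g = 1 := by
    intro g hg hgO
    rw [← Subgroup.mem_bot, ← hC]
    refine ⟨hgO, Subgroup.mem_centralizer_iff.2 fun z hz => ?_⟩
    have h := hRO' (g * z * g⁻¹ * z⁻¹) (mul_mem ((mem_normalizer_iff.1 hg z).1 hz) (inv_mem hz)) (by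
      have h2 := mul_mem hgO (hN'.conj_mem _ (inv_mem hgO) z)
      simpa [mul_assoc] using h2)
    rw [mul_inv_eq_one, mul_inv_eq_iff_eq_mul] at h
    exact h.symm
  -- N covers the quotient
  set K := (zpowers (DihedralGroup.r (1 : ZMod r))).comap ψ with hK
  have hKi : K.index = 2 := by
    rw [hK, index_comap_of_surjective _ hψ]
    have := (zpowers (DihedralGroup.r (1 : ZMod r))).card_mul_index
    rw [Nat.card_zpowers, DihedralGroup.orderOf_r_one, DihedralGroup.nat_card, mul_comm 2] at this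
    exact Nat.eq_of_mul_eq_mul_left hr'.pos this
  haveI hKn : K.Normal := normal_of_index_eq_two hKi
  have hRK : (R : Subgroup G) ≤ K := by
    intro z hz
    obtain ⟨k, hk⟩ := hr'.odd_of_ne_two hr
    have hz1 : z ^ r = 1 := by
      have := pow_card_eq_one' (x := (⟨z, hz⟩ : (R : Subgroup G)))
      rw [hRc R] at this
      exact congrArg Subtype.val this
    have h2 : z ^ (2 * k) ∈ K := by
      rw [pow_mul]; exact pow_mem (sq_mem_of_index_two hKi z) k
    have h3 : z ^ (2 * k) = z⁻¹ := eq_inv_of_mul_eq_one_left (by rw [← pow_succ, ← hk, hz1])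
    rw [h3] at h2
    exact inv_mem_iff.1 h2
  have hKle : K ≤ O ⊔ (R : Subgroup G) := by
    have hle : O ⊔ (R : Subgroup G) ≤ K := sup_le (fun o ho => by
      show ψ o ∈ zpowers _; rw [(hker o).2 ho]; exact one_mem _) hRK
    refine (Subgroup.eq_of_le_of_card_ge hle (Nat.le_of_dvd Nat.card_pos ?_)).ge
    have h2 := K.card_mul_index
    rw [hKi, hcard] at h2
    rw [show Nat.card K = 2 ^ n * r by rw [pow_succ] at h2; linarith]
    refine Nat.Coprime.mul_dvd_of_dvd_of_dvd (((Nat.coprime_primes Nat.prime_two hr').2 (Ne.symm hr)).pow_left _)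
      (by rw [← hn]; exact card_dvd_of_le le_sup_left) ((dvd_of_eq (hRc R).symm).trans (card_dvd_of_le le_sup_right))
  have hGON : ∀ g : G, ∃ o ∈ O, ∃ m ∈ N, g = o * m := by
    intro g
    have htop : N ⊔ K = ⊤ := Sylow.normalizer_sup_eq_top' R hRK
    have hg : g ∈ O ⊔ N := by
      have : N ⊔ K ≤ O ⊔ N := sup_le le_sup_right (hKle.trans (sup_le le_sup_left (le_normalizer.trans le_sup_right)))
      exact this (htop ▸ mem_top g)
    obtain ⟨o, ho, m, hm, h⟩ := Subgroup.mem_sup_of_normal_left.1 hg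
    exact ⟨o, ho, m, hm, h.symm⟩
  have hinj : ∀ g₁ ∈ N, ∀ g₂ ∈ N, ψ g₁ = ψ g₂ → g₁ = g₂ := fun g₁ h₁ g₂ h₂ h =>
    inv_mul_eq_one.1 (hNO _ (mul_mem (inv_mem h₁) h₂) ((hker _).1 (by rw [map_mul, map_inv, h, inv_mul_cancel])))
  have hbij : Function.Bijective (ψ.comp N.subtype) := by
    refine ⟨fun a b h => Subtype.ext (hinj _ a.2 _ b.2 h), fun q => ?_⟩
    obtain ⟨g, rfl⟩ := hψ q
    obtain ⟨o, ho, m, hm, rfl⟩ := hGON g
    exact ⟨⟨m, hm⟩, by simp [(hker o).2 ho]⟩
  have hψx : orderOf (ψ x) = r := by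
    refine (hr'.eq_one_or_self_of_dvd _ ?_).resolve_left ?_
    · refine (orderOf_map_dvd ψ x).trans (hRc R ▸ Subgroup.orderOf_dvd_natCard _ hxR)
    · rw [orderOf_eq_one_iff, hker]; exact fun h => hx1 (hRO' x hxR h)
  -- two involutions whose product is of order r modulo O
  have key : ∀ u t : G, u * u = 1 → t * t = 1 → orderOf (ψ (u * t)) = r →
      ∃ w ∈ O, w⁻¹ * u * w ∈ N ∧ w⁻¹ * t * w ∈ N := by
    intro u t hu ht hy
    set y := u * t with hydef
    set y' := y ^ 2 ^ n with hy'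
    have hyO : y ^ r ∈ O := (hker _).1 (by rw [map_pow]; exact orderOf_dvd_iff_pow_eq_one.1 (dvd_of_eq hy))
    have hy'o : orderOf y' = r := by
      refine orderOf_eq_prime ?_ fun h => ?_
      · rw [hy', ← pow_mul, mul_comm, pow_mul, ← hn]
        exact congrArg Subtype.val (pow_card_eq_one' (x := (⟨y ^ r, hyO⟩ : O)))
      · have h2 : orderOf (ψ y) ∣ 2 ^ n := orderOf_dvd_of_pow_eq_one (by rw [← map_pow, ← hy', h, map_one])
        rw [hy] at h2
        exact hr ((Nat.prime_dvd_prime_iff_eq hr' Nat.prime_two).1 (hr'.dvd_of_dvd_pow h2))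
    obtain ⟨T, hT⟩ := (IsPGroup.of_card (p := r) (n := 1)
      (show Nat.card (zpowers y') = r ^ 1 by rw [Nat.card_zpowers, hy'o, pow_one])).exists_le_sylow
    obtain ⟨g, hg⟩ := MulAction.exists_smul_eq G R T
    obtain ⟨w, hw, m, hm, rfl⟩ := hGON g
    have hTy : (R : Subgroup G).map (MulAut.conj w).toMonoidHom = zpowers y' := by
      rw [Subgroup.eq_of_le_of_card_ge hT (by rw [hRc T, Nat.card_zpowers, hy'o]), ← hg, mul_smul,
        Sylow.smul_eq_iff_mem_normalizer.2 hm]
      rfl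
    have hmem : ∀ z ∈ (R : Subgroup G), w * z * w⁻¹ ∈ zpowers y' := fun z hz => hTy ▸ ⟨z, hz, rfl⟩
    have hy1 : y ^ r = 1 := by
      have h1 : w⁻¹ * y ^ r * w ∈ O ⊓ centralizer ((R : Subgroup G) : Set G) := by
        refine ⟨by simpa using hN'.conj_mem _ hyO w⁻¹, Subgroup.mem_centralizer_iff.2 fun z hz => ?_⟩
        obtain ⟨j, hj⟩ := hmem z hz
        have hc : Commute (w * z * w⁻¹) (y ^ r) := by
          rw [← hj, hy']
          exact (((Commute.refl y).pow_left (2 ^ n)).zpow_left j).pow_right r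
        calc z * (w⁻¹ * y ^ r * w) = w⁻¹ * (w * z * w⁻¹ * y ^ r) * w := by group
          _ = w⁻¹ * (y ^ r * (w * z * w⁻¹)) * w := by rw [hc.eq]
          _ = _ := by group
      rw [hC, Subgroup.mem_bot] at h1
      calc y ^ r = w * (w⁻¹ * y ^ r * w) * w⁻¹ := by group
        _ = 1 := by rw [h1]; group
    have hinv : ∀ s : G, s * y * s⁻¹ = y⁻¹ → w⁻¹ * s * w ∈ N := by
      intro s hs
      rw [hNdef, Subgroup.mem_normalizer_iff_map_conj_eq]
      refine Subgroup.eq_of_le_of_card_ge ?_ (le_of_eq (Subgroup.card_map_of_injective (MulAut.conj _).injective).symm)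
      rintro _ ⟨z, hz, rfl⟩
      obtain ⟨j, hj⟩ := hmem z hz
      have h2 : w * (MulAut.conj (w⁻¹ * s * w) z) * w⁻¹ ∈ zpowers y' := by
        refine ⟨-j, ?_⟩
        simp only [MulAut.conj_apply]
        rw [show w * (w⁻¹ * s * w * z * (w⁻¹ * s * w)⁻¹) * w⁻¹ = s * (w * z * w⁻¹) * s⁻¹ by group, ← hj, hy']
        simp only
        rw [← conj_zpow, ← conj_pow, hs, inv_pow, inv_zpow', ]
      rw [← hTy] at h2
      obtain ⟨z', hz', he⟩ := h2
      have : z' = MulAut.conj (w⁻¹ * s * w) z := by simpa using he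
      exact this ▸ hz'
    have hui : u⁻¹ = u := inv_eq_of_mul_eq_one_right hu
    have hti : t⁻¹ = t := inv_eq_of_mul_eq_one_right ht
    refine ⟨w, hw, hinv u ?_, hinv t ?_⟩
    · rw [hydef, mul_inv_rev, hti, hui, ← mul_assoc u u, hu, one_mul]
    · rw [hydef, mul_inv_rev, hti, hui, mul_assoc, mul_assoc, ht, mul_one]
  refine ⟨⟨MulEquiv.ofBijective _ hbij⟩, fun a ha ha2 => ?_⟩
  have haa : a * a = 1 := by rw [← sq, ← ha2]; exact pow_orderOf_eq_one a
  have haO : a ∉ O := fun h => by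
    rw [hNO a ha h, orderOf_one] at ha2
    exact absurd ha2 (by norm_num)
  have hψa : ψ a ≠ 1 := fun h => haO ((hker a).1 h)
  set a' := a * x with ha'
  have ha'N : a' ∈ N := mul_mem ha (le_normalizer hxR)
  have ha'2 : a' * a' = 1 := by
    -- a inverts R
    have hnot : ψ a' * ψ a' = 1 := by
      have hrot : ψ x ∈ zpowers (DihedralGroup.r (1 : ZMod r)) := hRK hxR
      obtain ⟨j, hj⟩ := hrot
      rcases hA : ψ a with i | i
      · exfalso
        have h2 : orderOf (ψ a) ∣ r := by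
          rw [hA]
          refine (orderOf_dvd_of_mem_zpowers (x := DihedralGroup.r (1 : ZMod r)) ⟨(i.val : ℤ), ?_⟩).trans
            (dvd_of_eq DihedralGroup.orderOf_r_one)
          simp [DihedralGroup.r_one_pow]
        have h3 : orderOf (ψ a) ∣ 2 := (orderOf_map_dvd ψ a).trans (dvd_of_eq ha2)
        have h4 := Nat.dvd_gcd h3 h2
        rw [(Nat.coprime_primes Nat.prime_two hr').2 (Ne.symm hr), Nat.dvd_one, orderOf_eq_one_iff] at h4
        exact hψa h4
      · rw [ha', map_mul, hA, ← hj]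
        simp [DihedralGroup.r_one_zpow]
    exact hinj _ (mul_mem ha'N ha'N) 1 (one_mem N) (by rw [map_mul, hnot, map_one])
  have hψaa' : orderOf (ψ (a * a')) = r := by rw [ha', ← mul_assoc, haa, one_mul, hψx]
  have hconj : ∀ b : G, b * b = 1 → ψ b = ψ a → ∃ w ∈ O, b = w * a * w⁻¹ := by
    intro b hb hba
    obtain ⟨w, hw, h1, -⟩ := key b a' hb ha'2 (by rw [map_mul, hba, ← map_mul]; exact hψaa')
    refine ⟨w, hw, ?_⟩
    rw [← hinj _ h1 _ ha (by simp [(hker w).2 hw, hba])]
    group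
  have hb' : ∀ b : G, b * b = 1 → b ∉ O → ∃ g : G, g * a * g⁻¹ = b := by
    intro b hb hbO
    obtain ⟨q, hq⟩ := dihedral_involution_conj (hr'.odd_of_ne_two hr) (by rw [← map_mul, haa, map_one]) hψa
      (by rw [← map_mul, hb, map_one]) (fun h => hbO ((hker b).1 h))
    obtain ⟨g, rfl⟩ := hψ q
    obtain ⟨w, -, hw⟩ := hconj (g⁻¹ * b * g) (by
      rw [show g⁻¹ * b * g * (g⁻¹ * b * g) = g⁻¹ * (b * b) * g by group, hb]; group) (by
      rw [map_mul, map_mul, map_inv, ← hq]; group)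
    refine ⟨g * w, ?_⟩
    calc g * w * a * (g * w)⁻¹ = g * (w * a * w⁻¹) * g⁻¹ := by group
      _ = b := by rw [← hw]; group
  refine ⟨fun b hb hbO => hb' b (by rw [← sq, ← hb]; exact pow_orderOf_eq_one b) hbO, ?_⟩
  -- O = C(a) C(a')
  set C := O ⊓ centralizer ({a} : Set G) with hCdef
  set C' := O ⊓ centralizer ({a'} : Set G) with hC'def
  have hbij2 : Function.Bijective (fun z : C × C' => (⟨z.1.1 * z.2.1, mul_mem z.1.2.1 z.2.2.1⟩ : O)) := by
    constructor
    · rintro ⟨c, d⟩ ⟨c₂, d₂⟩ h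
      have h' : c.1 * d.1 = c₂.1 * d₂.1 := congrArg Subtype.val h
      set z := c₂.1⁻¹ * c.1 with hz
      have hz2 : z = d₂.1 * d.1⁻¹ := by
        rw [hz, eq_mul_inv_iff_mul_eq, mul_assoc, h', inv_mul_cancel_left]
      have hzC : z ∈ C := mul_mem (inv_mem c₂.2) c.2
      have hzC' : z ∈ C' := hz2 ▸ mul_mem d₂.2 (inv_mem d.2)
      have h1 : Commute z a := mem_centralizer_singleton_iff.1 hzC.2
      have h2 : Commute z a' := mem_centralizer_singleton_iff.1 hzC'.2
      have h3 : Commute z x := by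
        have := h1.mul_right h2
        rwa [ha', ← mul_assoc, haa, one_mul] at this
      have hz1 : z = 1 := by
        rw [← Subgroup.mem_bot, ← hC]
        refine ⟨hzC.1, Subgroup.mem_centralizer_iff.2 fun u hu => ?_⟩
        rw [hRx] at hu
        obtain ⟨j, rfl⟩ := hu
        exact (h3.zpow_right j).eq.symm
      have e1 : c = c₂ := Subtype.ext (inv_mul_eq_one.1 hz1).symm
      subst e1
      exact Prod.ext rfl (Subtype.ext (mul_left_cancel h'))
    · rintro ⟨v, hv⟩
      set t := v * a' * v⁻¹ with htdef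
      have hψv := (hker v).2 hv
      obtain ⟨w, hw, h1, h2⟩ := key a t haa
        (by rw [htdef, show v * a' * v⁻¹ * (v * a' * v⁻¹) = v * (a' * a') * v⁻¹ by group, ha'2]; group)
        (by rw [map_mul, htdef, map_mul, map_mul, map_inv, hψv, one_mul, inv_one, mul_one, ← map_mul]; exact hψaa')
      have e1 := hinj _ h1 _ ha (by simp [(hker w).2 hw])
      have e2 := hinj _ h2 _ ha'N (by simp [htdef, (hker w).2 hw, hψv])
      refine ⟨(⟨w, hw, mem_centralizer_singleton_iff.2 ?_⟩, ⟨w⁻¹ * v, O.mul_mem (O.inv_mem hw) hv,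
        mem_centralizer_singleton_iff.2 ?_⟩), Subtype.ext (mul_inv_cancel_left w v)⟩
      · calc w * a = w * (w⁻¹ * a * w) := by rw [e1]
          _ = a * w := by group
      · calc w⁻¹ * v * a' = w⁻¹ * t * w * (w⁻¹ * v) := by rw [htdef]; group
          _ = a' * (w⁻¹ * v) := by rw [e2]
  obtain ⟨g, hg⟩ := hb' a' ha'2 fun h => by
    have h1 := (hker _).2 h
    rw [hNO a' ha'N h, mul_one] at hψaa'
    have := (orderOf_map_dvd ψ a).trans (dvd_of_eq ha2)
    rw [hψaa'] at this
    exact hr ((Nat.prime_dvd_prime_iff_eq hr' Nat.prime_two).1 this)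
  have hCC : Nat.card C' = Nat.card C := by
    rw [← Subgroup.card_map_of_injective (K := C) (MulAut.conj g).injective (f := (MulAut.conj g).toMonoidHom)]
    refine congrArg (fun H : Subgroup G => Nat.card H) (Subgroup.ext fun z => ?_)
    constructor
    · rintro ⟨hzO, hz⟩
      refine ⟨g⁻¹ * z * g, ⟨by simpa using hN'.conj_mem _ hzO g⁻¹, mem_centralizer_singleton_iff.2 ?_⟩,
        by simp [mul_assoc]⟩
      have hz' := mem_centralizer_singleton_iff.1 hz
      rw [← hg] at hz'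
      calc g⁻¹ * z * g * a = g⁻¹ * (z * (g * a * g⁻¹)) * g := by group
        _ = g⁻¹ * (g * a * g⁻¹ * z) * g := by rw [hz']
        _ = _ := by group
    · rintro ⟨c, ⟨hcO, hc⟩, rfl⟩
      refine ⟨hN'.conj_mem _ hcO g, mem_centralizer_singleton_iff.2 ?_⟩
      have hc' := mem_centralizer_singleton_iff.1 hc
      simp only [MulEquiv.coe_toMonoidHom, MulAut.conj_apply, ← hg]
      calc g * c * g⁻¹ * (g * a * g⁻¹) = g * (c * a) * g⁻¹ := by group
        _ = g * (a * c) * g⁻¹ := by rw [hc']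
        _ = _ := by group
  rw [sq, ← Nat.card_congr (Equiv.ofBijective _ hbij2), Nat.card_prod, hCC]

end Cfsg.Agent.S2873
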