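import Cfsg.Statements.S2874
import Cfsg.Agent.H60.GR2

set_option autoImplicit false
open Cfsg

namespace Cfsg.Agent.S2874

open Subgroup


/-- For k ≥ 2, any two subgroups of GL₂(ℤ/2ᵏℤ) (the automorphism group of the homocyclic group ℤ/2ᵏ × ℤ/2ᵏ) that are isomorphic to the alternating group of degree 4 are conjugate. -/
theorem result (k : ℕ) (hk : 2 ≤ k) (H₁ H₂ : Subgroup (GL (Fin 2) (ZMod (2 ^ k)))) (h₁ : Nonempty (↥H₁ ≃* ↥(alternatingGroup (Fin 4)))) (h₂ : Nonempty (↥H₂ ≃* ↥(alternatingGroup (Fin 4)))) : ∃ g : GL (Fin 2) (ZMod (2 ^ k)), H₂ = H₁.map (MulAut.conj g).toMonoidHom := by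
  obtain ⟨e₁⟩ := h₁
  obtain ⟨e₂⟩ := h₂
  obtain ⟨a, ha⟩ := Cfsg.Agent.H60.a4_conj_into (by omega) e₁
  obtain ⟨b, hb⟩ := Cfsg.Agent.H60.a4_conj_into (by omega) e₂
  refine ⟨b⁻¹ * a, Subgroup.ext fun x => ⟨fun hx => ?_, ?_⟩⟩
  · have : ((b * x * b⁻¹ : GL (Fin 2) (ZMod (2 ^ k))) : Matrix (Fin 2) (Fin 2) (ZMod (2 ^ k))) ∈
        Cfsg.Agent.H60.a4Set k := hb ▸ ⟨⟨x, hx⟩, Set.mem_univ _, rfl⟩
    rw [← ha] at this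
    obtain ⟨y, -, hy⟩ := this
    refine ⟨y, y.2, ?_⟩
    have h' : a * y.1 * a⁻¹ = b * x * b⁻¹ := Units.ext hy
    show b⁻¹ * a * y.1 * (b⁻¹ * a)⁻¹ = x
    rw [show b⁻¹ * a * y.1 * (b⁻¹ * a)⁻¹ = b⁻¹ * (a * y.1 * a⁻¹) * b by group, h']
    group
  · rintro ⟨y, hy, rfl⟩
    have : ((a * y * a⁻¹ : GL (Fin 2) (ZMod (2 ^ k))) : Matrix (Fin 2) (Fin 2) (ZMod (2 ^ k))) ∈
        Cfsg.Agent.H60.a4Set k := ha ▸ ⟨⟨y, hy⟩, Set.mem_univ _, rfl⟩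
    rw [← hb] at this
    obtain ⟨z, -, hz⟩ := this
    have h' : b * z.1 * b⁻¹ = a * y * a⁻¹ := Units.ext hz
    show b⁻¹ * a * y * (b⁻¹ * a)⁻¹ ∈ H₂
    rw [show b⁻¹ * a * y * (b⁻¹ * a)⁻¹ = b⁻¹ * (a * y * a⁻¹) * b by group, ← h']
    simpa [mul_assoc] using z.2

end Cfsg.Agent.S2874
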