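import Cfsg.Statements.S2879
import Cfsg.Agent.H25.QuaternionSylow
import Cfsg.Agent.H39.SemiDihedral
import Cfsg.Agent.Cores.Constrained

set_option autoImplicit false
open Cfsg

namespace Cfsg.Agent.S2879

open Subgroup

/-- A common normal form for dihedral and quasi-dihedral 2-groups. -/
structure Gen2 {G : Type*} [Group G] (T : Subgroup G) (x y : G) (e : ℤ) : Prop where
  hx : x ∈ T
  hy : y ∈ T
  y2 : y * y = 1
  conj : y * x * y⁻¹ = x ^ e
  e4 : (4 : ℤ) ∣ e + 1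
  xe : (orderOf x : ℤ) ∣ 2 * (e + 1)
  x4 : 4 ∣ orderOf x
  cases : ∀ g ∈ T, g ∈ zpowers x ∨ g * y ∈ zpowers x

theorem exists_gen2 {G : Type*} [Group G] [Finite G] {S : Subgroup G} (hp : IsPGroup 2 S)
    (h : (∃ n : ℕ, 4 ≤ n ∧ Nonempty (S ≃* DihedralGroup n)) ∨ Cfsg.IsQuasiDihedral S) :
    ∃ x y e, Gen2 S x y e := by
  rcases h with ⟨n, hn, ⟨f⟩⟩ | h
  · haveI : NeZero n := ⟨by omega⟩
    have h4 : 4 ∣ n := by
      obtain ⟨k, hk⟩ := IsPGroup.iff_card.mp hp
      rw [Nat.card_congr f.toEquiv, DihedralGroup.nat_card] at hk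
      rcases k with _ | _ | _ | k
      · norm_num at hk
      · norm_num at hk; omega
      · norm_num at hk; omega
      · exact ⟨2 ^ k, by rw [pow_succ, pow_succ, pow_succ] at hk; omega⟩
    have ho : orderOf ((f.symm (DihedralGroup.r 1) : S) : G) = n := by
      rw [Subgroup.orderOf_coe, MulEquiv.orderOf_eq, DihedralGroup.orderOf_r_one]
    refine ⟨f.symm (DihedralGroup.r 1), f.symm (DihedralGroup.sr 0), -1, ⟨SetLike.coe_mem _, SetLike.coe_mem _, ?_, ?_,
      by norm_num, by norm_num, by rw [ho]; exact h4, ?_⟩⟩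
    · rw [← Subgroup.coe_mul, ← map_mul, DihedralGroup.sr_mul_self, map_one, Subgroup.coe_one]
    · rw [← Subgroup.coe_inv, ← Subgroup.coe_mul, ← Subgroup.coe_mul, ← Subgroup.coe_zpow, ← map_inv, ← map_mul,
        ← map_mul, ← map_zpow]
      simp [DihedralGroup.sr_mul_r, DihedralGroup.sr_mul_sr]
    · intro g hg
      have hz : ∀ i : ZMod n, ((f.symm (DihedralGroup.r i) : S) : G) ∈ zpowers ((f.symm (DihedralGroup.r 1) : S) : G) := fun i => by
        rw [← ZMod.natCast_zmod_val i, ← DihedralGroup.r_one_pow, map_pow, Subgroup.coe_pow]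
        exact pow_mem (mem_zpowers _) _
      obtain ⟨d, hd⟩ : ∃ d, f.symm d = (⟨g, hg⟩ : S) := ⟨f ⟨g, hg⟩, f.symm_apply_apply _⟩
      have hd' : ((f.symm d : S) : G) = g := by rw [hd]
      rcases d with i | i
      · left; rw [← hd']; exact hz i
      · right; rw [← hd', ← Subgroup.coe_mul, ← map_mul, DihedralGroup.sr_mul_sr]; exact hz _
  · obtain ⟨m, x, y, hs⟩ := H39.exists_sdGen h
    refine ⟨x, y, 4 * 2 ^ m - 1, ⟨x.2, y.2, congrArg Subtype.val hs.y_mul_self, ?_, ⟨2 ^ m, by ring⟩, ?_, ?_, ?_⟩⟩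
    · have := hs.conj_zpow_x 1
      rw [zpow_one, one_mul] at this
      exact_mod_cast congrArg Subtype.val this
    · rw [Subgroup.orderOf_coe, hs.ox]; exact ⟨1, by push_cast; ring⟩
    · rw [Subgroup.orderOf_coe, hs.ox]; exact ⟨2 * 2 ^ m, by ring⟩
    · intro g hg
      rcases hs.cases_elem ⟨g, hg⟩ with ⟨i, hi⟩ | ⟨i, hi⟩
      · exact Or.inl ⟨i, by simpa using (congrArg Subtype.val hi).symm⟩
      · refine Or.inr ⟨i, ?_⟩
        have hy := congrArg Subtype.val hs.y_mul_self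
        have hi' : g = (x : G) ^ i * y := by simpa using congrArg Subtype.val hi
        simp only [Subgroup.coe_mul, Subgroup.coe_one] at hy
        show (x : G) ^ i = g * y
        rw [hi', mul_assoc, hy, mul_one]

namespace Gen2

variable {G : Type*} [Group G] {T : Subgroup G} {x y : G} {e : ℤ} (d : Gen2 T x y e)
include d

theorem zpow_eq_one {i : ℤ} : x ^ i = 1 ↔ (orderOf x : ℤ) ∣ i := orderOf_dvd_iff_zpow_eq_one.symm

theorem conj_pow (i : ℤ) : y * x ^ i * y⁻¹ = x ^ (e * i) := by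
  rw [← conj_zpow, d.conj, ← zpow_mul]

theorem yn : y ∉ zpowers x := by
  rintro ⟨i, hi⟩
  have h := d.conj
  rw [← hi] at h
  have h2 : x ^ (e - 1) = 1 := by
    have e1 : x ^ i * x * (x ^ i)⁻¹ = x := by group
    rw [e1] at h
    rw [zpow_sub, zpow_one, ← h, mul_inv_cancel]
  have h4 : (4 : ℤ) ∣ e - 1 := (Int.natCast_dvd_natCast.2 d.x4).trans (d.zpow_eq_one.1 h2)
  have := dvd_sub d.e4 h4
  omega

theorem out {g : G} (hg : g ∈ T) (h : g ∉ zpowers x) : ∃ i : ℤ, g = x ^ i * y := by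
  obtain ⟨i, hi⟩ := (d.cases g hg).resolve_left h
  exact ⟨i, by show g = x ^ i * y; rw [show x ^ i = g * y from hi, mul_assoc, d.y2, mul_one]⟩

theorem out_pow_four {g : G} (hg : g ∈ T) (h : g ∉ zpowers x) : g ^ 4 = 1 := by
  obtain ⟨i, rfl⟩ := d.out hg h
  have h2 : x ^ i * y * (x ^ i * y) = x ^ (i * (e + 1)) := by
    have := d.conj_pow i
    rw [inv_eq_of_mul_eq_one_right d.y2] at this
    calc x ^ i * y * (x ^ i * y) = x ^ i * (y * x ^ i * y) := by group
      _ = _ := by rw [this, ← zpow_add]; ring_nf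
  rw [show 4 = 2 * 2 from rfl, pow_mul, sq, sq, h2, ← zpow_add, d.zpow_eq_one]
  rw [show i * (e + 1) + i * (e + 1) = i * (2 * (e + 1)) by ring]
  exact d.xe.mul_left i

theorem out_conj {g : G} (hg : g ∈ T) (h : g ∉ zpowers x) (j : ℤ) : g * x ^ j * g⁻¹ = x ^ (e * j) := by
  obtain ⟨i, rfl⟩ := d.out hg h
  calc x ^ i * y * x ^ j * (x ^ i * y)⁻¹ = x ^ i * (y * x ^ j * y⁻¹) * (x ^ i)⁻¹ := by group
    _ = _ := by rw [d.conj_pow]; group

theorem out_conj_four {g c : G} (hg : g ∈ T) (h : g ∉ zpowers x) (hc : c ∈ zpowers x) (h4 : c ^ 4 = 1) :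
    g * c * g⁻¹ = c⁻¹ := by
  obtain ⟨j, rfl⟩ := hc
  show g * x ^ j * g⁻¹ = (x ^ j)⁻¹
  obtain ⟨k, hk⟩ := d.e4
  have h4' : (x ^ j) ^ (4 : ℤ) = 1 := by rw [show (4 : ℤ) = ((4 : ℕ) : ℤ) from rfl, zpow_natCast]; exact h4
  rw [d.out_conj hg h, show e = 4 * k - 1 by omega, mul_comm, zpow_mul, zpow_sub, zpow_mul, h4', one_zpow,
    zpow_one, one_mul]

theorem center_eq [Finite G] : T ⊓ centralizer (T : Set G) = zpowers (x ^ (orderOf x / 2)) ∧
    orderOf (x ^ (orderOf x / 2)) = 2 := by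
  obtain ⟨N, hN⟩ := d.x4
  have hNpos : 0 < N := by
    rcases N with _ | N
    · have := orderOf_pos x; omega
    · omega
  have h2 : orderOf x / 2 = 2 * N := by omega
  rw [h2]
  have ho : orderOf (x ^ (2 * N)) = 2 := by
    rw [orderOf_pow' x (by omega), hN, Nat.gcd_eq_right ⟨2, by ring⟩, Nat.div_eq_of_eq_mul_left (by omega) (by ring : 4 * N = 2 * (2 * N))]
  refine ⟨le_antisymm ?_ ?_, ho⟩
  · intro g hgi
    obtain ⟨hg, hgc⟩ := mem_inf.1 hgi
    rw [mem_centralizer_iff] at hgc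
    have hgx : g ∈ zpowers x := by
      by_contra h
      have h1 := d.out_conj hg h 1
      rw [zpow_one, mul_one, ← hgc x d.hx, mul_inv_cancel_right] at h1
      have h3 : x ^ (e - 1) = 1 := by rw [zpow_sub, zpow_one, ← h1, mul_inv_cancel]
      have h4 : (4 : ℤ) ∣ e - 1 := (Int.natCast_dvd_natCast.2 d.x4).trans (d.zpow_eq_one.1 h3)
      have := dvd_sub d.e4 h4
      omega
    obtain ⟨i, rfl⟩ := hgx
    have h1 := d.conj_pow i
    rw [hgc y d.hy, mul_inv_cancel_right] at h1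
    have h3 : x ^ (e * i - i) = 1 := by rw [zpow_sub, ← h1, mul_inv_cancel]
    obtain ⟨k, hk⟩ := d.e4
    obtain ⟨t, ht⟩ := d.zpow_eq_one.1 h3
    obtain ⟨u, hu⟩ := d.xe
    -- 2*i is a multiple of the order
    have h5 : (2 * N : ℤ) ∣ i := by
      rw [hN] at ht hu
      push_cast at ht hu
      have hij : i = (N : ℤ) * (i * u - 2 * t) := by
        have : 4 * i = 4 * ((N : ℤ) * (i * u - 2 * t)) := by linear_combination i * hu - 2 * ht
        linarith
      have hk2 : 2 * k = (N : ℤ) * u := by linarith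
      refine ⟨k * (i * u - 2 * t) - t, ?_⟩
      linear_combination (1 + (N : ℤ) * u) * hij - (N : ℤ) * (i * u - 2 * t) * hk2
    obtain ⟨w, rfl⟩ := h5
    refine ⟨w, ?_⟩
    show (x ^ (2 * N)) ^ w = x ^ (2 * (N : ℤ) * w)
    rw [zpow_mul, ← zpow_natCast x (2 * N)]
    push_cast
    rfl
  · rw [zpowers_le]
    refine mem_inf.2 ⟨pow_mem d.hx _, ?_⟩
    rw [mem_centralizer_iff]
    intro g hg
    by_cases h : g ∈ zpowers x
    · obtain ⟨i, rfl⟩ := h
      rw [← zpow_natCast]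
      exact ((Commute.refl x).zpow_zpow i _).eq
    · refine mul_inv_eq_iff_eq_mul.1 ?_
      rw [← zpow_natCast, d.out_conj hg h, ← mul_inv_eq_one, ← zpow_neg, ← zpow_add, d.zpow_eq_one, hN]
      obtain ⟨k, hk⟩ := d.e4
      exact ⟨2 * k - 1, by rw [show e = 4 * k - 1 by omega]; push_cast; ring⟩

end Gen2

theorem conj_eq_of_sq_fixed {G : Type*} [Group G] [Finite G] {g c : G} (hodd : Odd (orderOf g)) (k : ℕ)
    (hc : orderOf c = 2 ^ k) (h : g * (g * c * g⁻¹) * g⁻¹ ∈ zpowers c) : g * c * g⁻¹ = c := by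
  refine H25.conj_eq_of_sq hodd ?_
  have hodd2 : Odd (orderOf (g ^ 2)) := hodd.of_dvd_nat (orderOf_pow_dvd 2)
  have e1 : g ^ 2 * c * (g ^ 2)⁻¹ = g * (g * c * g⁻¹) * g⁻¹ := by rw [sq]; group
  have := H25.conj_eq_of_zpowers hodd2 k hc (by rw [e1]; exact h)
  rwa [e1] at this

theorem card_le_card_mul_inf {G : Type*} [Group G] [Finite G] (H : Subgroup G) (u : G) (S : Set G)
    (hS : ∀ h ∈ H, h * u * h⁻¹ ∈ S) :
    Nat.card H ≤ Nat.card S * Nat.card (H ⊓ centralizer ({u} : Set G) : Subgroup G) := by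
  classical
  set C := (centralizer ({u} : Set G)).subgroupOf H with hC
  have h1 : C.index ≤ Nat.card S := by
    refine Nat.card_le_card_of_injective (fun q : H ⧸ C => (⟨(q.out : G) * u * (q.out : G)⁻¹, hS _ q.out.2⟩ : S)) ?_
    intro a b hab
    have h2 : (a.out : G) * u * (a.out : G)⁻¹ = (b.out : G) * u * (b.out : G)⁻¹ := congrArg Subtype.val hab
    rw [← a.out_eq', ← b.out_eq']
    refine QuotientGroup.eq.2 ?_
    show ((a.out⁻¹ * b.out : H) : G) ∈ centralizer ({u} : Set G)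
    rw [mem_centralizer_singleton_iff, Subgroup.coe_mul, Subgroup.coe_inv]
    calc (a.out : G)⁻¹ * b.out * u = (a.out : G)⁻¹ * ((b.out : G) * u * (b.out : G)⁻¹) * b.out := by group
      _ = _ := by rw [← h2]; group
  calc Nat.card H = C.index * Nat.card C := C.index_mul_card.symm
    _ ≤ _ := by
      refine Nat.mul_le_mul h1 (le_of_eq ?_)
      rw [hC, ← inf_subgroupOf_left, Nat.card_congr (subgroupOfEquivOfLe inf_le_left).toEquiv]

theorem inverse_rels {G : Type*} [Group G] {c b w : G} (hb : b = w * c * w⁻¹) (h4 : c ^ 4 = 1) (hsq : b ^ 2 = c ^ 2)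
    (hi : b * c * b⁻¹ = c⁻¹) (hsh : w * b * w⁻¹ = c⁻¹ * b) :
    w⁻¹ * b * (w⁻¹)⁻¹ = c ∧ c ^ 2 = b ^ 2 ∧ c * b * c⁻¹ = b⁻¹ ∧ w⁻¹ * c * (w⁻¹)⁻¹ = b * c := by
  have hbc : b * c = c⁻¹ * b := by rw [← hi, inv_mul_cancel_right]
  have hcbc : c * b * c = b := by rw [mul_assoc, hbc, mul_inv_cancel_left]
  have hc3 : c⁻¹ * b * b = c := by
    rw [mul_assoc, ← sq, hsq, sq, inv_mul_cancel_left]
  have hw : w * (b * c) * w⁻¹ = c := by
    calc w * (b * c) * w⁻¹ = (w * b * w⁻¹) * (w * c * w⁻¹) := by group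
      _ = c := by rw [hsh, ← hb, hc3]
  refine ⟨by rw [hb]; group, hsq.symm, ?_, ?_⟩
  · have h4' : c⁻¹ * c⁻¹ = c * c :=
      inv_mul_eq_iff_eq_mul.2 (inv_eq_of_mul_eq_one_right (by simpa [pow_succ, mul_assoc] using h4))
    calc c * b * c⁻¹ = (c * b * c) * (c⁻¹ * c⁻¹) := by group
      _ = b * (c * c) := by rw [hcbc, h4']
      _ = b⁻¹ := by
        refine (eq_inv_of_mul_eq_one_left ?_)
        have hbb : b * b = c * c := by simpa [sq] using hsq
        have hz : c * c * b = b * (c * c) := by rw [← hbb, mul_assoc]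
        rw [mul_assoc b, hz, ← mul_assoc, hbb]
        simpa [pow_succ, mul_assoc] using h4
  · calc w⁻¹ * c * (w⁻¹)⁻¹ = w⁻¹ * (w * (b * c) * w⁻¹) * w := by rw [hw, inv_inv]
      _ = b * c := by group

/-- A normal subgroup of index at most 2 isomorphic to `SL(2,3)` from a quaternion configuration. -/
theorem conclude {G : Type*} [Group G] [Finite G] {P : Subgroup G} [P.Normal] (hP2 : IsPGroup 2 P)
    (hCP : centralizer (P : Set G) ≤ P)
    {c g : G} (hc : orderOf c = 4) (hcP : c ∈ P) (hcy : g * c * g⁻¹ ∉ zpowers c)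
    (hK : ∀ p ∈ P, p ∈ zpowers c ∨ p * (g * c * g⁻¹)⁻¹ ∈ zpowers c) (hodd : Odd (orderOf g)) (hg1 : g ≠ 1)
    (hsq : (g * c * g⁻¹) ^ 2 = c ^ 2) (hinv : g * c * g⁻¹ * c * (g * c * g⁻¹)⁻¹ = c⁻¹)
    (hsh : g * (g * c * g⁻¹) * g⁻¹ = c * (g * c * g⁻¹)) :
    ∃ U : Subgroup G, U.Normal ∧ Nonempty (U ≃* Matrix.SpecialLinearGroup (Fin 2) (ZMod 3)) := by
  set b := g * c * g⁻¹ with hb
  have hbP : b ∈ P := (inferInstance : P.Normal).conj_mem c hcP g
  have hc4 : c ^ 4 = 1 := by rw [← hc]; exact pow_orderOf_eq_one c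
  have hc2 : c ^ 2 ≠ 1 := fun h => by have := orderOf_dvd_of_pow_eq_one h; rw [hc] at this; norm_num at this
  have hCPle : ∀ h : G, h * c = c * h → h * b = b * h → h ∈ centralizer (P : Set G) := by
    intro h h1 h2
    rw [mem_centralizer_iff]
    intro p hp
    rcases hK p hp with ⟨i, hi⟩ | ⟨i, hi⟩
    · rw [← hi]; exact ((show Commute h c from h1).zpow_right i).eq.symm
    · have hpe : p = c ^ i * b := by rw [show c ^ i = p * b⁻¹ from hi, inv_mul_cancel_right]
      rw [hpe]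
      exact (((show Commute h c from h1).zpow_right i).mul_right (show Commute h b from h2)).eq.symm
  have hg3c : g ^ 3 * c = c * g ^ 3 := by
    refine mul_inv_eq_iff_eq_mul.mp ?_
    calc g ^ 3 * c * (g ^ 3)⁻¹ = g * (g * b * g⁻¹) * g⁻¹ := by
          simp [hb, pow_succ, mul_assoc, mul_inv_rev]
      _ = g * (c * b) * g⁻¹ := by rw [hsh]
      _ = (g * c * g⁻¹) * (g * b * g⁻¹) := by group
      _ = b * (c * b) := by rw [hsh, hb]
      _ = (b * c * b⁻¹) * b ^ 2 := by simp [sq, mul_assoc]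
      _ = c := by rw [hinv, hsq, sq, inv_mul_cancel_left]
  have hg3b : g ^ 3 * b = b * g ^ 3 := by
    have hgg : Commute (g ^ 3) g := (Commute.refl g).pow_left 3
    exact ((hgg.mul_right (show Commute (g ^ 3) c from hg3c)).mul_right hgg.inv_right).eq
  have h2P : ∀ u ∈ P, Odd (orderOf u) → u = 1 := fun u hu ho => by
    obtain ⟨k, hk⟩ := hP2 ⟨u, hu⟩
    have hd : orderOf u ∣ 2 ^ k := orderOf_dvd_of_pow_eq_one (congrArg Subtype.val hk)
    exact orderOf_eq_one_iff.1 (Nat.eq_one_of_dvd_coprimes ((Nat.coprime_two_right.mpr ho).pow_right k) dvd_rfl hd)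
  have hg3 : g ^ 3 = 1 := h2P _ (hCP (hCPle _ hg3c hg3b)) (hodd.of_dvd_nat (orderOf_pow_dvd 3))
  have hgP : g ∉ P := fun h => hg1 (h2P g h hodd)
  have hle : closure ({c, b} : Set G) ≤ P := by
    rw [closure_le, Set.insert_subset_iff, Set.singleton_subset_iff]; exact ⟨hcP, hbP⟩
  obtain ⟨f, hf, hcf, hgf⟩ := H25.exists_model_hom (c := c) (g := g) ⟨hg3, hc4, hsq, hinv, hsh⟩ hc2
    (fun h => hgP (hle h))
  obtain ⟨e'⟩ := H25.nonempty_model_equiv_SL
  refine ⟨f.range, ?_, ⟨(MonoidHom.ofInjective hf).symm.trans e'⟩⟩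
  have hU : Nat.card f.range = 24 := by
    rw [← Nat.card_congr (MonoidHom.ofInjective hf).toEquiv, SemidirectProduct.card, Nat.card_eq_fintype_card,
      Nat.card_eq_fintype_card]
    decide
  -- bounds
  have hcard : Nat.card (zpowers c) = 4 := by rw [Nat.card_zpowers, hc]
  have hS1 : Nat.card {u : G | u ∈ P ∧ u ≠ 1} ≤ 7 := by
    have hP8 : Nat.card P ≤ 8 := by
      refine le_trans (Nat.card_le_card_of_surjective (fun t : Fin 2 × zpowers c =>
        (⟨(t.2 : G) * b ^ (t.1 : ℕ), mul_mem (zpowers_le.2 hcP t.2.2) (pow_mem hbP _)⟩ : P)) ?_) ?_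
      · rintro ⟨p, hp⟩
        rcases hK p hp with h | h
        · exact ⟨⟨0, ⟨p, h⟩⟩, by simp⟩
        · exact ⟨⟨1, ⟨p * b⁻¹, h⟩⟩, Subtype.ext (by simp)⟩
      · rw [Nat.card_prod, hcard, Nat.card_fin]
    have h1 : Nat.card {u : G | u ∈ P ∧ u ≠ 1} = Nat.card P - 1 := by
      rw [Nat.card_coe_set_eq, show {u : G | u ∈ P ∧ u ≠ 1} = (P : Set G) \ {1} from rfl,
        Set.ncard_sdiff (by simp [one_mem]) (Set.finite_singleton _), Set.ncard_singleton, ← Nat.card_coe_set_eq]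
      rfl
    omega
  have hS2 : Nat.card {u : G | u ∈ P ∧ u ∉ zpowers c} ≤ 4 := by
    rw [← hcard]
    refine Nat.card_le_card_of_injective (fun u : {u : G | u ∈ P ∧ u ∉ zpowers c} =>
      (⟨u.1 * b⁻¹, (hK u.1 u.2.1).resolve_left u.2.2⟩ : zpowers c)) ?_
    intro u v huv
    exact Subtype.ext (mul_right_cancel (congrArg Subtype.val huv))
  have hC2 : Nat.card (centralizer ({c} : Set G) ⊓ centralizer ({b} : Set G) : Subgroup G) ≤ 2 := by
    have hsub : centralizer ({c} : Set G) ⊓ centralizer ({b} : Set G) ≤ zpowers (c ^ 2) := by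
      intro h hh
      obtain ⟨h1, h2⟩ := mem_inf.1 hh
      rw [mem_centralizer_singleton_iff] at h1 h2
      have hhP : h ∈ P := hCP (hCPle h h1 h2)
      rcases hK h hhP with ⟨i, hi⟩ | ⟨i, hi⟩
      · have hi' : h = c ^ i := hi.symm
        subst hi'
        have h3 : b * c ^ i * b⁻¹ = c ^ i := by rw [← h2, mul_inv_cancel_right]
        rw [← conj_zpow, hinv, inv_zpow', ← mul_inv_eq_one, ← zpow_neg, ← zpow_add] at h3
        have h4 := (orderOf_dvd_iff_zpow_eq_one).2 h3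
        rw [hc] at h4
        obtain ⟨t, rfl⟩ : (2 : ℤ) ∣ i := by push_cast at h4; omega
        exact ⟨t, by show (c ^ 2) ^ t = _; rw [← zpow_natCast, ← zpow_mul]; norm_num⟩
      · exfalso
        have hpe : h = c ^ i * b := by rw [show c ^ i = h * b⁻¹ from hi, inv_mul_cancel_right]
        have h3 : h * c * h⁻¹ = c := by rw [h1, mul_inv_cancel_right]
        rw [hpe] at h3
        have h5 : c ^ i * b * c * (c ^ i * b)⁻¹ = c ^ i * (b * c * b⁻¹) * (c ^ i)⁻¹ := by group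
        rw [h5, hinv] at h3
        have h6 : c⁻¹ = c := by
          calc c⁻¹ = c ^ i * c⁻¹ * (c ^ i)⁻¹ := by group
            _ = c := h3
        exact hc2 (by rw [sq]; exact inv_eq_iff_mul_eq_one.1 h6)
    refine (Nat.le_of_dvd Nat.card_pos (card_dvd_of_le hsub)).trans (le_of_eq ?_)
    rw [Nat.card_zpowers, orderOf_pow' c two_ne_zero, hc]
    rfl
  have hG : Nat.card G ≤ 56 := by
    have h1 := card_le_card_mul_inf (⊤ : Subgroup G) c {u : G | u ∈ P ∧ u ≠ 1} fun h _ => by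
      refine ⟨(inferInstance : P.Normal).conj_mem c hcP h, fun h0 => ?_⟩
      have : c = 1 := by simpa [mul_assoc] using congrArg (fun u => h⁻¹ * u * h) h0
      simp [this] at hc
    rw [top_inf_eq, card_top] at h1
    have h2 := card_le_card_mul_inf (centralizer ({c} : Set G)) b {u : G | u ∈ P ∧ u ∉ zpowers c} fun h hh => by
      refine ⟨(inferInstance : P.Normal).conj_mem b hbP h, fun h0 => hcy ?_⟩
      obtain ⟨i, hi⟩ := h0
      rw [mem_centralizer_singleton_iff] at hh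
      refine ⟨i, ?_⟩
      show c ^ i = b
      have h3 : Commute h (c ^ i) := (show Commute h c from hh).zpow_right i
      calc c ^ i = h⁻¹ * (c ^ i) * h := by rw [h3.inv_left.eq, inv_mul_cancel_right]
        _ = b := by rw [show c ^ i = h * b * h⁻¹ from hi]; group
    calc Nat.card G ≤ 7 * (4 * 2) := h1.trans (Nat.mul_le_mul hS1 (h2.trans (Nat.mul_le_mul hS2 hC2)))
      _ = 56 := rfl
  have hidx := f.range.card_mul_index
  rw [hU] at hidx
  have hpos : 0 < f.range.index := Nat.pos_of_ne_zero index_ne_zero_of_finite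
  rcases (show f.range.index = 1 ∨ f.range.index = 2 by omega) with h | h
  · exact normal_of_index_eq_one h
  · exact normal_of_index_eq_two h


/-- Let G be a finite solvable group with O(G) = 1 whose Sylow 2-subgroup T is dihedral of order at least 8 or semidihedral, with G ≠ T and Z(T) normal in G. Then G has a normal subgroup isomorphic to SL₂(3). -/
theorem result {G : Type*} [Group G] [Finite G] (hsol : IsSolvable G) (hO : Cfsg.oddCore G = ⊥) (T : Sylow 2 G) (hT : (∃ n : ℕ, 4 ≤ n ∧ Nonempty (↥(T : Subgroup G) ≃* DihedralGroup n)) ∨ Cfsg.IsQuasiDihedral ↥(T : Subgroup G)) (hne : (T : Subgroup G) ≠ ⊤) (hZ : ((T : Subgroup G) ⊓ Subgroup.centralizer ((T : Subgroup G) : Set G)).Normal) : ∃ U : Subgroup G, U.Normal ∧ Nonempty (↥U ≃* Matrix.SpecialLinearGroup (Fin 2) (ZMod 3)) := by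
  classical
  obtain ⟨x, y, e, d⟩ := exists_gen2 T.2 hT
  set P := Cfsg.pCore 2 G with hPdef
  have hP2 : IsPGroup 2 P := Cores.pCore_isPGroup
  have hPT : P ≤ (T : Subgroup G) := Cores.pCore_le_sylow T
  haveI : Group.IsSolvable G := hsol
  have hCP : centralizer (P : Set G) ≤ P := Cores.centralizer_pCore_le Cores.isPSolvable_of_isSolvable hO
  -- the central involution
  obtain ⟨hZeq, hz2⟩ := d.center_eq
  set z := x ^ (orderOf x / 2) with hz
  have hzc : ∀ h : G, h * z = z * h := by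
    intro h
    have h1 := hZ.conj_mem z (hZeq.ge (mem_zpowers z)) h
    rw [hZeq] at h1
    obtain ⟨i, hi⟩ := h1
    have hi' : z ^ i = h * z * h⁻¹ := hi
    have hzz : z ^ (2 : ℤ) = 1 := by
      rw [show (2 : ℤ) = ((2 : ℕ) : ℤ) from rfl, zpow_natCast, ← hz2]; exact pow_orderOf_eq_one z
    rcases Int.even_or_odd' i with ⟨j, rfl | rfl⟩
    · exfalso
      rw [zpow_mul, hzz, one_zpow] at hi'
      have : z = 1 := by simpa [mul_assoc] using congrArg (fun u => h⁻¹ * u * h) hi'.symm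
      simp [this] at hz2
    · rw [zpow_add, zpow_mul, hzz, one_zpow, one_mul, zpow_one] at hi'
      exact (mul_inv_eq_iff_eq_mul.1 hi'.symm)
  -- an element of odd order
  obtain ⟨r, hr, hrdvd⟩ : ∃ r, r.Prime ∧ r ∣ (T : Subgroup G).index :=
    Nat.exists_prime_and_dvd (fun h => hne (index_eq_one.1 h))
  have hr2 : r ≠ 2 := fun h => T.not_dvd_index (h ▸ hrdvd)
  haveI := Fact.mk hr
  obtain ⟨w, hw⟩ := exists_prime_orderOf_dvd_card' (G := G) r (hrdvd.trans (index_dvd_card _))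
  have hodd : Odd (orderOf w) := by rw [hw]; exact hr.odd_of_ne_two hr2
  have h2P : ∀ u ∈ P, ∃ k, orderOf u = 2 ^ k := fun u hu => by
    obtain ⟨k, hk⟩ := hP2 ⟨u, hu⟩
    obtain ⟨j, -, hj⟩ := (Nat.dvd_prime_pow Nat.prime_two).1
      (orderOf_dvd_of_pow_eq_one (congrArg Subtype.val hk : u ^ 2 ^ k = 1))
    exact ⟨j, hj⟩
  have hwP : w ∉ P := fun h => by
    obtain ⟨k, hk⟩ := h2P w h
    rcases k with _ | k
    · rw [hk, pow_zero] at hw; exact hr.one_lt.ne hw
    · rw [hk] at hodd; exact (Nat.not_odd_iff_even.2 ⟨2 ^ k, by ring⟩) hodd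
  -- the cyclic part of P
  set K := P ⊓ zpowers x with hKdef
  haveI : IsCyclic K := isCyclic_of_injective (inclusion (inf_le_right : K ≤ zpowers x)) (inclusion_injective _)
  obtain ⟨⟨c, hcK⟩, hcgen⟩ := IsCyclic.exists_generator (α := K)
  have hKc : ∀ u ∈ K, u ∈ zpowers c := fun u hu => by
    obtain ⟨i, hi⟩ := hcgen ⟨u, hu⟩
    exact ⟨i, by simpa using congrArg Subtype.val hi⟩
  have hcKle : zpowers c ≤ K := zpowers_le.2 hcK
  have hcP : c ∈ P := (mem_inf.1 hcK).1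
  have hcx : c ∈ zpowers x := (mem_inf.1 hcK).2
  have hPK : ∀ u ∈ P, ∀ v ∈ P, u ∉ zpowers x → v ∉ zpowers x → u * v⁻¹ ∈ zpowers c := by
    intro u hu v hv h1 h2
    refine hKc _ (mem_inf.2 ⟨mul_mem hu (inv_mem hv), ?_⟩)
    obtain ⟨i, rfl⟩ := d.out (hPT hu) h1
    obtain ⟨j, rfl⟩ := d.out (hPT hv) h2
    exact ⟨i - j, by show x ^ (i - j) = _; group⟩
  have hbad : w * c * w⁻¹ ∉ zpowers c := by
    intro hmem
    obtain ⟨k, hk⟩ := h2P c hcP
    have hfix := H25.conj_eq_of_zpowers hodd k hk hmem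
    have hfixall : ∀ u ∈ zpowers c, w * u * w⁻¹ = u := by
      rintro _ ⟨i, rfl⟩
      show w * c ^ i * w⁻¹ = c ^ i
      rw [← conj_zpow, hfix]
    refine hwP (hCP (mem_centralizer_iff.2 fun p hp => ?_))
    suffices h : w * p * w⁻¹ = p from (mul_inv_eq_iff_eq_mul.1 h).symm
    by_cases hpx : p ∈ zpowers x
    · exact hfixall p (hKc p ⟨hp, hpx⟩)
    · have hp' : w * p * w⁻¹ ∈ P := Normal.conj_mem (inferInstance : P.Normal) p hp w
      have hpx' : w * p * w⁻¹ ∉ zpowers x := by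
        intro h
        have h1 := hfixall _ (hKc _ ⟨hp', h⟩)
        have h2 : w * p * w⁻¹ = p := mul_left_cancel (mul_right_cancel h1)
        exact hpx (h2 ▸ h)
      have hdmem : p⁻¹ * (w * p * w⁻¹) ∈ zpowers c := by
        have := hPK p⁻¹ (inv_mem hp) (w * p * w⁻¹)⁻¹ (inv_mem hp') (fun h => hpx (inv_mem_iff.1 h))
          (fun h => hpx' (inv_mem_iff.1 h))
        rwa [inv_inv] at this
      have hit := H25.conj_fixed_of_iterate (g := w) (w := p) (d := p⁻¹ * (w * p * w⁻¹))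
        (mul_inv_cancel_left _ _).symm (hfixall _ hdmem) (orderOf w)
      rw [pow_orderOf_eq_one, one_mul, inv_one, mul_one, left_eq_mul] at hit
      obtain ⟨j, hj⟩ := h2P _ (mem_inf.1 (hcKle hdmem)).1
      have h0 : orderOf (p⁻¹ * (w * p * w⁻¹)) = 1 :=
        Nat.eq_one_of_dvd_coprimes ((Nat.coprime_two_right.mpr hodd).pow_right j)
          (orderOf_dvd_of_pow_eq_one hit) (dvd_of_eq hj)
      exact (inv_mul_eq_one.1 (orderOf_eq_one_iff.1 h0)).symm
  have hbP : w * c * w⁻¹ ∈ P := Normal.conj_mem (inferInstance : P.Normal) c hcP w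
  have hbx : w * c * w⁻¹ ∉ zpowers x := fun h => hbad (hKc _ ⟨hbP, h⟩)
  have hoconj : orderOf (w * c * w⁻¹) = orderOf c := MulEquiv.orderOf_eq (MulAut.conj w) c
  have hc4 : c ^ 4 = 1 := by
    rw [← orderOf_dvd_iff_pow_eq_one, ← hoconj, orderOf_dvd_iff_pow_eq_one]
    exact d.out_pow_four (hPT hbP) hbx
  have hzuniq : ∀ u ∈ zpowers x, u * u = 1 → u = 1 ∨ u = z := by
    intro u hu h2
    obtain ⟨i, rfl⟩ := hu
    change x ^ i * x ^ i = 1 at h2
    rw [← zpow_add, d.zpow_eq_one] at h2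
    obtain ⟨t, ht⟩ := h2
    obtain ⟨N, hN⟩ := d.x4
    have hi : i = (orderOf x / 2 : ℕ) * t := by
      rw [hN] at ht ⊢
      rw [show 4 * N / 2 = 2 * N by omega]
      push_cast at ht ⊢
      linarith
    have he : x ^ i = z ^ t := by rw [hi, zpow_mul, zpow_natCast]
    show x ^ i = 1 ∨ x ^ i = z
    rw [he]
    have hzz : z ^ (2 : ℤ) = 1 := by
      rw [show (2 : ℤ) = ((2 : ℕ) : ℤ) from rfl, zpow_natCast, ← hz2]; exact pow_orderOf_eq_one z
    rcases Int.even_or_odd' t with ⟨j, rfl | rfl⟩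
    · left; rw [zpow_mul, hzz, one_zpow]
    · right; rw [zpow_add, zpow_mul, hzz, one_zpow, one_mul, zpow_one]
  have hcentral : ∀ u, (u = 1 ∨ u = z) → w * u * w⁻¹ = u := by
    rintro u (rfl | rfl)
    · simp
    · rw [hzc w, mul_inv_cancel_right]
  have hc : orderOf c = 4 := by
    refine orderOf_eq_prime_pow (p := 2) (n := 1) ?_ (by norm_num; exact hc4)
    intro h
    norm_num at h
    rw [sq] at h
    exact hbad (by rw [hcentral c (hzuniq c hcx h)]; exact mem_zpowers c)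
  have hcsq : c ^ 2 = z := by
    refine (hzuniq _ (pow_mem hcx 2) (by rw [← pow_add]; exact hc4)).resolve_left fun h => ?_
    have := orderOf_dvd_of_pow_eq_one h
    rw [hc] at this
    norm_num at this
  have hKP : ∀ p ∈ P, p ∈ zpowers c ∨ p * (w * c * w⁻¹)⁻¹ ∈ zpowers c := fun p hp => by
    by_cases h : p ∈ zpowers x
    · exact Or.inl (hKc p ⟨hp, h⟩)
    · exact Or.inr (hPK p hp _ hbP h hbx)
  have hsq : (w * c * w⁻¹) ^ 2 = c ^ 2 := by rw [_root_.conj_pow, hcsq, hzc w, mul_inv_cancel_right]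
  have hinv : w * c * w⁻¹ * c * (w * c * w⁻¹)⁻¹ = c⁻¹ := d.out_conj_four (hPT hbP) hbx hcx hc4
  have hb2P : w * (w * c * w⁻¹) * w⁻¹ ∈ P := Normal.conj_mem (inferInstance : P.Normal) _ hbP w
  have hb2 : w * (w * c * w⁻¹) * w⁻¹ ∉ zpowers c := fun h => hbad (by
    rw [conj_eq_of_sq_fixed hodd 2 hc h]; exact mem_zpowers c)
  obtain ⟨i, hi⟩ := (hKP _ hb2P).resolve_left hb2
  change c ^ i = _ at hi
  have hb2eq : w * (w * c * w⁻¹) * w⁻¹ = c ^ i * (w * c * w⁻¹) := by rw [hi, inv_mul_cancel_right]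
  have hpar : ¬ (2 : ℤ) ∣ i := by
    rintro ⟨j, rfl⟩
    have hmem : w * (w * c * w⁻¹) * w⁻¹ ∈ zpowers (w * c * w⁻¹) := by
      rw [hb2eq, zpow_mul, show c ^ (2 : ℤ) = c ^ 2 from zpow_natCast c 2, ← hsq]
      exact mul_mem (zpow_mem (pow_mem (mem_zpowers _) 2) _) (mem_zpowers _)
    have h1 := H25.conj_eq_of_zpowers hodd 2 (by rw [hoconj, hc]; rfl) hmem
    refine hbad ?_
    rw [mul_left_cancel (mul_right_cancel h1)]
    exact mem_zpowers c
  obtain ⟨t, rfl | rfl⟩ : ∃ t, i = 4 * t + 1 ∨ i = 4 * t - 1 := ⟨(i + 1) / 4, by omega⟩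
  · refine conclude hP2 hCP hc hcP hbad hKP hodd (fun h => hwP (h ▸ one_mem P)) hsq hinv ?_
    rw [hb2eq, zpow_add, zpow_mul, show c ^ (4 : ℤ) = c ^ 4 from zpow_natCast c 4, hc4, one_zpow, one_mul, zpow_one]
  · have hsh : w * (w * c * w⁻¹) * w⁻¹ = c⁻¹ * (w * c * w⁻¹) := by
      rw [hb2eq, zpow_sub, zpow_mul, show c ^ (4 : ℤ) = c ^ 4 from zpow_natCast c 4, hc4, one_zpow, one_mul, zpow_one]
    obtain ⟨e1, e2, e3, e4⟩ := inverse_rels rfl hc4 hsq hinv hsh
    refine conclude hP2 hCP (c := w * c * w⁻¹) (g := w⁻¹) (by rw [hoconj, hc]) hbP ?_ ?_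
      (by rwa [orderOf_inv]) (fun h => hwP (inv_eq_one.1 h ▸ one_mem P)) ?_ ?_ ?_
    · rw [e1]
      rintro ⟨j, hj⟩
      change (w * c * w⁻¹) ^ j = c at hj
      rcases Int.even_or_odd' j with ⟨k, rfl | rfl⟩
      · rw [zpow_mul, show (w * c * w⁻¹) ^ (2 : ℤ) = (w * c * w⁻¹) ^ 2 from zpow_natCast _ 2, hsq] at hj
        have h1 : c ^ (2 * k - 1) = 1 := by
          rw [zpow_sub, zpow_one, zpow_mul, show c ^ (2 : ℤ) = c ^ 2 from zpow_natCast c 2, hj, mul_inv_cancel]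
        have h2 := orderOf_dvd_iff_zpow_eq_one.2 h1
        rw [hc] at h2
        push_cast at h2
        omega
      · rw [zpow_add, zpow_mul, show (w * c * w⁻¹) ^ (2 : ℤ) = (w * c * w⁻¹) ^ 2 from zpow_natCast _ 2, hsq,
          zpow_one] at hj
        refine hbad ?_
        rw [eq_inv_mul_of_mul_eq hj]
        exact mul_mem (inv_mem (zpow_mem (pow_mem (mem_zpowers c) 2) k)) (mem_zpowers c)
    · intro p hp
      rw [e1]
      rcases hKP p hp with ⟨j, hj⟩ | ⟨j, hj⟩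
      · change c ^ j = p at hj
        rcases Int.even_or_odd' j with ⟨k, rfl | rfl⟩
        · left
          rw [← hj, zpow_mul, show c ^ (2 : ℤ) = c ^ 2 from zpow_natCast c 2, ← hsq]
          exact zpow_mem (pow_mem (mem_zpowers _) 2) k
        · right
          rw [← hj, zpow_add, zpow_one, mul_inv_cancel_right, zpow_mul,
            show c ^ (2 : ℤ) = c ^ 2 from zpow_natCast c 2, ← hsq]
          exact zpow_mem (pow_mem (mem_zpowers _) 2) k
      · change c ^ j = p * (w * c * w⁻¹)⁻¹ at hj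
        rw [eq_mul_inv_iff_mul_eq] at hj
        rcases Int.even_or_odd' j with ⟨k, rfl | rfl⟩
        · left
          rw [← hj, zpow_mul, show c ^ (2 : ℤ) = c ^ 2 from zpow_natCast c 2, ← hsq]
          exact mul_mem (zpow_mem (pow_mem (mem_zpowers _) 2) k) (mem_zpowers _)
        · right
          have e5 : c * (w * c * w⁻¹) * c⁻¹ ∈ zpowers (w * c * w⁻¹) := by rw [e3]; exact inv_mem (mem_zpowers _)
          rw [← hj, zpow_add, zpow_one, show c ^ (2 * k) * c * (w * c * w⁻¹) * c⁻¹ = c ^ (2 * k) * (c * (w * c * w⁻¹) * c⁻¹) by group, zpow_mul,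
            show c ^ (2 : ℤ) = c ^ 2 from zpow_natCast c 2, ← hsq]
          exact mul_mem (zpow_mem (pow_mem (mem_zpowers _) 2) k) e5
    · rw [e1]; exact e2
    · rw [e1]; exact e3
    · rw [e1]; exact e4

end Cfsg.Agent.S2879
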