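import Cfsg.Statements.S2880
import Cfsg.Agent.H46.Extraspecial
import Cfsg.Agent.PGroups.Extraspecial

set_option autoImplicit false
open Cfsg

namespace Cfsg.Agent.S2880

open Subgroup
set_option linter.style.haveILetI false

theorem card_sq_ne_one {E : Type*} [Group E] [Finite E] (m : ℕ) (hE : Cfsg.IsExtraspecial 2 E)
    (hcard : Nat.card E = 2 ^ (2 * m + 1)) (A : Subgroup E) (hA : Cfsg.IsElementaryAbelian 2 A)
    (hAc : Nat.card A = 2 ^ (m + 1)) : Nat.card {x : E // x ^ 2 ≠ 1} = 2 ^ (2 * m) - 2 ^ m := by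
  classical
  haveI := Fintype.ofFinite E
  obtain ⟨hcomm, hsq⟩ := hA
  have hsqA : ∀ a ∈ A, ∀ b ∈ A, a * b = b * a := fun a ha b hb =>
    congrArg Subtype.val (hcomm.is_comm.comm (⟨a, ha⟩ : A) ⟨b, hb⟩)
  have hAC : A ≤ centralizer (A : Set E) := fun a ha =>
    Subgroup.mem_centralizer_iff.2 fun b hb => hsqA b hb a ha
  -- the centre lies in A and A is self-centralizing
  have hZA : center E ≤ A := by
    set K := A ⊔ center E
    have h1 : K ≤ centralizer (K : Set E) := by
      refine sup_le ?_ (Subgroup.center_le_centralizer _)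
      rw [Subgroup.le_centralizer_iff]
      exact sup_le hAC (Subgroup.center_le_centralizer _)
    have h2 := Cfsg.Agent.H46.es_card_centralizer hE K le_sup_right
    have h3 := Subgroup.card_le_of_le h1
    have h4 : Nat.card K ≤ 2 ^ (m + 1) := by
      by_contra h
      push Not at h
      have : Nat.card K * Nat.card K ≤ 2 ^ (m + 1) * 2 ^ (m + 1) := by
        calc Nat.card K * Nat.card K ≤ Nat.card (centralizer (K : Set E)) * Nat.card K :=
              Nat.mul_le_mul_right _ h3
          _ = 2 ^ (m + 1) * 2 ^ (m + 1) := by rw [h2, hcard]; ring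
      nlinarith
    exact le_sup_right.trans (Subgroup.eq_of_le_of_card_ge (le_sup_left : A ≤ K) (hAc ▸ h4)).ge
  have hself : centralizer (A : Set E) = A := by
    refine (Subgroup.eq_of_le_of_card_ge hAC ?_).symm
    have h2 := Cfsg.Agent.H46.es_card_centralizer hE A hZA
    refine le_of_eq (Nat.eq_of_mul_eq_mul_right (Nat.card_pos (α := A)) ?_)
    rw [h2, hcard, hAc]; ring
  haveI hAn : A.Normal := ⟨fun a ha g => by
    have := mul_mem (hZA (Cfsg.Agent.H46.es_comm_mem hE g a)) ha
    simpa [mul_assoc] using this⟩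
  -- the partner in each coset
  have hex : ∀ q : E ⧸ A, ∃ a ∈ A, q ≠ 1 → q.out * a * q.out⁻¹ * a⁻¹ ≠ 1 := by
    intro q
    by_cases hq : ∃ a ∈ A, q.out * a ≠ a * q.out
    · obtain ⟨a, ha, h⟩ := hq
      exact ⟨a, ha, fun _ h1 => h (mul_inv_eq_one.1 (by rw [← h1]; group) )⟩
    · push Not at hq
      refine ⟨1, one_mem _, fun hne => absurd ?_ hne⟩
      have : q.out ∈ A := hself.le (Subgroup.mem_centralizer_iff.2 fun a ha => (hq a ha).symm)
      rw [← QuotientGroup.out_eq' q]
      exact (QuotientGroup.eq_one_iff _).2 this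
  choose f hfA hf using hex
  obtain ⟨z, hz1, hzZ, hz⟩ : ∃ z : E, z ≠ 1 ∧ z ∈ center E ∧ ∀ w ∈ center E, w = 1 ∨ w = z := by
    obtain ⟨z', hz', huniq⟩ := (Nat.card_eq_two_iff' (⟨1, one_mem _⟩ : center E)).1 hE.2
    refine ⟨z', fun h => hz' (Subtype.ext h), z'.2, fun w hw => ?_⟩
    by_cases h : w = 1
    · exact Or.inl h
    · exact Or.inr (congrArg Subtype.val (huniq ⟨w, hw⟩ fun e => h (congrArg Subtype.val e)))
  have key : ∀ x : E, x ∉ A → (x * f x) ^ 2 = x ^ 2 * z := by
    intro x hx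
    set q : E ⧸ A := (x : E ⧸ A)
    obtain ⟨b, hb⟩ := QuotientGroup.mk_out_eq_mul A x
    set a := f q with ha
    have hne : q ≠ 1 := fun h => hx ((QuotientGroup.eq_one_iff x).1 h)
    have h1 := hf q hne
    rw [show q.out = x * b from hb, ← ha] at h1
    have hc : x * a * x⁻¹ * a⁻¹ ≠ 1 := by
      intro h
      apply h1
      have hba : (b : E) * a * (b : E)⁻¹ = a := by rw [hsqA b b.2 a (hfA q)]; group
      calc x * b * a * (x * b)⁻¹ * a⁻¹ = x * ((b : E) * a * (b : E)⁻¹) * x⁻¹ * a⁻¹ := by group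
        _ = 1 := by rw [hba]; exact h
    have hcz : x * a * x⁻¹ * a⁻¹ = z :=
      (hz _ (Cfsg.Agent.H46.es_comm_mem hE x a)).resolve_left hc
    have hcz' := Subgroup.mem_center_iff.1 hzZ
    have hzz : z * z = 1 := by
      have := hsq z (hZA hzZ); rwa [sq] at this
    have ha2 : a * a = 1 := by have := hsq a (hfA q); rwa [sq] at this
    have hax : a * x = x * a * z := by
      have : x * a = z * (a * x) := by rw [← hcz]; group
      calc a * x = z * (z * (a * x)) := by rw [← mul_assoc, hzz, one_mul]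
        _ = z * (x * a) := by rw [← this]
        _ = x * a * z := (hcz' _).symm
    rw [sq, sq]
    calc x * a * (x * a) = x * (a * x) * a := by group
      _ = x * x * (a * (z * a)) := by rw [hax]; group
      _ = x * x * (a * (a * z)) := by rw [← hcz' a]
      _ = x * x * z := by rw [← mul_assoc a, ha2, one_mul]
  have hmk : ∀ x : E, ((x * f x : E) : E ⧸ A) = (x : E ⧸ A) := fun x =>
    QuotientGroup.mk_mul_of_mem x (hfA _)
  have hfix : ∀ x : E, x * f x * f (x * f x : E) = x := fun x => by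
    rw [hmk, mul_assoc]
    have := hsq _ (hfA (x : E ⧸ A))
    rw [sq] at this
    rw [this, mul_one]
  have hsq2 : ∀ x : E, x ^ 2 = 1 ∨ x ^ 2 = z := fun x => hz _ (Cfsg.Agent.H46.es_sq_mem hE x)
  have hnot : ∀ x : E, x ∉ A → x * f x ∉ A := fun x hx h => hx (by
    rw [← QuotientGroup.eq_one_iff] at h ⊢; rwa [hmk] at h)
  let e : {x : E // x ∉ A ∧ x ^ 2 = 1} ≃ {x : E // x ^ 2 ≠ 1} :=
    { toFun := fun x => ⟨x.1 * f x.1, by rw [key x.1 x.2.1, x.2.2, one_mul]; exact hz1⟩
      invFun := fun x => ⟨x.1 * f x.1, hnot _ (fun h => x.2 (hsq _ h)), by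
        rw [key x.1 (fun h => x.2 (hsq _ h)), (hsq2 x.1).resolve_left x.2]
        have := hsq z (hZA hzZ); rwa [sq] at this⟩
      left_inv := fun x => Subtype.ext (hfix x.1)
      right_inv := fun x => Subtype.ext (hfix x.1) }
  have h1 : Nat.card {x : E // x ^ 2 = 1} + Nat.card {x : E // x ^ 2 ≠ 1} = 2 ^ (2 * m + 1) := by
    rw [← hcard, ← Nat.card_sum]
    exact Nat.card_congr (Equiv.sumCompl _)
  have h2 : Nat.card {x : E // x ^ 2 = 1} = 2 ^ (m + 1) + Nat.card {x : E // x ∉ A ∧ x ^ 2 = 1} := by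
    rw [← hAc, ← Nat.card_sum]
    refine Nat.card_congr
      { toFun := fun x => if h : x.1 ∈ A then Sum.inl ⟨x.1, h⟩ else Sum.inr ⟨x.1, h, x.2⟩
        invFun := fun s => s.elim (fun a => ⟨a.1, hsq _ a.2⟩) (fun b => ⟨b.1, b.2.2⟩)
        left_inv := fun x => by by_cases h : x.1 ∈ A <;> simp [h]
        right_inv := fun s => by
          rcases s with a | b
          · simp
          · simp [b.2.1] }
  rw [Nat.card_congr e] at h2
  rw [pow_succ] at h1 h2
  omega


/-- Let E be an extraspecial 2-group of order 2^(2m+1) of plus type, that is, containing an elementary abelian subgroup of order 2^(m+1) (equivalently, a central product of m dihedral groups of order 8). Then E has exactly 2^(2m) − 2^m elements of order 4. -/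
theorem result {E : Type*} [Group E] [Finite E] (m : ℕ) (hm : 1 ≤ m) (hE : Cfsg.IsExtraspecial 2 E) (hcard : Nat.card E = 2 ^ (2 * m + 1)) (hplus : ∃ A : Subgroup E, Cfsg.IsElementaryAbelian 2 A ∧ Nat.card A = 2 ^ (m + 1)) : Nat.card {x : E // orderOf x = 4} = 2 ^ (2 * m) - 2 ^ m := by
  obtain ⟨A, hA, hAc⟩ := hplus
  rw [← card_sq_ne_one m hE hcard A hA hAc]
  refine Nat.card_congr (Equiv.subtypeEquivRight fun x => ?_)
  constructor
  · intro h h2
    have := orderOf_dvd_of_pow_eq_one h2
    rw [h] at this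
    exact absurd (Nat.le_of_dvd two_pos this) (by norm_num)
  · intro h
    haveI : Fact (Nat.Prime 2) := ⟨Nat.prime_two⟩
    refine orderOf_eq_prime_pow (p := 2) (n := 1) (by simpa using h) ?_
    have h1 := Cfsg.Agent.H46.es_sq_mem hE x
    have := Cfsg.Agent.PGroups.isSpecial_center_pow hE.1 h1
    rw [← pow_mul] at this
    simpa using this

end Cfsg.Agent.S2880
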