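import Cfsg.Statements.S2881
import Cfsg.Agent.S2880
import Cfsg.Agent.PGroups.Extraspecial

set_option autoImplicit false
open Cfsg

namespace Cfsg.Agent.S2881

open Equiv
set_option linter.style.haveILetI false


/-- Let E be an extraspecial 2-group of order 2^(2m+1) of plus type (containing an elementary abelian subgroup of order 2^(m+1)), and let ω be an automorphism of E of order 5 whose fixed points are exactly the centre of E. Then m is divisible by 4. -/
theorem result {E : Type*} [Group E] [Finite E] (m : ℕ) (hm : 1 ≤ m) (hE : Cfsg.IsExtraspecial 2 E) (hcard : Nat.card E = 2 ^ (2 * m + 1)) (hplus : ∃ A : Subgroup E, Cfsg.IsElementaryAbelian 2 A ∧ Nat.card A = 2 ^ (m + 1)) (ω : E ≃* E) (hω : orderOf ω = 5) (hfix : ∀ x : E, ω x = x ↔ x ∈ Subgroup.center E) : 4 ∣ m := by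
  haveI : Fact (Nat.Prime 5) := ⟨Nat.prime_five⟩
  classical
  haveI := Fintype.ofFinite E
  let α := {x : E // orderOf x = 4}
  let σ : Perm α := Perm.subtypePerm ω.toEquiv fun x => by
    show orderOf (ω x) = 4 ↔ orderOf x = 4
    rw [ω.orderOf_eq x]
  have hpow : ∀ (n : ℕ) (x : α), ((σ ^ n) x : E) = (ω ^ n : MulAut E) (x : E) := by
    intro n
    induction n with
    | zero => intro x; rfl
    | succ n ih =>
      intro x
      rw [pow_succ, pow_succ, Perm.mul_apply, MulAut.mul_apply, ih]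
      rfl
  have h5 : σ ^ 5 ^ 1 = 1 := by
    ext x
    rw [pow_one, hpow, ← hω, pow_orderOf_eq_one]
    rfl
  have hfixed : σ.supportᶜ = ∅ := by
    rw [Finset.eq_empty_iff_forall_notMem]
    intro x hx
    rw [Finset.mem_compl, Perm.notMem_support] at hx
    have hxc : (x : E) ∈ Subgroup.center E := (hfix _).1 (congrArg Subtype.val hx)
    have h2 := Cfsg.Agent.PGroups.isSpecial_center_pow (p := 2) hE.1 hxc
    have := orderOf_dvd_of_pow_eq_one h2
    rw [x.2] at this
    exact absurd (Nat.le_of_dvd two_pos this) (by norm_num)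
  have hmod := Perm.card_compl_support_modEq h5
  rw [hfixed, Finset.card_empty, ← Nat.card_eq_fintype_card,
    Cfsg.Agent.S2880.result m hm hE hcard hplus] at hmod
  have hle : 2 ^ m ≤ 2 ^ (2 * m) := Nat.pow_le_pow_right two_pos (by omega)
  have h1 : 2 ^ m ≡ 2 ^ (2 * m) [MOD 5] := (Nat.modEq_iff_dvd' hle).2 (Nat.modEq_zero_iff_dvd.1 hmod.symm)
  unfold Nat.ModEq at h1
  rw [two_mul, Nat.pow_add, Nat.mul_mod] at h1
  have h2 : 2 ^ m % 5 = 2 ^ (m % 4) % 5 := by
    conv_lhs => rw [← Nat.div_add_mod m 4, Nat.pow_add, pow_mul, Nat.mul_mod, Nat.pow_mod]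
    norm_num
  rw [h2] at h1
  refine Nat.dvd_of_mod_eq_zero ?_
  have h4 : m % 4 < 4 := Nat.mod_lt _ (by norm_num)
  interval_cases h : m % 4 <;> simp at h1 ⊢

end Cfsg.Agent.S2881
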