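import Cfsg.Statements.S2882
import Cfsg.Agent.H95.GolayJoint
import Cfsg.Agent.H59.AltEightSylow
-- import your own Cfsg.Agent.* helpers here

set_option autoImplicit false
open Cfsg

namespace Cfsg.Agent.S2882

open Cfsg.Agent.Golay
open scoped Pointwise

/-- A Sylow 2-subgroup of M24 is self-normalising: it fixes exactly one octad. -/
theorem main (S : Sylow 2 ↥Cfsg.M24) :
    Subgroup.normalizer ((S : Subgroup ↥Cfsg.M24) : Set ↥Cfsg.M24) = (S : Subgroup ↥Cfsg.M24) := by
  classical
  have := Fact.mk Nat.prime_two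
  refine le_antisymm (fun n hn => ?_) Subgroup.le_normalizer
  have hS : Nat.card (S : Subgroup M24) = 1024 := by
    rw [Sylow.card_eq_multiplicity, card_M24,
      show (244823040 : ℕ) = 2 ^ 10 * 239085 by norm_num,
      Nat.factorization_mul (by norm_num) (by norm_num), Nat.factorization_pow, Finsupp.add_apply,
      Finsupp.smul_apply, Nat.prime_two.factorization_self,
      Nat.factorization_eq_zero_of_not_dvd (show ¬ 2 ∣ 239085 by norm_num)]
    norm_num
  -- a fixed octad
  let act : MulAction (S : Subgroup M24) octads :=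
    { smul := fun g x => ⟨((g : M24) : Equiv.Perm GolayPt) • (x : Finset GolayPt),
        smul_mem_octads (g : M24).2 x.2⟩
      one_smul := fun x => Subtype.ext (one_smul _ _)
      mul_smul := fun g h x => Subtype.ext (mul_smul _ _ _) }
  obtain ⟨⟨o, ho⟩, hfix⟩ : (MulAction.fixedPoints (S : Subgroup M24) octads).Nonempty := by
    refine S.2.nonempty_fixed_point_of_prime_not_dvd_card octads ?_
    rw [Nat.card_coe_set_eq, ncard_octads]
    norm_num
  have hSo : (S : Subgroup M24) ≤ MulAction.stabilizer M24 o := fun g hg =>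
    congrArg Subtype.val (hfix ⟨g, hg⟩)
  have uniq : ∀ o' ∈ octads, (S : Subgroup M24) ≤ MulAction.stabilizer M24 o' → o' = o := by
    intro o' ho' hS'
    by_contra hne
    have hd : 1024 ∣ Nat.card ↥(MulAction.stabilizer M24 o ⊓ MulAction.stabilizer M24 o') :=
      hS ▸ Subgroup.card_dvd_of_le (le_inf hSo hS')
    have hm := H95.card_inf_stabilizer_mul (MulAction.stabilizer M24 o) o'
    rw [H95.card_octad_stab ho] at hm
    obtain ⟨k, hk⟩ := hd
    rw [hk] at hm
    rcases (H95.octad_pair_pattern ho ho').1 (Ne.symm hne) with h | h | h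
    · rw [(H95.ncard_octad_orbit ho ho').1 h] at hm; omega
    · rw [(H95.ncard_octad_orbit ho ho').2.2 h] at hm; omega
    · rw [(H95.ncard_octad_orbit ho ho').2.1 h] at hm; omega
  have hninv : ∀ g, g ∈ (S : Subgroup M24) → n⁻¹ * g * n ∈ (S : Subgroup M24) := fun g hg => by
    simpa using (Subgroup.mem_normalizer_iff.mp ((Subgroup.normalizer _).inv_mem hn) g).mp hg
  have hnH : n ∈ MulAction.stabilizer M24 o := by
    refine uniq _ (smul_mem_octads n.2 ho) fun g hg => ?_
    show g • n • o = n • o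
    have h2 : (n⁻¹ * g * n) • o = o := hSo (hninv g hg)
    calc g • n • o = n • ((n⁻¹ * g * n) • o) := by simp only [← mul_smul]; congr 1; group
      _ = n • o := by rw [h2]
  set H := MulAction.stabilizer M24 o with hH
  -- the action on the eight points of the octad
  have hmaps : ∀ (g : H) (x : GolayPt), x ∈ o → ((g : M24) : Equiv.Perm GolayPt) x ∈ o := by
    intro g x hx
    have hg : ((g : M24) : Equiv.Perm GolayPt) • o = o := g.2
    have hm := Finset.smul_mem_smul_finset (a := ((g : M24) : Equiv.Perm GolayPt)) hx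
    rwa [hg] at hm
  have hinv : ∀ (g : H) (x : GolayPt), x ∈ o ↔ ((g : M24) : Equiv.Perm GolayPt) x ∈ o := fun g x =>
    ⟨hmaps g x, fun h => by simpa using hmaps g⁻¹ _ h⟩
  let e : {x // x ∈ o} ≃ Fin 8 := o.equivFinOfCardEq ho.2
  let φ : H →* Equiv.Perm (Fin 8) :=
    { toFun := fun g =>
        e.permCongr (((g : M24) : Equiv.Perm GolayPt).subtypePerm fun x => (hinv g x).symm)
      map_one' := by ext x; simp
      map_mul' := fun g h => by ext x; simp }
  have hker : ∀ g : H, g ∈ φ.ker ↔ ((g : M24) : Equiv.Perm GolayPt) ∈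
      M24 ⊓ fixingSubgroup (Equiv.Perm GolayPt) (o : Set GolayPt) := by
    intro g
    rw [MonoidHom.mem_ker, Subgroup.mem_inf, mem_fixingSubgroup_iff]
    constructor
    · intro h
      refine ⟨(g : M24).2, fun x hx => ?_⟩
      have := congrArg (fun f : Equiv.Perm (Fin 8) => (e.symm (f (e ⟨x, hx⟩)) : GolayPt)) h
      simpa [φ] using this
    · rintro ⟨-, h⟩
      refine Equiv.ext fun y => ?_
      simp only [φ, MonoidHom.coe_mk, OneHom.coe_mk, Equiv.permCongr_apply, Equiv.Perm.one_apply]
      rw [← Equiv.eq_symm_apply]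
      exact Subtype.ext (h _ (e.symm y).2)
  have hcK : Nat.card φ.ker = 16 := by
    rw [← (octad_fixing ho).1]
    refine Nat.card_congr (Equiv.ofBijective (fun g => ⟨_, (hker g.1).mp g.2⟩)
      ⟨fun a b h => ?_, fun b => ?_⟩)
    · exact Subtype.ext (Subtype.ext (Subtype.ext (congrArg Subtype.val h :)))
    · obtain ⟨hb1, hb2⟩ := Subgroup.mem_inf.mp b.2
      have hbH : (⟨b.1, hb1⟩ : M24) ∈ H := by
        refine Finset.eq_of_subset_of_card_le (fun y hy => ?_) (by simp)
        obtain ⟨x, hx, rfl⟩ := Finset.mem_smul_finset.mp hy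
        rw [show (⟨b.1, hb1⟩ : M24) • x = x from (mem_fixingSubgroup_iff _).mp hb2 x hx]
        exact hx
      exact ⟨⟨⟨⟨b.1, hb1⟩, hbH⟩, (hker _).mpr b.2⟩, rfl⟩
  have hrange : φ.range = alternatingGroup (Fin 8) := by
    refine Equiv.Perm.eq_alternatingGroup_of_index_eq_two ?_
    have h1 := Subgroup.card_mul_index φ.ker
    rw [Subgroup.index_ker, hcK, H95.card_octad_stab ho] at h1
    have h2 := Subgroup.card_mul_index φ.range
    rw [Nat.card_perm, Nat.card_fin,
      show Nat.factorial 8 = 40320 by decide, show Nat.card φ.range = 20160 by omega] at h2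
    omega
  set S' := (S : Subgroup M24).subgroupOf H with hS'def
  have hcS' : Nat.card S' = 1024 := by
    rw [Nat.card_congr (Subgroup.subgroupOfEquivOfLe hSo).toEquiv, hS]
  let ψ : S' →* Equiv.Perm (Fin 8) := φ.comp S'.subtype
  have hψr : ψ.range = S'.map φ := by rw [MonoidHom.range_comp, Subgroup.range_subtype]
  have hprod := Subgroup.card_mul_index ψ.ker
  rw [Subgroup.index_ker, hcS', hψr] at hprod
  have hle : Nat.card ψ.ker ≤ 16 := by
    rw [← hcK]
    refine Nat.card_le_card_of_injective (fun x => (⟨x.1.1, x.2⟩ : φ.ker)) fun a b h => ?_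
    exact Subtype.ext (Subtype.ext (congrArg (fun z : φ.ker => z.1) h))
  have hle2 : S'.map φ ≤ alternatingGroup (Fin 8) := hrange ▸ Subgroup.map_le_range φ S'
  have hP64 : Nat.card (S'.map φ) ∣ 64 := by
    have h1 : Nat.card (S'.map φ) ∣ 1024 := ⟨Nat.card ψ.ker, by rw [mul_comm]; exact hprod.symm⟩
    have h2 : Nat.card (S'.map φ) ∣ 20160 := by
      have := Subgroup.card_dvd_of_le hle2
      rwa [nat_card_alternatingGroup, Nat.card_fin,
        show Nat.factorial 8 / 2 = 20160 by decide] at this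
    exact (show Nat.gcd 1024 20160 = 64 by norm_num) ▸ Nat.dvd_gcd h1 h2
  have hP : Nat.card (S'.map φ) = 64 := by
    have := Nat.le_of_dvd (by norm_num) hP64
    nlinarith [Nat.mul_le_mul hle this]
  have hker16 : Nat.card ψ.ker = 16 := by rw [hP] at hprod; omega
  have hK : φ.ker ≤ S' := by
    have h1 : ψ.ker.map S'.subtype ≤ φ.ker := by
      rintro _ ⟨x, hx, rfl⟩; exact hx
    have h2 := Subgroup.eq_of_le_of_card_ge h1 (by
      rw [Subgroup.card_map_of_injective S'.subtype_injective, hker16, hcK])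
    rw [← h2]
    exact Subgroup.map_subtype_le _
  obtain ⟨x, hx, hxe⟩ : φ ⟨n, hnH⟩ ∈ S'.map φ := by
    refine H59.AltEight.mem_of_normalizes hP hle2
      (hrange ▸ MonoidHom.mem_range.mpr ⟨_, rfl⟩) fun g => ?_
    constructor
    · rintro ⟨y, hy, rfl⟩
      refine ⟨⟨n, hnH⟩ * y * ⟨n, hnH⟩⁻¹, ?_, by rw [map_mul, map_mul, map_inv]⟩
      exact (Subgroup.mem_normalizer_iff.mp hn y.1).mp hy
    · rintro ⟨y, hy, hye⟩
      refine ⟨(⟨n, hnH⟩ : H)⁻¹ * y * ⟨n, hnH⟩, hninv _ hy, ?_⟩
      rw [map_mul, map_mul, map_inv, hye]; group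
  have hk : x⁻¹ * ⟨n, hnH⟩ ∈ φ.ker := by
    rw [MonoidHom.mem_ker, map_mul, map_inv, hxe, inv_mul_cancel]
  have := S'.mul_mem hx (hK hk)
  rw [mul_inv_cancel_left] at this
  exact this


/-- In the Mathieu group of degree 24 (realised as the automorphism group of the extended binary Golay code) every Sylow 2-subgroup is self-normalizing. -/
theorem result (S : Sylow 2 ↥Cfsg.M24) : Subgroup.normalizer ((S : Subgroup ↥Cfsg.M24) : Set ↥Cfsg.M24) = (S : Subgroup ↥Cfsg.M24) := by
  exact main S

end Cfsg.Agent.S2882
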