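import Cfsg.Statements.S2897
import Cfsg.Agent.Components.Parabolic
import Cfsg.Agent.H77.Subnormal
-- import your own Cfsg.Agent.* helpers here

set_option autoImplicit false
open Cfsg

namespace Cfsg.Agent.S2897

open Cfsg.Agent.Components
open scoped commutatorElement
set_option linter.style.haveILetI false

/-- Let p be a prime dividing the order of the finite group G, suppose G has parabolic characteristic p, let S be a Sylow p-subgroup of G and G₁ a normal subgroup of G. If Ω₁(Z(S ∩ G₁)) is nontrivial and contained in Ω₁(Z(S)), then G₁ has parabolic characteristic p. -/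
theorem result {G : Type*} [Group G] [Finite G] {p : ℕ} [Fact p.Prime] (hdiv : p ∣ Nat.card G) (hG : Cfsg.IsOfParabolicCharacteristic p G) (S : Sylow p G) (G₁ : Subgroup G) [G₁.Normal] (hne : Cfsg.omegaOne p (((S : Subgroup G) ⊓ G₁) ⊓ Subgroup.centralizer (((S : Subgroup G) ⊓ G₁ : Subgroup G) : Set G)) ≠ ⊥) (hle : Cfsg.omegaOne p (((S : Subgroup G) ⊓ G₁) ⊓ Subgroup.centralizer (((S : Subgroup G) ⊓ G₁ : Subgroup G) : Set G)) ≤ Cfsg.omegaOne p ((S : Subgroup G) ⊓ Subgroup.centralizer ((S : Subgroup G) : Set G))) : Cfsg.IsOfParabolicCharacteristic p ↥G₁ := by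
  have hidx : ¬ p ∣ ((S : Subgroup G).subgroupOf G₁).index := fun h =>
    S.not_dvd_index (h.trans (Cfsg.Agent.H77.relIndex_dvd_index_of_subnormal
      (Subgroup.Normal.isSubnormal inferInstance) _))
  let S₁ : Sylow p ↥G₁ := (S.isPGroup'.comap_subtype (K := G₁)).toSylow hidx
  have hmap : (S₁ : Subgroup ↥G₁).map G₁.subtype = (S : Subgroup G) ⊓ G₁ :=
    Subgroup.subgroupOf_map_subtype _ _
  refine (isOfParabolicCharacteristic_iff S₁).mpr fun z hz hzm => ?_
  have hzG : (z : G) ∈ Cfsg.omegaOne p ((S : Subgroup G) ⊓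
      Subgroup.centralizer ((S : Subgroup G) : Set G)) := by
    refine hle ?_
    have hm := Subgroup.mem_map_of_mem G₁.subtype hzm
    rw [Cfsg.omegaOne, MonoidHom.map_closure] at hm
    refine Subgroup.closure_mono ?_ hm
    rintro _ ⟨w, ⟨⟨hwS, hwC⟩, hwp⟩, rfl⟩
    refine ⟨⟨hmap ▸ ⟨w, hwS, rfl⟩, Subgroup.mem_centralizer_iff.mpr fun y hy => ?_⟩, ?_⟩
    · rw [← hmap] at hy
      obtain ⟨v, hv, rfl⟩ := hy
      exact congrArg Subtype.val (Subgroup.mem_centralizer_iff.mp hwC v hv)
    · exact congrArg Subtype.val hwp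
  have hF := (isOfParabolicCharacteristic_iff S).mp hG (z : G)
    (fun h1 => hz (Subtype.ext h1)) hzG
  set C := Subgroup.centralizer ({(z : G)} : Set G)
  have hCe : (Subgroup.centralizer ({z} : Set ↥G₁)).map G₁.subtype = C ⊓ G₁ := by
    rw [← Subgroup.subgroupOf_map_subtype C G₁]
    congr 1
    ext w
    simp [C, Subgroup.mem_centralizer_singleton_iff, Subgroup.mem_subgroupOf, Subtype.ext_iff]
  refine (genFitting_eq_pCore_congr
    (((Subgroup.centralizer ({z} : Set ↥G₁)).equivMapOfInjective _ G₁.subtype_injective).trans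
      (MulEquiv.subgroupCongr hCe))).mpr ?_
  have hn : ((C ⊓ G₁).subgroupOf C).Normal :=
    (Subgroup.normal_subgroupOf_iff_le_normalizer inf_le_left).mpr
      ((le_inf Subgroup.le_normalizer (le_normalizer_of_normal _)).trans
        Subgroup.inf_normalizer_le_normalizer_inf)
  exact (genFitting_eq_pCore_congr (Subgroup.subgroupOfEquivOfLe inf_le_left)).mp
    (genFitting_eq_pCore_of_isSubnormal hn.isSubnormal hF)

end Cfsg.Agent.S2897
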