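import Cfsg.Statements.S2898
import Mathlib.Tactic.Group
import Cfsg.Agent.PGroups.Basic
import Cfsg.Agent.Cores.PCore
import Cfsg.Agent.Coprime.Generation
-- import your own Cfsg.Agent.* helpers here

set_option autoImplicit false
open Cfsg
open Cfsg.Agent.Coprime
open Cfsg.Agent

namespace Cfsg.Agent.S2898

/-- Let G be a finite group of even order with parabolic characteristic 2. If the centre of G ⧸ O(G) is trivial, then O(G) = 1. -/
theorem result {G : Type*} [Group G] [Finite G] (h2 : 2 ∣ Nat.card G) (hG : Cfsg.IsOfParabolicCharacteristic 2 G) [hN : (Cfsg.oddCore G).Normal] (hZ : Subgroup.center (G ⧸ Cfsg.oddCore G) = ⊥) : Cfsg.oddCore G = ⊥ := by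
  by_contra hO
  set O := Cfsg.oddCore G with hOdef
  have hOodd : Odd (Nat.card O) := Cores.odd_card_oddCore
  obtain ⟨T⟩ := (inferInstance : Nonempty (Sylow 2 G))
  have hTne : (T : Subgroup G) ≠ ⊥ := T.ne_bot_of_dvd_card h2
  -- central involutions of `T` act on `O` without fixed points
  have hfpf : ∀ z ∈ (T : Subgroup G), orderOf z = 2 → (∀ t ∈ (T : Subgroup G), t * z = z * t) →
      ∀ o ∈ O, Commute o z → o = 1 := by
    intro z hz hz2 hzc o ho hoz
    set R := Subgroup.zpowers z with hR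
    have hRp : IsPGroup 2 R := IsPGroup.of_card (n := 1) (by rw [Nat.card_zpowers, hz2, pow_one])
    have hRne : R ≠ ⊥ := Subgroup.zpowers_ne_bot.mpr fun h => by
      rw [h, orderOf_one] at hz2; omega
    set L := Subgroup.normalizer (R : Set G) with hL
    have hcent : ∀ g : G, Commute g z → g ∈ L := by
      intro g hg
      apply Subgroup.centralizer_le_normalizer
      rw [Subgroup.mem_centralizer_iff]
      rintro _ ⟨m, rfl⟩
      exact (hg.zpow_right m).eq.symm
    have hchar := hG R hRp hRne ⟨T, fun t ht => hcent t (hzc t ht)⟩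
    set D := O.subgroupOf L with hD
    have hDn : D.Normal := hN.comap _
    have hDodd : (Nat.card D).Coprime 2 := by
      refine (Nat.coprime_two_right.mpr hOodd).coprime_dvd_left ?_
      rw [← Subgroup.card_map_of_injective L.subtype_injective, hD, Subgroup.subgroupOf_map_subtype]
      exact Subgroup.card_dvd_of_le inf_le_left
    have hdisj := Cores.disjoint_of_isPGroup_of_coprime (Cores.pCore_isPGroup (p := 2) (G := L)) hDodd
    have hcomm : D ≤ Subgroup.centralizer (Cfsg.pCore 2 L : Set L) := by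
      rw [← Subgroup.commutator_eq_bot_iff_le_centralizer, eq_bot_iff, ← hdisj, inf_comm]
      exact Subgroup.commutator_le_inf D _
    have hoD : (⟨o, hcent o hoz⟩ : L) ∈ D := ho
    have hmem : (⟨o, hcent o hoz⟩ : L) ∈ Cfsg.pCore 2 L ⊓ D := ⟨hchar (hcomm hoD), hoD⟩
    rw [hdisj, Subgroup.mem_bot] at hmem
    exact congr_arg Subtype.val hmem
  -- hence they invert `O`
  have hinv : ∀ z ∈ (T : Subgroup G), orderOf z = 2 → (∀ t ∈ (T : Subgroup G), t * z = z * t) →
      ∀ o ∈ O, z * o * z⁻¹ = o⁻¹ := by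
    intro z hz hz2 hzc
    have hzO : ∀ o : O, z * o * z⁻¹ ∈ O := fun o => hN.conj_mem o o.2 z
    have hzz : z * z = 1 := by rw [← pow_two, ← hz2]; exact pow_orderOf_eq_one z
    have hzi : z⁻¹ = z := inv_eq_of_mul_eq_one_right hzz
    have hsurj : Function.Surjective (fun o : O => (⟨(o : G)⁻¹ * (z * o * z⁻¹), O.mul_mem (O.inv_mem o.2) (hzO o)⟩ : O)) := by
      refine Finite.injective_iff_surjective.mp fun a b hab => ?_
      simp only [Subtype.mk.injEq] at hab
      have h1 : Commute ((b : G) * (a : G)⁻¹) z := by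
        have h2 : (b : G) * (a : G)⁻¹ = z * ((b : G) * (a : G)⁻¹) * z⁻¹ := by
          calc (b : G) * (a : G)⁻¹
              = (b : G) * ((a : G)⁻¹ * (z * a * z⁻¹)) * (z * (a : G)⁻¹ * z⁻¹) := by group
            _ = (b : G) * ((b : G)⁻¹ * (z * b * z⁻¹)) * (z * (a : G)⁻¹ * z⁻¹) := by rw [hab]
            _ = z * ((b : G) * (a : G)⁻¹) * z⁻¹ := by group
        exact (mul_inv_eq_iff_eq_mul.mp h2.symm).symm
      have h3 := hfpf z hz hz2 hzc _ (O.mul_mem b.2 (O.inv_mem a.2)) h1
      exact (Subtype.ext (mul_inv_eq_one.mp h3)).symm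
    intro o ho
    obtain ⟨a, ha⟩ := hsurj ⟨o, ho⟩
    have ha' : (a : G)⁻¹ * (z * a * z⁻¹) = o := congr_arg Subtype.val ha
    rw [← ha', hzi]
    simp only [mul_inv_rev, inv_inv, hzi, mul_assoc]
    rw [hzz, mul_one]
  obtain ⟨z₀, -, hz₀c, hz₀2⟩ := PGroups.exists_mem_center_orderOf_eq T.isPGroup'
    (⊤ : Subgroup (T : Subgroup G)) (by
      rw [ne_eq, ← Subgroup.card_eq_one, Subgroup.card_top, Subgroup.card_eq_one]; exact hTne)
  set z : G := (z₀ : G) with hz
  have hz2 : orderOf z = 2 := by rw [hz, Subgroup.orderOf_coe, hz₀2]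
  have hzc : ∀ t ∈ (T : Subgroup G), t * z = z * t := fun t ht =>
    congr_arg Subtype.val (Subgroup.mem_center_iff.mp hz₀c ⟨t, ht⟩)
  set C := Subgroup.centralizer (O : Set G) with hC
  have hCn : C.Normal := Subgroup.normal_centralizer
  have hCodd : Odd (Nat.card C) := by
    rw [← Nat.not_even_iff_odd, even_iff_two_dvd]
    intro hd
    obtain ⟨R⟩ := (inferInstance : Nonempty (Sylow 2 C))
    obtain ⟨T', hT'⟩ := (R.isPGroup'.map C.subtype).exists_le_sylow
    obtain ⟨g, hg⟩ := MulAction.exists_smul_eq G T' T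
    have hne : C.subgroupOf (T : Subgroup G) ≠ ⊥ := by
      rw [ne_eq, Subgroup.subgroupOf_eq_bot, disjoint_iff]
      intro hb
      refine R.ne_bot_of_dvd_card hd ((Subgroup.map_eq_bot_iff_of_injective _ C.subtype_injective).mp ?_)
      rw [← Subgroup.map_eq_bot_iff_of_injective (f := (MulAut.conj g).toMonoidHom) _ (MulAut.conj g).injective,
        eq_bot_iff, ← hb]
      refine le_inf ?_ ?_
      · exact (Subgroup.map_mono (Subgroup.map_subtype_le _)).trans_eq
          (map_conj_eq (Subgroup.normalizer_eq_top (H := C) ▸ Subgroup.mem_top g))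
      · rw [← hg, Sylow.coe_subgroup_smul]
        exact Subgroup.map_mono hT'
    obtain ⟨w, hwC, hwc, hw2⟩ := PGroups.exists_mem_center_orderOf_eq T.isPGroup' _ hne
    refine hO (eq_bot_iff.mpr fun o ho => ?_)
    rw [Subgroup.mem_bot]
    exact hfpf w w.2 (by rw [Subgroup.orderOf_coe, hw2])
      (fun t ht => congr_arg Subtype.val (Subgroup.mem_center_iff.mp hwc ⟨t, ht⟩)) o ho
      (Subgroup.mem_centralizer_iff.mp hwC o ho)
  have hCO : C ≤ O := Cores.le_oddCore hCodd
  have hzO : z ∈ O := by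
    have hmem : (z : G ⧸ O) ∈ Subgroup.center (G ⧸ O) := by
      rw [Subgroup.mem_center_iff]
      intro y
      obtain ⟨g, rfl⟩ := QuotientGroup.mk'_surjective O y
      rw [QuotientGroup.mk'_apply, ← QuotientGroup.mk_mul, ← QuotientGroup.mk_mul, QuotientGroup.eq]
      refine hCO (Subgroup.mem_centralizer_iff.mpr fun o ho => ?_)
      have hi : ∀ u ∈ O, z * u * z⁻¹ = u⁻¹ := hinv z z₀.2 hz2 hzc
      have h1 := hi _ (hN.conj_mem o ho g)
      have h2 : g⁻¹ * (z * (g * o * g⁻¹) * z⁻¹) * g = o⁻¹ := by rw [h1]; group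
      have h3 := hi o⁻¹ (O.inv_mem ho)
      rw [inv_inv] at h3
      have h4 : (g⁻¹ * z * g) * o * (g⁻¹ * z * g)⁻¹ = o⁻¹ := by rw [← h2]; group
      have h5 : ((g * z)⁻¹ * (z * g)) * o * ((g * z)⁻¹ * (z * g))⁻¹ = o := by
        calc ((g * z)⁻¹ * (z * g)) * o * ((g * z)⁻¹ * (z * g))⁻¹
            = z⁻¹ * ((g⁻¹ * z * g) * o * (g⁻¹ * z * g)⁻¹) * z := by group
          _ = z⁻¹ * o⁻¹ * z := by rw [h4]
          _ = o := by
            rw [← hi o ho]
            group
      exact (mul_inv_eq_iff_eq_mul.mp h5).symm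
    rw [hZ, Subgroup.mem_bot, QuotientGroup.eq_one_iff] at hmem
    exact hmem
  have h1 := (Subgroup.orderOf_dvd_natCard O hzO)
  rw [hz2] at h1
  exact (Nat.not_even_iff_odd.mpr hOodd) (even_iff_two_dvd.mpr h1)

end Cfsg.Agent.S2898
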