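import Cfsg.Statements.S2905
import Cfsg.Agent.H60.PMinimal

set_option autoImplicit false
open Cfsg

namespace Cfsg.Agent.S2905

open Subgroup Cfsg.Agent.H60
set_option linter.style.haveILetI false


/-- Let P be a finite p-minimal group (a Sylow p-subgroup S is not normal and lies in a unique maximal subgroup M of P) and let F be the normal core of M. Then: every subnormal subgroup N of P contained in M satisfies N ∩ S ≤ O_p(P); if O^p(P) has a normal Sylow p-subgroup then the order of P has at most two prime divisors; every normal subgroup N of P either contains O^p(P) or is contained in F; and O^p(P)F ⧸ F is a minimal normal subgroup of P ⧸ F. -/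
theorem result {P : Type*} [Group P] [Finite P] {p : ℕ} [Fact p.Prime] (hP : Cfsg.IsPMinimal p P) (S : Sylow p P) (M : Subgroup P) (hM : IsCoatom M) (hSM : (S : Subgroup P) ≤ M) [hF : M.normalCore.Normal] : (∀ N : Subgroup P, N.IsSubnormal → N ≤ M → N ⊓ (S : Subgroup P) ≤ Cfsg.pCore p P) ∧ ((∀ T : Sylow p ↥(Cfsg.pResidual p P), (T : Subgroup ↥(Cfsg.pResidual p P)).Normal) → (Nat.card P).primeFactors.card ≤ 2) ∧ (∀ N : Subgroup P, N.Normal → Cfsg.pResidual p P ≤ N ∨ N ≤ M.normalCore) ∧ (∀ N : Subgroup P, N.Normal → M.normalCore ≤ N → N ≤ Cfsg.pResidual p P ⊔ M.normalCore → N = M.normalCore ∨ N = Cfsg.pResidual p P ⊔ M.normalCore) ∧ M.normalCore < Cfsg.pResidual p P ⊔ M.normalCore := by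
  have hp : p.Prime := Fact.out
  refine ⟨fun N hN hNM => pMin_subnormal hP hM hSM hN hNM, fun hT => ?_,
    fun N hN => pMin_dichotomy hP hM hSM hN, fun N hN h1 h2 => pMin_middle hP hM hSM hN h1 h2,
    pMin_core_lt hM hSM⟩
  set R := Cfsg.pResidual p P with hR
  have hTchar : ∀ T : Sylow p ↥R, ((T : Subgroup ↥R).map R.subtype).Normal := fun T => by
    haveI := hT T
    haveI := T.characteristic_of_normal (hT T)
    infer_instance
  obtain ⟨T⟩ := (inferInstance : Nonempty (Sylow p ↥R))
  haveI := hTchar T
  set T' := (T : Subgroup ↥R).map R.subtype with hT'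
  have hTp : IsPGroup p T' := T.isPGroup'.map _
  have hTM : T' ≤ M := (IsPGroup.le_sylow_of_normal hTp S).trans hSM
  haveI hRn : R.Normal := inferInstance
  by_contra hcard
  push Not at hcard
  refine pMin_residual_not_le (S := S) hM hSM ?_
  rw [← hR, ← subgroupOf_eq_top]
  refine eq_top_of_card_eq _ (Nat.dvd_antisymm (card_subgroup_dvd_card _) ?_)
  rw [← Nat.factorization_prime_le_iff_dvd Nat.card_pos.ne' Nat.card_pos.ne']
  intro q hq
  haveI := Fact.mk hq
  rw [← hq.pow_dvd_iff_le_factorization Nat.card_pos.ne']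
  by_cases hqp : q = p
  · subst hqp
    rw [← T.card_eq_multiplicity]
    exact card_dvd_of_le fun z hz => hTM ⟨z, hz, rfl⟩
  obtain ⟨Q⟩ := (inferInstance : Nonempty (Sylow q ↥R))
  set Q' := (Q : Subgroup ↥R).map R.subtype with hQ'
  set X := T' ⊔ Q' with hX
  have hXR : X ≤ R := sup_le (map_subtype_le _) (map_subtype_le _)
  -- the normalizer of T'Q' contains a Sylow p-subgroup
  have hfr : normalizer (Q' : Set P) ⊔ R = ⊤ := Sylow.normalizer_sup_eq_top Q
  have hNX : normalizer (Q' : Set P) ≤ normalizer (X : Set P) :=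
    le_normalizer_sup (le_top.trans (normalizer_eq_top_iff.2 inferInstance).ge) le_rfl
  have htop : normalizer (X : Set P) ⊔ R = ⊤ := top_le_iff.1 (hfr ▸ sup_le_sup_right hNX R)
  have hTX : T' ≤ normalizer (X : Set P) := le_sup_left.trans le_normalizer
  have hnd : ¬ p ∣ (normalizer (X : Set P)).index := by
    have h1 : (normalizer (X : Set P)).index = (normalizer (X : Set P)).relIndex R := by
      have a1 := (normalizer (X : Set P)).card_mul_index
      have a2 := R.card_mul_index
      rw [← Subgroup.relIndex_top_right R, ← htop, Subgroup.relIndex_sup_right] at a2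
      have a3 := relIndex_mul_relIndex (⊥ : Subgroup P) (normalizer (X : Set P) ⊓ R) R bot_le inf_le_right
      have a4 := relIndex_mul_relIndex (⊥ : Subgroup P) (normalizer (X : Set P) ⊓ R) (normalizer (X : Set P)) bot_le inf_le_left
      rw [relIndex_bot_left, relIndex_bot_left, inf_relIndex_right] at a3
      rw [relIndex_bot_left, relIndex_bot_left, inf_relIndex_left] at a4
      rw [← a4, mul_assoc] at a1
      rw [← a3, mul_assoc] at a2
      have h6 := Nat.eq_of_mul_eq_mul_left Nat.card_pos (a1.trans a2.symm)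
      have h7 : 0 < R.relIndex (normalizer (X : Set P)) := Nat.pos_of_ne_zero Subgroup.index_ne_zero_of_finite
      nlinarith
    rw [h1]
    intro hd
    refine T.not_dvd_index (hd.trans ?_)
    exact Subgroup.index_dvd_of_le fun z hz => hTX ⟨z, hz, rfl⟩
  obtain ⟨U⟩ := (inferInstance : Nonempty (Sylow p ↥(normalizer (X : Set P))))
  obtain ⟨V, hV⟩ := (U.isPGroup'.map (normalizer (X : Set P)).subtype).exists_le_sylow
  have hVN : (V : Subgroup P) ≤ normalizer (X : Set P) := by
    refine le_of_eq_of_le (Subgroup.eq_of_le_of_card_ge hV ?_).symm (map_subtype_le _)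
    rw [card_map_of_injective (normalizer (X : Set P)).subtype_injective, U.card_eq_multiplicity, V.card_eq_multiplicity]
    refine Nat.pow_le_pow_right hp.pos (le_of_eq ?_)
    rw [← (normalizer (X : Set P)).card_mul_index, Nat.factorization_mul Nat.card_pos.ne' index_ne_zero_of_finite,
      Finsupp.add_apply, Nat.factorization_eq_zero_of_not_dvd hnd, add_zero]
  obtain ⟨g, hg⟩ := MulAction.exists_smul_eq P V S
  have hSX : (S : Subgroup P) ≤ normalizer (cj X g : Set P) := by
    rw [← hg, ← cj_normalizer]
    exact Subgroup.map_mono hVN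
  have hXc : ∀ {m : ℕ}, m.Prime → m ∣ Nat.card X → m = p ∨ m = q := by
    intro m hm hd
    have h1 : m ∣ Nat.card Q' * Nat.card T' := by
      refine hd.trans ?_
      rw [hX, sup_comm]
      exact Cores.card_sup_dvd Q' T'
    obtain ⟨a, ha⟩ := IsPGroup.iff_card.1 hTp
    obtain ⟨b, hb⟩ := IsPGroup.iff_card.1 (Q.isPGroup'.map R.subtype)
    rw [hb, ha] at h1
    rcases hm.dvd_mul.1 h1 with h | h
    · exact Or.inr ((Nat.prime_dvd_prime_iff_eq hm hq).1 (hm.dvd_of_dvd_pow h))
    · exact Or.inl ((Nat.prime_dvd_prime_iff_eq hm hp).1 (hm.dvd_of_dvd_pow h))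
  have hle : cj X g ≤ M := by
    by_contra hnle
    have hst := pMin_sup_eq_top hP hM hSM hnle
    haveI : (cj X g).Normal := normalizer_eq_top_iff.1
      (top_le_iff.1 (hst ▸ sup_le hSX le_normalizer))
    have hd := Cores.card_sup_dvd (S : Subgroup P) (cj X g)
    rw [hst, card_top, card_cj] at hd
    have hsub : (Nat.card P).primeFactors ⊆ {p, q} := by
      intro m hm
      have hmp := Nat.prime_of_mem_primeFactors hm
      rcases hmp.dvd_mul.1 ((Nat.dvd_of_mem_primeFactors hm).trans hd) with h | h
      · obtain ⟨a, ha⟩ := IsPGroup.iff_card.1 S.isPGroup'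
        rw [ha] at h
        simp [(Nat.prime_dvd_prime_iff_eq hmp hp).1 (hmp.dvd_of_dvd_pow h)]
      · rcases hXc hmp h with e | e <;> simp [e]
    have := (Finset.card_le_card hsub).trans Finset.card_le_two
    omega
  rw [← Q.card_eq_multiplicity, show Nat.card Q = Nat.card (cj Q' g) by
    rw [card_cj, hQ', card_map_of_injective R.subtype_injective]]
  rw [← card_map_of_injective R.subtype_injective, subgroupOf_map_subtype]
  refine card_dvd_of_le (le_inf ((cj_mono le_sup_right g).trans hle) ?_)
  exact (cj_mono (map_subtype_le _) g).trans (cj_eq_self_iff.2 (by rw [normalizer_eq_top_iff.2 hRn]; trivial)).le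

end Cfsg.Agent.S2905
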