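import Cfsg.Statements.S2906
import Cfsg.Agent.H60.PMinimalLayer

set_option autoImplicit false
open Cfsg

namespace Cfsg.Agent.S2906

open Subgroup Cfsg.Agent Cfsg.Agent.H60
open scoped commutatorElement
set_option linter.style.haveILetI false


/-- Let P be a finite p-minimal group with O_p(P) = 1, S a Sylow p-subgroup of P and K a component of P. Then O^p(P) = F*(P) = E(P) is generated by the S-conjugates of K, and the subgroup K·N_S(K) is again p-minimal. -/
theorem result {P : Type*} [Group P] [Finite P] {p : ℕ} [Fact p.Prime] (hP : Cfsg.IsPMinimal p P) (hOp : Cfsg.pCore p P = ⊥) (S : Sylow p P) (K : Subgroup P) (hK : Cfsg.IsComponent K) : Cfsg.pResidual p P = Cfsg.generalizedFittingSubgroup P ∧ Cfsg.generalizedFittingSubgroup P = Cfsg.layer P ∧ Cfsg.layer P = ⨆ s : ↥(S : Subgroup P), K.map (MulAut.conj (s : P)).toMonoidHom ∧ Cfsg.IsPMinimal p ↥(K ⊔ ((S : Subgroup P) ⊓ Subgroup.normalizer (K : Set P))) := by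
  have hp : p.Prime := Fact.out
  obtain ⟨M, ⟨hM, hSM⟩, -⟩ := (hP S).2
  have hKn : ¬ Group.IsNilpotent K := fun h => Components.qs_not_isSolvable hK.2 inferInstance
  -- the core of M has order prime to p
  have hFc : (Nat.card M.normalCore).Coprime p := by
    rw [Nat.coprime_comm, hp.coprime_iff_not_dvd]
    intro hd
    obtain ⟨⟨x, hx⟩, hxo⟩ := exists_prime_orderOf_dvd_card' (G := M.normalCore) p hd
    rw [Subgroup.orderOf_mk] at hxo
    obtain ⟨R, hR⟩ := (IsPGroup.of_card (p := p) (n := 1)
      (show Nat.card (zpowers x) = p ^ 1 by rw [Nat.card_zpowers, hxo, pow_one])).exists_le_sylow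
    obtain ⟨g, hg⟩ := MulAction.exists_smul_eq P S R
    have h1 := hR (mem_zpowers x)
    rw [← hg] at h1
    obtain ⟨s, hs, hsx⟩ := h1
    have h2 : s ∈ M.normalCore := by
      have : g⁻¹ * x * g ∈ M.normalCore := by
        have := (inferInstance : M.normalCore.Normal).conj_mem x hx g⁻¹
        rwa [inv_inv] at this
      rw [← hsx] at this
      simpa [mul_assoc] using this
    have h3 : s = 1 := Subgroup.mem_bot.1 (hOp ▸ pMin_inf_sylow_le_pCore hP hM hSM M.normalCore_le ⟨h2, hs⟩)
    rw [← hsx, h3] at hxo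
    simp at hxo
    exact hp.one_lt.ne hxo
  have hFn : Group.IsNilpotent M.normalCore := pMin_pPrime_nilpotent hP hM hSM hFc
  have hnotF : ∀ N : Subgroup P, K ≤ N → ¬ N ≤ M.normalCore := fun N h1 h2 =>
    Components.qsSub_not_le_of_isSolvable hK.2 inferInstance (h1.trans h2)
  set R := Cfsg.pResidual p P with hR
  set E := Cfsg.layer P with hE
  have hKE : K ≤ E := Components.component_le_layer hK
  have hRE : R ≤ E := (pMin_dichotomy hP hM hSM Components.layer_normal).resolve_right (hnotF E hKE)
  have hER : E ≤ R := by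
    obtain ⟨k, hk⟩ := Subgroup.nilpotent_iff_lowerCentralSeries.mp
      ((Fusion.isPGroup_quotient_pResidual (p := p) (G := P)).isNilpotent)
    have key : ∀ m, E.map (QuotientGroup.mk' R) ≤ Subgroup.lowerCentralSeries ⊤ m := by
      intro m
      induction m with
      | zero => simp
      | succ m ih =>
        calc E.map (QuotientGroup.mk' R) = ⁅E.map (QuotientGroup.mk' R), E.map (QuotientGroup.mk' R)⁆ := by
              rw [← map_commutator, Components.layer_perfect]
          _ ≤ ⁅Subgroup.lowerCentralSeries ⊤ m, ⊤⁆ := commutator_mono ih le_top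
          _ = _ := rfl
    have h1 := key k
    rw [hk, le_bot_iff, Subgroup.map_eq_bot_iff, QuotientGroup.ker_mk'] at h1
    exact h1
  have hFit : Cfsg.fittingSubgroup P ≤ R := by
    rw [Cores.iSup_pCore_eq_fittingSubgroup]
    refine iSup_le fun q => ?_
    rcases eq_or_ne (q : ℕ) p with h | h
    · rw [h, hOp]; exact bot_le
    · intro z hz
      haveI := Fact.mk q.2
      obtain ⟨k, hk⟩ := Cores.pCore_isPGroup ⟨z, hz⟩
      exact Fusion.mem_pResidual (Nat.Coprime.coprime_dvd_left
        (orderOf_dvd_of_pow_eq_one (congrArg Subtype.val hk))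
        (((Nat.coprime_primes q.2 hp).2 h).pow_left k))
  have hEnorm : ∀ g : P, E ≤ normalizer (cj K g : Set P) := fun g =>
    Components.layer_le_normalizer_component (Components.component_conj hK g)
  set N := ⨆ s : ↥(S : Subgroup P), K.map (MulAut.conj (s : P)).toMonoidHom with hN
  have hKN : K ≤ N := le_trans (le_of_eq (cj_one K).symm) (le_iSup (fun s : ↥(S : Subgroup P) => K.map (MulAut.conj (s : P)).toMonoidHom) 1)
  have hSE : (S : Subgroup P) ⊔ E = ⊤ :=
    top_le_iff.1 ((Fusion.sylow_sup_pResidual S).ge.trans (sup_le_sup_left hRE _))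
  have hNn : N.Normal := by
    refine normalizer_eq_top_iff.1 (top_le_iff.1 (hSE ▸ sup_le ?_ ?_))
    · rw [le_normalizer_iff]
      intro s hs z hz
      have hle : N ≤ N.comap (MulAut.conj s).toMonoidHom := iSup_le fun t => by
        rw [← Subgroup.map_le_iff_le_comap]
        refine le_trans (le_of_eq (cj_cj K (t : P) s)) ?_
        exact le_iSup (fun t : ↥(S : Subgroup P) => K.map (MulAut.conj (t : P)).toMonoidHom) (⟨s, hs⟩ * t)
      exact hle hz
    · rw [le_normalizer_iff]
      intro e he z hz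
      have hle : N ≤ N.comap (MulAut.conj e).toMonoidHom := iSup_le fun t => by
        rw [← Subgroup.map_le_iff_le_comap]
        refine le_trans (le_of_eq (cj_eq_of_mem (hEnorm (t : P)) he)) ?_
        exact le_iSup (fun t : ↥(S : Subgroup P) => K.map (MulAut.conj (t : P)).toMonoidHom) t
      exact hle hz
  have hRN : R ≤ N := (pMin_dichotomy hP hM hSM hNn).resolve_right (hnotF N hKN)
  have hNE : N ≤ E := iSup_le fun s => Components.component_le_layer (Components.component_conj hK _)
  have hgen : Cfsg.generalizedFittingSubgroup P = E :=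
    le_antisymm (sup_le le_rfl (hFit.trans hRE)) Components.layer_le_genFitting
  refine ⟨le_antisymm (hgen ▸ hRE) (hgen ▸ hER), hgen, le_antisymm (hER.trans hRN) hNE, ?_⟩
  -- p divides the order of K
  have hpK : p ∣ Nat.card K := by
    by_contra hnd
    have hKp : K ≤ Cfsg.pPrimeCore p P :=
      Cores.le_pPrimeCore_of_isSubnormal hK.1 (hp.coprime_iff_not_dvd.2 hnd).symm
    haveI := pMin_pPrime_nilpotent hP hM hSM (Cores.coprime_card_pPrimeCore (p := p) (G := P))
    exact Components.qsSub_not_le_of_isSolvable hK.2 inferInstance hKp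
  set S0 := (S : Subgroup P) ⊓ normalizer (K : Set P) with hS0
  set X := K ⊔ S0 with hX
  have hS0K : S0 ≤ normalizer (K : Set P) := inf_le_right
  have hXN : X ≤ normalizer (K : Set P) := sup_le le_normalizer hS0K
  have hmulX : ∀ x ∈ X, ∃ s ∈ S0, ∃ k ∈ K, x = s * k := fun x hx => mem_sup_mul hS0K (sup_comm K S0 ▸ hx)
  -- S meets K in a Sylow subgroup of K
  have hmax : ∀ U : Subgroup P, IsPGroup p U → K ⊓ (S : Subgroup P) ≤ U → U ≤ K → U ≤ K ⊓ (S : Subgroup P) := by
    intro U hU hle hUK
    refine (Subgroup.eq_of_le_of_card_ge hle (Nat.le_of_dvd Nat.card_pos ?_)).ge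
    have h1 : ¬ p ∣ (S : Subgroup P).relIndex K := fun hd =>
      S.not_dvd_index (hd.trans (H77.relIndex_dvd_index_of_subnormal hK.1 _))
    have h2 : Nat.card U ∣ Nat.card (K ⊓ (S : Subgroup P) : Subgroup P) * (S : Subgroup P).relIndex K := by
      refine (card_dvd_of_le hUK).trans (dvd_of_eq ?_)
      have h := relIndex_mul_relIndex (⊥ : Subgroup P) (K ⊓ (S : Subgroup P)) K bot_le inf_le_left
      rw [relIndex_bot_left, relIndex_bot_left, inf_relIndex_left] at h
      exact h.symm
    obtain ⟨a, ha⟩ := IsPGroup.iff_card.1 hU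
    rw [ha] at h2 ⊢
    exact ((hp.coprime_iff_not_dvd.2 h1).pow_left a).dvd_of_dvd_mul_right h2
  have hSKS0 : K ⊓ (S : Subgroup P) ≤ S0 := le_inf inf_le_right (inf_le_left.trans le_normalizer)
  -- S0 is a Sylow subgroup of X
  obtain ⟨T, hT⟩ := ((S.isPGroup'.to_le inf_le_left : IsPGroup p S0).comap_of_injective X.subtype
    X.subtype_injective).exists_le_sylow
  have hT0 : (T : Subgroup X) = S0.comap X.subtype := by
    refine le_antisymm (fun t ht => ?_) hT
    obtain ⟨s, hs, k, hk, he⟩ := hmulX t t.2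
    have hkT : k ∈ (T : Subgroup X).map X.subtype := by
      have hsX : s ∈ X := mem_sup_right hs
      refine ⟨⟨s, hsX⟩⁻¹ * t, mul_mem (inv_mem (hT hs)) ht, ?_⟩
      simp [he]
    have h1 : k ∈ K ⊓ (S : Subgroup P) :=
      hmax ((T : Subgroup X).map X.subtype ⊓ K) ((T.isPGroup'.map X.subtype).to_inf_left)
        (le_inf (fun z hz => ⟨⟨z, mem_sup_left hz.1⟩, hT (hSKS0 hz), rfl⟩) inf_le_left) inf_le_right ⟨hkT, hk⟩
    show (t : P) ∈ S0
    rw [he]
    exact mul_mem hs (hSKS0 h1)
  have hA : ∀ A : Subgroup P, A ≤ K → A ≠ K → S0 ≤ normalizer (A : Set P) → K ⊓ (S : Subgroup P) ≤ A → A ≤ M := by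
    intro A hAK hAne hS0A hSA
    by_contra hAM
    set At := sSup {L : Subgroup P | ∃ s ∈ (S : Subgroup P), L = cj A s} with hAt
    have hSAt : (S : Subgroup P) ≤ normalizer (At : Set P) := by
      rw [le_normalizer_iff]
      intro s hs z hz
      have hle : At ≤ At.comap (MulAut.conj s).toMonoidHom := sSup_le fun L hL => by
        obtain ⟨t, ht, rfl⟩ := hL
        rw [← Subgroup.map_le_iff_le_comap]
        exact le_sSup ⟨s * t, mul_mem hs ht, cj_cj A t s⟩
      exact hle hz
    have htop : (S : Subgroup P) ⊔ At = ⊤ := pMin_sup_eq_top hP hM hSM fun h =>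
      hAM (le_trans (le_sSup (show A ∈ {L : Subgroup P | ∃ s ∈ (S : Subgroup P), L = cj A s} from ⟨1, one_mem _, (cj_one A).symm⟩)) h)
    have hAtC : At ≤ A ⊔ centralizer (K : Set P) := sSup_le fun L hL => by
      obtain ⟨s, hs, rfl⟩ := hL
      by_cases h : cj K s = K
      · rw [cj_eq_of_mem hS0A ⟨hs, cj_eq_self_iff.1 h⟩]
        exact le_sup_left
      · refine le_sup_of_le_right ((cj_mono hAK s).trans ?_)
        exact commutator_eq_bot_iff_le_centralizer.1
          (Components.components_commute (Components.component_conj hK s) hK h)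
    have hAtE : At ≤ E := sSup_le fun L hL => by
      obtain ⟨s, hs, rfl⟩ := hL
      exact ((cj_mono hAK s).trans (Components.component_le_layer (Components.component_conj hK s)))
    have hKC : K ≤ normalizer (centralizer (K : Set P) : Set P) :=
      le_normalizer.trans (normalizer_le_normalizer_centralizer K)
    have hES : E ⊓ (S : Subgroup P) ≤ A ⊔ centralizer (K : Set P) := by
      rintro e ⟨heE, heS⟩
      have hdec : E ≤ K ⊔ centralizer (K : Set P) := sSup_le fun L hL => by
        by_cases h : L = K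
        · exact h ▸ le_sup_left
        · exact le_sup_of_le_right (commutator_eq_bot_iff_le_centralizer.1 (Components.components_commute hL hK h))
      obtain ⟨k, hk, c, hc, he⟩ := mem_sup_mul hKC (hdec heE)
      have hcomm : Commute k c := mem_centralizer_iff.1 hc k hk
      obtain ⟨n, hn⟩ := S.isPGroup' ⟨e, heS⟩
      have hen : e ^ p ^ n = 1 := congrArg Subtype.val hn
      set m := ordCompl[p] (orderOf k) with hm
      have hmc : Nat.Coprime m (orderOf e) :=
        ((Nat.coprime_ordCompl hp (orderOf_pos k).ne').symm.pow_right n).coprime_dvd_right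
          (orderOf_dvd_of_pow_eq_one hen)
      obtain ⟨j, hj⟩ := exists_pow_eq_self_of_coprime (x := e) (n := m) hmc
      set k' := (k ^ m) ^ j with hk'
      have he' : e = k' * (c ^ m) ^ j := by
        conv_lhs => rw [← hj, he]
        rw [hcomm.mul_pow, ((hcomm.pow_pow m m)).mul_pow]
      have hk'p : k' ^ p ^ (orderOf k).factorization p = 1 := by
        rw [hk', ← pow_mul, ← pow_mul, ← orderOf_dvd_iff_pow_eq_one, hm]
        calc orderOf k = ordCompl[p] (orderOf k) * ordProj[p] (orderOf k) := by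
              rw [mul_comm]; exact (Nat.ordProj_mul_ordCompl_eq_self _ _).symm
          _ ∣ _ := mul_dvd_mul_left _ (dvd_mul_left _ _)
      have hk'K : k' ∈ K := pow_mem (pow_mem hk _) _
      have hn' : k' ∈ normalizer ((K ⊓ (S : Subgroup P) : Subgroup P) : Set P) := by
        have h1 : e ∈ normalizer ((K ⊓ (S : Subgroup P) : Subgroup P) : Set P) := by
          refine le_normalizer_inf (A := zpowers e) ?_ ?_ (mem_zpowers e)
          · exact zpowers_le.2 (Components.layer_le_normalizer_component hK heE)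
          · exact (zpowers_le.2 heS).trans le_normalizer
        have h2 : (c ^ m) ^ j ∈ normalizer ((K ⊓ (S : Subgroup P) : Subgroup P) : Set P) :=
          centralizer_le_normalizer _ (centralizer_le inf_le_left (pow_mem (pow_mem hc _) _))
        have := mul_mem h1 (inv_mem h2)
        rwa [he', mul_inv_cancel_right] at this
      have hkp : IsPGroup p (zpowers k') := IsPGroup.of_card_dvd_pow (n := (orderOf k).factorization p) (by
        rw [Nat.card_zpowers]; exact orderOf_dvd_of_pow_eq_one hk'p)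
      have hk'S : k' ∈ K ⊓ (S : Subgroup P) := hmax (zpowers k' ⊔ (K ⊓ (S : Subgroup P)))
        (hkp.to_sup_of_normal_right' S.isPGroup'.to_inf_right (zpowers_le.2 hn'))
        le_sup_right (sup_le (zpowers_le.2 hk'K) inf_le_left) (mem_sup_left (mem_zpowers k'))
      rw [he']
      exact mul_mem (mem_sup_left (hSA hk'S)) (mem_sup_right (pow_mem (pow_mem hc _) _))
    have hKle : K ≤ A ⊔ centralizer (K : Set P) := by
      intro x hx
      obtain ⟨s, hs, a, ha, he⟩ := mem_sup_mul hSAt (htop ▸ mem_top x : x ∈ (S : Subgroup P) ⊔ At)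
      rw [he]
      refine mul_mem (hES ⟨?_, hs⟩) (hAtC ha)
      have : s = x * a⁻¹ := by rw [he, mul_inv_cancel_right]
      rw [this]
      exact E.mul_mem (hKE hx) (E.inv_mem (hAtE ha))
    apply hAne
    refine le_antisymm hAK ?_
    have hAC : A ≤ normalizer (centralizer (K : Set P) : Set P) := hAK.trans hKC
    rw [← Components.component_perfect hK, commutator_le]
    intro x hx y hy
    obtain ⟨a, ha, c, hc, hex⟩ := mem_sup_mul hAC (hKle hx)
    obtain ⟨b, hb, d, hd, hey⟩ := mem_sup_mul hAC (hKle hy)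
    have h1 := mem_centralizer_iff.1 hc
    have h2 := mem_centralizer_iff.1 hd
    have hdK : d ∈ K := by
      have : d = b⁻¹ * y := by rw [hey, inv_mul_cancel_left]
      rw [this]; exact mul_mem (inv_mem (hAK hb)) hy
    have e1 : c * y * c⁻¹ = y := by rw [← h1 y hy, mul_inv_cancel_right]
    have e2 : d * a⁻¹ * d⁻¹ = a⁻¹ := by rw [← h2 a⁻¹ (inv_mem (hAK ha)), mul_inv_cancel_right]
    have hxy : ⁅x, y⁆ = ⁅a, b⁆ := by
      calc ⁅x, y⁆ = a * (c * y * c⁻¹) * a⁻¹ * y⁻¹ := by rw [hex, commutatorElement_def]; group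
        _ = a * y * a⁻¹ * y⁻¹ := by rw [e1]
        _ = a * b * (d * a⁻¹ * d⁻¹) * b⁻¹ := by rw [hey]; group
        _ = ⁅a, b⁆ := by rw [e2, commutatorElement_def]
    rw [hxy, commutatorElement_def]
    exact mul_mem (mul_mem (mul_mem ha hb) (inv_mem ha)) (inv_mem hb)
  -- the unique maximal overgroup
  refine isPMinimal_of_bound T ?_ (B := (((M ⊓ K) ⊔ S0).comap X.subtype)) ?_ ?_
  · intro hn
    rw [hT0] at hn
    have hle : X ≤ normalizer (S0 : Set P) :=
      (normal_subgroupOf_iff_le_normalizer le_sup_right).1 hn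
    have hKS : K ≤ normalizer ((K ⊓ (S : Subgroup P) : Subgroup P) : Set P) := by
      have h := le_normalizer_inf (A := K) le_normalizer (le_sup_left.trans hle)
      rwa [show K ⊓ S0 = K ⊓ (S : Subgroup P) from le_antisymm (inf_le_inf_left _ inf_le_left) (le_inf inf_le_left hSKS0)] at h
    have hsub : (K ⊓ (S : Subgroup P)).IsSubnormal :=
      IsSubnormal.step _ K inf_le_left hK.1 ((normal_subgroupOf_iff_le_normalizer inf_le_left).2 hKS)
    have hbot : K ⊓ (S : Subgroup P) = ⊥ :=
      le_bot_iff.1 (hOp ▸ Cores.le_pCore_of_isSubnormal hsub S.isPGroup'.to_inf_right)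
    obtain ⟨⟨x, hxK⟩, hxo⟩ := exists_prime_orderOf_dvd_card' (G := K) p hpK
    rw [Subgroup.orderOf_mk] at hxo
    have h := hmax (zpowers x) (IsPGroup.of_card (n := 1) (by rw [Nat.card_zpowers, hxo, pow_one]))
      (hbot ▸ bot_le) (zpowers_le.2 hxK) (mem_zpowers x)
    rw [hbot, Subgroup.mem_bot] at h
    rw [h, orderOf_one] at hxo
    exact hp.one_lt.ne hxo
  · intro h
    have hXle : X ≤ (M ⊓ K) ⊔ S0 := subgroupOf_eq_top.1 h
    have hKM : K ≤ M := (le_sup_left.trans hXle).trans (sup_le inf_le_left (inf_le_left.trans hSM))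
    refine pMin_residual_not_le (S := S) hM hSM (hRN.trans (iSup_le fun s => ?_))
    exact (cj_mono hKM _).trans (cj_le_of_mem (hSM s.2))
  · intro Y hTY hY y hy
    obtain ⟨s, hs, k, hk, he⟩ := hmulX y y.2
    show (y : P) ∈ (M ⊓ K) ⊔ S0
    rw [he]
    refine mul_mem (mem_sup_right hs) (mem_sup_left ?_)
    set A := Y.map X.subtype ⊓ K with hAdef
    have hS0Y : S0 ≤ Y.map X.subtype := fun z hz => ⟨⟨z, mem_sup_right hz⟩, hTY (hT0.ge hz), rfl⟩
    have hkA : k ∈ A := by
      refine ⟨?_, hk⟩
      have : k = s⁻¹ * y := by rw [he, inv_mul_cancel_left]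
      rw [this]
      exact (Y.map X.subtype).mul_mem ((Y.map X.subtype).inv_mem (hS0Y hs)) ⟨y, hy, rfl⟩
    refine ⟨hA A inf_le_right ?_ ?_ ?_ hkA, hk⟩
    · intro h
      apply hY
      rw [eq_top_iff]
      intro z _
      have hle : X ≤ Y.map X.subtype := sup_le (h ▸ inf_le_left) hS0Y
      obtain ⟨w, hw, hwz⟩ := hle z.2
      exact (Subtype.ext hwz : w = z) ▸ hw
    · exact le_normalizer_inf (hS0Y.trans le_normalizer) hS0K
    · exact le_inf (hSKS0.trans hS0Y) inf_le_left

end Cfsg.Agent.S2906
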