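import Cfsg.Statements.S2907
import Cfsg.Agent.PGroups.Extraspecial

set_option autoImplicit false
open Cfsg

namespace Cfsg.Agent.S2907

open Subgroup
open scoped commutatorElement


/-- Let X be a finite semi-extraspecial p-group and x an element of X outside the centre. Then the index of C_X(x) in X equals the order of Z(X), and the commutators [x, y], y ∈ X, form exactly the centre Z(X). -/
theorem result {X : Type*} [Group X] [Finite X] {p : ℕ} [Fact p.Prime] (hX : Cfsg.IsSemiExtraspecial p X) (x : X) (hx : x ∉ Subgroup.center X) : (Subgroup.centralizer ({x} : Set X)).index = Nat.card ↥(Subgroup.center X) ∧ {z : X | ∃ y : X, z = x * y * x⁻¹ * y⁻¹} = (Subgroup.center X : Set X) := by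
  obtain ⟨hsp, hY⟩ := hX
  have hc : commutator X ≤ center X := hsp.2.2.le
  have hcap : center X ≤ commutator X := hsp.2.2.ge
  let f : X →* X := MonoidHom.mk' (fun y => x * y * x⁻¹ * y⁻¹) fun a b => by
    have h1 : x * b * x⁻¹ * b⁻¹ ∈ center X :=
      hc (Subgroup.commutator_mem_commutator (mem_top x) (mem_top b))
    have h2 := Subgroup.mem_center_iff.1 h1 a
    calc x * (a * b) * x⁻¹ * (a * b)⁻¹ = x * a * x⁻¹ * (x * b * x⁻¹ * b⁻¹) * a⁻¹ := by group
      _ = x * a * x⁻¹ * (a⁻¹ * (a * (x * b * x⁻¹ * b⁻¹)) * a⁻¹) := by group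
      _ = x * a * x⁻¹ * (a⁻¹ * ((x * b * x⁻¹ * b⁻¹) * a) * a⁻¹) := by rw [h2]
      _ = x * a * x⁻¹ * a⁻¹ * (x * b * x⁻¹ * b⁻¹) := by group
  have hfz : f.range ≤ center X := by
    rintro _ ⟨y, rfl⟩
    exact hc (Subgroup.commutator_mem_commutator (mem_top x) (mem_top y))
  have hker : f.ker = centralizer ({x} : Set X) := by
    ext y
    rw [MonoidHom.mem_ker, Subgroup.mem_centralizer_singleton_iff]
    show x * y * x⁻¹ * y⁻¹ = 1 ↔ _
    constructor
    · intro h
      calc y * x = (x * y * x⁻¹ * y⁻¹) * (y * x) := by rw [h, one_mul]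
        _ = x * y := by group
    · intro h
      calc x * y * x⁻¹ * y⁻¹ = (x * y) * (y * x)⁻¹ := by group
        _ = 1 := by rw [h, mul_inv_cancel]
  have hrange : f.range = center X := by
    by_contra hne
    have hlt : f.range.subgroupOf (center X) < ⊤ := lt_top_iff_ne_top.2 fun h =>
      hne (le_antisymm hfz (Subgroup.subgroupOf_eq_top.1 h))
    obtain ⟨Y0, hY0, hle⟩ : ∃ Y0, IsCoatom Y0 ∧ f.range.subgroupOf (center X) ≤ Y0 := by
      rcases eq_top_or_exists_le_coatom (f.range.subgroupOf (center X)) with h | h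
      · exact absurd h hlt.ne
      · exact h
    set Y := Y0.map (center X).subtype with hYdef
    have hYc : Y.subgroupOf (center X) = Y0 :=
      comap_map_eq_self_of_injective (center X).subtype_injective _
    obtain ⟨hYn, hes⟩ := hY Y (map_subtype_le _) (by rw [hYc]; exact hY0)
    have hfY : ∀ y, f y ∈ Y := fun y =>
      ⟨⟨f y, hfz ⟨y, rfl⟩⟩, hle (show (⟨f y, hfz ⟨y, rfl⟩⟩ : center X) ∈ f.range.subgroupOf (center X) from ⟨y, rfl⟩), rfl⟩
    set π := QuotientGroup.mk' Y with hπ
    have hxc : π x ∈ center (X ⧸ Y) := by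
      refine Subgroup.mem_center_iff.2 fun q => ?_
      obtain ⟨y, rfl⟩ := QuotientGroup.mk'_surjective Y q
      have h1 : π (x * y * x⁻¹ * y⁻¹) = 1 := (QuotientGroup.eq_one_iff _).2 (hfY y)
      calc π y * π x = π (x * y * x⁻¹ * y⁻¹) * (π y * π x) := by rw [h1, one_mul]
        _ = π x * π y := by rw [← map_mul, ← map_mul, ← map_mul]; congr 1; group
    have hmap : center (X ⧸ Y) = (center X).map π := by
      have h1 : (center X).map π ≤ center (X ⧸ Y) := by
        rintro _ ⟨z, hz, rfl⟩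
        refine Subgroup.mem_center_iff.2 fun q => ?_
        obtain ⟨y, rfl⟩ := QuotientGroup.mk'_surjective Y q
        rw [← map_mul, ← map_mul, Subgroup.mem_center_iff.1 hz y]
      refine (Subgroup.eq_of_le_of_card_ge h1 ?_).symm
      rw [hes.2]
      have hnt : (center X).map π ≠ ⊥ := by
        rw [ne_eq, Subgroup.map_eq_bot_iff, QuotientGroup.ker_mk']
        intro h
        exact hY0.1 (hYc ▸ Subgroup.subgroupOf_eq_top.2 h)
      obtain ⟨k, hk⟩ := IsPGroup.iff_card.1 ((hsp.1.to_quotient Y).to_subgroup ((center X).map π))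
      rw [hk]
      refine Nat.le_self_pow (fun h => hnt ?_) p
      rw [h, pow_zero] at hk
      exact Subgroup.card_eq_one.1 hk
    rw [hmap] at hxc
    obtain ⟨z, hz, hzx⟩ := hxc
    have hm : x⁻¹ * z ∈ Y := by
      rw [← QuotientGroup.eq_one_iff]
      show π (x⁻¹ * z) = 1
      rw [map_mul, map_inv, hzx, inv_mul_cancel]
    have := mul_mem hz (inv_mem (map_subtype_le _ hm : x⁻¹ * z ∈ center X))
    exact hx (by simpa [mul_assoc] using this)
  refine ⟨?_, ?_⟩
  · rw [← hker, Subgroup.index_ker, hrange]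
  · rw [← hrange]
    ext z
    exact ⟨fun ⟨y, hy⟩ => ⟨y, hy.symm⟩, fun ⟨y, hy⟩ => ⟨y, hy.symm⟩⟩

end Cfsg.Agent.S2907
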