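import Cfsg.Statements.S2909
import Cfsg.Agent.Coprime.Generation
import Cfsg.Agent.Coprime.PGroupAction
-- import your own Cfsg.Agent.* helpers here

set_option autoImplicit false
open Cfsg
open Cfsg.Agent.Coprime

namespace Cfsg.Agent.S2909

/-- Let p be a prime, E a normal p-subgroup of the finite group G, and U a non-cyclic elementary abelian p-subgroup of G such that either C_E(U) = C_E(u) for every nontrivial u ∈ U, or [E, U] = [E, ⟨u⟩] for every nontrivial u ∈ U. If R is a subgroup of order prime to p normalized by U, then [R, U] centralizes E. -/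
theorem result {G : Type*} [Group G] [Finite G] {p : ℕ} [Fact p.Prime] (E : Subgroup G) [E.Normal] (hE : IsPGroup p ↥E) (U : Subgroup G) (hU : Cfsg.IsElementaryAbelian p U) (hnc : ¬ IsCyclic ↥U) (hcond : (∀ u ∈ U, u ≠ 1 → E ⊓ Subgroup.centralizer (U : Set G) = E ⊓ Subgroup.centralizer ({u} : Set G)) ∨ (∀ u ∈ U, u ≠ 1 → ⁅E, U⁆ = ⁅E, Subgroup.zpowers u⁆)) (R : Subgroup G) (hR : ¬ p ∣ Nat.card ↥R) (hRU : U ≤ Subgroup.normalizer (R : Set G)) : ⁅R, U⁆ ≤ Subgroup.centralizer (E : Set G) := by
  have hcomm := hU.1
  have hUp : IsPGroup p U := fun u => ⟨1, Subtype.ext (by simpa using hU.2 u u.2)⟩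
  obtain ⟨n, hn⟩ := IsPGroup.iff_card.mp hUp
  have hcopR : (Nat.card U).Coprime (Nat.card R) := by
    rw [hn]; exact ((Nat.Prime.coprime_iff_not_dvd Fact.out).mpr hR).pow_left n
  have hUE : ∀ S : Subgroup G, S ≤ Subgroup.normalizer (E : Set G) := fun S =>
    Subgroup.le_normalizer_of_normal
  have hRC : R ≤ Subgroup.normalizer ((R ⊓ Subgroup.centralizer (E : Set G) : Subgroup G) : Set G) := by
    rw [Subgroup.le_normalizer_iff]
    intro r hr x hx
    refine ⟨R.mul_mem (R.mul_mem hr hx.1) (R.inv_mem hr), ?_⟩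
    show r * x * r⁻¹ ∈ Subgroup.centralizer (E : Set G)
    rw [Subgroup.mem_centralizer_iff]
    intro e he
    have h := Subgroup.mem_centralizer_iff.mp hx.2 (r⁻¹ * e * r) (by
      simpa using ‹E.Normal›.conj_mem e he r⁻¹)
    calc e * (r * x * r⁻¹) = r * ((r⁻¹ * e * r) * x) * r⁻¹ := by simp [mul_assoc]
      _ = r * (x * (r⁻¹ * e * r)) * r⁻¹ := by rw [h]
      _ = r * x * r⁻¹ * e := by simp [mul_assoc]
  suffices key : ∀ u ∈ U, u ≠ 1 →
      ⁅R ⊓ Subgroup.centralizer {u}, U⁆ ≤ R ⊓ Subgroup.centralizer (E : Set G) by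
    refine (commutator_le_of_le_relCentralizer (N := R ⊓ Subgroup.centralizer (E : Set G)) ?_).trans inf_le_right
    refine le_of_centralizer_noncyclic_le hnc hRU hcopR fun u hu hu1 g hg => ⟨hRC hg.1, fun v hv => ?_⟩
    exact key u hu hu1 (Subgroup.commutator_mem_commutator hg hv)
  intro u hu hu1
  set C := R ⊓ Subgroup.centralizer ({u} : Set G) with hC
  set Q := ⁅C, U⁆ with hQdef
  have hUC : U ≤ Subgroup.normalizer (C : Set G) := by
    rw [Subgroup.le_normalizer_iff]
    intro v hv x hx
    refine ⟨conj_mem (hRU hv) hx.1, Subgroup.mem_centralizer_singleton_iff.mpr ?_⟩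
    have hvu : Commute v u := Subtype.ext_iff.mp (mul_comm' (⟨v, hv⟩ : U) ⟨u, hu⟩)
    have hxu : Commute x u := Subgroup.mem_centralizer_singleton_iff.mp hx.2
    exact (hvu.mul_left hxu).mul_left hvu.inv_left
  have hQC : Q ≤ C := commutator_le_left_of_normalizer hUC
  refine le_inf (hQC.trans inf_le_left) ?_
  set Z := Subgroup.zpowers u with hZ
  have hZU : Z ≤ U := Subgroup.zpowers_le.mpr hu
  have hZp : IsPGroup p Z := hUp.to_le hZU
  have hQp : ¬ p ∣ Nat.card Q := fun h =>
    hR (h.trans (Subgroup.card_dvd_of_le (hQC.trans inf_le_left)))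
  have hZQ : ⁅Z, Q⁆ = ⊥ := by
    rw [Subgroup.commutator_eq_bot_iff_le_centralizer, hZ, Subgroup.zpowers_le]
    exact Subgroup.mem_centralizer_iff.mpr fun x hx =>
      Subgroup.mem_centralizer_singleton_iff.mp (hQC hx).2
  have hCu : C ≤ Subgroup.centralizer (Z : Set G) := by
    rw [Subgroup.le_centralizer_iff, hZ, Subgroup.zpowers_le]
    exact Subgroup.mem_centralizer_iff.mpr fun x hx => Subgroup.mem_centralizer_singleton_iff.mp hx.2
  rcases hcond with h | h
  · -- all fixed point subgroups agree
    set D := E ⊓ Subgroup.centralizer (U : Set G) with hD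
    have hCD : C ≤ Subgroup.normalizer (D : Set G) := by
      intro x hx
      apply mem_normalizer_of_map_conj
      rw [h u hu hu1, Subgroup.map_inf_eq _ _ _ (MulAut.conj x).injective,
        map_conj_eq (hUE C hx)]
      congr 1
      ext g
      rw [mem_map_conj, Subgroup.mem_centralizer_singleton_iff, Subgroup.mem_centralizer_singleton_iff]
      have hxu : Commute x u := Subgroup.mem_centralizer_singleton_iff.mp hx.2
      constructor
      · intro hg
        have := ((hxu.mul_left (show Commute (x⁻¹ * g * x) u from hg)).mul_left hxu.inv_left).eq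
        simpa [mul_assoc] using this
      · intro hg
        exact ((hxu.inv_left.mul_left (show Commute g u from hg)).mul_left hxu).eq
    have hUD : U ≤ Subgroup.centralizer (D : Set G) := Subgroup.le_centralizer_iff.mp inf_le_right
    have h1 : ⁅Q, D⁆ = ⊥ := by
      refine Subgroup.commutator_commutator_eq_bot_of_rotate ?_ ?_
      · rw [Subgroup.commutator_eq_bot_iff_le_centralizer.mpr hUD, Subgroup.commutator_bot_left]
      · rw [eq_bot_iff, ← Subgroup.commutator_eq_bot_iff_le_centralizer.mpr hUD,
          Subgroup.commutator_comm U D]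
        exact Subgroup.commutator_mono (Subgroup.le_normalizer_iff_commutator_le_left.mp hCD) le_rfl
    refine (Subgroup.le_centralizer_iff.mp ?_)
    rw [Subgroup.le_centralizer_iff]
    refine thompson_AxB hZp ((Nat.Prime.coprime_iff_not_dvd Fact.out).mpr hQp).symm
      (Subgroup.commutator_eq_bot_iff_le_centralizer.mp hZQ) E hE (hUE _) (hUE _) ?_
    intro e he
    have he' : e ∈ D := by
      rw [h u hu hu1]
      refine ⟨he.1, ?_⟩
      exact Subgroup.mem_centralizer_singleton_iff.mpr
        (Subgroup.mem_centralizer_iff.mp he.2 u (Subgroup.mem_zpowers u)).symm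
    exact (Subgroup.commutator_eq_bot_iff_le_centralizer.mp (Subgroup.commutator_comm Q D ▸ h1)) he'
  · -- all commutators agree
    set W := ⁅E, U⁆ with hW
    have hCW : C ≤ Subgroup.normalizer (W : Set G) := by
      rw [h u hu hu1]
      intro x hx
      refine mem_normalizer_commutator (hUE C hx) ?_
      exact Subgroup.centralizer_le_normalizer _ (hCu hx)
    have hle : ⁅E, Q⁆ ≤ ⁅E, Z⁆ := by
      rw [← h u hu hu1, Subgroup.commutator_comm E Q]
      refine commutator_rotate_le hCW (Subgroup.normalizer_commutator_ge_right E U)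
        (Subgroup.normalizer_commutator_ge_left E U) ?_ ?_
      · rw [Subgroup.commutator_comm U E]
        exact Subgroup.le_normalizer_iff_commutator_le_left.mp hCW
      · exact Subgroup.commutator_mono (commutator_le_left_of_normalizer (hUE C)) le_rfl
    rw [← Subgroup.commutator_eq_bot_iff_le_centralizer, Subgroup.commutator_comm]
    exact commutator_eq_bot_of_le hE hZp hQp (hUE _) (hUE _) hZQ hle

end Cfsg.Agent.S2909
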