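import Cfsg.Statements.S2910
import Cfsg.Agent.Fusion.Complements

set_option autoImplicit false
open Cfsg

namespace Cfsg.Agent.S2910

/-- Let p be an odd prime dividing the order of the finite group G and P a Sylow p-subgroup of G. If Ω₁(P) (generated by the elements of order dividing p) is contained in the centre of G, then G has a normal p-complement. In particular, if G is quasisimple then Ω₁(P) is not central in G. -/
theorem result {G : Type*} [Group G] [Finite G] {p : ℕ} [Fact p.Prime] (hp : p ≠ 2) (hdiv : p ∣ Nat.card G) (P : Sylow p G) (hZ : Cfsg.omegaOne p (P : Subgroup G) ≤ Subgroup.center G) : Cfsg.HasNormalPComplement p G ∧ ¬ Cfsg.IsQuasisimple G := by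
  have hp' : p.Prime := Fact.out
  have hN : Cfsg.HasNormalPComplement p G := by
    refine Fusion.hasNormalPComplement_of_fix P fun Q hQ g _ _ x hx hxp => ?_
    rcases hxp with hxp | ⟨h2, -⟩
    · have hxc : x ∈ Subgroup.center G := hZ (Subgroup.subset_closure ⟨hQ hx, hxp⟩)
      rw [Subgroup.mem_center_iff.mp hxc g, mul_inv_cancel_right]
    · exact absurd h2 hp
  refine ⟨hN, fun hq => ?_⟩
  have hperf : commutator G = ⊤ := Group.isPerfect_def.mp hq.1
  set K := Cfsg.pResidual p G with hK
  have hKtop : K = ⊤ := by
    by_contra hne
    haveI : Nontrivial (G ⧸ K) := QuotientGroup.nontrivial_iff.mpr hne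
    haveI := (Fusion.isPGroup_quotient_pResidual (p := p) (G := G)).isNilpotent
    have h1 : commutator (G ⧸ K) = ⊤ := by
      have := Subgroup.map_commutator (⊤ : Subgroup G) ⊤ (QuotientGroup.mk' K)
      rw [← commutator_def, hperf, Subgroup.map_top_of_surjective _ (QuotientGroup.mk'_surjective K),
        ← commutator_def] at this
      exact this.symm
    exact (Group.IsSolvable.commutator_lt_top_of_nontrivial (G ⧸ K)).ne h1
  refine Fusion.hasNormalPComplement_iff_pResidual.mp hN ?_
  rw [show Cfsg.pResidual p G = ⊤ from hKtop, Subgroup.card_top]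
  exact hdiv

end Cfsg.Agent.S2910
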