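import Cfsg.Statements.S2911
import Cfsg.Agent.S2872
import Mathlib.GroupTheory.SpecificGroups.Dihedral

set_option autoImplicit false
open Cfsg

namespace Cfsg.Agent.S2911

open Subgroup
set_option linter.style.haveILetI false

abbrev M16 := Multiplicative (ZMod 2) × DihedralGroup 4

def wM : M16 := (1, DihedralGroup.r 2)
def cM : M16 := (Multiplicative.ofAdd 1, 1)

theorem m16_sq : ∀ u : M16, u * u = 1 ∨ u * u = wM := by decide +kernel
theorem m16_w : ∃ u : M16, u * u = wM := ⟨(1, DihedralGroup.r 1), by decide +kernel⟩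
theorem m16_w_ne : wM ≠ 1 := by decide +kernel
theorem m16_c : ∀ u : M16, u * cM = cM * u := by decide +kernel
set_option synthInstance.maxHeartbeats 400000 in
set_option synthInstance.maxSize 1024 in
theorem m16_center : ∀ z z' : M16, (∀ y, y * z = z * y) → (∀ y, y * z' = z' * y) → z ≠ 1 → z ≠ wM →
    z' ≠ 1 → z' ≠ wM → z' = z ∨ z' = z * wM := by decide +kernel
theorem m16_cc : cM * cM = 1 := by decide +kernel
theorem m16_c1 : ¬cM.1 = 1 := by decide +kernel
theorem m16_ww : wM * wM = 1 := by decide +kernel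

theorem aut_sq (β : M16 ≃* M16) {z : M16} (hz : ∀ y, y * z = z * y) : β (β z) = z := by
  have hw : β wM = wM := by
    obtain ⟨u, hu⟩ := m16_w
    rw [← hu, map_mul]
    refine (m16_sq (β u)).elim (fun h => absurd ?_ m16_w_ne) fun h => h.trans hu.symm
    rw [← map_mul, hu, map_eq_one_iff β β.injective] at h
    exact h
  by_cases h1 : z = 1
  · rw [h1, map_one, map_one]
  by_cases h2 : z = wM
  · rw [h2, hw, hw]
  have hc : ∀ y, y * β z = β z * y := fun y => by
    obtain ⟨y', rfl⟩ := β.surjective y
    rw [← map_mul, ← map_mul, hz y']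
  rcases m16_center z (β z) hz hc h1 h2 (fun h => h1 ((map_eq_one_iff β β.injective).1 h))
    (fun h => h2 (β.injective (h.trans hw.symm))) with h | h
  · rw [h, h]
  · rw [h, map_mul, h, hw, mul_assoc, m16_ww, mul_one]


/-- A finite group whose Sylow 2-subgroups are isomorphic to the direct product of a group of order 2 and a dihedral group of order 8 has a subgroup of index two. -/
theorem result {G : Type*} [Group G] [Finite G] (S : Sylow 2 G) (hS : Nonempty (↥(S : Subgroup G) ≃* Multiplicative (ZMod 2) × DihedralGroup 4)) : ∃ H : Subgroup G, H.index = 2 := by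
  haveI : Fact (Nat.Prime 2) := ⟨Nat.prime_two⟩
  obtain ⟨e⟩ := hS
  rcases Cfsg.Agent.S2872.result S with hres | hfr | ⟨g, hg, z, hz, hne⟩
  · obtain ⟨n, hn⟩ := Cfsg.Agent.Fusion.index_pResidual (p := 2) (G := G)
    rcases n with _ | n
    · rw [pow_zero, Subgroup.index_eq_one] at hn
      exact absurd hn hres
    · rw [Subgroup.index_eq_card] at hn
      obtain ⟨K, hK⟩ := Sylow.exists_subgroup_card_pow_prime (G := G ⧸ Cfsg.pResidual 2 G) 2 (n := n)
        (by rw [hn]; exact pow_dvd_pow 2 n.le_succ)
      refine ⟨K.comap (QuotientGroup.mk' _), ?_⟩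
      rw [Subgroup.index_comap_of_surjective _ (QuotientGroup.mk'_surjective _)]
      have := K.card_mul_index
      rw [hK, hn, pow_succ] at this
      exact Nat.eq_of_mul_eq_mul_left (by positivity) this
  · exfalso
    set s := e.symm cM with hs
    have hmem : ((s : (S : Subgroup G)) : G) ∈
        Cfsg.omegaOne 2 ((S : Subgroup G) ⊓ centralizer ((S : Subgroup G) : Set G)) := by
      refine Subgroup.subset_closure ⟨⟨s.2, Subgroup.mem_centralizer_iff.2 fun t ht => ?_⟩, ?_⟩
      · have := congrArg (fun x => ((e.symm x : (S : Subgroup G)) : G)) (m16_c (e ⟨t, ht⟩))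
        simpa [hs] using this
      · have h : cM ^ 2 = 1 := (sq cM).trans m16_cc
        have := congrArg (fun x => ((e.symm x : (S : Subgroup G)) : G)) h
        simpa [hs, sq] using this
    obtain ⟨x, hx, hxe⟩ := hfr hmem
    have hxs : x = s := Subtype.ext hxe
    subst hxs
    let f : (S : Subgroup G) →* Multiplicative (ZMod 2) := (MonoidHom.fst _ _).comp e.toMonoidHom
    have hco : IsCoatom f.ker := by
      have hi : f.ker.index = 2 := by
        rw [Subgroup.index_ker, MonoidHom.range_eq_top.2 fun a => ⟨e.symm (a, 1), by simp [f]⟩,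
          Subgroup.card_top]
        simp [Nat.card_eq_fintype_card]
      refine ⟨fun h => by rw [h, Subgroup.index_top] at hi; omega, fun H hH => ?_⟩
      have hd := (Subgroup.index_dvd_of_le hH.le)
      rw [hi] at hd
      rcases (Nat.dvd_prime Nat.prime_two).1 hd with h | h
      · exact Subgroup.index_eq_one.1 h
      · have h1 := Subgroup.relIndex_mul_index hH.le
        rw [hi, h] at h1
        have h2 : f.ker.relIndex H = 1 := by omega
        exact absurd (Subgroup.relIndex_eq_one.1 h2) hH.not_ge
    have := frattini_le_coatom hco hx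
    have hk : (e s).1 = 1 := this
    rw [hs, MulEquiv.apply_symm_apply] at hk
    exact m16_c1 hk
  · exfalso
    apply hne
    set N := normalizer ((S : Subgroup G) : Set G)
    have hS' : Cfsg.omegaOne 2 ((S : Subgroup G) ⊓ centralizer ((S : Subgroup G) : Set G)) ≤
        (S : Subgroup G) ⊓ centralizer ((S : Subgroup G) : Set G) := (Subgroup.closure_le _).2 fun x hx => hx.1
    obtain ⟨hzS, hzC⟩ := hS' hz
    let β : M16 ≃* M16 := (e.symm.trans ((S : Subgroup G).normalizerMonoidHom ⟨g, hg⟩)).trans e
    have hzc : ∀ y, y * e ⟨z, hzS⟩ = e ⟨z, hzS⟩ * y := fun y => by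
      obtain ⟨y', rfl⟩ := e.surjective y
      rw [← map_mul, ← map_mul]
      exact congrArg e (Subtype.ext (Subgroup.mem_centralizer_iff.1 hzC y' y'.2))
    have h2 : g * (g * z * g⁻¹) * g⁻¹ = z := by
      have h := aut_sq β hzc
      simp only [β, MulEquiv.trans_apply, MulEquiv.symm_apply_apply] at h
      exact congrArg Subtype.val (e.injective h)
    have hpow : ∀ k : ℕ, g ^ (2 * k) * z * (g ^ (2 * k))⁻¹ = z := by
      intro k
      induction k with
      | zero => simp
      | succ k ih =>
        calc g ^ (2 * (k + 1)) * z * (g ^ (2 * (k + 1)))⁻¹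
            = g ^ 2 * (g ^ (2 * k) * z * (g ^ (2 * k))⁻¹) * (g ^ 2)⁻¹ := by
              rw [show 2 * (k + 1) = 2 + 2 * k by ring, pow_add]; group
          _ = g * (g * z * g⁻¹) * g⁻¹ := by rw [ih, sq]; group
          _ = z := h2
    haveI : ((S : Subgroup G).subgroupOf N).Normal := Subgroup.normal_in_normalizer
    set n := ((S : Subgroup G).subgroupOf N).index with hn
    have hodd : Odd n := by
      rw [Nat.odd_iff, ← Nat.two_dvd_ne_zero]
      refine fun h => S.not_dvd_index (dvd_trans h ?_)
      exact Dvd.intro _ (Subgroup.relIndex_mul_index (Subgroup.le_normalizer (H := (S : Subgroup G))))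
    obtain ⟨k, hk⟩ := hodd
    have hgn : g ^ n ∈ (S : Subgroup G) := Subgroup.pow_index_mem ((S : Subgroup G).subgroupOf N) (⟨g, hg⟩ : N)
    have h3 : g ^ n * z * (g ^ n)⁻¹ = z := by
      rw [Subgroup.mem_centralizer_iff.1 hzC _ hgn, mul_inv_cancel_right]
    rw [hk] at h3
    calc g * z * g⁻¹ = g * (g ^ (2 * k) * z * (g ^ (2 * k))⁻¹) * g⁻¹ := by rw [hpow]
      _ = g ^ (2 * k + 1) * z * (g ^ (2 * k + 1))⁻¹ := by rw [pow_succ']; group
      _ = z := h3

end Cfsg.Agent.S2911
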