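import Cfsg.Statements.S2912
import Cfsg.Agent.H60.ExtraspecialRep

set_option autoImplicit false
open Cfsg

namespace Cfsg.Agent.S2912

open Subgroup
set_option linter.style.haveILetI false


/-- Let p and r be distinct primes, let E be an extraspecial subgroup of order p^(2w+1) of a finite group, and let A be an elementary abelian r-subgroup normalized by E on which E acts faithfully (C_E(A) = 1). If n ≥ 1 is least with p dividing rⁿ − 1 (the smallest dimension of a faithful representation of a group of order p over the field with r elements), then the order of A is at least r^(n·p^w). -/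
theorem result {G : Type*} [Group G] [Finite G] {p r : ℕ} [Fact p.Prime] [hr : Fact r.Prime] (hpr : p ≠ r) (E A : Subgroup G) (w : ℕ) (hE : Cfsg.IsExtraspecial p ↥E) (hEcard : Nat.card ↥E = p ^ (2 * w + 1)) (hA : Cfsg.IsElementaryAbelian r A) (hnorm : E ≤ Subgroup.normalizer (A : Set G)) (hfaith : E ⊓ Subgroup.centralizer (A : Set G) = ⊥) (n : ℕ) (hn : 1 ≤ n) (hdiv : p ∣ r ^ n - 1) (hmin : ∀ k : ℕ, 1 ≤ k → p ∣ r ^ k - 1 → n ≤ k) : r ^ (n * p ^ w) ≤ Nat.card ↥A := by
  haveI := hA.1
  letI : CommGroup ↥A := IsMulCommutative.instCommGroup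
  let φ : ↥E →* MulAut ↥A := (Subgroup.normalizerMonoidHom A).comp (Subgroup.inclusion hnorm)
  haveI : Nontrivial (center ↥E) := by
    rw [← Finite.one_lt_card_iff_nontrivial, hE.2]
    exact (Fact.out : p.Prime).one_lt
  obtain ⟨⟨z, hz⟩, hz1⟩ := exists_ne (1 : center ↥E)
  refine Cfsg.Agent.H60.action_bound (fun a => Subtype.ext (hA.2 a.1 a.2)) φ hz hE.2 (le_of_eq hE.1.2.2) ?_ hpr
    hEcard hmin
  intro h
  apply hz1
  apply Subtype.ext
  apply Subtype.ext
  show z.1 = 1
  rw [← Subgroup.mem_bot, ← hfaith]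
  refine ⟨z.2, Subgroup.mem_centralizer_iff.2 fun a ha => ?_⟩
  have h2 : z.1 * a * z.1⁻¹ = a := congrArg Subtype.val (DFunLike.congr_fun h (⟨a, ha⟩ : ↥A))
  exact (mul_inv_eq_iff_eq_mul.1 h2).symm

end Cfsg.Agent.S2912
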