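import Cfsg.Statements.S2922
import Cfsg.Agent.H61.CharP
import Cfsg.Agent.Components.PLocal

set_option autoImplicit false
open Cfsg

namespace Cfsg.Agent.S2922

/-- Let p be a prime, X a finite group, B a p-subgroup of X and C a normal subgroup of B. If N_X(C) has characteristic p (its generalized Fitting subgroup is O_p(N_X(C))), then N_X(B) and C_X(B) have characteristic p. -/
theorem result {X : Type*} [Group X] [Finite X] {p : ℕ} [Fact p.Prime] (B C : Subgroup X) (hB : IsPGroup p ↥B) (hCB : C ≤ B) (hCn : (C.subgroupOf B).Normal) (hC : Cfsg.generalizedFittingSubgroup ↥(Subgroup.normalizer (C : Set X)) = Cfsg.pCore p ↥(Subgroup.normalizer (C : Set X))) : Cfsg.generalizedFittingSubgroup ↥(Subgroup.normalizer (B : Set X)) = Cfsg.pCore p ↥(Subgroup.normalizer (B : Set X)) ∧ Cfsg.generalizedFittingSubgroup ↥(Subgroup.centralizer (B : Set X)) = Cfsg.pCore p ↥(Subgroup.centralizer (B : Set X)) := by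
  classical
  rw [Cfsg.Agent.Components.genFitting_eq_pCore_iff, Cfsg.Agent.Components.genFitting_eq_pCore_iff]
  set M := Subgroup.normalizer (C : Set X) with hM
  have hBM : B ≤ M := (Subgroup.normal_subgroupOf_iff_le_normalizer hCB).mp hCn
  set Z := Subgroup.centralizer (B : Set X) with hZ
  have hZM : Z ≤ M := (Subgroup.centralizer_le hCB).trans (Subgroup.centralizer_le_normalizer _)
  set N := Subgroup.normalizer (B : Set X) with hN
  have hZN : Z ≤ N := Subgroup.centralizer_le_normalizer _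
  have hK := Cfsg.Agent.Components.genFitting_eq_pCore_iff.mp
    (Cfsg.Agent.Components.genFitting_normalizer (G := ↥M) (P := B.subgroupOf M) hC hB.comap_subtype)
  set K := Subgroup.normalizer ((B.subgroupOf M : Subgroup M) : Set M) with hK'
  have hKN : ∀ k : M, k ∈ K ↔ (k : X) ∈ N := by
    intro k
    rw [hK', ← Subgroup.subgroupOf_normalizer_eq hBM, Subgroup.mem_subgroupOf]
  -- `C_X(B)` has characteristic `p`
  let S : Subgroup N := Z.subgroupOf N
  have hSn : ∀ n ∈ N, ∀ z ∈ Z, n * z * n⁻¹ ∈ Z := by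
    intro n hn z hz b hb
    have h1 := hz _ ((Subgroup.mem_normalizer_iff.mp (Subgroup.inv_mem _ hn) b).mp hb)
    calc b * (n * z * n⁻¹) = n * ((n⁻¹ * b * n⁻¹⁻¹) * z) * n⁻¹ := by group
      _ = n * (z * (n⁻¹ * b * n⁻¹⁻¹)) * n⁻¹ := by rw [h1]
      _ = n * z * n⁻¹ * b := by group
  haveI hSN : S.Normal := ⟨fun z hz n => hSn n n.2 z hz⟩
  let f : S →* K :=
    { toFun := fun s => ⟨⟨((s : N) : X), hZM s.2⟩, (hKN _).mpr (hZN s.2)⟩
      map_one' := rfl
      map_mul' := fun _ _ => rfl }
  have hfi : Function.Injective f := by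
    intro a b h
    exact Subtype.ext (Subtype.ext (congrArg (fun k : K => ((k : M) : X)) h))
  have hS : Subgroup.centralizer (Cfsg.pCore p S : Set S) ≤ Cfsg.pCore p S := by
    refine H61.charP_of_injective hK f hfi ?_
    have : (f.range).Normal := by
      refine ⟨fun x hx k => ?_⟩
      obtain ⟨s, rfl⟩ := hx
      have hk : ((k : M) : X) ∈ N := (hKN _).mp k.2
      exact ⟨⟨⟨_, hZN (hSn _ hk _ s.2)⟩, hSn _ hk _ s.2⟩, rfl⟩
    rw [Subgroup.normalizer_eq_top_iff.mpr this]
    exact le_top
  refine ⟨fun x hx => ?_, ?_⟩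
  · have hBN : B.subgroupOf N ≤ Cfsg.pCore p N :=
      H61.le_pCore Subgroup.normal_in_normalizer hB.comap_subtype
    have hxS : x ∈ S := fun b hb =>
      congrArg Subtype.val (hx ⟨b, Subgroup.le_normalizer hb⟩ (hBN hb))
    have : (⟨x, hxS⟩ : S) ∈ Cfsg.pCore p S := hS fun y hy =>
      Subtype.ext (hx (y : N) (H61.pCore_map_subtype_le S ⟨y, hy, rfl⟩))
    exact H61.pCore_map_subtype_le S ⟨_, this, rfl⟩
  · let e : Z ≃* S := (Subgroup.subgroupOfEquivOfLe hZN).symm
    refine H61.charP_of_injective hS e.toMonoidHom e.injective ?_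
    rw [Subgroup.normalizer_eq_top_iff.mpr]
    · exact le_top
    · rw [MonoidHom.range_eq_top.mpr e.surjective]; infer_instance

end Cfsg.Agent.S2922
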