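import Cfsg.Statements.S2925
import Cfsg.Agent.Components.Basic
import Cfsg.Agent.H77.Subnormal

set_option autoImplicit false
open Cfsg

namespace Cfsg.Agent.S2925

/-- Let K be a component of the finite group X and T a Sylow 2-subgroup of X. If some abelian normal subgroup Y of T does not normalize K, then K ⧸ Z(K) has abelian Sylow 2-subgroups. -/
theorem result {X : Type*} [Group X] [Finite X] (K : Subgroup X) (hK : Cfsg.IsComponent K) (T : Sylow 2 X) (Y : Subgroup X) (hYT : Y ≤ (T : Subgroup X)) (hYn : (Y.subgroupOf (T : Subgroup X)).Normal) (hYab : IsMulCommutative ↥Y) (hnot : ¬ Y ≤ Subgroup.normalizer (K : Set X)) (P : Sylow 2 (↥K ⧸ Subgroup.center ↥K)) : IsMulCommutative ↥(P : Subgroup (↥K ⧸ Subgroup.center ↥K)) := by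
  classical
  have hfact : Fact (Nat.Prime 2) := ⟨Nat.prime_two⟩
  obtain ⟨y, hy, hyn⟩ : ∃ y ∈ Y, y ∉ Subgroup.normalizer (K : Set X) := by
    by_contra h0; push Not at h0; exact hnot h0
  set K' := K.map (MulAut.conj y).toMonoidHom
  have hne : K' ≠ K := fun h0 => hyn (Subgroup.mem_normalizer_iff_map_conj_eq.mpr h0)
  have hcomm : ∀ a ∈ K', ∀ b ∈ K, a * b = b * a := fun a ha b hb =>
    Components.commute_of_commutator_eq_bot (Components.components_commute (Components.component_conj hK y) hK hne) ha hb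
  set S₀ := (T : Subgroup X).subgroupOf K
  have hidx : ¬ 2 ∣ S₀.index := fun hd =>
    T.not_dvd_index (hd.trans (H77.relIndex_dvd_index_of_subnormal hK.1 (T : Subgroup X)))
  let S : Sylow 2 K := (T.isPGroup'.comap_subtype (K := K)).toSylow hidx
  let f := QuotientGroup.mk' (Subgroup.center K)
  obtain ⟨c, hc⟩ := MulAction.exists_smul_eq (↥K ⧸ Subgroup.center ↥K)
    (S.mapSurjective (QuotientGroup.mk'_surjective (Subgroup.center K))) P
  have hYn := fun a (ha : a ∈ (T : Subgroup X)) w (hw : w ∈ Y) =>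
    hYn.conj_mem ⟨w, hYT hw⟩ hw ⟨a, ha⟩
  have key : ∀ a b : K, a ∈ S₀ → b ∈ S₀ → f a * f b = f b * f a := by
    intro a b ha hb
    have hya : ∀ t : K, t ∈ S₀ → y * t * y⁻¹ * (t : X)⁻¹ ∈ Y := fun t ht => by
      have h1 := hYn (t : X) ht _ (Y.inv_mem hy)
      simpa [mul_assoc] using Y.mul_mem hy h1
    have h1 : Commute (y * a * y⁻¹ * (a : X)⁻¹) (y * b * y⁻¹ * (b : X)⁻¹) :=
      congrArg Subtype.val (hYab.is_comm.comm (⟨_, hya a ha⟩ : Y) ⟨_, hya b hb⟩)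
    have haK : y * a * y⁻¹ ∈ K' := ⟨a, a.2, rfl⟩
    have hbK : y * b * y⁻¹ ∈ K' := ⟨b, b.2, rfl⟩
    obtain ⟨a', ha'⟩ : ∃ a', a' = y * a * y⁻¹ := ⟨_, rfl⟩
    obtain ⟨b', hb'⟩ : ∃ b', b' = y * b * y⁻¹ := ⟨_, rfl⟩
    rw [← ha'] at haK h1
    rw [← hb'] at hbK h1
    have h2 : (b' * a')⁻¹ * (a' * b') = (b : X)⁻¹ * (a : X)⁻¹ * b * a := by
      have e1 : a' * b' * ((a : X)⁻¹ * (b : X)⁻¹) = b' * a' * ((b : X)⁻¹ * (a : X)⁻¹) := by
        calc a' * b' * ((a : X)⁻¹ * (b : X)⁻¹) = a' * (b' * (a : X)⁻¹) * (b : X)⁻¹ := by group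
          _ = a' * ((a : X)⁻¹ * b') * (b : X)⁻¹ := by rw [hcomm b' hbK _ (K.inv_mem a.2)]
          _ = (a' * (a : X)⁻¹) * (b' * (b : X)⁻¹) := by group
          _ = (b' * (b : X)⁻¹) * (a' * (a : X)⁻¹) := h1.eq
          _ = b' * ((b : X)⁻¹ * a') * (a : X)⁻¹ := by group
          _ = b' * (a' * (b : X)⁻¹) * (a : X)⁻¹ := by rw [← hcomm a' haK _ (K.inv_mem b.2)]
          _ = b' * a' * ((b : X)⁻¹ * (a : X)⁻¹) := by group
      calc (b' * a')⁻¹ * (a' * b') = (b' * a')⁻¹ * (a' * b' * ((a : X)⁻¹ * (b : X)⁻¹)) * (b * a) := by group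
        _ = (b : X)⁻¹ * (a : X)⁻¹ * b * a := by rw [e1]; group
    have hz : b⁻¹ * a⁻¹ * b * a ∈ Subgroup.center K := by
      rw [Subgroup.mem_center_iff]
      intro t
      apply Subtype.ext
      push_cast
      rw [← h2]
      exact (hcomm _ (K'.mul_mem (K'.inv_mem (K'.mul_mem hbK haK)) (K'.mul_mem haK hbK)) t t.2).symm
    have h3 := (QuotientGroup.eq_one_iff _).mpr hz
    change f (b⁻¹ * a⁻¹ * b * a) = 1 at h3
    simp only [map_mul, map_inv] at h3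
    calc f a * f b = f a * f b * ((f b)⁻¹ * (f a)⁻¹ * f b * f a) := by rw [h3, mul_one]
      _ = f b * f a := by group
  refine ⟨⟨fun u v => Subtype.ext ?_⟩⟩
  obtain ⟨u, hu⟩ := u
  obtain ⟨v, hv⟩ := v
  rw [← hc, Sylow.coe_subgroup_smul] at hu hv
  obtain ⟨_, ⟨a, ha, rfl⟩, rfl⟩ := hu
  obtain ⟨_, ⟨b, hb, rfl⟩, rfl⟩ := hv
  change (MulAut.conj c) (f a) * (MulAut.conj c) (f b) = (MulAut.conj c) (f b) * (MulAut.conj c) (f a)
  rw [← map_mul (MulAut.conj c), ← map_mul (MulAut.conj c), key a b ha hb]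

end Cfsg.Agent.S2925
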