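import Cfsg.Statements.S2928
import Cfsg.Agent.Components.Basic
import Cfsg.Agent.H77.DoubleTransCore

set_option autoImplicit false
open Cfsg

namespace Cfsg.Agent.S2928

open Equiv Equiv.Perm Cfsg.Agent.H77.DoubleTrans
open scoped commutatorElement Pointwise
set_option linter.style.haveILetI false

/-- The image of a self-centralising quasisimple normal subgroup under an injective map. -/
theorem hyp_of_injective {G : Type*} [Group G] [Finite G] {β : Type*} (φ : G →* Perm β)
    (hφ : Function.Injective φ) (F : Subgroup G) [hn : F.Normal] (hF : Cfsg.IsQuasisimple ↥F)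
    (hC : Subgroup.centralizer (F : Set G) ≤ F) : Hyp φ.range (F.map φ) where
  le := Subgroup.map_le_range φ F
  norm := by
    rintro _ ⟨g, rfl⟩ _ ⟨f, hf, rfl⟩
    exact ⟨g * f * g⁻¹, hn.conj_mem f hf g, by simp⟩
  perf := by
    rw [← Subgroup.map_commutator]
    congr 1
    haveI := hF.1
    have h := (Group.IsPerfect.commutator_eq_top (G := ↥F))
    rw [← Subgroup.map_subtype_commutator, h, ← MonoidHom.range_eq_map, Subgroup.range_subtype]
  ne := by
    intro h
    haveI := hF.2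
    rw [Subgroup.map_eq_bot_iff_of_injective _ hφ] at h
    subst h
    haveI : Subsingleton ((⊥ : Subgroup G) ⧸ Subgroup.center (⊥ : Subgroup G)) :=
      Function.Surjective.subsingleton (QuotientGroup.mk'_surjective _)
    exact not_subsingleton _ ‹_›
  self := by
    rintro _ ⟨g, rfl⟩ h
    refine Subgroup.mem_map_of_mem φ (hC (Subgroup.mem_centralizer_iff.2 fun f hf => hφ ?_))
    rw [map_mul, map_mul]
    exact (h _ (Subgroup.mem_map_of_mem φ hf)).eq.symm
  qs := by
    intro M hM hMn hMne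
    have hmem : ∀ m ∈ M, ∃ f : ↥F, φ f = m := fun m hm => by
      obtain ⟨f, hf, rfl⟩ := hM hm
      exact ⟨⟨f, hf⟩, rfl⟩
    have hMn' : (M.comap (φ.comp F.subtype)).Normal := ⟨fun f hf g => by
      have := hMn _ (Subgroup.mem_map_of_mem φ g.2) _ (Subgroup.mem_comap.1 hf)
      simpa [Subgroup.mem_comap] using this⟩
    rcases Cfsg.Agent.Components.qs_subnormal hF hMn'.isSubnormal with h | h
    · refine absurd (le_antisymm hM ?_) hMne
      rintro _ ⟨f, hf, rfl⟩
      have : (⟨f, hf⟩ : ↥F) ∈ M.comap (φ.comp F.subtype) := by rw [h]; trivial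
      exact this
    · intro m hm e he
      obtain ⟨f, rfl⟩ := hmem m hm
      obtain ⟨g, hg, rfl⟩ := he
      have := Subgroup.mem_center_iff.1 (h (Subgroup.mem_comap.2 hm)) ⟨g, hg⟩
      exact Commute.map (congrArg Subtype.val this).symm φ

/-- Any commuting family of even involutions preserving an invariant set is conjugate into `H`. -/
theorem place {n k : ℕ} (H : Subgroup (Perm (Fin n))) (P : Sylow 2 ↥(alternatingGroup (Fin n)))
    (hP : (P : Subgroup ↥(alternatingGroup (Fin n))).map (alternatingGroup (Fin n)).subtype ≤ H)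
    (Γ : Fin n → Prop) (hΓ : ∀ h ∈ H, ∀ z, Γ (h z) ↔ Γ z) (p : Fin k → Fin n)
    (hp : Function.Injective p) (hpΓ : ∀ i, Γ (p i)) (S : Set (Perm (Fin k)))
    (hS : ∀ σ ∈ S, σ * σ = 1 ∧ Equiv.Perm.sign σ = 1) (hcom : ∀ σ ∈ S, ∀ τ ∈ S, Commute σ τ) :
    ∃ (q : Fin k → Fin n) (hq : Function.Injective q), (∀ i, Γ (q i)) ∧
      ∀ σ ∈ S, lab q hq σ ∈ H := by
  let Stab : Subgroup ↥(alternatingGroup (Fin n)) :=
    { carrier := {a | ∀ z, Γ ((a : Perm (Fin n)) z) ↔ Γ z}
      one_mem' := fun z => Iff.rfl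
      mul_mem' := fun {a b} ha hb z => (ha _).trans (hb z)
      inv_mem' := fun {a} ha z => by
        have := ha (((a⁻¹ : ↥(alternatingGroup (Fin n))) : Perm (Fin n)) z)
        rw [← Perm.mul_apply, ← Subgroup.coe_mul, mul_inv_cancel, Subgroup.coe_one,
          Perm.one_apply] at this
        exact this.symm }
  have hPS : (P : Subgroup ↥(alternatingGroup (Fin n))) ≤ Stab := fun a ha z =>
    hΓ _ (hP ⟨a, ha, rfl⟩) z
  have hsign : ∀ σ : Perm (Fin k), Equiv.Perm.sign (lab p hp σ) = Equiv.Perm.sign σ := by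
    intro σ
    rw [Equiv.Perm.viaEmbeddingHom_apply, Equiv.Perm.viaEmbedding]
    convert Equiv.Perm.sign_extendDomain σ _
  let T : Set ↥Stab := {a | ∃ σ ∈ S, ((a : ↥(alternatingGroup (Fin n))) : Perm (Fin n)) = lab p hp σ}
  have hT : ∀ a ∈ T, ∀ b ∈ T, a * b = b * a := by
    rintro a ⟨σ, hσ, ha⟩ b ⟨τ, hτ, hb⟩
    apply Subtype.ext
    apply Subtype.ext
    show ((a : ↥(alternatingGroup (Fin n))) : Perm (Fin n)) * _ = _ * _
    rw [ha, hb]
    exact ((hcom σ hσ τ hτ).map _).eq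
  have hab : ∀ a ∈ Subgroup.closure T, ∀ b ∈ Subgroup.closure T, a * b = b * a := by
    have h1 : Subgroup.closure T ≤ Subgroup.centralizer T :=
      (Subgroup.closure_le _).2 fun a ha => Subgroup.mem_centralizer_iff.2 fun b hb => hT b hb a ha
    have h2 : Subgroup.closure T ≤ Subgroup.centralizer (Subgroup.closure T : Set ↥Stab) :=
      (Subgroup.closure_le _).2 fun a ha => Subgroup.mem_centralizer_iff.2 fun b hb =>
        (Subgroup.mem_centralizer_iff.1 (h1 hb) a ha).symm
    exact fun a ha b hb => (Subgroup.mem_centralizer_iff.1 (h2 hb) a ha)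
  have hsq : ∀ a ∈ Subgroup.closure T, a * a = 1 := by
    intro a ha
    induction ha using Subgroup.closure_induction with
    | mem a ha =>
      obtain ⟨σ, hσ, ha⟩ := ha
      apply Subtype.ext
      apply Subtype.ext
      show ((a : ↥(alternatingGroup (Fin n))) : Perm (Fin n)) * _ = 1
      rw [ha, ← map_mul, (hS σ hσ).1, map_one]
    | one => exact mul_one 1
    | mul a b ha hb iha ihb =>
      calc a * b * (a * b) = a * (b * a) * b := by group
        _ = (a * a) * (b * b) := by rw [hab b hb a ha]; group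
        _ = 1 := by rw [iha, ihb, mul_one]
    | inv a _ iha => rw [← mul_inv_rev, iha, inv_one]
  have hpg : IsPGroup 2 ↥(Subgroup.closure T) := fun a => ⟨1, by
    apply Subtype.ext
    rw [pow_one, pow_two]
    exact hsq a a.2⟩
  obtain ⟨Q, hQ⟩ := hpg.exists_le_sylow
  haveI : Fact (Nat.Prime 2) := ⟨Nat.prime_two⟩
  obtain ⟨s, hs⟩ := MulAction.exists_smul_eq ↥Stab Q (P.subtype hPS)
  set g : Perm (Fin n) := ((s : ↥(alternatingGroup (Fin n))) : Perm (Fin n)) with hgdef
  refine ⟨fun i => g (p i), g.injective.comp hp, fun i => (s.2 (p i)).2 (hpΓ i), fun σ hσ => ?_⟩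
  have hmemA : lab p hp σ ∈ alternatingGroup (Fin n) := by
    rw [Equiv.Perm.mem_alternatingGroup, hsign, (hS σ hσ).2]
  have hmemS : (⟨_, hmemA⟩ : ↥(alternatingGroup (Fin n))) ∈ Stab := by
    intro z
    by_cases hz : ∃ i, p i = z
    · obtain ⟨i, rfl⟩ := hz
      show Γ (lab p hp σ (p i)) ↔ _
      rw [lab_apply]
      exact iff_of_true (hpΓ _) (hpΓ _)
    · push Not at hz
      show Γ (lab p hp σ z) ↔ _
      rw [lab_apply_off p hp σ z hz]
  have ha : (⟨⟨_, hmemA⟩, hmemS⟩ : ↥Stab) ∈ (Q : Subgroup ↥Stab) :=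
    hQ (Subgroup.subset_closure ⟨σ, hσ, rfl⟩)
  have hc : MulAut.conj s • (⟨⟨_, hmemA⟩, hmemS⟩ : ↥Stab) ∈ (P.subtype hPS : Subgroup ↥Stab) := by
    rw [← hs]
    exact Subgroup.smul_mem_pointwise_smul _ _ _ ha
  rw [Sylow.coe_subtype, Subgroup.mem_subgroupOf] at hc
  have hH : g * lab p hp σ * g⁻¹ ∈ H := hP ⟨_, hc, rfl⟩
  have he : lab (fun i => g (p i)) (g.injective.comp hp) σ = g * lab p hp σ * g⁻¹ := by
    rw [eq_mul_inv_iff_mul_eq]
    ext z : 1
    rw [Perm.mul_apply, Perm.mul_apply]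
    by_cases hz : ∃ i, p i = z
    · obtain ⟨i, rfl⟩ := hz
      rw [lab_apply p hp]
      exact lab_apply (fun i => g (p i)) _ σ i
    · push Not at hz
      rw [lab_apply_off p hp σ z hz]
      exact lab_apply_off _ _ σ _ fun i h => hz i (g.injective h)
  rw [he]
  exact hH

/-- The setting of the statement: the orbit and the isomorphism. -/
theorem main {n : ℕ} (hn : 8 ≤ n) (H : Subgroup (Perm (Fin n))) (F : Subgroup ↥H) [F.Normal]
    (hF : Cfsg.IsQuasisimple ↥F) (hC : Subgroup.centralizer (F : Set ↥H) ≤ F)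
    (P : Sylow 2 ↥(alternatingGroup (Fin n)))
    (hP : (P : Subgroup ↥(alternatingGroup (Fin n))).map (alternatingGroup (Fin n)).subtype ≤ H) :
    ∃ m : ℕ, (m = n - 3 ∨ m = n - 2 ∨ m = n - 1 ∨ m = n) ∧
      Nonempty (↥F ≃* ↥(alternatingGroup (Fin m))) := by
  classical
  set E : Subgroup (Perm (Fin n)) := F.map H.subtype with hEdef
  have hyp : Hyp H E := by
    have := hyp_of_injective H.subtype H.subtype_injective F hF hC
    rwa [Subgroup.range_subtype] at this
  -- eight points in one orbit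
  let t : Fin 3 → Perm (Fin 8) :=
    ![swap 0 1 * swap 2 3 * (swap 4 5 * swap 6 7), swap 0 2 * swap 1 3 * (swap 4 6 * swap 5 7),
      swap 0 4 * swap 1 5 * (swap 2 6 * swap 3 7)]
  obtain ⟨q, hq, -, hqH⟩ := place H P hP (fun _ => True) (fun _ _ _ => Iff.rfl) (Fin.castLE hn)
    (Fin.castLE_injective hn) (fun _ => trivial) (Set.range t)
    (by rintro _ ⟨i, rfl⟩; revert i; decide +kernel)
    (by rintro _ ⟨i, rfl⟩ _ ⟨j, rfl⟩; unfold Commute SemiconjBy; revert i j; decide +kernel)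
  have hword : ∀ i : Fin 8, ∃ a b c : Fin 2,
      (t 0 ^ (a : ℕ) * t 1 ^ (b : ℕ) * t 2 ^ (c : ℕ)) 0 = i := by decide +kernel
  let D : Set (Fin n) := MulAction.orbit H (q 0)
  have hqD : ∀ i, q i ∈ D := by
    intro i
    obtain ⟨a, b, c, hi⟩ := hword i
    refine ⟨⟨lab q hq (t 0 ^ (a : ℕ) * t 1 ^ (b : ℕ) * t 2 ^ (c : ℕ)), ?_⟩, ?_⟩
    · simp only [map_mul, map_pow]
      exact mul_mem (mul_mem (pow_mem (hqH _ ⟨0, rfl⟩) _) (pow_mem (hqH _ ⟨1, rfl⟩) _))
        (pow_mem (hqH _ ⟨2, rfl⟩) _)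
    · show lab q hq _ (q 0) = q i
      rw [lab_apply, hi]
  have hDinv : ∀ h ∈ H, ∀ z, h z ∈ D ↔ z ∈ D := by
    intro h hh z
    refine ⟨fun hz => ?_, fun hz => ?_⟩
    · obtain ⟨g, hg⟩ := hz
      refine ⟨⟨h, hh⟩⁻¹ * g, ?_⟩
      show (((⟨h, hh⟩ : H)⁻¹ * g) • q 0) = z
      rw [mul_smul, show g • q 0 = h z from hg]
      exact inv_smul_smul (⟨h, hh⟩ : H) z
    · obtain ⟨g, hg⟩ := hz
      refine ⟨⟨h, hh⟩ * g, ?_⟩
      show (((⟨h, hh⟩ : H) * g) • q 0) = h z
      rw [mul_smul, show g • q 0 = z from hg]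
      rfl
  have htr : ∀ a ∈ D, ∀ b ∈ D, ∃ h ∈ H, h a = b := by
    rintro a ⟨g, rfl⟩ b ⟨g', rfl⟩
    refine ⟨g' * (g : Perm (Fin n))⁻¹, mul_mem g'.2 (inv_mem g.2), ?_⟩
    show ((g' : Perm (Fin n)) * (g : Perm (Fin n))⁻¹) ((g : Perm (Fin n)) (q 0)) = _
    rw [Perm.mul_apply, ← Perm.mul_apply _ (g : Perm (Fin n)), inv_mul_cancel, Perm.one_apply]
    rfl
  -- three double transpositions inside the orbit
  let u : Fin 3 → Perm (Fin 8) :=
    ![swap 0 1 * swap 2 3, swap 0 1 * swap 4 5, swap 0 1 * swap 6 7]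
  obtain ⟨r, hr, hrD, hrH⟩ := place H P hP (· ∈ D) hDinv q hq hqD (Set.range u)
    (by rintro _ ⟨i, rfl⟩; revert i; decide +kernel)
    (by rintro _ ⟨i, rfl⟩ _ ⟨j, rfl⟩; unfold Commute SemiconjBy; revert i j; decide +kernel)
  have hu : ∀ i, u i ∈ Set.range u := fun i => ⟨i, rfl⟩
  have hx : swap (r 0) (r 1) * swap (r 2) (r 3) ∈ H := by
    have := hrH _ (hu 0); simpa [u, lab_swap] using this
  have hy : swap (r 0) (r 1) * swap (r 4) (r 5) ∈ H := by
    have := hrH _ (hu 1); simpa [u, lab_swap] using this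
  have hw : swap (r 0) (r 1) * swap (r 6) (r 7) ∈ H := by
    have := hrH _ (hu 2); simpa [u, lab_swap] using this
  have hnd : [r 0, r 1, r 2, r 3].Nodup :=
    (show ([0, 1, 2, 3] : List (Fin 8)).Nodup by decide).map hr
  let ND : Subgroup (Perm (Fin n)) :=
    { carrier := {g | ∀ z, z ∉ D → g z = z}
      one_mem' := fun z _ => rfl
      mul_mem' := fun {g k} hg hk z hz => by rw [Perm.mul_apply, hk z hz, hg z hz]
      inv_mem' := fun {g} hg z hz => by rw [Perm.inv_eq_iff_eq, hg z hz] }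
  have hxND : swap (r 0) (r 1) * swap (r 2) (r 3) ∈ ND := fun z hz => by
    refine (dt_apply hnd).2.2.2.2 z fun hmem => hz ?_
    simp only [Finset.mem_insert, Finset.mem_singleton] at hmem
    rcases hmem with rfl | rfl | rfl | rfl <;> exact hrD _
  have hED : E ≤ ND := hyp.le_of_dt htr hnd (hrD 0) (hrD 1) hx hxND fun e he g hg z hz => by
    have hz' : (e⁻¹ : Perm (Fin n)) z ∉ D := fun h => hz ((hDinv _ (inv_mem (hyp.le he)) z).1 h)
    rw [Perm.mul_apply, Perm.mul_apply, hg _ hz', ← Perm.mul_apply, mul_inv_cancel, Perm.one_apply]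
  -- elements fixing the orbit commute with E
  have hoff : ∀ h ∈ H, (∀ z ∈ D, h z = z) → h = 1 := by
    intro h hh hfix
    have hc : ∀ e ∈ E, Commute h e := fun e he => Equiv.Perm.Disjoint.commute fun z => by
      by_cases hz : z ∈ D
      · exact Or.inl (hfix z hz)
      · exact Or.inr (hED he z hz)
    have hhE := hyp.self h hh hc
    ext z : 1
    by_cases hz : z ∈ D
    · exact hfix z hz
    · exact hED hhE z hz
  -- the complement is small
  have hcompl : (Dᶜ : Set (Fin n)).ncard ≤ 3 := by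
    by_contra h
    push Not at h
    obtain ⟨Γ, hΓs, hΓc⟩ := Set.exists_subset_card_eq (by omega : 4 ≤ Dᶜ.ncard)
    haveI : Fintype Γ := Fintype.ofFinite _
    let e4 : Fin 4 ≃ Γ := (Fintype.equivFinOfCardEq (by
      rw [← Nat.card_eq_fintype_card, Nat.card_coe_set_eq, hΓc])).symm
    obtain ⟨v, hv, hvD, hvH⟩ := place H P hP (· ∉ D) (fun h hh z => not_congr (hDinv h hh z))
      (fun i => (e4 i : Fin n)) (Subtype.val_injective.comp e4.injective)
      (fun i => hΓs (e4 i).2) {swap 0 1 * swap 2 3}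
      (by rintro _ rfl; decide +kernel) (by rintro _ rfl _ rfl; exact Commute.refl _)
    have hy' : swap (v 0) (v 1) * swap (v 2) (v 3) ∈ H := by
      have := hvH _ rfl; simpa [lab_swap] using this
    have hnd' : [v 0, v 1, v 2, v 3].Nodup :=
      (show ([0, 1, 2, 3] : List (Fin 4)).Nodup by decide).map hv
    have h1 : swap (v 0) (v 1) * swap (v 2) (v 3) = 1 := hoff _ hy' fun z hz => by
      refine (dt_apply hnd').2.2.2.2 z fun hmem => ?_
      simp only [Finset.mem_insert, Finset.mem_singleton] at hmem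
      rcases hmem with rfl | rfl | rfl | rfl <;> exact hvD _ hz
    have h2 := (dt_apply hnd').1
    rw [h1, Perm.one_apply] at h2
    exact absurd (hv h2) (by decide)
  -- restriction to the orbit
  let φ : ↥H →* Perm {z // z ∈ D} :=
    { toFun := fun h => Equiv.Perm.subtypePerm (h : Perm (Fin n)) (fun z => hDinv h h.2 z)
      map_one' := by ext z; rfl
      map_mul' := fun h k => by ext z; rfl }
  have hφ : Function.Injective φ := by
    rw [injective_iff_map_eq_one]
    intro h hh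
    apply Subtype.ext
    exact hoff h h.2 fun z hz => congrArg Subtype.val (Equiv.congr_fun hh ⟨z, hz⟩)
  have hyp' := hyp_of_injective φ hφ F hF hC
  haveI : MulAction.IsPretransitive φ.range {z // z ∈ D} := ⟨fun a b => by
    obtain ⟨h, hh, hab⟩ := htr a a.2 b b.2
    exact ⟨⟨φ ⟨h, hh⟩, ⟨h, hh⟩, rfl⟩, Subtype.ext hab⟩⟩
  let r' : Fin 8 → {z // z ∈ D} := fun i => ⟨r i, hrD i⟩
  have hr' : Function.Injective r' := fun i j h => hr (congrArg Subtype.val h)
  have hsw : ∀ a b c d : Fin 8, (hm : swap (r a) (r b) * swap (r c) (r d) ∈ H) →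
      swap (r' a) (r' b) * swap (r' c) (r' d) ∈ φ.range := by
    intro a b c d hm
    refine ⟨⟨_, hm⟩, ?_⟩
    refine Equiv.ext fun z => Subtype.ext ?_
    show (swap (r a) (r b) * swap (r c) (r d)) (z : Fin n) = _
    simp only [Perm.mul_apply, r']
    rw [swap_apply_def, swap_apply_def, swap_apply_def, swap_apply_def]
    simp only [Subtype.ext_iff, apply_ite Subtype.val]
  have hE' := eq_alternating_of_three hyp' r' hr' (hsw 0 1 2 3 hx) (hsw 0 1 4 5 hy) (hsw 0 1 6 7 hw)
  refine ⟨Fintype.card {z // z ∈ D}, ?_, ?_⟩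
  · have h1 := Set.ncard_add_ncard_compl D
    rw [Nat.card_eq_fintype_card, Fintype.card_fin] at h1
    rw [← Nat.card_eq_fintype_card,
      show Nat.card {z // z ∈ D} = D.ncard from Nat.card_coe_set_eq D]
    omega
  · exact ⟨((F.equivMapOfInjective φ hφ).trans (MulEquiv.subgroupCongr hE')).trans
      (Equiv.altCongrHom (Fintype.equivFin _))⟩

/-- Let n ≥ 8 and let H be a subgroup of the symmetric group of degree n whose generalized Fitting subgroup F*(H) is quasisimple. If H contains a Sylow 2-subgroup of the alternating group of degree n, then F*(H) is isomorphic to an alternating group of degree m for some m ∈ {n − 3, n − 2, n − 1, n}. -/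
theorem result (n : ℕ) (hn : 8 ≤ n) (H : Subgroup (Equiv.Perm (Fin n))) (hF : Cfsg.IsQuasisimple ↥(Cfsg.generalizedFittingSubgroup ↥H)) (hS : ∃ P : Sylow 2 ↥(alternatingGroup (Fin n)), ((P : Subgroup ↥(alternatingGroup (Fin n))).map (alternatingGroup (Fin n)).subtype) ≤ H) : ∃ m : ℕ, (m = n - 3 ∨ m = n - 2 ∨ m = n - 1 ∨ m = n) ∧ Nonempty (↥(Cfsg.generalizedFittingSubgroup ↥H) ≃* ↥(alternatingGroup (Fin m))) := by
  obtain ⟨P, hP⟩ := hS
  exact main hn H (Cfsg.generalizedFittingSubgroup ↥H) hF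
    Cfsg.Agent.Components.centralizer_genFitting_le P hP

end Cfsg.Agent.S2928
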