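import Cfsg.Statements.S2929
import Cfsg.Agent.H61.ThreeCycle
import Cfsg.Agent.Components.Basic

set_option autoImplicit false
open Cfsg

namespace Cfsg.Agent.S2929

/-- Let n ≥ 5 and let H be a subgroup of the symmetric group of degree n whose generalized Fitting subgroup F*(H) is quasisimple. If H contains a Sylow 3-subgroup of the symmetric group, then F*(H) is isomorphic to an alternating group of degree m for some m ∈ {n − 2, n − 1, n}. -/
theorem result (n : ℕ) (hn : 5 ≤ n) (H : Subgroup (Equiv.Perm (Fin n))) (hF : Cfsg.IsQuasisimple ↥(Cfsg.generalizedFittingSubgroup ↥H)) (hS : ∃ P : Sylow 3 (Equiv.Perm (Fin n)), (P : Subgroup (Equiv.Perm (Fin n))) ≤ H) : ∃ m : ℕ, (m = n - 2 ∨ m = n - 1 ∨ m = n) ∧ Nonempty (↥(Cfsg.generalizedFittingSubgroup ↥H) ≃* ↥(alternatingGroup (Fin m))) := by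
  classical

  obtain ⟨P, hP⟩ := hS
  set k := n / 3 with hk
  -- disjoint three-cycles in `H`
  let pos : Fin k → Fin 3 → Fin n := fun i j => ⟨3 * i.val + j.val, by
    have := Nat.div_mul_le_self n 3; omega⟩
  have hposne : ∀ i i' j j', (i ≠ i' ∨ j ≠ j') → pos i j ≠ pos i' j' := by
    intro i i' j j' h e
    have := congrArg Fin.val e
    simp only [pos] at this
    rcases h with h | h <;> exact h (Fin.ext (by omega))
  let st : Fin k → Equiv.Perm (Fin n) := fun i => H61.cyc (pos i 0) (pos i 1) (pos i 2)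
  have hd0 : ∀ i j j', j ≠ j' → pos i j ≠ pos i j' := fun i j j' h => hposne i i j j' (Or.inr h)
  set B := Subgroup.closure (Set.range st) with hBdef
  have hcomm : ∀ a ∈ Set.range st, ∀ b ∈ Set.range st, a * b = b * a := by
    rintro _ ⟨i, rfl⟩ _ ⟨i', rfl⟩
    rcases eq_or_ne i i' with rfl | hii
    · rfl
    refine (H61.cyc_commute_of_disjoint ?_).eq
    intro x h1 h2
    rcases h1 with rfl | rfl | rfl <;> rcases h2 with h2 | h2 | h2 <;>
      exact hposne _ _ _ _ (Or.inl hii) h2
  have hB3 : IsPGroup 3 B := by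
    have : ∀ g ∈ B, g ^ 3 = 1 := by
      intro g hg
      have hgc : ∀ a ∈ B, ∀ b ∈ B, a * b = b * a := fun a ha b hb =>
        congrArg Subtype.val ((Subgroup.isMulCommutative_closure hcomm).is_comm.comm
          (⟨a, ha⟩ : B) ⟨b, hb⟩)
      induction hg using Subgroup.closure_induction with
      | mem g hg =>
        obtain ⟨i, rfl⟩ := hg
        exact H61.cyc_pow_three (hd0 i _ _ (by decide)) (hd0 i _ _ (by decide)) (hd0 i _ _ (by decide))
      | one => simp
      | mul a b ha hb h1 h2 => rw [(show Commute a b from hgc a ha b hb).mul_pow, h1, h2, one_mul]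
      | inv a _ h1 => rw [inv_pow, h1, inv_one]
    exact fun g => ⟨1, Subtype.ext (by simpa using this g g.2)⟩
  obtain ⟨Q, hQ⟩ := hB3.exists_le_sylow
  obtain ⟨g, rfl⟩ := MulAction.exists_smul_eq (Equiv.Perm (Fin n)) Q P
  let q : Fin k → Fin 3 → Fin n := fun i j => g (pos i j)
  have hqne : ∀ i j j', j ≠ j' → q i j ≠ q i j' := fun i j j' h => g.injective.ne (hd0 i j j' h)
  have hq : ∀ i, H61.cyc (q i 0) (q i 1) (q i 2) ∈ H := by
    intro i
    rw [← H61.conj_cyc]
    apply hP
    rw [Sylow.coe_subgroup_smul]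
    exact ⟨_, hQ (Subgroup.subset_closure ⟨i, rfl⟩), by simp [st, MulAut.smul_def]⟩
  have huncov : ∀ x, (∀ i j, q i j ≠ x) → 3 * k ≤ (g⁻¹ x).val := by
    intro x hx
    by_contra hlt
    push Not at hlt
    refine hx ⟨(g⁻¹ x).val / 3, by omega⟩ ⟨(g⁻¹ x).val % 3, Nat.mod_lt _ (by norm_num)⟩ ?_
    show g (pos _ _) = x
    have : pos ⟨(g⁻¹ x).val / 3, by omega⟩ ⟨(g⁻¹ x).val % 3, Nat.mod_lt _ (by norm_num)⟩ = g⁻¹ x :=
      Fin.ext (Nat.div_add_mod _ 3)
    rw [this]; simp
  -- the generalized Fitting subgroup inside the symmetric group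
  set F := (Cfsg.generalizedFittingSubgroup H).map H.subtype with hFdef
  let eF : ↥(Cfsg.generalizedFittingSubgroup H) ≃* F :=
    Subgroup.equivMapOfInjective _ _ H.subtype_injective
  have hFq : Cfsg.IsQuasisimple F := Cfsg.Agent.Components.qs_congr eF hF
  have hFH : F ≤ H := Subgroup.map_subtype_le _
  have hHN : H ≤ Subgroup.normalizer (F : Set (Equiv.Perm (Fin n))) := by
    have hn : (Cfsg.generalizedFittingSubgroup H).Normal := by infer_instance
    intro a ha
    refine H61.mem_normalizer_of_conj_mem ?_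
    rintro _ ⟨b, hb, rfl⟩
    exact ⟨(⟨a, ha⟩ : H) * b * (⟨a, ha⟩ : H)⁻¹, hn.conj_mem b hb _, rfl⟩
  have hkey : ∀ A : Subgroup (Equiv.Perm (Fin n)), A ≤ H →
      F ≤ Subgroup.normalizer (A : Set (Equiv.Perm (Fin n))) →
      F ≤ A ∨ (A ≤ F ∧ ⁅A, F⁆ = ⊥) := by
    intro A hAH hFA
    refine or_iff_not_imp_left.mpr fun hFle => ?_
    have hcom : ⁅A, F⁆ = ⊥ := by
      refine Cfsg.Agent.Components.commutator_eq_bot_of_perfect' (Cfsg.Agent.Components.qsSub_perfect hFq) ?_
      have h1 : ⁅A, F⁆ ≤ A ⊓ F := le_inf (Subgroup.le_normalizer_iff_commutator_le_left.mp hFA)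
        (Subgroup.le_normalizer_iff_commutator_le_right.mp (hAH.trans hHN))
      rw [← le_bot_iff]
      refine le_trans (Subgroup.commutator_mono h1 le_rfl) ?_
      rw [Subgroup.commutator_le]
      intro a ha b hb
      haveI : ((A ⊓ F).subgroupOf F).Normal :=
        (Subgroup.normal_subgroupOf_iff_le_normalizer inf_le_right).mpr
          ((le_inf hFA Subgroup.le_normalizer).trans Subgroup.inf_normalizer_le_normalizer_inf)
      have hc := Cfsg.Agent.Components.qs_normal_le_center hFq ((A ⊓ F).subgroupOf F) (fun h => hFle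
        ((Subgroup.subgroupOf_eq_top.mp h).trans inf_le_left)) (show (⟨a, ha.2⟩ : F) ∈ _ from ha)
      rw [Subgroup.mem_bot, commutatorElement_eq_one_iff_mul_comm]
      exact congrArg Subtype.val (Subgroup.mem_center_iff.mp hc ⟨b, hb⟩).symm
    refine ⟨fun a ha => ?_, hcom⟩
    have : (⟨a, hAH ha⟩ : H) ∈ Subgroup.centralizer (Cfsg.generalizedFittingSubgroup H : Set H) := by
      intro b hb
      exact Subtype.ext (Cfsg.Agent.Components.commute_of_commutator_eq_bot hcom ha
        (⟨b, hb, rfl⟩ : (b : Equiv.Perm (Fin n)) ∈ F)).symm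
    exact ⟨_, Cfsg.Agent.Components.centralizer_genFitting_le this, rfl⟩
  have hnc : ¬ ∀ a ∈ F, ∀ b ∈ F, a * b = b * a := fun h =>
    Cfsg.Agent.Components.qsSub_not_le_of_isSolvable hFq
      (Group.isSolvable_of_comm fun a b => Subtype.ext (h a a.2 b b.2)) le_rfl
  set M := H61.threeCycleSub H
  have hMN : F ≤ Subgroup.normalizer (M : Set (Equiv.Perm (Fin n))) :=
    hFH.trans H61.le_normalizer_threeCycleSub
  -- some set of size at least four
  have hbig : ∃ U, H61.IsBlk H U ∧ 4 ≤ U.card := by
    by_contra hsmall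
    push Not at hsmall
    have hMc : ∀ a ∈ M, ∀ b ∈ M, a * b = b * a := fun a ha b hb => by
      refine congrArg Subtype.val ((Subgroup.isMulCommutative_closure ?_).is_comm.comm
        (⟨a, ha⟩ : M) ⟨b, hb⟩)
      rintro _ ⟨a, b, c, hab, hbc, hac, rfl, hg⟩ _ ⟨d, e, f, hde, hef, hdf, rfl, hg'⟩
      obtain ⟨U, hU, haU, hbU, hcU⟩ := H61.exists_isBlk hab hbc hac hg
      rcases hU.dichotomy hde hef hdf hg' with ⟨hd, he, hf⟩ | ⟨hd, he, hf⟩
      · have hU3 : U = {a, b, c} := by
          refine (Finset.eq_of_subset_of_card_le (by simp [Finset.insert_subset_iff, haU, hbU, hcU]) ?_).symm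
          rw [Finset.card_insert_of_notMem (by simp [hab, hac]), Finset.card_pair hbc]
          have := hsmall U hU; omega
        simp only [hU3, Finset.mem_insert, Finset.mem_singleton] at hd he hf
        rcases hd with hd | hd | hd <;> rcases he with he | he | he <;>
          rcases hf with hf | hf | hf <;> simp only [hd, he, hf, ne_eq, not_true] at hde hef hdf ⊢ <;>
          first
          | (rw [H61.cyc_rotate hab hbc hac]; done)
          | (rw [H61.cyc_rotate (a := c) (b := a) (c := b) hac.symm hab hbc.symm]; done)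
          | (rw [← H61.cyc_inv a b c]; group; done)
          | (rw [H61.cyc_rotate (a := c) (b := b) (c := a) hbc.symm hab.symm hac.symm, ← H61.cyc_inv a b c]; group; done)
          | (rw [H61.cyc_rotate (a := b) (b := a) (c := c) hab.symm hac hbc,
              H61.cyc_rotate (a := c) (b := b) (c := a) hbc.symm hab.symm hac.symm, ← H61.cyc_inv a b c]; group; done)
      · refine (H61.cyc_commute_of_disjoint ?_).eq
        intro x h1 h2
        rcases h1 with rfl | rfl | rfl <;> rcases h2 with rfl | rfl | rfl <;>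
          first | exact hd (by assumption) | exact he (by assumption) | exact hf (by assumption)
    rcases hkey M H61.threeCycleSub_le hMN with h | ⟨-, h⟩
    · exact hnc fun a ha b hb => hMc a (h ha) b (h hb)
    refine hnc fun u hu v hv => ?_
    have hcu : ∀ w ∈ F, ∀ i x, w (H61.cyc (q i 0) (q i 1) (q i 2) x) =
        H61.cyc (q i 0) (q i 1) (q i 2) (w x) := by
      intro w hw i x
      have hm : H61.cyc (q i 0) (q i 1) (q i 2) ∈ M := Subgroup.subset_closure
        ⟨_, _, _, hqne i _ _ (by decide), hqne i _ _ (by decide), hqne i _ _ (by decide), rfl, hq i⟩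
      exact congrArg (fun f : Equiv.Perm (Fin n) => f x)
        (Cfsg.Agent.Components.commute_of_commutator_eq_bot h hm hw).symm
    ext x
    simp only [Equiv.Perm.mul_apply]
    congr 1
    by_cases hcov : ∃ i j, q i j = x
    · obtain ⟨i, j, rfl⟩ := hcov
      set c := H61.cyc (q i 0) (q i 1) (q i 2) with hc
      have e01 : c (q i 0) = q i 1 := H61.cyc_apply_fst (hqne i _ _ (by decide)) (hqne i _ _ (by decide))
      have e12 : c (q i 1) = q i 2 := H61.cyc_apply_snd (hqne i _ _ (by decide)) (hqne i _ _ (by decide))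
      have hpow : ∀ j : Fin 3, q i j = (c ^ j.val) (q i 0) := by
        intro j; fin_cases j <;> simp [e01, e12, pow_succ]
      have hw : ∀ w ∈ F, ∀ m : ℕ, ∀ y, w ((c ^ m) y) = (c ^ m) (w y) := by
        intro w hw m y
        induction m with
        | zero => simp
        | succ m ih => rw [pow_succ', Equiv.Perm.mul_apply, hc, hcu w hw i, ← hc, ih, Equiv.Perm.mul_apply]
      have hmove : ∀ w ∈ F, ∃ m : ℕ, w (q i 0) = (c ^ m) (q i 0) := by
        intro w hw
        by_cases h' : ∃ j, w (q i 0) = q i j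
        · obtain ⟨j, hj⟩ := h'; exact ⟨j, hj.trans (hpow j)⟩
        exfalso
        push Not at h'
        have hfix : c (w (q i 0)) = w (q i 0) := H61.cyc_apply_other (h' 0) (h' 1) (h' 2)
        rw [← hcu w hw i, ← hc, e01] at hfix
        exact hqne i _ _ (by decide) (w.injective hfix)
      obtain ⟨a, ha⟩ := hmove u hu
      obtain ⟨b, hb⟩ := hmove v hv
      rw [hpow j]
      have hadd : ∀ (m m' : ℕ) (y : Fin n), (c ^ m) ((c ^ m') y) = (c ^ (m + m')) y := fun m m' y => by
        rw [pow_add, Equiv.Perm.mul_apply]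
      rw [hw v hv, hb, hw u hu, hw u hu, ha, hw u hu, ha, hw v hv, hw v hv, hb,
        hadd, hadd, hadd, hadd]
      congr 2; ring
    · push Not at hcov
      have hfix : ∀ w ∈ F, ∀ i j, q i j ≠ w x := by
        intro w hw i j hwx
        have h1 : H61.cyc (q i 0) (q i 1) (q i 2) (w x) = w x := by
          rw [← hcu w hw i, H61.cyc_apply_other (hcov i 0).symm (hcov i 1).symm (hcov i 2).symm]
        rw [← hwx] at h1
        fin_cases j
        · exact hqne i 1 0 (by decide) ((H61.cyc_apply_fst (hqne i _ _ (by decide)) (hqne i _ _ (by decide))).symm.trans h1)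
        · exact hqne i 2 1 (by decide) ((H61.cyc_apply_snd (hqne i _ _ (by decide)) (hqne i _ _ (by decide))).symm.trans h1)
        · exact hqne i 0 2 (by decide) ((H61.cyc_apply_thd _ _ _).symm.trans h1)
      have two : ∀ a b c : Fin n, (∀ i j, q i j ≠ a) → (∀ i j, q i j ≠ b) → (∀ i j, q i j ≠ c) →
          a = b ∨ a = c ∨ b = c := by
        intro a b c ha hb hc
        have h1 := huncov a ha
        have h2 := huncov b hb
        have h3 := huncov c hc
        have := (g⁻¹ a).isLt
        have := (g⁻¹ b).isLt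
        have := (g⁻¹ c).isLt
        have hcases : (g⁻¹ a).val = (g⁻¹ b).val ∨ (g⁻¹ a).val = (g⁻¹ c).val ∨ (g⁻¹ b).val = (g⁻¹ c).val := by
          omega
        rcases hcases with h' | h' | h'
        · exact Or.inl ((g⁻¹).injective (Fin.ext h'))
        · exact Or.inr (Or.inl ((g⁻¹).injective (Fin.ext h')))
        · exact Or.inr (Or.inr ((g⁻¹).injective (Fin.ext h')))
      have huv := hfix (u * v) (F.mul_mem hu hv)
      have hvu := hfix (v * u) (F.mul_mem hv hu)
      simp only [Equiv.Perm.mul_apply] at huv hvu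
      by_cases hux : u x = x
      · rw [hux]
        rcases two x (v x) (u (v x)) hcov (hfix v hv) huv with h' | h' | h'
        · rw [← h', hux]
        · rw [← u.injective (hux.trans h'), hux]
        · exact h'.symm
      by_cases hvx : v x = x
      · rw [hvx]
        rcases two x (u x) (v (u x)) hcov (hfix u hu) hvu with h' | h' | h'
        · exact absurd h'.symm hux
        · exact absurd (v.injective (h'.symm.trans hvx.symm)) hux
        · exact h'
      · have huvx : u x = v x := by
          rcases two x (u x) (v x) hcov (hfix u hu) (hfix v hv) with h' | h' | h'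
          · exact absurd h'.symm hux
          · exact absurd h'.symm hvx
          · exact h'
        rcases two x (u x) (u (v x)) hcov (hfix u hu) huv with h' | h' | h'
        · exact absurd h'.symm hux
        · rcases two x (u x) (v (u x)) hcov (hfix u hu) hvu with h'' | h'' | h''
          · exact absurd h''.symm hux
          · rw [← h', ← h'']
          · exact absurd (v.injective (h''.symm.trans huvx)) hux
        · exact absurd (u.injective h').symm hvx
  obtain ⟨U, hU, hU4⟩ := hbig
  have hMU : H61.altSub U ≤ H := H61.altSub_le hU.2.1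
  have hUM : H61.altSub U ≤ M := by
    refine H61.altSub_le (H := M) fun a ha b hb c hc hab hbc hac => Subgroup.subset_closure
      ⟨a, b, c, hab, hbc, hac, rfl, hU.2.1 a ha b hb c hc hab hbc hac⟩
  have hne : ¬ ∀ a ∈ H61.altSub U, ∀ b ∈ H61.altSub U, a * b = b * a := by
    intro hc
    obtain ⟨a, ha⟩ := Finset.card_pos.mp (by omega : 0 < U.card)
    obtain ⟨b, c, d, hb, hc', hd, hbc, hbd, hcd⟩ := Finset.two_lt_card_iff.mp
      (show 2 < (U.erase a).card by rw [Finset.card_erase_of_mem ha]; omega)
    rw [Finset.mem_erase] at hb hc' hd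
    have := congrArg (fun f : Equiv.Perm (Fin n) => f a)
      (hc _ (H61.cyc_mem_altSub ha hb.2 hc'.2 hb.1.symm hbc) _ (H61.cyc_mem_altSub hb.2 hc'.2 hd.2 hbc hcd))
    simp only [Equiv.Perm.mul_apply] at this
    rw [H61.cyc_apply_other (a := b) hb.1.symm hc'.1.symm hd.1.symm,
      H61.cyc_apply_fst hb.1.symm hc'.1.symm, H61.cyc_apply_fst hbc hbd] at this
    exact hbc this
  have hFM : F ≤ M := by
    refine (hkey M H61.threeCycleSub_le hMN).resolve_right fun h => hne fun a ha b hb => ?_
    exact Cfsg.Agent.Components.commute_of_commutator_eq_bot h.2 (hUM ha) (h.1 (hUM hb))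
  have hdich : ∀ W, H61.IsBlk H W → F ≤ H61.altSub W ∨ (H61.altSub W ≤ F ∧ ⁅H61.altSub W, F⁆ = ⊥) :=
    fun W hW => hkey _ (H61.altSub_le hW.2.1) (hFM.trans hW.threeCycleSub_le_normalizer)
  have hFU : F ≤ H61.altSub U := (hdich U hU).resolve_right fun h => hne fun a ha b hb =>
    Cfsg.Agent.Components.commute_of_commutator_eq_bot h.2 ha (h.1 hb)
  have huniq : ∀ W, H61.IsBlk H W → W = U := by
    intro W hW
    by_contra hWU
    have hdis := H61.altSub_inf_eq_bot (U := U) (W := W) fun x hxU hxW => hWU (hW.eq_of_inter hU hxW hxU)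
    rcases hdich W hW with h | ⟨h, -⟩
    · exact Cfsg.Agent.Components.qsSub_ne_bot hFq (le_bot_iff.mp ((le_inf hFU h).trans hdis.le))
    · obtain ⟨a, b, c, ha, hb, hc, hab, hac, hbc⟩ := Finset.two_lt_card_iff.mp
        (show 2 < W.card by have := hW.1; omega)
      have hm := H61.cyc_mem_altSub ha hb hc hab hbc
      exact H61.cyc_ne_one hab hac (Subgroup.mem_bot.mp (hdis ▸ ⟨hFU (h hm), hm⟩))
  have hcovU : ∀ i j, q i j ∈ U := by
    intro i j
    obtain ⟨W, hW, h0, h1, h2⟩ := H61.exists_isBlk (hqne i _ _ (by decide)) (hqne i _ _ (by decide))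
      (hqne i _ _ (by decide)) (hq i)
    rw [huniq W hW] at h0 h1 h2
    fin_cases j
    exacts [h0, h1, h2]
  have hcard : 3 * k ≤ U.card := by
    calc 3 * k = (Finset.univ : Finset (Fin k × Fin 3)).card := by simp [mul_comm]
      _ ≤ U.card := Finset.card_le_card_of_injOn (fun ij => q ij.1 ij.2) (fun ij _ => hcovU _ _)
        (fun a _ b _ e => by
          by_contra hab
          refine hposne a.1 b.1 a.2 b.2 ?_ (g.injective e)
          by_contra hh
          push Not at hh
          exact hab (Prod.ext hh.1 hh.2))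
  have hUn : U.card ≤ n := (Finset.card_le_univ U).trans (by simp)
  have hcU : Nat.card {x // x ∈ U} = U.card := by simp
  have hU5 : 5 ≤ U.card := by
    by_contra h5
    have h4 : Nat.card {x // x ∈ U} = 4 := by omega
    refine Cfsg.Agent.Components.qsSub_not_le_of_isSolvable hFq ?_ hFU
    have hA : Group.IsSolvable (alternatingGroup {x // x ∈ U}) := by
      have hK := alternatingGroup.kleinFour_isKleinFour (α := {x // x ∈ U}) h4
      haveI : Group.IsSolvable (alternatingGroup.kleinFour {x // x ∈ U}) :=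
        Group.isSolvable_of_comm (mul_comm_of_exponent_two hK.exponent_two)
      refine Group.isSolvable_of_ker_le_range (alternatingGroup.kleinFour {x // x ∈ U}).subtype
        Abelianization.of ?_
      rw [Abelianization.ker_of, Subgroup.range_subtype, alternatingGroup.kleinFour_eq_commutator h4]
    haveI := hA
    let e := (alternatingGroup {x // x ∈ U}).equivMapOfInjective
      (Equiv.Perm.ofSubtype : Equiv.Perm {x // x ∈ U} →* Equiv.Perm (Fin n)) Equiv.Perm.ofSubtype_injective
    exact Group.isSolvable_of_surjective (f := e.toMonoidHom) e.surjective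
  haveI := alternatingGroup.isSimpleGroup (α := {x // x ∈ U}) (by omega)
  let eU : ↥(alternatingGroup {x // x ∈ U}) ≃* H61.altSub U :=
    (alternatingGroup {x // x ∈ U}).equivMapOfInjective _ Equiv.Perm.ofSubtype_injective
  haveI : IsSimpleGroup (H61.altSub U) := eU.symm.isSimpleGroup
  have hFeq : F = H61.altSub U := by
    haveI : (F.subgroupOf (H61.altSub U)).Normal :=
      (Subgroup.normal_subgroupOf_iff_le_normalizer hFU).mpr (hMU.trans hHN)
    rcases Subgroup.Normal.eq_bot_or_eq_top (inferInstance : (F.subgroupOf (H61.altSub U)).Normal) with h | h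
    · exfalso
      rw [Subgroup.subgroupOf_eq_bot, disjoint_iff, inf_eq_left.mpr hFU] at h
      exact Cfsg.Agent.Components.qsSub_ne_bot hFq h
    · exact le_antisymm hFU (Subgroup.subgroupOf_eq_top.mp h)
  refine ⟨U.card, by omega, ⟨eF.trans ((MulEquiv.subgroupCongr hFeq).trans (eU.symm.trans
    (Equiv.altCongrHom (Fintype.equivFinOfCardEq (by simp)))))⟩⟩

end Cfsg.Agent.S2929
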