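import Cfsg.Statements.S2930
import Cfsg.Agent.H66.ThreeMinimalAlt

set_option autoImplicit false
open Cfsg

namespace Cfsg.Agent.S2930

/-- Let X be a finite 3-minimal group (a Sylow 3-subgroup is not normal and lies in a unique maximal subgroup) whose generalized Fitting subgroup is isomorphic to an alternating group of degree n ≥ 5. Then X = F*(X), and n = 6, n = 9, or n = 3ᵃ + 1 for some a ≥ 2. -/
theorem result {X : Type*} [Group X] [Finite X] (hX : Cfsg.IsPMinimal 3 X) (n : ℕ) (hn : 5 ≤ n) (hF : Nonempty (↥(Cfsg.generalizedFittingSubgroup X) ≃* ↥(alternatingGroup (Fin n)))) : Cfsg.generalizedFittingSubgroup X = ⊤ ∧ (n = 6 ∨ n = 9 ∨ ∃ a : ℕ, 2 ≤ a ∧ n = 3 ^ a + 1) := by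
  classical
  haveI : Fact (Nat.Prime 3) := ⟨Nat.prime_three⟩
  set E := Cfsg.generalizedFittingSubgroup X with hE
  obtain ⟨e⟩ := hF
  obtain ⟨S⟩ : Nonempty (Sylow 3 X) := inferInstance
  obtain ⟨hSn, M, ⟨hM, hSM⟩, huniq⟩ := hX S
  have below : ∀ K : Subgroup X, (S : Subgroup X) ≤ K → K ≠ ⊤ → K ≤ M := by
    intro K hK hKt
    rcases eq_top_or_exists_le_coatom K with h | ⟨M', h1, h2⟩
    · exact absurd h hKt
    · exact h2.trans (huniq M' ⟨h1, hK.trans h2⟩).le
  haveI : E.Normal := by rw [hE]; infer_instance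
  let Ψ : X →* MulAut ↥(alternatingGroup (Fin n)) :=
    (MulAut.congr e).toMonoidHom.comp MulAut.conjNormal
  have hΨ : ∀ x : X, ∀ y : E, Ψ x (e y) = e (MulAut.conjNormal x y) := fun x y => by
    simp [Ψ, MulAut.congr]
  have hΨE : ∀ y : E, Ψ (y : X) = MulAut.conjNormal (e y : Equiv.Perm (Fin n)) := fun y => by
    refine MulEquiv.ext fun a => ?_
    obtain ⟨z, rfl⟩ := e.surjective a
    apply Subtype.ext
    rw [hΨ, MulAut.conjNormal_apply, show MulAut.conjNormal (y : X) z = y * z * y⁻¹ from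
      Subtype.ext (by simp [MulAut.conjNormal_apply]), map_mul, map_mul, map_inv]
    rfl
  have hΨinj : Function.Injective Ψ := by
    rw [injective_iff_map_eq_one]
    intro x hx
    have hcx : x ∈ Subgroup.centralizer (E : Set X) := fun y hy => by
      have := hΨ x ⟨y, hy⟩
      rw [hx, MulAut.one_apply] at this
      have h' := congrArg Subtype.val (e.injective this).symm
      rw [MulAut.conjNormal_apply] at h'
      exact (mul_inv_eq_iff_eq_mul.mp h').symm
    have hxE : x ∈ E := Cfsg.Agent.Components.centralizer_genFitting_le hcx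
    have h1 := (hΨE ⟨x, hxE⟩).symm.trans hx
    rw [← map_one (MulAut.conjNormal : Equiv.Perm (Fin n) →* MulAut ↥(alternatingGroup (Fin n)))] at h1
    have h2 : e ⟨x, hxE⟩ = 1 := Subtype.ext (H77.AutAlt.conjNormal_injective n (by omega) h1)
    exact congrArg Subtype.val ((map_eq_one_iff _ e.injective).mp h2)
  have hSE : (S : Subgroup X) ≤ E := by
    intro x hx
    obtain ⟨k, hk⟩ := S.isPGroup' ⟨x, hx⟩
    have hxk : x ^ 3 ^ k = 1 := by simpa using congrArg Subtype.val hk
    have hφ : Ψ x ^ 3 ^ k = 1 := by rw [← map_pow, hxk, map_one]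
    obtain ⟨g, hg⟩ := H77.AutAlt.exists_conjNormal n (by omega) (Ψ x)
      (H66.ThreeMinimal.preserves_of_pow hn (Ψ x) hφ)
    have hgk : g ^ 3 ^ k = 1 := by
      apply H77.AutAlt.conjNormal_injective n (by omega)
      rw [map_pow, hg, hφ, map_one]
    have hgA : g ∈ alternatingGroup (Fin n) := by
      obtain ⟨m, hm⟩ : Odd (3 ^ k) := Odd.pow (by decide)
      have := congrArg Equiv.Perm.sign hgk
      rw [map_pow, map_one, hm, pow_add, pow_mul, Int.units_sq, one_pow, one_mul, pow_one] at this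
      exact this
    obtain ⟨y, hy⟩ := e.surjective ⟨g, hgA⟩
    have : Ψ (y : X) = Ψ x := by rw [hΨE, hy, ← hg]
    rw [← hΨinj this]
    exact y.2
  have hEtop : E = ⊤ := by
    by_contra hne
    have h1 : E ≤ M := below E hSE hne
    have h2 : Subgroup.normalizer ((S : Subgroup X) : Set X) ≤ M :=
      below _ Subgroup.le_normalizer fun h => hSn (Subgroup.normalizer_eq_top_iff.mp h)
    have h3 := Sylow.normalizer_sup_eq_top (S.subtype hSE)
    rw [show ((S.subtype hSE : Sylow 3 E) : Subgroup E).map E.subtype = (S : Subgroup X) by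
      rw [Sylow.coe_subtype]; exact Subgroup.map_subgroupOf_eq_of_le hSE] at h3
    exact hM.1 (top_le_iff.mp (h3 ▸ sup_le h2 h1))
  refine ⟨hEtop, ?_⟩
  by_contra hcon
  push Not at hcon
  obtain ⟨h6, h9, h1⟩ := hcon
  let f : X →* Equiv.Perm (Fin n) := (alternatingGroup (Fin n)).subtype.comp
    (e.toMonoidHom.comp ((MulEquiv.subgroupCongr hEtop).trans Subgroup.topEquiv).symm.toMonoidHom)
  have hfinj : Function.Injective f := Subtype.val_injective.comp (e.injective.comp (MulEquiv.injective _))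
  have hfA : ∀ g ∈ alternatingGroup (Fin n), ∃ x : X, f x = g := fun g hg => by
    refine ⟨((MulEquiv.subgroupCongr hEtop).trans Subgroup.topEquiv) (e.symm ⟨g, hg⟩), ?_⟩
    show ((e (((MulEquiv.subgroupCongr hEtop).trans Subgroup.topEquiv).symm
      (((MulEquiv.subgroupCongr hEtop).trans Subgroup.topEquiv) (e.symm ⟨g, hg⟩))) :
        ↥(alternatingGroup (Fin n))) : Equiv.Perm (Fin n)) = g
    rw [MulEquiv.symm_apply_apply, MulEquiv.apply_symm_apply]
  have hfmem : ∀ x : X, f x ∈ alternatingGroup (Fin n) := fun x => Subtype.coe_prop _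
  have hP : IsPGroup 3 ((S : Subgroup X).map f) := S.isPGroup'.map f
  have hM' : H66.ThreeMinimal.ContainsPreservers ((S : Subgroup X).map f) (M.map f) := by
    intro r hr hr1 hr2 g hgs hg
    obtain ⟨x, rfl⟩ := hfA g hgs
    refine ⟨x, below ((H66.ThreeMinimal.preserver r).comap f) ?_ ?_ hg, rfl⟩
    · intro s hs a b
      refine ⟨fun h => ?_, fun h => hr _ ⟨s, hs, rfl⟩ a b h⟩
      have := hr _ (Subgroup.inv_mem _ ⟨s, hs, rfl⟩) _ _ h
      simpa using this
    · intro h
      refine H66.ThreeMinimal.not_alt_le_preserver (by simpa using hn) r hr1 hr2 fun g hg => ?_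
      obtain ⟨y, rfl⟩ := hfA g hg
      exact (Subgroup.eq_top_iff' _).mp h y
  have := H66.ThreeMinimal.alternating_le hP (by simpa using hn) (by simpa using h6)
    (by simpa using h9) (fun a ha => by simpa using h1 a ha) hM'
  refine hM.1 ((Subgroup.eq_top_iff' M).mpr fun x => ?_)
  obtain ⟨y, hy, hyx⟩ := this (hfmem x)
  exact hfinj hyx ▸ hy

end Cfsg.Agent.S2930
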