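import Cfsg.Statements.S2931
import Cfsg.Agent.H27.SylowModel
import Cfsg.Agent.H27.SylowOMul
import Cfsg.Agent.S0288
import Cfsg.Agent.Symplectic.Center
import Cfsg.Agent.Symplectic.Order

set_option autoImplicit false
open Cfsg

namespace Cfsg.Agent.S2931

open Matrix Cfsg.Agent.H27.SylowModel Cfsg.Agent.H27.SylowData

theorem spM_form (i : Fin 64) : spM i * Matrix.J (Fin 2) (ZMod 3) * (spM i)ᵀ = Matrix.J (Fin 2) (ZMod 3) :=
  Matrix.ext fun r c => spE_form i r c

theorem spM_mul (i : Fin 64) (s : Fin 3) :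
    spM i * spM (spGens s) = spM (spT i s) ∨ spM i * spM (spGens s) = - spM (spT i s) :=
  (spE_mul i s).imp (fun h => Matrix.ext h) (fun h => Matrix.ext h)

theorem spM_zero : spM 0 = 1 ∨ spM 0 = -1 := by
  refine spE_zero.imp (fun h => ?_) (fun h => ?_) <;> ext r c <;>
    simp [spM, h r c, idE, Matrix.one_apply]

theorem oM_mul (i : Fin 128) (s : Fin 3) : oM i * oM (oGens s) = oM (oT i s) := Matrix.ext (oE_mul i s)

theorem oM_one : oM 0 = 1 := by
  ext r c; simp [oM, oE_one r c, idE, Matrix.one_apply]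

def Qf (v : I6 → ZMod 2) : ZMod 2 :=
  (∑ i : Fin 2, v (.inl (.inl i)) * v (.inl (.inr i))) +
    (v (.inr 0) * v (.inr 0) + v (.inr 0) * v (.inr 1) + v (.inr 1) * v (.inr 1))

def vec (a b c d e f : ZMod 2) : I6 → ZMod 2 := Sum.elim (Sum.elim ![a, b] ![c, d]) ![e, f]

theorem oM_gen_iso : ∀ s a b c d e f, Qf (oM (oGens s) *ᵥ vec a b c d e f) = Qf (vec a b c d e f) := by
  decide +kernel

theorem oM_gen_iso' (s : Fin 3) (v : I6 → ZMod 2) : Qf (oM (oGens s) *ᵥ v) = Qf v := by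
  have e : v = vec (v (.inl (.inl 0))) (v (.inl (.inl 1))) (v (.inl (.inr 0))) (v (.inl (.inr 1)))
      (v (.inr 0)) (v (.inr 1)) := by
    funext i; rcases i with (i | i) | i <;> fin_cases i <;> rfl
  rw [e]; exact oM_gen_iso _ _ _ _ _ _ _

theorem two_cases : ∀ x : ZMod 2, x = 0 ∨ x = 1 := by decide

theorem alt_eight {F : Type} [Field F] [Fintype F] (hF : Fintype.card F = 3)
    (P : Sylow 2 ↥(alternatingGroup (Fin 8))) (Q : Sylow 2 (Cfsg.PSp 2 F)) :
    Nonempty (↥(P : Subgroup ↥(alternatingGroup (Fin 8))) ≃* ↥(Q : Subgroup (Cfsg.PSp 2 F))) := by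
  classical
  have : Fact (Nat.Prime 3) := ⟨Nat.prime_three⟩
  let φ : ZMod 3 ≃+* F := ZMod.ringEquivOfPrime F Nat.prime_three hF
  have hJ : (Matrix.J (Fin 2) (ZMod 3)).map φ = Matrix.J (Fin 2) F := by
    ext r c
    rcases r with r | r <;> rcases c with c | c <;>
      simp [Matrix.J, Matrix.one_apply, apply_ite φ]
  let U0 : Fin 64 → Matrix.symplecticGroup (Fin 2) F := fun i => ⟨(spM i).map φ, by
    rw [SymplecticGroup.mem_iff, ← hJ, ← Matrix.transpose_map, ← Matrix.map_mul, ← Matrix.map_mul,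
      spM_form i]⟩
  let U : Fin 64 → Cfsg.PSp 2 F := fun i => QuotientGroup.mk (U0 i)
  have hpm : ∀ (x y : Matrix.symplecticGroup (Fin 2) F),
      ((x : Matrix I4 I4 F) = y ∨ (x : Matrix I4 I4 F) = -(y : Matrix I4 I4 F)) →
      (QuotientGroup.mk x : Cfsg.PSp 2 F) = QuotientGroup.mk y := by
    intro x y h
    refine QuotientGroup.eq.2 ((Cfsg.Agent.Symplectic.mem_center_iff _).2 ?_)
    have hxx : ((x⁻¹ : Matrix.symplecticGroup (Fin 2) F) : Matrix I4 I4 F) * (x : Matrix I4 I4 F) = 1 :=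
      congrArg Subtype.val (inv_mul_cancel x)
    rcases h with h | h
    · refine ⟨1, fun v => ?_⟩
      rw [Submonoid.coe_mul, ← h, hxx, Matrix.one_mulVec, one_smul]
    · refine ⟨-1, fun v => ?_⟩
      have h' : (y : Matrix I4 I4 F) = -(x : Matrix I4 I4 F) := by rw [h, neg_neg]
      rw [Submonoid.coe_mul, h', mul_neg, hxx, Matrix.neg_mulVec, Matrix.one_mulVec, neg_one_smul]
  have hU : ∀ i s, U i * U (spGens s) = U (spT i s) := fun i s => by
    change (QuotientGroup.mk (U0 i * U0 (spGens s)) : Cfsg.PSp 2 F) = _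
    refine hpm _ _ ?_
    show (spM i).map φ * (spM (spGens s)).map φ = (spM (spT i s)).map φ ∨
      (spM i).map φ * (spM (spGens s)).map φ = -((spM (spT i s)).map φ)
    rw [← Matrix.map_mul]
    rcases spM_mul i s with h | h
    · exact Or.inl (by rw [h])
    · refine Or.inr ?_
      ext r c
      simp [h]
  have hU1 : U 0 = 1 := by
    refine hpm _ 1 ?_
    show (spM 0).map φ = 1 ∨ (spM 0).map φ = -1
    rcases spM_zero with h | h
    · exact Or.inl (by rw [h, Matrix.map_one _ (map_zero φ) (map_one φ)])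
    · refine Or.inr ?_
      ext r c
      simp [h, Matrix.one_apply, apply_ite φ]
  let TA : Fin 64 → alternatingGroup (Fin 8) := fun i => ⟨spP i, by
    exact pred_of_gens (P := fun x : Equiv.Perm (Fin 8) => x ∈ alternatingGroup (Fin 8))
      (one_mem _) (fun a b ha hb => mul_mem ha hb) (fun s => Equiv.Perm.mem_alternatingGroup.2 (sp_sign s))
      spP_one spP_mul sp_reach i⟩
  obtain ⟨P₀, f, hP₀, hf⟩ := exists_model (T := TA) (U := U) (z := (0 : Fin 64)) (g := spGens)
    (tbl := spT) (fun i j h => spP_inj (congrArg Subtype.val h)) (Subtype.ext spP_one) hU1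
    (fun i s => Subtype.ext (spP_mul i s)) hU sp_reach
  refine sylow_equiv (k := 6) (a := 315) (b := 405) (by decide) (by decide) ?_ ?_ P₀ hP₀ f ?_ P Q
  · rw [nat_card_alternatingGroup, Nat.card_eq_fintype_card, Fintype.card_fin]; rfl
  · rw [Cfsg.Agent.Symplectic.card_psp 2 F (by norm_num), hF]; rfl
  · refine (injective_iff_map_eq_one f).2 fun x hx => ?_
    obtain ⟨i, hi, hfi⟩ := hf x
    rw [hx] at hfi
    by_cases h0 : i = 0
    · subst h0
      exact Subtype.ext (hi.trans (Subtype.ext spP_one))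
    · exfalso
      have hz : U0 i ∈ Subgroup.center _ := (QuotientGroup.eq_one_iff _).1 hfi.symm
      obtain ⟨c, hc⟩ := (Cfsg.Agent.Symplectic.mem_center_iff _).1 hz
      refine spE_scalar i h0 (φ.symm c) fun r k => φ.injective ?_
      have := congrFun (hc (Pi.single k 1)) r
      simpa [U0, spM, Pi.single_apply, apply_ite φ] using this

theorem orth_six {K : Type} [Field K] [Fintype K] (hK : Fintype.card K = 2) (a b : K)
    (hab : ∀ z₁ z₂ : K, z₁ ^ 2 + a * z₁ * z₂ + b * z₂ ^ 2 = 0 → z₁ = 0 ∧ z₂ = 0)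
    (P : Sylow 2 (Equiv.Perm (Fin 8))) (Q : Sylow 2 ↥(Cfsg.isometryGroup K (Cfsg.quadFormMinus 2 K a b))) :
    Nonempty (↥(P : Subgroup (Equiv.Perm (Fin 8))) ≃*
      ↥(Q : Subgroup ↥(Cfsg.isometryGroup K (Cfsg.quadFormMinus 2 K a b)))) := by
  classical
  have : Fact (Nat.Prime 2) := ⟨Nat.prime_two⟩
  let φ : ZMod 2 ≃+* K := ZMod.ringEquivOfPrime K Nat.prime_two hK
  have hb : b = 1 := by
    rcases two_cases (φ.symm b) with h | h
    · exact absurd (hab 0 1 (by simpa using congrArg φ h)).2 one_ne_zero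
    · simpa using congrArg φ h
  have ha : a = 1 := by
    rcases two_cases (φ.symm a) with h | h
    · exfalso
      have ha0 : a = 0 := by simpa using congrArg φ h
      have h2 : (1 : K) + 1 = 0 := by
        have e : φ (1 + 1 : ZMod 2) = φ 0 := congrArg φ (by rfl)
        simpa using e
      exact one_ne_zero (hab 1 1 (by rw [ha0, hb]; simpa using h2)).1
    · simpa using congrArg φ h
  have hQ : ∀ v : I6 → ZMod 2, Cfsg.quadFormMinus 2 K a b (φ ∘ v) = φ (Qf v) := fun v => by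
    rw [ha, hb]
    simp [Cfsg.quadFormMinus, Qf, sq, map_sum]
  obtain ⟨P₀, f, hP₀, hf⟩ := exists_model (T := oP) (U := oM) (z := (0 : Fin 128)) (g := oGens)
    (tbl := oT) oP_inj oP_one oM_one oP_mul oM_mul o_reach
  have hiso : ∀ i, ∀ v, Qf (oM i *ᵥ v) = Qf v :=
    pred_of_gens (P := fun M : Matrix I6 I6 (ZMod 2) => ∀ v, Qf (M *ᵥ v) = Qf v)
      (fun v => by rw [Matrix.one_mulVec]) (fun A B hA hB v => by rw [← Matrix.mulVec_mulVec, hA, hB])
      oM_gen_iso' oM_one oM_mul o_reach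
  let f' : P₀ →* Matrix.GeneralLinearGroup I6 K :=
    (φ.toRingHom.mapMatrix.toMonoidHom.comp f).toHomUnits
  have hcoe : ∀ x, (f' x : Matrix I6 I6 K) = (f x).map φ := fun x => rfl
  have hmem : ∀ x, f' x ∈ Cfsg.isometryGroup K (Cfsg.quadFormMinus 2 K a b) := by
    intro x v _
    obtain ⟨w, rfl⟩ : ∃ w : I6 → ZMod 2, φ ∘ w = v := ⟨φ.symm ∘ v, by funext i; simp⟩
    have e : (f x).map φ *ᵥ (φ ∘ w) = φ ∘ (f x *ᵥ w) := by
      funext i
      simpa using (RingHom.map_mulVec φ.toRingHom (f x) w i).symm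
    obtain ⟨i, -, hfi⟩ := hf x
    show Cfsg.quadFormMinus 2 K a b ((f' x : Matrix I6 I6 K) *ᵥ (φ ∘ w)) = _
    rw [hcoe, e, hQ, hfi, hiso]
    exact (hQ w).symm
  refine sylow_equiv (k := 7) (a := 315) (b := 405) (by decide) (by decide) ?_ ?_ P₀ hP₀
    (f'.codRestrict _ hmem) ?_ P Q
  · rw [Nat.card_perm, Nat.card_eq_fintype_card, Fintype.card_fin]; rfl
  · rw [Cfsg.Agent.S0288.result hK 3 (by norm_num) a b hab]
    simp [Finset.prod_range_succ]
  · refine (injective_iff_map_eq_one _).2 fun x hx => ?_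
    obtain ⟨i, hi, hfi⟩ := hf x
    by_cases h0 : i = 0
    · subst h0
      exact Subtype.ext (hi.trans oP_one)
    · exfalso
      have hx' : (f x).map φ = (1 : Matrix I6 I6 K) :=
        congrArg (fun y => ((Subtype.val y : Matrix.GeneralLinearGroup I6 K) : Matrix I6 I6 K)) hx
      rw [← Matrix.map_one _ (map_zero φ) (map_one φ), hfi] at hx'
      exact oE_ne i h0 fun r c => by
        simpa [oM, idE, Matrix.one_apply] using congrFun (congrFun (Matrix.map_injective φ.injective hx') r) c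


/-- The Sylow 2-subgroups of the alternating group of degree 8 and of PSp₄(3) are isomorphic, and so are the Sylow 2-subgroups of the symmetric group of degree 8 and of the full isometry group of a non-degenerate quadratic form of minus type in dimension 6 over the field with 2 elements. -/
theorem result (F : Type) [Field F] [Fintype F] (hF : Fintype.card F = 3) (K : Type) [Field K] [Fintype K] (hK : Fintype.card K = 2) (a b : K) (hab : ∀ z₁ z₂ : K, z₁ ^ 2 + a * z₁ * z₂ + b * z₂ ^ 2 = 0 → z₁ = 0 ∧ z₂ = 0) (P : Sylow 2 ↥(alternatingGroup (Fin 8))) (Q : Sylow 2 (Cfsg.PSp 2 F)) (P' : Sylow 2 (Equiv.Perm (Fin 8))) (Q' : Sylow 2 ↥(Cfsg.isometryGroup K (Cfsg.quadFormMinus 2 K a b))) : Nonempty (↥(P : Subgroup ↥(alternatingGroup (Fin 8))) ≃* ↥(Q : Subgroup (Cfsg.PSp 2 F))) ∧ Nonempty (↥(P' : Subgroup (Equiv.Perm (Fin 8))) ≃* ↥(Q' : Subgroup ↥(Cfsg.isometryGroup K (Cfsg.quadFormMinus 2 K a b)))) := by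
  exact ⟨alt_eight hF P Q, orth_six hK a b hab P' Q'⟩

end Cfsg.Agent.S2931
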