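import Cfsg.Statements.S2932
import Cfsg.Agent.H31.NatEmbedded.Two
import Cfsg.Agent.H31.NatEmbedded.Four

set_option autoImplicit false
open Cfsg

namespace Cfsg.Agent.S2932

open Subgroup H31.NatEmbedded

/-- The statement for an abstract action on `F²`. -/
theorem abstract {G : Type*} [Group G] [Finite G] {F : Type*} [Field F] [Fintype F] {p : ℕ} [Fact p.Prime] [CharP F p]
    [DistribMulAction G (Fin 2 → F)] (K : Setup G F p) :
    K.L.Normal ∨ (Fintype.card F = 4 ∧ Nonempty (G ≃* alternatingGroup (Fin 7))) := by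
  by_cases hp : p = 2
  swap
  · exact Or.inl (K.normal_of_sc (K.sc_of_odd hp))
  subst hp
  by_cases hPR : (K.P : Subgroup G) ≤ K.R
  · exact Or.inl (K.normal_of_sc (K.sc_of_le hPR))
  by_cases h4 : 4 < Fintype.card F
  · exact Or.inl (K.normal_of_sc (K.sc_of_card h4))
  obtain ⟨n, -, hn⟩ := FiniteField.card F 2
  have h1 : 1 ≤ (n : ℕ) := n.pos
  have h2 : (n : ℕ) ≤ 2 := (Nat.pow_le_pow_iff_right (by norm_num : 1 < 2)).mp (show 2 ^ (n : ℕ) ≤ 2 ^ 2 by omega)
  rcases (show (n : ℕ) = 1 ∨ (n : ℕ) = 2 by omega) with e | e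
  · exact absurd (K.le_R_of_two (by rw [hn, e, pow_one])) hPR
  · have hc : Fintype.card F = 4 := by rw [hn, e]; norm_num
    rcases K.four hc hPR with h | h
    · exact Or.inl h
    · exact Or.inr ⟨hc, h⟩

/-- Let p be a prime. Inside a finite ambient group let V be an elementary abelian p-subgroup and G a subgroup normalizing V and acting faithfully on it (G ∩ C(V) = 1), and let L ≤ G act on V as SL₂(F) on its natural module, F a finite field of characteristic p, with L ≅ SL₂(F). If every Sylow p-subgroup of N_G(L) is a Sylow p-subgroup of G, then either L is normal in G, or F has 4 elements and G is isomorphic to the alternating group of degree 7. -/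
theorem result {X : Type*} [Group X] [Finite X] {p : ℕ} [Fact p.Prime] (F : Type) [Field F] [Fintype F] [CharP F p] (V G L : Subgroup X) (hV : Cfsg.IsElementaryAbelian p V) (hGV : G ≤ Subgroup.normalizer (V : Set X)) (hfaith : G ⊓ Subgroup.centralizer (V : Set X) = ⊥) (hLG : L ≤ G) (hnat : Cfsg.IsNaturalSL2Module F V L) (hLiso : Nonempty (↥L ≃* Matrix.SpecialLinearGroup (Fin 2) F)) (hSyl : ∀ S : Sylow p ↥(G ⊓ Subgroup.normalizer (L : Set X)), ∀ P : Sylow p ↥G, Nat.card S = Nat.card P) : (L.subgroupOf G).Normal ∨ (Fintype.card F = 4 ∧ Nonempty (↥G ≃* ↥(alternatingGroup (Fin 7)))) := by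
  classical
  obtain ⟨hn, ρ₀, ψ, hρ, hker, hψ⟩ := hnat
  have hinj : Function.Injective ρ₀ := by
    rw [← MonoidHom.ker_eq_bot_iff, hker, subgroupOf_eq_bot, disjoint_iff]
    exact le_bot_iff.mp (fun x hx => hfaith ▸ ⟨hLG hx.2, hx.1⟩)
  let L' : Subgroup G := L.subgroupOf G
  let e : ↥L ≃* Matrix.SpecialLinearGroup (Fin 2) F := MulEquiv.ofBijective ρ₀ ⟨hinj, hρ⟩
  let ρ : Matrix.SpecialLinearGroup (Fin 2) F →* G := (inclusion hLG).comp e.symm.toMonoidHom
  have hmem : ∀ (g : G) (v : V), (g : X) * v * (g : X)⁻¹ ∈ V := fun g v =>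
    (mem_normalizer_iff.mp (hGV g.2) _).mp v.2
  let act : G → (Fin 2 → F) → (Fin 2 → F) := fun g m =>
    ψ (Additive.ofMul (⟨_, hmem g (Additive.toMul (ψ.symm m))⟩ : V))
  letI : DistribMulAction G (Fin 2 → F) :=
    { smul := act
      one_smul := fun m => by
        show ψ _ = m
        conv_rhs => rw [← ψ.apply_symm_apply m]
        refine congrArg ψ (congrArg Additive.ofMul (Subtype.ext ?_))
        simp only [coe_one, one_mul, inv_one, mul_one]
        rfl
      mul_smul := fun g h m => by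
        show ψ _ = act g (act h m)
        refine congrArg ψ (congrArg Additive.ofMul (Subtype.ext ?_))
        simp only [act, ψ.symm_apply_apply, toMul_ofMul, coe_mul]
        group
      smul_zero := fun g => by
        show ψ _ = 0
        rw [← map_zero ψ]
        exact congrArg ψ (congrArg Additive.ofMul (Subtype.ext (by simp)))
      smul_add := fun g a b => by
        show ψ _ = ψ _ + ψ _
        rw [← map_add]
        refine congrArg ψ (congrArg Additive.ofMul (Subtype.ext ?_))
        simp only [map_add, toMul_add, coe_mul, toMul_ofMul]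
        group }
  have hact : ∀ (g : G) (m : Fin 2 → F),
      g • m = ψ (Additive.ofMul (⟨_, hmem g (Additive.toMul (ψ.symm m))⟩ : V)) := fun _ _ => rfl
  have hρact : ∀ s m, ρ s • m = (s : Matrix (Fin 2) (Fin 2) F).mulVec m := by
    intro s m
    obtain ⟨w, hw, hwψ⟩ := hψ (e.symm s) (Additive.toMul (ψ.symm m))
    rw [hact, show (⟨_, hmem (ρ s) (Additive.toMul (ψ.symm m))⟩ : V) = w from Subtype.ext hw.symm, hwψ,
      show ρ₀ (e.symm s) = s from e.apply_symm_apply s, ofMul_toMul, ψ.apply_symm_apply]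
  have hfa : ∀ g : G, (∀ m : Fin 2 → F, g • m = m) → g = 1 := by
    intro g hg
    refine Subtype.ext ((Subgroup.eq_bot_iff_forall _).mp hfaith _ ⟨g.2, fun v hv => ?_⟩)
    have h := hg (ψ (Additive.ofMul ⟨v, hv⟩))
    rw [hact] at h
    have h2 := congrArg Subtype.val (Additive.ofMul.injective (ψ.injective h))
    simp only [ψ.symm_apply_apply, toMul_ofMul] at h2
    exact (mul_inv_eq_iff_eq_mul.mp h2).symm
  have hrange : ρ.range = L' := by
    ext g
    constructor
    · rintro ⟨s, rfl⟩; exact (e.symm s).2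
    · intro hg
      exact ⟨e ⟨_, hg⟩, by
        show inclusion hLG (e.symm (e ⟨(g : X), hg⟩)) = g
        rw [e.symm_apply_apply]; exact Subtype.ext rfl⟩
  set N := normalizer (L' : Set G) with hNdef
  -- a Sylow subgroup of `G` inside the normalizer
  obtain ⟨S⟩ : Nonempty (Sylow p ↥(G ⊓ normalizer (L : Set X))) := inferInstance
  let T := (S : Subgroup ↥(G ⊓ normalizer (L : Set X))).map (inclusion (inf_le_left : G ⊓ normalizer (L : Set X) ≤ G))
  have hT : IsPGroup p T := S.2.map _
  obtain ⟨P₁, hP₁⟩ := hT.exists_le_sylow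
  have hTP : T = (P₁ : Subgroup G) := by
    refine eq_of_le_of_card_ge hP₁ ?_
    rw [← Nat.card_congr ((S : Subgroup ↥(G ⊓ normalizer (L : Set X))).equivMapOfInjective _
      (inclusion_injective _)).toEquiv]
    exact (hSyl S P₁).ge
  have hP₁N : (P₁ : Subgroup G) ≤ N := by
    rw [← hTP]
    rintro _ ⟨x, -, rfl⟩
    refine mem_normalizer_iff.mpr fun y => ?_
    exact mem_normalizer_iff.mp x.2.2 (y : X)
  have hρL : ∀ s, ρ s ∈ L' := fun s => hrange ▸ ⟨s, rfl⟩
  let U : Subgroup N := ((Linear.unitriSL 2 F).map ρ).comap N.subtype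
  have hU : IsPGroup p U := by
    refine IsPGroup.comap_of_injective (IsPGroup.map ?_ ρ) N.subtype N.subtype_injective
    exact (Linear.unitriSylowSL 2 F p).2
  obtain ⟨Q, hQ⟩ := hU.exists_le_sylow
  obtain ⟨c, hc⟩ := MulAction.exists_smul_eq N (P₁.subtype hP₁N) Q
  let P : Sylow p G := (c : G) • P₁
  have hPN : (P : Subgroup G) ≤ N := by
    rw [Sylow.coe_subgroup_smul]
    rintro _ ⟨x, hx, rfl⟩
    exact mul_mem (mul_mem c.2 (hP₁N hx)) (inv_mem c.2)
  have hUP : ∀ t, ρ (Linear.upSL t) ∈ (P : Subgroup G) := fun t => by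
    have hu : ρ (Linear.upSL t) ∈ (Linear.unitriSL 2 F).map ρ :=
      ⟨_, Linear.unitriSL_two_eq.mpr (by simp [Linear.upSL_coe]), rfl⟩
    have hq : (⟨_, le_normalizer (hρL (Linear.upSL t))⟩ : N) ∈ (Q : Subgroup N) := hQ hu
    rw [← hc, Sylow.coe_subgroup_smul] at hq
    obtain ⟨x, hx, hxe⟩ := hq
    rw [Sylow.coe_subgroup_smul]
    exact ⟨(x : G), hx, congrArg Subtype.val hxe⟩
  let K : Setup G F p :=
    { L := L', ρ := ρ, range := hrange, act := hρact, faith := hfa, P := P, PN := hPN, UP := hUP }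
  exact abstract K

end Cfsg.Agent.S2932
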