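import Cfsg.Statements.S2933
import Cfsg.Agent.H47.TwoSinger.Models

set_option autoImplicit false
open Cfsg

namespace Cfsg.Agent.S2933

/-- Let T be a 2-subgroup of a finite group G, V ≤ Z(T) a four-group, and t, ρ ∈ N_G(V) ∩ N_G(T) elements of order 2 and 3 with t commuting with ρ and with V. If [V, ρ] = V and C_T(t) = V, then T is elementary abelian of order 16, or homocyclic of rank 2 (ℤ/2ⁿ × ℤ/2ⁿ for some n ≥ 1), or isomorphic to a Sylow 2-subgroup of PSL₃(4) or of PSU₃(4). -/
theorem result {G : Type*} [Group G] [Finite G] (T V : Subgroup G) (hT : IsPGroup 2 ↥T) (hVT : V ≤ T ⊓ Subgroup.centralizer (T : Set G)) (hV : Nat.card ↥V = 4 ∧ ∀ v ∈ V, v ^ 2 = 1) (t ρ : G) (ht : orderOf t = 2) (hρ : orderOf ρ = 3) (htn : t ∈ Subgroup.normalizer (V : Set G) ⊓ Subgroup.normalizer (T : Set G)) (hρn : ρ ∈ Subgroup.normalizer (V : Set G) ⊓ Subgroup.normalizer (T : Set G)) (htρ : t * ρ = ρ * t) (htV : t ∈ Subgroup.centralizer (V : Set G)) (hVρ : ⁅V, Subgroup.zpowers ρ⁆ =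 V) (hCt : T ⊓ Subgroup.centralizer ({t} : Set G) = V) : (Nat.card ↥T = 16 ∧ ∀ x ∈ T, x ^ 2 = 1) ∨ (∃ n : ℕ, 1 ≤ n ∧ Nonempty (↥T ≃* Multiplicative (ZMod (2 ^ n)) × Multiplicative (ZMod (2 ^ n)))) ∨ (∃ (F : Type) (_ : Field F) (_ : Fintype F), Fintype.card F = 4 ∧ ∀ P : Sylow 2 (Matrix.ProjectiveSpecialLinearGroup (Fin 3) F), Nonempty (↥T ≃* ↥(P : Subgroup (Matrix.ProjectiveSpecialLinearGroup (Fin 3) F)))) ∨ (∃ (F : Type) (_ : Field F) (_ : Fintype F), Fintype.card F = 16 ∧ ∀ P : Sylow 2 (Cfsg.PSU 3 F 4), Nonempty (↥T ≃* ↥(P : Subgroup (Cfsg.PSU 3 F 4)))) := by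
  classical
  have hmap : ∀ g ∈ Subgroup.normalizer (T : Set G), T.map (MulAut.conj g).toMonoidHom = T := fun g hg => by
    ext x
    rw [Subgroup.mem_map]
    constructor
    · rintro ⟨y, hy, rfl⟩
      exact ((Subgroup.mem_normalizer_iff.mp hg) y).mp hy
    · intro hx
      exact ⟨g⁻¹ * x * g, by
        have := ((Subgroup.mem_normalizer_iff.mp hg) (g⁻¹ * x * g)).mpr (by simpa [mul_assoc] using hx)
        exact this, by simp [mul_assoc]⟩
  let conjT : (g : G) → g ∈ Subgroup.normalizer (T : Set G) → MulAut T := fun g hg =>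
    ((MulAut.conj g).subgroupMap T).trans (MulEquiv.subgroupCongr (hmap g hg))
  have hconj : ∀ (g : G) (hg) (x : T), ((conjT g hg x : T) : G) = g * x * g⁻¹ := fun g hg x => rfl
  set α := conjT t htn.2 with hαdef
  set r := conjT ρ hρn.2 with hrdef
  have hcα : ∀ x : T, ((α x : T) : G) = t * x * t⁻¹ := fun x => rfl
  have hcr : ∀ x : T, ((r x : T) : G) = ρ * x * ρ⁻¹ := fun x => rfl
  have hrk : ∀ (k : ℕ) (x : T), (((r ^ k) x : T) : G) = ρ ^ k * x * (ρ ^ k)⁻¹ := by
    intro k
    induction k with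
    | zero => intro x; simp
    | succ k ih =>
      intro x
      rw [pow_succ', MulAut.mul_apply, hcr, ih, pow_succ']
      group
  have hVT' : V ≤ T := hVT.trans inf_le_left
  have hfix : Cfsg.Agent.H47.TwoSinger.fix α = V.subgroupOf T := by
    ext x
    rw [Cfsg.Agent.H47.TwoSinger.mem_fix, Subgroup.mem_subgroupOf, ← hCt, Subgroup.mem_inf,
      Subgroup.mem_centralizer_singleton_iff, Subtype.ext_iff, hcα, mul_inv_eq_iff_eq_mul]
    exact ⟨fun h => ⟨x.2, h.symm⟩, fun h => h.2.symm⟩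
  have hVfix : ∀ x : T, α x = x → (x : G) ∈ V := fun x hx => by
    rw [← Subgroup.mem_subgroupOf, ← hfix]; exact hx
  have ht2 : t * t = 1 := by rw [← pow_two, ← ht, pow_orderOf_eq_one]
  have hρ3 : ρ ^ 3 = 1 := hρ ▸ pow_orderOf_eq_one ρ
  have hcV : Nat.card (V.subgroupOf T) = 4 := by
    rw [Nat.card_congr (Subgroup.subgroupOfEquivOfLe hVT').toEquiv, hV.1]
  haveI : Finite V := inferInstance
  -- `ρ` permutes the three involutions of `V` transitively
  have hmove : ∀ x ∈ V, x ≠ 1 → ρ * x * ρ⁻¹ ≠ x := by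
    intro x hx hx1 hfx
    have hVρ' : ∀ v ∈ V, ρ * v * ρ⁻¹ ∈ V := fun v hv => ((Subgroup.mem_normalizer_iff.mp hρn.1) v).mp hv
    have htriv : ∀ v ∈ V, ρ * v * ρ⁻¹ = v := by
      intro v hv
      by_contra hne
      have hv1 : v ≠ 1 := fun h => hne (by subst h; simp)
      have hvx : v ≠ x := fun h => hne (h ▸ hfx)
      have h4 : ∀ z ∈ V, z = 1 ∨ z = x ∨ z = v ∨ z = x * v := by
        intro z hz
        by_contra hc
        push Not at hc
        obtain ⟨hz1, hz2, hz3, hz4⟩ := hc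
        haveI : Fintype V := Fintype.ofFinite V
        have hxv1 : x * v ≠ 1 := fun h => hvx (by
          rw [← inv_eq_of_mul_eq_one_right h, inv_eq_of_mul_eq_one_right ((pow_two x).symm.trans (hV.2 x hx))])
        have hs : ({⟨1, V.one_mem⟩, ⟨x, hx⟩, ⟨v, hv⟩, ⟨x * v, V.mul_mem hx hv⟩, ⟨z, hz⟩} : Finset V).card = 5 := by
          rw [Finset.card_insert_of_notMem, Finset.card_insert_of_notMem, Finset.card_insert_of_notMem,
            Finset.card_insert_of_notMem, Finset.card_singleton]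
          · simp [Subtype.ext_iff]; exact hz4.symm
          · simp [Subtype.ext_iff]; exact ⟨hx1, hz3.symm⟩
          · simp [Subtype.ext_iff]; exact ⟨hvx.symm, hv1, hz2.symm⟩
          · simp [Subtype.ext_iff]; exact ⟨hx1.symm, hv1.symm, hxv1.symm, hz1.symm⟩
        have := Finset.card_le_univ ({⟨1, V.one_mem⟩, ⟨x, hx⟩, ⟨v, hv⟩, ⟨x * v, V.mul_mem hx hv⟩, ⟨z, hz⟩} : Finset V)
        rw [hs, ← Nat.card_eq_fintype_card, hV.1] at this
        omega
      have hinj : ρ * v * ρ⁻¹ ≠ 1 ∧ ρ * v * ρ⁻¹ ≠ x := by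
        refine ⟨fun h => hv1 (conj_eq_one_iff.mp h), fun h => hvx ?_⟩
        exact (MulAut.conj ρ).injective (h.trans hfx.symm)
      rcases h4 _ (hVρ' v hv) with h | h | h | h
      · exact hinj.1 h
      · exact hinj.2 h
      · exact hne h
      · have h3 : ρ ^ 3 * v * (ρ ^ 3)⁻¹ = x * v := by
          have h2 : ρ * (x * v) * ρ⁻¹ = v := by
            rw [show ρ * (x * v) * ρ⁻¹ = (ρ * x * ρ⁻¹) * (ρ * v * ρ⁻¹) by group, hfx, h, ← mul_assoc,
              ← pow_two, hV.2 x hx, one_mul]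
          rw [show ρ ^ 3 * v * (ρ ^ 3)⁻¹ = ρ * (ρ * (ρ * v * ρ⁻¹) * ρ⁻¹) * ρ⁻¹ by simp [pow_succ, mul_assoc], h, h2, h]
        rw [hρ3, inv_one, mul_one, one_mul] at h3
        exact hx1 (right_eq_mul.mp h3)
    have hbot : ⁅V, Subgroup.zpowers ρ⁆ = ⊥ := by
      rw [Subgroup.commutator_eq_bot_iff_le_centralizer]
      intro v hv
      refine Subgroup.mem_centralizer_iff.mpr fun z hz => ?_
      obtain ⟨k, rfl⟩ := Subgroup.mem_zpowers_iff.mp hz
      exact (Commute.zpow_left (mul_inv_eq_iff_eq_mul.mp (htriv v hv)) k).eq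
    rw [hVρ] at hbot
    exact hx1 (by rw [hbot] at hx; exact Subgroup.mem_bot.mp hx)
  have hcover : ∀ x ∈ V, x ≠ 1 → ∀ y ∈ V, y ≠ 1 → ∃ k : ℕ, ρ ^ k * x * (ρ ^ k)⁻¹ = y := by
    intro x hx hx1 y hy hy1
    by_contra hc
    push Not at hc
    have h0 : x ≠ y := by simpa using hc 0
    have h1 : ρ * x * ρ⁻¹ ≠ y := by simpa using hc 1
    have h2 : ρ * (ρ * x * ρ⁻¹) * ρ⁻¹ ≠ y := by
      simpa [pow_two, mul_assoc] using hc 2
    set a := ρ * x * ρ⁻¹ with ha
    set b := ρ * a * ρ⁻¹ with hb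
    have haV : a ∈ V := ((Subgroup.mem_normalizer_iff.mp hρn.1) x).mp hx
    have hbV : b ∈ V := ((Subgroup.mem_normalizer_iff.mp hρn.1) a).mp haV
    have ha1 : a ≠ 1 := fun h => hx1 (conj_eq_one_iff.mp h)
    have hb1 : b ≠ 1 := fun h => ha1 (conj_eq_one_iff.mp h)
    have hxa : x ≠ a := (hmove x hx hx1).symm
    have hab : a ≠ b := (hmove a haV ha1).symm
    have hxb : x ≠ b := by
      intro h
      refine hmove x hx hx1 ?_
      have h3 : ρ * b * ρ⁻¹ = x := by
        rw [hb, ha, show ρ * (ρ * (ρ * x * ρ⁻¹) * ρ⁻¹) * ρ⁻¹ = ρ ^ 3 * x * (ρ ^ 3)⁻¹ by simp [pow_succ, mul_assoc], hρ3]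
        simp
      rw [← h] at h3
      exact h3
    haveI : Fintype V := Fintype.ofFinite V
    have hs : ({⟨1, V.one_mem⟩, ⟨x, hx⟩, ⟨a, haV⟩, ⟨b, hbV⟩, ⟨y, hy⟩} : Finset V).card = 5 := by
      rw [Finset.card_insert_of_notMem, Finset.card_insert_of_notMem, Finset.card_insert_of_notMem,
        Finset.card_insert_of_notMem, Finset.card_singleton]
      · simp [Subtype.ext_iff]; exact h2
      · simp [Subtype.ext_iff]; exact ⟨hab, h1⟩
      · simp [Subtype.ext_iff]; exact ⟨hxa, hxb, h0⟩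
      · simp [Subtype.ext_iff]; exact ⟨hx1.symm, ha1.symm, hb1.symm, hy1.symm⟩
    have := Finset.card_le_univ ({⟨1, V.one_mem⟩, ⟨x, hx⟩, ⟨a, haV⟩, ⟨b, hbV⟩, ⟨y, hy⟩} : Finset V)
    rw [hs, ← Nat.card_eq_fintype_card, hV.1] at this
    omega
  have H : Cfsg.Agent.H47.TwoSinger.Hyp α r 2 :=
    { two := hT
      two_le := le_rfl
      invol := fun x => Subtype.ext (by
        rw [hcα, hcα, show t * (t * (x : G) * t⁻¹) * t⁻¹ = (t * t) * x * (t * t)⁻¹ by group, ht2]
        simp)
      comm := fun x => Subtype.ext (by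
        rw [hcα, hcr, hcr, hcα, show t * (ρ * (x : G) * ρ⁻¹) * t⁻¹ = (t * ρ) * x * (t * ρ)⁻¹ by group,
          htρ]
        group)
      period := MulEquiv.ext fun x => Subtype.ext (by
        rw [show (2 : ℕ) ^ 2 - 1 = 3 from rfl, hrk, hρ3]
        simp)
      sq_fix := fun x hx => Subtype.ext (by
        rw [Subgroup.coe_mul, ← pow_two, hV.2 _ (hVfix x hx)]
        rfl)
      card_fix := by rw [hfix, hcV]; rfl
      trans := fun x y hx hy hx1 hy1 => by
        obtain ⟨k, hk⟩ := hcover x (hVfix x hx) (fun h => hx1 (Subtype.ext h)) y (hVfix y hy)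
          (fun h => hy1 (Subtype.ext h))
        exact ⟨k, Subtype.ext ((hrk k x).trans hk)⟩ }
  rcases H.classify with hab | hs
  · rcases H.abelian_cases hab with hP | ⟨hall, hc⟩
    · obtain ⟨C⟩ := H.exists_coord
      obtain ⟨m, hexp, hcard, honto, -, -⟩ := H.homocyclic C hab hP
      refine Or.inr (Or.inl ⟨m + 1, Nat.succ_pos m, ?_⟩)
      letI : CommGroup T := { (inferInstance : Group T) with mul_comm := hab }
      obtain ⟨x, hx, hx1⟩ : ∃ x ∈ Cfsg.Agent.H47.TwoSinger.fix α, x ≠ 1 := by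
        by_contra hc
        push Not at hc
        have h1 := H.card_fix
        rw [Subgroup.eq_bot_iff_forall _ |>.mpr hc, Subgroup.card_bot] at h1
        simp at h1
      obtain ⟨a, ha⟩ := honto x hx
      obtain ⟨b, hb⟩ := honto (r x) (H.rho_mem hx)
      let pw : T → Multiplicative (ZMod (2 ^ (m + 1))) →* T := fun g =>
        AddMonoidHom.toMultiplicativeLeft
          (ZMod.lift (2 ^ (m + 1)) ⟨zmultiplesHom (Additive T) (Additive.ofMul g), by
            show ((2 ^ (m + 1) : ℕ) : ℤ) • Additive.ofMul g = 0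
            rw [natCast_zsmul, ← ofMul_pow, hexp, ofMul_one]⟩)
      have hpw : ∀ g, g ∈ (pw g).range := fun g => ⟨Multiplicative.ofAdd ((1 : ℤ) : ZMod (2 ^ (m + 1))), by
        show Additive.toMul _ = g
        rw [toAdd_ofAdd, ZMod.lift_coe]
        simp⟩
      let φ : Multiplicative (ZMod (2 ^ (m + 1))) × Multiplicative (ZMod (2 ^ (m + 1))) →* T :=
        (pw a).coprod (pw b)
      have haR : a ∈ φ.range := by
        obtain ⟨i, hi⟩ := hpw a
        exact ⟨(i, 1), by simp [φ, hi]⟩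
      have hbR : b ∈ φ.range := by
        obtain ⟨i, hi⟩ := hpw b
        exact ⟨(1, i), by simp [φ, hi]⟩
      have hlayer : ∀ i, i ≤ m → ∀ e ∈ Cfsg.Agent.H47.TwoSinger.fix α, ∃ g ∈ φ.range, g ^ (2 ^ i) = e := by
        intro i hi
        let f : T →* T := powMonoidHom (2 ^ i)
        have hle : Cfsg.Agent.H47.TwoSinger.fix α ≤ φ.range.map f := by
          have hsplit : ∀ g : T, (g ^ (2 ^ (m - i))) ^ (2 ^ i) = g ^ (2 ^ m) := fun g => by
            rw [← pow_mul, ← pow_add, Nat.sub_add_cancel hi]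
          have hx' : x ∈ φ.range.map f := ⟨a ^ (2 ^ (m - i)), pow_mem haR _, (hsplit a).trans ha⟩
          have hrx : r x ∈ φ.range.map f := ⟨b ^ (2 ^ (m - i)), pow_mem hbR _, (hsplit b).trans hb⟩
          intro e he
          by_cases he1 : e = 1
          · subst he1; exact one_mem _
          obtain ⟨k, hk⟩ := H.trans x e (Cfsg.Agent.H47.TwoSinger.mem_fix.mp hx)
            (Cfsg.Agent.H47.TwoSinger.mem_fix.mp he) hx1 he1
          -- `x * r x` is the third involution
          have hk3 : (r ^ 3) = 1 := H.period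
          have hk' : (r ^ (k % 3)) x = e := by
            rw [← hk]
            conv_rhs => rw [← Nat.div_add_mod k 3, pow_add, pow_mul, hk3, one_pow, one_mul]
          have h3 : k % 3 < 3 := Nat.mod_lt _ (by norm_num)
          rcases (by omega : k % 3 = 0 ∨ k % 3 = 1 ∨ k % 3 = 2) with h | h | h <;> rw [h] at hk'
          · rw [← hk']; exact hx'
          · rw [← hk', pow_one]; exact hrx
          · -- `r (r x) = x * r x`, as the product of the three involutions is central under `r`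
            set y := x * r x * (r ^ 2) x with hy
            have hyfix : y ∈ Cfsg.Agent.H47.TwoSinger.fix α := by
              refine mul_mem (mul_mem hx (H.rho_mem hx)) ?_
              rw [pow_two]; exact H.rho_mem (H.rho_mem hx)
            have hry : r y = y := by
              have h33 : r ((r ^ 2) x) = x := by
                rw [← MulAut.mul_apply, ← pow_succ', hk3, MulAut.one_apply]
              rw [hy, map_mul, map_mul, h33, show r (r x) = (r ^ 2) x by rw [pow_two]; rfl]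
              rw [mul_comm (r x * (r ^ 2) x) x, mul_assoc]
            have hy1 : y = 1 := by
              by_contra hy1
              refine hmove (y : G) (hVfix y hyfix) (fun h => hy1 (Subtype.ext h)) ?_
              rw [← hcr y]
              exact congrArg Subtype.val hry
            have he2 : (r ^ 2) x = (x * r x)⁻¹ := (inv_eq_of_mul_eq_one_right hy1).symm
            rw [← hk', he2]
            exact inv_mem (mul_mem hx' hrx)
        intro e he
        obtain ⟨g, hg, hge⟩ := hle he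
        exact ⟨g, hg, hge⟩
      have hall : ∀ i, i ≤ m + 1 → ∀ u : T, u ^ (2 ^ i) = 1 → u ∈ φ.range := by
        intro i
        induction i with
        | zero =>
          intro _ u hu
          rw [pow_zero, pow_one] at hu
          rw [hu]; exact one_mem _
        | succ i ih =>
          intro hi u hu
          obtain ⟨g, hg, hge⟩ := hlayer i (by omega) _ (H.pow_mem_fix_rho hP hu)
          have h1 : (u * g⁻¹) ^ (2 ^ i) = 1 := by rw [mul_pow, inv_pow, hge, mul_inv_cancel]
          have := mul_mem (ih (by omega) _ h1) hg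
          rwa [inv_mul_cancel_right] at this
      have hsurj : Function.Surjective φ := fun u => hall (m + 1) le_rfl u (hexp u)
      refine ⟨(MulEquiv.ofBijective φ ((Nat.bijective_iff_surjective_and_card φ).mpr ⟨hsurj, ?_⟩)).symm⟩
      rw [Nat.card_prod, Nat.card_congr Multiplicative.toAdd, Nat.card_zmod, hcard, ← pow_two, ← pow_mul,
        ← pow_mul, Nat.mul_comm]
    · refine Or.inl ⟨hc, fun x hx => ?_⟩
      have := congrArg Subtype.val (hall ⟨x, hx⟩)
      rw [pow_two]
      exact this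
  · obtain ⟨hsq, hc3⟩ := hs
    have hna : ¬ ∀ x y : T, Commute x y := by
      intro hab
      rcases H.abelian_cases hab with hP | ⟨-, hc⟩
      · obtain ⟨C⟩ := H.exists_coord
        obtain ⟨m, hexp, hcard, honto, -, -⟩ := H.homocyclic C hab hP
        rw [hc3, pow_right_inj₀ (by norm_num) (by norm_num)] at hcard
        obtain ⟨x, hx, hx1⟩ : ∃ x ∈ Cfsg.Agent.H47.TwoSinger.fix α, x ≠ 1 := by
          by_contra hc
          push Not at hc
          have h1 := H.card_fix
          rw [Subgroup.eq_bot_iff_forall _ |>.mpr hc, Subgroup.card_bot] at h1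
          simp at h1
        obtain ⟨u, hu⟩ := honto x hx
        have hm : m = 2 := by omega
        subst hm
        refine hx1 (hu.symm.trans ?_)
        rw [show (2 : ℕ) ^ 2 = 2 + 2 from rfl, pow_add, pow_two]
        exact H.sq_fix _ (Cfsg.Agent.H47.TwoSinger.mem_fix.mp (hsq u))
      · rw [hc3] at hc; norm_num at hc
    obtain ⟨A, ⟨x⟩⟩ := H.exists_sqExt hsq hna
    by_cases hA : ∃ s : GaloisField 2 2, s * s + s = A
    · obtain ⟨s, hs⟩ := hA
      letI : Fintype (GaloisField 2 2) := Fintype.ofFinite _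
      refine Or.inr (Or.inr (Or.inl ⟨GaloisField 2 2, inferInstance, inferInstance, ?_, fun P => ?_⟩))
      · rw [← Nat.card_eq_fintype_card, GaloisField.card 2 2 two_ne_zero]; rfl
      · exact Cfsg.Agent.H47.TwoSinger.nonempty_equiv_PSL_sylow x hs P
    · push Not at hA
      obtain ⟨K, hK1, hK2, hcard, hP⟩ := Cfsg.Agent.H47.TwoSinger.exists_unitary two_ne_zero x hA
      exact Or.inr (Or.inr (Or.inr ⟨K, hK1, hK2, hcard, hP⟩))

end Cfsg.Agent.S2933
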