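import Cfsg.Statements.S2934
import Cfsg.Agent.Coprime.External
import Cfsg.Agent.PGroups.Extraspecial
import Cfsg.Agent.PGroups.Basic
import Cfsg.Agent.H33.QuaternionAut
import Cfsg.Agent.S0016
-- import your own Cfsg.Agent.* helpers here

set_option autoImplicit false
open Cfsg

namespace Cfsg.Agent.S2934

open Subgroup
open scoped commutatorElement

section Helpers

open Subgroup

section Quaternion

variable {Q : Type*} [Group Q] [Finite Q]

/-- A faithful coprime configuration: in a group of order 8 with one involution, an automorphism of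
exponent dividing 3 preserving a cyclic subgroup of order 4 is trivial. -/
theorem fix_all_of_fix_four (h8 : Nat.card Q = 8) {x : Q} (hx : orderOf x = 4) {α : MulAut Q}
    (h3 : ∀ y, α (α (α y)) = y) (hmem : α x ∈ zpowers x) : ∀ y, α y = y := by
  have hx4 : x ^ 4 = 1 := hx ▸ pow_orderOf_eq_one x
  have hfix : α x = x := by
    obtain ⟨i, hi⟩ := mem_powers_iff_mem_zpowers.2 hmem
    have hi' : α x = x ^ (i % 4) := by
      rw [← pow_eq_pow_mod i hx4]; exact hi.symm
    have h := h3 x
    rw [hi', map_pow, hi', ← pow_mul, map_pow, hi', ← pow_mul] at h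
    have hord := orderOf_eq_iff (n := 4) (by norm_num) |>.1 hx
    have hmod : (i % 4) * ((i % 4) * (i % 4)) % 4 = 1 := by
      rw [pow_eq_pow_mod _ hx4] at h
      have hlt := Nat.mod_lt ((i % 4) * ((i % 4) * (i % 4))) (by norm_num : 4 > 0)
      have := pow_injOn_Iio_orderOf (x := x) (by rw [Set.mem_Iio, hx]; exact hlt)
        (show (1 : ℕ) ∈ Set.Iio (orderOf x) by rw [Set.mem_Iio, hx]; norm_num)
        (by simpa using h)
      exact this
    have : i % 4 = 1 := by
      have hlt := Nat.mod_lt i (by norm_num : 4 > 0)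
      interval_cases (i % 4) <;> simp_all
    rw [hi', this, pow_one]
  intro y
  have hidx : (zpowers x).index = 2 := by
    have := (zpowers x).card_mul_index
    rw [Nat.card_zpowers, hx, h8] at this
    omega
  by_cases hy : y ∈ zpowers x
  · obtain ⟨i, rfl⟩ := mem_zpowers_iff.1 hy
    rw [map_zpow, hfix]
  have hmem' : y⁻¹ * α y ∈ zpowers x := by
    rw [Subgroup.mul_mem_iff_of_index_two hidx, inv_mem_iff]
    refine ⟨fun h => absurd h hy, fun h => ?_⟩
    obtain ⟨i, hi⟩ := mem_zpowers_iff.1 h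
    refine absurd ⟨i, α.injective ?_⟩ hy
    show α (x ^ i) = α y
    rw [map_zpow, hfix, hi]
  obtain ⟨j, hj⟩ := mem_powers_iff_mem_zpowers.2 hmem'
  have hj' : α y = y * x ^ j := by
    simp only at hj
    rw [hj, mul_inv_cancel_left]
  have h := h3 y
  rw [hj', map_mul, map_pow, hfix, hj', map_mul, map_mul, map_pow, hfix, hj', mul_assoc, mul_assoc,
    ← pow_add, ← pow_add, mul_eq_left] at h
  have hd : orderOf x ∣ j := by
    have h' := orderOf_dvd_of_pow_eq_one h
    rw [hx] at h' ⊢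
    omega
  rw [hj', orderOf_dvd_iff_pow_eq_one.1 hd, mul_one]

/-- Two automorphisms of exponent 3: one of them times a power of the other is trivial. -/
theorem exists_mul_trivial (h8 : Nat.card Q = 8) (hu : ∀ a b : Q, orderOf a = 2 → orderOf b = 2 → a = b)
    {α β : MulAut Q} (hα3 : ∀ y, α (α (α y)) = y) (hβ3 : ∀ y, β (β (β y)) = y) (hc : α * β = β * α)
    (hα : ∃ y, α y ≠ y) :
    ∃ k : ℕ, k < 3 ∧ ∀ y, (α ^ k * β) y = y := by
  classical
  have := Fintype.ofFinite Q
  have hαc : ∀ y, α (β y) = β (α y) := fun y => congrArg (fun f : MulAut Q => f y) hc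
  -- an element of order four
  have hord : ∀ y : Q, y ≠ 1 → orderOf y = 2 ∨ orderOf y = 4 ∨ orderOf y = 8 := by
    intro y hy
    have h := orderOf_dvd_natCard y
    rw [h8] at h
    have h1 := Nat.le_of_dvd (by norm_num) h
    have h2 : orderOf y ≠ 1 := fun h => hy (orderOf_eq_one_iff.1 h)
    interval_cases orderOf y <;> simp_all
  have h4 : ∀ y, α y ≠ y → orderOf y = 4 := by
    intro y hy
    have hy1 : y ≠ 1 := fun h => hy (by rw [h, map_one])
    rcases hord y hy1 with h | h | h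
    · exact absurd (hu (α y) y (by rw [MulEquiv.orderOf_eq, h]) h) hy
    · exact h
    · exfalso
      have htop : zpowers y = ⊤ := Subgroup.eq_top_of_card_eq _ (by rw [Nat.card_zpowers, h, h8])
      obtain ⟨i, hi⟩ := mem_powers_iff_mem_zpowers.2 (htop ▸ mem_top (α y))
      simp only at hi
      have h' := hα3 y
      rw [← hi, map_pow, ← hi, ← pow_mul, map_pow, ← hi, ← pow_mul, pow_eq_pow_mod _ (h ▸ pow_orderOf_eq_one y),
        ] at h'
      have hmod : i * (i * i) % 8 = 1 := pow_injOn_Iio_orderOf (x := y)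
        (by rw [Set.mem_Iio, h]; exact Nat.mod_lt _ (by norm_num))
        (show (1 : ℕ) ∈ Set.Iio (orderOf y) by rw [Set.mem_Iio, h]; norm_num) (by simpa using h')
      have : i % 8 = 1 := by
        rw [Nat.mul_mod, Nat.mul_mod i i] at hmod
        have hlt := Nat.mod_lt i (by norm_num : 8 > 0)
        interval_cases (i % 8) <;> simp_all
      refine hy ?_
      rw [← hi, pow_eq_pow_mod i (h ▸ pow_orderOf_eq_one y), this, pow_one]
  obtain ⟨x, hx⟩ := hα
  have hx4 := h4 x hx
  have hnot : ∀ γ : MulAut Q, (∀ y, γ (γ (γ y)) = y) → γ x ∈ zpowers x → ∀ y, γ y = y :=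
    fun γ h h' => fix_all_of_fix_four h8 hx4 h h'
  have hout : α x ∉ zpowers x := fun h => hx (hnot α hα3 h x)
  set S : Finset Q := (Finset.univ : Finset Q).filter (fun y => y ∈ zpowers x ∨ y ∈ zpowers (α x) ∨
    y ∈ zpowers (α (α x))) with hS
  have hz : ∀ a : Q, orderOf a = 4 → orderOf (a ^ 2) = 2 := fun a ha => by
    rw [orderOf_pow' _ two_ne_zero, ha]; rfl
  have hcases : ∀ a y : Q, orderOf a = 4 → y ∈ zpowers a → y = 1 ∨ y = a ∨ y = a ^ 2 ∨ y = a ^ 3 := by
    intro a y ha hy
    obtain ⟨i, hi⟩ := mem_powers_iff_mem_zpowers.2 hy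
    simp only at hi
    rw [← hi, pow_eq_pow_mod i (ha ▸ pow_orderOf_eq_one a)]
    have hlt := Nat.mod_lt i (by norm_num : 4 > 0)
    interval_cases (i % 4) <;> simp
  have hcov : ∀ y, y ∈ zpowers x ∨ y ∈ zpowers (α x) ∨ y ∈ zpowers (α (α x)) := by
    have hax4 : orderOf (α x) = 4 := by rw [MulEquiv.orderOf_eq, hx4]
    have haax4 : orderOf (α (α x)) = 4 := by rw [MulEquiv.orderOf_eq, hax4]
    have hsep : ∀ a : Q, orderOf a = 4 → ∀ b : Q, b ∈ zpowers a → b ≠ 1 → b ≠ a ^ 2 → a ∈ zpowers b := by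
      intro a ha b hb h1 h2
      rcases hcases a b ha hb with e | e | e | e
      · exact absurd e h1
      · rw [e]; exact mem_zpowers a
      · exact absurd e h2
      · have e' : a = b ^ 3 := by
          rw [e, ← pow_mul, pow_eq_pow_mod _ (ha ▸ pow_orderOf_eq_one a)]; simp
        rw [e']; exact npow_mem_zpowers b 3
    have h12 : α x ∉ zpowers x := hout
    have h23 : α (α x) ∉ zpowers (α x) := by
      intro h
      obtain ⟨i, hi⟩ := mem_zpowers_iff.1 h
      exact hout ⟨i, α.injective (by show α (x ^ i) = α (α x); rw [map_zpow]; exact hi)⟩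
    have h13 : α (α x) ∉ zpowers x := by
      intro h
      obtain ⟨i, hi⟩ := mem_zpowers_iff.1 h
      have h' : x ∈ zpowers (α x) := ⟨i, by show (α x) ^ i = x; rw [← map_zpow, hi, hα3]⟩
      rcases hcases (α x) x hax4 h' with e | e | e | e
      · rw [e, orderOf_one] at hx4; omega
      · exact hx e.symm
      · rw [e] at hx4; rw [hz _ hax4] at hx4; omega
      · exact hout (hsep (α x) hax4 x h' (fun h => by rw [h, orderOf_one] at hx4; omega)
          (fun h => by rw [h, hz _ hax4] at hx4; omega))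
    -- six elements of order four and the two others
    set z := x ^ 2 with hzdef
    have hzz : ∀ a : Q, orderOf a = 4 → a ^ 2 = z := fun a ha => hu _ _ (hz a ha) (hz x hx4)
    have hlist : ([1, z, x, x ^ 3, α x, α x ^ 3, α (α x), α (α x) ^ 3] : List Q).Nodup := by
      have ne1 : ∀ a : Q, orderOf a = 4 → (1 : Q) ≠ a ∧ z ≠ a ∧ (1 : Q) ≠ a ^ 3 ∧ z ≠ a ^ 3 ∧ a ≠ a ^ 3 := by
        intro a ha
        have hinj : ∀ i j : ℕ, i < 4 → j < 4 → a ^ i = a ^ j → i = j := fun i j hi hj h =>
          pow_injOn_Iio_orderOf (x := a) (by rw [Set.mem_Iio, ha]; exact hi) (by rw [Set.mem_Iio, ha]; exact hj) h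
        have hza := hzz a ha
        refine ⟨fun h => ?_, fun h => ?_, fun h => ?_, fun h => ?_, fun h => ?_⟩
        · exact absurd (hinj 0 1 (by norm_num) (by norm_num) (by simpa using h)) (by norm_num)
        · exact absurd (hinj 2 1 (by norm_num) (by norm_num) (by rw [hza, pow_one]; exact h)) (by norm_num)
        · exact absurd (hinj 0 3 (by norm_num) (by norm_num) (by simpa using h)) (by norm_num)
        · exact absurd (hinj 2 3 (by norm_num) (by norm_num) (by rw [hza]; exact h)) (by norm_num)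
        · exact absurd (hinj 1 3 (by norm_num) (by norm_num) (by simpa using h)) (by norm_num)
      have dis : ∀ a b : Q, orderOf a = 4 → orderOf b = 4 → b ∉ zpowers a →
          a ≠ b ∧ a ≠ b ^ 3 ∧ a ^ 3 ≠ b ∧ a ^ 3 ≠ b ^ 3 := by
        intro a b ha hb hba
        have hb3 : (b ^ 3) ^ 3 = b := by
          rw [← pow_mul, pow_eq_pow_mod _ (hb ▸ pow_orderOf_eq_one b)]; simp
        refine ⟨fun h => hba (h ▸ mem_zpowers a), fun h => hba ?_, fun h => hba (h ▸ npow_mem_zpowers a 3),
          fun h => hba ?_⟩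
        · rw [← hb3, ← h]; exact npow_mem_zpowers a 3
        · rw [← hb3, ← h, ← pow_mul]; exact npow_mem_zpowers a _
      have h1z : (1 : Q) ≠ z := fun h => by have := hz x hx4; rw [← hzdef, ← h, orderOf_one] at this; omega
      obtain ⟨a1, a2, a3, a4, a5⟩ := ne1 x hx4
      obtain ⟨b1, b2, b3, b4, b5⟩ := ne1 (α x) hax4
      obtain ⟨c1, c2, c3, c4, c5⟩ := ne1 (α (α x)) haax4
      obtain ⟨d1, d2, d3, d4⟩ := dis x (α x) hx4 hax4 h12
      obtain ⟨e1, e2, e3, e4⟩ := dis x (α (α x)) hx4 haax4 h13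
      obtain ⟨f1, f2, f3, f4⟩ := dis (α x) (α (α x)) hax4 haax4 h23
      simp only [List.nodup_cons, List.mem_cons, List.not_mem_nil, or_false, List.nodup_nil, and_true]
      tauto
    intro y
    have huniv : ([1, z, x, x ^ 3, α x, α x ^ 3, α (α x), α (α x) ^ 3] : List Q).toFinset = Finset.univ := by
      refine Finset.eq_univ_of_card _ ?_
      rw [List.toFinset_card_of_nodup hlist, ← Nat.card_eq_fintype_card, h8]
      rfl
    have hy := Finset.mem_univ y
    rw [← huniv, List.mem_toFinset] at hy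
    simp only [List.mem_cons, List.not_mem_nil, or_false] at hy
    rcases hy with e | e | e | e | e | e | e | e <;> rw [e]
    · exact Or.inl (one_mem _)
    · exact Or.inl (npow_mem_zpowers x 2)
    · exact Or.inl (mem_zpowers x)
    · exact Or.inl (npow_mem_zpowers x 3)
    · exact Or.inr (Or.inl (mem_zpowers _))
    · exact Or.inr (Or.inl (npow_mem_zpowers _ 3))
    · exact Or.inr (Or.inr (mem_zpowers _))
    · exact Or.inr (Or.inr (npow_mem_zpowers _ 3))
  have hz1 : ∀ k : ℕ, ∀ y, (α ^ k * β) ((α ^ k * β) ((α ^ k * β) y)) = y := by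
    intro k y
    have hα3' : α ^ 3 = 1 := MulEquiv.ext fun y => by simpa [pow_succ] using hα3 y
    have hβ3' : β ^ 3 = 1 := MulEquiv.ext fun y => by simpa [pow_succ] using hβ3 y
    have h : (α ^ k * β) ^ 3 = 1 := by
      rw [((show Commute α β from hc).pow_left k).mul_pow, ← pow_mul, mul_comm k 3, pow_mul, hα3', one_pow,
        hβ3', one_mul]
    simpa [pow_succ] using congrArg (fun f : MulAut Q => f y) h
  have hback : ∀ k : ℕ, (∃ i : ℤ, (α ^ k * β) x = x ^ i) → ∀ y, (α ^ k * β) y = y := fun k ⟨i, hi⟩ =>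
    hnot _ (hz1 k) (hi ▸ zpow_mem_zpowers x i)
  rcases hcov (β x) with h | h | h
  · obtain ⟨i, hi⟩ := mem_zpowers_iff.1 h
    exact ⟨0, by norm_num, hback 0 ⟨i, by simp [hi]⟩⟩
  · obtain ⟨i, hi⟩ := mem_zpowers_iff.1 h
    refine ⟨2, by norm_num, hback 2 ⟨i, ?_⟩⟩
    show (α ^ 2 * β) x = x ^ i
    rw [pow_two, MulAut.mul_apply, MulAut.mul_apply, ← hi, map_zpow, map_zpow, hα3]
  · obtain ⟨i, hi⟩ := mem_zpowers_iff.1 h
    refine ⟨1, by norm_num, hback 1 ⟨i, ?_⟩⟩
    show (α ^ 1 * β) x = x ^ i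
    rw [pow_one, MulAut.mul_apply, ← hi, map_zpow, hα3]

end Quaternion

section Main

/-- The Frattini subgroup of a 2-group centralizes every normal subgroup of order four. -/
theorem frattini_le_centralizer_four {G : Type*} [Group G] [Finite G] (hG : IsPGroup 2 G)
    (U : Subgroup G) [U.Normal] (hU : Nat.card U = 4) : frattini G ≤ centralizer (U : Set G) := by
  classical
  have : Fact (Nat.Prime 2) := ⟨Nat.prime_two⟩
  have := Fintype.ofFinite G
  obtain ⟨⟨c, hc⟩, hc1'⟩ := Subgroup.ne_bot_iff_exists_ne_one.1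
    (Cfsg.Agent.PGroups.inf_center_ne_bot hG U (fun h => by rw [h, Subgroup.card_bot] at hU; omega))
  have hc1 : c ≠ 1 := fun h => hc1' (Subtype.ext h)
  have hsq : ∀ g : G, g ^ 2 ∈ centralizer (U : Set G) := by
    intro g
    rw [mem_centralizer_iff]
    intro u hu
    suffices h : g * (g * u * g⁻¹) * g⁻¹ = u by
      conv_lhs => rw [← h]
      rw [pow_two]; group
    have hn : ∀ v ∈ U, g * v * g⁻¹ ∈ U := fun v hv => Subgroup.Normal.conj_mem ‹_› v hv g
    have hinj : ∀ v w : G, g * v * g⁻¹ = g * w * g⁻¹ → v = w := fun v w h => by simpa using h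
    have hgc : g * c * g⁻¹ = c := by
      rw [Subgroup.mem_center_iff.1 hc.2 g, mul_inv_cancel_right]
    by_cases h1 : u = 1
    · simp [h1]
    by_cases h2 : u = c
    · rw [h2, hgc, hgc]
    by_cases h3 : g * u * g⁻¹ = u
    · rw [h3, h3]
    set v := g * u * g⁻¹ with hv
    by_contra h4
    have hv1 : v ≠ 1 := fun h => h1 (by simpa [hv] using h)
    have hvc : v ≠ c := fun h => h2 (hinj _ _ (h.trans hgc.symm))
    have hw1 : g * v * g⁻¹ ≠ 1 := fun h => hv1 (by simpa using h)
    have hwc : g * v * g⁻¹ ≠ c := fun h => hvc (hinj _ _ (h.trans hgc.symm))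
    have hwv : g * v * g⁻¹ ≠ v := fun h => h3 (hinj _ _ h)
    have hsub : ({1, c, u, v, g * v * g⁻¹} : Finset G) ⊆ (Finset.univ.filter fun y => y ∈ U) := by
      intro y hy
      simp only [Finset.mem_insert, Finset.mem_singleton] at hy
      refine Finset.mem_filter.2 ⟨Finset.mem_univ _, ?_⟩
      rcases hy with e | e | e | e | e <;> rw [e]
      exacts [one_mem U, hc.1, hu, hn u hu, hn _ (hn u hu)]
    have h5 := Finset.card_le_card hsub
    rw [Finset.card_insert_of_notMem (by simp [Ne.symm hc1, Ne.symm h1, Ne.symm hv1, Ne.symm hw1]),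
      Finset.card_insert_of_notMem (by simp [Ne.symm h2, Ne.symm hvc, Ne.symm hwc]),
      Finset.card_insert_of_notMem (by simp [Ne.symm h3, Ne.symm h4]),
      Finset.card_pair (Ne.symm hwv)] at h5
    have h6 : (Finset.univ.filter fun y => y ∈ U).card = 4 := by
      rw [← hU, Nat.card_eq_fintype_card, Fintype.card_subtype]
    omega
  refine Cfsg.Agent.PGroups.frattini_le_of_commutator_le (p := 2) (centralizer (U : Set G)) ?_ hsq
  rw [commutator_def, Subgroup.commutator_le]
  intro a _ b _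
  have e : ⁅a, b⁆ = a ^ 2 * ((a⁻¹ * b) ^ 2 * (b⁻¹) ^ 2) := by
    rw [commutatorElement_def, pow_two, pow_two, pow_two]; group
  rw [e]
  exact mul_mem (hsq a) (mul_mem (hsq _) (hsq _))

open Cfsg.Agent

variable {W : Type*} [Group W] [Finite W]

/-- The fixed subgroup of one automorphism. -/
def fixOne (a : MulAut W) : Subgroup W where
  carrier := {x | a x = x}
  mul_mem' {x y} hx hy := by simp_all
  one_mem' := map_one a
  inv_mem' {x} hx := by simp_all

theorem mem_fixOne {a : MulAut W} {x : W} : x ∈ fixOne a ↔ a x = x := Iff.rfl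

/-- Restriction of a commuting automorphism to a fixed subgroup. -/
def restrictFix {a e : MulAut W} (h : a * e = e * a) : MulAut (fixOne e) where
  toFun x := ⟨a x, by
    rw [mem_fixOne, ← MulAut.mul_apply, ← h, MulAut.mul_apply, x.2]⟩
  invFun x := ⟨a⁻¹ x, by
    rw [mem_fixOne, ← MulAut.mul_apply, ((show Commute a e from h).inv_left).symm.eq, MulAut.mul_apply, x.2]⟩
  left_inv x := Subtype.ext (by show a⁻¹ (a (x : W)) = x; rw [← MulAut.mul_apply, inv_mul_cancel]; rfl)
  right_inv x := Subtype.ext (by show a (a⁻¹ (x : W)) = x; rw [← MulAut.mul_apply, mul_inv_cancel]; rfl)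
  map_mul' x y := Subtype.ext (map_mul a (x : W) y)

theorem restrictFix_apply {a e : MulAut W} (h : a * e = e * a) (x : fixOne e) :
    ((restrictFix h x : fixOne e) : W) = a (x : W) := rfl

/-- The consequences for a single fixed subgroup. -/
theorem local_dichotomy {p : ℕ} [Fact p.Prime] (hW : IsPGroup 2 W) (hp : p ≠ 2) {e : MulAut W}
    (hone : ∀ x y : W, orderOf x = 2 → orderOf y = 2 → e x = x → e y = y → x = y)
    {a : MulAut W} (ha : a * e = e * a) (hpa : ∃ k, a ^ p ^ k = 1) (hne : ∃ x, e x = x ∧ a x ≠ x) :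
    p = 3 ∧ Nat.card (fixOne e) = 8 ∧ ∀ x ∈ fixOne e, a (a (a x)) = x := by
  have : Fact (Nat.Prime 2) := ⟨Nat.prime_two⟩
  have hQ : IsPGroup 2 (fixOne e) := hW.to_subgroup _
  have huniq : ∀ H K : Subgroup (fixOne e), Nat.card H = 2 → Nat.card K = 2 → H = K := by
    intro H K hH hK
    obtain ⟨u, hu⟩ := exists_prime_orderOf_dvd_card' (G := H) 2 (by rw [hH])
    obtain ⟨v, hv⟩ := exists_prime_orderOf_dvd_card' (G := K) 2 (by rw [hK])
    have hu' : orderOf ((u : fixOne e) : W) = 2 := by rw [Subgroup.orderOf_coe, Subgroup.orderOf_coe, hu]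
    have hv' : orderOf ((v : fixOne e) : W) = 2 := by rw [Subgroup.orderOf_coe, Subgroup.orderOf_coe, hv]
    have huv : (u : fixOne e) = v := Subtype.ext (hone _ _ hu' hv' u.1.2 v.1.2)
    have hH' : zpowers (u : fixOne e) = H := Subgroup.eq_of_le_of_card_ge (zpowers_le.2 u.2)
      (by rw [hH, Nat.card_zpowers, Subgroup.orderOf_coe, hu])
    have hK' : zpowers (v : fixOne e) = K := Subgroup.eq_of_le_of_card_ge (zpowers_le.2 v.2)
      (by rw [hK, Nat.card_zpowers, Subgroup.orderOf_coe, hv])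
    rw [← hH', ← hK', huv]
  obtain ⟨k, hk⟩ := hpa
  set α := restrictFix ha with hαdef
  have hpow : ∀ (j : ℕ) (x : fixOne e), (((α ^ j) x : fixOne e) : W) = (a ^ j) (x : W) := by
    intro j
    induction j with
    | zero => intro x; rfl
    | succ j ih =>
      intro x
      rw [pow_succ', pow_succ', MulAut.mul_apply, MulAut.mul_apply, restrictFix_apply, ih]
  have hαk : α ^ p ^ k = 1 := MulEquiv.ext fun x => Subtype.ext (by rw [hpow, hk]; rfl)
  have hα1 : α ≠ 1 := by
    obtain ⟨x, hx, hax⟩ := hne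
    exact fun h => hax (congrArg (fun f : MulAut (fixOne e) => ((f ⟨x, hx⟩ : fixOne e) : W)) h)
  have hodd : Odd (orderOf α) := by
    have hpo : Odd (p ^ k) := ((Fact.out : p.Prime).odd_of_ne_two hp).pow
    exact hpo.of_dvd_nat (orderOf_dvd_of_pow_eq_one hαk)
  have key : ∀ (n : ℕ) (ψ : fixOne e ≃* QuaternionGroup (2 ^ n)),
      p = 3 ∧ Nat.card (fixOne e) = 8 ∧ ∀ x ∈ fixOne e, a (a (a x)) = x := by
    intro n ψ
    set β := MulAut.congr ψ α with hβ
    have ho : orderOf β = orderOf α := MulEquiv.orderOf_eq (MulAut.congr ψ) α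
    obtain ⟨hn, h3, -⟩ := Cfsg.Agent.H33.QuatAut.quaternion_aut β (ho ▸ hodd)
      (fun h => hα1 ((MulAut.congr ψ).injective (h.trans (map_one _).symm)))
    have h3' : α ^ 3 = 1 := by
      rw [← orderOf_dvd_iff_pow_eq_one, ← ho]
      exact orderOf_dvd_of_pow_eq_one h3
    refine ⟨?_, ?_, fun x hx => ?_⟩
    · obtain ⟨j, -, hj⟩ := (Nat.dvd_prime_pow (Fact.out : p.Prime)).1 (orderOf_dvd_of_pow_eq_one hαk)
      have hj0 : j ≠ 0 := fun h => hα1 (orderOf_eq_one_iff.1 (by rw [hj, h, pow_zero]))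
      have hdvd : p ∣ 3 := ((dvd_pow_self p hj0).trans (hj ▸ dvd_refl (orderOf α))).trans
        (orderOf_dvd_of_pow_eq_one h3')
      exact (Nat.prime_dvd_prime_iff_eq Fact.out Nat.prime_three).1 hdvd
    · subst hn
      have : NeZero (2 ^ 1 : ℕ) := ⟨by norm_num⟩
      rw [Nat.card_congr ψ.toEquiv, Nat.card_eq_fintype_card, QuaternionGroup.card]
      norm_num
    · have := congrArg (fun f : MulAut (fixOne e) => ((f ⟨x, hx⟩ : fixOne e) : W)) h3'
      simp only [hpow] at this
      simpa [pow_succ] using this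
  rcases Cfsg.Agent.S0016.result 2 hQ huniq with hcyc | ⟨-, n, ⟨ψ⟩⟩
  · exfalso
    -- a cyclic 2-group has no automorphism of odd order other than the identity
    obtain ⟨m, hm⟩ := IsPGroup.iff_card.1 hQ
    have hcard : Nat.card (MulAut (fixOne e)) = Nat.totient (2 ^ m) := by
      rw [IsCyclic.card_mulAut, hm]
    have hdvd := orderOf_dvd_natCard α
    rw [hcard] at hdvd
    rcases Nat.eq_zero_or_pos m with rfl | hm0
    · simp at hdvd; exact hα1 hdvd
    · rw [Nat.totient_prime_pow Nat.prime_two hm0, show 2 - 1 = 1 from rfl, mul_one] at hdvd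
      obtain ⟨j, -, hj⟩ := (Nat.dvd_prime_pow Nat.prime_two).1 hdvd
      rcases Nat.eq_zero_or_pos j with rfl | hj0
      · exact hα1 (orderOf_eq_one_iff.1 hj)
      · rw [hj] at hodd
        exact Nat.not_odd_iff_even.2 ((Nat.even_pow).2 ⟨even_two, by omega⟩) hodd
  · exact key n ψ

end Main

end Helpers

/-- Let p be an odd prime, W a finite 2-group and E a non-cyclic abelian p-subgroup of Aut(W) such that, for every nontrivial e ∈ E, the fixed points of e in W contain at most one involution. Then E has order 9, W is extraspecial of order 2⁵, 2⁷ or 2⁹, and the common fixed points of E in W form exactly the centre Z(W). -/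
theorem result {W : Type*} [Group W] [Finite W] (hW : IsPGroup 2 W) {p : ℕ} [Fact p.Prime] (hp : p ≠ 2) (E : Subgroup (MulAut W)) (hE : IsPGroup p ↥E) (hab : IsMulCommutative ↥E) (hnc : ¬ IsCyclic ↥E) (hfix : ∀ e ∈ E, e ≠ 1 → ∀ x y : W, orderOf x = 2 → orderOf y = 2 → e x = x → e y = y → x = y) : Nat.card ↥E = 9 ∧ Cfsg.IsExtraspecial 2 W ∧ (Nat.card W = 2 ^ 5 ∨ Nat.card W = 2 ^ 7 ∨ Nat.card W = 2 ^ 9) ∧ {x : W | ∀ e ∈ E, e x = x} = (Subgroup.center W : Set W) := by
  classical
  have : Fact (Nat.Prime 2) := ⟨Nat.prime_two⟩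
  have hEcomm : ∀ a ∈ E, ∀ b ∈ E, a * b = b * a := fun a ha b hb =>
    congrArg Subtype.val (hab.1.1 ⟨a, ha⟩ ⟨b, hb⟩)
  have hpa : ∀ a ∈ E, ∃ k, a ^ p ^ k = 1 := fun a ha => by
    obtain ⟨k, hk⟩ := hE ⟨a, ha⟩
    exact ⟨k, congrArg Subtype.val hk⟩
  have hcop : (Nat.card E).Coprime (Nat.card W) := by
    obtain ⟨a, ha⟩ := IsPGroup.iff_card.1 hE
    obtain ⟨b, hb⟩ := IsPGroup.iff_card.1 hW
    rw [ha, hb]
    exact Nat.Coprime.pow _ _ ((Nat.coprime_primes Fact.out Nat.prime_two).2 hp)
  -- generation of an invariant subgroup by fixed points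
  have gen : ∀ Y : Subgroup W, (∀ a ∈ E, ∀ y ∈ Y, a y ∈ Y) → ∀ M : Subgroup W,
      (∀ e ∈ E, e ≠ 1 → Y ⊓ fixOne e ≤ M) → Y ≤ M := by
    intro Y hY M hM
    letI : MulDistribMulAction E Y :=
      { smul := fun a y => ⟨(a : MulAut W) y, hY a a.2 y y.2⟩
        one_smul := fun y => Subtype.ext rfl
        mul_smul := fun a b y => Subtype.ext rfl
        smul_mul := fun a y z => Subtype.ext (map_mul (a : MulAut W) (y : W) z)
        smul_one := fun a => Subtype.ext (map_one (a : MulAut W)) }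
    have hcop' : (Nat.card E).Coprime (Nat.card Y) := hcop.coprime_dvd_right Y.card_subgroup_dvd_card
    have := Cfsg.Agent.Coprime.eq_top_of_fixed_le (A := E) (G := Y) hcop' hnc (M := M.subgroupOf Y)
      (fun a ha y hy => hM a a.2 (fun h => ha (Subtype.ext h)) ⟨y.2, congrArg Subtype.val hy⟩)
    exact Subgroup.subgroupOf_eq_top.1 this
  have hEbot : E ≠ ⊥ := fun h => hnc (h ▸ inferInstance)
  have hnotAllFix : ¬ ∀ e ∈ E, e ≠ 1 → ∀ a ∈ E, ∀ x ∈ fixOne e, a x = x := by
    intro h
    obtain ⟨⟨a, ha⟩, ha1'⟩ := Subgroup.ne_bot_iff_exists_ne_one.1 hEbot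
    have ha1 : a ≠ 1 := fun h' => ha1' (Subtype.ext h')
    refine ha1 (MulEquiv.ext fun x => ?_)
    exact gen ⊤ (fun _ _ _ _ => mem_top _) (fixOne a) (fun e he he1 y hy => h e he he1 a ha y hy.2) (mem_top x)
  -- the common involution
  obtain ⟨z, hz2, hzE, hzc⟩ : ∃ z : W, orderOf z = 2 ∧ (∀ a ∈ E, a z = z) ∧ z ∈ center W := by
    set V : Subgroup W := center W with hVdef
    have hV : V ≠ ⊥ := by
      intro h
      have hnt : Nontrivial W := by
        by_contra hc
        rw [not_nontrivial_iff_subsingleton] at hc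
        exact hnotAllFix fun e _ _ a _ x _ => Subsingleton.elim _ _
      have := hW.center_nontrivial
      exact (Subgroup.nontrivial_iff_ne_bot _).1 this h
    let U : Subgroup W :=
      { carrier := {x | x ∈ V ∧ x ^ 2 = 1}
        mul_mem' := fun {x y} hx hy => ⟨V.mul_mem hx.1 hy.1, by
          rw [(show Commute x y from Subgroup.mem_center_iff.1 hy.1 x).mul_pow, hx.2, hy.2, one_mul]⟩
        one_mem' := ⟨V.one_mem, one_pow 2⟩
        inv_mem' := fun {x} hx => ⟨V.inv_mem hx.1, by rw [inv_pow, hx.2, inv_one]⟩ }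
    have hU : ∀ a ∈ E, ∀ y ∈ U, a y ∈ U := fun a _ y hy => ⟨Subgroup.mem_center_iff.2 fun g => by
      obtain ⟨g', rfl⟩ := a.surjective g
      rw [← map_mul, ← map_mul, Subgroup.mem_center_iff.1 hy.1], by rw [← map_pow, hy.2, map_one]⟩
    obtain ⟨t, htV, ht⟩ := Cfsg.Agent.PGroups.exists_orderOf_eq (p := 2) hW hV
    by_contra hcon
    have : U ≤ ⊥ := gen U hU ⊥ fun e he he1 u hu => by
      rw [Subgroup.mem_bot]
      by_contra hu1
      have hu2 : orderOf u = 2 := orderOf_eq_prime hu.1.2 hu1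
      refine hcon ⟨u, hu2, fun a ha => ?_, hu.1.1⟩
      refine hfix e he he1 (a u) u (by rw [MulEquiv.orderOf_eq, hu2]) hu2 ?_ hu.2
      rw [← MulAut.mul_apply, hEcomm e he a ha, MulAut.mul_apply, hu.2]
    have h1 : t ∈ U := ⟨htV, ht ▸ pow_orderOf_eq_one t⟩
    have h2 := Subgroup.mem_bot.1 (this h1)
    rw [h2, orderOf_one] at ht
    omega
  have hloc : ∀ e ∈ E, e ≠ 1 → ∀ a ∈ E, (∃ x, e x = x ∧ a x ≠ x) →
      p = 3 ∧ Nat.card (fixOne e) = 8 ∧ ∀ x ∈ fixOne e, a (a (a x)) = x := fun e he he1 a ha hne =>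
    local_dichotomy hW hp (hfix e he he1) (hEcomm a ha e he) (hpa a ha) hne
  obtain ⟨e₀, he₀, he₀1, a₀, ha₀, x₀, hx₀, hax₀⟩ : ∃ e ∈ E, e ≠ 1 ∧ ∃ a ∈ E, ∃ x ∈ fixOne e, a x ≠ x := by
    simpa only [not_forall, exists_prop] using hnotAllFix
  have hp3 : p = 3 := (hloc e₀ he₀ he₀1 a₀ ha₀ ⟨x₀, hx₀, hax₀⟩).1
  -- exponent three
  have h3fix : ∀ e ∈ E, e ≠ 1 → ∀ a ∈ E, ∀ x ∈ fixOne e, a (a (a x)) = x := by
    intro e he he1 a ha x hx
    by_cases hne : ∃ y, e y = y ∧ a y ≠ y
    · exact (hloc e he he1 a ha hne).2.2 x hx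
    · simp only [not_exists, not_and, not_not] at hne
      rw [hne x hx, hne x hx, hne x hx]
  have hexp : ∀ a ∈ E, a ^ 3 = 1 := by
    intro a ha
    refine MulEquiv.ext fun x => ?_
    have hM : x ∈ fixOne (a ^ 3) := gen ⊤ (fun _ _ _ _ => mem_top _) (fixOne (a ^ 3))
      (fun e he he1 y hy => by
        rw [mem_fixOne, show a ^ 3 = a * a * a by rw [pow_succ, pow_two], MulAut.mul_apply, MulAut.mul_apply]
        exact h3fix e he he1 a ha y hy.2) (mem_top x)
    exact hM
  -- moved elements have order four and generate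
  have hQgen : ∀ e ∈ E, e ≠ 1 → ∀ a ∈ E, ∀ x ∈ fixOne e, a x ≠ x →
      ∀ Y : Subgroup W, x ∈ Y → a x ∈ Y → fixOne e ≤ Y := by
    intro e he he1 a ha x hx hax Y hxY haxY
    obtain ⟨-, h8, -⟩ := hloc e he he1 a ha ⟨x, hx, hax⟩
    set α := restrictFix (hEcomm a ha e he) with hα
    have hα3 : ∀ y, α (α (α y)) = y := fun y => Subtype.ext (h3fix e he he1 a ha y y.2)
    set X : fixOne e := ⟨x, hx⟩
    have hle : Y.subgroupOf (fixOne e) = ⊤ := by
      obtain ⟨k, hk⟩ : ∃ k, orderOf X = 2 ^ k := by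
        obtain ⟨k, hk⟩ := IsPGroup.iff_orderOf.1 (hW.to_subgroup (fixOne e)) X
        exact ⟨k, hk⟩
      have hd : orderOf X ∣ 8 := h8 ▸ orderOf_dvd_natCard X
      have hk3 : k ≤ 3 := by
        have := Nat.le_of_dvd (by norm_num) hd
        rw [hk] at this
        exact (Nat.pow_le_pow_iff_right (by norm_num)).1 (this.trans (by norm_num : 8 ≤ 2 ^ 3))
      have hX1 : X ≠ 1 := fun h => hax (by
        have : x = 1 := congrArg Subtype.val h
        rw [this, map_one])
      by_cases h8X : orderOf X = 8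
      · refine top_le_iff.1 ?_
        rw [← (Subgroup.eq_top_of_card_eq (zpowers X) (by rw [Nat.card_zpowers, h8X, h8]))]
        exact zpowers_le.2 hxY
      have h2X : orderOf X ≠ 2 := fun h => hax (by
        have hx2 : orderOf x = 2 := by rw [← h, ← Subgroup.orderOf_coe X]
        refine hfix e he he1 (a x) x (by rw [MulEquiv.orderOf_eq, hx2]) hx2 ?_ hx
        rw [← MulAut.mul_apply, hEcomm e he a ha, MulAut.mul_apply, hx])
      have h4X : orderOf X = 4 := by
        interval_cases k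
        · simp at hk; exact absurd hk hX1
        · simp at hk; exact absurd hk h2X
        · simpa using hk
        · simp at hk; exact absurd hk h8X
      have hout : α X ∉ zpowers X := fun h =>
        hax (congrArg Subtype.val (fix_all_of_fix_four h8 h4X hα3 h X))
      refine Subgroup.eq_top_of_card_eq _ ?_
      have hzle : zpowers X ≤ Y.subgroupOf (fixOne e) := zpowers_le.2 hxY
      have hlt : zpowers X < Y.subgroupOf (fixOne e) := lt_of_le_of_ne hzle fun h => hout (h ▸ haxY)
      have h4 := Subgroup.card_dvd_of_le hzle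
      have hlt' : Nat.card (zpowers X) < Nat.card (Y.subgroupOf (fixOne e)) := by
        refine lt_of_le_of_ne (Subgroup.card_le_of_le hzle) fun h => hlt.ne ?_
        exact Subgroup.eq_of_le_of_card_ge hzle h.ge
      have h8' := (Y.subgroupOf (fixOne e)).card_subgroup_dvd_card
      rw [Nat.card_zpowers, h4X] at h4 hlt'
      rw [h8] at h8' ⊢
      have := Nat.le_of_dvd (by norm_num) h8'
      interval_cases (Nat.card (Y.subgroupOf (fixOne e))) <;> omega
    exact Subgroup.subgroupOf_eq_top.1 hle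
  set Z : Subgroup W := zpowers z with hZdef
  have hzfix : ∀ e ∈ E, z ∈ fixOne e := fun e he => hzE e he
  have hZ : ∀ e ∈ E, Z ≤ fixOne e := fun e he => zpowers_le.2 (hzfix e he)
  -- elements of a fixed subgroup fixed by all of `E`
  have hF : ∀ e ∈ E, e ≠ 1 → ∀ x ∈ fixOne e, (∀ a ∈ E, a x = x) → x ∈ Z := by
    intro e he he1 x hx hall
    by_contra hxZ
    have hmem : ∀ f ∈ E, x ∈ fixOne f := fun f hf => hall f hf
    obtain ⟨-, h8, -⟩ := hloc e₀ he₀ he₀1 a₀ ha₀ ⟨x₀, hx₀, hax₀⟩
    set α := restrictFix (hEcomm a₀ ha₀ e₀ he₀) with hα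
    have hα3 : ∀ y, α (α (α y)) = y := fun y => Subtype.ext (h3fix e₀ he₀ he₀1 a₀ ha₀ y y.2)
    set X : fixOne e₀ := ⟨x, hmem e₀ he₀⟩
    have hx1 : x ≠ 1 := fun h => hxZ (h ▸ one_mem Z)
    obtain ⟨k, hk⟩ := IsPGroup.iff_orderOf.1 hW x
    have hk2 : 2 ≤ k := by
      by_contra h
      interval_cases k
      · exact hx1 (orderOf_eq_one_iff.1 (by simpa using hk))
      · exact hxZ (hfix e he he1 x z (by simpa using hk) hz2 hx (hzE e he) ▸ mem_zpowers z)
    set y := x ^ 2 ^ (k - 2) with hy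
    have hy4 : orderOf y = 4 := by
      rw [hy, orderOf_pow_of_dvd (by positivity) (by rw [hk]; exact Nat.pow_dvd_pow 2 (by omega)), hk,
        Nat.pow_div (by omega) (by norm_num), show k - (k - 2) = 2 by omega]
    have hymem : y ∈ fixOne e₀ := pow_mem (hmem e₀ he₀) _
    have hY4 : orderOf (⟨y, hymem⟩ : fixOne e₀) = 4 := by rw [Subgroup.orderOf_mk]; exact hy4
    have hfy : α ⟨y, hymem⟩ = ⟨y, hymem⟩ := Subtype.ext (by
      show a₀ y = y
      rw [hy, map_pow, hall a₀ ha₀])
    have := fix_all_of_fix_four h8 hY4 hα3 (by rw [hfy]; exact mem_zpowers _) ⟨x₀, hx₀⟩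
    exact hax₀ (congrArg Subtype.val this)
  -- the dichotomy for invariant subgroups
  have hdich : ∀ Y : Subgroup W, (∀ a ∈ E, ∀ y ∈ Y, a y ∈ Y) →
      (∀ e ∈ E, e ≠ 1 → Y ⊓ fixOne e ≤ Z) ∨
        ∃ e ∈ E, e ≠ 1 ∧ (∃ a ∈ E, ∃ x ∈ fixOne e, a x ≠ x) ∧ fixOne e ≤ Y := by
    intro Y hY
    by_cases h : ∀ e ∈ E, e ≠ 1 → Y ⊓ fixOne e ≤ Z
    · exact Or.inl h
    · simp only [not_forall] at h
      obtain ⟨e, he, he1, hne⟩ := h
      obtain ⟨x, hx, hxZ⟩ := SetLike.not_le_iff_exists.1 hne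
      obtain ⟨a, ha, hax⟩ : ∃ a ∈ E, a x ≠ x := by
        by_contra hc
        simp only [not_exists, not_and, not_not] at hc
        exact hxZ (hF e he he1 x hx.2 hc)
      exact Or.inr ⟨e, he, he1, ⟨a, ha, x, hx.2, hax⟩, hQgen e he he1 a ha x hx.2 hax Y hx.1 (hY a ha x hx.1)⟩
  -- a moved fixed subgroup is nonabelian
  have hnab : ∀ e ∈ E, e ≠ 1 → (∃ a ∈ E, ∃ x ∈ fixOne e, a x ≠ x) →
      ¬ (∀ x ∈ fixOne e, ∀ y ∈ fixOne e, x * y = y * x) := by
    rintro e he he1 ⟨a, ha, x, hx, hax⟩ hcomm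
    obtain ⟨-, h8, -⟩ := hloc e he he1 a ha ⟨x, hx, hax⟩
    -- the squares form a subgroup fixed by everything
    let U : Subgroup W :=
      { carrier := {y | y ∈ fixOne e ∧ y ^ 2 = 1}
        mul_mem' := fun {u v} hu hv => ⟨mul_mem hu.1 hv.1, by
          rw [(show Commute u v from hcomm u hu.1 v hv.1).mul_pow, hu.2, hv.2, one_mul]⟩
        one_mem' := ⟨one_mem _, one_pow 2⟩
        inv_mem' := fun {u} hu => ⟨inv_mem hu.1, by rw [inv_pow, hu.2, inv_one]⟩ }
    have hmove : a x ∈ fixOne e := by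
      rw [mem_fixOne, ← MulAut.mul_apply, hEcomm e he a ha, MulAut.mul_apply, hx]
    set u := x⁻¹ * a x with hu
    have hu1 : u ≠ 1 := fun h => hax (inv_mul_eq_one.1 h).symm
    have hue : u ∈ fixOne e := mul_mem (inv_mem hx) hmove
    obtain ⟨k, hk⟩ := IsPGroup.iff_orderOf.1 hW u
    -- `x ^ 2` is fixed, hence `u` squares to one
    have hu2 : u ^ 2 = 1 := by
      obtain ⟨j, hj⟩ := IsPGroup.iff_orderOf.1 hW x
      have hx1 : x ≠ 1 := fun h => hax (by rw [h, map_one])
      have hle : orderOf (⟨x, hx⟩ : fixOne e) ∣ 8 := h8 ▸ orderOf_dvd_natCard _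
      rw [Subgroup.orderOf_mk, hj] at hle
      have hsq : ∀ y ∈ fixOne e, y ^ 2 ∈ Z → a (y ^ 2) = y ^ 2 := fun y _ h => by
        obtain ⟨i, hi⟩ := mem_zpowers_iff.1 h
        rw [← hi, map_zpow, hzE a ha]
      have hx4 : (x ^ 2) ^ 2 = 1 ∨ orderOf x = 8 := by
        have := Nat.le_of_dvd (by norm_num) hle
        have hj3 : j ≤ 3 := (Nat.pow_le_pow_iff_right (by norm_num)).1 (this.trans (by norm_num : 8 ≤ 2 ^ 3))
        rw [← pow_mul]
        interval_cases j
        · left; rw [orderOf_eq_one_iff.1 hj, one_pow]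
        · left; rw [← orderOf_dvd_iff_pow_eq_one, hj]; norm_num
        · left; rw [← orderOf_dvd_iff_pow_eq_one, hj]; norm_num
        · right; simpa using hj
      rcases hx4 with h | h
      · have hxZ : x ^ 2 ∈ Z := by
          by_cases h1 : x ^ 2 = 1
          · rw [h1]; exact one_mem _
          · rw [hfix e he he1 (x ^ 2) z (orderOf_eq_prime h h1) hz2 (pow_mem hx 2) (hzE e he)]
            exact mem_zpowers z
        rw [hu, (show Commute x⁻¹ (a x) from hcomm _ (inv_mem hx) _ hmove).mul_pow, inv_pow, ← map_pow,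
          hsq x hx hxZ, inv_mul_cancel]
      · exfalso
        have hα3 : ∀ y : fixOne e, restrictFix (hEcomm a ha e he) (restrictFix (hEcomm a ha e he)
            (restrictFix (hEcomm a ha e he) y)) = y := fun y => Subtype.ext (h3fix e he he1 a ha y y.2)
        have hx24 : orderOf (⟨x ^ 2, pow_mem hx 2⟩ : fixOne e) = 4 := by
          rw [Subgroup.orderOf_mk, orderOf_pow' _ two_ne_zero, h]; rfl
        have htop : zpowers (⟨x, hx⟩ : fixOne e) = ⊤ :=
          Subgroup.eq_top_of_card_eq _ (by rw [Nat.card_zpowers, Subgroup.orderOf_mk, h, h8])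
        obtain ⟨i, hi⟩ := mem_zpowers_iff.1 (htop ▸ mem_top (restrictFix (hEcomm a ha e he) ⟨x, hx⟩))
        refine hax (congrArg Subtype.val (fix_all_of_fix_four h8 hx24 hα3 ⟨i, ?_⟩ ⟨x, hx⟩))
        refine Subtype.ext ?_
        have hi' := congrArg Subtype.val hi
        simp only [SubgroupClass.coe_zpow] at hi' ⊢
        show (x ^ 2) ^ i = a (x ^ 2)
        rw [map_pow, ← show x ^ i = a x from hi', ← zpow_natCast x 2, ← zpow_mul, ← zpow_natCast (x ^ i) 2,
          ← zpow_mul, mul_comm]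
    have hcon : U ≤ Z := by
      intro v hv
      by_cases h1 : v = 1
      · rw [h1]; exact one_mem _
      · rw [hfix e he he1 v z (orderOf_eq_prime hv.2 h1) hz2 hv.1 (hzE e he)]; exact mem_zpowers z
    obtain ⟨i, hi⟩ := mem_zpowers_iff.1 (hcon ⟨hue, hu2⟩)
    have hfu : a u = u := by rw [← hi, map_zpow, hzE a ha]
    have h3 := h3fix e he he1 a ha x hx
    have hax' : a x = x * u := by rw [hu, mul_inv_cancel_left]
    rw [hax', map_mul, hfu, hax', map_mul, map_mul, hfu, hax', mul_assoc, mul_assoc, mul_eq_left] at h3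
    rw [← pow_two, hu2, mul_one] at h3
    exact hu1 h3
  have hZE : ∀ Y : Subgroup W, (∀ a ∈ E, ∀ y ∈ Y, a y ∈ Y) → (∀ x ∈ Y, ∀ y ∈ Y, x * y = y * x) → Y ≤ Z := by
    intro Y hY hcomm
    rcases hdich Y hY with h | ⟨e, he, he1, hmv, hle⟩
    · exact gen Y hY Z h
    · exact absurd (fun x hx y hy => hcomm x (hle hx) y (hle hy)) (hnab e he he1 hmv)
  have hinvc : ∀ (Y : Subgroup W) (_ : Y.Characteristic), ∀ a ∈ E, ∀ y ∈ Y, a y ∈ Y := fun Y hY a _ y hy =>
    Subgroup.characteristic_iff_map_le.1 hY a ⟨y, hy, rfl⟩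
  -- the centre
  have hcen : center W = Z := le_antisymm
    (hZE _ (hinvc _ inferInstance) fun x hx y _ => (Subgroup.mem_center_iff.1 hx y).symm)
    (zpowers_le.2 hzc)
  have hset : {x : W | ∀ e ∈ E, e x = x} = (center W : Set W) := by
    ext x
    constructor
    · intro hx
      rw [SetLike.mem_coe, hcen]
      exact hF e₀ he₀ he₀1 x (hx e₀ he₀) hx
    · intro hx e he
      rw [SetLike.mem_coe, hcen] at hx
      exact hZ e he hx
  -- the Frattini subgroup
  have hfrat : frattini W ≤ Z := by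
    rcases hdich (frattini W) (hinvc _ inferInstance) with h | ⟨e, he, he1, hmv, hle⟩
    · exact gen _ (hinvc _ inferInstance) Z h
    exfalso
    set Φ := frattini W with hΦ
    let ZΦ : Subgroup W := Φ ⊓ centralizer (Φ : Set W)
    have hZΦ : ZΦ ≤ Z := by
      refine hZE ZΦ (fun a ha y hy => ⟨hinvc _ inferInstance a ha y hy.1, mem_centralizer_iff.2 fun v hv => ?_⟩)
        fun x hx y hy => (mem_centralizer_iff.1 hy.2 x hx.1)
      obtain ⟨v', rfl⟩ := a.surjective v
      have hv' : v' ∈ Φ := by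
        have := Subgroup.characteristic_iff_map_le.1 (inferInstance : Φ.Characteristic) a⁻¹ ⟨_, hv, rfl⟩
        simpa using this
      rw [← map_mul, ← map_mul, mem_centralizer_iff.1 hy.2 v' hv']
    obtain ⟨a, ha, x, hx, hax⟩ := hmv
    obtain ⟨-, h8, -⟩ := hloc e he he1 a ha ⟨x, hx, hax⟩
    have h8' : 8 ≤ Nat.card Φ := h8 ▸ Subgroup.card_le_of_le hle
    obtain ⟨m, hm⟩ := IsPGroup.iff_card.1 (hW.to_subgroup Φ)
    obtain ⟨U, hUn, hUΦ, hU4⟩ := Cfsg.Agent.PGroups.exists_normal_card_le hW Φ 2 (by omega)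
    have hUle : U ≤ ZΦ := by
      intro u hu
      refine ⟨hUΦ hu, mem_centralizer_iff.2 ?_⟩
      have hUC : Φ ≤ centralizer (U : Set W) := by
        haveI := hUn
        exact frattini_le_centralizer_four hW U (by simpa using hU4)
      intro v hv
      exact (mem_centralizer_iff.1 (hUC hv) u hu).symm
    have hle2 := Subgroup.card_le_of_le (hUle.trans hZΦ)
    rw [hU4, hZdef, Nat.card_zpowers, hz2] at hle2
    omega
  have hcard2 : Nat.card (center W) = 2 := by rw [hcen, hZdef, Nat.card_zpowers, hz2]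
  have hWna : ¬ IsMulCommutative W := fun h =>
    hnab e₀ he₀ he₀1 ⟨a₀, ha₀, x₀, hx₀, hax₀⟩ fun x _ y _ => h.1.1 x y
  have hcomm : commutator W = center W := by
    refine le_antisymm ((Cfsg.Agent.PGroups.commutator_le_frattini hW).trans (hcen ▸ hfrat)) ?_
    have hne : commutator W ≠ ⊥ := fun h => hWna ⟨⟨fun x y => by
      have := Subgroup.commutator_mem_commutator (mem_top x) (mem_top y)
      rw [← _root_.commutator_def, h, Subgroup.mem_bot] at this
      exact commutatorElement_eq_one_iff_mul_comm.1 this⟩⟩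
    rw [hcen, hZdef]
    refine zpowers_le.2 ?_
    obtain ⟨⟨c, hc⟩, hc1'⟩ := Subgroup.ne_bot_iff_exists_ne_one.1 hne
    have hc1 : c ≠ 1 := fun h => hc1' (Subtype.ext h)
    have hcZ : c ∈ Z := hfrat (Cfsg.Agent.PGroups.commutator_le_frattini hW hc)
    obtain ⟨i, hi⟩ := mem_zpowers_iff.1 hcZ
    rcases Int.emod_two_eq_zero_or_one i with h | h
    · exfalso
      refine hc1 ?_
      rw [← hi, ← orderOf_dvd_iff_zpow_eq_one, hz2]
      omega
    · have : c = z := by
        rw [← hi, ← zpow_mod_orderOf, hz2]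
        simp [h]
      rwa [← this]
  have hfr : frattini W = center W := le_antisymm (hcen ▸ hfrat)
    (hcomm ▸ Cfsg.Agent.PGroups.commutator_le_frattini hW)
  have hspec : Cfsg.IsExtraspecial 2 W := ⟨⟨hW, hfr, hcomm⟩, hcard2⟩
  -- kernels
  let K : MulAut W → Subgroup E := fun e =>
    { carrier := {a | ∀ x ∈ fixOne e, (a : MulAut W) x = x}
      mul_mem' := fun {a b} ha hb x hx => by
        show (a : MulAut W) ((b : MulAut W) x) = x
        rw [hb x hx, ha x hx]
      one_mem' := fun x _ => rfl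
      inv_mem' := fun {a} ha x hx => by
        show (a : MulAut W)⁻¹ x = x
        conv_lhs => rw [← ha x hx]
        rw [← MulAut.mul_apply, inv_mul_cancel, MulAut.one_apply] }
  have hKidx : ∀ e ∈ E, e ≠ 1 → ∀ a : E, a ∉ K e → ∀ b : E, ∃ k : ℕ, k < 3 ∧ a ^ k * b ∈ K e := by
    intro e he he1 a ha b
    have hne : ∃ x, e x = x ∧ (a : MulAut W) x ≠ x := by
      by_contra hc
      simp only [not_exists, not_and, not_not] at hc
      exact ha fun x hx => hc x hx
    obtain ⟨-, h8, -⟩ := hloc e he he1 a a.2 hne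
    have hu : ∀ u v : fixOne e, orderOf u = 2 → orderOf v = 2 → u = v := fun u v hu hv =>
      Subtype.ext (hfix e he he1 u v (by rw [Subgroup.orderOf_coe, hu]) (by rw [Subgroup.orderOf_coe, hv]) u.2 v.2)
    obtain ⟨k, hk, hk'⟩ := exists_mul_trivial h8 hu
      (α := restrictFix (hEcomm a a.2 e he)) (β := restrictFix (hEcomm b b.2 e he))
      (fun y => Subtype.ext (h3fix e he he1 a a.2 y y.2)) (fun y => Subtype.ext (h3fix e he he1 b b.2 y y.2))
      (MulEquiv.ext fun y => Subtype.ext (by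
        show (a : MulAut W) ((b : MulAut W) y) = (b : MulAut W) ((a : MulAut W) y)
        rw [← MulAut.mul_apply, hEcomm a a.2 b b.2, MulAut.mul_apply]))
      (by
        obtain ⟨x, hx, hax⟩ := hne
        exact ⟨⟨x, hx⟩, fun h => hax (congrArg Subtype.val h)⟩)
    refine ⟨k, hk, fun x hx => ?_⟩
    have := congrArg Subtype.val (hk' ⟨x, hx⟩)
    rw [MulAut.mul_apply] at this
    have hpow : ∀ (j : ℕ) (y : fixOne e), (((restrictFix (hEcomm a a.2 e he)) ^ j) y : W) =
        ((a : MulAut W) ^ j) (y : W) := by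
      intro j
      induction j with
      | zero => intro y; rfl
      | succ j ih => intro y; rw [pow_succ', pow_succ', MulAut.mul_apply, MulAut.mul_apply, restrictFix_apply, ih]
    rw [hpow, restrictFix_apply] at this
    simpa [MulAut.mul_apply] using this
  have hKcard : ∀ e ∈ E, e ≠ 1 → Nat.card E ≤ 3 * Nat.card (K e) := by
    intro e he he1
    by_cases hall : ∀ a : E, a ∈ K e
    · rw [show K e = ⊤ from eq_top_iff.2 fun a _ => hall a, Subgroup.card_top]; omega
    · simp only [not_forall] at hall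
      obtain ⟨a, ha⟩ := hall
      have h := hKidx e he he1 a ha
      have hsurj : Function.Surjective (fun t : Fin 3 × K e => (a ^ (t.1 : ℕ))⁻¹ * (t.2 : E)) := by
        intro b
        obtain ⟨k, hk, hk'⟩ := h b
        exact ⟨(⟨k, hk⟩, ⟨_, hk'⟩), by simp⟩
      have := Nat.card_le_card_of_surjective _ hsurj
      simpa [Nat.card_prod] using this
  -- two different moved fixed subgroups
  have hone : ∀ e ∈ E, ∀ f ∈ E, e ≠ 1 → f ≠ 1 → (∃ a ∈ E, ∃ x ∈ fixOne e, a x ≠ x) →
      fixOne e ≤ fixOne f → fixOne f = fixOne e := by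
    intro e he f hf he1 hf1 hmv hle
    obtain ⟨a, ha, x, hx, hax⟩ := hmv
    obtain ⟨-, h8, -⟩ := hloc e he he1 a ha ⟨x, hx, hax⟩
    obtain ⟨-, h8', -⟩ := hloc f hf hf1 a ha ⟨x, hle hx, hax⟩
    exact (Subgroup.eq_of_le_of_card_ge hle (by rw [h8, h8'])).symm
  have hmoved : ∃ e₁ ∈ E, e₁ ≠ 1 ∧ (∃ a ∈ E, ∃ x ∈ fixOne e₁, a x ≠ x) ∧ fixOne e₁ ≠ fixOne e₀ := by
    by_contra hc
    simp only [not_exists, not_and, not_not] at hc
    have hle : (⊤ : Subgroup W) ≤ fixOne e₀ := gen ⊤ (fun _ _ _ _ => mem_top _) _ fun e he he1 y hy => by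
      by_cases hm : ∃ a ∈ E, ∃ x ∈ fixOne e, a x ≠ x
      · rw [← hc e he he1 hm]; exact hy.2
      · simp only [not_exists, not_and, not_not] at hm
        exact hm e₀ he₀ y hy.2
    exact he₀1 (MulEquiv.ext fun x => hle (mem_top x))
  obtain ⟨e₁, he₁, he₁1, hmv₁, hne₁⟩ := hmoved
  have hdisj : ∀ k : E, k ∈ K e₀ → k ∈ K e₁ → k = 1 := by
    intro k hk0 hk1
    by_contra hk
    have hk' : (k : MulAut W) ≠ 1 := fun h => hk (Subtype.ext h)
    refine hne₁ ?_
    have h0 := hone e₀ he₀ k k.2 he₀1 hk' ⟨a₀, ha₀, x₀, hx₀, hax₀⟩ (fun x hx => hk0 x hx)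
    have h1 := hone e₁ he₁ k k.2 he₁1 hk' hmv₁ (fun x hx => hk1 x hx)
    exact h1.symm.trans h0
  have hEle : Nat.card E ≤ 9 := by
    have h0 := hKcard e₀ he₀ he₀1
    -- the kernel on the first subgroup meets the kernel on the second trivially
    obtain ⟨a, ha, x, hx, hax⟩ := hmv₁
    have hb : Nat.card (K e₀) ≤ 3 := by
      by_cases htriv : ∀ b : E, b ∈ K e₀ → b ∈ K e₁
      · have : K e₀ = ⊥ := (Subgroup.eq_bot_iff_forall _).2 fun b hb => hdisj b hb (htriv b hb)
        rw [this, Subgroup.card_bot]; omega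
      · simp only [not_forall] at htriv
        obtain ⟨c, hc0, hc1⟩ := htriv
        have hinj : Function.Surjective (fun t : Fin 3 => (⟨(c ^ (t : ℕ))⁻¹, inv_mem (pow_mem hc0 _)⟩ : K e₀)) := by
          rintro ⟨b, hb⟩
          obtain ⟨k, hk, hk'⟩ := hKidx e₁ he₁ he₁1 c hc1 b
          have := hdisj _ (mul_mem (pow_mem hc0 k) hb) hk'
          exact ⟨⟨k, hk⟩, Subtype.ext (eq_inv_of_mul_eq_one_right this).symm⟩
        simpa using Nat.card_le_card_of_surjective _ hinj
    omega
  have hE9 : Nat.card E = 9 := by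
    subst hp3
    obtain ⟨k, hk⟩ := IsPGroup.iff_card.1 hE
    have h2 : 2 ≤ k := by
      by_contra h
      interval_cases k
      · exact hEbot (Subgroup.eq_bot_of_card_eq E (by simpa using hk))
      · exact hnc (isCyclic_of_prime_card (p := 3) (by simpa using hk))
    rw [hk] at hEle ⊢
    have : k ≤ 2 := (Nat.pow_le_pow_iff_right (by norm_num : 1 < 3)).1 (by simpa using hEle)
    rw [show k = 2 by omega]; rfl
  refine ⟨hE9, hspec, ?_, hset⟩
  -- the order
  obtain ⟨n, hn1, hn⟩ := Cfsg.Agent.PGroups.isExtraspecial_card (p := 2) hspec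
  have hn2 : 2 ≤ n := by
    by_contra h
    have hn' : n = 1 := by omega
    subst hn'
    obtain ⟨a, ha, x, hx, hax⟩ := hmv₁
    obtain ⟨-, h8₀, -⟩ := hloc e₀ he₀ he₀1 a₀ ha₀ ⟨x₀, hx₀, hax₀⟩
    obtain ⟨-, h8₁, -⟩ := hloc e₁ he₁ he₁1 a ha ⟨x, hx, hax⟩
    exact hne₁ ((Subgroup.eq_top_of_card_eq _ (by rw [h8₁, hn]; rfl)).trans
      (Subgroup.eq_top_of_card_eq _ (by rw [h8₀, hn]; rfl)).symm)
  have hn4 : n ≤ 4 := by
    haveI : Z.Normal := hcen ▸ (inferInstance : (center W).Normal)
    have := Fintype.ofFinite W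
    have := Fintype.ofFinite E
    let π := QuotientGroup.mk' Z
    have hab' : ∀ u v : W ⧸ Z, u * v = v * u := by
      intro u v
      obtain ⟨u, rfl⟩ := QuotientGroup.mk'_surjective Z u
      obtain ⟨v, rfl⟩ := QuotientGroup.mk'_surjective Z v
      rw [← commutatorElement_eq_one_iff_mul_comm, ← map_commutatorElement]
      refine (QuotientGroup.eq_one_iff _).2 (hfrat (Cfsg.Agent.PGroups.commutator_le_frattini hW ?_))
      rw [_root_.commutator_def]
      exact Subgroup.commutator_mem_commutator (mem_top u) (mem_top v)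
    let T : Finset (Subgroup W) := Finset.image (fun e : E => fixOne (e : MulAut W))
      ((Finset.univ : Finset E).filter fun e : E => e ≠ 1)
    have hT : T.card ≤ 4 := by
      let S : Finset E := (Finset.univ : Finset E).filter fun e => e ≠ 1
      have hS : S.card = 8 := by
        simp only [S]
        rw [Finset.filter_ne' , Finset.card_erase_of_mem (Finset.mem_univ _), Finset.card_univ,
          ← Nat.card_eq_fintype_card, hE9]
      have hfib : ∀ M ∈ T, 2 ≤ (S.filter fun e => fixOne ((e : E) : MulAut W) = M).card := by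
        intro M hM
        obtain ⟨e, he, rfl⟩ := Finset.mem_image.1 hM
        have he1 : e ≠ 1 := (Finset.mem_filter.1 he).2
        have hinv : fixOne ((e⁻¹ : E) : MulAut W) = fixOne (e : MulAut W) := by
          ext x
          rw [mem_fixOne, mem_fixOne]
          constructor
          · intro h
            conv_lhs => rw [← h]
            show (e : MulAut W) ((e : MulAut W)⁻¹ x) = x
            rw [← MulAut.mul_apply, mul_inv_cancel, MulAut.one_apply]
          · intro h
            conv_lhs => rw [← h]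
            show (e : MulAut W)⁻¹ ((e : MulAut W) x) = x
            rw [← MulAut.mul_apply, inv_mul_cancel, MulAut.one_apply]
        refine le_trans (le_of_eq ?_) (Finset.card_le_card (s := {e, e⁻¹}) ?_)
        · rw [Finset.card_pair]
          intro h
          have h2 : (e : MulAut W) ^ 2 = 1 := by
            have := congrArg Subtype.val h
            rw [pow_two]; nth_rw 2 [this]
            exact mul_inv_cancel _
          have h3 := hexp _ e.2
          rw [pow_succ, h2, one_mul] at h3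
          exact he1 (Subtype.ext h3)
        · intro y hy
          rw [Finset.mem_insert, Finset.mem_singleton] at hy
          rcases hy with rfl | rfl
          · exact Finset.mem_filter.2 ⟨he, rfl⟩
          · exact Finset.mem_filter.2 ⟨Finset.mem_filter.2 ⟨Finset.mem_univ _, inv_ne_one.2 he1⟩, hinv⟩
      have := Finset.card_eq_sum_card_fiberwise (f := fun e : E => fixOne (e : MulAut W)) (s := S) (t := T)
        (fun e he => Finset.mem_image_of_mem _ he)
      have h2 := Finset.card_nsmul_le_sum T _ 2 hfib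
      rw [← this, hS, smul_eq_mul] at h2
      omega
    have hprod : ∀ T' : Finset (Subgroup W), T' ⊆ T →
        Nat.card ↥(⨆ M ∈ T', M.map π) ≤ 4 ^ T'.card := by
      intro T'
      induction T' using Finset.induction with
      | empty => intro _; simp
      | insert M T' hMT ih =>
        intro hsub
        rw [Finset.iSup_insert, Finset.card_insert_of_notMem hMT, pow_succ']
        have hM4 : Nat.card (M.map π) ≤ 4 := by
          obtain ⟨e, he, rfl⟩ := Finset.mem_image.1 (hsub (Finset.mem_insert_self _ _))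
          have he1 : (e : MulAut W) ≠ 1 := fun h => (Finset.mem_filter.1 he).2 (Subtype.ext h)
          have hc := Subgroup.card_mul_index ((π.comp (fixOne (e : MulAut W)).subtype).ker)
          rw [Subgroup.index_ker, MonoidHom.range_comp, Subgroup.range_subtype] at hc
          have hker : 2 ≤ Nat.card (π.comp (fixOne (e : MulAut W)).subtype).ker := by
            let kz : (π.comp (fixOne (e : MulAut W)).subtype).ker :=
              ⟨⟨z, hzfix e e.2⟩, (QuotientGroup.eq_one_iff _).2 (mem_zpowers z)⟩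
            have : Nontrivial (π.comp (fixOne (e : MulAut W)).subtype).ker := ⟨⟨kz, 1, fun h => by
              have : z = 1 := congrArg (fun t : (π.comp (fixOne (e : MulAut W)).subtype).ker => ((t : fixOne (e : MulAut W)) : W)) h
              rw [this, orderOf_one] at hz2; omega⟩⟩
            exact Finite.one_lt_card
          have h8e : Nat.card (fixOne (e : MulAut W)) ≤ 8 := by
            by_cases hm : ∃ a ∈ E, ∃ x ∈ fixOne (e : MulAut W), a x ≠ x
            · obtain ⟨a, ha, x, hx, hax⟩ := hm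
              exact (hloc e e.2 he1 a ha ⟨x, hx, hax⟩).2.1.le
            · simp only [not_exists, not_and, not_not] at hm
              have : fixOne (e : MulAut W) ≤ Z := fun x hx => hF e e.2 he1 x hx fun a ha => hm a ha x hx
              refine (Subgroup.card_le_of_le this).trans ?_
              rw [hZdef, Nat.card_zpowers, hz2]; norm_num
          nlinarith
        have : ((M.map π : Subgroup (W ⧸ Z)) : Subgroup (W ⧸ Z)).Normal :=
          ⟨fun n hn g => by rw [hab' g n, mul_inv_cancel_right]; exact hn⟩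
        refine le_trans ?_ (Nat.mul_le_mul hM4 (ih ((Finset.subset_insert _ _).trans hsub)))
        rw [← Nat.card_prod]
        refine Nat.card_le_card_of_surjective
          (fun t : (M.map π) × ↥(⨆ M ∈ T', M.map π) => (⟨(t.1 : W ⧸ Z) * t.2,
            Subgroup.mul_mem_sup t.1.2 t.2.2⟩ : ↥(M.map π ⊔ ⨆ M ∈ T', M.map π))) ?_
        rintro ⟨y, hy⟩
        obtain ⟨u, hu, v, hv, rfl⟩ := Subgroup.mem_sup_of_normal_left.1 hy
        exact ⟨(⟨u, hu⟩, ⟨v, hv⟩), rfl⟩
    have htop : (⨆ M ∈ T, M.map π) = ⊤ := by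
      rw [eq_top_iff, ← Subgroup.map_top_of_surjective π (QuotientGroup.mk'_surjective Z), Subgroup.map_le_iff_le_comap]
      refine gen ⊤ (fun _ _ _ _ => mem_top _) _ fun e he he1 y hy => ?_
      exact Subgroup.mem_comap.2 (le_iSup₂ (f := fun M (_ : M ∈ T) => M.map π) (fixOne e)
        (Finset.mem_image.2 ⟨⟨e, he⟩, Finset.mem_filter.2 ⟨Finset.mem_univ _, fun h => he1 (congrArg Subtype.val h)⟩, rfl⟩)
        ⟨y, hy.2, rfl⟩)
    have h1 := hprod T subset_rfl
    rw [htop, Subgroup.card_top] at h1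
    have h2 := Z.card_mul_index
    have hZ2 : Nat.card Z = 2 := by rw [hZdef, Nat.card_zpowers, hz2]
    rw [Subgroup.index_eq_card, hn, hZ2] at h2
    have h3 : (4 : ℕ) ^ T.card ≤ 4 ^ 4 := Nat.pow_le_pow_right (by norm_num) hT
    have h4 : 2 ^ (2 * n + 1) ≤ 2 ^ 9 := by
      rw [← h2]
      simp only [Nat.card_eq_fintype_card] at h1 h3 ⊢
      norm_num at h3 ⊢
      omega
    have := (Nat.pow_le_pow_iff_right (by norm_num : 1 < 2)).1 h4
    omega
  interval_cases n
  · exact Or.inl hn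
  · exact Or.inr (Or.inl hn)
  · exact Or.inr (Or.inr hn)

end Cfsg.Agent.S2934
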