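import Cfsg.Statements.S2939
import Cfsg.Agent.H61.SylowControl

set_option autoImplicit false
open Cfsg

namespace Cfsg.Agent.S2939

/-- Let p be a prime dividing the order of the finite group G and 𝓕 a family of subgroups of G closed under conjugation, with conjugates taken as X^g = g⁻¹Xg. Then 𝓕 controls Sylow p-intersections in G (any two distinct Sylow p-subgroups S and T with S ∩ T ≠ 1 are joined by a chain S = S₀, S₁, …, Sₙ = T of Sylow p-subgroups where, for each i, some member Xᵢ of 𝓕 meets both S_{i-1} and Sᵢ in Sylow p-subgroups of Xᵢ, satisfies S ∩ T ≤ Sᵢ ∩ Xᵢ, and contains an element xᵢ with Sᵢ^{xᵢ} = S_{i-1}) if and only if 𝓕 strongly controls p-fusion in G (whenever A is a subset of a Sylow p-subgroup S, A contains an element other than 1, and A^g ⊆ S, the element g factorises as g = y₁⋯yₙy with y ∈ N_G(S) and each yᵢ in a member Yᵢ of 𝓕 that meets S in a Sylow p-subgroup of Yᵢ, with A^{y₁⋯yᵢ} ⊆ S ∩ Yᵢ for each i). -/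
theorem result {G : Type*} [Group G] [Finite G] {p : ℕ} [Fact p.Prime] (hdiv : p ∣ Nat.card G) (𝓕 : Set (Subgroup G)) (h𝓕 : Cfsg.IsNormalSet 𝓕) : Cfsg.ControlsSylowIntersections p 𝓕 ↔ Cfsg.FamilyStronglyControlsFusion p 𝓕 := by
  classical
  have hcjR : ∀ (a : G) (A : Set G), Cfsg.conjRight a A = (fun t => a⁻¹ * t * a) '' A := fun _ _ => rfl
  -- prefix products
  have hpre : ∀ {n : ℕ} (y : Fin n → G) (i : Fin n),
      ((List.ofFn y).take (i.val + 1)).prod = ((List.ofFn y).take i.val).prod * y i := by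
    intro n y i
    rw [List.prod_take_succ _ _ (by simp)]
    simp
  constructor
  · intro hc S A g hA ⟨a, haA, ha1⟩ hAg
    have hmem : ∀ t ∈ A, g⁻¹ * t * g ∈ (S : Subgroup G) := fun t ht => hAg ⟨t, ht, rfl⟩
    have hT : ∀ t ∈ A, t ∈ ((g • S : Sylow p G) : Subgroup G) := fun t ht => by
      rw [H61.coe_smul_sylow, H61.mem_cj]; exact hmem t ht
    have hne : (S : Subgroup G) ⊓ ((g • S : Sylow p G) : Subgroup G) ≠ ⊥ := fun h0 =>
      ha1 (Subgroup.mem_bot.mp (h0 ▸ (⟨hA haA, hT a haA⟩ : a ∈ (S : Subgroup G) ⊓ ((g • S : Sylow p G) : Subgroup G))))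
    obtain ⟨n, c, h0, hn, hs⟩ := H61.reflTransGen_iff_exists_fin.mp (H61.controls_iff.mp hc _ _ hne)
    choose X hX x hx hconj hsl hsr hD using hs
    -- the elements carrying `S` along the chain
    let gs : Fin (n + 1) → G := fun i => Fin.induction 1 (fun j u => x j * u) i
    have hgs0 : gs 0 = 1 := rfl
    have hgss : ∀ j : Fin n, gs j.succ = x j * gs j.castSucc := fun j => by simp [gs]
    have hgc : ∀ i, (c i : Subgroup G) = H61.cj (gs i) (S : Subgroup G) := by
      intro i
      induction i using Fin.induction with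
      | zero => rw [hgs0, H61.cj_one, h0]
      | succ j ih => rw [hgss, ← H61.cj_mul, ← ih, ← hconj j, H61.cj_cj_inv]
    let y : Fin n → G := fun i => (gs i.castSucc)⁻¹ * x i * gs i.castSucc
    have hprod : ∀ i : Fin (n + 1), ((List.ofFn y).take i.val).prod = gs i := by
      intro i
      induction i using Fin.induction with
      | zero => simp [hgs0]
      | succ j ih =>
        rw [Fin.val_succ, hpre, hgss, show ((List.ofFn y).take j.val).prod = gs j.castSucc by simpa using ih]
        simp [y]; group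
    have hlast : (List.ofFn y).prod = gs (Fin.last n) := by
      rw [← hprod (Fin.last n), Fin.val_last, List.take_of_length_le (by simp)]
    refine ⟨n, fun i => H61.cj (gs i.castSucc)⁻¹ (X i), y, (gs (Fin.last n))⁻¹ * g, ?_, fun i => ⟨?_, ?_⟩,
      by rw [hlast]; group, fun i => ?_⟩
    · apply Sylow.smul_eq_iff_mem_normalizer.mp
      rw [mul_smul, ← hn]
      apply Sylow.ext
      rw [H61.coe_smul_sylow, hgc, H61.cj_inv_cj]
    · rw [H61.sylowMembers_iff]
      refine ⟨h𝓕 _ (hX i) _, ?_⟩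
      have := (hsl i).cj (gs i.castSucc)⁻¹
      rwa [H61.cj_inf, hgc, H61.cj_inv_cj] at this
    · exact ⟨x i, hx i, by simp [y]⟩
    · rintro _ ⟨t, ht, rfl⟩
      have he : ((List.ofFn y).take (i.val + 1)).prod = gs i.succ := by
        rw [← hprod i.succ, Fin.val_succ]
      dsimp only
      rw [he]
      have htD := hD i (⟨hA ht, hT t ht⟩ : t ∈ (S : Subgroup G) ⊓ ((g • S : Sylow p G) : Subgroup G))
      refine ⟨?_, ?_⟩
      · have : t ∈ ((c i.succ : Sylow p G) : Subgroup G) := htD.1
        rw [hgc, H61.mem_cj] at this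
        exact this
      · show _ ∈ H61.cj (gs i.castSucc)⁻¹ (X i)
        rw [H61.mem_cj, hgss]
        have h2 := (X i).mul_mem ((X i).mul_mem ((X i).inv_mem (hx i)) htD.2) (hx i)
        have e : (gs i.castSucc)⁻¹⁻¹ * ((x i * gs i.castSucc)⁻¹ * t * (x i * gs i.castSucc)) * (gs i.castSucc)⁻¹
            = (x i)⁻¹ * t * x i := by group
        rw [e]; exact h2
  · intro hf
    refine H61.controls_iff.mpr fun S T hne => ?_
    obtain ⟨g, rfl⟩ := MulAction.exists_smul_eq G S T
    set D := (S : Subgroup G) ⊓ ((g • S : Sylow p G) : Subgroup G)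
    obtain ⟨a, haD, ha1⟩ := D.bot_or_exists_ne_one.resolve_left hne
    have hg' : Cfsg.conjRight g (D : Set G) ⊆ ((S : Subgroup G) : Set G) := by
      rintro _ ⟨t, ht, rfl⟩
      have : t ∈ ((g • S : Sylow p G) : Subgroup G) := ht.2
      rw [H61.coe_smul_sylow, H61.mem_cj] at this
      exact this
    obtain ⟨n, Y, y, y₀, hy₀, hY, hg, hA⟩ := hf S (D : Set G) g (fun t ht => ht.1) ⟨a, haD, ha1⟩ hg'
    let gs : Fin (n + 1) → G := fun i => ((List.ofFn y).take i.val).prod
    have hgss : ∀ i : Fin n, gs i.succ = gs i.castSucc * y i := fun i => hpre y i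
    refine H61.reflTransGen_iff_exists_fin.mpr ⟨n, fun i => gs i • S, by simp [gs], ?_, fun i => ?_⟩
    · show gs (Fin.last n) • S = g • S
      rw [hg, mul_smul, Sylow.smul_eq_iff_mem_normalizer.mpr hy₀]
      simp only [gs, Fin.val_last]
      rw [List.take_of_length_le (by simp)]
    · obtain ⟨hYm, hyY⟩ := hY i
      rw [H61.sylowMembers_iff] at hYm
      have hX : H61.cj (gs i.castSucc) (Y i) ∈ 𝓕 := by
        have := h𝓕 _ hYm.1 (gs i.castSucc)⁻¹
        simpa [Cfsg.subgroupConjRight, H61.cj] using this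
      have hXsucc : H61.cj (gs i.castSucc) (Y i) = H61.cj (gs i.succ) (Y i) := by
        rw [hgss, ← H61.cj_mul, H61.cj_eq_self_of_mem hyY]
      refine ⟨_, hX, gs i.castSucc * y i * (gs i.castSucc)⁻¹, ⟨y i, hyY, rfl⟩, ?_, ?_, ?_, ?_⟩
      · rw [H61.coe_smul_sylow, H61.coe_smul_sylow, H61.cj_mul, hgss]
        congr 1; group
      · rw [H61.coe_smul_sylow, ← H61.cj_inf]; exact hYm.2.cj _
      · rw [hXsucc, H61.coe_smul_sylow, ← H61.cj_inf]; exact hYm.2.cj _
      · rw [hXsucc, H61.coe_smul_sylow, ← H61.cj_inf]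
        intro t ht
        rw [H61.mem_cj]
        have := hA i ⟨t, ht, rfl⟩
        exact this

end Cfsg.Agent.S2939
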