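import Cfsg.Statements.S2940


set_option autoImplicit false
open Cfsg

namespace Cfsg.Agent.S2940

/-- Let S be a Sylow p-subgroup of the finite group G and G₁, G₂ subgroups containing S with G = G₁G₂. Then for every g ∈ G there is a Sylow p-subgroup U of G with S ∩ S^g ≤ U ≤ G₁ ∩ G₂^g (conjugates taken as X^g = g⁻¹Xg). -/
theorem result {G : Type*} [Group G] [Finite G] {p : ℕ} [Fact p.Prime] (S : Sylow p G) (G₁ G₂ : Subgroup G) (h1 : (S : Subgroup G) ≤ G₁) (h2 : (S : Subgroup G) ≤ G₂) (hfact : ∀ g : G, ∃ g₁ ∈ G₁, ∃ g₂ ∈ G₂, g = g₁ * g₂) (g : G) : ∃ U : Sylow p G, (S : Subgroup G) ⊓ Cfsg.subgroupConjRight g (S : Subgroup G) ≤ (U : Subgroup G) ∧ (U : Subgroup G) ≤ G₁ ⊓ Cfsg.subgroupConjRight g G₂ := by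
  classical
  obtain ⟨g₁, hg₁, g₂, hg₂, hg⟩ := hfact g⁻¹
  -- `g₁ • S` is a Sylow subgroup inside both `G₁` and `G₂ ^ g`
  have hU₀ : ((g₁ • S : Sylow p G) : Subgroup G) ≤ G₁ ⊓ Cfsg.subgroupConjRight g G₂ := by
    rw [Sylow.coe_subgroup_smul]
    rintro _ ⟨s, hs, rfl⟩
    refine ⟨G₁.mul_mem (G₁.mul_mem hg₁ (h1 hs)) (G₁.inv_mem hg₁), g₂⁻¹ * s * g₂, G₂.mul_mem (G₂.mul_mem (G₂.inv_mem hg₂) (h2 hs)) hg₂, ?_⟩
    simp [hg, mul_assoc]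
  set K := G₁ ⊓ Cfsg.subgroupConjRight g G₂ with hK
  have hD : (S : Subgroup G) ⊓ Cfsg.subgroupConjRight g (S : Subgroup G) ≤ K :=
    inf_le_inf h1 (Subgroup.map_mono h2)
  have hDp : IsPGroup p (((S : Subgroup G) ⊓ Cfsg.subgroupConjRight g (S : Subgroup G)).subgroupOf K) :=
    (IsPGroup.to_inf_left S.isPGroup').comap_subtype
  obtain ⟨Q, hQ⟩ := hDp.exists_le_sylow
  obtain ⟨k, hk⟩ := MulAction.exists_smul_eq ↥K ((g₁ • S).subtype hU₀) Q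
  refine ⟨(k : G) • (g₁ • S), ?_, Sylow.smul_le hU₀ k⟩
  intro x hx
  have hxQ := hQ (show (⟨x, hD hx⟩ : ↥K) ∈ _ from hx)
  rw [← hk, Sylow.coe_subgroup_smul] at hxQ
  obtain ⟨u, hu, hux⟩ := hxQ
  rw [Sylow.coe_subgroup_smul]
  exact ⟨(u : G), hu, congrArg Subtype.val hux⟩

end Cfsg.Agent.S2940
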