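import Cfsg.Statements.S2941
import Cfsg.Agent.H61.Basic

set_option autoImplicit false
open Cfsg

namespace Cfsg.Agent.S2941

/-- Let G be a finite group of characteristic 2 type in which every 2-local subgroup is solvable and the centralizer of Ω₁(Z(S)) lies in N_G(S) for every Sylow 2-subgroup S, and let T be a nontrivial 2-subgroup and K a J(T)-component (J the Thompson subgroup generated by the elementary abelian 2-subgroups of largest order). If a subgroup Q is normalized by ⟨K, J(T)⟩ and normalizes J(T), then Q normalizes K. -/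
theorem result {G : Type*} [Group G] [Finite G] (hL : Cfsg.IsCharacteristicTwoType G) (hN : ∀ N : Subgroup G, Cfsg.IsTwoLocal N → Group.IsSolvable ↥N)
    (hZ : ∀ S : Sylow 2 G, Subgroup.centralizer (Cfsg.omegaCenterOf (S : Subgroup G) : Set G) ≤ Subgroup.normalizer ((S : Subgroup G) : Set G)) (T : Subgroup G) (hT : IsPGroup 2 ↥T) (hT1 : T ≠ ⊥) (K : Subgroup G) (hK : Cfsg.IsJComponent T K)
    (Q : Subgroup G) (hQ1 : K ⊔ Cfsg.thompsonSubgroupOf 2 T ≤ Subgroup.normalizer (Q : Set G)) (hQ2 : Q ≤ Subgroup.normalizer (Cfsg.thompsonSubgroupOf 2 T : Set G)) :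
    Q ≤ Subgroup.normalizer (K : Set G) := by
  obtain ⟨hgen, hKJ, -, -, -, -⟩ := hK
  set J := Cfsg.thompsonSubgroupOf 2 T with hJdef
  set H := K ⊔ J with hH
  have hJP : IsPGroup 2 ↥J := hT.to_le (Subgroup.map_subtype_le _)
  have hJnK : J ≤ Subgroup.normalizer (K : Set G) := by
    intro j hj
    have h : ∀ k ∈ K, j * k * j⁻¹ ∈ K := by
      intro k hk
      have h1 : (k * j * k⁻¹ * j⁻¹) ∈ K := hKJ ▸ Subgroup.commutator_mem_commutator hk hj
      have h2 : k⁻¹ * (k * j * k⁻¹ * j⁻¹) ∈ K := K.mul_mem (K.inv_mem hk) h1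
      have := K.inv_mem h2
      simpa [mul_assoc] using this
    exact H61.mem_normalizer_of_conj_mem h

  have hKnH : H ≤ Subgroup.normalizer (K : Set G) := sup_le Subgroup.le_normalizer hJnK
  have hKN : (K.subgroupOf H).Normal :=
    Subgroup.normal_subgroupOf_of_le_normalizer hKnH
  -- every element of odd order of `H` lies in `K`
  have hodd : ∀ h ∈ H, Odd (orderOf h) → h ∈ K := by
    intro h hh ho
    have hprod := Subgroup.coe_mul_of_right_le_normalizer_left K J hJnK
    rw [← SetLike.mem_coe, hH, hprod] at hh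
    obtain ⟨k, hk, j, hj, rfl⟩ := hh
    dsimp only at ho ⊢
    obtain ⟨a, ha⟩ := hJP ⟨j, hj⟩
    have ha' : j ^ (2 ^ a) = 1 := by simpa using congrArg Subtype.val ha
    let h' : ↥H := ⟨k * j, H.mul_mem (le_sup_left (a := K) hk) (le_sup_right (b := J) hj)⟩
    let q := QuotientGroup.mk' (K.subgroupOf H)
    have hqh : q h' = q ⟨j, le_sup_right (b := J) hj⟩ := by
      have : q ⟨k, le_sup_left (a := K) hk⟩ = 1 := (QuotientGroup.eq_one_iff _).mpr (by simpa [Subgroup.mem_subgroupOf] using hk)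
      have h2 : h' = ⟨k, le_sup_left (a := K) hk⟩ * ⟨j, le_sup_right (b := J) hj⟩ := rfl
      rw [h2, map_mul, this, one_mul]
    have h1 : orderOf (q h') ∣ 2 ^ a := by
      apply orderOf_dvd_of_pow_eq_one
      rw [hqh, ← map_pow]
      convert map_one q
      exact Subtype.ext (by simpa using ha')
    have h2 : orderOf (q h') ∣ orderOf (k * j) := by
      rw [show orderOf (k * j) = orderOf h' from (Subgroup.orderOf_coe h')]
      exact orderOf_map_dvd q h'
    have h3 : orderOf (q h') = 1 := Nat.eq_one_of_dvd_coprimes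
      ((Nat.Coprime.pow_left a (Nat.coprime_two_left.mpr ho))) h1 h2
    have : h' ∈ K.subgroupOf H := (QuotientGroup.eq_one_iff _).mp (orderOf_eq_one_iff.mp h3)
    simpa [h', Subgroup.mem_subgroupOf] using this
  -- `H` is generated by the `K`-conjugates of `J`
  have hHgen : ∀ N : Subgroup G, J ≤ N → H ≤ Subgroup.normalizer (N : Set G) → H ≤ N := by
    intro N hJN hHN
    refine sup_le ?_ hJN
    rw [← hKJ, Subgroup.commutator_le]
    intro k hk j hj
    have h1 := (Subgroup.mem_normalizer_iff.mp (hHN (le_sup_left (a := K) hk)) j).mp (hJN hj)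
    exact N.mul_mem h1 (N.inv_mem (hJN hj))
  intro q hq
  -- the elements of `H` moved into `H` by `q`
  have hqH : ∀ q ∈ Q, ∀ h ∈ H, q * h * q⁻¹ ∈ H := by
    intro q hq
    -- the elements `h` of `H` with `[q', h] ∈ H` for all `q' ∈ Q`
    let D : Subgroup G :=
      { carrier := {h | h ∈ H ∧ ∀ q' ∈ Q, q' * h * q'⁻¹ * h⁻¹ ∈ H}
        one_mem' := ⟨H.one_mem, fun q' _ => by simp⟩
        mul_mem' := by
          rintro a b ⟨ha, ha'⟩ ⟨hb, hb'⟩
          refine ⟨H.mul_mem ha hb, fun q' hq' => ?_⟩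
          have : q' * (a * b) * q'⁻¹ * (a * b)⁻¹ =
              (q' * a * q'⁻¹ * a⁻¹) * (a * (q' * b * q'⁻¹ * b⁻¹) * a⁻¹) := by group
          rw [this]
          exact H.mul_mem (ha' q' hq') (H.mul_mem (H.mul_mem ha (hb' q' hq')) (H.inv_mem ha))
        inv_mem' := by
          rintro a ⟨ha, ha'⟩
          refine ⟨H.inv_mem ha, fun q' hq' => ?_⟩
          have : q' * a⁻¹ * q'⁻¹ * a⁻¹⁻¹ = a⁻¹ * (q' * a * q'⁻¹ * a⁻¹)⁻¹ * a := by group
          rw [this]
          exact H.mul_mem (H.mul_mem (H.inv_mem ha) (H.inv_mem (ha' q' hq'))) ha }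
    have hJD : J ≤ D := fun j hj => ⟨le_sup_right (b := J) hj, fun q' hq' =>
      le_sup_right (b := J) (J.mul_mem ((Subgroup.mem_normalizer_iff.mp (hQ2 hq') j).mp hj) (J.inv_mem hj))⟩
    have hconj : ∀ h ∈ H, ∀ a ∈ D, h * a * h⁻¹ ∈ D := by
      rintro h hh a ⟨ha, ha'⟩
      refine ⟨H.mul_mem (H.mul_mem hh ha) (H.inv_mem hh), fun q' hq' => ?_⟩
      have hq'' : h⁻¹ * q' * h ∈ Q := by
        have := (Subgroup.mem_normalizer_iff.mp (hQ1 (H.inv_mem hh)) q').mp hq'
        simpa using this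
      have h' := ha' _ hq''
      -- conjugating that commutator back by `h`
      have e : q' * (h * a * h⁻¹) * q'⁻¹ * (h * a * h⁻¹)⁻¹ =
          h * ((h⁻¹ * q' * h) * a * (h⁻¹ * q' * h)⁻¹ * a⁻¹) * h⁻¹ := by group
      rw [e]
      exact H.mul_mem (H.mul_mem hh h') (H.inv_mem hh)
    have hHD : H ≤ Subgroup.normalizer (D : Set G) := by
      intro h hh
      rw [Subgroup.mem_normalizer_iff]
      intro y
      refine ⟨fun hy => hconj h hh y hy, fun hy => ?_⟩
      have := hconj h⁻¹ (H.inv_mem hh) _ hy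
      simpa [mul_assoc] using this
    intro h hh
    have := (hHgen D hJD hHD hh).2 q hq
    have e := H.mul_mem this hh
    simpa using e
  have hqK : ∀ q ∈ Q, ∀ k ∈ K, q * k * q⁻¹ ∈ K := by
    intro q hq k hk
    have hle : K ≤ K.comap (MulAut.conj q).toMonoidHom := by
      conv_lhs => rw [← hgen]
      rw [Subgroup.closure_le]
      rintro x ⟨hx, ho⟩
      refine hodd _ (hqH q hq x (le_sup_left (a := K) hx)) ?_
      change Odd (orderOf (MulAut.conj q x))
      rwa [MulEquiv.orderOf_eq]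
    exact hle hk
  rw [Subgroup.mem_normalizer_iff]
  intro y
  refine ⟨fun hy => hqK q hq y hy, fun hy => ?_⟩
  have := hqK q⁻¹ (Q.inv_mem hq) _ hy
  simpa [mul_assoc] using this

end Cfsg.Agent.S2941
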