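import Cfsg.Statements.S2946
import Cfsg.Agent.H61.Basic
import Cfsg.Agent.H61.CharP
import Cfsg.Agent.Thompson.Jay
import Cfsg.Agent.PGroups.Basic

set_option autoImplicit false
open Cfsg

namespace Cfsg.Agent.S2946

/-- Let G be a finite group of characteristic 2 type in which every 2-local subgroup is solvable and the centralizer of Ω₁(Z(S)) lies in N_G(S) for every Sylow 2-subgroup S, and let T be a nontrivial 2-subgroup (below, J is the Thompson subgroup generated by the elementary abelian 2-subgroups of largest order), K a J(T)-component and Z₀ = Ω₁(Z(J(T))). Then Z₀ meets W_K = [Ω₁(Z(O₂(K))), K] in a subgroup of order 2, and Z₀ is the product of Z₀ ∩ Z(⟨K, J(T)⟩) and Z₀ ∩ W_K. -/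
theorem result {G : Type*} [Group G] [Finite G] (hL : Cfsg.IsCharacteristicTwoType G) (hN : ∀ N : Subgroup G, Cfsg.IsTwoLocal N → Group.IsSolvable ↥N)
    (hZ : ∀ S : Sylow 2 G, Subgroup.centralizer (Cfsg.omegaCenterOf (S : Subgroup G) : Set G) ≤ Subgroup.normalizer ((S : Subgroup G) : Set G)) (T : Subgroup G) (hT : IsPGroup 2 ↥T) (hT1 : T ≠ ⊥) (K : Subgroup G) (hK : Cfsg.IsJComponent T K)
    (Z₀ : Subgroup G) (hZ₀ : Z₀ = Cfsg.omegaCenterOf (Cfsg.thompsonSubgroupOf 2 T)) :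
    Nat.card ↥(Z₀ ⊓ Cfsg.wOf K) = 2 ∧
      (Z₀ ⊓ ((K ⊔ Cfsg.thompsonSubgroupOf 2 T) ⊓ Subgroup.centralizer ((K ⊔ Cfsg.thompsonSubgroupOf 2 T) : Set G))) ⊔ (Z₀ ⊓ Cfsg.wOf K) = Z₀ := by
  classical
  haveI : Fact (Nat.Prime 2) := ⟨Nat.prime_two⟩
  letI := Fintype.ofFinite G
  obtain ⟨hKo, hKJ, hidx, hSyl, hW4, hW2⟩ := hK
  subst hZ₀
  set J := Cfsg.thompsonSubgroupOf 2 T with hJdef
  set Q := Cfsg.pCoreOf 2 K with hQdef
  set V := Cfsg.omegaCenterOf Q with hVdef
  set W := Cfsg.wOf K with hWdef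
  have hQK : Q ≤ K := Subgroup.map_subtype_le _
  have hQ2 : IsPGroup 2 Q := (H61.isPGroup_pCore (G := K)).map _
  -- `Ω₁(Z(·))`
  have hom : ∀ (Y : Subgroup G), ∀ y ∈ Cfsg.omegaCenterOf Y,
      y ∈ Y ∧ (∀ a ∈ Y, Commute a y) ∧ y ^ 2 = 1 := by
    intro Y y hy
    induction hy using Subgroup.closure_induction with
    | mem y hy => exact ⟨hy.1.1, fun a ha => hy.1.2 a ha, hy.2⟩
    | one => exact ⟨one_mem _, fun a _ => Commute.one_right a, one_pow 2⟩
    | mul a b _ _ ha hb =>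
      exact ⟨Y.mul_mem ha.1 hb.1, fun t ht => (ha.2.1 t ht).mul_right (hb.2.1 t ht),
        by rw [(show Commute a b from hb.2.1 a ha.1).mul_pow, ha.2.2, hb.2.2, one_mul]⟩
    | inv a _ ha => exact ⟨Y.inv_mem ha.1, fun t ht => (ha.2.1 t ht).inv_right, by rw [inv_pow, ha.2.2, inv_one]⟩
  have hom' : ∀ (Y : Subgroup G) (y : G), y ∈ Y → (∀ a ∈ Y, Commute a y) → y ^ 2 = 1 →
      y ∈ Cfsg.omegaCenterOf Y := fun Y y h1 h2 h3 => Subgroup.subset_closure ⟨⟨h1, fun a ha => h2 a ha⟩, h3⟩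
  have hVQ : V ≤ Q := fun v hv => (hom Q v hv).1
  -- invariance under the normalizer of `K`
  have hinvK : ∀ g ∈ Subgroup.normalizer (K : Set G), K.map (MulAut.conj g).toMonoidHom = K := fun g hg =>
    Cfsg.Agent.Thompson.map_conj_of_mem_normalizer hg
  have hinvQ : ∀ g ∈ Subgroup.normalizer (K : Set G), ∀ y ∈ Q, g * y * g⁻¹ ∈ Q := by
    intro g hg
    rintro _ ⟨y, hy, rfl⟩
    let e : K ≃* K := (K.equivMapOfInjective (MulAut.conj g).toMonoidHom (MulAut.conj g).injective).trans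
      (MulEquiv.subgroupCongr (hinvK g hg))
    exact ⟨e y, H61.map_pCore_le e.toMonoidHom e.surjective ⟨y, hy, rfl⟩, rfl⟩
  have hinvV : ∀ g ∈ Subgroup.normalizer (K : Set G), ∀ y ∈ V, g * y * g⁻¹ ∈ V := by
    intro g hg y hy
    refine hom' Q _ (hinvQ g hg y (hVQ hy)) (fun a ha => ?_) ?_
    · have h1 := (hom Q y hy).2.1 _ (hinvQ g⁻¹ (Subgroup.inv_mem _ hg) a ha)
      have h2 := h1.map (MulAut.conj g).toMonoidHom
      simpa [mul_assoc] using h2
    · rw [conj_pow, (hom Q y hy).2.2, mul_one, mul_inv_cancel]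
  have hinvW : ∀ g ∈ Subgroup.normalizer (K : Set G), ∀ y ∈ W, g * y * g⁻¹ ∈ W := by
    intro g hg y hy
    have h1 : W.map (MulAut.conj g).toMonoidHom ≤ W := by
      rw [hWdef, Cfsg.wOf, Subgroup.map_commutator]
      refine Subgroup.commutator_mono ?_ (hinvK g hg).le
      rintro _ ⟨v, hv, rfl⟩
      exact hinvV g hg v hv
    exact h1 ⟨y, hy, rfl⟩
  have hWV : W ≤ V := by
    rw [hWdef, Cfsg.wOf, Subgroup.commutator_le]
    intro v hv k hk
    have h := V.mul_mem hv (hinvV k (Subgroup.le_normalizer hk) v⁻¹ (V.inv_mem hv))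
    rw [commutatorElement_def]
    simpa [mul_assoc] using h
  have hWQ : W ≤ Q := hWV.trans hVQ
  have hcW : ∀ a ∈ W, ∀ b ∈ W, Commute a b := fun a ha b hb => (hom Q b (hWV hb)).2.1 a (hWQ ha)
  have hJN : J ≤ Subgroup.normalizer (K : Set G) :=
    Subgroup.le_normalizer_iff_commutator_le_left.mpr hKJ.le
  set X := K ⊔ J with hXdef
  have hXN : X ≤ Subgroup.normalizer (K : Set G) := sup_le Subgroup.le_normalizer hJN
  have hKX : K ≤ X := le_sup_left
  have hJX : J ≤ X := le_sup_right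
  have hWX : W ≤ X := (hWQ.trans hQK).trans hKX
  -- `K` acts nontrivially on `W`
  have hodd : ∀ g : G, Odd (orderOf g) → ∀ u ∈ W, Commute (g * g) u → Commute g u := by
    intro g hg u hu h
    obtain ⟨m, hm⟩ := hg
    have : g = (g * g) ^ (m + 1) := by
      rw [← pow_two, ← pow_mul, show 2 * (m + 1) = orderOf g + 1 by omega, pow_succ, pow_orderOf_eq_one, one_mul]
    rw [this]; exact h.pow_left _
  have hKW : ¬ ∀ k ∈ K, ∀ u ∈ W, Commute k u := by
    intro h
    have hz : W = ⊥ := by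
      rw [hWdef, Cfsg.wOf, Subgroup.commutator_eq_bot_iff_le_centralizer]
      refine fun v hv => ?_
      have hle : K ≤ Subgroup.centralizer ({v} : Set G) := by
        rw [← hKo, Subgroup.closure_le]
        rintro g ⟨hgK, hgo⟩
        rw [SetLike.mem_coe, Subgroup.mem_centralizer_singleton_iff]
        set d := g * v * g⁻¹ * v⁻¹ with hd
        have hdW : d ∈ W := by
          have h1 := W.inv_mem (Subgroup.commutator_mem_commutator (H₁ := V) hv hgK)
          rw [commutatorElement_def] at h1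
          rw [hd]
          simpa [hWdef, Cfsg.wOf, mul_assoc] using h1
        have hpow : ∀ n : ℕ, g ^ n * v * (g ^ n)⁻¹ = d ^ n * v := by
          intro n
          induction n with
          | zero => simp
          | succ n ih =>
            calc g ^ (n + 1) * v * (g ^ (n + 1))⁻¹ = g * (g ^ n * v * (g ^ n)⁻¹) * g⁻¹ := by group
              _ = (g * d ^ n) * v * g⁻¹ := by rw [ih]; group
              _ = d ^ n * (g * v * g⁻¹ * v⁻¹) * v := by rw [((h g hgK d hdW).pow_right n).eq]; group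
              _ = d ^ (n + 1) * v := by rw [← hd, pow_succ]
        have h1 := hpow (orderOf g)
        rw [pow_orderOf_eq_one] at h1
        have h2 : d ^ orderOf g = 1 := by simpa using h1.symm
        obtain ⟨m, hm⟩ := hgo
        rw [hm, pow_succ, pow_mul, pow_two, hW2 d hdW, one_pow, one_mul] at h2
        rw [hd, mul_inv_eq_one, mul_inv_eq_iff_eq_mul] at h2
        exact h2
      exact fun k hk => Subgroup.mem_centralizer_singleton_iff.mp (hle hk)
    rw [hz, Subgroup.card_bot] at hW4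
    omega
  set R := X ⊓ Subgroup.centralizer (W : Set G) with hRdef
  have hRmem : ∀ {g : G}, g ∈ X → (∀ u ∈ W, Commute g u) → g ∈ R := fun hg h =>
    ⟨hg, fun u hu => (h u hu).symm.eq⟩
  have hRc : ∀ {g : G}, g ∈ R → ∀ u ∈ W, Commute g u := fun hg u hu => (hg.2 u hu).symm
  have hQR : Q ≤ R := fun q hq => hRmem (hKX (hQK hq)) fun u hu => (hom Q u (hWV hu)).2.1 q hq
  have hWR : W ≤ R := hWQ.trans hQR
  -- an element acting as a 3-cycle
  obtain ⟨k, hkK, hko, hkQ⟩ : ∃ k ∈ K, Odd (orderOf k) ∧ k ∉ Q := by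
    by_contra h
    push Not at h
    have : K ≤ Q := by
      rw [← hKo, Subgroup.closure_le]
      exact fun g hg => h g hg.1 hg.2
    rw [Subgroup.relIndex_eq_one.mpr this] at hidx
    omega
  have hQmax : ∀ Y : Subgroup G, Q ≤ Y → Y ≤ K → Y = Q ∨ Y = K := by
    intro Y h1 h2
    have h3 := Subgroup.relIndex_mul_relIndex Q Y K h1 h2
    rw [hidx] at h3
    rcases (Nat.dvd_prime Nat.prime_three).mp (Dvd.intro _ h3) with h4 | h4
    · exact Or.inl (le_antisymm (Subgroup.relIndex_eq_one.mp h4) h1)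
    · rw [h4] at h3
      exact Or.inr (le_antisymm h2 (Subgroup.relIndex_eq_one.mp (by omega)))
  have hKR : K ⊓ R = Q := by
    refine (hQmax _ (le_inf hQK hQR) inf_le_left).resolve_right fun h => hKW fun g hg u hu => ?_
    exact hRc (h.ge hg).2 u hu
  have hQk : Q ⊔ Subgroup.zpowers k = K := by
    refine (hQmax _ le_sup_left (sup_le hQK (Subgroup.zpowers_le.mpr hkK))).resolve_left fun h => hkQ ?_
    exact h.le (Subgroup.mem_sup_right (Subgroup.mem_zpowers k))
  have hfour : ∀ a ∈ W, ∀ b ∈ W, a ≠ 1 → b ≠ 1 → a ≠ b → ∀ u ∈ W, u = 1 ∨ u = a ∨ u = b ∨ u = a * b := by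
    intro a ha b hb ha1 hb1 hab u hu
    by_contra hne
    push Not at hne
    have hs : ({u, 1, a, b, a * b} : Finset G) ⊆ (W : Set G).toFinset := by
      intro x hx
      simp only [Finset.mem_insert, Finset.mem_singleton] at hx
      rw [Set.mem_toFinset]
      rcases hx with rfl | rfl | rfl | rfl | rfl
      exacts [hu, W.one_mem, ha, hb, W.mul_mem ha hb]
    have h5 := Finset.card_le_card hs
    rw [Set.toFinset_card, ← Nat.card_eq_fintype_card, show Nat.card ↥(W : Set G) = 4 from hW4] at h5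
    have hab1 : a * b ≠ 1 := fun h => hab (by
      rw [eq_inv_of_mul_eq_one_left h, inv_eq_of_mul_eq_one_right (hW2 b hb)])
    rw [Finset.card_insert_of_notMem, Finset.card_insert_of_notMem, Finset.card_insert_of_notMem,
      Finset.card_pair] at h5
    · omega
    · exact fun h => ha1 (mul_eq_right.mp h.symm)
    · simp [hab, hb1]
    · simp [ha1.symm, hb1.symm, hab1.symm]
    · simp [hne.1, hne.2.1, hne.2.2.1, hne.2.2.2]
  have hfpf : ∀ u ∈ W, Commute k u → u = 1 := by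
    intro u hu hku
    by_contra hu1
    refine hkQ (hKR.le ⟨hkK, hRmem (hKX hkK) fun b hb => ?_⟩)
    by_cases hb1 : b = 1
    · rw [hb1]; exact Commute.one_right k
    by_cases hbu : b = u
    · rw [hbu]; exact hku
    refine hodd k hko b hb ?_
    have hkb := hinvW k (Subgroup.le_normalizer hkK) b hb
    have hcase : k * b * k⁻¹ = b ∨ k * b * k⁻¹ = u * b := by
      rcases hfour u hu b hb hu1 hb1 (Ne.symm hbu) _ hkb with h | h | h | h
      · exact absurd (by simpa [conj_eq_one_iff] using h) hb1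
      · exfalso; apply hbu
        calc b = k⁻¹ * (k * b * k⁻¹) * k := by group
          _ = k⁻¹ * (k * u * k⁻¹) * k := by rw [h, hku.eq, mul_inv_cancel_right]
          _ = u := by group
      · exact Or.inl h
      · exact Or.inr h
    rcases hcase with h | h
    · exact (show Commute k b from mul_inv_eq_iff_eq_mul.mp h).mul_left (mul_inv_eq_iff_eq_mul.mp h)
    · have h2 : (k * k) * b * (k * k)⁻¹ = b := by
        calc (k * k) * b * (k * k)⁻¹ = (k * u * k⁻¹) * (k * b * k⁻¹) := by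
              rw [show (k * u * k⁻¹) * (k * b * k⁻¹) = k * (u * b) * k⁻¹ by group, ← h]; group
          _ = u * (u * b) := by rw [h, hku.eq, mul_inv_cancel_right]
          _ = b := by rw [← mul_assoc, hW2 u hu, one_mul]
      exact mul_inv_eq_iff_eq_mul.mp h2
  -- `J` is a 2-group, `R` is the largest normal 2-subgroup of `X`
  have hJ2 : IsPGroup 2 J := hT.to_le (Subgroup.map_subtype_le _)
  have hR2 : IsPGroup 2 R := by
    refine H61.isPGroup_of_forall_coprime fun g hg hgo => ?_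
    have hgK : g ∈ K := by
      have hgm : g ∈ ((K ⊔ J : Subgroup G) : Set G) := hg.1
      rw [Subgroup.coe_mul_of_right_le_normalizer_left K J hJN] at hgm
      obtain ⟨k', hk', j, hj, hkj⟩ := hgm
      simp only at hkj
      haveI : (K.subgroupOf X).Normal := (Subgroup.normal_subgroupOf_iff_le_normalizer hKX).mpr hXN
      set q := QuotientGroup.mk' (K.subgroupOf X)
      have he : q ⟨g, hg.1⟩ = q ⟨j, hJX hj⟩ := by
        rw [show (⟨g, hg.1⟩ : X) = ⟨k', hKX hk'⟩ * ⟨j, hJX hj⟩ from Subtype.ext hkj.symm, map_mul,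
          show q ⟨k', hKX hk'⟩ = 1 from (QuotientGroup.eq_one_iff _).mpr hk', one_mul]
      obtain ⟨i, hi⟩ := hJ2 ⟨j, hj⟩
      have h1 : orderOf (q ⟨g, hg.1⟩) ∣ 2 ^ i := by
        rw [he]
        refine orderOf_dvd_of_pow_eq_one ?_
        rw [← map_pow, show (⟨j, hJX hj⟩ : X) ^ 2 ^ i = 1 from
          Subtype.ext (by simpa using congrArg Subtype.val hi), map_one]
      have h2 : orderOf (q ⟨g, hg.1⟩) ∣ orderOf g := by
        have := orderOf_map_dvd q (⟨g, hg.1⟩ : X)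
        rwa [Subgroup.orderOf_mk] at this
      have h3 : orderOf (q ⟨g, hg.1⟩) = 1 :=
        Nat.eq_one_of_dvd_coprimes (hgo.symm.pow_left i) h1 h2
      have h4 : (⟨g, hg.1⟩ : X) ∈ K.subgroupOf X := (QuotientGroup.eq_one_iff _).mp (orderOf_eq_one_iff.mp h3)
      exact h4
    exact H61.eq_one_of_mem_pGroup hQ2 (hKR.le ⟨hgK, hg⟩) hgo
  have hXR : ∀ x ∈ X, ∀ r ∈ R, x * r * x⁻¹ ∈ R := by
    intro x hx r hr
    refine hRmem (X.mul_mem (X.mul_mem hx hr.1) (X.inv_mem hx)) fun u hu => ?_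
    have h1 := (hRc hr _ (hinvW x⁻¹ (Subgroup.inv_mem _ (hXN hx)) u hu)).map (MulAut.conj x).toMonoidHom
    simpa [mul_assoc] using h1
  -- a Sylow subgroup of `X` above `R` and `J`
  have hRJ : IsPGroup 2 (R ⊔ J : Subgroup G) := hR2.to_sup_of_normal_left' hJ2 fun j hj =>
    H61.mem_normalizer_of_conj_mem fun r hr => hXR j (hJX hj) r hr
  obtain ⟨P, hP⟩ := (hRJ.comap_subtype (K := X)).exists_le_sylow
  set S := (P : Subgroup X).map X.subtype with hSdef
  have hSX : S ≤ X := Subgroup.map_subtype_le _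
  have hS2 : IsPGroup 2 S := P.isPGroup'.map _
  have hRS : R ≤ S := fun r hr => ⟨⟨r, hr.1⟩, hP (show r ∈ R ⊔ J from Subgroup.mem_sup_left hr), rfl⟩
  have hJS' : J ≤ S := fun r hr => ⟨⟨r, hJX hr⟩, hP (show r ∈ R ⊔ J from Subgroup.mem_sup_right hr), rfl⟩
  have hSSyl : Cfsg.IsSylowTwoIn S X := by
    refine ⟨hSX, hS2, ?_⟩
    have h : (S.subgroupOf X) = (P : Subgroup X) :=
      Subgroup.comap_map_eq_self_of_injective X.subtype_injective _
    show Odd (S.subgroupOf X).index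
    rw [h, Nat.odd_iff, ← Nat.two_dvd_ne_zero]
    exact P.not_dvd_index
  have hJS : Cfsg.Agent.Thompson.jay 2 S = J := by
    rw [← Cfsg.Agent.Thompson.thompsonSubgroupOf_eq, hSyl S hSSyl hJS']
  -- the fixed point of `S` on `W`
  obtain ⟨c, hcW', hc1, hcS⟩ : ∃ c ∈ W, c ≠ 1 ∧ ∀ s ∈ S, Commute s c := by
    haveI : (W.subgroupOf S).Normal := by
      refine (Subgroup.normal_subgroupOf_iff_le_normalizer (hWR.trans hRS)).mpr fun s hs => ?_
      exact H61.mem_normalizer_of_conj_mem (hinvW s (hXN (hSX hs)))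
    have hne : W.subgroupOf S ≠ ⊥ := by
      rw [Ne, Subgroup.subgroupOf_eq_bot, disjoint_iff, inf_eq_left.mpr (hWR.trans hRS)]
      intro h
      rw [h, Subgroup.card_bot] at hW4
      omega
    obtain ⟨⟨c, hcS⟩, ⟨h1, h2⟩, h3⟩ := (Subgroup.bot_or_exists_ne_one _).resolve_left
      (Cfsg.Agent.PGroups.inf_center_ne_bot hS2 (W.subgroupOf S) hne)
    exact ⟨c, h1, fun h => h3 (Subtype.ext h), fun s hs => congrArg Subtype.val (Subgroup.mem_center_iff.mp h2 ⟨s, hs⟩)⟩
  obtain ⟨w, hwW, hw1, hwc⟩ : ∃ w ∈ W, w ≠ 1 ∧ w ≠ c := by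
    by_contra h
    push Not at h
    have hle : Nat.card ↥(W : Set G) ≤ Set.ncard ({1, c} : Set G) := by
      rw [Nat.card_coe_set_eq]
      refine Set.ncard_le_ncard (fun u hu => ?_)
      by_cases hu1 : u = 1
      · exact Or.inl hu1
      · exact Or.inr (h u hu hu1)
    rw [show Nat.card ↥(W : Set G) = 4 from hW4, Set.ncard_pair (Ne.symm hc1)] at hle
    omega
  have hWgen : ∀ u ∈ W, u = 1 ∨ u = c ∨ u = w ∨ u = c * w := hfour c hcW' w hwW hc1 hw1 (Ne.symm hwc)
  have hswap : ∀ s ∈ S, s ∉ R → s * w * s⁻¹ = c * w := by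
    intro s hs hsR
    rcases hWgen _ (hinvW s (hXN (hSX hs)) w hwW) with h | h | h | h
    · exact absurd (by simpa [conj_eq_one_iff] using h) hw1
    · exfalso; apply hwc
      calc w = s⁻¹ * (s * w * s⁻¹) * s := by group
        _ = c := by rw [h, mul_assoc, ← (hcS s hs).eq, inv_mul_cancel_left]
    · exfalso; apply hsR
      refine hRmem (hSX hs) fun u hu => ?_
      have hsw : Commute s w := mul_inv_eq_iff_eq_mul.mp h
      rcases hWgen u hu with rfl | rfl | rfl | rfl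
      exacts [Commute.one_right s, hcS s hs, hsw, (hcS s hs).mul_right hsw]
    · exact h
  have hJR : ¬ J ≤ R := by
    intro h
    refine hKW fun g hg u hu => ?_
    have hJW : ⁅J, W⁆ = ⊥ := Subgroup.commutator_eq_bot_iff_le_centralizer.mpr (h.trans inf_le_right)
    have h1 : ⁅⁅J, W⁆, K⁆ = ⊥ := by rw [hJW, Subgroup.commutator_bot_left]
    have h2 : ⁅⁅W, K⁆, J⁆ = ⊥ := by
      have hle : ⁅W, K⁆ ≤ W := by
        rw [Subgroup.commutator_le]
        intro a ha b hb
        rw [commutatorElement_def]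
        have := W.mul_mem ha (hinvW b (Subgroup.le_normalizer hb) a⁻¹ (W.inv_mem ha))
        simpa [mul_assoc] using this
      have hle2 : ⁅⁅W, K⁆, J⁆ ≤ ⁅W, J⁆ := Subgroup.commutator_mono hle le_rfl
      rw [Subgroup.commutator_comm W J, hJW] at hle2
      exact le_bot_iff.mp hle2
    have h3 := Subgroup.commutator_commutator_eq_bot_of_rotate h1 h2
    rw [hKJ] at h3
    exact ((Subgroup.commutator_eq_bot_iff_le_centralizer.mp h3 hg) u hu).symm
  obtain ⟨j₀, hj₀J, hj₀R⟩ := SetLike.not_le_iff_exists.mp hJR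
  have hCWJ : ∀ u ∈ W, (∀ j ∈ J, Commute j u) → u = 1 ∨ u = c := by
    intro u hu h
    have hmove := hswap j₀ (hJS' hj₀J) hj₀R
    have hjw : ¬ Commute j₀ w := by
      intro h'
      rw [h'.eq, mul_inv_cancel_right] at hmove
      exact hc1 (mul_eq_right.mp hmove.symm)
    rcases hWgen u hu with rfl | rfl | rfl | rfl
    · exact Or.inl rfl
    · exact Or.inr rfl
    · exact absurd (h j₀ hj₀J) hjw
    · refine absurd ?_ hjw
      have := ((hcS j₀ (hJS' hj₀J)).inv_right).mul_right (h j₀ hj₀J)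
      rwa [inv_mul_cancel_left] at this
  -- exchange
  set n0 := Cfsg.Agent.Thompson.maxIn 2 S with hn0
  have hAR : ∀ A ∈ n0, ¬ A ≤ R → (A ⊓ R ⊔ W) ∈ n0 ∧ (A ⊓ R ⊔ W) ≤ R := by
    intro A hA hAR
    obtain ⟨a₁, ha₁, ha₁R⟩ := SetLike.not_le_iff_exists.mp hAR
    have hle : A ⊓ R ⊔ W ≤ R := sup_le inf_le_right hWR
    refine ⟨?_, hle⟩
    set A0 := A ⊓ R with hA0
    have hexp : Cfsg.Agent.Thompson.IsAbExp 2 (A0 ⊔ W) := by
      have hmem : ∀ a ∈ A0 ⊔ W, ∃ a₀ ∈ A0, ∃ u ∈ W, a = a₀ * u := by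
        intro a ha
        rw [← SetLike.mem_coe, Subgroup.coe_mul_of_right_le_normalizer_left A0 W (fun u hu =>
          H61.mem_normalizer_of_conj_mem fun b hb => by
            rw [(hRc hb.2 u hu).symm.eq, mul_inv_cancel_right]; exact hb)] at ha
        obtain ⟨a₀, ha₀, u, hu, rfl⟩ := ha
        exact ⟨a₀, ha₀, u, hu, rfl⟩
      refine ⟨Cfsg.Agent.Thompson.isMulCommutative_iff_forall.mpr fun a ha b hb => ?_, fun a ha => ?_⟩
      · obtain ⟨a₀, ha₀, u, hu, rfl⟩ := hmem a ha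
        obtain ⟨b₀, hb₀, v, hv, rfl⟩ := hmem b hb
        have h1 : Commute a₀ b₀ := hA.2.1.comm ha₀.1 hb₀.1
        exact ((h1.mul_right (hRc ha₀.2 v hv)).mul_left
          ((hRc hb₀.2 u hu).symm.mul_right (hcW u hu v hv))).eq
      · obtain ⟨a₀, ha₀, u, hu, rfl⟩ := hmem a ha
        rw [(hRc ha₀.2 u hu).mul_pow, hA.2.1.2 a₀ ha₀.1, one_mul, pow_two, hW2 u hu]
    refine Cfsg.Agent.Thompson.mem_maxIn_of_card_eq hA (hle.trans hRS) hexp
      (le_antisymm (hA.2.2 _ (hle.trans hRS) hexp) ?_)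
    have hwA : w ∉ A0 := fun h => hc1 (by
      have e := hswap a₁ (hA.1 ha₁) ha₁R
      rw [hA.2.1.comm ha₁ h.1, mul_inv_cancel_right] at e
      exact mul_eq_right.mp e.symm)
    have h2 : 2 * Nat.card A0 ≤ Nat.card (A0 ⊔ W : Subgroup G) := by
      obtain ⟨m, hm⟩ := Subgroup.card_dvd_of_le (le_sup_left : A0 ≤ A0 ⊔ W)
      rw [hm, mul_comm 2]
      refine Nat.mul_le_mul_left _ ?_
      rcases m with _ | _ | m
      · exact absurd hm (by simpa using Nat.card_pos.ne')
      · exfalso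
        refine hwA ?_
        rw [zero_add, mul_one] at hm
        rw [Subgroup.eq_of_le_of_card_ge (le_sup_left : A0 ≤ A0 ⊔ W) hm.le]
        exact Subgroup.mem_sup_right hwW
      · omega
    refine le_trans ?_ h2
    have hsub : (A : Set G) ⊆ (A0 : Set G) ∪ (fun x => a₁ * x) '' (A0 : Set G) := by
      intro a ha
      by_cases haR : a ∈ R
      · exact Or.inl ⟨ha, haR⟩
      refine Or.inr ⟨a₁ * a, ⟨A.mul_mem ha₁ ha, hRmem (X.mul_mem (hSX (hA.1 ha₁)) (hSX (hA.1 ha))) ?_⟩, ?_⟩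
      · have hf : Commute (a₁ * a) w := by
          apply mul_inv_eq_iff_eq_mul.mp
          calc a₁ * a * w * (a₁ * a)⁻¹ = a₁ * (a * w * a⁻¹) * a₁⁻¹ := by group
            _ = (a₁ * c * a₁⁻¹) * (a₁ * w * a₁⁻¹) := by rw [hswap a (hA.1 ha) haR]; group
            _ = c * (c * w) := by rw [hswap a₁ (hA.1 ha₁) ha₁R, (hcS a₁ (hA.1 ha₁)).eq, mul_inv_cancel_right]
            _ = w := by rw [← mul_assoc, hW2 c hcW', one_mul]
        have hfc : Commute (a₁ * a) c := (hcS a₁ (hA.1 ha₁)).mul_left (hcS a (hA.1 ha))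
        intro u hu
        rcases hWgen u hu with rfl | rfl | rfl | rfl
        exacts [Commute.one_right _, hfc, hf, hfc.mul_right hf]
      · show a₁ * (a₁ * a) = a
        rw [← mul_assoc, ← pow_two, hA.2.1.2 a₁ ha₁, one_mul]
    calc Nat.card A = Set.ncard (A : Set G) := rfl
      _ ≤ Set.ncard ((A0 : Set G) ∪ (fun x => a₁ * x) '' (A0 : Set G)) := Set.ncard_le_ncard hsub
      _ ≤ Set.ncard (A0 : Set G) + Set.ncard ((fun x => a₁ * x) '' (A0 : Set G)) := Set.ncard_union_le _ _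
      _ ≤ 2 * Nat.card A0 := by
        have h3 := Set.ncard_image_le (f := fun x => a₁ * x) (Set.toFinite (A0 : Set G))
        have : Nat.card A0 = Set.ncard (A0 : Set G) := rfl
        omega
  obtain ⟨A₁, hA₁, hA₁R⟩ : ∃ A ∈ n0, ¬ A ≤ R := by
    by_contra h
    push Not at h
    exact hJR (hJS ▸ sSup_le h)
  -- members inside `R` and their intersection
  set 𝔅 : Set (Subgroup G) := {B | B ∈ n0 ∧ B ≤ R} with h𝔅
  set V1 := sInf 𝔅 with hV1
  have hV1inv : ∀ x ∈ X, ∀ v ∈ V1, x * v * x⁻¹ ∈ V1 := by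
    intro x hx v hv
    rw [hV1, Subgroup.mem_sInf] at hv ⊢
    intro B hB
    have hB' : B.map (MulAut.conj x⁻¹).toMonoidHom ∈ 𝔅 := by
      have hle : B.map (MulAut.conj x⁻¹).toMonoidHom ≤ R := by
        rintro _ ⟨b, hb, rfl⟩
        exact hXR x⁻¹ (X.inv_mem hx) b (hB.2 hb)
      exact ⟨Cfsg.Agent.Thompson.mem_maxIn_of_card_eq hB.1 (hle.trans hRS)
        ((Cfsg.Agent.Thompson.isAbExp_map_iff _ (MulAut.conj x⁻¹).injective).mpr hB.1.2.1)
        (Subgroup.card_map_of_injective (MulAut.conj x⁻¹).injective), hle⟩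
    obtain ⟨b, hb, hbv⟩ := hv _ hB'
    have e : x * v * x⁻¹ = b := by rw [← hbv]; simp [mul_assoc]
    rw [e]; exact hb
  let Ker : Subgroup G :=
    { carrier := {x | x ∈ X ∧ ∀ v ∈ V1, x * v * x⁻¹ * v⁻¹ ∈ W}
      one_mem' := ⟨X.one_mem, fun v _ => by simp⟩
      mul_mem' := fun {x y} hx hy => ⟨X.mul_mem hx.1 hy.1, fun v hv => by
        have e : x * y * v * (x * y)⁻¹ * v⁻¹ = (x * (y * v * y⁻¹ * v⁻¹) * x⁻¹) * (x * v * x⁻¹ * v⁻¹) := by group
        rw [e]; exact W.mul_mem (hinvW x (hXN hx.1) _ (hy.2 v hv)) (hx.2 v hv)⟩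
      inv_mem' := fun {x} hx => ⟨X.inv_mem hx.1, fun v hv => by
        have e : x⁻¹ * v * x⁻¹⁻¹ * v⁻¹ = (x⁻¹ * (x * v * x⁻¹ * v⁻¹) * x⁻¹⁻¹)⁻¹ := by group
        rw [e]; exact W.inv_mem (hinvW x⁻¹ (Subgroup.inv_mem _ (hXN hx.1)) _ (hx.2 v hv))⟩ }
  have hKerJ : J ≤ Ker := by
    rw [← hJS]
    refine sSup_le fun A hA a ha => ⟨hSX (hA.1 ha), fun v hv => ?_⟩
    rw [hV1, Subgroup.mem_sInf] at hv
    by_cases hAle : A ≤ R
    · rw [hA.2.1.comm ha (hv A ⟨hA, hAle⟩), mul_inv_cancel_right, mul_inv_cancel]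
      exact W.one_mem
    · obtain ⟨hA'1, hA'2⟩ := hAR A hA hAle
      have hv' : v ∈ ((A ⊓ R ⊔ W : Subgroup G) : Set G) := hv _ ⟨hA'1, hA'2⟩
      rw [Subgroup.coe_mul_of_right_le_normalizer_left (A ⊓ R) W (fun u hu =>
        H61.mem_normalizer_of_conj_mem fun b hb => by
          rw [(hRc hb.2 u hu).symm.eq, mul_inv_cancel_right]; exact hb)] at hv'
      obtain ⟨a₀, ha₀, u, hu, rfl⟩ := hv'
      simp only
      have h1 : a * a₀ * a⁻¹ = a₀ := by rw [hA.2.1.comm ha ha₀.1, mul_inv_cancel_right]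
      have e : a * (a₀ * u) * a⁻¹ * (a₀ * u)⁻¹ = (a * a₀ * a⁻¹) * (a * u * a⁻¹ * u⁻¹) * a₀⁻¹ := by group
      have hW' := W.mul_mem (hinvW a (hXN (hSX (hA.1 ha))) u hu) (W.inv_mem hu)
      rw [e, h1, (hRc ha₀.2 _ hW').eq, mul_inv_cancel_right]
      exact hW'
  have hKerK : K ≤ Ker := by
    rw [← hKJ, Subgroup.commutator_le]
    intro g hg j hj
    have hn : g * j * g⁻¹ ∈ Ker := by
      obtain ⟨hjX, hj'⟩ := hKerJ hj
      refine ⟨X.mul_mem (X.mul_mem (hKX hg) hjX) (X.inv_mem (hKX hg)), fun v hv => ?_⟩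
      have h1 := hinvW g (Subgroup.le_normalizer hg) _ (hj' _ (hV1inv g⁻¹ (X.inv_mem (hKX hg)) v hv))
      convert h1 using 1
      group
    rw [commutatorElement_def]
    exact Ker.mul_mem hn (Ker.inv_mem (hKerJ hj))
  -- `Ω₁(Z(J))`
  have hAJ : ∀ A ∈ n0, A ≤ J := fun A hA => hJS ▸ Cfsg.Agent.Thompson.le_jay hA
  have hcZ : c ∈ Cfsg.omegaCenterOf J := by
    refine hom' J c (hAJ A₁ hA₁ ?_) (fun j hj => hcS j (hJS' hj)) (by rw [pow_two, hW2 c hcW'])
    exact Cfsg.Agent.Thompson.mem_of_mem_centralizer hA₁ (hRS (hWR hcW'))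
      (fun a ha => hcS a (hA₁.1 ha)) (by rw [pow_two, hW2 c hcW'])
  set Z₀ := Cfsg.omegaCenterOf J with hZ₀
  have hZW : ∀ z ∈ Z₀, ∀ u ∈ W, Commute z u := by
    intro z hz u hu
    obtain ⟨h1, h2⟩ := hAR A₁ hA₁ hA₁R
    exact ((hom J z hz).2.1 u (hAJ _ h1 (Subgroup.mem_sup_right hu))).symm
  refine ⟨?_, ?_⟩
  · have hset : ((Z₀ ⊓ W : Subgroup G) : Set G) = {1, c} := by
      ext u
      constructor
      · intro hu
        exact hCWJ u hu.2 fun j hj => (hom J u hu.1).2.1 j hj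
      · rintro (rfl | rfl)
        · exact one_mem _
        · exact ⟨hcZ, hcW'⟩
    rw [← SetLike.coe_sort_coe, Nat.card_coe_set_eq, hset, Set.ncard_pair (Ne.symm hc1)]
  · refine le_antisymm (sup_le inf_le_left inf_le_left) fun z hz => ?_
    obtain ⟨hzJ, hzc, hz2⟩ := hom J z hz
    have hzR : z ∈ R := hRmem (hJX hzJ) (hZW z hz)
    have hzV1 : z ∈ V1 := by
      rw [hV1, Subgroup.mem_sInf]
      exact fun B hB => Cfsg.Agent.Thompson.mem_of_mem_centralizer hB.1 (hRS hzR)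
        (fun b hb => hzc b (hAJ B hB.1 hb)) hz2
    have hzK : ∀ g ∈ K, g * z * g⁻¹ * z⁻¹ ∈ W := fun g hg => (hKerK hg).2 z hzV1
    -- adjust `z` to commute with `k`
    have hsurj : Function.Surjective (fun u : W => (⟨k * u * k⁻¹ * (u : G)⁻¹,
        W.mul_mem (hinvW k (Subgroup.le_normalizer hkK) u u.2) (W.inv_mem u.2)⟩ : W)) := by
      apply Finite.surjective_of_injective
      intro a b h
      have h' : k * a * k⁻¹ * (a : G)⁻¹ = k * b * k⁻¹ * (b : G)⁻¹ := congrArg Subtype.val h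
      have h2 : (b : G)⁻¹ * a = 1 := by
        refine hfpf _ (W.mul_mem (W.inv_mem b.2) a.2) (mul_inv_eq_iff_eq_mul.mp ?_)
        calc k * ((b : G)⁻¹ * a) * k⁻¹
            = (k * b * k⁻¹ * (b : G)⁻¹ * b)⁻¹ * (k * a * k⁻¹ * (a : G)⁻¹ * a) := by group
          _ = (b : G)⁻¹ * a := by rw [h']; group
      exact Subtype.ext (inv_mul_eq_one.mp h2).symm
    obtain ⟨⟨u, huW⟩, hu⟩ := hsurj (⟨_, hzK k hkK⟩⁻¹ : W)
    have hu' : k * u * k⁻¹ * u⁻¹ = (k * z * k⁻¹ * z⁻¹)⁻¹ := congrArg Subtype.val hu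
    set z' := z * u with hz'
    have hez : ∀ g : G, g * z' * g⁻¹ * z'⁻¹ = (g * z * g⁻¹) * (g * u * g⁻¹ * u⁻¹) * z⁻¹ := fun g => by
      rw [hz']; group
    have hez' : ∀ g : G, g ∈ X → g * z' * g⁻¹ * z'⁻¹ = (g * z * g⁻¹ * z⁻¹) * (g * u * g⁻¹ * u⁻¹) := by
      intro g hg
      rw [hez g, mul_assoc, ← ((hZW z hz) _ (W.mul_mem (hinvW g (hXN hg) u huW) (W.inv_mem huW))).inv_left.eq]
      group
    have hk' : Commute k z' := by
      apply mul_inv_eq_iff_eq_mul.mp
      rw [← mul_inv_eq_one, hez' k (hKX hkK), hu', mul_inv_cancel]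
    have hQc : ∀ q ∈ Q, Commute q z' := by
      intro q hq
      have hqJ : ∀ j ∈ J, q * j * q⁻¹ ∈ J := fun j hj => by
        have hn := Cfsg.Agent.Thompson.normalizer_le_normalizer_jay 2 S (Subgroup.le_normalizer (hRS (hQR hq)))
        rw [hJS] at hn
        exact (Subgroup.mem_normalizer_iff.mp hn j).mp hj
      set e := q * z' * q⁻¹ * z'⁻¹ with he
      have hqu : q * u * q⁻¹ * u⁻¹ = 1 := by
        rw [((hom Q u (hWV huW)).2.1 q hq).eq, mul_inv_cancel_right, mul_inv_cancel]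
      have heW : e ∈ W := by
        rw [he, hez' q (hKX (hQK hq)), hqu, mul_one]; exact hzK q (hQK hq)
      have heJ : ∀ g : G, g ∈ Q → ∀ j ∈ J, Commute j (g * z * g⁻¹ * z⁻¹) := by
        intro g hg j hj
        have hn := Cfsg.Agent.Thompson.normalizer_le_normalizer_jay 2 S (Subgroup.le_normalizer (hRS (hQR hg)))
        rw [hJS] at hn
        have h1 := (hzc _ ((Subgroup.mem_normalizer_iff.mp (Subgroup.inv_mem _ hn) j).mp hj)).map
          (MulAut.conj g).toMonoidHom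
        have h2 : Commute j (g * z * g⁻¹) := by simpa [mul_assoc] using h1
        exact h2.mul_right (hzc j hj).inv_right
      have hqk : k * q * k⁻¹ ∈ Q := hinvQ k (Subgroup.le_normalizer hkK) q hq
      have he1 : e = 1 ∨ e = c := hCWJ e heW fun j hj => by
        rw [he, hez' q (hKX (hQK hq)), hqu, mul_one]; exact heJ q hq j hj
      have he2 : k * e * k⁻¹ = 1 ∨ k * e * k⁻¹ = c := by
        refine hCWJ _ (hinvW k (Subgroup.le_normalizer hkK) e heW) fun j hj => ?_
        have h1 : k * e * k⁻¹ = (k * q * k⁻¹) * z' * (k * q * k⁻¹)⁻¹ * z'⁻¹ := by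
          calc k * e * k⁻¹ = (k * q * k⁻¹) * (k * z' * k⁻¹) * (k * q * k⁻¹)⁻¹ * (k * z' * k⁻¹)⁻¹ := by
                rw [he]; group
            _ = _ := by rw [hk'.eq, mul_inv_cancel_right]
        rw [h1, hez' _ (hKX (hQK hqk)),
          ((hom Q u (hWV huW)).2.1 _ hqk).eq, mul_inv_cancel_right, mul_inv_cancel, mul_one]
        exact heJ _ hqk j hj
      have he0 : e = 1 := by
        rcases he1 with h | h
        · exact h
        rcases he2 with h' | h'
        · exact conj_eq_one_iff.mp h'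
        · refine hfpf e heW (mul_inv_eq_iff_eq_mul.mp ?_)
          rw [h', h]
      rw [he, mul_inv_eq_one, mul_inv_eq_iff_eq_mul] at he0
      exact he0
    have hKc : ∀ g ∈ K, Commute g z' := by
      intro g hg
      have hle : K ≤ Subgroup.centralizer ({z'} : Set G) := by
        rw [← hQk]
        exact sup_le (fun q hq => Subgroup.mem_centralizer_singleton_iff.mpr (hQc q hq).eq)
          (Subgroup.zpowers_le.mpr (Subgroup.mem_centralizer_singleton_iff.mpr hk'.eq))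
      exact Subgroup.mem_centralizer_singleton_iff.mp (hle hg)
    have hJc : ∀ j ∈ J, Commute j z' := by
      intro j hj
      set e := j * z' * j⁻¹ * z'⁻¹ with he
      have heW : e ∈ W := by
        rw [he, hez' j (hJX hj), (hzc j hj).eq, mul_inv_cancel_right, mul_inv_cancel, one_mul]
        exact W.mul_mem (hinvW j (hJN hj) u huW) (W.inv_mem huW)
      have hke : Commute k e := by
        have h1 : Commute k (j * z' * j⁻¹) := by
          have h2 := (hKc _ ((Subgroup.mem_normalizer_iff.mp (Subgroup.inv_mem _ (hJN hj)) k).mp hkK)).map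
            (MulAut.conj j).toMonoidHom
          simpa [mul_assoc] using h2
        exact h1.mul_right hk'.inv_right
      have he0 := hfpf e heW hke
      rw [he, mul_inv_eq_one, mul_inv_eq_iff_eq_mul] at he0
      exact he0
    have huc : ∀ j ∈ J, Commute j u := fun j hj => by
      have := (hzc j hj).inv_right.mul_right (hJc j hj)
      rwa [hz', inv_mul_cancel_left] at this
    have huZ : u ∈ Z₀ := by
      rcases hCWJ u huW huc with rfl | rfl
      · exact one_mem _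
      · exact hcZ
    have hz'mem : z' ∈ Z₀ ⊓ ((K ⊔ J) ⊓ Subgroup.centralizer ((K : Set G) ⊔ (J : Set G))) := by
      refine ⟨Z₀.mul_mem hz huZ, X.mul_mem (hJX hzJ) (hWX huW), ?_⟩
      have hle : K ⊔ J ≤ Subgroup.centralizer ({z'} : Set G) :=
        sup_le (fun g hg => Subgroup.mem_centralizer_singleton_iff.mpr (hKc g hg).eq)
          (fun j hj => Subgroup.mem_centralizer_singleton_iff.mpr (hJc j hj).eq)
      rintro g (hg | hg)
      · exact (hKc g hg).eq
      · exact (hJc g hg).eq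
    have e : z = z' * u⁻¹ := by rw [hz', mul_inv_cancel_right]
    rw [e]
    exact Subgroup.mul_mem _ (Subgroup.mem_sup_left hz'mem)
      (Subgroup.mem_sup_right ⟨Z₀.inv_mem huZ, W.inv_mem huW⟩)

end Cfsg.Agent.S2946
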