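import Cfsg.Statements.S2955
import Cfsg.Agent.H61.SylowControl

set_option autoImplicit false
open Cfsg

namespace Cfsg.Agent.S2955

/-- Let p be a prime dividing the order of the finite group G and 𝓕 a conjugation-closed family of subgroups that controls Sylow p-intersections in G. Suppose the Sylow p-subgroups of G are chain-connected: any two of them are joined by a chain of Sylow p-subgroups, consecutive ones distinct with nontrivial intersection, all containing the intersection of the two ends (equivalently, the graph on the Sylow p-subgroups whose edges are the distinct pairs meeting nontrivially is connected). Then for every Sylow p-subgroup S, G is generated by N_G(S) together with the members of 𝓕 that meet S in a Sylow p-subgroup of themselves. -/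
theorem result {G : Type*} [Group G] [Finite G] (p : ℕ) [Fact p.Prime] (hdiv : p ∣ Nat.card G)
    (𝓕 : Set (Subgroup G)) (h𝓕 : Cfsg.IsNormalSet 𝓕) (hc : Cfsg.ControlsSylowIntersections p 𝓕)
    (hconn : Cfsg.IsSylowChainConnected p G) (S : Sylow p G) :
    (⨆ X ∈ Cfsg.sylowMembers p 𝓕 (S : Subgroup G), X) ⊔ Subgroup.normalizer ((S : Subgroup G) : Set G) = ⊤ := by
  rw [eq_top_iff]
  intro g _
  set L := (⨆ X ∈ Cfsg.sylowMembers p 𝓕 (S : Subgroup G), X) ⊔ Subgroup.normalizer ((S : Subgroup G) : Set G)
  suffices key : ∀ T : Sylow p G, ∃ h ∈ L, h • S = T by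
    obtain ⟨h, hh, he⟩ := key (g • S)
    have hn : h⁻¹ * g ∈ Subgroup.normalizer ((S : Subgroup G) : Set G) := by
      apply Sylow.smul_eq_iff_mem_normalizer.mp
      rw [mul_smul, ← he, inv_smul_smul]
    simpa using L.mul_mem hh (Subgroup.mem_sup_right (S := ⨆ X ∈ Cfsg.sylowMembers p 𝓕 (S : Subgroup G), X) hn)
  intro T
  obtain ⟨n, c, h0, hn, -, hs⟩ := hconn S T
  suffices ∀ i : Fin (n + 1), ∃ h ∈ L, h • S = c i from hn ▸ this (Fin.last n)
  intro i
  induction i using Fin.induction with
  | zero => exact ⟨1, L.one_mem, by rw [one_smul, h0]⟩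
  | succ i ih =>
    have hr := H61.controls_iff.mp hc _ _ (hs i).2
    refine (?_ : ∀ V, H61.Reach p 𝓕 _ (c i.castSucc) V → ∃ h ∈ L, h • S = V) _ hr
    intro V hV
    induction hV with
    | refl => exact ih
    | @tail A B _ hstep ih2 =>
      obtain ⟨h, hh, rfl⟩ := ih2
      obtain ⟨X, hX, x, hx, h1, h2, -, -⟩ := hstep
      have hmem : H61.cj h⁻¹ X ∈ Cfsg.sylowMembers p 𝓕 (S : Subgroup G) := by
        rw [H61.sylowMembers_iff]
        refine ⟨?_, ?_⟩
        · exact h𝓕 X hX h
        · have := h2.cj h⁻¹
          rwa [H61.cj_inf, H61.coe_smul_sylow, H61.cj_inv_cj] at this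
      have hxL : h⁻¹ * x * h ∈ L := by
        refine Subgroup.mem_sup_left ((le_iSup₂ (f := fun X _ => X) _ hmem) ?_)
        exact ⟨x, hx, by simp⟩
      refine ⟨x * h, ?_, ?_⟩
      · have := L.mul_mem hh hxL
        simpa [mul_assoc] using this
      · apply Sylow.ext
        rw [H61.coe_smul_sylow, ← H61.cj_mul]
        rw [H61.coe_smul_sylow] at h1
        rw [← h1, H61.cj_cj_inv]

end Cfsg.Agent.S2955
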