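import Cfsg.Statements.S2956
import Cfsg.Agent.H61.SylowControl

set_option autoImplicit false
open Cfsg

namespace Cfsg.Agent.S2956

/-- Let p be a prime dividing the order of the finite group G, and f an assignment to every p-subgroup P of a set f(P) of subgroups of P, each normalized by N_G(P), compatible with conjugation, such that for P ≠ 1 the members of f(P) are nontrivial. Let 𝓕 be the family of the normalizers N_G(F) of the members F of f(S) over the Sylow p-subgroups S of G, and 𝓕' the family of the maximal p-local subgroups M of G that are singular for f (the corresponding family of normalizers inside M does not control Sylow p-intersections in M). Then 𝓕 ∪ 𝓕' controls Sylow p-intersections in G. -/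
theorem result {G : Type*} [Group G] [Finite G] (p : ℕ) [Fact p.Prime] (hdiv : p ∣ Nat.card G)
    (f : Subgroup G → Set (Subgroup G)) (hf : Cfsg.IsNormalizerFunctor p f)
    (hf1 : ∀ P : Subgroup G, IsPGroup p ↥P → P ≠ ⊥ → ∀ F ∈ f P, F ≠ ⊥)
    (𝓕 𝓕' : Set (Subgroup G)) (h𝓕 : 𝓕 = Cfsg.functorFamily p f ⊤)
    (h𝓕' : 𝓕' = {M | Cfsg.IsMaximalPLocal p M ∧ ¬ Cfsg.IsFunctorRegular p f M}) :
    Cfsg.ControlsSylowIntersections p (𝓕 ∪ 𝓕') := by
  classical
  subst h𝓕 h𝓕'
  set 𝓖 := Cfsg.functorFamily p f ⊤ ∪ {M | Cfsg.IsMaximalPLocal p M ∧ ¬ Cfsg.IsFunctorRegular p f M}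
  refine H61.controls_iff.mpr fun S T hne => ?_
  suffices key : ∀ D : Subgroup G, D ≠ ⊥ → ∀ S T : Sylow p G, D ≤ (S : Subgroup G) → D ≤ (T : Subgroup G) →
      H61.Reach p 𝓖 D S T from key _ hne S T inf_le_left inf_le_right
  clear hne S T
  intro D
  induction D using WellFoundedGT.induction with
  | _ D ihD =>
  intro hD1
  -- pairs with a larger intersection are joined
  have hbig : ∀ {A B : Sylow p G} {D' : Subgroup G}, D ≤ D' → Nat.card D < Nat.card D' →
      D' ≤ (A : Subgroup G) → D' ≤ (B : Subgroup G) → H61.Reach p 𝓖 D A B := by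
    intro A B D' hle hc hA hB
    have hlt : D < D' := lt_of_le_of_ne hle fun e => hc.ne (by rw [e])
    exact (ihD D' hlt (ne_bot_of_le_ne_bot hD1 hle) A B hA hB).mono hle
  -- pairs over Sylow subgroups of local subgroups
  have hloc : ∀ k : ℕ, ∀ L P Q : Subgroup G, Cfsg.IsPLocal p L → H61.IsSylIn p P L → H61.IsSylIn p Q L →
      D ≤ P → D ≤ Q → Nat.card D < Nat.card P → Nat.card G - Nat.card P = k →
      ∀ A B : Sylow p G, P ≤ (A : Subgroup G) → Q ≤ (B : Subgroup G) → H61.Reach p 𝓖 D A B := by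
    intro k
    induction k using Nat.strong_induction_on with
    | _ k ihk =>
    intro L P Q hL hP hQ hDP hDQ hcard hk A B hPA hQB
    -- a maximal local subgroup above `L`
    obtain ⟨M, ⟨hM, hLM⟩, hMmax⟩ := (Set.toFinite {N : Subgroup G | Cfsg.IsPLocal p N ∧ L ≤ N}).exists_maximal
      ⟨L, hL, le_rfl⟩
    have hMM : Cfsg.IsMaximalPLocal p M :=
      ⟨hM, fun N hN hMN => le_antisymm (hMmax ⟨hN, hLM.trans hMN⟩ hMN) hMN⟩
    obtain ⟨P₁, hPP₁, hP₁⟩ := H61.exists_isSylIn_ge hP.2.1 (hP.1.trans hLM)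
    obtain ⟨Q₁, hQQ₁, hQ₁⟩ := H61.exists_isSylIn_ge hQ.2.1 (hQ.1.trans hLM)
    have hcQ : Nat.card D < Nat.card Q := hQ.card_eq hP ▸ hcard
    have hc1 : Nat.card D < Nat.card P₁ := hcard.trans_le (Subgroup.card_le_of_le hPP₁)
    have hcQ1 : Nat.card D < Nat.card Q₁ := hcQ.trans_le (Subgroup.card_le_of_le hQQ₁)
    obtain ⟨A₁, hA₁⟩ := hP₁.2.1.exists_le_sylow
    obtain ⟨B₁, hB₁⟩ := hQ₁.2.1.exists_le_sylow
    refine (hbig (A := A) (B := A₁) hDP hcard hPA (hPP₁.trans hA₁)).trans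
      (Relation.ReflTransGen.trans ?_ (hbig (A := B₁) (B := B) hDQ hcQ (hQQ₁.trans hB₁) hQB))
    by_cases hreg : Cfsg.IsFunctorRegular p f M
    · have hDd : D ≤ P₁ ⊓ Q₁ := le_inf (hDP.trans hPP₁) (hDQ.trans hQQ₁)
      have hchain := H61.reach_of_regular hreg hP₁ hQ₁ (ne_bot_of_le_ne_bot hD1 hDd)
      suffices ∀ R, Relation.ReflTransGen (H61.StepIn p f M (P₁ ⊓ Q₁)) P₁ R →
          H61.IsSylIn p R M ∧ D ≤ R ∧ ∀ C : Sylow p G, R ≤ (C : Subgroup G) → H61.Reach p 𝓖 D A₁ C from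
        (this _ hchain).2.2 B₁ hB₁
      intro R hR
      induction hR with
      | refl =>
        exact ⟨hP₁, hDP.trans hPP₁, fun C hC => hbig (hDP.trans hPP₁) hc1 hA₁ hC⟩
      | @tail R R' _ hstep ih =>
        obtain ⟨hR', X, hX, x, hx, h1, h2, h3, h4⟩ := hstep
        obtain ⟨hRM, hDR, hreach⟩ := ih
        have hDR' : D ≤ R' := hDd.trans (h4.trans inf_le_left)
        refine ⟨hR', hDR', fun C' hC' => ?_⟩
        obtain ⟨U, hU, F, hF, rfl⟩ := H61.mem_functorFamily.mp hX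
        have hU1 : U ≠ ⊥ := fun h0 => by
          have := hc1
          rw [hP₁.card_eq hU, h0, Subgroup.card_bot] at this
          exact absurd this (not_lt.mpr Nat.card_pos)
        obtain ⟨hFU, hNF⟩ := (hf U hU.2.1).1 F hF
        have hUX : U ≤ M ⊓ Subgroup.normalizer (F : Set G) :=
          le_inf hU.1 (Subgroup.le_normalizer.trans hNF)
        have hRN := (H61.le_of_inf_isSylIn hRM hU hUX h2).trans inf_le_right
        have hR'N := (H61.le_of_inf_isSylIn hR' hU hUX h3).trans inf_le_right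
        obtain ⟨V, hV⟩ := hU.2.1.exists_le_sylow
        by_cases hVU : (V : Subgroup G) = U
        · -- `R`, `R'` are Sylow subgroups of `G`
          have hfull : ∀ {W : Subgroup G}, H61.IsSylIn p W M → ∀ {Z : Sylow p G}, W ≤ (Z : Subgroup G) →
              (Z : Subgroup G) = W := fun {W} hW {Z} hWZ => by
            refine (Subgroup.eq_of_le_of_card_ge hWZ ?_).symm
            rw [hW.card_eq hU, ← hVU, (H61.isSylIn_top Z).card_eq (H61.isSylIn_top V)]
          obtain ⟨C, hC⟩ := hRM.2.1.exists_le_sylow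
          have hCR := hfull hRM hC
          have hC'R := hfull hR' hC'
          refine (hreach C hC).tail ⟨Subgroup.normalizer (F : Set G),
            Or.inl (H61.mem_functorFamily_top.mpr ⟨V, F, hVU ▸ hF, rfl⟩), x, hx.2, ?_, ?_, ?_, ?_⟩
          · rw [hCR, hC'R]; exact h1
          · exact H61.isSylIn_inf_of_le C (hCR ▸ hRN)
          · exact H61.isSylIn_inf_of_le C' (hC'R ▸ hR'N)
          · rw [hC'R]; exact le_inf hDR' (hDR'.trans hR'N)
        · -- move into the larger local subgroup `N(F)`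
          have hgt := H61.exists_normalizer_gt V.isPGroup' (lt_of_le_of_ne hV (Ne.symm hVU))
          obtain ⟨R₂, hR₂le, hR₂⟩ := H61.exists_isSylIn_ge hRM.2.1 hRN
          obtain ⟨R₂', hR₂'le, hR₂'⟩ := H61.exists_isSylIn_ge hR'.2.1 hR'N
          have hbigger : Nat.card U < Nat.card R₂ := by
            refine lt_of_lt_of_le ?_ (hR₂.card_le (IsPGroup.to_inf_left V.isPGroup') (inf_le_right.trans hNF))
            exact lt_of_le_of_ne (Subgroup.card_le_of_le hgt.le) fun e =>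
              hgt.ne (Subgroup.eq_of_le_of_card_ge hgt.le e.ge)
          obtain ⟨C₂, hC₂⟩ := hR₂.2.1.exists_le_sylow
          obtain ⟨C₂', hC₂'⟩ := hR₂'.2.1.exists_le_sylow
          have hcR : Nat.card D < Nat.card R := hP₁.card_eq hRM ▸ hc1
          have hcR' : Nat.card D < Nat.card R' := hP₁.card_eq hR' ▸ hc1
          have hloc' : Cfsg.IsPLocal p (Subgroup.normalizer (F : Set G)) :=
            ⟨F, hU.2.1.to_le hFU, hf1 U hU.2.1 hU1 F hF, rfl⟩
          have hP₁U : Nat.card P ≤ Nat.card U := (hP₁.card_eq hU) ▸ Subgroup.card_le_of_le hPP₁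
          have hR₂G : Nat.card R₂ ≤ Nat.card G := Subgroup.card_le_card_group R₂
          refine (hreach C₂ (hR₂le.trans hC₂)).trans (Relation.ReflTransGen.trans
            (ihk (Nat.card G - Nat.card R₂) (by omega) _ R₂ R₂' hloc' hR₂ hR₂' (hDR.trans hR₂le)
              (hDR'.trans hR₂'le) (hcR.trans_le (Subgroup.card_le_of_le hR₂le)) rfl C₂ C₂' hC₂ hC₂')
            (hbig (A := C₂') (B := C') hDR' hcR' (hR₂'le.trans hC₂') hC'))
    · obtain ⟨x, hxM, hx⟩ := hP₁.conj hQ₁
      have hA' : (A₁ : Subgroup G) ⊓ M = P₁ :=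
        hP₁.2.2 _ inf_le_right (IsPGroup.to_inf_left A₁.isPGroup') (le_inf hA₁ hP₁.1)
      have hxA : ((x • A₁ : Sylow p G) : Subgroup G) ⊓ M = Q₁ := by
        rw [H61.coe_smul_sylow, ← H61.cj_eq_self_of_mem hxM, ← H61.cj_inf, hA', hx]
      refine Relation.ReflTransGen.head (b := x • A₁) ⟨M, Or.inr ⟨hMM, hreg⟩, x, hxM, ?_, ?_, ?_, ?_⟩ ?_
      · rw [H61.coe_smul_sylow, H61.cj_inv_cj]
      · rw [hA']; exact hP₁
      · rw [hxA]; exact hQ₁
      · rw [hxA]; exact hDQ.trans hQQ₁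
      · exact hbig (hDQ.trans hQQ₁) hcQ1 (hxA ▸ inf_le_left) hB₁
  intro S T hDS hDT
  by_cases hSeq : D = (S : Subgroup G)
  · have hTS : T = S := Sylow.ext (S.3 T.isPGroup' (hSeq ▸ hDT))
    rw [hTS]; exact .refl
  by_cases hTeq : D = (T : Subgroup G)
  · have hTS : S = T := Sylow.ext (T.3 S.isPGroup' (hTeq ▸ hDS))
    rw [hTS]; exact .refl
  have hS' := H61.exists_normalizer_gt S.isPGroup' (lt_of_le_of_ne hDS hSeq)
  have hT' := H61.exists_normalizer_gt T.isPGroup' (lt_of_le_of_ne hDT hTeq)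
  obtain ⟨P, hPle, hP⟩ := H61.exists_isSylIn_ge (IsPGroup.to_inf_left S.isPGroup') (inf_le_right :
    (S : Subgroup G) ⊓ Subgroup.normalizer (D : Set G) ≤ Subgroup.normalizer (D : Set G))
  obtain ⟨Q, hQle, hQ⟩ := H61.exists_isSylIn_ge (IsPGroup.to_inf_left T.isPGroup') (inf_le_right :
    (T : Subgroup G) ⊓ Subgroup.normalizer (D : Set G) ≤ Subgroup.normalizer (D : Set G))
  obtain ⟨A, hA⟩ := hP.2.1.exists_le_sylow
  obtain ⟨B, hB⟩ := hQ.2.1.exists_le_sylow
  have hcS : Nat.card D < Nat.card ((S : Subgroup G) ⊓ Subgroup.normalizer (D : Set G) : Subgroup G) :=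
    lt_of_le_of_ne (Subgroup.card_le_of_le hS'.le) fun e => hS'.ne (Subgroup.eq_of_le_of_card_ge hS'.le e.ge)
  have hcT : Nat.card D < Nat.card ((T : Subgroup G) ⊓ Subgroup.normalizer (D : Set G) : Subgroup G) :=
    lt_of_le_of_ne (Subgroup.card_le_of_le hT'.le) fun e => hT'.ne (Subgroup.eq_of_le_of_card_ge hT'.le e.ge)
  exact (hbig (A := S) (B := A) hS'.le hcS inf_le_left (hPle.trans hA)).trans (Relation.ReflTransGen.trans
    (hloc _ _ P Q ⟨D, S.isPGroup'.to_le hDS, hD1, rfl⟩ hP hQ (hS'.le.trans hPle) (hT'.le.trans hQle)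
      (hcS.trans_le (Subgroup.card_le_of_le hPle)) rfl A B hA hB)
    (hbig (A := B) (B := T) hT'.le hcT (hQle.trans hB) inf_le_left))

end Cfsg.Agent.S2956
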