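import Cfsg.Statements.S2957
import Cfsg.Agent.H61.SylowControl
import Cfsg.Agent.S2940

set_option autoImplicit false
open Cfsg

namespace Cfsg.Agent.S2957

/-- Let p be a prime dividing the order of the finite group G, f an equivariant assignment of a set of subgroups f(P) of P to every p-subgroup P, each normalized by N_G(P), and S a Sylow p-subgroup. If G = G₁G₂ for subgroups G₁, G₂ both containing S and both regular for f (in each Gᵢ, the family of normalizers in Gᵢ of the members of f(P), P a Sylow p-subgroup of Gᵢ, controls Sylow p-intersections), then G itself is regular for f. -/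
theorem result {G : Type*} [Group G] [Finite G] (p : ℕ) [Fact p.Prime] (hdiv : p ∣ Nat.card G)
    (f : Subgroup G → Set (Subgroup G)) (hf : Cfsg.IsNormalizerFunctor p f) (S : Sylow p G)
    (G₁ G₂ : Subgroup G) (h₁ : (S : Subgroup G) ≤ G₁) (h₂ : (S : Subgroup G) ≤ G₂)
    (hprod : ∀ g : G, ∃ g₁ ∈ G₁, ∃ g₂ ∈ G₂, g = g₁ * g₂)
    (hr₁ : Cfsg.IsFunctorRegular p f G₁) (hr₂ : Cfsg.IsFunctorRegular p f G₂) :
    Cfsg.IsFunctorRegular p f ⊤ := by
  refine H61.regular_top_of_reach fun A B hne => ?_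
  set D := (A : Subgroup G) ⊓ (B : Subgroup G)
  -- move `A` to `S`
  obtain ⟨g, hg⟩ := MulAction.exists_smul_eq G A S
  obtain ⟨a, ha⟩ := MulAction.exists_smul_eq G (g • B) S
  have hDA : H61.cj g D ≤ (S : Subgroup G) := hg ▸ Subgroup.map_mono inf_le_left
  have hgB : g • B = a⁻¹ • S := by rw [← ha, inv_smul_smul]
  have hDB : H61.cj g D ≤ Cfsg.subgroupConjRight a (S : Subgroup G) := by
    have h := Subgroup.map_mono (f := (MulAut.conj g).toMonoidHom) (inf_le_right : D ≤ (B : Subgroup G))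
    change H61.cj g D ≤ H61.cj a⁻¹ (S : Subgroup G)
    rw [← H61.coe_smul_sylow, ← hgB]
    exact h
  obtain ⟨U, hU1, hU2⟩ : ∃ U : Sylow p G,
      (S : Subgroup G) ⊓ Cfsg.subgroupConjRight a (S : Subgroup G) ≤ (U : Subgroup G) ∧
      (U : Subgroup G) ≤ G₁ ⊓ Cfsg.subgroupConjRight a G₂ :=
    S2940.result S G₁ G₂ h₁ h₂ hprod a
  have hDU : H61.cj g D ≤ (U : Subgroup G) := (le_inf hDA hDB).trans hU1
  have hD1 : H61.cj g D ≠ ⊥ := fun h0 => hne
    ((Subgroup.map_eq_bot_iff_of_injective _ (MulAut.conj g).injective).mp h0)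
  have r1 : H61.Reach p (Cfsg.functorFamily p f ⊤) (H61.cj g D) S U :=
    (H61.reach_of_regular_of_le hf hr₁ h₁ (hU2.trans inf_le_left)
      fun h0 => hD1 (le_bot_iff.mp (h0 ▸ le_inf hDA hDU))).mono (le_inf hDA hDU)
  have r2 : H61.Reach p (Cfsg.functorFamily p f ⊤) (H61.cj g D) U (g • B) := by
    have hU' : ((a • U : Sylow p G) : Subgroup G) ≤ G₂ := by
      rw [H61.coe_smul_sylow, ← H61.cj_cj_inv a G₂]
      exact Subgroup.map_mono (hU2.trans inf_le_right)
    have hle : H61.cj a (H61.cj g D) ≤ ((a • U : Sylow p G) : Subgroup G) ⊓ (S : Subgroup G) :=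
      le_inf (Subgroup.map_mono hDU) (by rw [← H61.cj_cj_inv a (S : Subgroup G)]; exact Subgroup.map_mono hDB)
    have hne2 : H61.cj a (H61.cj g D) ≠ ⊥ := fun h0 => hD1
      ((Subgroup.map_eq_bot_iff_of_injective _ (MulAut.conj a).injective).mp h0)
    have := ((H61.reach_of_regular_of_le hf hr₂ hU' h₂
      fun h0 => hne2 (le_bot_iff.mp (h0 ▸ hle))).mono hle).conj (H61.functorFamily_top_conj hf) a⁻¹
    rwa [H61.cj_inv_cj, inv_smul_smul, ← hgB] at this
  have := H61.Reach.conj (H61.functorFamily_top_conj hf) (r1.trans r2) g⁻¹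
  rwa [H61.cj_inv_cj, ← hg, inv_smul_smul, inv_smul_smul] at this

end Cfsg.Agent.S2957
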