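import Cfsg.Statements.S2958


set_option autoImplicit false
open Cfsg

namespace Cfsg.Agent.S2958

/-- Let X, A, B be subgroups of a group G such that G is generated by the conjugates of X and every conjugate of X is contained in A or in B. Then A = G or B = G. -/
theorem result {G : Type*} [Group G] (X A B : Subgroup G) (hgen : (⨆ g : G, X.map (MulAut.conj g).toMonoidHom) = ⊤) (hcover : ∀ g : G, X.map (MulAut.conj g).toMonoidHom ≤ A ∨ X.map (MulAut.conj g).toMonoidHom ≤ B) : A = ⊤ ∨ B = ⊤ := by
  classical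
  let c : G → Subgroup G := fun g => X.map (MulAut.conj g).toMonoidHom
  have hc : ∀ a g, (c g).map (MulAut.conj a).toMonoidHom = c (a * g) := by
    intro a g
    simp only [c, Subgroup.map_map]
    congr 1
    ext x
    simp [mul_assoc]
  by_cases hA : ∀ g, c g ≤ B
  · right
    rw [eq_top_iff, ← hgen]
    exact iSup_le hA
  left
  push Not at hA
  obtain ⟨g₀, hg₀⟩ := hA
  let A₁ : Subgroup G := ⨆ g : {g : G // ¬ c g ≤ B}, c g
  have hA₁ : A₁ ≤ A := iSup_le fun g => (hcover g).resolve_right g.2
  have hnorm : ∀ g, c g ≤ Subgroup.normalizer (A₁ : Set G) := by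
    intro g
    by_cases hg : c g ≤ B
    · intro b hb
      have hbB : b ∈ B := hg hb
      have key : ∀ a ∈ B, A₁.map (MulAut.conj a).toMonoidHom ≤ A₁ := by
        intro a ha
        simp only [A₁, Subgroup.map_iSup]
        refine iSup_le fun h => ?_
        rw [hc]
        have : ¬ c (a * (h : G)) ≤ B := by
          intro hle
          apply h.2
          intro y hy
          have : a * y * a⁻¹ ∈ B := by
            apply hle
            rw [← hc]
            exact ⟨y, hy, by simp⟩
          simpa [mul_assoc] using B.mul_mem (B.mul_mem (B.inv_mem ha) this) ha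
        exact le_iSup (fun g : {g : G // ¬ c g ≤ B} => c g) ⟨_, this⟩
      rw [Subgroup.mem_normalizer_iff]
      intro y
      constructor
      · intro hy; exact key b hbB ⟨y, hy, by simp⟩
      · intro hy
        have := key b⁻¹ (B.inv_mem hbB) ⟨b * y * b⁻¹, hy, rfl⟩
        simpa [mul_assoc] using this
    · exact (le_iSup (fun g : {g : G // ¬ c g ≤ B} => c g) ⟨g, hg⟩).trans Subgroup.le_normalizer
  have hN : Subgroup.normalizer (A₁ : Set G) = ⊤ := by
    rw [eq_top_iff, ← hgen]; exact iSup_le hnorm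
  have hn : A₁.Normal := Subgroup.normalizer_eq_top_iff.mp hN
  have h0 : c g₀ ≤ A₁ := le_iSup (fun g : {g : G // ¬ c g ≤ B} => c g) ⟨g₀, hg₀⟩
  rw [eq_top_iff, ← hgen]
  refine iSup_le fun g => le_trans ?_ hA₁
  intro y hy
  obtain ⟨x, hx, rfl⟩ := hy
  have h1 : g₀ * x * g₀⁻¹ ∈ A₁ := h0 ⟨x, hx, by simp⟩
  have := hn.conj_mem _ h1 (g * g₀⁻¹)
  simpa [mul_assoc] using this

end Cfsg.Agent.S2958
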