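import Cfsg.Statements.S2963
open scoped Pointwise

set_option autoImplicit false
open Cfsg

namespace Cfsg.Agent.S2963

/-- Let n be odd. If the symmetric group of degree n is a minimal parabolic group for the prime 2, that is, a Sylow 2-subgroup is not normal and lies in exactly one maximal subgroup, then n = 2^m + 1 for some natural number m. -/
theorem result (n : ℕ) (hn : Odd n) (h : Cfsg.IsPMinimal 2 (Equiv.Perm (Fin n))) : ∃ m : ℕ, n = 2 ^ m + 1 := by
  classical
  obtain ⟨S⟩ : Nonempty (Sylow 2 (Equiv.Perm (Fin n))) := inferInstance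
  obtain ⟨hnn, M, ⟨hMc, hSM⟩, huniq⟩ := h S
  have hle : ∀ K : Subgroup (Equiv.Perm (Fin n)), (S : Subgroup (Equiv.Perm (Fin n))) ≤ K → K ≠ ⊤ → K ≤ M := by
    intro K hK hKt
    obtain ht | ⟨C, hC, hKC⟩ := eq_top_or_exists_le_coatom K
    · exact absurd ht hKt
    · exact huniq C ⟨hC, hK.trans hKC⟩ ▸ hKC
  obtain rfl | hn1 := eq_or_ne n 1
  · exact absurd (inferInstance : Subsingleton (Subgroup (Equiv.Perm (Fin 1)))) (fun _ => hnn (by
      rw [Subsingleton.elim (S : Subgroup (Equiv.Perm (Fin 1))) ⊥]; infer_instance))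
  have : Fact (Nat.Prime 2) := ⟨Nat.prime_two⟩
  obtain ⟨a, ha⟩ := S.isPGroup'.nonempty_fixed_point_of_prime_not_dvd_card (Fin n)
    (by rw [Nat.card_fin]; exact fun h2 => (Nat.not_even_iff_odd.mpr hn) (even_iff_two_dvd.mpr h2))
  obtain ⟨b, hb⟩ : ∃ b : Fin n, b ≠ a := Fin.exists_ne_and_ne_of_two_lt a a (by
    obtain ⟨k, rfl⟩ := hn; omega) |>.imp fun _ => And.left
  set B := MulAction.orbit (S : Subgroup (Equiv.Perm (Fin n))) b with hB
  have haB : a ∉ B := by
    rintro ⟨s, hs⟩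
    have := ha s⁻¹
    apply hb
    rw [← this, ← hs, inv_smul_smul]
  by_cases hcov : ∀ c, c ≠ a → c ∈ B
  · obtain ⟨m, hm⟩ := S.isPGroup'.card_orbit b
    refine ⟨m, ?_⟩
    have he : B = ({a} : Set (Fin n))ᶜ :=
      Set.ext fun c => ⟨fun hc hca => haB (hca ▸ hc), hcov c⟩
    rw [← hm, ← hB, he, Nat.card_coe_set_eq, Set.ncard_compl, Nat.card_fin, Set.ncard_singleton]
    obtain ⟨k, rfl⟩ := hn
    omega
  exfalso
  push Not at hcov
  obtain ⟨c, hca, hcB⟩ := hcov
  set K₁ := MulAction.stabilizer (Equiv.Perm (Fin n)) a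
  set K₂ := MulAction.stabilizer (Equiv.Perm (Fin n)) B
  have hS1 : (S : Subgroup (Equiv.Perm (Fin n))) ≤ K₁ := fun s hs => ha ⟨s, hs⟩
  have hS2 : (S : Subgroup (Equiv.Perm (Fin n))) ≤ K₂ := fun s hs =>
    MulAction.smul_orbit (⟨s, hs⟩ : (S : Subgroup (Equiv.Perm (Fin n)))) b
  have hbB : b ∈ B := MulAction.mem_orbit_self b
  have hM1 : K₁ ≤ M := hle _ hS1 fun ht => by
    have h' := (MulAction.mem_stabilizer_iff.mp (ht.symm ▸ Subgroup.mem_top (Equiv.swap a b) : Equiv.swap a b ∈ K₁))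
    rw [Equiv.Perm.smul_def, Equiv.swap_apply_left] at h'
    exact hb h'
  have hM2 : K₂ ≤ M := hle _ hS2 fun ht => by
    have h' := (MulAction.mem_stabilizer_iff.mp (ht.symm ▸ Subgroup.mem_top (Equiv.swap a b) : Equiv.swap a b ∈ K₂))
    apply haB
    rw [← h']
    exact ⟨b, hbB, Equiv.swap_apply_right a b⟩
  have hac : Equiv.swap a c ∈ M := by
    apply hM2
    rw [MulAction.mem_stabilizer_iff]
    have hfix : ∀ x ∈ B, Equiv.swap a c • x = x := fun x hx => Equiv.swap_apply_of_ne_of_ne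
      (fun e : x = a => haB (e ▸ hx)) (fun e : x = c => hcB (e ▸ hx))
    ext x
    constructor
    · rintro ⟨y, hy, rfl⟩
      dsimp only
      rwa [hfix y hy]
    · exact fun hx => ⟨x, hx, hfix x hx⟩
  have hswap : ∀ u v : Fin n, u ≠ v → Equiv.swap u v ∈ M := by
    have h1 : ∀ u v : Fin n, u ≠ a → v ≠ a → Equiv.swap u v ∈ M := fun u v hu hv => hM1
      (MulAction.mem_stabilizer_iff.mpr (Equiv.swap_apply_of_ne_of_ne hu.symm hv.symm))
    have h2 : ∀ v : Fin n, v ≠ a → Equiv.swap a v ∈ M := by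
      intro v hv
      by_cases hvc : v = c
      · rwa [hvc]
      rw [← Equiv.swap_mul_swap_mul_swap (x := a) (y := c) (z := v) hca.symm hv.symm |>.trans (Equiv.swap_comm _ _)]
      exact M.mul_mem (M.mul_mem (h1 c v hca hv) hac) (h1 c v hca hv)
    intro u v huv
    by_cases hu : u = a
    · exact hu ▸ h2 v (fun e => huv (hu.trans e.symm))
    by_cases hv : v = a
    · rw [Equiv.swap_comm]; exact hv ▸ h2 u hu
    exact h1 u v hu hv
  apply hMc.1
  rw [eq_top_iff, ← Equiv.Perm.closure_isSwap, Subgroup.closure_le]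
  rintro _ ⟨u, v, huv, rfl⟩
  exact hswap u v huv

end Cfsg.Agent.S2963
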