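import Cfsg.Statements.S2968
import Cfsg.Agent.H61.Isolated

set_option autoImplicit false
open Cfsg

namespace Cfsg.Agent.S2968

/-- Let G be a finite group, p a prime, P a Sylow p-subgroup of G and x ∈ P an element of p-power order which is isolated in G (the only conjugate of x commuting with x is x itself). Then x lies in the centre of P, and the subgroup generated by x is both strongly closed and weakly closed in P with respect to G. -/
theorem result {G : Type*} [Group G] [Finite G] {p : ℕ} [Fact p.Prime] (P : Sylow p G) (x : G) (hxP : x ∈ (P : Subgroup G)) (hx : ∃ k : ℕ, orderOf x = p ^ k) (hiso : Cfsg.IsIsolated x) : x ∈ (P : Subgroup G) ⊓ Subgroup.centralizer ((P : Subgroup G) : Set G) ∧ Cfsg.IsStronglyClosed (Subgroup.zpowers x) (P : Subgroup G) ∧ Cfsg.IsWeaklyClosed (Subgroup.zpowers x) (P : Subgroup G) := by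
  have hc := H61.normalizer_le_centralizer_of_isolated hiso P.isPGroup' hxP
  have hcen : x ∈ Subgroup.centralizer ((P : Subgroup G) : Set G) := by
    intro r hr
    exact Subgroup.mem_centralizer_singleton_iff.mp (hc (Subgroup.le_normalizer hr))
  have hle : Subgroup.zpowers x ≤ (P : Subgroup G) := Subgroup.zpowers_le.mpr hxP
  refine ⟨⟨hxP, hcen⟩, ⟨hle, fun q hq g hg => ?_⟩, ⟨hle, fun g hg => ?_⟩⟩
  · obtain ⟨n, rfl⟩ := Subgroup.mem_zpowers_iff.mp hq
    -- pull `x ^ n` and `x` into one Sylow subgroup of the centralizer of the conjugate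
    set y := g * x ^ n * g⁻¹ with hy
    have hxy : x ∈ Subgroup.centralizer ({y} : Set G) := by
      rw [Subgroup.mem_centralizer_singleton_iff]
      exact (hcen y hg).symm
    have hzy : g * x * g⁻¹ ∈ Subgroup.centralizer ({y} : Set G) := by
      rw [Subgroup.mem_centralizer_singleton_iff, hy]
      group
    obtain ⟨h, hhC, hh⟩ := H61.exists_mem_conj hx hiso hxy hzy
    rw [Subgroup.mem_centralizer_singleton_iff] at hhC hh
    have : y = x ^ n := by
      have e1 : h * y * h⁻¹ = y := by rw [hhC]; group
      have e2 : (h * g) * x ^ n * (h * g)⁻¹ = x ^ n := by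
        rw [((show Commute (h * g) x from hh).zpow_right n).eq]; group
      rw [← e1, hy]
      calc h * (g * x ^ n * g⁻¹) * h⁻¹ = (h * g) * x ^ n * (h * g)⁻¹ := by group
        _ = x ^ n := e2
    rw [this]
    exact Subgroup.zpow_mem _ (Subgroup.mem_zpowers x) n
  · have hgx : g * x * g⁻¹ ∈ (P : Subgroup G) :=
      hg ⟨x, Subgroup.mem_zpowers x, rfl⟩
    rw [MonoidHom.map_zpowers]
    congr 1
    exact H61.eq_of_conj_mem hiso P.isPGroup' hxP hgx

end Cfsg.Agent.S2968
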