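import Cfsg.Statements.S2971
import Cfsg.Agent.H61.RankOne
import Cfsg.Agent.Cores.PCore

set_option autoImplicit false
open Cfsg

namespace Cfsg.Agent.S2971

/-- Let G be a finite group and p an odd prime such that G has p-rank at most 1 (no elementary abelian subgroup of order p²). If x ∈ G is an isolated element of order p, then x is central modulo the largest normal subgroup of G of order prime to p. -/
theorem result {G : Type*} [Group G] [Finite G] {p : ℕ} [Fact p.Prime] (hp : p ≠ 2) (hrk : Cfsg.PRankLE p 1 G) (x : G) (hx : orderOf x = p) (hiso : Cfsg.IsIsolated x) : Cfsg.InZStar p x := by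
  classical
  have hx' : ∃ k : ℕ, orderOf x = p ^ k := ⟨1, by rw [hx, pow_one]⟩
  have hx1 : x ≠ 1 := fun h => (Fact.out : p.Prime).one_lt.ne' (by rw [← hx, h, orderOf_one])
  obtain ⟨P, hP⟩ := (H61.isPGroup_zpowers hx').exists_le_sylow
  have hxP : x ∈ (P : Subgroup G) := hP (Subgroup.mem_zpowers x)
  have hsub : ∀ z ∈ (P : Subgroup G), z ^ p = 1 → z ∈ Subgroup.zpowers x := by
    intro z hz hzp
    have hxz : Commute x z := (Subgroup.mem_centralizer_singleton_iff.mp
      (H61.normalizer_le_centralizer_of_isolated hiso P.isPGroup' hxP (Subgroup.le_normalizer hz))).symm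
    set A := Subgroup.closure ({x, z} : Set G)
    have hAc : IsMulCommutative A := Subgroup.isMulCommutative_closure (by
      rintro a (rfl | rfl) b (rfl | rfl) <;> first | rfl | exact hxz.eq | exact hxz.symm.eq)
    have hxp : x ^ p = 1 := by rw [← hx]; exact pow_orderOf_eq_one x
    have hAp : ∀ a ∈ A, a ^ p = 1 := by
      intro a ha
      induction ha using Subgroup.closure_induction with
      | mem a ha => rcases ha with rfl | rfl <;> assumption
      | one => exact one_pow p
      | mul a b ha hb h1 h2 =>
        have : Commute a b := congrArg Subtype.val (hAc.is_comm.comm ⟨a, ha⟩ ⟨b, hb⟩)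
        rw [this.mul_pow, h1, h2, one_mul]
      | inv a _ h1 => rw [inv_pow, h1, inv_one]
    have hle : Subgroup.zpowers x ≤ A := Subgroup.zpowers_le.mpr (Subgroup.subset_closure (Or.inl rfl))
    have := Subgroup.eq_of_le_of_card_ge hle (by rw [Nat.card_zpowers, hx]; simpa using hrk A hAc hAp)
    exact this ▸ Subgroup.subset_closure (Or.inr rfl)
  have hcyc : IsCyclic (P : Subgroup G) := by
    refine H61.isCyclic_of_card_pow_eq_one_le hp P.isPGroup' ?_
    calc Nat.card {y : (P : Subgroup G) // y ^ p = 1} ≤ Nat.card (Subgroup.zpowers x) :=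
          Nat.card_le_card_of_injective
            (fun y => (⟨((y : (P : Subgroup G)) : G), hsub _ y.1.2 (by simpa using congrArg Subtype.val y.2)⟩ :
              Subgroup.zpowers x))
            (fun a b hab => by
              have := congrArg (fun t : Subgroup.zpowers x => (t : G)) hab
              exact Subtype.ext (Subtype.ext this))
      _ = p := by rw [Nat.card_zpowers, hx]
  have hc := H61.hasNormalPComplement_of_isolated hx' hiso hx1 P hxP hcyc
  have hcomp := Fusion.isComplement'_pResidual hc P
  have hle : Cfsg.pResidual p G ≤ Cfsg.pPrimeCore p G := by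
    apply Cores.le_pPrimeCore
    exact ((Fact.out : p.Prime).coprime_iff_not_dvd.mpr (Fusion.hasNormalPComplement_iff_pResidual.mp hc)).symm
  intro g
  obtain ⟨⟨n, y⟩, hny⟩ := hcomp.2 g
  simp only at hny
  have hyx : (y : G) * x = x * y := Subgroup.mem_centralizer_singleton_iff.mp
    (H61.normalizer_le_centralizer_of_isolated hiso P.isPGroup' hxP (Subgroup.le_normalizer y.2))
  have e : g * x * g⁻¹ * x⁻¹ = (n : G) * (x * (n : G)⁻¹ * x⁻¹) := by
    rw [← hny]
    calc (n : G) * y * x * ((n : G) * y)⁻¹ * x⁻¹ = (n : G) * ((y * x) * (y : G)⁻¹) * (n : G)⁻¹ * x⁻¹ := by group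
      _ = _ := by rw [hyx]; group
  rw [e]
  apply hle
  exact Subgroup.mul_mem _ n.2 ((inferInstance : (Cfsg.pResidual p G).Normal).conj_mem _ (Subgroup.inv_mem _ n.2) x)

end Cfsg.Agent.S2971
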