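import Cfsg.Statements.S2972
import Cfsg.Agent.H61.Isolated
import Cfsg.Agent.H61.CharP
import Cfsg.Agent.Cores.Constrained

set_option autoImplicit false
open Cfsg

namespace Cfsg.Agent.S2972

/-- Let G be a finite group, p a prime and x ∈ G an isolated element of order p (the only conjugate of x commuting with x is x) which is not central modulo the largest normal subgroup of order prime to p, while x is central modulo the largest normal subgroup of order prime to p in every proper subgroup containing x, and the image of x is so in every quotient of G by a nontrivial normal subgroup (a minimal counterexample to the Z*_p statement). Then the derived subgroup G' is a non-abelian simple group and G = G'⟨x⟩. -/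
theorem result {G : Type*} [Group G] [Finite G] {p : ℕ} [Fact p.Prime] (x : G) (hx : orderOf x = p) (hiso : Cfsg.IsIsolated x) (hnz : ¬ Cfsg.InZStar p x) (hmin : ∀ (H : Subgroup G) (hxH : x ∈ H), H ≠ ⊤ → Cfsg.InZStar p (⟨x, hxH⟩ : ↥H)) (hquot : ∀ (N : Subgroup G) [N.Normal], N ≠ ⊥ → Cfsg.InZStar p (QuotientGroup.mk x : G ⧸ N)) : IsSimpleGroup ↥(commutator G) ∧ ¬ IsMulCommutative ↥(commutator G) ∧ commutator G ⊔ Subgroup.zpowers x = ⊤ := by
  classical
  have hp := (Fact.out : p.Prime)
  have hxk : ∃ k : ℕ, orderOf x = p ^ k := ⟨1, by rw [hx, pow_one]⟩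
  have hxp : x ^ p = 1 := hx ▸ pow_orderOf_eq_one x
  have hcent : ∀ R : Subgroup G, R.Normal → IsPGroup p R → x ∈ R → False := by
    intro R hRn hR hxR
    refine hnz fun g => ?_
    have := H61.normalizer_le_centralizer_of_isolated hiso hR hxR
      (show g ∈ Subgroup.normalizer (R : Set G) by rw [Subgroup.normalizer_eq_top_iff.mpr hRn]; trivial)
    rw [Subgroup.mem_centralizer_singleton_iff] at this
    rw [this, mul_inv_cancel_right, mul_inv_cancel]
    exact one_mem _
  -- `O_{p'}(G) = 1`
  have hO : Cfsg.pPrimeCore p G = ⊥ := by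
    by_contra hne
    refine hnz fun g => ?_
    have h := hquot (Cfsg.pPrimeCore p G) hne (QuotientGroup.mk g)
    rw [← Cfsg.Agent.Cores.comap_pPrimeCore_quotient (p := p) (Cfsg.pPrimeCore p G)
      Cfsg.Agent.Cores.coprime_card_pPrimeCore, Subgroup.mem_comap]
    simpa using h
  have hnp : ∀ (N A : Subgroup G) [N.Normal], A ≤ N → N ≤ Subgroup.normalizer (A : Set G) →
      (Nat.card A).Coprime p → A = ⊥ := by
    intro N A _ hAN hNA hA
    have : (A.subgroupOf N).Normal := (Subgroup.normal_subgroupOf_iff_le_normalizer hAN).mpr hNA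
    have h1 : A.subgroupOf N ≤ Cfsg.pPrimeCore p N := Cfsg.Agent.Cores.le_pPrimeCore
      (by rwa [Nat.card_congr (Subgroup.subgroupOfEquivOfLe hAN).toEquiv])
    have h2 := (Subgroup.map_mono (f := N.subtype) h1).trans
      (Cfsg.Agent.Cores.map_pPrimeCore_le_of_normal N)
    rw [Subgroup.map_subgroupOf_eq_of_le hAN, hO] at h2
    exact le_bot_iff.mp h2
  -- abelian normal subgroups are `p`-groups
  have habel : ∀ (N : Subgroup G) [N.Normal], (∀ a ∈ N, ∀ b ∈ N, a * b = b * a) → IsPGroup p N := by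
    intro N _ hc
    refine H61.isPGroup_of_forall_coprime fun z hz hzc => ?_
    have hle : Subgroup.zpowers z ≤ N := Subgroup.zpowers_le.mpr hz
    have := hnp N (Subgroup.zpowers z) hle (fun a ha => H61.mem_normalizer_of_conj_mem fun b hb => by
      rw [hc a ha b (hle hb), mul_inv_cancel_right]; exact hb) (by rwa [Nat.card_zpowers])
    exact Subgroup.zpowers_eq_bot.mp this
  have hmain : ∀ (N : Subgroup G) [N.Normal], N ≠ ⊥ →
      (∀ M : Subgroup G, M.Normal → M ≤ N → M = ⊥ ∨ M = N) → N ⊔ Subgroup.zpowers x = ⊤ := by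
    intro N _ hN hNmin
    by_contra hne
    set H := N ⊔ Subgroup.zpowers x with hH
    have hxH : x ∈ H := le_sup_right (a := N) (Subgroup.mem_zpowers x)
    have hz := hmin H hxH hne
    set K := (Cfsg.pPrimeCore p H).map H.subtype
    have hKN : K ⊓ N = ⊥ := by
      refine hnp N (K ⊓ N) inf_le_right ?_ ?_
      · intro a ha
        refine H61.mem_normalizer_of_conj_mem fun b hb => ?_
        refine ⟨?_, N.mul_mem (N.mul_mem ha hb.2) (N.inv_mem ha)⟩
        obtain ⟨c, hc, rfl⟩ := hb.1
        exact ⟨⟨a, le_sup_left (b := Subgroup.zpowers x) ha⟩ * c * ⟨a, le_sup_left (b := Subgroup.zpowers x) ha⟩⁻¹,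
          (Cfsg.pPrimeCore_normal p H).conj_mem _ hc _, rfl⟩
      · refine Nat.Coprime.coprime_dvd_left (Subgroup.card_dvd_of_le (inf_le_left : K ⊓ N ≤ K)) ?_
        rw [Subgroup.card_map_of_injective H.subtype_injective]
        exact Cfsg.Agent.Cores.coprime_card_pPrimeCore
    have hxC : x ∈ Subgroup.centralizer (N : Set G) := by
      intro n hn
      have h1 : n * x * n⁻¹ * x⁻¹ ∈ K ⊓ N := by
        refine ⟨⟨_, hz ⟨n, le_sup_left (b := Subgroup.zpowers x) hn⟩, rfl⟩, ?_⟩
        have := N.mul_mem hn ((inferInstance : N.Normal).conj_mem _ (N.inv_mem hn) x)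
        simpa [mul_assoc] using this
      rw [hKN, Subgroup.mem_bot, mul_inv_eq_one, mul_inv_eq_iff_eq_mul] at h1
      exact h1
    set M := (Cfsg.pPrimeCore p (G ⧸ N)).comap (QuotientGroup.mk' N) with hM
    set D := M ⊓ Subgroup.centralizer (N : Set G) with hD
    have hDn : D.Normal := inferInstance
    have hgD : ∀ g : G, g * x * g⁻¹ * x⁻¹ ∈ D := by
      intro g
      refine ⟨?_, Subgroup.mul_mem _ ((inferInstance : (Subgroup.centralizer (N : Set G)).Normal).conj_mem _ hxC g)
        (Subgroup.inv_mem _ hxC)⟩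
      have := hquot N hN (QuotientGroup.mk g)
      show QuotientGroup.mk' N _ ∈ Cfsg.pPrimeCore p (G ⧸ N)
      simpa using this
    have hidx : (N.relIndex D).Coprime p := by
      rw [← Cfsg.Agent.Cores.card_map_mk']
      refine Nat.Coprime.coprime_dvd_left (Subgroup.card_dvd_of_le ?_)
        (Cfsg.Agent.Cores.coprime_card_pPrimeCore (G := G ⧸ N))
      exact Subgroup.map_le_iff_le_comap.mpr inf_le_left
    rcases hNmin (N ⊓ D) inferInstance inf_le_left with h0 | hND
    · have hDc : (Nat.card D).Coprime p := by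
        rw [← Subgroup.inf_relIndex_right, h0, Subgroup.relIndex_bot_left] at hidx
        exact hidx
      have hD0 : D = ⊥ := by
        rw [← le_bot_iff, ← hO]
        exact Cfsg.Agent.Cores.le_pPrimeCore hDc
      refine hnz fun g => ?_
      have := hgD g
      rw [hD0, Subgroup.mem_bot] at this
      rw [this]; exact one_mem _
    · rw [inf_eq_left] at hND
      have hcN : ∀ a ∈ N, ∀ b ∈ N, a * b = b * a := fun a ha b hb => (hND hb).2 a ha
      have hNp : IsPGroup p N := habel N hcN
      obtain ⟨k, hk⟩ := IsPGroup.iff_card.mp (hNp.comap_subtype (K := D) : IsPGroup p (N.subgroupOf D))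
      obtain ⟨L, hL⟩ := Subgroup.exists_right_complement'_of_coprime (N := N.subgroupOf D)
        (by rw [show Nat.card ↥(N.subgroupOf D) = p ^ k from hk]; exact hidx.symm.pow_left k)
      have hLn : L.Normal := by
        refine Subgroup.normalizer_eq_top_iff.mp (top_le_iff.mp ?_)
        rw [← hL.sup_eq_top]
        refine sup_le (fun z hz => H61.mem_normalizer_of_conj_mem fun l hl => ?_) Subgroup.le_normalizer
        have hcomm : z * l * z⁻¹ = l := by
          rw [mul_inv_eq_iff_eq_mul]
          exact Subtype.ext (l.2.2 (z : G) hz)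
        rw [hcomm]; exact hl
      have hLc : (Nat.card L).Coprime p := by rwa [← hL.symm.index_eq_card]
      have hLb : L.map D.subtype ≤ Cfsg.pPrimeCore p G :=
        (Subgroup.map_mono (Cfsg.Agent.Cores.le_pPrimeCore hLc)).trans
          (Cfsg.Agent.Cores.map_pPrimeCore_le_of_normal D)
      rw [hO, le_bot_iff, Subgroup.map_eq_bot_iff_of_injective _ D.subtype_injective] at hLb
      have hDN : D ≤ N := by
        rw [← Subgroup.subgroupOf_eq_top, ← hL.sup_eq_top, hLb, sup_bot_eq]
      refine hcent H ?_ (hNp.to_sup_of_normal_left (H61.isPGroup_zpowers hxk)) hxH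
      refine ⟨fun a ha g => ?_⟩
      rw [hH, Subgroup.mem_sup_of_normal_left] at ha
      obtain ⟨n, hn, z, hzx, rfl⟩ := ha
      obtain ⟨i, rfl⟩ := Subgroup.mem_zpowers_iff.mp hzx
      have e : g * (n * x ^ i) * g⁻¹ = (g * n * g⁻¹) * (g * x * g⁻¹) ^ i := by
        rw [conj_zpow]; group
      rw [e]
      refine H.mul_mem (le_sup_left (b := Subgroup.zpowers x) ((inferInstance : N.Normal).conj_mem _ hn g))
        (H.zpow_mem ?_ i)
      have := H.mul_mem (le_sup_left (b := Subgroup.zpowers x) (hDN (hgD g))) hxH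
      simpa [hH] using this
  -- a minimal normal subgroup is the derived group
  have hG1 : (⊤ : Subgroup G) ≠ ⊥ := by
    intro h
    have h1 : x = 1 := Subgroup.mem_bot.mp (h ▸ Subgroup.mem_top x)
    rw [h1, orderOf_one] at hx
    exact hp.one_lt.ne hx
  obtain ⟨N, ⟨hNn, hN⟩, hNmin'⟩ := (Set.toFinite {N : Subgroup G | N.Normal ∧ N ≠ ⊥}).exists_minimal
    ⟨⊤, inferInstance, hG1⟩
  haveI := hNn
  have hNmin : ∀ M : Subgroup G, M.Normal → M ≤ N → M = ⊥ ∨ M = N := fun M hMn hMN =>
    or_iff_not_imp_left.mpr fun hM => le_antisymm hMN (hNmin' ⟨hMn, hM⟩ hMN)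
  have htop := hmain N hN hNmin
  have hnab : ¬ ∀ a ∈ N, ∀ b ∈ N, a * b = b * a := fun hc => by
    have := (habel N hc).to_sup_of_normal_left (H61.isPGroup_zpowers hxk)
    rw [htop] at this
    exact hcent ⊤ inferInstance this (Subgroup.mem_top x)
  have hGN : commutator G ≤ N := by
    rw [commutator_eq_closure, Subgroup.closure_le]
    rintro _ ⟨a, b, rfl⟩
    obtain ⟨n, hn, z, hz, rfl⟩ := Subgroup.mem_sup_of_normal_left.mp (htop ▸ Subgroup.mem_top a)
    obtain ⟨m, hm, w, hw, rfl⟩ := Subgroup.mem_sup_of_normal_left.mp (htop ▸ Subgroup.mem_top b)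
    obtain ⟨i, rfl⟩ := Subgroup.mem_zpowers_iff.mp hz
    obtain ⟨j, rfl⟩ := Subgroup.mem_zpowers_iff.mp hw
    rw [SetLike.mem_coe, ← QuotientGroup.eq_one_iff, ← QuotientGroup.mk'_apply, map_commutatorElement, map_mul, map_mul,
      show QuotientGroup.mk' N n = 1 from (QuotientGroup.eq_one_iff n).mpr hn,
      show QuotientGroup.mk' N m = 1 from (QuotientGroup.eq_one_iff m).mpr hm, one_mul, one_mul,
      map_zpow, map_zpow, commutatorElement_eq_one_iff_commute]
    exact ((Commute.refl _).zpow_zpow i j)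
  have hGN' : commutator G = N := by
    refine (hNmin _ inferInstance hGN).resolve_left fun h => hnz fun g => ?_
    have h' := Subgroup.commutator_mem_commutator (Subgroup.mem_top g) (Subgroup.mem_top x)
    rw [← commutator_def, h, Subgroup.mem_bot, commutatorElement_def] at h'
    rw [h']; exact one_mem _
  rw [hGN']
  refine ⟨?_, fun h => hnab fun a ha b hb => congrArg Subtype.val (h.is_comm.comm (⟨a, ha⟩ : N) ⟨b, hb⟩), htop⟩
  -- simplicity
  have hkey : ∀ L : Subgroup G, L ≤ N → L ≠ ⊥ → N ≤ Subgroup.normalizer (L : Set G) →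
      (∀ A : Subgroup G, A ≤ L → N ≤ Subgroup.normalizer (A : Set G) → A = ⊥ ∨ A = L) → L = N := by
    intro L hLN hL hNL hLmin
    by_contra hne
    let cc : ℕ → G → G := fun j a => x ^ j * a * (x ^ j)⁻¹
    let Lc : ℕ → Subgroup G := fun j => L.map (MulAut.conj (x ^ j)).toMonoidHom
    have hLcN : ∀ j, Lc j ≤ N := by
      rintro j _ ⟨a, ha, rfl⟩
      exact hNn.conj_mem a (hLN ha) _
    have hNLc : ∀ j, N ≤ Subgroup.normalizer (Lc j : Set G) := by
      intro j n hn
      refine H61.mem_normalizer_of_conj_mem ?_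
      rintro _ ⟨a, ha, rfl⟩
      have hn' : (x ^ j)⁻¹ * n * (x ^ j) ∈ N := by simpa using hNn.conj_mem n hn (x ^ j)⁻¹
      exact ⟨_, (Subgroup.mem_normalizer_iff.mp (hNL hn') a).mp ha, by
        simp only [MulEquiv.coe_toMonoidHom, MulAut.conj_apply]; group⟩
    have hdisj : ∀ j, ¬ p ∣ j → L ⊓ Lc j = ⊥ := by
      intro j hj
      rcases hLmin _ inf_le_left ((le_inf hNL (hNLc j)).trans Subgroup.inf_normalizer_le_normalizer_inf)
        with h | h
      · exact h
      exfalso
      rw [inf_eq_left] at h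
      have heq : L = Lc j := Subgroup.eq_of_le_of_card_ge h
        (Subgroup.card_map_of_injective (MulAut.conj (x ^ j)).injective).le
      have hxj : x ^ j ∈ Subgroup.normalizer (L : Set G) := by
        refine H61.mem_normalizer_of_conj_mem fun a ha => ?_
        rw [heq]
        exact ⟨a, ha, rfl⟩
      obtain ⟨m, hm⟩ := exists_pow_eq_self_of_coprime (x := x) (n := j)
        (by rw [hx]; exact (hp.coprime_iff_not_dvd.mpr hj).symm)
      have hLn : L.Normal := Subgroup.normalizer_eq_top_iff.mp (top_le_iff.mp (htop ▸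
        sup_le hNL (Subgroup.zpowers_le.mpr (hm ▸ Subgroup.pow_mem _ hxj m))))
      exact hne ((hNmin L hLn hLN).resolve_left hL)
    have hcommL : ∀ j, ¬ p ∣ j → ∀ a ∈ L, ∀ b ∈ Lc j, a * b = b * a := by
      intro j hj a ha b hb
      have h1 : a * b * a⁻¹ * b⁻¹ ∈ L ⊓ Lc j := by
        refine ⟨?_, (Lc j).mul_mem ((Subgroup.mem_normalizer_iff.mp (hNLc j (hLN ha)) b).mp hb) ((Lc j).inv_mem hb)⟩
        have := L.mul_mem ha ((Subgroup.mem_normalizer_iff.mp (hNL (hLcN j hb)) a⁻¹).mp (L.inv_mem ha))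
        simpa [mul_assoc] using this
      rw [hdisj j hj, Subgroup.mem_bot, mul_inv_eq_one, mul_inv_eq_iff_eq_mul] at h1
      exact h1
    have hper : ∀ j, x ^ j = x ^ (j % p) := fun j => by rw [← hx, pow_mod_orderOf]
    have hcomm2 : ∀ i j, i ≤ j → ¬ p ∣ (j - i) → ∀ a ∈ Lc i, ∀ b ∈ Lc j, a * b = b * a := by
      intro i j hij hd
      rintro _ ⟨a, ha, rfl⟩ _ ⟨b, hb, rfl⟩
      have hh := hcommL (j - i) hd a ha _ ⟨b, hb, rfl⟩
      have e : x ^ j = x ^ i * x ^ (j - i) := by rw [← pow_add, Nat.add_sub_cancel' hij]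
      have h2 := congrArg (MulAut.conj (x ^ i)) hh
      simp only [map_mul, MulEquiv.coe_toMonoidHom, MulAut.conj_apply] at h2 ⊢
      rw [e]
      simp only [mul_inv_rev, mul_assoc, inv_mul_cancel_left, mul_inv_cancel_left] at h2 ⊢
      exact h2
    -- `Z(L) = 1`
    have hZ : ∀ a ∈ L, (∀ b ∈ L, a * b = b * a) → a = 1 := by
      intro a ha hab
      set Z := L ⊓ Subgroup.centralizer (L : Set G) with hZ
      have hNZ : N ≤ Subgroup.normalizer (Z : Set G) := by
        intro n hn
        refine H61.mem_normalizer_of_conj_mem fun b hb => ?_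
        refine ⟨(Subgroup.mem_normalizer_iff.mp (hNL hn) b).mp hb.1, fun l hl => ?_⟩
        have h1 := hb.2 _ ((Subgroup.mem_normalizer_iff.mp (Subgroup.inv_mem _ (hNL hn)) l).mp hl)
        calc l * (n * b * n⁻¹) = n * ((n⁻¹ * l * n⁻¹⁻¹) * b) * n⁻¹ := by group
          _ = n * (b * (n⁻¹ * l * n⁻¹⁻¹)) * n⁻¹ := by rw [h1]
          _ = n * b * n⁻¹ * l := by group
      rcases hLmin Z inf_le_left hNZ with h | h
      · exact Subgroup.mem_bot.mp (h ▸ (⟨ha, fun b hb => (hab b hb).symm⟩ : a ∈ Z))
      exfalso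
      have hLab : ∀ u ∈ L, ∀ v ∈ L, u * v = v * u := fun u hu v hv => ((h.ge hv).2 u hu)
      set U : Set G := {b | ∃ j, j < p ∧ b ∈ Lc j} with hU
      have hUc : ∀ u ∈ U, ∀ v ∈ U, u * v = v * u := by
        rintro u ⟨i, hi, hu⟩ v ⟨j, hj, hv⟩
        rcases lt_trichotomy i j with h' | rfl | h'
        · exact hcomm2 i j h'.le (Nat.not_dvd_of_pos_of_lt (by omega) (by omega)) u hu v hv
        · obtain ⟨a, ha, rfl⟩ := hu
          obtain ⟨b, hb, rfl⟩ := hv
          rw [← map_mul, ← map_mul, hLab a ha b hb]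
        · exact (hcomm2 j i h'.le (Nat.not_dvd_of_pos_of_lt (by omega) (by omega)) v hv u hu).symm
      have hUN : Subgroup.closure U ≤ N := (Subgroup.closure_le _).mpr fun b ⟨j, _, hb⟩ => hLcN j hb
      have hUn : (Subgroup.closure U).Normal := by
        have hgen : ∀ g : G, (∀ b ∈ U, g * b * g⁻¹ ∈ U) →
            g ∈ Subgroup.normalizer ((Subgroup.closure U : Subgroup G) : Set G) := by
          intro g hg
          refine H61.mem_normalizer_of_conj_mem fun b hb => ?_
          have : Subgroup.closure U ≤ (Subgroup.closure U).comap (MulAut.conj g).toMonoidHom :=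
            (Subgroup.closure_le _).mpr fun b hb => Subgroup.subset_closure (hg b hb)
          exact this hb
        refine Subgroup.normalizer_eq_top_iff.mp (top_le_iff.mp (htop ▸ sup_le (fun n hn => hgen n ?_)
          (Subgroup.zpowers_le.mpr (hgen x ?_))))
        · rintro b ⟨j, hj, hb⟩
          exact ⟨j, hj, (Subgroup.mem_normalizer_iff.mp (hNLc j hn) b).mp hb⟩
        · rintro _ ⟨j, hj, a, ha, rfl⟩
          refine ⟨(j + 1) % p, Nat.mod_lt _ hp.pos, a, ha, ?_⟩
          simp [← hper, pow_succ', mul_assoc]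
      refine hnab ?_
      have hne' : Subgroup.closure U ≠ ⊥ := fun h0 => hL (le_bot_iff.mp (fun b hb =>
        h0 ▸ Subgroup.subset_closure ⟨0, hp.pos, b, hb, by simp⟩))
      rw [← (hNmin _ hUn hUN).resolve_left hne']
      intro u hu v hv
      have := Subgroup.isMulCommutative_closure hUc
      exact congrArg Subtype.val (this.is_comm.comm (⟨u, hu⟩ : Subgroup.closure U) ⟨v, hv⟩)
    -- an element of order `p` in `L`
    have hpL : p ∣ Nat.card L := by
      by_contra h
      exact hL (hnp N L hLN hNL (hp.coprime_iff_not_dvd.mpr h).symm)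
    obtain ⟨c, hc⟩ := exists_prime_orderOf_dvd_card' p hpL
    have hc1 : (c : G) ≠ 1 := by
      intro h
      rw [← Subgroup.orderOf_coe, h, orderOf_one] at hc
      exact hp.one_lt.ne hc
    have hcp : (c : G) ^ p = 1 := by rw [← hc, ← Subgroup.orderOf_coe, pow_orderOf_eq_one]
    let f : ℕ → G := fun j => cc j c
    have hfm : ∀ j, f j ∈ Lc j := fun j => ⟨c, c.2, rfl⟩
    have hfper : ∀ j, f j = f (j % p) := fun j => by
      show x ^ j * _ * (x ^ j)⁻¹ = _
      rw [hper j]
    have hfs : ∀ j, f (j + 1) = x * f j * x⁻¹ := fun j => by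
      simp [f, cc, pow_succ', mul_assoc]
    have hfc : ∀ a ∈ Set.range f, ∀ b ∈ Set.range f, a * b = b * a := by
      rintro _ ⟨i, rfl⟩ _ ⟨j, rfl⟩
      rw [hfper i, hfper j]
      have hi := Nat.mod_lt i hp.pos
      have hj := Nat.mod_lt j hp.pos
      rcases lt_trichotomy (i % p) (j % p) with h' | h' | h'
      · exact hcomm2 _ _ h'.le (Nat.not_dvd_of_pos_of_lt (by omega) (by omega)) _ (hfm _) _ (hfm _)
      · rw [h']
      · exact (hcomm2 _ _ h'.le (Nat.not_dvd_of_pos_of_lt (by omega) (by omega)) _ (hfm _) _ (hfm _)).symm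
    set A := Subgroup.closure (Set.range f) with hA
    haveI : IsMulCommutative A := Subgroup.isMulCommutative_closure hfc
    letI : CommGroup A := { (inferInstance : Group A) with mul_comm := fun a b => IsMulCommutative.is_comm.comm a b }
    let F : ℕ → A := fun j => ⟨f j, Subgroup.subset_closure ⟨j, rfl⟩⟩
    have hxA : ∀ a ∈ A, x * a * x⁻¹ ∈ A := by
      intro a ha
      have : A ≤ A.comap (MulAut.conj x).toMonoidHom :=
        (Subgroup.closure_le _).mpr fun b ⟨j, hj⟩ => hj ▸ Subgroup.subset_closure ⟨j + 1, hfs j⟩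
      exact this ha
    let σ : A →* A :=
      { toFun := fun a => ⟨x * a * x⁻¹, hxA a a.2⟩
        map_one' := Subtype.ext (by simp)
        map_mul' := fun a b => Subtype.ext (by simp [mul_assoc]) }
    have hσ : ∀ j, σ (F j) = F (j + 1) := fun j => Subtype.ext (hfs j).symm
    have hF0 : F p = F 0 := Subtype.ext (by
      show f p = f 0
      rw [hfper p, Nat.mod_self])
    have hFp : F p ^ p = 1 := by
      rw [hF0]; exact Subtype.ext (by simpa [F, f, cc] using hcp)
    set n : A := ∏ i ∈ Finset.range p, F i ^ i with hn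
    set d : A := ∏ i ∈ Finset.range p, F i with hd
    have hσd : σ d = d := by
      rw [hd, map_prod]
      simp only [hσ]
      have h1 := Finset.prod_range_succ' F p
      have h2 := Finset.prod_range_succ F p
      rw [h2, hF0] at h1
      exact (mul_right_cancel h1).symm
    have hσn : σ n * d = n := by
      have e : σ n * σ d = n := by
        rw [hn, hd, map_prod, map_prod, ← Finset.prod_mul_distrib]
        have h1 := Finset.prod_range_succ' (fun i => F i ^ i) p
        have h2 := Finset.prod_range_succ (fun i => F i ^ i) p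
        rw [h2, hFp, pow_zero, mul_one, mul_one] at h1
        rw [h1]
        refine Finset.prod_congr rfl fun i _ => ?_
        rw [map_pow, hσ, ← pow_succ]
      rwa [hσd] at e
    have hdx : Commute x (d : G) := by
      have h1 : x * (d : G) * x⁻¹ = d := congrArg Subtype.val hσd
      exact mul_inv_eq_iff_eq_mul.mp h1
    have hd1 : d = 1 := by
      have h1 : x * (n : G) * x⁻¹ * d = n := congrArg Subtype.val hσn
      have e : (n : G) * x * (n : G)⁻¹ = d * x := by
        have h2 : (n : G) * (d : G)⁻¹ = x * n * x⁻¹ := by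
          rw [mul_inv_eq_iff_eq_mul]; exact h1.symm
        have h3 : ((d : G))⁻¹ * n = (n : G) * (d : G)⁻¹ := congrArg Subtype.val (mul_comm d⁻¹ n)
        calc (n : G) * x * (n : G)⁻¹
            = (n : G) * ((x * (n : G) * x⁻¹)⁻¹ * x) := by group
          _ = (n : G) * (((n : G) * (d : G)⁻¹)⁻¹ * x) := by rw [h2]
          _ = (n : G) * ((((d : G))⁻¹ * n)⁻¹ * x) := by rw [h3]
          _ = d * x := by group
      have := hiso (n : G) (e ▸ hdx.mul_right (Commute.refl x))
      rw [e] at this
      exact Subtype.ext (mul_eq_right.mp this)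
    obtain ⟨q, hq⟩ : ∃ q, p = q + 1 := ⟨p - 1, by have := hp.pos; omega⟩
    refine hc1 (hZ c c.2 fun b hb => ?_)
    have h1 : F 0 = (∏ i ∈ Finset.range q, F (i + 1))⁻¹ := by
      apply eq_inv_of_mul_eq_one_right
      rw [← Finset.prod_range_succ', ← hq, ← hd, hd1]
    set B : Subgroup A := (Subgroup.centralizer ({b} : Set G)).comap A.subtype
    have h2 : (∏ i ∈ Finset.range q, F (i + 1))⁻¹ ∈ B := by
      refine B.inv_mem (Subgroup.prod_mem _ fun i hi => ?_)
      rw [Finset.mem_range] at hi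
      show f (i + 1) ∈ Subgroup.centralizer ({b} : Set G)
      rw [Subgroup.mem_centralizer_singleton_iff]
      exact (hcommL (i + 1) (Nat.not_dvd_of_pos_of_lt (by omega) (by omega)) b hb _ (hfm _)).symm
    rw [← h1] at h2
    have h3 : f 0 ∈ Subgroup.centralizer ({b} : Set G) := h2
    rw [Subgroup.mem_centralizer_singleton_iff] at h3
    simpa [f, cc] using h3
  haveI : Nontrivial N := (Subgroup.nontrivial_iff_ne_bot N).mpr hN
  refine ⟨fun K hK => ?_⟩
  refine or_iff_not_imp_left.mpr fun hK1 => ?_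
  have hKm : (K.map N.subtype) ≠ ⊥ := fun h =>
    hK1 ((Subgroup.map_eq_bot_iff_of_injective _ N.subtype_injective).mp h)
  have hKN : N ≤ Subgroup.normalizer ((K.map N.subtype : Subgroup G) : Set G) := by
    intro a ha
    refine H61.mem_normalizer_of_conj_mem ?_
    rintro _ ⟨b, hb, rfl⟩
    exact ⟨(⟨a, ha⟩ : N) * b * (⟨a, ha⟩ : N)⁻¹, hK.conj_mem b hb _, rfl⟩
  obtain ⟨L, ⟨hLK, hL, hNL⟩, hLmin⟩ := (Set.toFinite
    {L : Subgroup G | L ≤ K.map N.subtype ∧ L ≠ ⊥ ∧ N ≤ Subgroup.normalizer (L : Set G)}).exists_minimal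
    ⟨_, le_rfl, hKm, hKN⟩
  have hLeq := hkey L (hLK.trans (Subgroup.map_subtype_le K)) hL hNL fun A hA hNA =>
    or_iff_not_imp_left.mpr fun hA1 => le_antisymm hA (hLmin ⟨hA.trans hLK, hA1, hNA⟩ hA)
  rw [eq_top_iff]
  intro a _
  obtain ⟨b, hb, hab⟩ := hLK (hLeq ▸ a.2 : (a : G) ∈ L)
  exact N.subtype_injective hab ▸ hb

end Cfsg.Agent.S2972
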