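import Cfsg.Statements.S2975
import Cfsg.Agent.H61.Isolated
import Cfsg.Agent.H61.CharP
import Cfsg.Agent.Cores.PCore

set_option autoImplicit false
open Cfsg

namespace Cfsg.Agent.S2975

/-- Let G be a finite group, p a prime and x ∈ G an isolated element of order p (the only conjugate of x commuting with x is x) which is not central modulo the largest normal subgroup of order prime to p, while x is central modulo the largest normal subgroup of order prime to p in every proper subgroup containing x, and the image of x is so in every quotient of G by a nontrivial normal subgroup (a minimal counterexample to the Z*_p statement). Then for every prime q, every q-subgroup of G that is normalized by x and maximal among the q-subgroups normalized by x is either trivial or a Sylow q-subgroup of G; and C_G(x) permutes the x-invariant Sylow q-subgroups of G transitively by conjugation. -/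
theorem result {G : Type*} [Group G] [Finite G] {p : ℕ} [Fact p.Prime] (x : G) (hx : orderOf x = p) (hiso : Cfsg.IsIsolated x) (hnz : ¬ Cfsg.InZStar p x) (hmin : ∀ (H : Subgroup G) (hxH : x ∈ H), H ≠ ⊤ → Cfsg.InZStar p (⟨x, hxH⟩ : ↥H)) (hquot : ∀ (N : Subgroup G) [N.Normal], N ≠ ⊥ → Cfsg.InZStar p (QuotientGroup.mk x : G ⧸ N)) (q : ℕ) [Fact q.Prime] : (∀ Q : Subgroup G, IsPGroup q ↥Q → x ∈ Subgroup.normalizer (Q : Set G) → (∀ R : Subgroup G, IsPGroup q ↥R → x ∈ Subgroup.normalizer (R : Set G) → Q ≤ R → R = Q) → Q = ⊥ ∨ ∃ S : Sylow q G, (S : Subgroup G) = Q) ∧ (∀ S₁ S₂ : Sylow q G, x ∈ Subgroup.normalizer ((S₁ : Subgroup G) : Set G) → x ∈ Subgroup.normalizer ((S₂ : Subgroup G) : Set G) → ∃ c ∈ Subgroup.centralizer ({x} : Set G), (S₁ : Subgroup G).map (MulAut.conj c).toMonoidHom = (S₂ : Subgroup G)) := by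
  classical
  have hx' : ∃ k : ℕ, orderOf x = p ^ k := ⟨1, by rw [hx, pow_one]⟩
  refine ⟨fun Q hQ hxQ hmax => ?_, fun S₁ S₂ h1 h2 => ?_⟩
  · by_cases hQ1 : Q = ⊥
    · exact Or.inl hQ1
    right
    by_cases hqp : q = p
    · subst hqp
      have hR : IsPGroup q (Subgroup.zpowers x ⊔ Q : Subgroup G) :=
        (H61.isPGroup_zpowers hx').to_sup_of_normal_right' hQ (Subgroup.zpowers_le.mpr hxQ)
      have hxR : x ∈ Subgroup.zpowers x ⊔ Q := Subgroup.mem_sup_left (Subgroup.mem_zpowers x)
      obtain ⟨S, hS⟩ := hR.exists_le_sylow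
      exact ⟨S, hmax _ S.isPGroup' (Subgroup.le_normalizer (hS hxR)) (le_sup_right.trans hS)⟩
    set H := Subgroup.normalizer (Q : Set G) with hH
    have hQH : Q ≤ H := Subgroup.le_normalizer
    have hHtop : H ≠ ⊤ := by
      intro htop
      have hn : Q.Normal := Subgroup.normalizer_eq_top_iff.mp htop
      have hQc : (Nat.card Q).Coprime p := by
        obtain ⟨n, hn'⟩ := IsPGroup.iff_card.mp hQ
        rw [hn']
        exact Nat.Coprime.pow_left n ((Nat.coprime_primes Fact.out Fact.out).mpr hqp)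
      apply hnz
      intro g
      have := hquot Q hQ1 (QuotientGroup.mk g)
      rw [← Cores.comap_pPrimeCore_quotient Q hQc, Subgroup.mem_comap]
      simpa using this
    have hz := hmin H hxQ hHtop
    set O := Cfsg.pPrimeCore p H with hO
    set x' : H := ⟨x, hxQ⟩ with hx'def
    obtain ⟨S⟩ : Nonempty (Sylow q H) := inferInstance
    -- `x • S` is an `O`-translate of `S`
    set M := O ⊔ (S : Subgroup H)
    have hSM : (S : Subgroup H) ≤ M := le_sup_right
    have hxSM : ((x' • S : Sylow q H) : Subgroup H) ≤ M := by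
      rw [Sylow.coe_subgroup_smul]
      rintro _ ⟨s, hs, rfl⟩
      have h := O.inv_mem (hz s)
      have e : (MulAut.conj x') s = (s * x' * s⁻¹ * x'⁻¹)⁻¹ * s := by
        simp [mul_assoc]
      change (MulAut.conj x') s ∈ M
      rw [e]
      exact Subgroup.mul_mem_sup h hs
    obtain ⟨m, hm⟩ := MulAction.exists_smul_eq M (S.subtype hSM) ((x' • S).subtype hxSM)
    rw [Sylow.smul_subtype] at hm
    obtain ⟨o, ho, s, hs, hos⟩ := Subgroup.mem_sup_of_normal_left.mp m.2
    have hm' : o • S = x' • S := by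
      rw [← Sylow.subtype_injective hm]
      change o • S = (m : H) • S
      rw [← hos, mul_smul, Sylow.smul_eq_iff_mem_normalizer.mpr (Subgroup.le_normalizer hs)]
    -- a fixed point of `x` on the `O`-translates of `S`
    set L := O ⊔ Subgroup.zpowers x'
    set K := (MulAction.stabilizer H S).subgroupOf L
    set O' := O.subgroupOf L
    have hKO : K ⊔ O' = ⊤ := by
      rw [eq_top_iff]
      intro l _
      have hxL : x' ∈ L := Subgroup.mem_sup_right (Subgroup.mem_zpowers x')
      have hoL : o ∈ L := Subgroup.mem_sup_left ho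
      have hxk : (⟨x', hxL⟩ : L) ∈ K ⊔ O' := by
        have e : (⟨x', hxL⟩ : L) = ⟨o, hoL⟩ * (⟨o, hoL⟩⁻¹ * ⟨x', hxL⟩) := by group
        rw [e]
        refine Subgroup.mul_mem _ (Subgroup.mem_sup_right (T := O') ho) (Subgroup.mem_sup_left ?_)
        change (o⁻¹ * x') • S = S
        rw [mul_smul, ← hm', inv_smul_smul]
      obtain ⟨o₁, ho₁, y, hy, hl⟩ := Subgroup.mem_sup_of_normal_left.mp l.2
      obtain ⟨i, rfl⟩ := Subgroup.mem_zpowers_iff.mp hy
      have e : l = ⟨o₁, Subgroup.mem_sup_left ho₁⟩ * (⟨x', hxL⟩ : L) ^ i := Subtype.ext (by simp [hl])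
      rw [e]
      exact Subgroup.mul_mem _ (Subgroup.mem_sup_right (T := O') ho₁) (Subgroup.zpow_mem _ hxk i)
    have hidx : ¬ p ∣ K.index := by
      intro hd
      have : O'.Normal := Subgroup.normal_subgroupOf
      have e1 := Subgroup.card_mul_index O'
      have e2 := Subgroup.card_mul_index K
      have e3 : O'.index = O'.relIndex K := by
        rw [← Subgroup.relIndex_top_right, ← hKO, Subgroup.relIndex_sup_right]
      have e4 := Subgroup.card_mul_index (O'.subgroupOf K)
      rw [e3] at e1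
      change _ * O'.relIndex K = _ at e4
      have e5 : K.index * Nat.card (O'.subgroupOf K) = Nat.card O' := by
        rw [← e1, ← e4] at e2
        have hr : 0 < O'.relIndex K := Nat.pos_of_ne_zero (by
          intro h0; rw [h0, mul_zero] at e4; exact (Nat.card_pos (α := K)).ne e4)
        apply Nat.eq_of_mul_eq_mul_right hr
        rw [← e2]; ring
      have h4 := (Fact.out : p.Prime).coprime_iff_not_dvd.mp (Cores.coprime_card_pPrimeCore (p := p) (G := H)).symm
      apply h4
      refine hd.trans ((Dvd.intro _ e5).trans ?_)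
      rw [Nat.card_congr (Subgroup.subgroupOfEquivOfLe (le_sup_left : O ≤ L)).toEquiv]
    set X := Subgroup.zpowers (⟨x', Subgroup.mem_sup_right (Subgroup.mem_zpowers x')⟩ : L)
    have hX : IsPGroup p X := H61.isPGroup_zpowers
      (by simpa [← Subgroup.orderOf_coe, hx'def] using hx')
    obtain ⟨f, hf⟩ := hX.nonempty_fixed_point_of_prime_not_dvd_card (L ⧸ K) hidx
    obtain ⟨l, rfl⟩ := QuotientGroup.mk_surjective f
    have hfix := hf ⟨_, Subgroup.mem_zpowers _⟩
    have hlK : l⁻¹ * (⟨x', Subgroup.mem_sup_right (Subgroup.mem_zpowers x')⟩ * l) ∈ K :=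
      QuotientGroup.eq.mp hfix.symm
    have hT : x' • ((l : H) • S) = (l : H) • S := by
      have h5 : ((l : H)⁻¹ * (x' * l)) • S = S := hlK
      rw [mul_smul, inv_smul_eq_iff, mul_smul] at h5
      exact h5
    set T := (l : H) • S
    -- every Sylow subgroup of `H` contains `Q`
    have hQT : Q.subgroupOf H ≤ (T : Subgroup H) := by
      exact @IsPGroup.le_sylow_of_normal q _ _ _ Subgroup.normal_in_normalizer (hQ.comap_subtype (K := H)) T
    have hTQ : (T : Subgroup H).map H.subtype = Q := by
      refine hmax _ (T.isPGroup'.map _) ?_ ?_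
      · have hn : x' ∈ Subgroup.normalizer ((T : Subgroup H) : Set H) :=
          Sylow.smul_eq_iff_mem_normalizer.mp hT
        exact Subgroup.le_normalizer_map H.subtype ⟨x', hn, rfl⟩
      · intro y hy
        exact ⟨⟨y, hQH hy⟩, hQT hy, rfl⟩
    obtain ⟨U, hU⟩ := hQ.exists_le_sylow
    refine ⟨U, le_antisymm ?_ hU⟩
    by_contra hne
    have hlt : Q.subgroupOf (U : Subgroup G) < ⊤ := lt_top_iff_ne_top.mpr fun h => hne (Subgroup.subgroupOf_eq_top.mp h)
    have hnilU : Group.IsNilpotent (U : Subgroup G) := U.isPGroup'.isNilpotent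
    obtain ⟨u, hu, hu'⟩ := SetLike.exists_of_lt (Group.normalizerCondition_of_isNilpotent _ hlt)
    have huH : (u : G) ∈ H := by
      refine H61.mem_normalizer_of_conj_mem fun y hy => ?_
      exact (Subgroup.mem_normalizer_iff.mp hu ⟨y, hU hy⟩).mp hy
    -- `(U ∩ H)` is a `q`-subgroup of `H` containing the Sylow subgroup `T`
    have hTU : (T : Subgroup H) ≤ (U : Subgroup G).subgroupOf H := fun t ht =>
      hU (hTQ ▸ ⟨t, ht, rfl⟩ : (t : G) ∈ Q)
    have := T.3 (U.isPGroup'.comap_subtype (K := H)) hTU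
    have huT : (⟨u, huH⟩ : H) ∈ (T : Subgroup H) := this ▸ u.2
    exact hu' (show (u : G) ∈ Q from hTQ ▸ ⟨_, huT, rfl⟩)
  · obtain ⟨g, hg⟩ := MulAction.exists_smul_eq G S₁ S₂
    have hgx : g * x * g⁻¹ ∈ Subgroup.normalizer ((S₂ : Subgroup G) : Set G) := by
      apply Sylow.smul_eq_iff_mem_normalizer.mp
      rw [← hg, smul_smul, mul_assoc, inv_mul_cancel, mul_one, mul_smul,
        Sylow.smul_eq_iff_mem_normalizer.mpr h1]
    obtain ⟨h, hh, hc⟩ := H61.exists_mem_conj hx' hiso h2 hgx
    refine ⟨h * g, hc, ?_⟩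
    have : (h * g) • S₁ = S₂ := by
      rw [mul_smul, hg, Sylow.smul_eq_iff_mem_normalizer.mpr hh]
    rw [← this, Sylow.coe_subgroup_smul]
    rfl

end Cfsg.Agent.S2975
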