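import Cfsg.Statements.S2988
import Cfsg.Agent.H42.PairPush.Reduce

set_option autoImplicit false
universe u
open scoped Pointwise
open Cfsg

namespace Cfsg.Agent.S2988

/-- Let p be a prime and S a nontrivial finite p-group. Write J(S) for the subgroup generated by the abelian subgroups of S of largest order (the large abelian subgroups) and J̃(S) = C_S(Z(J(S))). Unless S satisfies all of the following conditions — S is non-abelian; J(S) = S; Z(S) and Φ(S) are elementary abelian; Φ(S) ≤ Z(S) if p = 2, Φ(S) ≤ Z₂(S) if p = 3, and Φ(S) ≤ Z(S) with S of exponent p if p > 3; some large abelian subgroup is elementary abelian; and for all large abelian subgroups A, B and all subgroups Q of S one has |A|² = |S|·|Z(S)| ≥ |Q|·|Z(Q)| and ⟨A, B⟩ = AB = C_S(A ∩ B) — there exist nontrivial characteristic subgroups S₁ ≤ Z(S) and S₂ ≤ J̃(S) of S, S₂ characteristic in J̃(S), such that whenever S is embedded as a Sylow p-subgroup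 of a finite group G in the basic pushing-up situation, the image of S₁ or of S₂ is normal in G. -/
theorem result {p : ℕ} [Fact p.Prime] (S : Type u) [Group S] [Finite S] [Nontrivial S] (hS : IsPGroup p S) (hexc : ¬ (¬ IsMulCommutative S ∧ Cfsg.thompsonSubgroupA S = ⊤ ∧ Cfsg.IsElementaryAbelian p (Subgroup.center S) ∧ Cfsg.IsElementaryAbelian p (frattini S) ∧ (p = 2 → frattini S ≤ Subgroup.center S) ∧ (p = 3 → frattini S ≤ Subgroup.upperCentralSeries S 2) ∧ (3 < p → frattini S ≤ Subgroup.center S ∧ Monoid.exponent S = p) ∧ (∃ A ∈ Cfsg.maxAbelianSubgroups S, Cfsg.IsElementaryAbelian p A) ∧ (∀ A ∈ Cfsg.maxAbelianSubgroups S, ∀ B ∈ Cfsg.maxAbelianSubgroups S, ∀ Q : Subgroup S, Nat.card ↥A ^ 2 = Nat.card S * Nat.card ↥(Subgroup.center S) ∧ Nat.card ↥Q * Nat.card ↥(Subgroup.center ↥Q) ≤ Nat.card S * Nat.card ↥(Subgroup.center S) ∧ ((A ⊔ B : Subgroup S) : Set S) = (A : Set S) * (B : Set S) ∧ A ⊔ B = Subgroup.centralizer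 ((A ⊓ B : Subgroup S) : Set S)))) : ∃ S₁ S₂ : Subgroup S, S₁ ≠ ⊥ ∧ S₂ ≠ ⊥ ∧ S₁.Characteristic ∧ S₂.Characteristic ∧ S₁ ≤ Subgroup.center S ∧ S₂ ≤ Subgroup.centralizer ((Cfsg.thompsonSubgroupA S ⊓ Subgroup.centralizer (Cfsg.thompsonSubgroupA S : Set S) : Subgroup S) : Set S) ∧ (S₂.subgroupOf (Subgroup.centralizer ((Cfsg.thompsonSubgroupA S ⊓ Subgroup.centralizer (Cfsg.thompsonSubgroupA S : Set S) : Subgroup S) : Set S))).Characteristic ∧ ∀ (G : Type u) [Group G] [Finite G] (P : Subgroup G) (e : S ≃* ↥P), Cfsg.IsPushingUpSituation p P → ((S₁).map ((P.subtype).comp (e : S ≃* ↥P).toMonoidHom)).Normal ∨ ((S₂).map ((P.subtype).comp (e : S ≃* ↥P).toMonoidHom)).Normal := by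
  classical
  have hW : ∀ {T₁ T₂ : Subgroup S}, Cfsg.Agent.H42.PairPush.Good p T₁ T₂ →
      ∀ (G : Type u) [Group G] [Finite G] (P : Subgroup G) (e : S ≃* ↥P), Cfsg.IsPushingUpSituation p P →
        (T₁.map ((P.subtype).comp e.toMonoidHom)).Normal ∨ (T₂.map ((P.subtype).comp e.toMonoidHom)).Normal := by
    intro T₁ T₂ hg G _ _ P e hsit
    refine hg G _ (P.subtype_injective.comp e.injective) ?_
    rwa [MonoidHom.range_comp, MonoidHom.range_eq_top.mpr e.surjective, ← MonoidHom.range_eq_map,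
      Subgroup.range_subtype]
  by_cases hb : ⁅Cfsg.Agent.H42.PairPush.zj S, (⊤ : Subgroup S)⁆ ≠ ⊥ ∨
      (¬ ∀ Q : Subgroup S, Cfsg.IsMinimalCentrallyLarge Q → IsMulCommutative Q) ∨
      ¬ Cfsg.IsElementaryAbelian p (Subgroup.center S) ∨
      Cfsg.Agent.H42.PairPush.szero p (⊤ : Subgroup S) ≠ ⊥ ∨ IsMulCommutative S
  · obtain ⟨T₁, T₂, hP, hG⟩ := Cfsg.Agent.H42.PairPush.exists_pair hS hb
    exact ⟨T₁, T₂, hP.ne₁, hP.ne₂, hP.char₁, hP.char₂, hP.le₁, hP.le₂, hP.rel, hW hG⟩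
  push Not at hb
  obtain ⟨h1, h2, h3, h4, h5⟩ := hb
  obtain ⟨hstd, c2, c3, c4, c5, c6, c7⟩ := Cfsg.Agent.H42.PairPush.exception hS h1 h2 h3 h4
  have hjt := Cfsg.Agent.H42.PairPush.jt_eq_top_iff.mp h1
  have hchar : (Cfsg.frattiniOfMinimalCLJoin p S).Characteristic :=
    Cfsg.Agent.H42.PairPush.char_of_map _ fun α => Cfsg.Agent.H42.TwoNorm.frattiniJoin_equiv hS α
  refine ⟨Subgroup.center S, Cfsg.frattiniOfMinimalCLJoin p S, Cfsg.Agent.H42.PairPush.center_ne hS, ?_,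
    inferInstance, hchar, le_rfl,
    le_of_le_of_eq le_top hjt.symm, Cfsg.Agent.H42.PairPush.subgroupOf_top_char hchar hjt, hW ?_⟩
  · intro hbot
    obtain ⟨Q, hQ, hQm⟩ : Cfsg.maxOmegaCenterOfMinimalCL p S ∈
        {k : ℕ | ∃ Q : Subgroup S, Cfsg.IsMinimalCentrallyLarge Q ∧
          Nat.card ↥(Cfsg.omegaOneCenter p Q) = k} := by
      obtain ⟨Q₀, hQ₀⟩ := Cfsg.Agent.H62.exists_minimal_cl (G := S)
      exact Nat.sSup_mem ⟨_, Q₀, hQ₀, rfl⟩ ((Set.finite_range fun R : Subgroup S =>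
        Nat.card ↥(Cfsg.omegaOneCenter p R)).subset (by rintro k ⟨R, -, rfl⟩; exact ⟨R, rfl⟩)).bddAbove
    have hphi : Cfsg.Agent.H46.PushUp.phi p Q ≤ ⊥ := by
      rw [← hbot, ← Cfsg.Agent.H46.PushUp.frattini_map hS]
      exact le_iSup (fun X : {X : Subgroup S // Cfsg.IsMinimalCentrallyLarge X ∧
          Nat.card ↥(Cfsg.omegaOneCenter p X) = Cfsg.maxOmegaCenterOfMinimalCL p S} =>
        (frattini ↥(X : Subgroup S)).map (X : Subgroup S).subtype) ⟨Q, hQ, hQm⟩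
    have hA : Q ∈ Cfsg.maxAbelianSubgroups S :=
      ((Cfsg.Agent.S3007.result S hS Q Q hQ hQ).2.2.2.2 (h2 Q hQ) Q).mp hQ
    exact hexc ⟨h5, c2, h3, c3, c4, c5, c6, ⟨Q, hA, Cfsg.Agent.H42.PairPush.phi_bot hphi⟩, c7⟩
  · intro G _ _ τ hτ hsit
    refine ((Cfsg.Agent.S2989.result τ.range hsit (Cfsg.Agent.H42.PairPush.range_hJ hτ hjt)).1).imp
      (fun h => ?_) fun h => ?_
    · rwa [← Cfsg.Agent.H42.PairPush.map_center hτ] at h
    · rwa [← Cfsg.Agent.H42.TwoNorm.frattiniJoin_equiv hS (MonoidHom.ofInjective hτ), Subgroup.map_map,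
        show τ.range.subtype.comp (MonoidHom.ofInjective hτ).toMonoidHom = τ from rfl] at h

end Cfsg.Agent.S2988
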