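import Cfsg.Statements.S2998
import Cfsg.Agent.H61.Basic
import Cfsg.Agent.H41.Basic

set_option autoImplicit false
open Cfsg

namespace Cfsg.Agent.S2998

/-- Let G be a finite group, p a prime, P a Sylow p-subgroup of G and x ∈ P an element such that N_G(R) ≤ C_G(x) for every nontrivial subgroup R of P. Then P ≤ C_G(x); every G-conjugate of x lying in P equals x (so g ∈ C_G(x) whenever g x g⁻¹ ∈ P); and for every normal subgroup N of G, the image of x in G ⧸ N has the same property with respect to the image of P: the normalizer of every nontrivial subgroup of the image of P centralizes the image of x. -/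
theorem result {G : Type*} [Group G] [Finite G] {p : ℕ} [Fact p.Prime] (P : Sylow p G) (x : G) (hxP : x ∈ (P : Subgroup G)) (hlc : ∀ R : Subgroup G, R ≤ (P : Subgroup G) → R ≠ ⊥ → Subgroup.normalizer (R : Set G) ≤ Subgroup.centralizer ({x} : Set G)) : (P : Subgroup G) ≤ Subgroup.centralizer ({x} : Set G) ∧ (∀ g : G, g * x * g⁻¹ ∈ (P : Subgroup G) → g * x * g⁻¹ = x) ∧ ∀ (N : Subgroup G) [N.Normal], ∀ R : Subgroup (G ⧸ N), R ≤ (P : Subgroup G).map (QuotientGroup.mk' N) → R ≠ ⊥ → Subgroup.normalizer (R : Set (G ⧸ N)) ≤ Subgroup.centralizer ({(QuotientGroup.mk x : G ⧸ N)} : Set (G ⧸ N)) := by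
  classical
  have hcen : ∀ y ∈ (P : Subgroup G), y * x = x * y := by
    intro y hy
    by_cases h1 : (P : Subgroup G) = ⊥
    · have hy1 : y = 1 := Subgroup.mem_bot.mp (h1 ▸ hy)
      subst hy1; simp
    · exact Subgroup.mem_centralizer_singleton_iff.mp (hlc _ le_rfl h1 (Subgroup.le_normalizer hy))
  have hPx : (P : Subgroup G) ≤ Subgroup.centralizer ({x} : Set G) :=
    fun y hy => Subgroup.mem_centralizer_singleton_iff.mpr (hcen y hy)
  refine ⟨hPx, fun g hg => ?_, ?_⟩
  · by_cases hx1 : x = 1
    · subst hx1; simp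
    have hy1 : g * x * g⁻¹ ≠ 1 := fun h0 =>
      hx1 (by simpa [mul_assoc] using congrArg (fun t => g⁻¹ * t * g) h0)
    have hCy : ((g • P : Sylow p G) : Subgroup G) ≤ Subgroup.centralizer ({x} : Set G) := by
      refine le_trans ?_ (hlc (Subgroup.zpowers (g * x * g⁻¹)) (Subgroup.zpowers_le.mpr hg)
        (fun h0 => hy1 (Subgroup.zpowers_eq_bot.mp h0)))
      rw [Sylow.coe_subgroup_smul]
      rintro _ ⟨y, hy, rfl⟩
      apply Subgroup.centralizer_le_normalizer
      intro z hz
      obtain ⟨i, rfl⟩ := Subgroup.mem_zpowers_iff.mp hz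
      refine (Commute.zpow_left ?_ i).eq
      show g * x * g⁻¹ * (g * y * g⁻¹) = g * y * g⁻¹ * (g * x * g⁻¹)
      calc g * x * g⁻¹ * (g * y * g⁻¹) = g * (x * y) * g⁻¹ := by group
        _ = g * (y * x) * g⁻¹ := by rw [hcen y hy]
        _ = _ := by group
    obtain ⟨c, hc⟩ := MulAction.exists_smul_eq (Subgroup.centralizer ({x} : Set G))
      ((g • P).subtype hCy) (P.subtype hPx)
    rw [Sylow.smul_subtype] at hc
    have hc' := Sylow.subtype_injective hc
    have hn : (c : G) * g ∈ Subgroup.centralizer ({x} : Set G) := by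
      refine (if h1 : (P : Subgroup G) = ⊥ then ?_ else hlc _ le_rfl h1 ?_)
      · exact absurd (Subgroup.mem_bot.mp (h1 ▸ hxP)) hx1
      · apply Sylow.smul_eq_iff_mem_normalizer.mp
        rw [mul_smul]
        exact hc'
    have hg' : g ∈ Subgroup.centralizer ({x} : Set G) := by
      simpa using Subgroup.mul_mem _ (Subgroup.inv_mem _ c.2) hn
    rw [Subgroup.mem_centralizer_singleton_iff] at hg'
    rw [hg']; group
  · intro N _ R hR hR1
    set q := QuotientGroup.mk' N with hq
    set R1 : Subgroup G := (P : Subgroup G) ⊓ R.comap q with hR1def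
    have hmap : R1.map q = R := by
      refine le_antisymm ((Subgroup.map_mono inf_le_right).trans (Subgroup.map_comap_le _ _)) ?_
      intro r hr
      obtain ⟨y, hy, rfl⟩ := hR hr
      exact ⟨y, ⟨hy, hr⟩, rfl⟩
    have hR1bot : R1 ≠ ⊥ := fun h0 => hR1 (by rw [← hmap, h0, Subgroup.map_bot])
    have hNK : N ≤ R.comap q := fun n hn => by
      rw [Subgroup.mem_comap, hq, QuotientGroup.mk'_apply, (QuotientGroup.eq_one_iff n).mpr hn]
      exact Subgroup.one_mem _
    -- `R1` is a Sylow subgroup of the preimage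
    have hcardK : Nat.card (R.comap q) = Nat.card R * Nat.card N := by
      have h := Subgroup.card_mul_index (N.subgroupOf (R.comap q))
      rw [Nat.card_congr (Subgroup.subgroupOfEquivOfLe hNK).toEquiv] at h
      rw [← h, mul_comm]
      congr 1
      change N.relIndex (R.comap q) = _
      rw [show N.relIndex (R.comap q) = q.ker.relIndex (R.comap q) from by simp [hq],
        Subgroup.relIndex_ker, Subgroup.map_comap_eq_self_of_surjective (QuotientGroup.mk'_surjective N)]
    have hcardR1 : Nat.card R1 = Nat.card R * Nat.card (N ⊓ R1 : Subgroup G) := by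
      have h := Subgroup.card_mul_index (N.subgroupOf R1)
      rw [← Nat.card_congr (Subgroup.subgroupOfEquivOfLe (inf_le_right : N ⊓ R1 ≤ R1)).toEquiv,
        Subgroup.inf_subgroupOf_right]
      rw [← h, mul_comm]
      congr 1
      change N.relIndex R1 = _
      rw [show N.relIndex R1 = q.ker.relIndex R1 from by simp [hq], Subgroup.relIndex_ker, hmap]
    have hNR1 : N ⊓ R1 = (P : Subgroup G) ⊓ N := by
      refine le_antisymm (le_inf (inf_le_right.trans inf_le_left) inf_le_left) ?_
      exact le_inf inf_le_right (le_inf inf_le_left (inf_le_right.trans hNK))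
    have hR1p : IsPGroup p (R1.subgroupOf (R.comap q)) :=
      (P.isPGroup'.to_le inf_le_left).comap_subtype
    have hidx : ¬ p ∣ (R1.subgroupOf (R.comap q)).index := by
      intro hd
      have hrel : (R1.subgroupOf (R.comap q)).index = ((P : Subgroup G) ⊓ N).relIndex N := by
        have h1 := Subgroup.card_mul_index (R1.subgroupOf (R.comap q))
        rw [Nat.card_congr (Subgroup.subgroupOfEquivOfLe (inf_le_right : R1 ≤ R.comap q)).toEquiv,
          hcardK, hcardR1, hNR1] at h1
        have h2 := Subgroup.card_mul_index (((P : Subgroup G) ⊓ N).subgroupOf N)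
        rw [Nat.card_congr (Subgroup.subgroupOfEquivOfLe (inf_le_right : (P : Subgroup G) ⊓ N ≤ N)).toEquiv] at h2
        rw [← h2, mul_assoc] at h1
        exact Nat.eq_of_mul_eq_mul_left Nat.card_pos (Nat.eq_of_mul_eq_mul_left Nat.card_pos h1)
      rw [hrel, Subgroup.inf_relIndex_right] at hd
      exact H41.not_dvd_relIndex_sylow P N hd
    intro a ha
    obtain ⟨g, rfl⟩ := QuotientGroup.mk_surjective a
    let S : Sylow p (R.comap q) := hR1p.toSylow hidx
    have hgK : ∀ y ∈ R1, g * y * g⁻¹ ∈ R.comap q := fun y hy => by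
      rw [Subgroup.mem_comap, map_mul, map_mul, map_inv]
      exact (Subgroup.mem_normalizer_iff.mp ha (q y)).mp hy.2
    have hTp : IsPGroup p ((R1.map (MulAut.conj g).toMonoidHom).subgroupOf (R.comap q)) :=
      ((P.isPGroup'.to_le inf_le_left).map _).comap_subtype
    obtain ⟨T, hT⟩ := hTp.exists_le_sylow
    obtain ⟨k, hk⟩ := MulAction.exists_smul_eq (R.comap q) T S
    have hkg : (k : G) * g ∈ Subgroup.normalizer (R1 : Set G) := by
      refine H61.mem_normalizer_of_conj_mem fun y hy => ?_
      have h1 : k * ⟨g * y * g⁻¹, hgK y hy⟩ * k⁻¹ ∈ ((k • T : Sylow p (R.comap q)) : Subgroup (R.comap q)) := by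
        rw [Sylow.coe_subgroup_smul]
        exact ⟨⟨g * y * g⁻¹, hgK y hy⟩, hT ⟨y, hy, rfl⟩, rfl⟩
      rw [hk] at h1
      simpa [S, Subgroup.mem_subgroupOf, mul_assoc] using h1
    have hc := Subgroup.mem_centralizer_singleton_iff.mp (hlc R1 inf_le_left hR1bot hkg)
    have hkR : q (k : G) ∈ R := k.2
    rw [Subgroup.mem_centralizer_singleton_iff]
    have hkx : q (k : G) * q x = q x * q (k : G) := by
      obtain ⟨y, hy, hye⟩ := hR hkR
      rw [← hye, ← map_mul, ← map_mul, hcen y hy]
    have := congrArg q hc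
    simp only [map_mul] at this
    have h5 : q (k : G) * (q g * q x) = q (k : G) * (q x * q g) := by
      rw [← mul_assoc, this, ← mul_assoc, ← mul_assoc, hkx]
    exact mul_left_cancel h5

end Cfsg.Agent.S2998
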