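import Cfsg.Statements.S2999
import Cfsg.Agent.H31.SL2Pair.Offender

set_option autoImplicit false
open Cfsg

namespace Cfsg.Agent.S2999

open Cfsg.Agent.H31.SL2Pair Cfsg.Agent.H63
open scoped commutatorElement

/-- Let p be a prime and let P and V be subgroups of a finite group with V elementary abelian, P normalizing V and acting faithfully on it (P ∩ C(V) = 1). Suppose P is p-minimal (a Sylow p-subgroup T of P is not normal and lies in a unique maximal subgroup M of P) and A ≤ T is an elementary abelian subgroup such that: |V/C_V(A)| ≤ |A| while |A₀|·|C_V(A₀)| < |A|·|C_V(A)| for every nontrivial proper subgroup A₀ of A; [C_V(T), P] ≠ 1; and P = ⟨A, xAx⁻¹⟩ for every x ∈ P outside M. Then, with q = |A|, there is a field F with q elements such that P ≅ SL₂(F), C_V(A) = [V, A]·C_V(P), and P acts on V/C_V(P) as SL₂(F) on its natural two-dimensional module. -/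
theorem result {G : Type*} [Group G] [Finite G] {p : ℕ} [Fact p.Prime] (V P : Subgroup G) (hV : Cfsg.IsElementaryAbelian p V) (hPV : P ≤ Subgroup.normalizer (V : Set G)) (hfaith : P ⊓ Subgroup.centralizer (V : Set G) = ⊥) (hmin : Cfsg.IsPMinimal p ↥P) (T : Sylow p ↥P) (M : Subgroup ↥P) (hM : IsCoatom M) (hTM : (T : Subgroup ↥P) ≤ M) (A : Subgroup G) (hAT : A ≤ ((T : Subgroup ↥P).map P.subtype)) (hAel : Cfsg.IsElementaryAbelian p A) (hi : Nat.card ↥V ≤ Nat.card ↥A * Nat.card ↥(V ⊓ Subgroup.centralizer ((A : Subgroup G) : Set G)) ∧ ∀ A₀ : Subgroup G, A₀ ≤ A → A₀ ≠ ⊥ → A₀ ≠ A → Nat.card ↥A₀ * Nat.card ↥(V ⊓ Subgroup.centralizer ((A₀ : Subgroup G) : Set G)) < Nat.card ↥A * Nat.card ↥(V ⊓ Subgroup.centralizer ((A : Subgroup G) : Set G))) (hii : ⁅(V ⊓ Subgroup.centralizer ((((T : Subgroup ↥P).map P.subtype) : Subgroup G) : Set G)), P⁆ ≠ ⊥) (hiii : ∀ x : ↥P, x ∉ M → A ⊔ A.map (MulAut.conj (x : G)).toMonoidHom = P) : ∃ (F : Type) (_ : Field F) (_ : Fintype F),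 Fintype.card F = Nat.card ↥A ∧ Nonempty (↥P ≃* Matrix.SpecialLinearGroup (Fin 2) F) ∧ (V ⊓ Subgroup.centralizer ((A : Subgroup G) : Set G)) = ⁅V, A⁆ ⊔ (V ⊓ Subgroup.centralizer ((P : Subgroup G) : Set G)) ∧ Cfsg.ActsAsSL2OnSection F ⊤ P V (V ⊓ Subgroup.centralizer ((P : Subgroup G) : Set G)) := by
  classical
  haveI := hV.1
  have hN : ∀ (g : ↥P) (v : G), v ∈ V → (g : G) * v * (g : G)⁻¹ ∈ V := fun g v hv =>
    (Subgroup.mem_normalizer_iff.mp (hPV g.2) v).mp hv
  letI : CommGroup ↥V := { (inferInstance : Group ↥V) with mul_comm := mul_comm' }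
  letI : DistribMulAction ↥P (Additive ↥V) :=
    { smul := fun g m => Additive.ofMul
        ⟨(g : G) * (m.toMul : ↥V) * (g : G)⁻¹, hN g _ m.toMul.2⟩
      one_smul := fun m => by
        apply Additive.toMul.injective
        apply Subtype.ext
        show ((1 : ↥P) : G) * (m.toMul : ↥V) * ((1 : ↥P) : G)⁻¹ = _
        simp
      mul_smul := fun g g' m => by
        apply Additive.toMul.injective
        apply Subtype.ext
        show ((g * g' : ↥P) : G) * (m.toMul : ↥V) * ((g * g' : ↥P) : G)⁻¹ =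
          (g : G) * ((g' : G) * (m.toMul : ↥V) * (g' : G)⁻¹) * (g : G)⁻¹
        rw [Subgroup.coe_mul]
        group
      smul_zero := fun g => by
        apply Additive.toMul.injective
        apply Subtype.ext
        show (g : G) * 1 * (g : G)⁻¹ = 1
        simp
      smul_add := fun g a b => by
        apply Additive.toMul.injective
        apply Subtype.ext
        show (g : G) * ((a.toMul : ↥V) * (b.toMul : ↥V) : G) * (g : G)⁻¹ =
          ((g : G) * (a.toMul : ↥V) * (g : G)⁻¹) * ((g : G) * (b.toMul : ↥V) * (g : G)⁻¹)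
        group }
  let em : Additive ↥V → G := fun m => ((m.toMul : ↥V) : G)
  have hem_inj : Function.Injective em := fun a b h => Additive.toMul.injective (Subtype.ext h)
  have hsmul : ∀ (g : ↥P) (m : Additive ↥V), em (g • m) = (g : G) * em m * (g : G)⁻¹ := fun _ _ => rfl
  have hfix : ∀ (g : ↥P) (m : Additive ↥V), g • m = m ↔ (g : G) * em m = em m * g := fun g m => by
    rw [← hem_inj.eq_iff, hsmul, mul_inv_eq_iff_eq_mul]
  have hexp : ∀ m : Additive ↥V, p • m = 0 := fun m => by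
    apply Additive.toMul.injective
    apply Subtype.ext
    exact hV.2 _ m.toMul.2
  have hPfaith : ∀ g : ↥P, (∀ m : Additive ↥V, g • m = m) → g = 1 := fun g hg => by
    refine Subtype.ext (Subgroup.mem_bot.mp (hfaith ▸ Subgroup.mem_inf.mpr ⟨g.2, ?_⟩))
    exact Subgroup.mem_centralizer_iff.mpr fun v hv => ((hfix g (Additive.ofMul ⟨v, hv⟩)).mp (hg _)).symm
  obtain ⟨hTn, hu⟩ := hmin T
  have huniq : ∀ N, IsCoatom N → (T : Subgroup ↥P) ≤ N → N = M := fun N h1 h2 => hu.unique ⟨h1, h2⟩ ⟨hM, hTM⟩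
  have hAP : A ≤ P := hAT.trans (Subgroup.map_subtype_le _)
  have hcard : ∀ B : Subgroup ↥P, mS (Additive ↥V) B =
      Nat.card ↥(B.map P.subtype) * Nat.card ↥(V ⊓ Subgroup.centralizer ((B.map P.subtype : Subgroup G) : Set G)) := by
    intro B
    unfold mS
    rw [Subgroup.card_map_of_injective P.subtype_injective]
    congr 1
    refine Nat.card_congr
      { toFun := fun m => ⟨em m, Subgroup.mem_inf.mpr ⟨m.1.toMul.2, Subgroup.mem_centralizer_iff.mpr ?_⟩⟩
        invFun := fun x => ⟨Additive.ofMul ⟨x.1, (Subgroup.mem_inf.mp x.2).1⟩, fun g hg =>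
          (hfix g _).mpr (Subgroup.mem_centralizer_iff.mp (Subgroup.mem_inf.mp x.2).2 _ ⟨g, hg, rfl⟩)⟩
        left_inv := fun _ => rfl
        right_inv := fun _ => rfl }
    rintro _ ⟨g, hg, rfl⟩
    exact (hfix g _).mp (m.2 g hg)
  set A' := A.subgroupOf P with hA'
  have hmapA : A'.map P.subtype = A := by
    rw [hA', Subgroup.subgroupOf_map_subtype, inf_eq_left.mpr hAP]
  haveI := hAel.1
  have hA'T : A' ≤ (T : Subgroup ↥P) := fun a ha => by
    obtain ⟨t, ht, e⟩ := hAT ha
    rwa [← P.subtype_injective e]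
  obtain ⟨F, iF, iFt, e, ψ, hcardF, hψs, hψ0, hψe, hquad, hC, -, -, -, -⟩ :=
    sl2_of_offender hexp hPfaith T hTn M hM hTM huniq A' hA'T
    (fun a ha b hb => Subtype.ext (congrArg A.subtype (mul_comm' (⟨(a : G), ha⟩ : ↥A) ⟨(b : G), hb⟩) :))
    (fun a ha => Subtype.ext (by rw [SubgroupClass.coe_pow]; exact hAel.2 _ ha))
    (by rw [hcard, hmapA, show Nat.card (Additive ↥V) = Nat.card ↥V from Nat.card_congr Additive.toMul]; exact hi.1)
    (fun A₀ h0 h1 h2 => by
      rw [hcard, hcard, hmapA]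
      refine hi.2 _ ?_ ?_ ?_
      · rw [← hmapA]; exact Subgroup.map_mono h0
      · rwa [ne_eq, Subgroup.map_eq_bot_iff_of_injective _ P.subtype_injective]
      · rw [← hmapA]; exact fun h => h2 (Subgroup.map_injective P.subtype_injective h))
    (by
      by_contra hne
      push_neg at hne
      apply hii
      rw [Subgroup.commutator_eq_bot_iff_le_centralizer]
      intro v hv
      obtain ⟨hv1, hv2⟩ := Subgroup.mem_inf.mp hv
      refine Subgroup.mem_centralizer_iff.mpr fun g hg => ?_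
      refine (hfix ⟨g, hg⟩ (Additive.ofMul ⟨v, hv1⟩)).mp (hne _ ?_ ?_ ⟨g, hg⟩)
      · exact fun t ht => (hfix t _).mpr (Subgroup.mem_centralizer_iff.mp hv2 _ ⟨t, hA'T ht, rfl⟩)
      · exact fun t ht => (hfix t _).mpr
          (Subgroup.mem_centralizer_iff.mp hv2 _ ⟨t, (Subgroup.mem_inf.mp ht).1, rfl⟩))
    (fun x hx => by
      apply Subgroup.map_injective P.subtype_injective
      rw [Subgroup.map_sup, hmapA, Subgroup.map_map, ← MonoidHom.range_eq_map, Subgroup.range_subtype]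
      refine Eq.trans (congrArg (A ⊔ ·) ?_) (hiii x hx)
      conv_rhs => rw [← hmapA]
      rw [Subgroup.map_map]
      rfl)
  refine ⟨F, iF, iFt, hcardF.trans (Nat.card_congr (Subgroup.subgroupOfEquivOfLe hAP).toEquiv), ⟨e⟩, ?_, ?_⟩
  · refine le_antisymm (fun c hc => ?_) (sup_le ?_ ?_)
    · obtain ⟨hc1, hc2⟩ := Subgroup.mem_inf.mp hc
      obtain ⟨a, ha, v, hv⟩ := hC (Additive.ofMul ⟨c, hc1⟩) (fun a ha => (hfix a _).mpr
        (Subgroup.mem_centralizer_iff.mp hc2 _ (ha : (a : G) ∈ A)))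
      set m := Additive.ofMul (⟨c, hc1⟩ : ↥V) - (a • v - v) with hm
      have e1 : c = (em (a • v) * (em v)⁻¹) * em m := by
        have : Additive.ofMul (⟨c, hc1⟩ : ↥V) = a • v - v + m := by rw [hm]; abel
        rw [← div_eq_mul_inv]
        exact congrArg em this
      rw [e1, hsmul]
      refine mul_mem (Subgroup.mem_sup_left ?_) (Subgroup.mem_sup_right (Subgroup.mem_inf.mpr ⟨m.toMul.2, ?_⟩))
      · rw [← inv_inv ((a : G) * em v * (a : G)⁻¹ * (em v)⁻¹)]
        refine inv_mem ?_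
        have e2 : ((a : G) * em v * (a : G)⁻¹ * (em v)⁻¹)⁻¹ = ⁅em v, (a : G)⁆ := by
          rw [commutatorElement_def]; group
        rw [e2]
        exact Subgroup.commutator_mem_commutator v.toMul.2 ha
      · exact Subgroup.mem_centralizer_iff.mpr fun g hg => (hfix ⟨g, hg⟩ m).mp (hv _)
    · rw [Subgroup.commutator_le]
      intro v hv a ha
      set m : Additive ↥V := Additive.ofMul ⟨v, hv⟩
      set b : ↥P := ⟨a, hAP ha⟩
      have e2 : ⁅v, a⁆ = em (-(b • m - m)) := by
        show _ = ((em (b • m)) / em m)⁻¹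
        rw [hsmul, commutatorElement_def, div_eq_mul_inv]
        show v * a * v⁻¹ * a⁻¹ = (a * v * a⁻¹ * v⁻¹)⁻¹
        group
      rw [e2]
      refine Subgroup.mem_inf.mpr ⟨(Additive.toMul (-(b • m - m))).2, Subgroup.mem_centralizer_iff.mpr fun g hg => ?_⟩
      exact (hfix ⟨g, hAP hg⟩ _).mp (neg_mem (hquad b ha m) _ hg)
    · exact inf_le_inf_left _ (Subgroup.centralizer_le hAP)
  refine ⟨hPV, inf_le_left, e.toMonoidHom, MonoidHom.mk'
    (fun v : ↥V => Multiplicative.ofAdd (ψ (Additive.ofMul v)))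
    (fun a b => by rw [ofMul_mul, map_add, ofAdd_add]), MonoidHom.range_eq_top.mpr e.surjective, ?_, ?_, ?_⟩
  · intro y
    obtain ⟨v, hv⟩ := hψs (Multiplicative.toAdd y)
    exact ⟨v.toMul, congrArg Multiplicative.ofAdd hv⟩
  · intro u
    refine Iff.trans ⟨fun h => congrArg Multiplicative.toAdd h, fun h => congrArg Multiplicative.ofAdd h⟩
      ((hψ0 (Additive.ofMul u)).trans ⟨fun h => Subgroup.mem_inf.mpr ⟨u.2, ?_⟩, fun h g => ?_⟩)
    · exact Subgroup.mem_centralizer_iff.mpr fun g hg => (hfix ⟨g, hg⟩ _).mp (h _)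
    · exact (hfix g _).mpr (Subgroup.mem_centralizer_iff.mp (Subgroup.mem_inf.mp h).2 _ g.2)
  · intro g u
    exact ⟨(g • Additive.ofMul u).toMul, hsmul g _, hψe g _⟩

end Cfsg.Agent.S2999
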