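import Cfsg.Statements.S3000
import Cfsg.Agent.H11.PMinFF.Ambient
-- import your own Cfsg.Agent.* helpers here

set_option autoImplicit false
open Cfsg

namespace Cfsg.Agent.S3000

open Cfsg.Agent.H11.PMinFF
open scoped IsMulCommutative


/-- Let p be a prime and let P and V be subgroups of a finite group with V elementary abelian, P normalizing V and acting faithfully on it (P ∩ C(V) = 1). Suppose P is p-minimal (a Sylow p-subgroup T of P is not normal and lies in a unique maximal subgroup M of P), O_p(P) = 1, C_P(C_V(T)) ≤ M, and P has a best offender on V: a subgroup A not centralizing V, with A/C_A(V) elementary abelian, such that |B|·|C_V(B)| ≤ |A|·|C_V(A)| for every subgroup B of A. Then there are subgroups E₁, …, E_r of P (r ≥ 1), pairwise commuting and forming with T a product P = (E₁ × ⋯ × E_r)T (internal direct product of the E_i), any two of which are conjugate by an element of T, such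 that V = C_V(E₁⋯E_r)·∏[V, E_i] with [V, E_i, E_j] = 1 for i ≠ j, and for each i there is n ≥ 1 with either E_i ≅ SL₂(pⁿ) acting on [V, E_i]/C_{[V,E_i]}(E_i) as on its natural two-dimensional module, or p = 2 and E_i isomorphic to the symmetric group of degree 2ⁿ + 1 acting on [V, E_i]/C_{[V,E_i]}(E_i) as on its even-weight permutation module. -/
theorem result {G : Type*} [Group G] [Finite G] {p : ℕ} [Fact p.Prime] (V P : Subgroup G) (hV : Cfsg.IsElementaryAbelian p V) (hPV : P ≤ Subgroup.normalizer (V : Set G)) (hfaith : P ⊓ Subgroup.centralizer (V : Set G) = ⊥) (hmin : Cfsg.IsPMinimal p ↥P) (T : Sylow p ↥P) (M : Subgroup ↥P) (hM : IsCoatom M) (hTM : (T : Subgroup ↥P) ≤ M) (hOp : Cfsg.pCore p ↥P = ⊥) (hoff : ∃ A : Subgroup G, A ≤ P ∧ ¬ A ≤ Subgroup.centralizer (V : Set G) ∧ Cfsg.IsBestOffenderOn p V A) (hCT : P ⊓ Subgroup.centralizer ((V ⊓ Subgroup.centralizer ((((T : Subgroup ↥P).map P.subtype)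 : Subgroup G) : Set G)) : Set G) ≤ M.map P.subtype) : ∃ (r : ℕ) (E : Fin r → Subgroup G), 1 ≤ r ∧ (∀ i, E i ≤ P) ∧ (∀ i j, i ≠ j → ⁅E i, E j⁆ = ⊥) ∧ (∀ i, E i ⊓ (⨆ j ∈ {j | j ≠ i}, E j) = ⊥) ∧ (⨆ i, E i) ⊔ ((T : Subgroup ↥P).map P.subtype) = P ∧ (∀ i j, ∃ t ∈ ((T : Subgroup ↥P).map P.subtype), (E i).map (MulAut.conj t).toMonoidHom = E j) ∧ (V ⊓ Subgroup.centralizer (((⨆ i, E i) : Subgroup G) : Set G)) ⊔ (⨆ i, ⁅V, E i⁆) = V ∧ (∀ i j, i ≠ j → ⁅⁅V, E i⁆, E j⁆ = ⊥) ∧ ∀ i, ∃ n : ℕ, 1 ≤ n ∧ ((∃ (F : Type) (_ : Field F) (_ : Fintype F), Fintype.card F = p ^ n ∧ Nonempty (↥(E i) ≃* Matrix.SpecialLinearGroup (Fin 2) F) ∧ Cfsg.ActsAsSL2OnSection F ⊤ (E i) ⁅V, E i⁆ (⁅V, E i⁆ ⊓ Subgroup.centralizer ((E i : Subgroup G) : Set G))) ∨ (p = 2 ∧ Nonempty (↥(E i) ≃* Equiv.Perm (Fin (2 ^ n + 1))) ∧ Cfsg.ActsAsOddPermModuleOnSection (2 ^ n + 1) ⊤ (E i) ⁅V, E i⁆ (⁅V, E i⁆ ⊓ Subgroup.centralizer ((E i : Subgroup G) :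 Set G)))) := by
  haveI := hV.1
  letI := Cfsg.Agent.H11.PMinFF.conjAction hPV
  have c := conj_self hPV
  obtain ⟨hs, hne⟩ := ambient_setup hV.2 hPV hfaith hmin hOp hoff hM hTM
  obtain ⟨r, E, hr, hb⟩ := exists_blocks_of_offs hs hne
  haveI : Nonempty (Fin r) := ⟨⟨0, hr⟩⟩
  have hK : (MonoidHom.id ↥P).ker.map P.subtype = ⊥ := by rw [MonoidHom.ker_id, Subgroup.map_bot]
  refine ⟨r, fun i => c.pre (E i), hr, fun i => c.pre_le _, fun i j hij => ?_, fun i => ?_, ?_, fun i j => ?_,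
    c.pre_decomp E hb.decomp, fun i j hij => c.pre_orth (hb.orth i j hij), fun i => ?_⟩
  · exact le_bot_iff.mp (hK ▸ c.pre_comm_le (hb.comm i j hij))
  · refine le_bot_iff.mp (hK ▸ le_trans (inf_le_inf_left _ ?_) (c.pre_inf_le (hb.inf i)))
    exact iSup₂_le fun j hj => c.pre_mono (le_iSup₂_of_le j hj le_rfl)
  · rw [← c.pre_iSup, c.pre_sup, Subgroup.map_id, hb.top]
    rw [Conj.pre, Subgroup.comap_top, ← MonoidHom.range_eq_map, Subgroup.range_subtype]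
  · obtain ⟨t, ht, he⟩ := hb.conj i j
    exact ⟨(t : G), ⟨t, ht, rfl⟩, by rw [c.pre_cnj, MonoidHom.id_apply, he]⟩
  · obtain ⟨n, hn, h⟩ := c.pre_type (hb.type i)
    refine ⟨n, hn, ?_⟩
    have hiso : ∀ {X : Type} [Group X] (f : ↥(c.pre (E i)) →* X), Function.Surjective f →
        f.ker = ((MonoidHom.id ↥P).ker.map P.subtype).subgroupOf (c.pre (E i)) → Nonempty (↥(c.pre (E i)) ≃* X) :=
      fun f hf hk => ⟨MulEquiv.ofBijective f
        ⟨(MonoidHom.ker_eq_bot_iff f).mp (by rw [hk, hK, Subgroup.bot_subgroupOf]), hf⟩⟩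
    rcases h with ⟨F, iF, iFt, hF, ⟨f, hf, hk⟩, hact⟩ | ⟨hp, ⟨f, hf, hk⟩, hact⟩
    · exact Or.inl ⟨F, iF, iFt, hF, hiso f hf hk, hact⟩
    · exact Or.inr ⟨hp, hiso f hf hk, hact⟩

end Cfsg.Agent.S3000
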