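import Cfsg.Statements.S3003
import Cfsg.Agent.Coprime.Generation
-- import your own Cfsg.Agent.* helpers here

set_option autoImplicit false
open Cfsg
open Cfsg.Agent.Coprime

namespace Cfsg.Agent.S3003

/-- Let G be a finite group, p a prime and Q a large p-subgroup of G: C_G(Q) ≤ Q and N_G(U) ≤ N_G(Q) for every nontrivial subgroup U of C_G(Q). Let Q ≤ G₁ ≤ G, let R be a subgroup of order prime to p normalized by G₁, and let U ≤ G₁ be a p-subgroup. If U contains a nontrivial element which is G₁-conjugate to an element of Z(Q), then C_R(U) = 1. In particular, if U is elementary abelian of order at least p² and every maximal subgroup of U contains a nontrivial element G₁-conjugate into Z(Q), then R = 1. -/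
theorem result {G : Type*} [Group G] [Finite G] {p : ℕ} [Fact p.Prime] (Q : Subgroup G) (hQp : IsPGroup p ↥Q) (hlarge : Cfsg.IsLarge Q) (G₁ : Subgroup G) (hQG : Q ≤ G₁) (R : Subgroup G) (hR : (Nat.card ↥R).Coprime p) (hGR : G₁ ≤ Subgroup.normalizer (R : Set G)) (U : Subgroup G) (hUG : U ≤ G₁) (hUp : IsPGroup p ↥U) : ((∃ x ∈ U, x ≠ 1 ∧ ∃ g ∈ G₁, g * x * g⁻¹ ∈ Q ⊓ Subgroup.centralizer (Q : Set G)) → R ⊓ Subgroup.centralizer (U : Set G) = ⊥) ∧ (Cfsg.IsElementaryAbelian p U → p ^ 2 ≤ Nat.card ↥U → (∀ U₀ : Subgroup G, U₀ ≤ U → IsCoatom (U₀.subgroupOf U) → ∃ x ∈ U₀, x ≠ 1 ∧ ∃ g ∈ G₁, g * x * g⁻¹ ∈ Q ⊓ Subgroup.centralizer (Q : Set G)) → R = ⊥) := by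
  obtain ⟨hCQ, hN⟩ := hlarge
  have hQR : Q ≤ Subgroup.normalizer (R : Set G) := hQG.trans hGR
  have hQRbot : Q ⊓ R = ⊥ := by
    obtain ⟨k, hk⟩ := IsPGroup.iff_card.mp hQp
    exact inf_eq_bot (by rw [hk]; exact (hR.symm).pow_left k)
  -- the centralizer in `R` of a central element of `Q` is trivial
  have h0 : ∀ z ∈ Q ⊓ Subgroup.centralizer (Q : Set G), z ≠ 1 → R ⊓ Subgroup.centralizer {z} = ⊥ := by
    intro z hz hz1
    rw [eq_bot_iff]
    intro r hr
    have hne : Subgroup.zpowers z ≠ ⊥ := Subgroup.zpowers_ne_bot.mpr hz1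
    have hrN : r ∈ Subgroup.normalizer (Q : Set G) := by
      refine hN _ (Subgroup.zpowers_le.mpr hz.2) hne ?_
      refine Subgroup.centralizer_le_normalizer _ ?_
      rw [Subgroup.mem_centralizer_iff]
      rintro _ ⟨m, rfl⟩
      exact ((show Commute r z from Subgroup.mem_centralizer_singleton_iff.mp hr.2).zpow_right m).eq.symm
    have hrC : r ∈ Subgroup.centralizer (Q : Set G) := by
      refine mem_centralizer_of_conj_eq fun q hq => ?_
      have h1 : q * r * q⁻¹ * r⁻¹ ∈ Q ⊓ R := by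
        refine ⟨?_, R.mul_mem (conj_mem (hQR hq) hr.1) (R.inv_mem hr.1)⟩
        have := Q.mul_mem hq (conj_mem hrN (Q.inv_mem hq))
        simpa [mul_assoc] using this
      rw [hQRbot, Subgroup.mem_bot, mul_inv_eq_one] at h1
      exact h1
    have : r ∈ Q ⊓ R := ⟨hCQ hrC, hr.1⟩
    rwa [hQRbot] at this
  have h1 : ∀ U₀ : Subgroup G, (∃ x ∈ U₀, x ≠ 1 ∧ ∃ g ∈ G₁, g * x * g⁻¹ ∈ Q ⊓ Subgroup.centralizer (Q : Set G)) →
      R ⊓ Subgroup.centralizer (U₀ : Set G) = ⊥ := by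
    rintro U₀ ⟨x, hx, hx1, g, hg, hgx⟩
    rw [eq_bot_iff]
    intro r hr
    have hz : g * x * g⁻¹ ≠ 1 := by
      intro h
      exact hx1 (conj_eq_one_iff.mp h)
    have hgr : g * r * g⁻¹ ∈ R ⊓ Subgroup.centralizer {g * x * g⁻¹} := by
      refine ⟨conj_mem (hGR hg) hr.1, Subgroup.mem_centralizer_singleton_iff.mpr ?_⟩
      have h := (commute_of_mem_centralizer hr.2 hx).symm
      calc g * r * g⁻¹ * (g * x * g⁻¹) = g * (r * x) * g⁻¹ := by simp [mul_assoc]
        _ = g * (x * r) * g⁻¹ := by rw [h]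
        _ = g * x * g⁻¹ * (g * r * g⁻¹) := by simp [mul_assoc]
    rw [h0 _ hgx hz, Subgroup.mem_bot] at hgr
    exact conj_eq_one_iff.mp hgr
  refine ⟨h1 U, fun hU hU2 hco => ?_⟩
  have hp : p.Prime := Fact.out
  obtain ⟨hcomm, hexp⟩ := hU
  obtain ⟨k, hk⟩ := IsPGroup.iff_card.mp hUp
  rw [← le_bot_iff]
  refine le_of_centralizer_cyclic_quotient_le (hUG.trans hGR)
    (by rw [hk]; exact hR.symm.pow_left k) fun B hBU ⟨a, ha, hBa⟩ => ?_
  have : (B.subgroupOf U).Normal := Subgroup.normal_of_isMulCommutative _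
  -- find a maximal subgroup containing `B`
  by_cases hB : B = U
  · subst hB
    rcases (eq_top_or_exists_le_coatom (⊥ : Subgroup B)) with h | ⟨M, hM, -⟩
    · exfalso
      have hc : Nat.card B = 1 := by rw [← Subgroup.card_top, ← h, Subgroup.card_bot]
      have := Nat.one_lt_pow two_ne_zero hp.one_lt
      omega
    · obtain ⟨x, hx, hrest⟩ := hco (M.map B.subtype) (Subgroup.map_subtype_le _)
        (by rwa [Subgroup.subgroupOf, Subgroup.comap_map_eq_self_of_injective B.subtype_injective])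
      exact (h1 B ⟨x, Subgroup.map_subtype_le _ hx, hrest⟩).le
  · refine (h1 B ?_).le
    refine hco B hBU ⟨fun h => hB (le_antisymm hBU (Subgroup.subgroupOf_eq_top.mp h)), fun S hS => ?_⟩
    obtain ⟨⟨s, hsU⟩, hsS, hsB⟩ := SetLike.exists_of_lt hS
    have hBn : B ≤ Subgroup.normalizer (B : Set G) := Subgroup.le_normalizer
    have hs' : s ∈ B ⊔ Subgroup.zpowers a := hBa.symm ▸ hsU
    have hUB : Subgroup.zpowers a ≤ Subgroup.normalizer (B : Set G) :=
      (Subgroup.zpowers_le.mpr ha).trans ((Subgroup.normal_subgroupOf_iff_le_normalizer hBU).mp this)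
    obtain ⟨b, hb, c, hc, hbc⟩ := (mem_sup_iff hUB).mp hs'
    obtain ⟨m, rfl⟩ := Subgroup.mem_zpowers_iff.mp hc
    have hmS : (⟨a, ha⟩ : U) ^ m ∈ S := by
      have hbS : (⟨b, hBU hb⟩ : U) ∈ S := hS.le hb
      have := S.mul_mem (S.inv_mem hbS) hsS
      convert this using 1
      exact Subtype.ext (by simp [← hbc])
    have hmp : ¬ (p : ℤ) ∣ m := by
      rintro ⟨j, rfl⟩
      apply hsB
      show s ∈ B
      rw [← hbc, zpow_mul, zpow_natCast, hexp a ha, one_zpow, mul_one]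
      exact hb
    have hcop : IsCoprime (p : ℤ) m := (Nat.prime_iff_prime_int.mp hp).coprime_iff_not_dvd.mpr hmp
    obtain ⟨u, v, huv⟩ := hcop
    have haS : (⟨a, ha⟩ : U) ∈ S := by
      have hap : (⟨a, ha⟩ : U) ^ (p : ℤ) = 1 := Subtype.ext (by simpa using hexp a ha)
      have : (⟨a, ha⟩ : U) = ((⟨a, ha⟩ : U) ^ m) ^ v := by
        conv_lhs => rw [← zpow_one (⟨a, ha⟩ : U), ← huv, zpow_add, mul_comm u, zpow_mul, hap, one_zpow, one_mul, mul_comm v, zpow_mul]
      rw [this]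
      exact S.zpow_mem hmS v
    rw [eq_top_iff]
    rintro ⟨t, ht⟩ -
    have ht' : t ∈ B ⊔ Subgroup.zpowers a := hBa.symm ▸ ht
    obtain ⟨b', hb', c', hc', hbc'⟩ := (mem_sup_iff hUB).mp ht'
    obtain ⟨j, rfl⟩ := Subgroup.mem_zpowers_iff.mp hc'
    have := S.mul_mem (hS.le (show (⟨b', hBU hb'⟩ : U) ∈ B.subgroupOf U from hb')) (S.zpow_mem haS j)
    convert this using 1
    exact Subtype.ext (by simp [← hbc'])

end Cfsg.Agent.S3003
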