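import Cfsg.Statements.S3006
import Cfsg.Agent.H62.CD

set_option autoImplicit false
open scoped Pointwise
open Cfsg

namespace Cfsg.Agent.S3006

/-- Let P be a finite p-group, Q a centrally large subgroup of P (|Q|·|Z(Q)| maximal among subgroups of P) and A an abelian subgroup of P of largest order. Then QA = AQ is a centrally large subgroup of P, C_{QA}(Q ∩ A) = Z(Q)·A, and the subgroup generated by all centrally large subgroups of P contains C_P(Z(J(P))), where J(P) is generated by the abelian subgroups of largest order. -/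
theorem result {p : ℕ} [Fact p.Prime] (P : Type*) [Group P] [Finite P] (hP : IsPGroup p P) (Q A : Subgroup P) (hQ : Cfsg.IsCentrallyLarge Q) (hA : A ∈ Cfsg.maxAbelianSubgroups P) : ((Q ⊔ A : Subgroup P) : Set P) = (Q : Set P) * (A : Set P) ∧ Cfsg.IsCentrallyLarge (Q ⊔ A) ∧ (Q ⊔ A) ⊓ Subgroup.centralizer ((Q ⊓ A : Subgroup P) : Set P) = (Q ⊓ Subgroup.centralizer (Q : Set P)) ⊔ A ∧ (((Q ⊓ Subgroup.centralizer (Q : Set P)) ⊔ A : Subgroup P) : Set P) = ((Q ⊓ Subgroup.centralizer (Q : Set P)) : Set P) * (A : Set P) ∧ Subgroup.centralizer ((Cfsg.thompsonSubgroupA P ⊓ Subgroup.centralizer (Cfsg.thompsonSubgroupA P : Set P) : Subgroup P) : Set P) ≤ Cfsg.centrallyLargeJoin P := by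
  obtain ⟨h1, h2, hW, hWset⟩ := H62.cl_sup_maxAbelian hQ hA
  have hQc := (H62.cl_iff.mp hQ).2
  have hAc := H62.cc_maxAbelian hA
  rw [inf_eq_right.mpr hQc]
  set I := Q ⊓ A with hI
  set Z := H62.cc Q with hZ
  have hAI : A ≤ H62.cc I := hAc.symm.le.trans (H62.cc_anti inf_le_right)
  have hdec : ∀ x ∈ (Q ⊔ A) ⊓ H62.cc I, ∃ z ∈ Z, ∃ a ∈ A, x = z * a := by
    rintro x ⟨hx, hxI⟩
    obtain ⟨q, hq, a, ha, rfl⟩ : x ∈ (Q : Set P) * (A : Set P) := h2 ▸ hx
    have hqI : q ∈ H62.cc I := by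
      have := (H62.cc I).mul_mem hxI ((H62.cc I).inv_mem (hAI ha))
      simpa using this
    have hqW : q ∈ Z ⊔ I := by
      rw [← H62.cc_maxAbelian hW, H62.cc_sup]
      exact ⟨H62.le_cc_cc Q hq, hqI⟩
    obtain ⟨z, hz, i, hi, rfl⟩ : q ∈ (Z : Set P) * (I : Set P) := hWset ▸ hqW
    exact ⟨z, hz, i * a, A.mul_mem hi.2 ha, mul_assoc _ _ _⟩
  have hle : Z ⊔ A ≤ (Q ⊔ A) ⊓ H62.cc I :=
    sup_le (le_inf (hQc.trans le_sup_left) (H62.cc_anti inf_le_left)) (le_inf le_sup_right hAI)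
  refine ⟨h2, h1, le_antisymm (fun x hx => ?_) hle, ?_, ?_⟩
  · obtain ⟨z, hz, a, ha, rfl⟩ := hdec x hx
    exact Subgroup.mul_mem_sup hz ha
  · refine Set.Subset.antisymm (fun x hx => ?_) ?_
    · obtain ⟨z, hz, a, ha, rfl⟩ := hdec x (hle hx)
      exact Set.mul_mem_mul (show z ∈ (Q : Set P) ⊓ (Subgroup.centralizer (Q : Set P) : Set P) from ⟨hQc hz, hz⟩) ha
    · rintro _ ⟨z, hz, a, ha, rfl⟩
      exact Subgroup.mul_mem_sup hz.2 ha
  · refine H62.cc_center_thompsonA_le (H62.cl_sSup H62.exists_cl (fun R hR => hR)) (sSup_le fun B hB => ?_)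
    exact le_sup_right.trans (le_sSup (H62.cl_sup_maxAbelian hQ hB).1)

end Cfsg.Agent.S3006
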