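import Cfsg.Statements.S3009
import Cfsg.Agent.H62.QuadraticSL2

set_option linter.style.haveILetI false

set_option autoImplicit false
open Cfsg
open Cfsg.Agent.H62
open scoped commutatorElement

namespace Cfsg.Agent.S3009

/-- Let p be a prime and let G and V be subgroups of a finite group with V elementary abelian and normalized by G, and G isomorphic to SL₂(F) for a finite field F with pⁿ elements. Suppose G acts irreducibly and nontrivially on V by conjugation (no G-invariant subgroups of V other than 1 and V, and [V, G] ≠ 1), and let S be a Sylow p-subgroup of G and V₀ = C_V(S). If [V, S, S] = 1 or |V| ≤ |V₀|², then G acts on V as SL₂(F) on its natural two-dimensional module; in particular |V| = |F|². -/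
theorem result {X : Type*} [Group X] [Finite X] {p : ℕ} [Fact p.Prime] (G V : Subgroup X) (hV : Cfsg.IsElementaryAbelian p V) (hGV : G ≤ Subgroup.normalizer (V : Set X)) (F : Type) [Field F] [Fintype F] (n : ℕ) (hF : Fintype.card F = p ^ n) (hG : Nonempty (↥G ≃* Matrix.SpecialLinearGroup (Fin 2) F)) (hirr : ∀ U : Subgroup X, U ≤ V → G ≤ Subgroup.normalizer (U : Set X) → U = ⊥ ∨ U = V) (hnt : ⁅V, G⁆ ≠ ⊥) (S : Sylow p ↥G) (hyp : ⁅⁅V, (S : Subgroup ↥G).map G.subtype⁆, (S : Subgroup ↥G).map G.subtype⁆ = ⊥ ∨ Nat.card ↥V ≤ Nat.card ↥(V ⊓ Subgroup.centralizer (((S : Subgroup ↥G).map G.subtype : Subgroup X) : Set X)) ^ 2) : Cfsg.ActsAsSL2OnSection F ⊤ G V ⊥ := by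
  classical
  haveI : CharP F p := by
    obtain ⟨q, hq⟩ := CharP.exists F
    haveI := hq
    obtain ⟨k, hq', hk⟩ := FiniteField.card F q
    rw [hF] at hk
    have hn : n ≠ 0 := by
      rintro rfl
      rw [pow_zero] at hF
      exact absurd hF (Nat.ne_of_gt Fintype.one_lt_card)
    have hpq : p = q :=
      (Nat.prime_dvd_prime_iff_eq Fact.out hq').mp
        ((Fact.out : p.Prime).dvd_of_dvd_pow (hk ▸ dvd_pow_self p hn))
    exact hpq ▸ hq
  obtain ⟨e₀⟩ := hG
  -- the upper root group
  let U : Subgroup (Matrix.SpecialLinearGroup (Fin 2) F) :=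
    { carrier := Set.range Blocks.upperT
      one_mem' := ⟨0, Quad.upperT_zero⟩
      mul_mem' := by
        rintro _ _ ⟨a, rfl⟩ ⟨b, rfl⟩
        exact ⟨a + b, Quad.upperT_add a b⟩
      inv_mem' := by
        rintro _ ⟨a, rfl⟩
        exact ⟨-a, eq_inv_of_mul_eq_one_left (by rw [← Quad.upperT_add, neg_add_cancel,
          Quad.upperT_zero])⟩ }
  have hUp : IsPGroup p U := by
    rintro ⟨_, s, rfl⟩
    refine ⟨1, Subtype.ext ?_⟩
    rw [pow_one, SubmonoidClass.coe_pow, OneMemClass.coe_one]
    have h1 : ∀ k : ℕ, Blocks.upperT s ^ k = Blocks.upperT (k * s) := fun k => by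
      induction k with
      | zero => rw [pow_zero, Nat.cast_zero, zero_mul, Quad.upperT_zero]
      | succ k ih => rw [pow_succ, ih, Nat.cast_succ, add_mul, one_mul, Quad.upperT_add]
    show Blocks.upperT s ^ p = 1
    rw [h1, CharP.cast_eq_zero, zero_mul, Quad.upperT_zero]
  obtain ⟨P, hP⟩ := (hUp.map e₀.symm.toMonoidHom).exists_le_sylow
  obtain ⟨c, hc⟩ := MulAction.exists_smul_eq (↥G) P S
  let e : ↥G ≃* Matrix.SpecialLinearGroup (Fin 2) F := (MulAut.conj c⁻¹).trans e₀
  have hUS : ∀ s, ((e.symm (Blocks.upperT s) : ↥G) : X) ∈ (S : Subgroup ↥G).map G.subtype := by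
    intro s
    refine ⟨e.symm (Blocks.upperT s), ?_, rfl⟩
    rw [← hc, Sylow.coe_subgroup_smul]
    refine ⟨e₀.symm (Blocks.upperT s), hP ⟨_, ⟨s, rfl⟩, rfl⟩, ?_⟩
    apply e.injective
    rw [MulEquiv.apply_symm_apply]
    show e₀ (c⁻¹ * (c * e₀.symm (Blocks.upperT s) * c⁻¹) * c⁻¹⁻¹) = _
    rw [inv_inv]
    simp [mul_assoc]
  -- the module
  haveI := hV.1
  let hN : ∀ (g : ↥G) (v : X), v ∈ V → (g : X) * v * (g : X)⁻¹ ∈ V := fun g v hv =>
    (Subgroup.mem_normalizer_iff.mp (hGV g.2) v).mp hv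
  letI : CommGroup ↥V := { (inferInstance : Group ↥V) with mul_comm := mul_comm' }
  letI : DistribMulAction (Matrix.SpecialLinearGroup (Fin 2) F) (Additive ↥V) :=
    { smul := fun g m => Additive.ofMul
        ⟨(e.symm g : X) * (m.toMul : ↥V) * (e.symm g : X)⁻¹, hN _ _ m.toMul.2⟩
      one_smul := fun m => by
        apply Additive.toMul.injective
        apply Subtype.ext
        show ((e.symm 1 : ↥G) : X) * (m.toMul : ↥V) * ((e.symm 1 : ↥G) : X)⁻¹ = _
        simp
      mul_smul := fun g g' m => by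
        apply Additive.toMul.injective
        apply Subtype.ext
        show ((e.symm (g * g') : ↥G) : X) * (m.toMul : ↥V) * ((e.symm (g * g') : ↥G) : X)⁻¹ =
          (e.symm g : X) * ((e.symm g' : X) * (m.toMul : ↥V) * (e.symm g' : X)⁻¹) * (e.symm g : X)⁻¹
        rw [map_mul, Subgroup.coe_mul]
        group
      smul_zero := fun g => by
        apply Additive.toMul.injective
        apply Subtype.ext
        show (e.symm g : X) * 1 * (e.symm g : X)⁻¹ = 1
        simp
      smul_add := fun g a b => by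
        apply Additive.toMul.injective
        apply Subtype.ext
        show (e.symm g : X) * ((a.toMul : ↥V) * (b.toMul : ↥V) : X) * (e.symm g : X)⁻¹ =
          ((e.symm g : X) * (a.toMul : ↥V) * (e.symm g : X)⁻¹) *
            ((e.symm g : X) * (b.toMul : ↥V) * (e.symm g : X)⁻¹)
        group }
  have hsmul : ∀ (g : Matrix.SpecialLinearGroup (Fin 2) F) (m : Additive ↥V),
      (((g • m).toMul : ↥V) : X) = (e.symm g : X) * (m.toMul : ↥V) * (e.symm g : X)⁻¹ :=
    fun _ _ => rfl
  have hexp : ∀ m : Additive ↥V, p • m = 0 := fun m => by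
    apply Additive.toMul.injective
    apply Subtype.ext
    exact hV.2 _ m.toMul.2
  -- a nontrivial action
  obtain ⟨g0, m0, hgm⟩ : ∃ (g : Matrix.SpecialLinearGroup (Fin 2) F) (m : Additive ↥V),
      g • m ≠ m := by
    by_contra hne
    simp only [not_exists, ne_eq, not_not] at hne
    apply hnt
    rw [eq_bot_iff, Subgroup.commutator_le]
    intro v hv g hg
    have h := congrArg (fun x : Additive ↥V => ((x.toMul : ↥V) : X))
      (hne (e ⟨g, hg⟩) (Additive.ofMul ⟨v, hv⟩))
    simp only [hsmul, MulEquiv.symm_apply_apply, toMul_ofMul] at h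
    rw [Subgroup.mem_bot, commutatorElement_def]
    calc v * g * v⁻¹ * g⁻¹ = v * (g * v * g⁻¹)⁻¹ := by group
      _ = 1 := by rw [h, mul_inv_cancel]
  haveI : Nontrivial (Additive ↥V) := ⟨⟨_, _, hgm⟩⟩
  have hirr' : Quad.Irred F (Additive ↥V) := by
    refine ⟨fun K hK => ?_, g0, m0, hgm⟩
    let U' : Subgroup X := (AddSubgroup.toSubgroup' K).map V.subtype
    have hU' : ∀ (g : X), g ∈ G → ∀ x ∈ U', g * x * g⁻¹ ∈ U' := by
      rintro g hg _ ⟨v, hv, rfl⟩
      refine ⟨(e ⟨g, hg⟩ • Additive.ofMul v).toMul, hK _ _ hv, ?_⟩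
      show (((e ⟨g, hg⟩ • Additive.ofMul v).toMul : ↥V) : X) = _
      rw [hsmul, MulEquiv.symm_apply_apply]
      rfl
    rcases hirr U' (Subgroup.map_subtype_le _) (fun g hg => Subgroup.mem_normalizer_iff.mpr
        fun x => ⟨hU' g hg x, fun hx => by
          have := hU' g⁻¹ (inv_mem hg) _ hx
          simpa [mul_assoc] using this⟩) with h0 | h0
    · refine Or.inl (eq_bot_iff.mpr fun m hm => ?_)
      have : ((m.toMul : ↥V) : X) ∈ U' := ⟨m.toMul, hm, rfl⟩
      rw [h0, Subgroup.mem_bot] at this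
      exact AddSubgroup.mem_bot.mpr (Additive.toMul.injective (Subtype.ext this))
    · refine Or.inr (eq_top_iff.mpr fun m _ => ?_)
      obtain ⟨v, hv, hvm⟩ := (h0.symm ▸ m.toMul.2 : ((m.toMul : ↥V) : X) ∈ U')
      have : v = m.toMul := Subtype.ext hvm
      subst this
      exact hv
  set S' := (S : Subgroup ↥G).map G.subtype with hS'
  have hfix : ∀ m : Additive ↥V, ((m.toMul : ↥V) : X) ∈ Subgroup.centralizer (S' : Set X) →
      m ∈ Quad.fixU F (Additive ↥V) := fun m hm s => by
    apply Additive.toMul.injective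
    apply Subtype.ext
    rw [hsmul, Subgroup.mem_centralizer_iff.mp hm _ (hUS s), mul_inv_cancel_right]
  have hyp' : (∀ (s : F) (m : Additive ↥V),
      (Blocks.upperT s : Matrix.SpecialLinearGroup (Fin 2) F) • m - m ∈ Quad.fixU F (Additive ↥V)) ∨
      Nat.card (Additive ↥V) ≤ Nat.card (Quad.fixU F (Additive ↥V)) ^ 2 := by
    rcases hyp with hq | hc
    · refine Or.inl fun s m => hfix _ ?_
      rw [Subgroup.commutator_eq_bot_iff_le_centralizer] at hq
      refine hq ?_
      have : (((Blocks.upperT s : Matrix.SpecialLinearGroup (Fin 2) F) • m - m).toMul : X) =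
          ⁅((e.symm (Blocks.upperT s) : ↥G) : X), ((m.toMul : ↥V) : X)⁆ := by
        rw [toMul_sub, commutatorElement_def, div_eq_mul_inv, Subgroup.coe_mul, hsmul]
        rfl
      rw [this, Subgroup.commutator_comm]
      exact Subgroup.commutator_mem_commutator (hUS s) m.toMul.2
    · refine Or.inr ?_
      rw [show Nat.card (Additive ↥V) = Nat.card ↥V from Nat.card_congr Additive.toMul]
      refine hc.trans (Nat.pow_le_pow_left ?_ 2)
      refine Nat.card_le_card_of_injective
        (fun x => ⟨Additive.ofMul ⟨x.1, (Subgroup.mem_inf.mp x.2).1⟩,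
          hfix _ (Subgroup.mem_inf.mp x.2).2⟩) fun a b hab => ?_
      exact Subtype.ext (congrArg (fun y => ((y.1.toMul : ↥V) : X)) hab)
  obtain ⟨Φ, hΦ⟩ := Quad.natural (p := p) hirr' hexp hyp'
  refine ⟨hGV, bot_le, e.toMonoidHom, MonoidHom.mk'
    (fun v : ↥V => Multiplicative.ofAdd (Φ.symm (Additive.ofMul v)))
    (fun a b => by rw [ofMul_mul, map_add, ofAdd_add]), MonoidHom.range_eq_top.mpr e.surjective, ?_, ?_, ?_⟩
  · intro y
    exact ⟨(Φ (Multiplicative.toAdd y)).toMul, congrArg Multiplicative.ofAdd (Φ.symm_apply_apply _)⟩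
  · intro u
    rw [Subgroup.mem_bot]
    constructor
    · intro h
      have h1 : Φ.symm (Additive.ofMul u) = 0 := congrArg Multiplicative.toAdd h
      rw [AddEquivClass.map_eq_zero_iff] at h1
      exact congrArg Subtype.val (congrArg Additive.toMul h1)
    · intro h
      have : u = 1 := Subtype.ext h
      rw [this, map_one]
  · intro g u
    refine ⟨(e g • Additive.ofMul u).toMul, ?_, ?_⟩
    · rw [hsmul, MulEquiv.symm_apply_apply]
      rfl
    · show Φ.symm (e g • Additive.ofMul u) = _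
      apply Φ.injective
      rw [AddEquiv.apply_symm_apply]
      show _ = Φ ((e g : Matrix (Fin 2) (Fin 2) F).mulVec (Φ.symm (Additive.ofMul u)))
      rw [hΦ, AddEquiv.apply_symm_apply]

end Cfsg.Agent.S3009
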