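import Cfsg.Statements.S3011
import Cfsg.Agent.Thompson.BaerSuzuki
import Cfsg.Agent.Cores.PCore
import Cfsg.Agent.H26.Invol

set_option autoImplicit false
open Cfsg

namespace Cfsg.Agent.S3011

/-- An involution outside `O₂(G)` inverts a nontrivial element of odd order. -/
private theorem exists_inverted {G : Type*} [Group G] [Finite G] {a : G} (ha : a * a = 1)
    (hO : a ∉ Cfsg.pCore 2 G) :
    ∃ h : G, h ≠ 1 ∧ Odd (orderOf h) ∧ a * h * a⁻¹ = h⁻¹ := by
  by_contra hcon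
  simp only [not_exists, not_and] at hcon
  haveI : Fact (Nat.Prime 2) := ⟨Nat.prime_two⟩
  apply hO
  suffices hpair : ∀ g : G, IsPGroup 2 (Subgroup.closure ({a, g * a * g⁻¹} : Set G)) by
    obtain ⟨N, hN, hNp, haN⟩ := Thompson.baer_suzuki (p := 2) (x := a) hpair
    haveI := hN
    exact Cores.le_pCore hNp haN
  intro g
  have hb : g * a * g⁻¹ * (g * a * g⁻¹) = 1 := by
    rw [conj_mul, ha, mul_one, mul_inv_cancel]
  set b := g * a * g⁻¹
  have hy : a * (a * b) * a⁻¹ = (a * b)⁻¹ := by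
    rw [mul_inv_rev, inv_eq_of_mul_eq_one_right hb, inv_eq_of_mul_eq_one_right ha,
      ← mul_assoc a a b, ha, one_mul]
  set e := (orderOf (a * b)).factorization 2
  have hpow : (a * b) ^ (2 ^ e) = 1 := by
    by_contra hne
    refine hcon _ hne ?_ (by rw [← conj_pow, hy, inv_pow])
    rw [orderOf_pow' _ (pow_ne_zero _ two_ne_zero), Nat.gcd_eq_right (Nat.ordProj_dvd _ _),
      ← Nat.not_even_iff_odd, even_iff_two_dvd]
    exact Nat.not_dvd_ordCompl Nat.prime_two (orderOf_pos _).ne'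
  rintro ⟨d, hd⟩
  obtain ⟨k, hk | hk⟩ := (H26.mem_closure_pair_iff ha hb).mp hd
  · refine ⟨e, Subtype.ext ?_⟩
    show d ^ (2 ^ e) = 1
    rw [hk, ← zpow_natCast, ← zpow_mul, mul_comm, zpow_mul, zpow_natCast, hpow, one_zpow]
  · refine ⟨1, Subtype.ext ?_⟩
    show d ^ (2 ^ 1) = 1
    rw [hk, pow_one, pow_two, H26.mul_zpow_mul_self ha hb]

/-- An odd order element equal to its inverse is trivial. -/
private theorem eq_one_of_sq {G : Type*} [Group G] {h : G} (ho : Odd (orderOf h))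
    (he : h = h⁻¹) : h = 1 := by
  obtain ⟨n, hn⟩ := ho
  have h2 : h ^ 2 = 1 := by rw [pow_two]; exact mul_eq_one_iff_eq_inv.mpr he
  have := pow_orderOf_eq_one h
  rwa [hn, pow_succ, pow_mul, h2, one_pow, one_mul] at this

/-- Inverting `h` and centralising `h` excludes each other. -/
private theorem not_comm_of_inv {G : Type*} [Group G] {a h : G} (ho : Odd (orderOf h))
    (hi : a * h * a⁻¹ = h⁻¹) (hc : a * h = h * a) : h = 1 := by
  refine eq_one_of_sq ho ?_
  rw [← hi, hc, mul_inv_cancel_right]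

/-- There is no pair of involutions of the Sidki pair, each inverting an odd element which the
other centralises. -/
private theorem no_two_cycle {G : Type*} [Group G] [Finite G] {V : Subgroup G}
    (hS : Cfsg.IsSidkiPair V) {a b : G} (haV : a ∈ V) (hbV : b ∈ V)
    (hw : ∀ w ∈ V, w ≠ 1 → w = a ∨ w = b ∨ w = a * b) (hab : a * b = b * a)
    {h k : G} (hho : Odd (orderOf h)) (hko : Odd (orderOf k))
    (hah : a * h * a⁻¹ = h⁻¹) (hbh : b * h = h * b)
    (hbk : b * k * b⁻¹ = k⁻¹) (hak : a * k = k * a) (hh : h ≠ 1) (hk : k ≠ 1) : False := by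
  have hch : a * b * h * (a * b)⁻¹ = h⁻¹ := by
    calc a * b * h * (a * b)⁻¹ = a * (b * h * b⁻¹) * a⁻¹ := by group
      _ = h⁻¹ := by rw [hbh, mul_inv_cancel_right, hah]
  have hck : a * b * k * (a * b)⁻¹ = k⁻¹ := by
    rw [hab]
    calc b * a * k * (b * a)⁻¹ = b * (a * k * a⁻¹) * b⁻¹ := by group
      _ = k⁻¹ := by rw [hak, mul_inv_cancel_right, hbk]
  -- `y = k⁻¹ h k` is inverted by `a`, so it is centralised by `b` or `a b`
  set y := k⁻¹ * h * k with hy
  have hay : a * y * a⁻¹ = y⁻¹ := by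
    have hki : a * k⁻¹ = k⁻¹ * a := (Commute.inv_right hak).eq
    calc a * y * a⁻¹ = (a * k⁻¹) * h * (k * a⁻¹) := by rw [hy]; group
      _ = k⁻¹ * (a * h * a⁻¹) * k := by
        rw [hki, show k * a⁻¹ = a⁻¹ * k from (Commute.inv_left hak).eq.symm]; group
      _ = y⁻¹ := by rw [hah, hy]; group
  have hoy : orderOf y = orderOf h := by
    rw [hy]
    conv_lhs => rw [show k⁻¹ * h * k = k⁻¹ * h * k⁻¹⁻¹ by rw [inv_inv]]
    exact H26.orderOf_conj_eq _ _
  have hy1 : y ≠ 1 := fun e => hh (orderOf_eq_one_iff.mp (by rw [← hoy, e, orderOf_one]))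
  obtain ⟨n, hn⟩ := hko
  have root : ∀ m u : G, m ^ (2 * n + 1) = 1 → Commute (m ^ 2) u → Commute m u := fun m u hm hu => by
    have := hu.pow_left (n + 1)
    rwa [← pow_mul, show 2 * (n + 1) = (2 * n + 1) + 1 by omega, pow_succ, hm, one_mul] at this
  have hkn : k ^ (2 * n + 1) = 1 := by rw [← hn, pow_orderOf_eq_one]
  have hhk : Commute k h := by
    obtain ⟨w, hwV, hw1, hwy⟩ := hS y a haV (hoy ▸ hho) hay
    rcases hw w hwV hw1 with rfl | rfl | rfl
    · exact absurd (not_comm_of_inv (hoy ▸ hho) hay hwy) hy1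
    · refine root _ _ hkn ?_
      have h1 : w * y * w⁻¹ = y := by rw [hwy, mul_inv_cancel_right]
      have h2 : w * y * w⁻¹ = k * h * k⁻¹ := by
        calc w * y * w⁻¹ = (w * k * w⁻¹)⁻¹ * (w * h * w⁻¹) * (w * k * w⁻¹) := by rw [hy]; group
          _ = k * h * k⁻¹ := by rw [hbk, hbh, mul_inv_cancel_right, inv_inv]
      have h3 : k * h * k⁻¹ = k⁻¹ * h * k := h2 ▸ h1
      show k ^ 2 * h = h * k ^ 2
      calc k ^ 2 * h = k * (k * h * k⁻¹) * k := by rw [pow_two]; group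
        _ = k * (k⁻¹ * h * k) * k := by rw [h3]
        _ = h * k ^ 2 := by rw [pow_two]; group
    · -- here `a b` inverts and centralises `y`, up to conjugation by `k`
      have h1 : a * b * y * (a * b)⁻¹ = y := by rw [hwy, mul_inv_cancel_right]
      have h2 : a * b * y * (a * b)⁻¹ = k * h⁻¹ * k⁻¹ := by
        calc a * b * y * (a * b)⁻¹ = (a * b * k * (a * b)⁻¹)⁻¹ * (a * b * h * (a * b)⁻¹) *
              (a * b * k * (a * b)⁻¹) := by rw [hy]; group
          _ = k * h⁻¹ * k⁻¹ := by rw [hck, hch, inv_inv]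
      have h3 : k * h⁻¹ * k⁻¹ = k⁻¹ * h * k := h2 ▸ h1
      have h4 : k ^ 2 * h⁻¹ * (k ^ 2)⁻¹ = h := by
        calc k ^ 2 * h⁻¹ * (k ^ 2)⁻¹ = k * (k * h⁻¹ * k⁻¹) * k⁻¹ := by rw [pow_two]; group
          _ = h := by rw [h3]; group
      have h5 : k ^ 2 * h * (k ^ 2)⁻¹ = h⁻¹ := by
        conv_rhs => rw [← h4]
        group
      refine root _ _ hkn (root _ _ (by rw [← pow_mul, mul_comm, pow_mul, hkn, one_pow]) ?_)
      show (k ^ 2) ^ 2 * h = h * (k ^ 2) ^ 2
      calc (k ^ 2) ^ 2 * h = k ^ 2 * (k ^ 2 * h * (k ^ 2)⁻¹) * (k ^ 2)⁻¹ * (k ^ 2) ^ 2 := by group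
        _ = h * (k ^ 2) ^ 2 := by rw [h5, h4]
  -- `x = h k` is inverted by `a b` and centralised by no element of `V`
  have hxo : Odd (orderOf (h * k)) :=
    Odd.of_dvd_nat (hho.mul ⟨n, hn⟩) hhk.symm.orderOf_mul_dvd_mul_orderOf
  have hkhinv : k⁻¹ * h⁻¹ = h⁻¹ * k⁻¹ := (hhk.inv_inv).eq
  have hcx : a * b * (h * k) * (a * b)⁻¹ = (h * k)⁻¹ := by
    calc a * b * (h * k) * (a * b)⁻¹
        = (a * b * h * (a * b)⁻¹) * (a * b * k * (a * b)⁻¹) := by group
      _ = (h * k)⁻¹ := by rw [hch, hck, mul_inv_rev, hkhinv]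
  obtain ⟨w, hwV, hw1, hwx⟩ := hS (h * k) (a * b) (mul_mem haV hbV) hxo hcx
  rcases hw w hwV hw1 with rfl | rfl | rfl
  · refine hh (eq_one_of_sq hho (mul_right_cancel (b := k) ?_))
    calc h * k = w * (h * k) * w⁻¹ := by rw [hwx, mul_inv_cancel_right]
      _ = (w * h * w⁻¹) * (w * k * w⁻¹) := by group
      _ = h⁻¹ * k := by rw [hah, hak, mul_inv_cancel_right]
  · refine hk (eq_one_of_sq ⟨n, hn⟩ (mul_left_cancel (a := h) ?_))
    calc h * k = w * (h * k) * w⁻¹ := by rw [hwx, mul_inv_cancel_right]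
      _ = (w * h * w⁻¹) * (w * k * w⁻¹) := by group
      _ = h * k⁻¹ := by rw [hbk, hbh, mul_inv_cancel_right]
  · have hx1 := not_comm_of_inv hxo hcx hwx
    have hkh : k = h⁻¹ := eq_inv_of_mul_eq_one_right hx1
    refine hh (not_comm_of_inv hho hah ?_)
    have := (Commute.inv_right (hak : Commute a k))
    rwa [hkh, inv_inv] at this

/-- Let G be a finite group and V a nontrivial elementary abelian 2-subgroup of G of order at most 4 such that, whenever an element of V inverts an element h of G of odd order, some nontrivial element of V commutes with h. Then V meets O₂(G) nontrivially. (The case of order at most 4 has a short argument from the Baer–Suzuki theorem.) -/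
theorem result {G : Type*} [Group G] [Finite G] (V : Subgroup G) (hV : Cfsg.IsElementaryAbelian 2 V) (hV1 : V ≠ ⊥) (hS : Cfsg.IsSidkiPair V) (h4 : Nat.card V ≤ 4) : V ⊓ Cfsg.pCore 2 G ≠ ⊥ := by
  classical
  by_contra hcon
  have hmul : ∀ v ∈ V, v * v = 1 := fun v hv => by rw [← pow_two]; exact hV.2 v hv
  have hout : ∀ v ∈ V, v ≠ 1 → v ∉ Cfsg.pCore 2 G := fun v hv hv1 hvc =>
    hv1 (Subgroup.mem_bot.mp (hcon ▸ (⟨hv, hvc⟩ : v ∈ V ⊓ Cfsg.pCore 2 G)))
  haveI : Fintype V := Fintype.ofFinite _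
  have h4' : Fintype.card V ≤ 4 := by rwa [← Nat.card_eq_fintype_card]
  have hcomm : ∀ x ∈ V, ∀ y ∈ V, x * y = y * x := fun x hx y hy => by
    have h := hmul (x * y) (mul_mem hx hy)
    calc x * y = (x * y)⁻¹ := (inv_eq_of_mul_eq_one_right h).symm
      _ = y * x := by
        rw [mul_inv_rev, inv_eq_of_mul_eq_one_right (hmul x hx), inv_eq_of_mul_eq_one_right (hmul y hy)]
  -- two distinct involutions of `V` determine all of it
  have hall : ∀ a ∈ V, ∀ b ∈ V, a ≠ 1 → b ≠ 1 → a ≠ b → ∀ w ∈ V, w ≠ 1 → w = a ∨ w = b ∨ w = a * b := by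
    intro a ha b hb ha1 hb1 hab w hw hw1
    by_contra hne
    simp only [not_or] at hne
    obtain ⟨n1, n2, n3⟩ := hne
    have hab1 : a * b ≠ 1 := fun e => hab (by
      rw [eq_inv_of_mul_eq_one_left e, inv_eq_of_mul_eq_one_right (hmul b hb)])
    have ha' : a * b ≠ a := fun e => hb1 (mul_eq_left.mp e)
    have hb' : a * b ≠ b := fun e => ha1 (mul_eq_right.mp e)
    have : ({1, ⟨a, ha⟩, ⟨b, hb⟩, ⟨a * b, mul_mem ha hb⟩, ⟨w, hw⟩} : Finset V).card = 5 := by
      rw [Finset.card_insert_of_notMem, Finset.card_insert_of_notMem, Finset.card_insert_of_notMem,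
        Finset.card_insert_of_notMem, Finset.card_singleton] <;>
        simp [Subtype.ext_iff, Ne.symm ha1, Ne.symm hb1, Ne.symm hab1, Ne.symm hw1, hab, Ne.symm n1,
          Ne.symm n2, Ne.symm n3, ha'.symm, hb'.symm]
    have := Finset.card_le_univ ({1, ⟨a, ha⟩, ⟨b, hb⟩, ⟨a * b, mul_mem ha hb⟩, ⟨w, hw⟩} : Finset V)
    omega
  -- every involution of `V` inverts an odd element centralised by another one
  have edge : ∀ a ∈ V, a ≠ 1 → ∃ b ∈ V, b ≠ 1 ∧ b ≠ a ∧
      ∃ h : G, h ≠ 1 ∧ Odd (orderOf h) ∧ a * h * a⁻¹ = h⁻¹ ∧ b * h = h * b := by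
    intro a ha ha1
    obtain ⟨h, hh, hho, hah⟩ := exists_inverted (hmul a ha) (hout a ha ha1)
    obtain ⟨b, hb, hb1, hbh⟩ := hS h a ha hho hah
    exact ⟨b, hb, hb1, fun e => hh (not_comm_of_inv hho hah (e ▸ hbh)), h, hh, hho, hah, hbh⟩
  obtain ⟨a, ha, ha1⟩ := V.bot_or_exists_ne_one.resolve_left hV1
  obtain ⟨b, hb, hb1, hba, h, hh, hho, hah, hbh⟩ := edge a ha ha1
  obtain ⟨w, hw, hw1, hwb, k, hk, hko, hbk, hwk⟩ := edge b hb hb1
  rcases hall a ha b hb ha1 hb1 hba.symm w hw hw1 with rfl | rfl | rfl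
  · exact no_two_cycle hS hw hb (hall w hw b hb hw1 hb1 hba.symm) (hcomm w hw b hb) hho hko hah hbh
      hbk hwk hh hk
  · exact hwb rfl
  · -- `c = a b` also inverts `h`
    have hch : a * b * h * (a * b)⁻¹ = h⁻¹ := by
      calc a * b * h * (a * b)⁻¹ = a * (b * h * b⁻¹) * a⁻¹ := by group
        _ = h⁻¹ := by rw [hbh, mul_inv_cancel_right, hah]
    exact no_two_cycle hS hw hb (hall _ hw b hb hw1 hb1 hwb) (hcomm _ hw b hb) hho hko hch hbh
      hbk hwk hh hk

end Cfsg.Agent.S3011
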