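import Cfsg.Statements.S3012


set_option autoImplicit false
open Cfsg

namespace Cfsg.Agent.S3012

/-- Let G be a finite group, V a nontrivial elementary abelian 2-subgroup of G satisfying the Sidki pair condition (every odd-order element inverted by an element of V commutes with a nontrivial element of V), and K a normal subgroup of G with V ∩ K = 1. Then the image of V in G/K satisfies the Sidki pair condition in G/K. -/
theorem result {G : Type*} [Group G] [Finite G] (V K : Subgroup G) [K.Normal] (hV : Cfsg.IsElementaryAbelian 2 V) (hV1 : V ≠ ⊥) (hS : Cfsg.IsSidkiPair V) (hVK : V ⊓ K = ⊥) : Cfsg.IsSidkiPair (V.map (QuotientGroup.mk' K)) := by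
  rintro h _ ⟨v, hv, rfl⟩ hodd hinv
  set π := QuotientGroup.mk' K with hπ
  obtain ⟨n, hn⟩ := hodd
  have hv2 : v * v = 1 := by rw [← pow_two]; exact hV.2 v hv
  have hvi : v⁻¹ = v := inv_eq_of_mul_eq_one_right hv2
  obtain ⟨g, hg⟩ := QuotientGroup.mk'_surjective K (h ^ (n + 1))
  set y := g * v * g⁻¹ * v⁻¹ with hy_def
  have hy : v * y * v⁻¹ = y⁻¹ := by
    simp only [hy_def, mul_inv_rev, inv_inv, hvi]
    simp [mul_assoc, hv2]
  have hπy : π y = h := by
    have h1 : π v * (h ^ (n + 1))⁻¹ * (π v)⁻¹ = h ^ (n + 1) := by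
      rw [← inv_pow, ← conj_pow]
      congr 1
      calc π v * h⁻¹ * (π v)⁻¹ = (π v * h * (π v)⁻¹)⁻¹ := by group
        _ = h := by rw [hinv, inv_inv]
    have h2 : h ^ (n + 1) * h ^ (n + 1) = h := by
      rw [← pow_add, show n + 1 + (n + 1) = orderOf h + 1 by omega, pow_succ, pow_orderOf_eq_one, one_mul]
    rw [hy_def, map_mul, map_mul, map_mul, map_inv, map_inv, hg]
    calc h ^ (n + 1) * π v * (h ^ (n + 1))⁻¹ * (π v)⁻¹
        = h ^ (n + 1) * (π v * (h ^ (n + 1))⁻¹ * (π v)⁻¹) := by group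
      _ = h := by rw [h1, h2]
  set a := (orderOf y).factorization 2 with ha_def
  have hyodd : Odd (orderOf (y ^ (2 ^ a))) := by
    rw [orderOf_pow' _ (pow_ne_zero _ two_ne_zero), Nat.gcd_eq_right (Nat.ordProj_dvd _ _), ← Nat.not_even_iff_odd,
      even_iff_two_dvd]
    exact Nat.not_dvd_ordCompl Nat.prime_two (orderOf_pos y).ne'
  obtain ⟨w, hw, hw1, hwc⟩ := hS (y ^ (2 ^ a)) v hv hyodd (by rw [← conj_pow, hy, inv_pow])
  refine ⟨π w, ⟨w, hw, rfl⟩, fun e => hw1 ?_, ?_⟩
  · have : w ∈ V ⊓ K := ⟨hw, (QuotientGroup.eq_one_iff w).mp e⟩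
    rwa [hVK, Subgroup.mem_bot] at this
  · have h1 : Commute (π w) (h ^ (2 ^ a)) := by
      rw [← hπy, ← map_pow]
      exact Commute.map hwc π
    have hcop : (2 ^ a).Coprime (orderOf h) :=
      (Nat.coprime_two_left.mpr ⟨n, hn⟩).pow_left a
    obtain ⟨m, hm⟩ := exists_pow_eq_self_of_coprime hcop
    exact hm ▸ h1.pow_right m

end Cfsg.Agent.S3012
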