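import Cfsg.Statements.S3013


set_option autoImplicit false
open Cfsg

namespace Cfsg.Agent.S3013

/-- Let G be a finite group and V a nontrivial elementary abelian 2-subgroup of G satisfying the Sidki pair condition. Let v ∈ V and let x be an element of odd order inverted by v, and put C = C_G(v) ∩ C_G(x), the centralizer of the dihedral subgroup generated by v and x. Then C ∩ V is nontrivial and satisfies the Sidki pair condition inside C: every odd-order element of C inverted by an element of C ∩ V commutes with a nontrivial element of C ∩ V. -/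
theorem result {G : Type*} [Group G] [Finite G] (V : Subgroup G) (hV : Cfsg.IsElementaryAbelian 2 V) (hV1 : V ≠ ⊥) (hS : Cfsg.IsSidkiPair V) (v x : G) (hv : v ∈ V) (hx : Odd (orderOf x)) (hinv : v * x * v⁻¹ = x⁻¹) (C : Subgroup G) (hC : C = Subgroup.centralizer ({v} : Set G) ⊓ Subgroup.centralizer ({x} : Set G)) : C ⊓ V ≠ ⊥ ∧ Cfsg.IsSidkiPair ((C ⊓ V).subgroupOf C) := by
  subst hC
  have hv2 : ∀ a ∈ V, a * a = 1 := fun a ha => by rw [← pow_two]; exact hV.2 a ha
  have hcomm : ∀ a ∈ V, ∀ b ∈ V, a * b = b * a := fun a ha b hb =>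
    congrArg Subtype.val (hV.1.is_comm.comm ⟨a, ha⟩ ⟨b, hb⟩)
  have memC : ∀ {w : G}, w * v = v * w → w * x = x * w →
      w ∈ Subgroup.centralizer ({v} : Set G) ⊓ Subgroup.centralizer ({x} : Set G) := fun h1 h2 =>
    ⟨Subgroup.mem_centralizer_singleton_iff.mpr h1, Subgroup.mem_centralizer_singleton_iff.mpr h2⟩
  refine ⟨?_, ?_⟩
  · obtain ⟨w, hw, hw1, hwx⟩ := hS x v hv hx hinv
    intro e
    have : w ∈ (⊥ : Subgroup G) := e ▸ ⟨memC (hcomm w hw v hv) hwx, hw⟩
    exact hw1 (Subgroup.mem_bot.mp this)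
  · rintro ⟨h, hhC⟩ ⟨u, huC⟩ ⟨-, huV⟩ hodd hinvh
    rw [Subgroup.orderOf_mk] at hodd
    obtain ⟨hhv, hhx⟩ := hhC
    obtain ⟨huv, hux⟩ := huC
    replace hhv : h * v = v * h := Subgroup.mem_centralizer_singleton_iff.mp hhv
    replace hhx : h * x = x * h := Subgroup.mem_centralizer_singleton_iff.mp hhx
    replace huv : u * v = v * u := Subgroup.mem_centralizer_singleton_iff.mp huv
    replace hux : u * x = x * u := Subgroup.mem_centralizer_singleton_iff.mp hux
    have hinvh' : u * h * u⁻¹ = h⁻¹ := congrArg Subtype.val hinvh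
    have hhxodd : Odd (orderOf (h * x)) := by
      have := Commute.orderOf_mul_dvd_mul_orderOf (hhx : Commute h x)
      exact (hodd.mul hx).of_dvd_nat this
    have hinv2 : (u * v) * (h * x) * (u * v)⁻¹ = (h * x)⁻¹ := by
      calc (u * v) * (h * x) * (u * v)⁻¹ = u * (v * h * v⁻¹ * (v * x * v⁻¹)) * u⁻¹ := by group
        _ = u * (h * x⁻¹) * u⁻¹ := by rw [hinv, ← hhv, mul_inv_cancel_right]
        _ = (u * h * u⁻¹) * (u * x * u⁻¹)⁻¹ := by group
        _ = h⁻¹ * x⁻¹ := by rw [hinvh', hux, mul_inv_cancel_right]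
        _ = (h * x)⁻¹ := by rw [mul_inv_rev]; exact (Commute.inv_inv (hhx : Commute h x)).eq
    obtain ⟨w, hw, hw1, hwc⟩ := hS (h * x) (u * v) (V.mul_mem huV hv) hhxodd hinv2
    have hwc' : Commute w (h * x⁻¹) := by
      have h1 := Commute.map (hwc : Commute w (h * x)) (MulAut.conj v).toMonoidHom
      simp only [MulEquiv.toMonoidHom_eq_coe, MonoidHom.coe_coe, MulAut.conj_apply] at h1
      rwa [hcomm v hv w hw, mul_inv_cancel_right,
        show v * (h * x) * v⁻¹ = (v * h * v⁻¹) * (v * x * v⁻¹) by group, hinv, ← hhv, mul_inv_cancel_right] at h1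
    have hwx2 : Commute w (x ^ 2) := by
      have h1 := hwc'.inv_right.mul_right (hwc : Commute w (h * x))
      rwa [show (h * x⁻¹)⁻¹ * (h * x) = x ^ 2 by rw [pow_two]; group] at h1
    obtain ⟨m, hm⟩ := exists_pow_eq_self_of_coprime (x := x) (n := 2) (Nat.coprime_two_left.mpr hx)
    have hwx : Commute w x := hm ▸ hwx2.pow_right m
    have hwh : Commute w h := by
      have h1 := Commute.mul_right (hwc : Commute w (h * x)) hwx.inv_right
      rwa [mul_inv_cancel_right] at h1
    refine ⟨⟨w, memC (hcomm w hw v hv) hwx.eq⟩, ⟨memC (hcomm w hw v hv) hwx.eq, hw⟩, fun e => hw1 (congrArg Subtype.val e), Subtype.ext hwh.eq⟩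

end Cfsg.Agent.S3013
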