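import Cfsg.Statements.S3014
import Mathlib.GroupTheory.Transfer
import Mathlib.GroupTheory.SpecificGroups.Cyclic

set_option autoImplicit false
open Cfsg

namespace Cfsg.Agent.S3014

open MulAction in
/-- Transfer to `M / H` restricts to the quotient map on `M`. -/
theorem exists_hom_extending {G : Type*} [Group G] [Finite G] {A : Type*} [CommGroup A] (M : Subgroup G) (φ : M →* A)
    (hkey : ∀ g : G, g ∉ M → ∀ y : M, g * (y : G) * g⁻¹ ∈ M → φ y = 1) :
    ∃ V : G →* A, ∀ m : M, V (m : G) = φ m := by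
  classical
  refine ⟨MonoidHom.transfer φ, fun m => ?_⟩
  have : Fintype (Quotient (orbitRel (Subgroup.zpowers (m:G)) (G ⧸ M))) := Fintype.ofFinite _
  rw [MonoidHom.transfer_eq_prod_quotient_orbitRel_zpowers_quot]
  set q₀ : Quotient (orbitRel (Subgroup.zpowers (m:G)) (G ⧸ M)) := Quotient.mk'' ((1 : G) : G ⧸ M) with hq₀
  have hfix : ∀ z : Subgroup.zpowers (m : G), z • ((1 : G) : G ⧸ M) = ((1 : G) : G ⧸ M) := by
    rintro ⟨z, hz⟩
    show ((z * 1 : G) : G ⧸ M) = _
    rw [QuotientGroup.eq]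
    have : z ∈ M := (Subgroup.zpowers_le.mpr m.2) hz
    simpa using M.inv_mem this
  have hout : q₀.out = ((1 : G) : G ⧸ M) := by
    have h1 : (orbitRel (Subgroup.zpowers (m:G)) (G ⧸ M)) q₀.out ((1 : G) : G ⧸ M) := Quotient.mk_out _
    rw [orbitRel_apply] at h1
    obtain ⟨z, hz⟩ := h1
    rw [← hz]
    exact hfix z
  have hmem : q₀.out.out ∈ M := by
    have h2 : ((q₀.out.out : G) : G ⧸ M) = ((1 : G) : G ⧸ M) := by
      rw [QuotientGroup.out_eq', hout]
    rw [QuotientGroup.eq] at h2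
    simpa using h2
  rw [Finset.prod_eq_single q₀]
  · have hper : Function.minimalPeriod ((m : G) • ·) q₀.out = 1 := by
      rw [Function.minimalPeriod_eq_one_iff_isFixedPt, hout]
      exact hfix ⟨m, Subgroup.mem_zpowers _⟩
    have : (⟨q₀.out.out⁻¹ * (m : G) ^ Function.minimalPeriod ((m : G) • ·) q₀.out * q₀.out.out,
        QuotientGroup.out_conj_pow_minimalPeriod_mem M (m : G) q₀.out⟩ : M) =
        ⟨q₀.out.out, hmem⟩⁻¹ * m * ⟨q₀.out.out, hmem⟩ := by
      apply Subtype.ext
      simp [hper]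
    rw [this]
    simp
  · intro q _ hq
    refine hkey q.out.out ?_ _ ?_
    · intro hin
      apply hq
      have h3 : q.out = ((1 : G) : G ⧸ M) := by
        rw [← QuotientGroup.out_eq' q.out, QuotientGroup.eq]
        simpa using hin
      rw [← Quotient.out_eq' q, h3]
    · simp only [mul_assoc, mul_inv_cancel_left, mul_inv_cancel, mul_one]
      exact pow_mem m.2 _
  · intro h; exact absurd (Finset.mem_univ _) h


/-- Let G be a finite group and H ≤ M ≤ G subgroups such that for every g ∈ G the subgroup generated by H and g H g⁻¹ meets M exactly in H. If H is a maximal subgroup of M and M is a maximal subgroup of G, then the normal closure of H in G meets M exactly in H. -/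
theorem result {G : Type*} [Group G] [Finite G] (H M : Subgroup G) (hHM : H ≤ M) (hcl : ∀ g : G, (H ⊔ H.map (MulAut.conj g).toMonoidHom) ⊓ M = H) (hmaxH : IsCoatom (H.subgroupOf M)) (hmaxM : IsCoatom M) : Subgroup.normalClosure (H : Set G) ⊓ M = H := by
  classical
  set N := Subgroup.normalClosure (H : Set G) with hN
  have hHN : H ≤ N := Subgroup.le_normalClosure
  have hconj : ∀ m ∈ M, ∀ h ∈ H, m * h * m⁻¹ ∈ H := by
    intro m hm h hh
    have h1 : H.map (MulAut.conj m).toMonoidHom ≤ M := by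
      rintro _ ⟨x, hx, rfl⟩
      exact M.mul_mem (M.mul_mem hm (hHM hx)) (M.inv_mem hm)
    have h2 := hcl m
    rw [inf_eq_left.mpr (sup_le hHM h1)] at h2
    exact h2 ▸ (le_sup_right : H.map (MulAut.conj m).toMonoidHom ≤ _) ⟨h, hh, rfl⟩
  have hHlt : H < M := lt_of_le_of_ne hHM fun e => hmaxH.1 (by rw [e, Subgroup.subgroupOf_self])
  have hbetween : ∀ K : Subgroup G, H < K → K ≤ M → K = M := by
    intro K hK hKM
    have h1 : H.subgroupOf M < K.subgroupOf M := by
      refine lt_of_le_of_ne (fun x hx => hK.le hx) fun e => hK.ne ?_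
      have := congrArg (Subgroup.map M.subtype) e
      simpa [Subgroup.subgroupOf_map_subtype, inf_eq_left.mpr hHM, inf_eq_left.mpr hKM] using this
    exact le_antisymm hKM (Subgroup.subgroupOf_eq_top.mp (hmaxH.2 _ h1))
  have hle : M ≤ Subgroup.normalizer (H : Set G) := by
    intro m hm
    rw [Subgroup.mem_normalizer_iff]
    refine fun h => ⟨hconj m hm h, fun hh => ?_⟩
    have := hconj m⁻¹ (M.inv_mem hm) _ hh
    simpa [mul_assoc] using this
  by_cases hnorm : Subgroup.normalizer (H : Set G) = ⊤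
  · have : H.Normal := Subgroup.normalizer_eq_top_iff.mp hnorm
    rw [hN, Subgroup.normalClosure_eq_self]
    exact inf_eq_left.mpr hHM
  have hNH : Subgroup.normalizer (H : Set G) = M := by
    by_contra hne
    exact hnorm (hmaxM.2 _ (lt_of_le_of_ne hle (Ne.symm hne)))
  by_contra hgoal
  have hint : ∀ g : G, g ∉ M → ∀ x ∈ M, g * x * g⁻¹ ∈ M → x ∈ H := by
    intro g hg x hx hgx
    by_contra hxH
    set X := H ⊔ H.map (MulAut.conj g⁻¹).toMonoidHom with hX
    have hXM := hcl g⁻¹
    have hHX : H ≤ X := le_sup_left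
    have hxn : x ∈ Subgroup.normalizer (X : Set G) := by
      have key : ∀ y ∈ M, g * y * g⁻¹ ∈ M → ∀ z ∈ X, y * z * y⁻¹ ∈ X := by
        intro y hy hgy z hz
        have : X ≤ X.comap (MulAut.conj y).toMonoidHom := by
          refine sup_le (fun h hh => hHX (hconj y hy h hh)) ?_
          rintro _ ⟨h, hh, rfl⟩
          refine (le_sup_right : _ ≤ X) ⟨(g * y * g⁻¹) * h * (g * y * g⁻¹)⁻¹, hconj _ hgy h hh, ?_⟩
          simp [mul_assoc]
        exact this hz
      rw [Subgroup.mem_normalizer_iff]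
      refine fun z => ⟨key x hx hgx z, fun hz => ?_⟩
      have := key x⁻¹ (M.inv_mem hx) (by simpa [mul_assoc] using M.inv_mem hgx) _ hz
      simpa [mul_assoc] using this
    have hMX : M ≤ Subgroup.normalizer (X : Set G) := by
      have h1 : H < H ⊔ Subgroup.zpowers x :=
        lt_of_le_of_ne le_sup_left fun e => hxH (e ▸ (le_sup_right : Subgroup.zpowers x ≤ _) (Subgroup.mem_zpowers x))
      rw [← hbetween _ h1 (sup_le hHM (Subgroup.zpowers_le.mpr hx))]
      exact sup_le (hHX.trans Subgroup.le_normalizer) (Subgroup.zpowers_le.mpr hxn)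
    by_cases hXn : Subgroup.normalizer (X : Set G) = ⊤
    · have : X.Normal := Subgroup.normalizer_eq_top_iff.mp hXn
      apply hgoal
      have : N ≤ X := Subgroup.normalClosure_le_normal hHX
      exact le_antisymm ((inf_le_inf_right M this).trans hXM.le) (le_inf hHN hHM)
    · have hXeq : M = Subgroup.normalizer (X : Set G) := by
        by_contra hne
        exact hXn (hmaxM.2 _ (lt_of_le_of_ne hMX hne))
      have hXle : X ≤ M := hXeq ▸ Subgroup.le_normalizer
      rw [inf_eq_left.mpr hXle] at hXM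
      have hmap : H.map (MulAut.conj g⁻¹).toMonoidHom ≤ H := (le_sup_right : _ ≤ X).trans hXM.le
      have heq : H.map (MulAut.conj g⁻¹).toMonoidHom = H :=
        Subgroup.eq_of_le_of_card_ge hmap
          (Subgroup.card_map_of_injective (MulAut.conj g⁻¹).injective).ge
      apply hg
      rw [← M.inv_mem_iff, ← hNH, Subgroup.mem_normalizer_iff]
      intro h
      conv_rhs => rw [← heq]
      simp [Subgroup.mem_map]
  have hnM : (H.subgroupOf M).Normal := ⟨fun h hh m => hconj m m.2 h hh⟩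
  have hcyc : IsCyclic (↥M ⧸ H.subgroupOf M) := by
    obtain ⟨x, hxM, hxH⟩ := SetLike.exists_of_lt hHlt
    refine ⟨⟨QuotientGroup.mk ⟨x, hxM⟩, fun y => ?_⟩⟩
    obtain ⟨y, rfl⟩ := QuotientGroup.mk_surjective y
    have h1 : H.subgroupOf M < H.subgroupOf M ⊔ Subgroup.zpowers (⟨x, hxM⟩ : M) :=
      lt_of_le_of_ne le_sup_left fun e => hxH (by
        have : (⟨x, hxM⟩ : M) ∈ H.subgroupOf M :=
          e ▸ (le_sup_right : Subgroup.zpowers (⟨x, hxM⟩ : M) ≤ _) (Subgroup.mem_zpowers _)
        exact this)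
    have h2 : y ∈ H.subgroupOf M ⊔ Subgroup.zpowers (⟨x, hxM⟩ : M) := by rw [hmaxH.2 _ h1]; trivial
    have h3 : H.subgroupOf M ⊔ Subgroup.zpowers (⟨x, hxM⟩ : M) ≤
        (Subgroup.zpowers (QuotientGroup.mk ⟨x, hxM⟩ : ↥M ⧸ H.subgroupOf M)).comap (QuotientGroup.mk' _) := by
      refine sup_le (fun z hz => ?_) (Subgroup.zpowers_le.mpr (Subgroup.mem_zpowers _))
      have : (QuotientGroup.mk z : ↥M ⧸ H.subgroupOf M) = 1 := (QuotientGroup.eq_one_iff z).mpr hz
      show (QuotientGroup.mk z : ↥M ⧸ H.subgroupOf M) ∈ Subgroup.zpowers _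
      rw [this]; exact one_mem _
    exact Subgroup.mem_zpowers_iff.mp (h3 h2)
  letI : CommGroup (↥M ⧸ H.subgroupOf M) := hcyc.commGroup
  obtain ⟨V, hV⟩ := exists_hom_extending M (QuotientGroup.mk' (H.subgroupOf M))
    (fun g hg y hy => (QuotientGroup.eq_one_iff y).mpr (hint g hg y y.2 hy))
  apply hgoal
  refine le_antisymm ?_ (le_inf hHN hHM)
  rintro x ⟨hxN, hxM⟩
  have hker : N ≤ V.ker := by
    refine Subgroup.normalClosure_le_normal fun h hh => ?_
    show V h = 1
    rw [show h = ((⟨h, hHM hh⟩ : M) : G) from rfl, hV]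
    exact (QuotientGroup.eq_one_iff _).mpr hh
  have h4 : V ((⟨x, hxM⟩ : M) : G) = 1 := hker hxN
  rw [hV] at h4
  exact (QuotientGroup.eq_one_iff (⟨x, hxM⟩ : M)).mp h4

end Cfsg.Agent.S3014
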