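import Cfsg.Statements.S3015
import Cfsg.Agent.S3014
import Mathlib.GroupTheory.Transfer
import Mathlib.GroupTheory.Nilpotent
import Mathlib.GroupTheory.Perm.Cycle.Type

set_option autoImplicit false
open Cfsg

namespace Cfsg.Agent.S3015

/-- Let G be a finite non-abelian simple group, M a maximal subgroup of G and H a normal subgroup of M of prime index in M. Then G is generated by H together with one of its conjugates. -/
theorem result {G : Type*} [Group G] [Finite G] [IsSimpleGroup G] (hG : ¬ IsMulCommutative G) (M H : Subgroup G) (hmaxM : IsCoatom M) (hHM : H ≤ M) (hHn : (H.subgroupOf M).Normal) (hidx : (H.relIndex M).Prime) : ∃ g : G, H ⊔ H.map (MulAut.conj g).toMonoidHom = ⊤ := by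
  classical
  by_contra hcon
  simp only [not_exists] at hcon
  have hHne : H ≠ M := by
    intro e
    rw [e, Subgroup.relIndex_self] at hidx
    exact Nat.not_prime_one hidx
  have hHlt : H < M := lt_of_le_of_ne hHM hHne
  have hMne : M ≠ ⊤ := hmaxM.1
  have hMbot : M ≠ ⊥ := fun e => by subst e; exact not_lt_bot hHlt
  have hNM : Subgroup.normalizer (M : Set G) = M := by
    by_contra hne
    have h1 : Subgroup.normalizer (M : Set G) = ⊤ := hmaxM.2 _ (lt_of_le_of_ne Subgroup.le_normalizer (Ne.symm hne))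
    have : M.Normal := Subgroup.normalizer_eq_top_iff.mp h1
    exact (IsSimpleGroup.eq_bot_or_eq_top_of_normal M this).elim hMbot hMne
  set p := H.relIndex M with hp
  have : Fact p.Prime := ⟨hidx⟩
  have hle : M ≤ Subgroup.normalizer (H : Set G) := Subgroup.le_normalizer_of_normal_subgroupOf hHM
  have hcoatom : IsCoatom (H.subgroupOf M) := by
    refine ⟨fun e => hHne (le_antisymm hHM (Subgroup.subgroupOf_eq_top.mp e)), fun K hK => ?_⟩
    have hd : K.index ∣ (H.subgroupOf M).index := Subgroup.index_dvd_of_le hK.le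
    rcases hidx.eq_one_or_self_of_dvd _ hd with h | h
    · exact Subgroup.index_eq_one.mp h
    · exact absurd h (Subgroup.index_strictAnti hK).ne
  by_cases hHbot : H = ⊥
  · subst hHbot
    have hcard : Nat.card M = p := (Subgroup.relIndex_bot_left M).symm
    have hMp : IsPGroup p M := IsPGroup.of_card (n := 1) (by rw [hcard, pow_one])
    obtain ⟨P, hP⟩ := hMp.exists_le_sylow
    have hPM : (P : Subgroup G) = M := by
      by_contra hne
      have : Group.IsNilpotent (P : Subgroup G) := P.isPGroup'.isNilpotent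
      have hc : NormalizerCondition (P : Subgroup G) := Group.normalizerCondition_of_isNilpotent
      have hlt : M.subgroupOf (P : Subgroup G) < ⊤ :=
        lt_top_iff_ne_top.mpr fun e => hne (le_antisymm (Subgroup.subgroupOf_eq_top.mp e) hP)
      have h2 := hc _ hlt
      obtain ⟨x, hx1, hx2⟩ := SetLike.exists_of_lt h2
      apply hx2
      show (x : G) ∈ M
      rw [← hNM, Subgroup.mem_normalizer_iff]
      intro h
      rw [Subgroup.mem_normalizer_iff] at hx1
      constructor
      · intro hh
        exact (hx1 ⟨h, hP hh⟩).mp hh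
      · intro hh
        have hmem : h ∈ (P : Subgroup G) := by
          have := (P : Subgroup G).mul_mem ((P : Subgroup G).mul_mem ((P : Subgroup G).inv_mem x.2) (hP hh)) x.2
          simpa [mul_assoc] using this
        exact (hx1 ⟨h, hmem⟩).mpr hh
    have hMcomm : M ≤ Subgroup.centralizer (M : Set G) := by
      have : IsCyclic M := isCyclic_of_prime_card hcard
      intro a ha b hb
      exact congrArg Subtype.val ((IsCyclic.isMulCommutative (α := ↥M)).is_comm.comm ⟨b, hb⟩ ⟨a, ha⟩)
    have hNC : Subgroup.normalizer ((P : Subgroup G) : Set G) ≤ Subgroup.centralizer ((P : Subgroup G) : Set G) := by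
      rw [hPM, hNM]; exact hMcomm
    have hcompl := MonoidHom.ker_transferSylow_isComplement' P hNC
    rcases IsSimpleGroup.eq_bot_or_eq_top_of_normal (MonoidHom.transferSylow P hNC).ker inferInstance with h | h
    · rw [h] at hcompl
      exact hMne (hPM ▸ Subgroup.isComplement'_bot_left.mp hcompl)
    · rw [h] at hcompl
      exact hMbot (hPM ▸ Subgroup.isComplement'_top_left.mp hcompl)
  have key : ∀ g : G, H.map (MulAut.conj g).toMonoidHom ≤ M → g ∈ M := by
    intro g hg
    by_contra hgM
    set K := H.map (MulAut.conj g).toMonoidHom with hK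
    have hidxK : (K.subgroupOf M).index = p := by
      have h1 := Subgroup.card_mul_index (K.subgroupOf M)
      have h2 := Subgroup.card_mul_index (H.subgroupOf M)
      rw [Nat.card_congr (Subgroup.subgroupOfEquivOfLe hg).toEquiv,
        Subgroup.card_map_of_injective (MulAut.conj g).injective] at h1
      rw [Nat.card_congr (Subgroup.subgroupOfEquivOfLe hHM).toEquiv] at h2
      exact Nat.eq_of_mul_eq_mul_left Nat.card_pos (h1.trans h2.symm)
    set R : Subgroup G := Subgroup.closure {x : G | x ∈ K ∧ ∃ k : ℕ, orderOf x = p ^ k} with hR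
    have hpelem : ∀ x ∈ K, (∃ k : ℕ, orderOf x = p ^ k) → ∀ m ∈ M, m⁻¹ * x * m ∈ K := by
      intro x hx ⟨k, hk⟩ m hm
      set xM : M := ⟨x, hg hx⟩ with hxM
      have hZ : IsPGroup p (Subgroup.zpowers xM) := by
        refine IsPGroup.of_card (n := k) ?_
        rw [Nat.card_zpowers, ← hk]
        exact (orderOf_injective M.subtype M.subtype_injective xM).symm
      have hmod := hZ.card_modEq_card_fixedPoints (↥M ⧸ K.subgroupOf M)
      rw [← Subgroup.index_eq_card, hidxK] at hmod
      set F := MulAction.fixedPoints (Subgroup.zpowers xM) (↥M ⧸ K.subgroupOf M) with hF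
      have h1F : ((1 : M) : ↥M ⧸ K.subgroupOf M) ∈ F := by
        rintro ⟨z, hz⟩
        show ((z * 1 : M) : ↥M ⧸ K.subgroupOf M) = _
        rw [QuotientGroup.eq]
        have hxK : xM ∈ K.subgroupOf M := hx
        have : z ∈ K.subgroupOf M := (Subgroup.zpowers_le.mpr hxK) hz
        simpa using inv_mem this
      have hFpos : 0 < Nat.card F := Nat.card_pos_iff.mpr ⟨⟨⟨_, h1F⟩⟩, inferInstance⟩
      have hFdvd : p ∣ Nat.card F := (Nat.modEq_zero_iff_dvd).mp (hmod.symm.trans (Nat.modEq_zero_iff_dvd.mpr dvd_rfl))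
      have hFle : Nat.card F ≤ p := by
        rw [← hidxK, Subgroup.index_eq_card]
        exact Finite.card_subtype_le (fun q => q ∈ F)
      have hFuniv : F = Set.univ := by
        refine Set.eq_of_subset_of_ncard_le (Set.subset_univ _) ?_
        rw [Set.ncard_univ, ← Subgroup.index_eq_card, hidxK, ← Nat.card_coe_set_eq]
        exact Nat.le_of_dvd hFpos hFdvd
      have h2 : ((⟨m, hm⟩ : M) : ↥M ⧸ K.subgroupOf M) ∈ F := hFuniv ▸ Set.mem_univ _
      have h3 := h2 ⟨xM, Subgroup.mem_zpowers _⟩
      have h4 : ((xM * ⟨m, hm⟩ : M) : ↥M ⧸ K.subgroupOf M) = ((⟨m, hm⟩ : M) : ↥M ⧸ K.subgroupOf M) := h3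
      rw [QuotientGroup.eq, Subgroup.mem_subgroupOf] at h4
      have h5 : (m⁻¹ * x⁻¹ * m) ∈ K := by simpa [hxM] using h4
      simpa [mul_assoc] using K.inv_mem h5
    have hgen : ∀ n : G, (∀ x ∈ K, (∃ k : ℕ, orderOf x = p ^ k) → n * x * n⁻¹ ∈ K) → R ≤ R.comap (MulAut.conj n).toMonoidHom := by
      intro n hn
      rw [hR, Subgroup.closure_le]
      rintro x ⟨hx, k, hk⟩
      refine Subgroup.subset_closure ⟨hn x hx ⟨k, hk⟩, k, ?_⟩
      rw [← hk]; exact (MulAut.conj n).orderOf_eq x
    have hnorm : ∀ n : G, (∀ x ∈ K, (∃ k : ℕ, orderOf x = p ^ k) → n * x * n⁻¹ ∈ K) → (∀ x ∈ K, (∃ k : ℕ, orderOf x = p ^ k) → n⁻¹ * x * n ∈ K) → n ∈ Subgroup.normalizer (R : Set G) := by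
      intro n h1 h2
      rw [Subgroup.mem_normalizer_iff]
      refine fun z => ⟨fun hz => hgen n h1 hz, fun hz => ?_⟩
      have := hgen n⁻¹ (by simpa using h2) hz
      simpa [mul_assoc] using this
    have hM1 : M ≤ Subgroup.normalizer (R : Set G) := fun m hm => hnorm m
      (fun x hx hk => by simpa using hpelem x hx hk m⁻¹ (M.inv_mem hm))
      (fun x hx hk => hpelem x hx hk m hm)
    have hMg : M.map (MulAut.conj g).toMonoidHom ≤ Subgroup.normalizer (R : Set G) := by
      rintro _ ⟨m, hm, rfl⟩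
      have hKn : ∀ m ∈ M, ∀ x ∈ K, (g * m * g⁻¹) * x * (g * m * g⁻¹)⁻¹ ∈ K := by
        rintro m hm _ ⟨h, hh, rfl⟩
        refine ⟨m * h * m⁻¹, (Subgroup.mem_normalizer_iff.mp (hle hm) h).mp hh, ?_⟩
        simp [mul_assoc]
      refine hnorm _ (fun x hx _ => by simpa using hKn m hm x hx) (fun x hx _ => ?_)
      simpa [mul_assoc] using hKn m⁻¹ (M.inv_mem hm) x hx
    have hMgne : M.map (MulAut.conj g).toMonoidHom ≠ M := fun e => hgM (by
      rw [← hNM, Subgroup.mem_normalizer_iff]
      intro h
      conv_rhs => rw [← e]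
      simp [Subgroup.mem_map])
    have hRtop : Subgroup.normalizer (R : Set G) = ⊤ := by
      by_contra hne
      have h1 : Subgroup.normalizer (R : Set G) = M := by
        by_contra h2
        exact hne (hmaxM.2 _ (lt_of_le_of_ne hM1 (Ne.symm h2)))
      exact hMgne (Subgroup.eq_of_le_of_card_ge (h1 ▸ hMg) (Subgroup.card_map_of_injective (MulAut.conj g).injective).ge)
    have hRle : R ≤ K := (Subgroup.closure_le K).mpr fun x hx => hx.1
    have hRbot : R = ⊥ := by
      refine (IsSimpleGroup.eq_bot_or_eq_top_of_normal R (Subgroup.normalizer_eq_top_iff.mp hRtop)).resolve_right fun e => ?_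
      exact hMne (top_le_iff.mp (e ▸ (hRle.trans hg)))
    have hndvd : ¬ p ∣ Nat.card K := by
      intro hd
      obtain ⟨x, hx⟩ := exists_prime_orderOf_dvd_card' p hd
      have h1 : (x : G) ∈ R := Subgroup.subset_closure ⟨x.2, 1, by rw [Subgroup.orderOf_coe, hx, pow_one]⟩
      rw [hRbot, Subgroup.mem_bot] at h1
      have : x = 1 := Subtype.ext h1
      rw [this, orderOf_one] at hx
      exact hidx.ne_one hx.symm
    have hKH : K ≤ H := by
      intro x hx
      have h0 : (QuotientGroup.mk ⟨x, hg hx⟩ : ↥M ⧸ H.subgroupOf M) ^ p = 1 := by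
        rw [hp, Subgroup.relIndex, Subgroup.index_eq_card]
        exact pow_card_eq_one'
      have h1 : orderOf (QuotientGroup.mk ⟨x, hg hx⟩ : ↥M ⧸ H.subgroupOf M) ∣ Nat.card K := by
        refine (orderOf_map_dvd (QuotientGroup.mk' (H.subgroupOf M)) ⟨x, hg hx⟩).trans ?_
        rw [← orderOf_injective M.subtype M.subtype_injective ⟨x, hg hx⟩]
        exact K.orderOf_dvd_natCard hx
      have h2 : orderOf (QuotientGroup.mk ⟨x, hg hx⟩ : ↥M ⧸ H.subgroupOf M) = 1 :=
        ((Nat.dvd_prime hidx).mp (orderOf_dvd_of_pow_eq_one h0)).resolve_right fun e => hndvd (e ▸ h1)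
      exact (QuotientGroup.eq_one_iff (⟨x, hg hx⟩ : M)).mp (orderOf_eq_one_iff.mp h2)
    have heq : K = H := Subgroup.eq_of_le_of_card_ge hKH (Subgroup.card_map_of_injective (MulAut.conj g).injective).ge
    have hNH : Subgroup.normalizer (H : Set G) = M := by
      by_contra hne
      have h1 : Subgroup.normalizer (H : Set G) = ⊤ := hmaxM.2 _ (lt_of_le_of_ne hle (Ne.symm hne))
      exact (IsSimpleGroup.eq_bot_or_eq_top_of_normal H (Subgroup.normalizer_eq_top_iff.mp h1)).elim hHbot
        (fun e => hMne (top_le_iff.mp (e ▸ hHM)))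
    apply hgM
    rw [← hNH, Subgroup.mem_normalizer_iff]
    intro h
    conv_rhs => rw [← heq]
    simp [hK, Subgroup.mem_map]
  have hcl : ∀ g : G, (H ⊔ H.map (MulAut.conj g).toMonoidHom) ⊓ M = H := by
    intro g
    set X := H ⊔ H.map (MulAut.conj g).toMonoidHom with hX
    have hHX : H ≤ X ⊓ M := le_inf le_sup_left hHM
    by_contra hne
    have h1 : H.subgroupOf M < (X ⊓ M).subgroupOf M := by
      refine lt_of_le_of_ne (fun x hx => hHX hx) fun e => hne ?_
      have h2 := congrArg (Subgroup.map M.subtype) e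
      simp only [Subgroup.subgroupOf_map_subtype, inf_assoc, inf_idem] at h2
      rw [← h2]; exact inf_eq_left.mpr hHM
    have h3 : M ≤ X := fun x hx => ((Subgroup.subgroupOf_eq_top.mp (hcoatom.2 _ h1)) hx).1
    have h4 : X = M := by
      by_contra hXM
      exact hcon g (hmaxM.2 _ (lt_of_le_of_ne h3 (Ne.symm hXM)))
    have hgM : g ∈ M := key g (h4 ▸ (le_sup_right : _ ≤ X))
    have h5 : H.map (MulAut.conj g).toMonoidHom ≤ H := by
      rintro _ ⟨h, hh, rfl⟩
      exact (Subgroup.mem_normalizer_iff.mp (hle hgM) h).mp hh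
    have h6 : X = H := sup_eq_left.mpr h5
    exact hHne (h6.symm.trans h4)
  have h := Cfsg.Agent.S3014.result H M hHM hcl hcoatom hmaxM
  rcases IsSimpleGroup.eq_bot_or_eq_top_of_normal (Subgroup.normalClosure (H : Set G)) inferInstance with h1 | h1
  · exact hHbot (le_bot_iff.mp (h1 ▸ Subgroup.le_normalClosure))
  · rw [h1, top_inf_eq] at h
    exact hHne h.symm

end Cfsg.Agent.S3015
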