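import Cfsg.Statements.S3020
import Cfsg.Agent.Fusion.PComplement
import Cfsg.Agent.Fusion.Alperin

set_option autoImplicit false
open Cfsg

namespace Cfsg.Agent.S3020

/-- Let G be a finite group, p a prime and H an abelian p-subgroup of G that is extremely closed (for every g, the subgroup generated by H and g H g⁻¹ meets N_G(H) exactly in H). Then for every g ∈ G, the subgroup T generated by H and g H g⁻¹ is the product of H with O_{p'}(T), and H meets O_{p'}(T) trivially; that is, O_{p'}(T) is a normal p-complement of H in T. -/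
theorem result {G : Type*} [Group G] [Finite G] {p : ℕ} [Fact p.Prime] (H : Subgroup G) (hHp : IsPGroup p H) (hHab : IsMulCommutative H) (hcl : Cfsg.IsExtremelyClosed H) (g : G) (T : Subgroup G) (hT : T = H ⊔ H.map (MulAut.conj g).toMonoidHom) : H ⊔ (Cfsg.pPrimeCore p ↥T).map T.subtype = T ∧ H ⊓ (Cfsg.pPrimeCore p ↥T).map T.subtype = ⊥ := by
  have hp := (Fact.out : p.Prime)
  have hHT : H ≤ T := hT ▸ le_sup_left
  set H' := H.subgroupOf T with hH'
  have hH'p : IsPGroup p H' := hHp.of_equiv (Subgroup.subgroupOfEquivOfLe hHT).symm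
  have hnorm : Subgroup.normalizer (H' : Set T) ≤ H' := by
    intro t ht
    have h1 : (t : G) ∈ Subgroup.normalizer (H : Set G) := by
      have h2 := Subgroup.le_normalizer_map T.subtype ⟨t, ht, rfl⟩
      rwa [hH', Subgroup.subgroupOf_map_subtype, inf_eq_left.mpr hHT] at h2
    have h3 : (t : G) ∈ (H ⊔ H.map (MulAut.conj g).toMonoidHom) ⊓ Subgroup.normalizer (H : Set G) :=
      ⟨hT ▸ t.2, h1⟩
    rw [hcl g] at h3
    exact h3
  obtain ⟨P, hP⟩ := hH'p.exists_le_sylow
  have hPeq : (P : Subgroup T) = H' := by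
    by_contra hne
    have hlt : H' < (P : Subgroup T) := lt_of_le_of_ne hP (Ne.symm hne)
    obtain ⟨x, ⟨hxP, hxN⟩, hx⟩ := SetLike.exists_of_lt (Fusion.ofSubgroupInfLt (P : Subgroup T) P.isPGroup' hlt)
    exact hx (hnorm hxN)
  have hPN : Subgroup.normalizer ((P : Subgroup T) : Set T) ≤ Subgroup.centralizer ((P : Subgroup T) : Set T) := by
    rw [hPeq]
    intro t ht y hy
    apply Subtype.ext
    exact (congrArg Subtype.val (hHab.is_comm.comm ⟨(y : G), hy⟩ ⟨(t : G), hnorm ht⟩) : (y : G) * (t : G) = (t : G) * (y : G))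
  have hnil := Fusion.hasNormalPComplement_of_normalizer_le_centralizer P hPN
  have hL : ¬ p ∣ Nat.card (Cfsg.pResidual p T) := Fusion.hasNormalPComplement_iff_pResidual.mp hnil
  have hcore : Cfsg.pPrimeCore p T = Cfsg.pResidual p T := by
    refine le_antisymm (sSup_le ?_) (le_sSup ⟨inferInstance, (hp.coprime_iff_not_dvd.mpr hL).symm⟩)
    rintro N ⟨-, hN⟩ x hx
    exact Fusion.mem_pResidual (hN.coprime_dvd_left (N.orderOf_dvd_natCard hx))
  have hc := Fusion.isComplement'_pResidual hnil P
  rw [hPeq] at hc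
  have hmapH : H'.map T.subtype = H := by rw [hH', Subgroup.subgroupOf_map_subtype, inf_eq_left.mpr hHT]
  constructor
  · conv_lhs => rw [← hmapH]
    rw [hcore, ← Subgroup.map_sup, sup_comm, hc.sup_eq_top, ← MonoidHom.range_eq_map, Subgroup.range_subtype]
  · conv_lhs => rw [← hmapH]
    rw [hcore, ← Subgroup.map_inf _ _ _ T.subtype_injective, inf_comm, hc.disjoint.eq_bot, Subgroup.map_bot]

end Cfsg.Agent.S3020
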