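import Cfsg.Statements.S3023
import Cfsg.Agent.Components.Parabolic
import Cfsg.Agent.S0542

set_option autoImplicit false
open Cfsg

namespace Cfsg.Agent.S3023

/-- Let p be a prime, G a finite group of parabolic characteristic p (every p-local subgroup containing a Sylow p-subgroup of G has characteristic p), S a Sylow p-subgroup of G and G₁ a subnormal subgroup of G. If the centre of S ∩ G₁ is nontrivial and contained in the centre of S, then G₁ has parabolic characteristic p. -/
theorem result {G : Type*} [Group G] [Finite G] {p : ℕ} [Fact p.Prime] (hG : Cfsg.IsOfParabolicCharacteristic p G) (S : Sylow p G) (G₁ : Subgroup G) (hsn : G₁.IsSubnormal) (hne : ((S : Subgroup G) ⊓ G₁) ⊓ Subgroup.centralizer (((S : Subgroup G) ⊓ G₁ : Subgroup G) : Set G) ≠ ⊥) (hle : ((S : Subgroup G) ⊓ G₁) ⊓ Subgroup.centralizer (((S : Subgroup G) ⊓ G₁ : Subgroup G) : Set G) ≤ (S : Subgroup G) ⊓ Subgroup.centralizer ((S : Subgroup G) : Set G)) : Cfsg.IsOfParabolicCharacteristic p ↥G₁ := by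
  obtain ⟨T, hT⟩ := S0542.result p G₁ hsn S
  rw [Components.isOfParabolicCharacteristic_iff T]
  intro z hz1 hz
  set Z₀ := Cfsg.omegaOne p ((S : Subgroup G) ⊓ Subgroup.centralizer ((S : Subgroup G) : Set G))
  have hzG : (z : G) ∈ Z₀ := by
    refine (show Cfsg.omegaOne p ((T : Subgroup G₁) ⊓ Subgroup.centralizer ((T : Subgroup G₁) : Set G₁)) ≤ Z₀.comap G₁.subtype from ?_) hz
    refine (Subgroup.closure_le _).mpr ?_
    rintro a ⟨⟨haT, haC⟩, hap⟩
    refine Subgroup.subset_closure ⟨hle ⟨⟨?_, a.2⟩, ?_⟩, congrArg Subtype.val hap⟩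
    · rw [hT] at haT; exact haT
    · refine Subgroup.mem_centralizer_iff.mpr fun b hb => ?_
      exact congrArg Subtype.val (Subgroup.mem_centralizer_iff.mp haC ⟨b, hb.2⟩ (by rw [hT]; exact hb.1))
  have h := (Components.isOfParabolicCharacteristic_iff S).mp hG z (fun e => hz1 (Subtype.ext e)) hzG
  set C := Subgroup.centralizer ({(z : G)} : Set G)
  have hsn' : (G₁.subgroupOf C).IsSubnormal := hsn.comap C.subtype
  have e : ↥(G₁.subgroupOf C) ≃* ↥(Subgroup.centralizer ({z} : Set G₁)) :=
    { toFun := fun w => ⟨⟨((w : C) : G), w.2⟩, Subgroup.mem_centralizer_singleton_iff.mpr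
        (Subtype.ext (Subgroup.mem_centralizer_singleton_iff.mp (w : C).2))⟩
      invFun := fun w => ⟨⟨((w : G₁) : G), Subgroup.mem_centralizer_singleton_iff.mpr
        (congrArg Subtype.val (Subgroup.mem_centralizer_singleton_iff.mp w.2))⟩, (w : G₁).2⟩
      left_inv := fun _ => rfl
      right_inv := fun _ => rfl
      map_mul' := fun _ _ => rfl }
  exact (Components.genFitting_eq_pCore_congr e).mp (Components.genFitting_eq_pCore_of_isSubnormal hsn' h)

end Cfsg.Agent.S3023
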