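import Cfsg.Statements.S3025
import Cfsg.Agent.S0016
import Mathlib

set_option autoImplicit false
open Cfsg

namespace Cfsg.Agent.S3025

/-- Let F be a finite group and H a nontrivial subgroup of F that is contained in every nontrivial subgroup of F which H normalizes. Then F has a nontrivial normal subgroup N contained in every nontrivial normal subgroup of F (a unique minimal normal subgroup), N is simple, and one of the following holds: C_F(N) = 1; or H = N has prime order p, C_F(N) is cyclic of order a power of p, and F/C_F(N) is cyclic of order dividing p − 1; or H = N has order 2, N is central in F, and F is a generalized quaternion group. -/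
theorem result {F : Type*} [Group F] [Finite F] (H : Subgroup F) (hH : H ≠ ⊥)
    (hmin : ∀ R : Subgroup F, R ≠ ⊥ → H ≤ Subgroup.normalizer (R : Set F) → H ≤ R) :
    ∃ N : Subgroup F, N.Normal ∧ N ≠ ⊥ ∧ (∀ M : Subgroup F, M.Normal → M ≠ ⊥ → N ≤ M) ∧ IsSimpleGroup ↥N ∧
      (Subgroup.centralizer (N : Set F) = ⊥ ∨
       (H = N ∧ (Nat.card N).Prime ∧ IsCyclic ↥(Subgroup.centralizer (N : Set F)) ∧
          (∃ k : ℕ, 1 ≤ k ∧ Nat.card ↥(Subgroup.centralizer (N : Set F)) = Nat.card N ^ k) ∧
          (∃ g : F, Subgroup.centralizer (N : Set F) ⊔ Subgroup.zpowers g = ⊤) ∧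
          (Subgroup.centralizer (N : Set F)).index ∣ Nat.card N - 1) ∨
       (H = N ∧ Nat.card N = 2 ∧ Subgroup.centralizer (N : Set F) = ⊤ ∧
          ∃ k : ℕ, 1 ≤ k ∧ Nonempty (F ≃* QuaternionGroup (2 ^ k)))) := by
  set N := Subgroup.normalClosure (H : Set F) with hNdef
  have hNn : N.Normal := inferInstance
  have hHN : H ≤ N := Subgroup.le_normalClosure
  have hNne : N ≠ ⊥ := fun e => hH (le_bot_iff.mp (e ▸ hHN))
  have hleast : ∀ M : Subgroup F, M.Normal → M ≠ ⊥ → N ≤ M := fun M hM hM1 =>
    Subgroup.normalClosure_le_normal (hmin M hM1 (by rw [Subgroup.normalizer_eq_top_iff.mpr hM]; exact le_top))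
  have hsimple : IsSimpleGroup N := by
    have : Nontrivial N := (Subgroup.nontrivial_iff_ne_bot N).mpr hNne
    refine ⟨fun K hK => or_iff_not_imp_left.mpr fun hK1 => ?_⟩
    set K' := K.map N.subtype with hK'
    have hK'1 : K' ≠ ⊥ := fun e => hK1 ((Subgroup.map_eq_bot_iff_of_injective K N.subtype_injective).mp e)
    have hnorm : ∀ g : F, H ≤ Subgroup.normalizer (K'.map (MulAut.conj g).toMonoidHom : Set F) := by
      intro g h hh
      rw [Subgroup.mem_normalizer_iff]
      have key : ∀ h ∈ N, ∀ y ∈ K'.map (MulAut.conj g).toMonoidHom, h * y * h⁻¹ ∈ K'.map (MulAut.conj g).toMonoidHom := by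
        rintro h hh _ ⟨_, ⟨k, hk, rfl⟩, rfl⟩
        refine ⟨_, ⟨_, hK.conj_mem k hk ⟨g⁻¹ * h * g, by simpa using hNn.conj_mem h hh g⁻¹⟩, rfl⟩, ?_⟩
        simp [MulAut.conj_apply, mul_assoc]
      intro y
      refine ⟨key h (hHN hh) y, fun hy => ?_⟩
      have := key h⁻¹ (N.inv_mem (hHN hh)) _ hy
      simpa [mul_assoc] using this
    have hall : N ≤ K' := by
      rw [hNdef, Subgroup.normalClosure, Subgroup.closure_le]
      intro y hy
      simp only [Group.mem_conjugatesOfSet_iff, isConj_iff] at hy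
      obtain ⟨a, ha, g, rfl⟩ := hy
      obtain ⟨k, hk, hka⟩ := hmin (K'.map (MulAut.conj g⁻¹).toMonoidHom)
        (fun e => hK'1 ((Subgroup.map_eq_bot_iff_of_injective K' (MulAut.conj g⁻¹).injective).mp e)) (hnorm _) ha
      have : g⁻¹ * k * g⁻¹⁻¹ = a := hka
      rw [← this]
      simpa [mul_assoc] using hk
    rw [eq_top_iff]
    intro x _
    obtain ⟨k, hk, hkx⟩ := hall x.2
    exact (Subtype.ext hkx : k = x) ▸ hk
  refine ⟨N, hNn, hNne, hleast, hsimple, ?_⟩
  set C := Subgroup.centralizer (N : Set F) with hC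
  by_cases hC1 : C = ⊥
  · exact Or.inl hC1
  right
  have hCn : C.Normal := inferInstance
  have hNC : N ≤ C := hleast C hCn hC1
  have hcomm : ∀ a b : N, Commute a b := fun a b => Subtype.ext (Subgroup.mem_centralizer_iff.mp (hNC b.2) a a.2)
  letI : CommGroup N := { (inferInstance : Group N) with mul_comm := hcomm }
  have hprime : (Nat.card N).Prime := IsSimpleGroup.prime_card
  have hHeq : H = N := by
    rcases H.subgroupOf N |>.eq_bot_or_eq_top_of_prime_card (hp := ⟨hprime⟩) with h | h
    · exact absurd (le_bot_iff.mp fun x hx => by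
        have : (⟨x, hHN hx⟩ : N) ∈ H.subgroupOf N := hx
        rw [h, Subgroup.mem_bot] at this
        exact congrArg Subtype.val this) hH
    · exact le_antisymm hHN (Subgroup.subgroupOf_eq_top.mp h)
  set p := Nat.card N with hpdef
  have hpF : Fact p.Prime := ⟨hprime⟩
  have hsub : ∀ R : Subgroup F, R ≤ C → R ≠ ⊥ → N ≤ R := by
    intro R hR hR1
    rw [← hHeq]
    refine hmin R hR1 ?_
    rw [hHeq]
    intro n hn
    rw [Subgroup.mem_normalizer_iff]
    intro y
    constructor
    · intro hy
      rwa [Subgroup.mem_centralizer_iff.mp (hR hy) n hn, mul_inv_cancel_right]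
    · intro hy
      have := Subgroup.mem_centralizer_iff.mp (hR hy) n⁻¹ (N.inv_mem hn)
      have e : y = n * y * n⁻¹ := by
        calc y = n⁻¹ * (n * y * n⁻¹) * n := by group
          _ = n * y * n⁻¹ := by rw [this]; group
      rw [e]; exact hy
  have hCp : IsPGroup p C := by
    rw [IsPGroup.iff_card]
    refine ⟨_, Nat.eq_prime_pow_of_unique_prime_dvd Nat.card_pos.ne' ?_⟩
    intro q hq hqd
    have := Fact.mk hq
    obtain ⟨a, ha⟩ := exists_prime_orderOf_dvd_card' (G := C) q hqd
    rw [← Subgroup.orderOf_coe] at ha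
    have h1 := Subgroup.card_dvd_of_le (hsub (Subgroup.zpowers (a : F)) (Subgroup.zpowers_le.mpr a.2) fun e => by
      rw [Subgroup.zpowers_eq_bot] at e
      rw [e, orderOf_one] at ha
      exact hq.ne_one ha.symm)
    rw [Nat.card_zpowers, ha] at h1
    exact ((Nat.prime_dvd_prime_iff_eq hprime hq).mp h1).symm
  have huniq : ∀ A B : Subgroup C, Nat.card A = p → Nat.card B = p → A = B := by
    have key : ∀ A : Subgroup C, Nat.card A = p → A.map C.subtype = N := by
      intro A hA
      refine (Subgroup.eq_of_le_of_card_ge (hsub _ (Subgroup.map_subtype_le A) fun e => ?_) ?_).symm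
      · rw [Subgroup.map_eq_bot_iff_of_injective A C.subtype_injective] at e
        rw [e, Subgroup.card_bot] at hA
        exact hprime.ne_one hA.symm
      · rw [Subgroup.card_map_of_injective C.subtype_injective, hA]
    exact fun A B hA hB => Subgroup.map_injective C.subtype_injective ((key A hA).trans (key B hB).symm)
  let θ : F →* MulAut N := MulAut.conjNormal
  have hker : θ.ker = C := by
    ext g
    rw [MonoidHom.mem_ker, hC, Subgroup.mem_centralizer_iff]
    constructor
    · intro h n hn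
      have h2 : g * n * g⁻¹ = n := congrArg (fun a : MulAut N => ((a ⟨n, hn⟩ : N) : F)) h
      rw [mul_inv_eq_iff_eq_mul] at h2
      exact h2.symm
    · intro h
      ext n
      show g * (n : F) * g⁻¹ = n
      rw [← h n n.2, mul_inv_cancel_right]
  have hcycN : IsCyclic N := isCyclic_of_prime_card (p := p) rfl
  have hautcard : Nat.card (MulAut N) = p - 1 := by rw [IsCyclic.card_mulAut, Nat.totient_prime hprime]
  have hautcyc : IsCyclic (MulAut N) := by
    have : IsCyclic (ZMod p)ˣ := ZMod.isCyclic_units_prime hprime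
    exact isCyclic_of_surjective (IsCyclic.mulAutMulEquiv N).symm.toMonoidHom (IsCyclic.mulAutMulEquiv N).symm.surjective
  have hidx : C.index ∣ p - 1 := by
    rw [← hker, Subgroup.index_ker, ← hautcard]
    exact Subgroup.card_subgroup_dvd_card _
  obtain ⟨k, hk⟩ := IsPGroup.iff_card.mp hCp
  have hk1 : 1 ≤ k := by
    have h1 := Subgroup.card_le_of_le hNC
    rw [hk] at h1
    rcases Nat.eq_zero_or_pos k with rfl | h0
    · rw [pow_zero] at h1; exact absurd h1 (not_le.mpr hprime.one_lt)
    · exact h0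
  by_cases hcyc : IsCyclic C
  · refine Or.inl ⟨hHeq, hprime, hcyc, ⟨k, hk1, hk⟩, ?_, hidx⟩
    have : IsCyclic θ.range := Subgroup.isCyclic _
    obtain ⟨⟨_, g, rfl⟩, hg⟩ := this.exists_generator
    refine ⟨g, eq_top_iff.mpr fun x _ => ?_⟩
    obtain ⟨m, hm⟩ := Subgroup.mem_zpowers_iff.mp (hg ⟨θ x, x, rfl⟩)
    have h1 : x * (g ^ m)⁻¹ ∈ C := by
      rw [← hker, MonoidHom.mem_ker, map_mul, map_inv, map_zpow]
      have : θ g ^ m = θ x := congrArg Subtype.val hm
      rw [this, mul_inv_cancel]
    have h2 := Subgroup.mul_mem_sup h1 (Subgroup.zpow_mem (Subgroup.zpowers g) (Subgroup.mem_zpowers g) m)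
    rwa [inv_mul_cancel_right] at h2
  · obtain ⟨hp2, n, ⟨e⟩⟩ := (S0016.result p hCp huniq).resolve_left hcyc
    have hCtop : C = ⊤ := by
      rw [hp2] at hidx
      exact Subgroup.index_eq_one.mp (Nat.dvd_one.mp hidx)
    refine Or.inr ⟨hHeq, hp2, hCtop, n, ?_, ⟨(Subgroup.topEquiv.symm.trans (MulEquiv.subgroupCongr hCtop.symm)).trans e⟩⟩
    rcases Nat.eq_zero_or_pos n with rfl | h0
    · exfalso
      apply hcyc
      have h4 : Nat.card (QuaternionGroup (2 ^ 0)) = 4 := by
        rw [Nat.card_eq_fintype_card, QuaternionGroup.card]; norm_num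
      have hx : orderOf (QuaternionGroup.xa (0 : ZMod (2 * 2 ^ 0))) = 4 := QuaternionGroup.orderOf_xa 0
      have := isCyclic_of_orderOf_eq_card (α := QuaternionGroup (2 ^ 0)) _ (hx.trans h4.symm)
      exact isCyclic_of_surjective e.symm.toMonoidHom e.symm.surjective
    · exact h0

end Cfsg.Agent.S3025
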