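import Cfsg.Statements.S3027
import Mathlib

set_option autoImplicit false
open Cfsg
open scoped commutatorElement

namespace Cfsg.Agent.S3027

/-- Let G be a finite group and D a normal subgroup of G such that G/D is perfect (that is, G = G′D). Then among the subnormal subgroups B of G with BD = G there is a least one, and it is normal in G. -/
theorem result {G : Type*} [Group G] [Finite G] (D : Subgroup G) [D.Normal] (hperf : ⁅(⊤ : Subgroup G), (⊤ : Subgroup G)⁆ ⊔ D = ⊤) :
    ∃ B : Subgroup G, B.Normal ∧ B ⊔ D = ⊤ ∧ ∀ B' : Subgroup G, B'.IsSubnormal → B' ⊔ D = ⊤ → B ≤ B' := by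
  let π := QuotientGroup.mk' D
  have hsurj : Function.Surjective π := QuotientGroup.mk'_surjective D
  have hiff : ∀ B : Subgroup G, B ⊔ D = ⊤ ↔ B.map π = ⊤ := by
    intro B
    constructor
    · intro h
      have := congrArg (Subgroup.map π) h
      rwa [Subgroup.map_sup, QuotientGroup.map_mk'_self, sup_bot_eq, Subgroup.map_top_of_surjective π hsurj] at this
    · intro h
      have := congrArg (Subgroup.comap π) h
      rwa [Subgroup.comap_map_eq, QuotientGroup.ker_mk', Subgroup.comap_top] at this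
  have hperf' : ⁅(⊤ : Subgroup (G ⧸ D)), (⊤ : Subgroup (G ⧸ D))⁆ = ⊤ := by
    have := (hiff _).mp hperf
    rwa [Subgroup.map_commutator, Subgroup.map_top_of_surjective π hsurj] at this
  -- intersections of mutually normalizing members stay in the family
  have hinf : ∀ X Y : Subgroup G, X ≤ Subgroup.normalizer (Y : Set G) → Y ≤ Subgroup.normalizer (X : Set G) →
      X.map π = ⊤ → Y.map π = ⊤ → (X ⊓ Y).map π = ⊤ := by
    intro X Y hXY hYX hX hY
    have e : (⁅X, Y⁆ : Subgroup G).map π = ⊤ := by rw [Subgroup.map_commutator, hX, hY, hperf']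
    rw [eq_top_iff, ← e]
    refine Subgroup.map_mono (Subgroup.commutator_le.mpr fun x hx y hy => ⟨?_, ?_⟩)
    · have h1 : y * x⁻¹ * y⁻¹ ∈ X := (Subgroup.mem_normalizer_iff.mp (hYX hy) x⁻¹).mp (X.inv_mem hx)
      rw [show ⁅x, y⁆ = x * (y * x⁻¹ * y⁻¹) by simp [commutatorElement_def, mul_assoc]]
      exact X.mul_mem hx h1
    · exact Y.mul_mem ((Subgroup.mem_normalizer_iff.mp (hXY hx) y).mp hy) (Y.inv_mem hy)
  obtain ⟨N, ⟨hNn, hN⟩, hmin⟩ :=
    (Set.toFinite {B : Subgroup G | B.Normal ∧ B ⊔ D = ⊤}).exists_minimal ⟨⊤, inferInstance, top_sup_eq _⟩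
  refine ⟨N, hNn, hN, fun B' hsn => ?_⟩
  induction hsn with
  | top => exact fun _ => le_top
  | step H K hHK hK hn ih =>
    intro hH
    have hNK : N ≤ K := ih (top_le_iff.mp (hH.ge.trans (sup_le_sup_right hHK D)))
    have hKH : K ≤ Subgroup.normalizer (H : Set G) := (Subgroup.normal_subgroupOf_iff_le_normalizer hHK).mp hn
    set X := H ⊓ N with hX
    have hNX : N ≤ Subgroup.normalizer (X : Set G) := by
      intro n hn
      rw [Subgroup.mem_normalizer_iff]
      intro y
      exact and_congr (Subgroup.mem_normalizer_iff.mp (hKH (hNK hn)) y)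
        (Subgroup.mem_normalizer_iff.mp (Subgroup.le_normalizer hn) y)
    have hXtop : X.map π = ⊤ :=
      hinf H N (by rw [Subgroup.normalizer_eq_top_iff.mpr hNn]; exact le_top) (hNK.trans hKH) ((hiff H).mp hH) ((hiff N).mp hN)
    -- the family of normal subgroups of `N` with full image contains the core
    have hconjN : ∀ g : G, N.map (MulAut.conj g).toMonoidHom = N := fun g => by
      refine Subgroup.eq_of_le_of_card_ge ?_ (Subgroup.card_map_of_injective (MulAut.conj g).injective).ge
      rintro _ ⟨x, hx, rfl⟩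
      exact hNn.conj_mem x hx g
    have hkey : ∀ s : Finset G, ((⨅ g ∈ s, X.map (MulAut.conj g).toMonoidHom) ⊓ N).map π = ⊤ ∧
        N ≤ Subgroup.normalizer (((⨅ g ∈ s, X.map (MulAut.conj g).toMonoidHom) ⊓ N : Subgroup G) : Set G) := by
      classical
      intro s
      induction s using Finset.induction with
      | empty => simp [(hiff N).mp hN, Subgroup.le_normalizer]
      | insert g s _ ihs =>
        rw [Finset.iInf_insert, inf_assoc]
        set Y := (⨅ x ∈ s, X.map (MulAut.conj x).toMonoidHom) ⊓ N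
        have hXg : X.map (MulAut.conj g).toMonoidHom ≤ N := (Subgroup.map_mono inf_le_right).trans (hconjN g).le
        have hNXg : N ≤ Subgroup.normalizer (X.map (MulAut.conj g).toMonoidHom : Set G) :=
          (hconjN g).ge.trans ((Subgroup.map_mono hNX).trans (Subgroup.le_normalizer_map _))
        refine ⟨hinf _ _ (hXg.trans ihs.2) (inf_le_right.trans hNXg) ?_ ihs.1, ?_⟩
        · rw [Subgroup.map_map, eq_top_iff, ← Subgroup.map_top_of_surjective π hsurj]
          rintro _ ⟨y, -, rfl⟩
          obtain ⟨x, hx, hxy⟩ : π (g⁻¹ * y * g) ∈ X.map π := hXtop ▸ Subgroup.mem_top _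
          refine ⟨x, hx, ?_⟩
          show π (g * x * g⁻¹) = π y
          rw [map_mul, map_mul, hxy]
          simp [mul_assoc]
        · intro n hn
          rw [Subgroup.mem_normalizer_iff]
          intro y
          exact and_congr (Subgroup.mem_normalizer_iff.mp (hNXg hn) y) (Subgroup.mem_normalizer_iff.mp (ihs.2 hn) y)
    have := Fintype.ofFinite G
    set C := (⨅ g ∈ (Finset.univ : Finset G), X.map (MulAut.conj g).toMonoidHom) ⊓ N with hC
    have hCn : C.Normal := by
      constructor
      intro c hc g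
      refine ⟨?_, hNn.conj_mem c hc.2 g⟩
      refine Subgroup.mem_iInf.mpr fun f => Subgroup.mem_iInf.mpr fun _ => ?_
      obtain ⟨x, hx, hxc⟩ := Subgroup.mem_iInf.mp (Subgroup.mem_iInf.mp hc.1 (g⁻¹ * f)) (Finset.mem_univ _)
      have hxc' : g⁻¹ * f * x * (g⁻¹ * f)⁻¹ = c := hxc
      refine ⟨x, hx, ?_⟩
      show f * x * f⁻¹ = g * c * g⁻¹
      rw [← hxc']; group
    have hle : N ≤ C := hmin ⟨hCn, (hiff C).mpr (hkey _).1⟩ inf_le_right
    intro n hn
    obtain ⟨x, hx, hxn⟩ := Subgroup.mem_iInf.mp (Subgroup.mem_iInf.mp (hle hn).1 (1 : G)) (Finset.mem_univ _)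
    have : x = n := by simpa using hxn
    exact this ▸ hx.1

end Cfsg.Agent.S3027
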