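import Cfsg.Statements.S3031
import Cfsg.Agent.H62.HSubgroups

set_option autoImplicit false
open Cfsg

namespace Cfsg.Agent.S3031

/-- Let G be a finite group, p the smallest prime dividing |G| and P a Sylow p-subgroup. Suppose that P is cyclic, or that P has a subgroup D with 1 < |D| < |P| such that every subgroup E of P of order |D|, and also every subgroup E of P of order 4 when |D| = 2, satisfies g E g⁻¹ ∩ N_G(E) ≤ E for all g ∈ G (E is strongly closed in its normalizer with respect to G). Then G has a normal p-complement. -/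
theorem result {G : Type*} [Group G] [Finite G] {p : ℕ} [Fact p.Prime] (hdiv : p ∣ Nat.card G)
    (hmin : ∀ q : ℕ, q.Prime → q ∣ Nat.card G → p ≤ q) (P : Sylow p G)
    (h : IsCyclic ↥(P : Subgroup G) ∨ ∃ D : Subgroup G, D ≤ (P : Subgroup G) ∧ 1 < Nat.card D ∧ Nat.card D < Nat.card (P : Subgroup G) ∧
      ∀ E : Subgroup G, E ≤ (P : Subgroup G) → (Nat.card E = Nat.card D ∨ (Nat.card D = 2 ∧ Nat.card E = 4)) →
        ∀ g : G, E.map (MulAut.conj g).toMonoidHom ⊓ Subgroup.normalizer (E : Set G) ≤ E) :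
    Cfsg.HasNormalPComplement p G := by
  have hp := (Fact.out : p.Prime)
  have hne : Nat.card G ≠ 1 := fun e => hp.not_dvd_one (e ▸ hdiv)
  by_cases hcyc : IsCyclic ↥(P : Subgroup G)
  · have hmf : (Nat.card G).minFac = p :=
      le_antisymm (Nat.minFac_le_of_dvd hp.two_le hdiv) (hmin _ (Nat.minFac_prime hne) (Nat.minFac_dvd _))
    exact Fusion.hasNormalPComplement_of_normalizer_le_centralizer P (IsCyclic.normalizer_le_centralizer hmf hcyc)
  obtain ⟨D, hDP, hD1, hD2, hE⟩ := h.resolve_left hcyc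
  obtain ⟨k, hk⟩ := IsPGroup.iff_card.mp (P.isPGroup'.to_le hDP)
  have hk0 : 1 ≤ k := by
    rcases Nat.eq_zero_or_pos k with rfl | h0
    · rw [hk] at hD1; simp at hD1
    · exact h0
  have hH : H62.HHyp p k (P : Subgroup G) := fun E hEP hcard => hE E hEP (by rwa [hk])
  rw [hk] at hD2
  by_cases hbig : ∀ x ∈ (P : Subgroup G), x ^ (p ^ k) = 1
  · exact H62.hasNormalPComplement_of_small hmin P hD2 hH hbig
  · simp only [not_forall] at hbig
    obtain ⟨x, hx, hxk⟩ := hbig
    exact H62.hasNormalPComplement_of_big hmin P hk0 hD2 hH hx hxk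

end Cfsg.Agent.S3031
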