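import Cfsg.Statements.S3032
import Cfsg.Agent.S3031
import Cfsg.Agent.H62.TameAction
import Cfsg.Agent.Fusion.PComplement
import Cfsg.Agent.Coprime.SchurZassenhaus

set_option autoImplicit false
open Cfsg

namespace Cfsg.Agent.S3032

theorem card_map_mk_of_disjoint {G : Type*} [Group G] {L F : Subgroup G} [L.Normal] (h : L ⊓ F = ⊥) :
    Nat.card (F.map (QuotientGroup.mk' L)) = Nat.card F := by
  rw [← Subgroup.relIndex_ker, QuotientGroup.ker_mk', ← Subgroup.inf_relIndex_right, h, Subgroup.relIndex_bot_left]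

theorem step {G : Type*} [Group G] [Finite G] (E : Subgroup G) [E.Normal]
    (h : ∀ (p : ℕ), p.Prime → ∀ P : Subgroup G, P ≤ E → IsPGroup p P → ¬ p ∣ P.relIndex E → ¬ IsCyclic ↥P →
      ∃ D : Subgroup G, D ≤ P ∧ 1 < Nat.card D ∧ Nat.card D < Nat.card P ∧
        ∀ F : Subgroup G, F ≤ P → (Nat.card F = Nat.card D ∨ (Nat.card D = 2 ∧ Nat.card F = 4)) →
          ∀ g : G, F.map (MulAut.conj g).toMonoidHom ⊓ Subgroup.normalizer (F : Set G) ≤ F)
    (K : Subgroup G) [hKn : K.Normal] (hKE : K ≤ E) (hKcop : (Nat.card K).Coprime (K.relIndex E))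
    (hQ : Cfsg.IsSupersolvable (G ⧸ K)) : Cfsg.IsSupersolvable G := by
  induction hm : Nat.card K using Nat.strong_induction_on generalizing K with
  | _ m ih =>
  subst hm
  by_cases hK1 : K = ⊥
  · subst hK1
    exact H30.isSupersolvable_congr QuotientGroup.quotientBot hQ
  set p := (Nat.card K).minFac with hp_def
  have hne : Nat.card K ≠ 1 := fun e => hK1 (Subgroup.card_eq_one.mp e)
  have hp : p.Prime := Nat.minFac_prime hne
  have hpF : Fact p.Prime := ⟨hp⟩
  have hpK : p ∣ Nat.card K := Nat.minFac_dvd _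
  let P₀ : Sylow p K := default
  set P : Subgroup G := (P₀ : Subgroup K).map K.subtype with hP_def
  have hPK : P ≤ K := Subgroup.map_subtype_le _
  have hPp : IsPGroup p P := P₀.isPGroup'.map _
  have hPrel : P.relIndex K = (P₀ : Subgroup K).index := by
    rw [Subgroup.relIndex, hP_def, Subgroup.subgroupOf,
      Subgroup.comap_map_eq_self_of_injective K.subtype_injective]
  have hPidx : ¬ p ∣ P.relIndex E := by
    rw [← Subgroup.relIndex_mul_relIndex P K E hPK hKE, hp.dvd_mul, hPrel]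
    rintro (h1 | h1)
    · exact P₀.not_dvd_index h1
    · exact hp.not_dvd_one (hKcop ▸ Nat.dvd_gcd hpK h1)
  have hPcyc : IsCyclic ↥(P₀ : Subgroup K) ↔ IsCyclic ↥P :=
    (Subgroup.equivMapOfInjective _ _ K.subtype_injective).isCyclic
  have hnil : Cfsg.HasNormalPComplement p K := by
    refine S3031.result hpK (fun q hq hqd => Nat.minFac_le_of_dvd hq.two_le hqd) P₀ ?_
    by_cases hc : IsCyclic ↥P
    · exact Or.inl (hPcyc.mpr hc)
    obtain ⟨D, hDP, hD1, hD2, hF⟩ := h p hp P (hPK.trans hKE) hPp hPidx hc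
    have hDc : Nat.card (D.subgroupOf K) = Nat.card D :=
      Nat.card_congr (Subgroup.subgroupOfEquivOfLe (hDP.trans hPK)).toEquiv
    refine Or.inr ⟨D.subgroupOf K, ?_, by rwa [hDc], ?_, ?_⟩
    · intro x hx
      obtain ⟨y, hy, hyx⟩ := hDP hx
      exact K.subtype_injective hyx ▸ hy
    · rw [hDc]
      rwa [hP_def, Subgroup.card_map_of_injective K.subtype_injective] at hD2
    · intro F hFP hFc g y hy
      have h1 := hF (F.map K.subtype) (Subgroup.map_mono hFP)
        (by rw [Subgroup.card_map_of_injective K.subtype_injective, ← hDc]; exact hFc) (g : G)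
      obtain ⟨⟨x, hx, rfl⟩, hy2⟩ := hy
      obtain ⟨z, hz, hz'⟩ := h1 (x := (((MulAut.conj g) x : K) : G))
        ⟨⟨(x : G), ⟨x, hx, rfl⟩, by simp⟩, Subgroup.le_normalizer_map K.subtype ⟨_, hy2, rfl⟩⟩
      exact (Subtype.ext hz' : z = _) ▸ hz
  set L₀ := Cfsg.pResidual p K with hL₀
  set L : Subgroup G := L₀.map K.subtype with hL_def
  have hLn : L.Normal := ConjAct.normal_of_characteristic_of_normal
  have hLK : L ≤ K := Subgroup.map_subtype_le _
  have hLp : ¬ p ∣ Nat.card L := by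
    rw [hL_def, Subgroup.card_map_of_injective K.subtype_injective]
    exact Fusion.hasNormalPComplement_iff_pResidual.mp hnil
  have hLcomp := Fusion.isComplement'_pResidual hnil P₀
  have hdisj : L ⊓ P = ⊥ := by
    rw [hL_def, hP_def, ← Subgroup.map_inf _ _ _ K.subtype_injective, hLcomp.disjoint.eq_bot, Subgroup.map_bot]
  have hsup : K ≤ L ⊔ P := by
    intro x hx
    have h1 := Subgroup.mem_map_of_mem K.subtype (show (⟨x, hx⟩ : K) ∈ L₀ ⊔ (P₀ : Subgroup K) by
      rw [hLcomp.sup_eq_top]; trivial)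
    rwa [Subgroup.map_sup] at h1
  have hLrelK : L.relIndex K = Nat.card P := by
    rw [Subgroup.relIndex, hL_def, Subgroup.subgroupOf, Subgroup.comap_map_eq_self_of_injective K.subtype_injective,
      hLcomp.symm.index_eq_card, hP_def, Subgroup.card_map_of_injective K.subtype_injective]
  have hLlt : Nat.card L < Nat.card K :=
    lt_of_le_of_ne (Subgroup.card_le_of_le hLK) fun e => hLp (e ▸ hpK)
  have hLcop : (Nat.card L).Coprime (L.relIndex E) := by
    rw [← Subgroup.relIndex_mul_relIndex L K E hLK hKE, hLrelK]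
    obtain ⟨n, hn⟩ := IsPGroup.iff_card.mp hPp
    refine Nat.Coprime.mul_right ?_ (hKcop.coprime_dvd_left (Subgroup.card_dvd_of_le hLK))
    rw [hn]
    exact ((hp.coprime_iff_not_dvd.mpr hLp).symm).pow_right n
  refine ih _ hLlt L (hLK.trans hKE) hLcop ?_ rfl
  -- the quotient by `L`
  set π := QuotientGroup.mk' L with hπ
  set N : Subgroup (G ⧸ L) := K.map π with hN_def
  have hNn : N.Normal := hKn.map _ (QuotientGroup.mk'_surjective L)
  have hNP : N = P.map π := by
    refine le_antisymm ((Subgroup.map_mono hsup).trans ?_) (Subgroup.map_mono hPK)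
    rw [Subgroup.map_sup, hπ, QuotientGroup.map_mk'_self, bot_sup_eq]
  have hNp : IsPGroup p N := hNP ▸ hPp.map π
  refine H62.supersolvable_of_tame N hNp ?_
    (H30.isSupersolvable_congr (QuotientGroup.quotientQuotientEquivQuotient L K hLK).symm hQ)
  by_cases hc : IsCyclic ↥P
  · have : IsCyclic N := by
      rw [hNP]
      exact isCyclic_of_surjective _ (π.subgroupMap_surjective P)
    exact H62.tameCentralizes_of_cyclic N hNp
  obtain ⟨D, hDP, hD1, hD2, hF⟩ := h p hp P (hPK.trans hKE) hPp hPidx hc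
  obtain ⟨k, hk⟩ := IsPGroup.iff_card.mp (hPp.to_le hDP)
  have hk0 : 1 ≤ k := by
    rcases Nat.eq_zero_or_pos k with rfl | h0
    · rw [hk] at hD1; simp at hD1
    · exact h0
  refine H62.tameCentralizes_of_hyp hNp hk0 ?_ ?_
  · rw [hNP, card_map_mk_of_disjoint hdisj, ← hk]
    exact hD2
  intro E' hE'N hE'c
  set F : Subgroup G := P ⊓ E'.comap π with hF_def
  have hFdisj : L ⊓ F = ⊥ := le_bot_iff.mp ((inf_le_inf_left L inf_le_left).trans hdisj.le)
  have hFmap : F.map π = E' := by
    refine le_antisymm ((Subgroup.map_mono inf_le_right).trans (Subgroup.map_comap_le π E')) ?_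
    intro e he
    obtain ⟨y, hy, rfl⟩ := hNP ▸ hE'N he
    exact ⟨y, ⟨hy, he⟩, rfl⟩
  have hFc : Nat.card F = Nat.card E' := by rw [← hFmap, card_map_mk_of_disjoint hFdisj]
  have hFclosed := hF F inf_le_left (by rw [hFc, hk]; exact hE'c)
  constructor
  intro e he q
  obtain ⟨g, rfl⟩ := QuotientGroup.mk'_surjective L q
  obtain ⟨y, ⟨hyP, hyE⟩, rfl⟩ := (hFmap.symm ▸ he : e ∈ F.map π)
  obtain ⟨z, hz, hzπ⟩ : π (g * y * g⁻¹) ∈ P.map π :=
    hNP ▸ Subgroup.mem_map_of_mem π (hKn.conj_mem y (hPK hyP) g)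
  have hord : ∀ w ∈ P, orderOf (π w) = orderOf w := fun w hw => by
    rw [← Nat.card_zpowers, ← Nat.card_zpowers, ← MonoidHom.map_zpowers]
    exact card_map_mk_of_disjoint
      (le_bot_iff.mp ((inf_le_inf_left L (Subgroup.zpowers_le.mpr hw)).trans hdisj.le))
  have hgyg : orderOf (g * y * g⁻¹) = orderOf y := (MulAut.conj g).orderOf_eq y
  obtain ⟨n, hn, hnc⟩ := Coprime.exists_conj_of_le_sup (N := L)
      (H₁ := Subgroup.zpowers (g * y * g⁻¹)) (H₂ := Subgroup.zpowers z)
      (by rw [Subgroup.normalizer_eq_top_iff.mpr hLn]; exact le_top)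
      (by
        rw [Subgroup.zpowers_le]
        have h1 : z * (g * y * g⁻¹)⁻¹ ∈ L := by
          rw [← QuotientGroup.ker_mk' L, MonoidHom.mem_ker, ← hπ, map_mul, map_inv, hzπ, mul_inv_cancel]
        have h2 := Subgroup.mul_mem_sup h1 (Subgroup.mem_zpowers (g * y * g⁻¹))
        rwa [inv_mul_cancel_right] at h2)
      (by
        rw [Nat.card_zpowers, Nat.card_zpowers, ← hord z hz, hzπ, map_mul, map_mul, map_inv, hgyg, ← hord y hyP]
        exact (MulAut.conj (π g)).orderOf_eq (π y))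
      (by
        rw [Nat.card_zpowers, hgyg]
        obtain ⟨j, hj⟩ := hPp ⟨y, hyP⟩
        exact Nat.Coprime.coprime_dvd_left (orderOf_dvd_of_pow_eq_one (congrArg Subtype.val hj : y ^ (p ^ j) = 1))
          ((hp.coprime_iff_not_dvd.mpr hLp).pow_left j))
      (Or.inl inferInstance)
  have hw : (n * g) * y * (n * g)⁻¹ ∈ P := by
    have h1 : MulAut.conj n (g * y * g⁻¹) ∈ Subgroup.zpowers z :=
      hnc.symm ▸ Subgroup.mem_map_of_mem _ (Subgroup.mem_zpowers _)
    have h2 := Subgroup.zpowers_le.mpr hz h1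
    rw [MulAut.conj_apply] at h2
    simpa [mul_assoc] using h2
  have hwF := H62.closed_of_hsub hPp inf_le_left hFclosed (x := y) ⟨hyP, hyE⟩ (n * g) hw
  have h3 : π ((n * g) * y * (n * g)⁻¹) ∈ E' := hwF.2
  have hn1 : π n = 1 := (QuotientGroup.eq_one_iff n).mpr hn
  rwa [map_mul, map_mul, map_inv, map_mul, hn1, one_mul] at h3

/-- Let G be a finite group and E a normal subgroup with G/E supersolvable. Suppose that for every prime p and every non-cyclic Sylow p-subgroup P of E there is a subgroup D of P with 1 < |D| < |P| such that every subgroup F of P of order |D|, and also every subgroup F of P of order 4 when |D| = 2, satisfies g F g⁻¹ ∩ N_G(F) ≤ F for all g ∈ G. Then G is supersolvable. -/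
theorem result {G : Type*} [Group G] [Finite G] (E : Subgroup G) [E.Normal] (hGE : Cfsg.IsSupersolvable (G ⧸ E))
    (h : ∀ (p : ℕ), p.Prime → ∀ P : Subgroup G, P ≤ E → IsPGroup p P → ¬ p ∣ P.relIndex E → ¬ IsCyclic ↥P →
      ∃ D : Subgroup G, D ≤ P ∧ 1 < Nat.card D ∧ Nat.card D < Nat.card P ∧
        ∀ F : Subgroup G, F ≤ P → (Nat.card F = Nat.card D ∨ (Nat.card D = 2 ∧ Nat.card F = 4)) →
          ∀ g : G, F.map (MulAut.conj g).toMonoidHom ⊓ Subgroup.normalizer (F : Set G) ≤ F) :
    Cfsg.IsSupersolvable G :=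
  step E h E le_rfl (by rw [Subgroup.relIndex_self]; exact Nat.coprime_one_right _) hGE

end Cfsg.Agent.S3032
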