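import Cfsg.Statements.S3036
import Cfsg.Agent.H62.CD

set_option autoImplicit false
open scoped Pointwise
open Cfsg

namespace Cfsg.Agent.S3036

/-- Let G be a finite non-abelian simple group and A a proper nontrivial subgroup of G. Then |G| > |A| · |C_G(A)|. In particular |G| > |A|² for every nontrivial abelian subgroup A of G. -/
theorem result {G : Type*} [Group G] [Finite G] [IsSimpleGroup G] (hG : ¬ IsMulCommutative G) (A : Subgroup G) (hA1 : A ≠ ⊥) (hA2 : A ≠ ⊤) : Nat.card A * Nat.card ↥(Subgroup.centralizer (A : Set G)) < Nat.card G := by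
  classical
  by_contra hcon
  have hle : Nat.card G ≤ H62.meas A := not_lt.mp hcon
  have hmax : Nat.card G ≤ maxCentralizerProduct G := hle.trans (H62.meas_le A)
  have hbot : H62.meas (⊥ : Subgroup G) = Nat.card G := by
    have h : H62.cc (⊥ : Subgroup G) = ⊤ := by
      refine top_le_iff.mp fun x _ y hy => ?_
      rw [SetLike.mem_coe, Subgroup.mem_bot] at hy
      subst hy; simp
    rw [H62.meas, h, Subgroup.card_top, Subgroup.card_bot, one_mul]
  have hZ : Subgroup.center G = ⊥ := by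
    refine (IsSimpleGroup.eq_bot_or_eq_top_of_normal _ inferInstance).resolve_right fun h => hG ⟨⟨fun a b => ?_⟩⟩
    exact (Subgroup.mem_center_iff.mp (h ▸ Subgroup.mem_top b : b ∈ Subgroup.center G) a)
  have htop : H62.meas (⊤ : Subgroup G) = Nat.card G := by
    have h : H62.cc (⊤ : Subgroup G) = ⊥ := by
      rw [← hZ]
      ext x
      simp [H62.cc, Subgroup.mem_centralizer_iff, Subgroup.mem_center_iff]
    rw [H62.meas, h, Subgroup.card_top, Subgroup.card_bot, mul_one]
  have hex : ∃ Q : Subgroup G, IsCentralizerLarge Q ∧ Q ≠ ⊥ ∧ Q ≠ ⊤ := by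
    obtain ⟨Q, hQ⟩ := H62.exists_large (G := G)
    by_cases hQt : Q = ⊥ ∨ Q = ⊤
    · refine ⟨A, H62.large_of_le ?_, hA1, hA2⟩
      have : maxCentralizerProduct G = Nat.card G := by
        rw [show maxCentralizerProduct G = H62.meas Q from hQ.symm]
        rcases hQt with rfl | rfl
        · exact hbot
        · exact htop
      exact this.le.trans hle
    · push_neg at hQt
      exact ⟨Q, hQ, hQt⟩
  obtain ⟨Q, ⟨hQ, hQ1, hQ2⟩, hQmax⟩ := (Set.toFinite {Q : Subgroup G | IsCentralizerLarge Q ∧ Q ≠ ⊥ ∧ Q ≠ ⊤}).exists_maximal hex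
  have hconj : ∀ g : G, ∀ q ∈ Q, g * q * g⁻¹ ∈ Q := by
    intro g q hq
    set R := Q.map (MulAut.conj g).toMonoidHom with hR
    have hccR : (H62.cc Q).map (MulAut.conj g).toMonoidHom ≤ H62.cc R := by
      rintro _ ⟨x, hx, rfl⟩ _ ⟨y, hy, rfl⟩
      show MulAut.conj g y * MulAut.conj g x = MulAut.conj g x * MulAut.conj g y
      rw [← map_mul, ← map_mul, hx y hy]
    have hRl : IsCentralizerLarge R := by
      refine H62.large_of_le ?_
      rw [show maxCentralizerProduct G = H62.meas Q from hQ.symm]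
      refine Nat.mul_le_mul (le_of_eq (Subgroup.card_map_of_injective (MulAut.conj g).injective).symm) ?_
      exact (Subgroup.card_map_of_injective (MulAut.conj g).injective).symm.le.trans (Subgroup.card_le_of_le hccR)
    obtain ⟨hJ, -, hset, -⟩ := H62.large_sup_inf hQ hRl
    by_cases hJt : Q ⊔ R = ⊤
    · have hgQ : g ∈ Q := by
        have hg : g⁻¹ ∈ (Q : Set G) * (R : Set G) := hset ▸ (show g⁻¹ ∈ ((Q ⊔ R : Subgroup G) : Set G) from hJt ▸ Subgroup.mem_top _)
        obtain ⟨a, ha, _, ⟨b, hb, rfl⟩, hab⟩ := hg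
        have h1 : a * g * b = 1 := by
          simp only [MulEquiv.coe_toMonoidHom, MulAut.conj_apply] at hab
          calc a * g * b = (a * (g * b * g⁻¹)) * g := by group
            _ = 1 := by rw [hab, inv_mul_cancel]
        have h2 : g = a⁻¹ * b⁻¹ := by
          calc g = a⁻¹ * (a * g * b) * b⁻¹ := by group
            _ = _ := by rw [h1]; group
        rw [h2]
        exact Q.mul_mem (Q.inv_mem ha) (Q.inv_mem hb)
      exact Q.mul_mem (Q.mul_mem hgQ hq) (Q.inv_mem hgQ)
    · have hle2 : Q ⊔ R ≤ Q :=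
        hQmax ⟨hJ, fun e => hQ1 (le_bot_iff.mp (e ▸ le_sup_left)), hJt⟩ le_sup_left
      exact hle2 (Subgroup.mem_sup_right ⟨q, hq, rfl⟩)
  exact (IsSimpleGroup.eq_bot_or_eq_top_of_normal Q ⟨fun q hq g => hconj g q hq⟩).elim hQ1 hQ2

end Cfsg.Agent.S3036
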