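import Cfsg.Statements.S3037
import Cfsg.Agent.H62.CD

set_option autoImplicit false
open Cfsg

namespace Cfsg.Agent.S3037

/-- Let V and G be subgroups of a finite group with V an elementary abelian p-group (p prime) on which G acts faithfully and irreducibly by conjugation: G normalizes V, G ∩ C(V) = 1, and the only subgroups of V normalized by G are 1 and V. If for some nontrivial subgroup A of G and some real α > 0 one has |V| ≤ |A|^α · |C_V(A)|, then |V| ≤ |G|^α. -/
theorem result {X : Type*} [Group X] [Finite X] {p : ℕ} [Fact p.Prime] (V G : Subgroup X) (hV : Cfsg.IsElementaryAbelian p V)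
    (hGV : G ≤ Subgroup.normalizer (V : Set X)) (hfaith : G ⊓ Subgroup.centralizer (V : Set X) = ⊥)
    (hirr : ∀ W : Subgroup X, W ≤ V → G ≤ Subgroup.normalizer (W : Set X) → W = ⊥ ∨ W = V)
    (A : Subgroup X) (hA : A ≤ G) (hA1 : A ≠ ⊥) (α : ℝ) (hα : 0 < α)
    (hbig : (Nat.card V : ℝ) ≤ (Nat.card A : ℝ) ^ α * (Nat.card ↥(V ⊓ Subgroup.centralizer (A : Set X)) : ℝ)) :
    (Nat.card V : ℝ) ≤ (Nat.card G : ℝ) ^ α := by
  classical
  have hVab := hV.1
  let C : Subgroup X → Subgroup X := fun H => V ⊓ Subgroup.centralizer (H : Set X)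
  let m : Subgroup X → ℝ := fun H => (Nat.card H : ℝ) ^ α * (Nat.card ↥(C H) : ℝ)
  obtain ⟨H₀, hH₀, hmax⟩ := Set.Finite.exists_maximalFor m {H : Subgroup X | H ≤ G} (Set.toFinite _) ⟨⊥, (bot_le : (⊥ : Subgroup X) ≤ G)⟩
  replace hmax : ∀ H ≤ G, m H ≤ m H₀ := fun H hH => le_of_not_gt fun hlt => absurd (hmax hH hlt.le) (not_le.mpr hlt)
  have hmpos : ∀ H, 0 < m H := fun H => mul_pos (Real.rpow_pos_of_pos (Nat.cast_pos.mpr Nat.card_pos) α) (Nat.cast_pos.mpr Nat.card_pos)
  have hsuper : ∀ H K : Subgroup X, m H * m K ≤ m (H ⊔ K) * m (H ⊓ K) := by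
    intro H K
    have h1 : Nat.card H * Nat.card K ≤ Nat.card ↥(H ⊔ K) * Nat.card ↥(H ⊓ K) := by
      rw [← H62.card_prod_mul_card_inf H K]
      exact Nat.mul_le_mul_right _ (H62.card_prod_le_sup H K)
    have hC : C (H ⊔ K) = C H ⊓ C K := by
      show V ⊓ H62.cc (H ⊔ K) = V ⊓ H62.cc H ⊓ (V ⊓ H62.cc K)
      rw [H62.cc_sup, inf_inf_inf_comm, inf_idem]
    have h2 : Nat.card ↥(C H) * Nat.card ↥(C K) ≤ Nat.card ↥(C (H ⊔ K)) * Nat.card ↥(C (H ⊓ K)) := by
      rw [hC, ← H62.card_prod_mul_card_inf (C H) (C K), mul_comm]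
      refine Nat.mul_le_mul_left _ ((H62.card_prod_le_sup (C H) (C K)).trans ?_)
      refine Subgroup.card_le_of_le (sup_le ?_ ?_)
      · exact inf_le_inf_left V (Subgroup.centralizer_le inf_le_left)
      · exact inf_le_inf_left V (Subgroup.centralizer_le inf_le_right)
    show (Nat.card H : ℝ) ^ α * _ * ((Nat.card K : ℝ) ^ α * _) ≤ (Nat.card ↥(H ⊔ K) : ℝ) ^ α * _ * ((Nat.card ↥(H ⊓ K) : ℝ) ^ α * _)
    rw [mul_mul_mul_comm, ← Real.mul_rpow (Nat.cast_nonneg _) (Nat.cast_nonneg _), mul_mul_mul_comm,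
      ← Real.mul_rpow (Nat.cast_nonneg _) (Nat.cast_nonneg _)]
    exact mul_le_mul (Real.rpow_le_rpow (by positivity) (by exact_mod_cast h1) hα.le)
      (by exact_mod_cast h2) (by positivity) (by positivity)
  -- the members attaining the maximum are closed under joins
  have hjoin : ∀ s : Finset (Subgroup X), s.Nonempty → (∀ H ∈ s, H ≤ G ∧ m H = m H₀) →
      s.sup id ≤ G ∧ m (s.sup id) = m H₀ := by
    intro s hs
    induction hs using Finset.Nonempty.cons_induction with
    | singleton a => intro h; simpa using h a (Finset.mem_singleton_self a)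
    | cons a s has hs ih =>
      intro h
      obtain ⟨ha1, ha2⟩ := h a (Finset.mem_cons_self a s)
      obtain ⟨hs1, hs2⟩ := ih fun H hH => h H (Finset.mem_cons.mpr (Or.inr hH))
      rw [Finset.sup_cons, id_eq]
      refine ⟨sup_le ha1 hs1, le_antisymm (hmax _ (sup_le ha1 hs1)) ?_⟩
      have h1 := hsuper a (s.sup id)
      rw [ha2, hs2] at h1
      have h2 := hmax (a ⊓ s.sup id) (inf_le_left.trans ha1)
      nlinarith [hmpos H₀, hmpos (a ⊓ s.sup id), hmpos (a ⊔ s.sup id)]
  have := Fintype.ofFinite (Subgroup X)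
  set T := Finset.univ.filter (fun H : Subgroup X => H ≤ G ∧ m H = m H₀) with hT
  have hmemT : ∀ H, H ∈ T ↔ H ≤ G ∧ m H = m H₀ := fun H => by simp [hT]
  obtain ⟨hMG, hMmax⟩ := hjoin T ⟨H₀, (hmemT H₀).mpr ⟨hH₀, rfl⟩⟩ fun H hH => (hmemT H).mp hH
  set M := T.sup id with hM
  have hmbot : m ⊥ = (Nat.card V : ℝ) := by
    have e1 : C ⊥ = V := inf_eq_left.mpr fun v _ => Subgroup.mem_centralizer_iff.mpr fun h hh => by
      rw [Subgroup.mem_bot.mp hh, one_mul, mul_one]
    show (Nat.card (⊥ : Subgroup X) : ℝ) ^ α * (Nat.card ↥(C ⊥) : ℝ) = _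
    rw [e1, Subgroup.card_bot, Nat.cast_one, Real.one_rpow, one_mul]
  have hVle : (Nat.card V : ℝ) ≤ m H₀ := hbig.trans (hmax A hA)
  have hMne : M ≠ ⊥ := by
    intro e
    rw [e] at hMmax
    have hAT : A ∈ T := (hmemT A).mpr ⟨hA, le_antisymm (hmax A hA) (by rw [← hMmax, hmbot]; exact hbig)⟩
    exact hA1 (le_bot_iff.mp (e ▸ (Finset.le_sup (f := id) hAT)))
  have hnorm : G ≤ Subgroup.normalizer (C M : Set X) := by
    intro g hg
    rw [Subgroup.mem_normalizer_iff]
    have hfwd : ∀ g ∈ G, ∀ v ∈ C M, g * v * g⁻¹ ∈ C M := by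
      intro g hg v hv
      refine ⟨(Subgroup.mem_normalizer_iff.mp (hGV hg) v).mp hv.1, ?_⟩
      have hle : M ≤ Subgroup.centralizer ({g * v * g⁻¹} : Set X) := by
        refine Finset.sup_le fun H hH => ?_
        obtain ⟨hHG, hHm⟩ := (hmemT H).mp hH
        let φ := (MulAut.conj g⁻¹).toMonoidHom
        have hinj : Function.Injective φ := (MulAut.conj g⁻¹).injective
        have hCmap : C (H.map φ) = (C H).map φ := by
          ext w
          constructor
          · rintro ⟨hwV, hwC⟩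
            refine ⟨g * w * g⁻¹, ⟨(Subgroup.mem_normalizer_iff.mp (hGV hg) w).mp hwV, Subgroup.mem_centralizer_iff.mpr fun h hh => ?_⟩, by simp [φ, mul_assoc]⟩
            have := Subgroup.mem_centralizer_iff.mp hwC _ ⟨h, hh, rfl⟩
            simp only [φ, MulEquiv.toMonoidHom_eq_coe, MonoidHom.coe_coe, MulAut.conj_apply, inv_inv] at this
            calc h * (g * w * g⁻¹) = g * (g⁻¹ * h * g * w) * g⁻¹ := by group
              _ = g * (w * (g⁻¹ * h * g)) * g⁻¹ := by rw [this]
              _ = g * w * g⁻¹ * h := by group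
          · rintro ⟨u, ⟨huV, huC⟩, rfl⟩
            refine ⟨?_, Subgroup.mem_centralizer_iff.mpr ?_⟩
            · exact (Subgroup.mem_normalizer_iff.mp (hGV (G.inv_mem hg)) u).mp huV
            · rintro _ ⟨h, hh, rfl⟩
              rw [← map_mul, ← map_mul, Subgroup.mem_centralizer_iff.mp huC h hh]
        have hmm : H.map φ ∈ T := by
          refine (hmemT _).mpr ⟨?_, ?_⟩
          · rintro _ ⟨h, hh, rfl⟩
            exact G.mul_mem (G.mul_mem (G.inv_mem hg) (hHG hh)) (G.inv_mem (G.inv_mem hg))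
          · rw [← hHm]
            show _ * _ = _ * _
            rw [hCmap, Subgroup.card_map_of_injective hinj, Subgroup.card_map_of_injective hinj]
        intro h hh
        rw [Subgroup.mem_centralizer_singleton_iff]
        have hc := Subgroup.mem_centralizer_iff.mp hv.2 (g⁻¹ * h * g)
          ((Finset.le_sup (f := id) hmm) ⟨h, hh, by simp [φ]⟩)
        calc h * (g * v * g⁻¹) = g * (g⁻¹ * h * g * v) * g⁻¹ := by group
          _ = g * (v * (g⁻¹ * h * g)) * g⁻¹ := by rw [hc]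
          _ = g * v * g⁻¹ * h := by group
      exact Subgroup.mem_centralizer_iff.mpr fun h hh => Subgroup.mem_centralizer_singleton_iff.mp (hle hh)
    intro v
    refine ⟨hfwd g hg v, fun h => ?_⟩
    have := hfwd g⁻¹ (G.inv_mem hg) _ h
    simpa [mul_assoc] using this
  rcases hirr (C M) inf_le_left hnorm with h | h
  · calc (Nat.card V : ℝ) ≤ m H₀ := hVle
      _ = (Nat.card M : ℝ) ^ α := by rw [← hMmax]; show _ * _ = _; rw [h, Subgroup.card_bot, Nat.cast_one, mul_one]
      _ ≤ (Nat.card G : ℝ) ^ α := Real.rpow_le_rpow (Nat.cast_nonneg _) (by exact_mod_cast Subgroup.card_le_of_le hMG) hα.le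
  · refine absurd (le_bot_iff.mp (hfaith ▸ le_inf hMG (Subgroup.le_centralizer_iff.mp ?_))) hMne
    exact inf_eq_left.mp h

end Cfsg.Agent.S3037
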