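import Cfsg.Statements.S3040
import Cfsg.Agent.H52.FpfThree.Main

set_option autoImplicit false
open Cfsg

namespace Cfsg.Agent.S3040

open Cfsg.Agent.H52.FpfThree

theorem perm_three (s : Equiv.Perm (Fin 3)) (h3 : s * s * s = 1) (h1 : s ≠ 1) (x : Equiv.Perm (Fin 3)) :
    Equiv.swap 0 1 * s = s⁻¹ * Equiv.swap 0 1 ∧
      (x = 1 ∨ x = s ∨ x = s * s ∨ x = Equiv.swap 0 1 ∨ x = Equiv.swap 0 1 * s ∨ x = Equiv.swap 0 1 * (s * s)) := by
  revert s x
  decide

theorem hyp_of_order_three {G : Type*} [Group G] [Finite G] (h3 : ¬ 3 ∣ Nat.card G) (Sig : Subgroup (MulAut G))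
    (hS3 : Nonempty (↥Sig ≃* Equiv.Perm (Fin 3))) (hfpf : ∀ g : G, (∀ σ ∈ Sig, σ g = g) → g = 1)
    {σ : MulAut G} (hσ : σ ∈ Sig) (ho : orderOf σ = 3) : Hyp σ := by
  obtain ⟨e⟩ := hS3
  have hcube : σ ^ 3 = 1 := ho ▸ pow_orderOf_eq_one σ
  refine ⟨hcube, h3, fun x hx => ?_⟩
  set s : Equiv.Perm (Fin 3) := e ⟨σ, hσ⟩ with hs
  have hs3 : s * s * s = 1 := by
    rw [hs, ← map_mul, ← map_mul, ← map_one e]
    exact congrArg e (Subtype.ext (show σ * σ * σ = 1 by rw [← hcube, pow_three, mul_assoc]))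
  have hs1 : s ≠ 1 := by
    rw [hs, e.map_ne_one_iff]
    intro h
    rw [show σ = 1 from congrArg Subtype.val h, orderOf_one] at ho
    omega
  set τ : ↥Sig := e.symm (Equiv.swap 0 1) with hτ
  have hinv : ∀ y : G, σ y = y → σ ((τ : MulAut G) y) = (τ : MulAut G) y := by
    intro y hy
    have h1 : τ * ⟨σ, hσ⟩ = (⟨σ, hσ⟩ : ↥Sig)⁻¹ * τ := e.injective (by
      rw [map_mul, map_mul, map_inv, hτ, e.apply_symm_apply]
      exact (perm_three s hs3 hs1 1).1)
    have h2 : (τ : MulAut G) (σ y) = σ⁻¹ ((τ : MulAut G) y) := congrArg (fun f : ↥Sig => (f : MulAut G) y) h1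
    rw [hy] at h2
    nth_rw 1 [h2]
    exact σ.apply_symm_apply _
  have hfix : ∀ y : G, σ y = y → (τ : MulAut G) y = y → y = 1 := by
    intro y hy hty
    refine hfpf y fun f hf => ?_
    have key : ∀ k : Equiv.Perm (Fin 3), ((e.symm k : ↥Sig) : MulAut G) y = y := by
      have he : ((e.symm s : ↥Sig) : MulAut G) y = y := by rw [hs, e.symm_apply_apply]; exact hy
      intro k
      rcases (perm_three s hs3 hs1 k).2 with rfl | rfl | rfl | rfl | rfl | rfl
      · simp
      · exact he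
      · simp only [map_mul, Subgroup.coe_mul, MulAut.mul_apply, he]
      · exact hty
      · simp only [map_mul, Subgroup.coe_mul, MulAut.mul_apply, he]; exact hty
      · simp only [map_mul, Subgroup.coe_mul, MulAut.mul_apply, he]; exact hty
    have := key (e ⟨f, hf⟩)
    rwa [e.symm_apply_apply] at this
  have htt : ∀ y : G, (τ : MulAut G) ((τ : MulAut G) y) = y := by
    intro y
    have h1 : τ * τ = 1 := e.injective (by
      rw [map_mul, hτ, e.apply_symm_apply, map_one, Equiv.swap_mul_self])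
    exact congrArg (fun f : ↥Sig => (f : MulAut G) y) h1
  let F : Subgroup G :=
    { carrier := {y | σ y = y}
      one_mem' := map_one σ
      mul_mem' := fun {a b} ha hb => by
        show σ (a * b) = a * b
        rw [map_mul, show σ a = a from ha, show σ b = b from hb]
      inv_mem' := fun {a} ha => by
        show σ a⁻¹ = a⁻¹
        rw [map_inv, show σ a = a from ha] }
  let φ : F → F := fun y => ⟨(y : G)⁻¹ * (τ : MulAut G) y, F.mul_mem (F.inv_mem y.2) (hinv y y.2)⟩
  have hinj : Function.Injective φ := fun y z hyz => by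
    have he : (y : G)⁻¹ * (τ : MulAut G) y = (z : G)⁻¹ * (τ : MulAut G) z := congrArg Subtype.val hyz
    refine Subtype.ext (mul_inv_eq_one.mp (hfix _ (F.mul_mem z.2 (F.inv_mem y.2)) ?_)).symm
    rw [map_mul, map_inv]
    calc (τ : MulAut G) (z : G) * ((τ : MulAut G) (y : G))⁻¹
        = (z : G) * ((z : G)⁻¹ * (τ : MulAut G) z) * ((y : G)⁻¹ * (τ : MulAut G) y)⁻¹ * (y : G)⁻¹ := by group
      _ = (z : G) * (y : G)⁻¹ := by rw [he]; group
  rw [← Nat.not_even_iff_odd, even_iff_two_dvd]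
  intro hd
  set y := x ^ (orderOf x / 2) with hy
  have hyo : orderOf y = 2 := by
    rw [hy, orderOf_pow_orderOf_div (orderOf_pos x).ne' hd]
  obtain ⟨z, hz⟩ := Finite.surjective_of_injective hinj ⟨y, F.pow_mem hx _⟩
  have hz' : (z : G)⁻¹ * (τ : MulAut G) z = y := congrArg Subtype.val hz
  have hty : (τ : MulAut G) y = y := by
    have h1 : (τ : MulAut G) y = y⁻¹ := by rw [← hz', map_mul, map_inv, htt, mul_inv_rev, inv_inv]
    rw [h1, inv_eq_of_mul_eq_one_left (show y * y = 1 by rw [← sq, ← hyo, pow_orderOf_eq_one])]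
  have hy1 := hfix y (F.pow_mem hx _) hty
  rw [hy1, orderOf_one] at hyo
  omega

/-- Let G be a finite group of even order coprime to 3, and let Σ be a group of automorphisms of G isomorphic to the symmetric group of degree 3 that is fixed-point-free (only the identity of G is fixed by every element of Σ). Then G is solvable, O_{2′,2}(G) (the preimage in G of O₂(G/O(G))) has odd index in G, and G = O_{2′,2}(G) C_G(σ) for every element σ of Σ of order 3; that is, O₂(G/O(G)) is a Sylow 2-subgroup of G/O(G) and G/O(G) = O₂(G/O(G)) C_{G/O(G)}(σ). -/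
theorem result {G : Type*} [Group G] [Finite G] (heven : 2 ∣ Nat.card G) (h3 : ¬ 3 ∣ Nat.card G)
    (Sig : Subgroup (MulAut G)) (hS3 : Nonempty (↥Sig ≃* Equiv.Perm (Fin 3))) (hfpf : ∀ g : G, (∀ σ ∈ Sig, σ g = g) → g = 1) :
    Group.IsSolvable G ∧ ¬ 2 ∣ (Cfsg.pPrimePCore 2 G).index ∧ ∀ σ ∈ Sig, orderOf σ = 3 →
      Cfsg.pPrimePCore 2 G ⊔ Subgroup.closure {g : G | σ g = g} = ⊤ := by
  obtain ⟨e⟩ := hS3
  have hρ : orderOf ((e.symm (Equiv.swap 0 1 * Equiv.swap 1 2) : ↥Sig) : MulAut G) = 3 := by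
    rw [Subgroup.orderOf_coe]
    refine (orderOf_injective e.symm.toMonoidHom e.symm.injective _).trans ?_
    exact orderOf_eq_prime (hp := ⟨Nat.prime_three⟩) (by decide) (by decide)
  have hsol : Group.IsSolvable G := solvable_of_hyp (Nat.card G) G _ le_rfl
    (hyp_of_order_three h3 Sig ⟨e⟩ hfpf (e.symm _).2 hρ)
  refine ⟨hsol, (split (hyp_of_order_three h3 Sig ⟨e⟩ hfpf (e.symm _).2 hρ)).1, fun σ hσ ho => ?_⟩
  refine eq_top_iff.mpr fun g _ => ?_
  obtain ⟨x, hx, d, hd, rfl⟩ := (split (hyp_of_order_three h3 Sig ⟨e⟩ hfpf hσ ho)).2 g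
  exact Subgroup.mul_mem_sup hx (Subgroup.subset_closure hd)

end Cfsg.Agent.S3040
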