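import Cfsg.Statements.S3044
import Cfsg.Agent.H62.IsolatedPMin
-- import your own Cfsg.Agent.* helpers here

set_option autoImplicit false
open Cfsg

namespace Cfsg.Agent.S3044

open Cfsg.Agent

/-- Let G be a finite group, p a prime, S a Sylow p-subgroup of G and P a p-minimal subgroup of G containing S (S is not normal in P and lies in exactly one maximal subgroup of P). Let L be the subgroup generated by N_G(S) and all p-minimal subgroups of G containing S other than P, and suppose P is isolated: O_p(L) is not contained in O_p(P). Put Y for the normal closure of O^p(P) in G. Then G = YL; P is again isolated in the subgroup YS (the subgroup L₀ generated by N_{YS}(S) and the p-minimal subgroups of YS containing S other than P has O_p(L₀) not contained in O_p(P)); and either Y = O^p(P), or p divides |Y/O_p(Y)|, Y/O_p(Y) is generated by its components (a central product of quasisimple groups), and S permutes these components transitively by conjugation. -/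
theorem result {G : Type*} [Group G] [Finite G] {p : ℕ} [Fact p.Prime] (S : Sylow p G) (P : Subgroup G) (hSP : (S : Subgroup G) ≤ P) (hPmin : Cfsg.IsPMinimal p ↥P)
    (L Y : Subgroup G)
    (hL : L = Subgroup.normalizer ((S : Subgroup G) : Set G) ⊔ ⨆ P' : {P' : Subgroup G // (S : Subgroup G) ≤ P' ∧ Cfsg.IsPMinimal p ↥P' ∧ P' ≠ P}, (P' : Subgroup G))
    (hiso : ¬ (Cfsg.pCore p ↥L).map L.subtype ≤ (Cfsg.pCore p ↥P).map P.subtype)
    (hY : Y = Subgroup.normalClosure (((Cfsg.pResidual p ↥P).map P.subtype : Subgroup G) : Set G)) :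
    Y ⊔ L = ⊤ ∧
    ¬ (Cfsg.pCore p ↥((Subgroup.normalizer ((S : Subgroup G) : Set G) ⊓ (Y ⊔ (S : Subgroup G))) ⊔
          ⨆ P' : {P' : Subgroup G // (S : Subgroup G) ≤ P' ∧ P' ≤ Y ⊔ (S : Subgroup G) ∧ Cfsg.IsPMinimal p ↥P' ∧ P' ≠ P}, (P' : Subgroup G))).map
        (Subgroup.subtype _) ≤ (Cfsg.pCore p ↥P).map P.subtype ∧
    ((Cfsg.pResidual p ↥P).map P.subtype = Y ∨
     ∃ _ : (Cfsg.pCore p ↥Y).Normal,
       p ∣ Nat.card (↥Y ⧸ Cfsg.pCore p ↥Y) ∧ Cfsg.layer (↥Y ⧸ Cfsg.pCore p ↥Y) = ⊤ ∧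
       ∀ K₁ K₂ : Subgroup (↥Y ⧸ Cfsg.pCore p ↥Y), Cfsg.IsComponent K₁ → Cfsg.IsComponent K₂ →
         ∃ s ∈ (S : Subgroup G), ((K₂.comap (QuotientGroup.mk' (Cfsg.pCore p ↥Y))).map Y.subtype) = (((K₁.comap (QuotientGroup.mk' (Cfsg.pCore p ↥Y))).map Y.subtype)).map (MulAut.conj s).toMonoidHom) := by
  classical
  set N := Cfsg.pCore p G with hN
  set R := (Cfsg.pResidual p ↥P).map P.subtype with hR
  have h := H62.isoSetting S P hSP L hL hiso (N := N) rfl
  set π := QuotientGroup.mk' N with hπ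
  haveI hYn : Y.Normal := hY ▸ Subgroup.normalClosure_normal
  have hYc : Y.map π = Subgroup.normalClosure ((R.map π : Subgroup (G ⧸ N)) : Set (G ⧸ N)) :=
    H62.map_closure_eq hY
  have hRY : R.map π ≤ Y.map π := hYc ▸ Subgroup.subset_normalClosure
  have hSL := H62.sylow_le_isolator S P L hL
  have hsup := H62.sylow_sup_residual_eq S P hSP
  have hRY0 : R ≤ Y := hY ▸ Subgroup.subset_normalClosure
  refine ⟨?_, ?_, ?_⟩
  · rw [eq_top_iff, ← H62.sup_isolator S P hSP L hL]
    exact sup_le (hsup ▸ sup_le (hSL.trans le_sup_right) (hRY0.trans le_sup_left)) le_sup_right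
  · intro hcon
    refine hiso (le_trans ?_ hcon)
    set L₀ := (Subgroup.normalizer ((S : Subgroup G) : Set G) ⊓ (Y ⊔ (S : Subgroup G))) ⊔
      ⨆ P' : {P' : Subgroup G // (S : Subgroup G) ≤ P' ∧ P' ≤ Y ⊔ (S : Subgroup G) ∧ Cfsg.IsPMinimal p ↥P' ∧ P' ≠ P}, (P' : Subgroup G)
    have hL₀ : L₀ ≤ L := by
      rw [hL]
      refine sup_le (le_sup_of_le_left inf_le_left) (iSup_le fun P' => le_sup_of_le_right ?_)
      exact le_iSup_of_le ⟨P'.1, P'.2.1, P'.2.2.2.1, P'.2.2.2.2⟩ le_rfl
    set Q := (Cfsg.pCore p ↥L).map L.subtype with hQ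
    have hQS : Q ≤ S := H62.pCore_isolator_le S P L hL
    have hQL : Q ≤ L₀ := hQS.trans (le_sup_of_le_left (le_inf Subgroup.le_normalizer le_sup_right))
    have hn : (Q.subgroupOf L₀).Normal :=
      Subgroup.normal_subgroupOf_of_le_normalizer (hL₀.trans (H62.isolator_le_normalizer S P L hL))
    have hpg : IsPGroup p (Q.subgroupOf L₀) :=
      (S.isPGroup'.to_le hQS).comap_of_injective L₀.subtype L₀.subtype_injective
    rw [← Subgroup.map_subgroupOf_eq_of_le hQL]
    exact Subgroup.map_mono (Components.le_pCore hn hpg)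
  · by_cases hp : p ∣ Nat.card ↥(Y.map π)
    swap
    · exact Or.inl (H62.residual_eq_closure S P hSP rfl hY (h.pPrime_case hYc hp).1)
    right
    haveI hcn : (Cfsg.pCore p ↥Y).Normal := Subgroup.sSup_normal _ fun _ hh => hh.1
    haveI hYmn : (Y.map π).Normal := Subgroup.Normal.map inferInstance π (QuotientGroup.mk'_surjective N)
    set T := Y.map π with hT
    obtain ⟨e, he⟩ := H62.quotient_pCore_equiv (p := p) (N := N) rfl Y
    obtain ⟨hgen, htrans⟩ := h.layer_case hYc (h.not_le_fitting hYc hp)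
    have hsn : (Y.map π).IsSubnormal := hYmn.isSubnormal
    have hlay : Cfsg.layer ↥(Y.map π) = ⊤ := by
      refine Subgroup.map_injective (Y.map π).subtype_injective ?_
      rw [Components.map_layer_subnormal hsn, ← hgen, ← MonoidHom.range_eq_map, Subgroup.range_subtype]
    refine ⟨hcn, by rwa [Nat.card_congr e.toEquiv], ?_, fun K₁ K₂ h1 h2 => ?_⟩
    · rw [← Components.map_layer_equiv e.symm, hlay, Subgroup.map_top_of_surjective _ e.symm.surjective]
    let lift : Subgroup (↥Y ⧸ Cfsg.pCore p ↥Y) → Subgroup (G ⧸ N) := fun K =>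
      (K.map e.toMonoidHom).map T.subtype
    have hlift : ∀ K, Cfsg.IsComponent K → Cfsg.IsComponent (lift K) ∧ lift K ≤ T := fun K hK =>
      ⟨(Components.component_map_iff hsn).mp (Components.component_map_equiv e hK),
        Subgroup.map_subtype_le _⟩
    have hpre : ∀ K, (K.comap (QuotientGroup.mk' (Cfsg.pCore p ↥Y))).map Y.subtype =
        (lift K).comap π ⊓ Y := by
      intro K
      ext g
      constructor
      · rintro ⟨y, hy, rfl⟩
        exact ⟨⟨e (QuotientGroup.mk y), ⟨_, hy, rfl⟩, he y⟩, y.2⟩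
      · rintro ⟨⟨z, ⟨k, hk, rfl⟩, hz⟩, hg⟩
        refine ⟨⟨g, hg⟩, ?_, rfl⟩
        have h3 : e k = e (QuotientGroup.mk ⟨g, hg⟩) := Subtype.ext (hz.trans (he ⟨g, hg⟩).symm)
        show (QuotientGroup.mk ⟨g, hg⟩ : ↥Y ⧸ Cfsg.pCore p ↥Y) ∈ K
        rw [← e.injective h3]
        exact hk
    obtain ⟨_, ⟨s, hs, rfl⟩, hconj⟩ := htrans _ _ (hlift K₁ h1).1 (hlift K₂ h2).1
      (hlift K₁ h1).2 (hlift K₂ h2).2
    refine ⟨s, hs, ?_⟩
    rw [hpre, hpre, hconj]
    ext g
    rw [Coprime.mem_map_conj, Subgroup.mem_inf, Subgroup.mem_inf, Subgroup.mem_comap, Subgroup.mem_comap,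
      Coprime.mem_map_conj, map_mul, map_mul, map_inv]
    refine and_congr_right fun _ => ?_
    constructor
    · intro hg
      simpa using Subgroup.Normal.conj_mem hYn g hg s⁻¹
    · intro hg
      simpa [mul_assoc] using Subgroup.Normal.conj_mem hYn _ hg s

end Cfsg.Agent.S3044
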