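import Cfsg.Statements.S3045
import Cfsg.Agent.H62.IsolatedPMin
-- import your own Cfsg.Agent.* helpers here

set_option autoImplicit false
open Cfsg

namespace Cfsg.Agent.S3045

open Cfsg.Agent

/-- Let G be a finite group, p a prime, S a Sylow p-subgroup of G and P a p-minimal subgroup of G containing S. Let L be the subgroup generated by N_G(S) and all p-minimal subgroups of G containing S other than P, and suppose O_p(L) is not contained in O_p(P). Put Y for the normal closure of O^p(P) in G. Then O^p(P) is contained in the preimage in G of F*(G/O_p(G)); and if Y is solvable, then Y = O^p(P) and Y/O_p(Y) is a t-group of nilpotency class at most 2 for some prime t ≠ p. -/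
theorem result {G : Type*} [Group G] [Finite G] {p : ℕ} [Fact p.Prime] (S : Sylow p G) (P : Subgroup G) (hSP : (S : Subgroup G) ≤ P) (hPmin : Cfsg.IsPMinimal p ↥P)
    (L Y : Subgroup G)
    (hL : L = Subgroup.normalizer ((S : Subgroup G) : Set G) ⊔ ⨆ P' : {P' : Subgroup G // (S : Subgroup G) ≤ P' ∧ Cfsg.IsPMinimal p ↥P' ∧ P' ≠ P}, (P' : Subgroup G))
    (hiso : ¬ (Cfsg.pCore p ↥L).map L.subtype ≤ (Cfsg.pCore p ↥P).map P.subtype)
    (hY : Y = Subgroup.normalClosure (((Cfsg.pResidual p ↥P).map P.subtype : Subgroup G) : Set G)) [hn : (Cfsg.pCore p G).Normal] :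
    (Cfsg.pResidual p ↥P).map P.subtype ≤ (Cfsg.generalizedFittingSubgroup (G ⧸ Cfsg.pCore p G)).comap (QuotientGroup.mk' (Cfsg.pCore p G)) ∧
    (Group.IsSolvable ↥Y → (Cfsg.pResidual p ↥P).map P.subtype = Y ∧
       ∃ _ : (Cfsg.pCore p ↥Y).Normal, ∃ t : ℕ, t.Prime ∧ t ≠ p ∧ IsPGroup t (↥Y ⧸ Cfsg.pCore p ↥Y) ∧
         ∃ _ : Group.IsNilpotent (↥Y ⧸ Cfsg.pCore p ↥Y), Group.nilpotencyClass (↥Y ⧸ Cfsg.pCore p ↥Y) ≤ 2) := by
  classical
  set N := Cfsg.pCore p G with hN
  set R := (Cfsg.pResidual p ↥P).map P.subtype with hR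
  have h := H62.isoSetting S P hSP L hL hiso (N := N) rfl
  set π := QuotientGroup.mk' N with hπ
  haveI hYn : Y.Normal := hY ▸ Subgroup.normalClosure_normal
  have hYc : Y.map π = Subgroup.normalClosure ((R.map π : Subgroup (G ⧸ N)) : Set (G ⧸ N)) :=
    H62.map_closure_eq hY
  have hRY : R.map π ≤ Y.map π := hYc ▸ Subgroup.subset_normalClosure
  refine ⟨Subgroup.map_le_iff_le_comap.mp h.R_le_genFitting, fun hsol => ?_⟩
  have hsolm : Group.IsSolvable ↥(Y.map π) := Coprime.isSolvable_map π hsol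
  haveI : (Y.map π).Normal := Subgroup.Normal.map inferInstance π (QuotientGroup.mk'_surjective N)
  have hF : R.map π ≤ Cfsg.fittingSubgroup (G ⧸ N) := by
    refine h.fitting_or_layer.elim id fun hE r hr => ?_
    have h1 : r ∈ (Subgroup.center (Cfsg.layer (G ⧸ N))).map (Cfsg.layer (G ⧸ N)).subtype :=
      (Components.mem_center_map_iff _ r).mpr ⟨hE hr, fun y hy => Components.commute_of_commutator_eq_bot
        (Components.layer_commutator_solvable hsolm (Components.le_normalizer_of_normal _)) hy (hRY hr)⟩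
    rw [Components.center_layer_eq_fitting_inf] at h1
    exact h1.1
  have hp : ¬ p ∣ Nat.card ↥(Y.map π) := fun hd =>
    H62.IsoSetting.fitting_coprime h.hO (hd.trans (Subgroup.card_dvd_of_le
      (hYc ▸ Subgroup.normalClosure_le_normal hF)))
  obtain ⟨heq, t, ht, htp, hTp, hclass⟩ := h.pPrime_case hYc hp
  haveI hcn : (Cfsg.pCore p ↥Y).Normal := Subgroup.sSup_normal _ fun _ hh => hh.1
  refine ⟨H62.residual_eq_closure S P hSP rfl hY heq, hcn, t, ht, htp, ?_⟩
  obtain ⟨e, -⟩ := H62.quotient_pCore_equiv (p := p) (N := N) rfl Y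
  haveI := Fact.mk ht
  haveI : Group.IsNilpotent ↥(Y.map π) := hTp.isNilpotent
  refine ⟨hTp.of_equiv e.symm, Group.nilpotent_of_mulEquiv e.symm, ?_⟩
  refine le_trans (Group.nilpotencyClass_le_of_surjective e.symm.toMonoidHom e.symm.surjective) ?_
  refine Subgroup.lowerCentralSeries_eq_bot_iff_nilpotencyClass_le.mp ?_
  refine Subgroup.map_injective (Y.map π).subtype_injective ?_
  rw [Subgroup.map_bot, ← hclass]
  simp only [Subgroup.lowerCentralSeries_succ, Subgroup.lowerCentralSeries_zero, Subgroup.map_commutator,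
    ← MonoidHom.range_eq_map, Subgroup.range_subtype]

end Cfsg.Agent.S3045
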