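import Cfsg.Statements.S3047
import Cfsg.Agent.H67.RankOneFix.Apply

set_option autoImplicit false
open Cfsg

namespace Cfsg.Agent.S3047

/-- Let p ≥ 5 be a prime, G a finite group all of whose composition factors are known simple groups, S a Sylow p-subgroup and P a p-minimal subgroup of G containing S such that O^p(P/O_p(P)) is isomorphic to SL₂(pᵃ), PSL₂(pᵃ), SU₃(pᵃ) or PSU₃(pᵃ) for some a ≥ 1. Let L be the subgroup generated by N_G(S) and the p-minimal subgroups of G containing S other than P. Then either O^p(P) is normal in G, or every p-element of the centre of L lies in O_p(P). -/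
theorem result {G : Type*} [Group G] [Finite G] {p : ℕ} [Fact p.Prime] (hp : 5 ≤ p) (hK : Cfsg.IsCompositionKGroup G)
    (S : Sylow p G) (P : Subgroup G) (hSP : (S : Subgroup G) ≤ P) (hPmin : Cfsg.IsPMinimal p ↥P) [hn : (Cfsg.pCore p ↥P).Normal]
    (hrk1 : ∃ (F : Type) (_ : Field F) (_ : Fintype F) (a : ℕ), 1 ≤ a ∧
      ((Fintype.card F = p ^ a ∧ (Nonempty (↥(Cfsg.pResidual p (↥P ⧸ Cfsg.pCore p ↥P)) ≃* Matrix.SpecialLinearGroup (Fin 2) F) ∨
                                  Nonempty (↥(Cfsg.pResidual p (↥P ⧸ Cfsg.pCore p ↥P)) ≃* Matrix.ProjectiveSpecialLinearGroup (Fin 2) F))) ∨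
       (Fintype.card F = p ^ (2 * a) ∧ (Nonempty (↥(Cfsg.pResidual p (↥P ⧸ Cfsg.pCore p ↥P)) ≃* ↥(Cfsg.SU 3 F (p ^ a))) ∨
                                        Nonempty (↥(Cfsg.pResidual p (↥P ⧸ Cfsg.pCore p ↥P)) ≃* Cfsg.PSU 3 F (p ^ a))))))
    (L : Subgroup G)
    (hL : L = Subgroup.normalizer ((S : Subgroup G) : Set G) ⊔ ⨆ P' : {P' : Subgroup G // (S : Subgroup G) ≤ P' ∧ Cfsg.IsPMinimal p ↥P' ∧ P' ≠ P}, (P' : Subgroup G)) :
    ((Cfsg.pResidual p ↥P).map P.subtype).Normal ∨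
    ∀ z ∈ L ⊓ Subgroup.centralizer (L : Set G), (∃ k : ℕ, orderOf z = p ^ k) → z ∈ (Cfsg.pCore p ↥P).map P.subtype := by
  refine Or.inr fun z hz hzp => ?_
  have hNL : Subgroup.normalizer ((S : Subgroup G) : Set G) ≤ L := hL ▸ le_sup_left
  have hzc : ∀ n ∈ L, z * n = n * z := fun n hn => (Subgroup.mem_centralizer_iff.mp hz.2 n hn).symm
  -- `z` lies in the Sylow subgroup
  have hzS : z ∈ (S : Subgroup G) := by
    obtain ⟨k, hk⟩ := hzp
    have hzn : z ∈ Subgroup.normalizer ((S : Subgroup G) : Set G) := by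
      refine Subgroup.mem_normalizer_iff.mpr fun x => ⟨fun hx => ?_, fun hx => ?_⟩
      · rwa [hzc x (hNL (Subgroup.le_normalizer hx)), mul_inv_cancel_right]
      · have h1 := hzc _ (hNL (Subgroup.le_normalizer hx))
        have h2 : z * x * z⁻¹ = x := by
          have h3 : z * (z * x * z⁻¹) = z * x := by rw [h1]; group
          exact mul_left_cancel h3
        rwa [h2] at hx
    have hp2 : IsPGroup p ↥((S : Subgroup G) ⊔ Subgroup.zpowers z) := by
      refine S.isPGroup'.to_sup_of_normal_left' ?_ (Subgroup.zpowers_le.mpr hzn)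
      exact IsPGroup.of_card (n := k) (by rw [Nat.card_zpowers, hk])
    rw [← S.3 hp2 le_sup_left]
    exact Subgroup.mem_sup_right (Subgroup.mem_zpowers z)
  refine ⟨⟨z, hSP hzS⟩, ?_, rfl⟩
  -- the structure of the quotient
  have hgood : Cfsg.Agent.H67.RankOneFix.Good p
      ↥(Cfsg.pResidual p (↥P ⧸ Cfsg.pCore p ↥P)) := by
    obtain ⟨F, _, _, a, -, h⟩ := hrk1
    rcases h with ⟨hF, ⟨⟨e⟩⟩ | ⟨⟨e⟩⟩⟩ | ⟨hF, ⟨⟨e⟩⟩ | ⟨⟨e⟩⟩⟩
    · exact (Cfsg.Agent.H67.RankOneFix.good_slFamilies hp hF).1.equiv e.symm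
    · exact (Cfsg.Agent.H67.RankOneFix.good_slFamilies hp hF).2.equiv e.symm
    · exact (Cfsg.Agent.H67.RankOneFix.good_suFamilies hp hF).1.equiv e.symm
    · exact (Cfsg.Agent.H67.RankOneFix.good_suFamilies hp hF).2.equiv e.symm
  refine Cfsg.Agent.H67.RankOneFix.mem_pCore_of_good (S.subtype hSP) hgood
    (show (⟨z, hSP hzS⟩ : ↥P) ∈ (S : Subgroup G).subgroupOf P from hzS) fun n hn => ?_
  refine Subtype.ext (hzc (n : G) (hNL ?_))
  rw [Subgroup.mem_normalizer_iff]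
  intro x
  constructor
  · intro hx
    exact (Subgroup.mem_normalizer_iff.mp hn ⟨x, hSP hx⟩).mp hx
  · intro hx
    have hxP : x ∈ P := by
      have h1 := mul_mem (mul_mem (inv_mem n.2) (hSP hx)) n.2
      simpa [mul_assoc] using h1
    exact (Subgroup.mem_normalizer_iff.mp hn ⟨x, hxP⟩).mpr hx

end Cfsg.Agent.S3047
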