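import Cfsg.Statements.S3048
import Cfsg.Agent.S3012
import Cfsg.Agent.S3013
import Cfsg.Agent.Cores.PCore
import Cfsg.Agent.Components.Layer

set_option autoImplicit false
universe u
open Cfsg

namespace Cfsg.Agent.S3048

open Subgroup
open scoped commutatorElement

/-- `Sidki` inside an overgroup `H`. -/
private theorem exists_mem_core {G : Type u} [Group G] [Finite G]
    (hminG : ∀ (H : Type u) [Group H] [Finite H] (W : Subgroup H), Nat.card H < Nat.card G → Cfsg.IsElementaryAbelian 2 W → W ≠ ⊥ → Cfsg.IsSidkiPair W → W ⊓ Cfsg.pCore 2 H ≠ ⊥)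
    {V : Subgroup G} (hV : Cfsg.IsElementaryAbelian 2 V) {H W : Subgroup G} (hH : H ≠ ⊤)
    (hWV : W ≤ V) (hWH : W ≤ H) (hW : W ≠ ⊥)
    (hS : ∀ h ∈ H, ∀ v ∈ W, Odd (orderOf h) → v * h * v⁻¹ = h⁻¹ → ∃ w ∈ W, w ≠ 1 ∧ w * h = h * w) :
    ∃ w ∈ W, w ≠ 1 ∧ w ∈ (Cfsg.pCore 2 H).map H.subtype := by
  have hlt : Nat.card H < Nat.card G := by
    refine lt_of_le_of_ne (Subgroup.card_le_card_group H) fun e => hH ?_
    exact Subgroup.eq_top_of_card_eq H e
  have hsub : W.subgroupOf H ≠ ⊥ := by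
    rw [Ne, Subgroup.subgroupOf_eq_bot, disjoint_iff, inf_eq_left.2 hWH]
    exact hW
  have hel : Cfsg.IsElementaryAbelian 2 (W.subgroupOf H) := by
    refine ⟨⟨⟨fun a b => ?_⟩⟩, fun a ha => Subtype.ext ?_⟩
    · exact Subtype.ext (Subtype.ext (congrArg Subtype.val
        (hV.1.is_comm.comm ⟨_, hWV a.2⟩ ⟨_, hWV b.2⟩) :))
    · simpa using hV.2 _ (hWV ha)
  have hsid : Cfsg.IsSidkiPair (W.subgroupOf H) := by
    intro h v hv hodd hinv
    rw [← Subgroup.orderOf_coe] at hodd
    obtain ⟨w, hw, hw1, hwh⟩ := hS h h.2 v hv hodd (congrArg Subtype.val hinv)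
    exact ⟨⟨w, hWH hw⟩, hw, fun e => hw1 (congrArg Subtype.val e), Subtype.ext hwh⟩
  obtain ⟨w, hw, hw1⟩ := ((W.subgroupOf H ⊓ Cfsg.pCore 2 H).bot_or_exists_ne_one).resolve_left
    (hminG H _ hlt hel hsub hsid)
  exact ⟨w, hw.1, fun e => hw1 (Subtype.ext e), ⟨w, hw.2, rfl⟩⟩

/-- A subnormal subgroup inside `H` is centralized by `O₂(H)`, if it is normal in `H` and `O₂(G) = 1`. -/
private theorem core_centralizes {G : Type u} [Group G] [Finite G] (hO : Cfsg.pCore 2 G = ⊥)
    {H M : Subgroup G} (hM : M.IsSubnormal) (hMH : M ≤ H)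
    (hn : H ≤ Subgroup.normalizer (M : Set G)) :
    ∀ w ∈ (Cfsg.pCore 2 H).map H.subtype, ∀ m ∈ M, m * w = w * m := by
  rintro _ ⟨w, hw, rfl⟩ m hm
  have : (M.subgroupOf H).Normal := Subgroup.normal_subgroupOf_of_le_normalizer hn
  have : (Cfsg.pCore 2 H).Normal := inferInstance
  have hc := Subgroup.commutator_le_inf (M.subgroupOf H) (Cfsg.pCore 2 H)
    (Subgroup.commutator_mem_commutator (show (⟨m, hMH hm⟩ : H) ∈ M.subgroupOf H from hm) hw)
  have hp : IsPGroup 2 ↥((M.subgroupOf H ⊓ Cfsg.pCore 2 H).map H.subtype) :=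
    ((Cores.pCore_isPGroup (p := 2) (G := H)).to_le inf_le_right).map _
  have hle : (M.subgroupOf H ⊓ Cfsg.pCore 2 H).map H.subtype ≤ M := by
    rintro _ ⟨x, hx, rfl⟩; exact hx.1
  have h2 : (((M.subgroupOf H ⊓ Cfsg.pCore 2 H).map H.subtype).subgroupOf M).Normal := by
    refine Subgroup.normal_subgroupOf_of_le_normalizer ?_
    intro x hx
    rw [Subgroup.mem_normalizer_iff]
    have hn' : (⟨x, hMH hx⟩ : H) ∈ Subgroup.normalizer
        ((M.subgroupOf H ⊓ Cfsg.pCore 2 H : Subgroup H) : Set H) := by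
      rw [Subgroup.normalizer_eq_top]; trivial
    rw [Subgroup.mem_normalizer_iff] at hn'
    intro y
    constructor
    · rintro ⟨z, hz, rfl⟩
      exact ⟨_, (hn' z).1 hz, rfl⟩
    · rintro ⟨z, hz, hzy⟩
      refine ⟨(⟨x, hMH hx⟩ : H)⁻¹ * z * ⟨x, hMH hx⟩, (hn' _).2 (by simpa [mul_assoc] using hz), ?_⟩
      simp only [Subgroup.coe_subtype, Subgroup.coe_mul, InvMemClass.coe_inv] at hzy ⊢
      rw [hzy]; group
  have h3 := Cores.map_pCore_le_of_isSubnormal (p := 2) hM
    (Subgroup.mem_map_of_mem M.subtype (Cores.le_pCore (hN := h2) hp.comap_subtype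
      (show (⟨_, hle ⟨_, hc, rfl⟩⟩ : M) ∈ _ from ⟨_, hc, rfl⟩)))
  rw [hO, Subgroup.mem_bot] at h3
  exact commutatorElement_eq_one_iff_mul_comm.1 h3

/-- Minimal counterexample reduction for the Sidki pair problem. Let G be a finite group and V a nontrivial elementary abelian 2-subgroup satisfying the Sidki pair condition with V ∩ O₂(G) = 1. Suppose that for every finite group H of smaller order, every nontrivial elementary abelian 2-subgroup W of H satisfying the Sidki pair condition meets O₂(H) nontrivially, and that the same holds in G for every such subgroup W of order smaller than that of V. Then the generalized Fitting subgroup F*(G) is a non-abelian simple group and G = V F*(G). -/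
theorem result {G : Type u} [Group G] [Finite G] (V : Subgroup G) (hV : Cfsg.IsElementaryAbelian 2 V) (hV1 : V ≠ ⊥) (hS : Cfsg.IsSidkiPair V) (hVO : V ⊓ Cfsg.pCore 2 G = ⊥) (hminG : ∀ (H : Type u) [Group H] [Finite H] (W : Subgroup H), Nat.card H < Nat.card G → Cfsg.IsElementaryAbelian 2 W → W ≠ ⊥ → Cfsg.IsSidkiPair W → W ⊓ Cfsg.pCore 2 H ≠ ⊥) (hminV : ∀ W : Subgroup G, Nat.card W < Nat.card V → Cfsg.IsElementaryAbelian 2 W → W ≠ ⊥ → Cfsg.IsSidkiPair W → W ⊓ Cfsg.pCore 2 G ≠ ⊥) : IsSimpleGroup ↥(Cfsg.generalizedFittingSubgroup G) ∧ ¬ IsMulCommutative ↥(Cfsg.generalizedFittingSubgroup G) ∧ V ⊔ Cfsg.generalizedFittingSubgroup G = ⊤ := by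
  classical
  have := Fact.mk Nat.prime_two
  have hv2 : ∀ a ∈ V, a * a = 1 := fun a ha => by rw [← pow_two]; exact hV.2 a ha
  have hvi : ∀ a ∈ V, a⁻¹ = a := fun a ha => inv_eq_of_mul_eq_one_right (hv2 a ha)
  have hcomm : ∀ a ∈ V, ∀ b ∈ V, a * b = b * a := fun a ha b hb =>
    congrArg Subtype.val (hV.1.is_comm.comm ⟨a, ha⟩ ⟨b, hb⟩)
  have hVp : IsPGroup 2 V := fun x => ⟨1, Subtype.ext (by simpa using hV.2 x x.2)⟩
  have himg : ∀ {K : Type u} [Group K] (f : G →* K), Cfsg.IsElementaryAbelian 2 (V.map f) := by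
    intro K _ f
    refine ⟨⟨⟨?_⟩⟩, ?_⟩
    · rintro ⟨_, a, ha, rfl⟩ ⟨_, b, hb, rfl⟩
      exact Subtype.ext (by simp [← map_mul, hcomm a ha b hb])
    · rintro _ ⟨a, ha, rfl⟩
      rw [← map_pow, hV.2 a ha, map_one]
  -- quotients by normal subgroups missing `V`
  have hquot : ∀ (K : Subgroup G) [K.Normal], K ≠ ⊥ → V ⊓ K = ⊥ →
      ∃ w ∈ V, w ≠ 1 ∧ QuotientGroup.mk' K w ∈ Cfsg.pCore 2 (G ⧸ K) := by
    intro K _ hK hVK
    have hlt : Nat.card (G ⧸ K) < Nat.card G := by
      rw [Subgroup.card_eq_card_quotient_mul_card_subgroup K]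
      exact lt_mul_of_one_lt_right Nat.card_pos (K.one_lt_card_iff_ne_bot.2 hK)
    have hne : V.map (QuotientGroup.mk' K) ≠ ⊥ := by
      rw [Ne, Subgroup.map_eq_bot_iff, QuotientGroup.ker_mk']
      intro hle
      exact hV1 (eq_bot_iff.2 (hVK ▸ le_inf le_rfl hle))
    obtain ⟨_, ⟨⟨w, hw, rfl⟩, hwc⟩, hw1⟩ := (Subgroup.bot_or_exists_ne_one _).resolve_left
      (hminG _ _ hlt (himg _) hne (S3012.result V K hV hV1 hS hVK))
    exact ⟨w, hw, fun e => hw1 (by rw [e, map_one]), hwc⟩
  have hO : Cfsg.pCore 2 G = ⊥ := by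
    by_contra hne
    obtain ⟨w, hw, hw1, hwc⟩ := hquot _ hne hVO
    rw [Cores.pCore_quotient_pCore, Subgroup.mem_bot, QuotientGroup.mk'_apply,
      QuotientGroup.eq_one_iff] at hwc
    exact hw1 (Subgroup.mem_bot.1 (hVO ▸ ⟨hw, hwc⟩))
  have hp_normal : ∀ (P : Subgroup G), P.Normal → IsPGroup 2 P → P = ⊥ := fun P hP hPp =>
    eq_bot_iff.2 (hO ▸ Cores.le_pCore (hN := hP) hPp)
  have hZ : Subgroup.center G = ⊥ := by
    by_contra hne
    have hVZ : V ⊓ Subgroup.center G = ⊥ :=
      hp_normal _ ⟨fun x hx g => by rw [Subgroup.mem_center_iff.1 hx.2 g, mul_inv_cancel_right]; exact hx⟩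
        (hVp.to_le inf_le_left)
    obtain ⟨w, hw, hw1, hwc⟩ := hquot _ hne hVZ
    set M := (Cfsg.pCore 2 (G ⧸ Subgroup.center G)).comap (QuotientGroup.mk' (Subgroup.center G))
    have : Group.IsNilpotent (Cfsg.pCore 2 (G ⧸ Subgroup.center G)) :=
      Cores.pCore_isPGroup.isNilpotent
    have : Group.IsNilpotent M := by
      refine Subgroup.isNilpotent_of_ker_le_center
        (((QuotientGroup.mk' (Subgroup.center G)).comp M.subtype).codRestrict
          (Cfsg.pCore 2 (G ⧸ Subgroup.center G)) fun x => x.2) ?_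
      intro x hx
      have hx' : (x : G) ∈ Subgroup.center G := (QuotientGroup.eq_one_iff _).1 (congrArg Subtype.val hx)
      exact Subgroup.mem_center_iff.2 fun y => Subtype.ext (Subgroup.mem_center_iff.1 hx' y)
    have hwp : IsPGroup 2 (Subgroup.zpowers (⟨w, hwc⟩ : M)) :=
      (hVp.to_le (Subgroup.zpowers_le.2 hw)).comap_of_injective M.subtype M.subtype_injective
        |>.to_le (Subgroup.zpowers_le.2 (Subgroup.mem_zpowers w))
    obtain ⟨P, hP⟩ := hwp.exists_le_sylow
    have : (P : Subgroup M).Normal := inferInstance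
    have h := Cores.map_pCore_le_of_normal (p := 2) M (Subgroup.mem_map_of_mem M.subtype
      (Cores.le_pCore P.isPGroup' (hP (Subgroup.mem_zpowers _))))
    rw [hO, Subgroup.mem_bot] at h
    exact hw1 h
  have hproper : ∀ N : Subgroup G, N ≠ ⊥ → Subgroup.centralizer (N : Set G) ≠ ⊤ := by
    intro N hN ht
    rw [Subgroup.centralizer_eq_top_iff_subset] at ht
    exact hN (eq_bot_iff.2 (hZ ▸ ht))
  -- no element of `V` centralizes a normal subgroup
  have hfaith : ∀ N : Subgroup G, N.Normal → N ≠ ⊥ → ∀ a ∈ V, (∀ n ∈ N, n * a = a * n) → a = 1 := by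
    intro N hNn hN a ha hac
    by_contra ha1
    have := hNn
    set C := Subgroup.centralizer (N : Set G)
    have hW : V ⊓ C ≠ ⊥ := fun e => ha1 (Subgroup.mem_bot.1 (e ▸ ⟨ha, hac⟩))
    obtain ⟨w, hw, hw1, hwO⟩ := exists_mem_core hminG hV (hproper N hN) inf_le_left inf_le_right hW
      (fun h hh v hv hodd hinv => by
        by_cases hv1 : v = 1
        · subst hv1
          refine ⟨a, ⟨ha, hac⟩, ha1, ?_⟩
          have hh1 : h ^ 2 = 1 := by
            rw [pow_two]; exact mul_eq_one_iff_eq_inv.2 (by simpa using hinv)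
          obtain ⟨k, hk⟩ := hodd
          have := pow_orderOf_eq_one h
          rw [hk, pow_succ, pow_mul, hh1, one_pow, one_mul] at this
          rw [this, mul_one, one_mul]
        set D := Subgroup.centralizer ({v} : Set G) ⊓ Subgroup.centralizer ({h} : Set G) with hD
        have hDtop : D ≠ ⊤ := fun e => hv1 (Subgroup.mem_bot.1 (hZ ▸
          Subgroup.mem_center_iff.2 fun g => (Subgroup.mem_centralizer_singleton_iff.1
            ((show (⊤ : Subgroup G) ≤ D from e.ge) (Subgroup.mem_top g)).1)))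
        have hND : N ≤ D := fun n hn => ⟨Subgroup.mem_centralizer_singleton_iff.2 (hv.2 n hn),
          Subgroup.mem_centralizer_singleton_iff.2 (hh n hn)⟩
        obtain ⟨hne, hsid⟩ := S3013.result V hV hV1 hS v h hv.1 hodd hinv D hD
        obtain ⟨w, hw, hw1, hwO⟩ := exists_mem_core hminG hV hDtop inf_le_right inf_le_left hne
          (fun x hx u hu ho hi => by
            obtain ⟨z, hz, hz1, hzx⟩ := hsid ⟨x, hx⟩ ⟨u, hu.1⟩ hu (by rwa [← Subgroup.orderOf_coe])
              (Subtype.ext hi)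
            exact ⟨z, hz, fun e => hz1 (Subtype.ext e), congrArg Subtype.val hzx⟩)
        exact ⟨w, ⟨hw.2, fun n hn => core_centralizes hO (hNn.isSubnormal) hND
          (Components.le_normalizer_of_normal _) w hwO n hn⟩, hw1,
          Subgroup.mem_centralizer_singleton_iff.1 hw.1.2⟩)
    have h := Cores.map_pCore_le_of_normal (p := 2) C hwO
    rw [hO, Subgroup.mem_bot] at h
    exact hw1 h
  have hgen : ∀ N : Subgroup G, N.Normal → N ≠ ⊥ → V ⊔ N = ⊤ := by
    intro N hNn hN
    by_contra hne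
    have := hNn
    obtain ⟨w, hw, hw1, hwO⟩ := exists_mem_core hminG hV hne le_rfl le_sup_left hV1
      (fun h _ v hv ho hi => hS h v hv ho hi)
    exact hw1 (hfaith N hNn hN w hw (fun n hn =>
      core_centralizes hO hNn.isSubnormal le_sup_right (Components.le_normalizer_of_normal _) w hwO n hn))
  have hGne : (⊤ : Subgroup G) ≠ ⊥ := fun e => hV1 (eq_bot_iff.2 (e ▸ le_top))
  -- a minimal normal subgroup
  obtain ⟨N, ⟨hNn, hN⟩, hNmin⟩ := Set.Finite.exists_minimal (Set.toFinite {N : Subgroup G | N.Normal ∧ N ≠ ⊥})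
    ⟨⊤, inferInstance, hGne⟩
  have := hNn
  have huniq : ∀ M : Subgroup G, M.Normal → M ≠ ⊥ → N ≤ M := by
    intro M hMn hM
    have := hMn
    by_cases h : N ⊓ M = ⊥
    · exfalso
      refine hM (hp_normal M hMn fun m => ?_)
      obtain ⟨v, hv, n, hn, hm⟩ := Subgroup.mem_sup_of_normal_right.1
        (show (m : G) ∈ V ⊔ N by rw [hgen N hNn hN]; trivial)
      refine ⟨1, Subtype.ext ?_⟩
      have hsq : (m : G) ^ 2 ∈ N := by
        rw [← hm, pow_two, show v * n * (v * n) = (v * n * v⁻¹) * (v * v) * n by group, hv2 v hv, mul_one]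
        exact N.mul_mem (hNn.conj_mem n hn v) hn
      exact Subgroup.mem_bot.1 (h ▸ ⟨by simpa using hsq, (m ^ 2 ^ 1).2⟩)
    · exact le_trans (hNmin ⟨inferInstance, h⟩ inf_le_left) inf_le_right
  have hsubmin : ∀ M : Subgroup G, M ≤ N → M ≠ ⊥ → V ≤ Subgroup.normalizer (M : Set G) →
      N ≤ Subgroup.normalizer (M : Set G) → M = N := by
    intro M hM hM1 h1 h2
    have : M.Normal := Subgroup.normalizer_eq_top_iff.1 (eq_top_iff.2 (hgen N hNn hN ▸ sup_le h1 h2))
    exact le_antisymm hM (huniq M inferInstance hM1)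
  have hodd_elt : ∀ M : Subgroup G, M.IsSubnormal → M ≠ ⊥ → ∃ x ∈ M, x ≠ 1 ∧ Odd (orderOf x) := by
    intro M hM hM1
    by_contra hcon
    push Not at hcon
    have hMp : IsPGroup 2 M := by
      refine IsPGroup.of_card (n := (Nat.card M).primeFactorsList.length)
        (Nat.eq_prime_pow_of_unique_prime_dvd Nat.card_pos.ne' ?_)
      intro r hr hdvd
      by_contra hr2
      have := Fact.mk hr
      obtain ⟨x, hx⟩ := exists_prime_orderOf_dvd_card' r hdvd
      rw [← Subgroup.orderOf_coe] at hx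
      refine hcon x x.2 (fun e => hr.ne_one (by rw [← hx, e, orderOf_one])) ?_
      rw [hx]; exact hr.odd_of_ne_two hr2
    have h := Cores.map_pCore_le_of_isSubnormal (p := 2) hM
    rw [hO] at h
    refine hM1 (eq_bot_iff.2 fun x hx => h ⟨⟨x, hx⟩, Cores.le_pCore (hMp.to_subgroup ⊤) trivial, rfl⟩)
  have hnab : ¬ ∀ a ∈ N, ∀ b ∈ N, a * b = b * a := by
    intro hab
    obtain ⟨n, hn, hn1, hno⟩ := hodd_elt N hNn.isSubnormal hN
    have hinv : ∀ v ∈ V, v ≠ 1 → ∀ x ∈ N, v * x * v⁻¹ = x⁻¹ := by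
      intro v hv hv1 x hx
      have hfix : N ⊓ Subgroup.centralizer ({v} : Set G) = ⊥ := by
        by_contra hne
        refine hv1 (hfaith N hNn hN v hv fun m hm => ?_)
        have he := hsubmin _ inf_le_left hne ?_ ?_
        · exact Subgroup.mem_centralizer_singleton_iff.1 ((he.ge hm).2)
        · intro u hu
          rw [Subgroup.mem_normalizer_iff]
          have key : ∀ u ∈ V, ∀ y ∈ N ⊓ Subgroup.centralizer ({v} : Set G),
              u * y * u⁻¹ ∈ N ⊓ Subgroup.centralizer ({v} : Set G) := by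
            intro u hu y hy
            refine ⟨hNn.conj_mem y hy.1 u, Subgroup.mem_centralizer_singleton_iff.2 ?_⟩
            have h1 : Commute v y := (Subgroup.mem_centralizer_singleton_iff.1 hy.2).symm
            have h2 : Commute v u := hcomm v hv u hu
            exact ((h2.mul_right h1).mul_right h2.inv_right).symm
          intro y
          exact ⟨key u hu y, fun h => by simpa [mul_assoc] using key u⁻¹ (V.inv_mem hu) _ h⟩
        · intro u hu
          rw [Subgroup.mem_normalizer_iff]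
          intro y
          constructor
          · intro hy; rwa [hab u hu y hy.1, mul_inv_cancel_right]
          · intro hy
            have hyN : y ∈ N := by simpa [mul_assoc] using hNn.conj_mem _ hy.1 u⁻¹
            rwa [hab u hu y hyN, mul_inv_cancel_right] at hy
      have hm : v * x * v⁻¹ * x ∈ N ⊓ Subgroup.centralizer ({v} : Set G) := by
        refine ⟨N.mul_mem (hNn.conj_mem x hx v) hx, Subgroup.mem_centralizer_singleton_iff.2 ?_⟩
        have h1 : v * (v * x * v⁻¹ * x) * v⁻¹ = v * x * v⁻¹ * x := by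
          calc v * (v * x * v⁻¹ * x) * v⁻¹ = (v * v) * x * (v * v)⁻¹ * (v * x * v⁻¹) := by group
            _ = x * (v * x * v⁻¹) := by rw [hv2 v hv]; simp
            _ = v * x * v⁻¹ * x := hab x hx _ (hNn.conj_mem x hx v)
        conv_lhs => rw [← h1, inv_mul_cancel_right]
      rw [hfix, Subgroup.mem_bot] at hm
      exact eq_inv_of_mul_eq_one_left hm
    obtain ⟨v, hv, hv1⟩ := V.bot_or_exists_ne_one.resolve_left hV1
    obtain ⟨w, hw, hw1, hwn⟩ := hS n v hv hno (hinv v hv hv1 n hn)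
    have := hinv w hw hw1 n hn
    rw [hwn, mul_inv_cancel_right] at this
    obtain ⟨k, hk⟩ := hno
    have h1 := pow_orderOf_eq_one n
    rw [hk, pow_succ, pow_mul, pow_two, mul_eq_one_iff_eq_inv.2 this, one_pow, one_mul] at h1
    exact hn1 h1
  have hCN : Subgroup.centralizer (N : Set G) = ⊥ := by
    by_contra hne
    exact hnab fun a ha b hb => ((huniq _ inferInstance hne) hb a ha)
  -- a minimal normal subgroup of `N`
  obtain ⟨L, ⟨hLN, hL, hNL⟩, hLmin⟩ := Set.Finite.exists_minimal (Set.toFinite {L : Subgroup G | L ≤ N ∧ L ≠ ⊥ ∧ N ≤ Subgroup.normalizer (L : Set G)})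
    ⟨N, le_rfl, hN, Subgroup.le_normalizer⟩
  have hLsn : L.IsSubnormal := Subgroup.IsSubnormal.step L N hLN hNn.isSubnormal
    (Subgroup.normal_subgroupOf_of_le_normalizer hNL)
  set cj : G → Subgroup G := fun v => L.map (MulAut.conj v).toMonoidHom with hcj
  have hmem : ∀ v x, x ∈ cj v ↔ v⁻¹ * x * v ∈ L := by
    intro v x
    constructor
    · rintro ⟨l, hl, rfl⟩; simpa [mul_assoc] using hl
    · intro h; exact ⟨_, h, by simp [mul_assoc]⟩
  have hcjN : ∀ v, cj v ≤ N ∧ N ≤ Subgroup.normalizer ((cj v : Subgroup G) : Set G) := by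
    intro v
    refine ⟨?_, ?_⟩
    · rintro _ ⟨l, hl, rfl⟩; exact hNn.conj_mem l (hLN hl) v
    · intro n hn
      rw [Subgroup.mem_normalizer_iff]
      intro x
      rw [hmem, hmem, Subgroup.mem_normalizer_iff.1 (hNL (show v⁻¹ * n * v ∈ N by
        simpa using hNn.conj_mem n hn v⁻¹))]
      group
  have hdis : ∀ v, cj v ≠ L → ∀ a ∈ L, ∀ b ∈ cj v, a * b = b * a := by
    intro v hne a ha b hb
    have h0 : L ⊓ cj v = ⊥ := by
      by_contra h
      have h1 : L ≤ L ⊓ cj v := hLmin ⟨inf_le_left.trans hLN, h,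
        (le_inf hNL (hcjN v).2).trans Subgroup.inf_normalizer_le_normalizer_inf⟩ inf_le_left
      refine hne (Subgroup.eq_of_le_of_card_ge (h1.trans inf_le_right) ?_).symm
      rw [Subgroup.card_map_of_injective (MulAut.conj v).injective]
    refine commutatorElement_eq_one_iff_mul_comm.1 (Subgroup.mem_bot.1 (h0 ▸ ⟨?_, ?_⟩))
    · have := (Subgroup.mem_normalizer_iff.1 (hNL ((hcjN v).1 hb)) _).1 (inv_mem ha)
      simpa [commutatorElement_def, mul_assoc] using L.mul_mem ha this
    · have := (Subgroup.mem_normalizer_iff.1 ((hcjN v).2 (hLN ha)) _).1 hb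
      simpa [commutatorElement_def, mul_assoc] using (cj v).mul_mem this (inv_mem hb)
  have hspan : N = ⨆ v : V, cj v := by
    symm
    refine hsubmin _ (iSup_le fun v => (hcjN v).1) ?_ ?_ ?_
    · intro e
      refine hL (eq_bot_iff.2 (e ▸ le_iSup_of_le (⟨1, V.one_mem⟩ : V) ?_))
      intro l hl; rw [hmem]; simpa using hl
    · have hinv : ∀ u ∈ V, (⨆ v : V, cj v).map (MulAut.conj u).toMonoidHom ≤ ⨆ v : V, cj v := by
        intro u hu
        rw [Subgroup.map_iSup]
        refine iSup_le fun v => le_iSup_of_le (⟨u * v, V.mul_mem hu v.2⟩ : V) (le_of_eq ?_)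
        rw [hcj]; simp only [Subgroup.map_map]
        congr 1
        ext x
        simp [mul_assoc]
      intro u hu
      rw [Subgroup.mem_normalizer_iff]
      intro y
      refine ⟨fun h => hinv u hu ⟨y, h, rfl⟩, fun h => ?_⟩
      have := hinv u⁻¹ (V.inv_mem hu) ⟨_, h, rfl⟩
      simpa [mul_assoc] using this
    · intro n hn
      rw [Subgroup.mem_normalizer_iff]
      have hinv : ∀ n ∈ N, (⨆ v : V, cj v).map (MulAut.conj n).toMonoidHom ≤ ⨆ v : V, cj v := by
        intro n hn
        rw [Subgroup.map_iSup]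
        refine iSup_le fun v => le_iSup_of_le v ?_
        rintro _ ⟨x, hx, rfl⟩
        exact (Subgroup.mem_normalizer_iff.1 ((hcjN v).2 hn) x).1 hx
      intro y
      refine ⟨fun h => hinv n hn ⟨y, h, rfl⟩, fun h => ?_⟩
      have := hinv n⁻¹ (N.inv_mem hn) ⟨_, h, rfl⟩
      simpa [mul_assoc] using this
  have hsimple : ∀ K : Subgroup G, K ≤ L → L ≤ Subgroup.normalizer (K : Set G) → K = ⊥ ∨ K = L := by
    intro K hK hLK
    by_cases hK1 : K = ⊥
    · exact Or.inl hK1
    refine Or.inr (le_antisymm hK (hLmin ⟨hK.trans hLN, hK1, ?_⟩ hK))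
    rw [hspan]
    refine iSup_le fun v => ?_
    by_cases hv : cj v = L
    · exact hv ▸ hLK
    intro b hb
    rw [Subgroup.mem_normalizer_iff]
    intro y
    constructor
    · intro hy; rwa [← hdis v hv y (hK hy) b hb, mul_inv_cancel_right]
    · intro hy
      have := hdis v hv _ (hK hy) b hb
      rw [inv_mul_cancel_right] at this
      have h2 : b * y * b⁻¹ = y := mul_left_cancel (a := b) (by simpa [mul_assoc] using this.symm)
      rwa [h2] at hy
  have hLnc : ¬ ∀ a ∈ L, ∀ b ∈ L, a * b = b * a := by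
    intro hab
    apply hnab
    have h1 : N ≤ Subgroup.centralizer (N : Set G) := by
      rw [hspan]
      refine iSup_le fun v => Subgroup.le_centralizer_iff.1 (iSup_le fun u => ?_)
      intro x hx y hy
      have hvV := v.2
      have hv' := (hmem v y).1 hy
      have hx' : (v : G)⁻¹ * x * v ∈ cj ((v : G)⁻¹ * u) := by
        rw [hmem]
        simpa [mul_assoc] using (hmem u x).1 hx
      have key : ((v : G)⁻¹ * y * v) * ((v : G)⁻¹ * x * v) = ((v : G)⁻¹ * x * v) * ((v : G)⁻¹ * y * v) := by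
        by_cases h : cj ((v : G)⁻¹ * u) = L
        · exact hab _ hv' _ (h ▸ hx')
        · exact hdis _ h _ hv' _ hx'
      have := congrArg (fun z => (v : G) * z * (v : G)⁻¹) key
      simpa [mul_assoc] using this
    exact fun a ha b hb => (h1 hb a ha)
  have hperf : ⁅L, L⁆ = L := by
    refine (hsimple _ L.commutator_le_self (fun x hx => ?_)).resolve_left fun e => hLnc ?_
    · rw [Subgroup.mem_normalizer_iff]
      have key : ∀ x ∈ L, ⁅L, L⁆.map (MulAut.conj x).toMonoidHom ≤ ⁅L, L⁆ := fun x hx => by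
        rw [Subgroup.map_commutator]
        refine Subgroup.commutator_mono ?_ ?_ <;>
        · rintro _ ⟨l, hl, rfl⟩
          exact L.mul_mem (L.mul_mem hx hl) (L.inv_mem hx)
      exact fun y => ⟨fun h => key x hx ⟨y, h, rfl⟩, fun h => by
        simpa [mul_assoc] using key x⁻¹ (L.inv_mem hx) ⟨_, h, rfl⟩⟩
    intro a ha b hb
    exact commutatorElement_eq_one_iff_mul_comm.1
      (Subgroup.mem_bot.1 (e ▸ Subgroup.commutator_mem_commutator ha hb))
  have hZL : ∀ x ∈ L, (∀ c ∈ L, c * x = x * c) → x = 1 := by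
    intro x hx hc
    have hnorm : L ≤ Subgroup.normalizer ((L ⊓ Subgroup.centralizer (L : Set G) : Subgroup G) : Set G) :=
      (Subgroup.le_centralizer_iff.1 inf_le_right).trans (Subgroup.centralizer_le_normalizer _)
    rcases hsimple _ inf_le_left hnorm with e | e
    · exact Subgroup.mem_bot.1 (e ▸ ⟨hx, hc⟩)
    · exact absurd (fun a ha b hb => (e.ge hb).2 a ha) hLnc
  -- `V` normalizes `L`
  have hVL : V ≤ Subgroup.normalizer (L : Set G) := by
    by_contra hcon
    obtain ⟨v, hv, hvn⟩ := SetLike.not_le_iff_exists.1 hcon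
    have hcjne : ∀ u ∈ V, u ∉ Subgroup.normalizer (L : Set G) → cj u ≠ L := by
      intro u hu hun e
      refine hun ?_
      rw [Subgroup.mem_normalizer_iff]
      intro y
      constructor
      · intro hy; rw [← e]; exact ⟨y, hy, rfl⟩
      · intro hy; rw [← e, hmem] at hy; simpa [mul_assoc] using hy
    set U := V ⊓ Subgroup.normalizer (L : Set G) with hU
    by_cases hU1 : U = ⊥
    · obtain ⟨x, hx, hx1, hxo⟩ := hodd_elt L hLsn hL
      have hy : v * x * v⁻¹ ∈ cj v := ⟨x, hx, rfl⟩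
      have hcxy : Commute x (v * x * v⁻¹) := hdis v (hcjne v hv hvn) x hx _ hy
      have hho : Odd (orderOf (x * (v * x * v⁻¹)⁻¹)) := by
        refine (hxo.mul hxo).of_dvd_nat ?_
        have := hcxy.inv_right.orderOf_mul_dvd_mul_orderOf
        rwa [orderOf_inv, ← MulAut.conj_apply, MulEquiv.orderOf_eq] at this
      have hhi : v * (x * (v * x * v⁻¹)⁻¹) * v⁻¹ = (x * (v * x * v⁻¹)⁻¹)⁻¹ := by
        calc v * (x * (v * x * v⁻¹)⁻¹) * v⁻¹ = v * x * v⁻¹ * ((v * v) * x⁻¹ * (v * v)⁻¹) := by group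
          _ = v * x * v⁻¹ * x⁻¹ := by rw [hv2 v hv]; simp
          _ = _ := by group
      obtain ⟨w, hw, hw1, hwh⟩ := hS _ v hv hho hhi
      have hnorm : ∀ u ∈ V, u ≠ 1 → cj u ≠ L := fun u hu hu1 => hcjne u hu fun h =>
        hu1 (Subgroup.mem_bot.1 (hU1 ▸ ⟨hu, h⟩))
      have hcent : ∀ z ∈ L, Commute z x := by
        intro z hz
        have hv1 : v ≠ 1 := fun e => hvn (e ▸ one_mem _)
        by_cases hwv : w = v
        · subst hwv
          exfalso
          have h1 : x * (w * x * w⁻¹)⁻¹ = 1 := by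
            have h2 := hhi
            rw [hwh, mul_inv_cancel_right] at h2
            obtain ⟨k, hk⟩ := hho
            have h3 := pow_orderOf_eq_one (x * (w * x * w⁻¹)⁻¹)
            rwa [hk, pow_succ, pow_mul, pow_two, mul_eq_one_iff_eq_inv.2 h2, one_pow, one_mul] at h3
          have h4 : x ∈ cj w := by rwa [mul_inv_eq_one.1 h1]
          exact hx1 (hZL x hx fun c hc => hdis w (hnorm w hw hw1) c hc x h4)
        have hwvV : w * v ∈ V := V.mul_mem hw hv
        have c1 : Commute z (w * x * w⁻¹) := hdis w (hnorm w hw hw1) z hz _ ⟨x, hx, rfl⟩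
        have hwv1 : w * v ≠ 1 := fun e => hwv (by
          rw [← hvi v hv]; exact eq_inv_of_mul_eq_one_left e)
        have c2 : Commute z (w * v * x * (w * v)⁻¹) :=
          hdis (w * v) (hnorm _ hwvV hwv1) z hz _ ⟨x, hx, rfl⟩
        have c3 : Commute z (v * x * v⁻¹) := hdis v (hcjne v hv hvn) z hz _ hy
        have e : x = (w * x * w⁻¹) * (w * v * x * (w * v)⁻¹)⁻¹ * (v * x * v⁻¹) := by
          have h1 : w * (x * (v * x * v⁻¹)⁻¹) * w⁻¹ = x * (v * x * v⁻¹)⁻¹ := by
            rw [hwh, mul_inv_cancel_right]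
          calc x = x * (v * x * v⁻¹)⁻¹ * (v * x * v⁻¹) := by group
            _ = w * (x * (v * x * v⁻¹)⁻¹) * w⁻¹ * (v * x * v⁻¹) := by rw [h1]
            _ = _ := by group
        exact e ▸ (c1.mul_right c2.inv_right).mul_right c3
      exact hx1 (hZL x hx fun c hc => hcent c hc)
    · set H := L ⊔ U with hH
      have hLH : H ≤ Subgroup.normalizer (L : Set G) := sup_le Subgroup.le_normalizer inf_le_right
      have hHtop : H ≠ ⊤ := fun e => hvn (hLH (e ▸ Subgroup.mem_top v))
      obtain ⟨w, hw, hw1, hwO⟩ := exists_mem_core hminG hV hHtop inf_le_left le_sup_right hU1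
        (fun h hh u hu ho hi => by
          obtain ⟨z, hz, hz1, hzh⟩ := hS h u hu.1 ho hi
          by_cases h1 : h = 1
          · obtain ⟨t, ht, ht1⟩ := U.bot_or_exists_ne_one.resolve_left hU1
            exact ⟨t, ht, ht1, by simp [h1]⟩
          refine ⟨z, ⟨hz, ?_⟩, hz1, hzh⟩
          by_contra hzn
          have hhL : h ∈ L := by
            have hh' : h ∈ ((L ⊔ U : Subgroup G) : Set G) := hh
            rw [Subgroup.coe_mul_of_right_le_normalizer_left L U inf_le_right] at hh'
            obtain ⟨l, hl, t, ht, rfl⟩ := hh'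
            have hsq : (l * t) ^ 2 ∈ L := by
              rw [pow_two, show l * t * (l * t) = l * (t * l * t⁻¹) * (t * t) by group, hv2 t ht.1, mul_one]
              exact L.mul_mem hl ((Subgroup.mem_normalizer_iff.1 ht.2 l).1 hl)
            obtain ⟨m, hm⟩ := exists_pow_eq_self_of_coprime (x := l * t) (n := 2) (Nat.coprime_two_left.2 ho)
            show l * t ∈ L; rw [← hm]; exact L.pow_mem hsq m
          have hc : h ∈ cj z := ⟨h, hhL, by
            show z * h * z⁻¹ = h
            rw [hzh, mul_inv_cancel_right]⟩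
          exact h1 (hZL h hhL fun c hc' => hdis z (hcjne z hz hzn) c hc' h hc))
      have hwL := core_centralizes hO hLsn le_sup_left hLH w hwO
      refine hw1 (hfaith N hNn hN w hw.1 fun n hn => ?_)
      have : N ≤ Subgroup.centralizer ({w} : Set G) := by
        rw [hspan]
        refine iSup_le fun u => ?_
        rintro _ ⟨l, hl, rfl⟩
        rw [Subgroup.mem_centralizer_singleton_iff]
        have c1 : Commute w (u : G) := hcomm w hw.1 u u.2
        exact ((c1.mul_right (hwL l hl).symm).mul_right c1.inv_right).symm.eq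
      exact Subgroup.mem_centralizer_singleton_iff.1 (this hn)
  have hLeq : L = N := hsubmin L hLN hL hVL hNL
  subst hLeq
  have : Nontrivial L := (Subgroup.nontrivial_iff_ne_bot L).2 hL
  have hLsimp : IsSimpleGroup L := ⟨fun M hM => by
    rcases hsimple (M.map L.subtype) (Subgroup.map_subtype_le M) (by
      intro x hx
      rw [Subgroup.mem_normalizer_iff]
      intro y
      constructor
      · rintro ⟨m, hm, rfl⟩
        exact ⟨_, hM.conj_mem m hm ⟨x, hx⟩, rfl⟩
      · rintro ⟨m, hm, hmy⟩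
        refine ⟨_, hM.conj_mem m hm ⟨x, hx⟩⁻¹, ?_⟩
        simp only [Subgroup.coe_subtype, Subgroup.coe_mul, InvMemClass.coe_inv] at hmy ⊢
        rw [hmy]; group) with e | e
    · left; rwa [Subgroup.map_eq_bot_iff_of_injective _ L.subtype_injective] at e
    · right
      refine eq_top_iff.2 fun x _ => ?_
      obtain ⟨m, hm, hmx⟩ := e.ge x.2
      rwa [Subtype.ext hmx] at hm⟩
  have hcomp : Cfsg.IsComponent L := by
    refine ⟨hLsn, Components.qs_of_perfect (Subgroup.isPerfect_iff.2 hperf) fun M hM hMt => ?_⟩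
    rcases hLsimp.eq_bot_or_eq_top_of_normal M hM with e | e
    · simp [e]
    · exact absurd e hMt
  have hF : Cfsg.generalizedFittingSubgroup G = L := by
    refine le_antisymm (sup_le (sSup_le fun K hK => ?_) (sSup_le fun M hM => ?_))
      ((Components.component_le_layer hcomp).trans Components.layer_le_genFitting)
    · by_contra hne
      have hKL : K ≠ L := fun e => hne e.le
      refine Components.qsSub_ne_bot hK.2 (eq_bot_iff.2 (hCN ▸ ?_))
      exact Subgroup.commutator_eq_bot_iff_le_centralizer.1 (Components.components_commute hK hcomp hKL)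
    · by_cases hM1 : M = ⊥
      · simp [hM1]
      have : Group.IsNilpotent M := hM.2
      exact absurd (huniq M hM.1 hM1)
        (Components.qsSub_not_le_of_isSolvable hcomp.2 inferInstance)
  rw [hF]
  exact ⟨hLsimp, fun h => hnab fun a ha b hb => congrArg Subtype.val (h.is_comm.comm ⟨a, ha⟩ ⟨b, hb⟩),
    hgen L hNn hN⟩

end Cfsg.Agent.S3048
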