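import Cfsg.Statements.S3049
import Cfsg.Agent.Components.Layer
import Cfsg.Agent.Fusion.Frobenius
import Cfsg.Agent.Thompson.ZJ
import Cfsg.Agent.PGroups.MaxAbelian
import Cfsg.Agent.H62.CoprimeFix
import Cfsg.Agent.Coprime.Basic
import Cfsg.Prelude.Def_CaseTheorems
-- import your own Cfsg.Agent.* helpers here

set_option autoImplicit false
open Cfsg

namespace Cfsg.Agent.S3049

open Subgroup

variable {G : Type*} [Group G] [Finite G] {p : ℕ} [Fact p.Prime]

/-- In rank two, a third commuting element of order `p` is a product of powers of two others. -/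
theorem exists_zpow_mul (hrank : Cfsg.PRankLE p 2 G) {a b e : G} (ha : a ^ p = 1) (hb : b ^ p = 1)
    (he : e ^ p = 1) (hab : Commute a b) (hae : Commute a e) (hbe : Commute b e)
    (ha1 : a ≠ 1) (hba : b ∉ zpowers a) : ∃ i j : ℤ, e = a ^ i * b ^ j := by
  have hp : p.Prime := Fact.out
  have hcA : IsMulCommutative ↑(zpowers a ⊔ zpowers b : Subgroup G) :=
    PGroups.isMulCommutative_sup_zpowers inferInstance (Subgroup.mem_centralizer_iff.mpr (by
      rintro _ ⟨k, rfl⟩; exact (hab.zpow_left k).eq))
  have hexp : ∀ (A : Subgroup G) (y : G), IsMulCommutative A → (∀ u ∈ A, u ^ p = 1) → y ^ p = 1 →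
      (∀ u ∈ A, Commute u y) → ∀ w ∈ A ⊔ zpowers y, w ^ p = 1 := by
    intro A y hA hAp hy hcomm w hw
    have hnorm : zpowers y ≤ normalizer (A : Set G) := by
      rw [zpowers_le, Subgroup.mem_normalizer_iff]
      intro u
      constructor
      · intro hu; rw [← (hcomm u hu).eq]; simpa
      · intro hu
        have h := hcomm _ hu
        have : u = y * u * y⁻¹ := by
          calc u = y⁻¹ * (y * u * y⁻¹) * y := by group
            _ = y⁻¹ * (y * (y * u * y⁻¹)) := by rw [mul_assoc, h.eq]
            _ = y * u * y⁻¹ := by group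
        rwa [this]
    obtain ⟨u, hu, _, ⟨k, rfl⟩, rfl⟩ := (Coprime.mem_sup_iff hnorm).mp hw
    rw [((hcomm u hu).zpow_right k).mul_pow, hAp u hu, one_mul, ← zpow_natCast, ← zpow_mul,
      mul_comm, zpow_mul, zpow_natCast, hy, one_zpow]
  have hA : ∀ u ∈ zpowers a ⊔ zpowers b, u ^ p = 1 := by
    refine hexp _ b inferInstance ?_ hb ?_
    · rintro _ ⟨k, rfl⟩
      rw [← zpow_natCast, ← zpow_mul, mul_comm, zpow_mul, zpow_natCast, ha, one_zpow]
    · rintro _ ⟨k, rfl⟩; exact hab.zpow_left k
  have hcent : ∀ u ∈ zpowers a ⊔ zpowers b, Commute u e := by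
    intro u hu
    have : zpowers a ⊔ zpowers b ≤ centralizer ({e} : Set G) := sup_le
      (zpowers_le.mpr (Subgroup.mem_centralizer_singleton_iff.mpr hae.eq))
      (zpowers_le.mpr (Subgroup.mem_centralizer_singleton_iff.mpr hbe.eq))
    exact Subgroup.mem_centralizer_singleton_iff.mp (this hu)
  have hB := hexp _ e hcA hA he hcent
  have hcB : IsMulCommutative ↑((zpowers a ⊔ zpowers b) ⊔ zpowers e : Subgroup G) :=
    PGroups.isMulCommutative_sup_zpowers hcA
      (Subgroup.mem_centralizer_iff.mpr fun u hu => (hcent u hu).eq)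
  have hcard := hrank _ hcB hB
  have hPG : IsPGroup p ↑((zpowers a ⊔ zpowers b) ⊔ zpowers e : Subgroup G) := fun u =>
    ⟨1, Subtype.ext (by simpa using hB u u.2)⟩
  have hcard' : p ^ 2 ≤ Nat.card ↑(zpowers a ⊔ zpowers b : Subgroup G) := by
    obtain ⟨j, hj⟩ := IsPGroup.iff_card.mp (hPG.to_le (le_sup_left : zpowers a ⊔ zpowers b ≤ _))
    have h1 : Nat.card (zpowers a) = p := by rw [Nat.card_zpowers, orderOf_eq_prime ha ha1]
    have hlt : zpowers a < zpowers a ⊔ zpowers b :=
      lt_of_le_of_ne le_sup_left fun h => hba (h.ge (mem_sup_right (mem_zpowers b)))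
    have hltc : Nat.card (zpowers a) < Nat.card ↑(zpowers a ⊔ zpowers b : Subgroup G) :=
      Set.ncard_lt_ncard (SetLike.coe_ssubset_coe.mpr hlt) (Set.toFinite _)
    rw [h1, hj] at hltc
    rw [hj]
    refine Nat.pow_le_pow_right hp.pos ?_
    by_contra h
    have : p ^ j ≤ p ^ 1 := Nat.pow_le_pow_right hp.pos (by omega)
    rw [pow_one] at this
    omega
  have heq := Subgroup.eq_of_le_of_card_ge
    (le_sup_left : zpowers a ⊔ zpowers b ≤ (zpowers a ⊔ zpowers b) ⊔ zpowers e) (hcard.trans hcard')
  have he' : e ∈ zpowers a ⊔ zpowers b := heq.ge (mem_sup_right (mem_zpowers e))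
  have hn : zpowers b ≤ normalizer (zpowers a : Set G) := by
    refine zpowers_le.mpr (Subgroup.centralizer_le_normalizer (zpowers a : Set G) ?_)
    rw [Subgroup.mem_centralizer_iff]
    rintro _ ⟨k, rfl⟩; exact (hab.zpow_left k).eq
  obtain ⟨_, ⟨i, rfl⟩, _, ⟨j, rfl⟩, hij⟩ := (Coprime.mem_sup_iff hn).mp he'
  exact ⟨i, j, hij.symm⟩

/-- Trivial fusion of the elements of order `p` gives a normal `p`-complement (`p` odd). -/
theorem hasNormalPComplement_of_fusion {H : Type*} [Group H] [Finite H] (hp : p ≠ 2) (P : Sylow p H)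
    (h : ∀ e ∈ (P : Subgroup H), e ^ p = 1 → ∀ g : H, g * e * g⁻¹ ∈ (P : Subgroup H) → g * e * g⁻¹ = e) :
    Cfsg.HasNormalPComplement p H := by
  refine (Fusion.frobenius_criterion P).mpr fun Q hQ g hg hgp => ?_
  have hfix := H62.fix_all (P.isPGroup'.to_le hQ) (H62.conjAut Q hg) hgp (H62.conjAut_pow_orderOf Q hg)
    (fun e he => Subtype.ext (by
      rw [H62.conjAut_coe]
      exact h e (hQ e.2) (by simpa using congrArg Subtype.val he) g
        (hQ ((Subgroup.mem_normalizer_iff.mp hg e).mp e.2))))
    (fun h2 => absurd h2 hp)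
  refine Subgroup.mem_centralizer_iff.mpr fun u hu => ?_
  have := congrArg (fun a : MulAut Q => ((a ⟨u, hu⟩ : Q) : H)) hfix
  simp only [H62.conjAut_coe, MulAut.one_apply] at this
  exact (mul_inv_eq_iff_eq_mul.mp this).symm

/-- An isolated element is central in every Sylow subgroup containing it. -/
theorem isolated_commute (x : G) (hiso : Cfsg.IsIsolated x) (P : Sylow p G) (hxP : x ∈ (P : Subgroup G))
    {u : G} (hu : u ∈ (P : Subgroup G)) : Commute x u := by
  let x' : (P : Subgroup G) := ⟨x, hxP⟩
  suffices centralizer ({x'} : Set (P : Subgroup G)) = ⊤ by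
    have h := Subgroup.mem_centralizer_singleton_iff.mp (this.ge (Subgroup.mem_top ⟨u, hu⟩))
    exact (congrArg Subtype.val h).symm
  by_contra hne
  obtain ⟨v, hv, hvn⟩ := SetLike.exists_of_lt (PGroups.lt_normalizer P.isPGroup' hne)
  apply hvn
  have hx' : x' ∈ centralizer ({x'} : Set (P : Subgroup G)) :=
    Subgroup.mem_centralizer_singleton_iff.mpr rfl
  have hmem := Subgroup.mem_centralizer_singleton_iff.mp ((Subgroup.mem_normalizer_iff.mp hv x').mp hx')
  have heq := hiso (v : G) (congrArg Subtype.val hmem).symm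
  refine Subgroup.mem_centralizer_singleton_iff.mpr (Subtype.ext ?_)
  exact mul_inv_eq_iff_eq_mul.mp heq

omit [Finite G] in
/-- Powers of an isolated element of prime order are isolated. -/
theorem isolated_zpow {x : G} (hxp : x ^ p = 1) (hiso : Cfsg.IsIsolated x) (i : ℤ) (g : G)
    (hc : Commute x (g * x ^ i * g⁻¹)) : g * x ^ i * g⁻¹ = x ^ i := by
  by_cases h1 : x ^ i = 1
  · rw [h1]; simp
  have hgcd : zpowers (x ^ i) = zpowers x := by
    have hx1 : x ≠ 1 := fun h => h1 (by rw [h, one_zpow])
    have ho : orderOf x = p := orderOf_eq_prime hxp hx1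
    have ho' : orderOf (x ^ i) = p := orderOf_eq_prime
      (by rw [← zpow_natCast, ← zpow_mul, mul_comm, zpow_mul, zpow_natCast, hxp, one_zpow]) h1
    have hfin : Finite (zpowers x) :=
      Nat.finite_of_card_ne_zero (by rw [Nat.card_zpowers, ho]; exact (Fact.out : p.Prime).ne_zero)
    exact Subgroup.eq_of_le_of_card_ge (zpowers_le.mpr (zpow_mem (mem_zpowers x) i))
      (by rw [Nat.card_zpowers, Nat.card_zpowers, ho, ho'])
  obtain ⟨k, hk⟩ := Subgroup.mem_zpowers_iff.mp (hgcd.ge (mem_zpowers x))
  have h2 : g * x * g⁻¹ = x := hiso g (by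
    have := hc.zpow_right k
    rw [conj_zpow, hk] at this
    exact this)
  rw [← conj_zpow, h2]

/-- A subnormal subgroup with a normal complement for a Sylow subgroup is a `p`-group if `O_{p'}(G)` is trivial. -/
theorem isPGroup_of_complement (hcore : Cfsg.pPrimeCore p G = ⊥) {M : Subgroup G} (hM : M.IsSubnormal)
    (h : Cfsg.HasNormalPComplement p M) : IsPGroup p M := by
  obtain ⟨T, N, hN, hcompl⟩ := h
  have hNp : ¬ p ∣ Nat.card N := Fusion.not_dvd_card_of_isComplement' T hcompl
  have hcop : (Nat.card (N.map M.subtype)).Coprime p := by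
    rw [Subgroup.card_map_of_injective M.subtype_injective, Nat.coprime_comm,
      (Fact.out : p.Prime).coprime_iff_not_dvd]
    exact hNp
  have hbot := Cores.le_pPrimeCore_of_isSubnormal
    (Components.isSubnormal_map_subtype (T := M) (A := N) (hN.isSubnormal) hM) hcop
  rw [hcore, le_bot_iff, (Subgroup.map_eq_bot_iff_of_injective N M.subtype_injective)] at hbot
  subst hbot
  have htop : (T : Subgroup M) = ⊤ := Subgroup.isComplement'_bot_left.mp hcompl
  exact T.isPGroup'.of_equiv ((MulEquiv.subgroupCongr htop).trans Subgroup.topEquiv)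


/-- Let G be a finite group and p an odd prime with O_{p'}(G) = 1. Suppose that G has p-rank at most 2 (no elementary abelian subgroup of order p³) and that some element x of order p is isolated in G (no G-conjugate of x other than x commutes with x) and not central. Then the generalized Fitting subgroup F*(G) is a non-abelian simple group. Since O_{p'}(G) = 1, such an x is not central modulo O_{p'}(G): the hypotheses describe a counterexample to the Z*_p statement in p-rank at most 2. -/
theorem result {G : Type*} [Group G] [Finite G] {p : ℕ} [Fact p.Prime] (hp : p ≠ 2) (hcore : Cfsg.pPrimeCore p G = ⊥)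
    (hrank : Cfsg.PRankLE p 2 G) (x : G) (hx : orderOf x = p) (hiso : Cfsg.IsIsolated x) (hnc : x ∉ Subgroup.center G) :
    IsSimpleGroup ↥(Cfsg.generalizedFittingSubgroup G) ∧ ¬ IsMulCommutative ↥(Cfsg.generalizedFittingSubgroup G) := by
  classical
  have hpp : p.Prime := Fact.out
  have hxp : x ^ p = 1 := hx ▸ pow_orderOf_eq_one x
  have hx1 : x ≠ 1 := fun h => hpp.ne_one (by rw [← hx, h, orderOf_one])
  obtain ⟨P, hP⟩ := (IsPGroup.of_card (G := zpowers x) (n := 1)
    (by rw [Nat.card_zpowers, hx, pow_one])).exists_le_sylow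
  have hxP : x ∈ (P : Subgroup G) := hP (mem_zpowers x)
  have hcomm : ∀ u ∈ (P : Subgroup G), Commute x u := fun u hu => isolated_commute x hiso P hxP hu
  -- the `p`-core is trivial
  have hQbot : Cfsg.pCore p G = ⊥ := by
    by_contra hQne
    let Q := Cfsg.pCore p G
    have hQp : IsPGroup p Q := Components.isPGroup_pCore p
    haveI hQn : Q.Normal := Cfsg.pCore_normal p G
    have hQP : Q ≤ (P : Subgroup G) :=
      le_sup_right.trans_eq (P.3 (P.isPGroup'.to_sup_of_normal_right hQp) le_sup_left)
    have hxQ : x ∉ Q := fun h => hnc (Subgroup.mem_center_iff.mpr fun g => by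
      have := hiso g (hcomm _ (hQP (hQn.conj_mem x h g)))
      exact mul_inv_eq_iff_eq_mul.mp this)
    haveI : (Q.subgroupOf (P : Subgroup G)).Normal := hQn.subgroupOf _
    obtain ⟨z', hz'c, hz'Q, hz'o⟩ : ∃ z' : (P : Subgroup G), z' ∈ center (P : Subgroup G) ∧
        z' ∈ Q.subgroupOf (P : Subgroup G) ∧ orderOf z' = p := by
      have hne : Q.subgroupOf (P : Subgroup G) ⊓ center (P : Subgroup G) ≠ ⊥ :=
        PGroups.inf_center_ne_bot P.isPGroup' _ (fun h => hQne (by
          rw [Subgroup.subgroupOf_eq_bot, disjoint_iff, inf_eq_left.mpr hQP] at h; exact h))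
      obtain ⟨z', hz', ho⟩ := PGroups.exists_orderOf_eq P.isPGroup' hne
      exact ⟨z', hz'.2, hz'.1, ho⟩
    set z : G := (z' : G) with hz
    have hzQ : z ∈ Q := hz'Q
    have hzp : z ^ p = 1 := by
      have h := pow_orderOf_eq_one z'
      rw [hz'o] at h
      simpa [hz] using congrArg Subtype.val h
    have hzc : ∀ u ∈ (P : Subgroup G), Commute z u := fun u hu =>
      (congrArg Subtype.val (Subgroup.mem_center_iff.mp hz'c ⟨u, hu⟩)).symm
    have hzx : z ∉ zpowers x := by
      intro h
      have : zpowers z = zpowers x := Subgroup.eq_of_le_of_card_ge (zpowers_le.mpr h) (by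
        rw [Nat.card_zpowers, Nat.card_zpowers, hx, hz, Subgroup.orderOf_coe, hz'o])
      exact hxQ (zpowers_le.mpr hzQ (this.ge (mem_zpowers x)))
    let M := centralizer (Q : Set G)
    haveI : M.Normal := inferInstance
    have hxM : x ∈ M := Subgroup.mem_centralizer_iff.mpr fun u hu => (hcomm u (hQP hu)).symm.eq
    obtain ⟨T, hT⟩ := Thompson.exists_sylow_inf_normal P M
    have hTP : ∀ w : M, w ∈ (T : Subgroup M) ↔ (w : G) ∈ (P : Subgroup G) := fun w => by
      constructor
      · intro hw
        exact (hT.le (Subgroup.mem_map_of_mem M.subtype hw)).1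
      · intro hw
        obtain ⟨w', hw', he⟩ := hT.ge ⟨hw, w.2⟩
        rwa [← M.subtype_injective he]
    have hM := isPGroup_of_complement hcore (Subgroup.Normal.isSubnormal inferInstance)
      (hasNormalPComplement_of_fusion hp T fun e heT he g hg => by
        have heP := (hTP e).mp heT
        have hgP := (hTP _).mp hg
        obtain ⟨i, j, hij⟩ := exists_zpow_mul hrank hxp hzp
          (show (e : G) ^ p = 1 by simpa using congrArg Subtype.val he)
          (hcomm z z'.2) (hcomm e heP) (hzc e heP) hx1 hzx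
        apply Subtype.ext
        simp only [Subgroup.coe_mul, InvMemClass.coe_inv] at hgP ⊢
        have hgz : (g : G) * z ^ j * (g : G)⁻¹ = z ^ j :=
          mul_inv_eq_iff_eq_mul.mpr (Subgroup.mem_centralizer_iff.mp g.2 _ (zpow_mem hzQ j)).symm
        have hsplit : (g : G) * e * (g : G)⁻¹ = ((g : G) * x ^ i * (g : G)⁻¹) * z ^ j := by
          calc (g : G) * e * (g : G)⁻¹ = ((g : G) * x ^ i * (g : G)⁻¹) * ((g : G) * z ^ j * (g : G)⁻¹) := by
                rw [hij]; group
            _ = _ := by rw [hgz]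
        have hxi : (g : G) * x ^ i * (g : G)⁻¹ ∈ (P : Subgroup G) := by
          have := mul_mem hgP (inv_mem (zpow_mem z'.2 j))
          rw [hsplit, mul_inv_cancel_right] at this
          exact this
        rw [hsplit, isolated_zpow hxp hiso i g (hcomm _ hxi), hij])
    exact hxQ (Components.le_pCore inferInstance hM hxM)
  -- the Fitting subgroup is trivial
  have hFbot : Cfsg.fittingSubgroup G = ⊥ := by
    rw [Components.fitting_eq_iSup_pCore, iSup_eq_bot]
    intro q
    haveI := Fact.mk (Nat.prime_of_mem_primeFactors q.2)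
    by_cases hqp : (q : ℕ) = p
    · rw [hqp]; exact hQbot
    · haveI : (Cfsg.pCore (q : ℕ) G).Normal := Cfsg.pCore_normal _ G
      obtain ⟨k, hk⟩ := IsPGroup.iff_card.mp (Components.isPGroup_pCore (G := G) (q : ℕ))
      have := Cores.le_pPrimeCore (p := p) (N := Cfsg.pCore (q : ℕ) G) (by
        rw [hk]
        exact ((Nat.coprime_primes (Nat.prime_of_mem_primeFactors q.2) hpp).mpr hqp).pow_left k)
      rwa [hcore, le_bot_iff] at this
  have hgen : Cfsg.generalizedFittingSubgroup G = Cfsg.layer G := by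
    rw [Cfsg.generalizedFittingSubgroup, hFbot, sup_bot_eq]
  -- components
  have hcenK : ∀ K : Subgroup G, Cfsg.IsComponent K → center K = ⊥ := by
    intro K hK
    letI : CommGroup (center K) :=
      { (inferInstance : Group (center K)) with
        mul_comm := fun a b => Subtype.ext (Subgroup.mem_center_iff.mp b.2 a) }
    have h1 := Components.subnormal_nilpotent_le_fitting
      (Components.isSubnormal_map_subtype (T := K) (A := center K)
        (Subgroup.Normal.isSubnormal inferInstance) hK.1)
      (Components.isNilpotent_map K.subtype (center K) (CommGroup.isNilpotent (G := center K)))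
    rw [hFbot, le_bot_iff, Subgroup.map_eq_bot_iff_of_injective _ K.subtype_injective] at h1
    exact h1
  have hdisj : ∀ K L : Subgroup G, Cfsg.IsComponent K → Cfsg.IsComponent L → K ≠ L →
      ∀ u ∈ K, u ∈ centralizer (K : Set G) → u = 1 := by
    intro K L hK hL _ u huK huc
    have h : (⟨u, huK⟩ : K) ∈ center K := Subgroup.mem_center_iff.mpr fun v =>
      Subtype.ext (Subgroup.mem_centralizer_iff.mp huc v v.2)
    rw [hcenK K hK, Subgroup.mem_bot] at h
    exact congrArg Subtype.val h
  have hcomp_comm : ∀ K L : Subgroup G, Cfsg.IsComponent K → Cfsg.IsComponent L → K ≠ L →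
      ∀ u ∈ K, ∀ v ∈ L, Commute u v := fun K L hK hL hne u hu v hv =>
    Components.commute_of_commutator_eq_bot (Components.components_commute hK hL hne) hu hv
  have hdvd : ∀ K : Subgroup G, Cfsg.IsComponent K → p ∣ Nat.card K := by
    intro K hK
    by_contra h
    have := Cores.le_pPrimeCore_of_isSubnormal (p := p) hK.1
      (Nat.coprime_comm.mp (hpp.coprime_iff_not_dvd.mpr h))
    rw [hcore, le_bot_iff] at this
    exact Components.qsSub_ne_bot hK.2 this
  have hlayer_n : (Cfsg.layer G).Normal := by infer_instance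
  -- Sylow subgroups of components
  have hsylK : ∀ K : Subgroup G, Cfsg.IsComponent K →
      ∃ T : Sylow p K, (T : Subgroup K).map K.subtype = (P : Subgroup G) ⊓ K := by
    intro K hK
    obtain ⟨T1, hT1⟩ := Thompson.exists_sylow_inf_normal P (Cfsg.layer G)
    haveI := Components.component_normal_in_layer hK
    obtain ⟨T2, hT2⟩ := Thompson.exists_sylow_inf_normal T1 (K.subgroupOf (Cfsg.layer G))
    have hKL := Components.component_le_layer hK
    let e := Subgroup.subgroupOfEquivOfLe hKL
    refine ⟨T2.mapSurjective (f := e.toMonoidHom) e.surjective, ?_⟩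
    have h1 : ((T2 : Subgroup _).map (K.subgroupOf (Cfsg.layer G)).subtype).map (Cfsg.layer G).subtype =
        (P : Subgroup G) ⊓ K := by
      rw [hT2, Subgroup.map_inf _ _ _ (Cfsg.layer G).subtype_injective, hT1,
        Subgroup.map_subgroupOf_eq_of_le hKL, inf_assoc, inf_eq_right.mpr hKL]
    rw [← h1]
    show ((T2 : Subgroup _).map e.toMonoidHom).map K.subtype = _
    rw [Subgroup.map_map, Subgroup.map_map]
    rfl
  have hexK : ∀ K : Subgroup G, Cfsg.IsComponent K → ∃ a ∈ K, a ∈ (P : Subgroup G) ∧ orderOf a = p := by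
    intro K hK
    obtain ⟨T, hT⟩ := hsylK K hK
    have hd : p ∣ Nat.card T := by
      by_contra h
      exact T.not_dvd_index ((hpp.dvd_mul.mp
        (by rw [Subgroup.card_mul_index]; exact hdvd K hK)).resolve_left h)
    obtain ⟨a, ha⟩ := exists_prime_orderOf_dvd_card' p hd
    have hm : ((a : K) : G) ∈ (P : Subgroup G) ⊓ K := hT.le (Subgroup.mem_map_of_mem K.subtype a.2)
    exact ⟨_, hm.2, hm.1, by rw [Subgroup.orderOf_coe, Subgroup.orderOf_coe]; exact ha⟩
  -- no component is `p`-nilpotent
  have hnotnil : ∀ K : Subgroup G, Cfsg.IsComponent K → ¬ Cfsg.HasNormalPComplement p K := by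
    intro K hK h
    have hKp := isPGroup_of_complement hcore hK.1 h
    haveI := hKp.isNilpotent
    exact Components.qs_not_isSolvable hK.2 inferInstance
  -- two components and a product decomposition of `x` is impossible
  have htwo : ∀ K L : Subgroup G, Cfsg.IsComponent K → Cfsg.IsComponent L → K ≠ L →
      ∀ u v : G, u ∈ K → v ∈ L → u ∈ (P : Subgroup G) → v ∈ (P : Subgroup G) → u ^ p = 1 → u ≠ 1 →
      x = u * v → False := by
    intro K L hK hL hne u v huK hvL huP hvP hup hu1 huv
    obtain ⟨b, hbL, hbP, hbo⟩ := hexK L hL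
    have hbp : b ^ p = 1 := hbo ▸ pow_orderOf_eq_one b
    have hb1 : b ≠ 1 := fun h => hpp.ne_one (by rw [← hbo, h, orderOf_one])
    have hKL1 : ∀ w ∈ K, w ∈ L → w = 1 := fun w hwK hwL => hdisj K L hK hL hne w hwK
      (Subgroup.mem_centralizer_iff.mpr fun t ht => (hcomp_comm K L hK hL hne t ht w hwL).eq)
    have hbu : b ∉ zpowers u := fun h => hb1 (hKL1 b (zpowers_le.mpr huK h) hbL)
    obtain ⟨T, hT⟩ := hsylK K hK
    have hTP : ∀ w : K, w ∈ (T : Subgroup K) → (w : G) ∈ (P : Subgroup G) := fun w hw =>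
      (hT.le (Subgroup.mem_map_of_mem K.subtype hw)).1
    refine hnotnil K hK (hasNormalPComplement_of_fusion hp T fun e heT he g hg => ?_)
    have heP := hTP e heT
    have hgP := hTP _ hg
    have hvcomm : Commute u v := hcomp_comm K L hK hL hne u huK v hvL
    have hue : Commute u (e : G) := by
      have h1 : Commute x (e : G) := hcomm e heP
      rw [huv] at h1
      have h2 : Commute (v⁻¹) (e : G) := ((hcomp_comm K L hK hL hne e e.2 v hvL).symm).inv_left
      have := h1.mul_left h2
      rwa [mul_inv_cancel_right] at this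
    obtain ⟨i, j, hij⟩ := exists_zpow_mul hrank hup hbp
      (show (e : G) ^ p = 1 by simpa using congrArg Subtype.val he)
      (hcomp_comm K L hK hL hne u huK b hbL) hue (hcomp_comm K L hK hL hne e e.2 b hbL).symm hu1 hbu
    have hbj : b ^ j = 1 := by
      refine hKL1 _ ?_ (zpow_mem hbL j)
      have : b ^ j = (u ^ i)⁻¹ * (e : G) := by rw [hij, inv_mul_cancel_left]
      rw [this]
      exact mul_mem (inv_mem (zpow_mem huK i)) e.2
    rw [hbj, mul_one] at hij
    apply Subtype.ext
    simp only [Subgroup.coe_mul, InvMemClass.coe_inv] at hgP ⊢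
    rw [hij] at hgP ⊢
    have hgv : (g : G) * v ^ i * (g : G)⁻¹ = v ^ i :=
      mul_inv_eq_iff_eq_mul.mpr (hcomp_comm K L hK hL hne g g.2 _ (zpow_mem hvL i)).eq
    have hxi : (g : G) * x ^ i * (g : G)⁻¹ = ((g : G) * u ^ i * (g : G)⁻¹) * v ^ i := by
      calc (g : G) * x ^ i * (g : G)⁻¹ = ((g : G) * u ^ i * (g : G)⁻¹) * ((g : G) * v ^ i * (g : G)⁻¹) := by
            rw [huv, hvcomm.mul_zpow]; group
        _ = _ := by rw [hgv]
    have := isolated_zpow hxp hiso i (g : G) (hcomm _ (hxi ▸ mul_mem hgP (zpow_mem hvP i)))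
    rw [hxi, huv, hvcomm.mul_zpow] at this
    exact mul_right_cancel this
  obtain ⟨K, hK⟩ : ∃ K : Subgroup G, Cfsg.IsComponent K := by
    by_contra h
    push Not at h
    have hl : Cfsg.layer G = ⊥ := Components.layer_eq_bot_iff.mpr h
    have hc := Components.centralizer_genFitting_le (G := G)
    rw [hgen, hl] at hc
    apply hx1
    have : x ∈ centralizer ((⊥ : Subgroup G) : Set G) := Subgroup.mem_centralizer_iff.mpr fun u hu => by
      rw [Subgroup.mem_bot.mp hu]; simp
    exact Subgroup.mem_bot.mp (hc this)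
  have huniq : ∀ L : Subgroup G, Cfsg.IsComponent L → L = K := by
    intro L hL
    by_contra hne
    obtain ⟨a, haK, haP, hao⟩ := hexK K hK
    obtain ⟨b, hbL, hbP, hbo⟩ := hexK L hL
    have hap : a ^ p = 1 := hao ▸ pow_orderOf_eq_one a
    have hbp : b ^ p = 1 := hbo ▸ pow_orderOf_eq_one b
    have ha1 : a ≠ 1 := fun h => hpp.ne_one (by rw [← hao, h, orderOf_one])
    have hb1 : b ≠ 1 := fun h => hpp.ne_one (by rw [← hbo, h, orderOf_one])
    have hab := hcomp_comm K L hK hL (Ne.symm hne) a haK b hbL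
    have hba : b ∉ zpowers a := fun h => hb1 (hdisj K L hK hL (Ne.symm hne) b (zpowers_le.mpr haK h)
      (Subgroup.mem_centralizer_iff.mpr fun t ht => (hcomp_comm K L hK hL (Ne.symm hne) t ht b hbL).eq))
    obtain ⟨i, j, hij⟩ := exists_zpow_mul hrank hap hbp hxp hab (hcomm a haP).symm (hcomm b hbP).symm
      ha1 hba
    have hpw : ∀ (c : G) (k : ℤ), c ^ p = 1 → (c ^ k) ^ p = 1 := fun c k hc => by
      rw [← zpow_natCast, ← zpow_mul, mul_comm, zpow_mul, zpow_natCast, hc, one_zpow]
    by_cases hai : a ^ i = 1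
    · rw [hai, one_mul] at hij
      exact htwo L K hL hK hne (b ^ j) 1 (zpow_mem hbL j) K.one_mem (zpow_mem hbP j)
        (P : Subgroup G).one_mem (hpw b j hbp) (fun h => hx1 (hij.trans h)) (by rw [mul_one]; exact hij)
    · exact htwo K L hK hL (Ne.symm hne) (a ^ i) (b ^ j) (zpow_mem haK i) (zpow_mem hbL j)
        (zpow_mem haP i) (zpow_mem hbP j) (hpw a i hap) hai hij
  have hlay : Cfsg.layer G = K :=
    le_antisymm (Components.layer_le_iff.mpr fun L hL => (huniq L hL).le) (Components.component_le_layer hK)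
  rw [hgen, hlay]
  have hsimple : IsSimpleGroup K := by
    haveI := Components.qs_nontrivial hK.2
    refine ⟨fun N hN => ?_⟩
    by_cases h : N = ⊤
    · exact Or.inr h
    · exact Or.inl (le_bot_iff.mp (hcenK K hK ▸ Components.qs_normal_le_center hK.2 N h))
  refine ⟨hsimple, fun hc => ?_⟩
  exact Components.qs_center_ne_top hK.2 ((Subgroup.eq_top_iff' _).mpr fun a =>
    Subgroup.mem_center_iff.mpr fun b => hc.is_comm.comm b a)

end Cfsg.Agent.S3049
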