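import Cfsg.Statements.S3050
import Cfsg.Agent.H62.FpfTwoGroup

set_option linter.style.haveILetI false

set_option autoImplicit false
open Cfsg
open Cfsg.Agent.H62
open scoped IsMulCommutative

namespace Cfsg.Agent.S3050

/-- Let G be a finite group with a normal 2-subgroup Q such that G/Q is isomorphic to SL(2, 2ⁿ) with n ≥ 2, and suppose some element of G of order 3 fixes no nonidentity element of Q under conjugation. Then Q is elementary abelian and is the direct product of normal subgroups of G on each of which G acts as SL(2, 2ⁿ) acts on its natural two-dimensional module (a Galois twist of the natural action allowed). -/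
theorem result {G : Type*} [Group G] [Finite G]
    (Q : Subgroup G) [Q.Normal] (hQ : IsPGroup 2 ↥Q) (n : ℕ) (hn : 2 ≤ n)
    (K : Type*) [Field K] [Fintype K] (hK : Fintype.card K = 2 ^ n)
    (e : G ⧸ Q ≃* Matrix.SpecialLinearGroup (Fin 2) K)
    (x : G) (hx : orderOf x = 3) (hfpf : ∀ q ∈ Q, x * q * x⁻¹ = q → q = 1) :
    Cfsg.IsElementaryAbelian 2 Q ∧
      ∃ (k : ℕ) (V : Fin k → Subgroup G), (∀ i, V i ≤ Q ∧ (V i).Normal ∧
        Cfsg.ActsAsSL2OnSection K ⊤ ⊤ (V i) ⊥) ∧ iSupIndep V ∧ ⨆ i, V i = Q := by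
  classical
  haveI : CharP K 2 := by
    obtain ⟨q, hq⟩ := CharP.exists K
    haveI := hq
    obtain ⟨k, hq', hk⟩ := FiniteField.card K q
    rw [hK] at hk
    have h2q : 2 = q :=
      (Nat.prime_dvd_prime_iff_eq Nat.prime_two hq').mp
        (Nat.prime_two.dvd_of_dvd_pow (hk ▸ dvd_pow_self 2 (show n ≠ 0 by omega)))
    exact h2q ▸ hq
  have hq4 : 4 ≤ Nat.card K := by
    rw [Nat.card_eq_fintype_card, hK]
    calc 4 = 2 ^ 2 := by norm_num
      _ ≤ 2 ^ n := Nat.pow_le_pow_right (by norm_num) hn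
  let f : G →* Quad.SL2 K := e.toMonoidHom.comp (QuotientGroup.mk' Q)
  have hf : Function.Surjective f := e.surjective.comp (QuotientGroup.mk'_surjective Q)
  have hker : ∀ g, f g = 1 ↔ g ∈ Q := fun g => by
    show e (QuotientGroup.mk' Q g) = 1 ↔ g ∈ Q
    rw [MulEquiv.map_eq_one_iff]
    exact QuotientGroup.eq_one_iff g
  obtain ⟨hcomm, hexp⟩ := Fpf.elementary hq4 _ G Q f x rfl hQ hf hker hx hfpf
  haveI hQc : IsMulCommutative Q := ⟨⟨fun a b => Subtype.ext (hcomm a a.2 b b.2)⟩⟩
  refine ⟨⟨hQc, fun a ha => by rw [pow_two]; exact hexp a ha⟩, ?_⟩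
  have hN : ∀ g : G, f g = 1 → ∀ m ∈ Q, g * m * g⁻¹ = m := fun g hg m hm => by
    rw [hcomm g ((hker g).mp hg) m hm, mul_inv_cancel_right]
  letI := Fpf.sectionAction f hf Q hN
  have hcube : Fpf.CubeRel K (Additive Q) := by
    refine Fpf.sectionAction_cubeRel f hf Q hN ?_ ?_ hfpf
    · rw [← map_pow, ← hx, pow_orderOf_eq_one, map_one]
    · exact fun h => Fpf.mem_of_orderOf_two_pow hQ hx ((hker x).mp h)
  obtain ⟨k, Φ, hΦ⟩ := Fpf.exists_natural_sum hq4 hcube fun m =>
    Additive.toMul.injective (Subtype.ext (hexp _ m.toMul.2))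
  let Ψ : Multiplicative (Fin k → Fin 2 → K) →* G :=
    MonoidHom.mk' (fun c => (((Φ (Multiplicative.toAdd c)).toMul : Q) : G)) fun a b => by
      rw [toAdd_mul, map_add, toMul_add, Subgroup.coe_mul]
  have hΨinj : Function.Injective Ψ := fun a b h =>
    Multiplicative.toAdd.injective (Φ.injective (Additive.toMul.injective (Subtype.ext h)))
  have hconj : ∀ (g : G) (c : Fin k → Fin 2 → K),
      g * Ψ (Multiplicative.ofAdd c) * g⁻¹ = Ψ (Multiplicative.ofAdd fun i =>
        ((f g : Quad.SL2 K) : Matrix (Fin 2) (Fin 2) K).mulVec (c i)) := fun g c => by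
    show _ = (((Φ (fun i => ((f g : Quad.SL2 K) : Matrix (Fin 2) (Fin 2) K).mulVec (c i))).toMul
      : Q) : G)
    rw [hΦ, Fpf.sectionAction_smul f hf Q hN]
    rfl
  let ι : Fin k → (Multiplicative (Fin 2 → K) →* G) := fun i =>
    Ψ.comp (AddMonoidHom.toMultiplicative (AddMonoidHom.single (fun _ : Fin k => Fin 2 → K) i))
  have hι : ∀ i v, ι i (Multiplicative.ofAdd v) = Ψ (Multiplicative.ofAdd (Pi.single i v)) :=
    fun i v => rfl
  have hιinj : ∀ i, Function.Injective (ι i) := fun i a b h =>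
    Multiplicative.toAdd.injective (Pi.single_injective i
      (Multiplicative.ofAdd.injective (hΨinj h)))
  have hιconj : ∀ i (g : G) (v : Fin 2 → K), g * ι i (Multiplicative.ofAdd v) * g⁻¹ =
      ι i (Multiplicative.ofAdd (((f g : Quad.SL2 K) : Matrix (Fin 2) (Fin 2) K).mulVec v)) := by
    intro i g v
    rw [hι, hι, hconj]
    congr 2
    funext j
    by_cases hj : j = i
    · subst hj; simp
    · simp [hj]
  have hle : ∀ i, (ι i).range ≤ Q := fun i => by
    rintro _ ⟨v, rfl⟩
    exact (Additive.toMul (Φ _) : Q).2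
  have hnorm : ∀ i, (ι i).range.Normal := fun i => ⟨fun _ ⟨v, hv⟩ g =>
    ⟨_, hv ▸ (hιconj i g (Multiplicative.toAdd v)).symm⟩⟩
  refine ⟨k, fun i => (ι i).range, fun i => ⟨hle i, hnorm i, ?_⟩, ?_, ?_⟩
  · let ψ := (MonoidHom.ofInjective (hιinj i)).symm
    refine ⟨?_, bot_le, f.comp (⊤ : Subgroup G).subtype, ψ.toMonoidHom, ?_, ψ.surjective, ?_, ?_⟩
    · haveI := hnorm i
      rw [Subgroup.normalizer_eq_top (H := (ι i).range)]
    · refine MonoidHom.range_eq_top.mpr fun y => ?_
      obtain ⟨g, rfl⟩ := hf y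
      exact ⟨⟨g, trivial⟩, rfl⟩
    · intro u
      rw [Subgroup.mem_bot]
      show ψ u = 1 ↔ _
      rw [MulEquiv.map_eq_one_iff]
      exact ⟨fun h => congrArg Subtype.val h, fun h => Subtype.ext h⟩
    · intro g u
      set v := ψ u with hv
      have hu : (u : G) = ι i v := by
        have := congrArg Subtype.val (MulEquiv.symm_apply_apply ψ u)
        exact this.symm
      refine ⟨⟨(g : G) * u * (g : G)⁻¹, (hnorm i).conj_mem _ u.2 _⟩, rfl, ?_⟩
      set w : Multiplicative (Fin 2 → K) := Multiplicative.ofAdd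
        (((f g : Quad.SL2 K) : Matrix (Fin 2) (Fin 2) K).mulVec (Multiplicative.toAdd v)) with hw
      have heq : (⟨(g : G) * u * (g : G)⁻¹, (hnorm i).conj_mem _ u.2 _⟩ : (ι i).range) =
          MonoidHom.ofInjective (hιinj i) w := Subtype.ext (by
        show (g : G) * u * (g : G)⁻¹ = ι i w
        rw [hu, hw, ← hιconj i g]
        rfl)
      show Multiplicative.toAdd (ψ _) = _
      rw [heq]
      show Multiplicative.toAdd ((MonoidHom.ofInjective (hιinj i)).symm _) = _
      rw [MulEquiv.symm_apply_apply]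
      rfl
  · rw [iSupIndep_def]
    intro i
    rw [Subgroup.disjoint_def]
    rintro _ ⟨v, rfl⟩ hx2
    let Ki : Subgroup G :=
      ((AddMonoidHom.toMultiplicative (Pi.evalAddMonoidHom (fun _ : Fin k => Fin 2 → K) i)).ker).map Ψ
    have hK' : (⨆ (j) (_ : j ≠ i), (ι j).range) ≤ Ki := iSup₂_le fun j hj => by
      rintro _ ⟨w, rfl⟩
      refine ⟨Multiplicative.ofAdd (Pi.single j (Multiplicative.toAdd w)), ?_, rfl⟩
      show Pi.single (M := fun _ : Fin k => Fin 2 → K) j (Multiplicative.toAdd w) i = 0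
      rw [Pi.single_eq_of_ne hj.symm]
    obtain ⟨c, hc, hcv⟩ := hK' hx2
    have hc' : c = Multiplicative.ofAdd (Pi.single i (Multiplicative.toAdd v)) := hΨinj hcv
    subst hc'
    have hv0 : Pi.single (M := fun _ : Fin k => Fin 2 → K) i (Multiplicative.toAdd v) i = 0 := hc
    rw [Pi.single_eq_same] at hv0
    rw [show v = 1 from Multiplicative.toAdd.injective hv0, map_one]
  · refine le_antisymm (iSup_le hle) fun q hq => ?_
    obtain ⟨c, hc⟩ := Φ.surjective (Additive.ofMul ⟨q, hq⟩)
    have hq' : q = Ψ (Multiplicative.ofAdd c) := by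
      show q = (((Φ c).toMul : Q) : G)
      rw [hc]
      rfl
    rw [hq']
    have : ∀ S : Finset (Fin k), Ψ (Multiplicative.ofAdd (∑ i ∈ S, Pi.single i (c i))) ∈
        ⨆ i, (ι i).range := by
      intro S
      induction S using Finset.induction_on with
      | empty =>
        rw [Finset.sum_empty, ofAdd_zero, map_one]
        exact one_mem _
      | insert a S ha ih =>
        rw [Finset.sum_insert ha, ofAdd_add, map_mul]
        exact mul_mem (le_iSup (fun i => (ι i).range) a ⟨_, rfl⟩) ih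
    have h := this Finset.univ
    rwa [Finset.univ_sum_single] at h

end Cfsg.Agent.S3050
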