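import Cfsg.Statements.S3053
import Cfsg.Agent.PGroups.Extraspecial
import Cfsg.Agent.Fusion.PComplement
import Cfsg.Agent.Thompson.Replacement

set_option autoImplicit false
open Cfsg
open scoped commutatorElement

namespace Cfsg.Agent.S3053

/-- Conjugation exchanging two independent elements inverts both of them after squaring. -/
theorem conj_neg {G : Type*} [Group G] {z b X V : G} (hX1 : X * z * X⁻¹ = z) (hX2 : X * b * X⁻¹ = z * b)
    (hV1 : V * b * V⁻¹ = b) (hV2 : V * z * V⁻¹ = z * b⁻¹) (hzb : z * b = b * z) :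
    ((X * V * X) * (X * V * X)) * z * ((X * V * X) * (X * V * X))⁻¹ = z⁻¹ ∧
      ((X * V * X) * (X * V * X)) * b * ((X * V * X) * (X * V * X))⁻¹ = b⁻¹ := by
  have hX : ∀ a, X * a * X⁻¹ = MulAut.conj X a := fun a => rfl
  have hV : ∀ a, V * a * V⁻¹ = MulAut.conj V a := fun a => rfl
  rw [hX] at hX1 hX2; rw [hV] at hV1 hV2
  have hc : Commute z b := hzb
  have w1 : MulAut.conj (X * V * X) z = b⁻¹ := by
    rw [map_mul, map_mul, MulAut.mul_apply, MulAut.mul_apply, hX1, hV2, map_mul, map_inv, hX1, hX2, mul_inv_rev,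
      ← mul_assoc, hc.inv_right.eq, mul_assoc, mul_inv_cancel, mul_one]
  have w2 : MulAut.conj (X * V * X) b = z := by
    rw [map_mul, map_mul, MulAut.mul_apply, MulAut.mul_apply, hX2, map_mul, hV2, hV1, inv_mul_cancel_right, hX1]
  refine ⟨?_, ?_⟩
  · show MulAut.conj _ z = _
    rw [map_mul, MulAut.mul_apply, w1, map_inv, w2]
  · show MulAut.conj _ b = _
    rw [map_mul, MulAut.mul_apply, w2, w1]

/-- Let p be an odd prime and G a finite group with a Sylow p-subgroup P that is extraspecial of order p³ and exponent p². Then the centre of P is strongly closed in P with respect to G: a G-conjugate of an element of Z(P) that lies in P already lies in Z(P). In particular a nontrivial central element of P is conjugate in G to no noncentral element of P. -/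
theorem result {G : Type*} [Group G] [Finite G]
    {p : ℕ} [Fact p.Prime] (hp : p ≠ 2) (P : Sylow p G) (hE : Cfsg.IsExtraspecial p ↥P)
    (hcard : Nat.card P = p ^ 3) (hexp : Monoid.exponent ↥P = p ^ 2) :
    Cfsg.IsStronglyClosed ((Subgroup.center ↥P).map (P : Subgroup G).subtype) (P : Subgroup G) := by
  have hpp := (Fact.out : p.Prime)
  set Z := (Subgroup.center P).map (P : Subgroup G).subtype with hZdef
  have hZP : Z ≤ (P : Subgroup G) := Subgroup.map_subtype_le _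
  refine ⟨hZP, fun x₀ hx₀ g hg => ?_⟩
  by_contra hb
  set b := g * x₀ * g⁻¹ with hbdef
  obtain ⟨xc, hxc, rfl⟩ := hx₀
  set z : G := (xc : G) with hzdef
  have hbP : b ∈ (P : Subgroup G) := hg
  have hzp : xc ^ p = 1 := PGroups.isSpecial_center_pow hE.1 hxc
  have hzpG : z ^ p = 1 := congrArg Subtype.val hzp
  have hz1 : z ≠ 1 := by
    intro e
    apply hb
    have hb1 : b = 1 := by
      rw [hbdef]
      show g * z * g⁻¹ = 1
      rw [e]; group
    rw [hb1]; exact Z.one_mem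
  have hxc1 : xc ≠ 1 := fun e => hz1 (congrArg Subtype.val e)
  have hzgen : Subgroup.zpowers xc = Subgroup.center P := PGroups.zpowers_eq_of_card_eq hE.2 hxc hxc1
  have hzZ : z ∈ Z := ⟨xc, hxc, rfl⟩
  have hzcomm : ∀ a ∈ (P : Subgroup G), z * a = a * z := fun a ha =>
    (congrArg Subtype.val (Subgroup.mem_center_iff.mp hxc ⟨a, ha⟩)).symm
  have hbp : b ^ p = 1 := by
    show (g * z * g⁻¹) ^ p = 1
    rw [conj_pow, hzpG]; group
  have hc2 := PGroups.isSpecial_commutator_le hE.1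
  -- the power map
  have hmulpow : ∀ a c : P, (a * c) ^ p = a ^ p * c ^ p := by
    intro a c
    have hcc : ∀ w : P, Commute ⁅c, a⁆ w := fun w =>
      (Subgroup.mem_center_iff.mp (PGroups.commutatorElement_mem_center hc2 c a) w).symm
    have hd : ⁅c, a⁆ ^ p = 1 := PGroups.pow_eq_one_of_mem_commutator hc2 (PGroups.isSpecial_pow_mem_center hE.1)
      (Subgroup.commutator_mem_commutator (Subgroup.mem_top _) (Subgroup.mem_top _))
    obtain ⟨m, hm⟩ := hpp.odd_of_ne_two hp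
    rw [Thompson.mul_pow_class_two (hcc a) (hcc c), show p.choose 2 = p * m by
        rw [Nat.choose_two_right, show p - 1 = m * 2 by omega, ← mul_assoc, Nat.mul_div_cancel _ two_pos],
      pow_mul, hd, one_pow, one_mul]
  let pw : P →* Subgroup.center P :=
    MonoidHom.mk' (fun a => ⟨a ^ p, PGroups.isSpecial_pow_mem_center hE.1 a⟩) fun a c => Subtype.ext (hmulpow a c)
  obtain ⟨x₁, hx₁⟩ : ∃ a : P, a ^ p ≠ 1 := by
    by_contra hno
    simp only [not_exists, not_not] at hno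
    have h1 := Monoid.exponent_dvd_of_forall_pow_eq_one hno
    rw [hexp] at h1
    have := Nat.le_of_dvd hpp.pos h1
    nlinarith [hpp.two_le]
  have hpwsurj : Function.Surjective pw := by
    rw [← MonoidHom.range_eq_top]
    refine (pw.range.eq_bot_or_eq_top_of_prime_card (hp := ⟨hE.2.symm ▸ hpp⟩)).resolve_left fun e => hx₁ ?_
    have : pw x₁ ∈ pw.range := ⟨x₁, rfl⟩
    rw [e, Subgroup.mem_bot] at this
    exact congrArg Subtype.val this
  set E := pw.ker.map (P : Subgroup G).subtype with hEdef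
  have hEP : E ≤ (P : Subgroup G) := Subgroup.map_subtype_le _
  have hEc : Nat.card E = p ^ 2 := by
    rw [hEdef, Subgroup.card_map_of_injective (Subgroup.subtype_injective _)]
    have h1 := pw.ker.card_mul_index
    rw [Subgroup.index_ker, MonoidHom.range_eq_top.mpr hpwsurj, Subgroup.card_top,
      show Nat.card (Subgroup.center (P : Subgroup G)) = p from hE.2, hcard] at h1
    exact Nat.eq_of_mul_eq_mul_right hpp.pos (h1.trans (pow_succ p 2))
  have hEmem : ∀ a, a ∈ E ↔ a ∈ (P : Subgroup G) ∧ a ^ p = 1 := by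
    intro a
    constructor
    · rintro ⟨c, hc, rfl⟩
      exact ⟨c.2, congrArg Subtype.val (congrArg Subtype.val (MonoidHom.mem_ker.mp hc) :)⟩
    · rintro ⟨ha, hap⟩
      exact ⟨⟨a, ha⟩, MonoidHom.mem_ker.mpr (Subtype.ext (Subtype.ext hap)), rfl⟩
  have hzE : z ∈ E := (hEmem z).mpr ⟨xc.2, hzpG⟩
  have hbE : b ∈ E := (hEmem b).mpr ⟨hbP, hbp⟩
  have hEp : IsPGroup p E := P.isPGroup'.to_le hEP
  have hEab : ∀ a ∈ E, ∀ c ∈ E, a * c = c * a := fun a ha c hc => by
    have := IsPGroup.commutative_of_card_eq_prime_sq (p := p) hEc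
    exact congrArg Subtype.val (this ⟨a, ha⟩ ⟨c, hc⟩)
  have hEn : ∀ a ∈ (P : Subgroup G), ∀ e ∈ E, a * e * a⁻¹ ∈ E := by
    intro a ha e he
    obtain ⟨he1, he2⟩ := (hEmem e).mp he
    refine (hEmem _).mpr ⟨(P : Subgroup G).mul_mem ((P : Subgroup G).mul_mem ha he1) ((P : Subgroup G).inv_mem ha), ?_⟩
    rw [conj_pow, he2]; group
  -- only `E` centralizes `E` inside `P`
  have hCE : ∀ a ∈ (P : Subgroup G), Commute a b → a ∈ E := by
    intro a ha hab
    set Cb := (P : Subgroup G) ⊓ Subgroup.centralizer ({b} : Set G)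
    have h1 : E ≤ Cb := fun e he => ⟨hEP he, Subgroup.mem_centralizer_singleton_iff.mpr (hEab e he b hbE)⟩
    have h2 : Cb ≠ (P : Subgroup G) := by
      intro e
      apply hb
      refine ⟨⟨b, hbP⟩, Subgroup.mem_center_iff.mpr fun c => Subtype.ext ?_, rfl⟩
      have hc : (c : G) ∈ Cb := e.symm ▸ c.2
      exact Subgroup.mem_centralizer_singleton_iff.mp hc.2
    obtain ⟨i, hi, hCb⟩ := (Nat.dvd_prime_pow hpp).mp (hcard ▸ Subgroup.card_dvd_of_le (inf_le_left : Cb ≤ (P : Subgroup G)))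
    have h3 : i ≠ 3 := fun e => h2 (Subgroup.eq_of_le_of_card_ge inf_le_left (by rw [hCb, e, hcard]))
    have h4 : 2 ≤ i := (Nat.pow_le_pow_iff_right hpp.one_lt).mp (hEc ▸ hCb ▸ Subgroup.card_le_of_le h1)
    have h5 : E = Cb := Subgroup.eq_of_le_of_card_ge h1 (by rw [hCb, hEc, show i = 2 by omega])
    rw [h5]
    exact ⟨ha, Subgroup.mem_centralizer_singleton_iff.mpr hab.eq⟩
  -- an element `n` normalizing `E` with `n b n⁻¹ = z`
  obtain ⟨n, hnE, hnb⟩ : ∃ n, n ∈ Subgroup.normalizer (E : Set G) ∧ n * b * n⁻¹ = z := by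
    set Cz := Subgroup.centralizer ({z} : Set G)
    have hPC : (P : Subgroup G) ≤ Cz := fun a ha => Subgroup.mem_centralizer_singleton_iff.mpr (hzcomm a ha).symm
    have hEC : E.map (MulAut.conj g⁻¹).toMonoidHom ≤ Cz := by
      rintro _ ⟨e, he, rfl⟩
      rw [Subgroup.mem_centralizer_singleton_iff]
      have h := hEab e he b hbE
      have h' : e * (g * z * g⁻¹) = (g * z * g⁻¹) * e := h
      show g⁻¹ * e * g⁻¹⁻¹ * z = z * (g⁻¹ * e * g⁻¹⁻¹)
      calc g⁻¹ * e * g⁻¹⁻¹ * z = g⁻¹ * (e * (g * z * g⁻¹)) * g := by group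
        _ = g⁻¹ * ((g * z * g⁻¹) * e) * g := by rw [h']
        _ = z * (g⁻¹ * e * g⁻¹⁻¹) := by group
    obtain ⟨R, hR⟩ := ((hEp.map (MulAut.conj g⁻¹).toMonoidHom).comap_subtype (K := Cz)).exists_le_sylow
    obtain ⟨c, hc⟩ := MulAction.exists_smul_eq Cz R (P.subtype hPC)
    refine ⟨(c : G) * g⁻¹, ?_, ?_⟩
    · have hmem : ∀ e ∈ E, (c : G) * g⁻¹ * e * ((c : G) * g⁻¹)⁻¹ ∈ E := by
        intro e he
        obtain ⟨he1, he2⟩ := (hEmem e).mp he
        refine (hEmem _).mpr ⟨?_, by rw [conj_pow, he2]; group⟩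
        have h1 : MulAut.conj c (⟨g⁻¹ * e * g⁻¹⁻¹, hEC ⟨e, he, rfl⟩⟩ : Cz) ∈ (P.subtype hPC : Subgroup Cz) := by
          rw [← hc, Sylow.coe_subgroup_smul]
          exact ⟨_, hR ⟨e, he, rfl⟩, rfl⟩
        rw [Sylow.coe_subtype] at h1
        have h2 : (c : G) * (g⁻¹ * e * g⁻¹⁻¹) * (c : G)⁻¹ ∈ (P : Subgroup G) := h1
        simpa [mul_assoc] using h2
      have hle : E.map (MulAut.conj ((c : G) * g⁻¹)).toMonoidHom = E := by
        refine Subgroup.eq_of_le_of_card_ge ?_ (Subgroup.card_map_of_injective (MulAut.conj _).injective).ge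
        rintro _ ⟨e, he, rfl⟩
        exact hmem e he
      rw [Subgroup.mem_normalizer_iff]
      intro a
      conv_rhs => rw [← hle]
      exact (Subgroup.mem_map_iff_mem (f := (MulAut.conj ((c : G) * g⁻¹)).toMonoidHom) (MulAut.conj _).injective).symm
    · have h1 := Subgroup.mem_centralizer_singleton_iff.mp c.2
      show (c : G) * g⁻¹ * (g * z * g⁻¹) * ((c : G) * g⁻¹)⁻¹ = z
      calc (c : G) * g⁻¹ * (g * z * g⁻¹) * ((c : G) * g⁻¹)⁻¹ = (c : G) * z * (c : G)⁻¹ := by group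
        _ = z := by rw [h1, mul_inv_cancel_right]
  -- `P` moves every noncentral element of `E` by all of the centre
  have hmove : ∀ e ∈ E, e ∉ Z → ∀ t ∈ Z, ∃ a ∈ (P : Subgroup G), a * e * a⁻¹ = t * e := by
    intro e he heZ t ht
    obtain ⟨tc, htc, rfl⟩ := ht
    set ec : P := ⟨e, hEP he⟩
    let f : P →* Subgroup.center P :=
      MonoidHom.mk' (fun a => ⟨⁅a, ec⁆, PGroups.commutatorElement_mem_center hc2 a ec⟩) fun a c => Subtype.ext (by
        show ⁅a * c, ec⁆ = ⁅a, ec⁆ * ⁅c, ec⁆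
        rw [show ⁅a * c, ec⁆ = a * ⁅c, ec⁆ * a⁻¹ * ⁅a, ec⁆ by simp only [commutatorElement_def]; group,
          Subgroup.mem_center_iff.mp (PGroups.commutatorElement_mem_center hc2 c ec) a, mul_inv_cancel_right,
          Subgroup.mem_center_iff.mp (PGroups.commutatorElement_mem_center hc2 c ec) ⁅a, ec⁆])
    have hne : f.range ≠ ⊥ := by
      intro e0
      apply heZ
      refine ⟨ec, Subgroup.mem_center_iff.mpr fun c => ?_, rfl⟩
      have : f c ∈ f.range := ⟨c, rfl⟩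
      rw [e0, Subgroup.mem_bot] at this
      exact commutatorElement_eq_one_iff_mul_comm.mp (congrArg Subtype.val this)
    obtain ⟨a, ha⟩ : (⟨tc, htc⟩ : Subgroup.center P) ∈ f.range := by
      rw [(f.range.eq_bot_or_eq_top_of_prime_card (hp := ⟨hE.2.symm ▸ hpp⟩)).resolve_left hne]; trivial
    refine ⟨a, a.2, ?_⟩
    have h : (⁅a, ec⁆ : P) = tc := congrArg Subtype.val ha
    show (a : G) * e * (a : G)⁻¹ = (tc : G) * e
    rw [← h]
    show _ = (a : G) * e * (a : G)⁻¹ * e⁻¹ * e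
    group
  set e₁ := n * z * n⁻¹ with he₁
  have he₁E : e₁ ∈ E := (Subgroup.mem_normalizer_iff.mp hnE z).mp hzE
  have he₁Z : e₁ ∉ Z := by
    intro h
    obtain ⟨wc, hwc, hw⟩ := h
    rw [← hzgen] at hwc
    obtain ⟨k, hk⟩ := Subgroup.mem_zpowers_iff.mp hwc
    apply hb
    have hwe : e₁ = z ^ k := by rw [← hw, ← hk]; rfl
    have hzb : z = b ^ k := by
      have h2 : n⁻¹ * e₁ * n = z := by rw [he₁]; group
      rw [← h2, hwe, ← hnb, conj_zpow]; group
    have hbord : orderOf b = p := orderOf_eq_prime hbp fun e => hb (by rw [e]; exact Z.one_mem)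
    have hzord : orderOf z = p := orderOf_eq_prime hzpG hz1
    have hle : Subgroup.zpowers z ≤ Subgroup.zpowers b :=
      Subgroup.zpowers_le.mpr (hzb ▸ Subgroup.zpow_mem _ (Subgroup.mem_zpowers b) k)
    have heq := Subgroup.eq_of_le_of_card_ge hle (by rw [Nat.card_zpowers, Nat.card_zpowers, hzord, hbord])
    obtain ⟨j, hj⟩ := Subgroup.mem_zpowers_iff.mp (heq.symm ▸ Subgroup.mem_zpowers b : b ∈ Subgroup.zpowers z)
    exact hj ▸ Z.zpow_mem hzZ j
  have hbZ : b ∉ Z := hb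
  obtain ⟨X, hXP, hXb⟩ := hmove b hbE hbZ z hzZ
  obtain ⟨x1, hx1P, hx1⟩ := hmove e₁ he₁E he₁Z z⁻¹ (Z.inv_mem hzZ)
  set V := n⁻¹ * x1 * n with hVdef
  have hX1 : X * z * X⁻¹ = z := by rw [← hzcomm X hXP, mul_inv_cancel_right]
  have hV1 : V * b * V⁻¹ = b := by
    rw [hVdef]
    calc n⁻¹ * x1 * n * b * (n⁻¹ * x1 * n)⁻¹ = n⁻¹ * (x1 * (n * b * n⁻¹) * x1⁻¹) * n := by group
      _ = n⁻¹ * z * n := by rw [hnb, ← hzcomm x1 hx1P, mul_inv_cancel_right]
      _ = b := by rw [← hnb]; group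
  have hV2 : V * z * V⁻¹ = z * b⁻¹ := by
    rw [hVdef]
    calc n⁻¹ * x1 * n * z * (n⁻¹ * x1 * n)⁻¹ = n⁻¹ * (x1 * e₁ * x1⁻¹) * n := by rw [he₁]; group
      _ = b⁻¹ * z := by rw [hx1, he₁, ← hnb]; group
      _ = z * b⁻¹ := (hEab b⁻¹ (E.inv_mem hbE) z hzE)
  obtain ⟨hyz, hyb⟩ := conj_neg hX1 hXb hV1 hV2 (hEab z hzE b hbE)
  set y := (X * V * X) * (X * V * X) with hy
  -- `y` inverts `E`
  have hgen : E = Subgroup.zpowers z ⊔ Subgroup.zpowers b := by
    refine (Subgroup.eq_of_le_of_card_ge (sup_le (Subgroup.zpowers_le.mpr hzE) (Subgroup.zpowers_le.mpr hbE)) ?_).symm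
    set T := Subgroup.zpowers z ⊔ Subgroup.zpowers b
    have hT : T ≤ E := sup_le (Subgroup.zpowers_le.mpr hzE) (Subgroup.zpowers_le.mpr hbE)
    obtain ⟨i, hi, hTc⟩ := (Nat.dvd_prime_pow hpp).mp (hEc ▸ Subgroup.card_dvd_of_le hT)
    have hord : orderOf z = p := orderOf_eq_prime hzpG hz1
    have h1 : 1 ≤ i := (Nat.pow_le_pow_iff_right hpp.one_lt).mp (by
      rw [← hTc, pow_one]; exact (Nat.card_zpowers z ▸ hord).ge.trans (Subgroup.card_le_of_le le_sup_left))
    rcases (show i = 1 ∨ i = 2 by omega) with rfl | rfl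
    · exfalso
      have h2 : Subgroup.zpowers z = T := Subgroup.eq_of_le_of_card_ge le_sup_left (by rw [hTc, pow_one, Nat.card_zpowers, hord])
      obtain ⟨j, hj⟩ := Subgroup.mem_zpowers_iff.mp (h2.symm ▸ Subgroup.mem_sup_right (Subgroup.mem_zpowers b) : b ∈ Subgroup.zpowers z)
      exact hbZ (hj ▸ Z.zpow_mem hzZ j)
    · rw [hTc, hEc]
  have hinv : ∀ e ∈ E, y * e * y⁻¹ = e⁻¹ := by
    intro e he
    rw [hgen] at he
    have hle : Subgroup.zpowers z ≤ Subgroup.normalizer (Subgroup.zpowers b : Set G) :=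
      (Subgroup.zpowers_le.mpr (Subgroup.mem_centralizer_iff.mpr fun a ha => by
        obtain ⟨j, rfl⟩ := Subgroup.mem_zpowers_iff.mp ha
        exact ((show Commute z b from hEab z hzE b hbE).zpow_right j).eq.symm)).trans (Subgroup.centralizer_le_normalizer _)
    rw [← SetLike.mem_coe, Subgroup.coe_mul_of_left_le_normalizer_right _ _ hle] at he
    obtain ⟨u, hu, w, hw, rfl⟩ := he
    obtain ⟨i, rfl⟩ := Subgroup.mem_zpowers_iff.mp hu
    obtain ⟨j, rfl⟩ := Subgroup.mem_zpowers_iff.mp hw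
    have hcij : Commute (z ^ i) (b ^ j) := ((show Commute z b from hEab z hzE b hbE).zpow_left i).zpow_right j
    show MulAut.conj y _ = _
    rw [map_mul, map_zpow, map_zpow]
    show (y * z * y⁻¹) ^ i * (y * b * y⁻¹) ^ j = _
    rw [hyz, hyb, inv_zpow, inv_zpow, ← mul_inv_rev]
    exact congrArg _ hcij.eq.symm
  -- the centralizer of `E`
  set N := Subgroup.normalizer (E : Set G) with hN
  set C := Subgroup.centralizer (E : Set G) with hC
  have hPN : (P : Subgroup G) ≤ N := by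
    intro a ha
    rw [hN, Subgroup.mem_normalizer_iff]
    intro e
    refine ⟨hEn a ha e, fun h => ?_⟩
    have := hEn a⁻¹ ((P : Subgroup G).inv_mem ha) _ h
    simpa [mul_assoc] using this
  have hCN : C ≤ N := Subgroup.centralizer_le_normalizer _
  have hCn : ∀ m ∈ N, ∀ c ∈ C, m * c * m⁻¹ ∈ C := by
    intro m hm c hc
    rw [hC, Subgroup.mem_centralizer_iff]
    intro e he
    have h1 : m⁻¹ * e * m ∈ E := by simpa using (Subgroup.mem_normalizer_iff.mp (N.inv_mem hm) e).mp he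
    have h2 := Subgroup.mem_centralizer_iff.mp hc _ h1
    calc e * (m * c * m⁻¹) = m * ((m⁻¹ * e * m) * c) * m⁻¹ := by group
      _ = m * (c * (m⁻¹ * e * m)) * m⁻¹ := by rw [h2]
      _ = m * c * m⁻¹ * e := by group
  let R : Sylow p C := default
  have hRE : ∀ r ∈ (R : Subgroup C), (r : G) ∈ E := by
    intro r hr
    obtain ⟨S', hS'⟩ := ((R.isPGroup'.map C.subtype).comap_subtype (K := N)).exists_le_sylow
    obtain ⟨m, hm⟩ := MulAction.exists_smul_eq N S' (P.subtype hPN)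
    have h1 : MulAut.conj m (⟨(r : G), hCN r.2⟩ : N) ∈ (P.subtype hPN : Subgroup N) := by
      rw [← hm, Sylow.coe_subgroup_smul]
      exact ⟨_, hS' ⟨r, hr, rfl⟩, rfl⟩
    rw [Sylow.coe_subtype] at h1
    have h2 : (m : G) * r * (m : G)⁻¹ ∈ (P : Subgroup G) := h1
    have h3 : (m : G) * r * (m : G)⁻¹ ∈ E :=
      hCE _ h2 (Subgroup.mem_centralizer_iff.mp (hCn m m.2 r r.2) b hbE).symm
    exact (Subgroup.mem_normalizer_iff.mp m.2 r).mpr h3
  have hnil : Cfsg.HasNormalPComplement p C :=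
    Fusion.hasNormalPComplement_of_normalizer_le_centralizer R fun t _ a ha => Subtype.ext
      (Subgroup.mem_centralizer_iff.mp t.2 a (hRE a ha))
  set L := (Cfsg.pResidual p C).map C.subtype with hL
  have hLp : ¬ p ∣ Nat.card L := by
    rw [hL, Subgroup.card_map_of_injective C.subtype_injective]
    exact Fusion.hasNormalPComplement_iff_pResidual.mp hnil
  have hLC : L ≤ C := Subgroup.map_subtype_le _
  have hLn : ∀ m ∈ N, ∀ l ∈ L, m * l * m⁻¹ ∈ L := by
    rintro m hm _ ⟨l, hl, rfl⟩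
    refine ⟨⟨m * (l : G) * m⁻¹, hCn m hm l l.2⟩, ?_, rfl⟩
    rw [SetLike.mem_coe, Fusion.mem_pResidual_iff_of_hasNormalPComplement hnil] at hl ⊢
    rw [← Subgroup.orderOf_coe] at hl ⊢
    rwa [show orderOf (m * (l : G) * m⁻¹) = orderOf (l : G) from (MulAut.conj m).orderOf_eq (l : G)]
  -- `x₂` of order `p²`
  set x₂ : G := (x₁ : G) with hx₂
  have hx₂P : x₂ ∈ (P : Subgroup G) := x₁.2
  have hzx : x₂ ^ p ∈ Z := ⟨x₁ ^ p, PGroups.isSpecial_pow_mem_center hE.1 x₁, rfl⟩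
  have hzxE : x₂ ^ p ∈ E := by
    refine (hEmem _).mpr ⟨hZP hzx, ?_⟩
    have := PGroups.isSpecial_center_pow hE.1 (PGroups.isSpecial_pow_mem_center hE.1 x₁)
    exact congrArg Subtype.val this
  have hXN : X ∈ N := hPN hXP
  have hyN : y ∈ N := by
    have hVN : V ∈ N := N.mul_mem (N.mul_mem (N.inv_mem hnE) (hPN hx1P)) hnE
    exact N.mul_mem (N.mul_mem (N.mul_mem hXN hVN) hXN) (N.mul_mem (N.mul_mem hXN hVN) hXN)
  set c := y * x₂ * y⁻¹ * x₂⁻¹ with hcdef
  have hcC : c ∈ C := by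
    rw [hC, Subgroup.mem_centralizer_iff]
    intro e he
    have h1 : y⁻¹ * e * y = e⁻¹ := by
      have := hinv e⁻¹ (E.inv_mem he)
      rw [inv_inv] at this
      calc y⁻¹ * e * y = y⁻¹ * (y * e⁻¹ * y⁻¹) * y := by rw [this]
        _ = e⁻¹ := by group
    have h2 : x₂⁻¹ * e⁻¹ * x₂ ∈ E := by simpa using hEn x₂⁻¹ ((P : Subgroup G).inv_mem hx₂P) e⁻¹ (E.inv_mem he)
    have h3 : c⁻¹ * e * c = e := by
      rw [hcdef]
      calc (y * x₂ * y⁻¹ * x₂⁻¹)⁻¹ * e * (y * x₂ * y⁻¹ * x₂⁻¹)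
          = x₂ * (y * (x₂⁻¹ * (y⁻¹ * e * y) * x₂) * y⁻¹) * x₂⁻¹ := by group
        _ = x₂ * (x₂⁻¹ * e⁻¹ * x₂)⁻¹ * x₂⁻¹ := by rw [h1, hinv _ h2]
        _ = e := by group
    calc e * c = c * (c⁻¹ * e * c) := by group
      _ = c * e := by rw [h3]
  -- decompose `c`
  obtain ⟨l, hl, e, he, hle⟩ : ∃ l ∈ L, ∃ e ∈ E, c = e * l := by
    have h1 : (⟨c, hcC⟩ : C) ∈ (R : Subgroup C) ⊔ Cfsg.pResidual p C := by
      rw [Fusion.sylow_sup_eq_top R le_rfl]; trivial
    rw [Subgroup.mem_sup_of_normal_right] at h1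
    obtain ⟨r, hr, l, hl, hrl⟩ := h1
    exact ⟨(l : G), ⟨l, hl, rfl⟩, (r : G), hRE r hr, congrArg Subtype.val hrl.symm⟩
  have hyx : y * x₂ * y⁻¹ = c * x₂ := by rw [hcdef]; group
  -- powers modulo `L`
  have hpowL : ∀ (k : ℕ) (a : G), a ∈ N → ∀ l ∈ L, ∃ l' ∈ L, (l * a) ^ k = l' * a ^ k := by
    intro k a ha l hl
    induction k with
    | zero => exact ⟨1, L.one_mem, by simp⟩
    | succ k ih =>
      obtain ⟨l', hl', h⟩ := ih
      refine ⟨l' * (a ^ k * l * (a ^ k)⁻¹), L.mul_mem hl' (hLn _ (N.pow_mem ha k) l hl), ?_⟩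
      rw [pow_succ, h, pow_succ]; group
  have hel : e * l = l * e := Subgroup.mem_centralizer_iff.mp (hLC hl) e he
  obtain ⟨l', hl', hpw⟩ := hpowL p (e * x₂) (hPN ((P : Subgroup G).mul_mem (hEP he) hx₂P)) l hl
  have hexp' : (e * x₂) ^ p = x₂ ^ p := by
    have := congrArg Subtype.val (hmulpow ⟨e, hEP he⟩ ⟨x₂, hx₂P⟩)
    have h2 : (e * x₂) ^ p = e ^ p * x₂ ^ p := this
    rw [h2, ((hEmem e).mp he).2, one_mul]
  have hfinal : (x₂ ^ p)⁻¹ = l' * x₂ ^ p := by
    rw [← hinv _ hzxE, ← conj_pow, hyx, hle, hel, mul_assoc l e x₂, hpw, hexp']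
  have hl'E : l' ∈ E := by
    have : l' = (x₂ ^ p)⁻¹ * (x₂ ^ p)⁻¹ := by
      conv_rhs => arg 1; rw [hfinal]
      group
    rw [this]; exact E.mul_mem (E.inv_mem hzxE) (E.inv_mem hzxE)
  have hl'1 : l' = 1 := by
    obtain ⟨j, hj⟩ := hEp ⟨l', hl'E⟩
    have h1 : orderOf l' ∣ p ^ j := orderOf_dvd_of_pow_eq_one (congrArg Subtype.val hj :)
    have h2 : orderOf l' ∣ Nat.card L := Subgroup.orderOf_dvd_natCard L hl'
    exact orderOf_eq_one_iff.mp (Nat.eq_one_of_dvd_coprimes ((hpp.coprime_iff_not_dvd.mpr hLp).pow_left j) h1 h2)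
  rw [hl'1, one_mul] at hfinal
  have hsq : (x₂ ^ p) ^ 2 = 1 := by
    rw [pow_two]
    calc x₂ ^ p * x₂ ^ p = (x₂ ^ p)⁻¹ * x₂ ^ p := by rw [hfinal]
      _ = 1 := inv_mul_cancel _
  have h2 := orderOf_dvd_of_pow_eq_one hsq
  have h3 := orderOf_dvd_of_pow_eq_one ((hEmem _).mp hzxE).2
  have hcop : Nat.Coprime 2 p := Nat.coprime_two_left.mpr (hpp.odd_of_ne_two hp)
  have h4 := orderOf_eq_one_iff.mp (Nat.eq_one_of_dvd_coprimes hcop h2 h3)
  exact hx₁ (Subtype.ext h4)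

end Cfsg.Agent.S3053
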