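import Cfsg.Statements.S3054
import Cfsg.Agent.H76.GLTwoTori
import Cfsg.Agent.H76.RadicalTorus

set_option autoImplicit false
set_option maxRecDepth 4000
open Cfsg Cfsg.Agent
open scoped commutatorElement

namespace Cfsg.Agent.S3054

/-- Let p be an odd prime and G a finite group with a Sylow p-subgroup P that is extraspecial of order p³ and exponent p. Suppose P contains three distinct subgroups A of order p² (each is elementary abelian of rank 2) such that every automorphism of A of order p is induced by conjugation by an element of G; equivalently the automorphism group induced on A by its normalizer contains the special linear group of A. Then p ≤ 13. -/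
theorem result {G : Type*} [Group G] [Finite G]
    {p : ℕ} [Fact p.Prime] (hp : p ≠ 2) (P : Sylow p G) (hE : Cfsg.IsExtraspecial p ↥P)
    (hcard : Nat.card P = p ^ 3) (hexp : Monoid.exponent ↥P = p)
    (A : Fin 3 → Subgroup G) (hA : Function.Injective A) (hAP : ∀ i, A i ≤ (P : Subgroup G))
    (hAcard : ∀ i, Nat.card ↥(A i) = p ^ 2)
    (hSL : ∀ i, ∀ φ : MulAut ↥(A i), orderOf φ = p → ∃ g : G, ∀ a : ↥(A i), (φ a : G) = g * (a : G) * g⁻¹) :
    p ≤ 13 := by
  classical
  have hp2 := (Fact.out : p.Prime).two_le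
  by_contra hp13
  have hp17 : 17 ≤ p := by
    by_contra h
    have hpr := (Fact.out : p.Prime)
    interval_cases p <;> norm_num at hpr
  have h2 : (2 : ZMod p) ≠ 0 := by
    intro h
    rw [show (2 : ZMod p) = ((2 : ℕ) : ZMod p) by simp, ZMod.natCast_eq_zero_iff] at h
    have := Nat.le_of_dvd two_pos h
    omega
  obtain ⟨zQ, κ, hzc, hz1, hκs, hκk, hκc⟩ := H76.EC.exists_coord hE hcard
  set z : G := (zQ : G) with hzdef
  have hexp' : ∀ x : ↥P, x ^ p = 1 := fun x => by
    have := Monoid.pow_exponent_eq_one x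
    rwa [hexp] at this
  have hzp : orderOf zQ = p := orderOf_eq_prime (hexp' zQ) hz1
  have hcenter : Subgroup.zpowers zQ = Subgroup.center ↥P :=
    PGroups.zpowers_eq_of_card_eq hE.2 hzc hz1
  -- the subgroups inside P
  set B : Fin 3 → Subgroup ↥P := fun i => (A i).subgroupOf (P : Subgroup G) with hB
  have hBcard : ∀ i, Nat.card ↥(B i) = p ^ 2 := fun i => by
    rw [← hAcard i]
    exact Nat.card_congr (Subgroup.subgroupOfEquivOfLe (hAP i)).toEquiv
  have hBn : ∀ i, (B i).Normal := fun i => by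
    refine Subgroup.normal_of_index_eq_minFac_card ?_
    have h := Subgroup.card_mul_index (B i)
    rw [hBcard, show Nat.card ↥P = p ^ 3 from hcard, show p ^ 3 = p ^ 2 * p by ring] at h
    rw [Nat.eq_of_mul_eq_mul_left (pow_pos (Nat.zero_lt_of_lt hp17) 2) h, show Nat.card ↥P = p ^ 3 from hcard,
      Nat.pow_minFac (by norm_num), (Fact.out : p.Prime).minFac_eq]
  have hZB : ∀ i, Subgroup.center ↥P ≤ B i := fun i => by
    have := hBn i
    have hnt : Nontrivial ↥(B i) := Finite.one_lt_card_iff_nontrivial.mp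
      (by rw [hBcard]; exact Nat.one_lt_pow two_ne_zero (by omega))
    obtain ⟨c, hc, hc1⟩ := (Subgroup.bot_or_exists_ne_one _).resolve_left
      (PGroups.inf_center_ne_bot hE.1.1 (B i) ((Subgroup.nontrivial_iff_ne_bot _).mp hnt))
    rw [← PGroups.zpowers_eq_of_card_eq hE.2 hc.2 hc1, Subgroup.zpowers_le]
    exact hc.1
  have hpick : ∀ i, ∃ b : ↥P, b ∈ B i ∧ b ∉ Subgroup.center ↥P := fun i => by
    by_contra h
    push Not at h
    have := Subgroup.card_le_of_le (show B i ≤ Subgroup.center ↥P from fun b hb => h b hb)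
    rw [hBcard, hE.2] at this
    nlinarith
  choose b hbB hbZ using hpick
  set v : Fin 3 → Fin 2 → ZMod p := fun i => Multiplicative.toAdd (κ (b i)) with hv
  have hv0 : ∀ i, v i ≠ 0 := fun i h => hbZ i (by
    rw [← hκk, MonoidHom.mem_ker]
    exact Multiplicative.toAdd.injective h)
  have hκpow : ∀ (x : ↥P) (n : ℕ), Multiplicative.toAdd (κ (x ^ n)) = n • Multiplicative.toAdd (κ x) :=
    fun x n => by rw [map_pow, toAdd_pow]
  have hind : ∀ i j, i ≠ j → v i 0 * v j 1 - v i 1 * v j 0 ≠ 0 := by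
    intro i j hij h
    obtain ⟨c, hc⟩ := H76.GLT.exists_smul_of_det (hv0 i) h
    have hmem : b j ∈ B i := by
      have hz : b j * (b i ^ c.val)⁻¹ ∈ Subgroup.center ↥P := by
        rw [← hκk, MonoidHom.mem_ker, map_mul, map_inv, mul_inv_eq_one]
        refine Multiplicative.toAdd.injective ?_
        rw [hκpow]
        funext k
        have := congrFun hc k
        simp only [hv, Pi.smul_apply, smul_eq_mul] at this ⊢
        rw [this, nsmul_eq_mul, ZMod.natCast_zmod_val]
      have := mul_mem (hZB i hz) (pow_mem (hbB i) c.val)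
      rwa [inv_mul_cancel_right] at this
    have hAB : B i = B j := by
      have hle : Subgroup.zpowers (b j) ⊔ Subgroup.center ↥P ≤ B i ⊓ B j :=
        sup_le (Subgroup.zpowers_le.mpr ⟨hmem, hbB j⟩) (le_inf (hZB i) (hZB j))
      have hbig : p ^ 2 ≤ Nat.card ↥(B i ⊓ B j) := by
        obtain ⟨k, hk, hk'⟩ := (Nat.dvd_prime_pow Fact.out).mp
          ((hBcard i) ▸ Subgroup.card_dvd_of_le (inf_le_left : B i ⊓ B j ≤ B i))
        rw [hk']
        refine Nat.pow_le_pow_right (by omega) ?_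
        by_contra hk2
        have heq : Subgroup.center ↥P = B i ⊓ B j :=
          Subgroup.eq_of_le_of_card_ge (le_inf (hZB i) (hZB j)) (by
            rw [hk', hE.2]
            calc p ^ k ≤ p ^ 1 := Nat.pow_le_pow_right (by omega) (by omega)
              _ = p := pow_one p)
        exact hbZ j (heq ▸ ⟨hmem, hbB j⟩)
      rw [← Subgroup.eq_of_le_of_card_ge (inf_le_left : B i ⊓ B j ≤ B i) (hBcard i ▸ hbig)]
      exact Subgroup.eq_of_le_of_card_ge (inf_le_right : B i ⊓ B j ≤ B j) (hBcard j ▸ hbig)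
    refine hij (hA ?_)
    have := congrArg (fun S : Subgroup ↥P => S.map (P : Subgroup G).subtype) hAB
    simpa [hB, inf_eq_left.mpr (hAP i), inf_eq_left.mpr (hAP j)] using this
  -- the action of the normaliser
  set N := Subgroup.normalizer ((P : Subgroup G) : Set G) with hN
  let θ : N → ↥P →* Multiplicative (Fin 2 → ZMod p) := fun n => κ.comp
    (MonoidHom.mk' (fun x : ↥P => (⟨(n : G) * x * (n : G)⁻¹,
      (Subgroup.mem_set_normalizer_iff.mp n.2 x).mp x.2⟩ : ↥P))
      fun x y => Subtype.ext (by simp [mul_assoc]))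
  have hθker : ∀ n, κ.ker ≤ (θ n).ker := by
    intro n x hx
    rw [hκk] at hx
    rw [MonoidHom.mem_ker, MonoidHom.comp_apply, ← MonoidHom.mem_ker, hκk, Subgroup.mem_center_iff]
    intro y
    have hy : (n : G)⁻¹ * y * n ∈ (P : Subgroup G) := by
      have := (Subgroup.mem_set_normalizer_iff.mp (inv_mem n.2) y).mp y.2
      rwa [inv_inv] at this
    have hc := congrArg Subtype.val (Subgroup.mem_center_iff.mp hx ⟨_, hy⟩)
    refine Subtype.ext ?_
    change (n : G)⁻¹ * y * n * x = x * ((n : G)⁻¹ * y * n) at hc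
    show (y : G) * ((n : G) * x * (n : G)⁻¹) = n * x * (n : G)⁻¹ * y
    calc (y : G) * ((n : G) * x * (n : G)⁻¹) = n * ((n : G)⁻¹ * y * n * x) * (n : G)⁻¹ := by group
      _ = n * (x * ((n : G)⁻¹ * y * n)) * (n : G)⁻¹ := by rw [hc]
      _ = n * x * (n : G)⁻¹ * y := by group
  let f : N → (Fin 2 → ZMod p) →ₗ[ZMod p] (Fin 2 → ZMod p) := fun n =>
    (AddMonoidHom.mk' (fun w => Multiplicative.toAdd
      (κ.liftOfSurjective hκs ⟨θ n, hθker n⟩ (Multiplicative.ofAdd w)))
      fun a b => by rw [ofAdd_add, map_mul, toAdd_mul]).toZModLinearMap p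
  have hf : ∀ n x, f n (Multiplicative.toAdd (κ x)) = Multiplicative.toAdd (θ n x) := by
    intro n x
    exact congrArg Multiplicative.toAdd (κ.liftOfRightInverse_comp_apply _ _ ⟨θ n, hθker n⟩ x)
  have hfext : ∀ {g h : (Fin 2 → ZMod p) →ₗ[ZMod p] (Fin 2 → ZMod p)},
      (∀ x : ↥P, g (Multiplicative.toAdd (κ x)) = h (Multiplicative.toAdd (κ x))) → g = h := by
    intro g h hgh
    refine LinearMap.ext fun w => ?_
    obtain ⟨x, hx⟩ := hκs (Multiplicative.ofAdd w)
    have := hgh x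
    rwa [hx, toAdd_ofAdd] at this
  let φ₀ : N →* Matrix (Fin 2) (Fin 2) (ZMod p) :=
    { toFun := fun n => LinearMap.toMatrix' (f n)
      map_one' := by
        rw [show f 1 = LinearMap.id from hfext fun x => by
          rw [hf, LinearMap.id_apply]
          refine congrArg Multiplicative.toAdd (congrArg κ (Subtype.ext ?_))
          simp, LinearMap.toMatrix'_id]
      map_mul' := fun m n => by
        rw [← LinearMap.toMatrix'_comp]
        congr 1
        refine hfext fun x => ?_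
        rw [hf, LinearMap.comp_apply, hf, show θ n x = κ _ from rfl, hf]
        refine congrArg Multiplicative.toAdd (congrArg κ (Subtype.ext ?_))
        simp [mul_assoc] }
  let φ : N →* GL (Fin 2) (ZMod p) := φ₀.toHomUnits
  have hφ : ∀ (n : N) (x : ↥P), ((φ n : GL (Fin 2) (ZMod p)) : Matrix (Fin 2) (Fin 2) (ZMod p)).mulVec
      (Multiplicative.toAdd (κ x)) = Multiplicative.toAdd (θ n x) := by
    intro n x
    rw [show ((φ n : GL (Fin 2) (ZMod p)) : Matrix (Fin 2) (Fin 2) (ZMod p)) = LinearMap.toMatrix' (f n) from rfl,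
      LinearMap.toMatrix'_mulVec, hf]
  have hdet : ∀ (n : N) (c : ZMod p), (n : G) * z * (n : G)⁻¹ = z ^ c.val →
      ((φ n : GL (Fin 2) (ZMod p)) : Matrix (Fin 2) (Fin 2) (ZMod p)).det = c := by
    intro n c hc
    obtain ⟨x, hx⟩ := hκs (Multiplicative.ofAdd ![1, 0])
    obtain ⟨y, hy⟩ := hκs (Multiplicative.ofAdd ![0, 1])
    have hxy : ⁅x, y⁆ = zQ := by
      rw [hκc, hx, hy]
      simp [ZMod.val_one]
    let cn : ↥P → ↥P := fun w => ⟨(n : G) * w * (n : G)⁻¹, (Subgroup.mem_set_normalizer_iff.mp n.2 w).mp w.2⟩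
    have h1 : ⁅cn x, cn y⁆ = zQ ^ c.val := by
      refine Subtype.ext ?_
      have hzxy : (x : G) * y * (x : G)⁻¹ * (y : G)⁻¹ = z := congrArg Subtype.val hxy
      show (n : G) * x * (n : G)⁻¹ * ((n : G) * y * (n : G)⁻¹) * ((n : G) * x * (n : G)⁻¹)⁻¹ *
        ((n : G) * y * (n : G)⁻¹)⁻¹ = z ^ c.val
      rw [← hc, ← hzxy]
      group
    have hxv : Multiplicative.toAdd (κ (cn x)) = ((φ n : GL (Fin 2) (ZMod p)) : Matrix (Fin 2) (Fin 2) (ZMod p)).mulVec ![1, 0] := by
      rw [show Multiplicative.toAdd (κ (cn x)) = Multiplicative.toAdd (θ n x) from rfl, ← hφ, hx, toAdd_ofAdd]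
    have hyv : Multiplicative.toAdd (κ (cn y)) = ((φ n : GL (Fin 2) (ZMod p)) : Matrix (Fin 2) (Fin 2) (ZMod p)).mulVec ![0, 1] := by
      rw [show Multiplicative.toAdd (κ (cn y)) = Multiplicative.toAdd (θ n y) from rfl, ← hφ, hy, toAdd_ofAdd]
    rw [hκc, hxv, hyv, pow_eq_pow_iff_modEq, hzp, ← ZMod.natCast_eq_natCast_iff, ZMod.natCast_zmod_val,
      ZMod.natCast_zmod_val] at h1
    rw [Matrix.det_fin_two, ← h1]
    simp [Matrix.mulVec, dotProduct, Fin.sum_univ_two]
    ring
  have hPker : (P : Subgroup G).subgroupOf N ≤ φ.ker := by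
    intro u hu
    refine Units.ext ?_
    show φ₀ u = 1
    rw [show φ₀ u = LinearMap.toMatrix' (f u) from rfl, show f u = LinearMap.id from hfext fun x => by
      rw [hf, LinearMap.id_apply]
      refine congrArg Multiplicative.toAdd ?_
      show κ _ = κ x
      have : (MonoidHom.mk' (fun x : ↥P => (⟨(u : G) * x * (u : G)⁻¹,
          (Subgroup.mem_set_normalizer_iff.mp u.2 x).mp x.2⟩ : ↥P))
          (fun x y => Subtype.ext (by simp [mul_assoc]))) x = (⟨(u : G), hu⟩ : ↥P) * x * ⟨(u : G), hu⟩⁻¹ :=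
        Subtype.ext (by simp)
      rw [this, map_mul, map_mul, map_inv, mul_comm (κ _) (κ x), mul_inv_cancel_right],
      LinearMap.toMatrix'_id]
  have hcop : ∀ x : φ.range, (orderOf x : ZMod p) ≠ 0 := by
    intro x h
    rw [ZMod.natCast_eq_zero_iff] at h
    have h1 : p ∣ φ.ker.index := by
      rw [Subgroup.index_ker]
      exact h.trans (orderOf_dvd_natCard x)
    have h2 : φ.ker.index ∣ (P : Subgroup G).index :=
      (Subgroup.index_dvd_of_le hPker).trans (Subgroup.relIndex_dvd_index_of_le Subgroup.le_normalizer)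
    exact P.not_dvd_index (h1.trans h2)
  -- the torus elements
  obtain ⟨lam, hlam⟩ := IsCyclic.exists_ofOrder_eq_natCard (α := (ZMod p)ˣ)
  rw [Nat.card_eq_fintype_card, ZMod.card_units p] at hlam
  have htor : ∀ i, ∃ g : N, ((φ g : GL (Fin 2) (ZMod p)) : Matrix (Fin 2) (Fin 2) (ZMod p)).det = (lam : ZMod p) ∧
      ((φ g : GL (Fin 2) (ZMod p)) : Matrix (Fin 2) (Fin 2) (ZMod p)).mulVec (v i) =
        ((lam⁻¹ : (ZMod p)ˣ) : ZMod p) • v i := by
    intro i
    have hbnz : (b i : G) ∉ Subgroup.zpowers z := by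
      rintro ⟨k, hk⟩
      exact hbZ i (hcenter ▸ ⟨k, Subtype.ext (by simpa using hk)⟩)
    obtain ⟨g, hgN, hgz, n, hgb⟩ := H76.RT.exists_torus P hexp (A i) (hAP i) (hAcard i) (hSL i) z (b i)
      (hZB i hzc) (hbB i) hbnz (fun h => hz1 (Subtype.ext h))
      (fun u hu => congrArg Subtype.val (Subgroup.mem_center_iff.mp hzc ⟨u, hu⟩))
      (fun u hu => by
        refine ⟨(Multiplicative.toAdd (κ ⟨u, hu⟩) 0 * Multiplicative.toAdd (κ (b i)) 1 -
          Multiplicative.toAdd (κ ⟨u, hu⟩) 1 * Multiplicative.toAdd (κ (b i)) 0).val, ?_⟩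
        have h1 := congrArg Subtype.val (hκc ⟨u, hu⟩ (b i))
        change u * (b i : G) * u⁻¹ * (b i : G)⁻¹ = z ^ _ at h1
        have hc := ((Subgroup.mem_center_iff.mp (pow_mem hzc
          (Multiplicative.toAdd (κ ⟨u, hu⟩) 0 * Multiplicative.toAdd (κ (b i)) 1 -
          Multiplicative.toAdd (κ ⟨u, hu⟩) 1 * Multiplicative.toAdd (κ (b i)) 0).val) (b i)))
        have hc' := congrArg Subtype.val hc
        change (b i : G) * z ^ _ = z ^ _ * (b i : G) at hc'
        rw [hc', ← h1]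
        group) lam
    refine ⟨⟨g, hgN⟩, hdet ⟨g, hgN⟩ _ hgz, ?_⟩
    rw [hv, hφ]
    have : θ ⟨g, hgN⟩ (b i) = κ (b i ^ ((lam⁻¹ : (ZMod p)ˣ) : ZMod p).val * zQ ^ n) :=
      congrArg κ (Subtype.ext hgb)
    rw [this, map_mul, show κ (zQ ^ n) = 1 by rw [← MonoidHom.mem_ker, hκk]; exact pow_mem hzc n, mul_one,
      hκpow]
    funext k
    rw [Pi.smul_apply, Pi.smul_apply, nsmul_eq_mul, ZMod.natCast_zmod_val, smul_eq_mul]
  choose g hgdet hgv using htor
  let t : Fin 3 → φ.range := fun i => ⟨φ (g i), g i, rfl⟩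
  have hsix : ∀ i k, 1 ≤ k → k ≤ 5 → t i ^ k ∉ H76.GLT.scalars φ.range := by
    rintro i k hk1 hk5 ⟨c, hc⟩
    simp only [Subgroup.coe_pow, Units.val_pow_eq_pow_val, t] at hc
    have hd := congrArg Matrix.det hc
    rw [Matrix.det_pow, hgdet, Matrix.det_smul, Matrix.det_one, mul_one, Fintype.card_fin] at hd
    have hm : ∀ k : ℕ, (((φ (g i) : GL (Fin 2) (ZMod p)) : Matrix (Fin 2) (Fin 2) (ZMod p)) ^ k).mulVec (v i) =
        ((lam⁻¹ : (ZMod p)ˣ) : ZMod p) ^ k • v i := by
      intro k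
      induction k with
      | zero => rw [pow_zero, pow_zero, Matrix.one_mulVec, one_smul]
      | succ k ih => rw [pow_succ', ← Matrix.mulVec_mulVec, ih, Matrix.mulVec_smul, hgv, smul_smul, pow_succ]
    have hk := hm k
    rw [hc, Matrix.smul_mulVec, Matrix.one_mulVec] at hk
    obtain ⟨j, hj⟩ := Function.ne_iff.mp (hv0 i)
    have hck : c = ((lam⁻¹ : (ZMod p)ˣ) : ZMod p) ^ k := mul_right_cancel₀ hj (congrFun hk j)
    rw [hck] at hd
    have hu : lam ^ (3 * k) = 1 := by
      have hd' : lam ^ k = ((lam⁻¹) ^ k) ^ 2 := Units.ext (by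
        simp only [Units.val_pow_eq_pow_val]
        exact hd)
      rw [inv_pow, inv_pow, eq_inv_iff_mul_eq_one, ← pow_mul, ← pow_add] at hd'
      rwa [show 3 * k = k + k * 2 by ring]
    have := Nat.le_of_dvd (by omega) (orderOf_dvd_of_pow_eq_one hu)
    omega
  refine H76.GLT.not_three (X := fun i => ((t i : GL (Fin 2) (ZMod p)) : Matrix (Fin 2) (Fin 2) (ZMod p)))
    (v := v) (μ := fun _ => ((lam⁻¹ : (ZMod p)ˣ) : ZMod p)) (fun i h => ?_) (fun i j => ?_) hv0 hgv hind
  · exact hsix i 1 le_rfl (by norm_num) (by rw [pow_one]; exact H76.GLT.mem_scalars_iff.mpr h)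
  · exact congrArg (fun q : φ.range => ((q : GL (Fin 2) (ZMod p)) : Matrix (Fin 2) (Fin 2) (ZMod p)))
      (H76.GLT.commute_of_six h2 φ.range hcop (hsix i) (hsix j)).eq

end Cfsg.Agent.S3054
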