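import Cfsg.Statements.S3055
import Cfsg.Agent.H76.GLTwoTori
import Cfsg.Agent.H76.RadicalTorus
import Cfsg.Agent.H76.NormalizerFrame

set_option autoImplicit false
set_option maxRecDepth 4000
set_option maxHeartbeats 800000
open Cfsg Cfsg.Agent
open scoped commutatorElement

namespace Cfsg.Agent.S3055

/-- Let p be an odd prime and G a finite group with a Sylow p-subgroup P that is extraspecial of order p³ and exponent p. If all nonidentity elements of P are conjugate in G, then p ≤ 7. -/
theorem result {G : Type*} [Group G] [Finite G]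
    {p : ℕ} [Fact p.Prime] (hp : p ≠ 2) (P : Sylow p G) (hE : Cfsg.IsExtraspecial p ↥P)
    (hcard : Nat.card P = p ^ 3) (hexp : Monoid.exponent ↥P = p)
    (hconj : ∀ x y : ↥P, x ≠ 1 → y ≠ 1 → ∃ g : G, g * (x : G) * g⁻¹ = (y : G)) :
    p ≤ 7 := by
  classical
  by_contra hp7
  have hp11 : 11 ≤ p := by
    by_contra h
    have hpr := (Fact.out : p.Prime)
    have : 2 ≤ p := hpr.two_le
    interval_cases p <;> norm_num at hpr
  have h2 : (2 : ZMod p) ≠ 0 := by
    intro h
    rw [show (2 : ZMod p) = ((2 : ℕ) : ZMod p) by simp, ZMod.natCast_eq_zero_iff] at h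
    have := Nat.le_of_dvd two_pos h
    omega
  obtain ⟨zQ, κ, φ, hzc, hz1, hκs, hκk, hκc, hcop, hfr⟩ := H76.NF.exists_frame P hE hcard hexp
  set z : G := (zQ : G) with hzdef
  have hexp' : ∀ x : ↥P, x ^ p = 1 := fun x => by
    have := Monoid.pow_exponent_eq_one x
    rwa [hexp] at this
  have hzp : orderOf zQ = p := orderOf_eq_prime (hexp' zQ) hz1
  have hzG : z ≠ 1 := fun h => hz1 (Subtype.ext h)
  have hcenter : Subgroup.zpowers zQ = Subgroup.center ↥P :=
    PGroups.zpowers_eq_of_card_eq hE.2 hzc hz1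
  let ω : (Fin 2 → ZMod p) → (Fin 2 → ZMod p) → ZMod p := fun u v => u 0 * v 1 - u 1 * v 0
  have hωc : ∀ g h : ↥P, ⁅g, h⁆ = zQ ^ (ω (Multiplicative.toAdd (κ g)) (Multiplicative.toAdd (κ h))).val := hκc
  have hz0 : ∀ t : ZMod p, z ^ t.val = 1 → t = 0 := by
    intro t ht
    rw [← ZMod.val_eq_zero]
    have hd : orderOf zQ ∣ t.val := orderOf_dvd_of_pow_eq_one (Subtype.ext (by simpa using ht))
    exact Nat.eq_zero_of_dvd_of_lt hd (lt_of_lt_of_eq (ZMod.val_lt t) hzp.symm)
  have hzcomm : ∀ u ∈ (P : Subgroup G), u * z = z * u := fun u hu =>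
    congrArg Subtype.val (Subgroup.mem_center_iff.mp hzc ⟨u, hu⟩)
  -- the torus element at each line
  obtain ⟨lam, hlam⟩ := IsCyclic.exists_ofOrder_eq_natCard (α := (ZMod p)ˣ)
  rw [Nat.card_eq_fintype_card, ZMod.card_units p] at hlam
  have htor : ∀ w : Fin 2 → ZMod p, w ≠ 0 → ∃ t : φ.range,
      ((t : GL (Fin 2) (ZMod p)) : Matrix (Fin 2) (Fin 2) (ZMod p)).det = (lam : ZMod p) ∧
      ((t : GL (Fin 2) (ZMod p)) : Matrix (Fin 2) (Fin 2) (ZMod p)).mulVec w =
        ((lam⁻¹ : (ZMod p)ˣ) : ZMod p) • w := by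
    intro w hw
    obtain ⟨b, hb⟩ := hκs (Multiplicative.ofAdd w)
    have hbw : Multiplicative.toAdd (κ b) = w := by rw [hb, toAdd_ofAdd]
    have hbZ : b ∉ Subgroup.center ↥P := by
      rw [← hκk, MonoidHom.mem_ker, hb]
      exact fun h => hw (Multiplicative.ofAdd.injective h)
    have hb1 : b ≠ 1 := fun h => hbZ (h ▸ one_mem _)
    -- the centraliser of b in P
    obtain ⟨j, hj⟩ := Function.ne_iff.mp hw
    let χ : ↥P →* Multiplicative (ZMod p) := MonoidHom.mk' (fun g => Multiplicative.ofAdd (ω (Multiplicative.toAdd (κ g)) w))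
      fun g h => by
        rw [← ofAdd_add]
        congr 1
        simp only [ω, map_mul, toAdd_mul, Pi.add_apply]
        ring
    have hχs : Function.Surjective χ := by
      intro t
      obtain ⟨u, hu⟩ : ∃ u : Fin 2 → ZMod p, ω u w = Multiplicative.toAdd t := by
        fin_cases j
        · refine ⟨![0, -(Multiplicative.toAdd t / w 0)], ?_⟩
          simp only [Fin.zero_eta, Fin.isValue, Pi.zero_apply] at hj
          simp only [ω, Matrix.cons_val_zero, Matrix.cons_val_one]
          field_simp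
          ring
        · refine ⟨![Multiplicative.toAdd t / w 1, 0], ?_⟩
          simp only [Fin.mk_one, Fin.isValue, Pi.zero_apply] at hj
          simp only [ω, Matrix.cons_val_zero, Matrix.cons_val_one]
          field_simp
          ring
      obtain ⟨g, hg⟩ := hκs (Multiplicative.ofAdd u)
      exact ⟨g, by simp [χ, hg, hu]⟩
    have hχk : ∀ g : ↥P, g ∈ χ.ker ↔ Commute g b := by
      intro g
      rw [← commutatorElement_eq_one_iff_commute, hωc, hbw, MonoidHom.mem_ker]
      constructor
      · intro h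
        rw [show ω (Multiplicative.toAdd (κ g)) w = 0 from Multiplicative.ofAdd.injective h, ZMod.val_zero, pow_zero]
      · intro h
        exact congrArg Multiplicative.ofAdd (hz0 _ (congrArg Subtype.val h))
    set A : Subgroup G := χ.ker.map (P : Subgroup G).subtype with hA
    have hAP : A ≤ (P : Subgroup G) := Subgroup.map_subtype_le _
    have hAcard : Nat.card A = p ^ 2 := by
      have h := Subgroup.card_mul_index χ.ker
      rw [Subgroup.index_ker, MonoidHom.range_eq_top.mpr hχs, Subgroup.card_top, Nat.card_congr Multiplicative.toAdd,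
        Nat.card_zmod, show Nat.card ↥P = p ^ 3 from hcard, show p ^ 3 = p ^ 2 * p by ring] at h
      rw [← Nat.eq_of_mul_eq_mul_right (by omega) h]
      exact Subgroup.card_map_of_injective (P : Subgroup G).subtype_injective
    have hzA : z ∈ A := ⟨zQ, (hχk zQ).mpr (Subgroup.mem_center_iff.mp hzc b).symm, rfl⟩
    have hbA : (b : G) ∈ A := ⟨b, (hχk b).mpr (Commute.refl b), rfl⟩
    have hbnz : (b : G) ∉ Subgroup.zpowers z := by
      rintro ⟨k, hk⟩
      exact hbZ (hcenter ▸ ⟨k, Subtype.ext (by simpa using hk)⟩)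
    have hcommb : ∀ u ∈ (P : Subgroup G), ∃ t : ℕ, u * (b : G) * u⁻¹ = (b : G) * z ^ t := by
      intro u hu
      refine ⟨(ω (Multiplicative.toAdd (κ ⟨u, hu⟩)) (Multiplicative.toAdd (κ b))).val, ?_⟩
      have h1 := congrArg Subtype.val (hωc ⟨u, hu⟩ b)
      change u * (b : G) * u⁻¹ * (b : G)⁻¹ = z ^ _ at h1
      rw [((show Commute (b : G) z from hzcomm _ b.2).pow_right _).eq, ← h1]
      group
    -- upper transvection
    obtain ⟨u₁, hu₁⟩ := hχs (Multiplicative.ofAdd 1)
    have hup : ∃ (u : G) (t : ℕ), (t : ZMod p) ≠ 0 ∧ u * z * u⁻¹ = z ∧ u * (b : G) * u⁻¹ = (b : G) * z ^ t := by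
      refine ⟨u₁, (1 : ZMod p).val, by rw [ZMod.natCast_zmod_val]; exact one_ne_zero,
        by rw [hzcomm _ u₁.2, mul_inv_cancel_right], ?_⟩
      have h1 := congrArg Subtype.val (hωc u₁ b)
      rw [hbw, show ω (Multiplicative.toAdd (κ u₁)) w = 1 from Multiplicative.ofAdd.injective hu₁] at h1
      change (u₁ : G) * (b : G) * (u₁ : G)⁻¹ * (b : G)⁻¹ = z ^ _ at h1
      rw [((show Commute (b : G) z from hzcomm _ b.2).pow_right _).eq, ← h1]
      group
    -- lower transvection, by fusion of b to z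
    have hlow : ∃ (u : G) (t : ℕ), (t : ZMod p) ≠ 0 ∧ u * (b : G) * u⁻¹ = (b : G) ∧
        u * z * u⁻¹ = z * (b : G) ^ t := by
      obtain ⟨g, hg⟩ := hconj b zQ hb1 hz1
      have hPC : (P : Subgroup G) ≤ Subgroup.centralizer ({z} : Set G) := fun u hu =>
        Subgroup.mem_centralizer_singleton_iff.mpr (hzcomm u hu)
      have hgA : A.map (MulAut.conj g).toMonoidHom ≤ Subgroup.centralizer ({z} : Set G) := by
        rintro _ ⟨_, ⟨a, ha, rfl⟩, rfl⟩
        rw [Subgroup.mem_centralizer_singleton_iff, hzdef, ← hg]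
        have h : Commute (a : G) (b : G) := congrArg Subtype.val ((hχk a).mp ha).eq
        exact h.map (MulAut.conj g).toMonoidHom
      have hAp : IsPGroup p A := IsPGroup.of_card hAcard
      obtain ⟨R, hR⟩ := IsPGroup.exists_le_sylow (P := (A.map (MulAut.conj g).toMonoidHom).subgroupOf
        (Subgroup.centralizer ({z} : Set G)))
        ((hAp.map _).of_equiv (Subgroup.subgroupOfEquivOfLe hgA).symm)
      obtain ⟨c, hc⟩ := MulAction.exists_smul_eq (Subgroup.centralizer ({z} : Set G)) R (P.subtype hPC)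
      have hin : ∀ a ∈ A, ((c : G) * g) * a * ((c : G) * g)⁻¹ ∈ (P : Subgroup G) := by
        intro a ha
        have h1 : (⟨g * a * g⁻¹, hgA ⟨a, ha, rfl⟩⟩ : Subgroup.centralizer ({z} : Set G)) ∈ (R : Subgroup _) :=
          hR (Subgroup.mem_subgroupOf.mpr ⟨a, ha, rfl⟩)
        have h2 := Subgroup.smul_mem_pointwise_smul _ (MulAut.conj c) _ h1
        rw [← Sylow.coe_subgroup_smul, hc, Sylow.coe_subtype, Subgroup.mem_subgroupOf] at h2
        simpa [mul_assoc] using h2
      set h := (c : G) * g with hh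
      have hb' : h * (b : G) * h⁻¹ = z := by
        rw [hh, show (c : G) * g * (b : G) * ((c : G) * g)⁻¹ = (c : G) * (g * (b : G) * g⁻¹) * (c : G)⁻¹ by group,
          hg, Subgroup.mem_centralizer_singleton_iff.mp c.2]
        group
      set y : ↥P := ⟨h * z * h⁻¹, hin z hzA⟩ with hy
      have hyZ : y ∉ Subgroup.center ↥P := by
        rw [← hcenter]
        rintro ⟨k, hk⟩
        refine hbnz ?_
        have hk' : z ^ k = h * z * h⁻¹ := by simpa [hy] using congrArg Subtype.val hk
        have hzz : h⁻¹ * z * h ∈ Subgroup.zpowers (b : G) := ⟨1, by rw [← hb']; simp [mul_assoc]⟩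
        have hk2 : z = (h⁻¹ * z * h) ^ k := by
          have : (h⁻¹ * z * h) ^ k = h⁻¹ * z ^ k * h := by
            have h9 := conj_zpow (i := k) (a := h⁻¹) (b := z)
            rw [inv_inv] at h9
            exact h9
          rw [this, hk']; group
        have hle : Subgroup.zpowers z ≤ Subgroup.zpowers (b : G) :=
          Subgroup.zpowers_le.mpr (hk2 ▸ zpow_mem hzz k)
        have hob : orderOf b = p := orderOf_eq_prime (hexp' b) hb1
        have he : Subgroup.zpowers z = Subgroup.zpowers (b : G) := Subgroup.eq_of_le_of_card_ge hle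
          (by rw [Nat.card_zpowers, Nat.card_zpowers, Subgroup.orderOf_coe, hzdef, Subgroup.orderOf_coe, hob, hzp])
        exact he ▸ Subgroup.mem_zpowers _
      obtain ⟨u', hu'⟩ : ∃ u' : ↥P, ⁅u', y⁆ ≠ 1 := by
        by_contra hall
        push Not at hall
        exact hyZ (Subgroup.mem_center_iff.mpr fun u => commutatorElement_eq_one_iff_commute.mp (hall u))
      refine ⟨h⁻¹ * (u' : G) * h, (ω (Multiplicative.toAdd (κ u')) (Multiplicative.toAdd (κ y))).val, ?_, ?_, ?_⟩
      · rw [ZMod.natCast_zmod_val]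
        intro h0
        exact hu' (by rw [hωc, h0, ZMod.val_zero, pow_zero])
      · rw [show h⁻¹ * (u' : G) * h * (b : G) * (h⁻¹ * (u' : G) * h)⁻¹ =
          h⁻¹ * ((u' : G) * (h * (b : G) * h⁻¹) * (u' : G)⁻¹) * h by group, hb', hzcomm _ u'.2,
          mul_inv_cancel_right, ← hb']
        group
      · have h1 := congrArg Subtype.val (hωc u' y)
        set t := (ω (Multiplicative.toAdd (κ u')) (Multiplicative.toAdd (κ y))).val
        change (u' : G) * (h * z * h⁻¹) * (u' : G)⁻¹ * (h * z * h⁻¹)⁻¹ = z ^ t at h1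
        rw [show h⁻¹ * (u' : G) * h * z * (h⁻¹ * (u' : G) * h)⁻¹ =
          h⁻¹ * ((u' : G) * (h * z * h⁻¹) * (u' : G)⁻¹ * (h * z * h⁻¹)⁻¹) * (h * z * h⁻¹) * h by group, h1]
        have hbp : (b : G) ^ t = h⁻¹ * z ^ t * h := by rw [← hb', conj_pow]; group
        rw [hbp]
        have hcz : z ^ t * (h * z * h⁻¹) = h * z * h⁻¹ * z ^ t :=
          ((show Commute (h * z * h⁻¹) z from hzcomm _ y.2).pow_right t).eq.symm
        rw [mul_assoc h⁻¹ (z ^ t), hcz]
        group
    obtain ⟨g, hgN, hgz, n, hgb⟩ := H76.RT.exists_torus_of_gens P hexp A hAP hAcard z (b : G) hzA hbA hbnz hzG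
      hzcomm hcommb hup hlow lam
    have := hfr ⟨g, hgN⟩ b _ _ n hgz hgb
    exact ⟨⟨φ ⟨g, hgN⟩, ⟨g, hgN⟩, rfl⟩, this.1, by rw [← hbw]; exact this.2⟩
  choose! T hTdet hTv using htor
  have hpv : ∀ w : Fin 2 → ZMod p, w ≠ 0 → ∀ k : ℕ,
      (((T w : GL (Fin 2) (ZMod p)) : Matrix (Fin 2) (Fin 2) (ZMod p)) ^ k).mulVec w =
        ((lam⁻¹ : (ZMod p)ˣ) : ZMod p) ^ k • w := by
    intro w hw k
    induction k with
    | zero => rw [pow_zero, pow_zero, Matrix.one_mulVec, one_smul]
    | succ k ih => rw [pow_succ', ← Matrix.mulVec_mulVec, ih, Matrix.mulVec_smul, hTv w hw, smul_smul, pow_succ]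
  have hTk : ∀ w : Fin 2 → ZMod p, w ≠ 0 → ∀ k : ℕ, T w ^ k ∈ H76.GLT.scalars φ.range →
      p - 1 ∣ 3 * k := by
    rintro w hw k ⟨c, hc⟩
    simp only [Subgroup.coe_pow, Units.val_pow_eq_pow_val] at hc
    have hd := congrArg Matrix.det hc
    rw [Matrix.det_pow, hTdet w hw, Matrix.det_smul, Matrix.det_one, mul_one, Fintype.card_fin] at hd
    have hm := hpv w hw
    have hk := hm k
    rw [hc, Matrix.smul_mulVec, Matrix.one_mulVec] at hk
    obtain ⟨j, hj⟩ := Function.ne_iff.mp hw
    have hck : c = ((lam⁻¹ : (ZMod p)ˣ) : ZMod p) ^ k := mul_right_cancel₀ hj (congrFun hk j)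
    rw [hck] at hd
    have hu : lam ^ (3 * k) = 1 := by
      have hd' : lam ^ k = ((lam⁻¹) ^ k) ^ 2 := Units.ext (by
        simp only [Units.val_pow_eq_pow_val]
        exact hd)
      rw [inv_pow, inv_pow, eq_inv_iff_mul_eq_one, ← pow_mul, ← pow_add] at hd'
      rwa [show 3 * k = k + k * 2 by ring]
    exact hlam ▸ orderOf_dvd_of_pow_eq_one hu
  let W : Fin 7 → Fin 2 → ZMod p := fun i => ![1, ((i : ℕ) : ZMod p)]
  have hW0 : ∀ i, W i ≠ 0 := fun i h => one_ne_zero (congrFun h 0)
  have hWind : ∀ i j, i ≠ j → W i 0 * W j 1 - W i 1 * W j 0 ≠ 0 := by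
    intro i j hij h
    simp only [W, Matrix.cons_val_zero, Matrix.cons_val_one, one_mul, mul_one, sub_eq_zero,
      ZMod.natCast_eq_natCast_iff'] at h
    rw [Nat.mod_eq_of_lt (by omega), Nat.mod_eq_of_lt (by omega)] at h
    exact hij (Fin.ext h.symm)
  set x : Fin 7 → φ.range := fun i => T (W i) with hx
  have hns : ∀ i, x i ∉ H76.GLT.scalars φ.range := fun i h => by
    have := Nat.le_of_dvd (by omega) (hTk _ (hW0 i) 1 (by rwa [pow_one]))
    omega
  have hnot3 : ∀ i j k : Fin 7, i ≠ j → i ≠ k → j ≠ k → Commute (x i) (x j) → Commute (x i) (x k) → False := by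
    intro i j k hij hik hjk h1 h2'
    have hG := H76.GLT.good h2 φ.range hcop
    have h3 : Commute (x j) (x k) := hG.trans _ (x i) _ (hns i) h1.symm h2'
    refine H76.GLT.not_three (X := fun q => ((x (![i, j, k] q) : GL (Fin 2) (ZMod p)) : Matrix (Fin 2) (Fin 2) (ZMod p)))
      (v := fun q => W (![i, j, k] q)) (μ := fun _ => ((lam⁻¹ : (ZMod p)ˣ) : ZMod p))
      (fun q h => hns _ (H76.GLT.mem_scalars_iff.mpr h)) (fun a b => ?_) (fun q => hW0 _)
      (fun q => hTv _ (hW0 _)) (fun a b hab => hWind _ _ ?_)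
    · have hall : Commute (x (![i, j, k] a)) (x (![i, j, k] b)) := by
        fin_cases a <;> fin_cases b <;>
          first | exact Commute.refl _ | exact h1 | exact h1.symm | exact h2' | exact h2'.symm | exact h3 |
            exact h3.symm
      exact congrArg (fun q : φ.range => ((q : GL (Fin 2) (ZMod p)) : Matrix (Fin 2) (Fin 2) (ZMod p))) hall.eq
    · fin_cases a <;> fin_cases b <;>
        first | exact (hab rfl).elim | exact hij | exact hij.symm | exact hik | exact hik.symm | exact hjk |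
          exact hjk.symm
  by_cases hp13 : p = 13
  · -- four pairwise noncommuting elements of order four modulo scalars
    have hdiv : ∀ i, 4 * Nat.card (H76.GLT.scalars φ.range) ∣
        Nat.card (Subgroup.centralizer ({x i} : Set φ.range)) := by
      intro i
      refine H76.GLT.four_dvd h2 φ.range hcop (fun h => ?_) ?_
      · have := Nat.le_of_dvd (by omega) (hTk _ (hW0 i) 2 h)
        omega
      · have hm : ((T (W i) ^ 4 : φ.range) : GL (Fin 2) (ZMod p)).1.mulVec (W i) =
            ((lam⁻¹ : (ZMod p)ˣ) : ZMod p) ^ 4 • W i := by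
          simp only [Subgroup.coe_pow, Units.val_pow_eq_pow_val]
          exact hpv _ (hW0 i) 4
        refine H76.GLT.scalar_of_double h2 φ.range hcop _ (hW0 i) hm ?_
        rw [Subgroup.coe_pow, Units.val_pow_eq_pow_val, Matrix.det_pow, hTdet _ (hW0 i), ← pow_mul,
          ← Units.val_pow_eq_pow_val, ← Units.val_pow_eq_pow_val, Units.val_inj, inv_pow, eq_inv_iff_mul_eq_one,
          ← pow_add]
        have : lam ^ 12 = 1 := by
          rw [show 12 = orderOf lam by rw [hlam, hp13], pow_orderOf_eq_one]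
        exact this
    let cls : Fin 7 → Finset (Fin 7) := fun i => Finset.univ.filter fun j => Commute (x i) (x j)
    have hG := H76.GLT.good h2 φ.range hcop
    have hfib : ∀ b ∈ Finset.univ.image cls, (Finset.univ.filter fun i => cls i = b).card ≤ 2 := by
      intro b hb
      by_contra hlt
      obtain ⟨i, hi, j, hj, k, hk, hij, hik, hjk⟩ := Finset.two_lt_card.mp (not_le.mp hlt)
      simp only [Finset.mem_filter, Finset.mem_univ, true_and] at hi hj hk
      have hc : ∀ q, cls q = cls i → Commute (x i) (x q) := fun q hq => by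
        have : q ∈ cls i := by rw [← hq]; simp [cls, Commute.refl]
        simpa [cls] using this
      exact hnot3 i j k hij hik hjk (hc j (hj.trans hi.symm)) (hc k (hk.trans hi.symm))
    have hbig : 4 ≤ (Finset.univ.image cls).card := by
      have := Finset.card_le_mul_card_image (f := cls) Finset.univ 2 hfib
      simp only [Finset.card_univ, Fintype.card_fin] at this
      omega
    obtain ⟨Z, hZsub, hZcard⟩ := Finset.exists_subset_card_eq hbig
    let e := (Finset.equivFinOfCardEq hZcard).symm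
    have hrep : ∀ q : Fin 4, ∃ i, cls i = (e q : Finset (Fin 7)) := fun q => by
      simpa using Finset.mem_image.mp (hZsub (e q).2)
    choose r hr using hrep
    refine H76.ACP.false_of_four hG (x := fun q => x (r q)) (fun q => hns _) (fun q => hdiv _) (fun a b hab hc => hab ?_)
    refine e.injective (Subtype.ext ?_)
    rw [← hr a, ← hr b]
    ext j
    simp only [cls, Finset.mem_filter, Finset.mem_univ, true_and]
    exact ⟨fun h => hG.trans _ (x (r a)) _ (hns _) hc.symm h, fun h => hG.trans _ (x (r b)) _ (hns _) hc h⟩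
  · have hsix : ∀ i k, 1 ≤ k → k ≤ 5 → x i ^ k ∉ H76.GLT.scalars φ.range := by
      intro i k hk1 hk5 h
      have hd := hTk _ (hW0 i) k h
      have hle := Nat.le_of_dvd (by omega) hd
      have hp16 : p ≤ 16 := by omega
      have key : ∀ q : ℕ, 11 ≤ q → q ≤ 16 → q.Prime → q ≠ 13 → q = 11 := by
        intro q h1 h2 h3 h4
        interval_cases q <;> first | rfl | omega | (norm_num at h3)
      have h11 := key p hp11 hp16 Fact.out hp13
      obtain ⟨m, hm⟩ := hd
      rw [h11] at hm
      omega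
    exact hnot3 0 1 2 (by decide) (by decide) (by decide)
      (H76.GLT.commute_of_six h2 φ.range hcop (hsix 0) (hsix 1))
      (H76.GLT.commute_of_six h2 φ.range hcop (hsix 0) (hsix 2))

end Cfsg.Agent.S3055
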