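import Cfsg.Statements.S3057
import Cfsg.Agent.H62.StronglyEmbedded
import Cfsg.Agent.Coprime.Generation
import Cfsg.Agent.Cores.Constrained
import Cfsg.Agent.PGroups.Basic
import Cfsg.Agent.S0016
import Cfsg.Agent.S0218

set_option autoImplicit false
open Cfsg

namespace Cfsg.Agent.S3057

/-- A cyclic or generalized quaternion group has at most one subgroup of order `p`. -/
theorem uniq_of {p : ℕ} [Fact p.Prime] {Q : Type*} [Group Q] [Finite Q]
    (h : IsCyclic Q ∨ (p = 2 ∧ ∃ n : ℕ, Nonempty (Q ≃* QuaternionGroup (2 ^ n)))) :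
    ∀ A B : Subgroup Q, Nat.card A = p → Nat.card B = p → A = B := by
  intro A B hA hB
  rcases h with hc | ⟨hp2, n, ⟨e⟩⟩
  · have := Fintype.ofFinite Q
    apply Subgroup.eq_of_le_of_card_ge ?_ (by rw [hA, hB])
    intro x hx
    classical
    have hp := (Fact.out : p.Prime)
    -- at most `p` solutions of `x ^ p = 1`
    by_contra hxB
    have hS : (Finset.univ.filter fun y : Q => y ^ p = 1).card ≤ p := IsCyclic.card_pow_eq_one_le hp.pos
    have hle : insert x (Finset.univ.filter fun y : Q => y ∈ B) ⊆ Finset.univ.filter fun y : Q => y ^ p = 1 := by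
      intro y hy
      rw [Finset.mem_insert, Finset.mem_filter] at hy
      rw [Finset.mem_filter]
      refine ⟨Finset.mem_univ _, ?_⟩
      rcases hy with rfl | ⟨-, hy⟩
      · rw [← hA]; exact congrArg Subtype.val (pow_card_eq_one' (x := (⟨y, hx⟩ : A)))
      · rw [← hB]; exact congrArg Subtype.val (pow_card_eq_one' (x := (⟨y, hy⟩ : B)))
    have h2 := Finset.card_le_card hle
    have hBc : (Finset.univ.filter fun y : Q => y ∈ B).card = p := by
      rw [← hB, Nat.card_eq_fintype_card]
      exact (Fintype.card_subtype _).symm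
    rw [Finset.card_insert_of_notMem (by simp [hxB]), hBc] at h2
    omega
  · subst hp2
    cases n with
    | zero =>
      have hcyc : IsCyclic Q := by
        have hx : orderOf (QuaternionGroup.xa (0 : ZMod (2 * 2 ^ 0))) = 4 := QuaternionGroup.orderOf_xa 0
        have h4 : Nat.card (QuaternionGroup (2 ^ 0)) = 4 := by
          rw [Nat.card_eq_fintype_card, QuaternionGroup.card]; norm_num
        have hc := isCyclic_of_orderOf_eq_card (α := QuaternionGroup (2 ^ 0)) _ (hx.trans h4.symm)
        exact isCyclic_of_surjective e.symm.toMonoidHom e.symm.surjective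
      have := Fintype.ofFinite Q
      classical
      apply Subgroup.eq_of_le_of_card_ge ?_ (by rw [hA, hB])
      intro x hx
      by_contra hxB
      have hS : (Finset.univ.filter fun y : Q => y ^ 2 = 1).card ≤ 2 := IsCyclic.card_pow_eq_one_le two_pos
      have hle : insert x (Finset.univ.filter fun y : Q => y ∈ B) ⊆ Finset.univ.filter fun y : Q => y ^ 2 = 1 := by
        intro y hy
        rw [Finset.mem_insert, Finset.mem_filter] at hy
        rw [Finset.mem_filter]
        refine ⟨Finset.mem_univ _, ?_⟩
        rcases hy with rfl | ⟨-, hy⟩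
        · rw [← hA]; exact congrArg Subtype.val (pow_card_eq_one' (x := (⟨y, hx⟩ : A)))
        · rw [← hB]; exact congrArg Subtype.val (pow_card_eq_one' (x := (⟨y, hy⟩ : B)))
      have h2 := Finset.card_le_card hle
      have hBc : (Finset.univ.filter fun y : Q => y ∈ B).card = 2 := by
        rw [← hB, Nat.card_eq_fintype_card]
        exact (Fintype.card_subtype _).symm
      rw [Finset.card_insert_of_notMem (by simp [hxB]), hBc] at h2
      omega
    | succ m =>
      have hsub : ∀ a b : Q, orderOf a = 2 → orderOf b = 2 → a = b := by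
        intro a b ha hb
        have h1 := (Nat.card_eq_one_iff_unique.mp (S0218.result m)).1
        have := @Subsingleton.elim _ h1 ⟨e a, by rw [MulEquiv.orderOf_eq, ha]⟩ ⟨e b, by rw [MulEquiv.orderOf_eq, hb]⟩
        exact e.injective (congrArg Subtype.val this)
      obtain ⟨a, ha⟩ := exists_prime_orderOf_dvd_card' (G := A) 2 (hA ▸ dvd_rfl)
      obtain ⟨b, hb⟩ := exists_prime_orderOf_dvd_card' (G := B) 2 (hB ▸ dvd_rfl)
      rw [← Subgroup.orderOf_coe] at ha hb
      have e1 : Subgroup.zpowers (a : Q) = A :=
        Subgroup.eq_of_le_of_card_ge (Subgroup.zpowers_le.mpr a.2) (by rw [Nat.card_zpowers, ha, hA])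
      have e2 : Subgroup.zpowers (b : Q) = B :=
        Subgroup.eq_of_le_of_card_ge (Subgroup.zpowers_le.mpr b.2) (by rw [Nat.card_zpowers, hb, hB])
      rw [← e1, ← e2, hsub _ _ ha hb]

/-- Let p be a prime and G a finite p-solvable group of order divisible by p, with Sylow p-subgroup P. Then the Sylow p-subgroups of G fail to be chain-connected through nontrivial intersections (equivalently, G has a strongly p-embedded subgroup) if and only if O_p(G) = 1 and P is cyclic or, for p = 2, generalized quaternion. -/
theorem result {G : Type*} [Group G] [Finite G]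
    (p : ℕ) [Fact p.Prime] (hdiv : p ∣ Nat.card G) (hsol : Cfsg.IsPSolvable p G) (P : Sylow p G) :
    ¬ Cfsg.IsSylowChainConnected p G ↔
      Cfsg.pCore p G = ⊥ ∧ (IsCyclic ↥P ∨ (p = 2 ∧ ∃ n : ℕ, Nonempty (↥P ≃* QuaternionGroup (2 ^ n)))) := by
  have hp := (Fact.out : p.Prime)
  have hPne : (P : Subgroup G) ≠ ⊥ := P.ne_bot_of_dvd_card hdiv
  constructor
  · intro hnc
    obtain ⟨H, hH, hpH, hse⟩ := H62.exists_SE_of_not_connected hnc
    obtain ⟨S, hS⟩ := H62.SE.exists_sylow_le hse hpH
    have hcore : Cfsg.pCore p G = ⊥ := by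
      by_contra hne
      apply hH
      rw [eq_top_iff, ← Subgroup.normalizer_eq_top_iff.mpr (inferInstance : (Cfsg.pCore p G).Normal)]
      exact H62.SE.normalizer_le hse Cores.pCore_isPGroup hne ((Cores.pCore_le_sylow S).trans hS)
    refine ⟨hcore, ?_⟩
    set K := Cfsg.pPrimeCore p G with hK_def
    have huniq : ∀ A B : Subgroup (S : Subgroup G), Nat.card A = p → Nat.card B = p → A = B := by
      by_contra hcon
      simp only [not_forall] at hcon
      obtain ⟨A, B, hA, hB, hAB⟩ := hcon
      have hSne : (S : Subgroup G) ≠ ⊥ := S.ne_bot_of_dvd_card hdiv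
      have : Nontrivial (S : Subgroup G) := (Subgroup.nontrivial_iff_ne_bot _).mpr hSne
      obtain ⟨z, hzc, hzo⟩ : ∃ z ∈ Subgroup.center (S : Subgroup G), orderOf z = p := by
        obtain ⟨z, -, hz, hzo⟩ := PGroups.exists_mem_center_orderOf_eq S.isPGroup' ⊤ top_ne_bot
        exact ⟨z, by assumption, by assumption⟩
      -- an element of order `p` outside `⟨z⟩`
      obtain ⟨y, hyo, hyz⟩ : ∃ y : (S : Subgroup G), orderOf y = p ∧ y ∉ Subgroup.zpowers z := by
        by_contra hno
        simp only [not_exists, not_and, not_not] at hno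
        apply hAB
        have key : ∀ A : Subgroup (S : Subgroup G), Nat.card A = p → A = Subgroup.zpowers z := by
          intro A hA
          obtain ⟨a, ha⟩ := exists_prime_orderOf_dvd_card' (G := A) p (by rw [hA])
          rw [← Subgroup.orderOf_coe] at ha
          have e1 : Subgroup.zpowers (a : (S : Subgroup G)) = A :=
            Subgroup.eq_of_le_of_card_ge (Subgroup.zpowers_le.mpr a.2) (by rw [Nat.card_zpowers, ha, hA])
          rw [← e1]
          exact Subgroup.eq_of_le_of_card_ge (Subgroup.zpowers_le.mpr (hno _ ha)) (by rw [Nat.card_zpowers, Nat.card_zpowers, ha, hzo])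
        rw [key A hA, key B hB]
      set x : G := (z : G) with hx
      have hxo : orderOf x = p := (Subgroup.orderOf_coe z).trans hzo
      have hyo' : orderOf (y : G) = p := (Subgroup.orderOf_coe y).trans hyo
      have hxy : Commute x (y : G) := congrArg Subtype.val (Subgroup.mem_center_iff.mp hzc y).symm
      set E := Subgroup.closure ({x, (y : G)} : Set G) with hE
      have hES : E ≤ (S : Subgroup G) := (Subgroup.closure_le _).mpr (by rintro a (rfl | rfl); exacts [z.2, y.2])
      have hEcom : IsMulCommutative E := by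
        have h1 : E ≤ Subgroup.centralizer (E : Set G) := by
          rw [hE, Subgroup.centralizer_closure, Subgroup.closure_le]
          intro a ha
          rw [SetLike.mem_coe, Subgroup.mem_centralizer_iff]
          intro b hb
          rcases ha with rfl | rfl <;> rcases hb with rfl | rfl
          exacts [rfl, hxy.eq.symm, hxy.eq, rfl]
        exact ⟨⟨fun a b => Subtype.ext (Subgroup.mem_centralizer_iff.mp (h1 b.2) a a.2)⟩⟩
      have hKc : p.Coprime (Nat.card K) := (Cores.coprime_card_pPrimeCore).symm
      have hEcop : (Nat.card E).Coprime (Nat.card K) := by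
        obtain ⟨n, hn⟩ := IsPGroup.iff_card.mp (S.isPGroup'.to_le hES)
        rw [hn]; exact hKc.pow_left n
      have hKH : K ≤ H := by
        refine Coprime.le_of_centralizer_le (p := p) (A := E) (x := x) (y := (y : G))
          (Subgroup.subset_closure (Set.mem_insert _ _)) (Subgroup.subset_closure (Set.mem_insert_of_mem _ rfl))
          K H (by rw [Subgroup.normalizer_eq_top_iff.mpr (inferInstance : K.Normal)]; exact le_top) hEcop hKc
          (by rw [orderOf_dvd_iff_pow_eq_one.mp hxo.dvd]; exact one_mem _) (by rw [orderOf_dvd_iff_pow_eq_one.mp hyo'.dvd]; exact one_mem _)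
          (inf_le_right.trans (H62.SE.centralizer_le hse (hS y.2) hyo')) ?_
        intro i hi
        refine inf_le_right.trans (H62.SE.centralizer_le hse (H.mul_mem (hS z.2) (H.pow_mem (hS y.2) i))
          (orderOf_eq_prime ?_ ?_))
        · rw [(hxy.pow_right i).mul_pow, ← pow_mul, mul_comm i p, pow_mul, orderOf_dvd_iff_pow_eq_one.mp hyo'.dvd,
            one_pow, mul_one, orderOf_dvd_iff_pow_eq_one.mp hxo.dvd]
        · intro e
          apply hyz
          have hzy : z = (y ^ i)⁻¹ := Subtype.ext (by
            show x = ((y : G) ^ i)⁻¹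
            exact eq_inv_of_mul_eq_one_left e)
          have hle : Subgroup.zpowers z ≤ Subgroup.zpowers y := Subgroup.zpowers_le.mpr (by
            rw [hzy]; exact Subgroup.inv_mem _ (Subgroup.pow_mem _ (Subgroup.mem_zpowers y) i))
          have heq := Subgroup.eq_of_le_of_card_ge hle (by rw [Nat.card_zpowers, Nat.card_zpowers, hzo, hyo])
          rw [heq]; exact Subgroup.mem_zpowers y
      -- `O_{p',p}` lies over `K`
      set R := Cfsg.pPrimePCore p G with hR
      have hnt : Nontrivial (G ⧸ K) := by
        rw [← Finite.one_lt_card_iff_nontrivial, ← Subgroup.index_eq_card]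
        refine Nat.lt_of_le_of_ne (Nat.one_le_iff_ne_zero.mpr Subgroup.index_ne_zero_of_finite) fun e => ?_
        have h1 : p ∣ Nat.card K := by rwa [Subgroup.index_eq_one.mp e.symm, Subgroup.card_top]
        exact hp.not_dvd_one (hKc ▸ Nat.dvd_gcd dvd_rfl h1)
      have hne' : Cfsg.pCore p (G ⧸ K) ≠ ⊥ :=
        Cores.pCore_ne_bot_of_pPrimeCore_eq_bot (Cores.isPSolvable_quotient hsol K) Cores.pPrimeCore_quotient_pPrimeCore
      have hpR : p ∣ Nat.card R := by
        have h1 : p ∣ Nat.card (Cfsg.pCore p (G ⧸ K)) := by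
          rcases (Cores.pCore_isPGroup (p := p) (G := G ⧸ K)).card_eq_or_dvd with h | h
          · exact absurd (Subgroup.card_eq_one.mp h) hne'
          · exact h
        refine h1.trans ?_
        rw [hR, ← Cores.map_pPrimePCore]
        exact Subgroup.card_map_dvd _ _
      have h2 := H62.SE.sup_pResidual_eq_top hse hpH R hpR
      apply hH
      rw [eq_top_iff, ← h2]
      refine sup_le le_rfl ((Subgroup.closure_le _).mpr fun g hg => hKH ?_)
      refine (QuotientGroup.eq_one_iff g).mp ?_
      obtain ⟨k, hk⟩ := Cores.pCore_isPGroup (p := p) (G := G ⧸ K) ⟨QuotientGroup.mk' K g, hg.1⟩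
      exact orderOf_eq_one_iff.mp (Nat.eq_one_of_dvd_coprimes (hg.2.pow_right k) (orderOf_map_dvd (QuotientGroup.mk' K) g)
        (orderOf_dvd_of_pow_eq_one (congrArg Subtype.val hk :)))
    rcases S0016.result p S.isPGroup' huniq with h | ⟨h1, n, ⟨e⟩⟩
    · exact Or.inl (isCyclic_of_surjective (S.equiv P).toMonoidHom (S.equiv P).surjective)
    · exact Or.inr ⟨h1, n, ⟨(P.equiv S).trans e⟩⟩
  · rintro ⟨hcore, hP⟩
    have huniq := uniq_of hP
    obtain ⟨x, hx, hxo⟩ := H62.exists_orderOf_eq_prime P.isPGroup' hPne
    set Z := Subgroup.zpowers x with hZ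
    have hZc : Nat.card Z = p := by rw [hZ, Nat.card_zpowers, hxo]
    have hZP : Z ≤ (P : Subgroup G) := Subgroup.zpowers_le.mpr hx
    have hZp : IsPGroup p Z := P.isPGroup'.to_le hZP
    set H := Subgroup.normalizer (Z : Set G) with hH
    have hZH : Z ≤ H := Subgroup.le_normalizer
    refine H62.not_connected_of_SE (H := H) ?_ (hZc ▸ Subgroup.card_dvd_of_le hZH) ?_
    · intro e
      have hn : Z.Normal := Subgroup.normalizer_eq_top_iff.mp e
      have h1 := Cores.le_pCore (hN := hn) hZp
      rw [hcore, le_bot_iff] at h1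
      rw [h1, Subgroup.card_bot] at hZc
      exact hp.ne_one hZc.symm
    · -- every element of order `p` of `H` lies in `Z`
      have key : ∀ y ∈ H, orderOf y = p → Subgroup.zpowers y = Z := by
        intro y hy hyo
        have hyp : IsPGroup p (Subgroup.zpowers y) := IsPGroup.of_card (n := 1) (by rw [Nat.card_zpowers, hyo, pow_one])
        obtain ⟨T, hT⟩ := (hyp.to_sup_of_normal_right' hZp (Subgroup.zpowers_le.mpr hy)).exists_le_sylow
        have hyT : Subgroup.zpowers y ≤ (T : Subgroup G) := le_sup_left.trans hT
        have hZT : Z ≤ (T : Subgroup G) := le_sup_right.trans hT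
        have hu : ∀ A B : Subgroup (T : Subgroup G), Nat.card A = p → Nat.card B = p → A = B := by
          intro A B hA hB
          apply Subgroup.map_injective (f := (T.equiv P).toMonoidHom) (T.equiv P).injective
          exact huniq _ _ (by rw [Subgroup.card_map_of_injective (T.equiv P).injective, hA])
            (by rw [Subgroup.card_map_of_injective (T.equiv P).injective, hB])
        have h1 := hu ((Subgroup.zpowers y).subgroupOf T) (Z.subgroupOf T)
          (by rw [Nat.card_congr (Subgroup.subgroupOfEquivOfLe hyT).toEquiv, Nat.card_zpowers, hyo])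
          (by rw [Nat.card_congr (Subgroup.subgroupOfEquivOfLe hZT).toEquiv, hZc])
        exact (Subgroup.subgroupOf_inj.mp h1 |> fun h => by rwa [inf_eq_left.mpr hyT, inf_eq_left.mpr hZT] at h)
      intro g hg hdvd
      apply hg
      obtain ⟨w, hwo⟩ := exists_prime_orderOf_dvd_card' p hdvd
      rw [← Subgroup.orderOf_coe] at hwo
      obtain ⟨y, hy1, v, hv, hvy⟩ := w
      have hyo : orderOf y = p := hwo
      have hvy' : MulAut.conj g v = y := hvy
      have hvo : orderOf v = p := by rw [← hyo, ← hvy', MulEquiv.orderOf_eq]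
      have e1 := key y hy1 hyo
      have e2 := key v hv hvo
      have e3 : Z.map (MulAut.conj g).toMonoidHom = Z := by
        conv_lhs => rw [← e2, MonoidHom.map_zpowers]
        rw [← e1]
        exact congrArg Subgroup.zpowers hvy'
      show g ∈ Subgroup.normalizer (Z : Set G)
      rw [Subgroup.mem_normalizer_iff]
      intro a
      conv_rhs => rw [← e3]
      simp [Subgroup.mem_map]

end Cfsg.Agent.S3057
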