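import Cfsg.Statements.S3060
import Cfsg.Agent.H62.DStar
import Cfsg.Agent.Cores.PCore

set_option autoImplicit false
open Cfsg
open scoped commutatorElement

namespace Cfsg.Agent.S3060

/-- Commutators with powers stay in a subgroup centralized by the element. -/
theorem quadratic_zpowers {G : Type*} [Group G] [Finite G] (M : Subgroup G) {a : G}
    (h : ∀ m ∈ M, ⁅m, a⁆ * a = a * ⁅m, a⁆) :
    ⁅⁅M, Subgroup.zpowers a⁆, Subgroup.zpowers a⁆ = ⊥ := by
  rw [Subgroup.commutator_eq_bot_iff_le_centralizer, Subgroup.commutator_le]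
  intro m hm y hy
  have hC : ∀ n : ℕ, Commute ⁅m, a ^ n⁆ a := by
    intro n
    induction n with
    | zero => simp
    | succ n ih =>
      rw [pow_succ, show ⁅m, a ^ n * a⁆ = ⁅m, a ^ n⁆ * (a ^ n * ⁅m, a⁆ * (a ^ n)⁻¹) by
        simp only [commutatorElement_def]; group]
      have h2 : Commute (a ^ n) ⁅m, a⁆ := ((show Commute ⁅m, a⁆ a from h m hm).symm.pow_left n)
      rw [h2.eq, mul_inv_cancel_right]
      exact ih.mul_left (h m hm)
  obtain ⟨n, rfl⟩ := (isOfFinOrder_of_finite a).mem_powers_iff_mem_zpowers.mpr hy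
  rw [Subgroup.mem_centralizer_iff]
  intro z hz
  obtain ⟨k, rfl⟩ := Subgroup.mem_zpowers_iff.mp hz
  exact ((hC n).zpow_right k).eq.symm

/-- The D*-Theorem. For a finite p-group S let D*(S) be the subgroup generated by the abelian subgroups A of S such that every x ∈ S with ⟨A, x⟩ of nilpotency class at most two centralizes A. Let p be an odd prime and H a finite p-stable group with Sylow p-subgroup S. Here H is p-stable in the following sense: the largest normal p-subgroup O_p(H) contains its centralizer in H, and for every normal p-subgroup P of H, every element acting quadratically on P has image in O_p(H/C_H(P)). Then D*(S) is a normal subgroup of H. -/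
theorem result {G : Type*} [Group G] [Finite G] {p : ℕ} [Fact p.Prime] (hp : p ≠ 2)
    (hc : Subgroup.centralizer (Cfsg.pCore p G : Set G) ≤ Cfsg.pCore p G)
    (hst : ∀ (P : Subgroup G) [P.Normal], IsPGroup p P → Cfsg.IsPStableOn p P) (S : Sylow p G) :
    (Cfsg.dStarOf (S : Subgroup G)).Normal := by
  set P := Cfsg.pCore p G with hP
  set D₀ := Cfsg.dStar (S : Subgroup G) with hD₀
  set D := D₀.map (S : Subgroup G).subtype with hD
  show D.Normal
  have hPn : P.Normal := inferInstance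
  have hPp : IsPGroup p P := Cores.pCore_isPGroup
  have hPS : P ≤ (S : Subgroup G) := Cores.pCore_le_sylow S
  have hDS : D ≤ (S : Subgroup G) := Subgroup.map_subtype_le _
  have hmem := H62.dStar_mem_family S.isPGroup'
  have hDcomm : ∀ a ∈ D, ∀ b ∈ D, a * b = b * a := by
    rintro _ ⟨a, ha, rfl⟩ _ ⟨b, hb, rfl⟩
    exact congrArg Subtype.val (congrArg Subtype.val (hmem.1.is_comm.comm ⟨a, ha⟩ ⟨b, hb⟩))
  have hDnorm : ∀ s ∈ (S : Subgroup G), ∀ d ∈ D, s * d * s⁻¹ ∈ D := by
    rintro s hs _ ⟨d, hd, rfl⟩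
    exact ⟨_, H62.dStar_normal.conj_mem d hd ⟨s, hs⟩, rfl⟩
  -- the defining property inside `S`
  have hfam : ∀ x ∈ (S : Subgroup G),
      (∀ d ∈ D, ⁅d, x⁆ * x = x * ⁅d, x⁆ ∧ ∀ d' ∈ D, ⁅d, x⁆ * d' = d' * ⁅d, x⁆) → ∀ d ∈ D, d * x = x * d := by
    rintro x hx h _ ⟨d, hd, rfl⟩
    have := H62.commute_of_mem_dStarFamily hmem (x := (⟨x, hx⟩ : (S : Subgroup G))) (fun a ha => ⟨Subtype.ext (h _ ⟨a, ha, rfl⟩).1,
      fun a' ha' => Subtype.ext ((h _ ⟨a, ha, rfl⟩).2 _ ⟨a', ha', rfl⟩)⟩) d hd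
    exact congrArg Subtype.val this
  -- `D` acts quadratically on `P`, hence lies in `P`
  have hDP : D ≤ P := by
    intro d hd
    have h1 : ⁅⁅P, Subgroup.zpowers d⁆, Subgroup.zpowers d⁆ = ⊥ := by
      refine quadratic_zpowers P fun q hq => hDcomm _ ?_ d hd
      rw [commutatorElement_def]
      exact D.mul_mem (hDnorm q (hPS hq) d hd) (D.inv_mem hd)
    have h2 := hst P hPp d h1
    have h3 : (Cfsg.pCore p (G ⧸ Subgroup.centralizer (P : Set G))).comap (QuotientGroup.mk' (Subgroup.centralizer (P : Set G))) ≤ P := by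
      refine Cores.le_pCore (Cores.pCore_isPGroup.comap_of_ker_isPGroup _ ?_)
      rw [QuotientGroup.ker_mk']
      exact hPp.to_le hc
    exact h3 h2
  -- the conjugates of `D` commute
  set DP := D.subgroupOf P with hDP_def
  have hmemP : DP ∈ Cfsg.dStarFamily P := by
    refine ⟨⟨⟨fun a b => Subtype.ext (Subtype.ext (hDcomm _ a.2 _ b.2))⟩⟩, fun x hx a ha => ?_⟩
    refine Subtype.ext (hfam x (hPS x.2) (fun d hd => ?_) _ ha)
    have hdP : d ∈ P := hDP hd
    set X := DP ⊔ Subgroup.zpowers x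
    have hdX : (⟨d, hdP⟩ : P) ∈ X := Subgroup.mem_sup_left hd
    have hxX : x ∈ X := Subgroup.mem_sup_right (Subgroup.mem_zpowers x)
    have hc1 : ∀ z ∈ X, Commute ⁅(⟨d, hdP⟩ : P), x⁆ z := fun z hz =>
      commutatorElement_eq_one_iff_mul_comm.mp (Subgroup.mem_bot.mp (hx ▸
        Subgroup.commutator_mem_commutator (Subgroup.commutator_mem_commutator hdX hxX) hz))
    exact ⟨congrArg Subtype.val (hc1 x hxX).eq,
      fun d' hd' => congrArg Subtype.val (hc1 ⟨d', hDP hd'⟩ (Subgroup.mem_sup_left hd')).eq⟩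
  have hconjcomm : ∀ g : G, ∀ a ∈ D, ∀ b ∈ D, (g * a * g⁻¹) * b = b * (g * a * g⁻¹) := by
    intro g a ha b hb
    let φ : P ≃* P := MulAut.conjNormal g
    have h := H62.commute_members (S := P) hPp (T := ⊤) (H62.map_mem_dStarFamily hmemP φ) hmemP le_top le_top
      (φ ⟨a, hDP ha⟩) ⟨_, ha, rfl⟩ ⟨b, hDP hb⟩ hb
    exact congrArg Subtype.val h
  set M := Subgroup.normalClosure (D : Set G) with hM
  have hMn : M.Normal := inferInstance
  have hDM : D ≤ M := Subgroup.le_normalClosure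
  have hMP : M ≤ P := Subgroup.normalClosure_le_normal hDP
  have hMp : IsPGroup p M := hPp.to_le hMP
  have hMcomm : ∀ m ∈ M, ∀ m' ∈ M, m * m' = m' * m := by
    have h1 : M ≤ Subgroup.centralizer (M : Set G) := by
      rw [hM, Subgroup.normalClosure, Subgroup.centralizer_closure, Subgroup.closure_le]
      intro a ha
      rw [SetLike.mem_coe, Subgroup.mem_centralizer_iff]
      intro b hb
      simp only [Group.mem_conjugatesOfSet_iff, isConj_iff] at ha hb
      obtain ⟨x, hx, f, rfl⟩ := ha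
      obtain ⟨y, hy, g, rfl⟩ := hb
      have h := hconjcomm (g⁻¹ * f) x hx y hy
      calc g * y * g⁻¹ * (f * x * f⁻¹) = g * (y * (g⁻¹ * f * x * (g⁻¹ * f)⁻¹)) * g⁻¹ := by group
        _ = g * ((g⁻¹ * f * x * (g⁻¹ * f)⁻¹) * y) * g⁻¹ := by rw [h]
        _ = f * x * f⁻¹ * (g * y * g⁻¹) := by group
    exact fun m hm m' hm' => Subgroup.mem_centralizer_iff.mp (h1 hm') m hm
  -- every element acting quadratically on `M` centralizes `D`
  have hquad : ∀ g : G, (∀ m ∈ M, ⁅m, g⁆ * g = g * ⁅m, g⁆) → ∀ d ∈ D, d * g = g * d := by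
    intro g hg d hd
    set π := QuotientGroup.mk' (Subgroup.centralizer (M : Set G))
    have h1 : π g ∈ Cfsg.pCore p (G ⧸ Subgroup.centralizer (M : Set G)) := hst M hMp g (quadratic_zpowers M hg)
    obtain ⟨t, ht, htg⟩ := Cores.pCore_le_sylow (S.mapSurjective (f := π) (QuotientGroup.mk'_surjective _)) h1
    have hc' : t⁻¹ * g ∈ Subgroup.centralizer (M : Set G) := (QuotientGroup.eq).mp htg
    have hsame : ∀ m ∈ M, g * m * g⁻¹ = t * m * t⁻¹ := by
      intro m hm
      have := Subgroup.mem_centralizer_iff.mp hc' m hm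
      calc g * m * g⁻¹ = t * ((t⁻¹ * g) * m) * g⁻¹ := by group
        _ = t * (m * (t⁻¹ * g)) * g⁻¹ := by rw [this]
        _ = t * m * t⁻¹ := by group
    have hbr : ∀ m ∈ M, ⁅m, t⁆ = ⁅m, g⁆ := fun m hm => by
      rw [show ⁅m, t⁆ = m * (t * m⁻¹ * t⁻¹) by simp [commutatorElement_def, mul_assoc], ← hsame _ (M.inv_mem hm)]
      simp [commutatorElement_def, mul_assoc]
    have hMbr : ∀ m ∈ M, ⁅m, g⁆ ∈ M := fun m hm => by
      rw [show ⁅m, g⁆ = m * (g * m⁻¹ * g⁻¹) by simp [commutatorElement_def, mul_assoc]]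
      exact M.mul_mem hm (hMn.conj_mem _ (M.inv_mem hm) g)
    have htd := hfam t ht (fun a ha => ⟨?_, fun a' ha' => ?_⟩) d hd
    · have h2 := hsame d (hDM hd)
      have h3 : t * d * t⁻¹ = d := by rw [← htd, mul_inv_cancel_right]
      rw [h3, mul_inv_eq_iff_eq_mul] at h2
      exact h2.symm
    · rw [hbr a (hDM ha)]
      have h4 := hsame _ (hMbr a (hDM ha))
      rw [← hg a (hDM ha), mul_inv_cancel_right] at h4
      rw [eq_mul_inv_iff_mul_eq] at h4
      exact h4
    · rw [hbr a (hDM ha)]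
      exact hMcomm _ (hMbr a (hDM ha)) a' (hDM ha')
  have hMD : M ≤ D := by
    have hmemM : M.subgroupOf (S : Subgroup G) ∈ Cfsg.dStarFamily (S : Subgroup G) := by
      refine ⟨⟨⟨fun a b => Subtype.ext (Subtype.ext (hMcomm _ a.2 _ b.2))⟩⟩, fun x hx a ha => Subtype.ext ?_⟩
      have hxq : ∀ m ∈ M, ⁅m, (x : G)⁆ * x = x * ⁅m, (x : G)⁆ := by
        intro m hm
        set X := M.subgroupOf (S : Subgroup G) ⊔ Subgroup.zpowers x
        have hmX : (⟨m, hPS (hMP hm)⟩ : (S : Subgroup G)) ∈ X := Subgroup.mem_sup_left hm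
        have hxX : x ∈ X := Subgroup.mem_sup_right (Subgroup.mem_zpowers x)
        have hc1 : Commute ⁅(⟨m, hPS (hMP hm)⟩ : (S : Subgroup G)), x⁆ x :=
          commutatorElement_eq_one_iff_mul_comm.mp (Subgroup.mem_bot.mp (hx ▸
            Subgroup.commutator_mem_commutator (Subgroup.commutator_mem_commutator hmX hxX) hxX))
        exact congrArg Subtype.val hc1.eq
      -- `x` centralizes every conjugate of `D`
      have hle : M ≤ Subgroup.centralizer ({(x : G)} : Set G) := by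
        rw [hM, Subgroup.normalClosure, Subgroup.closure_le]
        intro y hy
        simp only [Group.mem_conjugatesOfSet_iff, isConj_iff] at hy
        obtain ⟨d, hd, f, rfl⟩ := hy
        rw [SetLike.mem_coe, Subgroup.mem_centralizer_singleton_iff]
        have hf := hquad (f⁻¹ * x * f) (fun m hm => ?_) d hd
        · calc f * d * f⁻¹ * x = f * (d * (f⁻¹ * x * f)) * f⁻¹ := by group
            _ = f * ((f⁻¹ * x * f) * d) * f⁻¹ := by rw [hf]
            _ = x * (f * d * f⁻¹) := by group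
        · have h5 := hxq (f * m * f⁻¹) (hMn.conj_mem m hm f)
          have e : ⁅m, f⁻¹ * (x : G) * f⁆ = f⁻¹ * ⁅f * m * f⁻¹, (x : G)⁆ * f := by
            simp only [commutatorElement_def]; group
          rw [e]
          calc f⁻¹ * ⁅f * m * f⁻¹, (x : G)⁆ * f * (f⁻¹ * x * f) = f⁻¹ * (⁅f * m * f⁻¹, (x : G)⁆ * x) * f := by group
            _ = f⁻¹ * (x * ⁅f * m * f⁻¹, (x : G)⁆) * f := by rw [h5]
            _ = f⁻¹ * x * f * (f⁻¹ * ⁅f * m * f⁻¹, (x : G)⁆ * f) := by group
      exact Subgroup.mem_centralizer_singleton_iff.mp (hle ha)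
    intro m hm
    exact ⟨⟨m, hPS (hMP hm)⟩, (le_sSup hmemM : _ ≤ D₀) hm, rfl⟩
  exact (le_antisymm hMD hDM) ▸ hMn

end Cfsg.Agent.S3060
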