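import Cfsg.Statements.S3063
import Cfsg.Agent.Thompson.Replacement
import Cfsg.Agent.H62.CD

set_option autoImplicit false
open Cfsg
open scoped commutatorElement

namespace Cfsg.Agent.S3063

/-- A weak replacement Theorem for metabelian p-groups: let S be a finite p-group whose derived subgroup is abelian and A an abelian subgroup of S of largest possible order. Then the normal closure of A in S contains an abelian subgroup B of the same order as A that is normal in S. -/
theorem result {S : Type*} [Group S] [Finite S] {p : ℕ} [Fact p.Prime]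
    (hS : IsPGroup p S) (hmeta : IsMulCommutative ↥(commutator S))
    (A : Subgroup S) (hA : A ∈ Cfsg.maxAbelianSubgroups S) :
    ∃ B ∈ Cfsg.maxAbelianSubgroups S, B.Normal ∧ B ≤ Subgroup.normalClosure (A : Set S) := by
  set D := commutator S with hDdef
  have hDn : D.Normal := inferInstance
  set F : Set (Subgroup S) := {B | B ∈ Cfsg.maxAbelianSubgroups S ∧ B ≤ Subgroup.normalClosure (A : Set S)} with hF
  obtain ⟨B, ⟨hB, hBA⟩, hmax⟩ := Set.exists_max_image F (fun B => Nat.card ↥(B ⊓ D)) (Set.toFinite _)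
    ⟨A, hA, Subgroup.le_normalClosure⟩
  refine ⟨B, hB, ?_, hBA⟩
  have hNn : (Subgroup.normalClosure (A : Set S)).Normal := inferInstance
  have hD1 : ⁅D, D⁆ = ⊥ := Subgroup.commutator_eq_bot_iff_le_centralizer.mpr fun x hx =>
    Subgroup.mem_centralizer_iff.mpr fun y hy => congrArg Subtype.val (hmeta.is_comm.comm ⟨y, hy⟩ ⟨x, hx⟩)
  have hDB : D ≤ Subgroup.normalizer (B : Set S) := by
    by_contra hnot
    obtain ⟨B', -, hB', hcard, hlt, -, b, -, hle⟩ := Thompson.replacement (p := p) (e := 0) (S := ⊤) (B := D) (A := B)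
      (Or.inr hmeta) (Or.inl rfl) (hS.to_subgroup ⊤) le_top
      (by rw [Subgroup.normalizer_eq_top_iff.mpr hDn]) le_top ⟨hB.1, fun a _ => pow_zero a⟩
      (by rw [hD1]; exact Subgroup.commutator_bot_left _) (by rw [hD1]; exact bot_le) hnot
    have hB'm : B' ∈ F := ⟨⟨hB'.1, fun C hC => (hB.2 C hC).trans hcard.ge⟩,
      hle.trans (sup_le hBA (by rintro _ ⟨a, ha, rfl⟩; exact hNn.conj_mem a (hBA ha) b))⟩
    have h1 : Nat.card ↥(B ⊓ D) < Nat.card ↥(B' ⊓ D) :=
      lt_of_le_of_ne (Subgroup.card_le_of_le hlt.le) fun e => hlt.ne (Subgroup.eq_of_le_of_card_ge hlt.le e.ge)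
    exact absurd (hmax B' hB'm) (not_le.mpr h1)
  have hNN : (Subgroup.normalizer (B : Set S)).Normal := Subgroup.Normal.of_commutator_le S hDB
  constructor
  intro x hx g
  set B1 := B.map (MulAut.conj g).toMonoidHom with hB1
  suffices B1 = B from this ▸ ⟨x, hx, rfl⟩
  by_contra hne
  have hB1c : Nat.card B1 = Nat.card B := Subgroup.card_map_of_injective (MulAut.conj g).injective
  have hB1N : B1 ≤ Subgroup.normalizer (B : Set S) := by
    rintro _ ⟨a, ha, rfl⟩
    exact hNN.conj_mem a (Subgroup.le_normalizer ha) g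
  set W := B ⊓ B1 with hW
  set M := B ⊔ B1 with hM
  set K := M ⊓ D with hK
  have hMeq : M = B ⊔ K := by
    refine le_antisymm (sup_le le_sup_left ?_) (sup_le le_sup_left inf_le_left)
    rintro _ ⟨a, ha, rfl⟩
    show g * a * g⁻¹ ∈ B ⊔ K
    have hu : a⁻¹ * (g * a * g⁻¹) ∈ K := ⟨M.mul_mem (Subgroup.mem_sup_left (B.inv_mem ha)) (Subgroup.mem_sup_right ⟨a, ha, rfl⟩), by
      rw [show a⁻¹ * (g * a * g⁻¹) = ⁅a⁻¹, g⁆ by rw [commutatorElement_def]; group]
      exact Subgroup.commutator_mem_commutator (Subgroup.mem_top _) (Subgroup.mem_top _)⟩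
    rw [show g * a * g⁻¹ = a * (a⁻¹ * (g * a * g⁻¹)) by group]
    exact Subgroup.mul_mem_sup ha hu
  have hMN : M ≤ Subgroup.normalizer (B : Set S) := sup_le Subgroup.le_normalizer hB1N
  have hc1 : Nat.card M * Nat.card W = Nat.card B * Nat.card B := by
    have h := H62.card_prod_mul_card_inf B B1
    rw [← Subgroup.coe_mul_of_right_le_normalizer_left B B1 hB1N, hB1c] at h
    exact h
  have hBK : B ⊓ K = B ⊓ D := by rw [hK, ← inf_assoc, inf_eq_left.mpr (le_sup_left : B ≤ M)]
  have hc2 : Nat.card M * Nat.card ↥(B ⊓ D) = Nat.card B * Nat.card K := by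
    have h := H62.card_prod_mul_card_inf B K
    rw [← Subgroup.coe_mul_of_right_le_normalizer_left B K (inf_le_left.trans hMN), hBK] at h
    rw [hMeq]; exact h
  have hWM : M ≤ Subgroup.centralizer (W : Set S) := by
    refine sup_le (fun a ha => Subgroup.mem_centralizer_iff.mpr fun w hw =>
      congrArg Subtype.val (hB.1.is_comm.comm ⟨w, hw.1⟩ ⟨a, ha⟩)) ?_
    rintro _ ⟨a, ha, rfl⟩
    rw [Subgroup.mem_centralizer_iff]
    rintro w ⟨-, c, hc, rfl⟩
    rw [← map_mul, ← map_mul]
    exact congrArg _ (congrArg Subtype.val (hB.1.is_comm.comm ⟨c, hc⟩ ⟨a, ha⟩))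
  have hWN : K ≤ Subgroup.normalizer (W : Set S) :=
    (inf_le_left.trans hWM).trans (Subgroup.centralizer_le_normalizer _)
  set E := W ⊔ K with hE
  have hWK : W ⊓ K = W ⊓ D := by rw [hK, ← inf_assoc, inf_eq_left.mpr (inf_le_left.trans le_sup_left : W ≤ M)]
  have hc3 : Nat.card E * Nat.card ↥(W ⊓ D) = Nat.card W * Nat.card K := by
    have h := H62.card_prod_mul_card_inf W K
    rw [← Subgroup.coe_mul_of_right_le_normalizer_left W K hWN, hWK] at h
    exact h
  have hWc : W ≤ Subgroup.centralizer (W : Set S) := (inf_le_left.trans le_sup_left : W ≤ M).trans hWM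
  have hEab : IsMulCommutative E := by
    refine H62.isMulCommutative_of_le_cc ?_
    rw [hE, H62.cc_sup]
    refine sup_le (le_inf hWc ?_) (le_inf (inf_le_left.trans hWM) ?_)
    · exact Subgroup.le_centralizer_iff.mp (inf_le_left.trans hWM)
    · exact inf_le_right.trans ((Subgroup.commutator_eq_bot_iff_le_centralizer.mp hD1).trans
        (Subgroup.centralizer_le inf_le_right))
  have hEle : Nat.card E ≤ Nat.card B := hB.2 E hEab
  have hWD : Nat.card ↥(W ⊓ D) ≤ Nat.card ↥(B ⊓ D) := Subgroup.card_le_of_le (inf_le_inf_right D inf_le_left)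
  have hkey : Nat.card W * Nat.card K = Nat.card B * Nat.card ↥(B ⊓ D) := by
    have : Nat.card B * (Nat.card W * Nat.card K) = Nat.card B * (Nat.card B * Nat.card ↥(B ⊓ D)) := by
      calc Nat.card B * (Nat.card W * Nat.card K) = Nat.card W * (Nat.card B * Nat.card K) := by ring
        _ = (Nat.card M * Nat.card W) * Nat.card ↥(B ⊓ D) := by rw [← hc2]; ring
        _ = _ := by rw [hc1]; ring
    exact Nat.eq_of_mul_eq_mul_left Nat.card_pos this
  have hEeq : Nat.card E = Nat.card B := by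
    refine le_antisymm hEle ?_
    have h : Nat.card B * Nat.card ↥(W ⊓ D) ≤ Nat.card E * Nat.card ↥(W ⊓ D) := by
      rw [hc3, hkey]; exact Nat.mul_le_mul_left _ hWD
    exact Nat.le_of_mul_le_mul_right h Nat.card_pos
  have hEF : E ∈ F := by
    refine ⟨⟨hEab, fun C hC => (hB.2 C hC).trans hEeq.ge⟩, sup_le (inf_le_left.trans hBA) (inf_le_left.trans (sup_le hBA ?_))⟩
    rintro _ ⟨a, ha, rfl⟩
    exact hNn.conj_mem a (hBA ha) g
  have hWlt : Nat.card W < Nat.card B := by
    refine lt_of_le_of_ne (Subgroup.card_le_of_le inf_le_left) fun e => hne ?_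
    have e1 : W = B := Subgroup.eq_of_le_of_card_ge inf_le_left e.ge
    exact (Subgroup.eq_of_le_of_card_ge (e1 ▸ inf_le_right : B ≤ B1) hB1c.le).symm
  have hKlt : Nat.card ↥(B ⊓ D) < Nat.card K := by
    refine Nat.lt_of_mul_lt_mul_left (a := Nat.card W) ?_
    rw [hkey]
    exact Nat.mul_lt_mul_of_pos_right hWlt Nat.card_pos
  have hKle : Nat.card K ≤ Nat.card ↥(E ⊓ D) := Subgroup.card_le_of_le (le_inf le_sup_right inf_le_right)
  exact absurd (hmax E hEF) (not_le.mpr (lt_of_lt_of_le hKlt hKle))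

end Cfsg.Agent.S3063
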