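import Cfsg.Statements.S3064
import Cfsg.Agent.Fusion.PComplement
import Cfsg.Agent.Frobenius.KernelTheorem

set_option autoImplicit false
open Cfsg

namespace Cfsg.Agent.S3064

universe v

theorem aux (n : ℕ) : ∀ {G : Type v} [Group G] [Finite G], Nat.card G = n → ∀ {p : ℕ} [Fact p.Prime] (x : G),
    IsPGroup p (Subgroup.zpowers x) →
    (∀ g : G, IsPGroup p (Subgroup.closure ({x, g * x * g⁻¹} : Set G)) → g * x * g⁻¹ = x) →
    (∀ H : Subgroup G, (Nat.card H).Coprime p → (∀ h ∈ H, x * h * x⁻¹ ∈ H) → ∀ h ∈ H, x * h = h * x) →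
    x ∈ Subgroup.center G := by
  induction n using Nat.strong_induction_on with
  | _ n ih =>
  intro G _ _ hn p _ x hxp hJ hb
  have hp := (Fact.out : p.Prime)
  by_contra hxc
  set M := Subgroup.centralizer ({x} : Set G) with hM_def
  have hxM : x ∈ M := Subgroup.mem_centralizer_singleton_iff.mpr rfl
  have hMtop : M ≠ ⊤ := fun e => hxc (Subgroup.mem_center_iff.mpr fun g =>
    Subgroup.mem_centralizer_singleton_iff.mp (e ▸ Subgroup.mem_top g : g ∈ M))
  -- every proper subgroup containing `x` centralizes `x`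
  have hmax : ∀ L : Subgroup G, L ≠ ⊤ → x ∈ L → L ≤ M := by
    intro L hL hxL l hl
    have hlt : Nat.card L < n := by
      rw [← hn]
      exact lt_of_le_of_ne (Subgroup.card_le_card_group L) fun e => hL (Subgroup.eq_top_of_card_eq L e)
    have hx' := ih _ hlt (G := L) rfl (p := p) ⟨x, hxL⟩ ?_ ?_ ?_
    · exact Subgroup.mem_centralizer_singleton_iff.mpr (congrArg Subtype.val (Subgroup.mem_center_iff.mp hx' ⟨l, hl⟩))
    · intro w
      obtain ⟨k, hk⟩ := hxp ⟨((w : L) : G), by
        obtain ⟨m, hm⟩ := Subgroup.mem_zpowers_iff.mp w.2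
        exact ⟨m, congrArg Subtype.val hm⟩⟩
      exact ⟨k, Subtype.ext (Subtype.ext (congrArg Subtype.val hk :))⟩
    · intro g hg
      refine Subtype.ext (hJ (g : G) ?_)
      have := hg.map L.subtype
      rwa [MonoidHom.map_closure, Set.image_pair] at this
    · intro H hH hnorm h hh
      refine Subtype.ext (hb (H.map L.subtype) (by rwa [Subgroup.card_map_of_injective L.subtype_injective]) ?_ _ ⟨h, hh, rfl⟩)
      rintro _ ⟨a, ha, rfl⟩
      exact ⟨_, hnorm a ha, rfl⟩
  -- two distinct conjugates of `M` meet in the centre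
  have hTI : ∀ g : G, g ∉ M → ∀ m ∈ M, g⁻¹ * m * g ∈ M → m ∈ Subgroup.center G := by
    intro g hg m hm hgm
    set y := g * x * g⁻¹ with hy_def
    have hyx : y ≠ x := fun e => hg (Subgroup.mem_centralizer_singleton_iff.mpr (mul_inv_eq_iff_eq_mul.mp e))
    have htop : Subgroup.closure ({x, y} : Set G) = ⊤ := by
      by_contra hne
      have h1 := hmax _ hne (Subgroup.subset_closure (Set.mem_insert _ _))
        (Subgroup.subset_closure (Set.mem_insert_of_mem _ rfl) : y ∈ Subgroup.closure ({x, y} : Set G))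
      have hc : Commute y x := Subgroup.mem_centralizer_singleton_iff.mp h1
      apply hyx
      refine hJ g (IsPGroup.to_le (IsPGroup.to_sup_of_normal_left' (H := Subgroup.zpowers x) (K := Subgroup.zpowers y) hxp ?_ ?_) ?_)
      · have hconj := hxp.map (MulAut.conj g).toMonoidHom
        rwa [MonoidHom.map_zpowers] at hconj
      · refine Subgroup.zpowers_le.mpr (Subgroup.centralizer_le_normalizer _ (Subgroup.mem_centralizer_iff.mpr fun a ha => ?_))
        obtain ⟨j, rfl⟩ := Subgroup.mem_zpowers_iff.mp ha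
        exact (hc.zpow_right j).eq.symm
      · rw [Subgroup.closure_le]
        rintro a (rfl | rfl)
        · exact Subgroup.mem_sup_left (Subgroup.mem_zpowers _)
        · exact Subgroup.mem_sup_right (Subgroup.mem_zpowers _)
    rw [Subgroup.mem_center_iff]
    intro w
    have hle : Subgroup.closure ({x, y} : Set G) ≤ Subgroup.centralizer ({m} : Set G) := by
      rw [Subgroup.closure_le]
      rintro a (rfl | rfl)
      · exact Subgroup.mem_centralizer_singleton_iff.mpr (Subgroup.mem_centralizer_singleton_iff.mp hm).symm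
      · rw [SetLike.mem_coe, Subgroup.mem_centralizer_singleton_iff]
        have h2 := Subgroup.mem_centralizer_singleton_iff.mp hgm
        calc g * x * g⁻¹ * m = g * (x * (g⁻¹ * m * g)) * g⁻¹ := by group
          _ = g * (g⁻¹ * m * g * x) * g⁻¹ := by rw [h2]
          _ = m * (g * x * g⁻¹) := by group
    exact Subgroup.mem_centralizer_singleton_iff.mp (hle (htop ▸ Subgroup.mem_top w))
  set Z := Subgroup.center G with hZ
  set π := QuotientGroup.mk' Z with hπ
  have hZM : Z ≤ M := fun z hz => Subgroup.mem_centralizer_singleton_iff.mpr (Subgroup.mem_center_iff.mp hz x).symm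
  set H := M.map π with hH_def
  have hcomap : H.comap π = M := by
    rw [hH_def, Subgroup.comap_map_eq, hπ, QuotientGroup.ker_mk', sup_eq_left.mpr hZM]
  have hxH : π x ∈ H := ⟨x, hxM, rfl⟩
  have hx1 : π x ≠ 1 := fun e => hxc ((QuotientGroup.eq_one_iff x).mp e)
  have hF : IsFrobeniusComplement H := by
    refine Frobenius.isFrobeniusComplement_of (fun e => hx1 (by rwa [e, Subgroup.mem_bot] at hxH))
      (fun e => hMtop (by rw [← hcomap, e, Subgroup.comap_top])) ?_
    intro q r hr hr1 hqr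
    obtain ⟨g, rfl⟩ := QuotientGroup.mk'_surjective Z q
    obtain ⟨m, hm, rfl⟩ := hr
    refine Subgroup.mem_map_of_mem π ?_
    by_contra hg
    apply hr1
    refine (QuotientGroup.eq_one_iff m).mpr (hTI g hg m hm ?_)
    rw [← hcomap, Subgroup.mem_comap, map_mul, map_mul, map_inv]
    exact hqr
  obtain ⟨K, -, hKn, hKc⟩ := Frobenius.exists_kernel hF
  have hpH : p ∣ Nat.card H := by
    obtain ⟨k, hk⟩ := hxp ⟨x, Subgroup.mem_zpowers x⟩
    have h1 : orderOf (π x) ∣ p ^ k :=
      orderOf_dvd_of_pow_eq_one (by rw [← map_pow, show x ^ (p ^ k) = 1 from congrArg Subtype.val hk, map_one])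
    obtain ⟨i, -, hi⟩ := (Nat.dvd_prime_pow hp).mp h1
    rcases Nat.eq_zero_or_pos i with rfl | hi0
    · exact absurd (orderOf_eq_one_iff.mp (by simpa using hi)) hx1
    · exact (hi ▸ dvd_pow_self p hi0.ne').trans (Subgroup.orderOf_dvd_natCard _ hxH)
  have hKp : ¬ p ∣ Nat.card K := by
    rw [← hKc.index_eq_card]
    exact fun h => hp.not_dvd_one ((Frobenius.coprime_card_index hF) ▸ Nat.dvd_gcd hpH h)
  set N := K.comap π with hN_def
  have hNn : N.Normal := hKn.comap π
  have hKZ : ∀ w ∈ N, ∀ k : ℕ, π w ^ (p ^ k) = 1 → w ∈ Z := by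
    intro w hw k hk
    refine (QuotientGroup.eq_one_iff w).mp ?_
    have h2 : (orderOf (π w)).Coprime (p ^ k) :=
      ((hp.coprime_iff_not_dvd.mpr hKp).pow_left k).symm.coprime_dvd_left (Subgroup.orderOf_dvd_natCard _ hw)
    exact orderOf_eq_one_iff.mp (Nat.eq_one_of_dvd_coprimes h2 (dvd_refl _) (orderOf_dvd_of_pow_eq_one hk))
  let P : Sylow p N := default
  have hnil : Cfsg.HasNormalPComplement p N := by
    refine Fusion.hasNormalPComplement_of_normalizer_le_centralizer P fun t _ a ha => Subtype.ext ?_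
    obtain ⟨k, hk⟩ := P.isPGroup' ⟨a, ha⟩
    have hk' : (a : G) ^ (p ^ k) = 1 := congrArg (fun z : N => (z : G)) (congrArg Subtype.val hk :)
    exact (Subgroup.mem_center_iff.mp (hKZ a a.2 k (by rw [← map_pow, hk', map_one])) t).symm
  set L := (Cfsg.pResidual p N).map N.subtype with hL_def
  have hLn : L.Normal := ConjAct.normal_of_characteristic_of_normal
  have hLp : (Nat.card L).Coprime p := by
    rw [hL_def, Subgroup.card_map_of_injective N.subtype_injective]
    exact (hp.coprime_iff_not_dvd.mpr (Fusion.hasNormalPComplement_iff_pResidual.mp hnil)).symm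
  have hLM : L ≤ M := fun l hl =>
    Subgroup.mem_centralizer_singleton_iff.mpr (hb L hLp (fun h hh => hLn.conj_mem h hh x) l hl).symm
  have hLZ : L ≤ Z := by
    intro l hl
    refine (QuotientGroup.eq_one_iff l).mp ?_
    have h1 : π l ∈ K ⊓ H := ⟨(Subgroup.map_subtype_le (H := N) _ hl : l ∈ N), ⟨l, hLM hl, rfl⟩⟩
    rw [hKc.disjoint.eq_bot, Subgroup.mem_bot] at h1
    exact h1
  apply hF.2.1
  refine (congrArg (· ⊔ H) (show K = ⊥ from ?_)).symm.trans hKc.sup_eq_top |> fun h => by simpa using h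
  rw [Subgroup.eq_bot_iff_forall]
  intro q hq
  obtain ⟨w, rfl⟩ := QuotientGroup.mk'_surjective Z q
  obtain ⟨k, hk⟩ := Fusion.exists_pow_mem_pResidual (p := p) (⟨w, hq⟩ : N)
  have h1 : w ^ (p ^ k) ∈ L := ⟨_, hk, rfl⟩
  exact (QuotientGroup.eq_one_iff w).mpr (hKZ w hq k (by rw [← map_pow]; exact (QuotientGroup.eq_one_iff _).mpr (hLZ h1)))

/-- Let S be a Sylow p-subgroup of the finite group G and x an element of S such that (i) x is the only G-conjugate of x lying in S, and (ii) x centralizes every subgroup of order prime to p that it normalizes. Then x lies in the centre of G. -/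
theorem result {G : Type*} [Group G] [Finite G] {p : ℕ} [Fact p.Prime]
    (S : Sylow p G) (x : G) (hx : x ∈ S)
    (hU : ∀ g : G, g⁻¹ * x * g ∈ S → g⁻¹ * x * g = x)
    (hb : ∀ H : Subgroup G, (Nat.card H).Coprime p → (∀ h ∈ H, x * h * x⁻¹ ∈ H) → ∀ h ∈ H, x * h = h * x) :
    x ∈ Subgroup.center G := by
  refine aux _ rfl (p := p) x (S.isPGroup'.to_le (Subgroup.zpowers_le.mpr hx)) ?_ hb
  intro g hg
  obtain ⟨R, hR⟩ := hg.exists_le_sylow
  obtain ⟨a, rfl⟩ := MulAction.exists_smul_eq G S R
  rw [Sylow.coe_subgroup_smul] at hR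
  obtain ⟨y, hy, hyx⟩ := hR (Subgroup.subset_closure (Set.mem_insert _ _))
  obtain ⟨z, hz, hzx⟩ := hR (Subgroup.subset_closure (Set.mem_insert_of_mem _ rfl))
  replace hyx : a * y * a⁻¹ = x := hyx
  replace hzx : a * z * a⁻¹ = g * x * g⁻¹ := hzx
  have e1 : y = a⁻¹ * x * a := by rw [← hyx]; group
  have h1 := hU a (e1 ▸ hy)
  have e2 : z = (g⁻¹ * a)⁻¹ * x * (g⁻¹ * a) := by
    have : z = a⁻¹ * (g * x * g⁻¹) * a := by rw [← hzx]; group
    rw [this]; group
  have h2 := hU (g⁻¹ * a) (e2 ▸ hz)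
  rw [← hzx, e2, h2]
  have h3 : a * x = x * a := by
    conv_lhs => rw [← h1]
    group
  rw [h3, mul_inv_cancel_right]

end Cfsg.Agent.S3064
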