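import Cfsg.Statements.S3071
import Cfsg.Agent.Thompson.ZJFusion
import Cfsg.Agent.Thompson.Quadratic
-- import your own Cfsg.Agent.* helpers here

set_option autoImplicit false
open Cfsg

namespace Cfsg.Agent.S3071

/-- Let p be an odd prime and S a Sylow p-subgroup of the finite group G such that, for every subgroup P with Z(S) ≤ P ≤ S, the normalizer N_G(P) has no section isomorphic to SL₂(p). Let J(S) be the subgroup generated by the abelian subgroups of S of largest order. Then two elements of S are conjugate in G if and only if they are conjugate in N_G(Z(J(S))). -/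
theorem result {G : Type*} [Group G] [Finite G] {p : ℕ} [Fact p.Prime]
    (hp : p ≠ 2) (S : Sylow p G)
    (hfree : ∀ P : Subgroup G, (S : Subgroup G) ⊓ Subgroup.centralizer ((S : Subgroup G) : Set G) ≤ P → P ≤ S →
      ¬ ∃ (H K : Subgroup G) (hK : (K.subgroupOf H).Normal), H ≤ Subgroup.normalizer (P : Set G) ∧
        Nonempty ((H ⧸ K.subgroupOf H) ≃* Matrix.SpecialLinearGroup (Fin 2) (ZMod p))) :
    ∀ x ∈ S, ∀ y ∈ S, (∃ g : G, g * x * g⁻¹ = y) ↔
      ∃ n ∈ Subgroup.normalizer (Cfsg.centerThompsonAOf (S : Subgroup G) : Set G), n * x * n⁻¹ = y := by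
  have hfree' : ∀ P : Subgroup G, (S : Subgroup G) ⊓ Subgroup.centralizer ((S : Subgroup G) : Set G) ≤ P →
      P ≤ (S : Subgroup G) → ¬ Thompson.HasSection (Cfsg.qd p) (Subgroup.normalizer (P : Set G)) := by
    intro P h1 h2 hsec
    obtain ⟨M, φ, hφ⟩ := Thompson.hasSection_sl2_of_qd hsec
    obtain ⟨H, K, hK, hH, he⟩ := Thompson.exists_quotient_of_hom
      (φ.comp (M.equivMapOfInjective _ (Subgroup.normalizer (P : Set G)).subtype_injective).symm.toMonoidHom)
      (Subgroup.map_subtype_le M) (hφ.comp (M.equivMapOfInjective _ (Subgroup.normalizer (P : Set G)).subtype_injective).symm.surjective)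
    exact hfree P h1 h2 ⟨H, K, hK, hH, he⟩
  intro x hx y hy
  rw [Thompson.centerThompsonAOf_eq]
  refine ⟨fun ⟨g, hg⟩ => ?_, fun ⟨n, _, h⟩ => ⟨n, h⟩⟩
  obtain ⟨n, hn, h⟩ := Thompson.induced_zjay_of_local hp S hfree' (Subgroup.zpowers x)
    (Subgroup.zpowers_le.mpr hx) g (by
      rw [H48.cj, MonoidHom.map_zpowers, Subgroup.zpowers_le]
      show g * x * g⁻¹ ∈ _
      rw [hg]; exact hy)
  exact ⟨n, hn, (h x (Subgroup.mem_zpowers x)).trans hg⟩

end Cfsg.Agent.S3071
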