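import Cfsg.Statements.S3073
import Cfsg.Agent.S1988
import Cfsg.Agent.S1978

set_option linter.style.haveILetI false

set_option autoImplicit false
universe u
open Cfsg

namespace Cfsg.Agent.S3073

/-- For an odd prime p, every finite p-group S has a characteristic subgroup K with C_S(K) ≤ K such that, whenever S is (isomorphic to) a Sylow p-subgroup of a finite group G, G has a normal p-complement if and only if N_G(K)/C_G(K) is a p-group, i.e. every element of N_G(K) of order prime to p centralizes K (K transported into G along the isomorphism). -/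
theorem result (p : ℕ) [Fact p.Prime] (hp : p ≠ 2)
    (S : Type u) [Group S] [Finite S] (hS : IsPGroup p S) :
    ∃ K : Subgroup S, K.Characteristic ∧ Subgroup.centralizer (K : Set S) ≤ K ∧
      ∀ (G : Type u) [Group G] [Finite G] (P : Sylow p G) (e : ↥(P : Subgroup G) ≃* S),
        Cfsg.HasNormalPComplement p G ↔
          ∀ g ∈ Subgroup.normalizer (((K.comap (e : ↥(P : Subgroup G) →* S)).map (P : Subgroup G).subtype : Subgroup G) : Set G),
            (orderOf g).Coprime p →
              g ∈ Subgroup.centralizer (((K.comap (e : ↥(P : Subgroup G) →* S)).map (P : Subgroup G).subtype : Subgroup G) : Set G) := by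
  classical
  refine ⟨Cfsg.kInfLower S, (H49.kInf_characteristic S).1, (Cfsg.Agent.S1978.result hS).1,
    fun G _ _ P e => ?_⟩
  have hK : ((Cfsg.kInfLower S).comap (e : ↥(P : Subgroup G) →* S)).map (P : Subgroup G).subtype =
      Cfsg.inducedFunctor Cfsg.kInfLower (P : Subgroup G) := by
    show _ = (Cfsg.kInfLower ↥(P : Subgroup G)).map (P : Subgroup G).subtype
    rw [← (H49.map_kInf_equiv e).1]
    erw [Subgroup.comap_map_eq_self_of_injective e.injective]
  rw [hK]
  refine ⟨?_, fun h => Cfsg.Agent.S1988.result hp P (Or.inr h)⟩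
  rintro ⟨P', N, hN, hNP⟩ g hg hgp
  haveI := hN
  rw [Subgroup.mem_centralizer_iff]
  intro k hk
  have hgN : g ∈ N := by
    rw [← QuotientGroup.eq_one_iff, ← orderOf_eq_one_iff]
    have h1 : orderOf (g : G ⧸ N) ∣ orderOf g := orderOf_map_dvd (QuotientGroup.mk' N) g
    have h2 : orderOf (g : G ⧸ N) ∣ Nat.card (G ⧸ N) := orderOf_dvd_natCard _
    obtain ⟨j, hj⟩ := IsPGroup.iff_card.mp P'.isPGroup'
    rw [← Subgroup.index_eq_card, hNP.symm.index_eq_card, hj] at h2
    exact Nat.eq_one_of_dvd_coprimes (hgp.pow_right j) h1 h2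
  have hKP : Cfsg.inducedFunctor Cfsg.kInfLower (P : Subgroup G) ≤ (P : Subgroup G) :=
    Subgroup.map_subtype_le _
  have hk' : g * k * g⁻¹ ∈ Cfsg.inducedFunctor Cfsg.kInfLower (P : Subgroup G) :=
    (Subgroup.mem_normalizer_iff.mp hg k).mp hk
  have hmemP : g * k * g⁻¹ * k⁻¹ ∈ (P : Subgroup G) := mul_mem (hKP hk') (inv_mem (hKP hk))
  have hmemN : g * k * g⁻¹ * k⁻¹ ∈ N := by
    rw [mul_assoc g k g⁻¹, mul_assoc g]
    exact mul_mem hgN (hN.conj_mem g⁻¹ (inv_mem hgN) k)
  have h1 : g * k * g⁻¹ * k⁻¹ = 1 := by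
    obtain ⟨x, hx⟩ := MulAction.exists_smul_eq G P P'
    have hx' : x * (g * k * g⁻¹ * k⁻¹) * x⁻¹ ∈ (P' : Subgroup G) := by
      rw [← hx, Sylow.coe_subgroup_smul]
      exact ⟨_, hmemP, by simp [mul_assoc]⟩
    exact conj_eq_one_iff.mp ((Subgroup.disjoint_def.mp hNP.disjoint) (hN.conj_mem _ hmemN x) hx')
  rw [mul_inv_eq_one, mul_inv_eq_iff_eq_mul] at h1
  exact h1.symm

end Cfsg.Agent.S3073
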