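import Cfsg.Statements.S3074
import Cfsg.Agent.H58.QdSylow
import Cfsg.Agent.PGroups.Basic

set_option autoImplicit false
open Cfsg

namespace Cfsg.Agent.S3074

open scoped commutatorElement in
/-- A group with coordinates obeying the Heisenberg law. -/
theorem heisenberg {p : ℕ} [Fact p.Prime] (hp : p ≠ 2) {Q : Type*} [Group Q] [Finite Q]
    (φ : Q ≃ ZMod p × ZMod p × ZMod p)
    (hmul : ∀ x y : Q, φ (x * y) = ((φ x).1 + (φ y).1, (φ x).2.1 + (φ y).2.1, (φ x).2.2 + (φ y).2.2 + (φ x).1 * (φ y).2.1)) :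
    Cfsg.IsExtraspecial p Q ∧ Nat.card Q = p ^ 3 ∧ Monoid.exponent Q = p := by
  have hpp := (Fact.out : p.Prime)
  have h2 : (2 : ZMod p) ≠ 0 := by
    intro h
    exact hp ((Nat.prime_dvd_prime_iff_eq hpp Nat.prime_two).mp ((CharP.cast_eq_zero_iff (ZMod p) p 2).mp (by exact_mod_cast h)))
  have hcard : Nat.card Q = p ^ 3 := by
    rw [Nat.card_congr φ, Nat.card_prod, Nat.card_prod, Nat.card_zmod]; ring
  have hQ : IsPGroup p Q := IsPGroup.of_card hcard
  have hone : φ 1 = (0, 0, 0) := by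
    have h := hmul 1 1
    rw [one_mul] at h
    rcases hv : φ 1 with ⟨a, b, c⟩
    rw [hv] at h
    simp only [Prod.mk.injEq] at h
    obtain ⟨ha, hb, hc⟩ := h
    have ha0 : a = 0 := by linear_combination -ha
    have hb0 : b = 0 := by linear_combination -hb
    have hc0 : c = 0 := by rw [ha0] at hc; linear_combination -hc
    rw [ha0, hb0, hc0]
  have hpow : ∀ (x : Q) (n : ℕ), (φ (x ^ n)).1 = n * (φ x).1 ∧ (φ (x ^ n)).2.1 = n * (φ x).2.1 ∧
      2 * (φ (x ^ n)).2.2 = 2 * n * (φ x).2.2 + (n : ZMod p) * ((n : ZMod p) - 1) * ((φ x).1 * (φ x).2.1) := by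
    intro x n
    induction n with
    | zero => simp [hone]
    | succ n ih =>
      obtain ⟨h1, h2', h3⟩ := ih
      rw [pow_succ, hmul]
      refine ⟨?_, ?_, ?_⟩
      · simp only [h1]; push_cast; ring
      · simp only [h2']; push_cast; ring
      · simp only [h1]; push_cast; linear_combination h3
  have hexp : ∀ x : Q, x ^ p = 1 := by
    intro x
    obtain ⟨h1, h2', h3⟩ := hpow x p
    simp only [ZMod.natCast_self, mul_zero, zero_mul, add_zero] at h1 h2' h3
    exact φ.injective (by rw [hone]; exact Prod.ext h1 (Prod.ext h2' ((mul_eq_zero.mp h3).resolve_left h2)))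
  have hcen : ∀ x : Q, x ∈ Subgroup.center Q ↔ (φ x).1 = 0 ∧ (φ x).2.1 = 0 := by
    intro x
    rw [Subgroup.mem_center_iff]
    constructor
    · intro h
      have h1 := congrArg φ (h (φ.symm (1, 0, 0)))
      have h2 := congrArg φ (h (φ.symm (0, 1, 0)))
      rw [hmul, hmul, φ.apply_symm_apply, Prod.ext_iff, Prod.ext_iff] at h1 h2
      exact ⟨by linear_combination -h2.2.2, by linear_combination h1.2.2⟩
    · rintro ⟨ha, hb⟩ y
      apply φ.injective
      rw [hmul, hmul, ha, hb]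
      refine Prod.ext (by ring) (Prod.ext (by ring) ?_)
      show _ = _
      ring
  have hcomm : ∀ x y : Q, ⁅x, y⁆ ∈ Subgroup.center Q ∧ (φ ⁅x, y⁆).2.2 = (φ x).1 * (φ y).2.1 - (φ y).1 * (φ x).2.1 := by
    intro x y
    have h := congrArg φ (show ⁅x, y⁆ * (y * x) = x * y by simp [commutatorElement_def, mul_assoc])
    rw [hmul, hmul, hmul, Prod.ext_iff, Prod.ext_iff] at h
    obtain ⟨h1, h2', h3⟩ := h
    simp only at h1 h2' h3
    have e1 : (φ ⁅x, y⁆).1 = 0 := by linear_combination h1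
    refine ⟨(hcen _).mpr ⟨e1, by linear_combination h2'⟩, ?_⟩
    rw [e1] at h3
    linear_combination h3
  have hccard : Nat.card (Subgroup.center Q) = p := by
    let e : Subgroup.center Q ≃ ZMod p :=
      { toFun := fun z => (φ (z : Q)).2.2
        invFun := fun c => ⟨φ.symm (0, 0, c), (hcen _).mpr (by simp)⟩
        left_inv := fun z => Subtype.ext (φ.injective (by
          obtain ⟨a, b⟩ := (hcen z.1).mp z.2
          simp only [Equiv.apply_symm_apply]
          exact Prod.ext a.symm (Prod.ext b.symm rfl)))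
        right_inv := fun c => by simp }
    rw [Nat.card_congr e, Nat.card_zmod]
  have hcle : commutator Q ≤ Subgroup.center Q := by
    rw [commutator_def, Subgroup.commutator_le]
    exact fun x _ y _ => (hcomm x y).1
  have hgec : Subgroup.center Q ≤ commutator Q := by
    intro z hz
    have h : z = ⁅φ.symm ((φ z).2.2, 0, 0), φ.symm (0, 1, 0)⁆ := by
      obtain ⟨hc, hv⟩ := hcomm (φ.symm ((φ z).2.2, 0, 0)) (φ.symm (0, 1, 0))
      refine φ.injective (Prod.ext ?_ (Prod.ext ?_ ?_))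
      · rw [((hcen z).mp hz).1, ((hcen _).mp hc).1]
      · rw [((hcen z).mp hz).2, ((hcen _).mp hc).2]
      · rw [hv]; simp
    rw [h, commutator_def]
    exact Subgroup.commutator_mem_commutator (Subgroup.mem_top _) (Subgroup.mem_top _)
  refine ⟨⟨⟨hQ, le_antisymm (PGroups.frattini_le_of_commutator_le (p := p) _ hcle fun x => by rw [hexp x]; exact one_mem _)
    (hgec.trans (PGroups.commutator_le_frattini hQ)), le_antisymm hcle hgec⟩, hccard⟩, hcard, ?_⟩
  rcases (Nat.dvd_prime hpp).mp (Monoid.exponent_dvd_of_forall_pow_eq_one hexp) with h | h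
  · have := Monoid.exp_eq_one_iff.mp h
    rw [Nat.card_of_subsingleton (1 : Q)] at hcard
    exact absurd hcard.symm (Nat.one_lt_pow three_ne_zero hpp.one_lt).ne'
  · exact h

/-- Let p be an odd prime. A Sylow p-subgroup of Qd(p), the split extension of an elementary abelian group of order p² by SL₂(p) acting naturally, is extraspecial of order p³ and exponent p. -/
theorem result (p : ℕ) [Fact p.Prime] (hp : p ≠ 2) (P : Sylow p ↥(Cfsg.qd p)) :
    Cfsg.IsExtraspecial p ↥P ∧ Nat.card P = p ^ 3 ∧ Monoid.exponent ↥P = p := by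
  obtain ⟨P₀, hP₀⟩ := (H58.Qd.sylU_isPGroup (F := ZMod p) (p := p)).exists_le_sylow
  have hP₀eq := H58.Qd.sylU_maximal (p := p) P₀.isPGroup' hP₀
  let e : P ≃* ↥(H58.Qd.sylU (ZMod p)) :=
    (P.equiv (P₀ : Sylow p ↥(Cfsg.qd p))).trans (MulEquiv.subgroupCongr hP₀eq)
  let ψ : ↥(H58.Qd.sylU (ZMod p)) ≃ ZMod p × ZMod p × ZMod p :=
    { toFun := fun M => (H58.Qd.ent M.1 0 1, H58.Qd.ent M.1 1 2, H58.Qd.ent M.1 0 2)
      invFun := fun v => ⟨H58.Qd.mk (H58.Qd.upper v.1) ![v.2.2, v.2.1], Multiplicative.ofAdd v.1, (H58.Qd.toSL2_mk _ _).symm⟩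
      left_inv := fun M => by
        obtain ⟨a, b, c⟩ := H58.Qd.mem_sylU.1 M.2
        apply Subtype.ext
        apply H58.Qd.qd_ext <;> simp [H58.Qd.upper_coe, a, b, c]
      right_inv := fun v => by simp [H58.Qd.upper_coe] }
  refine heisenberg hp (e.toEquiv.trans ψ) fun x y => ?_
  simp only [Equiv.trans_apply, MulEquiv.toEquiv_eq_coe, MulEquiv.coe_toEquiv, map_mul]
  obtain ⟨a, b, c⟩ := H58.Qd.mem_sylU.1 (e x).2
  obtain ⟨a', b', c'⟩ := H58.Qd.mem_sylU.1 (e y).2
  refine Prod.ext ?_ (Prod.ext ?_ ?_) <;>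
    simp [ψ, H58.Qd.ent_mul, H58.Qd.ent_20, H58.Qd.ent_21, H58.Qd.ent_22, a, b, c, a', b', c'] <;> ring

end Cfsg.Agent.S3074
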