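import Cfsg.Statements.S3075
import Mathlib

set_option autoImplicit false
open Cfsg

namespace Cfsg.Agent.S3075

/-- Let p be an odd prime and N a finite group with a normal elementary abelian subgroup A of order p² that is its own centralizer in N, such that N/A is isomorphic to SL₂(p) (over any field F with p elements). Then N splits over A: some subgroup U of N satisfies A ∩ U = 1 and AU = N. -/
theorem result {N : Type*} [Group N] [Finite N] {p : ℕ} [Fact p.Prime] (hp : p ≠ 2)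
    (A : Subgroup N) [A.Normal] (hAcomm : IsMulCommutative A) (hAcard : Nat.card A = p ^ 2) (hAexp : Monoid.exponent ↥A = p)
    (hAself : Subgroup.centralizer (A : Set N) = A)
    {F : Type*} [Field F] [Fintype F] (hF : Fintype.card F = p) (e : N ⧸ A ≃* Matrix.SpecialLinearGroup (Fin 2) F) :
    ∃ U : Subgroup N, A ⊓ U = ⊥ ∧ A ⊔ U = ⊤ := by
  classical
  have hA2 : ∀ a ∈ A, a ^ 2 = 1 → a = 1 := by
    intro a ha h2
    have h1 : (⟨a, ha⟩ : A) ^ p = 1 := hAexp ▸ Monoid.pow_exponent_eq_one _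
    have h3 : a ^ p = 1 := congrArg Subtype.val h1
    obtain ⟨k, hk⟩ := (Fact.out : p.Prime).odd_of_ne_two hp
    rwa [hk, pow_succ, pow_mul, h2, one_pow, one_mul] at h3
  have h2F : (1 : F) + 1 ≠ 0 := by
    intro h
    have h1 : addOrderOf (1 : F) ∣ 2 := addOrderOf_dvd_of_nsmul_eq_zero (by rw [two_nsmul]; exact h)
    have h2 : addOrderOf (1 : F) ∣ p := hF ▸ addOrderOf_dvd_card
    have h3 : addOrderOf (1 : F) = 1 := by
      rcases (Nat.dvd_prime Nat.prime_two).mp h1 with h4 | h4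
      · exact h4
      · rw [h4] at h2
        exact absurd ((Nat.prime_dvd_prime_iff_eq Nat.prime_two (Fact.out : p.Prime)).mp h2).symm hp
    exact one_ne_zero (AddMonoid.addOrderOf_eq_one_iff.mp h3)
  let zS : Matrix.SpecialLinearGroup (Fin 2) F := ⟨!![-1, 0; 0, -1], by simp [Matrix.det_fin_two]⟩
  have hzS1 : zS ≠ 1 := fun h => by
    have h1 := congrArg (fun M : Matrix.SpecialLinearGroup (Fin 2) F => (M : Matrix (Fin 2) (Fin 2) F) 0 0) h
    simp [zS] at h1
    exact h2F (neg_eq_iff_add_eq_zero.mp h1)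
  have hzS2 : zS ^ 2 = 1 := by
    rw [pow_two]
    apply Matrix.SpecialLinearGroup.ext
    intro i j
    simp only [Matrix.SpecialLinearGroup.coe_mul, Matrix.SpecialLinearGroup.coe_one]
    fin_cases i <;> fin_cases j <;> simp [zS, Matrix.SpecialLinearGroup.coe_mul, Matrix.mul_apply, Fin.sum_univ_two]
  have hzSc : ∀ M, M * zS = zS * M := fun M => by
    apply Matrix.SpecialLinearGroup.ext
    intro i j
    simp only [Matrix.SpecialLinearGroup.coe_mul, Matrix.SpecialLinearGroup.coe_one]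
    fin_cases i <;> fin_cases j <;> simp [zS, Matrix.SpecialLinearGroup.coe_mul, Matrix.mul_apply, Fin.sum_univ_two]
  set zb : N ⧸ A := e.symm zS with hzb
  have hzord : orderOf zb = 2 := by
    rw [hzb, MulEquiv.orderOf_eq]
    exact orderOf_eq_prime hzS2 hzS1
  have hZn : (Subgroup.zpowers zb).Normal := by
    have hc : ∀ g : N ⧸ A, g * zb = zb * g := fun g => by
      apply e.injective
      simp [hzb, hzSc]
    refine ⟨fun x hx g => ?_⟩
    have : Subgroup.zpowers zb ≤ Subgroup.center _ := Subgroup.zpowers_le.mpr (Subgroup.mem_center_iff.mpr hc)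
    rw [Subgroup.mem_center_iff.mp (this hx) g, mul_inv_cancel_right]
    exact hx
  set K := (Subgroup.zpowers zb).comap (QuotientGroup.mk' A) with hK
  have hKn : K.Normal := Subgroup.Normal.comap hZn _
  have hAK : A ≤ K := fun a ha => by
    rw [hK, Subgroup.mem_comap]
    show (QuotientGroup.mk a : N ⧸ A) ∈ _
    rw [(QuotientGroup.eq_one_iff a).mpr ha]
    exact one_mem _
  have hKcard : Nat.card K = 2 * p ^ 2 := by
    have h1 := Subgroup.card_mul_index K
    have h2 : K.index = (Subgroup.zpowers zb).index := Subgroup.index_comap_of_surjective _ (QuotientGroup.mk'_surjective A)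
    have h3 := Subgroup.card_mul_index (Subgroup.zpowers zb)
    rw [Nat.card_zpowers, hzord, ← h2] at h3
    have h4 := Subgroup.card_mul_index A
    rw [Subgroup.index_eq_card, ← h3, hAcard] at h4
    refine Nat.eq_of_mul_eq_mul_right (Nat.pos_of_ne_zero K.index_ne_zero_of_finite) ?_
    rw [h1, ← h4]; ring
  have : Fact (Nat.Prime 2) := ⟨Nat.prime_two⟩
  obtain ⟨t', ht'⟩ := exists_prime_orderOf_dvd_card' (G := K) 2 (hKcard ▸ dvd_mul_right 2 _)
  set t : N := (t' : N) with htdef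
  have htord : orderOf t = 2 := by rw [htdef, Subgroup.orderOf_coe, ht']
  have ht2 : t * t = 1 := by rw [← pow_two, ← htord, pow_orderOf_eq_one]
  have htinv : t⁻¹ = t := inv_eq_of_mul_eq_one_right ht2
  have htA : t ∉ A := fun h => by
    have := hA2 t h (by rw [pow_two, ht2])
    rw [this, orderOf_one] at htord; omega
  set T : Subgroup K := Subgroup.zpowers t' with hT
  have hTcard : Nat.card T = 2 ^ (Nat.card K).factorization 2 := by
    rw [hT, Nat.card_zpowers, ht', hKcard, Nat.factorization_mul (by norm_num) (pow_ne_zero _ (Fact.out : p.Prime).ne_zero),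
      Nat.Prime.factorization_pow (Fact.out : p.Prime), Finsupp.add_apply, Nat.Prime.factorization_self Nat.prime_two,
      Finsupp.single_eq_of_ne (fun e => hp e.symm)]
    norm_num
  set U := Subgroup.centralizer ({t} : Set N) with hU
  have hfr : Subgroup.normalizer ((Sylow.ofCard T hTcard : Subgroup K).map K.subtype : Set N) ⊔ K = ⊤ :=
    Sylow.normalizer_sup_eq_top (Sylow.ofCard T hTcard)
  have hmapT : (Sylow.ofCard T hTcard : Subgroup K).map K.subtype = Subgroup.zpowers t := by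
    rw [Sylow.coe_ofCard, hT, MonoidHom.map_zpowers]; rfl
  rw [hmapT] at hfr
  have hNU : Subgroup.normalizer (Subgroup.zpowers t : Set N) ≤ U := by
    intro n hn
    rw [hU, Subgroup.mem_centralizer_singleton_iff]
    have h1 : n * t * n⁻¹ ∈ Subgroup.zpowers t :=
      (Subgroup.mem_normalizer_iff.mp hn t).mp (Subgroup.mem_zpowers t)
    rw [(isOfFinOrder_of_finite t).mem_zpowers_iff_mem_range_orderOf, htord] at h1
    simp only [Finset.mem_image, Finset.mem_range] at h1
    obtain ⟨i, hi, h1⟩ := h1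
    interval_cases i
    · exfalso
      simp only [pow_zero] at h1
      have : t = 1 := by simpa using conj_eq_one_iff.mp h1.symm
      rw [this, orderOf_one] at htord; omega
    · rw [pow_one] at h1
      calc n * t = (n * t * n⁻¹) * n := by group
        _ = t * n := by rw [← h1]
  have hKA : K ≤ A ⊔ U := by
    intro k hk
    obtain ⟨i, hi⟩ := Subgroup.mem_zpowers_iff.mp (show (QuotientGroup.mk k : N ⧸ A) ∈ Subgroup.zpowers zb from hk)
    have htb : (QuotientGroup.mk t : N ⧸ A) = zb := by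
      have h1 : (QuotientGroup.mk t : N ⧸ A) ∈ Subgroup.zpowers zb := t'.2
      rw [(isOfFinOrder_of_finite zb).mem_zpowers_iff_mem_range_orderOf, hzord] at h1
      simp only [Finset.mem_image, Finset.mem_range] at h1
      obtain ⟨j, hj, h1⟩ := h1
      interval_cases j
      · exfalso; exact htA ((QuotientGroup.eq_one_iff t).mp (by rw [← h1, pow_zero]))
      · rw [← h1, pow_one]
    have h2 : k * (t ^ i)⁻¹ ∈ A := by
      rw [← QuotientGroup.eq_one_iff, QuotientGroup.mk_mul, QuotientGroup.mk_inv, QuotientGroup.mk_zpow, htb, hi, mul_inv_cancel]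
    have h3 : t ^ i ∈ U := Subgroup.zpow_mem _ (Subgroup.mem_centralizer_singleton_iff.mpr rfl) i
    have h4 := Subgroup.mul_mem_sup h2 h3
    simpa using h4
  have hsup : A ⊔ U = ⊤ := top_le_iff.mp (hfr ▸ sup_le (hNU.trans le_sup_right) hKA)
  refine ⟨U, ?_, hsup⟩
  by_contra hC
  set C := A ⊓ U with hCdef
  have hCne : C ≠ A := fun e => by
    have : t ∈ Subgroup.centralizer (A : Set N) := fun a ha => by
      have h1 : a ∈ U := (e.symm ▸ ha : a ∈ C).2
      exact Subgroup.mem_centralizer_singleton_iff.mp h1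
    rw [hAself] at this
    exact htA this
  have hcomm : ∀ a ∈ A, ∀ b ∈ A, a * b = b * a := fun a ha b hb =>
    congrArg Subtype.val (hAcomm.is_comm.comm ⟨a, ha⟩ ⟨b, hb⟩)
  have hAconj : ∀ a ∈ A, t * a * t ∈ A := fun a ha => by
    have := (inferInstance : A.Normal).conj_mem a ha t
    rwa [htinv] at this
  let D : Subgroup N :=
    { carrier := {a | a ∈ A ∧ t * a * t = a⁻¹}
      one_mem' := ⟨A.one_mem, by simp [ht2]⟩
      mul_mem' := fun {a b} ha hb => ⟨A.mul_mem ha.1 hb.1, by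
        calc t * (a * b) * t = (t * a * t) * (t * b * t) := by
              simp only [mul_assoc]; rw [← mul_assoc t t (b * t), ht2, one_mul]
          _ = a⁻¹ * b⁻¹ := by rw [ha.2, hb.2]
          _ = (a * b)⁻¹ := by rw [mul_inv_rev, hcomm _ (A.inv_mem ha.1) _ (A.inv_mem hb.1)]⟩
      inv_mem' := fun {a} ha => ⟨A.inv_mem ha.1, by
        have := congrArg (·⁻¹) ha.2
        simpa [mul_assoc, htinv] using this⟩ }
  have hinvn : ∀ (X : Subgroup N), X ≤ A → (∀ u ∈ U, ∀ x ∈ X, u * x * u⁻¹ ∈ X) → ∀ n x, x ∈ X → n * x * n⁻¹ ∈ X := by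
    intro X hXA hXU n x hx
    have hn : n ∈ A ⊔ U := hsup ▸ Subgroup.mem_top n
    rw [Subgroup.sup_eq_closure] at hn
    refine Subgroup.closure_induction (p := fun n _ => ∀ x ∈ X, n * x * n⁻¹ ∈ X ∧ n⁻¹ * x * n ∈ X) ?_ ?_ ?_ ?_ hn x hx |>.1
    · rintro y (hy | hy) x hx
      · refine ⟨?_, ?_⟩
        · rwa [hcomm y hy x (hXA hx), mul_inv_cancel_right]
        · rwa [hcomm y⁻¹ (A.inv_mem hy) x (hXA hx), inv_mul_cancel_right]
      · exact ⟨hXU y hy x hx, by simpa using hXU y⁻¹ (U.inv_mem hy) x hx⟩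
    · intro x hx; simp [hx]
    · intro a b _ _ ha hb x hx
      refine ⟨?_, ?_⟩
      · have := (ha _ (hb x hx).1).1; simpa [mul_assoc] using this
      · have := (hb _ (ha x hx).2).2; simpa [mul_assoc] using this
    · intro a _ ha x hx; simpa using (ha x hx).symm
  have hCinv : ∀ n x, x ∈ C → n * x * n⁻¹ ∈ C := hinvn C inf_le_left fun u hu x hx =>
    ⟨(inferInstance : A.Normal).conj_mem x hx.1 u, U.mul_mem (U.mul_mem hu hx.2) (U.inv_mem hu)⟩
  have hDinv : ∀ n x, x ∈ D → n * x * n⁻¹ ∈ D := hinvn D (fun a ha => ha.1) fun u hu x hx =>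
    ⟨(inferInstance : A.Normal).conj_mem x hx.1 u, by
      have h1 : u * t = t * u := Subgroup.mem_centralizer_singleton_iff.mp hu
      have h2 : u⁻¹ * t = t * u⁻¹ := Subgroup.mem_centralizer_singleton_iff.mp (U.inv_mem hu)
      calc t * (u * x * u⁻¹) * t = (t * u) * x * (u⁻¹ * t) := by simp only [mul_assoc]
        _ = (u * t) * x * (t * u⁻¹) := by rw [← h1, h2]
        _ = u * (t * x * t) * u⁻¹ := by simp only [mul_assoc]
        _ = _ := by rw [hx.2]; simp [mul_assoc]⟩
  have hdecomp : ∀ a ∈ A, ∃ c ∈ C, ∃ d ∈ D, a ^ 2 = c * d := by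
    intro a ha
    refine ⟨a * (t * a * t), ⟨A.mul_mem ha (hAconj a ha), ?_⟩, a * (t * a * t)⁻¹,
      ⟨A.mul_mem ha (A.inv_mem (hAconj a ha)), ?_⟩, ?_⟩
    · show a * (t * a * t) ∈ Subgroup.centralizer ({t} : Set N)
      rw [Subgroup.mem_centralizer_singleton_iff]
      have h1 := hcomm a ha _ (hAconj a ha)
      calc a * (t * a * t) * t = a * (t * a) := by simp [mul_assoc, ht2]
        _ = t * ((t * a * t) * a) := by simp [← mul_assoc, ht2]
        _ = t * (a * (t * a * t)) := by rw [h1]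
    · have h1 : (a * (t * a * t)⁻¹)⁻¹ = (t * a * t) * a⁻¹ := by rw [mul_inv_rev, inv_inv]
      rw [h1]
      simp [mul_assoc, htinv, ht2]
    · have h1 := hcomm a ha _ (hAconj a ha)
      calc a ^ 2 = a * ((t * a * t) * (t * a * t)⁻¹) * a := by simp [pow_two]
        _ = (a * (t * a * t)) * ((t * a * t)⁻¹ * a) := by simp only [mul_assoc]
        _ = _ := by rw [hcomm _ (A.inv_mem (hAconj a ha)) a ha]
  have hsqrt : ∀ (X : Subgroup N) (a : N), a ∈ A → a ^ 2 ∈ X → a ∈ X := by
    intro X a ha h2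
    obtain ⟨k, hk⟩ := (Fact.out : p.Prime).odd_of_ne_two hp
    have h3 : a ^ p = 1 := congrArg Subtype.val (hAexp ▸ Monoid.pow_exponent_eq_one (⟨a, ha⟩ : A) : (⟨a, ha⟩ : A) ^ p = 1)
    have h4 : a = (a ^ 2) ^ (k + 1) := by
      rw [← pow_mul, show 2 * (k + 1) = p + 1 by omega, pow_succ, h3, one_mul]
    rw [h4]
    exact X.pow_mem h2 _
  have hcyc : ∀ X : Subgroup N, X ≤ A → X ≠ ⊥ → X ≠ A → IsCyclic X := by
    intro X hXA hX1 hX2
    have h1 : Nat.card X ∣ p ^ 2 := hAcard ▸ Subgroup.card_dvd_of_le hXA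
    obtain ⟨i, hi, h2⟩ := (Nat.dvd_prime_pow (Fact.out : p.Prime)).mp h1
    interval_cases i
    · exact absurd (Subgroup.card_eq_one.mp (by simpa using h2)) hX1
    · exact isCyclic_of_prime_card (p := p) (by simpa using h2)
    · exact absurd (Subgroup.eq_of_le_of_card_ge hXA (by rw [hAcard, h2])) hX2
  have hCc := hcyc C inf_le_left hC hCne
  have hD1 : D ≠ ⊥ := fun e => hCne (le_antisymm inf_le_left fun a ha => hsqrt C a ha (by
    obtain ⟨c, hc, d, hd, h1⟩ := hdecomp a ha
    rw [e, Subgroup.mem_bot] at hd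
    rw [h1, hd, mul_one]; exact hc))
  have hD2 : D ≠ A := fun e => hC ((Subgroup.eq_bot_iff_forall C).mpr fun c hc => hA2 c hc.1 (by
    have h1 : t * c * t = c⁻¹ := ((e.symm ▸ hc.1 : c ∈ D)).2
    have h2 : c * t = t * c := Subgroup.mem_centralizer_singleton_iff.mp hc.2
    rw [← h2, mul_assoc, ht2, mul_one] at h1
    rw [pow_two]; nth_rewrite 2 [h1]; simp))
  have hDc := hcyc D (fun a ha => ha.1) hD1 hD2
  have hcom2 : ∀ X : Subgroup N, IsCyclic X → (∀ n x, x ∈ X → n * x * n⁻¹ ∈ X) →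
      ∀ n m x, x ∈ X → (n * m) * x * (n * m)⁻¹ = (m * n) * x * (m * n)⁻¹ := by
    intro X hX hinv n m x hx
    obtain ⟨⟨g, hg⟩, hgen⟩ := hX.exists_generator
    have hpow : ∀ n : N, ∃ i : ℤ, n * g * n⁻¹ = g ^ i := fun n => by
      obtain ⟨i, hi⟩ := hgen ⟨_, hinv n g hg⟩
      exact ⟨i, (congrArg Subtype.val hi).symm⟩
    obtain ⟨i, hi⟩ := hpow n
    obtain ⟨j, hj⟩ := hpow m
    obtain ⟨k, hk⟩ := hgen ⟨x, hx⟩
    have hk' : g ^ k = x := congrArg Subtype.val hk
    have e1 : ∀ (a b : N) (u v : ℤ), a * g * a⁻¹ = g ^ u → b * g * b⁻¹ = g ^ v →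
        (a * b) * x * (a * b)⁻¹ = g ^ (u * v * k) := by
      intro a b u v hu hv
      rw [← hk', zpow_mul, zpow_mul, ← hu, conj_zpow, ← hv, conj_zpow, conj_zpow]
      group
    rw [e1 n m i j hi hj, e1 m n j i hj hi, mul_comm j i]
  have hab : ∀ n m : N ⧸ A, n * m = m * n := by
    intro n m
    obtain ⟨n, rfl⟩ := QuotientGroup.mk_surjective n
    obtain ⟨m, rfl⟩ := QuotientGroup.mk_surjective m
    rw [← QuotientGroup.mk_mul, ← QuotientGroup.mk_mul, QuotientGroup.eq, ← hAself]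
    intro a ha
    obtain ⟨c, hc, d, hd, h1⟩ := hdecomp a ha
    have e : (n * m) * a ^ 2 * (n * m)⁻¹ = (m * n) * a ^ 2 * (m * n)⁻¹ := by
      have := congrArg₂ (· * ·) (hcom2 C hCc hCinv n m c hc) (hcom2 D hDc hDinv n m d hd)
      rw [h1]
      simpa [mul_assoc] using this
    set u := (n * m)⁻¹ * (m * n) with hu
    have e2 : u * a ^ 2 * u⁻¹ = a ^ 2 := by
      calc u * a ^ 2 * u⁻¹ = (n * m)⁻¹ * ((m * n) * a ^ 2 * (m * n)⁻¹) * (n * m) := by rw [hu]; group
        _ = a ^ 2 := by rw [← e]; group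
    obtain ⟨j, hj⟩ := (Fact.out : p.Prime).odd_of_ne_two hp
    have h3 : a ^ p = 1 := congrArg Subtype.val (hAexp ▸ Monoid.pow_exponent_eq_one (⟨a, ha⟩ : A) : (⟨a, ha⟩ : A) ^ p = 1)
    have h4 : a = (a ^ 2) ^ (j + 1) := by
      rw [← pow_mul, show 2 * (j + 1) = p + 1 by omega, pow_succ, h3, one_mul]
    have h5 : u * a * u⁻¹ = a := by rw [h4, ← conj_pow, e2]
    calc a * u = (u * a * u⁻¹) * u := by rw [h5]
      _ = u * a := by group
  let e1 : Matrix.SpecialLinearGroup (Fin 2) F := ⟨!![1, 1; 0, 1], by simp [Matrix.det_fin_two]⟩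
  let e2 : Matrix.SpecialLinearGroup (Fin 2) F := ⟨!![1, 0; 1, 1], by simp [Matrix.det_fin_two]⟩
  have h := congrArg e (hab (e.symm e1) (e.symm e2))
  simp only [map_mul, MulEquiv.apply_symm_apply] at h
  replace h := congrArg (fun M : Matrix.SpecialLinearGroup (Fin 2) F => (M : Matrix (Fin 2) (Fin 2) F)) h
  simp only [Matrix.SpecialLinearGroup.coe_mul] at h
  have h6 := congrArg (fun M : Matrix (Fin 2) (Fin 2) F => M 0 0) h
  simp [e1, e2, Matrix.SpecialLinearGroup.coe_mul, Matrix.mul_apply, Fin.sum_univ_two] at h6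

end Cfsg.Agent.S3075
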