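import Cfsg.Statements.S3076
import Cfsg.Agent.Cores.Constrained
import Cfsg.Agent.Fusion.PComplement

set_option autoImplicit false
open Cfsg

namespace Cfsg.Agent.S3076

theorem sylow_le {M : Type*} [Group M] [Finite M] {p : ℕ} [Fact p.Prime] (T : Sylow p M) (H : Subgroup M) [hH : H.Normal]
    (C : Subgroup M) [hCn : C.Normal] (hTC : (T : Subgroup M) ⊓ C ≤ H) (R : Sylow p C) {r : C}
    (hr : r ∈ (R : Subgroup C)) : (r : M) ∈ H := by
  obtain ⟨T', hT'⟩ := (R.isPGroup'.map C.subtype).exists_le_sylow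
  obtain ⟨g, rfl⟩ := MulAction.exists_smul_eq M T T'
  rw [Sylow.coe_subgroup_smul] at hT'
  obtain ⟨t, ht, htr⟩ := hT' ⟨r, hr, rfl⟩
  have htr' : g * t * g⁻¹ = (r : M) := htr
  have htC : t ∈ C := by
    have := hCn.conj_mem _ r.2 g⁻¹
    rw [← htr'] at this
    simpa [mul_assoc] using this
  rw [← htr']
  exact hH.conj_mem t (hTC ⟨ht, htC⟩) g

theorem le_ppc_of {M : Type*} [Group M] [Finite M] {p : ℕ} [Fact p.Prime] (T : Sylow p M) (H : Subgroup M) [hH : H.Normal]
    (hHT : H ≤ (T : Subgroup M)) (C : Subgroup M) [hCn : C.Normal] (hC : C = Subgroup.centralizer (H : Set M))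
    (hTC : (T : Subgroup M) ⊓ C ≤ H) (N : Subgroup M) (hN : N = (Cfsg.pCore p (M ⧸ C)).comap (QuotientGroup.mk' C))
    (hpow : ∀ x ∈ N, ∃ k : ℕ, x ^ (p ^ k) ∈ C) : N ≤ Cfsg.pPrimePCore p M := by
  let R : Sylow p C := default
  have hnil : Cfsg.HasNormalPComplement p C := by
    refine Fusion.hasNormalPComplement_of_normalizer_le_centralizer R fun c _ r hr => Subtype.ext ?_
    have hcC : (c : M) ∈ Subgroup.centralizer (H : Set M) := hC ▸ c.2
    exact Subgroup.mem_centralizer_iff.mp hcC r (sylow_le T H C hTC R hr)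
  have hp := (Fact.out : p.Prime)
  set L := (Cfsg.pResidual p C).map C.subtype with hL
  have hLn : L.Normal := ConjAct.normal_of_characteristic_of_normal
  have hLp : L ≤ Cfsg.pPrimeCore p M := by
    refine Cores.le_pPrimeCore ?_
    rw [hL, Subgroup.card_map_of_injective C.subtype_injective]
    exact (hp.coprime_iff_not_dvd.mpr (Fusion.hasNormalPComplement_iff_pResidual.mp hnil)).symm
  have hn : (N.map (QuotientGroup.mk' (Cfsg.pPrimeCore p M))).Normal := by
    rw [hN]; exact Subgroup.Normal.map (Subgroup.Normal.comap inferInstance _) _ (QuotientGroup.mk'_surjective _)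
  refine Subgroup.map_le_iff_le_comap.mp (Cores.le_pCore (hN := hn) ?_)
  rintro ⟨_, x, hx, rfl⟩
  obtain ⟨k, hk⟩ := hpow x hx
  obtain ⟨j, hj⟩ := Fusion.exists_pow_mem_pResidual (p := p) (⟨x ^ (p ^ k), hk⟩ : C)
  refine ⟨k + j, Subtype.ext ?_⟩
  show QuotientGroup.mk' (Cfsg.pPrimeCore p M) x ^ (p ^ (k + j)) = 1
  rw [← map_pow, pow_add, pow_mul]
  exact (QuotientGroup.eq_one_iff _).mpr (hLp ⟨_, hj, rfl⟩)

theorem aux {M : Type*} [Group M] [Finite M] {p : ℕ} [Fact p.Prime] (T : Sylow p M) (H : Subgroup M) [hH : H.Normal]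
    (hHT : H ≤ (T : Subgroup M)) (C : Subgroup M) [hCn : C.Normal] (hC : C = Subgroup.centralizer (H : Set M)) :
    (H ≤ (Cfsg.pCore p (M ⧸ C)).comap (QuotientGroup.mk' C) ∧
      ¬ p ∣ H.relIndex ((Cfsg.pCore p (M ⧸ C)).comap (QuotientGroup.mk' C))) ↔
    ((T : Subgroup M) ⊓ C ≤ H ∧ Cfsg.pPrimePCore p M = H ⊔ C) := by
  have hp := (Fact.out : p.Prime)
  set N := (Cfsg.pCore p (M ⧸ C)).comap (QuotientGroup.mk' C) with hN
  have hHp : IsPGroup p H := T.isPGroup'.to_le hHT
  have hpow : ∀ x ∈ N, ∃ k : ℕ, x ^ (p ^ k) ∈ C := by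
    intro x hx
    obtain ⟨k, hk⟩ := Cores.pCore_isPGroup (p := p) (G := M ⧸ C) ⟨QuotientGroup.mk' C x, hx⟩
    refine ⟨k, (QuotientGroup.eq_one_iff _).mp ?_⟩
    exact congrArg Subtype.val hk
  have hHN : H ≤ N := by
    have : (H.map (QuotientGroup.mk' C)).Normal := hH.map _ (QuotientGroup.mk'_surjective C)
    exact Subgroup.map_le_iff_le_comap.mp (Cores.le_pCore (hHp.map _))
  have hCN : C ≤ N := fun c hc => by
    show QuotientGroup.mk' C c ∈ Cfsg.pCore p (M ⧸ C)
    rw [show QuotientGroup.mk' C c = 1 from (QuotientGroup.eq_one_iff c).mpr hc]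
    exact one_mem _
  have hcore : Cfsg.pPrimePCore p M ≤ N := by
    have hcp : Cfsg.pPrimeCore p M ≤ C := by
      intro a ha
      rw [hC, Subgroup.mem_centralizer_iff]
      intro h hh
      exact (Cores.commute_pCore_pPrimeCore (Cores.le_pCore hHp hh) ha).eq
    have hn : ((Cfsg.pPrimePCore p M).map (QuotientGroup.mk' C)).Normal :=
      Subgroup.Normal.map inferInstance _ (QuotientGroup.mk'_surjective C)
    refine Subgroup.map_le_iff_le_comap.mp (Cores.le_pCore (hN := hn) ?_)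
    rintro ⟨_, x, hx, rfl⟩
    obtain ⟨k, hk⟩ := Cores.pCore_isPGroup (p := p) (G := M ⧸ Cfsg.pPrimeCore p M) ⟨QuotientGroup.mk' (Cfsg.pPrimeCore p M) x, hx⟩
    refine ⟨k, Subtype.ext ?_⟩
    show QuotientGroup.mk' C x ^ (p ^ k) = 1
    rw [← map_pow]
    exact (QuotientGroup.eq_one_iff _).mpr (hcp ((QuotientGroup.eq_one_iff _).mp (congrArg Subtype.val hk :)))
  constructor
  · rintro ⟨-, hidx⟩
    have hpelt : ∀ x ∈ N, ∀ k : ℕ, x ^ (p ^ k) ∈ H → x ∈ H := by
      intro x hx k hk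
      have h1 : x ^ H.relIndex N ∈ H := by
        have : (H.subgroupOf N).Normal := hH.subgroupOf N
        exact Subgroup.mem_subgroupOf.mp ((H.subgroupOf N).pow_index_mem ⟨x, hx⟩)
      have hg := ((hp.coprime_iff_not_dvd.mpr hidx).pow_left k)
      have h2 := Int.gcd_eq_gcd_ab (p ^ k : ℕ) (H.relIndex N)
      rw [Int.gcd_natCast_natCast, hg.gcd_eq_one] at h2
      have h3 : x = (x ^ (p ^ k)) ^ (Int.gcdA (p ^ k : ℕ) (H.relIndex N)) * (x ^ H.relIndex N) ^ (Int.gcdB (p ^ k : ℕ) (H.relIndex N)) := by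
        rw [← zpow_natCast x (p ^ k), ← zpow_natCast x (H.relIndex N), ← zpow_mul, ← zpow_mul, ← zpow_add, ← h2, Nat.cast_one, zpow_one]
      rw [h3]
      exact H.mul_mem (H.zpow_mem hk _) (H.zpow_mem h1 _)
    have hTC : (T : Subgroup M) ⊓ C ≤ H := by
      rintro x ⟨hxT, hxC⟩
      obtain ⟨k, hk⟩ := T.isPGroup' ⟨x, hxT⟩
      have e : x ^ (p ^ k) = 1 := congrArg Subtype.val hk
      exact hpelt x (hCN hxC) k (by rw [e]; exact H.one_mem)
    refine ⟨hTC, ?_⟩
    refine le_antisymm (hcore.trans ?_) (sup_le ?_ ?_)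
    · intro x hx
      obtain ⟨k, hk⟩ := hpow x hx
      have hmem : x ^ H.relIndex N ∈ H := by
        have : (H.subgroupOf N).Normal := hH.subgroupOf N
        exact Subgroup.mem_subgroupOf.mp ((H.subgroupOf N).pow_index_mem ⟨x, hx⟩)
      have hg := ((hp.coprime_iff_not_dvd.mpr hidx).pow_left k)
      have h2 := Int.gcd_eq_gcd_ab (p ^ k : ℕ) (H.relIndex N)
      rw [Int.gcd_natCast_natCast, hg.gcd_eq_one] at h2
      have h3 : x = (x ^ (p ^ k)) ^ (Int.gcdA (p ^ k : ℕ) (H.relIndex N)) * (x ^ H.relIndex N) ^ (Int.gcdB (p ^ k : ℕ) (H.relIndex N)) := by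
        rw [← zpow_natCast x (p ^ k), ← zpow_natCast x (H.relIndex N), ← zpow_mul, ← zpow_mul, ← zpow_add, ← h2, Nat.cast_one, zpow_one]
      rw [h3]
      exact mul_mem (Subgroup.zpow_mem _ (Subgroup.mem_sup_right hk) _) (Subgroup.zpow_mem _ (Subgroup.mem_sup_left hmem) _)
    · exact (Cores.le_pCore hHp).trans Cores.pCore_le_pPrimePCore
    · exact (le_ppc_of T H hHT C hC hTC N hN hpow) |> hCN.trans
  · rintro ⟨hTC, hcoreq⟩
    refine ⟨hHN, ?_⟩
    have hNle : N ≤ H ⊔ C := hcoreq ▸ le_ppc_of T H hHT C hC hTC N hN hpow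
    have hNeq : N = H ⊔ C := le_antisymm hNle (sup_le hHN hCN)
    rw [hNeq, sup_comm, Subgroup.relIndex_sup_right]
    let R : Sylow p C := default
    intro hdvd
    refine R.not_dvd_index (hdvd.trans (Subgroup.index_dvd_of_le ?_))
    intro r hr
    exact Subgroup.mem_subgroupOf.mpr (sylow_le T H C hTC R hr)

/-- Let P be a Sylow p-subgroup of the finite group G and H ≤ P a subgroup with N_P(H) a Sylow p-subgroup of N_G(H). Let N be the preimage in N_G(H) of O_p(N_G(H)/C_G(H)). Then H is a Sylow p-subgroup of N if and only if C_P(H) ≤ H and O_{p',p}(N_G(H)) = H·C_G(H). -/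
theorem result {G : Type*} [Group G] [Finite G] {p : ℕ} [Fact p.Prime]
    (P : Sylow p G) (H : Subgroup G) (hHP : H ≤ (P : Subgroup G))
    (hSyl : ¬ p ∣ ((P : Subgroup G) ⊓ Subgroup.normalizer (H : Set G)).relIndex (Subgroup.normalizer (H : Set G)))
    [hC : ((Subgroup.centralizer (H : Set G)).subgroupOf (Subgroup.normalizer (H : Set G))).Normal] :
    (H ≤ ((Cfsg.pCore p (↥(Subgroup.normalizer (H : Set G)) ⧸
              (Subgroup.centralizer (H : Set G)).subgroupOf (Subgroup.normalizer (H : Set G)))).comap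
            (QuotientGroup.mk' _)).map (Subgroup.normalizer (H : Set G)).subtype ∧
      ¬ p ∣ H.relIndex (((Cfsg.pCore p (↥(Subgroup.normalizer (H : Set G)) ⧸
              (Subgroup.centralizer (H : Set G)).subgroupOf (Subgroup.normalizer (H : Set G)))).comap
            (QuotientGroup.mk' _)).map (Subgroup.normalizer (H : Set G)).subtype)) ↔
    ((P : Subgroup G) ⊓ Subgroup.centralizer (H : Set G) ≤ H ∧
      (Cfsg.pPrimePCore p ↥(Subgroup.normalizer (H : Set G))).map (Subgroup.normalizer (H : Set G)).subtype =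
        H ⊔ Subgroup.centralizer (H : Set G)) := by
  set M := Subgroup.normalizer (H : Set G) with hM
  have hHM : H ≤ M := Subgroup.le_normalizer
  set H' := H.subgroupOf M with hH'
  have hH'n : H'.Normal := (Subgroup.normal_subgroupOf_iff_le_normalizer hHM).mpr le_rfl
  have hmapH : H'.map M.subtype = H := by rw [hH', Subgroup.subgroupOf_map_subtype, inf_eq_left.mpr hHM]
  set C := (Subgroup.centralizer (H : Set G)).subgroupOf M with hCdef
  have hCM : Subgroup.centralizer (H : Set G) ≤ M := Subgroup.centralizer_le_normalizer _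
  have hmapC : C.map M.subtype = Subgroup.centralizer (H : Set G) := by
    rw [hCdef, Subgroup.subgroupOf_map_subtype, inf_eq_left.mpr hCM]
  have hC' : C = Subgroup.centralizer (H' : Set M) := by
    ext x
    rw [hCdef, Subgroup.mem_subgroupOf, Subgroup.mem_centralizer_iff, Subgroup.mem_centralizer_iff]
    constructor
    · intro h y hy
      exact Subtype.ext (h y hy)
    · intro h y hy
      exact congrArg Subtype.val (h ⟨y, hHM hy⟩ hy)
  have hPp : IsPGroup p (((P : Subgroup G) ⊓ M).subgroupOf M) := (P.isPGroup'.to_le inf_le_left).comap_subtype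
  let T : Sylow p M := hPp.toSylow hSyl
  have hTeq : (T : Subgroup M) = ((P : Subgroup G) ⊓ M).subgroupOf M := IsPGroup.toSylow_coe _ _
  have key := aux T H' (fun x hx => by rw [hTeq]; exact ⟨hHP hx, x.2⟩) C hC'
  set N := (Cfsg.pCore p (M ⧸ C)).comap (QuotientGroup.mk' C) with hN
  have e1 : H ≤ N.map M.subtype ↔ H' ≤ N := by
    conv_lhs => rw [← hmapH]
    exact Subgroup.map_le_map_iff_of_injective M.subtype_injective
  have e2 : H.relIndex (N.map M.subtype) = H'.relIndex N := by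
    conv_lhs => rw [← hmapH]
    exact Subgroup.relIndex_map_map_of_injective _ _ M.subtype_injective
  have e3 : (P : Subgroup G) ⊓ Subgroup.centralizer (H : Set G) ≤ H ↔ (T : Subgroup M) ⊓ C ≤ H' := by
    rw [hTeq]
    constructor
    · intro h x hx
      exact h ⟨hx.1.1, hx.2⟩
    · intro h x hx
      exact h (x := ⟨x, hCM hx.2⟩) ⟨⟨hx.1, hCM hx.2⟩, hx.2⟩
  have e4 : (Cfsg.pPrimePCore p M).map M.subtype = H ⊔ Subgroup.centralizer (H : Set G) ↔
      Cfsg.pPrimePCore p M = H' ⊔ C := by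
    rw [← hmapC]
    conv_lhs => rw [← hmapH]
    rw [← Subgroup.map_sup, (Subgroup.map_injective M.subtype_injective).eq_iff]
  rw [e1, e2, e3, e4]
  exact key

end Cfsg.Agent.S3076
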