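import Cfsg.Statements.S3084
import Cfsg.Agent.H63.TwistAlg
import Cfsg.Agent.H92.ExtraIso

set_option autoImplicit false
open Cfsg

namespace Cfsg.Agent.S3084

open Cfsg.Agent.H92.ExtGroup Cfsg.Agent.H63

/-- Let K be a group acting faithfully and linearly on a finite-dimensional vector space U of dimension 2n ≥ 2 over the field with two elements, preserving a quadratic form q whose polar bilinear form is non-degenerate and which vanishes on some n-dimensional subspace (a non-singular form of plus type). Then there is a finite group R with a normal extraspecial 2-subgroup Q of order 2^(2n+1), an isomorphism of R/Q with K, and a surjective homomorphism χ from Q onto (the additive group of) U with kernel the centre of Q, such that χ carries conjugation by any r in R to the action of the image of r in K, and an element a of Q squares to the identity exactly when q vanishes at χ(a). -/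
theorem result {K : Type*} [Group K] {U : Type*} [AddCommGroup U] [Module (ZMod 2) U] [Module.Finite (ZMod 2) U] (n : ℕ) (hn1 : 1 ≤ n) (hn : Module.finrank (ZMod 2) U = 2 * n) (ρ : Representation (ZMod 2) K U) (hρ : Function.Injective ρ) (q : QuadraticForm (ZMod 2) U) (hq : ∀ (k : K) (u : U), q (ρ k u) = q u) (hnd : (QuadraticMap.polarBilin q).Nondegenerate) (hplus : ∃ W : Submodule (ZMod 2) U, Module.finrank (ZMod 2) ↥W = n ∧ ∀ w ∈ W, q w = 0) : ∃ (R : Type) (_ : Group R) (_ : Finite R) (Q : Subgroup R) (hN : Q.Normal) (e : R ⧸ Q ≃* K) (χ : ↥Q →* Multiplicative U), Cfsg.IsExtraspecial 2 ↥Q ∧ Nat.card ↥Q = 2 ^ (2 * n + 1) ∧ Function.Surjective χ ∧ χ.ker = Subgroup.center ↥Q ∧ (∀ (r : R) (a : ↥Q), χ ⟨r * a * r⁻¹, hN.conj_mem (a : R) a.2 r⟩ = Multiplicative.ofAdd (ρ (e (r : R ⧸ Q)) (Multiplicative.toAdd (χ a)))) ∧ ∀ a : ↥Q, a * a = 1 ↔ q (Multiplicative.toAdd (χ a)) = 0 := by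
  let φ : U ≃ₗ[ZMod 2] (Fin (2 * n) → ZMod 2) := (Module.finBasisOfFinrankEq (ZMod 2) U hn).equivFun
  let β₀ := QuadraticMap.toBilin (q.comp φ.symm.toLinearMap) (Pi.basisFun (ZMod 2) (Fin (2 * n)))
  let β : (Fin (2 * n) → ZMod 2) →+ (Fin (2 * n) → ZMod 2) →+ ZMod 2 :=
    AddMonoidHom.mk' (fun u => (β₀ u).toAddMonoidHom)
      fun u v => AddMonoidHom.ext fun w => by simp
  have hβ : ∀ v, β v v = q (φ.symm v) := fun v => by
    show β₀ v v = _
    rw [← LinearMap.BilinMap.toQuadraticMap_apply, QuadraticMap.toQuadraticMap_toBilin]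
    rfl
  have hB : ∀ v w, β v w + β w v = QuadraticMap.polarBilin q (φ.symm v) (φ.symm w) := by
    intro v w
    rw [QuadraticMap.polarBilin_apply_apply, QuadraticMap.polar, ← map_add, ← hβ, ← hβ, ← hβ]
    simp only [map_add, AddMonoidHom.add_apply]
    abel
  have hgood : Twist.Good β := by
    refine ⟨fun v => funext fun i => CharTwo.add_self_eq_zero _, fun w hw => ?_, ?_⟩
    · apply φ.symm.injective
      rw [map_zero]
      refine hnd.2 (φ.symm w) fun y => ?_
      rw [← φ.symm_apply_apply y, ← hB]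
      exact hw _
    · simp only [Fintype.card_pi, ZMod.card, Finset.prod_const, Finset.card_univ, Fintype.card_fin,
        pow_mul, Nat.cast_pow, Nat.cast_ofNat]
      rw [show ((2 : ZMod 3) ^ 2) = 1 by decide] <;> simp
  let ρ' : K →* AddMonoid.End (Fin (2 * n) → ZMod 2) :=
    { toFun := fun k => (φ.toLinearMap ∘ₗ ρ k ∘ₗ φ.symm.toLinearMap).toAddMonoidHom
      map_one' := AddMonoidHom.ext fun v => by simp; rfl
      map_mul' := fun k l => AddMonoidHom.ext fun v => by
        show φ (ρ (k * l) (φ.symm v)) = φ (ρ k (φ.symm (φ (ρ l (φ.symm v)))))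
        simp }
  have hρ'a : ∀ k v, ρ' k v = φ (ρ k (φ.symm v)) := fun _ _ => rfl
  have hρ' : Function.Injective ρ' := by
    intro k l h
    refine hρ (LinearMap.ext fun u => ?_)
    have h1 := congrArg (fun f : AddMonoid.End (Fin (2 * n) → ZMod 2) => f (φ u)) h
    simp only [hρ'a, LinearEquiv.symm_apply_apply] at h1
    exact φ.injective h1
  have hs : ∀ k, ∃ s : (Fin (2 * n) → ZMod 2) → ZMod 2, ∀ u v,
      s (u + v) = s u + s v + β (ρ' k u) (ρ' k v) + β u v := by
    intro k
    let L := φ.toLinearMap ∘ₗ ρ k ∘ₗ φ.symm.toLinearMap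
    obtain ⟨s, hs⟩ := Twist.exists_refine (β₀.compl₁₂ L L + β₀) (fun u => by
      show β (ρ' k u) (ρ' k u) + β u u = 0
      rw [hβ, hβ, hρ'a, LinearEquiv.symm_apply_apply, hq]
      exact CharTwo.add_self_eq_zero _)
    exact ⟨s, fun u v => by rw [hs, add_assoc (s u + s v)]; rfl⟩
  obtain ⟨R, _, _, π, Φ, hπ, hconj⟩ := Twist.exists_realization hgood ρ' hρ' hs
  let χ₀ : Ext β →* Multiplicative U :=
    { toFun := fun x => Multiplicative.ofAdd (φ.symm x.v)
      map_one' := by rw [one_v, map_zero]; rfl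
      map_mul' := fun x y => by rw [mul_v, map_add]; rfl }
  have hne : ∃ v w, β v w + β w v ≠ 0 := by
    by_contra! h
    have h0 : ∀ w : Fin (2 * n) → ZMod 2, w = 0 := fun w => hgood.nondeg w fun v => h v w
    have := congrFun (h0 fun _ => 1) ⟨0, by omega⟩
    exact one_ne_zero this
  refine ⟨R, inferInstance, inferInstance, π.ker, inferInstance,
    QuotientGroup.quotientKerEquivOfSurjective π hπ, χ₀.comp Φ.symm.toMonoidHom,
    Cfsg.Agent.H92.isExtraspecial_of_mulEquiv Φ
      (isExtraspecial hgood.two (k := 2 * n) (by simp) hgood.nondeg hne), ?_, ?_, ?_, ?_, ?_⟩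
  · rw [← Nat.card_congr Φ.toEquiv, card_ext, pow_succ]
    simp
  · intro u
    refine ⟨Φ ⟨φ u.toAdd, 0⟩, ?_⟩
    show χ₀ (Φ.symm (Φ _)) = u
    rw [MulEquiv.symm_apply_apply]
    show Multiplicative.ofAdd (φ.symm (φ u.toAdd)) = u
    rw [LinearEquiv.symm_apply_apply, ofAdd_toAdd]
  · ext a
    obtain ⟨x, rfl⟩ := Φ.surjective a
    rw [MonoidHom.mem_ker, MonoidHom.comp_apply, MulEquiv.coe_toMonoidHom,
      MulEquiv.symm_apply_apply]
    have hcen : Φ x ∈ Subgroup.center π.ker ↔ x ∈ Subgroup.center (Ext β) := by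
      simp only [Subgroup.mem_center_iff]
      constructor
      · intro h y; exact Φ.injective (by rw [map_mul, map_mul]; exact h _)
      · intro h y; obtain ⟨z, rfl⟩ := Φ.surjective y; rw [← map_mul, ← map_mul, h]
    rw [hcen, center_eq hgood.nondeg]
    show Multiplicative.ofAdd (φ.symm x.v) = 1 ↔ _
    rw [ofAdd_eq_one, LinearEquiv.map_eq_zero_iff]
  · intro r a
    obtain ⟨x, rfl⟩ := Φ.surjective a
    obtain ⟨c, hc⟩ := hconj r x
    simp only [MonoidHom.comp_apply, MulEquiv.coe_toMonoidHom, hc, Subtype.coe_eta,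
      MulEquiv.symm_apply_apply]
    show Multiplicative.ofAdd (φ.symm (ρ' (π r) x.v)) = _
    rw [hρ'a, LinearEquiv.symm_apply_apply]
    rfl
  · intro a
    obtain ⟨x, rfl⟩ := Φ.surjective a
    rw [← map_mul, EmbeddingLike.map_eq_one_iff, MonoidHom.comp_apply, MulEquiv.coe_toMonoidHom,
      MulEquiv.symm_apply_apply, Ext.ext_iff, mul_v, mul_c, one_v, one_c, hgood.two,
      CharTwo.add_self_eq_zero, zero_add]
    show _ ↔ q (φ.symm x.v) = 0
    rw [hβ]
    simp

end Cfsg.Agent.S3084
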