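import Cfsg.Statements.S3085
-- import your own Cfsg.Agent.* helpers here

set_option autoImplicit false
open Cfsg

namespace Cfsg.Agent.S3085

section
variable {Q : Type*} [Group Q] {z : Q}

/-- `z` is the central involution and every commutator and square lies in `{1, z}`. -/
structure Setup (z : Q) : Prop where
  cen : ∀ x : Q, x * z = z * x
  zz : z * z = 1
  ne : z ≠ 1
  comm : ∀ a b : Q, a * b = b * a ∨ a * b = b * a * z
  sq : ∀ a : Q, a * a = 1 ∨ a * a = z
  center : ∀ a : Q, (∀ x : Q, a * x = x * a) → a = 1 ∨ a = z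

variable (S : Setup z)
include S

theorem nc {a b : Q} (h : ¬ Commute a b) : a * b = b * a * z := (S.comm a b).resolve_left h

theorem commute_mul_iff {a x y : Q} (h : Commute a x) : Commute a (x * y) ↔ Commute a y :=
  ⟨fun h' => by simpa using (h.inv_right.mul_right h'), fun h' => h.mul_right h'⟩

theorem commute_mul_of_not {a x y : Q} (hx : ¬ Commute a x) (hy : ¬ Commute a y) : Commute a (x * y) := by
  show a * (x * y) = x * y * a
  rw [← mul_assoc, nc S hx, mul_assoc (x * a), ← S.cen y, mul_assoc x a, ← mul_assoc a y z, nc S hy, mul_assoc (y * a) z z, S.zz, mul_one,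
    ← mul_assoc]

theorem not_commute_mul {a x y : Q} (hx : ¬ Commute a x) (hy : Commute a y) : ¬ Commute a (x * y) :=
  fun h => hx (by simpa using h.mul_right hy.inv_right)

theorem nm' {x y u : Q} (hx : ¬ Commute x u) (hy : Commute y u) : ¬ Commute (x * y) u :=
  fun h => not_commute_mul S (fun hh => hx hh.symm) hy.symm h.symm

theorem commute_mul_of_not' {x y u : Q} (hx : ¬ Commute x u) (hy : ¬ Commute y u) : Commute (x * y) u :=
  (commute_mul_of_not S (fun h => hx h.symm) (fun h => hy h.symm)).symm

/-- The transvection attached to `s`. -/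
noncomputable def tvFun (_ : Setup z) (s x : Q) : Q :=
  @ite Q (Commute s x) (Classical.propDecidable _) x (x * s)

theorem tv_c {s x : Q} (h : Commute s x) : tvFun S s x = x := if_pos h

theorem tv_n {s x : Q} (h : ¬ Commute s x) : tvFun S s x = x * s := if_neg h

theorem tv_mul {s : Q} (hs : s * s = z) (x y : Q) : tvFun S s (x * y) = tvFun S s x * tvFun S s y := by
  by_cases hx : Commute s x <;> by_cases hy : Commute s y
  · rw [tv_c S hx, tv_c S hy, tv_c S (hx.mul_right hy)]
  · rw [tv_c S hx, tv_n S hy, tv_n S (fun h => hy ((commute_mul_iff S hx).1 h)), mul_assoc]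
  · rw [tv_n S hx, tv_c S hy, tv_n S (not_commute_mul S hx hy), mul_assoc, mul_assoc, hy.eq]
  · rw [tv_n S hx, tv_n S hy, tv_c S (commute_mul_of_not S hx hy)]
    calc x * y = x * y * (z * z) := by rw [S.zz, mul_one]
      _ = x * y * (s * s * z) := by rw [hs]
      _ = x * (y * s * s) * z := by simp only [mul_assoc]
      _ = x * (y * s * z * s) := by
        rw [mul_assoc x, mul_assoc (y * s) z s, ← S.cen s, mul_assoc (y * s) s z]
      _ = x * s * (y * s) := by rw [← nc S hy]; simp only [mul_assoc]

theorem tv_inj {s : Q} (hs : s * s = z) : Function.Injective (tvFun S s) := by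
  have hc : ∀ x, Commute s (tvFun S s x) ↔ Commute s x := by
    intro x
    by_cases hx : Commute s x
    · rw [tv_c S hx]
    · rw [tv_n S hx]
      exact iff_of_false (not_commute_mul S hx (Commute.refl s)) hx
  intro x y h
  have := hc x
  rw [h, hc y] at this
  by_cases hx : Commute s x
  · rwa [tv_c S hx, tv_c S (this.2 hx)] at h
  · rw [tv_n S hx, tv_n S (fun hy => hx (this.1 hy))] at h
    exact mul_right_cancel h

/-- The transvection as an automorphism. -/
noncomputable def tv [Finite Q] (s : Q) (hs : s * s = z) : MulAut Q :=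
  MulEquiv.ofBijective (MonoidHom.mk' (tvFun S s) (tv_mul S hs)) (Finite.injective_iff_bijective.mp (tv_inj S hs))

variable [Finite Q]

theorem tv_apply_c {s x : Q} (hs : s * s = z) (h : Commute s x) : tv S s hs x = x := tv_c S h

theorem tv_apply_n {s x : Q} (hs : s * s = z) (h : ¬ Commute s x) : tv S s hs x = x * s := tv_n S h

theorem tv_sq {s : Q} (hs : s * s = z) : tv S s hs * tv S s hs ∈ (MulAut.conj : Q →* MulAut Q).range := by
  refine ⟨s, ?_⟩
  ext x
  show s * x * s⁻¹ = tv S s hs (tv S s hs x)
  by_cases hx : Commute s x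
  · rw [tv_apply_c S hs hx, tv_apply_c S hs hx, hx.eq, mul_assoc, mul_inv_cancel, mul_one]
  · rw [tv_apply_n S hs hx, tv_apply_n S hs (not_commute_mul S hx (Commute.refl s)), mul_assoc x s s, hs,
      nc S hx, mul_assoc (x * s) z, ← S.cen s⁻¹, ← mul_assoc, mul_inv_cancel_right]

theorem tv_commute {s t : Q} (hs : s * s = z) (ht : t * t = z) (hst : Commute s t) :
    Commute (tv S s hs) (tv S t ht) := by
  have h1 : ∀ x, Commute s (tv S t ht x) ↔ Commute s x := by
    intro x
    by_cases hx : Commute t x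
    · rw [tv_apply_c S ht hx]
    · rw [tv_apply_n S ht hx]
      exact ⟨fun h => by simpa using h.mul_right hst.inv_right, fun h => h.mul_right hst⟩
  have h2 : ∀ x, Commute t (tv S s hs x) ↔ Commute t x := by
    intro x
    by_cases hx : Commute s x
    · rw [tv_apply_c S hs hx]
    · rw [tv_apply_n S hs hx]
      exact ⟨fun h => by simpa using h.mul_right hst.symm.inv_right, fun h => h.mul_right hst.symm⟩
  apply MulEquiv.ext
  intro x
  show tv S s hs (tv S t ht x) = tv S t ht (tv S s hs x)
  by_cases hx : Commute s x <;> by_cases hy : Commute t x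
  · rw [tv_apply_c S ht hy, tv_apply_c S hs hx, tv_apply_c S ht hy]
  · rw [tv_apply_c S hs hx, tv_apply_c S hs ((h1 x).2 hx)]
  · rw [tv_apply_c S ht hy, tv_apply_c S ht ((h2 x).2 hy)]
  · rw [tv_apply_n S hs (fun h => hx ((h1 x).1 h)), tv_apply_n S ht hy, tv_apply_n S ht (fun h => hy ((h2 x).1 h)),
      tv_apply_n S hs hx, mul_assoc, mul_assoc, hst.eq]

omit [Finite Q] in
theorem z_char {e : MulAut Q} : e z = z := by
  have h : ∀ x : Q, e z * x = x * e z := by
    intro x
    have := congrArg e (S.cen (e.symm x))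
    rw [map_mul, map_mul, e.apply_symm_apply] at this
    exact this.symm
  rcases S.center _ h with h1 | h1
  · exact absurd (by rw [← e.symm_apply_apply z, h1, map_one]) S.ne
  · exact h1

omit [Finite Q] in
theorem inn_apply {i : MulAut Q} (hi : i ∈ (MulAut.conj : Q →* MulAut Q).range) (y : Q) :
    i y = y ∨ i y = y * z := by
  obtain ⟨u, rfl⟩ := hi
  show u * y * u⁻¹ = y ∨ u * y * u⁻¹ = y * z
  rcases S.comm u y with h | h
  · left; rw [h, mul_inv_cancel_right]
  · right; rw [h, mul_assoc (y * u) z, ← S.cen u⁻¹, ← mul_assoc, mul_inv_cancel_right]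

/-- The combinatorial heart: the six elements lead to a contradiction with any complement. -/
theorem no_complement (L : Subgroup (MulAut Q)) (hL : ((MulAut.conj : Q →* MulAut Q).range).IsComplement' L)
    (s a c b g f : Q) (hs : s * s = z) (ha : a * a = 1) (hc : c * c = 1)
    (hsa : Commute s a) (hsc : Commute s c) (hac : Commute a c)
    (hbs : Commute s b) (hba : Commute a b) (hbc : ¬ Commute c b)
    (hgs : ¬ Commute s g) (hga : Commute a g) (hgc : Commute c g)
    (hfs : Commute s f) (hfa : ¬ Commute a f) : False := by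
  have ht1 : (s * a) * (s * a) = z := by
    rw [mul_assoc, ← mul_assoc a s a, ← hsa.eq, mul_assoc s a a, ha, mul_one, hs]
  have ht2 : (s * c) * (s * c) = z := by
    rw [mul_assoc, ← mul_assoc c s c, ← hsc.eq, mul_assoc s c c, hc, mul_one, hs]
  have hca : (c * a) * (c * a) = 1 := by
    rw [mul_assoc, ← mul_assoc a c a, hac.eq, mul_assoc c a a, ha, mul_one, hc]
  have hsca : Commute s (c * a) := hsc.mul_right hsa
  have ht3 : (s * (c * a)) * (s * (c * a)) = z := by
    rw [mul_assoc, ← mul_assoc (c * a) s (c * a), ← hsca.eq, mul_assoc s (c * a) (c * a), hca, mul_one, hs]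
  have c01 : Commute s (s * a) := (Commute.refl s).mul_right hsa
  have c02 : Commute s (s * c) := (Commute.refl s).mul_right hsc
  have c03 : Commute s (s * (c * a)) := (Commute.refl s).mul_right hsca
  have c12 : Commute (s * a) (s * c) := c02.mul_left (hsa.symm.mul_right hac)
  have c13 : Commute (s * a) (s * (c * a)) :=
    c03.mul_left (hsa.symm.mul_right (hac.mul_right (Commute.refl a)))
  have c23 : Commute (s * c) (s * (c * a)) :=
    c03.mul_left (hsc.symm.mul_right ((Commute.refl c).mul_right hac.symm))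
  set A0 : MulAut Q := tv S s hs * tv S (s * a) ht1 with hA0
  set C0 : MulAut Q := tv S (s * a) ht1 * (tv S (s * c) ht2 * tv S (s * (c * a)) ht3) with hC0
  have k01 := tv_commute S hs ht1 c01
  have k02 := tv_commute S hs ht2 c02
  have k03 := tv_commute S hs ht3 c03
  have k12 := tv_commute S ht1 ht2 c12
  have k13 := tv_commute S ht1 ht3 c13
  have k23 := tv_commute S ht2 ht3 c23
  set I := (MulAut.conj : Q →* MulAut Q).range with hI
  have hA2 : A0 * A0 ∈ I := by
    rw [hA0, k01.symm.mul_mul_mul_comm]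
    exact mul_mem (tv_sq S hs) (tv_sq S ht1)
  have hC2 : C0 * C0 ∈ I := by
    rw [hC0, ((k12.mul_right k13).symm).mul_mul_mul_comm, k23.symm.mul_mul_mul_comm]
    exact mul_mem (tv_sq S ht1) (mul_mem (tv_sq S ht2) (tv_sq S ht3))
  have hAC : A0 * C0 = C0 * A0 :=
    (k01.mul_right (k02.mul_right k03)).mul_left ((Commute.refl _).mul_right (k12.mul_right k13))
  have hIn : I.Normal := by
    constructor
    rintro _ ⟨u, rfl⟩ φ
    exact ⟨φ u, by ext x; simp [MulAut.conj_apply]⟩
  have lift : ∀ w : MulAut Q, ∃ l ∈ L, l * w⁻¹ ∈ I := by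
    intro w
    obtain ⟨⟨i, l⟩, h⟩ := hL.2 w
    refine ⟨l, l.2, ?_⟩
    have h' : (l : MulAut Q) * w⁻¹ = (i : MulAut Q)⁻¹ := by
      rw [← (h : (i : MulAut Q) * l = w)]; group
    rw [h']
    exact inv_mem i.2
  obtain ⟨A, hAL, hA⟩ := lift A0
  obtain ⟨C, hCL, hC⟩ := lift C0
  have one : ∀ m ∈ L, m ∈ I → m = 1 := by
    intro m h1 h2
    have := hL.disjoint.le_bot ⟨h2, h1⟩
    simpa using this
  let π := QuotientGroup.mk' I
  have hπ : ∀ {x y : MulAut Q}, x * y⁻¹ ∈ I → π x = π y := by
    intro x y h
    have h1 : π (x * y⁻¹) = 1 := (QuotientGroup.eq_one_iff _).2 h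
    rwa [map_mul, map_inv, mul_inv_eq_one] at h1
  have hCC : C * C = 1 := by
    refine one _ (mul_mem hCL hCL) ((QuotientGroup.eq_one_iff _).1 ?_)
    show π (C * C) = 1
    rw [map_mul, hπ hC, ← map_mul]
    exact (QuotientGroup.eq_one_iff _).2 hC2
  have hAA : A * A = 1 := by
    refine one _ (mul_mem hAL hAL) ((QuotientGroup.eq_one_iff _).1 ?_)
    show π (A * A) = 1
    rw [map_mul, hπ hA, ← map_mul]
    exact (QuotientGroup.eq_one_iff _).2 hA2
  have hACeq : A * C = C * A := by
    rw [← mul_inv_eq_one]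
    refine one _ (mul_mem (mul_mem hAL hCL) (inv_mem (mul_mem hCL hAL))) ((QuotientGroup.eq_one_iff _).1 ?_)
    show π _ = 1
    rw [map_mul, map_inv, map_mul, map_mul, hπ hA, hπ hC, mul_inv_eq_one, ← map_mul, ← map_mul, hAC]
  -- values up to the centre
  let cc : Q → Prop := fun r => r = 1 ∨ r = z
  have ccm : ∀ {r} (x : Q), cc r → Commute r x := by
    intro r x h
    rcases h with rfl | rfl
    · exact Commute.one_left x
    · exact (S.cen x).symm
  have ccs : ∀ {r}, cc r → r * r = 1 := by
    intro r h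
    rcases h with rfl | rfl
    · exact mul_one 1
    · exact S.zz
  have ccfix : ∀ (e : MulAut Q) {r}, cc r → e r = r := by
    intro e r h
    rcases h with rfl | rfl
    · exact map_one e
    · exact z_char S
  have ccmul : ∀ {r r'}, cc r → cc r' → cc (r * r') := by
    intro r r' h h'
    rcases h with rfl | rfl
    · rwa [one_mul]
    · rcases h' with rfl | rfl
      · exact Or.inr (mul_one _)
      · exact Or.inl S.zz
  have ccz : cc z := Or.inr rfl
  have val : ∀ {m w : MulAut Q}, m * w⁻¹ ∈ I → ∀ x, ∃ r, cc r ∧ m x = w x * r := by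
    intro m w h x
    have e : m x = (m * w⁻¹) (w x) := by
      show m x = m (w⁻¹ (w x))
      rw [MulAut.inv_apply_self]
    rcases inn_apply S h (w x) with h' | h'
    · exact ⟨1, Or.inl rfl, by rw [e, h', mul_one]⟩
    · exact ⟨z, ccz, by rw [e, h']⟩
  have nm : ∀ {x y u : Q}, ¬ Commute x u → Commute y u → ¬ Commute (x * y) u :=
    fun hx hy h => not_commute_mul S (fun hh => hx hh.symm) hy.symm h.symm
  -- a
  have A0a : A0 a = a := by
    show tv S s hs (tv S (s * a) ht1 a) = a
    rw [tv_apply_c S ht1 (hsa.mul_left (Commute.refl a)), tv_apply_c S hs hsa]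
  have C0a : C0 a = a := by
    show tv S (s * a) ht1 (tv S (s * c) ht2 (tv S (s * (c * a)) ht3 a)) = a
    rw [tv_apply_c S ht3 (hsa.mul_left (hac.symm.mul_left (Commute.refl a))),
      tv_apply_c S ht2 (hsa.mul_left hac.symm), tv_apply_c S ht1 (hsa.mul_left (Commute.refl a))]
  have A0b : A0 b = b := by
    show tv S s hs (tv S (s * a) ht1 b) = b
    rw [tv_apply_c S ht1 (hbs.mul_left hba), tv_apply_c S hs hbs]
  have A0s : A0 s = s := by
    show tv S s hs (tv S (s * a) ht1 s) = s
    rw [tv_apply_c S ht1 c01.symm, tv_apply_c S hs (Commute.refl s)]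
  -- b under C0
  have n3b : ¬ Commute (s * (c * a)) b := fun h => nm hbc hba (by simpa using hbs.inv_left.mul_left h)
  have n2b : ¬ Commute (s * c) b := fun h => hbc (by simpa using hbs.inv_left.mul_left h)
  have C0b : C0 b = b * a * z := by
    show tv S (s * a) ht1 (tv S (s * c) ht2 (tv S (s * (c * a)) ht3 b)) = b * a * z
    rw [tv_apply_n S ht3 n3b, map_mul, tv_apply_n S ht2 n2b, tv_apply_c S ht2 c23,
      show b * (s * c) * (s * (c * a)) = b * a * z from ?_]
    · exact tv_apply_c S ht1 (((hbs.mul_left hba).mul_right (hsa.mul_left (Commute.refl a))).mul_right (S.cen _))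
    · calc b * (s * c) * (s * (c * a)) = b * ((s * c) * (s * c)) * a := by simp only [mul_assoc]
        _ = b * a * z := by rw [ht2, mul_assoc, ← S.cen a, ← mul_assoc]
  -- g
  have n1g : ¬ Commute (s * a) g := nm hgs hga
  have n2g : ¬ Commute (s * c) g := nm hgs hgc
  have n3g : ¬ Commute (s * (c * a)) g := nm hgs (hgc.mul_left hga)
  have A0g : A0 g = g * a * z := by
    show tv S s hs (tv S (s * a) ht1 g) = g * a * z
    rw [tv_apply_n S ht1 n1g, map_mul, tv_apply_n S hs hgs, tv_apply_c S hs c01]
    calc g * s * (s * a) = g * (s * s) * a := by simp only [mul_assoc]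
      _ = g * a * z := by rw [hs, mul_assoc, ← S.cen a, ← mul_assoc]
  have C0g : C0 g = g * s * z := by
    show tv S (s * a) ht1 (tv S (s * c) ht2 (tv S (s * (c * a)) ht3 g)) = g * s * z
    rw [tv_apply_n S ht3 n3g, map_mul, tv_apply_n S ht2 n2g, tv_apply_c S ht2 c23, map_mul, map_mul,
      tv_apply_n S ht1 n1g, tv_apply_c S ht1 c12, tv_apply_c S ht1 c13]
    calc g * (s * a) * (s * c) * (s * (c * a)) = g * (s * a) * ((s * c) * (s * c)) * a := by simp only [mul_assoc]
      _ = g * (s * a) * (z * a) := by rw [ht2, mul_assoc _ z a]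
      _ = g * (s * (a * a)) * z := by rw [← S.cen a]; simp only [mul_assoc]
      _ = g * s * z := by rw [ha, mul_one]
  -- f
  have n1f : ¬ Commute (s * a) f := fun h => hfa (by simpa using hfs.inv_left.mul_left h)
  have A0f : A0 f = f * (s * a) := by
    show tv S s hs (tv S (s * a) ht1 f) = _
    rw [tv_apply_n S ht1 n1f, map_mul, tv_apply_c S hs hfs, tv_apply_c S hs c01]
  obtain ⟨p1, hp1, Aa⟩ := val hA a
  obtain ⟨p2, hp2, Ab⟩ := val hA b
  obtain ⟨ps, hps, As⟩ := val hA s
  obtain ⟨p3, hp3', Ag⟩ := val hA g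
  obtain ⟨p4, hp4, Af⟩ := val hA f
  obtain ⟨r1, hr1, Ca⟩ := val hC a
  obtain ⟨r2, hr2', Cb⟩ := val hC b
  obtain ⟨r3, hr3', Cg⟩ := val hC g
  rw [A0a] at Aa; rw [A0b] at Ab; rw [A0s] at As; rw [A0g, mul_assoc] at Ag; rw [A0f] at Af
  rw [C0a] at Ca; rw [C0b, mul_assoc] at Cb; rw [C0g, mul_assoc] at Cg
  have hp3 : cc (z * p3) := ccmul ccz hp3'
  have hr2 : cc (z * r2) := ccmul ccz hr2'
  have hr3 : cc (z * r3) := ccmul ccz hr3'
  set q3 := z * p3
  set u2 := z * r2
  set u3 := z * r3
  clear_value q3 u2 u3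
  -- C (C b) = b
  have r1one : r1 = 1 := by
    have e : C (C b) = b := DFunLike.congr_fun hCC b
    rw [Cb, map_mul, map_mul, Cb, Ca, ccfix C hr2] at e
    have e' : b * a * u2 * (a * r1) * u2 = b * r1 := by
      calc b * a * u2 * (a * r1) * u2 = b * a * (a * r1) * (u2 * u2) := by
            rw [mul_assoc (b * a) u2, (ccm (a * r1) hr2).eq]; simp only [mul_assoc]
        _ = b * (a * a) * r1 := by rw [ccs hr2, mul_one]; simp only [mul_assoc]
        _ = b * r1 := by rw [ha, mul_one]
    rw [e'] at e
    simpa using e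
  rw [r1one, mul_one] at Ca
  have p1one : p1 = 1 := by
    have e : A (C b) = C (A b) := DFunLike.congr_fun hACeq b
    simp only [Cb, Ab, map_mul, Aa, ccfix A hr2, ccfix C hp2] at e
    have e1 : b * p2 * (a * p1) * u2 = b * a * u2 * p2 * p1 := by
      calc b * p2 * (a * p1) * u2 = b * ((p2 * (a * p1)) * u2) := by simp only [mul_assoc]
        _ = b * (a * p1 * p2 * u2) := by rw [(ccm (a * p1) hp2).eq]
        _ = b * (a * (p1 * (p2 * u2))) := by simp only [mul_assoc]
        _ = b * (a * (u2 * p2 * p1)) := by rw [(ccm (p2 * u2) hp1).eq, (ccm u2 hp2).eq]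
        _ = b * a * u2 * p2 * p1 := by simp only [mul_assoc]
    rw [e1] at e
    exact mul_left_cancel (e.trans (mul_one _).symm)
  rw [p1one, mul_one] at Aa
  have psone : ps = 1 := by
    have e : A (C g) = C (A g) := DFunLike.congr_fun hACeq g
    simp only [Cg, Ag, map_mul, As, Ca, ccfix A hr3, ccfix C hp3] at e
    -- e : g * a * q3 * (s * ps) * u3 = g * s * u3 * a * q3
    have e1 : g * a * q3 * (s * ps) * u3 = g * s * a * (q3 * u3) * ps := by
      rw [mul_assoc (g * a) q3, (ccm (s * ps) hp3).eq, ← mul_assoc (g * a), mul_assoc (g * a * (s * ps)) q3 u3]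
      calc g * a * (s * ps) * (q3 * u3) = g * (a * s) * (ps * (q3 * u3)) := by simp only [mul_assoc]
        _ = g * (s * a) * ((q3 * u3) * ps) := by rw [hsa.eq, (ccm (q3 * u3) hps).eq]
        _ = _ := by simp only [mul_assoc]
    have e2 : g * s * u3 * a * q3 = g * s * a * (q3 * u3) := by
      rw [mul_assoc (g * s) u3, (ccm a hr3).eq, ← mul_assoc (g * s), mul_assoc (g * s * a) u3 q3, (ccm q3 hr3).eq]
    rw [e1, e2] at e
    exact mul_left_cancel (e.trans (mul_one _).symm)
  rw [psone, mul_one] at As
  have e : A (A f) = f := DFunLike.congr_fun hAA f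
  rw [Af, map_mul, map_mul, map_mul, Af, As, Aa, ccfix A hp4] at e
  have e1 : f * (s * a) * p4 * (s * a) * p4 = f * z := by
    calc f * (s * a) * p4 * (s * a) * p4 = f * (s * a) * (p4 * (s * a) * p4) := by simp only [mul_assoc]
      _ = f * (s * a) * ((s * a) * (p4 * p4)) := by rw [(ccm (s * a) hp4).eq, mul_assoc (s * a)]
      _ = f * z := by rw [ccs hp4, mul_one, mul_assoc f, ht1]
  rw [e1] at e
  exact S.ne (mul_left_cancel (e.trans (mul_one f).symm))

end


theorem sq_mem_center {Q : Type*} [Group Q] [Finite Q] (hP : IsPGroup 2 Q) (hfr : frattini Q = Subgroup.center Q)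
    (u : Q) : u * u ∈ Subgroup.center Q := by
  rw [← hfr, frattini, Order.radical]
  simp only [Subgroup.mem_iInf]
  intro M hM
  have hn : M.Normal := by
    haveI : Group.IsNilpotent Q := hP.isNilpotent
    exact Subgroup.NormalizerCondition.normal_of_coatom M normalizerCondition_of_isNilpotent hM
  have hcard : Nat.card (Q ⧸ M) = 2 := by
    obtain ⟨k, hk⟩ := hP.to_quotient M |>.exists_card_eq
    rcases k with _ | k
    · exact absurd (Subgroup.index_eq_one.1 hk) hM.1
    obtain ⟨x, hx⟩ := exists_prime_orderOf_dvd_card' 2 (show 2 ∣ Nat.card (Q ⧸ M) by rw [hk]; exact dvd_pow_self _ (by omega))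
    have hlt : M < (Subgroup.zpowers x).comap (QuotientGroup.mk' M) := by
      refine lt_of_le_of_ne (fun m hm => ?_) fun h => ?_
      · show (m : Q ⧸ M) ∈ Subgroup.zpowers x
        rw [(QuotientGroup.eq_one_iff m).2 hm]
        exact one_mem _
      have hb := congrArg (Subgroup.map (QuotientGroup.mk' M)) h
      rw [Subgroup.map_comap_eq_self_of_surjective (QuotientGroup.mk'_surjective M), (Subgroup.map_eq_bot_iff _).2 (QuotientGroup.ker_mk' M).ge] at hb
      exact (Subgroup.zpowers_ne_bot.2 (fun h1 => by simp [h1] at hx)) hb.symm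
    have htop := hM.2 _ hlt
    have : Subgroup.zpowers x = ⊤ := by
      have hb := congrArg (Subgroup.map (QuotientGroup.mk' M)) htop
      rwa [Subgroup.map_comap_eq_self_of_surjective (QuotientGroup.mk'_surjective M), Subgroup.map_top_of_surjective _ (QuotientGroup.mk'_surjective M)] at hb
    rw [← Subgroup.card_top (G := Q ⧸ M), ← this, Nat.card_zpowers, hx]
  have h1 : (QuotientGroup.mk u : Q ⧸ M) ^ 2 = 1 := hcard ▸ pow_card_eq_one'
  rw [pow_two, ← QuotientGroup.mk_mul] at h1
  exact (QuotientGroup.eq_one_iff _).1 h1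

theorem exists_pair {Q : Type*} [Group Q] [Finite Q] {z : Q} (S : Setup z) (E : Subgroup Q) (hEc : IsMulCommutative E)
    (hE2 : ∀ x ∈ E, x ^ 2 = 1) (hE : 16 ≤ Nat.card ↥E) (s : Q) :
    ∃ a c : Q, a * a = 1 ∧ c * c = 1 ∧ Commute s a ∧ Commute s c ∧ Commute a c ∧ (a ≠ 1 ∧ a ≠ z) ∧
      (c ≠ 1 ∧ c ≠ z ∧ c ≠ a ∧ c ≠ a * z) := by
  classical
  let H : Subgroup Q := E ⊓ Subgroup.centralizer {s}
  have hH : Nat.card ↥E ≤ 2 * Nat.card ↥H := by
    by_cases hex : ∃ v ∈ E, ¬ Commute s v
    · obtain ⟨v, hv, hvs⟩ := hex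
      rw [mul_comm, ← Fintype.card_bool, ← Nat.card_eq_fintype_card, ← Nat.card_prod]
      refine Nat.card_le_card_of_surjective (fun p : ↥H × Bool => if p.2 then ⟨p.1.1 * v, mul_mem p.1.2.1 hv⟩ else ⟨p.1.1, p.1.2.1⟩) ?_
      rintro ⟨e, he⟩
      by_cases hse : Commute s e
      · exact ⟨(⟨e, he, Subgroup.mem_centralizer_singleton_iff.2 hse.symm.eq⟩, false), rfl⟩
      · refine ⟨(⟨e * v⁻¹, E.mul_mem he (E.inv_mem hv), Subgroup.mem_centralizer_singleton_iff.2 ?_⟩, true), ?_⟩
        · exact (commute_mul_of_not S hse (fun h => hvs (by simpa using h.inv_right))).symm.eq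
        · simp
    · push Not at hex
      have hle : E ≤ H := fun v hv => ⟨hv, Subgroup.mem_centralizer_singleton_iff.2 (hex v hv).symm.eq⟩
      calc Nat.card ↥E ≤ Nat.card ↥H := Subgroup.card_le_of_le hle
        _ ≤ _ := by omega
  have pick : ∀ T : Finset Q, T.card ≤ 4 → ∃ x ∈ H, x ∉ T := by
    intro T hT
    by_contra h
    push Not at h
    have : Nat.card ↥H ≤ T.card := by
      rw [← Nat.card_eq_finsetCard]
      exact Nat.card_le_card_of_injective (fun x => ⟨x.1, h x.1 x.2⟩) (fun u v huv => Subtype.ext (congrArg Subtype.val huv :))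
    omega
  obtain ⟨a, haH, haT⟩ := pick {1, z} (Finset.card_le_two.trans (by norm_num))
  obtain ⟨c, hcH, hcT⟩ := pick {1, z, a, a * z} Finset.card_le_four
  simp only [Finset.mem_insert, Finset.mem_singleton, not_or] at haT hcT
  refine ⟨a, c, ?_, ?_, (Subgroup.mem_centralizer_singleton_iff.1 haH.2).symm, (Subgroup.mem_centralizer_singleton_iff.1 hcH.2).symm, ?_, haT, hcT⟩
  · rw [← pow_two]; exact hE2 a haH.1
  · rw [← pow_two]; exact hE2 c hcH.1
  · exact congrArg Subtype.val (hEc.is_comm.comm ⟨a, haH.1⟩ ⟨c, hcH.1⟩)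

theorem exists_dual {Q : Type*} [Group Q] {z : Q} (S : Setup z) (s a c : Q) (hs : s * s = z) (ha : a * a = 1)
    (hc : c * c = 1) (hac : Commute a c) (hsa : Commute s a) (hsc : Commute s c) (haz : a ≠ 1 ∧ a ≠ z)
    (hcz : c ≠ 1 ∧ c ≠ z ∧ c ≠ a ∧ c ≠ a * z) :
    ∃ b g f : Q, Commute b s ∧ Commute a b ∧ ¬ Commute c b ∧ ¬ Commute s g ∧ Commute a g ∧ Commute c g ∧
      Commute s f ∧ ¬ Commute a f := by
  classical
  have sinv : Commute s s⁻¹ := (Commute.refl s).inv_right
  have scentral : ¬ ∀ x, Commute s x := by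
    intro h
    rcases S.center s (fun x => (h x).eq) with h1 | h1
    · rw [h1, one_mul] at hs; exact S.ne hs.symm
    · rw [h1, S.zz] at hs; exact S.ne hs.symm
  obtain ⟨g0, hg0⟩ := not_forall.1 scentral
  -- f
  obtain ⟨f, hfs, hfa⟩ : ∃ f, Commute s f ∧ ¬ Commute a f := by
    by_contra h
    push Not at h
    by_cases hag : Commute a g0
    · have : ∀ x, Commute a x := by
        intro x
        by_cases hx : Commute s x
        · exact h x hx
        · have h1 := h _ (commute_mul_of_not S hg0 hx)
          simpa using hag.inv_right.mul_right h1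
      rcases S.center a (fun x => (this x).eq) with h1 | h1
      · exact haz.1 h1
      · exact haz.2 h1
    · have : ∀ x, Commute (s * a) x := by
        intro x
        by_cases hx : Commute s x
        · exact hx.mul_left (h x hx)
        · have hax : ¬ Commute a x := by
            intro hax
            have h1 := h _ (commute_mul_of_not S hx hg0)
            exact hag (by simpa using hax.inv_right.mul_right h1)
          exact (commute_mul_of_not' S hx hax)
      have hsq : (s * a) * (s * a) = z := by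
        rw [mul_assoc, ← mul_assoc a s a, ← hsa.eq, mul_assoc s a a, ha, mul_one, hs]
      rcases S.center _ (fun x => (this x).eq) with h1 | h1
      · rw [h1, one_mul] at hsq; exact S.ne hsq.symm
      · rw [h1, S.zz] at hsq; exact S.ne hsq.symm
  obtain ⟨g1, hg1s, hg1a⟩ : ∃ g, ¬ Commute s g ∧ Commute a g := by
    by_cases hag : Commute a g0
    · exact ⟨g0, hg0, hag⟩
    · exact ⟨g0 * f, not_commute_mul S hg0 hfs, commute_mul_of_not S hag hfa⟩
  obtain ⟨b, hbs, hba, hbc⟩ : ∃ b, Commute b s ∧ Commute a b ∧ ¬ Commute c b := by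
    by_contra h
    push Not at h
    -- adjust c by a and s so that it becomes central
    let u : Q := if Commute c f then 1 else a
    let v : Q := if Commute c g1 then 1 else s
    have hu : ∀ {x}, Commute s x → Commute a x → Commute u x := by
      intro x h1 h2
      by_cases hh : Commute c f
      · simp [u, hh]
      · simpa [u, hh] using h2
    have hv : ∀ {x}, Commute s x → Commute v x := by
      intro x h1
      by_cases hh : Commute c g1
      · simp [v, hh]
      · simpa [v, hh] using h1
    let w : Q := c * u * v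
    have wf : Commute w f := by
      refine (?_ : Commute (c * u) f).mul_left (hv hfs)
      by_cases hh : Commute c f
      · simpa [u, hh] using hh
      · simpa [u, hh] using commute_mul_of_not' S hh hfa
    have wg : Commute w g1 := by
      have hug : Commute u g1 := by
        by_cases hh : Commute c f
        · simp [u, hh]
        · simpa [u, hh] using hg1a
      by_cases hh : Commute c g1
      · simpa [w, v, hh] using hh.mul_left hug
      · simpa [w, v, hh] using commute_mul_of_not' S (nm' S hh hug) hg1s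
    have wall : ∀ x, Commute w x := by
      have base : ∀ x, Commute s x → Commute a x → Commute w x := fun x h1 h2 =>
        ((h x h1.symm h2).mul_left (hu h1 h2)).mul_left (hv h1)
      have base2 : ∀ x, Commute s x → Commute w x := by
        intro x h1
        by_cases h2 : Commute a x
        · exact base x h1 h2
        · have := base (x * f) (h1.mul_right hfs) (commute_mul_of_not S h2 hfa)
          simpa using this.mul_right wf.inv_right
      intro x
      by_cases h1 : Commute s x
      · exact base2 x h1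
      · have := base2 (x * g1) (commute_mul_of_not S h1 hg1s)
        simpa using this.mul_right wg.inv_right
    have cw := S.center w (fun x => (wall x).eq)
    obtain ⟨hc1, hcz', hca, hcaz⟩ := hcz
    have sqw : w * w = 1 := by rcases cw with h1 | h1 <;> rw [h1]; exacts [one_mul _, S.zz]
    by_cases hh : Commute c g1
    · by_cases hf : Commute c f <;> simp only [w, u, v, hh, hf, if_true, if_false, mul_one] at cw
      · exact cw.elim hc1 hcz'
      · rcases cw with h1 | h1
        · exact hca (by rw [← mul_one a, ← h1, ← mul_assoc, hac.eq, mul_assoc, ha, mul_one])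
        · exact hcaz (by rw [← h1, ← mul_assoc, hac.eq, mul_assoc, ha, mul_one])
    · have key : ∀ u' : Q, u' * u' = 1 → Commute s u' → (u' * s) * (u' * s) = z := by
        intro u' h1 h2
        rw [mul_assoc, ← mul_assoc s u' s, h2.eq, mul_assoc u' s s, hs, ← mul_assoc, h1, one_mul]
      have hcu : (c * u) * (c * u) = 1 ∧ Commute s (c * u) := by
        by_cases hf : Commute c f
        · simp only [u, hf, if_true, mul_one]; exact ⟨hc, hsc⟩
        · simp only [u, hf, if_false]
          refine ⟨?_, hsc.mul_right hsa⟩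
          rw [mul_assoc, ← mul_assoc a c a, hac.eq, mul_assoc c a a, ha, mul_one, hc]
      have := key _ hcu.1 hcu.2
      have e : w = c * u * s := by simp [w, v, hh]
      rw [← e, sqw] at this
      exact S.ne this.symm
  obtain ⟨g, hgs, hga, hgc⟩ : ∃ g, ¬ Commute s g ∧ Commute a g ∧ Commute c g := by
    by_cases hcg : Commute c g1
    · exact ⟨g1, hg1s, hg1a, hcg⟩
    · exact ⟨g1 * b, not_commute_mul S hg1s hbs.symm, hg1a.mul_right hba, commute_mul_of_not S hcg hbc⟩
  exact ⟨b, g, f, hbs, hba, hbc, hgs, hga, hgc, hfs, hfa⟩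

/-- Let Q be an extraspecial 2-group of order 2^(2n+1) with n ≥ 3 that is of plus type (it contains an elementary abelian subgroup of order 2^(n+1)). Then the group of inner automorphisms of Q has no complement in the full automorphism group of Q: the extension of the inner automorphism group (elementary abelian of order 2^(2n)) by the outer automorphism group (the orthogonal group of plus type) does not split. -/
theorem result {Q : Type*} [Group Q] [Finite Q] (n : ℕ) (hn : 3 ≤ n) (hQ : Cfsg.IsExtraspecial 2 Q) (hcard : Nat.card Q = 2 ^ (2 * n + 1)) (hplus : ∃ E : Subgroup Q, Cfsg.IsElementaryAbelian 2 E ∧ Nat.card ↥E = 2 ^ (n + 1)) (L : Subgroup (MulAut Q)) : ¬ (Cfsg.Inn Q).IsComplement' L := by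
  classical
  intro hL
  obtain ⟨⟨hP, hfr, hcm⟩, hZc⟩ := hQ
  obtain ⟨E, ⟨hEc, hE2⟩, hEcard⟩ := hplus
  obtain ⟨z', hz'⟩ : ∃ z : ↥(Subgroup.center Q), z ≠ 1 := by
    by_contra h
    push Not at h
    have : Nat.card ↥(Subgroup.center Q) = 1 := Nat.card_eq_one_iff_exists.2 ⟨1, h⟩
    omega
  set z : Q := z'.1 with hzdef
  have hzne : z ≠ 1 := fun h => hz' (Subtype.ext h)
  have hzmem : z ∈ Subgroup.center Q := z'.2
  have hcenter : ∀ y ∈ Subgroup.center Q, y = 1 ∨ y = z := by
    intro y hy
    by_contra h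
    push Not at h
    have h3 : ({1, z, y} : Finset Q).card = 3 := Finset.card_eq_three.2 ⟨1, z, y, hzne.symm, h.1.symm, h.2.symm, rfl⟩
    have : ({1, z, y} : Finset Q).card ≤ Nat.card ↥(Subgroup.center Q) := by
      rw [← Nat.card_eq_finsetCard]
      refine Nat.card_le_card_of_injective (fun w => ⟨(w : Q), ?_⟩) (fun u v huv => Subtype.ext (congrArg Subtype.val huv :))
      have hw := w.2
      simp only [Finset.mem_insert, Finset.mem_singleton] at hw
      rcases hw with h | h | h <;> rw [h]
      exacts [one_mem _, hzmem, hy]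
    omega
  have hzz : z * z = 1 := by
    rcases hcenter _ (mul_mem hzmem hzmem) with h | h
    · exact h
    · exact absurd (mul_left_cancel (h.trans (mul_one z).symm)) hzne
  have S : Setup z :=
    { cen := fun x => Subgroup.mem_center_iff.1 hzmem x
      zz := hzz
      ne := hzne
      center := fun u hu => hcenter u (Subgroup.mem_center_iff.2 fun x => (hu x).symm)
      comm := by
        intro u v
        have : u * v * u⁻¹ * v⁻¹ ∈ Subgroup.center Q := by
          rw [← hcm]
          exact Subgroup.commutator_mem_commutator (Subgroup.mem_top u) (Subgroup.mem_top v)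
        rcases hcenter _ this with h | h
        · exact Or.inl (by rwa [mul_inv_eq_one, mul_inv_eq_iff_eq_mul] at h)
        · right
          rw [mul_inv_eq_iff_eq_mul, mul_inv_eq_iff_eq_mul] at h
          rw [h, mul_assoc, ← Subgroup.mem_center_iff.1 hzmem (v * u)]
      sq := by
        intro u
        exact hcenter _ (sq_mem_center hP hfr u) }
  obtain ⟨s, hs⟩ : ∃ s : Q, s * s = z := by
    by_contra h
    push Not at h
    have hexp : ∀ u : Q, u * u = 1 := fun u => (S.sq u).resolve_right (h u)
    have hcom : ∀ u v : Q, u * v = v * u := fun u v => by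
      have := hexp (u * v)
      rw [mul_eq_one_iff_eq_inv] at this
      rw [this, mul_inv_rev, ← mul_eq_one_iff_eq_inv.1 (hexp u), ← mul_eq_one_iff_eq_inv.1 (hexp v)]
    have : Nat.card ↥(Subgroup.center Q) = Nat.card Q :=
      Nat.card_congr (Equiv.subtypeUnivEquiv fun u => Subgroup.mem_center_iff.2 fun x => hcom x u)
    rw [hZc, hcard] at this
    have h8 : 2 ^ 3 ≤ 2 ^ (2 * n + 1) := Nat.pow_le_pow_right (by norm_num) (by omega)
    omega
  obtain ⟨a, c, ha, hc, hsa, hsc, hac, haz, hcz⟩ :=
    exists_pair S E hEc hE2 (by rw [hEcard]; exact le_trans (by norm_num) (Nat.pow_le_pow_right (by norm_num : 1 ≤ 2) (show 4 ≤ n + 1 by omega))) s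
  obtain ⟨b, g, f, hbs, hba, hbc, hgs, hga, hgc, hfs, hfa⟩ := exists_dual S s a c hs ha hc hac hsa hsc haz hcz
  exact no_complement S L hL s a c b g f hs ha hc hsa hsc hac hbs.symm hba hbc hgs hga hgc hfs hfa

end Cfsg.Agent.S3085
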