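import Cfsg.Statements.S3086
import Cfsg.Agent.H63.PGVMain
import Cfsg.Agent.Components.Basic

set_option autoImplicit false
open Cfsg

namespace Cfsg.Agent.S3086

open Cfsg.Agent.H63

/-- The P(G,V)-theorem. Let p be a prime, G a finite group acting faithfully and linearly on a finite vector space V over the field with p elements, and A a nontrivial elementary abelian p-subgroup of G such that |A|·|C_V(A)| ≥ |B|·|C_V(B)| for every subgroup B of A. Then A normalizes every component (subnormal quasisimple subgroup) of G. -/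
theorem result {G V : Type*} [Group G] [Finite G] [AddCommGroup V] [Finite V] (p : ℕ) [Fact p.Prime] [Module (ZMod p) V]
    (ρ : Representation (ZMod p) G V) (hρ : Function.Injective ρ)
    (A : Subgroup G) (hA : A ≠ ⊥) (hAel : Cfsg.IsElementaryAbelian p A)
    (hP : ∀ B : Subgroup G, B ≤ A →
      Nat.card ↥B * Nat.card {v : V // ∀ b ∈ B, ρ b v = v} ≤ Nat.card ↥A * Nat.card {v : V // ∀ a ∈ A, ρ a v = v}) :
    ∀ K : Subgroup G, Cfsg.IsComponent K → A ≤ Subgroup.normalizer (K : Set G) := by
  intro K hK a ha
  let f : G →* AddMonoid.End V :=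
    { toFun := fun g => (ρ g).toAddMonoidHom
      map_one' := AddMonoidHom.ext fun v => by simp; rfl
      map_mul' := fun g h => AddMonoidHom.ext fun v => by simp; rfl }
  let ψ : G →* Gam V := f.toHomUnits
  have hsmul : ∀ g v, ψ g • v = ρ g v := fun g v => rfl
  have hψ : Function.Injective ψ := fun x y e =>
    hρ (LinearMap.ext fun v => by rw [← hsmul, ← hsmul, e])
  have hm : ∀ S : Subgroup G, mS V (S.map ψ) =
      Nat.card S * Nat.card {v : V // ∀ b ∈ S, ρ b v = v} := by
    intro S
    have e1 : Nat.card (S.map ψ) = Nat.card S :=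
      Nat.card_congr (S.equivMapOfInjective ψ hψ).symm.toEquiv
    have e2 : Nat.card (fixS V (S.map ψ)) = Nat.card {v : V // ∀ b ∈ S, ρ b v = v} := by
      refine Nat.card_congr (Equiv.subtypeEquivRight fun v => ?_)
      constructor
      · intro h b hb
        rw [← hsmul]
        exact h _ (Subgroup.mem_map_of_mem ψ hb)
      · rintro h _ ⟨b, hb, rfl⟩
        rw [hsmul]
        exact h b hb
    unfold mS
    rw [e1, e2]
  have hqs : Cfsg.IsQuasisimple (K.map ψ) :=
    Cfsg.Agent.Components.qs_congr (K.equivMapOfInjective ψ hψ) hK.2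
  have key : Hyp p (A.map ψ) (K.map ψ) := by
    constructor
    · intro v
      rw [← Nat.cast_smul_eq_nsmul (ZMod p), ZMod.natCast_self, zero_smul]
    · rintro _ ⟨x, hx, rfl⟩ _ ⟨y, hy, rfl⟩
      rw [← map_mul, ← map_mul]
      exact congrArg ψ (congrArg Subtype.val (hAel.1.is_comm.comm ⟨x, hx⟩ ⟨y, hy⟩))
    · rintro _ ⟨x, hx, rfl⟩
      rw [← map_pow, hAel.2 x hx, map_one]
    · intro B hB
      have e : (A ⊓ B.comap ψ).map ψ = B := by
        apply le_antisymm
        · exact (Subgroup.map_mono inf_le_right).trans (Subgroup.map_comap_le _ _)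
        · intro b hb
          obtain ⟨x, hx, rfl⟩ := hB hb
          exact ⟨x, ⟨hx, hb⟩, rfl⟩
      rw [← e, hm, hm]
      exact hP _ inf_le_left
    · rw [← Subgroup.map_commutator, Cfsg.Agent.Components.component_perfect hK]
    · intro N hN hn
      rcases Cfsg.Agent.Components.qsSub_normal hqs hn with h | h
      · exact Or.inr (le_antisymm hN h)
      · refine Or.inl fun n hn' k hk => ?_
        exact (Cfsg.Agent.Components.commute_of_commutator_eq_bot h hk ⟨hN hn', hn'⟩).symm
    · rintro _ ⟨x, hx, rfl⟩
      by_cases hfix : K.map (MulAut.conj x).toMonoidHom = K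
      · refine Or.inl ?_
        refine Subgroup.le_normalizer_map ψ ⟨x, ?_, rfl⟩
        rw [SetLike.mem_coe, Subgroup.mem_normalizer_iff]
        intro g
        constructor
        · intro hg
          rw [← hfix]
          exact ⟨g, hg, rfl⟩
        · intro hg
          rw [← hfix] at hg
          obtain ⟨k, hk, e⟩ := hg
          have : k = g := (MulAut.conj x).injective e
          exact this ▸ hk
      · refine Or.inr ?_
        rintro _ ⟨k, hk, rfl⟩ _ ⟨l, hl, rfl⟩
        have h := Cfsg.Agent.Components.commute_of_commutator_eq_bot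
          (Cfsg.Agent.Components.components_commute (Cfsg.Agent.Components.component_conj hK x) hK hfix)
          (show x * k * x⁻¹ ∈ K.map (MulAut.conj x).toMonoidHom from ⟨k, hk, rfl⟩) hl
        rw [← map_inv, ← map_mul, ← map_mul]
        exact (show Commute (x * k * x⁻¹) l from h).map ψ
  have hb := pgv_bound p _ V (A.map ψ) (K.map ψ) key le_rfl (Subgroup.mem_map_of_mem ψ ha)
  rw [Subgroup.mem_normalizer_iff] at hb ⊢
  intro g
  have := hb (ψ g)
  rw [← map_inv, ← map_mul, ← map_mul] at this
  constructor
  · intro hg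
    obtain ⟨y, hy, e⟩ := this.1 (Subgroup.mem_map_of_mem ψ hg)
    exact hψ e ▸ hy
  · intro hg
    obtain ⟨y, hy, e⟩ := this.2 (Subgroup.mem_map_of_mem ψ hg)
    exact hψ e ▸ hy

end Cfsg.Agent.S3086
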