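import Cfsg.Statements.S3087
import Mathlib.GroupTheory.QuotientGroup.Basic
import Mathlib.GroupTheory.Index

set_option autoImplicit false
open Cfsg

namespace Cfsg.Agent.S3087

/-- Second isomorphism counting. -/
theorem card_mul_le {V : Type*} [AddCommGroup V] [Finite V] (X Y C : AddSubgroup V) (hX : X ≤ C) (hY : Y ≤ C) :
    Nat.card ↥X * Nat.card ↥Y ≤ Nat.card ↥C * Nat.card ↥(X ⊓ Y) := by
  let f : ↥X →+ ↥C ⧸ Y.addSubgroupOf C := (QuotientAddGroup.mk' _).comp (AddSubgroup.inclusion hX)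
  have h1 : Nat.card ↥X = Nat.card f.range * Nat.card f.ker := by
    rw [← AddSubgroup.index_ker f, mul_comm]
    exact (AddSubgroup.card_mul_index f.ker).symm
  have h2 : Nat.card f.range ≤ Nat.card (↥C ⧸ Y.addSubgroupOf C) :=
    Nat.card_le_card_of_injective _ Subtype.val_injective
  have h3 : Nat.card f.ker ≤ Nat.card ↥(X ⊓ Y) := by
    refine Nat.card_le_card_of_injective (fun x => ⟨(x : ↥X).1, ?_⟩) ?_
    · have hx := x.2
      rw [AddMonoidHom.mem_ker] at hx
      have h' := (QuotientAddGroup.eq_zero_iff _).1 hx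
      exact ⟨(x : ↥X).2, h'⟩
    · intro a b hab
      exact Subtype.ext (Subtype.ext (congrArg (fun z : ↥(X ⊓ Y) => (z : V)) hab))
  have h4 : Nat.card ↥Y = Nat.card ↥(Y.addSubgroupOf C) :=
    (Nat.card_congr (AddSubgroup.addSubgroupOfEquivOfLe hY).toEquiv).symm
  calc Nat.card ↥X * Nat.card ↥Y
      ≤ Nat.card (↥C ⧸ Y.addSubgroupOf C) * Nat.card ↥(X ⊓ Y) * Nat.card ↥(Y.addSubgroupOf C) := by
        rw [h1, h4]
        exact Nat.mul_le_mul_right _ (Nat.mul_le_mul h2 h3)
    _ = Nat.card ↥C * Nat.card ↥(X ⊓ Y) := by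
        rw [AddSubgroup.card_eq_card_quotient_mul_card_addSubgroup (Y.addSubgroupOf C)]
        ring

/-- Let p be a prime, G a finite group acting linearly on a finite vector space V over the field with p elements, W a G-invariant subspace, and A a subgroup of G with |A|·|C_V(A)| ≥ |B|·|C_V(B)| for every subgroup B of A. Then |A|·|C_W(A)| ≥ |B|·|C_W(B)| for every subgroup B of A that contains C_A(W); that is, the image of A in the group induced on W satisfies the same maximality condition. -/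
theorem result {G V : Type*} [Group G] [Finite G] [AddCommGroup V] [Finite V] (p : ℕ) [Fact p.Prime] [Module (ZMod p) V]
    (ρ : Representation (ZMod p) G V) (W : Submodule (ZMod p) V) (hW : ∀ g : G, ∀ w ∈ W, ρ g w ∈ W)
    (A : Subgroup G)
    (hP : ∀ B : Subgroup G, B ≤ A →
      Nat.card ↥B * Nat.card {v : V // ∀ b ∈ B, ρ b v = v} ≤ Nat.card ↥A * Nat.card {v : V // ∀ a ∈ A, ρ a v = v})
    (B : Subgroup G) (hBA : B ≤ A) (hCB : ∀ a ∈ A, (∀ w ∈ W, ρ a w = w) → a ∈ B) :
    Nat.card ↥B * Nat.card {w : W // ∀ b ∈ B, ρ b w = w} ≤ Nat.card ↥A * Nat.card {w : W // ∀ a ∈ A, ρ a w = w} := by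
  let fixV : Subgroup G → AddSubgroup V := fun D =>
    { carrier := {v | ∀ d ∈ D, ρ d v = v}
      zero_mem' := fun d _ => map_zero _
      add_mem' := fun {a b} ha hb d hd => by rw [map_add, ha d hd, hb d hd]
      neg_mem' := fun {a} ha d hd => by rw [map_neg, ha d hd] }
  have hWD : ∀ D : Subgroup G, Nat.card {w : W // ∀ b ∈ D, ρ b (w : V) = w} = Nat.card ↥(W.toAddSubgroup ⊓ fixV D) := by
    intro D
    exact Nat.card_congr
      { toFun := fun w => ⟨(w.1 : V), w.1.2, w.2⟩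
        invFun := fun v => ⟨⟨v.1, v.2.1⟩, v.2.2⟩
        left_inv := fun _ => rfl
        right_inv := fun _ => rfl }
  rw [hWD, hWD]
  have hAB : fixV A ≤ fixV B := fun v hv d hd => hv d (hBA hd)
  have key := card_mul_le (W.toAddSubgroup ⊓ fixV B) (fixV A) (fixV B) inf_le_right hAB
  rw [inf_assoc, inf_of_le_right hAB] at key
  have h : Nat.card ↥B * Nat.card ↥(fixV B) ≤ Nat.card ↥A * Nat.card ↥(fixV A) := hP B hBA
  have hpos : 0 < Nat.card ↥(fixV A) := Nat.card_pos
  refine Nat.le_of_mul_le_mul_right ?_ hpos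
  calc Nat.card ↥B * Nat.card ↥(W.toAddSubgroup ⊓ fixV B) * Nat.card ↥(fixV A)
      = Nat.card ↥B * (Nat.card ↥(W.toAddSubgroup ⊓ fixV B) * Nat.card ↥(fixV A)) := mul_assoc _ _ _
    _ ≤ Nat.card ↥B * (Nat.card ↥(fixV B) * Nat.card ↥(W.toAddSubgroup ⊓ fixV A)) := Nat.mul_le_mul_left _ key
    _ = Nat.card ↥B * Nat.card ↥(fixV B) * Nat.card ↥(W.toAddSubgroup ⊓ fixV A) := (mul_assoc _ _ _).symm
    _ ≤ Nat.card ↥A * Nat.card ↥(fixV A) * Nat.card ↥(W.toAddSubgroup ⊓ fixV A) := Nat.mul_le_mul_right _ h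
    _ = _ := by ring

end Cfsg.Agent.S3087
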