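import Cfsg.Statements.S3103
import Cfsg.Agent.PGroups.Basic
import Cfsg.Agent.Cores.Constrained
import Cfsg.Agent.Coprime.Centralize
import Cfsg.Agent.H27.EightPoints

set_option autoImplicit false
open Cfsg

namespace Cfsg.Agent.S3103

open scoped commutatorElement

theorem zmod_unit : ∀ a c : ZMod 2, a * c = 1 → a = 1 := by decide

theorem zmod_pow : ∀ a : ZMod 2, a ^ 4 = 1 → a = 1 := by decide

/-- The automorphisms of an elementary abelian group of order at most 16 embed into `SL₄(2)`. -/
theorem aut_embeds {E : Type*} [CommGroup E] [Finite E] (h2 : ∀ x : E, x ^ 2 = 1)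
    (h16 : Nat.card E ≤ 2 ^ 4) :
    ∃ f : MulAut E →* Matrix.SpecialLinearGroup (Fin 4) (ZMod 2), Function.Injective f := by
  letI : Module (ZMod 2) (Additive E) := AddCommGroup.zmodModule fun x => h2 (Additive.toMul x)
  haveI : Finite (Additive E) := ‹Finite E›
  haveI : Fact (Nat.Prime 2) := ⟨Nat.prime_two⟩
  have hk : Module.finrank (ZMod 2) (Additive E) ≤ 4 := by
    refine (Nat.pow_le_pow_iff_right (a := 2) one_lt_two).mp (le_trans (le_of_eq ?_) h16)
    rw [show Nat.card E = Nat.card (Additive E) from rfl,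
      Module.natCard_eq_pow_finrank (K := ZMod 2), Nat.card_zmod]
  let W := Fin (4 - Module.finrank (ZMod 2) (Additive E)) → ZMod 2
  have hd : Module.finrank (ZMod 2) (Additive E × W) = 4 := by
    rw [Module.finrank_prod, Module.finrank_fin_fun]
    omega
  let b := Module.finBasisOfFinrankEq (ZMod 2) (Additive E × W) hd
  let ψ : MulAut E → (Additive E →ₗ[ZMod 2] Additive E) := fun g =>
    (MonoidHom.toAdditive g.toMonoidHom).toZModLinearMap 2
  have hψ : ∀ g x, ψ g (Additive.ofMul x) = Additive.ofMul (g x) := fun g x => rfl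
  let M : MulAut E → Matrix (Fin 4) (Fin 4) (ZMod 2) := fun g =>
    LinearMap.toMatrix b b ((ψ g).prodMap LinearMap.id)
  have hM : ∀ g h, M (g * h) = M g * M h := by
    intro g h
    show LinearMap.toMatrix b b _ = LinearMap.toMatrix b b _ * LinearMap.toMatrix b b _
    rw [← LinearMap.toMatrix_comp]
    congr 1
  have hM1 : M 1 = 1 := by
    show LinearMap.toMatrix b b _ = 1
    rw [show (ψ 1).prodMap LinearMap.id = LinearMap.id from LinearMap.ext fun x => rfl,
      LinearMap.toMatrix_id]
  have hdet : ∀ g, (M g).det = 1 := by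
    intro g
    have h := congrArg Matrix.det (show M g * M g⁻¹ = 1 by rw [← hM, mul_inv_cancel, hM1])
    rw [Matrix.det_mul, Matrix.det_one] at h
    exact zmod_unit _ _ h
  refine ⟨⟨⟨fun g => ⟨M g, hdet g⟩, Subtype.ext hM1⟩, fun g h => Subtype.ext (hM g h)⟩,
    fun g h e => ?_⟩
  have e' : (ψ g).prodMap LinearMap.id = (ψ h).prodMap (LinearMap.id : W →ₗ[ZMod 2] W) :=
    (LinearMap.toMatrix b b).injective (congrArg Subtype.val e)
  refine MulEquiv.ext fun x => ?_
  exact congrArg (fun z : Additive E × W => Additive.toMul z.1)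
    (LinearMap.congr_fun e' (Additive.ofMul x, 0))

/-- Let X be a finite 2-constrained group with no nontrivial normal subgroup of odd order such that O₂(X) has sectional 2-rank at most 4. Then X/O₂(X) is isomorphic to a subgroup of the alternating group of degree 8. -/
theorem result {X : Type*} [Group X] [Finite X] (hc : Cfsg.IsPConstrained 2 X) (hO : Cfsg.oddCore X = ⊥)
    (h4 : Cfsg.SectionalPRankLE 2 4 ↥(Cfsg.pCore 2 X)) :
    ∃ f : X ⧸ Cfsg.pCore 2 X →* ↥(alternatingGroup (Fin 8)), Function.Injective f := by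
  haveI : Fact (Nat.Prime 2) := ⟨Nat.prime_two⟩
  set Q := Cfsg.pCore 2 X with hQdef
  have hQp : IsPGroup 2 Q := Cfsg.Agent.Cores.pCore_isPGroup
  have hCQ : Subgroup.centralizer (Q : Set X) ≤ Q :=
    (Cfsg.Agent.Cores.isPConstrained_iff_of_pPrimeCore_eq_bot hO).mp hc
  have hcomm : commutator Q ≤ frattini Q := Cfsg.Agent.PGroups.commutator_le_frattini hQp
  letI : CommGroup (Q ⧸ frattini Q) :=
    { (inferInstance : Group (Q ⧸ frattini Q)) with
      mul_comm := fun a c => by
        induction a using QuotientGroup.induction_on with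
        | H a =>
          induction c using QuotientGroup.induction_on with
          | H c =>
            show ((a * c : Q) : Q ⧸ frattini Q) = ((c * a : Q) : Q ⧸ frattini Q)
            rw [QuotientGroup.eq]
            refine hcomm ?_
            have : (a * c)⁻¹ * (c * a) = ⁅c⁻¹, a⁻¹⁆ := by rw [commutatorElement_def]; group
            rw [this]
            exact Subgroup.commutator_mem_commutator (Subgroup.mem_top _) (Subgroup.mem_top _) }
  have h2 : ∀ x : Q ⧸ frattini Q, x ^ 2 = 1 := fun x => by
    induction x using QuotientGroup.induction_on with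
    | H a => exact (QuotientGroup.eq_one_iff _).mpr (Cfsg.Agent.PGroups.pow_mem_frattini hQp a)
  have h16 : Nat.card (Q ⧸ frattini Q) ≤ 2 ^ 4 := by
    have h := h4 ⊤ ((frattini Q).subgroupOf ⊤)
    let π : (⊤ : Subgroup Q) →* Q ⧸ frattini Q := (QuotientGroup.mk' _).comp (Subgroup.subtype ⊤)
    have hπ : Function.Surjective π := fun y => by
      induction y using QuotientGroup.induction_on with
      | H a => exact ⟨⟨a, trivial⟩, rfl⟩
    have hker : π.ker = (frattini Q).subgroupOf ⊤ := by
      ext a
      rw [MonoidHom.mem_ker, Subgroup.mem_subgroupOf]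
      exact QuotientGroup.eq_one_iff _
    let e : ((⊤ : Subgroup Q) ⧸ (frattini Q).subgroupOf ⊤) ≃* Q ⧸ frattini Q :=
      (QuotientGroup.quotientMulEquivOfEq hker.symm).trans
        (QuotientGroup.quotientKerEquivOfSurjective π hπ)
    have h' := h ⊤ (.of_setLike_mul_comm fun a _ c _ => e.injective (by rw [map_mul, map_mul, mul_comm]))
      (fun a _ => e.injective (by rw [map_pow, map_one, h2]))
    rwa [Subgroup.card_top, Nat.card_congr e.toEquiv] at h'
  obtain ⟨f₀, hf₀⟩ := aut_embeds h2 h16
  have hchar : ∀ a : MulAut Q, (frattini Q).map a.toMonoidHom = frattini Q := fun a =>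
    Subgroup.characteristic_iff_map_eq.mp inferInstance a
  let bar : MulAut Q →* MulAut (Q ⧸ frattini Q) :=
    { toFun := fun a => QuotientGroup.congr _ _ a (hchar a)
      map_one' := MulEquiv.ext fun x => by
        induction x using QuotientGroup.induction_on with
        | H a => rfl
      map_mul' := fun a c => MulEquiv.ext fun x => by
        induction x using QuotientGroup.induction_on with
        | H a => rfl }
  obtain ⟨e⟩ := Cfsg.Agent.H27.EightPoints.psl_four_two
  let q : Matrix.SpecialLinearGroup (Fin 4) (ZMod 2) →*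
      Matrix.ProjectiveSpecialLinearGroup (Fin 4) (ZMod 2) := QuotientGroup.mk' _
  have hq : Function.Injective q := by
    rw [← MonoidHom.ker_eq_bot_iff, eq_bot_iff]
    intro A hA
    rw [QuotientGroup.ker_mk', Matrix.SpecialLinearGroup.mem_center_iff] at hA
    obtain ⟨r, hr, hA⟩ := hA
    have hr1 : r = 1 := by
      rw [Fintype.card_fin] at hr
      exact zmod_pow r hr
    rw [Subgroup.mem_bot]
    apply Subtype.ext
    rw [← hA, hr1, map_one]
    rfl
  let ρ : X →* MulAut (Q ⧸ frattini Q) := bar.comp MulAut.conjNormal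
  have hρ : ∀ x, ρ x = 1 → ∀ a : Q, x * (a : X) * x⁻¹ * (a : X)⁻¹ ∈ (frattini Q).map Q.subtype := by
    intro x hx a
    have h := congrArg (fun g : MulAut (Q ⧸ frattini Q) => g (a : Q ⧸ frattini Q)) hx
    have h' : ((MulAut.conjNormal x a : Q) : Q ⧸ frattini Q) = (a : Q ⧸ frattini Q) := h
    rw [← div_eq_one, ← QuotientGroup.mk_div, QuotientGroup.eq_one_iff] at h'
    refine ⟨_, h', ?_⟩
    simp [div_eq_mul_inv, mul_assoc]
  have hker : ρ.ker = Q := by
    apply le_antisymm
    · refine Cfsg.Agent.Cores.le_pCore ?_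
      intro ⟨x, hx⟩
      set m := orderOf x with hm
      have hm0 : m ≠ 0 := (orderOf_pos x).ne'
      refine ⟨m.factorization 2, Subtype.ext ?_⟩
      show x ^ 2 ^ m.factorization 2 = 1
      set y := x ^ 2 ^ m.factorization 2 with hy
      have hyk : y ∈ ρ.ker := pow_mem hx _
      have hoy : (orderOf y).Coprime 2 := by
        rw [hy, orderOf_pow' _ (pow_ne_zero _ (by norm_num)), ← hm,
          Nat.gcd_eq_right (Nat.ordProj_dvd m 2)]
        exact (Nat.coprime_ordCompl Nat.prime_two hm0).symm
      have hA : Subgroup.zpowers y ≤ Subgroup.centralizer (Q : Set X) := by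
        obtain ⟨k, hk⟩ := IsPGroup.iff_card.mp (hQp.to_subgroup (frattini Q))
        apply Cfsg.Agent.Coprime.le_centralizer_of_frattini
        · simp [Subgroup.normalizer_eq_top]
        · rw [Nat.card_zpowers, hk]
          exact hoy.pow_right k
        · intro a ha u hu
          exact hρ a (Subgroup.zpowers_le.mpr hyk ha) ⟨u, hu⟩
      obtain ⟨j, hj⟩ := hQp ⟨y, hCQ (hA (Subgroup.mem_zpowers y))⟩
      have hj' : y ^ 2 ^ j = 1 := congrArg Subtype.val hj
      rw [← orderOf_eq_one_iff]
      exact Nat.Coprime.eq_one_of_dvd (hoy.pow_right j) (orderOf_dvd_of_pow_eq_one hj')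
    · intro x hx
      refine MulEquiv.ext fun z => ?_
      induction z using QuotientGroup.induction_on with
      | H a =>
        show ((MulAut.conjNormal x a : Q) : Q ⧸ frattini Q) = (a : Q ⧸ frattini Q)
        have hxa : MulAut.conjNormal x a = ⟨x, hx⟩ * a * ⟨x, hx⟩⁻¹ := Subtype.ext (by simp)
        rw [hxa, QuotientGroup.mk_mul, QuotientGroup.mk_mul, mul_comm (_ : Q ⧸ frattini Q) (a : Q ⧸ frattini Q),
          QuotientGroup.mk_inv, mul_inv_cancel_right]
  let g : X →* alternatingGroup (Fin 8) := ((e.toMonoidHom.comp q).comp f₀).comp ρ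
  have hg : g.ker = Q := by
    rw [← hker]
    ext x
    simp only [g, MonoidHom.mem_ker, MonoidHom.comp_apply]
    exact ((map_eq_one_iff _ e.injective).trans (map_eq_one_iff _ hq)).trans (map_eq_one_iff _ hf₀)
  exact ⟨QuotientGroup.lift Q g hg.ge, by
    rw [← MonoidHom.ker_eq_bot_iff, QuotientGroup.ker_lift, hg, QuotientGroup.map_mk'_self]⟩

end Cfsg.Agent.S3103
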