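import Cfsg.Statements.S3104
import Cfsg.Agent.H42.Radical.Action
import Cfsg.Agent.H42.Radical.Quotient
import Cfsg.Agent.Cores.PCore

set_option autoImplicit false
open Cfsg

namespace Cfsg.Agent.S3104

/-- Let X be a finite nonsolvable 2-constrained group with no nontrivial normal subgroup of odd order such that O₂(X) has sectional 2-rank at most 4, and write Q for X/O₂(X). Then Q is isomorphic to the projective special linear group of dimension 3 over the field with 2 elements, to an alternating group of degree n with 5 ≤ n ≤ 8, to a symmetric group of degree n with 5 ≤ n ≤ 7, or else O₃(Q) has order 3 and Q/O₃(Q) is isomorphic to the alternating or the symmetric group of degree 5 (so Q is the direct product of a group of order 3 with the alternating group of degree 5, or an extension of that direct product by a group of order 2). If moreover X itself has sectional 2-rank at most 4, then Q is not isomorphic to the symmetric group of degree 6 or 7 nor to the alternating group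 of degree 8. -/
theorem result {X : Type*} [Group X] [Finite X] (hns : ¬ Group.IsSolvable X) (hc : Cfsg.IsPConstrained 2 X) (hO : Cfsg.oddCore X = ⊥)
    (h4 : Cfsg.SectionalPRankLE 2 4 ↥(Cfsg.pCore 2 X)) :
    ((∃ (F : Type) (_ : Field F) (_ : Fintype F), Fintype.card F = 2 ∧
          Nonempty (X ⧸ Cfsg.pCore 2 X ≃* Matrix.ProjectiveSpecialLinearGroup (Fin 3) F)) ∨
        (∃ n : ℕ, 5 ≤ n ∧ n ≤ 8 ∧ Nonempty (X ⧸ Cfsg.pCore 2 X ≃* ↥(alternatingGroup (Fin n)))) ∨
        (∃ n : ℕ, 5 ≤ n ∧ n ≤ 7 ∧ Nonempty (X ⧸ Cfsg.pCore 2 X ≃* Equiv.Perm (Fin n))) ∨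
        (Nat.card ↥(Cfsg.pCore 3 (X ⧸ Cfsg.pCore 2 X)) = 3 ∧
          (Nonempty ((X ⧸ Cfsg.pCore 2 X) ⧸ Cfsg.pCore 3 (X ⧸ Cfsg.pCore 2 X) ≃* ↥(alternatingGroup (Fin 5))) ∨
            Nonempty ((X ⧸ Cfsg.pCore 2 X) ⧸ Cfsg.pCore 3 (X ⧸ Cfsg.pCore 2 X) ≃* Equiv.Perm (Fin 5))))) ∧
      (Cfsg.SectionalPRankLE 2 4 X →
        ¬ (Nonempty (X ⧸ Cfsg.pCore 2 X ≃* Equiv.Perm (Fin 6)) ∨ Nonempty (X ⧸ Cfsg.pCore 2 X ≃* Equiv.Perm (Fin 7)) ∨
            Nonempty (X ⧸ Cfsg.pCore 2 X ≃* ↥(alternatingGroup (Fin 8))))) := by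
  classical
  haveI : Fact (Nat.Prime 2) := ⟨Nat.prime_two⟩
  obtain ⟨f0, hf0⟩ := Cfsg.Agent.S3103.result hc hO h4
  let f : X ⧸ Cfsg.pCore 2 X →* Equiv.Perm (Fin 8) := (alternatingGroup (Fin 8)).subtype.comp f0
  have hf : Function.Injective f := Subtype.val_injective.comp hf0
  have hsign : ∀ g, Equiv.Perm.sign (f g) = 1 := fun g => Equiv.Perm.mem_alternatingGroup.mp (f0 g).2
  have hQns : ¬ Group.IsSolvable (X ⧸ Cfsg.pCore 2 X) := fun h => by
    haveI := h
    haveI : Group.IsNilpotent (Cfsg.pCore 2 X) :=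
      (Cfsg.Agent.Cores.pCore_isPGroup (p := 2) (G := X)).isNilpotent
    exact hns (Group.isSolvable_of_ker_le_range (Cfsg.pCore 2 X).subtype (QuotientGroup.mk' (Cfsg.pCore 2 X))
      (by rw [QuotientGroup.ker_mk', Subgroup.range_subtype]))
  haveI : Nontrivial (X ⧸ Cfsg.pCore 2 X) := by
    by_contra h
    rw [not_nontrivial_iff_subsingleton] at h
    exact hQns inferInstance
  refine ⟨?_, fun hX hbad => ?_⟩
  · by_cases hcf : Cfsg.Agent.H56.SubAltEight.CoreFree (X ⧸ Cfsg.pCore 2 X)
    · let j : X ⧸ Cfsg.pCore 2 X →* GL (Fin 4) (ZMod 2) :=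
        Matrix.SpecialLinearGroup.toGL.comp (((MonoidHom.ofInjective Cfsg.Agent.H42.Radical.phi_inj).trans
          (MulEquiv.subgroupCongr Cfsg.Agent.H42.Radical.phi_range)).symm.toMonoidHom.comp f0)
      have hj : Function.Injective j :=
        Matrix.SpecialLinearGroup.toGL_injective.comp ((((MonoidHom.ofInjective Cfsg.Agent.H42.Radical.phi_inj).trans
          (MulEquiv.subgroupCongr Cfsg.Agent.H42.Radical.phi_range)).symm.injective).comp hf0)
      rcases Cfsg.Agent.H56.SubAltEight.classify f hf hsign j hj hcf with h | h | h | ⟨⟨e⟩⟩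
      · exact Or.inr (Or.inl h)
      · exact Or.inr (Or.inr (Or.inl ⟨5, le_rfl, by norm_num, h⟩))
      · exact Or.inr (Or.inr (Or.inl ⟨6, by norm_num, by norm_num, h⟩))
      · haveI : Fact (Nat.Prime 2) := ⟨Nat.prime_two⟩
        refine Or.inl ⟨ZMod 2, inferInstance, inferInstance, ZMod.card 2, ?_⟩
        have hz : Subgroup.center (Matrix.SpecialLinearGroup (Fin 3) (ZMod 2)) = ⊥ := by
          rw [← Subgroup.card_eq_one, Cfsg.Agent.Linear.card_center_SL, ZMod.card]; rfl
        exact ⟨e.trans ((MulEquiv.ofBijective (Cfsg.Agent.H42.Radical.toSL (n := Fin 3))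
            ⟨Cfsg.Agent.H42.Radical.toSL_inj, Cfsg.Agent.H42.Radical.toSL_surj⟩).trans
          (MulEquiv.ofBijective (QuotientGroup.mk' (Subgroup.center (Matrix.SpecialLinearGroup (Fin 3) (ZMod 2))))
            ⟨by rw [← MonoidHom.ker_eq_bot_iff, QuotientGroup.ker_mk', hz], QuotientGroup.mk'_surjective _⟩))⟩
    · exact Or.inr (Or.inr (Or.inr (Cfsg.Agent.H42.Radical.radical_case hQns f hf hsign
        Cfsg.Agent.Cores.pCore_quotient_pCore hcf)))
  · rcases hbad with h | ⟨⟨e⟩⟩ | h
    · exact Cfsg.Agent.H42.Radical.not_six_eight hc hO h4 hX (Or.inl h)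
    · haveI := alternatingGroup.isSimpleGroup (α := Fin 8) (by rw [Nat.card_eq_fintype_card, Fintype.card_fin]; norm_num)
      have hA : Nat.card (alternatingGroup (Fin 8)) = 20160 := by
        rw [nat_card_alternatingGroup, Nat.card_eq_fintype_card, Fintype.card_fin]; rfl
      have hc7 : Nat.card f0.range = 5040 := by
        rw [← Nat.card_congr (MonoidHom.ofInjective hf0).toEquiv, Nat.card_congr e.toEquiv, Nat.card_perm,
          Nat.card_eq_fintype_card, Fintype.card_fin]; rfl
      have hne : f0.range ≠ ⊤ := fun h => by rw [h, Subgroup.card_top, hA] at hc7; norm_num at hc7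
      have hi := Subgroup.card_mul_index f0.range
      rw [hc7, hA] at hi
      have h4' : f0.range.index = 4 := by omega
      have hdv := Cfsg.Agent.H56.SubAltEight.index_factorial f0.range hne
      rw [h4', hA] at hdv
      exact absurd hdv (by decide)
    · exact Cfsg.Agent.H42.Radical.not_six_eight hc hO h4 hX (Or.inr h)

end Cfsg.Agent.S3104
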