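import Cfsg.Statements.S3105
import Cfsg.Agent.Cores.Constrained
import Cfsg.Agent.H42.Radical.Action
import Cfsg.Agent.H34.L32.Main

set_option autoImplicit false
open Cfsg

namespace Cfsg.Agent.S3105

open Cfsg.Agent.H34.L32

/-- Let X be a finite nonsolvable 2-constrained group with no nontrivial normal subgroup of odd order and of sectional 2-rank at most 4, and suppose X/O₂(X) is isomorphic to the projective special linear group of dimension 3 over the field with 2 elements. Then O₂(X) is elementary abelian of order 8 or 16, or is isomorphic to the direct product of a cyclic group of order 4 and an elementary abelian group of order 8. -/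
theorem result {X : Type*} [Group X] [Finite X] (hns : ¬ Group.IsSolvable X) (hc : Cfsg.IsPConstrained 2 X) (hO : Cfsg.oddCore X = ⊥)
    (h4 : Cfsg.SectionalPRankLE 2 4 X) {F : Type*} [Field F] [Fintype F] (hF : Fintype.card F = 2)
    (hQ : Nonempty (X ⧸ Cfsg.pCore 2 X ≃* Matrix.ProjectiveSpecialLinearGroup (Fin 3) F)) :
    (Cfsg.IsElementaryAbelian 2 (Cfsg.pCore 2 X) ∧ (Nat.card ↥(Cfsg.pCore 2 X) = 8 ∨ Nat.card ↥(Cfsg.pCore 2 X) = 16)) ∨
      Nonempty (↥(Cfsg.pCore 2 X) ≃* Multiplicative (ZMod 4) × (Fin 3 → Multiplicative (ZMod 2))) := by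
  obtain ⟨e⟩ := hQ
  obtain ⟨e'⟩ := Cfsg.Agent.H27.SevenPoints.psl_three_two_equiv (K := F) hF
  haveI : Fact (Nat.Prime 2) := ⟨Nat.prime_two⟩
  set Q := Cfsg.pCore 2 X
  let ρ : X →* G3 := (e.trans e').toMonoidHom.comp (QuotientGroup.mk' Q)
  have hρ : Function.Surjective ρ := (e.trans e').surjective.comp (QuotientGroup.mk'_surjective Q)
  have hker : ρ.ker = Q := by
    ext x
    rw [MonoidHom.mem_ker]
    show (e.trans e') (x : X ⧸ Q) = 1 ↔ _
    rw [map_eq_one_iff _ (e.trans e').injective, QuotientGroup.eq_one_iff]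
  have H : Hyp Q := Hyp.of_surj hρ hker simple_G3 Cfsg.Agent.Cores.pCore_isPGroup h4
  obtain ⟨k, -, π, σ, hadd, hsur, hσ, heq⟩ := Cfsg.Agent.H42.Radical.exists_action hc hO (rank_sub h4 Q)
  refine classify H ?_
  obtain ⟨g, hg, -⟩ := H.exists_seven
  by_contra hno
  refine hg ?_
  rw [show Q = σ.ker from hσ.symm, MonoidHom.mem_ker]
  have hπ1 : π 1 = 0 := by
    have := hadd 1 1
    rw [mul_one, left_eq_add] at this
    exact this
  have hinv : ∀ a, π a⁻¹ = π a := by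
    intro a
    have := hadd a a⁻¹
    rw [mul_inv_cancel, hπ1] at this
    exact funext fun i => (CharTwo.add_eq_zero.mp (congrFun this.symm i)).symm
  have hP : ∀ p ∈ Subgroup.closure {f | ∃ a ∈ Q, a * a = f}, ∀ hp : p ∈ Q, π ⟨p, hp⟩ = 0 := by
    intro p hp
    refine Subgroup.closure_induction (p := fun p _ => ∀ hp : p ∈ Q, π ⟨p, hp⟩ = 0) ?_ ?_ ?_ ?_ hp
    · rintro _ ⟨a, ha, rfl⟩ hp
      rw [show (⟨a * a, hp⟩ : Q) = ⟨a, ha⟩ * ⟨a, ha⟩ from rfl, hadd]
      exact funext fun i => CharTwo.add_self_eq_zero _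
    · intro hp; exact hπ1
    · intro a b ha hb h1 h2 hp
      have hQ' : ∀ c ∈ Subgroup.closure {f | ∃ a ∈ Q, a * a = f}, c ∈ Q := fun c hc =>
        (Subgroup.closure_le Q).mpr (by rintro f ⟨a, ha, rfl⟩; exact mul_mem ha ha) hc
      rw [show (⟨a * b, hp⟩ : Q) = ⟨a, hQ' a ha⟩ * ⟨b, hQ' b hb⟩ from rfl, hadd, h1, h2, add_zero]
    · intro a _ h1 hp
      rw [show (⟨a⁻¹, hp⟩ : Q) = (⟨a, by simpa using inv_mem hp⟩ : Q)⁻¹ from rfl, hinv, h1]
  refine Units.ext (Matrix.ext_of_mulVec_single fun i => ?_)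
  obtain ⟨a, ha⟩ : ∃ a, π a = Pi.single i 1 := hsur _
  rw [Units.val_one, Matrix.one_mulVec, ← ha, ← heq g a]
  have hm : g * (a : X) * g⁻¹ * (a : X)⁻¹ ∈ Subgroup.closure {f | ∃ a ∈ Q, a * a = f} :=
    by_contra fun hne => hno ⟨g, a, a.2, hne⟩
  have hmQ : g * (a : X) * g⁻¹ * (a : X)⁻¹ ∈ Q := mul_mem (H.norm.conj_mem _ a.2 g) (inv_mem a.2)
  have h := hadd ⟨_, hmQ⟩ a
  rw [hP _ hm hmQ, zero_add, show (⟨_, hmQ⟩ : Q) * a = MulAut.conjNormal g a from Subtype.ext (by simp)] at h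
  exact h

end Cfsg.Agent.S3105
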