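import Cfsg.Statements.S3106
import Cfsg.Agent.Cores.Constrained
import Cfsg.Agent.Signalizer.AltFiveRadical.Chain
import Cfsg.Agent.Signalizer.AltFiveRadical.Shape

set_option autoImplicit false
open Cfsg

namespace Cfsg.Agent.S3106

open Subgroup Cfsg.Agent.Signalizer.AltFive
open scoped commutatorElement

/-- Elements of orders five, two, three in the alternating group of degree five. -/
theorem alt_elems : ∃ c t d : alternatingGroup (Fin 5),
    c ^ 5 = 1 ∧ c ≠ 1 ∧ t * t = 1 ∧ t ≠ 1 ∧ t * c * t⁻¹ * c = 1 ∧ d ^ 3 = 1 ∧ d ≠ 1 :=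
  ⟨⟨Equiv.swap 0 1 * Equiv.swap 1 2 * Equiv.swap 2 3 * Equiv.swap 3 4,
      Equiv.Perm.mem_alternatingGroup.mpr (by decide)⟩,
    ⟨Equiv.swap 1 4 * Equiv.swap 2 3, Equiv.Perm.mem_alternatingGroup.mpr (by decide)⟩,
    ⟨Equiv.swap 0 1 * Equiv.swap 1 2, Equiv.Perm.mem_alternatingGroup.mpr (by decide)⟩,
    Subtype.ext (Equiv.ext (by decide)),
    fun h => absurd (congrArg (fun g : alternatingGroup (Fin 5) => (g : Equiv.Perm (Fin 5)) 0) h) (by decide),
    Subtype.ext (Equiv.ext (by decide)),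
    fun h => absurd (congrArg (fun g : alternatingGroup (Fin 5) => (g : Equiv.Perm (Fin 5)) 1) h) (by decide),
    Subtype.ext (Equiv.ext (by decide)), Subtype.ext (Equiv.ext (by decide)),
    fun h => absurd (congrArg (fun g : alternatingGroup (Fin 5) => (g : Equiv.Perm (Fin 5)) 0) h) (by decide)⟩

/-- Let X be a finite nonsolvable 2-constrained group with no nontrivial normal subgroup of odd order and of sectional 2-rank at most 4, and suppose X/O₂(X) contains a subgroup isomorphic to the alternating group of degree 5. Then O₂(X) is elementary abelian of order 16, or O₂(X) is a central product of a quaternion group of order 8 and a dihedral group of order 8 (it has order 32 and is generated by two elementwise-commuting subgroups, one quaternion of order 8 and one dihedral of order 8, meeting in the centre). -/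
theorem result {X : Type*} [Group X] [Finite X] (hns : ¬ Group.IsSolvable X) (hc : Cfsg.IsPConstrained 2 X) (hO : Cfsg.oddCore X = ⊥)
    (h4 : Cfsg.SectionalPRankLE 2 4 X)
    (hQ : ∃ A : Subgroup (X ⧸ Cfsg.pCore 2 X), Nonempty (↥A ≃* ↥(alternatingGroup (Fin 5)))) :
    (Cfsg.IsElementaryAbelian 2 (Cfsg.pCore 2 X) ∧ Nat.card ↥(Cfsg.pCore 2 X) = 16) ∨
      (Nat.card ↥(Cfsg.pCore 2 X) = 32 ∧ ∃ A B : Subgroup ↥(Cfsg.pCore 2 X),
        Nonempty (↥A ≃* QuaternionGroup 2) ∧ Nonempty (↥B ≃* DihedralGroup 4) ∧ (∀ a ∈ A, ∀ b ∈ B, a * b = b * a) ∧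
          A ⊔ B = ⊤ ∧ A ⊓ B = Subgroup.center ↥(Cfsg.pCore 2 X)) := by
  classical
  have : Fact (Nat.Prime 2) := ⟨Nat.prime_two⟩
  set P := Cfsg.pCore 2 X with hPdef
  have hPn : P.Normal := Cfsg.pCore_normal 2 X
  have hPp : IsPGroup 2 P := Cfsg.Agent.Cores.pCore_isPGroup
  have hCP : centralizer (P : Set X) ≤ P :=
    (Cfsg.Agent.Cores.isPConstrained_iff_of_pPrimeCore_eq_bot hO).mp hc
  obtain ⟨A, ⟨e⟩⟩ := hQ
  obtain ⟨c0, t0, d0, hc05, hc01, ht02, ht01, hinv0, hd03, hd01⟩ := alt_elems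
  let i : alternatingGroup (Fin 5) →* X ⧸ P := A.subtype.comp e.symm.toMonoidHom
  have hi : Function.Injective i := A.subtype_injective.comp e.symm.injective
  obtain ⟨c, hcI⟩ := QuotientGroup.mk_surjective (i c0)
  obtain ⟨s, hsI⟩ := QuotientGroup.mk_surjective (i t0)
  obtain ⟨d, hdI⟩ := QuotientGroup.mk_surjective (i d0)
  have hc5 : c ^ 5 ∈ P := by
    rw [← QuotientGroup.eq_one_iff, QuotientGroup.mk_pow, hcI, ← map_pow, hc05, map_one]
  have hd3 : d ^ 3 ∈ P := by
    rw [← QuotientGroup.eq_one_iff, QuotientGroup.mk_pow, hdI, ← map_pow, hd03, map_one]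
  have hcP : c ∉ P := by
    rw [← QuotientGroup.eq_one_iff, hcI, map_eq_one_iff i hi]; exact hc01
  have hdP : d ∉ P := by
    rw [← QuotientGroup.eq_one_iff, hdI, map_eq_one_iff i hi]; exact hd01
  have hsP : s ∉ P := by
    rw [← QuotientGroup.eq_one_iff, hsI, map_eq_one_iff i hi]; exact ht01
  have hs2 : s * s ∈ P := by
    rw [← QuotientGroup.eq_one_iff, QuotientGroup.mk_mul, hsI, ← map_mul, ht02, map_one]
  have hinv : s * c * s⁻¹ * c ∈ P := by
    rw [← QuotientGroup.eq_one_iff]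
    simp only [QuotientGroup.mk_mul, QuotientGroup.mk_inv, hsI, hcI, ← map_mul, ← map_inv, hinv0, map_one]
  have hsimp : ∀ K : Subgroup X, K.Normal → P ≤ K → c ∈ K → d ∈ K := by
    intro K hK hPK hcK
    have hKm := hK.map (QuotientGroup.mk' P) (QuotientGroup.mk'_surjective P)
    have hn := hKm.comap i
    have hmem : ∀ x : X, (x : X ⧸ P) ∈ K.map (QuotientGroup.mk' P) ↔ x ∈ K := fun x => by
      rw [show (x : X ⧸ P) = QuotientGroup.mk' P x from rfl, ← mem_comap,
        comap_map_eq_self ((QuotientGroup.ker_mk' P).le.trans hPK)]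
    have hcc : c0 ∈ (K.map (QuotientGroup.mk' P)).comap i := by
      rw [mem_comap, ← hcI, hmem]; exact hcK
    rcases (alternatingGroup.isSimpleGroup (α := Fin 5) (by simp)).eq_bot_or_eq_top_of_normal _ hn with h | h
    · rw [h, mem_bot] at hcc
      exact absurd hcc hc01
    · exact (hmem d).mp (hdI ▸ mem_comap.mp (h.ge (mem_top d0)))
  -- the Frattini subgroup
  set Φ := (frattini P).map P.subtype with hΦdef
  have hΦn : Φ.Normal := inferInstance
  have hΦP : Φ ≤ P := map_subtype_le _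
  have hsq : ∀ n ∈ P, n * n ∈ Φ := fun n hn =>
    ⟨_, PGroups.pow_mem_frattini hPp ⟨n, hn⟩, by simp [pow_two]⟩
  have hgen : closure {f | ∃ n ∈ P, n * n = f} = Φ := by
    refine le_antisymm ((closure_le _).mpr fun f ⟨n, hn, h⟩ => h ▸ hsq n hn) ?_
    rw [hΦdef, PGroups.frattini_eq hPp, map_le_iff_le_comap, sup_le_iff]
    refine ⟨?_, (closure_le _).mpr ?_⟩
    · refine commutator_le.mpr fun u _ v _ => ?_
      rw [mem_comap, map_commutatorElement]
      show ⁅(u : X), (v : X)⁆ ∈ _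
      rw [commutatorElement_def, show (u : X) * v * (u : X)⁻¹ * (v : X)⁻¹ =
        ((u * v : X) * (u * v)) * (((v : X)⁻¹ * (u : X)⁻¹ * v) * ((v : X)⁻¹ * (u : X)⁻¹ * v)) *
          ((v : X)⁻¹ * (v : X)⁻¹) by group]
      exact mul_mem (mul_mem (subset_closure ⟨_, mul_mem u.2 v.2, rfl⟩)
        (subset_closure ⟨_, mul_mem (mul_mem (inv_mem v.2) (inv_mem u.2)) v.2, rfl⟩))
        (subset_closure ⟨_, inv_mem v.2, rfl⟩)
    · rintro _ ⟨u, rfl⟩
      exact subset_closure ⟨u, u.2, by simp [pow_two]⟩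
  let π := QuotientGroup.mk' Φ
  -- elements of odd order act faithfully on `P/Φ`
  have hmove : ∀ g : X, ∀ p : ℕ, p.Prime → p ≠ 2 → g ^ p ∈ P → g ∉ P →
      ∃ n ∈ P, g * n * g⁻¹ * n⁻¹ ∉ Φ := by
    intro g p hp hp2 hgp hg
    by_contra hne
    simp only [not_exists, not_and, not_not] at hne
    obtain ⟨k, hk⟩ := hPp ⟨g ^ p, hgp⟩
    have hk' : (g ^ p) ^ 2 ^ k = 1 := congrArg Subtype.val hk
    set y := g ^ 2 ^ k with hy
    have hyp : y ^ p = 1 := by rw [hy, ← pow_mul, mul_comm, pow_mul, hk']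
    have hgc : ∀ n ∈ P, π g * π n = π n * π g := fun n hn => by
      rw [← mul_inv_eq_one, mul_inv_rev, ← map_inv, ← map_inv, ← map_mul, ← map_mul, ← map_mul]
      refine (QuotientGroup.eq_one_iff _).mpr ?_
      rw [show g * n * (g⁻¹ * n⁻¹) = g * n * g⁻¹ * n⁻¹ by group]
      exact hne n hn
    have hA : zpowers y ≤ centralizer (P : Set X) := by
      obtain ⟨m, hm⟩ := IsPGroup.iff_card.mp (hPp.to_subgroup (frattini P))
      refine Cfsg.Agent.Coprime.le_centralizer_of_frattini (by simp [normalizer_eq_top]) ?_ ?_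
      · rw [Nat.card_zpowers, hm]
        exact Nat.Coprime.coprime_dvd_left (orderOf_dvd_of_pow_eq_one hyp)
          (((Nat.coprime_primes hp Nat.prime_two).mpr hp2).pow_right m)
      · intro a ha u hu
        obtain ⟨j, rfl⟩ := mem_zpowers_iff.mp ha
        refine (QuotientGroup.eq_one_iff _).mp ?_
        show π (y ^ j * u * (y ^ j)⁻¹ * u⁻¹) = 1
        simp only [map_mul, map_inv, map_zpow, hy, map_pow]
        have : Commute ((π g ^ 2 ^ k) ^ j) (π u) := (Commute.pow_left (show Commute (π g) (π u) from hgc u hu) _).zpow_left j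
        rw [this.eq]; group
    have hyP : y ∈ P := hCP (hA (mem_zpowers y))
    refine hg ?_
    have h1 : (g : X ⧸ P) ^ p = 1 := by rw [← QuotientGroup.mk_pow]; exact (QuotientGroup.eq_one_iff _).mpr hgp
    have h2 : (g : X ⧸ P) ^ 2 ^ k = 1 := by rw [← QuotientGroup.mk_pow]; exact (QuotientGroup.eq_one_iff _).mpr hyP
    have hco : Nat.gcd p (2 ^ k) = 1 := ((Nat.coprime_primes hp Nat.prime_two).mpr hp2).pow_right k
    have := pow_gcd_eq_one.mpr ⟨h1, h2⟩
    rw [hco, pow_one] at this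
    exact (QuotientGroup.eq_one_iff _).mp this
  -- the Frattini factor
  set M := P.map π with hMdef
  have hMn : M.Normal := hPn.map π (QuotientGroup.mk'_surjective Φ)
  have hMe : ∀ m ∈ M, m * m = 1 := by
    rintro _ ⟨n, hn, rfl⟩
    rw [← map_mul]; exact (QuotientGroup.eq_one_iff _).mpr (hsq n hn)
  have hMc : ∀ a ∈ M, ∀ b ∈ M, a * b = b * a := by
    intro a ha b hb
    calc a * b = (a * b)⁻¹ := eq_inv_of_mul_eq_one_left (hMe _ (mul_mem ha hb))
      _ = b⁻¹ * a⁻¹ := mul_inv_rev a b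
      _ = b * a := by rw [inv_eq_of_mul_eq_one_right (hMe a ha), inv_eq_of_mul_eq_one_right (hMe b hb)]
  obtain ⟨n₀, hn₀, hcn₀⟩ := hmove c 5 (by norm_num) (by norm_num) hc5 hcP
  obtain ⟨hV16, hfix⟩ := layer16 M hMe (π c)
    (fun m hm => by rw [← map_pow]; exact hMc _ (mem_map_of_mem π hc5) m hm)
    (elem_le_16 (rank_map h4 π (QuotientGroup.mk'_surjective Φ)) M (MonoidHom.id M) Function.surjective_id
      (fun a b => Subtype.ext (hMc a a.2 b b.2)) (fun a => Subtype.ext (hMe a a.2)))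
    ⟨π n₀, mem_map_of_mem π hn₀, fun h => hcn₀ ((QuotientGroup.eq_one_iff _).mp (by
      show π (c * n₀ * c⁻¹ * n₀⁻¹) = 1
      simp only [map_mul, map_inv, h]; group))⟩
  have hcard : Nat.card P = 16 * Nat.card Φ := by
    rw [card_eq_map_mul π P ((QuotientGroup.ker_mk' Φ).le.trans hΦP), hV16, QuotientGroup.ker_mk']
  have G : Good P Φ c s d :=
    { rank := h4, normN := hPn, normF := hΦn, le := hΦP, sq := hsq, gen := hgen, card := hcard
      five := hc5, three := hd3, notMem := hsP, two := hs2, inv := hinv, simp := hsimp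
      fixV := fun n hn h => (QuotientGroup.eq_one_iff _).mp (hfix (π n) (mem_map_of_mem π hn) (by
        have : π (c * n * c⁻¹ * n⁻¹) = 1 := (QuotientGroup.eq_one_iff _).mpr h
        simp only [map_mul, map_inv] at this
        calc π c * π n = (π c * π n * (π c)⁻¹ * (π n)⁻¹) * (π n * π c) := by group
          _ = π n * π c := by rw [this, one_mul]))
      moveV := hmove d 3 (by norm_num) (by norm_num) hd3 hdP }
  by_cases hΦb : Φ = ⊥
  · left
    have h1 : ∀ a ∈ P, a * a = 1 := fun a ha => mem_bot.mp (hΦb ▸ hsq a ha)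
    refine ⟨⟨⟨⟨fun a b => Subtype.ext ?_⟩⟩, fun a ha => by rw [pow_two]; exact h1 a ha⟩, ?_⟩
    · show (a : X) * b = b * a
      calc (a : X) * b = ((a : X) * b)⁻¹ := eq_inv_of_mul_eq_one_left (h1 _ (mul_mem a.2 b.2))
        _ = (b : X)⁻¹ * (a : X)⁻¹ := mul_inv_rev _ _
        _ = b * a := by rw [inv_eq_of_mul_eq_one_right (h1 a a.2), inv_eq_of_mul_eq_one_right (h1 b b.2)]
    · rw [hcard, hΦb, Subgroup.card_bot]
  right
  obtain ⟨L, hF2⟩ := G.main hPp hΦb
  obtain ⟨hcen, -, Z, hZ5, hZmem⟩ := L.facts.2 hF2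
  have h32 : Nat.card P = 32 := by rw [hcard, hF2]
  refine ⟨h32, ?_⟩
  have hΦ' : ∀ g : P, (g : X) ∈ Φ ↔ g ∈ frattini P := fun g => by
    refine ⟨fun ⟨u, hu, h⟩ => ?_, fun h => ⟨g, h, rfl⟩⟩
    rwa [show g = u from (P.subtype_injective h).symm]
  let ι : P ⧸ frattini P →* X ⧸ Φ :=
    QuotientGroup.map (frattini P) Φ P.subtype fun g hg => (hΦ' g).mpr hg
  have hι : Function.Injective ι := by
    rw [← MonoidHom.ker_eq_bot_iff, eq_bot_iff]
    intro v hv
    obtain ⟨g, rfl⟩ := QuotientGroup.mk_surjective v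
    have : ((g : X) : X ⧸ Φ) = 1 := hv
    exact mem_bot.mpr ((QuotientGroup.eq_one_iff _).mpr ((hΦ' g).mp ((QuotientGroup.eq_one_iff _).mp this)))
  refine central_product h32 (frattini P) ?_ (fun g => (hΦ' _).mp (hsq g g.2)) ?_ (ι ⁻¹' Z) ?_ ?_
  · rw [← hF2, hΦdef, Subgroup.card_map_of_injective P.subtype_injective]
  · refine le_antisymm (fun g hg => (hΦ' g).mp (hcen g g.2 fun y hy => ?_)) (fun g hg => ?_)
    · exact (congrArg Subtype.val (mem_center_iff.mp hg ⟨y, hy⟩)).symm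
    · exact mem_center_iff.mpr fun y => Subtype.ext (L.cen g ((hΦ' g).mpr hg) y y.2).symm
  · rw [Set.ncard_preimage_of_injective_subset_range hι, hZ5]
    intro v hv
    obtain ⟨x, hx, rfl, -⟩ := (hZmem v).mp hv
    exact ⟨((⟨x, hx⟩ : P) : P ⧸ frattini P), rfl⟩
  · intro g
    show ((g : X) : X ⧸ Φ) ∈ Z ↔ _
    rw [hZmem]
    constructor
    · rintro ⟨x, hx, hxg, hxΦ, hxx⟩
      have hf : x⁻¹ * g ∈ Φ := QuotientGroup.eq.mp hxg
      refine ⟨fun h => hxΦ ?_, Subtype.ext ?_⟩
      · simpa using mul_mem ((hΦ' g).mpr h) (inv_mem hf)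
      · show (g : X) * g = 1
        rw [show (g : X) = x * (x⁻¹ * g) by group]
        generalize x⁻¹ * (g : X) = f at hf
        calc x * f * (x * f) = x * (f * x) * f := by group
          _ = (x * x) * (f * f) := by rw [L.cen f hf x hx]; group
          _ = 1 := by rw [hxx, L.elem f hf, one_mul]
    · rintro ⟨h1, h2⟩
      exact ⟨g, g.2, rfl, fun h => h1 ((hΦ' g).mp h), congrArg Subtype.val h2⟩

end Cfsg.Agent.S3106
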