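import Cfsg.Statements.S3113
import Cfsg.Agent.H52.DihSq.Main

set_option autoImplicit false
open Cfsg

namespace Cfsg.Agent.S3113

open H52.DihSq Subgroup in
/-- Let G be a finite group with no nontrivial normal subgroup of odd order, no proper normal subgroup of odd index and no normal subgroup of index 2, whose Sylow 2-subgroup S is non-abelian and is the internal direct product of two dihedral subgroups (each of order at least 4). Then G is the internal direct product of two normal subgroups G₁ and G₂, and for a suitable such factorization of S into dihedral subgroups S₁ × S₂ the factor Sᵢ is a Sylow 2-subgroup of Gᵢ for i = 1, 2. -/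
theorem result {G : Type*} [Group G] [Finite G] (hO : Cfsg.oddCore G = ⊥) (hidx : ∀ N : Subgroup G, N.Normal → Odd N.index → N = ⊤)
    (h2 : ∀ N : Subgroup G, N.Normal → N.index ≠ 2)
    (S : Sylow 2 G) (hS : ¬ IsMulCommutative ↥(S : Subgroup G))
    (D₁ D₂ : Subgroup G) (hD : Cfsg.IsInternalDirectProduct D₁ D₂ (S : Subgroup G))
    (hD₁ : ∃ m : ℕ, 2 ≤ m ∧ Nonempty (↥D₁ ≃* DihedralGroup m)) (hD₂ : ∃ m : ℕ, 2 ≤ m ∧ Nonempty (↥D₂ ≃* DihedralGroup m)) :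
    ∃ G₁ G₂ : Subgroup G, G₁.Normal ∧ G₂.Normal ∧ Cfsg.IsInternalDirectProduct G₁ G₂ ⊤ ∧
      ∃ S₁ S₂ : Subgroup G, Cfsg.IsInternalDirectProduct S₁ S₂ (S : Subgroup G) ∧
        (∃ m : ℕ, 2 ≤ m ∧ Nonempty (↥S₁ ≃* DihedralGroup m)) ∧ (∃ m : ℕ, 2 ≤ m ∧ Nonempty (↥S₂ ≃* DihedralGroup m)) ∧
        S₁ ≤ G₁ ∧ S₂ ≤ G₂ ∧ ¬ (2 ∣ (S₁.subgroupOf G₁).index) ∧ ¬ (2 ∣ (S₂.subgroupOf G₂).index) := by
  classical
  obtain ⟨m₁, hm₁, ⟨e₁⟩⟩ := hD₁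
  obtain ⟨m₂, hm₂, ⟨e₂⟩⟩ := hD₂
  obtain ⟨ρ₁, k₁, h₁⟩ := Dih.of_dihedralGroup hm₁ e₁ (S.isPGroup'.to_le hD.1)
  obtain ⟨ρ₂, k₂, h₂⟩ := Dih.of_dihedralGroup hm₂ e₂ (S.isPGroup'.to_le hD.2.1)
  obtain ⟨T₁, T₂, hT, hc₁, hc₂, ⟨i₁⟩, ⟨i₂⟩⟩ :
      ∃ T₁ T₂ : Subgroup G, Cfsg.IsInternalDirectProduct T₁ T₂ (S : Subgroup G) ∧
        Cfsg.IsStronglyClosed T₁ (S : Subgroup G) ∧ Cfsg.IsStronglyClosed T₂ (S : Subgroup G) ∧
        Nonempty (D₁ ≃* T₁) ∧ Nonempty (D₂ ≃* T₂) := by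
    let d : DD (S : Subgroup G) := ⟨D₁, D₂, ρ₁, ρ₂, k₁, k₂, h₁, h₂, hD⟩
    rcases Nat.eq_zero_or_pos k₁ with hk | hk
    · rcases Nat.eq_zero_or_pos k₂ with hk' | hk'
      · exfalso
        refine hS ⟨⟨fun a b => Subtype.ext ?_⟩⟩
        subst hk hk'
        exact (d.commute_iff a.2 b.2).mpr
          ⟨h₁.comm_of_zero (d.pr1_mem a.2) (d.pr1_mem b.2),
            h₂.comm_of_zero (d.pr2_mem a.2) (d.pr2_mem b.2)⟩
      · obtain ⟨T₁, T₂, hT, hc₁, hc₂, i₁, i₂⟩ := exists_pair h2 d.symm hk'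
        exact ⟨T₂, T₁, ⟨hT.2.1, hT.1, fun a ha b hb => (hT.2.2.1 b hb a ha).symm,
          by rw [inf_comm]; exact hT.2.2.2.1, by rw [sup_comm]; exact hT.2.2.2.2⟩, hc₂, hc₁, i₂, i₁⟩
    · exact exists_pair h2 d hk
  have hp : H52.Commuting.Pair S T₁ T₂ := ⟨hc₁, hc₂, hT.2.2.1, hT.2.2.2.1⟩
  obtain ⟨hprod, ho₁, ho₂⟩ := H52.Commuting.exists_product hp hO hidx hT.2.2.2.2
  exact ⟨normalClosure T₁, normalClosure T₂, inferInstance, inferInstance, hprod, T₁, T₂, hT,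
    ⟨m₁, hm₁, ⟨i₁.symm.trans e₁⟩⟩, ⟨m₂, hm₂, ⟨i₂.symm.trans e₂⟩⟩,
    subset_normalClosure, subset_normalClosure,
    Nat.two_dvd_ne_zero.mpr (Nat.odd_iff.mp ho₁), Nat.two_dvd_ne_zero.mpr (Nat.odd_iff.mp ho₂)⟩

end Cfsg.Agent.S3113
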