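import Cfsg.Statements.S3117
import Cfsg.Agent.H63.PerfectAction
import Cfsg.Agent.PGroups.Basic

set_option autoImplicit false
open Cfsg

open scoped commutatorElement

universe u

namespace Cfsg.Agent.S3117

open Cfsg.Agent.H63.PerfectAction

/-- The quadratic step: a perfect group acting on an elementary abelian 2-group, preserving an
anisotropic pair of quadratic functions and without fixed vectors, forces the group to be trivial. -/
theorem no_action {P : Type*} [Group P] [Finite P] [Group.IsPerfect P] (n : ℕ)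
    (σ : P →* Equiv.Perm (Fin n → ZMod 2))
    (hadd : ∀ k u v, σ k (u + v) = σ k u + σ k v)
    (c d : Fin n → Fin n → ZMod 2)
    (hinv : ∀ k v, (∑ i, ∑ j, c i j * σ k v i * σ k v j) = ∑ i, ∑ j, c i j * v i * v j)
    (hinv' : ∀ k v, (∑ i, ∑ j, d i j * σ k v i * σ k v j) = ∑ i, ∑ j, d i j * v i * v j)
    (haniso : ∀ v : Fin n → ZMod 2, (∑ i, ∑ j, c i j * v i * v j) = 0 →
      (∑ i, ∑ j, d i j * v i * v j) = 0 → v = 0)
    (hfix : ∀ v, (∀ k, σ k v = v) → v = 0) : n = 0 := by
  classical
  set f : (Fin n → ZMod 2) → ZMod 2 × ZMod 2 :=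
    fun v => (∑ i, ∑ j, c i j * v i * v j, ∑ i, ∑ j, d i j * v i * v j) with hf
  have hf0 : f 0 = 0 := by simp [hf]
  have hfσ : ∀ k v, f (σ k v) = f v := fun k v => Prod.ext (hinv k v) (hinv' k v)
  have haniso' : ∀ v, f v = 0 → v = 0 := fun v h =>
    haniso v (congrArg Prod.fst h) (congrArg Prod.snd h)
  have hσ0 : ∀ k, σ k 0 = 0 := fun k => by simpa using hadd k 0 0
  -- a set of vectors preserved by the action with at most four members is fixed pointwise
  have small : ∀ s : Set (Fin n → ZMod 2), (∀ k, ∀ v ∈ s, σ k v ∈ s) → s.ncard ≤ 4 →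
      ∀ v ∈ s, v = 0 := by
    intro s hs hc v hv
    refine hfix v fun k => ?_
    let φ : P →* Equiv.Perm s :=
      { toFun := fun k => (σ k).subtypePerm fun w => ⟨fun h => by
          have := hs k⁻¹ _ h
          rwa [map_inv, Equiv.Perm.inv_def, Equiv.symm_apply_apply] at this, hs k w⟩
        map_one' := Equiv.ext fun w => Subtype.ext (by simp)
        map_mul' := fun a b => Equiv.ext fun w => Subtype.ext (by
          show σ (a * b) w.1 = σ a (σ b w.1)
          rw [map_mul]; rfl) }
    exact congrArg Subtype.val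
      (fix_of_card_le_four (by rwa [Nat.card_coe_set_eq]) φ k ⟨v, hv⟩)
  by_contra hn0
  have hn2 : 2 < n := by
    by_contra! h
    have hc : (Set.univ : Set (Fin n → ZMod 2)).ncard ≤ 4 := by
      rw [Set.ncard_univ, Nat.card_fun, Nat.card_zmod, Nat.card_fin]
      exact le_trans (Nat.pow_le_pow_right two_pos h) (by norm_num)
    have := small _ (fun _ _ _ => Set.mem_univ _) hc (Pi.single ⟨0, Nat.pos_of_ne_zero hn0⟩ 1)
      (Set.mem_univ _)
    simp at this
  have hbit : ∀ x : ZMod 2, x = 0 ∨ x = 1 := by decide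
  have hn4 : n ≤ 4 := by
    by_contra! h
    have h1 := sum_two_quadratic h c d
    rw [Finset.sum_eq_single (0 : Fin n → ZMod 2)] at h1
    · simp at h1
    · intro v _ hv
      rcases hbit (∑ i, ∑ j, c i j * v i * v j) with e | e
      · rcases hbit (∑ i, ∑ j, d i j * v i * v j) with e' | e'
        · exact absurd (haniso v e e') hv
        · rw [e', show (1 : ZMod 2) + 1 = 0 from rfl, mul_zero]
      · rw [e, show (1 : ZMod 2) + 1 = 0 from rfl, zero_mul]
    · simp
  let F : ZMod 2 × ZMod 2 → Finset (Fin n → ZMod 2) :=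
    fun x => Finset.univ.filter fun v => f v = x
  have hFinv : ∀ x k v, v ∈ F x → σ k v ∈ F x := fun x k v hv => by
    simp only [F, Finset.mem_filter] at hv ⊢
    exact ⟨Finset.mem_univ _, (hfσ k v).trans hv.2⟩
  have hF5 : ∀ x, x ≠ 0 → (F x).Nonempty → 5 ≤ (F x).card := by
    rintro x hx ⟨v, hv⟩
    by_contra! h
    have := small (F x : Set (Fin n → ZMod 2)) (fun k w hw => hFinv x k w hw)
      (by rw [Set.ncard_coe_finset]; omega) v hv
    subst this
    simp only [F, Finset.mem_filter] at hv
    exact hx (hv.2.symm.trans hf0)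
  have hne : ∀ x, x ≠ 0 → (F x).Nonempty := by
    intro x hx
    by_contra hemp
    have hno : ∀ v, f v ≠ x := fun v h => hemp ⟨v, by simp [F, h]⟩
    -- a single quadratic function is then anisotropic
    obtain ⟨e, he⟩ : ∃ e : Fin n → Fin n → ZMod 2, ∀ v : Fin n → ZMod 2,
        (∑ i, ∑ j, e i j * v i * v j) = 0 → f v = 0 ∨ f v = x := by
      have hcases : ∀ y : ZMod 2 × ZMod 2, y ≠ 0 → y = (1, 0) ∨ y = (0, 1) ∨ y = (1, 1) := by decide
      have k1 : ∀ y : ZMod 2 × ZMod 2, y.2 = 0 → y = 0 ∨ y = (1, 0) := by decide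
      have k2 : ∀ y : ZMod 2 × ZMod 2, y.1 = 0 → y = 0 ∨ y = (0, 1) := by decide
      have k3 : ∀ y : ZMod 2 × ZMod 2, y.1 + y.2 = 0 → y = 0 ∨ y = (1, 1) := by decide
      rcases hcases x hx with rfl | rfl | rfl
      · exact ⟨d, fun v h => k1 (f v) h⟩
      · exact ⟨c, fun v h => k2 (f v) h⟩
      · refine ⟨fun i j => c i j + d i j, fun v h => k3 (f v) ?_⟩
        simpa [hf, add_mul, Finset.sum_add_distrib] using h
    have h1 := sum_one_quadratic hn2 e
    rw [Finset.sum_eq_single (0 : Fin n → ZMod 2)] at h1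
    · simp at h1
    · intro v _ hv
      rcases hbit (∑ i, ∑ j, e i j * v i * v j) with z | z
      · exact absurd (haniso' v ((he v z).resolve_right (hno v))) hv
      · rw [z]; rfl
    · simp
  have hcard : (F (1, 0)).card + (F (0, 1)).card + (F (1, 1)).card + 1 = 2 ^ n := by
    have h := Finset.card_eq_sum_card_fiberwise (f := f) (s := Finset.univ) (t := Finset.univ)
      (fun v _ => Finset.mem_univ (f v))
    rw [Finset.card_univ, Fintype.card_fun, ZMod.card, Fintype.card_fin] at h
    have hu : (Finset.univ : Finset (ZMod 2 × ZMod 2)) = {0, (1, 0), (0, 1), (1, 1)} := by decide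
    rw [hu, Finset.sum_insert (by decide), Finset.sum_insert (by decide),
      Finset.sum_insert (by decide), Finset.sum_singleton] at h
    have h0 : (Finset.univ.filter fun v => f v = 0).card = 1 := by
      rw [Finset.card_eq_one]
      refine ⟨0, Finset.eq_singleton_iff_unique_mem.mpr ⟨by simp [hf0], fun v hv => ?_⟩⟩
      exact haniso' v (Finset.mem_filter.mp hv).2
    rw [h0] at h
    show (Finset.univ.filter fun v => f v = ((1 : ZMod 2), (0 : ZMod 2))).card +
      (Finset.univ.filter fun v => f v = ((0 : ZMod 2), (1 : ZMod 2))).card +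
      (Finset.univ.filter fun v => f v = ((1 : ZMod 2), (1 : ZMod 2))).card + 1 = 2 ^ n
    omega
  have h10 := hF5 (1, 0) (by decide) (hne _ (by decide))
  have h01 := hF5 (0, 1) (by decide) (hne _ (by decide))
  have h11 := hF5 (1, 1) (by decide) (hne _ (by decide))
  have hn : n = 4 := by
    interval_cases n <;> omega
  subst hn
  norm_num at hcard
  have hfive : ∀ x : ZMod 2 × ZMod 2, x ≠ 0 → (F x).card = 5 := by
    intro x hx
    have : x = (1, 0) ∨ x = (0, 1) ∨ x = (1, 1) := by revert x hx; decide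
    rcases this with rfl | rfl | rfl <;> omega
  let ψ : (x : ZMod 2 × ZMod 2) → P →* Equiv.Perm (F x) := fun x =>
    { toFun := fun k => (σ k).subtypePerm fun w => ⟨fun h => by
        have := hFinv x k⁻¹ _ h
        rwa [map_inv, Equiv.Perm.inv_def, Equiv.symm_apply_apply] at this, hFinv x k w⟩
      map_one' := Equiv.ext fun w => Subtype.ext (by simp)
      map_mul' := fun a b => Equiv.ext fun w => Subtype.ext (by
        show σ (a * b) w.1 = σ a (σ b w.1)
        rw [map_mul]; rfl) }
  have hker : ∀ x, x ≠ 0 → ∀ k, ψ x k = 1 → ∀ v, σ k v = v := by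
    intro x hx k hk
    let T : AddSubgroup (Fin 4 → ZMod 2) := AddSubgroup.closure (F x : Set (Fin 4 → ZMod 2))
    have hT : T = ⊤ := by
      by_contra hT
      have hTinv : ∀ l, ∀ w ∈ T, σ l w ∈ T := by
        intro l w hw
        induction hw using AddSubgroup.closure_induction with
        | mem w hw => exact AddSubgroup.subset_closure (hFinv x l w hw)
        | zero => rw [hσ0]; exact T.zero_mem
        | add a b _ _ ha hb => rw [hadd]; exact T.add_mem ha hb
        | neg a _ ha =>
          have : -a = a := funext fun i => ZMod.neg_eq_self_mod_two (a i)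
          rwa [this]
      have hdv := T.card_addSubgroup_dvd_card
      rw [Nat.card_fun, Nat.card_zmod, Nat.card_fin] at hdv
      obtain ⟨i, hi, hi'⟩ := (Nat.dvd_prime_pow Nat.prime_two).mp hdv
      have hlt : i ≠ 4 := fun h => hT (AddSubgroup.eq_top_of_card_eq T (by
        rw [hi', h, Nat.card_fun, Nat.card_zmod, Nat.card_fin]))
      have h8 : Nat.card T ≤ 8 := by
        rw [hi']
        calc 2 ^ i ≤ 2 ^ 3 := Nat.pow_le_pow_right two_pos (by omega)
          _ = 8 := by norm_num
      have hsub : insert 0 (F x : Set (Fin 4 → ZMod 2)) ⊆ T :=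
        Set.insert_subset T.zero_mem AddSubgroup.subset_closure
      have h0F : (0 : Fin 4 → ZMod 2) ∉ (F x : Set (Fin 4 → ZMod 2)) := fun h =>
        hx ((Finset.mem_filter.mp h).2.symm.trans hf0)
      have hsz : (insert 0 (F x : Set (Fin 4 → ZMod 2))).ncard = 6 := by
        rw [Set.ncard_insert_of_notMem h0F, Set.ncard_coe_finset, hfive x hx]
      have h6 : 6 ≤ Nat.card T := by
        rw [← hsz, ← Nat.card_coe_set_eq]
        exact Set.ncard_le_ncard hsub (Set.toFinite _) |>.trans_eq' (by rw [Nat.card_coe_set_eq])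
      set s := (T : Set (Fin 4 → ZMod 2)) \ insert 0 (F x : Set (Fin 4 → ZMod 2)) with hs
      have hss : ∀ l, ∀ w ∈ s, σ l w ∈ s := by
        rintro l w ⟨hw1, hw2⟩
        refine ⟨hTinv l w hw1, fun h => hw2 ?_⟩
        rcases h with h | h
        · left
          exact (σ l).injective (h.trans (hσ0 l).symm)
        · right
          have := hFinv x l⁻¹ _ h
          rwa [map_inv, Equiv.Perm.inv_def, Equiv.symm_apply_apply] at this
      have hscard : s.ncard = Nat.card T - 6 := by
        rw [hs, Set.ncard_sdiff hsub, hsz, ← Nat.card_coe_set_eq]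
        rfl
      have hempty : s = ∅ := by
        rw [Set.eq_empty_iff_forall_notMem]
        intro w hw
        exact hw.2 (Or.inl (small s hss (by omega) w hw))
      rw [hempty, Set.ncard_empty] at hscard
      rw [hi'] at h6 h8 hscard
      interval_cases i <;> omega
    intro v
    have hv : v ∈ T := hT ▸ AddSubgroup.mem_top v
    induction hv using AddSubgroup.closure_induction with
    | mem w hw => exact congrArg Subtype.val (Equiv.congr_fun hk ⟨w, hw⟩)
    | zero => exact hσ0 k
    | add a b _ _ ha hb => rw [hadd, ha, hb]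
    | neg a _ ha =>
      have : -a = a := funext fun i => ZMod.neg_eq_self_mod_two (a i)
      rwa [this]
  set x₁ : ZMod 2 × ZMod 2 := (1, 0) with hx₁
  have hx₁0 : x₁ ≠ 0 := by decide
  haveI : Group.IsPerfect (ψ x₁).range := Group.IsPerfect.range _
  haveI : Nontrivial (ψ x₁).range := by
    rw [Subgroup.nontrivial_iff_ne_bot]
    intro h
    obtain ⟨v, hv⟩ := hne x₁ hx₁0
    have := hfix v fun k => hker x₁ hx₁0 k
      (Subgroup.mem_bot.mp (h ▸ (⟨k, rfl⟩ : ψ x₁ k ∈ (ψ x₁).range))) v
    subst this
    exact hx₁0 ((Finset.mem_filter.mp hv).2.symm.trans hf0)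
  have h3 := three_dvd (by rw [Nat.card_eq_finsetCard, hfive x₁ hx₁0]) (ψ x₁).range
  haveI : Fact (Nat.Prime 3) := ⟨Nat.prime_three⟩
  obtain ⟨⟨_, k, rfl⟩, hk⟩ := exists_prime_orderOf_dvd_card' 3 h3
  have hk' : orderOf (ψ x₁ k) = 3 :=
    (orderOf_injective (ψ x₁).range.subtype Subtype.val_injective _).trans hk
  have hk3 : ∀ v, σ (k ^ 3) v = v := hker x₁ hx₁0 _ (by
    rw [map_pow, ← hk', pow_orderOf_eq_one])
  have hkne : ∀ x, x ≠ 0 → ψ x k ≠ 1 := fun x hx h => by
    have h1 : ψ x₁ k = 1 := Equiv.ext fun w => Subtype.ext (hker x hx k h w)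
    rw [h1, orderOf_one] at hk'
    omega
  have perm5 : ∀ g : Equiv.Perm (Fin 5), g * g * g = 1 → g ≠ 1 →
      (Finset.univ.filter fun a => g a = a).card = 2 := by decide +kernel
  have htwo : ∀ x, x ≠ 0 → ((F x).filter fun v => σ k v = v).card = 2 := by
    intro x hx
    let e : F x ≃ Fin 5 := Finset.equivFinOfCardEq (hfive x hx)
    have h := perm5 (e.permCongr (ψ x k)) (Equiv.ext fun a => by
      simp only [Equiv.Perm.mul_apply, Equiv.permCongr_apply, Equiv.symm_apply_apply,
        Equiv.Perm.one_apply]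
      rw [← Equiv.eq_symm_apply]
      refine Subtype.ext ?_
      have := hk3 ((e.symm a : F x) : Fin 4 → ZMod 2)
      simpa [ψ, pow_succ] using this)
      (fun h => hkne x hx (Equiv.ext fun w => by
        have h' : e (ψ x k (e.symm (e w))) = e w := Equiv.congr_fun h (e w)
        rw [Equiv.symm_apply_apply] at h'
        exact e.injective h'))
    refine Eq.trans ?_ h
    refine Finset.card_bij (fun v hv => e ⟨v, (Finset.mem_filter.mp hv).1⟩) ?_ ?_ ?_
    · intro v hv
      refine Finset.mem_filter.mpr ⟨Finset.mem_univ _, ?_⟩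
      rw [Equiv.permCongr_apply, Equiv.symm_apply_apply]
      exact congrArg e (Subtype.ext (Finset.mem_filter.mp hv).2)
    · intro v hv w hw h
      exact congrArg Subtype.val (e.injective h)
    · intro a ha
      refine ⟨(e.symm a : F x), Finset.mem_filter.mpr ⟨(e.symm a).2, ?_⟩, ?_⟩
      · have h2 : e (ψ x k (e.symm a)) = a := (Finset.mem_filter.mp ha).2
        rw [← Equiv.eq_symm_apply] at h2
        exact congrArg Subtype.val h2
      · simp
  let W : AddSubgroup (Fin 4 → ZMod 2) :=
    { carrier := {v | σ k v = v}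
      zero_mem' := hσ0 k
      add_mem' := fun {a b} ha hb => by
        show σ k (a + b) = a + b
        rw [hadd, show σ k a = a from ha, show σ k b = b from hb]
      neg_mem' := fun {a} ha => by
        have : -a = a := funext fun i => ZMod.neg_eq_self_mod_two (a i)
        rwa [this] }
  have hW : Nat.card W = 7 := by
    show Nat.card {v : Fin 4 → ZMod 2 | σ k v = v} = 7
    rw [Nat.card_coe_set_eq, Set.ncard_eq_toFinset_card']
    have h := Finset.card_eq_sum_card_fiberwise (f := f) (s := {v | σ k v = v}.toFinset)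
      (t := Finset.univ) (fun v _ => Finset.mem_univ (f v))
    have hu : (Finset.univ : Finset (ZMod 2 × ZMod 2)) = {0, (1, 0), (0, 1), (1, 1)} := by decide
    rw [hu, Finset.sum_insert (by decide), Finset.sum_insert (by decide),
      Finset.sum_insert (by decide), Finset.sum_singleton] at h
    have conv : ∀ x, ({v | σ k v = v}.toFinset.filter fun v => f v = x) =
        (F x).filter fun v => σ k v = v := fun x => by
      ext v; simp [F, and_comm]
    simp only [conv] at h
    rw [htwo (1, 0) (by decide), htwo (0, 1) (by decide), htwo (1, 1) (by decide)] at h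
    have h0 : ((F 0).filter fun v => σ k v = v).card = 1 := by
      rw [Finset.card_eq_one]
      refine ⟨0, Finset.eq_singleton_iff_unique_mem.mpr ⟨by simp [F, hf0, hσ0], fun v hv => ?_⟩⟩
      exact haniso' v (Finset.mem_filter.mp (Finset.mem_filter.mp hv).1).2
    rw [h0] at h
    exact h
  have := W.card_addSubgroup_dvd_card
  rw [hW, Nat.card_fun, Nat.card_zmod, Nat.card_fin] at this
  norm_num at this

theorem zmod_two_cases : ∀ r : ZMod 2, r = 0 ∨ r = 1 := by decide

/-- A perfect group of automorphisms of a 2-group with at most four solutions of `x² = 1` is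
trivial. -/
theorem perfect_trivial {P : Type*} [Group P] [Finite P] [Group.IsPerfect P] :
    ∀ (m : ℕ) (X : Type u) [Group X] [Finite X], Nat.card X = m → IsPGroup 2 X →
      Nat.card {x : X // x * x = 1} ≤ 4 → ∀ (φ : P →* MulAut X) (k : P) (x : X), φ k x = x := by
  intro m
  induction m using Nat.strong_induction_on with
  | _ m IH =>
  intro X _ _ hm h2 h4 φ
  classical
  by_contra hmove
  haveI : Fact (Nat.Prime 2) := ⟨Nat.prime_two⟩
  haveI := h2.isNilpotent
  have hsolv : ∀ (T : Subgroup X) (c : P →* T) (k : P), c k = 1 := fun T c k => hom_trivial c k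
  let Fx : Subgroup X :=
    { carrier := {x | ∀ k, φ k x = x}
      one_mem' := fun k => map_one _
      mul_mem' := fun {a b} ha hb k => by rw [map_mul, ha, hb]
      inv_mem' := fun {a} ha k => by rw [map_inv, ha] }
  have hFx : Fx ≠ ⊤ := fun h => hmove fun k x => (h ▸ Subgroup.mem_top x : x ∈ Fx) k
  have hprop : ∀ T : Subgroup X, (∀ k, ∀ x ∈ T, φ k x ∈ T) → T ≠ ⊤ → T ≤ Fx := by
    intro T hT hne x hx k
    have hlt : Nat.card T < m := by
      rw [← hm]
      exact lt_of_le_of_ne (Subgroup.card_le_card_group T) fun h => hne (Subgroup.eq_top_of_card_eq T h)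
    let φT : P →* MulAut T :=
      { toFun := fun k =>
          { toFun := fun x => ⟨φ k x, hT k x x.2⟩
            invFun := fun x => ⟨φ k⁻¹ x, hT k⁻¹ x x.2⟩
            left_inv := fun x => Subtype.ext (by
              show φ k⁻¹ (φ k x) = x
              rw [← MulAut.mul_apply, ← map_mul, inv_mul_cancel, map_one]; rfl)
            right_inv := fun x => Subtype.ext (by
              show φ k (φ k⁻¹ x) = x
              rw [← MulAut.mul_apply, ← map_mul, mul_inv_cancel, map_one]; rfl)
            map_mul' := fun x y => Subtype.ext (map_mul (φ k) (x : X) y) }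
        map_one' := MulEquiv.ext fun x => Subtype.ext (by
          show φ 1 x = x
          rw [map_one]; rfl)
        map_mul' := fun a b => MulEquiv.ext fun x => Subtype.ext (by
          show φ (a * b) x = φ a (φ b x)
          rw [map_mul]; rfl) }
    have h4T : Nat.card {x : T // x * x = 1} ≤ 4 :=
      le_trans (Nat.card_le_card_of_injective
        (fun x => (⟨(x.1 : X), congrArg Subtype.val x.2⟩ : {x : X // x * x = 1}))
        (fun a b h => Subtype.ext (Subtype.ext (congrArg (fun z => z.1) h)))) h4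
    exact congrArg Subtype.val (IH _ hlt T rfl (h2.to_subgroup T) h4T φT k ⟨x, hx⟩)
  rcases subsingleton_or_nontrivial X with hX | hX
  · exact hmove fun k x => Subsingleton.elim _ _
  have hfr : frattini X ≠ ⊤ := by
    intro h
    have h' := frattini_nongenerating (G := X) (K := ⊥) (by rw [h, bot_sup_eq])
    exact bot_ne_top h'
  have hΦ : frattini X ≤ Fx := hprop _ (fun k x hx =>
    (Subgroup.characteristic_iff_map_eq.mp inferInstance (φ k)).le ⟨x, hx, rfl⟩) hfr
  have hcommF : commutator X ≤ Fx := (Cfsg.Agent.PGroups.commutator_le_frattini h2).trans hΦ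
  haveI hFn : Fx.Normal := ⟨fun d hd x => by
    have : x * d * x⁻¹ = ⁅x, d⁆ * d := by rw [commutatorElement_def]; group
    rw [this]
    exact Fx.mul_mem (hcommF (Subgroup.commutator_mem_commutator (Subgroup.mem_top _)
      (Subgroup.mem_top _))) hd⟩
  have hsq : ∀ x : X, x * x ∈ Fx := fun x => hΦ (pow_two x ▸ Cfsg.Agent.PGroups.pow_mem_frattini h2 x)
  -- displacements generate
  have hD : Subgroup.closure {y | ∃ k x, y = x⁻¹ * φ k x} = ⊤ := by
    by_contra hne
    have hinv : ∀ l, ∀ y ∈ Subgroup.closure {y | ∃ k x, y = x⁻¹ * φ k x},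
        φ l y ∈ Subgroup.closure {y | ∃ k x, y = x⁻¹ * φ k x} := by
      intro l y hy
      induction hy using Subgroup.closure_induction with
      | mem y hy =>
        obtain ⟨k, x, rfl⟩ := hy
        have e : φ l (x⁻¹ * φ k x) = (x⁻¹ * φ l x)⁻¹ * (x⁻¹ * φ (l * k) x) := by
          rw [map_mul, map_inv, map_mul φ, MulAut.mul_apply]; group
        rw [e]
        exact mul_mem (inv_mem (Subgroup.subset_closure ⟨_, _, rfl⟩))
          (Subgroup.subset_closure ⟨_, _, rfl⟩)
      | one => rw [map_one]; exact one_mem _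
      | mul a b _ _ ha hb => rw [map_mul]; exact mul_mem ha hb
      | inv a _ ha => rw [map_inv]; exact inv_mem ha
    have hle := hprop _ hinv hne
    refine hmove fun k x => ?_
    let c : P →* Fx :=
      { toFun := fun k => ⟨x⁻¹ * φ k x, hle (Subgroup.subset_closure ⟨k, x, rfl⟩)⟩
        map_one' := Subtype.ext (by simp)
        map_mul' := fun a b => Subtype.ext (by
          show x⁻¹ * φ (a * b) x = x⁻¹ * φ a x * (x⁻¹ * φ b x)
          have h := hle (Subgroup.subset_closure ⟨b, x, rfl⟩) a
          rw [map_mul, map_inv] at h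
          calc x⁻¹ * φ (a * b) x = (x⁻¹ * φ a x) * ((φ a x)⁻¹ * φ a (φ b x)) := by
                rw [map_mul φ, MulAut.mul_apply]; group
            _ = _ := by rw [h]) }
    have h1 : x⁻¹ * φ k x = 1 := congrArg Subtype.val (hsolv Fx c k)
    exact (inv_mul_eq_one.mp h1).symm
  have hcen : Fx ≤ Subgroup.center X := by
    intro d hd
    rw [Subgroup.mem_center_iff]
    intro g
    have hg : g ∈ Subgroup.closure {y | ∃ k x, y = x⁻¹ * φ k x} := hD ▸ Subgroup.mem_top g
    induction hg using Subgroup.closure_induction with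
    | mem y hy =>
      obtain ⟨k, x, rfl⟩ := hy
      have h := hFn.conj_mem d hd x k
      rw [map_mul, map_mul, map_inv, hd k] at h
      calc x⁻¹ * φ k x * d = x⁻¹ * (φ k x * d * (φ k x)⁻¹) * φ k x := by group
        _ = d * (x⁻¹ * φ k x) := by rw [h]; group
    | one => simp
    | mul a b _ _ ha hb => rw [mul_assoc, hb, ← mul_assoc, ha, mul_assoc]
    | inv a _ ha =>
      calc a⁻¹ * d = a⁻¹ * (d * a) * a⁻¹ := by group
        _ = d * a⁻¹ := by rw [← ha]; group
  have hinvol : ∀ x : X, x * x = 1 → x ∈ Fx := by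
    intro x hx k
    let ι : P →* Equiv.Perm {x : X // x * x = 1} :=
      { toFun := fun k => Equiv.Perm.subtypePerm ((φ k).toEquiv : Equiv.Perm X) fun w => by
          show φ k w * φ k w = 1 ↔ w * w = 1
          rw [← map_mul, map_eq_one_iff _ (φ k).injective]
        map_one' := Equiv.ext fun w => Subtype.ext (by
          show φ 1 w.1 = w.1
          rw [map_one]; rfl)
        map_mul' := fun a b => Equiv.ext fun w => Subtype.ext (by
          show φ (a * b) w.1 = φ a (φ b w.1)
          rw [map_mul]; rfl) }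
    exact congrArg Subtype.val (fix_of_card_le_four h4 ι k ⟨x, hx⟩)
  -- the squares of `Fx`
  have hFc : ∀ a ∈ Fx, ∀ b : X, b * a = a * b := fun a ha b => Subgroup.mem_center_iff.mp (hcen ha) b
  letI : CommGroup Fx := { (inferInstance : Group Fx) with
    mul_comm := fun a b => Subtype.ext (hFc b b.2 a) }
  let F2 : Subgroup Fx := (powMonoidHom 2 : Fx →* Fx).range
  have hW : Nat.card (Fx ⧸ F2) ≤ 4 := by
    have : Nat.card (Fx ⧸ F2) = Nat.card (powMonoidHom 2 : Fx →* Fx).ker := by
      have h1 := F2.card_mul_index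
      have h2 := (powMonoidHom 2 : Fx →* Fx).ker.card_mul_index
      rw [Subgroup.index_ker] at h2
      rw [← Subgroup.index_eq_card]
      have h3 : Nat.card F2 * F2.index = Nat.card F2 * Nat.card (powMonoidHom 2 : Fx →* Fx).ker := by
        rw [h1, mul_comm, h2]
      exact Nat.eq_of_mul_eq_mul_left Nat.card_pos h3
    rw [this]
    refine le_trans (Nat.card_le_card_of_injective
      (fun a => (⟨((a : Fx) : X), ?_⟩ : {x : X // x * x = 1})) ?_) h4
    · have h := a.2
      rw [MonoidHom.mem_ker, powMonoidHom_apply, pow_two] at h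
      exact congrArg Subtype.val h
    · intro a b h
      exact Subtype.ext (Subtype.ext (congrArg (fun z => z.1) h))
  have hW2 : ∀ w : Fx ⧸ F2, w ^ 2 = 1 := fun w => by
    induction w using QuotientGroup.induction_on with
    | H a => exact (QuotientGroup.eq_one_iff _).mpr ⟨a, rfl⟩
  -- the quotient `V = X / Fx`
  letI : CommGroup (X ⧸ Fx) := { (inferInstance : Group (X ⧸ Fx)) with
    mul_comm := fun a b => by
      induction a using QuotientGroup.induction_on with
      | H a =>
        induction b using QuotientGroup.induction_on with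
        | H b =>
          show ((a * b : X) : X ⧸ Fx) = ((b * a : X) : X ⧸ Fx)
          rw [QuotientGroup.eq]
          refine hcommF ?_
          have : (a * b)⁻¹ * (b * a) = ⁅b⁻¹, a⁻¹⁆ := by rw [commutatorElement_def]; group
          rw [this]
          exact Subgroup.commutator_mem_commutator (Subgroup.mem_top _) (Subgroup.mem_top _) }
  letI : Module (ZMod 2) (Additive (X ⧸ Fx)) := AddCommGroup.zmodModule fun w => by
    show (Additive.toMul w) ^ 2 = 1
    induction (Additive.toMul w) using QuotientGroup.induction_on with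
    | H a => exact (QuotientGroup.eq_one_iff _).mpr (show a ^ 2 ∈ Fx by rw [pow_two]; exact hsq a)
  letI : Module (ZMod 2) (Additive (Fx ⧸ F2)) := AddCommGroup.zmodModule fun w => hW2 w.toMul
  haveI : Finite (Additive (X ⧸ Fx)) := (inferInstance : Finite (X ⧸ Fx))
  haveI : Finite (Additive (Fx ⧸ F2)) := (inferInstance : Finite (Fx ⧸ F2))
  let b := Module.finBasis (ZMod 2) (Additive (X ⧸ Fx))
  set n := Module.finrank (ZMod 2) (Additive (X ⧸ Fx)) with hn
  let e : (Fin n → ZMod 2) ≃ₗ[ZMod 2] Additive (X ⧸ Fx) := b.equivFun.symm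
  -- two functionals separating `Fx / F2`
  obtain ⟨ι, hι⟩ : ∃ ι : Additive (Fx ⧸ F2) →ₗ[ZMod 2] (Fin 2 → ZMod 2), Function.Injective ι := by
    have hk : Module.finrank (ZMod 2) (Additive (Fx ⧸ F2)) ≤ 2 := by
      refine (Nat.pow_le_pow_iff_right (a := 2) one_lt_two).mp (le_trans (le_of_eq ?_) hW)
      rw [show Nat.card (Fx ⧸ F2) = Nat.card (Additive (Fx ⧸ F2)) from rfl,
        Module.natCard_eq_pow_finrank (K := ZMod 2), Nat.card_zmod]
    let b' := Module.finBasis (ZMod 2) (Additive (Fx ⧸ F2))
    refine ⟨{ toFun := fun w i => if h : i.val < _ then b'.repr w ⟨i.val, h⟩ else 0,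
              map_add' := fun w w' => funext fun i => by split_ifs with h <;> simp [h]
              map_smul' := fun r w => funext fun i => by split_ifs with h <;> simp [h] }, ?_⟩
    intro w w' h
    refine b'.ext_elem fun i => ?_
    have := congrFun h ⟨i.val, lt_of_lt_of_le i.2 hk⟩
    simpa [i.2] using this
  -- the square map
  have hwd : ∀ (a : X) (d : X), d ∈ Fx →
      (QuotientGroup.mk (⟨(a * d) * (a * d), hsq _⟩ : Fx) : Fx ⧸ F2) =
        QuotientGroup.mk (⟨a * a, hsq _⟩ : Fx) := by
    intro a d hd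
    rw [QuotientGroup.eq]
    refine ⟨⟨d, hd⟩⁻¹, Subtype.ext ?_⟩
    show (d⁻¹ : X) ^ 2 = (a * d * (a * d))⁻¹ * (a * a)
    have e : a * d * (a * d) = a * a * (d * d) := by
      calc a * d * (a * d) = a * (d * a) * d := by group
        _ = a * (a * d) * d := by rw [hFc d hd a]
        _ = a * a * (d * d) := by group
    rw [e, pow_two]; group
  let qd : X ⧸ Fx → Additive (Fx ⧸ F2) := fun v => Quotient.liftOn' v
    (fun a => Additive.ofMul (QuotientGroup.mk (⟨a * a, hsq a⟩ : Fx))) (fun a a' h => by
      rw [QuotientGroup.leftRel_apply] at h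
      have h' := hwd a _ h
      simp only [mul_inv_cancel_left] at h'
      exact congrArg Additive.ofMul h'.symm)
  let f : (Fin n → ZMod 2) → (Fin 2 → ZMod 2) := fun v => ι (qd (e v).toMul)
  let Bq : X → X → Additive (Fx ⧸ F2) := fun a c =>
    Additive.ofMul (QuotientGroup.mk (⟨⁅c, a⁆, hcommF (Subgroup.commutator_mem_commutator
      (Subgroup.mem_top _) (Subgroup.mem_top _))⟩ : Fx))
  have hqadd : ∀ a c : X, qd ((a * c : X) : X ⧸ Fx) = qd (a : X ⧸ Fx) + qd (c : X ⧸ Fx) + Bq a c := by
    intro a c
    show Additive.ofMul (QuotientGroup.mk (⟨a * c * (a * c), hsq _⟩ : Fx) : Fx ⧸ F2) =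
      Additive.ofMul (QuotientGroup.mk ((⟨a * a, hsq a⟩ : Fx) * ⟨c * c, hsq c⟩ * ⟨⁅c, a⁆, _⟩))
    congr 2
    refine Subtype.ext ?_
    show a * c * (a * c) = a * a * (c * c) * ⁅c, a⁆
    have hm : ⁅c, a⁆ ∈ Fx := hcommF (Subgroup.commutator_mem_commutator
      (Subgroup.mem_top _) (Subgroup.mem_top _))
    calc a * c * (a * c) = a * ⁅c, a⁆ * a * c * c := by rw [commutatorElement_def]; group
      _ = ⁅c, a⁆ * (a * a * (c * c)) := by rw [hFc _ hm a]; group
      _ = _ := (hFc _ hm _).symm
  have hBadd : ∀ a a' c : X, Bq (a * a') c = Bq a c + Bq a' c ∧ Bq c (a * a') = Bq c a + Bq c a' := by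
    intro a a' c
    have hm : ∀ u v : X, ⁅u, v⁆ ∈ Fx := fun u v => hcommF (Subgroup.commutator_mem_commutator
      (Subgroup.mem_top _) (Subgroup.mem_top _))
    constructor
    · show Additive.ofMul _ = Additive.ofMul (QuotientGroup.mk ((⟨⁅c, a⁆, hm _ _⟩ : Fx) * ⟨⁅c, a'⁆, hm _ _⟩))
      congr 2
      refine Subtype.ext ?_
      show ⁅c, a * a'⁆ = ⁅c, a⁆ * ⁅c, a'⁆
      calc ⁅c, a * a'⁆ = ⁅c, a⁆ * (a * ⁅c, a'⁆ * a⁻¹) := by simp only [commutatorElement_def]; group
        _ = _ := by rw [hFc _ (hm c a') a, mul_inv_cancel_right]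
    · show Additive.ofMul _ = Additive.ofMul (QuotientGroup.mk ((⟨⁅a, c⁆, hm _ _⟩ : Fx) * ⟨⁅a', c⁆, hm _ _⟩))
      congr 2
      refine Subtype.ext ?_
      show ⁅a * a', c⁆ = ⁅a, c⁆ * ⁅a', c⁆
      calc ⁅a * a', c⁆ = (a * ⁅a', c⁆ * a⁻¹) * ⁅a, c⁆ := by simp only [commutatorElement_def]; group
        _ = ⁅a', c⁆ * ⁅a, c⁆ := by rw [hFc _ (hm a' c) a, mul_inv_cancel_right]
        _ = _ := (hFc _ (hm a' c) _).symm
  have hqd1 : qd 1 = 0 := by
    show Additive.ofMul (QuotientGroup.mk (⟨1 * 1, _⟩ : Fx) : Fx ⧸ F2) = 0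
    rw [show (⟨1 * 1, hsq 1⟩ : Fx) = 1 from Subtype.ext (one_mul 1)]; rfl
  have hBf : ∀ v w : Fin n → ZMod 2, ∀ a c : X, (e v).toMul = (a : X ⧸ Fx) →
      (e w).toMul = (c : X ⧸ Fx) → f (v + w) - f v - f w = ι (Bq a c) := by
    intro v w a c hv hw
    show ι (qd (e (v + w)).toMul) - ι (qd (e v).toMul) - ι (qd (e w).toMul) = _
    rw [map_add, toMul_add, hv, hw, ← QuotientGroup.mk_mul, hqadd, map_add, map_add]
    abel
  -- coordinates
  have hco : ∀ t : Fin 2, ∃ c : Fin n → Fin n → ZMod 2,
      ∀ v, f v t = ∑ i, ∑ j, c i j * v i * v j := by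
    intro t
    let Q : QuadraticForm (ZMod 2) (Fin n → ZMod 2) := QuadraticMap.ofPolar (fun v => f v t)
      (fun r v => by
        have := zmod_two_cases r
        rcases this with rfl | rfl
        · rw [zero_smul]
          show ι (qd (e 0).toMul) t = _
          rw [map_zero, toMul_zero, hqd1, map_zero]; simp
        · simp)
      (fun x x' y => by
        obtain ⟨a, ha⟩ := QuotientGroup.mk_surjective (e x).toMul
        obtain ⟨a', ha'⟩ := QuotientGroup.mk_surjective (e x').toMul
        obtain ⟨c, hc⟩ := QuotientGroup.mk_surjective (e y).toMul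
        have haa : (e (x + x')).toMul = ((a * a' : X) : X ⧸ Fx) := by
          rw [map_add, toMul_add, ← ha, ← ha']; rfl
        show (f (x + x' + y) - f (x + x') - f y) t = (f (x + y) - f x - f y) t + (f (x' + y) - f x' - f y) t
        rw [hBf _ _ _ c haa hc.symm, hBf _ _ _ c ha.symm hc.symm, hBf _ _ _ c ha'.symm hc.symm,
          (hBadd a a' c).1, map_add]
        rfl)
      (fun r x y => by
        have := zmod_two_cases r
        rcases this with rfl | rfl
        · rw [zero_smul, zero_smul]
          show f (0 + y) t - f 0 t - f y t = 0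
          rw [zero_add]
          have : f 0 t = 0 := by
            show ι (qd (e 0).toMul) t = 0
            rw [map_zero, toMul_zero, hqd1, map_zero]; rfl
          rw [this]; ring
        · simp)
    let β := Q.toBilin (Pi.basisFun (ZMod 2) (Fin n))
    refine ⟨fun i j => β (Pi.single i 1) (Pi.single j 1), fun v => ?_⟩
    have h1 : f v t = β v v := by
      rw [← LinearMap.BilinMap.toQuadraticMap_apply, QuadraticMap.toQuadraticMap_toBilin]; rfl
    have h2 := LinearMap.sum_repr_mul_repr_mul (B := β) (b₁' := Pi.basisFun (ZMod 2) (Fin n))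
      (b₂' := Pi.basisFun (ZMod 2) (Fin n)) v v
    rw [h1, ← h2, Finsupp.sum_fintype _ _ (fun _ => by simp)]
    refine Finset.sum_congr rfl fun i _ => ?_
    rw [Finsupp.sum_fintype _ _ (fun _ => by simp)]
    refine Finset.sum_congr rfl fun j _ => ?_
    simp only [Pi.basisFun_apply, Pi.basisFun_repr, smul_eq_mul]
    ring
  obtain ⟨c₀, hc₀⟩ := hco 0
  obtain ⟨c₁, hc₁⟩ := hco 1
  -- the action on `V`
  let ψ : P → (X ⧸ Fx) ≃* (X ⧸ Fx) := fun k => QuotientGroup.congr Fx Fx (φ k) (by
    ext x
    constructor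
    · rintro ⟨y, hy, rfl⟩
      show ∀ l, φ l (φ k y) = φ k y
      intro l; rw [hy k, hy l]
    · intro hx; exact ⟨x, hx, hx k⟩)
  let σ : P →* Equiv.Perm (Fin n → ZMod 2) :=
    { toFun := fun k => e.toEquiv.trans (((MulEquiv.toAdditive (ψ k)).toEquiv).trans e.symm.toEquiv)
      map_one' := Equiv.ext fun v => by
        show e.symm (Additive.ofMul (ψ 1 (e v).toMul)) = v
        have : ∀ z, ψ 1 z = z := fun z => by
          induction z using QuotientGroup.induction_on with
          | H a =>
            show ((φ 1 a : X) : X ⧸ Fx) = a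
            rw [map_one]; rfl
        rw [this, ofMul_toMul, LinearEquiv.symm_apply_apply]
      map_mul' := fun k l => Equiv.ext fun v => by
        show e.symm (Additive.ofMul (ψ (k * l) (e v).toMul)) =
          e.symm (Additive.ofMul (ψ k (e (e.symm (Additive.ofMul (ψ l (e v).toMul)))).toMul))
        rw [LinearEquiv.apply_symm_apply, toMul_ofMul]
        have : ∀ z, ψ (k * l) z = ψ k (ψ l z) := fun z => by
          induction z using QuotientGroup.induction_on with
          | H a =>
            show ((φ (k * l) a : X) : X ⧸ Fx) = ((φ k (φ l a) : X) : X ⧸ Fx)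
            rw [map_mul]; rfl
        rw [this] }
  have hσ : ∀ k v, e (σ k v) = Additive.ofMul (ψ k (e v).toMul) := fun k v =>
    e.apply_symm_apply _
  have hfσ : ∀ k v, f (σ k v) = f v := by
    intro k v
    obtain ⟨a, ha⟩ := QuotientGroup.mk_surjective (e v).toMul
    show ι (qd (e (σ k v)).toMul) = ι (qd (e v).toMul)
    rw [hσ, toMul_ofMul, ← ha]
    show ι (Additive.ofMul (QuotientGroup.mk (⟨φ k a * φ k a, hsq _⟩ : Fx))) =
      ι (Additive.ofMul (QuotientGroup.mk (⟨a * a, hsq a⟩ : Fx)))
    congr 3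
    refine Subtype.ext ?_
    show φ k a * φ k a = a * a
    rw [← map_mul]
    exact hsq a k
  have hn0 : n = 0 := by
    refine no_action n σ (fun k u v => ?_) c₀ c₁ (fun k v => ?_) (fun k v => ?_) (fun v h0 h1 => ?_) ?_
    · apply e.injective
      rw [hσ, e.map_add (σ k u), hσ, hσ, e.map_add u, toMul_add, map_mul]; rfl
    · rw [← hc₀, ← hc₀, hfσ]
    · rw [← hc₁, ← hc₁, hfσ]
    · have hf0 : f v = 0 := by
        funext t
        fin_cases t
        · exact (hc₀ v).trans h0
        · exact (hc₁ v).trans h1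
      obtain ⟨a, ha⟩ := QuotientGroup.mk_surjective (e v).toMul
      have h := hι (hf0.trans (map_zero ι).symm)
      rw [← ha] at h
      have h' : (QuotientGroup.mk (⟨a * a, hsq a⟩ : Fx) : Fx ⧸ F2) = 1 := h
      obtain ⟨⟨d, hd⟩, hdd⟩ := (QuotientGroup.eq_one_iff _).mp h'
      have hdd' : d ^ 2 = a * a := congrArg Subtype.val hdd
      have : a * d⁻¹ ∈ Fx := hinvol _ (by
        calc a * d⁻¹ * (a * d⁻¹) = a * (d⁻¹ * a) * d⁻¹ := by group
          _ = a * (a * d⁻¹) * d⁻¹ := by rw [hFc _ (Fx.inv_mem hd) a]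
          _ = (a * a) * (d ^ 2)⁻¹ := by group
          _ = 1 := by rw [hdd', mul_inv_cancel])
      have ha' : a ∈ Fx := by simpa using Fx.mul_mem this hd
      apply e.injective
      rw [map_zero, ← ofMul_toMul (e v), ← ha, (QuotientGroup.eq_one_iff a).mpr ha']
      rfl
    · intro v hv
      obtain ⟨a, ha⟩ := QuotientGroup.mk_surjective (e v).toMul
      have hfa : ∀ k, a⁻¹ * φ k a ∈ Fx := by
        intro k
        have h := congrArg (fun w => (e w).toMul) (hv k)
        simp only [hσ, toMul_ofMul, ← ha] at h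
        exact QuotientGroup.eq.mp h.symm
      let c : P →* Fx :=
        { toFun := fun k => ⟨a⁻¹ * φ k a, hfa k⟩
          map_one' := Subtype.ext (by simp)
          map_mul' := fun k l => Subtype.ext (by
            show a⁻¹ * φ (k * l) a = a⁻¹ * φ k a * (a⁻¹ * φ l a)
            have h := hfa l k
            rw [map_mul, map_inv] at h
            calc a⁻¹ * φ (k * l) a = (a⁻¹ * φ k a) * ((φ k a)⁻¹ * φ k (φ l a)) := by
                  rw [map_mul φ, MulAut.mul_apply]; group
              _ = _ := by rw [h]) }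
      have ha' : a ∈ Fx := fun k => (inv_mul_eq_one.mp (congrArg Subtype.val (hsolv Fx c k))).symm
      apply e.injective
      rw [map_zero, ← ofMul_toMul (e v), ← ha, (QuotientGroup.eq_one_iff a).mpr ha']
      rfl
  apply hFx
  rw [Subgroup.eq_top_iff']
  intro x
  have h0 : ∀ v : Fin n → ZMod 2, v = 0 := fun v => by
    haveI : IsEmpty (Fin n) := by rw [hn0]; infer_instance
    funext i; exact isEmptyElim i
  have := h0 (e.symm (Additive.ofMul (x : X ⧸ Fx)))
  rw [LinearEquiv.map_eq_zero_iff] at this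
  exact (QuotientGroup.eq_one_iff x).mp this

/-- If X is a finite 2-group containing exactly three involutions, then the automorphism group of X is solvable. -/
theorem result {X : Type*} [Group X] [Finite X] (h2 : IsPGroup 2 X) (h3 : Nat.card {x : X // orderOf x = 2} = 3) : Group.IsSolvable (MulAut X) := by
  classical
  haveI : Fact (Nat.Prime 2) := ⟨Nat.prime_two⟩
  haveI : Finite (MulAut X) := Finite.of_injective (fun e => (e : X → X)) DFunLike.coe_injective
  have h4 : Nat.card {x : X // x * x = 1} ≤ 4 := by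
    have hs : {x : X | x * x = 1} ⊆ insert 1 {x : X | orderOf x = 2} := by
      intro x hx
      by_cases h : x = 1
      · exact Or.inl h
      · exact Or.inr (orderOf_eq_prime (by rw [pow_two]; exact hx) h)
    have := Set.ncard_le_ncard hs (Set.toFinite _)
    have h1 := Set.ncard_insert_le (1 : X) {x : X | orderOf x = 2}
    rw [← Nat.card_coe_set_eq, ← Nat.card_coe_set_eq] at h1
    rw [← Nat.card_coe_set_eq, ← Nat.card_coe_set_eq] at this
    simp only [Set.coe_setOf] at this h1
    omega
  obtain ⟨D, hD, hDp⟩ : ∃ D : Subgroup (MulAut X), (∃ i, derivedSeries (MulAut X) i = D) ∧ ⁅D, D⁆ = D := by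
    obtain ⟨D, hDmem, hmin⟩ := (Set.range (derivedSeries (MulAut X))).exists_min_image
      (fun D => Nat.card D) (Set.toFinite _) (Set.range_nonempty _)
    obtain ⟨i, rfl⟩ := hDmem
    refine ⟨_, ⟨i, rfl⟩, ?_⟩
    refine Subgroup.eq_of_le_of_card_ge (Subgroup.commutator_le_self _) ?_
    exact hmin _ ⟨i + 1, derivedSeries_succ (MulAut X) i⟩
  obtain ⟨i, hi⟩ := hD
  haveI : Group.IsPerfect D := Subgroup.isPerfect_iff.mpr hDp
  refine ⟨⟨i, ?_⟩⟩
  rw [hi, Subgroup.eq_bot_iff_forall]
  intro a ha
  exact MulEquiv.ext fun x => perfect_trivial _ X rfl h2 h4 D.subtype ⟨a, ha⟩ x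

end Cfsg.Agent.S3117
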