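import Cfsg.Statements.S3153
import Cfsg.Agent.Components.PComponent
import Cfsg.Agent.Cores.PCore
import Cfsg.Agent.H92.Odd

set_option autoImplicit false
open Cfsg

namespace Cfsg.Agent.S3153

open Cfsg.Agent.Components

/-- An element of a perfect group which is central modulo the centre is central. -/
theorem mem_center_of_comm_mem {P : Type*} [Group P] (hP : Group.IsPerfect P) {a : P}
    (h : ∀ x, a * x * a⁻¹ * x⁻¹ ∈ Subgroup.center P) : a ∈ Subgroup.center P := by
  let φ : P →* Subgroup.center P :=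
    { toFun := fun x => ⟨_, h x⟩
      map_one' := Subtype.ext (by simp)
      map_mul' := fun x y => Subtype.ext (by
        show a * (x * y) * a⁻¹ * (x * y)⁻¹ = a * x * a⁻¹ * x⁻¹ * (a * y * a⁻¹ * y⁻¹)
        rw [mul_assoc (a * x * a⁻¹), ← Subgroup.mem_center_iff.mp (h y) x⁻¹ |>.symm]
        group) }
  rw [Subgroup.mem_center_iff]
  intro x
  haveI := hP
  have hx : x ∈ φ.ker :=
    (show commutator P ≤ φ.ker by
      rw [commutator_def, Subgroup.commutator_le]
      intro u _ v _
      rw [MonoidHom.mem_ker, map_commutatorElement, commutatorElement_eq_one_iff_mul_comm]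
      exact Subtype.ext (Subgroup.mem_center_iff.mp (φ v).2 (φ u : P))) (hP.commutator_eq_top.ge (Subgroup.mem_top x))
  have h1 : φ x = 1 := hx
  have h2 : a * x * a⁻¹ * x⁻¹ = 1 := congrArg Subtype.val h1
  rw [mul_inv_eq_one, mul_inv_eq_iff_eq_mul] at h2
  exact h2.symm

/-- In a group of 2-rank at most one, commuting involutions are equal. -/
theorem eq_of_rank_one {X : Type*} [Group X] [Finite X] {C : Subgroup X}
    (hr : Cfsg.PRankLE 2 1 C) {a b : X} (ha : a ∈ C) (hb : b ∈ C) (ha2 : a * a = 1)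
    (hb2 : b * b = 1) (hab : a * b = b * a) (ha1 : a ≠ 1) (hb1 : b ≠ 1) : a = b := by
  by_contra hne
  set k : Set C := {⟨a, ha⟩, ⟨b, hb⟩} with hk
  have hcomm : ∀ x ∈ k, ∀ y ∈ k, x * y = y * x := by
    rintro x (rfl | rfl) y (rfl | rfl)
    · rfl
    · exact Subtype.ext hab
    · exact Subtype.ext hab.symm
    · rfl
  have hA : IsMulCommutative (Subgroup.closure k) := Subgroup.isMulCommutative_closure hcomm
  have hexp : ∀ x ∈ Subgroup.closure k, x ^ 2 = 1 := by
    intro x hx
    induction hx using Subgroup.closure_induction with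
    | mem x hx =>
      rcases hx with rfl | rfl
      · exact Subtype.ext (by simpa [pow_two] using ha2)
      · exact Subtype.ext (by simpa [pow_two] using hb2)
    | one => exact one_pow 2
    | mul x y hx hy ex ey =>
      have hc : Commute x y := congrArg Subtype.val (hA.is_comm.comm ⟨x, hx⟩ ⟨y, hy⟩)
      rw [hc.mul_pow, ex, ey, one_mul]
    | inv x _ ex => rw [inv_pow, ex, inv_one]
  have h2 := hr _ hA hexp
  have h3 : ({1, ⟨a, ha⟩, ⟨b, hb⟩} : Set C).ncard = 3 := by
    rw [Set.ncard_eq_three]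
    exact ⟨1, ⟨a, ha⟩, ⟨b, hb⟩, fun h => ha1 (congrArg Subtype.val h).symm,
      fun h => hb1 (congrArg Subtype.val h).symm, fun h => hne (congrArg Subtype.val h), rfl⟩
  have h4 : ({1, ⟨a, ha⟩, ⟨b, hb⟩} : Set C).ncard ≤ (Subgroup.closure k : Set C).ncard := by
    refine Set.ncard_le_ncard ?_ (Set.toFinite _)
    rintro x (rfl | rfl | rfl)
    · exact one_mem _
    · exact Subgroup.subset_closure (Set.mem_insert _ _)
    · exact Subgroup.subset_closure (Set.mem_insert_of_mem _ rfl)
  rw [h3, ← Nat.card_coe_set_eq] at h4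
  simp only [SetLike.coe_sort_coe] at h4
  omega

/-- Let X be a finite group and P a standard subgroup of X whose centralizer has 2-rank at most 1 and whose centre has odd order. Let S be a Sylow 2-subgroup of N_X(P) and t an involution of S centralizing P. Suppose some element g of X normalizes S, does not lie in S, has its square in S, and conjugates t into P·C_X(P). Then P commutes elementwise with the largest normal odd-order subgroup O(X) of X; consequently every t-invariant 2-component of X containing P is quasisimple. -/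
theorem result {X : Type*} [Group X] [Finite X] (P : Subgroup X) (hP : Cfsg.IsStandardSubgroup P)
    (hr : Cfsg.PRankLE 2 1 ↥(Subgroup.centralizer (P : Set X))) (hZ : Odd (Nat.card ↥(Subgroup.center ↥P)))
    (S : Sylow 2 ↥(Subgroup.normalizer (P : Set X))) (t : X) (ht : orderOf t = 2) (htS : t ∈ (S : Subgroup ↥(Subgroup.normalizer (P : Set X))).map (Subgroup.normalizer (P : Set X)).subtype)
    (htP : t ∈ Subgroup.centralizer (P : Set X))
    (g : X) (hgN : ∀ s ∈ (S : Subgroup ↥(Subgroup.normalizer (P : Set X))).map (Subgroup.normalizer (P : Set X)).subtype, g * s * g⁻¹ ∈ (S : Subgroup ↥(Subgroup.normalizer (P : Set X))).map (Subgroup.normalizer (P : Set X)).subtype)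
    (hgS : g ∉ (S : Subgroup ↥(Subgroup.normalizer (P : Set X))).map (Subgroup.normalizer (P : Set X)).subtype) (hg2 : g ^ 2 ∈ (S : Subgroup ↥(Subgroup.normalizer (P : Set X))).map (Subgroup.normalizer (P : Set X)).subtype)
    (hgt : g * t * g⁻¹ ∈ P ⊔ Subgroup.centralizer (P : Set X)) :
    ⁅P, Cfsg.oddCore X⁆ = ⊥ ∧
      ∀ L : Subgroup X, Cfsg.IsPComponent 2 L → P ≤ L → (∀ l ∈ L, t * l * t⁻¹ ∈ L) → Cfsg.IsQuasisimple ↥L := by
  obtain ⟨hqs, ⟨_, hte⟩, _, hNC⟩ := hP
  set C := Subgroup.centralizer (P : Set X) with hC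
  set Sb := (S : Subgroup (Subgroup.normalizer (P : Set X))).map (Subgroup.normalizer (P : Set X)).subtype with hSb
  set O := Cfsg.oddCore X with hO
  have hOodd : Odd (Nat.card O) := Cfsg.Agent.Cores.odd_card_oddCore
  haveI hOn : O.Normal := by rw [hO]; infer_instance
  have hCN : C ≤ (Subgroup.normalizer (P : Set X)) := Subgroup.centralizer_le_normalizer _
  have hPN : P ≤ (Subgroup.normalizer (P : Set X)) := Subgroup.le_normalizer
  have hSN : Sb ≤ (Subgroup.normalizer (P : Set X)) := Subgroup.map_subtype_le _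
  have hPC : ∀ x ∈ P, ∀ c ∈ C, x * c = c * x := fun x hx c hc =>
    Subgroup.mem_centralizer_iff.mp hc x hx
  have hconjC : ∀ x ∈ (Subgroup.normalizer (P : Set X)), ∀ c ∈ C, x * c * x⁻¹ ∈ C := by
    intro x hx c hc
    rw [hNC] at hx
    exact (Subgroup.mem_normalizer_iff.mp hx c).mp hc
  have hconjP : ∀ x ∈ (Subgroup.normalizer (P : Set X)), ∀ c ∈ P, x * c * x⁻¹ ∈ P := fun x hx c hc =>
    (Subgroup.mem_normalizer_iff.mp hx c).mp hc
  have ht2 : t * t = 1 := by rw [← pow_two, ← ht, pow_orderOf_eq_one]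
  have ht1 : t ≠ 1 := fun h => by rw [h, orderOf_one] at ht; omega
  have hinv : ∀ a k : X, a * a = 1 → (a * k * a = k ↔ a * k = k * a) := by
    intro a k ha
    constructor
    · intro h
      calc a * k = a * k * (a * a) := by rw [ha, mul_one]
        _ = k * a := by rw [← mul_assoc, h]
    · intro h
      rw [h, mul_assoc, ha, mul_one]
  have hTN : ∀ x, t * x = x * t → x ∈ (Subgroup.normalizer (P : Set X)) := by
    intro x hx
    rw [hNC]
    by_contra h
    have hodd := hte x h
    have hmem : t ∈ C ⊓ C.map (MulAut.conj x).toMonoidHom :=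
      ⟨htP, ⟨t, htP, by
        show x * t * x⁻¹ = t
        rw [← hx, mul_inv_cancel_right]⟩⟩
    exact ht1 (Cfsg.Agent.H92.eq_one_of_sq_eq_one_odd hodd hmem ht2)
  have hSp : IsPGroup 2 Sb := S.isPGroup'.map _
  set Q := Sb ⊓ C with hQ
  have hQp : IsPGroup 2 Q := hSp.to_le inf_le_left
  haveI : Nontrivial Q := (Subgroup.nontrivial_iff_ne_bot Q).mpr fun h =>
    ht1 (Subgroup.mem_bot.mp (h ▸ (⟨htS, htP⟩ : t ∈ Q)))
  haveI := hQp.center_nontrivial
  obtain ⟨k, hk⟩ := IsPGroup.iff_card.mp (hQp.to_subgroup (Subgroup.center Q))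
  have hk0 : k ≠ 0 := fun h => by
    rw [h, pow_zero] at hk
    exact absurd hk (Finite.one_lt_card (α := Subgroup.center Q)).ne'
  obtain ⟨z, hz⟩ := exists_prime_orderOf_dvd_card' (G := Subgroup.center Q) 2
    (hk ▸ dvd_pow_self 2 hk0)
  have hz2 : ((z : Q) : X) * ((z : Q) : X) = 1 := by
    have : z * z = 1 := by rw [← pow_two, ← hz, pow_orderOf_eq_one]
    exact congrArg (fun u : Subgroup.center Q => ((u : Q) : X)) this
  have hz1 : ((z : Q) : X) ≠ 1 := fun h => by
    have : z = 1 := Subtype.ext (Subtype.ext h)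
    rw [this, orderOf_one] at hz
    omega
  have huniq : ∀ u ∈ Q, u * u = 1 → u ≠ 1 → u = ((z : Q) : X) := fun u hu h2 h1 =>
    eq_of_rank_one hr hu.2 (z : Q).2.2 h2 hz2
      (congrArg Subtype.val (Subgroup.mem_center_iff.mp z.2 ⟨u, hu⟩)) h1 hz1
  have hcent : ∀ s ∈ Sb, s * t = t * s := by
    intro s hs
    have h1 : s * t * s⁻¹ = t :=
      (huniq _ ⟨Sb.mul_mem (Sb.mul_mem hs htS) (Sb.inv_mem hs), hconjC s (hSN hs) t htP⟩
        (by simp [mul_assoc, ← mul_assoc t t, ht2])
        (fun h => ht1 (conj_eq_one_iff.mp h))).trans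
        (huniq t ⟨htS, htP⟩ ht2 ht1).symm
    exact mul_inv_eq_iff_eq_mul.mp h1
  set t' := g * t * g⁻¹ with ht'
  have ht'S : t' ∈ Sb := hgN t htS
  have ht'2 : t' * t' = 1 := by simp [ht', mul_assoc, ← mul_assoc t t, ht2]
  have ht't : t' * t = t * t' := hcent _ ht'S
  have hne : t' ≠ t := by
    intro h
    have hgt' : t * g = g * t := by
      conv_lhs => rw [← h, ht', inv_mul_cancel_right]
    have hgN' : g ∈ (Subgroup.normalizer (P : Set X)) := hTN g hgt'
    let gN : (Subgroup.normalizer (P : Set X)) := ⟨g, hgN'⟩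
    have hgS' : gN ∈ Subgroup.normalizer ((S : Subgroup (Subgroup.normalizer (P : Set X))) : Set (Subgroup.normalizer (P : Set X))) := by
      apply mem_normalizer_of_map_conj_eq
      refine Subgroup.eq_of_le_of_card_ge ?_
        (Nat.card_congr ((S : Subgroup (Subgroup.normalizer (P : Set X))).equivMapOfInjective _
          (MulAut.conj gN).injective).toEquiv).le
      rintro _ ⟨s, hs, rfl⟩
      obtain ⟨s', hs', e⟩ := hgN (s : X) ⟨s, hs, rfl⟩
      have : s' = gN * s * gN⁻¹ := Subtype.ext e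
      show gN * s * gN⁻¹ ∈ (S : Subgroup _)
      rw [← this]
      exact hs'
    have hgp : IsPGroup 2 (Subgroup.zpowers gN) := by
      obtain ⟨s, hs, e⟩ := hg2
      have e' : gN ^ 2 = s := Subtype.ext e.symm
      obtain ⟨m, hm⟩ := S.isPGroup' ⟨s, hs⟩
      have hm' : s ^ 2 ^ m = 1 := congrArg Subtype.val hm
      rintro ⟨y, j, rfl⟩
      refine ⟨m + 1, Subtype.ext ?_⟩
      show (gN ^ j) ^ 2 ^ (m + 1) = 1
      rw [← zpow_natCast, ← zpow_mul, mul_comm, zpow_mul, zpow_natCast, pow_succ', pow_mul, e',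
        hm', one_zpow]
    have hsup := IsPGroup.to_sup_of_normal_left' S.isPGroup' hgp (Subgroup.zpowers_le.mpr hgS')
    have hle := S.is_maximal' hsup le_sup_left
    exact hgS ⟨gN, hle.le (Subgroup.mem_sup_right (Subgroup.mem_zpowers gN)), rfl⟩
  obtain ⟨p, hp, c, hc, hpc⟩ : ∃ p ∈ P, ∃ c ∈ C, t' = p * c := by
    have hle : P ⊔ C ≤
        { carrier := {x | ∃ p ∈ P, ∃ c ∈ C, x = p * c}
          one_mem' := ⟨1, P.one_mem, 1, C.one_mem, (one_mul 1).symm⟩
          mul_mem' := by
            rintro _ _ ⟨p, hp, c, hc, rfl⟩ ⟨q, hq, d, hd, rfl⟩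
            refine ⟨p * q, P.mul_mem hp hq, c * d, C.mul_mem hc hd, ?_⟩
            rw [mul_assoc, ← mul_assoc c q, ← hPC q hq c hc]
            group
          inv_mem' := by
            rintro _ ⟨p, hp, c, hc, rfl⟩
            refine ⟨p⁻¹, P.inv_mem hp, c⁻¹, C.inv_mem hc, ?_⟩
            rw [hPC p hp c hc]
            group } := by
      refine sup_le (fun x hx => ⟨x, hx, 1, C.one_mem, (mul_one x).symm⟩)
        (fun x hx => ⟨1, P.one_mem, x, hx, (one_mul x).symm⟩)
    exact hle hgt
  -- make both factors involutions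
  set ZP := (Subgroup.center P).map P.subtype with hZP
  have hZodd : Odd (Nat.card ZP) := by
    rwa [hZP, Subgroup.card_subtype]
  have hcp : c * p = p * c := (hPC p hp c hc).symm
  have hpp : p * p * (c * c) = 1 := by
    rw [← ht'2, hpc, mul_assoc p c, ← mul_assoc c p, hcp]
    group
  have hppC : p * p ∈ C := by
    rw [eq_inv_of_mul_eq_one_left hpp]
    exact C.inv_mem (C.mul_mem hc hc)
  have hppZ : p * p ∈ ZP :=
    ⟨⟨p * p, P.mul_mem hp hp⟩, Subgroup.mem_center_iff.mpr fun y =>
      Subtype.ext (hPC y y.2 _ hppC), rfl⟩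
  obtain ⟨r, hr'⟩ := Cfsg.Agent.H92.exists_sqrt_mem hZodd hppZ
  set w := (p * p) ^ r with hw
  have hwP : w ∈ P := P.pow_mem (P.mul_mem hp hp) r
  have hwC : w ∈ C := C.pow_mem hppC r
  have hwp : p * w = w * p := hPC p hp w hwC
  set p₀ := p * w⁻¹ with hp₀
  set c₀ := w * c with hc₀
  have hp₀P : p₀ ∈ P := P.mul_mem hp (P.inv_mem hwP)
  have hc₀C : c₀ ∈ C := C.mul_mem hwC hc
  have hpc₀ : t' = p₀ * c₀ := by rw [hpc, hp₀, hc₀]; group
  have hp₀2 : p₀ * p₀ = 1 := by
    calc p₀ * p₀ = p * (w⁻¹ * p) * w⁻¹ := by rw [hp₀]; group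
      _ = p * (p * w⁻¹) * w⁻¹ := by rw [((show Commute p w from hwp).inv_right).eq]
      _ = p * p * (w * w)⁻¹ := by group
      _ = 1 := by rw [hr', mul_inv_cancel]
  have hcp₀ : c₀ * p₀ = p₀ * c₀ := (hPC p₀ hp₀P c₀ hc₀C).symm
  have hc₀2 : c₀ * c₀ = 1 := by
    calc c₀ * c₀ = (p₀ * p₀) * (c₀ * c₀) := by rw [hp₀2, one_mul]
      _ = p₀ * (p₀ * c₀) * c₀ := by group
      _ = p₀ * (c₀ * p₀) * c₀ := by rw [hcp₀]
      _ = (p₀ * c₀) * (p₀ * c₀) := by group
      _ = 1 := by rw [← hpc₀, ht'2]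
  have htp₀ : p₀ * t = t * p₀ := hPC p₀ hp₀P t htP
  have htc₀ : c₀ * t = t * c₀ := by
    have h1 : c₀ = p₀ * t' := by rw [hpc₀, ← mul_assoc, hp₀2, one_mul]
    rw [h1, mul_assoc, ht't, ← mul_assoc, htp₀, mul_assoc]
  have hc₀' : c₀ = 1 ∨ c₀ = t :=
    or_iff_not_imp_left.mpr fun h => eq_of_rank_one hr hc₀C htP hc₀2 ht2 htc₀ h ht1
  have hp₀1 : p₀ ≠ 1 := by
    intro h
    rw [h, one_mul] at hpc₀
    rcases hc₀' with h' | h'
    · rw [h'] at hpc₀
      exact ht1 (conj_eq_one_iff.mp hpc₀)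
    · exact hne (hpc₀.trans h')
  have hPeven : ∀ W : Subgroup X, Odd (Nat.card W) → ¬ P ≤ W := fun W hW hle =>
    hp₀1 (Cfsg.Agent.H92.eq_one_of_sq_eq_one_odd hW (hle hp₀P) hp₀2)
  have hp₀Z : p₀ ∉ ZP := fun h => hp₀1 (Cfsg.Agent.H92.eq_one_of_sq_eq_one_odd hZodd h hp₀2)
  -- the centraliser of `t` on the odd core
  have hCOt : ∀ o ∈ O, t * o = o * t → ∀ x ∈ P, x * o = o * x := by
    set W := O ⊓ Subgroup.centralizer ({t} : Set X) with hW
    have hWN : W ≤ (Subgroup.normalizer (P : Set X)) := fun o ho => hTN o (Subgroup.mem_centralizer_iff.mp ho.2 t rfl)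
    have hPW : P ≤ Subgroup.normalizer (W : Set X) := by
      refine le_trans (le_inf (le_normalizer_of_normal P) (le_trans ?_
        Subgroup.le_normalizer)) Subgroup.inf_normalizer_le_normalizer_inf
      intro x hx
      rw [Subgroup.mem_centralizer_iff]
      rintro y rfl
      exact (hPC x hx y htP).symm
    have h1 : ⁅P, W⁆ ≤ P ⊓ W := by
      refine le_inf ?_ (commutator_le_of_le_normalizer hPW)
      rw [Subgroup.commutator_comm]
      exact commutator_le_of_le_normalizer hWN
    have h2 : ⁅P, P ⊓ W⁆ = ⊥ := (qsSub_normal hqs hPW).resolve_left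
      (hPeven W (hOodd.of_dvd_nat (Subgroup.card_dvd_of_le inf_le_left)))
    have h3 : ⁅P, W⁆ = ⊥ := commutator_eq_bot_of_perfect (qsSub_perfect hqs) (le_bot_iff.mp
      ((Subgroup.commutator_mono h1 le_rfl).trans (by rw [Subgroup.commutator_comm, h2])))
    intro o ho hto x hx
    refine commute_of_commutator_eq_bot h3 hx ⟨ho, Subgroup.mem_centralizer_iff.mpr ?_⟩
    rintro y rfl
    exact hto
  have hincl : ∀ o ∈ O, t * o = o * t → t' * o = o * t' := by
    intro o ho hto
    have h1 : c₀ * o = o * c₀ := by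
      rcases hc₀' with h' | h' <;> rw [h']
      · rw [one_mul, mul_one]
      · exact hto
    calc t' * o = p₀ * (c₀ * o) := by rw [hpc₀, mul_assoc]
      _ = (p₀ * o) * c₀ := by rw [h1, ← mul_assoc]
      _ = o * t' := by rw [hCOt o ho hto p₀ hp₀P, hpc₀, mul_assoc]
  have hsame : ∀ o ∈ O, t' * o = o * t' → t * o = o * t := by
    set W := O ⊓ Subgroup.centralizer ({t} : Set X) with hW
    set W' := O ⊓ Subgroup.centralizer ({t'} : Set X) with hW'
    have hWW' : W ≤ W' := by
      intro o ho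
      refine ⟨ho.1, Subgroup.mem_centralizer_iff.mpr ?_⟩
      rintro y rfl
      exact hincl o ho.1 (Subgroup.mem_centralizer_iff.mp ho.2 t rfl)
    have hW'W : W' ≤ W.map (MulAut.conj g).toMonoidHom := by
      intro o ho
      refine ⟨g⁻¹ * o * g, ⟨by simpa using hOn.conj_mem o ho.1 g⁻¹,
        Subgroup.mem_centralizer_iff.mpr ?_⟩, by simp [mul_assoc]⟩
      rintro y rfl
      have := Subgroup.mem_centralizer_iff.mp ho.2 t' rfl
      calc y * (g⁻¹ * o * g) = g⁻¹ * (t' * o) * g := by rw [ht']; group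
        _ = g⁻¹ * o * g * y := by rw [this, ht']; group
    have hcard : Nat.card W' ≤ Nat.card W :=
      (Subgroup.card_le_of_le hW'W).trans (Nat.card_congr
        (W.equivMapOfInjective _ (MulAut.conj g).injective).symm.toEquiv).le
    have heq : W = W' := Subgroup.eq_of_le_of_card_ge hWW' hcard
    intro o ho hto
    have hoW : o ∈ W' := ⟨ho, Subgroup.mem_centralizer_iff.mpr <| by
      rintro y rfl
      exact hto⟩
    rw [← heq] at hoW
    exact Subgroup.mem_centralizer_iff.mp hoW.2 t rfl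
  have hfix : ∀ a : X, a * a = 1 → ∀ k ∈ O, a * k * a ∈ O := by
    intro a ha k hk
    simpa [inv_eq_of_mul_eq_one_right ha] using hOn.conj_mem k hk a
  have hmain : P ≤ Subgroup.centralizer (O : Set X) := by
    by_contra hnot
    have hnorm : P ≤ Subgroup.normalizer ((Subgroup.centralizer (O : Set X) : Subgroup X) : Set X) :=
      le_normalizer_of_normal P
    have hbot : ⁅P, P ⊓ Subgroup.centralizer (O : Set X)⁆ = ⊥ :=
      (qsSub_normal hqs hnorm).resolve_left hnot
    rcases hc₀' with h' | h'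
    · -- `t' = p₀`: then `t * p₀` centralises `O`
      rw [h', mul_one] at hpc₀
      have htz : (t * p₀) * (t * p₀) = 1 := by
        calc (t * p₀) * (t * p₀) = t * (p₀ * t) * p₀ := by group
          _ = 1 := by rw [htp₀, ← mul_assoc t t, ht2, one_mul, hp₀2]
      have hall := Cfsg.Agent.H92.commute_of_fours (K := O) hOodd (b := t) (z := t * p₀) ht2 htz
        (by rw [mul_assoc t p₀ t, htp₀]) (hfix t ht2) (hfix _ htz)
        (fun o ho hto => by
          have e1 := (hinv t o ht2).mp hto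
          rw [hinv _ o htz, mul_assoc, hCOt o ho e1 p₀ hp₀P, ← mul_assoc, e1, mul_assoc])
        (fun o ho hto => by
          have e : t * (t * p₀) = p₀ := by rw [← mul_assoc, ht2, one_mul]
          rw [e, hinv p₀ o hp₀2] at hto
          have e1 : t * o = o * t := hsame o ho (by rw [hpc₀]; exact hto)
          rw [hinv _ o htz, mul_assoc, hto, ← mul_assoc, e1, mul_assoc])
      set a := t * p₀ with ha
      have haC : a ∈ Subgroup.centralizer (O : Set X) :=
        Subgroup.mem_centralizer_iff.mpr fun o ho => ((hinv a o htz).mp (hall o ho)).symm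
      have hCn : (Subgroup.centralizer (O : Set X)).Normal := inferInstance
      apply hp₀Z
      refine ⟨⟨p₀, hp₀P⟩, mem_center_of_comm_mem hqs.1 fun x => ?_, rfl⟩
      have hxt : t⁻¹ * (x : X)⁻¹ = (x : X)⁻¹ * t⁻¹ := by
        rw [← mul_inv_rev, ← mul_inv_rev, hPC x x.2 t htP]
      have e : p₀ * (x : X) * p₀⁻¹ * (x : X)⁻¹ = t * (a * ((x : X) * a⁻¹ * (x : X)⁻¹)) * t⁻¹ := by
        have hp : p₀ = t * a := by rw [ha, ← mul_assoc, ht2, one_mul]
        rw [hp]
        calc t * a * (x : X) * (t * a)⁻¹ * (x : X)⁻¹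
            = t * a * (x : X) * a⁻¹ * (t⁻¹ * (x : X)⁻¹) := by group
          _ = _ := by rw [hxt]; group
      rw [Subgroup.mem_center_iff]
      intro y
      refine Subtype.ext (commute_of_commutator_eq_bot hbot y.2 ⟨SetLike.coe_mem _, ?_⟩)
      show p₀ * (x : X) * p₀⁻¹ * (x : X)⁻¹ ∈ Subgroup.centralizer (O : Set X)
      rw [e]
      exact hCn.conj_mem _ (mul_mem haC (hCn.conj_mem _ (inv_mem haC) _)) t
    · -- `t' = p₀ * t`: then `p₀` centralises `O`
      rw [h'] at hpc₀
      have hall := Cfsg.Agent.H92.commute_of_fours (K := O) hOodd (b := t) (z := p₀) ht2 hp₀2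
        htp₀.symm (hfix t ht2) (hfix _ hp₀2)
        (fun o ho hto => by
          rw [hinv p₀ o hp₀2]
          exact hCOt o ho ((hinv t o ht2).mp hto) p₀ hp₀P)
        (fun o ho hto => by
          rw [← htp₀, ← hpc₀, hinv t' o ht'2] at hto
          rw [hinv p₀ o hp₀2]
          exact hCOt o ho (hsame o ho hto) p₀ hp₀P)
      apply hp₀Z
      refine ⟨⟨p₀, hp₀P⟩, Subgroup.mem_center_iff.mpr fun x =>
        Subtype.ext (commute_of_commutator_eq_bot hbot x.2
          ⟨hp₀P, Subgroup.mem_centralizer_iff.mpr ?_⟩), rfl⟩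
      exact fun o ho => ((hinv p₀ o hp₀2).mp (hall o ho)).symm
  refine ⟨Subgroup.commutator_eq_bot_iff_le_centralizer.mpr hmain, fun L hL hPL _ => ?_⟩
  set A := L ⊓ Subgroup.centralizer (O : Set X) with hA
  have hAs : A.IsSubnormal :=
    .step _ _ inf_le_left hL.1 ((Subgroup.normal_subgroupOf_iff_le_normalizer inf_le_left).mpr
      (le_trans (le_inf Subgroup.le_normalizer (le_normalizer_of_normal L))
        Subgroup.inf_normalizer_le_normalizer_inf))
  rcases component_le_or_commutator_eq_bot hL.2.1 (K := A.map (qmap 2 X))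
      (hAs.map qmap_surjective) with h | h
  · have hLA : L ≤ A := (pComponent_le_iff hL hAs).mpr h
    exact (quasisimple_iff_commutator_core hL).mpr
      (Subgroup.commutator_eq_bot_iff_le_centralizer.mpr (hLA.trans inf_le_right))
  · exfalso
    refine hPeven O hOodd ?_
    rw [← qsSub_perfect hqs]
    refine le_trans ?_ (ker_qmap (p := 2) (G := X)).le
    rw [← Subgroup.map_eq_bot_iff, Subgroup.map_commutator]
    exact le_bot_iff.mp ((Subgroup.commutator_mono (Subgroup.map_mono hPL)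
      (Subgroup.map_mono (le_inf hPL hmain))).trans h.le)

end Cfsg.Agent.S3153
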