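import Cfsg.Statements.S3154
import Cfsg.Agent.H63.L34Split

set_option autoImplicit false
open Cfsg

namespace Cfsg.Agent.S3154

/-- Let X be a finite quasisimple group whose centre is an elementary abelian 2-group and whose central quotient is isomorphic to the projective special linear group of dimension 3 over the field with 4 elements. Let T be a Sylow 2-subgroup of X and H ≠ K subgroups of T containing the centre Z(X) whose images in X/Z(X) are elementary abelian of order 16 (the two such subgroups of a Sylow 2-subgroup of the quotient). Then H and K are elementary abelian, H ∩ K is the centre of the subgroup they generate, and each of N_X(H), N_X(K) is a split extension of H, respectively K, by the projective special linear group of dimension 2 over the field with 4 elements (there is a complement isomorphic to that group). -/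
theorem result {X : Type*} [Group X] [Finite X] (hq : Cfsg.IsQuasisimple X) (hZ : Cfsg.IsElementaryAbelian 2 (Subgroup.center X))
    {F : Type*} [Field F] [Fintype F] (hF : Fintype.card F = 4) (hXL : Nonempty ((X ⧸ Subgroup.center X) ≃* Matrix.ProjectiveSpecialLinearGroup (Fin 3) F))
    (T : Sylow 2 X) (H K : Subgroup X) (hHK : H ≠ K) (hHT : H ≤ T) (hKT : K ≤ T) (hZH : Subgroup.center X ≤ H) (hZK : Subgroup.center X ≤ K)
    (hH : Cfsg.IsElementaryAbelian 2 (H.map (QuotientGroup.mk' (Subgroup.center X))) ∧ Nat.card ↥(H.map (QuotientGroup.mk' (Subgroup.center X))) = 16)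
    (hK : Cfsg.IsElementaryAbelian 2 (K.map (QuotientGroup.mk' (Subgroup.center X))) ∧ Nat.card ↥(K.map (QuotientGroup.mk' (Subgroup.center X))) = 16) :
    Cfsg.IsElementaryAbelian 2 H ∧ Cfsg.IsElementaryAbelian 2 K ∧
      H ⊓ K = (Subgroup.center ↥(H ⊔ K)).map (H ⊔ K).subtype ∧
      (∃ C : Subgroup X, C ≤ Subgroup.normalizer (H : Set X) ∧ C ⊓ H = ⊥ ∧ H ⊔ C = Subgroup.normalizer (H : Set X) ∧
        Nonempty (↥C ≃* Matrix.ProjectiveSpecialLinearGroup (Fin 2) F)) ∧
      (∃ C : Subgroup X, C ≤ Subgroup.normalizer (K : Set X) ∧ C ⊓ K = ⊥ ∧ K ⊔ C = Subgroup.normalizer (K : Set X) ∧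
        Nonempty (↥C ≃* Matrix.ProjectiveSpecialLinearGroup (Fin 2) F)) := by
  classical
  haveI : Fact (Nat.Prime 2) := ⟨Nat.prime_two⟩
  obtain ⟨e⟩ := hXL
  set Z := Subgroup.center X with hZdef
  let σ0 : X →* Matrix.ProjectiveSpecialLinearGroup (Fin 3) F :=
    e.toMonoidHom.comp (QuotientGroup.mk' Z)
  have hσ0 : Function.Surjective σ0 := e.surjective.comp (QuotientGroup.mk'_surjective _)
  haveI : Finite (Matrix.ProjectiveSpecialLinearGroup (Fin 3) F) := Finite.of_surjective σ0 hσ0
  -- move the Sylow subgroup to the unitriangular one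
  let U := H92.L34.U (F := F)
  have hUp : IsPGroup 2 U := by
    rintro ⟨x, a, b, c, rfl⟩
    refine ⟨2, Subtype.ext ?_⟩
    have := H92.L34.charP_two hF
    have h2 : ∀ x : F, x + x = 0 := CharTwo.add_self_eq_zero
    show (H92.L34.m a b c) ^ (2 ^ 2) = (1 : Matrix.ProjectiveSpecialLinearGroup (Fin 3) F)
    rw [show (2 : ℕ) ^ 2 = 2 + 2 from rfl, pow_add, pow_two, H92.L34.m_mul, H92.L34.m_mul]
    simp [h2, H92.L34.m_zero]
  let US : Sylow 2 (Matrix.ProjectiveSpecialLinearGroup (Fin 3) F) :=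
    hUp.toSylow (H92.L34.odd_index_U hF).not_two_dvd_nat
  obtain ⟨g, hg⟩ := MulAction.exists_smul_eq (Matrix.ProjectiveSpecialLinearGroup (Fin 3) F)
    (T.mapSurjective hσ0) US
  let σ : X →* Matrix.ProjectiveSpecialLinearGroup (Fin 3) F := (MulAut.conj g).toMonoidHom.comp σ0
  have hσ : Function.Surjective σ := (MulAut.conj g).surjective.comp hσ0
  have hker : σ.ker = Z := by
    ext x
    simp [σ, σ0, MonoidHom.mem_ker]
  have hT : (T : Subgroup X).map σ ≤ U := by
    have h1 : ((g • T.mapSurjective hσ0 : Sylow 2 _) : Subgroup _) = U := by rw [hg]; rfl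
    rw [← h1, Sylow.coe_subgroup_smul]
    rintro _ ⟨x, hx, rfl⟩
    exact ⟨σ0 x, ⟨x, hx, rfl⟩, rfl⟩
  have hsqZ : ∀ z ∈ σ.ker, z * z = 1 := fun z hz => by
    rw [← pow_two]; exact hZ.2 z (hker ▸ hz)
  -- each of the two subgroups is one of the standard ones
  have hid : ∀ J : Subgroup X, J ≤ T → Z ≤ J →
      (Cfsg.IsElementaryAbelian 2 (J.map (QuotientGroup.mk' Z)) ∧
        Nat.card ↥(J.map (QuotientGroup.mk' Z)) = 16) →
      J = (H63.L34Split.A1).comap σ ∨ J = (H63.L34Split.A2).comap σ := by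
    intro J hJT hZJ hJ
    let f : X ⧸ Z →* Matrix.ProjectiveSpecialLinearGroup (Fin 3) F :=
      (MulAut.conj g).toMonoidHom.comp e.toMonoidHom
    have hf : Function.Injective f := (MulAut.conj g).injective.comp e.injective
    have hmap : J.map σ = (J.map (QuotientGroup.mk' Z)).map f := by
      rw [Subgroup.map_map]; rfl
    have hback : (J.map σ).comap σ = J := by
      rw [Subgroup.comap_map_eq, hker, sup_eq_left.2 hZJ]
    have hsq : ∀ x ∈ J.map σ, x * x = 1 := by
      rw [hmap]
      rintro _ ⟨y, hy, rfl⟩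
      rw [← map_mul, ← pow_two, hJ.1.2 y hy, map_one]
    have hc : Nat.card ↥(J.map σ) = 16 := by
      rw [hmap, Subgroup.card_map_of_injective hf, hJ.2]
    rcases H63.L34Split.eq_A1_or_A2 hF (J.map σ) ((Subgroup.map_mono hJT).trans hT) hsq hc with h | h
    · exact Or.inl (by rw [← h, hback])
    · exact Or.inr (by rw [← h, hback])
  obtain ⟨c1, s1, c2, s2, hcen, hC1, hC2⟩ :=
    H63.L34Split.main hF σ hσ (le_of_eq hker) hsqZ
  have e1 : Cfsg.IsElementaryAbelian 2 ((H63.L34Split.A1).comap σ) :=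
    ⟨⟨⟨fun a b => Subtype.ext (c1 _ _ a.2 b.2).eq⟩⟩, fun a ha => by rw [pow_two]; exact s1 a ha⟩
  have e2 : Cfsg.IsElementaryAbelian 2 ((H63.L34Split.A2).comap σ) :=
    ⟨⟨⟨fun a b => Subtype.ext (c2 _ _ a.2 b.2).eq⟩⟩, fun a ha => by rw [pow_two]; exact s2 a ha⟩
  rcases hid H hHT hZH hH with rfl | rfl <;> rcases hid K hKT hZK hK with rfl | rfl
  · exact absurd rfl hHK
  · exact ⟨e1, e2, hcen, hC1, hC2⟩
  · refine ⟨e2, e1, ?_, hC2, hC1⟩
    rw [inf_comm, sup_comm]
    exact hcen
  · exact absurd rfl hHK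

end Cfsg.Agent.S3154
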