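import Cfsg.Statements.S3155
import Mathlib.LinearAlgebra.Matrix.ToLin
import Mathlib.LinearAlgebra.Matrix.Determinant.Basic
import Mathlib.Algebra.Module.ZMod

set_option autoImplicit false
open Cfsg

namespace Cfsg.Agent.S3155

/-- No matrix over `ZMod 4` of size 3 squares to `-1`. -/
theorem mat_sq_ne (M : Matrix (Fin 3) (Fin 3) (ZMod 4)) : M * M ≠ -1 := by
  intro h
  have h1 := congrArg Matrix.det h
  rw [Matrix.det_mul, Matrix.det_neg, Matrix.det_one, Fintype.card_fin] at h1
  have key : ∀ d : ZMod 4, d * d ≠ (-1) ^ 3 * 1 := by decide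
  exact key _ h1

/-- Let B be the direct product of three cyclic groups of order 4. Then the automorphism of B inverting every element is not the square of any automorphism of B. -/
theorem result {B : Type*} [CommGroup B] [Finite B] (hB : Nonempty (B ≃* Multiplicative (ZMod 4 × ZMod 4 × ZMod 4)))
    (τ : B ≃* B) : τ.trans τ ≠ MulEquiv.inv B := by
  intro h
  obtain ⟨e⟩ := hB
  let E : Additive B ≃+ (ZMod 4 × ZMod 4 × ZMod 4) := MulEquiv.toAdditiveLeft e
  let P : (ZMod 4 × ZMod 4 × ZMod 4) ≃+ (Fin 3 → ZMod 4) :=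
    { toFun := fun v => ![v.1, v.2.1, v.2.2]
      invFun := fun w => (w 0, w 1, w 2)
      left_inv := fun v => by simp
      right_inv := fun w => by ext i; fin_cases i <;> rfl
      map_add' := fun v w => by ext i; fin_cases i <;> rfl }
  let F : Additive B ≃+ (Fin 3 → ZMod 4) := E.trans P
  let f : (Fin 3 → ZMod 4) →+ (Fin 3 → ZMod 4) :=
    (F.toAddMonoidHom.comp (MulEquiv.toAdditive τ).toAddMonoidHom).comp F.symm.toAddMonoidHom
  let L : (Fin 3 → ZMod 4) →ₗ[ZMod 4] (Fin 3 → ZMod 4) := f.toZModLinearMap 4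
  have hs : ∀ a : Additive B, MulEquiv.toAdditive τ (MulEquiv.toAdditive τ a) = -a := by
    intro a
    exact congrArg Additive.ofMul (DFunLike.congr_fun h (Additive.toMul a))
  have hL : L.comp L = -LinearMap.id := by
    apply LinearMap.ext
    intro v
    show f (f v) = -v
    simp only [f, AddMonoidHom.comp_apply, AddEquiv.coe_toAddMonoidHom, AddEquiv.symm_apply_apply]
    rw [hs, map_neg, AddEquiv.apply_symm_apply]
  refine mat_sq_ne (LinearMap.toMatrix' L) ?_
  rw [← LinearMap.toMatrix'_comp, hL, map_neg, LinearMap.toMatrix'_id]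

end Cfsg.Agent.S3155
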