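import Cfsg.Statements.S3156
import Mathlib
import Cfsg.Agent.H33.SylU.Transfer

set_option autoImplicit false
open Cfsg

namespace Cfsg.Agent.S3156

open Cfsg.Agent.H33.SylU

theorem no_s3_model {F : Type} [Field F] [Fintype F] [QField F 2]
    (H : Subgroup (MulAut (Heis F 2))) : ¬ Nonempty (↥H ≃* Equiv.Perm (Fin 3)) := by
  rintro ⟨f⟩
  obtain ⟨x, y, hx, hxne, hy, hxy⟩ : ∃ x y : Equiv.Perm (Fin 3),
      x ^ 3 = 1 ∧ x ≠ 1 ∧ y ^ 2 = 1 ∧ y * x = x⁻¹ * y :=
    ⟨Equiv.swap 0 1 * Equiv.swap 1 2, Equiv.swap 0 1, by decide, by decide, by decide, by decide⟩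
  let ι : Equiv.Perm (Fin 3) →* MulAut (Heis F 2) := H.subtype.comp f.symm.toMonoidHom
  have hι : Function.Injective ι := H.subtype_injective.comp f.symm.injective
  have hcard : Nat.card (F ≃+* F) = 4 := (ringEquiv_card (F := F)).1
  have hτ4 : tau (ι x) ^ 4 = 1 := by rw [← hcard]; exact pow_card_eq_one'
  have hτ3 : tau (ι x) ^ 3 = 1 := by rw [← tau_pow, ← map_pow, hx, map_one, tau_one]
  have hτx : tau (ι x) = 1 := by
    rwa [pow_succ, hτ3, one_mul] at hτ4
  have hl3 : amap (ι x) 1 ^ 3 = 1 := by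
    rw [← lam_pow_of_tau_one hτx, ← map_pow, hx, map_one, amap_one]
  have hτy : tau (ι y) * tau (ι y) = 1 := by
    rw [← tau_mul, ← map_mul, ← sq, hy, map_one, tau_one]
  have hrel : tau (ι y) (amap (ι x) 1) * amap (ι x) 1 = 1 := by
    have e : amap (ι (x * y * x)) 1 = amap (ι y) 1 := by rw [mul_assoc, hxy, mul_inv_cancel_left]
    rw [map_mul, map_mul, lam_mul, lam_mul, tau_mul, hτx, one_mul] at e
    have e2 : amap (ι x) 1 * amap (ι y) 1 * tau (ι y) (amap (ι x) 1) = amap (ι y) 1 := e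
    refine mul_left_cancel₀ (lam_ne_zero (ι y)) ?_
    rw [mul_one]
    linear_combination e2
  have hl : amap (ι x) 1 = 1 := by
    rcases ringEquiv_sq hτy with h | h
    · rw [h] at hrel
      have h2 : amap (ι x) 1 * amap (ι x) 1 = 1 := hrel
      linear_combination hl3 - amap (ι x) 1 * h2
    · rw [h, frobQ_apply, cj2] at hrel
      norm_num at hrel
      have h5 : amap (ι x) 1 ^ 5 = 1 := by rw [pow_succ]; exact hrel
      have h6 : amap (ι x) 1 ^ 6 = 1 := by
        rw [show 6 = 3 * 2 from rfl, pow_mul, hl3, one_pow]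
      rwa [pow_succ, h5, one_mul] at h6
  have hmem : ι x ∈ (toPerm : MulAut (Heis F 2) →* Equiv.Perm F).ker := by
    rw [mem_ker_toPerm]
    intro a
    rw [tau_spec (ι x) a, hl, hτx, one_mul]
    rfl
  have h2 := (ker_elementary (F := F) (n := 2)).2 _ hmem
  have : ι x = 1 := by
    have h3 : ι x ^ 3 = 1 := by rw [← map_pow, hx, map_one]
    rwa [pow_succ, h2, one_mul] at h3
  exact hxne (hι (by rw [this, map_one]))

/-- If a finite group T is isomorphic to a Sylow 2-subgroup of the projective special unitary group of dimension 3 with parameter 4 (realised over the field with 16 elements), then no subgroup of the automorphism group of T is isomorphic to the symmetric group of degree 3. -/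
theorem result {T : Type*} [Group T] [Finite T] (hT : (∃ (F : Type) (_ : Field F) (_ : Fintype F), Fintype.card F = 16 ∧ ∃ S : Sylow 2 (Cfsg.PSU 3 F 4), Nonempty (T ≃* ↥(S : Subgroup (Cfsg.PSU 3 F 4))))) (H : Subgroup (MulAut T)) : ¬ Nonempty (↥H ≃* Equiv.Perm (Fin 3)) := by
  obtain ⟨F, _, _, hF, S, ⟨e⟩⟩ := hT
  have : QField F 2 := ⟨by rw [hF]; norm_num⟩
  obtain ⟨e'⟩ := nonempty_equiv_PSU (F := F) (n := 2) S
  rintro ⟨f⟩
  let c := autCongr (e.trans e'.symm)
  exact no_s3_model (H.map c.toMonoidHom)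
    ⟨(H.equivMapOfInjective c.toMonoidHom c.injective).symm.trans f⟩

end Cfsg.Agent.S3156
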