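import Cfsg.Statements.S3157
import Cfsg.Agent.H63.SixtyFourModel
import Cfsg.Agent.PGroups.TwoGroups

set_option autoImplicit false
open Cfsg

namespace Cfsg.Agent.S3157

open Cfsg.Agent.H63.SixtyFour

/-- Let T be a non-abelian group of order 64 admitting automorphisms ρ of order 3 and x of order 2 with x ρ x⁻¹ = ρ⁻¹ (so they generate a symmetric group of degree 3), where ρ fixes only the identity. Then T is isomorphic to a Sylow 2-subgroup of the projective special linear group of dimension 3 over the field with 4 elements, and the subgroup of fixed points of x is dihedral of order 8 or quaternion of order 8. -/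
theorem result {T : Type*} [Group T] [Finite T] (hT : Nat.card T = 64) (hna : ¬ IsMulCommutative T) (ρ x : MulAut T) (hρ : orderOf ρ = 3) (hx : orderOf x = 2)
    (hxr : x * ρ * x⁻¹ = ρ⁻¹) (hfp : ∀ y : T, ρ y = y → y = 1) (C : Subgroup T) (hC : ∀ y : T, y ∈ C ↔ x y = y) :
    (∃ (F : Type) (_ : Field F) (_ : Fintype F), Fintype.card F = 4 ∧
        ∃ S : Sylow 2 (Matrix.ProjectiveSpecialLinearGroup (Fin 3) F), Nonempty (T ≃* ↥(S : Subgroup (Matrix.ProjectiveSpecialLinearGroup (Fin 3) F)))) ∧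
      (Nonempty (↥C ≃* DihedralGroup 4) ∨ Nonempty (↥C ≃* QuaternionGroup 2)) := by
  classical
  haveI : Fact (Nat.Prime 2) := ⟨Nat.prime_two⟩
  have h3 : ∀ y, ρ (ρ (ρ y)) = y := by
    intro y
    have h := pow_orderOf_eq_one ρ
    rw [hρ] at h
    have := DFunLike.congr_fun h y
    simpa [pow_succ, MulAut.mul_apply] using this
  let d : Dat T := ⟨ρ, h3, hfp, hT, hna⟩
  have hσ : ∀ y, d.σ y = ρ y := fun _ => rfl
  have hxx : ∀ y, x (x y) = y := by
    intro y
    have h := pow_orderOf_eq_one x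
    rw [hx] at h
    have := DFunLike.congr_fun h y
    simpa [pow_succ, MulAut.mul_apply] using this
  have hxρ : ∀ y, x (ρ y) = ρ (ρ (x y)) := by
    intro y
    have h := DFunLike.congr_fun hxr (x y)
    simp only [MulAut.mul_apply] at h
    have hi : x⁻¹ (x y) = y := by
      rw [← MulAut.mul_apply, inv_mul_cancel, MulAut.one_apply]
    rw [hi] at h
    have h' : ρ (x (ρ y)) = x y := by
      rw [h, ← MulAut.mul_apply, mul_inv_cancel, MulAut.one_apply]
    calc x (ρ y) = ρ (ρ (ρ (x (ρ y)))) := (h3 _).symm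
      _ = ρ (ρ (x y)) := by rw [h']
  have hxρρ : ∀ y, x (ρ (ρ y)) = ρ (x y) := by
    intro y; rw [hxρ, hxρ, h3]
  set Z := Subgroup.center T with hZdef
  have hρZ : ∀ w ∈ Z, ρ w ∈ Z := fun w hw => Dat.map_center ρ hw
  have hxZ : ∀ w ∈ Z, x w ∈ Z := fun w hw => Dat.map_center x hw
  -- the fixed involution of the centre
  have hZnt : ∃ w, w ∈ Z ∧ w ≠ 1 := by
    by_contra h
    push Not at h
    have : Z = ⊥ := (Subgroup.eq_bot_iff_forall _).2 h
    have h4 := d.card_center
    rw [← hZdef, this, Subgroup.card_bot] at h4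
    omega
  obtain ⟨z₀, hz₀, hz₀1, hxz₀⟩ : ∃ z, z ∈ Z ∧ z ≠ 1 ∧ x z = z := by
    obtain ⟨w, hw, hw1⟩ := hZnt
    by_cases h : x w = w
    · exact ⟨w, hw, hw1, h⟩
    · refine ⟨w * x w, mul_mem hw (hxZ w hw), fun h' => h ?_, ?_⟩
      · exact mul_left_cancel (h'.trans (d.center_sq hw).symm)
      · rw [map_mul, hxx]; exact (Subgroup.mem_center_iff.1 hw _)
  obtain ⟨e1, e2, e3, e4⟩ := d.center_elts hz₀ hz₀1
  simp only [hσ] at e1 e2 e3 e4
  have hZfix : ∀ w ∈ Z, x w = w → w = 1 ∨ w = z₀ := by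
    intro w hw hxw
    let S : Finset T := {1, z₀, ρ z₀, ρ (ρ z₀)}
    have hS : ∀ a ∈ S, a ∈ Z := by
      intro a ha
      simp only [S, Finset.mem_insert, Finset.mem_singleton] at ha
      rcases ha with rfl | rfl | rfl | rfl
      exacts [one_mem _, hz₀, hρZ _ hz₀, hρZ _ (hρZ _ hz₀)]
    have n1 : ρ (ρ z₀) ≠ 1 := by rw [e4]; exact e3
    have n2 : ρ (ρ z₀) ≠ z₀ := by rw [e4]; simpa using e1
    have n3 : ρ (ρ z₀) ≠ ρ z₀ := by rw [e4]; simpa using hz₀1
    have hSc : S.card = 4 := by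
      simp only [S]
      rw [Finset.card_insert_of_notMem, Finset.card_insert_of_notMem, Finset.card_insert_of_notMem,
        Finset.card_singleton]
      · simpa using n3.symm
      · simp only [Finset.mem_insert, Finset.mem_singleton, not_or]
        exact ⟨e2.symm, n2.symm⟩
      · simp only [Finset.mem_insert, Finset.mem_singleton, not_or]
        exact ⟨hz₀1.symm, e1.symm, n1.symm⟩
    have hwS : w ∈ S := by
      by_contra hn
      have hle : (insert w S).card ≤ Nat.card Z := by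
        have hmem : ∀ a ∈ insert w S, a ∈ Z := fun a ha => by
          rcases Finset.mem_insert.1 ha with rfl | ha
          exacts [hw, hS a ha]
        rw [← Fintype.card_coe, ← Nat.card_eq_fintype_card]
        exact Nat.card_le_card_of_injective (fun a : ↥(insert w S) => (⟨a.1, hmem a.1 a.2⟩ : ↥Z))
          fun a b h => Subtype.ext (congrArg (fun t : ↥Z => (t : T)) h)
      rw [Finset.card_insert_of_notMem hn, hSc, d.card_center] at hle
      omega
    simp only [S, Finset.mem_insert, Finset.mem_singleton] at hwS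
    rcases hwS with h | h | h | h
    · exact Or.inl h
    · exact Or.inr h
    · exfalso; subst h; rw [hxρ, hxz₀] at hxw; exact n3 hxw
    · exfalso; subst h; rw [hxρρ, hxz₀] at hxw; exact n3 hxw.symm
  have qZ : ∀ a b : T, (QuotientGroup.mk a : T ⧸ Z) = QuotientGroup.mk b ↔ a⁻¹ * b ∈ Z :=
    fun a b => QuotientGroup.eq
  have qc : ∀ a b : T ⧸ Z, a * b = b * a := d.quot_comm
  have qsq : ∀ a : T ⧸ Z, a * a = 1 := by
    intro a
    induction a using QuotientGroup.induction_on with
    | H a => exact (QuotientGroup.eq_one_iff _).2 (d.sq_mem a)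
  -- lifting fixed cosets
  have lift : ∀ a : T, a⁻¹ * x a ∈ Z → ∃ p, p ∈ C ∧ (QuotientGroup.mk p : T ⧸ Z) = QuotientGroup.mk a := by
    intro a ha
    set w := a⁻¹ * x a with hw
    have hxw : x w = w := by
      rw [hw, map_mul, map_inv, hxx]
      have : (a⁻¹ * x a)⁻¹ = a⁻¹ * x a := inv_eq_of_mul_eq_one_right (d.center_sq ha)
      rw [← this]; group
    rcases hZfix w ha hxw with h | h
    · refine ⟨a, (hC a).2 ?_, rfl⟩
      exact (inv_mul_eq_one.1 (hw ▸ h)).symm
    · refine ⟨a * ρ z₀, (hC _).2 ?_, ?_⟩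
      · have hxa : x a = a * z₀ := by rw [← h, hw, mul_inv_cancel_left]
        rw [map_mul, hxρ, hxz₀, hxa, e4, mul_assoc, ← mul_assoc z₀, d.center_sq hz₀, one_mul]
      · rw [qZ, mul_inv_rev, mul_assoc, inv_mul_cancel, mul_one]
        exact inv_mem (hρZ _ hz₀)
  let π : T →* T ⧸ Z := QuotientGroup.mk' Z
  let f : ↥C × ↥C →* T ⧸ Z := MonoidHom.mk' (fun pq => π (pq.1 : T) * π (ρ (pq.2 : T))) (by
    rintro ⟨p, q⟩ ⟨p', q'⟩
    simp only [Prod.mk_mul_mk, Subgroup.coe_mul, map_mul]
    rw [mul_assoc, ← mul_assoc (π (p' : T)), qc (π (p' : T)) (π (ρ (q : T)))]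
    simp only [mul_assoc])
  have hsurj : Function.Surjective f := by
    intro g
    obtain ⟨y, rfl⟩ := QuotientGroup.mk'_surjective Z g
    have hN : ∀ t : T, π t * π (ρ t) * π (ρ (ρ t)) = 1 := fun t => by
      rw [← map_mul, ← map_mul, norm_one ρ h3 hfp, map_one]
    set a := y * x y with ha
    set b := ρ y * x (ρ y) with hb
    have hfix : ∀ t : T, (t * x t)⁻¹ * x (t * x t) ∈ Z := by
      intro t
      rw [← qZ]
      show π (t * x t) = π (x (t * x t))
      rw [map_mul, map_mul, map_mul, hxx, qc]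
    obtain ⟨p, hp, hpe⟩ := lift (b * a) (by
      rw [← qZ]
      show π (b * a) = π (x (b * a))
      have ea : π a = π (x a) := (qZ _ _).2 (hfix y)
      have eb : π b = π (x b) := (qZ _ _).2 (hfix (ρ y))
      rw [map_mul x]
      exact (map_mul π b a).trans ((congrArg₂ (· * ·) eb ea).trans (map_mul π _ _).symm))
    obtain ⟨q, hq, hqe⟩ := lift a (hfix y)
    refine ⟨(⟨p, hp⟩, ⟨q, hq⟩), ?_⟩
    show π p * π (ρ q) = π y
    have e5 : π (ρ q) = π (ρ a) := by
      have := (qZ _ _).1 hqe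
      refine (qZ _ _).2 ?_
      rw [← map_inv, ← map_mul]
      exact hρZ _ this
    have hpe' : π p = π (b * a) := hpe
    rw [hpe', e5, hb, ha, hxρ]
    simp only [map_mul]
    have n1 := hN y
    have n2 := hN (x y)
    generalize π y = y0 at n1 ⊢
    generalize π (ρ y) = y1 at n1 ⊢
    generalize π (ρ (ρ y)) = y2 at n1 ⊢
    generalize π (x y) = x0 at n2 ⊢
    generalize π (ρ (x y)) = x1 at n2 ⊢
    generalize π (ρ (ρ (x y))) = x2 at n2 ⊢
    letI : CommGroup (T ⧸ Z) := { (inferInstance : Group (T ⧸ Z)) with mul_comm := qc }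
    calc y1 * x2 * (y0 * x0) * (y1 * x1) = y0 * (y1 * y1) * (x0 * x1 * x2) := by
          simp only [mul_assoc, mul_comm, mul_left_comm]
      _ = y0 := by rw [qsq, n2, mul_one, mul_one]
  have hker : ∀ p q : ↥C, (p, q) ∈ f.ker ↔ (p : T) ∈ Z ∧ (q : T) ∈ Z := by
    intro p q
    rw [MonoidHom.mem_ker]
    show π (p : T) * π (ρ (q : T)) = 1 ↔ _
    constructor
    · intro h
      rw [← map_mul] at h
      have h1 : (p : T) * ρ (q : T) ∈ Z := (QuotientGroup.eq_one_iff _).1 h
      have h2 := hxZ _ h1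
      rw [map_mul, hxρ, (hC _).1 p.2, (hC _).1 q.2] at h2
      have h3' : (ρ (q : T))⁻¹ * ρ (ρ (q : T)) ∈ Z := by
        have := mul_mem (inv_mem h1) h2
        rwa [mul_inv_rev, mul_assoc, inv_mul_cancel_left] at this
      have h4 : (q : T)⁻¹ * ρ (q : T) ∈ Z := by
        have := hρZ _ (hρZ _ h3')
        simpa [map_mul, map_inv, h3] using this
      have hqZ : (q : T) ∈ Z := by
        obtain ⟨w, hw, hwe⟩ : ∃ w ∈ Z, w⁻¹ * ρ w = (q : T)⁻¹ * ρ (q : T) := by
          let g : Z → Z := fun w => ⟨(w : T)⁻¹ * ρ w, mul_mem (inv_mem w.2) (hρZ _ w.2)⟩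
          have hg : Function.Injective g := by
            intro a b hab
            have h' : (a : T)⁻¹ * ρ a = (b : T)⁻¹ * ρ b := congrArg Subtype.val hab
            apply Subtype.ext
            have : ρ ((b : T) * (a : T)⁻¹) = (b : T) * (a : T)⁻¹ := by
              rw [map_mul, map_inv]
              have e1 : ρ (a : T) = a * ((b : T)⁻¹ * ρ b) := by rw [← h', mul_inv_cancel_left]
              rw [e1]; group
            exact (mul_inv_eq_one.1 (hfp _ this)).symm
          obtain ⟨w, hw⟩ := Finite.surjective_of_injective hg ⟨_, h4⟩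
          exact ⟨w, w.2, congrArg Subtype.val hw⟩
        have : ρ ((q : T) * w⁻¹) = (q : T) * w⁻¹ := by
          rw [map_mul, map_inv]
          have e1 : ρ (q : T) = q * (w⁻¹ * ρ w) := by rw [hwe, mul_inv_cancel_left]
          rw [e1]; group
        rw [mul_inv_eq_one.1 (hfp _ this)]; exact hw
      refine ⟨?_, hqZ⟩
      have := mul_mem h1 (inv_mem (hρZ _ hqZ))
      rwa [mul_inv_cancel_right] at this
    · rintro ⟨hp, hq⟩
      rw [← map_mul]
      exact (QuotientGroup.eq_one_iff _).2 (mul_mem hp (hρZ _ hq))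
  have hkc : Nat.card f.ker = 4 := by
    let C0 : Subgroup T := C ⊓ Z
    have h2 : Nat.card C0 = 2 := by
      have hcs : (C0 : Set T) = {1, z₀} := by
        ext w
        simp only [C0, Subgroup.coe_inf, Set.mem_inter_iff, SetLike.mem_coe, Set.mem_insert_iff,
          Set.mem_singleton_iff]
        constructor
        · exact fun ⟨h1, h2⟩ => hZfix w h2 ((hC w).1 h1)
        · rintro (rfl | rfl)
          exacts [⟨one_mem _, one_mem _⟩, ⟨(hC _).2 hxz₀, hz₀⟩]
      show Nat.card (C0 : Set T) = 2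
      rw [hcs, Nat.card_coe_set_eq, Set.ncard_pair hz₀1.symm]
    let e : f.ker ≃ ↥C0 × ↥C0 :=
      { toFun := fun k => (⟨(k.1.1 : T), k.1.1.2, ((hker _ _).1 k.2).1⟩,
          ⟨(k.1.2 : T), k.1.2.2, ((hker _ _).1 k.2).2⟩)
        invFun := fun k => ⟨(⟨k.1, k.1.2.1⟩, ⟨k.2, k.2.2.1⟩), (hker _ _).2 ⟨k.1.2.2, k.2.2.2⟩⟩
        left_inv := fun k => rfl
        right_inv := fun k => rfl }
    rw [Nat.card_congr e, Nat.card_prod, h2]
  have hCc : Nat.card C = 8 := by
    have h := f.ker.card_mul_index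
    rw [Subgroup.index_ker, MonoidHom.range_eq_top.2 hsurj, Subgroup.card_top, hkc,
      Nat.card_prod] at h
    have hq := Z.card_eq_card_quotient_mul_card_subgroup
    rw [hT, d.card_center] at hq
    have hq' : Nat.card (T ⧸ Z) = 16 := by omega
    rw [hq'] at h
    nlinarith
  -- C is non-abelian
  obtain ⟨p, hp, q, hq, hpq⟩ : ∃ p ∈ C, ∃ q ∈ C, Dat.c p q ≠ 1 := by
    by_contra hh
    push Not at hh
    have hall : ∀ y : T, ∃ p ∈ C, ∃ q ∈ C, ∃ w ∈ Z, y = p * ρ q * w := by
      intro y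
      obtain ⟨⟨p, q⟩, h⟩ := hsurj (π y)
      have h' : π ((p : T) * ρ (q : T)) = π y := by rw [map_mul]; exact h
      exact ⟨p, p.2, q, q.2, _, (qZ _ _).1 h', (mul_inv_cancel_left _ _).symm⟩
    refine hna ⟨⟨fun y y' => ?_⟩⟩
    obtain ⟨p, hp, q, hq, w, hw, rfl⟩ := hall y
    obtain ⟨p', hp', q', hq', w', hw', rfl⟩ := hall y'
    have hs : ∀ a ∈ C, ∀ b ∈ C, Dat.c a (ρ b) = 1 := by
      intro a ha b hb
      have := (d.cross a b).1
      rw [hh a ha b hb, map_one, mul_one] at this
      exact this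
    have hc1 : Dat.c (p * ρ q * w) (p' * ρ q' * w') = 1 := by
      rw [d.c_mul_left, d.c_mul_left, Dat.c_central_left hw, mul_one]
      simp only [d.c_mul_right]
      have hw1 : ∀ g, Dat.c g w' = 1 := fun g => by
        rw [d.c_comm, Dat.c_central_left hw']
      have hr : Dat.c (ρ q) (ρ q') = 1 := by rw [← Dat.c_map, hh q hq q' hq', map_one]
      have hl : Dat.c (ρ q) p' = 1 := by rw [d.c_comm, hs p' hp' q hq]
      simp [hh p hp p' hp', hs p hp q' hq', hr, hl, hw1]
    rw [Dat.mul_eq, hc1, one_mul]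
  have hz : Dat.c p q = z₀ := by
    refine (hZfix _ (d.c_mem p q) ?_).resolve_left hpq
    rw [Dat.c_map, (hC p).1 hp, (hC q).1 hq]
  have hsqC : ∀ a ∈ C, a * a = 1 ∨ a * a = z₀ := fun a ha =>
    hZfix _ (d.sq_mem a) (by rw [map_mul, (hC a).1 ha])
  have hmul : (p * q) * (p * q) = p * p * (q * q) * z₀ := by
    calc (p * q) * (p * q) = p * (q * p) * q := by simp only [mul_assoc]
      _ = p * (z₀ * (p * q)) * q := by rw [Dat.mul_eq q p, d.c_comm, hz]
      _ = (p * z₀) * p * (q * q) := by simp only [mul_assoc]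
      _ = (p * p) * (z₀ * (q * q)) := by
        rw [Subgroup.mem_center_iff.1 hz₀ p, mul_assoc z₀ p p, ← Subgroup.mem_center_iff.1 hz₀ (p * p),
          mul_assoc]
      _ = _ := by rw [← Subgroup.mem_center_iff.1 hz₀ (q * q), ← mul_assoc]
  have hcpq : Dat.c (p * q) q = z₀ := by rw [d.c_mul_left, Dat.c_self, mul_one, hz]
  have hcppq : Dat.c p (p * q) = z₀ := by rw [d.c_mul_right, Dat.c_self, one_mul, hz]
  constructor
  · have hzne : z₀ ≠ 1 := hz₀1
    rcases hsqC p hp with hp2 | hp2 <;> rcases hsqC q hq with hq2 | hq2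
    · exact exists_sylow_equiv d hp2 hq2 hpq
    · exact exists_sylow_equiv d hp2 (v := p * q) (by rw [hmul, hp2, hq2, one_mul, d.center_sq hz₀])
        (by rw [hcppq]; exact hzne)
    · exact exists_sylow_equiv d (u := p * q) (by rw [hmul, hp2, hq2, mul_one, d.center_sq hz₀]) hq2
        (by rw [hcpq]; exact hzne)
    · obtain ⟨k1, k2⟩ := d.cross p q
      rw [hz, hσ, hσ, ← e4] at k1 k2
      have hs : ∀ a b : T, (a * b) * (a * b) = a * a * (b * b) * Dat.c b a := by
        intro a b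
        have h : (a * b) * (a * b) = a * (Dat.c b a * (a * b)) * b := by
          rw [← Dat.mul_eq b a]; simp only [mul_assoc]
        rw [h]
        have hc := fun g => d.comm_c b a g
        rw [← hc (a * b)]
        simp only [mul_assoc]
        rw [hc b]
      have hr : ∀ a : T, ρ a * ρ a = ρ (a * a) := fun a => (map_mul ρ a a).symm
      have hzz : z₀ * z₀ = 1 := d.center_sq hz₀
      have hrr : ρ z₀ * ρ z₀ = 1 := by rw [hr, hzz, map_one]
      have hzc : ρ z₀ * z₀ = ρ (ρ z₀) := by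
        rw [e4]; exact Subgroup.mem_center_iff.1 hz₀ (ρ z₀)
      have hrrr : ρ (ρ z₀) * ρ (ρ z₀) = 1 := by rw [hr, hrr, map_one]
      refine exists_sylow_equiv d (u := ρ p * q) (v := p * ρ q) ?_ ?_ ?_
      · rw [hs, hr, hp2, hq2, d.c_comm, k2, hzc, hrrr]
      · rw [hs, hr, hp2, hq2, d.c_comm, k1, ← e4, hrrr]
      · have h1 : Dat.c (ρ p) p = 1 := by rw [d.c_comm]; exact d.c_sigma p
        have h2 : Dat.c (ρ p) (ρ q) = ρ z₀ := by rw [← Dat.c_map, hz]
        have h3 : Dat.c q p = z₀ := by rw [d.c_comm, hz]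
        have h4 : Dat.c q (ρ q) = 1 := d.c_sigma q
        rw [d.c_mul_left, d.c_mul_right, d.c_mul_right, h1, h2, h3, h4, one_mul, mul_one, hzc, e4]
        exact e3
  · -- the fixed subgroup
    have hzC : z₀ ∈ C := (hC _).2 hxz₀
    have hord : ∀ a : T, a * a = z₀ → orderOf a = 4 := fun a ha =>
      orderOf_eq_prime_pow (p := 2) (n := 1) (by rw [pow_one, pow_two, ha]; exact hz₀1)
        (by rw [show (2 : ℕ) ^ (1 + 1) = 2 * 2 from rfl, pow_mul, pow_two, pow_two, ha,
          d.center_sq hz₀])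
    have build : ∀ c y : T, c ∈ C → y ∈ C → c * c = z₀ → Dat.c y c = z₀ →
        (Nonempty (↥C ≃* DihedralGroup 4) ∨ Nonempty (↥C ≃* QuaternionGroup 2)) := by
      intro c y hc hy hc2 hcy
      have hoc : orderOf (⟨c, hc⟩ : C) = 4 := by
        rw [← orderOf_injective C.subtype Subtype.val_injective]; exact hord c hc2
      have hnz : (⟨y, hy⟩ : C) ∉ Subgroup.zpowers (⟨c, hc⟩ : C) := by
        intro h
        obtain ⟨i, hi⟩ := Subgroup.mem_zpowers_iff.1 h
        have hi' : c ^ i = y := congrArg Subtype.val hi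
        have : Dat.c y c = 1 := by rw [← hi']; unfold Dat.c; group
        exact hz₀1 (hcy.symm.trans this)
      have hconj : (⟨y, hy⟩ : C) * ⟨c, hc⟩ * (⟨y, hy⟩ : C)⁻¹ = (⟨c, hc⟩ : C)⁻¹ := by
        apply Subtype.ext
        show y * c * y⁻¹ = c⁻¹
        rw [eq_inv_iff_mul_eq_one]
        calc y * c * y⁻¹ * c = Dat.c y c * (c * c) := by unfold Dat.c; group
          _ = 1 := by rw [hcy, hc2, d.center_sq hz₀]
      rcases hsqC y hy with hy2 | hy2
      · exact Or.inl (Cfsg.Agent.PGroups.nonempty_mulEquiv_dihedral hoc hnz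
          (Subtype.ext (by show y ^ 2 = 1; rw [pow_two, hy2])) hconj (by rw [hCc]))
      · exact Or.inr (Cfsg.Agent.PGroups.nonempty_mulEquiv_quaternion (n := 2) hoc hnz
          (Subtype.ext (by show y ^ 2 = c ^ 2; rw [pow_two, pow_two, hy2, hc2])) hconj (by rw [hCc]))
    rcases hsqC p hp with hp2 | hp2
    · rcases hsqC q hq with hq2 | hq2
      · exact build (p * q) p (mul_mem hp hq) hp
          (by rw [hmul, hp2, hq2, one_mul, one_mul]) hcppq
      · exact build q p hq hp hq2 hz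
    · exact build p q hp hq hp2 (by rw [d.c_comm, hz])

end Cfsg.Agent.S3157
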