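import Cfsg.Statements.S3158
import Mathlib
import Cfsg.Agent.PGroups.Basic

set_option autoImplicit false
open Cfsg

namespace Cfsg.Agent.S3158

/-- Let U be a group of order q² with q = 2^n ≥ 2, and y an automorphism of U of order q − 1 all of whose nontrivial powers fix only the identity. Let V be a proper normal y-invariant subgroup of U such that V and U/V are elementary abelian 2-groups and there is an isomorphism from V to U/V commuting with the actions of y. Then U is abelian. -/
theorem result {U : Type*} [Group U] [Finite U] (n : ℕ) (hn : 1 ≤ n) (hU : Nat.card U = (2 ^ n) ^ 2)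
    (y : MulAut U) (hy : orderOf y = 2 ^ n - 1) (hfp : ∀ k : ℕ, y ^ k ≠ 1 → ∀ u : U, (y ^ k) u = u → u = 1)
    (V : Subgroup U) [V.Normal] (hV : V ≠ ⊤) (hyV : ∀ v ∈ V, y v ∈ V)
    (hVe : ∀ v ∈ V, v ^ 2 = 1) (hQe : ∀ u : U, u ^ 2 ∈ V) (hQc : ∀ u w : U, u * w * u⁻¹ * w⁻¹ ∈ V)
    (φ : ↥V ≃* U ⧸ V) (hφ : ∀ (v : ↥V) (u : U), (QuotientGroup.mk u : U ⧸ V) = φ v → φ ⟨y v, hyV v v.2⟩ = QuotientGroup.mk (y u)) :
    IsMulCommutative U := by
  have hy1 : ∀ u ∈ V, y.symm u ∈ V := by
    intro u hu
    have h1 : y ^ (2 ^ n - 1) = 1 := hy ▸ pow_orderOf_eq_one y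
    have hmem : ∀ k : ℕ, (y ^ k) u ∈ V := by
      intro k
      induction k with
      | zero => simpa using hu
      | succ k ih => rw [pow_succ', MulAut.mul_apply]; exact hyV _ ih
    have hpos : 0 < 2 ^ n - 1 := by have := Nat.one_lt_two_pow (n := n) (by omega); omega
    have e : y.symm u = (y ^ (2 ^ n - 1 - 1)) u := by
      apply y.injective
      rw [MulEquiv.apply_symm_apply, ← MulAut.mul_apply, ← pow_succ', Nat.sub_add_cancel hpos, h1, MulAut.one_apply]
    rw [e]; exact hmem _
  -- the automorphism on the quotient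
  let W := U ⧸ V
  have hyq : ∀ u, u ∈ V ↔ y u ∈ V := fun u => ⟨hyV u, fun h => by simpa using hy1 _ h⟩
  -- commutator is central in V
  have hVc : ∀ u v, u ∈ V → v ∈ V → u * v = v * u := by
    intro u v hu hv
    have iu : u⁻¹ = u := inv_eq_of_mul_eq_one_right (by rw [← pow_two]; exact hVe u hu)
    have iv : v⁻¹ = v := inv_eq_of_mul_eq_one_right (by rw [← pow_two]; exact hVe v hv)
    have huv := hVe _ (V.mul_mem hu hv)
    rw [pow_two] at huv
    rw [← inv_eq_of_mul_eq_one_right huv, mul_inv_rev, iu, iv]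
  -- fixed points
  have hsemi : ∀ u : U, u ≠ 1 → ∀ k : ℕ, (y ^ k) u = u → y ^ k = 1 := fun u hu k hk =>
    by_contra fun h => hu (hfp k h u hk)
  have hcardV : Nat.card V = 2 ^ n := by
    have := Subgroup.card_eq_card_quotient_mul_card_subgroup V
    rw [← Nat.card_congr φ.toEquiv, hU, ← pow_two] at this
    exact (Nat.pow_left_injective two_ne_zero this).symm
  have htrans : ∀ u ∈ V, u ≠ 1 → ∀ v ∈ V, v ≠ 1 → ∃ k : ℕ, (y ^ k) u = v := by
    intro u hu hu1 v hv hv1
    classical
    have := Fintype.ofFinite V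
    have hmem : ∀ k : ℕ, (y ^ k) u ∈ V := by
      intro k
      induction k with
      | zero => simpa using hu
      | succ k ih => rw [pow_succ', MulAut.mul_apply]; exact hyV _ ih
    let f : Fin (2 ^ n - 1) → V := fun k => ⟨(y ^ (k : ℕ)) u, hmem k⟩
    have hinj : Function.Injective f := by
      intro a b hab
      have hab' : (y ^ (a : ℕ)) u = (y ^ (b : ℕ)) u := congrArg Subtype.val hab
      rcases le_total (a : ℕ) (b : ℕ) with h | h
      · have : (y ^ ((b : ℕ) - a)) ((y ^ (a : ℕ)) u) = (y ^ (a : ℕ)) u := by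
          rw [← MulAut.mul_apply, ← pow_add, Nat.sub_add_cancel h, hab']
        have h' := hsemi _ (by simpa using hu1) _ this
        have := orderOf_dvd_of_pow_eq_one h'
        rw [hy] at this
        have := Nat.eq_zero_of_dvd_of_lt this (by have := b.2; omega)
        exact Fin.ext (by omega)
      · have : (y ^ ((a : ℕ) - b)) ((y ^ (b : ℕ)) u) = (y ^ (b : ℕ)) u := by
          rw [← MulAut.mul_apply, ← pow_add, Nat.sub_add_cancel h, hab']
        have h' := hsemi _ (by simpa using hu1) _ this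
        have := orderOf_dvd_of_pow_eq_one h'
        rw [hy] at this
        have := Nat.eq_zero_of_dvd_of_lt this (by have := a.2; omega)
        exact Fin.ext (by omega)
    have hc : (Finset.univ.image f) = Finset.univ.erase 1 := by
      apply Finset.eq_of_subset_of_card_le
      · intro x hx
        simp only [Finset.mem_image, Finset.mem_univ, true_and] at hx
        obtain ⟨k, rfl⟩ := hx
        rw [Finset.mem_erase]
        refine ⟨fun h => hu1 ?_, Finset.mem_univ _⟩
        have : (y ^ (k : ℕ)) u = 1 := congrArg Subtype.val h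
        simpa using this
      · rw [Finset.card_image_of_injective _ hinj, Finset.card_erase_of_mem (Finset.mem_univ _),
          Finset.card_univ, Finset.card_univ, Fintype.card_fin, ← Nat.card_eq_fintype_card, hcardV]
    have : (⟨v, hv⟩ : V) ∈ Finset.univ.image f := by
      rw [hc, Finset.mem_erase]
      exact ⟨fun h => hv1 (congrArg Subtype.val h), Finset.mem_univ _⟩
    simp only [Finset.mem_image, Finset.mem_univ, true_and] at this
    obtain ⟨k, hk⟩ := this
    exact ⟨k, congrArg Subtype.val hk⟩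
  -- lifts
  have hlift : ∀ v : V, ∃ u : U, (QuotientGroup.mk u : U ⧸ V) = φ v := fun v => QuotientGroup.mk_surjective _
  choose L hL using hlift
  -- commutator form
  let κ : U → U → U := fun u w => u * w * u⁻¹ * w⁻¹
  have hκm : ∀ u w, κ u w ∈ V := hQc
  have hκV : ∀ v ∈ V, ∀ u, κ v u = 1 := by
    -- by equivariance V is central
    by_contra hcon
    push Not at hcon
    obtain ⟨v, hv, u, hvu⟩ := hcon
    let Cn : Subgroup V := (Subgroup.center U).subgroupOf V
    have hne : ∃ z ∈ V, z ≠ 1 ∧ ∀ g, g * z = z * g := by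
      have hp : IsPGroup 2 U := IsPGroup.of_card (n := 2 * n) (by rw [hU, ← pow_mul, mul_comm])
      have hVne : V ≠ ⊥ := fun h => by
        rw [h, Subgroup.card_bot] at hcardV
        have := Nat.one_lt_two_pow (n := n) (by omega); omega
      have : Fact (Nat.Prime 2) := ⟨Nat.prime_two⟩
      obtain ⟨⟨z, hz1, hz2⟩, hz⟩ := Subgroup.ne_bot_iff_exists_ne_one.1 (PGroups.inf_center_ne_bot hp V hVne)
      exact ⟨z, hz1, fun h => hz (Subtype.ext h), fun g => Subgroup.mem_center_iff.1 hz2 g⟩
    obtain ⟨z, hz, hz1, hzc⟩ := hne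
    have hv1 : v ≠ 1 := fun h => hvu (by simp [κ, h])
    obtain ⟨k, hk⟩ := htrans z hz hz1 v hv hv1
    have := congrArg (y ^ k) (hzc ((y ^ k)⁻¹ u))
    rw [map_mul, map_mul, hk, MulAut.apply_inv_self] at this
    exact hvu (by simp only [κ]; rw [← this]; group)
  have hcen : ∀ v ∈ V, ∀ u, u * v = v * u := fun v hv u => by
    have := hκV v hv u
    rw [mul_inv_eq_one, mul_inv_eq_iff_eq_mul] at this
    exact this.symm
  have hκl : ∀ u u' w, κ (u * u') w = κ u w * κ u' w := fun u u' w => by
    calc κ (u * u') w = u * κ u' w * w * u⁻¹ * w⁻¹ := by simp [κ, mul_assoc]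
      _ = κ u' w * κ u w := by rw [hcen _ (hκm u' w) u]; simp [κ, mul_assoc]
      _ = _ := hVc _ _ (hκm u' w) (hκm u w)
  have hκr : ∀ u w w', κ u (w * w') = κ u w * κ u w' := fun u w w' => by
    calc κ u (w * w') = κ u w * (w * κ u w' * w⁻¹) := by simp [κ, mul_assoc]
      _ = _ := by rw [hcen _ (hκm u w') w]; group
  have hκmk : ∀ u u' w, (QuotientGroup.mk u : U ⧸ V) = QuotientGroup.mk u' → κ u w = κ u' w := by
    intro u u' w h
    rw [QuotientGroup.eq] at h
    have := hκl u (u⁻¹ * u') w
    rw [mul_inv_cancel_left, hκV _ h w, mul_one] at this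
    exact this.symm
  have hκmk' : ∀ u w w', (QuotientGroup.mk w : U ⧸ V) = QuotientGroup.mk w' → κ u w = κ u w' := by
    intro u w w' h
    rw [QuotientGroup.eq] at h
    have := hκr u w (w⁻¹ * w')
    have h1 : κ u (w⁻¹ * w') = 1 := by simp only [κ]; rw [hcen _ h u]; group
    rw [mul_inv_cancel_left, h1, mul_one] at this
    exact this.symm
  let B : V → V → U := fun a b => κ (L a) (L b)
  have hBl : ∀ a a' b, B (a * a') b = B a b * B a' b := fun a a' b => by
    rw [← hκl]
    exact hκmk _ _ _ (by rw [QuotientGroup.mk_mul, hL, hL, hL, map_mul])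
  have hBr : ∀ a b b', B a (b * b') = B a b * B a b' := fun a b b' => by
    rw [← hκr]
    exact hκmk' _ _ _ (by rw [QuotientGroup.mk_mul, hL, hL, hL, map_mul])
  have hBsym : ∀ a b, B a b = B b a := fun a b => by
    have h := hVe _ (hκm (L a) (L b))
    rw [pow_two] at h
    show κ _ _ = κ _ _
    rw [← inv_eq_of_mul_eq_one_right h]
    simp [κ, mul_assoc]
  have hBd : ∀ a, B a a = 1 := fun a => by simp [B, κ]
  -- the action on V
  let Y : ℕ → V → V := fun k v => ⟨(y ^ k) v, by
    induction k with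
    | zero => simp
    | succ k ih => rw [pow_succ', MulAut.mul_apply]; exact hyV _ ih⟩
  have hY1 : ∀ v : V, Y 1 v = ⟨y v, hyV v v.2⟩ := fun v => Subtype.ext (by simp [Y])
  have hYY : ∀ j k v, Y j (Y k v) = Y (j + k) v := fun j k v => Subtype.ext (by simp [Y, pow_add])
  have hYm : ∀ k a b, Y k (a * b) = Y k a * Y k b := fun k a b => Subtype.ext (by simp [Y])
  have hBY : ∀ k a b, B (Y k a) (Y k b) = (y ^ k) (B a b) := by
    intro k
    induction k with
    | zero => intro a b; simp [Y]
    | succ k ih =>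
      intro a b
      have e : ∀ v, Y (k + 1) v = Y 1 (Y k v) := fun v => by rw [hYY, add_comm]
      have hst : ∀ a b, B (Y 1 a) (Y 1 b) = y (B a b) := fun a b => by
        have ea : (QuotientGroup.mk (L (Y 1 a)) : U ⧸ V) = QuotientGroup.mk (y (L a)) := by
          rw [hL, hY1]; exact hφ a (L a) (hL a)
        have eb : (QuotientGroup.mk (L (Y 1 b)) : U ⧸ V) = QuotientGroup.mk (y (L b)) := by
          rw [hL, hY1]; exact hφ b (L b) (hL b)
        show κ _ _ = _
        rw [hκmk _ _ _ ea, hκmk' _ _ _ eb]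
        simp [B, κ]
      rw [e, e, hst, ih, pow_succ', MulAut.mul_apply]
  have hVne : ∃ e : V, e ≠ 1 := by
    have : Nontrivial V := Finite.one_lt_card_iff_nontrivial.1
      (by rw [hcardV]; exact Nat.one_lt_two_pow (by omega))
    exact exists_ne 1
  obtain ⟨e, he⟩ := hVne
  have he' : (e : U) ≠ 1 := fun h => he (Subtype.ext h)
  have horb : ∀ a : V, a ≠ 1 → ∃ k, Y k e = a := fun a ha => by
    obtain ⟨k, hk⟩ := htrans e e.2 he' a a.2 (fun h => ha (Subtype.ext h))
    exact ⟨k, Subtype.ext hk⟩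
  have hee : e * e = 1 := Subtype.ext (by simpa [pow_two] using hVe e e.2)
  -- B e x = 1 for squares, hence for all
  have hf : ∀ k : ℕ, B e (Y (2 * k) e) = 1 := by
    intro k
    by_cases hx : Y k e = e
    · have : Y (2 * k) e = e := by rw [two_mul, ← hYY, hx, hx]
      rw [this, hBd]
    obtain ⟨m, hm⟩ := horb (Y k e * e) (fun h => hx (by
      rw [mul_eq_one_iff_eq_inv, inv_eq_of_mul_eq_one_right hee] at h; exact h))
    set f : ℕ → U := fun i => B e (Y i e) with hfdef
    have hmk : Y m e * Y k e = e := by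
      rw [hm, mul_assoc, ]
      have : e * Y k e = Y k e * e := Subtype.ext (hVc _ _ e.2 (Y k e).2)
      rw [this, ← mul_assoc]
      have hsq : Y k e * Y k e = 1 := Subtype.ext (by simpa [pow_two] using hVe _ (Y k e).2)
      rw [hsq, one_mul]
    have hfm : f m = f k := by
      show B e (Y m e) = _
      rw [hm, hBr, hBd, mul_one]
    -- apply y^i to B e (Y j e)
    have hsh : ∀ i j, B (Y i e) (Y (i + j) e) = (y ^ i) (f j) := fun i j => by
      rw [← hYY, hBY]
    -- e = Y m e * Y k e, shifted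
    have main : (y ^ (k + m)) (B e e) = 1 := by rw [hBd, map_one]
    have r1 : B e (Y (k + m) e) = f k := by
      -- B (x(x+e)) e computed by additivity
      have s1 : B (Y (k + m) e) e = B (Y (k + m) e) (Y m e) * B (Y (k + m) e) (Y k e) := by
        rw [← hBr, hmk]
      have t1 : B (Y (k + m) e) (Y m e) = (y ^ m) (f k) := by
        rw [hBsym, add_comm k m, hsh]
      have t2 : B (Y (k + m) e) (Y k e) = (y ^ k) (f k) := by
        rw [hBsym, hsh, hfm]
      rw [hBsym, s1, t1, t2]
      have hfk : f k ∈ V := hκm _ _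
      by_cases h1 : f k = 1
      · simp [h1]
      obtain ⟨l, hl⟩ := htrans e e.2 he' _ hfk h1
      have h3 := congrArg (fun v : V => (y ^ l) (v : U)) hmk
      simp only [Y, Subgroup.coe_mul, map_mul] at h3
      rw [← MulAut.mul_apply, ← MulAut.mul_apply, ← pow_add, ← pow_add, add_comm l, add_comm l,
        pow_add, pow_add, MulAut.mul_apply, MulAut.mul_apply, hl] at h3
      exact h3
    have hprod : Y (k + m) e = Y (2 * k) e * Y k e := by
      rw [← hYY, hm, hYm, hYY, two_mul]
    rw [hprod, hBr] at r1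
    exact mul_eq_right.1 r1
  have hf' : ∀ b, B e b = 1 := by
    intro b
    by_cases hb : b = 1
    · subst hb
      have := hBr e 1 1
      rw [mul_one] at this
      exact (mul_eq_left.1 this.symm)
    obtain ⟨k, rfl⟩ := horb b hb
    have hq : y ^ (2 ^ n - 1) = 1 := hy ▸ pow_orderOf_eq_one y
    obtain ⟨d, hd⟩ : ∃ d, k + (2 ^ n - 1) * (k % 2) = 2 * d := by
      have h2 : 2 ∣ 2 ^ n := dvd_pow_self 2 (by omega)
      have := Nat.one_lt_two_pow (n := n) (by omega)
      rcases Nat.mod_two_eq_zero_or_one k with h | h <;> rw [h]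
      · exact ⟨k / 2, by omega⟩
      · obtain ⟨c, hc⟩ := h2
        exact ⟨k / 2 + c, by omega⟩
    have : Y k e = Y (2 * d) e := Subtype.ext (by
      show (y ^ k) (e : U) = (y ^ (2 * d)) (e : U)
      rw [← hd, pow_add, pow_mul, hq, one_pow, mul_one])
    rw [this]; exact hf d
  have hB0 : ∀ a b, B a b = 1 := by
    intro a b
    by_cases ha : a = 1
    · subst ha
      have := hBl 1 1 b
      rw [mul_one] at this
      exact (mul_eq_left.1 this.symm)
    obtain ⟨k, rfl⟩ := horb a ha
    have hq : y ^ (2 ^ n - 1) = 1 := hy ▸ pow_orderOf_eq_one y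
    have hqp : 1 ≤ 2 ^ n - 1 := by have := Nat.one_lt_two_pow (n := n) (by omega); omega
    have : b = Y k (Y (k * (2 ^ n - 1) - k) b) := by
      rw [hYY]
      refine Subtype.ext ?_
      show (b : U) = (y ^ _) (b : U)
      rw [Nat.add_sub_cancel' (Nat.le_mul_of_pos_right k hqp), mul_comm, pow_mul, hq, one_pow, MulAut.one_apply]
    rw [this, hBY, hf', map_one]
  refine ⟨⟨fun u w => ?_⟩⟩
  obtain ⟨a, ha⟩ := φ.surjective (QuotientGroup.mk u)
  obtain ⟨b, hb⟩ := φ.surjective (QuotientGroup.mk w)
  have : κ u w = 1 := by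
    rw [hκmk u (L a) w (by rw [hL, ha]), hκmk' _ w (L b) (by rw [hL, hb])]
    exact hB0 a b
  rw [mul_inv_eq_one, mul_inv_eq_iff_eq_mul] at this
  exact this

end Cfsg.Agent.S3158
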