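import Cfsg.Statements.S3161
import Cfsg.Agent.H47.TwoSinger.Models

set_option autoImplicit false
open Cfsg

namespace Cfsg.Agent.S3161

/-- Let Q be a non-abelian finite 2-group admitting commuting automorphisms α of order 2 and ρ of order 2^n − 1, where n ≥ 2, such that the fixed points of α form an elementary abelian subgroup of order 2^n on whose nonidentity elements the group generated by ρ acts transitively. Then Q is isomorphic to a Sylow 2-subgroup of the projective special unitary group of dimension 3 with parameter 2^n (realised over the field with 4^n elements) or of the projective special linear group of dimension 3 over the field with 2^n elements. -/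
theorem result {Q : Type*} [Group Q] [Finite Q] (hQ : IsPGroup 2 Q) (hna : ¬ IsMulCommutative Q) (n : ℕ) (hn : 2 ≤ n)
    (α ρ : MulAut Q) (hα : orderOf α = 2) (hρ : orderOf ρ = 2 ^ n - 1) (hc : Commute α ρ)
    (C : Subgroup Q) (hC : ∀ x : Q, x ∈ C ↔ α x = x) (hCE : Cfsg.IsElementaryAbelian 2 C ∧ Nat.card ↥C = 2 ^ n)
    (htr : ∀ x y : Q, x ∈ C → y ∈ C → x ≠ 1 → y ≠ 1 → ∃ k : ℕ, (ρ ^ k) x = y) :
    (∃ (F : Type) (_ : Field F) (_ : Fintype F), Fintype.card F = 4 ^ n ∧
        ∃ S : Sylow 2 (Cfsg.PSU 3 F (2 ^ n)), Nonempty (Q ≃* ↥(S : Subgroup (Cfsg.PSU 3 F (2 ^ n))))) ∨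
      (∃ (F : Type) (_ : Field F) (_ : Fintype F), Fintype.card F = 2 ^ n ∧
        ∃ S : Sylow 2 (Matrix.ProjectiveSpecialLinearGroup (Fin 3) F), Nonempty (Q ≃* ↥(S : Subgroup (Matrix.ProjectiveSpecialLinearGroup (Fin 3) F)))) := by
  classical
  have hC' : Cfsg.Agent.H47.TwoSinger.fix α = C := by
    ext x; rw [Cfsg.Agent.H47.TwoSinger.mem_fix, hC]
  have hα2 : ∀ x, α (α x) = x := fun x => by
    have h1 : α ^ 2 = 1 := hα ▸ pow_orderOf_eq_one α
    have := DFunLike.congr_fun h1 x
    rwa [pow_two] at this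
  have H : Cfsg.Agent.H47.TwoSinger.Hyp α ρ n :=
    { two := hQ
      two_le := hn
      invol := hα2
      comm := fun x => DFunLike.congr_fun hc.eq x
      period := hρ ▸ pow_orderOf_eq_one ρ
      sq_fix := fun x hx => by
        rw [← pow_two]; exact hCE.1.2 x ((hC x).mpr hx)
      card_fix := by rw [hC', hCE.2]
      trans := fun x y hx hy => htr x y ((hC x).mpr hx) ((hC y).mpr hy) }
  have hna' : ¬ ∀ x y : Q, Commute x y := fun h => hna ⟨⟨h⟩⟩
  obtain ⟨hsq, -⟩ := H.classify.resolve_left hna'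
  obtain ⟨A, ⟨x⟩⟩ := H.exists_sqExt hsq hna'
  have hn0 : n ≠ 0 := by omega
  by_cases ht : ∃ t : GaloisField 2 n, t * t + t = A
  · obtain ⟨t, ht⟩ := ht
    letI : Fintype (GaloisField 2 n) := Fintype.ofFinite _
    refine Or.inr ⟨GaloisField 2 n, inferInstance, inferInstance, ?_, default, ?_⟩
    · rw [← Nat.card_eq_fintype_card, GaloisField.card 2 n hn0]
    · exact Cfsg.Agent.H47.TwoSinger.nonempty_equiv_PSL_sylow x ht _
  · push Not at ht
    obtain ⟨K, hK1, hK2, hcard, hP⟩ := Cfsg.Agent.H47.TwoSinger.exists_unitary hn0 x ht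
    refine Or.inl ⟨K, hK1, hK2, ?_, default, hP _⟩
    rw [hcard, show (4 : ℕ) = 2 ^ 2 from rfl, ← pow_mul, ← pow_mul, Nat.mul_comm]

end Cfsg.Agent.S3161
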