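import Cfsg.Statements.S3162
import Mathlib
import Cfsg.Agent.H33.SylU.Transfer

set_option autoImplicit false
open Cfsg

namespace Cfsg.Agent.S3162

open Cfsg.Agent.H33.SylU

/-- Let S be a Sylow 2-subgroup of the special unitary group of dimension 3 with parameter q = 2^n (n ≥ 2; realised over the field with q² elements). Then the largest normal 2-subgroup of the automorphism group of S is elementary abelian of order 2^(2n²), and the automorphism group has order 2^(2n²) · 2n(q² − 1). -/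
theorem result {S : Type*} [Group S] [Finite S] (n : ℕ) (hn : 2 ≤ n) {F : Type*} [Field F] [Fintype F] (hF : Fintype.card F = 4 ^ n)
    (P : Sylow 2 ↥(Cfsg.SU 3 F (2 ^ n))) (hS : Nonempty (S ≃* ↥(P : Subgroup ↥(Cfsg.SU 3 F (2 ^ n))))) :
    Cfsg.IsElementaryAbelian 2 (Cfsg.pCore 2 (MulAut S)) ∧ Nat.card ↥(Cfsg.pCore 2 (MulAut S)) = 2 ^ (2 * n ^ 2) ∧
      Nat.card (MulAut S) = 2 ^ (2 * n ^ 2) * (2 * n * ((2 ^ n) ^ 2 - 1)) := by
  have : QField F n := ⟨by rw [hF, ← pow_mul, mul_comm, pow_mul]; norm_num⟩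
  obtain ⟨e⟩ := hS
  obtain ⟨e'⟩ := nonempty_equiv_SU (F := F) P
  let c := autCongr (e'.trans e.symm)
  have hcore := map_pCore 2 c
  rw [pCore_eq_ker] at hcore
  refine ⟨?_, ?_, ?_⟩
  · rw [← hcore]
    obtain ⟨h1, h2⟩ := ker_elementary (F := F) (n := n)
    refine ⟨Subgroup.map_isMulCommutative _ _, ?_⟩
    rintro _ ⟨a, ha, rfl⟩
    rw [← map_pow, h2 a ha, map_one]
  · rw [← hcore, Subgroup.card_map_of_injective (f := c.toMonoidHom) c.injective, card_ker_toPerm]
  · rw [← Nat.card_congr c.toEquiv, card_mulAut]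

end Cfsg.Agent.S3162
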