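import Cfsg.Statements.S3163
import Mathlib

set_option autoImplicit false
open Cfsg

namespace Cfsg.Agent.S3163

open Subgroup

theorem key {S : Type*} [Group S] [Finite S] (A B C : Subgroup S)
    (hBA : ∀ s : S, ∃ b ∈ B, ∃ a ∈ A, s = b * a) (h : A ⊓ C ≤ A ⊓ B) :
    Nat.card C ≤ Nat.card B := by
  have hs : A.relIndex C ≤ A.relIndex B := by
    refine (relIndex_le_of_le_right (H := A) (le_top : C ≤ ⊤)
      (by rw [relIndex_top_right]; exact index_ne_zero_of_finite)).trans ?_
    rw [relIndex_top_right, Subgroup.index, relIndex, Subgroup.index]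
    refine Nat.card_le_card_of_surjective
      (Quotient.map' (fun b : B => (b : S)) (fun x y hxy => ?_)) ?_
    · rw [QuotientGroup.leftRel_apply] at hxy ⊢
      simpa [Subgroup.mem_subgroupOf] using hxy
    · intro q
      induction q using QuotientGroup.induction_on with
      | H s =>
        obtain ⟨b, hb, a, ha, rfl⟩ := hBA s
        refine ⟨Quotient.mk'' ⟨b, hb⟩, ?_⟩
        apply Quotient.sound'
        rw [QuotientGroup.leftRel_apply]
        simpa using ha
  have e : ∀ K : Subgroup S, Nat.card ↥(A ⊓ K) * A.relIndex K = Nat.card K := fun K => by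
    rw [relIndex, ← card_mul_index (A.subgroupOf K)]
    congr 1
    exact Nat.card_congr (subgroupOfEquivOfLe (inf_le_right : A ⊓ K ≤ K)).toEquiv.symm |>.trans
      (by rw [inf_subgroupOf_right])
  rw [← e C, ← e B]
  exact Nat.mul_le_mul (card_le_of_le h) hs

/-- Let S be a non-abelian finite 2-group which is the product S = AB of two elementary abelian subgroups A and B, and suppose that the centralizer in S of every element of A outside B is exactly A. Then the centralizer of every element of B outside A is exactly B; A and B are maximal elementary abelian subgroups of S and the only ones; the centre of S is A ∩ B; and every element of S outside A ∪ B has centralizer of order at most min(|A|, |B|). -/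
theorem result {S : Type*} [Group S] [Finite S] (hS : IsPGroup 2 S) (hna : ¬ IsMulCommutative S) (A B : Subgroup S)
    (hA : Cfsg.IsElementaryAbelian 2 A) (hB : Cfsg.IsElementaryAbelian 2 B) (hAB : ∀ s : S, ∃ a ∈ A, ∃ b ∈ B, s = a * b)
    (hC : ∀ a ∈ A, a ∉ B → Subgroup.centralizer ({a} : Set S) = A) :
    (∀ b ∈ B, b ∉ A → Subgroup.centralizer ({b} : Set S) = B) ∧
      (∀ E : Subgroup S, Cfsg.IsElementaryAbelian 2 E → (∀ E' : Subgroup S, Cfsg.IsElementaryAbelian 2 E' → E ≤ E' → E' = E) → E = A ∨ E = B) ∧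
      (∀ E' : Subgroup S, Cfsg.IsElementaryAbelian 2 E' → A ≤ E' → E' = A) ∧ (∀ E' : Subgroup S, Cfsg.IsElementaryAbelian 2 E' → B ≤ E' → E' = B) ∧
      Subgroup.center S = A ⊓ B ∧
      (∀ x : S, x ∉ A → x ∉ B → Nat.card ↥(Subgroup.centralizer ({x} : Set S)) ≤ min (Nat.card ↥A) (Nat.card ↥B)) := by
  have hAc := hA.1
  have hBc := hB.1
  have hnA : ¬ A ≤ B := by
    intro h
    apply hna
    refine ⟨⟨fun x y => ?_⟩⟩
    have hm : ∀ s : S, s ∈ B := fun s => by
      obtain ⟨a, ha, b, hb, rfl⟩ := hAB s; exact B.mul_mem (h ha) hb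
    exact congrArg Subtype.val (hBc.is_comm.comm ⟨x, hm x⟩ ⟨y, hm y⟩)
  have hnB : ¬ B ≤ A := by
    intro h
    apply hna
    refine ⟨⟨fun x y => ?_⟩⟩
    have hm : ∀ s : S, s ∈ A := fun s => by
      obtain ⟨a, ha, b, hb, rfl⟩ := hAB s; exact A.mul_mem ha (h hb)
    exact congrArg Subtype.val (hAc.is_comm.comm ⟨x, hm x⟩ ⟨y, hm y⟩)
  obtain ⟨a0, ha0, ha0'⟩ := SetLike.not_le_iff_exists.1 hnA
  obtain ⟨b0, hb0, hb0'⟩ := SetLike.not_le_iff_exists.1 hnB
  have cA : ∀ x ∈ A, ∀ y ∈ A, Commute x y := fun x hx y hy =>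
    congrArg Subtype.val (hAc.is_comm.comm ⟨x, hx⟩ ⟨y, hy⟩)
  have cB : ∀ x ∈ B, ∀ y ∈ B, Commute x y := fun x hx y hy =>
    congrArg Subtype.val (hBc.is_comm.comm ⟨x, hx⟩ ⟨y, hy⟩)
  have hCa : ∀ a ∈ A, a ∉ B → ∀ x, Commute x a → x ∈ A := fun a ha ha' x hx =>
    (hC a ha ha').le (mem_centralizer_singleton_iff.2 hx.eq)
  have hnc : ∀ a ∈ A, a ∉ B → ∀ b ∈ B, b ∉ A → ¬ Commute a b :=
    fun a ha ha' b _ hb' h => hb' (hCa a ha ha' b h.symm)
  have hCb : ∀ b ∈ B, b ∉ A → ∀ x, Commute x b → x ∈ B := by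
    intro b hb hb' x hx
    obtain ⟨a, ha, b', hb1, rfl⟩ := hAB x
    by_contra hxB
    have ha' : a ∉ B := fun h => hxB (B.mul_mem h hb1)
    have : Commute a b := by
      have := hx.mul_left ((cB b' hb1 b hb).inv_left)
      rwa [mul_inv_cancel_right] at this
    exact hnc a ha ha' b hb hb' this
  refine ⟨fun b hb hb' => le_antisymm (fun x hx => hCb b hb hb' x (mem_centralizer_singleton_iff.1 hx))
    (fun x hx => mem_centralizer_singleton_iff.2 (cB x hx b hb).eq), ?_, ?_, ?_, ?_, ?_⟩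
  · intro E hE hmax
    have hsub : ∀ x ∈ E, x ∈ A ∨ x ∈ B := by
      intro x hx
      obtain ⟨a, ha, b, hb, rfl⟩ := hAB x
      by_contra hh
      push Not at hh
      have ha' : a ∉ B := fun h => hh.2 (B.mul_mem h hb)
      have hb' : b ∉ A := fun h => hh.1 (A.mul_mem ha h)
      refine hnc a ha ha' b hb hb' ?_
      have h2 := hE.2 _ hx
      rw [pow_two] at h2
      have ia : a⁻¹ = a := inv_eq_of_mul_eq_one_right (by rw [← pow_two]; exact hA.2 a ha)
      have ib : b⁻¹ = b := inv_eq_of_mul_eq_one_right (by rw [← pow_two]; exact hB.2 b hb)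
      show a * b = b * a
      conv_rhs => rw [← ia, ← ib, ← mul_inv_rev]
      exact (inv_eq_of_mul_eq_one_right h2).symm
    rcases (em (E ≤ A)) with h | h
    · exact Or.inl (hmax A hA h).symm
    · obtain ⟨x, hx, hxA⟩ := SetLike.not_le_iff_exists.1 h
      refine Or.inr (hmax B hB fun y hy => ?_).symm
      have hxB := (hsub x hx).resolve_left hxA
      rcases hsub y hy with hyA | hyB
      · rcases hsub (x * y) (E.mul_mem hx hy) with h' | h'
        · exact absurd (by simpa using A.mul_mem h' (A.inv_mem hyA)) hxA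
        · simpa using B.mul_mem (B.inv_mem hxB) h'
      · exact hyB
  · intro E' hE' hle
    refine le_antisymm (fun x hx => hCa a0 ha0 ha0' x ?_) hle
    exact congrArg Subtype.val (hE'.1.is_comm.comm ⟨x, hx⟩ ⟨a0, hle ha0⟩)
  · intro E' hE' hle
    refine le_antisymm (fun x hx => hCb b0 hb0 hb0' x ?_) hle
    exact congrArg Subtype.val (hE'.1.is_comm.comm ⟨x, hx⟩ ⟨b0, hle hb0⟩)
  · ext z
    rw [Subgroup.mem_center_iff]
    constructor
    · exact fun h => ⟨hCa a0 ha0 ha0' z (h a0).symm, hCb b0 hb0 hb0' z (h b0).symm⟩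
    · rintro ⟨hzA, hzB⟩ g
      obtain ⟨a, ha, b, hb, rfl⟩ := hAB g
      exact (cA a ha z hzA).mul_left (cB b hb z hzB)
  · intro x hxA hxB
    obtain ⟨a, ha, b, hb, rfl⟩ := hAB x
    have ha' : a ∉ B := fun h => hxB (B.mul_mem h hb)
    have hb' : b ∉ A := fun h => hxA (A.mul_mem ha h)
    set C := Subgroup.centralizer ({a * b} : Set S)
    have e1 : A ⊓ C ≤ A ⊓ B := by
      rintro c ⟨hc, hc'⟩
      refine ⟨hc, by_contra fun h => hxA ?_⟩
      exact hCa c hc h _ (mem_centralizer_singleton_iff.1 hc').symm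
    have e2 : B ⊓ C ≤ B ⊓ A := by
      rintro c ⟨hc, hc'⟩
      refine ⟨hc, by_contra fun h => hxB ?_⟩
      exact hCb c hc h _ (mem_centralizer_singleton_iff.1 hc').symm
    refine le_min ?_ (key A B C (fun s => ?_) e1)
    · refine key B A C (fun s => hAB s) e2
    · obtain ⟨a, ha, b, hb, h⟩ := hAB s⁻¹
      exact ⟨b⁻¹, B.inv_mem hb, a⁻¹, A.inv_mem ha, by rw [← mul_inv_rev, ← h, inv_inv]⟩

end Cfsg.Agent.S3163
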