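import Cfsg.Statements.S3164
import Cfsg.Agent.Components.Basic

set_option autoImplicit false
open Cfsg

namespace Cfsg.Agent.S3164

open Subgroup

variable {G : Type*} [Group G]

/-- square roots in odd-order subgroups -/
theorem exists_sq_root [Finite G] (W : Subgroup G) (hW : Odd (Nat.card W)) {d : G} (hd : d ∈ W) :
    ∃ n : ℕ, (d ^ n) ^ 2 = d := by
  obtain ⟨k, hk⟩ := hW
  refine ⟨k + 1, ?_⟩
  have h1 : d ^ Nat.card W = 1 := by
    have h := pow_card_eq_one' (x := (⟨d, hd⟩ : W))
    exact congrArg Subtype.val h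
  rw [← pow_mul, show (k + 1) * 2 = Nat.card W + 1 by omega, pow_succ, h1, one_mul]

/-- Every element of an odd order subgroup normalised by an involution splits as fixed times inverted. -/
theorem exists_split [Finite G] (W : Subgroup G) (hW : Odd (Nat.card W)) {t : G} (ht : t * t = 1)
    (htW : ∀ w ∈ W, t * w * t ∈ W) {w : G} (hw : w ∈ W) :
    ∃ c ∈ W, ∃ i ∈ W, t * c * t = c ∧ t * i * t = i⁻¹ ∧ w = c * i := by
  have tt : ∀ x : G, t * (t * x) = x := fun x => by rw [← mul_assoc, ht, one_mul]
  have hmul : ∀ a b : G, t * (a * b) * t = (t * a * t) * (t * b * t) := fun a b => by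
    simp [mul_assoc, tt]
  set d := w⁻¹ * (t * w * t) with hd
  have hdW : d ∈ W := mul_mem (inv_mem hw) (htW w hw)
  obtain ⟨n, hn⟩ := exists_sq_root W hW hdW
  have htd : t * d * t = d⁻¹ := by
    have htinv : t⁻¹ = t := inv_eq_of_mul_eq_one_right ht
    simp [hd, mul_assoc, htinv, tt, ht]
  have htdn : t * d ^ n * t = (d ^ n)⁻¹ := by
    have htinv : t⁻¹ = t := inv_eq_of_mul_eq_one_right ht
    have h := conj_pow (i := n) (a := t) (b := d)
    rw [htinv] at h
    rw [← h, htd, inv_pow]
  refine ⟨w * d ^ n, mul_mem hw (pow_mem hdW n), (d ^ n)⁻¹, inv_mem (pow_mem hdW n), ?_, ?_, ?_⟩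
  · rw [hmul, htdn]
    have : t * w * t = w * d := by simp [hd]
    rw [this]
    conv_lhs => arg 1; arg 2; rw [← hn]
    rw [pow_two]; group
  · have htinv : t⁻¹ = t := inv_eq_of_mul_eq_one_right ht
    have h := congrArg (·⁻¹) htdn
    simpa [mul_assoc, htinv] using h
  · simp

/-- the key lemma: a centralizes W -/
theorem centralizes_odd [Finite G] (W : Subgroup G) (hW : Odd (Nat.card W)) {a t : G}
    (ht : t * t = 1) (ha : a * a = 1) (hat : a * t = t * a)
    (htW : ∀ w ∈ W, t * w * t ∈ W) (haW : ∀ w ∈ W, a * w * a ∈ W)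
    (h1 : ∀ w ∈ W, t * w * t = w → a * w * a = w)
    (h2 : ∀ w ∈ W, (a * t) * w * (a * t) = w → t * w * t = w) :
    ∀ w ∈ W, a * w = w * a := by
  have ss : (a * t) * (a * t) = 1 := by
    calc (a * t) * (a * t) = a * (t * a) * t := by group
      _ = 1 := by rw [← hat, ← mul_assoc, ha, one_mul, ht]
  have hsW : ∀ w ∈ W, (a * t) * w * (a * t) ∈ W := by
    intro w hw
    have : (a * t) * w * (a * t) = a * (t * w * t) * a := by
      conv_lhs => arg 2; rw [hat]
      group
    rw [this]; exact haW _ (htW _ hw)
  have hs : ∀ w : G, (a * t) * w * (a * t) = a * (t * w * t) * a := fun w => by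
    conv_lhs => arg 2; rw [hat]
    group
  have hm : ∀ (s : G), s * s = 1 → ∀ u v : G, s * (u * v) * s = (s * u * s) * (s * v * s) := by
    intro s hs u v
    calc s * (u * v) * s = s * u * (s * s) * v * s := by rw [hs]; group
      _ = _ := by group
  have hinv : ∀ (s : G), s * s = 1 → ∀ u : G, s * u⁻¹ * s = (s * u * s)⁻¹ := by
    intro s hs u
    simp [mul_assoc, inv_eq_of_mul_eq_one_right hs]
  suffices key : ∀ i ∈ W, t * i * t = i⁻¹ → a * i * a = i by
    intro w hw
    obtain ⟨c, hc, i, hi, hc1, hi1, rfl⟩ := exists_split W hW ht htW hw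
    have h : a * (c * i) * a = c * i := by rw [hm a ha, h1 c hc hc1, key i hi hi1]
    calc a * (c * i) = a * (c * i) * (a * a) := by rw [ha, mul_one]
      _ = a * (c * i) * a * a := by group
      _ = c * i * a := by rw [h]
  intro i hi hti
  obtain ⟨c, hc, j, hj, hc1, hj1, hij⟩ := exists_split W hW ss hsW hi
  have hct := h2 c hc hc1
  have hca := h1 c hc hct
  -- a-image of i
  have e1 : a * i⁻¹ * a = c * j⁻¹ := by
    have : (a * t) * i * (a * t) = c * j⁻¹ := by rw [hij, hm _ ss, hc1, hj1]
    rwa [hs, hti] at this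
  have hjj : j = c⁻¹ * i := by rw [hij]; group
  have e2 : a * i * a = c⁻¹ * i * c⁻¹ := by
    have := congrArg (·⁻¹) e1
    rw [hinv a ha, inv_inv] at this
    rw [this, hjj]; group
  have e3 : c * i⁻¹ * c = c⁻¹ * i⁻¹ * c⁻¹ := by
    have := congrArg (fun x => t * x * t) e2
    simp only [hm t ht, hinv t ht, hct, hti] at this
    have h' : t * (a * i * a) * t = a * i⁻¹ * a := by
      rw [← hti]
      calc t * (a * i * a) * t = (t * a) * i * (a * t) := by group
        _ = (a * t) * i * (t * a) := by rw [hat]
        _ = _ := by group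
    have l : t * (a * i * a) * t = t * a * t * (t * i * t) * (t * a * t) := by rw [hm t ht, hm t ht]
    calc c * i⁻¹ * c = a * i⁻¹ * a := by rw [e1, hjj]; group
      _ = t * (a * i * a) * t := h'.symm
      _ = c⁻¹ * i⁻¹ * c⁻¹ := by rw [e2, hm t ht, hm t ht, hinv t ht, hct, hti]
  have e4 : i⁻¹ * c ^ 2 * i = (c ^ 2)⁻¹ := by
    rw [pow_two]
    calc i⁻¹ * (c * c) * i = c⁻¹ * (c * i⁻¹ * c) * c * i := by group
      _ = _ := by rw [e3]; group
  have hc4 : c = 1 := by
    have hconj : ∀ x : G, i⁻¹ * x * i = x⁻¹ → i⁻¹ * (i⁻¹ * x * i) * i = x := by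
      intro x hx
      rw [hx]
      calc i⁻¹ * x⁻¹ * i = (i⁻¹ * x * i)⁻¹ := by group
        _ = x := by rw [hx, inv_inv]
    have h5 : Commute (i ^ 2) (c ^ 2) := by
      have := hconj _ e4
      calc i ^ 2 * c ^ 2 = i ^ 2 * (i⁻¹ * (i⁻¹ * c ^ 2 * i) * i) := by rw [this]
        _ = c ^ 2 * i ^ 2 := by simp [pow_two, mul_assoc]
    obtain ⟨n, hn⟩ := exists_sq_root W hW hi
    have h6 : Commute i (c ^ 2) := by
      have := h5.pow_left n
      rwa [← pow_mul, mul_comm 2 n, pow_mul, hn] at this
    have h7 : c ^ 2 = (c ^ 2)⁻¹ := by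
      rw [← e4, mul_assoc, ← h6.eq, inv_mul_cancel_left]
    have h8 : c ^ 4 = 1 := by
      rw [show 4 = 2 + 2 from rfl, pow_add]
      nth_rewrite 2 [h7]
      exact mul_inv_cancel _
    have h9 : orderOf c ∣ Nat.card W := by
      rw [← Subgroup.orderOf_mk c hc]; exact orderOf_dvd_natCard _
    have h10 : Nat.Coprime (orderOf c) 4 :=
      Nat.Coprime.coprime_dvd_left h9 (by
        have := Nat.coprime_two_right.2 hW
        exact Nat.Coprime.pow_right 2 this)
    exact orderOf_eq_one_iff.1 (Nat.eq_one_of_dvd_coprimes h10 dvd_rfl (orderOf_dvd_of_pow_eq_one h8))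
  rw [e2, hc4]; simp

theorem dichotomy {A : Subgroup G} (hq : IsQuasisimple A) (W : Subgroup G) [W.Normal] :
    A ≤ W ∨ A ⊓ W ≤ centralizer (A : Set G) :=
  (Components.qsSub_normal hq (Components.le_normalizer_of_normal A)).imp_right fun h =>
    commutator_eq_bot_iff_le_centralizer.1 (by rwa [commutator_comm] at h)

theorem card_sup_dvd_of_normal [Finite G] (H K : Subgroup G) [K.Normal] :
    Nat.card ↥(H ⊔ K) ∣ Nat.card H * Nat.card K := by
  rw [← card_mul_index (K.subgroupOf (H ⊔ K)), Nat.card_congr (subgroupOfEquivOfLe le_sup_right).toEquiv,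
    Subgroup.index, ← Nat.card_congr (QuotientGroup.quotientInfEquivProdNormalQuotient H K).toEquiv,
    mul_comm]
  exact Nat.mul_dvd_mul (Subgroup.card_quotient_dvd_card _) dvd_rfl

theorem inf_le_centralizer {A : Subgroup G} (hq : IsQuasisimple A) (W : Subgroup G) [W.Normal]
    [Group.IsNilpotent W] : A ⊓ W ≤ centralizer (A : Set G) :=
  (dichotomy hq W).resolve_left
    (Components.qsSub_not_le_of_isSolvable hq inferInstance)

set_option maxHeartbeats 1000000 in
theorem result {G : Type*} [Group G] [Finite G] (A : Subgroup G) (hA : Cfsg.IsStandardSubgroup A)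
    (hcyc : ∀ R : Sylow 2 ↥(Subgroup.centralizer (A : Set G)), IsCyclic ↥(R : Subgroup ↥(Subgroup.centralizer (A : Set G)))) (t : G) (ht : orderOf t = 2) (htA : t ∈ Subgroup.centralizer (A : Set G))
    (R : Subgroup G) (hR2 : IsPGroup 2 ↥R) (hRX : R ≤ Subgroup.normalClosure (A : Set G)) (hRt : ∀ r ∈ R, t * r * t⁻¹ ∈ R)
    (hc1 : ⁅R, Subgroup.zpowers t⁆ ≠ ⊥) (hc2 : ⁅R, Subgroup.zpowers t⁆ ≤ A) :
    Cfsg.layer ↥(Subgroup.normalClosure (A : Set G)) = ⊤ ∧ Odd (Nat.card ↥(Subgroup.center ↥(Subgroup.normalClosure (A : Set G)))) := by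
  obtain ⟨hq, htight, -, hnorm⟩ := hA
  have hperf := hq.1
  set C := centralizer (A : Set G) with hC
  have htt : t * t = 1 := by rw [← pow_two, ← ht, pow_orderOf_eq_one]
  have tinv : t⁻¹ = t := inv_eq_of_mul_eq_one_right htt
  -- centralizers of involutions of C normalise A
  have hN : ∀ g : G, g * t = t * g → g ∈ Subgroup.normalizer (A : Set G) := by
    intro g hg
    rw [hnorm]
    by_contra h
    have hodd := htight.2 g h
    have hmem : t ∈ C ⊓ C.map (MulAut.conj g).toMonoidHom := by
      refine ⟨htA, ⟨t, htA, ?_⟩⟩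
      show g * t * g⁻¹ = t
      rw [hg, mul_inv_cancel_right]
    have hd : orderOf t ∣ Nat.card ↥(C ⊓ C.map (MulAut.conj g).toMonoidHom) := by
      rw [← Subgroup.orderOf_mk t hmem]; exact orderOf_dvd_natCard _
    rw [ht] at hd
    exact Nat.not_even_iff_odd.2 hodd (even_iff_two_dvd.2 hd)
  -- uniqueness of involutions
  have huniq : ∀ u ∈ C, u * u = 1 → u * t = t * u → u ≠ 1 → u = t := by
    intro u hu huu hut hu1
    let u' : C := ⟨u, hu⟩
    let t' : C := ⟨t, htA⟩
    have e : ∀ x : C, (x : G) * x = 1 → x ^ 2 = 1 := fun x h => Subtype.ext (by simpa [pow_two] using h)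
    have hcomm : Commute u' t' := Subtype.ext hut
    let K : Subgroup C := closure {u', t'}
    have hKc : ∀ x ∈ ({u', t'} : Set C), ∀ y ∈ ({u', t'} : Set C), x * y = y * x := by
      rintro x (rfl | rfl) y (rfl | rfl)
      · rfl
      · exact hcomm.eq
      · exact hcomm.eq.symm
      · rfl
    have := Subgroup.isMulCommutative_closure hKc
    have hK : IsPGroup 2 K := by
      intro x
      refine ⟨1, Subtype.ext ?_⟩
      show (x : C) ^ 2 = 1
      obtain ⟨x, hx⟩ := x
      show x ^ 2 = 1
      induction hx using closure_induction with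
      | mem y hy =>
        rcases hy with rfl | rfl
        · exact e _ huu
        · exact e _ htt
      | one => simp
      | mul y z hy hz ihy ihz =>
        have hc : Commute y z := congrArg Subtype.val (this.is_comm.comm ⟨y, hy⟩ ⟨z, hz⟩)
        rw [hc.mul_pow, ihy, ihz, one_mul]
      | inv y hy ihy => rw [inv_pow, ihy, inv_one]
    obtain ⟨P, hP⟩ := hK.exists_le_sylow
    have := hcyc P
    have hu' : u' ∈ (P : Subgroup C) := hP (subset_closure (by simp))
    have ht' : t' ∈ (P : Subgroup C) := hP (subset_closure (by simp))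
    have ou : orderOf (⟨u', hu'⟩ : P) = 2 :=
      orderOf_eq_prime (Subtype.ext (e _ huu)) (fun h => hu1 (congrArg (fun x : P => ((x : C) : G)) h))
    have ot : orderOf (⟨t', ht'⟩ : P) = 2 :=
      orderOf_eq_prime (Subtype.ext (e _ htt))
        (fun h => by
          have : t = 1 := congrArg (fun x : P => ((x : C) : G)) h
          rw [this, orderOf_one] at ht; omega)
    classical
    have := Fintype.ofFinite P
    by_contra hne
    have hd2 : 2 ∣ Fintype.card P := by
      have := orderOf_dvd_natCard (⟨u', hu'⟩ : P)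
      rwa [ou, Nat.card_eq_fintype_card] at this
    have h2 := IsCyclic.card_orderOf_eq_totient (α := P) (d := 2) hd2
    have h3 : ({(⟨u', hu'⟩ : P), ⟨t', ht'⟩} : Finset P).card ≤ 1 := by
      have hsub : ({(⟨u', hu'⟩ : P), ⟨t', ht'⟩} : Finset P) ⊆ ({x | orderOf x = 2} : Finset P) := by
        intro x hx
        simp at hx
        rcases hx with rfl | rfl <;> simp [ou, ot]
      have := Finset.card_le_card hsub
      rw [h2] at this
      simpa using this
    rw [Finset.card_pair (fun h => hne (congrArg (fun x : P => ((x : C) : G)) h))] at h3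
    omega
  -- the element a
  obtain ⟨r, hr, hr1⟩ : ∃ r ∈ R, r * t * r⁻¹ * t⁻¹ ≠ 1 := by
    by_contra h
    push Not at h
    apply hc1
    rw [Subgroup.commutator_eq_bot_iff_le_centralizer]
    intro r hr
    rw [Subgroup.mem_centralizer_iff]
    intro y hy
    obtain ⟨k, rfl⟩ := Subgroup.mem_zpowers_iff.1 hy
    have : Commute t r := by
      have := h r hr
      rw [mul_inv_eq_one, mul_inv_eq_iff_eq_mul] at this
      exact this.symm
    exact (this.zpow_left k).eq
  set a := r * t * r⁻¹ * t⁻¹ with ha_def
  have haA : a ∈ A := hc2 (commutator_mem_commutator hr (mem_zpowers t))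
  have hat : a * t = t * a := mem_centralizer_iff.1 htA a haA
  have hrt : r * t * r⁻¹ = a * t := by rw [ha_def]; group
  have hatat : (a * t) * (a * t) = 1 := by
    rw [← hrt]
    calc r * t * r⁻¹ * (r * t * r⁻¹) = r * (t * t) * r⁻¹ := by group
      _ = 1 := by rw [htt]; group
  have haa : a * a = 1 := by
    calc a * a = a * (t * t) * a := by rw [htt, mul_one]
      _ = (a * t) * (t * a) := by group
      _ = 1 := by rw [← hat, hatat]
  have ainv : a⁻¹ = a := inv_eq_of_mul_eq_one_right haa
  have haC : a ∉ C := by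
    intro h
    have := huniq a h haa hat hr1
    rw [this, htt, mul_inv_eq_one] at hrt
    have : t = 1 := by simpa using hrt
    rw [this, orderOf_one] at ht; omega
  -- key lemma on normal subgroups
  have key : ∀ W : Subgroup G, W.Normal → A ⊓ W ≤ C →
      Odd (Nat.card W) ∧ ∀ w ∈ W, a * w = w * a := by
    intro W hW hAW
    -- fixed points of t in W centralise A
    have h1 : ∀ w ∈ W, w * t = t * w → w ∈ C := by
      intro w hw hwt
      have hwN := hN w hwt
      rw [hC, mem_centralizer_iff]
      have hmem : ∀ x ∈ A, w * x * w⁻¹ * x⁻¹ ∈ A ⊓ W := by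
        intro x hx
        refine ⟨A.mul_mem ((mem_normalizer_iff.1 hwN x).1 hx) (A.inv_mem hx), ?_⟩
        have := W.mul_mem hw (hW.conj_mem _ (W.inv_mem hw) x)
        have e : w * x * w⁻¹ * x⁻¹ = w * (x * w⁻¹ * x⁻¹) := by group
        rw [e]; exact this
      have hcen : ∀ x : A, (⟨w * x * w⁻¹ * (x : G)⁻¹, (hmem x x.2).1⟩ : A) ∈ center A := by
        intro x
        rw [mem_center_iff]
        intro y
        exact Subtype.ext (mem_centralizer_iff.1 (hAW (hmem x x.2)) y y.2)
      let f : A →* center A :=
        { toFun := fun x => ⟨⟨w * x * w⁻¹ * (x : G)⁻¹, (hmem x x.2).1⟩, hcen x⟩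
          map_one' := by ext; simp
          map_mul' := fun x y => by
            ext
            show w * (x * y : G) * w⁻¹ * ((x : G) * y)⁻¹ =
              (w * x * w⁻¹ * (x : G)⁻¹) * (w * y * w⁻¹ * (y : G)⁻¹)
            have hc : (x : G) * (w * y * w⁻¹ * (y : G)⁻¹) = (w * y * w⁻¹ * (y : G)⁻¹) * x :=
              mem_centralizer_iff.1 (hAW (hmem y y.2)) x x.2
            calc w * (x * y : G) * w⁻¹ * ((x : G) * y)⁻¹
                = (w * x * w⁻¹) * (w * y * w⁻¹ * (y : G)⁻¹) * (x : G)⁻¹ := by group
              _ = (w * x * w⁻¹ * (x : G)⁻¹) * ((x : G) * (w * y * w⁻¹ * (y : G)⁻¹)) * (x : G)⁻¹ := by group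
              _ = _ := by rw [hc]; group }
      have hker : f.ker = ⊤ := by
        refine top_unique ?_
        rw [← hperf.commutator_eq_top, _root_.commutator_def]
        refine commutator_le.2 fun x _ y _ => ?_
        rw [MonoidHom.mem_ker, map_commutatorElement, commutatorElement_eq_one_iff_commute]
        exact Subtype.ext ((mem_center_iff.1 (f x).2 _).symm)
      intro x hx
      have h2 : f ⟨x, hx⟩ = 1 := MonoidHom.mem_ker.1 (hker ▸ mem_top _)
      have : w * x * w⁻¹ * x⁻¹ = 1 := congrArg (fun z : center A => ((z : A) : G)) h2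
      rw [mul_inv_eq_one, mul_inv_eq_iff_eq_mul] at this
      exact this.symm
    -- hence also centralise a
    have h1a : ∀ w ∈ W, w * t = t * w → w * a = a * w := fun w hw hwt =>
      (mem_centralizer_iff.1 (h1 w hw hwt) a haA).symm
    -- involutory action of t on W has fixed set of odd size
    have htW : ∀ w ∈ W, t * w * t ∈ W := fun w hw => by
      have := hW.conj_mem w hw t; rwa [tinv] at this
    have hodd : Odd (Nat.card W) := by
      classical
      by_contra hev
      rw [Nat.not_odd_iff_even] at hev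
      have := Fintype.ofFinite W
      let σ : Equiv.Perm W := Function.Involutive.toPerm (fun w => ⟨t * w * t, htW w w.2⟩)
        (fun w => Subtype.ext (by
          show t * (t * w * t) * t = w
          calc t * (t * (w : G) * t) * t = (t * t) * w * (t * t) := by group
            _ = w := by rw [htt]; group))
      have hσ : σ ^ 2 = 1 := by
        ext w
        show t * (t * (w : G) * t) * t = w
        calc t * (t * (w : G) * t) * t = (t * t) * w * (t * t) := by group
          _ = w := by rw [htt]; group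
      have hmod := Equiv.Perm.card_compl_support_modEq (p := 2) (n := 1) (σ := σ) (by simpa using hσ)
      let F : Subgroup G := W ⊓ centralizer ({t} : Set G)
      have hF : ∀ x : G, x ∈ F ↔ x ∈ W ∧ x * t = t * x := fun x => by
        simp [F, Subgroup.mem_inf, mem_centralizer_singleton_iff, eq_comm]
      have hFcard : Nat.card F = σ.supportᶜ.card := by
        rw [← Nat.card_eq_finsetCard]
        refine Nat.card_congr
          { toFun := fun x => ⟨⟨x, ((hF x).1 x.2).1⟩, ?_⟩
            invFun := fun x => ⟨(x.1 : G), ?_⟩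
            left_inv := fun x => rfl
            right_inv := fun x => rfl }
        · rw [Finset.mem_compl, Equiv.Perm.notMem_support]
          refine Subtype.ext ?_
          show t * (x : G) * t = x
          rw [← ((hF x).1 x.2).2, mul_assoc, htt, mul_one]
        · refine (hF _).2 ⟨x.1.2, ?_⟩
          have h := congrArg Subtype.val (Equiv.Perm.notMem_support.1 (Finset.mem_compl.1 x.2))
          change t * (x.1 : G) * t = x.1 at h
          conv_lhs => rw [← h]
          rw [mul_assoc (t * (x.1 : G)), htt, mul_one]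
      have hFev : 2 ∣ Nat.card F := by
        rw [hFcard, Nat.dvd_iff_mod_eq_zero, hmod, ← Nat.card_eq_fintype_card]
        exact Nat.even_iff.1 hev
      obtain ⟨u0, hu0⟩ := exists_prime_orderOf_dvd_card' 2 hFev
      obtain ⟨u, hu⟩ := u0
      rw [Subgroup.orderOf_mk] at hu0
      have hne : ∃ u ∈ W, u * u = 1 ∧ u ≠ 1 ∧ u * t = t * u :=
        ⟨u, ((hF u).1 hu).1, by rw [← pow_two, ← hu0, pow_orderOf_eq_one],
          fun h => by simp [h] at hu0, ((hF u).1 hu).2⟩
      obtain ⟨u, huW, huu, hu1, hut⟩ := hne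
      have hut' : u = t := huniq u (h1 u huW hut) huu hut hu1
      subst hut'
      have hatW : a * u ∈ W := by
        have := hW.conj_mem u huW r
        rwa [hrt] at this
      have : a ∈ W := by
        have := W.mul_mem hatW huW
        rwa [mul_assoc, htt, mul_one] at this
      exact haC (hAW ⟨haA, this⟩)
    refine ⟨hodd, ?_⟩
    apply centralizes_odd W hodd htt haa hat htW
    · intro w hw; have := hW.conj_mem w hw a; rwa [ainv] at this
    · intro w hw hwt
      have hwt' : w * t = t * w := by
        conv_lhs => rw [← hwt]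
        rw [mul_assoc (t * w), htt, mul_one]
      rw [← h1a w hw hwt', mul_assoc, haa, mul_one]
    · -- equal fixed point sets by counting
      have hsub : {w : G | w ∈ W ∧ t * w * t = w} ⊆ {w : G | w ∈ W ∧ (a * t) * w * (a * t) = w} := by
        rintro w ⟨hw, hwt⟩
        refine ⟨hw, ?_⟩
        have hwt' : w * t = t * w := by
          conv_lhs => rw [← hwt]
          rw [mul_assoc (t * w), htt, mul_one]
        calc a * t * w * (a * t) = a * (t * w) * (a * t) := by group
          _ = a * w * (t * a) * t := by rw [← hwt']; group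
          _ = a * w * a * (t * t) := by rw [← hat]; group
          _ = w := by rw [htt, mul_one, ← h1a w hw hwt', mul_assoc, haa, mul_one]
      have hcard : {w : G | w ∈ W ∧ (a * t) * w * (a * t) = w}.ncard =
          {w : G | w ∈ W ∧ t * w * t = w}.ncard := by
        have : {w : G | w ∈ W ∧ (a * t) * w * (a * t) = w} =
            (fun w => r * w * r⁻¹) '' {w : G | w ∈ W ∧ t * w * t = w} := by
          ext w
          constructor
          · rintro ⟨hw, hwt⟩
            refine ⟨r⁻¹ * w * r, ⟨?_, ?_⟩, by group⟩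
            · have := hW.conj_mem w hw r⁻¹; rwa [inv_inv] at this
            · rw [← hrt] at hwt
              calc t * (r⁻¹ * w * r) * t = r⁻¹ * (r * t * r⁻¹ * w * (r * t * r⁻¹)) * r := by group
                _ = _ := by rw [hwt]
          · rintro ⟨v, ⟨hv, hvt⟩, rfl⟩
            refine ⟨hW.conj_mem v hv r, ?_⟩
            rw [← hrt]
            calc r * t * r⁻¹ * (r * v * r⁻¹) * (r * t * r⁻¹) = r * (t * v * t) * r⁻¹ := by group
              _ = _ := by rw [hvt]
        rw [this, Set.ncard_image_of_injective]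
        intro x y h
        simpa using h
      have heq := Set.eq_of_subset_of_ncard_le hsub hcard.le
      intro w hw hwat
      exact (heq.ge ⟨hw, hwat⟩).2
  -- A lies in the layer
  set X := Subgroup.normalClosure (A : Set G) with hX
  have hAX : A ≤ X := Subgroup.subset_normalClosure
  have hAE : A ≤ layer G := by
    rcases dichotomy hq (layer G) with h | h
    · exact h
    exfalso
    obtain ⟨hEo, hEa⟩ := key _ inferInstance h
    obtain ⟨hFo, hFa⟩ := key _ inferInstance (inf_le_centralizer hq (fittingSubgroup G))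
    have ha : a ∈ centralizer (generalizedFittingSubgroup G : Set G) := by
      have hle : generalizedFittingSubgroup G ≤ centralizer ({a} : Set G) :=
        sup_le (fun x hx => mem_centralizer_singleton_iff.2 (hEa x hx).symm)
          (fun x hx => mem_centralizer_singleton_iff.2 (hFa x hx).symm)
      exact mem_centralizer_iff.2 fun x hx => (mem_centralizer_singleton_iff.1 (hle hx))
    have hmem := Components.centralizer_genFitting_le ha
    have hodd : Odd (Nat.card ↥(generalizedFittingSubgroup G)) :=
      Odd.of_dvd_nat (hEo.mul hFo) (card_sup_dvd_of_normal _ _)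
    have hao : orderOf a = 2 := orderOf_eq_prime (by rw [pow_two, haa]) hr1
    have hd : orderOf a ∣ Nat.card ↥(generalizedFittingSubgroup G) := by
      rw [← Subgroup.orderOf_mk a hmem]; exact orderOf_dvd_natCard _
    rw [hao] at hd
    exact Nat.not_even_iff_odd.2 hodd (even_iff_two_dvd.2 hd)
  have hXE : X ≤ layer G := by
    exact Subgroup.normalClosure_le_normal hAE
  have hXperf : Group.IsPerfect X := by
    rw [Subgroup.isPerfect_iff]
    refine le_antisymm (Subgroup.commutator_le_right X X) (Subgroup.normalClosure_le_normal ?_)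
    calc A = ⁅A, A⁆ := (Subgroup.commutator_eq_self).symm
      _ ≤ ⁅X, X⁆ := commutator_mono hAX hAX
  constructor
  · -- layer of X
    set E1 : Subgroup G := sSup {K | IsComponent K ∧ K ≤ X} with hE1
    have hE1X : E1 ≤ X := sSup_le fun K hK => hK.2
    have hcov : X ≤ E1 ⊔ centralizer (X : Set G) := by
      refine hXE.trans (sSup_le fun K hK => ?_)
      rcases Components.component_le_or_commutator_eq_bot_normal hK X with h | h
      · exact (le_sSup (show K ∈ {K | IsComponent K ∧ K ≤ X} from ⟨hK, h⟩)).trans le_sup_left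
      · exact ((commutator_eq_bot_iff_le_centralizer).1 h).trans le_sup_right
    have hXle : X ≤ E1 := by
      rw [← (Subgroup.isPerfect_iff.1 hXperf)]
      refine commutator_le.2 fun x hx y hy => ?_
      have hd : ∀ z ∈ X, ∃ e ∈ E1, ∃ c ∈ centralizer (X : Set G), z = e * c := by
        intro z hz
        obtain ⟨e, he, c, hc, h⟩ := mem_sup_of_normal_right.1 (hcov hz)
        exact ⟨e, he, c, hc, h.symm⟩
      obtain ⟨e, he, c, hc, rfl⟩ := hd x hx
      obtain ⟨e', he', c', hc', rfl⟩ := hd y hy
      have hcX : c ∈ X := by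
        have := X.mul_mem (inv_mem (hE1X he)) hx; rwa [inv_mul_cancel_left] at this
      have hcX' : c' ∈ X := by
        have := X.mul_mem (inv_mem (hE1X he')) hy; rwa [inv_mul_cancel_left] at this
      have k1 : Commute c (e' * c') := (mem_centralizer_iff.1 hc _ hy).symm
      have k2 : Commute c' e := (mem_centralizer_iff.1 hc' _ (hE1X he)).symm
      rw [commutatorElement_def]
      have : e * c * (e' * c') * (e * c)⁻¹ * (e' * c')⁻¹ = e * e' * e⁻¹ * e'⁻¹ := by
        calc e * c * (e' * c') * (e * c)⁻¹ * (e' * c')⁻¹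
            = e * (c * (e' * c')) * c⁻¹ * e⁻¹ * c'⁻¹ * e'⁻¹ := by group
          _ = e * e' * (c' * e⁻¹) * c'⁻¹ * e'⁻¹ := by rw [k1.eq]; group
          _ = _ := by rw [k2.inv_right.eq]; group
      rw [this]
      exact mul_mem (mul_mem (mul_mem he he') (inv_mem he)) (inv_mem he')
    have : E1.subgroupOf X ≤ layer X := by
      rw [← Subgroup.map_le_map_iff_of_injective X.subtype_injective, subgroupOf_map_subtype,
        inf_eq_left.2 hE1X]
      refine sSup_le fun K hK => ?_
      have hc : IsComponent (K.subgroupOf X) := by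
        refine ⟨hK.1.1.subgroupOf, ?_⟩
        exact Components.qs_congr (subgroupOfEquivOfLe hK.2).symm hK.1.2
      have := Subgroup.map_mono (f := X.subtype) (le_sSup (s := {K | IsComponent K}) hc)
      rwa [subgroupOf_map_subtype, inf_eq_left.2 hK.2] at this
    exact top_unique ((subgroupOf_eq_top.2 hXle).ge.trans this)
  · -- centre of X
    set Z := (center X).map X.subtype with hZ
    have : Z.Normal := inferInstance
    have hcard : Nat.card Z = Nat.card (center X) :=
      Nat.card_congr ((equivMapOfInjective _ _ X.subtype_injective).symm.toEquiv)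
    rw [← hcard]
    refine (key Z inferInstance ?_).1
    rintro x ⟨-, z, hz, rfl⟩
    exact mem_centralizer_iff.2 fun y hy =>
      congrArg Subtype.val (mem_center_iff.1 hz ⟨y, hAX hy⟩)

end Cfsg.Agent.S3164
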