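import Cfsg.Statements.S3166
import Cfsg.Agent.Arith.LTE
-- import your own Cfsg.Agent.* helpers here

set_option autoImplicit false
open Cfsg

namespace Cfsg.Agent.S3166


lemma eq_one {q p m : ℕ} (hq : ∃ n, 1 ≤ n ∧ q = 2 ^ n) (hp : p.Prime)
    (h : q ^ 4 - q ^ 3 + q ^ 2 - q + 1 = p ^ m) : m = 1 := by
  obtain ⟨n, hn, hq⟩ := hq
  have hq2 : 2 ≤ q := hq ▸ Nat.le_self_pow (by omega) 2
  obtain ⟨c, hc⟩ : 2 ∣ q := hq ▸ dvd_pow_self 2 (by omega)
  have h34 : q ^ 3 ≤ q ^ 4 := Nat.pow_le_pow_right (by omega) (by norm_num)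
  have h12 : q ≤ q ^ 4 - q ^ 3 + q ^ 2 := by
    have := Nat.le_self_pow (two_ne_zero) q; omega
  zify [h34, h12] at h
  have hz : (2 : ℤ) ≤ q := by exact_mod_cast hq2
  have hc' : (q : ℤ) = 2 * c := by exact_mod_cast hc
  rcases Nat.even_or_odd m with ⟨k, rfl⟩ | hodd
  · exfalso
    rw [pow_add] at h
    have hy : (0 : ℤ) ≤ (p : ℤ) ^ k := by positivity
    generalize (p : ℤ) ^ k = y at h hy
    have hc1 : (1 : ℤ) ≤ c := by omega
    rw [hc'] at h
    have h1 : 4 * (c : ℤ) ^ 2 - c < y := by nlinarith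
    have h2 : y < 4 * (c : ℤ) ^ 2 - c + 1 := by
      by_contra hh
      push Not at hh
      have := mul_le_mul hh hh (by nlinarith) hy
      nlinarith
    omega
  · by_contra hm1
    have hm3 : 3 ≤ m := by obtain ⟨k, rfl⟩ := hodd; omega
    have hpodd : ¬ 2 ∣ p := by
      intro hd
      have h1 : (2 : ℤ) ∣ (p : ℤ) ^ m :=
        (dvd_pow (by exact_mod_cast hd) (by omega))
      have h2 : (2 : ℤ) ∣ ((q : ℤ) ^ 4 - (q : ℤ) ^ 3 + (q : ℤ) ^ 2 - q) :=
        ⟨c * ((q : ℤ) ^ 3 - (q : ℤ) ^ 2 + q - 1), by rw [hc']; ring⟩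
      omega
    obtain ⟨S, hSdef⟩ : ∃ S, S = ∑ i ∈ Finset.range m, p ^ i := ⟨_, rfl⟩
    have hgeom : S * (p - 1) = p ^ m - 1 := hSdef ▸ Arith.geom_mul_eq p m hp.one_le
    have hSodd : ¬ 2 ∣ S := by
      rw [hSdef]
      intro hd
      have hmod := (Arith.geom_mod_sub_one hp.one_le m).of_dvd (show 2 ∣ p - 1 by omega)
      have := (hmod.dvd_iff dvd_rfl).1 hd
      obtain ⟨k, rfl⟩ := hodd; omega
    have hdvd : q ∣ S * (p - 1) := by
      rw [hgeom, ← Int.natCast_dvd_natCast, Nat.cast_sub (Nat.one_le_pow _ _ hp.pos), Nat.cast_pow,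
        Nat.cast_one, ← h]
      exact ⟨(q : ℤ) ^ 3 - (q : ℤ) ^ 2 + q - 1, by ring⟩
    have hcop : Nat.Coprime q S := hq ▸
      Nat.Coprime.pow_left n ((Nat.prime_two.coprime_iff_not_dvd).2 hSodd)
    obtain ⟨u, hu⟩ := hcop.dvd_of_dvd_mul_left hdvd
    have hu1 : 1 ≤ u := by
      rcases u.eq_zero_or_pos with rfl | h'
      · have := hp.two_le; omega
      · exact h'
    have hp' : (p : ℤ) = q * u + 1 := by
      have := hp.two_le
      zify [hp.one_le] at hu; linarith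
    have hu1' : (1 : ℤ) ≤ u := by exact_mod_cast hu1
    obtain rfl : m = 3 := by
      by_contra hm
      have h4 : (p : ℤ) ^ 4 ≤ (p : ℤ) ^ m :=
        pow_le_pow_right₀ (by exact_mod_cast hp.one_le) (by omega)
      have h5 : ((q : ℤ) + 1) ^ 4 ≤ (p : ℤ) ^ 4 := pow_le_pow_left₀ (by omega) (by nlinarith) 4
      nlinarith [pow_pos (show (0 : ℤ) < q by omega) 3, pow_pos (show (0 : ℤ) < q by omega) 2]
    have heq : (u : ℤ) * ((q : ℤ) ^ 2 * u ^ 2 + 3 * q * u + 3) =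
        (q : ℤ) ^ 3 - (q : ℤ) ^ 2 + q - 1 := by
      refine mul_left_cancel₀ (show (q : ℤ) ≠ 0 by omega) ?_
      rw [hp'] at h; linear_combination -h
    have hd : q ∣ 3 * u + 1 := by
      rw [← Int.natCast_dvd_natCast]
      exact ⟨(q : ℤ) ^ 2 - q + 1 - u * (q * u ^ 2 + 3 * u), by push_cast; linear_combination heq⟩
    have hle := Nat.le_of_dvd (by omega) hd
    have hle' : (q : ℤ) ≤ 3 * u + 1 := by exact_mod_cast hle
    have hu3 : (u : ℤ) ^ 3 < q := by
      by_contra hh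
      push Not at hh
      nlinarith [mul_le_mul_of_nonneg_left hh (sq_nonneg (q : ℤ))]
    obtain rfl : u = 1 := by
      by_contra hne
      have : (2 : ℤ) ≤ u := by omega
      nlinarith [mul_le_mul this this (by norm_num) (by omega)]
    have hq4 : q ≤ 4 := by omega
    interval_cases q <;> norm_num at heq

/-- Let q = 2^n with n ≥ 1. If q⁴ − q³ + q² − q + 1 is a power p^m of a prime p, then m = 1: the value is never a prime power with exponent greater than 1. -/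
theorem result (n p m : ℕ) (hn : 1 ≤ n) (hp : p.Prime) (h : (2 ^ n) ^ 4 - (2 ^ n) ^ 3 + (2 ^ n) ^ 2 - 2 ^ n + 1 = p ^ m) : m = 1 := by
  exact eq_one (q := 2 ^ n) ⟨n, hn, rfl⟩ hp h

end Cfsg.Agent.S3166
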