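import Cfsg.Statements.S3171
import Cfsg.Agent.H63.M24SylowQuot

set_option autoImplicit false
open Cfsg

namespace Cfsg.Agent.S3171

/-- Let P be a Sylow 2-subgroup of the Mathieu group of degree 24 and S the quotient of P by its centre. Then the centre of every maximal subgroup of S has order at most 8; S has an elementary abelian subgroup of order 64; and S has only one abelian subgroup of order 64. -/
theorem result (P : Sylow 2 ↥Cfsg.M24) :
    (∀ M : Subgroup (↥(P : Subgroup ↥Cfsg.M24) ⧸ Subgroup.center ↥(P : Subgroup ↥Cfsg.M24)), IsCoatom M →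
        Nat.card ↥(Subgroup.center ↥M) ≤ 8) ∧
      (∃ A : Subgroup (↥(P : Subgroup ↥Cfsg.M24) ⧸ Subgroup.center ↥(P : Subgroup ↥Cfsg.M24)),
        Cfsg.IsElementaryAbelian 2 A ∧ Nat.card ↥A = 64) ∧
      ∀ A B : Subgroup (↥(P : Subgroup ↥Cfsg.M24) ⧸ Subgroup.center ↥(P : Subgroup ↥Cfsg.M24)),
        IsMulCommutative ↥A → Nat.card ↥A = 64 → IsMulCommutative ↥B → Nat.card ↥B = 64 → A = B := by
  classical
  haveI : Fact (Nat.Prime 2) := ⟨Nat.prime_two⟩
  let Q0 : Subgroup ↥Cfsg.M24 := H63.M24Sylow.P0.subgroupOf Cfsg.M24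
  have hQ0 : Nat.card Q0 = 2 ^ 10 := by
    rw [Nat.card_congr (Subgroup.subgroupOfEquivOfLe H63.M24Sylow.P0_le).toEquiv,
      H63.M24Sylow.card_P0]
    norm_num
  obtain ⟨Q, hQ⟩ := (IsPGroup.of_card hQ0).exists_le_sylow
  have hQc : Nat.card (Q : Subgroup ↥Cfsg.M24) ≤ 2 ^ 10 := by
    obtain ⟨n, hn⟩ := IsPGroup.iff_card.1 Q.isPGroup'
    have hd := Subgroup.card_subgroup_dvd_card (Q : Subgroup ↥Cfsg.M24)
    rw [hn, Cfsg.Agent.Golay.card_M24] at hd
    rw [hn]
    refine Nat.pow_le_pow_right (by norm_num) ?_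
    by_contra h
    exact absurd ((pow_dvd_pow 2 (show 11 ≤ n by omega)).trans hd) (by norm_num)
  have hQe : Q0 = (Q : Subgroup ↥Cfsg.M24) := Subgroup.eq_of_le_of_card_ge hQ (by rw [hQ0]; exact hQc)
  let e : ↥(P : Subgroup ↥Cfsg.M24) ≃* ↥H63.M24Sylow.P0 :=
    ((Sylow.equiv P Q).trans (MulEquiv.subgroupCongr hQe.symm)).trans
      (Subgroup.subgroupOfEquivOfLe H63.M24Sylow.P0_le)
  let φ := H63.M24Sylow.P0.subtype.comp e.toMonoidHom
  have hφ : Function.Injective φ := Subtype.val_injective.comp e.injective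
  have hr : φ.range = H63.M24Sylow.P0 := by
    ext x
    exact ⟨fun ⟨y, hy⟩ => hy ▸ (e y).2, fun hx => ⟨e.symm ⟨x, hx⟩, by
      show ((e (e.symm ⟨x, hx⟩)) : Equiv.Perm _) = x
      rw [e.apply_symm_apply]⟩⟩
  have hH := H63.M24Sylow.hyp φ hφ hr
  refine ⟨fun M hM => H63.IndexEight.card_center_le hH M hM,
    ⟨_, H63.M24Sylow.elementary φ hφ hr, hH.cardA⟩, fun A B hA hA' hB hB' => ?_⟩
  haveI := hA
  haveI := hB
  rw [H63.IndexEight.unique hH A hA', H63.IndexEight.unique hH B hB']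

end Cfsg.Agent.S3171
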