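import Cfsg.Statements.S3174
import Cfsg.Agent.H46.BigTwoCenter

set_option autoImplicit false
open Cfsg

namespace Cfsg.Agent.S3174

/-- Let T be a finite 2-group of order at least 2^14 in which the fourth term of the upper central series has order 16. Let W be the centralizer in T of the third term Z₃(T), and suppose the Frattini subgroup of W has order at most 8 and lies in every subgroup of W of index at most 16. Then T has order exactly 2^14; the derived subgroup of W and the Frattini subgroup of W both equal Z₃(T), which is elementary abelian of order 8; the centre of W has order 8; W is normal in T with quotient dihedral of order 8; and W modulo its derived subgroup is elementary abelian of order 2^8. -/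
theorem result {T : Type*} [Group T] [Finite T]
    (hT : IsPGroup 2 T) (ha : 2 ^ 14 ≤ Nat.card T) (hb : Nat.card ↥(Subgroup.upperCentralSeries T 4) = 16)
    (W : Subgroup T) (hW : W = Subgroup.centralizer ((Subgroup.upperCentralSeries T 3 : Subgroup T) : Set T))
    (hc : Nat.card ↥(frattini ↥W) ≤ 8) (hd : ∀ U : Subgroup ↥W, U.index ≤ 16 → frattini ↥W ≤ U) :
    Nat.card T = 2 ^ 14 ∧
      (commutator ↥W).map W.subtype = Subgroup.upperCentralSeries T 3 ∧
      (frattini ↥W).map W.subtype = Subgroup.upperCentralSeries T 3 ∧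
      Nat.card ↥(Subgroup.center ↥W) = 8 ∧
      Nat.card ↥(Subgroup.upperCentralSeries T 3) = 8 ∧ (∀ z ∈ Subgroup.upperCentralSeries T 3, z ^ 2 = 1) ∧
      (∃ (_ : W.Normal), Nonempty (T ⧸ W ≃* DihedralGroup 4)) ∧
      Nat.card (↥W ⧸ commutator ↥W) = 2 ^ 8 ∧ (∀ x : ↥W ⧸ commutator ↥W, x ^ 2 = 1) := by
  classical
  haveI : Fact (Nat.Prime 2) := ⟨Nat.prime_two⟩
  have h : H46.BigTwo.Cfg T W := ⟨hT, ha, hb, hW, hc, hd⟩
  haveI hWn := H46.BigTwo.W_normal h
  obtain ⟨hWi, hTc, hWc, hFc, hFi⟩ := H46.BigTwo.basic h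
  have hder := H46.BigTwo.derived_eq h
  have hphi := H46.BigTwo.phi_eq h
  have hcf : commutator ↥W = frattini ↥W :=
    Subgroup.map_injective Subtype.val_injective (hder.trans hphi.symm)
  obtain ⟨χ, hχk, hχs, -⟩ := H46.BigTwo.exists_chi h
  refine ⟨hTc, hder, hphi, ?_, ?_, H46.BigTwo.sq_eq_one h, ⟨hWn, ?_⟩, ?_, ?_⟩
  · set Zw := (Subgroup.center ↥W).map W.subtype with hZw
    haveI : Zw.Normal := inferInstance
    have hle : Subgroup.upperCentralSeries T 3 ≤ Zw := by
      rw [← hphi]
      exact Subgroup.map_mono (H46.BigTwo.frattini_le_center h)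
    obtain ⟨k, hk⟩ : ∃ k, Nat.card Zw = 2 ^ k := IsPGroup.iff_card.1 (hT.to_subgroup _)
    rw [Nat.card_congr ((Subgroup.center ↥W).equivMapOfInjective _ W.subtype_injective).toEquiv, ← hZw]
    rcases Nat.lt_or_ge k 4 with hk4 | hk4
    · apply le_antisymm
      · rw [hk]; exact le_trans (Nat.pow_le_pow_right two_pos (by omega : k ≤ 3)) le_rfl
      · refine le_trans (le_of_eq ?_) (Subgroup.card_le_of_le hle)
        rw [H46.BigTwo.card_Z h (by omega)]; norm_num
    · exfalso
      have h4 := H46.BigTwo.normal_ge h (k := 4) le_rfl Zw (hk ▸ Nat.pow_le_pow_right two_pos hk4)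
      refine H46.BigTwo.false_of_Z4_le h fun s hs w hw => ?_
      obtain ⟨v, hv, rfl⟩ := h4 hs
      exact congrArg Subtype.val (Subgroup.mem_center_iff.1 hv ⟨w, hw⟩)
  · rw [H46.BigTwo.card_Z h (by omega)]; norm_num
  · exact ⟨(QuotientGroup.quotientMulEquivOfEq hχk.symm).trans
      (QuotientGroup.quotientKerEquivOfSurjective χ hχs)⟩
  · rw [← Subgroup.index_eq_card, hcf, hFi]
  · intro x
    obtain ⟨a, rfl⟩ := QuotientGroup.mk_surjective x
    rw [← QuotientGroup.mk_pow, QuotientGroup.eq_one_iff, hcf]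
    exact Cfsg.Agent.PGroups.pow_mem_frattini (hT.to_subgroup W) a

end Cfsg.Agent.S3174
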