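import Cfsg.Statements.S3175
import Cfsg.Agent.H46.BigTwoCore
import Mathlib.GroupTheory.SchurZassenhaus

set_option autoImplicit false
open Cfsg

namespace Cfsg.Agent.S3175

open scoped commutatorElement

section Helpers

open Cfsg.Agent.H46.BigTwo

local notation "Z" => Subgroup.upperCentralSeries

variable {T : Type*} [Group T] [Finite T] {W : Subgroup T}

theorem disp_mem (hT : IsPGroup 2 T) (α : MulAut T) (hα : Odd (orderOf α)) (N : Subgroup T) [N.Normal]
    (hN : ∀ m ∈ N, α m ∈ N) {x : T} (hc : (x⁻¹ * α x)⁻¹ * α (x⁻¹ * α x) ∈ N) : x⁻¹ * α x ∈ N := by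
  set c := x⁻¹ * α x with hcdef
  let q := QuotientGroup.mk' N
  have hqc : q (α c) = q c := by
    rw [QuotientGroup.mk'_apply, QuotientGroup.mk'_apply, eq_comm, QuotientGroup.eq]; exact hc
  have hstep : ∀ k : ℕ, q ((α ^ k) x) = q x * q c ^ k := by
    intro k
    induction k with
    | zero => simp
    | succ k ih =>
      have hm : (x * c ^ k)⁻¹ * (α ^ k) x ∈ N := by
        rw [← QuotientGroup.eq, ← QuotientGroup.mk'_apply, ← QuotientGroup.mk'_apply]
        rw [map_mul, map_pow]; exact ih.symm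
      have h1 : (α ^ (k + 1)) x = α x * α c ^ k * α ((x * c ^ k)⁻¹ * (α ^ k) x) := by
        rw [pow_succ', MulAut.mul_apply, ← map_pow α c, ← map_mul, ← map_mul, mul_inv_cancel_left]
      rw [h1, map_mul, map_mul, map_pow, hqc]
      have : q (α ((x * c ^ k)⁻¹ * (α ^ k) x)) = 1 := (QuotientGroup.eq_one_iff _).2 (hN _ hm)
      rw [this, mul_one, show α x = x * c by rw [hcdef]; group, map_mul, pow_succ', mul_assoc]
  have hn := hstep (orderOf α)
  rw [pow_orderOf_eq_one, MulAut.one_apply, left_eq_mul] at hn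
  obtain ⟨j, hj⟩ := IsPGroup.iff_orderOf.1 (hT.to_quotient N) (q c)
  have hcop : Nat.Coprime (2 ^ j) (orderOf α) := (Nat.coprime_two_left.2 hα).pow_left _
  have hone : q c = 1 :=
    orderOf_eq_one_iff.1 (Nat.eq_one_of_dvd_coprimes hcop (hj ▸ dvd_rfl) (orderOf_dvd_of_pow_eq_one hn))
  exact (QuotientGroup.eq_one_iff c).1 hone

theorem mem_Z_apply (α : MulAut T) {n : ℕ} {m : T} (hm : m ∈ Z T n) : α m ∈ Z T n := by
  rw [← Subgroup.comap_upperCentralSeries α n] at hm
  exact hm

theorem fix_Z (h : Cfg T W) (α : MulAut T) (hα : Odd (orderOf α)) :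
    ∀ i ≤ 3, ∀ z ∈ Z T i, α z = z := by
  intro i
  induction i with
  | zero => intro _ z hz; rw [Subgroup.upperCentralSeries_zero, Subgroup.mem_bot] at hz; simp [hz]
  | succ i ih =>
    intro hi z hz
    by_cases hzi : z ∈ Z T i
    · exact ih (by omega) z hzi
    have hc : z⁻¹ * α z ∈ Z T i := by
      rw [double_mem_iff (Subgroup.upperCentralSeries_mono T i.le_succ)
        (by rw [card_Z h (by omega), card_Z h (by omega), pow_succ']) ((Z T (i + 1)).inv_mem hz) (mem_Z_apply α hz)]
      refine ⟨fun hh => absurd (by simpa using (Z T i).inv_mem hh) hzi, fun hh => absurd ?_ hzi⟩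
      have := mem_Z_apply α⁻¹ hh
      simpa using this
    have hfix := ih (by omega) _ hc
    have := disp_mem h.hT α hα ⊥ (fun m hm => by simp [Subgroup.mem_bot.1 hm]) (x := z)
      (by rw [hfix, inv_mul_cancel]; exact Subgroup.one_mem _)
    rw [Subgroup.mem_bot, inv_mul_eq_one] at this
    exact this.symm

theorem mem_W_apply (h : Cfg T W) (α : MulAut T) {w : T} (hw : w ∈ W) : α w ∈ W := by
  rw [mem_W_iff h] at hw ⊢
  intro z hz
  have := congrArg α (hw _ (mem_Z_apply α⁻¹ hz))
  simpa using this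

theorem disp_W (h : Cfg T W) (α : MulAut T) (hα : Odd (orderOf α)) (t : T) : t⁻¹ * α t ∈ W := by
  haveI := W_normal h
  rw [mem_W_iff h]
  intro z hz
  have hfix := fix_Z h α hα 3 le_rfl
  have hn : (Z T 3).Normal := inferInstance
  have h1 := hfix _ (hn.conj_mem z hz t)
  rw [map_mul, map_mul, map_inv, hfix z hz] at h1
  calc z * (t⁻¹ * α t) = t⁻¹ * (t * z * t⁻¹) * α t := by group
    _ = t⁻¹ * (α t * z * (α t)⁻¹) * α t := by rw [h1]
    _ = t⁻¹ * α t * z := by group

theorem disp_Z3 (h : Cfg T W) (α : MulAut T) (hα : Odd (orderOf α)) :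
    ∀ j : ℕ, ∀ w ∈ W, w ∈ Z T j → w⁻¹ * α w ∈ Z T 3 := by
  haveI := W_normal h
  intro j
  induction j with
  | zero =>
    intro w _ hw
    rw [Subgroup.upperCentralSeries_zero, Subgroup.mem_bot] at hw
    simp [hw]
  | succ j ih =>
    intro w hwW hw
    set c := w⁻¹ * α w with hcdef
    have hcW : c ∈ W := W.mul_mem (W.inv_mem hwW) (mem_W_apply h α hwW)
    let q := QuotientGroup.mk' (Z T 3)
    have hcomm : ∀ a ∈ W, ∀ b ∈ W, Commute (q a) (q b) := by
      intro a ha b hb
      rw [← commutatorElement_eq_one_iff_commute, ← map_commutatorElement]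
      exact (QuotientGroup.eq_one_iff _).2 (comm_mem_Z h ha hb)
    have hc4 : c ∈ Z T 4 := by
      rw [Subgroup.mem_upperCentralSeries_succ_iff]
      intro t
      set u := t⁻¹ * α t with hudef
      have huW : u ∈ W := disp_W h α hα t
      have hwt : ⁅w, t⁆ ∈ W := by
        rw [commutatorElement_def, mul_assoc, mul_assoc]
        exact W.mul_mem hwW (by simpa [mul_assoc] using (W_normal h).conj_mem _ (W.inv_mem hwW) t)
      have h1 : ⁅w, t⁆⁻¹ * α ⁅w, t⁆ ∈ Z T 3 :=
        ih _ hwt (Subgroup.mem_upperCentralSeries_succ_iff.1 hw t)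
      rw [← QuotientGroup.eq, ← QuotientGroup.mk'_apply, ← QuotientGroup.mk'_apply] at h1
      rw [map_commutatorElement α, show α w = w * c by rw [hcdef]; group,
        show α t = t * u by rw [hudef]; group] at h1
      have e : ⁅q (w * c), q (t * u)⁆ = q w * (q c * q t * (q c)⁻¹ * (q t)⁻¹) * (q t * (q w)⁻¹ * (q t)⁻¹) := by
        have hcu : (q u) * (q c)⁻¹ = (q c)⁻¹ * q u := ((hcomm u huW c hcW).inv_right).eq
        have hwu : (q u) * (q w)⁻¹ = (q w)⁻¹ * q u := ((hcomm u huW w hwW).inv_right).eq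
        simp only [commutatorElement_def, map_mul, mul_inv_rev, mul_assoc]
        rw [← mul_assoc (q u) (q c)⁻¹, hcu, mul_assoc, ← mul_assoc (q u) (q w)⁻¹, hwu, mul_assoc,
          mul_inv_cancel_left, inv_mul_cancel_left]
      change q ⁅w, t⁆ = q ⁅w * c, t * u⁆ at h1
      rw [map_commutatorElement, map_commutatorElement, e, commutatorElement_def] at h1
      have h2 : q c * q t * (q c)⁻¹ * (q t)⁻¹ = 1 := by
        have h3 : q w * q t * (q w)⁻¹ * (q t)⁻¹ = q w * 1 * (q t * (q w)⁻¹ * (q t)⁻¹) := by group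
        rw [h3] at h1
        exact (mul_left_cancel (mul_right_cancel h1)).symm
      exact (QuotientGroup.eq_one_iff _).1 (show q ⁅c, t⁆ = 1 by rw [map_commutatorElement, commutatorElement_def, h2])
    by_cases hc3 : c ∈ Z T 3
    · exact hc3
    refine disp_mem h.hT α hα (Z T 3) (fun m hm => mem_Z_apply α hm) ?_
    rw [double_mem_iff (Subgroup.upperCentralSeries_mono T (Nat.le_succ 3))
      (by rw [card_Z h (by omega), card_Z h (by omega)]; norm_num) ((Z T 4).inv_mem hc4) (mem_Z_apply α hc4)]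
    refine ⟨fun hh => absurd (by simpa using (Z T 3).inv_mem hh) hc3, fun hh => absurd ?_ hc3⟩
    have := mem_Z_apply α⁻¹ hh
    simpa using this

theorem aut_trivial (h : Cfg T W) (α : MulAut T) (hα : Odd (orderOf α)) (t : T) : α t = t := by
  haveI : Fact (Nat.Prime 2) := ⟨Nat.prime_two⟩
  haveI := h.hT.isNilpotent
  obtain ⟨n, hn⟩ := Group.IsNilpotent.nilpotent T
  have hW : ∀ w ∈ W, α w = w := by
    intro w hw
    have hfix := fix_Z h α hα 3 le_rfl _ (disp_Z3 h α hα n w hw (by rw [hn]; exact Subgroup.mem_top w))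
    have := disp_mem h.hT α hα ⊥ (fun m hm => by simp [Subgroup.mem_bot.1 hm]) (x := w)
      (by rw [hfix, inv_mul_cancel]; exact Subgroup.one_mem _)
    rw [Subgroup.mem_bot, inv_mul_eq_one] at this
    exact this.symm
  have hfix := hW _ (disp_W h α hα t)
  have := disp_mem h.hT α hα ⊥ (fun m hm => by simp [Subgroup.mem_bot.1 hm]) (x := t)
    (by rw [hfix, inv_mul_cancel]; exact Subgroup.one_mem _)
  rw [Subgroup.mem_bot, inv_mul_eq_one] at this
  exact this.symm

theorem eq_of_iso (h : Cfg T W) (U₁ : Subgroup T) (e : W ≃* U₁) : U₁ = W := by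
  classical
  haveI : Fact (Nat.Prime 2) := ⟨Nat.prime_two⟩
  haveI := W_normal h
  obtain ⟨hWi, -, hW, hF, -⟩ := basic h
  set U := U₁ ⊓ W with hU
  have hrel : U.relIndex U₁ ≤ 8 := by
    rw [hU, Subgroup.inf_relIndex_left, Subgroup.relIndex]
    refine (Nat.le_of_dvd (by omega) (Subgroup.index_comap W U₁.subtype ▸ ?_)).trans hWi.le
    exact Subgroup.relIndex_dvd_index_of_normal W _
  let f : W →* T := U₁.subtype.comp e.toMonoidHom
  have hf : Function.Injective f := Subtype.val_injective.comp e.injective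
  have hfr : f.range = U₁ := by
    rw [MonoidHom.range_comp, MonoidHom.range_eq_top.2 e.surjective, ← MonoidHom.range_eq_map,
      Subgroup.range_subtype]
  have hidx : ∀ V ≤ U₁, (V.comap f).index = V.relIndex U₁ := by
    intro V _
    rw [Subgroup.index_comap, hfr]
  set P : Subgroup T := (frattini ↥W).map f with hP
  have hPle : ∀ V ≤ U₁, V.relIndex U₁ ≤ 16 → P ≤ V := by
    intro V hV hV16
    exact Subgroup.map_le_iff_le_comap.2 (h.hd _ ((hidx V hV).le.trans hV16))
  have hPU : P ≤ U := hPle U inf_le_left (by omega)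
  have hPZ : P ≤ Z T 3 := by
    intro z hz
    by_contra hz3
    have hK : ∀ M : Subgroup U, M.index = 2 → (⟨z, hPU hz⟩ : U) ∈ M := by
      intro M hM
      have hle : M.map U.subtype ≤ U₁ := (Subgroup.map_subtype_le M).trans inf_le_left
      have h1 : (M.map U.subtype).relIndex U = 2 := by
        rw [Subgroup.relIndex, ← Subgroup.comap_subtype,
          Subgroup.comap_map_eq_self_of_injective Subtype.val_injective, hM]
      have hr := Subgroup.relIndex_mul_relIndex (M.map U.subtype) U U₁ (Subgroup.map_subtype_le M) inf_le_left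
      rw [h1] at hr
      obtain ⟨v, hv, he⟩ := hPle _ hle (hr ▸ by omega) hz
      exact (Subtype.ext he : v = ⟨z, hPU hz⟩) ▸ hv
    have hzF : (⟨z, hPU hz⟩ : U) ∈ frattini U := by
      simp only [frattini, Order.radical, Subgroup.mem_iInf]
      exact fun M hM => hK M (PGroups.index_eq_of_isCoatom (h.hT.to_subgroup U) hM)
    have hFU : frattini U ≤ (Z T 3).subgroupOf U := by
      refine PGroups.frattini_le_of_commutator_le (p := 2) _ ?_ fun x => ?_
      · rw [commutator_def, Subgroup.commutator_le]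
        intro a _ b _
        rw [Subgroup.mem_subgroupOf, show ((⁅a, b⁆ : U) : T) = ⁅(a : T), (b : T)⁆ from
          map_commutatorElement U.subtype _ _]
        exact comm_mem_Z h a.2.2 b.2.2
      · rw [Subgroup.mem_subgroupOf, SubgroupClass.coe_pow]
        exact sq_mem_Z h x.2.2
    exact hz3 (Subgroup.mem_subgroupOf.1 (hFU hzF))
  have hPc : Nat.card P = 8 := (Subgroup.card_map_of_injective hf).trans hF
  have hP3 : P = Z T 3 :=
    Subgroup.eq_of_le_of_card_ge hPZ (by rw [hPc, card_Z h (by omega)]; norm_num)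
  refine Subgroup.eq_of_le_of_card_ge ?_ (Nat.card_congr e.toEquiv).le
  intro u hu
  rw [mem_W_iff h]
  intro z hz
  rw [← hP3] at hz
  obtain ⟨v, hv, rfl⟩ := hz
  obtain ⟨a, rfl⟩ : u ∈ f.range := hfr.symm ▸ hu
  rw [← map_mul, ← map_mul, Subgroup.mem_center_iff.1 (frattini_le_center h hv) a]

end Helpers

/-- Let G be a finite group whose Sylow 2-subgroup T has order at least 2^14 and whose upper central series has fourth term of order 16; let W be the centralizer in T of the third term, and suppose the Frattini subgroup of W has order at most 8 and lies in every subgroup of W of index at most 16. Then the normalizer of T in G has a normal 2-complement, and W is weakly closed in T with respect to G. -/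
theorem result {G : Type*} [Group G] [Finite G]
    (T : Sylow 2 G) (ha : 2 ^ 14 ≤ Nat.card ↥(T : Subgroup G))
    (hb : Nat.card ↥(Subgroup.upperCentralSeries ↥(T : Subgroup G) 4) = 16)
    (W : Subgroup ↥(T : Subgroup G))
    (hW : W = Subgroup.centralizer ((Subgroup.upperCentralSeries ↥(T : Subgroup G) 3 : Subgroup ↥(T : Subgroup G)) : Set ↥(T : Subgroup G)))
    (hc : Nat.card ↥(frattini ↥W) ≤ 8)
    (hd : ∀ U : Subgroup ↥W, U.index ≤ 16 → frattini ↥W ≤ U) :
    Cfsg.HasNormalPComplement 2 ↥(Subgroup.normalizer ((T : Subgroup G) : Set G)) ∧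
      Cfsg.IsWeaklyClosed (W.map (T : Subgroup G).subtype) (T : Subgroup G) := by
  classical
  haveI : Fact (Nat.Prime 2) := ⟨Nat.prime_two⟩
  have h : H46.BigTwo.Cfg ↥(T : Subgroup G) W := ⟨T.isPGroup', ha, hb, hW, hc, hd⟩
  refine ⟨?_, Subgroup.map_subtype_le W, ?_⟩
  · set N := Subgroup.normalizer ((T : Subgroup G) : Set G) with hN
    let T' : Sylow 2 ↥N := T.subtype Subgroup.le_normalizer
    have hT'n : (T' : Subgroup ↥N).Normal := by
      rw [show (T' : Subgroup ↥N) = (T : Subgroup G).subgroupOf N from rfl]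
      exact Subgroup.normal_in_normalizer
    obtain ⟨K, hK⟩ := Subgroup.exists_right_complement'_of_coprime T'.card_coprime_index
    have hKodd : Odd (Nat.card K) := by
      have h1 := T'.card_coprime_index
      rw [hK.symm.index_eq_card] at h1
      rw [← Nat.not_even_iff_odd]
      intro he
      obtain ⟨n, hn⟩ := IsPGroup.iff_card.1 T'.isPGroup'
      rw [hn] at h1
      rcases Nat.eq_zero_or_pos n with rfl | hpos
      · have := T'.not_dvd_index
        rw [hK.symm.index_eq_card] at this
        exact this he.two_dvd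
      · exact (Nat.Prime.coprime_iff_not_dvd Nat.prime_two).1 ((Nat.coprime_pow_left_iff hpos _ _).1 h1) he.two_dvd
    let ρ : ↥N →* MulAut ↥(T : Subgroup G) :=
      { toFun := fun n =>
          { toFun := fun t => ⟨n.1 * t.1 * n.1⁻¹, (Subgroup.mem_normalizer_iff.1 n.2 t.1).1 t.2⟩
            invFun := fun t => ⟨n.1⁻¹ * t.1 * n.1, by
              have := (Subgroup.mem_normalizer_iff.1 (N.inv_mem n.2) t.1).1 t.2
              simpa using this⟩
            left_inv := fun t => by ext; simp [mul_assoc]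
            right_inv := fun t => by ext; simp [mul_assoc]
            map_mul' := fun a b => by ext; simp [mul_assoc] }
        map_one' := by ext t; simp
        map_mul' := fun a b => by ext t; simp [mul_assoc] }
    have hcomm : ∀ k ∈ K, ∀ t ∈ (T' : Subgroup ↥N), k * t = t * k := by
      intro k hk t ht
      have ho : Odd (orderOf (ρ k)) :=
        hKodd.of_dvd_nat ((orderOf_map_dvd ρ k).trans (Subgroup.orderOf_dvd_natCard _ hk))
      have h1 : (k : G) * (t : G) * (k : G)⁻¹ = t :=
        congrArg Subtype.val (aut_trivial h (ρ k) ho ⟨(t : G), ht⟩)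
      apply Subtype.ext
      calc (k : G) * t = (k : G) * t * (k : G)⁻¹ * k := by group
        _ = t * k := by rw [h1]
    refine ⟨T', K, ⟨fun x hx g => ?_⟩, hK.symm⟩
    obtain ⟨⟨t, k⟩, rfl⟩ := hK.surjective g
    have hx' : (k : ↥N) * x * (k : ↥N)⁻¹ ∈ K := K.mul_mem (K.mul_mem k.2 hx) (K.inv_mem k.2)
    have e := hcomm _ hx' _ t.2
    show (t : ↥N) * k * x * ((t : ↥N) * k)⁻¹ ∈ K
    rw [show (t : ↥N) * k * x * ((t : ↥N) * k)⁻¹ = (t : ↥N) * ((k : ↥N) * x * (k : ↥N)⁻¹) * (t : ↥N)⁻¹ by group,
      ← e, mul_inv_cancel_right]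
    exact hx'
  · intro g hg
    set W₁ := (W.map (T : Subgroup G).subtype).map (MulAut.conj g).toMonoidHom with hW₁
    have e := ((W.equivMapOfInjective _ Subtype.val_injective).trans
      ((W.map (T : Subgroup G).subtype).equivMapOfInjective _ (MulAut.conj g).injective)).trans
      (Subgroup.subgroupOfEquivOfLe hg).symm
    have := eq_of_iso h _ e
    rw [← this, Subgroup.subgroupOf_map_subtype, inf_eq_left.2 hg]

end Cfsg.Agent.S3175
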