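import Cfsg.Statements.S3178
import Mathlib
import Cfsg.Agent.Fusion.Frobenius
import Cfsg.Agent.PGroups.TwoGroups
import Cfsg.Agent.H25.QuaternionSylow

set_option autoImplicit false
open Cfsg

namespace Cfsg.Agent.S3178

open Subgroup

variable {G : Type*} [Group G] [Finite G]

omit [Finite G] in
theorem odd_pow_fix {g q v : G} (hodd : Odd (orderOf g)) (hv : v * v = 1) (hgv : g * v * g⁻¹ = v)
    (hq : g * q * g⁻¹ = q * v) : g * q * g⁻¹ = q := by
  have key : ∀ m : ℕ, g ^ m * q * (g ^ m)⁻¹ = q * v ^ m := by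
    intro m
    induction m with
    | zero => simp
    | succ m ih =>
      calc g ^ (m + 1) * q * (g ^ (m + 1))⁻¹ = g * (g ^ m * q * (g ^ m)⁻¹) * g⁻¹ := by rw [pow_succ']; group
        _ = (g * q * g⁻¹) * (g * v ^ m * g⁻¹) := by rw [ih]; group
        _ = q * v ^ (m + 1) := by rw [hq, ← conj_pow, hgv, pow_succ', mul_assoc]
  obtain ⟨r, hr⟩ := hodd
  have h := key (orderOf g)
  rw [pow_orderOf_eq_one, hr, pow_add, pow_mul, pow_two, hv, one_pow, one_mul, pow_one, one_mul, inv_one, mul_one] at h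
  rw [hq, ← h]

theorem modular_centralizes (S : Sylow 2 G) {n : ℕ} (hn : 3 ≤ n) (hS : Nat.card ↥(S : Subgroup G) = 2 ^ (n + 1))
    {a b : G} (ha : a ∈ (S : Subgroup G)) (hb : b ∈ (S : Subgroup G))
    (hao : orderOf a = 2 ^ n) (hbo : orderOf b = 2) (hrel : b * a * b⁻¹ = a ^ (2 ^ (n - 1) + 1))
    {Q : Subgroup G} (hQS : Q ≤ (S : Subgroup G)) {g : G} (hg : g ∈ normalizer (Q : Set G))
    (hodd : Odd (orderOf g)) : g ∈ centralizer (Q : Set G) := by
  have : Fact (Nat.Prime 2) := ⟨Nat.prime_two⟩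
  obtain ⟨m, rfl⟩ : ∃ m, n = m + 3 := ⟨n - 3, by omega⟩
  set z := a ^ 2 ^ (m + 2) with hz
  have e21 : 2 ^ (m + 2) * 2 = 2 ^ (m + 3) := (pow_succ 2 (m + 2)).symm
  have hrel' : b * a * b⁻¹ = a ^ (2 ^ (m + 2) + 1) := hrel
  have hb2 : b * b = 1 := by rw [← pow_two, ← hbo, pow_orderOf_eq_one]
  have hz2 : z * z = 1 := by rw [hz, ← pow_add, ← mul_two, e21, ← hao, pow_orderOf_eq_one]
  have hz1 : z ≠ 1 := fun h => by
    rw [hz] at h
    have := Nat.le_of_dvd (by positivity) (orderOf_dvd_of_pow_eq_one h)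
    rw [hao, ← e21] at this
    have : 0 < 2 ^ (m + 2) := by positivity
    omega
  have hconj : ∀ i : ℕ, b * a ^ i * b⁻¹ = a ^ ((2 ^ (m + 2) + 1) * i) := fun i => by
    rw [← conj_pow, hrel', ← pow_mul]
  have hzb : Commute z b := by
    have h := hconj (2 ^ (m + 2))
    have e : a ^ ((2 ^ (m + 2) + 1) * 2 ^ (m + 2)) = z := by
      rw [mul_comm, pow_mul, ← hz, pow_add, pow_one, pow_succ', pow_mul, pow_two, hz2, one_pow, one_mul]
    rw [e, ← hz, mul_inv_eq_iff_eq_mul] at h
    exact h.symm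
  -- a is not congruent to a power times b
  have hba : ¬ b ∈ zpowers a := by
    intro h
    obtain ⟨i, rfl⟩ := mem_zpowers_iff.1 h
    rw [(Commute.refl a).zpow_left i |>.eq, mul_inv_cancel_right, pow_add, pow_one, right_eq_mul] at hrel'
    exact hz1 hrel'
  -- normal form
  have haS : zpowers a ≤ (S : Subgroup G) := zpowers_le.2 ha
  have hidx : (zpowers a).relIndex (S : Subgroup G) = 2 := by
    have h := relIndex_mul_relIndex (⊥ : Subgroup G) (zpowers a) (S : Subgroup G) bot_le haS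
    rw [relIndex_bot_left, relIndex_bot_left, Nat.card_zpowers, hao, hS, pow_succ] at h
    exact Nat.eq_of_mul_eq_mul_left (by positivity) h
  have hform : ∀ s ∈ (S : Subgroup G), ∃ i : ℕ, s = a ^ i ∨ s = a ^ i * b := by
    intro s hs
    have hpow : ∀ y ∈ zpowers a, ∃ i : ℕ, y = a ^ i := by
      intro y hy
      rw [← mem_powers_iff_mem_zpowers] at hy
      obtain ⟨i, hi⟩ := hy
      exact ⟨i, hi.symm⟩
    by_cases hsa : s ∈ zpowers a
    · obtain ⟨i, hi⟩ := hpow s hsa
      exact ⟨i, Or.inl hi⟩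
    · have h := (Subgroup.mul_mem_iff_of_index_two (H := (zpowers a).subgroupOf (S : Subgroup G)) hidx
        (a := ⟨s, hs⟩) (b := ⟨b, hb⟩)).2 (iff_of_false hsa hba)
      obtain ⟨i, hi⟩ := hpow (s * b) h
      exact ⟨i, Or.inr (by rw [← hi, mul_assoc, hb2, mul_one])⟩
  have hsq : ∀ i : ℕ, (a ^ i * b) * (a ^ i * b) = a ^ ((2 ^ (m + 2) + 2) * i) := fun i => by
    have : b * a ^ i * b = a ^ ((2 ^ (m + 2) + 1) * i) := by
      rw [← hconj i, inv_eq_of_mul_eq_one_right hb2]
    calc (a ^ i * b) * (a ^ i * b) = a ^ i * (b * a ^ i * b) := by group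
      _ = _ := by rw [this, ← pow_add]; congr 1; ring
  -- the four group
  have hV : ∀ v : G, v ∈ (S : Subgroup G) → v * v = 1 → v = 1 ∨ v = z ∨ v = b ∨ v = z * b := by
    intro v hv hvv
    have hdiv : ∀ i : ℕ, 2 ^ (m + 2) ∣ i → a ^ i = 1 ∨ a ^ i = z := by
      rintro i ⟨t, rfl⟩
      rw [pow_mul, ← hz]
      rcases Nat.even_or_odd' t with ⟨r, rfl | rfl⟩
      · left; rw [pow_mul, pow_two, hz2, one_pow]
      · right; rw [pow_add, pow_mul, pow_two, hz2, one_pow, one_mul, pow_one]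
    obtain ⟨i, rfl | rfl⟩ := hform v hv
    · rw [← pow_add, ← two_mul] at hvv
      have h := orderOf_dvd_of_pow_eq_one hvv
      rw [hao, ← e21, mul_comm (2 ^ (m + 2))] at h
      rcases hdiv i (Nat.dvd_of_mul_dvd_mul_left two_pos h) with h | h
      · exact Or.inl h
      · exact Or.inr (Or.inl h)
    · rw [hsq] at hvv
      have h := orderOf_dvd_of_pow_eq_one hvv
      rw [hao, show 2 ^ (m + 3) = 2 * 2 ^ (m + 2) by ring, show (2 ^ (m + 2) + 2) * i = 2 * ((2 ^ (m + 1) + 1) * i) by ring] at h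
      have h1 := Nat.dvd_of_mul_dvd_mul_left two_pos h
      have hcop : (2 ^ (m + 2)).Coprime (2 ^ (m + 1) + 1) :=
        Nat.Coprime.pow_left _ (Nat.coprime_two_left.2 ⟨2 ^ m, by ring⟩)
      rcases hdiv i (hcop.dvd_of_dvd_mul_left h1) with h | h
      · exact Or.inr (Or.inr (Or.inl (by rw [h, one_mul])))
      · exact Or.inr (Or.inr (Or.inr (by rw [h])))
  let V : Subgroup G := closure {z, b}
  have hzV : z ∈ V := subset_closure (by simp)
  have hbV : b ∈ V := subset_closure (by simp)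
  have hVel : ∀ v ∈ V, v ∈ (S : Subgroup G) ∧ v * v = 1 := by
    intro v hv
    have hc : ∀ x ∈ ({z, b} : Set G), ∀ y ∈ ({z, b} : Set G), x * y = y * x := by
      rintro x (rfl | rfl) y (rfl | rfl)
      · rfl
      · exact hzb.eq
      · exact hzb.eq.symm
      · rfl
    have hcm := isMulCommutative_closure hc
    induction hv using closure_induction with
    | mem x hx =>
      rcases hx with rfl | rfl
      · exact ⟨pow_mem ha _, hz2⟩
      · exact ⟨hb, hb2⟩
    | one => simp
    | mul x y hx hy ihx ihy =>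
      refine ⟨mul_mem ihx.1 ihy.1, ?_⟩
      have e : x * y = y * x := congrArg Subtype.val (hcm.is_comm.comm ⟨x, hx⟩ ⟨y, hy⟩)
      calc x * y * (x * y) = x * (y * x) * y := by group
        _ = (x * x) * (y * y) := by rw [← e]; group
        _ = 1 := by rw [ihx.2, ihy.2, one_mul]
    | inv x hx ihx => exact ⟨inv_mem ihx.1, by rw [← mul_inv_rev, ihx.2, inv_one]⟩
  have hVmem : ∀ v ∈ (S : Subgroup G), v * v = 1 → v ∈ V := by
    intro v hv hvv
    rcases hV v hv hvv with rfl | rfl | rfl | rfl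
    exacts [one_mem _, hzV, hbV, mul_mem hzV hbV]
  have hgQ : ∀ q, q ∈ Q ↔ g * q * g⁻¹ ∈ Q := mem_normalizer_iff.1 hg
  have hgVQ : ∀ v ∈ Q, v ∈ V → g * v * g⁻¹ ∈ V := fun v hv hvV =>
    hVmem _ (hQS ((hgQ v).1 hv)) (by
      rw [show g * v * g⁻¹ * (g * v * g⁻¹) = g * (v * v) * g⁻¹ by group, (hVel v hvV).2, mul_one, mul_inv_cancel])
  -- g fixes z when z ∈ Q
  have hfixz : z ∈ Q → g * z * g⁻¹ = z := by
    intro hzQ
    by_cases hbig : ∀ q ∈ Q, q ∈ V
    swap
    · push Not at hbig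
      obtain ⟨q, hq, hqV⟩ := hbig
      -- a power of q squares to z
      obtain ⟨k, hk⟩ := (IsPGroup.iff_orderOf.1 S.2) ⟨q, hQS hq⟩
      rw [Subgroup.orderOf_mk] at hk
      have hk2 : 2 ≤ k := by
        by_contra hlt
        apply hqV
        refine hVmem q (hQS hq) ?_
        rw [← pow_two, ← orderOf_dvd_iff_pow_eq_one, hk]
        interval_cases k <;> norm_num
      set x := q ^ 2 ^ (k - 2)
      have hx4 : orderOf x = 4 := by
        rw [orderOf_pow' _ (by positivity), hk, Nat.gcd_eq_right (pow_dvd_pow 2 (by omega)),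
          Nat.pow_div (by omega) two_pos, show k - (k - 2) = 2 by omega]
        norm_num
      have hxx : ∀ y, y ∈ (S : Subgroup G) → orderOf y = 4 → y * y = z := by
        intro y hy hy4
        have h4 : (y * y) * (y * y) = 1 := by
          have := pow_orderOf_eq_one y
          rw [hy4] at this
          rw [← this, pow_succ, pow_succ, pow_two]; group
        have hne : y * y ≠ 1 := fun h => by
          have := orderOf_dvd_of_pow_eq_one (show y ^ 2 = 1 by rw [pow_two]; exact h)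
          rw [hy4] at this; norm_num at this
        have hmem : y * y ∈ zpowers a := by
          obtain ⟨i, rfl | rfl⟩ := hform y hy
          · exact mul_mem (pow_mem (mem_zpowers a) i) (pow_mem (mem_zpowers a) i)
          · rw [hsq]; exact pow_mem (mem_zpowers a) _
        rcases hV _ (mul_mem hy hy) h4 with h | h | h | h
        · exact absurd h hne
        · exact h
        · exact absurd (h ▸ hmem) hba
        · refine absurd ?_ hba
          have := mul_mem (inv_mem (pow_mem (mem_zpowers a) (2 ^ (m + 2)))) (h ▸ hmem)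
          rwa [← hz, inv_mul_cancel_left] at this
      have e1 := hxx x (pow_mem (hQS hq) _) hx4
      have e2 := hxx (g * x * g⁻¹) (hQS ((hgQ x).1 (pow_mem hq _))) (by
        rw [← hx4]; exact MulEquiv.orderOf_eq (MulAut.conj g) x)
      rw [← e1]
      calc g * (x * x) * g⁻¹ = (g * x * g⁻¹) * (g * x * g⁻¹) := by group
        _ = _ := by rw [e2, e1]
    -- now Q lies in V
    · by_cases hbQ : b ∈ Q ∨ z * b ∈ Q
      swap
      · push Not at hbQ
        rcases hV _ (hQS ((hgQ z).1 hzQ)) (hVel _ (hgVQ z hzQ hzV)).2 with h | h | h | h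
        · exact absurd (conj_eq_one_iff.1 h) hz1
        · exact h
        · exact absurd (h ▸ (hgQ z).1 hzQ) hbQ.1
        · exact absurd (h ▸ (hgQ z).1 hzQ) hbQ.2
      have hQV : Q = V := by
        refine le_antisymm hbig ((closure_le _).2 ?_)
        have : b ∈ Q := hbQ.elim id fun h => by simpa using Q.mul_mem (Q.inv_mem hzQ) h
        rintro x (rfl | rfl) <;> assumption
      subst hQV
      -- conjugation of S fixes V
      set N := normalizer (V : Set G)
      have hSN : (S : Subgroup G) ≤ N := by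
        intro s hs
        rw [mem_normalizer_iff]
        intro v
        constructor
        · intro hv
          obtain ⟨h1, h2⟩ := hVel v hv
          refine hVmem _ (mul_mem (mul_mem hs h1) (inv_mem hs)) ?_
          rw [show s * v * s⁻¹ * (s * v * s⁻¹) = s * (v * v) * s⁻¹ by group, h2, mul_one, mul_inv_cancel]
        · intro hv
          obtain ⟨h1, h2⟩ := hVel _ hv
          have e : v = s⁻¹ * (s * v * s⁻¹) * s := by group
          rw [e]
          refine hVmem _ (mul_mem (mul_mem (inv_mem hs) h1) hs) ?_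
          rw [show s⁻¹ * (s * v * s⁻¹) * s * (s⁻¹ * (s * v * s⁻¹) * s) = s⁻¹ * ((s * v * s⁻¹) * (s * v * s⁻¹)) * s by group, h2, mul_one, inv_mul_cancel]
      set C := centralizer (V : Set G)
      set T := (S : Subgroup G) ⊓ C
      obtain ⟨R, hR⟩ := ((S.2.to_le (inf_le_left : T ≤ _)).of_equiv
        (subgroupOfEquivOfLe (inf_le_right : T ≤ C)).symm).exists_le_sylow
      have hCn : ∀ y ∈ N, ∀ c ∈ C, y * c * y⁻¹ ∈ C := by
        intro y hy c hc
        rw [mem_centralizer_iff]
        intro v hv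
        have hv' : y⁻¹ * v * y ∈ V := (mem_normalizer_iff''.1 hy v).1 hv
        calc v * (y * c * y⁻¹) = y * ((y⁻¹ * v * y) * c) * y⁻¹ := by group
          _ = _ := by rw [mem_centralizer_iff.1 hc _ hv']; group
      -- T is a Sylow subgroup of C
      have hTcard : Nat.card R ≤ Nat.card T := by
        have hRG := R.2.map C.subtype
        have hRN : (R : Subgroup C).map C.subtype ≤ N := (map_subtype_le _).trans (centralizer_le_normalizer _)
        obtain ⟨R', hR'⟩ := (hRG.of_equiv (subgroupOfEquivOfLe hRN).symm).exists_le_sylow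
        obtain ⟨y, hy⟩ := MulAction.exists_smul_eq N R' (S.subtype hSN)
        have hle : ((R : Subgroup C).map C.subtype).map (MulAut.conj (y : G)).toMonoidHom ≤ T := by
          rintro _ ⟨r, hr, rfl⟩
          have h1 : y * ⟨r, hRN hr⟩ * y⁻¹ ∈ S.subtype hSN := by
            rw [← hy]; exact smul_mem_pointwise_smul _ (MulAut.conj y) (R' : Subgroup N) (hR' hr)
          refine ⟨h1, hCn _ y.2 _ ?_⟩
          obtain ⟨r', -, rfl⟩ := hr
          exact r'.2
        refine le_trans (le_of_eq ?_) (card_le_of_le hle)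
        rw [card_map_of_injective (MulAut.conj (y : G)).injective, card_map_of_injective C.subtype_injective]
      have hTeq : (R : Subgroup C) = T.subgroupOf C :=
        (eq_of_le_of_card_ge hR (hTcard.trans (le_of_eq (Nat.card_congr (subgroupOfEquivOfLe (inf_le_right : T ≤ C)).toEquiv).symm))).symm
      -- the conjugate Sylow subgroup
      have hgC : ∀ t ∈ T, g * t * g⁻¹ ∈ C := fun t ht => hCn g hg t ht.2
      set T' := T.map (MulAut.conj g).toMonoidHom with hT'
      have hT'C : T' ≤ C := by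
        rintro _ ⟨t, ht, rfl⟩
        exact hgC t ht
      obtain ⟨R', hR'⟩ := (((S.2.to_le (inf_le_left : T ≤ _)).map (MulAut.conj g).toMonoidHom).of_equiv
        (subgroupOfEquivOfLe hT'C).symm).exists_le_sylow
      obtain ⟨c, hc⟩ := MulAction.exists_smul_eq C R' R
      set y := (c : G) * g
      have hyT : ∀ t ∈ T, y * t * y⁻¹ ∈ T := by
        intro t ht
        have h1 : c * ⟨_, hgC t ht⟩ * c⁻¹ ∈ R := by
          rw [← hc]
          exact smul_mem_pointwise_smul _ (MulAut.conj c) (R' : Subgroup C) (hR' ⟨t, ht, rfl⟩)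
        have h2 : c * ⟨_, hgC t ht⟩ * c⁻¹ ∈ T.subgroupOf C := hTeq ▸ h1
        have e : y * t * y⁻¹ = (c : G) * (g * t * g⁻¹) * (c : G)⁻¹ := by simp [y, mul_assoc]
        rw [e]; exact h2
      have hyN : y ∈ N := N.mul_mem (centralizer_le_normalizer _ c.2) hg
      -- a² and b lie in T
      have ha2 : a ^ 2 ∈ T := by
        refine ⟨pow_mem ha 2, ?_⟩
        have hab : Commute (a ^ 2) b := by
          have h := hconj 2
          rw [add_mul, one_mul, pow_add, pow_mul, ← hz, pow_two z, hz2, one_mul, mul_inv_eq_iff_eq_mul] at h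
          exact h.symm
        have hle : V ≤ centralizer ({a ^ 2} : Set G) := (closure_le _).2 (by
          rintro x (rfl | rfl)
          · exact mem_centralizer_singleton_iff.2 ((Commute.refl a).pow_pow _ _).eq
          · exact mem_centralizer_singleton_iff.2 hab.eq.symm)
        exact mem_centralizer_iff.2 fun x hx => mem_centralizer_singleton_iff.1 (hle hx)
      have hTy : y * z * y⁻¹ = z := by
        have hzz : (a ^ 2) ^ 2 ^ (m + 1) = z := by rw [hz, ← pow_mul, ← pow_succ']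
        rcases hV _ (hVel _ ((mem_normalizer_iff.1 hyN z).1 hzV)).1 (hVel _ ((mem_normalizer_iff.1 hyN z).1 hzV)).2 with h | h | h | h
        · exact absurd (conj_eq_one_iff.1 h) hz1
        · exact h
        all_goals
          exfalso
          apply hba
          obtain ⟨i, hi⟩ : ∃ i, y * z * y⁻¹ = a ^ i := by
            set w := y * (a ^ 2) ^ 2 ^ m * y⁻¹ with hw
            have hwT : w ∈ (S : Subgroup G) := by
              rw [hw, ← conj_pow]; exact pow_mem (hyT _ ha2).1 _
            have e : y * z * y⁻¹ = w * w := by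
              have e0 : (a ^ 2) ^ 2 ^ (m + 1) = (a ^ 2) ^ 2 ^ m * (a ^ 2) ^ 2 ^ m := by
                rw [← pow_add, ← two_mul, ← pow_succ']
              rw [hw, ← hzz, e0]; group
            obtain ⟨i, hi | hi⟩ := hform w hwT
            · exact ⟨i + i, by rw [e, hi, pow_add]⟩
            · exact ⟨(2 ^ (m + 2) + 2) * i, by rw [e, hi, hsq]⟩
          rw [h] at hi
          first
            | exact hi ▸ pow_mem (mem_zpowers a) i
            | (have := mul_mem (inv_mem (pow_mem (mem_zpowers a) (2 ^ (m + 2)))) (hi ▸ pow_mem (mem_zpowers a) i)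
               rwa [← hz, inv_mul_cancel_left] at this)
      -- g and y agree on V
      have hgz : g * z * g⁻¹ ∈ V := hgVQ z hzQ hzV
      calc g * z * g⁻¹ = (c : G) * (g * z * g⁻¹) * (c : G)⁻¹ := by
            rw [← mem_centralizer_iff.1 c.2 _ hgz, mul_inv_cancel_right]
        _ = z := by rw [show (c : G) * (g * z * g⁻¹) * (c : G)⁻¹ = y * z * y⁻¹ by simp [y, mul_assoc]]; exact hTy
  -- g fixes Q ∩ V
  have hfixW : ∀ v ∈ Q, v ∈ V → g * v * g⁻¹ = v := by
    intro v hv hvV
    by_cases hv1 : v = 1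
    · simp [hv1]
    by_cases hvz : v = z
    · rw [hvz] at hv ⊢
      exact hfixz hv
    have hb' : ∀ u : G, u = b ∨ u = z * b → ∀ u' : G, u' = b ∨ u' = z * b → u⁻¹ * u' = 1 ∨ u⁻¹ * u' = z := by
      rintro u (h | h) u' (h' | h') <;> rw [h, h']
      · exact Or.inl (inv_mul_cancel _)
      · exact Or.inr (by rw [hzb.eq, inv_mul_cancel_left])
      · exact Or.inr (by rw [mul_inv_rev, inv_eq_of_mul_eq_one_right hz2, mul_assoc, hzb.eq, inv_mul_cancel_left])
      · exact Or.inl (inv_mul_cancel _)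
    have hvb : v = b ∨ v = z * b := by
      rcases hV v (hQS hv) (hVel v hvV).2 with h | h | h | h
      exacts [absurd h hv1, absurd h hvz, Or.inl h, Or.inr h]
    have hQ2 := (hgQ v).1 hv
    have hv2 := hV _ (hQS hQ2) (hVel _ (hgVQ v hv hvV)).2
    by_cases hzQ : z ∈ Q
    · have hz' := hfixz hzQ
      have hv2' : g * v * g⁻¹ = b ∨ g * v * g⁻¹ = z * b := by
        rcases hv2 with h | h | h | h
        · exact absurd (conj_eq_one_iff.1 h) hv1
        · exact absurd ((MulAut.conj g).injective (show MulAut.conj g v = MulAut.conj g z from h.trans hz'.symm)) hvz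
        exacts [Or.inl h, Or.inr h]
      rcases hb' v hvb _ hv2' with h | h
      · exact (inv_mul_eq_one.1 h).symm
      · exact odd_pow_fix hodd hz2 hz' (inv_mul_eq_iff_eq_mul.1 h)
    · have hv2' : g * v * g⁻¹ = b ∨ g * v * g⁻¹ = z * b := by
        rcases hv2 with h | h | h | h
        · exact absurd (conj_eq_one_iff.1 h) hv1
        · exact absurd (by rw [← h]; exact hQ2) hzQ
        exacts [Or.inl h, Or.inr h]
      rcases hb' v hvb _ hv2' with h | h
      · exact (inv_mul_eq_one.1 h).symm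
      · exact absurd (by rw [← h]; exact Q.mul_mem (Q.inv_mem hv) hQ2) hzQ
  -- g is trivial on Q modulo V
  set W := Q ⊓ V
  have hgW : g ∈ normalizer (W : Set G) := by
    rw [mem_normalizer_iff]
    intro v
    constructor
    · rintro ⟨h1, h2⟩; exact ⟨(hgQ v).1 h1, hgVQ v h1 h2⟩
    · rintro ⟨h1, h2⟩
      have hv : v ∈ Q := (hgQ v).2 h1
      obtain ⟨-, hvv⟩ := hVel _ h2
      refine ⟨hv, hVmem v (hQS hv) ?_⟩
      calc v * v = g⁻¹ * (g * v * g⁻¹ * (g * v * g⁻¹)) * g := by group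
        _ = 1 := by rw [hvv, mul_one, inv_mul_cancel]
  have hQW : Q ≤ normalizer (W : Set G) := by
    intro q hq
    rw [mem_normalizer_iff]
    intro v
    have hvq : v ∈ Q ↔ q * v * q⁻¹ ∈ Q := mem_normalizer_iff.1 (le_normalizer hq) v
    have hconjsq : q * v * q⁻¹ * (q * v * q⁻¹) = q * (v * v) * q⁻¹ := by group
    constructor
    · rintro ⟨h1, h2⟩
      exact ⟨hvq.1 h1, hVmem _ (hQS (hvq.1 h1)) (by rw [hconjsq, (hVel v h2).2, mul_one, mul_inv_cancel])⟩
    · rintro ⟨h1, h2⟩
      refine ⟨hvq.2 h1, hVmem _ (hQS (hvq.2 h1)) ?_⟩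
      have := (hVel _ h2).2
      rw [hconjsq] at this
      exact conj_eq_one_iff.1 this
  set N := normalizer (W : Set G)
  set f := QuotientGroup.mk' (W.subgroupOf N)
  set A : Subgroup (↥N ⧸ W.subgroupOf N) := (Q.subgroupOf N).map f
  have hAp : IsPGroup 2 A := (((S.2.to_le hQS)).of_equiv (subgroupOfEquivOfLe hQW).symm).map f
  -- S / V is cyclic
  set Vs : Subgroup ↥(S : Subgroup G) := V.subgroupOf (S : Subgroup G)
  have hVsn : Vs.Normal := ⟨fun v hv s => by
    obtain ⟨-, h2⟩ := hVel _ (mem_subgroupOf.1 hv)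
    refine mem_subgroupOf.2 (hVmem _ (s * v * s⁻¹).2 ?_)
    have : ((s : G) * v * (s : G)⁻¹) * ((s : G) * v * (s : G)⁻¹) = (s : G) * ((v : G) * v) * (s : G)⁻¹ := by group
    rw [h2, mul_one, mul_inv_cancel] at this
    exact this⟩
  have hcyc : IsCyclic (↥(S : Subgroup G) ⧸ Vs) := by
    refine isCyclic_iff_exists_zpowers_eq_top.2 ⟨QuotientGroup.mk ⟨a, ha⟩, eq_top_iff.2 fun u _ => ?_⟩
    induction u using QuotientGroup.induction_on with
    | H s =>
      obtain ⟨i, hi | hi⟩ := hform _ s.2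
      · have e : s = (⟨a, ha⟩ : ↥(S : Subgroup G)) ^ i := Subtype.ext hi
        rw [e, QuotientGroup.mk_pow]
        exact pow_mem (mem_zpowers _) i
      · have e : (QuotientGroup.mk s : ↥(S : Subgroup G) ⧸ Vs) = QuotientGroup.mk ((⟨a, ha⟩ : ↥(S : Subgroup G)) ^ i) := by
          refine QuotientGroup.eq.2 (mem_subgroupOf.2 ?_)
          simp [hi, hbV]
        rw [e, QuotientGroup.mk_pow]
        exact pow_mem (mem_zpowers _) i
  set Qb := (Q.subgroupOf (S : Subgroup G)).map (QuotientGroup.mk' Vs)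
  obtain ⟨⟨_, x, hx, rfl⟩, hgen⟩ := IsCyclic.exists_generator (α := Qb)
  set xN : ↥N := ⟨x, hQW (mem_subgroupOf.1 hx)⟩
  have hgen' : ∀ u ∈ A, u ∈ zpowers (f xN) := by
    rintro _ ⟨q, hq, rfl⟩
    obtain ⟨r, hr⟩ := mem_zpowers_iff.1 (hgen ⟨QuotientGroup.mk' Vs ⟨(q : G), hQS (mem_subgroupOf.1 hq)⟩, Subgroup.mem_map_of_mem _ (mem_subgroupOf.2 (mem_subgroupOf.1 hq) : (⟨(q : G), hQS (mem_subgroupOf.1 hq)⟩ : ↥(S : Subgroup G)) ∈ Q.subgroupOf (S : Subgroup G))⟩)
    have hr1 : (QuotientGroup.mk' Vs) (x ^ r) = QuotientGroup.mk' Vs ⟨(q : G), hQS hq⟩ := by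
      rw [map_zpow]; simpa using congrArg Subtype.val hr
    have hr' : ((x ^ r : ↥(S : Subgroup G)) : G)⁻¹ * (q : G) ∈ V := mem_subgroupOf.1 (QuotientGroup.eq.1 hr1)
    refine mem_zpowers_iff.2 ⟨r, ?_⟩
    rw [← map_zpow]
    refine QuotientGroup.eq.2 (mem_subgroupOf.2 ⟨?_, ?_⟩)
    · simpa [xN] using mul_mem (inv_mem (zpow_mem (show (x : G) ∈ Q from hx) r)) hq
    · simpa [xN] using hr'
  have hgN : g ∈ N := hgW
  set γ : ↥N ⧸ W.subgroupOf N := f ⟨g, hgN⟩
  have hγo : Odd (orderOf γ) := by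
    refine hodd.of_dvd_nat ?_
    rw [← Subgroup.orderOf_mk g hgN]
    exact orderOf_map_dvd f _
  obtain ⟨k, hk⟩ := IsPGroup.iff_orderOf.1 hAp ⟨f xN, Subgroup.mem_map_of_mem _ (mem_subgroupOf.2 (mem_subgroupOf.1 hx : (x : G) ∈ Q) : xN ∈ Q.subgroupOf N)⟩
  rw [Subgroup.orderOf_mk] at hk
  have hmemA : γ * f xN * γ⁻¹ ∈ A := by
    refine ⟨⟨g, hgN⟩ * xN * ⟨g, hgN⟩⁻¹, (hgQ _).1 hx, ?_⟩
    simp [γ]
  have hfix := H25.conj_eq_of_zpowers hγo k hk (hgen' _ hmemA)
  -- conclude
  refine mem_centralizer_iff.2 fun q hq => ?_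
  have hqA : f ⟨q, hQW hq⟩ ∈ A := ⟨_, hq, rfl⟩
  obtain ⟨r, hr⟩ := mem_zpowers_iff.1 (hgen' _ hqA)
  have hfq : γ * f ⟨q, hQW hq⟩ * γ⁻¹ = f ⟨q, hQW hq⟩ := by rw [← hr, ← conj_zpow, hfix]
  simp only [γ, ← map_inv, ← map_mul] at hfq
  have hfq' := mem_subgroupOf.1 (QuotientGroup.eq.1 hfq)
  obtain ⟨hw1, hw2⟩ : (g * q * g⁻¹)⁻¹ * q ∈ W := hfq'
  set w := ((g * q * g⁻¹)⁻¹ * q)⁻¹ with hw
  have hwQ : w ∈ Q := inv_mem hw1
  have hwV : w ∈ V := inv_mem hw2
  have h := odd_pow_fix hodd (hVel w hwV).2 (hfixW w hwQ hwV) (q := q) (by rw [hw]; group)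
  exact (mul_inv_eq_iff_eq_mul.1 h).symm

/-- Groups with a modular Sylow 2-subgroup have a normal 2-complement. Let S, of order 2^(n+1) with n ≥ 3, be a Sylow 2-subgroup of a finite group G, and suppose S contains an element a of order 2^n and an involution b with b a b⁻¹ = a^(2^(n-1) + 1); so S is the non-abelian 2-group with a cyclic subgroup of index 2 that is neither dihedral, semidihedral nor generalized quaternion. Then G has a normal 2-complement. -/
theorem result {G : Type*} [Group G] [Finite G]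
    (S : Sylow 2 G) (n : ℕ) (hn : 3 ≤ n) (hS : Nat.card ↥(S : Subgroup G) = 2 ^ (n + 1))
    (a b : G) (ha : a ∈ (S : Subgroup G)) (hb : b ∈ (S : Subgroup G))
    (hao : orderOf a = 2 ^ n) (hbo : orderOf b = 2) (hrel : b * a * b⁻¹ = a ^ (2 ^ (n - 1) + 1)) :
    Cfsg.HasNormalPComplement 2 G := by
  have : Fact (Nat.Prime 2) := ⟨Nat.prime_two⟩
  rw [Fusion.frobenius_criterion S]
  intro Q hQS g hg hcop
  have hodd : Odd (orderOf g) := Nat.coprime_two_right.1 hcop
  exact modular_centralizes S hn hS ha hb hao hbo hrel hQS hg hodd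

end Cfsg.Agent.S3178
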