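import Cfsg.Statements.S3179
import Cfsg.Agent.H68.FrobeniusField
import Cfsg.Agent.S1163
import Cfsg.Agent.H53.SUInvol
import Cfsg.Agent.Unitary.Center
import Cfsg.Agent.Linear.Order

set_option autoImplicit false
open Cfsg
open scoped Pointwise

namespace Cfsg.Agent.S3179

/-- Block-diagonal matrices forming an elementary abelian group of order nine. -/
def sylMat (x : ZMod 3 × ZMod 3) : Matrix (Fin 5) (Fin 5) (ZMod 2) :=
  (if x.1 = 1 then !![0,1,0,0,0; 1,1,0,0,0; 0,0,1,0,0; 0,0,0,1,0; 0,0,0,0,1]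
    else if x.1 = 2 then !![1,1,0,0,0; 1,0,0,0,0; 0,0,1,0,0; 0,0,0,1,0; 0,0,0,0,1] else 1) *
  (if x.2 = 1 then !![1,0,0,0,0; 0,1,0,0,0; 0,0,0,1,0; 0,0,1,1,0; 0,0,0,0,1]
    else if x.2 = 2 then !![1,0,0,0,0; 0,1,0,0,0; 0,0,1,1,0; 0,0,1,0,0; 0,0,0,0,1] else 1)

theorem sylMat_facts :
    (∀ x y, sylMat (x + y) = sylMat x * sylMat y) ∧ sylMat 0 = 1 ∧
      ∀ x, sylMat x = 1 → x = 0 := by
  decide +kernel

theorem cube_zero : ∀ y : ZMod 3 × ZMod 3, (3 : ℕ) • y = 0 := by decide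

theorem card_GL_five : Nat.card (GL (Fin 5) (ZMod 2)) = 9999360 := by
  rw [Matrix.card_GL_field]
  simp [Fin.prod_univ_five, ZMod.card]

/-- There are no elements of order nine. -/
theorem not_nine (g : GL (Fin 5) (ZMod 2)) : orderOf g ≠ 9 := by
  intro hg
  have : Fact (Nat.Prime 3) := ⟨Nat.prime_three⟩
  let f : Multiplicative (ZMod 3 × ZMod 3) →* GL (Fin 5) (ZMod 2) :=
    (({ toFun := fun x => sylMat x.toAdd
        map_one' := sylMat_facts.2.1
        map_mul' := fun x y => sylMat_facts.1 _ _ } :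
      Multiplicative (ZMod 3 × ZMod 3) →* Matrix (Fin 5) (Fin 5) (ZMod 2))).toHomUnits
  have hinj : Function.Injective f := (injective_iff_map_eq_one f).2 fun x hx =>
    sylMat_facts.2.2 x (Units.ext_iff.1 hx)
  have hc : Nat.card f.range = 9 := by
    rw [← Nat.card_congr (f.ofInjective hinj).toEquiv]
    simp [Nat.card_eq_fintype_card]
  have hfac : (9999360 : ℕ).factorization 3 = 2 := by
    rw [show (9999360 : ℕ) = 3 ^ 2 * 1111040 by norm_num, Nat.factorization_mul (by norm_num) (by norm_num),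
      Finsupp.add_apply, Nat.Prime.factorization_pow Nat.prime_three,
      Nat.factorization_eq_zero_of_not_dvd (n := 1111040) (by norm_num), Finsupp.single_eq_same]
  let S : Sylow 3 (GL (Fin 5) (ZMod 2)) := Sylow.ofCard f.range (by rw [hc, card_GL_five, hfac]; norm_num)
  have hz : IsPGroup 3 (Subgroup.zpowers g) := IsPGroup.of_card (n := 2) (by rw [Nat.card_zpowers, hg]; norm_num)
  obtain ⟨P, hP⟩ := hz.exists_le_sylow
  obtain ⟨t, ht⟩ := MulAction.exists_smul_eq (GL (Fin 5) (ZMod 2)) P S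
  have hmem : t * g * t⁻¹ ∈ (S : Subgroup (GL (Fin 5) (ZMod 2))) := by
    rw [← ht]
    exact Subgroup.smul_mem_pointwise_smul g (MulAut.conj t) (P : Subgroup (GL (Fin 5) (ZMod 2)))
      (hP (Subgroup.mem_zpowers g))
  obtain ⟨x, hx⟩ := hmem
  have h3 : (t * g * t⁻¹) ^ 3 = 1 := by
    rw [← hx, ← map_pow]
    rw [show x ^ 3 = 1 from cube_zero x, map_one]
  rw [conj_pow, mul_inv_eq_one, mul_eq_left] at h3
  have := Nat.le_of_dvd (by norm_num) (orderOf_dvd_of_pow_eq_one h3)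
  omega

/-- Let X be a section of the general linear group GL(5, 2), that is, a quotient of a subgroup of it. If X is isomorphic to PSL(2, 2^n) for some n ≥ 2, to a Suzuki group over the field with 2^(2m+1) elements for some m ≥ 1, or to PSU(3, 2^n) for some n ≥ 2, then X is isomorphic to PSL(2, 4). -/
theorem result {H : Subgroup (GL (Fin 5) (ZMod 2))}
    {K : Subgroup ↥H} [K.Normal]
    (hX : (∃ (n : ℕ) (F : Type) (_ : Field F) (_ : Fintype F), 2 ≤ n ∧ Fintype.card F = 2 ^ n ∧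
        Nonempty (↥H ⧸ K ≃* Matrix.ProjectiveSpecialLinearGroup (Fin 2) F)) ∨
      (∃ (m : ℕ) (F : Type) (_ : Field F) (_ : Fintype F), 1 ≤ m ∧ Fintype.card F = 2 ^ (2 * m + 1) ∧
        Nonempty (↥H ⧸ K ≃* ↥(Cfsg.Lie.Sz F (2 ^ (m + 1))))) ∨
      (∃ (n : ℕ) (F : Type) (_ : Field F) (_ : Fintype F), 2 ≤ n ∧ Fintype.card F = 4 ^ n ∧
        Nonempty (↥H ⧸ K ≃* Cfsg.PSU 3 F (2 ^ n)))) :
    ∃ (F : Type) (_ : Field F) (_ : Fintype F), Fintype.card F = 4 ∧
      Nonempty (↥H ⧸ K ≃* Matrix.ProjectiveSpecialLinearGroup (Fin 2) F) := by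
  classical
  have hN : Nat.card (H ⧸ K) ∣ 9999360 := by
    rw [← card_GL_five]
    exact (Subgroup.card_quotient_dvd_card K).trans (Subgroup.card_subgroup_dvd_card H)
  rcases hX with ⟨n, F, hFf, hFt, hn, hq, ⟨e⟩⟩ | ⟨m, F, hFf, hFt, hm, hq, ⟨e⟩⟩ | ⟨n, F, hFf, hFt, hn, hq, ⟨e⟩⟩
  · letI := hFf
    letI := hFt
    have h1 := Cfsg.Agent.Linear.card_PSL_two_mul (F := F)
    rw [Nat.card_congr e.toEquiv] at hN
    have hg : Nat.gcd 2 (Fintype.card F - 1) = 1 := by
      rw [hq, Nat.coprime_two_left.2 ?_]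
      exact Nat.Even.sub_odd (Nat.one_le_two_pow) (Nat.even_pow.2 ⟨even_two, by omega⟩) odd_one
    rw [hg, one_mul, hq] at h1
    rw [h1] at hN
    have hle : n ≤ 23 := by
      by_contra hcon
      have h2 := Nat.le_of_dvd (by norm_num) (dvd_trans (dvd_mul_right _ _) hN)
      have h3 := Nat.pow_le_pow_right (show 0 < 2 by norm_num) (show 24 ≤ n by omega)
      omega
    by_cases h2 : n = 2
    · exact ⟨F, hFf, hFt, by rw [hq, h2]; rfl, ⟨e⟩⟩
    exfalso
    have h3 : n = 3 := by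
      interval_cases n <;> first | rfl | omega | (norm_num at hN)
    subst h3
    have : Fact (Nat.Prime 2) := ⟨Nat.prime_two⟩
    have : CharP F 2 := by
      obtain ⟨r, hr⟩ := CharP.exists F
      obtain ⟨k, hrp, hk⟩ := FiniteField.card F r
      have : r ∣ 2 := hrp.dvd_of_dvd_pow (show r ∣ 2 ^ 3 by rw [← hq, hk]; exact dvd_pow_self r k.ne_zero)
      rwa [(Nat.prime_dvd_prime_iff_eq hrp Nat.prime_two).1 this] at hr
    have h9 : 9 ∈ Set.range (orderOf : Matrix.ProjectiveSpecialLinearGroup (Fin 2) F → ℕ) := by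
      rw [Cfsg.Agent.H68.FrobField.range_orderOf_psl 2 (by rw [hq]; norm_num)]
      exact Or.inr (Or.inr (by rw [hq]; norm_num))
    obtain ⟨y, hy⟩ := h9
    obtain ⟨h, hh⟩ := QuotientGroup.mk_surjective (e.symm y)
    have hd : 9 ∣ orderOf (h : GL (Fin 5) (ZMod 2)) := by
      rw [Subgroup.orderOf_coe, ← hy, ← e.symm.orderOf_eq y, ← hh]
      exact orderOf_map_dvd (QuotientGroup.mk' K) h
    exact not_nine _ (orderOf_pow_orderOf_div (orderOf_pos _).ne' hd)
  · exfalso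
    letI := hFf
    letI := hFt
    rw [Nat.card_congr e.toEquiv, (Cfsg.Agent.S1163.result hm hq).1] at hN
    have hle : 2 * (2 * m + 1) ≤ 23 := by
      by_contra hcon
      have h2 := Nat.le_of_dvd (by norm_num) (dvd_trans (dvd_mul_right _ _) (dvd_trans (dvd_mul_right _ _) hN))
      have h3 := Nat.pow_le_pow_right (show 0 < 2 by norm_num) (show 24 ≤ (2 * m + 1) * 2 by omega)
      rw [pow_mul] at h3
      omega
    have : m ≤ 5 := by omega
    interval_cases m <;> norm_num at hN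
  · exfalso
    letI := hFf
    letI := hFt
    have hF2 : Fintype.card F = (2 ^ n) ^ 2 := by rw [hq, ← pow_mul, mul_comm, pow_mul]; norm_num
    have h1 := Cfsg.Agent.Unitary.card_PSU (n := 3) hF2 (by norm_num)
    have h2 := Cfsg.Agent.H53.card_SU_three hF2
    have hd : (2 ^ n) ^ 3 * ((2 ^ n) ^ 2 - 1) * ((2 ^ n) ^ 3 + 1) ∣ 3 * 9999360 := by
      rw [← h2, ← h1, ← Nat.card_congr e.toEquiv]
      exact Nat.mul_dvd_mul (Nat.gcd_dvd_left _ _) hN
    have hle : n ≤ 8 := by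
      by_contra hcon
      have h3 := Nat.le_of_dvd (by norm_num) (dvd_trans (dvd_mul_right _ _) (dvd_trans (dvd_mul_right _ _) hd))
      have h4 := Nat.pow_le_pow_right (show 0 < 2 by norm_num) (show 27 ≤ n * 3 by omega)
      rw [pow_mul] at h4
      omega
    interval_cases n <;> norm_num at hd

end Cfsg.Agent.S3179
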