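import Cfsg.Statements.S3180
import Mathlib

set_option autoImplicit false
open Cfsg

namespace Cfsg.Agent.S3180

/-- Let P be a Sylow p-subgroup of a finite group J and P₁ a subgroup of P that is weakly closed in P with respect to J. If J acts on a set and two points, each fixed by every element of P₁, lie in one J-orbit, then they lie in one orbit of the normalizer of P₁ in J. -/
theorem result {J : Type*} [Group J] [Finite J]
    {p : ℕ} [Fact p.Prime] (P : Sylow p J) (P₁ : Subgroup J) (hW : Cfsg.IsWeaklyClosed P₁ (P : Subgroup J))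
    {Ω : Type*} [MulAction J Ω] (x y : Ω) (hx : ∀ g ∈ P₁, g • x = x) (hy : ∀ g ∈ P₁, g • y = y)
    (hc : ∃ g : J, g • x = y) :
    ∃ g ∈ Subgroup.normalizer (P₁ : Set J), g • x = y := by
  obtain ⟨g, hg⟩ := hc
  set c := fun a : J => (MulAut.conj a).toMonoidHom with hcdef
  set St := MulAction.stabilizer J y with hSt
  have hp : IsPGroup p P₁ := P.2.to_le hW.1
  have h1 : P₁ ≤ St := fun a ha => hy a ha
  have h2 : P₁.map (c g) ≤ St := by
    rintro _ ⟨a, ha, rfl⟩
    show (g * a * g⁻¹) • y = y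
    rw [← hg, smul_smul, inv_mul_cancel_right, mul_smul, hx a ha]
  obtain ⟨Q, hQ⟩ := (hp.of_equiv (Subgroup.subgroupOfEquivOfLe h1).symm).exists_le_sylow
  obtain ⟨Q', hQ'⟩ := ((hp.map (c g)).of_equiv (Subgroup.subgroupOfEquivOfLe h2).symm).exists_le_sylow
  obtain ⟨h, hh⟩ := MulAction.exists_smul_eq St Q' Q
  obtain ⟨R, hR⟩ := (Q.2.map St.subtype).exists_le_sylow
  obtain ⟨k, hk⟩ := MulAction.exists_smul_eq J R P
  have hmem : ∀ a ∈ R, k * a * k⁻¹ ∈ (P : Subgroup J) := by
    intro a ha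
    rw [← hk]
    exact Subgroup.smul_mem_pointwise_smul a (MulAut.conj k) (R : Subgroup J) ha
  have hQR : ∀ a : St, a ∈ Q → (a : J) ∈ R := fun a ha => hR ⟨a, ha, rfl⟩
  have e1 : P₁.map (c k) = P₁ := by
    apply hW.2
    rintro _ ⟨a, ha, rfl⟩
    exact hmem a (hQR ⟨a, h1 ha⟩ (hQ ha))
  have e2 : P₁.map (c (k * h * g)) = P₁ := by
    apply hW.2
    rintro _ ⟨a, ha, rfl⟩
    have hm : (c g a) ∈ P₁.map (c g) := ⟨a, ha, rfl⟩
    have hq : (⟨c g a, h2 hm⟩ : St) ∈ Q' := hQ' hm
    have : h * ⟨c g a, h2 hm⟩ * h⁻¹ ∈ Q := by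
      rw [← hh]
      exact Subgroup.smul_mem_pointwise_smul _ (MulAut.conj h) (Q' : Subgroup St) hq
    have := hmem _ (hQR _ this)
    have e : c (k * h * g) a = k * ((h : J) * (g * a * g⁻¹) * (h : J)⁻¹) * k⁻¹ := by
      simp [hcdef, mul_assoc]
    show c (k * h * g) a ∈ (P : Subgroup J)
    rw [e]; exact this
  refine ⟨h * g, ?_, ?_⟩
  · rw [Subgroup.mem_normalizer_iff_map_conj_eq]
    have hinj : Function.Injective (c k) := (MulAut.conj k).injective
    apply Subgroup.map_injective hinj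
    rw [Subgroup.map_map, e1]
    convert e2 using 2
    ext a; simp [hcdef, mul_assoc]
  · rw [mul_smul, hg]; exact h.2

end Cfsg.Agent.S3180
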