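import Cfsg.Statements.S3190
import Mathlib
import Cfsg.Agent.PGroups.Basic

set_option autoImplicit false
open Cfsg

namespace Cfsg.Agent.S3190

/-- Let p be an odd prime and, inside a finite group, let P be a p-subgroup normalized by a Klein four-group T. Let R be a subgroup of P, normal in P and normalized by T, such that P is the product of R with the centralizer of T in P. If T centralizes the centre of P, then T centralizes the centre of R. -/
theorem result {X : Type*} [Group X] [Finite X]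
    {p : ℕ} (hp : p.Prime) (hodd : Odd p) (P T R : Subgroup X) (hP : IsPGroup p ↥P) (hT : IsKleinFour ↥T)
    (hTP : T ≤ Subgroup.normalizer (P : Set X)) (hRP : R ≤ P) (hRn : (R.subgroupOf P).Normal)
    (hTR : T ≤ Subgroup.normalizer (R : Set X)) (hfac : R ⊔ (P ⊓ Subgroup.centralizer (T : Set X)) = P)
    (hZ : T ≤ Subgroup.centralizer (((Subgroup.center ↥P).map P.subtype : Subgroup X) : Set X)) :
    T ≤ Subgroup.centralizer (((Subgroup.center ↥R).map R.subtype : Subgroup X) : Set X) := by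
  have : Fact p.Prime := ⟨hp⟩
  intro t htT
  rw [Subgroup.mem_centralizer_iff]
  intro x hx
  set Z0 := (Subgroup.center ↥R).map R.subtype with hX
  have hXR : Z0 ≤ R := Subgroup.map_subtype_le _
  have hXc : ∀ r ∈ R, ∀ x ∈ Z0, r * x = x * r := by
    rintro r hr _ ⟨z, hz, rfl⟩
    exact congrArg Subtype.val (Subgroup.mem_center_iff.1 hz ⟨r, hr⟩)
  have hXmem : ∀ x, x ∈ R → (∀ r ∈ R, r * x = x * r) → x ∈ Z0 := fun x hx h =>
    ⟨⟨x, hx⟩, Subgroup.mem_center_iff.2 fun r => Subtype.ext (h r r.2), rfl⟩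
  have htt : t * t = 1 := congrArg Subtype.val (hT.mul_self ⟨t, htT⟩)
  have tinv : t⁻¹ = t := inv_eq_of_mul_eq_one_right htt
  -- conjugation preserving Z0
  have hconj : ∀ g : X, (∀ r, r ∈ R ↔ g * r * g⁻¹ ∈ R) → ∀ x ∈ Z0, g * x * g⁻¹ ∈ Z0 := by
    intro g hg x hx
    refine hXmem _ ((hg x).1 (hXR hx)) fun r hr => ?_
    have hr' : g⁻¹ * r * g ∈ R := (hg _).2 (by simpa [mul_assoc] using hr)
    have := hXc _ hr' x hx
    calc r * (g * x * g⁻¹) = g * ((g⁻¹ * r * g) * x) * g⁻¹ := by group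
      _ = _ := by rw [this]; group
  let Y : Subgroup _ :=
    { carrier := {x | x ∈ Z0 ∧ t * x * t⁻¹ = x⁻¹}
      one_mem' := ⟨Z0.one_mem, by simp⟩
      mul_mem' := fun {a b} ha hb => ⟨Z0.mul_mem ha.1 hb.1, by
        calc t * (a * b) * t⁻¹ = (t * a * t⁻¹) * (t * b * t⁻¹) := by group
          _ = a⁻¹ * b⁻¹ := by rw [ha.2, hb.2]
          _ = (a * b)⁻¹ := by
            rw [← mul_inv_rev, hXc b (hXR hb.1) a ha.1]⟩
      inv_mem' := fun {a} ha => ⟨Z0.inv_mem ha.1, by
        calc t * a⁻¹ * t⁻¹ = (t * a * t⁻¹)⁻¹ := by group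
          _ = _ := by rw [ha.2]⟩ }
  have hYP : Y ≤ P := fun y hy => hRP (hXR hy.1)
  have hYn : P ≤ Subgroup.normalizer (Y : Set _) := by
    rw [← hfac]
    refine sup_le (fun r hr => ?_) (fun c hc => ?_)
    · rw [Subgroup.mem_normalizer_iff]
      intro y
      constructor
      · intro hy
        rw [hXc r hr y hy.1, mul_inv_cancel_right]; exact hy
      · intro hy
        have := hXc r hr _ hy.1
        have e : r * y * r⁻¹ = y := by
          calc r * y * r⁻¹ = r⁻¹ * ((r * y * r⁻¹) * r) := by rw [← this]; group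
            _ = y := by group
        rwa [e] at hy
    · have hcn : ∀ c ∈ P ⊓ Subgroup.centralizer (T : Set _), ∀ y ∈ Y, c * y * c⁻¹ ∈ Y := by
        intro c hc y hy
        refine ⟨hconj c (fun r => ?_) y hy.1, ?_⟩
        · constructor
          · intro hr; exact (hRn.conj_mem ⟨r, hRP hr⟩ hr ⟨c, hc.1⟩ : _)
          · intro hr
            have h := (hRn.conj_mem ⟨_, hRP hr⟩ hr ⟨c⁻¹, P.inv_mem hc.1⟩ : _)
            simpa [mul_assoc, Subgroup.mem_subgroupOf] using h
        · have hct : t * c = c * t := Subgroup.mem_centralizer_iff.1 hc.2 t htT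
          calc t * (c * y * c⁻¹) * t⁻¹ = (t * c) * y * (t * c)⁻¹ := by group
            _ = c * (t * y * t⁻¹) * c⁻¹ := by rw [hct]; group
            _ = _ := by rw [hy.2]; group
      rw [Subgroup.mem_normalizer_iff]
      intro y
      constructor
      · exact hcn c hc y
      · intro hy
        have := hcn c⁻¹ (Subgroup.inv_mem _ hc) _ hy
        simpa [mul_assoc] using this
  have hYbot : Y = ⊥ := by
    by_contra hne
    have : (Y.subgroupOf P).Normal := Subgroup.normal_subgroupOf_of_le_normalizer hYn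
    have hne' : Y.subgroupOf P ≠ ⊥ := by
      rw [ne_eq, Subgroup.subgroupOf_eq_bot]
      exact fun h => hne (disjoint_self.1 (h.mono_right hYP))
    refine PGroups.inf_center_ne_bot hP _ hne' ((Subgroup.eq_bot_iff_forall _).2 ?_)
    rintro ⟨y, hyP⟩ ⟨hy, hyZ⟩
    have hyZ' : y ∈ (Subgroup.center ↥P).map P.subtype := ⟨⟨y, hyP⟩, hyZ, rfl⟩
    have h1 : y * t = t * y := Subgroup.mem_centralizer_iff.1 (hZ htT) y hyZ'
    have h2 : y = y⁻¹ := by
      have h0 : t * y * t⁻¹ = y⁻¹ := (hy : y ∈ Y).2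
      rwa [← h1, mul_inv_cancel_right] at h0
    have h3 : (⟨y, hyP⟩ : P) ^ 2 = 1 := Subtype.ext (by
      show y ^ 2 = 1
      rw [pow_two]
      nth_rewrite 2 [h2]
      exact mul_inv_cancel y)
    obtain ⟨k, hk⟩ := hP ⟨y, hyP⟩
    have hco : Nat.Coprime 2 (p ^ k) := Nat.coprime_two_left.2 (hodd.pow)
    exact orderOf_eq_one_iff.1 (Nat.eq_one_of_dvd_coprimes hco (orderOf_dvd_of_pow_eq_one h3) (orderOf_dvd_of_pow_eq_one hk))
  -- x⁻¹ x^t is inverted by t
  have htR : ∀ r, r ∈ R ↔ t * r * t⁻¹ ∈ R := fun r => Subgroup.mem_normalizer_iff.1 (hTR htT) r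
  have hxt := hconj t htR x hx
  have hd : x⁻¹ * (t * x * t⁻¹) ∈ Y := by
    refine ⟨Z0.mul_mem (Z0.inv_mem hx) hxt, ?_⟩
    rw [tinv]
    calc t * (x⁻¹ * (t * x * t)) * t = (t * x⁻¹ * t) * x * (t * t) := by group
      _ = (t * x * t)⁻¹ * x := by rw [htt, mul_one, mul_inv_rev, mul_inv_rev, tinv]; group
      _ = (x⁻¹ * (t * x * t))⁻¹ := by group
  rw [hYbot, Subgroup.mem_bot, inv_mul_eq_one] at hd
  exact (eq_mul_inv_iff_mul_eq.1 hd)

end Cfsg.Agent.S3190
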