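import Cfsg.Statements.S3191
import Cfsg.Agent.H67.Kondo.Count
import Cfsg.Agent.H67.Kondo.Centralizer

set_option autoImplicit false
open Cfsg

namespace Cfsg.Agent.S3191

open Cfsg.Agent.H67.Kondo in
/-- Let n ≥ 1 and r = 2 or 3, and let H be the centralizer in the alternating group of degree 4n + r of an involution moving exactly 4n points (a product of 2n disjoint transpositions). Let G be a finite group that has no normal subgroup of index 2 and that contains an involution t which is central in some Sylow 2-subgroup of G and whose centralizer is isomorphic to H. Then G has exactly n conjugacy classes of involutions. -/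
theorem result (n r : ℕ) (hn : 1 ≤ n) (hr : r = 2 ∨ r = 3)
    (α : ↥(alternatingGroup (Fin (4 * n + r)))) (hα : orderOf α = 2)
    (hα4 : (α : Equiv.Perm (Fin (4 * n + r))).support.card = 4 * n)
    {G : Type*} [Group G] [Finite G] (h2 : ∀ H : Subgroup G, H.Normal → H.index ≠ 2)
    (t : G) (ht : orderOf t = 2) (S : Sylow 2 G) (htS : t ∈ (S : Subgroup G))
    (htZ : ∀ s ∈ (S : Subgroup G), s * t = t * s)
    (hiso : Nonempty (↥(Subgroup.centralizer ({t} : Set G)) ≃*
      ↥(Subgroup.centralizer ({α} : Set ↥(alternatingGroup (Fin (4 * n + r))))))) :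
    Nat.card {c : ConjClasses G // ∃ x ∈ c.carrier, orderOf x = 2} = n := by
  classical
  obtain ⟨e⟩ := hiso
  set a : Equiv.Perm (Fin (4 * n + r)) := (α : Equiv.Perm (Fin (4 * n + r))) with hadef
  have ha : a * a = 1 := by
    have : α * α = 1 := by rw [← pow_two, ← hα, pow_orderOf_eq_one]
    exact congrArg Subtype.val this
  have hcard : Fintype.card (Pairs a) = 2 * n := by
    have := card_pairs ha
    omega
  have hfix : (Finset.univ.filter fun x => a x = x).card = r := by
    have := card_fixed ha
    omega
  let incl : ↥(Subgroup.centralizer ({α} : Set ↥(alternatingGroup (Fin (4 * n + r))))) →*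
      ↥(Subgroup.centralizer ({a} : Set (Equiv.Perm (Fin (4 * n + r))))) :=
    MonoidHom.mk' (fun g => ⟨(g.1 : Equiv.Perm (Fin (4 * n + r))),
      Subgroup.mem_centralizer_singleton_iff.mpr
        (congrArg Subtype.val (Subgroup.mem_centralizer_singleton_iff.mp g.2))⟩) fun _ _ => rfl
  let π : ↥(Subgroup.centralizer ({t} : Set G)) →* W (Pairs a) :=
    ((toW ha).comp incl).comp e.toMonoidHom
  let th : G → W (Pairs a) := fun x =>
    if hx : x ∈ Subgroup.centralizer ({t} : Set G) then π ⟨x, hx⟩ else 1
  have th_eq : ∀ (x : G) (hx : x ∈ Subgroup.centralizer ({t} : Set G)), th x = π ⟨x, hx⟩ :=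
    fun x hx => dif_pos hx
  have hker : ∀ y, π y = 1 → y * y = 1 → y = 1 := by
    intro y hy hy2
    refine e.injective ?_
    rw [map_one]
    refine Subtype.ext (Subtype.ext ?_)
    refine signed_ker ha (by omega) _ ((e y).1.2) ?_ hy
    have : e y * e y = 1 := by rw [← map_mul, hy2, map_one]
    exact congrArg (fun z : ↥(Subgroup.centralizer
      ({α} : Set ↥(alternatingGroup (Fin (4 * n + r))))) => (z.1 : Equiv.Perm (Fin (4 * n + r)))) this
  have hsurj : ∀ w, ∃ y, π y = w := by
    intro w
    obtain ⟨g, hg, hs, hgw⟩ := exists_signed ha (by omega) w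
    refine ⟨e.symm ⟨⟨g, hs⟩, Subgroup.mem_centralizer_singleton_iff.mpr (Subtype.ext hg)⟩, ?_⟩
    show toW ha (incl (e (e.symm _))) = w
    rw [e.apply_symm_apply]
    exact hgw
  have htH : t ∈ Subgroup.centralizer ({t} : Set G) :=
    Subgroup.mem_centralizer_singleton_iff.mpr rfl
  have htne : t ≠ 1 := fun h => by rw [h, orderOf_one] at ht; exact absurd ht (by decide)
  have htt : t * t = 1 := by rw [← pow_two, ← ht, pow_orderOf_eq_one]
  let σ : Setup (Pairs a) G :=
    { t := t
      S := S
      th := th
      t_ord := ht
      S_le := fun s hs => Subgroup.mem_centralizer_singleton_iff.mpr (htZ s hs)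
      th_mul := fun x hx y hy => by
        rw [th_eq x hx, th_eq y hy, th_eq _ (mul_mem hx hy), ← map_mul]
        rfl
      th_surj := fun w => by
        obtain ⟨y, rfl⟩ := hsurj w
        exact ⟨y.1, y.2, th_eq _ y.2⟩
      th_ker := fun x hx h1 hx2 => by
        rw [th_eq x hx] at h1
        exact congrArg Subtype.val (hker _ h1 (Subtype.ext hx2))
      th_t := by
        rw [th_eq t htH]
        refine eq_cst_of_central (fun w => ?_) fun h => htne ?_
        · obtain ⟨y, rfl⟩ := hsurj w
          show π _ * π y = π y * π _
          rw [← map_mul, ← map_mul]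
          refine congrArg π (Subtype.ext ?_)
          exact (Subgroup.mem_centralizer_singleton_iff.mp y.2).symm
        · exact congrArg Subtype.val (hker _ h (Subtype.ext htt))
      no_hom := fun f => by
        by_contra hf
        obtain ⟨x, hx⟩ : ∃ x, f x ≠ 1 := by
          by_contra h
          push Not at h
          exact hf (MonoidHom.ext h)
        have hsur : Function.Surjective f := by
          have hcases : ∀ u z : Multiplicative (ZMod 2), u ≠ 1 → z = 1 ∨ z = u := by decide
          intro z
          rcases hcases (f x) z hx with h | h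
          · exact ⟨1, by rw [map_one, h]⟩
          · exact ⟨x, h.symm⟩
        refine h2 f.ker (MonoidHom.normal_ker f) ?_
        rw [Subgroup.index_ker, MonoidHom.range_eq_top.mpr hsur]
        simp }
  exact σ.card_classes hn hcard

end Cfsg.Agent.S3191
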