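import Cfsg.Statements.S3192
import Cfsg.Agent.H86.ClassSizes.Main
import Cfsg.Agent.S2507
import Cfsg.Agent.Linear.Simple

set_option autoImplicit false
open Cfsg

namespace Cfsg.Agent.S3192

/-- Simple groups of conjugate type rank three. For a finite group G consider the set of indices of the centralizers of the non-central elements of G. Then G is a non-abelian simple group for which this set has exactly three members if and only if G is isomorphic to PSL(2, 2^m) for some m ≥ 2. -/
theorem result (G : Type*) [Group G] [Finite G] :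
    (IsSimpleGroup G ∧ ¬ IsMulCommutative G ∧
        Set.ncard {m : ℕ | ∃ x : G, x ∉ Subgroup.center G ∧ m = (Subgroup.centralizer ({x} : Set G)).index} = 3) ↔
      ∃ (m : ℕ) (F : Type) (_ : Field F) (_ : Fintype F), 2 ≤ m ∧ Fintype.card F = 2 ^ m ∧
        Nonempty (G ≃* Matrix.ProjectiveSpecialLinearGroup (Fin 2) F) := by
  classical
  constructor
  · rintro ⟨hs, hna, hcard⟩
    haveI := hs
    have hns : ¬ Group.IsSolvable G := fun h => by
      haveI := h
      exact hna ⟨⟨fun x y => IsSimpleGroup.comm_iff_isSolvable.2 h x y⟩⟩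
    have hZ : Subgroup.center G = ⊥ := by
      refine (IsSimpleGroup.eq_bot_or_eq_top_of_normal (Subgroup.center G) inferInstance).resolve_right
        fun h => hna ⟨⟨fun x y => Subgroup.mem_center_iff.1 (h ▸ Subgroup.mem_top y) x⟩⟩
    have hset : {n : ℕ | 1 < n ∧ ∃ x : G, H86.ClassSizes.sz x = n} =
        {m : ℕ | ∃ x : G, x ∉ Subgroup.center G ∧
          m = (Subgroup.centralizer ({x} : Set G)).index} := by
      ext n
      constructor
      · rintro ⟨hn, x, hx⟩
        refine ⟨x, fun hxc => ?_, hx.symm⟩
        have := H86.ClassSizes.sz_eq_one_iff.2 hxc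
        omega
      · rintro ⟨x, hx, rfl⟩
        have h0 : H86.ClassSizes.sz x ≠ 0 := Subgroup.index_ne_zero_of_finite
        have h1 : H86.ClassSizes.sz x ≠ 1 := fun e => hx (H86.ClassSizes.sz_eq_one_iff.1 e)
        exact ⟨by show 1 < H86.ClassSizes.sz x; omega, x, rfl⟩
    obtain ⟨n, hn, he⟩ := H86.ClassSizes.exists_psl_of_three_sizes hns hZ (by
      rw [hset, Nat.card_coe_set_eq]
      exact hcard.le)
    haveI : Fact (Nat.Prime 2) := ⟨Nat.prime_two⟩
    haveI : Fintype (GaloisField 2 n) := Fintype.ofFinite _
    exact ⟨n, GaloisField 2 n, inferInstance, inferInstance, hn,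
      by rw [← Nat.card_eq_fintype_card, GaloisField.card 2 n (by omega)], he⟩
  · rintro ⟨m, F, iF, iFt, hm, hF, ⟨e⟩⟩
    have h4 : 4 ≤ Fintype.card F := by
      rw [hF]
      calc 4 = 2 ^ 2 := rfl
        _ ≤ 2 ^ m := Nat.pow_le_pow_right (by norm_num) hm
    haveI : IsSimpleGroup (Matrix.ProjectiveSpecialLinearGroup (Fin 2) F) :=
      Cfsg.Agent.Linear.isSimpleGroup_PSL_fin le_rfl fun _ => by rw [Nat.card_eq_fintype_card]; exact h4
    haveI : Nontrivial G := e.toEquiv.nontrivial
    haveI hGs : IsSimpleGroup G := MulEquiv.isSimpleGroup e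
    set q := Fintype.card F
    have hrange := S2507.result (F := F) (by rw [show Fintype.card F = 2 ^ m from hF]; exact dvd_pow_self 2 (by omega)) h4
    have hsz : ∀ x : G, (Subgroup.centralizer ({x} : Set G)).index =
        (Subgroup.centralizer ({e x} : Set (Matrix.ProjectiveSpecialLinearGroup (Fin 2) F))).index := by
      intro x
      rw [← Subgroup.index_map_equiv (Subgroup.centralizer ({x} : Set G)) e]
      congr 1
      ext w
      constructor
      · rintro ⟨u, hu, rfl⟩
        rw [SetLike.mem_coe, Subgroup.mem_centralizer_singleton_iff] at hu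
        rw [Subgroup.mem_centralizer_singleton_iff]
        have := congrArg e hu
        simp only [map_mul] at this
        exact this
      · intro h
        rw [Subgroup.mem_centralizer_singleton_iff] at h
        refine ⟨e.symm w, ?_, e.apply_symm_apply w⟩
        rw [SetLike.mem_coe, Subgroup.mem_centralizer_singleton_iff]
        apply e.injective
        simp only [map_mul, e.apply_symm_apply]
        exact h
    have h1 : 1 < q * (q - 1) := by
      have : 1 < q - 1 := by omega
      exact lt_of_lt_of_le this (Nat.le_mul_of_pos_left _ (by omega))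
    have hlt1 : q * (q - 1) < q ^ 2 - 1 := by
      rw [Nat.mul_sub, mul_one, ← pow_two]
      have : q ≤ q ^ 2 := Nat.le_self_pow two_ne_zero q
      omega
    have hlt2 : q ^ 2 - 1 < q * (q + 1) := by
      rw [Nat.mul_add, ← pow_two, mul_one]
      omega
    have hna : ¬ IsMulCommutative G := fun h => by
      have hmem : q * (q - 1) ∈ ({1, q * (q - 1), q ^ 2 - 1, q * (q + 1)} : Set ℕ) := by simp
      rw [← hrange] at hmem
      obtain ⟨g, hg⟩ := hmem
      obtain ⟨x, rfl⟩ := e.surjective g
      simp only at hg
      rw [← hsz] at hg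
      have h1' : (Subgroup.centralizer ({x} : Set G)).index = 1 :=
        H86.ClassSizes.sz_eq_one_iff.2 (Subgroup.mem_center_iff.2 fun w => h.is_comm.comm w x)
      omega
    refine ⟨hGs, hna, ?_⟩
    have hset : {m : ℕ | ∃ x : G, x ∉ Subgroup.center G ∧
        m = (Subgroup.centralizer ({x} : Set G)).index} =
        {q * (q - 1), q ^ 2 - 1, q * (q + 1)} := by
      ext n
      constructor
      · rintro ⟨x, hx, rfl⟩
        have hmem := Set.mem_range_self
          (f := fun g : Matrix.ProjectiveSpecialLinearGroup (Fin 2) F =>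
            (Subgroup.centralizer ({g} : Set _)).index) (e x)
        rw [hrange] at hmem
        simp only [← hsz] at hmem
        exact hmem.resolve_left fun h => hx (H86.ClassSizes.sz_eq_one_iff.1 h)
      · intro hn
        have hmem : n ∈ ({1, q * (q - 1), q ^ 2 - 1, q * (q + 1)} : Set ℕ) := Or.inr hn
        rw [← hrange] at hmem
        obtain ⟨g, hg⟩ := hmem
        obtain ⟨x, rfl⟩ := e.surjective g
        simp only at hg
        rw [← hsz] at hg
        refine ⟨x, fun hx => ?_, hg.symm⟩
        have h1' : (Subgroup.centralizer ({x} : Set G)).index = 1 :=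
          H86.ClassSizes.sz_eq_one_iff.2 hx
        have h2' : 1 < q ^ 2 - 1 := h1.trans hlt1
        have h3' : 1 < q * (q + 1) := h2'.trans hlt2
        simp only [Set.mem_insert_iff, Set.mem_singleton_iff] at hn
        rcases hn with e' | e' | e' <;> omega
    rw [hset]
    exact Set.ncard_eq_three.2 ⟨_, _, _, hlt1.ne, (hlt1.trans hlt2).ne, hlt2.ne, rfl⟩

end Cfsg.Agent.S3192
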