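import Cfsg.Statements.S3195
import Mathlib
import Cfsg.Agent.Thompson.BaerSuzuki

set_option autoImplicit false
open Cfsg

namespace Cfsg.Agent.S3195

theorem odd_sq_inj {G : Type*} [Group G] {x : G} (h : Odd (orderOf x)) (hx : x ^ 2 = 1) : x = 1 :=
  orderOf_eq_one_iff.1 (Nat.eq_one_of_dvd_coprimes (Nat.coprime_two_right.2 h) dvd_rfl
    (orderOf_dvd_of_pow_eq_one hx))

theorem odd_pow {G : Type*} [Group G] {x : G} (h : Odd (orderOf x)) (n : ℕ) : Odd (orderOf (x ^ n)) :=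
  h.of_dvd_nat (orderOf_pow_dvd n)

/-- `b2` centralises `d`, `b1` centralises `e`, the other involutions invert them. -/
theorem endgame {G : Type*} [Group G] {d e b1 b2 : G} (hd1 : d ≠ 1) (hdo : Odd (orderOf d))
    (he1 : e ≠ 1) (heo : Odd (orderOf e)) (h1 : b1 * b1 = 1) (h2 : b2 * b2 = 1) (hc : b1 * b2 = b2 * b1)
    (hd : b1 * d * b1 = d⁻¹) (hd' : b2 * d * b2 = d) (he : b1 * e * b1 = e) (he' : b2 * e * b2 = e⁻¹)
    (h : ∀ g : G, Commute b1 (g * (b1 * b2) * g⁻¹) ∨ Commute b2 (g * (b1 * b2) * g⁻¹) ∨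
      Commute (b1 * b2) (g * (b1 * b2) * g⁻¹)) : False := by
  obtain ⟨c, hcdef⟩ : ∃ c, c = b1 * b2 := ⟨_, rfl⟩
  simp only [← hcdef] at h
  have hc0 : b1 * b2 = b2 * b1 := hc
  have hcc : c * c = 1 := by
    rw [hcdef, mul_assoc, ← mul_assoc b2, ← hc0, mul_assoc b1, h2, mul_one, h1]
  have hm : ∀ s : G, s * s = 1 → ∀ u v : G, s * (u * v) * s = (s * u * s) * (s * v * s) := fun s hs u v => by
    calc s * (u * v) * s = s * u * (s * s) * v * s := by rw [hs]; group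
      _ = _ := by group
  have hp : ∀ s : G, s * s = 1 → ∀ u v : G, s * u * s = v → ∀ n : ℕ, s * u ^ n * s = v ^ n := fun s hs u v huv n => by
    have := conj_pow (i := n) (a := s) (b := u)
    rw [inv_eq_of_mul_eq_one_right hs] at this
    rw [← this, huv]
  have hcd : c * d * c = d⁻¹ := by
    calc c * d * c = b1 * (b2 * d * b2) * b1 := by rw [hcdef]; nth_rewrite 2 [hc0]; group
      _ = _ := by rw [hd', hd]
  have hce : c * e * c = e⁻¹ := by
    calc c * e * c = b2 * (b1 * e * b1) * b2 := by rw [hcdef]; nth_rewrite 1 [hc0]; group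
      _ = _ := by rw [he, he']
  have key : ∀ n : ℕ, d ^ n ≠ 1 → e ^ 2 * (d ^ n) ^ 2 * e ^ 2 = ((d ^ n) ^ 2)⁻¹ := by
    intro n hn
    set x := d ^ n
    have hxo : Odd (orderOf x) := odd_pow hdo n
    have x1 : b1 * x * b1 = x⁻¹ := by rw [hp b1 h1 d _ hd n, inv_pow]
    have x2 : b2 * x * b2 = x := by rw [hp b2 h2 d _ hd' n]
    have x3 : c * x * c = x⁻¹ := by rw [hp c hcc d _ hcd n, inv_pow]
    -- the conjugate
    have hb : (x * e) * c * (x * e)⁻¹ = x * e ^ 2 * x * c := by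
      have k1 : c * e⁻¹ = e * c := by rw [← hce, ← mul_assoc, ← mul_assoc, hcc, one_mul]
      have k2 : c * x⁻¹ = x * c := by rw [← x3, ← mul_assoc, ← mul_assoc, hcc, one_mul]
      calc (x * e) * c * (x * e)⁻¹ = x * e * (c * e⁻¹) * x⁻¹ := by group
        _ = x * e * e * (c * x⁻¹) := by rw [k1]; group
        _ = _ := by rw [k2, pow_two]; group
    have hcomm : ∀ s, s * s = 1 → s * c * s = c → Commute s ((x * e) * c * (x * e)⁻¹) →
        (s * x * s) * (s * e * s) ^ 2 * (s * x * s) = x * e ^ 2 * x := by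
      intro s hs hsc hsb
      rw [hb] at hsb
      have : s * (x * e ^ 2 * x * c) * s = x * e ^ 2 * x * c := by
        rw [hsb.eq, mul_assoc, hs, mul_one]
      rw [hm s hs, hsc] at this
      have h' := mul_right_cancel this
      rwa [hm s hs, hm s hs, hp s hs e _ rfl 2] at h'
    rcases h (x * e) with hh | hh | hh
    · exfalso
      have h' := hcomm b1 h1 (by rw [hcdef, ← mul_assoc, h1, one_mul, ← hc0]) hh
      rw [x1, he] at h'
      -- e^2 conjugates x^2 to its inverse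
      have l : x ^ 2 * e ^ 2 = e ^ 2 * (x ^ 2)⁻¹ := by
        rw [pow_two x]
        calc x * x * e ^ 2 = x * (x * e ^ 2 * x) * x⁻¹ := by group
          _ = _ := by rw [← h']; group
      have l2 : Commute (x ^ 2) ((e ^ 2) ^ 2) := by
        have l' : (x ^ 2)⁻¹ * e ^ 2 = e ^ 2 * x ^ 2 := by
          calc (x ^ 2)⁻¹ * e ^ 2 = (x ^ 2)⁻¹ * (e ^ 2 * (x ^ 2)⁻¹) * x ^ 2 := by group
            _ = _ := by rw [← l]; group
        show x ^ 2 * (e ^ 2) ^ 2 = (e ^ 2) ^ 2 * x ^ 2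
        rw [pow_two (e ^ 2), ← mul_assoc, l, mul_assoc, l', ← mul_assoc]
      obtain ⟨k, hk⟩ := odd_pow heo 2
      have he2 : ((e ^ 2) ^ 2) ^ (k + 1) = e ^ 2 := by
        rw [← pow_mul, show 2 * (k + 1) = orderOf (e ^ 2) + 1 by omega, pow_succ, pow_orderOf_eq_one, one_mul]
      have l3 : Commute (x ^ 2) (e ^ 2) := he2 ▸ l2.pow_right (k + 1)
      have h4 : (x ^ 2) ^ 2 = 1 := by
        have := mul_left_cancel (l3.eq.symm.trans l)
        rw [pow_two]
        nth_rewrite 2 [this]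
        exact mul_inv_cancel _
      exact hn (odd_sq_inj hxo (odd_sq_inj (odd_pow hxo 2) h4))
    · exfalso
      have h' := hcomm b2 h2 (by rw [hcdef, ← mul_assoc, ← hc0, mul_assoc, h2, mul_one]) hh
      rw [x2, he'] at h'
      have := mul_left_cancel (mul_right_cancel h')
      have h4 : (e ^ 2) ^ 2 = 1 := by
        rw [pow_two]
        nth_rewrite 1 [← this]
        rw [inv_pow, inv_mul_cancel]
      exact he1 (odd_sq_inj heo (odd_sq_inj (odd_pow heo 2) h4))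
    · have h' := hcomm c hcc (by rw [hcc, one_mul]) hh
      rw [x3, hce, inv_pow] at h'
      rw [pow_two x]
      have : (x * e ^ 2 * x) * (x * e ^ 2 * x) = 1 := by
        nth_rewrite 1 [← h']
        group
      calc e ^ 2 * (x * x) * e ^ 2 = x⁻¹ * ((x * e ^ 2 * x) * (x * e ^ 2 * x)) * x⁻¹ := by group
        _ = _ := by rw [this]; group
  have k1 := key 1 (by rwa [pow_one])
  have k2 := key 2 (fun h => hd1 (odd_sq_inj hdo h))
  rw [pow_one] at k1
  -- (Y X Y) Y^-2 (Y X Y) = Y X^2 Y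
  have : ((e ^ 2) ^ 2)⁻¹ = 1 := by
    have h' : ((d ^ 2)⁻¹) * ((e ^ 2) ^ 2)⁻¹ * (d ^ 2)⁻¹ = ((d ^ 2) ^ 2)⁻¹ := by
      rw [← k2]
      nth_rewrite 1 [← k1]
      nth_rewrite 1 [← k1]
      group
    calc ((e ^ 2) ^ 2)⁻¹ = d ^ 2 * ((d ^ 2)⁻¹ * ((e ^ 2) ^ 2)⁻¹ * (d ^ 2)⁻¹) * d ^ 2 := by group
      _ = 1 := by rw [h']; group
  exact he1 (odd_sq_inj heo (odd_sq_inj (odd_pow heo 2) (inv_eq_one.1 this)))

theorem mem_pCore_two_of_conj {G : Type*} [Group G] [Finite G] {a : G} (ha : a * a = 1)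
    (h : ∀ g : G, ∃ k : ℕ, (a * (g * a * g⁻¹)) ^ 2 ^ k = 1) : a ∈ Cfsg.pCore 2 G := by
  have : Fact (Nat.Prime 2) := ⟨Nat.prime_two⟩
  obtain ⟨N, hN, hN2, haN⟩ := Thompson.baer_suzuki (p := 2) (x := a) fun g => by
    obtain ⟨k, hk⟩ := h g
    set b := g * a * g⁻¹ with hb
    have hbb : b * b = 1 := by
      calc b * b = g * (a * a) * g⁻¹ := by rw [hb]; group
        _ = 1 := by rw [ha]; group
    have ainv : a⁻¹ = a := inv_eq_of_mul_eq_one_right ha
    have binv : b⁻¹ = b := inv_eq_of_mul_eq_one_right hbb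
    have hA : IsPGroup 2 (Subgroup.zpowers a) := by
      rintro ⟨y, hy⟩
      obtain ⟨i, rfl⟩ := Subgroup.mem_zpowers_iff.1 hy
      refine ⟨1, Subtype.ext ?_⟩
      show (a ^ i) ^ (2 ^ 1) = 1
      rw [pow_one, ← zpow_natCast (a ^ i), ← zpow_mul, mul_comm, zpow_mul, zpow_natCast, pow_two, ha, one_zpow]
    have hX : IsPGroup 2 (Subgroup.zpowers (a * b)) := by
      rintro ⟨y, hy⟩
      obtain ⟨i, rfl⟩ := Subgroup.mem_zpowers_iff.1 hy
      refine ⟨k, Subtype.ext ?_⟩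
      show ((a * b) ^ i) ^ (2 ^ k) = 1
      rw [← zpow_natCast ((a * b) ^ i), ← zpow_mul, mul_comm, zpow_mul, zpow_natCast, hk, one_zpow]
    refine (hA.to_sup_of_normal_right' hX ?_).to_le ((Subgroup.closure_le _).2 ?_)
    · rw [Subgroup.zpowers_le, Subgroup.mem_normalizer_iff_map_conj_eq, MonoidHom.map_zpowers]
      show Subgroup.zpowers (a * (a * b) * a⁻¹) = _
      have e : a * (a * b) * a⁻¹ = (a * b)⁻¹ := by
        rw [← mul_assoc a a, ha, one_mul, mul_inv_rev, binv]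
      rw [e, Subgroup.zpowers_inv]
    · rintro z (rfl | rfl)
      · exact Subgroup.mem_sup_left (Subgroup.mem_zpowers _)
      · show b ∈ Subgroup.zpowers a ⊔ Subgroup.zpowers (a * b)
        have hm : a * (a * b) ∈ Subgroup.zpowers a ⊔ Subgroup.zpowers (a * b) :=
          mul_mem (Subgroup.mem_sup_left (Subgroup.mem_zpowers a)) (Subgroup.mem_sup_right (Subgroup.mem_zpowers (a * b)))
        have e : a * (a * b) = b := by
          calc a * (a * b) = (a * a) * b := (mul_assoc a a b).symm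
            _ = b := by rw [ha, one_mul]
        exact (congrArg (· ∈ Subgroup.zpowers a ⊔ Subgroup.zpowers (a * b)) e).mp hm
  exact le_sSup (s := {N : Subgroup G | N.Normal ∧ IsPGroup 2 N}) ⟨hN, hN2⟩ haN

/-- Let A be a Klein four-subgroup of a finite group G. If every G-conjugate of every involution of A commutes with some involution of A (its centralizer meets A nontrivially), then A meets the largest normal 2-subgroup O₂(G) nontrivially. -/
theorem result {G : Type*} [Group G] [Finite G]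
    (A : Subgroup G) (hA : IsKleinFour ↥A)
    (h : ∀ a ∈ A, a ≠ 1 → ∀ g : G, A ⊓ Subgroup.centralizer ({g * a * g⁻¹} : Set G) ≠ ⊥) :
    A ⊓ Cfsg.pCore 2 G ≠ ⊥ := by
  have hcomm : ∀ x ∈ A, ∀ y ∈ A, x * y = y * x := fun x hx y hy =>
    congrArg Subtype.val ((hA.isMulCommutative (G := ↥A)).is_comm.comm ⟨x, hx⟩ ⟨y, hy⟩)
  by_contra hne
  have hbad : ∀ a ∈ A, a ≠ 1 → ∃ d, d ≠ 1 ∧ Odd (orderOf d) ∧ a * d * a = d⁻¹ ∧ ∃ b ∈ A, b ≠ 1 ∧ b ≠ a ∧ b * d * b = d := by
    intro a ha ha1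
    have haa : a * a = 1 := congrArg Subtype.val (hA.mul_self ⟨a, ha⟩)
    have hnot : a ∉ Cfsg.pCore 2 G := fun h' =>
      ha1 ((Subgroup.eq_bot_iff_forall _).1 hne a ⟨ha, h'⟩)
    obtain ⟨g, hg⟩ : ∃ g : G, ∀ k : ℕ, (a * (g * a * g⁻¹)) ^ 2 ^ k ≠ 1 := by
      by_contra hh
      push Not at hh
      exact hnot (mem_pCore_two_of_conj haa hh)
    set x := a * (g * a * g⁻¹) with hx
    obtain ⟨k, m, hm, hkm⟩ := Nat.exists_eq_two_pow_mul_odd (orderOf_pos x).ne'
    have hd : orderOf (x ^ 2 ^ k) = m := by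
      rw [orderOf_pow' _ (by positivity), hkm, Nat.gcd_mul_right_left, Nat.mul_div_cancel_left _ (by positivity)]
    have ainv : a⁻¹ = a := inv_eq_of_mul_eq_one_right haa
    have hbb : (g * a * g⁻¹) * (g * a * g⁻¹) = 1 := by
      calc (g * a * g⁻¹) * (g * a * g⁻¹) = g * (a * a) * g⁻¹ := by group
        _ = 1 := by rw [haa]; group
    have binv : (g * a * g⁻¹)⁻¹ = g * a * g⁻¹ := inv_eq_of_mul_eq_one_right hbb
    have hax : a * x * a = x⁻¹ := by
      rw [hx, mul_inv_rev, binv, ainv, ← mul_assoc a a, haa, one_mul]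
    refine ⟨x ^ 2 ^ k, hg k, hd.symm ▸ hm, ?_, ?_⟩
    · have e := conj_pow (i := 2 ^ k) (a := a) (b := x)
      rw [ainv] at e
      rw [← e, hax, inv_pow]
    · obtain ⟨b, ⟨hb, hbc⟩, hb1⟩ := (Subgroup.ne_bot_iff_exists_ne_one.1 (h a ha ha1 g)).elim
        fun b hb => (⟨(b : G), b.2, fun h' => hb (Subtype.ext h')⟩ :
          ∃ b : G, b ∈ A ⊓ Subgroup.centralizer ({g * a * g⁻¹} : Set G) ∧ b ≠ 1)
      have hbc' : Commute b (g * a * g⁻¹) := Subgroup.mem_centralizer_singleton_iff.1 hbc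
      refine ⟨b, hb, hb1, fun hba => hg 1 ?_, ?_⟩
      · subst hba
        rw [hx, pow_one, hbc'.mul_pow, pow_two, pow_two, haa, hbb, one_mul]
      · have hbx : Commute b x := (show Commute b a from hcomm b hb a ha).mul_right hbc'
        have hbb1 : b * b = 1 := congrArg Subtype.val (hA.mul_self ⟨b, hb⟩)
        rw [(hbx.pow_right (2 ^ k)).eq, mul_assoc, hbb1, mul_one]
  have htriv : A ≠ ⊥ := fun h' => by
    have := hA.card_four
    rw [h', Subgroup.card_bot] at this; omega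
  obtain ⟨a1, ha1A, ha11⟩ := (Subgroup.ne_bot_iff_exists_ne_one.1 htriv).elim
    fun b hb => (⟨(b : G), b.2, fun h' => hb (Subtype.ext h')⟩ : ∃ b : G, b ∈ A ∧ b ≠ 1)
  obtain ⟨d, hd1, hdo, hd, a2, ha2, ha21, hne21, hd2⟩ := hbad a1 ha1A ha11
  obtain ⟨e, he1, heo, he, b, hb, hb1, hb2, heb⟩ := hbad a2 ha2 ha21
  have a1a1 : a1 * a1 = 1 := congrArg Subtype.val (hA.mul_self ⟨a1, ha1A⟩)
  have a2a2 : a2 * a2 = 1 := congrArg Subtype.val (hA.mul_self ⟨a2, ha2⟩)
  have hc12 : a1 * a2 = a2 * a1 := hcomm _ ha1A _ ha2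
  classical
  have := Fintype.ofFinite A
  have h3 : ∀ c ∈ A, c = 1 ∨ c = a1 ∨ c = a2 ∨ c = a1 * a2 := by
    intro c hc
    have hu := hA.eq_finset_univ (x := (⟨a1, ha1A⟩ : A)) (y := ⟨a2, ha2⟩)
      (fun h' => ha11 (congrArg Subtype.val h')) (fun h' => ha21 (congrArg Subtype.val h'))
      (fun h' => hne21 (congrArg Subtype.val h').symm)
    have hm := Finset.mem_univ (⟨c, hc⟩ : A)
    rw [← hu] at hm
    simp [Subtype.ext_iff] at hm
    tauto
  have hd3 : a1 * a2 * d * (a1 * a2) = d⁻¹ := by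
    calc a1 * a2 * d * (a1 * a2) = a1 * a2 * d * (a2 * a1) := by rw [← hc12]
      _ = a1 * (a2 * d * a2) * a1 := by group
      _ = _ := by rw [hd2, hd]
  have hAc : ∀ c ∈ A, c ≠ 1 → ∀ g, ∃ v ∈ A, v ≠ 1 ∧ Commute v (g * c * g⁻¹) := by
    intro c hc hc1 g
    obtain ⟨v, hv⟩ := Subgroup.ne_bot_iff_exists_ne_one.1 (h c hc hc1 g)
    exact ⟨v, v.2.1, fun h' => hv (Subtype.ext h'), Subgroup.mem_centralizer_singleton_iff.1 v.2.2⟩
  rcases h3 b hb with rfl | rfl | rfl | rfl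
  · exact hb1 rfl
  · exact endgame hd1 hdo he1 heo a1a1 a2a2 hc12 hd hd2 heb he (fun g => by
      obtain ⟨v, hv, hv1, hvc⟩ := hAc (b * a2) (A.mul_mem hb ha2)
        (fun h' => hne21 ((eq_inv_of_mul_eq_one_right h').trans (inv_eq_of_mul_eq_one_right a1a1))) g
      rcases h3 v hv with rfl | rfl | rfl | rfl
      · exact absurd rfl hv1
      · exact Or.inl hvc
      · exact Or.inr (Or.inl hvc)
      · exact Or.inr (Or.inr hvc))
  · exact hb2 rfl
  · have a33 : a1 * a2 * (a1 * a2) = 1 := congrArg Subtype.val (hA.mul_self ⟨_, A.mul_mem ha1A ha2⟩)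
    have e31 : a1 * a2 * a2 = a1 := by rw [mul_assoc, a2a2, mul_one]
    have hc32 : a1 * a2 * a2 = a2 * (a1 * a2) := by rw [← mul_assoc, ← hc12]
    exact endgame hd1 hdo he1 heo a33 a2a2 hc32 hd3 hd2 heb he (fun g => by
      obtain ⟨v, hv, hv1, hvc⟩ := hAc (a1 * a2 * a2) (by rw [e31]; exact ha1A) (by rw [e31]; exact ha11) g
      rcases h3 v hv with rfl | rfl | rfl | rfl
      · exact absurd rfl hv1
      · exact Or.inr (Or.inr (by rw [e31]; rw [e31] at hvc; exact hvc))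
      · exact Or.inr (Or.inl hvc)
      · exact Or.inl hvc)

end Cfsg.Agent.S3195
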