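import Cfsg.Statements.S3196
import Mathlib
import Cfsg.Agent.Cores.PCore
import Cfsg.Agent.PGroups.Basic

set_option autoImplicit false
open Cfsg

namespace Cfsg.Agent.S3196

open Subgroup

/-- elementwise commutation -/
def Adj {G : Type*} [Group G] (X Y : Subgroup G) : Prop := ∀ x ∈ X, ∀ y ∈ Y, x * y = y * x

section
set_option linter.unusedSectionVars false
variable {G : Type*} [Group G] [Finite G] {p : ℕ}

theorem exists_gen (hp : p.Prime) {X : Subgroup G} (hX : Nat.card X = p) :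
    ∃ x, x ≠ 1 ∧ X = zpowers x := by
  have : Nontrivial X := Finite.one_lt_card_iff_nontrivial.1 (hX.symm ▸ hp.one_lt)
  obtain ⟨x, hx⟩ := exists_ne (1 : X)
  have hx1 : (x : G) ≠ 1 := fun h => hx (Subtype.ext h)
  refine ⟨x, hx1, (eq_of_le_of_card_ge (zpowers_le.2 x.2) ?_).symm⟩
  have : Fact p.Prime := ⟨hp⟩
  have h1 : orderOf (x : G) = p := by
    refine orderOf_eq_prime ?_ hx1
    have := pow_card_eq_one' (x := x)
    rw [hX] at this
    exact congrArg Subtype.val this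
  rw [Nat.card_zpowers, h1, hX]

theorem eq_zpowers_of_mem (hp : p.Prime) {X : Subgroup G} (hX : Nat.card X = p) {x : G}
    (hx : x ∈ X) (hx1 : x ≠ 1) : zpowers x = X := by
  obtain ⟨g, -, rfl⟩ := exists_gen hp hX
  refine eq_of_le_of_card_ge (zpowers_le.2 hx) ?_
  rw [Nat.card_zpowers, Nat.card_zpowers]
  have hd := orderOf_dvd_natCard (⟨x, hx⟩ : zpowers g)
  rw [Subgroup.orderOf_mk, Nat.card_zpowers] at hd
  rw [Nat.card_zpowers] at hX
  rw [hX] at hd ⊢
  exact (((Nat.dvd_prime hp).1 hd).resolve_left (fun h => hx1 (orderOf_eq_one_iff.1 h))).ge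

theorem adj_iff {x y : G} : Adj (zpowers x) (zpowers y) ↔ Commute x y := by
  constructor
  · exact fun h => h x (mem_zpowers x) y (mem_zpowers y)
  · rintro h _ ⟨a, rfl⟩ _ ⟨b, rfl⟩
    exact (h.zpow_zpow a b).eq

theorem Adj.symm {X Y : Subgroup G} (h : Adj X Y) : Adj Y X := fun y hy x hx => (h x hx y hy).symm

theorem le_pCore_of_universal (hp : p.Prime) {K : Set (Subgroup G)} (hK : ∀ X ∈ K, Nat.card X = p)
    (hKc : ∀ X ∈ K, ∀ g : G, X.map (MulAut.conj g).toMonoidHom ∈ K) {V : Subgroup G} (hV : V ∈ K)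
    (hVu : ∀ W ∈ K, ∀ v ∈ V, ∀ w ∈ W, v * w = w * v) : V ≤ Cfsg.pCore p G := by
  obtain ⟨v, -, rfl⟩ := exists_gen hp (hK V hV)
  have hvp : v ^ p = 1 := by
    rw [← hK _ hV, Nat.card_zpowers]; exact pow_orderOf_eq_one v
  have hN : IsPGroup p (normalClosure ({v} : Set G)) := by
    have hcomm : ∀ a ∈ Group.conjugatesOfSet ({v} : Set G), ∀ b ∈ Group.conjugatesOfSet ({v} : Set G), a * b = b * a := by
      intro a ha b hb
      simp only [Group.mem_conjugatesOfSet_iff, Set.mem_singleton_iff, exists_eq_left, isConj_iff] at ha hb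
      obtain ⟨g, rfl⟩ := ha
      obtain ⟨h, rfl⟩ := hb
      have := hVu _ (hKc _ hV (g⁻¹ * h)) v (mem_zpowers v) _ ⟨v, mem_zpowers v, rfl⟩
      simp only [MulEquiv.coe_toMonoidHom, MulAut.conj_apply] at this
      calc g * v * g⁻¹ * (h * v * h⁻¹) = g * (v * (g⁻¹ * h * v * (g⁻¹ * h)⁻¹)) * g⁻¹ := by group
        _ = _ := by rw [this]; group
    have := isMulCommutative_closure hcomm
    rintro ⟨x, hx⟩
    refine ⟨1, Subtype.ext ?_⟩
    show x ^ p ^ 1 = 1
    rw [pow_one]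
    change x ∈ closure (Group.conjugatesOfSet ({v} : Set G)) at hx
    induction hx using closure_induction with
    | mem y hy =>
      simp only [Group.mem_conjugatesOfSet_iff, Set.mem_singleton_iff, exists_eq_left, isConj_iff] at hy
      obtain ⟨g, rfl⟩ := hy
      rw [conj_pow, hvp, mul_one, mul_inv_cancel]
    | one => simp
    | mul y z hy hz ihy ihz =>
      have hc : Commute y z := congrArg Subtype.val (this.is_comm.comm ⟨y, hy⟩ ⟨z, hz⟩)
      rw [hc.mul_pow, ihy, ihz, one_mul]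
    | inv y hy ihy => rw [inv_pow, ihy, inv_one]
  exact zpowers_le.2 (le_sSup (s := {N : Subgroup G | N.Normal ∧ IsPGroup p N})
    ⟨normalClosure_normal, hN⟩ (subset_normalClosure (Set.mem_singleton v)))

/-- the axioms, elementwise: `KP x` means `x` generates a member of `K`. -/
theorem exists_universal (hp : p.Prime) {K : Set (Subgroup G)} (hK : ∀ X ∈ K, Nat.card X = p)
    (hKc : ∀ X ∈ K, ∀ g : G, X.map (MulAut.conj g).toMonoidHom ∈ K)
    (hex : ∃ X ∈ K, ∃ Y ∈ K, X ≠ Y ∧ ∀ x ∈ X, ∀ y ∈ Y, x * y = y * x)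
    (ha : ∀ X ∈ K, ∀ Y ∈ K, X ≠ Y → (∀ x ∈ X, ∀ y ∈ Y, x * y = y * x) →
      ∀ Z : Subgroup G, Z ≤ X ⊔ Y → Nat.card Z = p → Z ∈ K)
    (hb : ∀ X ∈ K, ∀ Y ∈ K, X ≠ Y → (∀ x ∈ X, ∀ y ∈ Y, x * y = y * x) →
      ∀ W ∈ K, (X ⊔ Y) ⊓ centralizer (W : Set G) ≠ ⊥) :
    ∃ V ∈ K, ∀ W ∈ K, ∀ v ∈ V, ∀ w ∈ W, v * w = w * v := by
  have : Fact p.Prime := ⟨hp⟩
  by_contra hno
  push Not at hno
  let KP : G → Prop := fun x => x ≠ 1 ∧ zpowers x ∈ K
  have hpow : ∀ x, KP x → x ^ p = 1 := fun x hx => by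
    rw [← hK _ hx.2, Nat.card_zpowers]; exact pow_orderOf_eq_one x
  -- lines
  have hline : ∀ x y, KP x → KP y → Commute x y → zpowers x ≠ zpowers y →
      ∀ u ∈ zpowers x ⊔ zpowers y, u ≠ 1 → KP u := by
    intro x y hx hy hc hne u hu hu1
    refine ⟨hu1, ha _ hx.2 _ hy.2 hne (adj_iff.2 hc) _ (zpowers_le.2 hu) ?_⟩
    rw [Nat.card_zpowers]
    refine orderOf_eq_prime ?_ hu1
    have hle : zpowers x ≤ normalizer (zpowers y : Set G) := by
      refine le_trans ?_ (centralizer_le_normalizer _)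
      intro a ha' 
      exact mem_centralizer_iff.2 fun b hb' => (adj_iff.2 hc a ha' b hb').symm
    rw [← SetLike.mem_coe, coe_mul_of_left_le_normalizer_right _ _ hle] at hu
    obtain ⟨_, ⟨a, rfl⟩, _, ⟨b, rfl⟩, rfl⟩ := Set.mem_mul.1 hu
    show (x ^ a * y ^ b) ^ p = 1
    rw [(hc.zpow_zpow a b).mul_pow, ← zpow_natCast, ← zpow_natCast, ← zpow_mul, ← zpow_mul,
      mul_comm a, mul_comm b, zpow_mul, zpow_mul, zpow_natCast, zpow_natCast, hpow x hx, hpow y hy]
    simp
  have hsame : ∀ x y z : G, zpowers x = zpowers y → Commute y z → Commute x z := by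
    intro x y z h hc
    obtain ⟨k, hk⟩ := mem_zpowers_iff.1 (h ▸ mem_zpowers x)
    exact hk ▸ hc.zpow_left k
  -- the point of a line commuting with a given element
  have hpt : ∀ x z w, KP x → KP z → KP w → Commute x z → zpowers x ≠ zpowers z →
      ¬ Commute z w → ∃ z' ∈ zpowers z, Commute (x * z') w := by
    intro x z w hx hz hw hc hne hzw
    obtain ⟨u, ⟨hu, hu'⟩, hu1⟩ := (Subgroup.ne_bot_iff_exists_ne_one.1
      (hb _ hx.2 _ hz.2 hne (adj_iff.2 hc) _ hw.2)).elim fun u hu =>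
        (⟨(u : G), u.2, fun h => hu (Subtype.ext h)⟩ : ∃ u : G, u ∈ (zpowers x ⊔ zpowers z) ⊓ centralizer (zpowers w : Set G) ∧ u ≠ 1)
    have hle : zpowers x ≤ normalizer (zpowers z : Set G) := by
      refine le_trans ?_ (centralizer_le_normalizer _)
      intro a ha' 
      exact mem_centralizer_iff.2 fun b hb' => (adj_iff.2 hc a ha' b hb').symm
    rw [SetLike.mem_coe, mem_toSubmonoid, ← SetLike.mem_coe, coe_mul_of_left_le_normalizer_right _ _ hle] at hu
    obtain ⟨a, ha', b, hb', rfl⟩ := Set.mem_mul.1 hu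
    have huw : Commute (a * b) w := (mem_centralizer_iff.1 hu' w (mem_zpowers w)).symm
    by_cases ha1 : a = 1
    · subst ha1
      rw [one_mul] at huw hu1
      exact absurd (hsame z b w (eq_zpowers_of_mem hp (hK _ hz.2) hb' hu1).symm huw) hzw
    · have := eq_zpowers_of_mem hp (hK _ hx.2) ha' ha1
      obtain ⟨k, hk⟩ := mem_zpowers_iff.1 (this ▸ mem_zpowers x : x ∈ zpowers a)
      refine ⟨b ^ k, zpow_mem hb' k, ?_⟩
      rw [← hk, ← (show Commute a b from adj_iff.2 hc a ha' b hb').mul_zpow]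
      exact huw.zpow_left k
  -- neighbours
  have hnb : ∀ x, KP x → ∃ y, KP y ∧ Commute x y ∧ zpowers x ≠ zpowers y := by
    intro x hx
    obtain ⟨A, hA, B, hB, hne, hc⟩ := hex
    obtain ⟨a, ha1, rfl⟩ := exists_gen hp (hK A hA)
    obtain ⟨b, hb1, rfl⟩ := exists_gen hp (hK B hB)
    have hcab : Commute a b := hc a (mem_zpowers a) b (mem_zpowers b)
    by_cases h1 : Commute b x
    · by_cases h2 : zpowers x = zpowers b
      · exact ⟨a, ⟨ha1, hA⟩, hsame x b a h2 hcab.symm, fun h => hne (h.symm.trans h2)⟩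
      · exact ⟨b, ⟨hb1, hB⟩, h1.symm, h2⟩
    · obtain ⟨z, hz, hzx⟩ := hpt a b x ⟨ha1, hA⟩ ⟨hb1, hB⟩ hx hcab hne h1
      have hm : a * z ∈ zpowers a ⊔ zpowers b :=
        mul_mem (mem_sup_left (mem_zpowers a)) (mem_sup_right hz)
      have hne1 : a * z ≠ 1 := fun h => hne <| by
        rw [mul_eq_one_iff_eq_inv] at h
        exact eq_zpowers_of_mem hp (hK _ hB) (h ▸ inv_mem hz) ha1
      refine ⟨a * z, hline a b ⟨ha1, hA⟩ ⟨hb1, hB⟩ hcab hne _ hm hne1, hzx.symm, fun h => h1 ?_⟩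
      refine (hsame x (a * z) b h ?_).symm
      exact hcab.mul_left (adj_iff.2 (Commute.refl b) z hz b (mem_zpowers b))
  -- common neighbours
  have hcommon : ∀ x w, KP x → KP w → ¬ Commute x w → ∃ z, KP z ∧ Commute x z ∧ Commute w z := by
    intro x w hx hw hxw
    obtain ⟨y, hy, hxy, hne⟩ := hnb x hx
    obtain ⟨x', hx', hw'⟩ := hpt y x w hy hx hw hxy.symm (Ne.symm hne) hxw
    have hc' : Commute x x' := adj_iff.2 (Commute.refl x) x (mem_zpowers x) x' hx'
    refine ⟨y * x', hline y x hy hx hxy.symm (Ne.symm hne) _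
      (mul_mem (mem_sup_left (mem_zpowers y)) (mem_sup_right hx')) (fun h => hne ?_),
      hxy.mul_right hc', hw'.symm⟩
    rw [mul_eq_one_iff_eq_inv] at h
    exact (eq_zpowers_of_mem hp (hK _ hx.2) (h ▸ inv_mem hx') hy.1).symm
  let br : G → G → G := fun x w => x⁻¹ * w⁻¹ * x * w
  have hne_of : ∀ x z v : G, ¬ Commute z v → Commute x v → zpowers x ≠ zpowers z :=
    fun x z v hzv hxv h => hzv (hsame z x v h.symm hxv)
  have hconjeq : ∀ c z : G, Commute c z → z⁻¹ * c * z = c := fun c z h => by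
    rw [mul_assoc, h.eq, inv_mul_cancel_left]
  have hbrz : ∀ x w z : G, Commute x z → Commute w z → Commute (br x w) z := fun x w z h1 h2 =>
    ((h1.inv_left.mul_left h2.inv_left).mul_left h1).mul_left h2
  -- multiplying by a common neighbour does not change the commutator
  have hbr2 : ∀ x w z1 z2 : G, Commute x z1 → Commute w z1 → Commute x z2 → Commute w z2 →
      Commute z1 z2 → br (x * z1) (w * z2) = br x w := by
    intro x w z1 z2 a1 a2 b1 b2 h
    have e1 : br (x * z1) w = br x w := by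
      calc (x * z1)⁻¹ * w⁻¹ * (x * z1) * w = z1⁻¹ * (x⁻¹ * w⁻¹ * x) * (z1 * w) := by group
        _ = z1⁻¹ * (br x w) * z1 := by rw [← a2.eq]; simp [br, mul_assoc]
        _ = _ := hconjeq _ _ (hbrz x w z1 a1 a2)
    calc (x * z1)⁻¹ * (w * z2)⁻¹ * (x * z1) * (w * z2)
        = (x * z1)⁻¹ * z2⁻¹ * (w⁻¹ * (x * z1) * w) * z2 := by group
      _ = z2⁻¹ * (x * z1)⁻¹ * (w⁻¹ * (x * z1) * w) * z2 := by
          rw [((b1.mul_left h).inv_inv).eq]
      _ = z2⁻¹ * br (x * z1) w * z2 := by simp [br, mul_assoc]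
      _ = _ := by rw [e1]; exact hconjeq _ _ (hbrz x w z2 b1 b2)
  -- frame around a noncommuting pair
  have hframe : ∀ x w, KP x → KP w → ¬ Commute x w → ∃ x1 w1 z u, KP x1 ∧ KP w1 ∧ KP z ∧ KP u ∧
      br x1 w1 = br x w ∧ Commute x1 z ∧ Commute w1 z ∧ Commute x1 u ∧ Commute w1 u ∧ ¬ Commute z u ∧
      Commute x z ∧ Commute w z ∧ (∃ z1 ∈ zpowers z, x1 = x * z1) ∧ ∃ z2 ∈ zpowers z, w1 = w * z2 := by
    intro x w hx hw hxw
    obtain ⟨z, hz, hxz, hwz⟩ := hcommon x w hx hw hxw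
    obtain ⟨U, hU, hzU⟩ : ∃ U ∈ K, ¬ Adj (zpowers z) U := by
      obtain ⟨U, hU, a, ha', b, hb', h⟩ := hno _ hz.2
      exact ⟨U, hU, fun h' => h (h' a ha' b hb')⟩
    obtain ⟨u, hu1, rfl⟩ := exists_gen hp (hK U hU)
    rw [adj_iff] at hzU
    have n1 : zpowers x ≠ zpowers z := fun h => hxw (hsame x z w h hwz.symm)
    have n2 : zpowers w ≠ zpowers z := fun h => hxw (hsame w z x h hxz.symm).symm
    obtain ⟨z1, hz1, h1⟩ := hpt x z u hx hz ⟨hu1, hU⟩ hxz n1 hzU
    obtain ⟨z2, hz2, h2⟩ := hpt w z u hw hz ⟨hu1, hU⟩ hwz n2 hzU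
    have hzz : ∀ a ∈ zpowers z, ∀ b ∈ zpowers z, a * b = b * a := adj_iff.2 (Commute.refl z)
    have a1 : Commute x z1 := adj_iff.2 hxz x (mem_zpowers x) z1 hz1
    have a2 : Commute w z1 := adj_iff.2 hwz w (mem_zpowers w) z1 hz1
    have b1 : Commute x z2 := adj_iff.2 hxz x (mem_zpowers x) z2 hz2
    have b2 : Commute w z2 := adj_iff.2 hwz w (mem_zpowers w) z2 hz2
    have e := hbr2 x w z1 z2 a1 a2 b1 b2 (hzz z1 hz1 z2 hz2)
    refine ⟨x * z1, w * z2, z, u,
      hline x z hx hz hxz n1 _ (mul_mem (mem_sup_left (mem_zpowers x)) (mem_sup_right hz1)) ?_,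
      hline w z hw hz hwz n2 _ (mul_mem (mem_sup_left (mem_zpowers w)) (mem_sup_right hz2)) ?_,
      hz, ⟨hu1, hU⟩, e, hxz.mul_left (hzz z1 hz1 z (mem_zpowers z)),
      hwz.mul_left (hzz z2 hz2 z (mem_zpowers z)), h1, h2, hzU, hxz, hwz, ⟨z1, hz1, rfl⟩, z2, hz2, rfl⟩
    · intro h
      rw [mul_eq_one_iff_eq_inv] at h
      exact n1 (eq_zpowers_of_mem hp (hK _ hz.2) (h ▸ inv_mem hz1) hx.1)
    · intro h
      rw [mul_eq_one_iff_eq_inv] at h
      exact n2 (eq_zpowers_of_mem hp (hK _ hz.2) (h ▸ inv_mem hz2) hw.1)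
  -- the commutator of a framed pair is a commutator of two common neighbours
  have hkey : ∀ x w z u, KP x → KP w → KP z → KP u → Commute x z → Commute w z → Commute x u →
      Commute w u → ¬ Commute x w → ¬ Commute z u → ∀ v, Commute v z → Commute v u → Commute (br x w) v := by
    intro x w z u hx hw hz hu hxz hwz hxu hwu hxw hzu v hvz hvu
    have n1 : zpowers x ≠ zpowers z := fun h => hxw (hsame x z w h hwz.symm)
    have n2 : zpowers w ≠ zpowers u := fun h => hxw (hsame w u x h hxu.symm).symm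
    have hwu1 : w * u ≠ 1 := fun h => n2 <| by
      rw [mul_eq_one_iff_eq_inv] at h
      exact eq_zpowers_of_mem hp (hK _ hu.2) (h ▸ inv_mem (mem_zpowers u)) hw.1
    have hW := hline w u hw hu hwu n2 _
      (mul_mem (mem_sup_left (mem_zpowers w)) (mem_sup_right (mem_zpowers u))) hwu1
    obtain ⟨z3, hz3, h3⟩ := hpt x z (w * u) hx hz hW hxz n1 (fun h => hzu (by
      have := (hwz.symm.inv_right).mul_right h
      rwa [inv_mul_cancel_left] at this))
    have cxz3 : Commute x z3 := adj_iff.2 hxz x (mem_zpowers x) z3 hz3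
    have cwz3 : Commute w z3 := adj_iff.2 hwz w (mem_zpowers w) z3 hz3
    have e : br x w = u * z3 * u⁻¹ * z3⁻¹ := by
      have h := h3.eq
      have l : x * z3 * (w * u) = x * w * z3 * u := by
        rw [mul_assoc x w, cwz3.eq]; group
      have r : w * u * (x * z3) = w * x * (u * z3) := by
        rw [mul_assoc w x, ← mul_assoc x u, hxu.eq]; group
      rw [l, r] at h
      calc br x w = (w * x)⁻¹ * (x * w * z3 * u) * u⁻¹ * z3⁻¹ := by simp [br, mul_assoc]
        _ = _ := by rw [h]; group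
    have cz3 : Commute v z3 := by
      obtain ⟨k, rfl⟩ := mem_zpowers_iff.1 hz3
      exact hvz.zpow_right k
    rw [e]
    exact (((hvu.symm.mul_left cz3.symm).mul_left hvu.symm.inv_left).mul_left cz3.symm.inv_left)
  -- the commutator commutes with both
  have hstep : ∀ x w, KP x → KP w → ¬ Commute x w → Commute (br x w) x ∧ Commute (br x w) w := by
    intro x w hx hw hxw
    obtain ⟨x1, w1, z, u, hx1, hw1, hz, hu, e, a, b, c, d, hzu, hxz, hwz, ⟨z1, hz1, rfl⟩, z2, hz2, rfl⟩ := hframe x w hx hw hxw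
    have hnc : ¬ Commute (x * z1) (w * z2) := fun h => hxw (by
      have h0 : br (x * z1) (w * z2) = 1 := by
        show (x * z1)⁻¹ * (w * z2)⁻¹ * (x * z1) * (w * z2) = 1
        rw [mul_assoc _ (x * z1), h.eq]; group
      rw [e] at h0
      show x * w = w * x
      calc x * w = w * x * br x w := by simp [br, mul_assoc]
        _ = _ := by rw [h0, mul_one])
    have hc : ∀ v, Commute v z → Commute v u → Commute (br x w) v := fun v h1 h2 =>
      e ▸ hkey _ _ z u hx1 hw1 hz hu a b c d hnc hzu v h1 h2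
    have hcz : ∀ q ∈ zpowers z, Commute (br x w) q := by
      intro q hq
      obtain ⟨k, rfl⟩ := mem_zpowers_iff.1 hq
      exact (hbrz x w z hxz hwz).zpow_right k
    have r1 := (hc _ a c).mul_right (hcz z1 hz1).inv_right
    have r2 := (hc _ b d).mul_right (hcz z2 hz2).inv_right
    rw [mul_inv_cancel_right] at r1 r2
    exact ⟨r1, r2⟩
  -- conclusion
  obtain ⟨x, w, hx, hw, hxw⟩ : ∃ x w, KP x ∧ KP w ∧ ¬ Commute x w := by
    obtain ⟨X, hX, -⟩ := hex
    obtain ⟨W, hW, a, ha', b, hb', h⟩ := hno X hX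
    obtain ⟨x, hx1, rfl⟩ := exists_gen hp (hK X hX)
    obtain ⟨w, hw1, rfl⟩ := exists_gen hp (hK W hW)
    exact ⟨x, w, ⟨hx1, hX⟩, ⟨hw1, hW⟩, fun hc => h (adj_iff.2 hc a ha' b hb')⟩
  have hc := hstep x w hx hw hxw
  have hc1 : br x w ≠ 1 := fun h => hxw (by
    show x * w = w * x
    calc x * w = w * x * br x w := by simp [br, mul_assoc]
      _ = _ := by rw [h, mul_one])
  have hxw' : w⁻¹ * x * w = x * br x w := by simp [br, mul_assoc]
  have hKPc : KP (br x w) := by
    have h1 : KP (x * br x w) := by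
      rw [← hxw']
      refine ⟨fun h => hx.1 ?_, ?_⟩
      · have := congrArg (fun g => w * g * w⁻¹) h
        simpa [mul_assoc] using this
      · have := hKc _ hx.2 w⁻¹
        rwa [MonoidHom.map_zpowers, MulEquiv.coe_toMonoidHom, MulAut.conj_apply, inv_inv] at this
    have hne : zpowers x ≠ zpowers (x * br x w) := fun h => by
      have h2 : br x w ∈ zpowers x := by
        have := mul_mem (inv_mem (mem_zpowers x)) (h ▸ mem_zpowers (x * br x w) : x * br x w ∈ zpowers x)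
        rwa [inv_mul_cancel_left] at this
      exact hxw (hsame x (br x w) w (eq_zpowers_of_mem hp (hK _ hx.2) h2 hc1).symm hc.2)
    refine hline x _ hx h1 ((Commute.refl x).mul_right hc.1.symm) hne _ ?_ hc1
    have := mul_mem (mem_sup_left (T := zpowers (x * br x w)) (inv_mem (mem_zpowers x)))
      (mem_sup_right (S := zpowers x) (mem_zpowers (x * br x w)))
    rwa [inv_mul_cancel_left] at this
  -- C1
  have hC1 : ∀ x' w', KP x' → KP w' → br x' w' = br x w → ∀ y, KP y → Commute x' y → Commute (br x w) y := by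
    intro x' w' hx' hw' e y hy hxy
    have hnc : ¬ Commute x' w' := fun h => hc1 (by
      rw [← e]
      show x'⁻¹ * w'⁻¹ * x' * w' = 1
      rw [mul_assoc _ x', h.eq]; group)
    have hcx := (hstep x' w' hx' hw' hnc).1
    rw [e] at hcx
    by_cases hne : zpowers y = zpowers x'
    · exact (hsame y x' _ hne hcx.symm).symm
    · obtain ⟨q, hq, hqw⟩ := hpt y x' w' hy hx' hw' hxy.symm hne hnc
      have hxq : Commute x' q := adj_iff.2 (Commute.refl x') x' (mem_zpowers x') q hq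
      have h1 := hbrz x' w' (y * q) (hxy.mul_right hxq) hqw.symm
      rw [e] at h1
      have h2 : Commute (br x w) q := by
        obtain ⟨k, rfl⟩ := mem_zpowers_iff.1 hq
        exact hcx.zpow_right k
      have := h1.mul_right h2.inv_right
      rwa [mul_inv_cancel_right] at this
  obtain ⟨Y, hY, a, ha', b, hb', hncomm⟩ := hno _ hKPc.2
  obtain ⟨y, hy1, rfl⟩ := exists_gen hp (hK Y hY)
  suffices h : Commute (br x w) y from hncomm (adj_iff.2 h a ha' b hb')
  obtain ⟨x1, w1, z, u, hx1, hw1, hz, hu, e, a1, b1, c1, d1, hzu, -⟩ := hframe x w hx hw hxw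
  have hnc1 : ¬ Commute x1 w1 := fun h => hc1 (by
    rw [← e]
    show x1⁻¹ * w1⁻¹ * x1 * w1 = 1
    rw [mul_assoc _ x1, h.eq]; group)
  have side : ∀ q, KP q → Commute x1 q → Commute w1 q → ¬ Commute q y → Commute (br x w) y := by
    intro q hq h1 h2 h3
    have n1 : zpowers x1 ≠ zpowers q := fun h => hnc1 (hsame x1 q w1 h h2.symm)
    obtain ⟨q', hq', h'⟩ := hpt x1 q y hx1 hq ⟨hy1, hY⟩ h1 n1 h3
    have cx : Commute x1 q' := adj_iff.2 h1 x1 (mem_zpowers x1) q' hq'
    have cw : Commute w1 q' := adj_iff.2 h2 w1 (mem_zpowers w1) q' hq'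
    have hne1 : x1 * q' ≠ 1 := fun h => by
      rw [mul_eq_one_iff_eq_inv] at h
      exact n1 (eq_zpowers_of_mem hp (hK _ hq.2) (h ▸ inv_mem hq') hx1.1)
    refine hC1 (x1 * q') w1 (hline x1 q hx1 hq h1 n1 _
      (mul_mem (mem_sup_left (mem_zpowers x1)) (mem_sup_right hq')) hne1) hw1 ?_ y ⟨hy1, hY⟩ h'
    rw [← e, ← hbr2 x1 w1 q' 1 cx cw (Commute.one_right _) (Commute.one_right _) (Commute.one_right _), mul_one]
  by_cases hzy : Commute z y
  · by_cases huy : Commute u y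
    · exact e ▸ hkey x1 w1 z u hx1 hw1 hz hu a1 b1 c1 d1 hnc1 hzu y hzy.symm huy.symm
    · exact side u hu c1 d1 huy
  · exact side z hz a1 b1 hzy

end

/-- Let p be a prime and K a set of subgroups of order p of a finite group G, closed under conjugation, such that at least two distinct members of K commute elementwise, and whenever two distinct members X, Y of K commute: every subgroup of order p of the group XY they generate belongs to K, and every member W of K has centralizer meeting XY nontrivially. Then some member V of K commutes elementwise with every member of K and lies in O_p(G); in particular G is not simple. -/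
theorem result {G : Type*} [Group G] [Finite G]
    {p : ℕ} (hp : p.Prime) (K : Set (Subgroup G)) (hK : ∀ X ∈ K, Nat.card ↥X = p)
    (hKc : ∀ X ∈ K, ∀ g : G, X.map (MulAut.conj g).toMonoidHom ∈ K)
    (hex : ∃ X ∈ K, ∃ Y ∈ K, X ≠ Y ∧ ∀ x ∈ X, ∀ y ∈ Y, x * y = y * x)
    (ha : ∀ X ∈ K, ∀ Y ∈ K, X ≠ Y → (∀ x ∈ X, ∀ y ∈ Y, x * y = y * x) →
      ∀ Z : Subgroup G, Z ≤ X ⊔ Y → Nat.card ↥Z = p → Z ∈ K)
    (hb : ∀ X ∈ K, ∀ Y ∈ K, X ≠ Y → (∀ x ∈ X, ∀ y ∈ Y, x * y = y * x) →
      ∀ W ∈ K, (X ⊔ Y) ⊓ Subgroup.centralizer (W : Set G) ≠ ⊥) :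
    (∃ V ∈ K, (∀ W ∈ K, ∀ v ∈ V, ∀ w ∈ W, v * w = w * v) ∧ V ≤ Cfsg.pCore p G) ∧ ¬ IsSimpleGroup G := by
  obtain ⟨V, hV, hVu⟩ := exists_universal hp hK hKc hex ha hb
  have hVO : V ≤ Cfsg.pCore p G := le_pCore_of_universal hp hK hKc hV hVu
  refine ⟨⟨V, hV, hVu, hVO⟩, fun hs => ?_⟩
  have : Fact p.Prime := ⟨hp⟩
  have hn : (Cfsg.pCore p G).Normal := Subgroup.sSup_normal _ (fun _ h => h.1)
  rcases hn.eq_bot_or_eq_top with h | h
  · rw [h, le_bot_iff] at hVO
    have := hK V hV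
    rw [hVO, Subgroup.card_bot] at this
    exact hp.one_lt.ne this
  · have hG : IsPGroup p G := by
      have := Cores.pCore_isPGroup (p := p) (G := G)
      rw [h] at this
      exact this.of_equiv Subgroup.topEquiv
    obtain ⟨X, hX, Y, hY, hXY, -⟩ := hex
    have key : ∀ Z ∈ K, Z = (⊤ : Subgroup G) := by
      intro Z hZ
      have : Nontrivial Z := Finite.one_lt_card_iff_nontrivial.1 ((hK Z hZ).symm ▸ hp.one_lt)
      have hne : Z ≠ ⊥ := (Subgroup.nontrivial_iff_ne_bot Z).1 this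
      have hcn := PGroups.inf_center_ne_bot hG (⊤ : Subgroup G)
        (fun h => hne (le_bot_iff.1 (h ▸ le_top)))
      rw [top_inf_eq] at hcn
      have hcen : Subgroup.center G = ⊤ :=
        ((inferInstance : (Subgroup.center G).Normal).eq_bot_or_eq_top).resolve_left hcn
      exact ((PGroups.normal_of_le_center (hcen ▸ le_top : Z ≤ Subgroup.center G)).eq_bot_or_eq_top).resolve_left hne
    exact hXY ((key X hX).trans (key Y hY).symm)

end Cfsg.Agent.S3196
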