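import Cfsg.Statements.S3200
import Mathlib
import Cfsg.Agent.Hall.CardForms
import Cfsg.Agent.Cores.Basic
import Cfsg.Agent.S0143

set_option autoImplicit false
open Cfsg

namespace Cfsg.Agent.S3200

open Subgroup

universe w

/-- An abelian subgroup of odd order whose index is a power of two. -/
def HasAbelianComplement (G : Type*) [Group G] : Prop :=
  ∃ C : Subgroup G, IsMulCommutative C ∧ Odd (Nat.card C) ∧ ∃ k : ℕ, C.index = 2 ^ k

theorem exists_complement {G : Type*} [Group G] [Finite G] (h : HasAbelianComplement G) :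
    ∃ (P : Sylow 2 G) (D : Subgroup G), IsMulCommutative D ∧ IsComplement' (P : Subgroup G) D := by
  obtain ⟨C, hC, hodd, k, hk⟩ := h
  have : Fact (Nat.Prime 2) := ⟨Nat.prime_two⟩
  let P : Sylow 2 G := default
  refine ⟨P, C, hC, ?_⟩
  have hPcard : Nat.card (P : Subgroup G) = 2 ^ k := by
    rw [P.card_eq_multiplicity, ← C.card_mul_index, hk,
      Nat.factorization_mul Nat.card_pos.ne' (by positivity), Finsupp.add_apply,
      Nat.factorization_eq_zero_of_not_dvd hodd.not_two_dvd_nat, zero_add,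
      Nat.prime_two.factorization_pow, Finsupp.single_eq_same]
  refine isComplement'_of_coprime ?_ ?_
  · rw [hPcard, ← C.card_mul_index, hk, mul_comm]
  · rw [hPcard]
    exact (Nat.coprime_two_left.2 hodd).pow_left k

theorem card_dvd {G : Type*} [Group G] (C : Subgroup G) {K : Subgroup G} (h : C ≤ K) : Nat.card C ∣ Nat.card K :=
  Subgroup.card_dvd_of_le h

theorem HasAbelianComplement.normal {G : Type*} [Group G] [Finite G] (h : HasAbelianComplement G)
    (N : Subgroup G) [N.Normal] : HasAbelianComplement N := by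
  obtain ⟨C, hC, hodd, k, hk⟩ := h
  refine ⟨C.subgroupOf N, ?_, ?_, ?_⟩
  · refine ⟨⟨fun x y => Subtype.ext (Subtype.ext ?_)⟩⟩
    show (x.1 : G) * (y.1 : G) = (y.1 : G) * (x.1 : G)
    exact congrArg Subtype.val (hC.is_comm.comm ⟨(x.1 : G), x.2⟩ ⟨(y.1 : G), y.2⟩)
  · exact hodd.of_dvd_nat (card_comap_dvd_of_injective C N.subtype N.subtype_injective)
  · have h1 := Cores.card_sup_mul_card_inf C N
    have h2 : Nat.card C * C.relIndex N * Nat.card ↥(C ⊓ N) = Nat.card ↥(C ⊔ N) * Nat.card ↥(C ⊓ N) := by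
      rw [h1, mul_assoc, relIndex, mul_comm _ (Nat.card ↥(C ⊓ N))]
      congr 1
      rw [← Nat.card_congr (subgroupOfEquivOfLe (inf_le_right : C ⊓ N ≤ N)).toEquiv, inf_subgroupOf_right,
        card_mul_index]
    have h3 : Nat.card C * C.relIndex N ∣ Nat.card C * 2 ^ k := by
      rw [Nat.eq_of_mul_eq_mul_right Nat.card_pos h2, ← hk, C.card_mul_index]
      exact card_subgroup_dvd_card _
    obtain ⟨j, -, hj⟩ := (Nat.dvd_prime_pow Nat.prime_two).1 (Nat.dvd_of_mul_dvd_mul_left Nat.card_pos h3)
    exact ⟨j, hj⟩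

theorem HasAbelianComplement.quotient {G : Type*} [Group G] [Finite G] (h : HasAbelianComplement G)
    (N : Subgroup G) [N.Normal] : HasAbelianComplement (G ⧸ N) := by
  obtain ⟨C, hC, hodd, k, hk⟩ := h
  refine ⟨C.map (QuotientGroup.mk' N), ?_, hodd.of_dvd_nat (card_map_dvd _ _), ?_⟩
  · refine ⟨⟨?_⟩⟩
    rintro ⟨_, x, hx, rfl⟩ ⟨_, y, hy, rfl⟩
    refine Subtype.ext ?_
    show QuotientGroup.mk' N x * QuotientGroup.mk' N y = QuotientGroup.mk' N y * QuotientGroup.mk' N x
    have e : x * y = y * x := congrArg Subtype.val (hC.is_comm.comm ⟨x, hx⟩ ⟨y, hy⟩)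
    rw [← map_mul, ← map_mul, e]
  · have hd := C.index_map_dvd (f := QuotientGroup.mk' N) (QuotientGroup.mk'_surjective N)
    rw [hk] at hd
    obtain ⟨j, -, hj⟩ := (Nat.dvd_prime_pow Nat.prime_two).1 hd
    exact ⟨j, hj⟩

theorem solvable_of_hasAbelianComplement : ∀ (m : ℕ) (G : Type w) [Group G] [Finite G],
    Nat.card G ≤ m → HasAbelianComplement G → Group.IsSolvable G := by
  intro m
  induction m with
  | zero =>
    intro G _ _ hm _
    exact absurd hm (by simp [Nat.card_pos.ne'])
  | succ m ih =>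
    intro G _ _ hm h
    rcases subsingleton_or_nontrivial G with hs | hnt
    · exact Group.isSolvable_of_comm fun x y => Subsingleton.elim _ _
    by_cases hnor : ∃ N : Subgroup G, N.Normal ∧ N ≠ ⊥ ∧ N ≠ ⊤
    · obtain ⟨N, hN, hb, ht⟩ := hnor
      have h1 : Nat.card N < Nat.card G := by
        refine lt_of_le_of_ne (Subgroup.card_le_card_group N) fun he => ht ?_
        exact Subgroup.eq_top_of_card_eq N he
      have h2 : Nat.card (G ⧸ N) < Nat.card G := by
        have h3 := (Subgroup.one_lt_card_iff_ne_bot N).mpr hb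
        rw [Subgroup.card_eq_card_quotient_mul_card_subgroup N]
        exact lt_mul_of_one_lt_right Nat.card_pos h3
      have := ih N (by omega) (h.normal N)
      have := ih (G ⧸ N) (by omega) (h.quotient N)
      exact Group.isSolvable_of_ker_le_range N.subtype (QuotientGroup.mk' N)
        (by rw [QuotientGroup.ker_mk', Subgroup.range_subtype])
    have hsimple : IsSimpleGroup G := ⟨fun N hN => by
      by_contra hh
      push Not at hh
      exact hnor ⟨N, hN, hh.1, hh.2⟩⟩
    obtain ⟨C, hC, hodd, k, hk⟩ := h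
    by_cases hCb : C = ⊥
    · subst hCb
      rw [index_bot] at hk
      have : Fact (Nat.Prime 2) := ⟨Nat.prime_two⟩
      have := (IsPGroup.of_card hk).isNilpotent
      infer_instance
    suffices hprime : (Nat.card G).Prime by
      have := Fact.mk hprime
      have : IsCyclic G := isCyclic_of_prime_card (p := Nat.card G) rfl
      let _ : CommGroup G := IsCyclic.commGroup
      exact Group.isSolvable_of_comm mul_comm
    obtain ⟨c, hc⟩ := Subgroup.ne_bot_iff_exists_ne_one.1 hCb
    have hle : C ≤ centralizer ({(c : G)} : Set G) := fun x hx =>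
      mem_centralizer_singleton_iff.2 (congrArg Subtype.val (hC.is_comm.comm ⟨x, hx⟩ c))
    obtain ⟨j, -, hj⟩ := (Nat.dvd_prime_pow Nat.prime_two).1 (hk ▸ Subgroup.index_dvd_of_le hle)
    exact S0143.result 2 j Nat.prime_two (c : G) (fun hh => hc (Subtype.ext hh)) hj

theorem HasAbelianComplement.subgroup {G : Type*} [Group G] [Finite G] (h : HasAbelianComplement G)
    (hsol : Group.IsSolvable G) (L : Subgroup G) : HasAbelianComplement L := by
  obtain ⟨C, hC, hodd, k, hk⟩ := h
  obtain ⟨j, m, hm, hLm⟩ := Nat.exists_eq_two_pow_mul_odd (Nat.card_pos (α := L)).ne'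
  have hcop : m.Coprime (2 ^ j) := ((Nat.coprime_two_left.2 hm).pow_left j).symm
  have hL : Group.IsSolvable L := inferInstance
  obtain ⟨D, hD⟩ := Hall.exists_subgroup_card (G := L) (hLm.trans (mul_comm _ _)) hcop
  have hGc : Nat.card G = Nat.card C * 2 ^ k := by rw [← hk, C.card_mul_index]
  have hCcop : (Nat.card C).Coprime (2 ^ k) := ((Nat.coprime_two_left.2 hodd).pow_left k).symm
  obtain ⟨D', hD', hle⟩ := Hall.subgroup_card_dominance hGc hCcop (K := D.map L.subtype)
    (by rw [card_map_of_injective L.subtype_injective, hD]; exact ((Nat.coprime_two_left.2 hm).pow_left k).symm)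
  obtain ⟨g, hg⟩ := Hall.subgroup_card_conj hGc hCcop hD' rfl
  refine ⟨D, ⟨⟨fun x y => ?_⟩⟩, hD ▸ hm, ⟨j, ?_⟩⟩
  · have hx : MulAut.conj g ((x : L) : G) ∈ C := hg ▸ smul_mem_pointwise_smul _ _ D' (hle ⟨_, x.2, rfl⟩)
    have hy : MulAut.conj g ((y : L) : G) ∈ C := hg ▸ smul_mem_pointwise_smul _ _ D' (hle ⟨_, y.2, rfl⟩)
    have e : MulAut.conj g ((x : L) : G) * MulAut.conj g ((y : L) : G) = MulAut.conj g ((y : L) : G) * MulAut.conj g ((x : L) : G) :=
      congrArg Subtype.val (hC.is_comm.comm ⟨_, hx⟩ ⟨_, hy⟩)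
    rw [← map_mul, ← map_mul] at e
    exact Subtype.ext (Subtype.ext ((MulAut.conj g).injective e))
  · have := D.card_mul_index
    rw [hD, hLm, mul_comm _ m] at this
    exact Nat.eq_of_mul_eq_mul_left hm.pos this

/-- Let H be a finite group in which a Sylow 2-subgroup has an abelian complement (an abelian subgroup meeting it trivially whose product with it is all of H). Then H is solvable, and every subgroup and every quotient group of H again has a Sylow 2-subgroup with an abelian complement. -/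
theorem result {H : Type*} [Group H] [Finite H]
    (S : Sylow 2 H) (C : Subgroup H) (hC : IsMulCommutative ↥C) (hSC : Subgroup.IsComplement' (S : Subgroup H) C) :
    Group.IsSolvable H ∧
    (∀ L : Subgroup H, ∃ (P : Sylow 2 ↥L) (D : Subgroup ↥L), IsMulCommutative ↥D ∧ Subgroup.IsComplement' (P : Subgroup ↥L) D) ∧
    (∀ (N : Subgroup H) [N.Normal], ∃ (P : Sylow 2 (H ⧸ N)) (D : Subgroup (H ⧸ N)),
      IsMulCommutative ↥D ∧ Subgroup.IsComplement' (P : Subgroup (H ⧸ N)) D) := by
  have hP : HasAbelianComplement H := by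
    refine ⟨C, hC, ?_, ?_⟩
    · have h := S.not_dvd_index
      rw [hSC.symm.index_eq_card] at h
      exact Nat.not_even_iff_odd.1 fun he => h (even_iff_two_dvd.1 he)
    · rw [hSC.index_eq_card]
      obtain ⟨k, hk⟩ := IsPGroup.iff_card.1 S.2
      exact ⟨k, hk⟩
  have hsol : Group.IsSolvable H := solvable_of_hasAbelianComplement (Nat.card H) H le_rfl hP
  refine ⟨hsol, fun L => exists_complement (hP.subgroup hsol L), fun N _ => exists_complement (hP.quotient N)⟩

end Cfsg.Agent.S3200
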