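import Cfsg.Statements.S3201
import Mathlib
import Cfsg.Agent.H64.UniqueInvolution

set_option autoImplicit false
open Cfsg

namespace Cfsg.Agent.S3201

/-- Let S be a finite 2-group whose centre Z(S) has n ≥ 2 distinct maximal subgroups C₁, …, Cₙ with trivial intersection such that each quotient S/Cᵢ is a non-abelian group with exactly one involution (a generalized quaternion group). Then S is the internal direct product of an elementary abelian subgroup and a non-abelian subgroup with exactly one involution. -/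
theorem result {S : Type*} [Group S] [Finite S]
    (hS : IsPGroup 2 S) (n : ℕ) (hn : 2 ≤ n) (C : Fin n → Subgroup ↥(Subgroup.center S))
    (hCmax : ∀ i, IsCoatom (C i)) (hCinj : Function.Injective C) (hCint : ⨅ i, C i = ⊥)
    (hCq : ∀ i, ∃ (_ : ((C i).map (Subgroup.center S).subtype).Normal),
      ¬ IsMulCommutative (S ⧸ (C i).map (Subgroup.center S).subtype) ∧
      ∃! x : S ⧸ (C i).map (Subgroup.center S).subtype, orderOf x = 2) :
    ∃ E Q : Subgroup S, Cfsg.IsInternalDirectProduct E Q ⊤ ∧ Cfsg.IsElementaryAbelian 2 E ∧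
      ¬ IsMulCommutative ↥Q ∧ ∃! x : ↥Q, orderOf x = 2 := by
  classical
  let M : Fin n → Subgroup S := fun i => (C i).map (Subgroup.center S).subtype
  have hMn : ∀ i, (M i).Normal := fun i => (hCq i).fst
  have hMZ : ∀ i, ∀ d ∈ M i, d ∈ (Subgroup.center S) := by
    rintro i _ ⟨d, -, rfl⟩
    exact d.2
  -- C i has index 2 in (Subgroup.center S)
  have hZp : IsPGroup 2 (Subgroup.center S) := hS.to_subgroup (Subgroup.center S)
  have : Fact (Nat.Prime 2) := ⟨Nat.prime_two⟩
  have hidx : ∀ i, (C i).index = 2 := fun i => PGroups.index_eq_of_isCoatom hZp (hCmax i)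
  have hpair : ∀ i, ∀ z z' : (Subgroup.center S), z ∉ C i → z' ∉ C i → z * z' ∈ C i := by
    intro i z z' hz hz'
    rw [Subgroup.mul_mem_iff_of_index_two (hidx i)]
    exact iff_of_false hz hz'
  have hzero : ∀ z : (Subgroup.center S), (∀ i, z ∈ C i) → z = 1 := fun z hz => by
    have : z ∈ ⨅ i, C i := Subgroup.mem_iInf.2 hz
    rwa [hCint, Subgroup.mem_bot] at this
  have hZ2 : ∀ z : (Subgroup.center S), z * z = 1 := fun z => hzero _ fun i => by
    by_cases h : z ∈ C i
    · exact mul_mem h h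
    · exact hpair i z z h h
  -- an element outside (Subgroup.center S) with square in (Subgroup.center S) squares outside every C i
  have hL : ∀ x : S, x ∉ (Subgroup.center S) → ∀ h2 : x * x ∈ (Subgroup.center S), ∀ i, (⟨x * x, h2⟩ : (Subgroup.center S)) ∉ C i := by
    intro x hx h2 i hmem
    obtain ⟨hn, hna, w, hw, huniq⟩ := hCq i
    obtain ⟨z0, hz0⟩ : ∃ z0 : (Subgroup.center S), z0 ∉ C i := by
      by_contra hh
      push Not at hh
      exact (hCmax i).1 ((Subgroup.eq_top_iff' _).2 hh)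
    have hz0' : (z0 : S) ∉ M i := fun h => hz0 (by
      obtain ⟨d, hd, hd'⟩ := h
      exact (show d = z0 from Subtype.ext hd') ▸ hd)
    have ez : orderOf (QuotientGroup.mk (z0 : S) : S ⧸ M i) = 2 := by
      refine orderOf_eq_prime ?_ (fun h => hz0' ((QuotientGroup.eq_one_iff _).1 h))
      rw [← QuotientGroup.mk_pow, pow_two, show (z0 : S) * z0 = 1 from congrArg Subtype.val (hZ2 z0)]
      rfl
    by_cases hx1 : x ∈ M i
    · exact hx (hMZ i x hx1)
    have ex : orderOf (QuotientGroup.mk x : S ⧸ M i) = 2 := by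
      refine orderOf_eq_prime ?_ (fun h => hx1 ((QuotientGroup.eq_one_iff _).1 h))
      rw [← QuotientGroup.mk_pow, pow_two]
      exact (QuotientGroup.eq_one_iff _).2 ⟨_, hmem, rfl⟩
    have := (huniq _ ex).trans (huniq _ ez).symm
    have h3 := hMZ i _ (QuotientGroup.eq.1 this)
    have h4 : x⁻¹ ∈ (Subgroup.center S) := by
      have := (Subgroup.center S).mul_mem h3 ((Subgroup.center S).inv_mem z0.2)
      rwa [mul_inv_cancel_right] at this
    exact hx (inv_mem_iff.1 h4)
  have hsame : ∀ z z' : (Subgroup.center S), (∀ i, z ∉ C i) → (∀ i, z' ∉ C i) → z = z' := by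
    intro z z' h h'
    have h1 : z * z' = 1 := hzero _ fun i => hpair i z z' (h i) (h' i)
    exact (eq_inv_of_mul_eq_one_left h1).trans (inv_eq_of_mul_eq_one_right (hZ2 z'))
  -- take generators from the first quotient
  let i0 : Fin n := ⟨0, by omega⟩
  obtain ⟨hn0, hna, hu⟩ := hCq i0
  obtain ⟨k, a, b, hk, ha, hb, hba, hb2, hgen⟩ :=
    H64.exists_quaternion_gens (hS.to_quotient (M i0)) hna hu
  obtain ⟨a, rfl⟩ := QuotientGroup.mk_surjective a
  obtain ⟨b, rfl⟩ := QuotientGroup.mk_surjective b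
  set m0 := 2 ^ (k - 1) with hm0
  have h2k : 2 ^ k = m0 * 2 := by rw [hm0, ← pow_succ, Nat.sub_add_cancel (by omega)]
  have horder : ∀ m : ℕ, a ^ m ∈ M i0 → 2 ^ k ∣ m := fun m h => by
    rw [← ha]
    exact orderOf_dvd_of_pow_eq_one (by rw [← QuotientGroup.mk_pow]; exact (QuotientGroup.eq_one_iff _).2 h)
  have hcen : ∀ z ∈ (Subgroup.center S), ∀ s : S, Commute s z := fun z hz s => Subgroup.mem_center_iff.1 hz s
  obtain ⟨z1, hz1⟩ : ∃ z1 : (Subgroup.center S), z1 ∉ C i0 := by
    by_contra hh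
    push Not at hh
    exact (hCmax i0).1 ((Subgroup.eq_top_iff' _).2 hh)
  -- powers of a lying in (Subgroup.center S)
  have haZ : ∀ m : ℕ, a ^ m ∈ (Subgroup.center S) → m0 ∣ m := by
    intro m hm
    have h2 : a ^ (m * 2) = 1 := by
      rw [pow_mul, pow_two]; exact congrArg Subtype.val (hZ2 ⟨_, hm⟩)
    have h3 := horder _ (h2 ▸ one_mem _)
    rw [h2k] at h3
    exact Nat.dvd_of_mul_dvd_mul_right two_pos h3
  have hbZ : ∀ j : ℕ, b * a ^ j ∉ (Subgroup.center S) := by
    intro j hj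
    have hc := hcen _ hj a
    have h1 : Commute a b := by
      have := hc.mul_right ((Commute.refl a).pow_right j).inv_right
      rwa [mul_inv_cancel_right] at this
    have h3 : (QuotientGroup.mk a : S ⧸ M i0) = (QuotientGroup.mk a)⁻¹ := by
      rw [← hba, ← QuotientGroup.mk_inv, ← QuotientGroup.mk_mul, ← QuotientGroup.mk_mul, ← h1.eq, mul_inv_cancel_right]
    have h4 : (QuotientGroup.mk a : S ⧸ M i0) ^ 2 = 1 := by
      rw [pow_two]
      nth_rewrite 2 [h3]
      exact mul_inv_cancel _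
    have h5 := orderOf_dvd_of_pow_eq_one h4
    rw [ha] at h5
    have := Nat.le_of_dvd two_pos h5
    have : 2 ^ 2 ≤ 2 ^ k := Nat.pow_le_pow_right two_pos hk
    omega
  have hpre : ∀ s : S, (QuotientGroup.mk s : S ⧸ M i0) * QuotientGroup.mk s = 1 → s ∈ (Subgroup.center S) := by
    intro s hs
    obtain ⟨w, hw, huniq⟩ := hu
    by_cases h1 : (QuotientGroup.mk s : S ⧸ M i0) = 1
    · exact hMZ i0 s ((QuotientGroup.eq_one_iff _).1 h1)
    have ez : (QuotientGroup.mk (z1 : S) : S ⧸ M i0) = w := huniq _ (by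
      refine orderOf_eq_prime ?_ fun h => hz1 ?_
      · rw [← QuotientGroup.mk_pow, pow_two, show (z1 : S) * z1 = 1 from congrArg Subtype.val (hZ2 z1)]; rfl
      · obtain ⟨d, hd, hd'⟩ := (QuotientGroup.eq_one_iff _).1 h
        exact (show d = z1 from Subtype.ext hd') ▸ hd)
    have es : (QuotientGroup.mk s : S ⧸ M i0) = w := huniq _ (orderOf_eq_prime (by rw [pow_two]; exact hs) h1)
    have h3 := hMZ i0 _ (QuotientGroup.eq.1 (ez.trans es.symm))
    have := (Subgroup.center S).mul_mem z1.2 h3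
    rwa [mul_inv_cancel_left] at this
  have huZ : a ^ m0 ∈ (Subgroup.center S) := hpre _ (by
    rw [← QuotientGroup.mk_mul, ← pow_add, ← mul_two, ← h2k, QuotientGroup.mk_pow, ← ha, pow_orderOf_eq_one])
  set u : (Subgroup.center S) := ⟨a ^ m0, huZ⟩
  have hu' : ∀ i, u ∉ C i := by
    intro i
    have h2 : 2 ^ (k - 2) * 2 = m0 := by rw [hm0, ← pow_succ]; congr 1; omega
    have hxm : a ^ 2 ^ (k - 2) * a ^ 2 ^ (k - 2) = a ^ m0 := by rw [← pow_add, ← mul_two, h2]
    have := hL (a ^ 2 ^ (k - 2)) (fun h => by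
      have := Nat.le_of_dvd (by positivity) (haZ _ h)
      have : 0 < 2 ^ (k - 2) := by positivity
      omega) (hxm ▸ huZ) i
    have e : (⟨a ^ 2 ^ (k - 2) * a ^ 2 ^ (k - 2), hxm ▸ huZ⟩ : (Subgroup.center S)) = u := Subtype.ext hxm
    rwa [e] at this
  have hb1 : b * b ∈ (Subgroup.center S) := hpre _ (by
    rw [QuotientGroup.mk_mul, ← pow_two, ← pow_two, hb2, ← pow_mul, ← h2k, ← ha, pow_orderOf_eq_one])
  have hbne : b ∉ (Subgroup.center S) := by simpa using hbZ 0
  have ebb : b * b = a ^ m0 := congrArg Subtype.val (hsame ⟨_, hb1⟩ u (hL b hbne hb1) hu')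
  -- the inverting relation
  have hr : b * a * b⁻¹ * a ∈ (Subgroup.center S) := by
    refine hMZ i0 _ ((QuotientGroup.eq_one_iff _).1 ?_)
    rw [QuotientGroup.mk_mul, QuotientGroup.mk_mul, QuotientGroup.mk_mul, QuotientGroup.mk_inv, hba, inv_mul_cancel]
  have hprod : b * a * (b * a) = (b * a * b⁻¹ * a) * (b * b) := by
    have hc : Commute a (b * b) := hcen _ hb1 a
    calc b * a * (b * a) = b * a * b⁻¹ * (b * b) * a := by group
      _ = b * a * b⁻¹ * (a * (b * b)) := by rw [hc.eq]; group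
      _ = _ := by group
  have hbam : b * a * (b * a) ∈ (Subgroup.center S) := by rw [hprod]; exact (Subgroup.center S).mul_mem hr hb1
  have hbane : b * a ∉ (Subgroup.center S) := by simpa using hbZ 1
  have e2 : b * a * (b * a) = a ^ m0 := congrArg Subtype.val (hsame ⟨_, hbam⟩ u (hL _ hbane hbam) hu')
  have hinv : b * a * b⁻¹ = a⁻¹ := by
    rw [hprod, ebb, mul_eq_right] at e2
    exact eq_inv_of_mul_eq_one_left e2
  have haord : a ^ (m0 * 2) = 1 := by
    rw [pow_mul, pow_two]; exact congrArg Subtype.val (hZ2 u)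
  -- the factors
  set Q := Subgroup.closure ({a, b} : Set S)
  have haQ : a ∈ Q := Subgroup.subset_closure (by simp)
  have hbQ : b ∈ Q := Subgroup.subset_closure (by simp)
  have hba' : ∀ j : ℕ, b * a ^ j * b⁻¹ = (a ^ j)⁻¹ := fun j => by rw [← conj_pow, hinv, inv_pow]
  have hm0pos : 0 < m0 * 2 := by positivity
  have hinvpow : ∀ j : ℕ, (a ^ j)⁻¹ = a ^ ((m0 * 2 - 1) * j) := fun j => by
    refine inv_eq_of_mul_eq_one_right ?_
    rw [← pow_add, show j + (m0 * 2 - 1) * j = (m0 * 2) * j from by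
      conv_rhs => rw [← Nat.sub_add_cancel hm0pos]
      ring, pow_mul, haord, one_pow]
  have hQel : ∀ q ∈ Q, ∃ j : ℕ, q = a ^ j ∨ q = b * a ^ j := by
    intro q hq
    induction hq using Subgroup.closure_induction with
    | mem x hx =>
      rcases hx with rfl | rfl
      · exact ⟨1, Or.inl (pow_one x).symm⟩
      · exact ⟨0, Or.inr (by simp)⟩
    | one => exact ⟨0, Or.inl (by simp)⟩
    | mul x y hx hy ihx ihy =>
      obtain ⟨i, rfl | rfl⟩ := ihx <;> obtain ⟨j, rfl | rfl⟩ := ihy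
      · exact ⟨i + j, Or.inl (pow_add a i j).symm⟩
      · refine ⟨(m0 * 2 - 1) * i + j, Or.inr ?_⟩
        rw [pow_add, ← hinvpow]
        have e : (a ^ i)⁻¹ = b⁻¹ * a ^ i * b := by
          have h := congrArg (fun g => b⁻¹ * g⁻¹ * b) (hba' i)
          simpa [mul_assoc] using h
        calc a ^ i * (b * a ^ j) = b * (b⁻¹ * a ^ i * b) * a ^ j := by group
          _ = b * ((a ^ i)⁻¹ * a ^ j) := by rw [← e, mul_assoc]
          _ = _ := rfl
      · exact ⟨i + j, Or.inr (by rw [pow_add, mul_assoc])⟩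
      · refine ⟨((m0 * 2 - 1) * i + m0) + j, Or.inl ?_⟩
        rw [pow_add, pow_add, ← hinvpow, ← ebb, ← hba' i]
        group
    | inv x hx ihx =>
      obtain ⟨i, rfl | rfl⟩ := ihx
      · exact ⟨_, Or.inl (hinvpow i)⟩
      · refine ⟨m0 + i, Or.inr ?_⟩
        have hc : Commute (a ^ i) (b * b) := hcen _ hb1 _
        have h : b * a ^ i * (b * (b * b * a ^ i)) = 1 := by
          have h4 : (b * b) * (b * b) = 1 := by rw [ebb, ← pow_add, ← mul_two, haord]
          calc b * a ^ i * (b * (b * b * a ^ i)) = (b * a ^ i * b⁻¹) * ((b * b) * (b * b)) * a ^ i := by group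
            _ = 1 := by rw [hba' i, h4]; group
        rw [pow_add, ← ebb]
        exact inv_eq_of_mul_eq_one_right h
  refine ⟨M i0, Q, ⟨le_top, le_top, fun d hd q _ => ((hcen d (hMZ i0 d hd) q).eq).symm, ?_, ?_⟩, ?_, ?_, ?_⟩
  · rw [Subgroup.eq_bot_iff_forall]
    rintro x ⟨hxM, hxQ⟩
    obtain ⟨j, rfl | rfl⟩ := hQel x hxQ
    · obtain ⟨t, rfl⟩ := horder j hxM
      rw [h2k, pow_mul, haord, one_pow]
    · exact absurd (hMZ i0 _ hxM) (hbZ j)
  · rw [eq_top_iff]
    intro s _
    have key : ∀ q ∈ Q, (QuotientGroup.mk s : S ⧸ M i0) = QuotientGroup.mk q → s ∈ M i0 ⊔ Q := by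
      intro q hq h
      have hm := QuotientGroup.eq.1 h.symm
      have := mul_mem (Subgroup.mem_sup_right (S := M i0) hq) (Subgroup.mem_sup_left (T := Q) hm)
      rwa [mul_inv_cancel_left] at this
    obtain ⟨j, hj | hj⟩ := hgen (QuotientGroup.mk s)
    · exact key (a ^ j) (pow_mem haQ j) (by rw [hj, QuotientGroup.mk_pow])
    · exact key (b * a ^ j) (mul_mem hbQ (pow_mem haQ j)) (by rw [hj, QuotientGroup.mk_mul, QuotientGroup.mk_pow])
  · refine ⟨⟨⟨fun x y => Subtype.ext (hcen _ (hMZ i0 _ y.2) _).eq⟩⟩, fun x hx => ?_⟩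
    rw [pow_two]; exact congrArg Subtype.val (hZ2 ⟨x, hMZ i0 x hx⟩)
  · intro hc
    have e : a * b = b * a := congrArg Subtype.val (hc.is_comm.comm ⟨a, haQ⟩ ⟨b, hbQ⟩)
    rw [← e, mul_inv_cancel_right] at hinv
    have h2 : a ^ 2 = 1 := by
      rw [pow_two]
      nth_rewrite 2 [hinv]
      exact mul_inv_cancel a
    have := Nat.le_of_dvd two_pos (horder 2 (h2 ▸ one_mem _))
    have : 2 ^ 2 ≤ 2 ^ k := Nat.pow_le_pow_right two_pos hk
    omega
  · have hune : (u : S) ≠ 1 := fun h => hu' i0 (by rw [show u = 1 from Subtype.ext h]; exact one_mem _)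
    refine ⟨⟨u, pow_mem haQ m0⟩, ?_, ?_⟩
    · refine orderOf_eq_prime (Subtype.ext ?_) fun h => hune (congrArg Subtype.val h)
      show (a ^ m0) ^ 2 = 1
      rw [← pow_mul, haord]
    · rintro ⟨x, hx⟩ hord
      have hord' : orderOf x = 2 := by rwa [← Subgroup.orderOf_mk x hx]
      have hx2 : x * x = 1 := by rw [← pow_two, ← hord', pow_orderOf_eq_one]
      have hx1 : x ≠ 1 := fun h => by rw [h, orderOf_one] at hord'; omega
      refine Subtype.ext ?_
      show x = a ^ m0
      obtain ⟨j, rfl | rfl⟩ := hQel x hx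
      · rw [← pow_add, ← two_mul] at hx2
        have h1 := horder _ (hx2 ▸ one_mem _)
        rw [h2k, mul_comm m0 2] at h1
        obtain ⟨t, rfl⟩ := Nat.dvd_of_mul_dvd_mul_left two_pos h1
        rcases Nat.even_or_odd' t with ⟨s, rfl | rfl⟩
        · exact absurd (by rw [← mul_assoc, pow_mul, haord, one_pow]) hx1
        · rw [mul_add, ← mul_assoc, pow_add, pow_mul, haord, one_pow, one_mul, mul_one]
      · exfalso
        have h : b * a ^ j * (b * a ^ j) = a ^ m0 := by
          have hc : Commute (a ^ j) (b * b) := hcen _ hb1 _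
          calc b * a ^ j * (b * a ^ j) = (b * a ^ j * b⁻¹) * (b * b) * a ^ j := by group
            _ = (a ^ j)⁻¹ * ((b * b) * a ^ j) := by rw [hba' j]; group
            _ = (a ^ j)⁻¹ * (a ^ j * (b * b)) := by rw [hc.eq]
            _ = a ^ m0 := by rw [ebb]; group
        rw [hx2] at h
        exact hune h.symm

end Cfsg.Agent.S3201
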