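import Cfsg.Statements.S3202
import Mathlib
import Cfsg.Agent.H64.UniqueInvolution

set_option autoImplicit false
open Cfsg

namespace Cfsg.Agent.S3202

/-- Let S be a finite 2-group of 2-rank exactly 2 and D a maximal subgroup of the centre of S such that S/D is a non-abelian group with exactly one involution (a generalized quaternion group). Then S has a nontrivial cyclic characteristic subgroup. -/
theorem result {S : Type*} [Group S]
    [Finite S] (hS : IsPGroup 2 S) (hr2 : Cfsg.PRankLE 2 2 S) (hr1 : ¬ Cfsg.PRankLE 2 1 S)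
    (D : Subgroup ↥(Subgroup.center S)) (hD : IsCoatom D)
    (hq : ∃ (_ : (D.map (Subgroup.center S).subtype).Normal),
      ¬ IsMulCommutative (S ⧸ D.map (Subgroup.center S).subtype) ∧
      ∃! x : S ⧸ D.map (Subgroup.center S).subtype, orderOf x = 2) :
    ∃ C : Subgroup S, C ≠ ⊥ ∧ IsCyclic ↥C ∧ C.Characteristic := by
  obtain ⟨hn, hna, hu⟩ := hq
  set M := D.map (Subgroup.center S).subtype with hM
  have hMc : ∀ d ∈ M, ∀ s : S, s * d = d * s := by
    rintro _ ⟨d, -, rfl⟩ s
    exact Subgroup.mem_center_iff.1 d.2 s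
  obtain ⟨k, a, b, hk, ha, hb, hba, hb2, hgen⟩ :=
    H64.exists_quaternion_gens (hS.to_quotient M) hna hu
  obtain ⟨a, rfl⟩ := QuotientGroup.mk_surjective a
  obtain ⟨b, rfl⟩ := QuotientGroup.mk_surjective b
  obtain ⟨z, hz, hzeq⟩ : ∃ z ∈ M, b * a * b⁻¹ * a = z := by
    refine ⟨_, ?_, rfl⟩
    rw [← QuotientGroup.eq_one_iff, QuotientGroup.mk_mul, QuotientGroup.mk_mul, QuotientGroup.mk_mul,
      QuotientGroup.mk_inv, hba, inv_mul_cancel]
  set c := b * a * b⁻¹ * a⁻¹ with hc
  have hcz : c = z * (a ^ 2)⁻¹ := by rw [← hzeq, hc, pow_two]; group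
  have hca : a * c = c * a := by
    have h1 : Commute a z := hMc z hz a
    rw [hcz]
    exact (h1.mul_right ((Commute.refl a).pow_right 2).inv_right).eq
  have hbc : b * c * b⁻¹ = c⁻¹ := by
    have e1 : b * a * b⁻¹ = c * a := by rw [hc]; group
    have e2 : b * z * b⁻¹ = z := by rw [hMc z hz b, mul_inv_cancel_right]
    have e3 : b * (a ^ 2) * b⁻¹ = (c * a) ^ 2 := by rw [← e1, conj_pow]
    calc b * c * b⁻¹ = (b * z * b⁻¹) * (b * a ^ 2 * b⁻¹)⁻¹ := by rw [hcz]; group
      _ = z * ((c * a) ^ 2)⁻¹ := by rw [e2, e3]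
      _ = z * (c * c * (a * a))⁻¹ := by
          rw [pow_two, mul_assoc c a, ← mul_assoc a c, hca]; group
      _ = (z * (a ^ 2)⁻¹) * (c * c)⁻¹ := by rw [pow_two]; group
      _ = c⁻¹ := by rw [← hcz]; group
  set C := Subgroup.zpowers c
  -- generated by a, b and M
  have hgenS : ∀ s : S, s ∈ Subgroup.closure ({a, b} : Set S) ⊔ M := by
    intro s
    obtain ⟨i, hi | hi⟩ := hgen (QuotientGroup.mk s)
    · rw [← QuotientGroup.mk_pow] at hi
      have hm := QuotientGroup.eq.1 hi.symm
      have := mul_mem (Subgroup.mem_sup_left (T := M) (pow_mem (Subgroup.subset_closure (show a ∈ ({a, b} : Set S) by simp)) i))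
        (Subgroup.mem_sup_right (S := Subgroup.closure ({a, b} : Set S)) hm)
      rwa [mul_inv_cancel_left] at this
    · rw [← QuotientGroup.mk_pow, ← QuotientGroup.mk_mul] at hi
      have hm := QuotientGroup.eq.1 hi.symm
      have hb' : b ∈ Subgroup.closure ({a, b} : Set S) := Subgroup.subset_closure (by simp)
      have := mul_mem (Subgroup.mem_sup_left (T := M) (mul_mem hb' (pow_mem (Subgroup.subset_closure (show a ∈ ({a, b} : Set S) by simp)) i)))
        (Subgroup.mem_sup_right (S := Subgroup.closure ({a, b} : Set S)) hm)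
      rwa [mul_inv_cancel_left] at this
  have hCn : C.Normal := by
    rw [← Subgroup.normalizer_eq_top_iff, eq_top_iff]
    intro s _
    refine (sup_le ((Subgroup.closure_le _).2 ?_) ?_ : Subgroup.closure ({a, b} : Set S) ⊔ M ≤ _) (hgenS s)
    · rintro x (rfl | rfl) <;> rw [SetLike.mem_coe, Subgroup.mem_normalizer_iff_map_conj_eq, MonoidHom.map_zpowers]
      · show Subgroup.zpowers (x * c * x⁻¹) = C
        rw [hca, mul_inv_cancel_right]
      · show Subgroup.zpowers (x * c * x⁻¹) = C
        rw [hbc, Subgroup.zpowers_inv]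
    · intro x hx
      exact Subgroup.centralizer_le_normalizer _ (Subgroup.mem_centralizer_iff.2 fun y _ => hMc x hx y)
  have hcomm : commutator S ≤ C := by
    rw [← Subgroup.Normal.quotient_commutative_iff_commutator_le]
    have hmkc : QuotientGroup.mk' C c = 1 := (QuotientGroup.eq_one_iff c).2 (Subgroup.mem_zpowers c)
    have hab : Commute (QuotientGroup.mk' C a) (QuotientGroup.mk' C b) := by
      have : QuotientGroup.mk' C (b * a) = QuotientGroup.mk' C (a * b) := by
        have e : b * a = c * (a * b) := by rw [hc]; group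
        rw [e, map_mul, hmkc, one_mul]
      rw [map_mul, map_mul] at this
      exact this.symm
    let f := QuotientGroup.mk' C
    have hf : Function.Surjective f := QuotientGroup.mk'_surjective C
    have hset : ∀ u ∈ f '' (({a, b} : Set S) ∪ M), ∀ v ∈ f '' (({a, b} : Set S) ∪ M), u * v = v * u := by
      have hMz : ∀ m ∈ M, ∀ s : S, Commute (f m) (f s) := fun m hm s => by
        show f m * f s = f s * f m
        rw [← map_mul, ← map_mul, hMc m hm s]
      rintro _ ⟨u, (rfl | rfl) | hu', rfl⟩ _ ⟨v, (rfl | rfl) | hv', rfl⟩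
      all_goals first
        | rfl
        | exact hab
        | exact hab.symm
        | exact (hMz _ hu' _).eq
        | exact (hMz _ hv' _).eq.symm
    have hall := Subgroup.isMulCommutative_closure hset
    have htop : Subgroup.closure (f '' (({a, b} : Set S) ∪ M)) = ⊤ := by
      rw [← MonoidHom.map_closure, Subgroup.closure_union, Subgroup.closure_eq,
        show Subgroup.closure ({a, b} : Set S) ⊔ M = ⊤ from eq_top_iff.2 fun s _ => hgenS s,
        Subgroup.map_top_of_surjective _ hf]
    rw [htop] at hall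
    exact ⟨⟨fun x y => congrArg Subtype.val (hall.is_comm.comm ⟨x, trivial⟩ ⟨y, trivial⟩)⟩⟩
  refine ⟨commutator S, fun h => ?_, ?_, inferInstance⟩
  · apply hna
    refine ⟨⟨fun x y => ?_⟩⟩
    obtain ⟨x, rfl⟩ := QuotientGroup.mk_surjective x
    obtain ⟨y, rfl⟩ := QuotientGroup.mk_surjective y
    have : x * y * x⁻¹ * y⁻¹ ∈ commutator S := Subgroup.commutator_mem_commutator (Subgroup.mem_top x) (Subgroup.mem_top y)
    rw [h, Subgroup.mem_bot, mul_inv_eq_one, mul_inv_eq_iff_eq_mul] at this
    rw [← QuotientGroup.mk_mul, ← QuotientGroup.mk_mul, this]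
  · exact Subgroup.isCyclic_of_le hcomm

end Cfsg.Agent.S3202
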