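import Cfsg.Statements.S3203
import Mathlib

set_option autoImplicit false
open Cfsg

namespace Cfsg.Agent.S3203

open Subgroup

/-- maximal elementary abelian -/
def IsMax {T : Type*} [Group T] (A : Subgroup T) : Prop :=
  Cfsg.IsElementaryAbelian 2 A ∧ ∀ C : Subgroup T, Cfsg.IsElementaryAbelian 2 C → A ≤ C → C = A

theorem elementary_map {T H : Type*} [Group T] [Group H] (f : T →* H) {C : Subgroup T}
    (h : Cfsg.IsElementaryAbelian 2 C) : Cfsg.IsElementaryAbelian 2 (C.map f) := by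
  refine ⟨⟨⟨?_⟩⟩, ?_⟩
  · rintro ⟨_, x, hx, rfl⟩ ⟨_, y, hy, rfl⟩
    refine Subtype.ext ?_
    show f x * f y = f y * f x
    have e : x * y = y * x := congrArg Subtype.val (h.1.is_comm.comm ⟨x, hx⟩ ⟨y, hy⟩)
    rw [← map_mul, ← map_mul, e]
  · rintro _ ⟨x, hx, rfl⟩
    rw [← map_pow, h.2 x hx, map_one]

theorem isMax_map {T : Type*} [Group T] (e : T ≃* T) {A : Subgroup T} (h : IsMax A) :
    IsMax (A.map e.toMonoidHom) := by
  refine ⟨elementary_map _ h.1, fun C hC hle => ?_⟩
  have h1 := h.2 (C.map e.symm.toMonoidHom) (elementary_map _ hC)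
    (fun a ha => ⟨e a, hle ⟨a, ha, rfl⟩, e.symm_apply_apply a⟩)
  refine le_antisymm (fun c hc => ⟨e.symm c, ?_, e.apply_symm_apply c⟩) hle
  exact h1.le ⟨c, hc, rfl⟩

theorem exists_isMax {T : Type*} [Group T] [Finite T] {C : Subgroup T} (h : Cfsg.IsElementaryAbelian 2 C) :
    ∃ D, C ≤ D ∧ IsMax D := by
  obtain ⟨D, hCD, hD⟩ := (Set.toFinite {D : Subgroup T | Cfsg.IsElementaryAbelian 2 D}).exists_le_maximal (show C ∈ _ from h)
  exact ⟨D, hCD, hD.1, fun E hE hle => le_antisymm (hD.2 hE hle) hle⟩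

theorem normal_of_two {T : Type*} [Group T] {A B : Subgroup T} (hAB : A ≠ B) (hA : IsMax A) (hB : IsMax B)
    (honly : ∀ C : Subgroup T, Cfsg.IsElementaryAbelian 2 C →
      (∀ D : Subgroup T, Cfsg.IsElementaryAbelian 2 D → C ≤ D → D = C) → C = A ∨ C = B)
    (hprod : ∀ s : T, ∃ a ∈ A, ∃ b ∈ B, a * b = s) : A.Normal := by
  refine ⟨fun x hx s => ?_⟩
  obtain ⟨a, ha, b, hb, rfl⟩ := hprod s
  have hb' : A.map (MulAut.conj b).toMonoidHom = A := by
    rcases honly _ (isMax_map (MulAut.conj b) hA).1 (isMax_map (MulAut.conj b) hA).2 with h | h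
    · exact h
    · refine absurd ?_ hAB
      ext x
      constructor
      · intro hx
        have hm : b * x * b⁻¹ ∈ B := h ▸ ⟨x, hx, rfl⟩
        have := B.mul_mem (B.mul_mem (B.inv_mem hb) hm) hb
        simpa [mul_assoc] using this
      · intro hx
        have hm : b * x * b⁻¹ ∈ A.map (MulAut.conj b).toMonoidHom := h ▸ B.mul_mem (B.mul_mem hb hx) (B.inv_mem hb)
        obtain ⟨z, hz, hzx⟩ := hm
        simp only [MulEquiv.coe_toMonoidHom, MulAut.conj_apply, mul_left_inj, mul_right_inj] at hzx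
        exact hzx ▸ hz
  have hm : b * x * b⁻¹ ∈ A := hb'.le ⟨x, hx, rfl⟩
  have := A.mul_mem (A.mul_mem ha hm) (A.inv_mem ha)
  simpa [mul_assoc] using this

variable {G : Type*} [Group G] [Finite G]

theorem normalizer_fixes (S : Sylow 2 G) {A B : Subgroup ↥(S : Subgroup G)} (hAB : A ≠ B)
    (hA : IsMax A) (hB : IsMax B)
    (honly : ∀ C : Subgroup ↥(S : Subgroup G), Cfsg.IsElementaryAbelian 2 C →
      (∀ D : Subgroup ↥(S : Subgroup G), Cfsg.IsElementaryAbelian 2 D → C ≤ D → D = C) → C = A ∨ C = B)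
    (hAn : A.Normal) (hBn : B.Normal) :
    ∀ g ∈ normalizer ((S : Subgroup G) : Set G),
      (A.map (S : Subgroup G).subtype).map (MulAut.conj g).toMonoidHom = A.map (S : Subgroup G).subtype := by
  set N := normalizer ((S : Subgroup G) : Set G)
  let σ : N →* MulAut (S : Subgroup G) := (S : Subgroup G).normalizerMonoidHom
  -- the image of A under the automorphism of g
  let im : N → Subgroup (S : Subgroup G) := fun g => A.map (σ g).toMonoidHom
  have key : ∀ g : N, (A.map (S : Subgroup G).subtype).map (MulAut.conj (g : G)).toMonoidHom = (im g).map (S : Subgroup G).subtype := by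
    intro g
    rw [Subgroup.map_map, Subgroup.map_map]
    rfl
  suffices h : ∀ g : N, im g = A by
    intro g hg
    rw [key ⟨g, hg⟩, h]
  intro g
  rcases honly _ (isMax_map (σ g) hA).1 (isMax_map (σ g) hA).2 with h | hswap
  · exact h
  exfalso
  have hcomp : ∀ u v : N, im (u * v) = (im v).map (σ u).toMonoidHom := fun u v => by
    show A.map (σ (u * v)).toMonoidHom = _
    rw [map_mul, Subgroup.map_map]
    rfl
  have hinj : ∀ u : N, Function.Injective (Subgroup.map (σ u).toMonoidHom) :=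
    fun u => Subgroup.map_injective (σ u).injective
  have hBA : B.map (σ g).toMonoidHom = A := by
    rcases honly _ (isMax_map (σ g) hB).1 (isMax_map (σ g) hB).2 with h | h
    · exact h
    · exact absurd (hinj g (hswap.trans h.symm)) hAB
  -- powers of g alternate
  have hpow : ∀ k : ℕ, (Even k → im (g ^ k) = A) ∧ (Odd k → im (g ^ k) = B) := by
    intro k
    induction k with
    | zero =>
      refine ⟨fun _ => ?_, fun h => absurd h (by simp)⟩
      show A.map (σ (g ^ 0)).toMonoidHom = A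
      rw [pow_zero, map_one]
      exact Subgroup.map_id A
    | succ k ih =>
      rw [pow_succ', hcomp]
      refine ⟨fun h => ?_, fun h => ?_⟩
      · rw [ih.2 (Nat.even_add_one.1 h |> Nat.not_even_iff_odd.1)]; exact hBA
      · rw [ih.1 (Nat.odd_add_one.1 h |> Nat.not_odd_iff_even.1)]; exact hswap
  obtain ⟨k, m, hm, hkm⟩ := Nat.exists_eq_two_pow_mul_odd (orderOf_pos g).ne'
  have hg2 : orderOf (g ^ m) = 2 ^ k := by
    rw [orderOf_pow' _ hm.pos.ne', hkm, Nat.gcd_mul_left_left, Nat.mul_div_cancel _ hm.pos]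
  -- a 2-element of N lies in (S : Subgroup G)
  have hle : (g ^ m : N).1 ∈ (S : Subgroup G) := by
    set Z := zpowers ((g ^ m : N) : G)
    have hZ : IsPGroup 2 Z := IsPGroup.of_card (n := k) (by rw [Nat.card_zpowers, Subgroup.orderOf_coe, hg2])
    have h2 : IsPGroup 2 (Z ⊔ (S : Subgroup G) : Subgroup G) :=
      hZ.to_sup_of_normal_right' S.2 (zpowers_le.2 (g ^ m).2)
    exact (S.3 h2 le_sup_right).le (mem_sup_left (mem_zpowers _))
  apply hAB
  rw [← (hpow m).2 hm]
  have : σ (g ^ m) = MulAut.conj (⟨_, hle⟩ : (S : Subgroup G)) := by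
    ext x; rfl
  show A = A.map (σ (g ^ m)).toMonoidHom
  rw [this]
  ext x
  constructor
  · intro hx
    exact ⟨(⟨_, hle⟩ : (S : Subgroup G))⁻¹ * x * ⟨_, hle⟩, by simpa using hAn.conj_mem x hx (⟨_, hle⟩ : (S : Subgroup G))⁻¹, by simp [mul_assoc]⟩
  · rintro ⟨y, hy, rfl⟩
    exact hAn.conj_mem y hy _

theorem weakly_closed (S : Sylow 2 G) {A B : Subgroup ↥(S : Subgroup G)} (hAB : A ≠ B)
    (hA : IsMax A) (hB : IsMax B)
    (honly : ∀ C : Subgroup ↥(S : Subgroup G), Cfsg.IsElementaryAbelian 2 C →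
      (∀ D : Subgroup ↥(S : Subgroup G), Cfsg.IsElementaryAbelian 2 D → C ≤ D → D = C) → C = A ∨ C = B)
    (hprod : ∀ s : ↥(S : Subgroup G), ∃ a ∈ A, ∃ b ∈ B, a * b = s)
    (hAn : A.Normal) (hBn : B.Normal)
    (hN : ∀ g ∈ normalizer ((S : Subgroup G) : Set G),
      (A.map (S : Subgroup G).subtype).map (MulAut.conj g).toMonoidHom = A.map (S : Subgroup G).subtype) :
    Cfsg.IsWeaklyClosed (A.map (S : Subgroup G).subtype) (S : Subgroup G) := by
  set A1 := A.map (S : Subgroup G).subtype with hA1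
  set B1 := B.map (S : Subgroup G).subtype with hB1
  refine ⟨map_subtype_le _, fun g hg => ?_⟩
  set C1 := A1.map (MulAut.conj g).toMonoidHom
  have hC : Cfsg.IsElementaryAbelian 2 (C1.subgroupOf (S : Subgroup G)) := by
    have h := elementary_map ((MulAut.conj g).toMonoidHom.comp (S : Subgroup G).subtype) hA.1
    rw [← Subgroup.map_map] at h
    refine ⟨⟨⟨fun x y => Subtype.ext (Subtype.ext ?_)⟩⟩, fun x hx => Subtype.ext ?_⟩
    · show ((x.1 : G)) * (y.1 : G) = (y.1 : G) * (x.1 : G)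
      exact congrArg Subtype.val (h.1.is_comm.comm ⟨(x.1 : G), x.2⟩ ⟨(y.1 : G), y.2⟩)
    · exact h.2 x hx
  obtain ⟨D, hCD, hD⟩ := exists_isMax hC
  have hcard : Nat.card C1 = Nat.card A := by
    rw [← Nat.card_congr (equivMapOfInjective A1 _ (MulAut.conj g).injective).toEquiv,
      ← Nat.card_congr (equivMapOfInjective A (S : Subgroup G).subtype (S : Subgroup G).subtype_injective).toEquiv]
  have hle : C1 ≤ D.map (S : Subgroup G).subtype := by
    rw [← inf_eq_left.2 hg, ← subgroupOf_map_subtype]; exact map_mono hCD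
  rcases honly D hD.1 hD.2 with rfl | rfl
  · refine eq_of_le_of_card_ge hle (le_of_eq ?_)
    rw [hcard, ← Nat.card_congr (equivMapOfInjective _ (S : Subgroup G).subtype (S : Subgroup G).subtype_injective).toEquiv]
  exfalso
  -- A is self-centralising in (S : Subgroup G)
  have hself : ∀ s : (S : Subgroup G), (∀ a ∈ A, Commute a s) → s ∈ A := by
    intro s hs
    obtain ⟨a, ha, b, hb, rfl⟩ := hprod s
    refine A.mul_mem ha ?_
    have hba : ∀ x ∈ A, Commute x b := fun x hx => by
      have := (show Commute x a from congrArg Subtype.val (hA.1.1.is_comm.comm ⟨x, hx⟩ ⟨a, ha⟩)).inv_right.mul_right (hs x hx)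
      rwa [inv_mul_cancel_left] at this
    have hE : Cfsg.IsElementaryAbelian 2 (closure ((A : Set (S : Subgroup G)) ∪ {b})) := by
      have hc : ∀ x ∈ (A : Set (S : Subgroup G)) ∪ {b}, ∀ z ∈ (A : Set (S : Subgroup G)) ∪ {b}, x * z = z * x := by
        rintro x (hx | rfl) z (hz | rfl)
        · exact congrArg Subtype.val (hA.1.1.is_comm.comm ⟨x, hx⟩ ⟨z, hz⟩)
        · exact (hba x hx).eq
        · exact (hba z hz).eq.symm
        · rfl
      have hcm := isMulCommutative_closure hc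
      refine ⟨hcm, fun x hx => ?_⟩
      induction hx using closure_induction with
      | mem y hy =>
        rcases hy with hy | rfl
        · exact hA.1.2 y hy
        · exact hB.1.2 _ hb
      | one => simp
      | mul y z hy hz ihy ihz =>
        rw [Commute.mul_pow (congrArg Subtype.val (hcm.is_comm.comm ⟨y, hy⟩ ⟨z, hz⟩)), ihy, ihz, one_mul]
      | inv y hy ihy => rw [inv_pow, ihy, inv_one]
    exact (hA.2 _ hE (fun x hx => subset_closure (Or.inl hx))).le (subset_closure (Or.inr rfl))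
  -- g⁻¹ B g centralises A, so has at most the order of A
  have hTA : (S : Subgroup G) ≤ normalizer (A1 : Set G) := fun t ht =>
    mem_normalizer_iff_map_conj_eq.2 (hN t (le_normalizer ht))
  have hTB : (S : Subgroup G) ≤ normalizer (B1 : Set G) := by
    refine fun t ht => mem_normalizer_iff.2 fun x => ⟨?_, ?_⟩
    · rintro ⟨y, hy, rfl⟩
      exact ⟨_, hBn.conj_mem y hy ⟨t, ht⟩, rfl⟩
    · rintro ⟨y, hy, hyx⟩
      refine ⟨_, hBn.conj_mem y hy ⟨t⁻¹, (S : Subgroup G).inv_mem ht⟩, ?_⟩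
      show t⁻¹ * ((S : Subgroup G).subtype y) * t⁻¹⁻¹ = x
      rw [hyx]; group
  set B2 := B1.map (MulAut.conj g⁻¹).toMonoidHom with hB2
  have hB2c : B2 ≤ centralizer (A1 : Set G) := by
    rintro _ ⟨b, hb, rfl⟩
    rw [mem_centralizer_iff]
    intro a ha
    obtain ⟨b', hb', hba⟩ := hle ⟨a, ha, rfl⟩
    obtain ⟨b0, hb0, rfl⟩ := hb
    have hc := congrArg (fun z => (S : Subgroup G).subtype z) (congrArg Subtype.val (hB.1.1.is_comm.comm ⟨b', hb'⟩ ⟨b0, hb0⟩))
    show a * (g⁻¹ * (S : Subgroup G).subtype b0 * g⁻¹⁻¹) = (g⁻¹ * (S : Subgroup G).subtype b0 * g⁻¹⁻¹) * a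
    have e : g * a * g⁻¹ * (S : Subgroup G).subtype b0 = (S : Subgroup G).subtype b0 * (g * a * g⁻¹) := by
      have hc' : (S : Subgroup G).subtype b' * (S : Subgroup G).subtype b0 = (S : Subgroup G).subtype b0 * (S : Subgroup G).subtype b' := by simpa using hc
      rw [hba] at hc'
      exact hc'
    calc a * (g⁻¹ * (S : Subgroup G).subtype b0 * g⁻¹⁻¹) = g⁻¹ * (g * a * g⁻¹ * (S : Subgroup G).subtype b0) * g := by group
      _ = _ := by rw [e]; group
  have hB2p : IsPGroup 2 B2 := (S.2.to_subgroup _ |>.map (S : Subgroup G).subtype).map _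
  have hA1B2 : A1 ≤ B2 := fun a ha => by
    obtain hb := hle ⟨a, ha, rfl⟩
    exact ⟨_, hb, by simp [mul_assoc]⟩
  set N1 := normalizer (A1 : Set G)
  have hB2N : B2 ≤ N1 := hB2c.trans (centralizer_le_normalizer _)
  obtain ⟨R, hR⟩ := (hB2p.of_equiv (subgroupOfEquivOfLe hB2N).symm).exists_le_sylow
  obtain ⟨c, hc⟩ := MulAction.exists_smul_eq N1 R (S.subtype hTA)
  have hBA : Nat.card B2 ≤ Nat.card A1 := by
    have hle2 : B2.map (MulAut.conj (c : G)).toMonoidHom ≤ A1 := by
      rintro _ ⟨b, hb, rfl⟩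
      have hbR : (⟨b, hB2N hb⟩ : N1) ∈ R := hR hb
      have h1 : c * ⟨b, hB2N hb⟩ * c⁻¹ ∈ S.subtype hTA := by
        rw [← hc]; exact smul_mem_pointwise_smul _ (MulAut.conj c) (R : Subgroup N1) hbR
      have hmem : (c : G) * b * (c : G)⁻¹ ∈ (S : Subgroup G) := h1
      refine ⟨⟨_, hmem⟩, hself _ fun a ha => Subtype.ext ?_, rfl⟩
      have hca : (c : G)⁻¹ * (S : Subgroup G).subtype a * c ∈ A1 :=
        (mem_normalizer_iff''.1 c.2 _).1 (mem_map_of_mem _ ha)
      have e := mem_centralizer_iff.1 (hB2c hb) _ hca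
      show (a : G) * ((c : G) * b * (c : G)⁻¹) = (c : G) * b * (c : G)⁻¹ * a
      calc (a : G) * ((c : G) * b * (c : G)⁻¹)
          = (c : G) * (((c : G)⁻¹ * (S : Subgroup G).subtype a * c) * b) * (c : G)⁻¹ := by simp [mul_assoc]
        _ = _ := by rw [e]; simp [mul_assoc]
    have := card_le_of_le hle2
    rwa [← Nat.card_congr (equivMapOfInjective B2 _ (MulAut.conj (c : G)).injective).toEquiv] at this
  have hgA : C1 = B1 := by
    refine eq_of_le_of_card_ge hle ?_
    rw [hcard]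
    refine le_trans (le_of_eq ?_) (hBA.trans (le_of_eq ?_))
    · rw [hB2, Nat.card_congr (equivMapOfInjective B1 _ (MulAut.conj g⁻¹).injective).toEquiv.symm]
    · rw [hA1, ← Nat.card_congr (equivMapOfInjective A (S : Subgroup G).subtype (S : Subgroup G).subtype_injective).toEquiv]
  -- Frattini inside N(B)
  set N2 := normalizer (B1 : Set G)
  have hgT : ((g • S : Sylow 2 G) : Subgroup G) ≤ N2 := by
    rintro _ ⟨t, ht, rfl⟩
    refine mem_normalizer_iff_map_conj_eq.2 ?_
    rw [← hgA, Subgroup.map_map]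
    have e : ((MulAut.conj ((MulAut.conj g) t)).toMonoidHom.comp (MulAut.conj g).toMonoidHom)
        = (MulAut.conj g).toMonoidHom.comp (MulAut.conj t).toMonoidHom := by
      ext x; simp [mul_assoc]
    show A1.map (((MulAut.conj ((MulAut.conj g) t)).toMonoidHom).comp (MulAut.conj g).toMonoidHom) = _
    have e2 : A1.map (MulAut.conj t).toMonoidHom = A1 := mem_normalizer_iff_map_conj_eq.1 (hTA ht)
    rw [e, ← Subgroup.map_map, e2]
  obtain ⟨c2, hc2⟩ := MulAction.exists_smul_eq N2 ((g • S).subtype hgT) (S.subtype hTB)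
  have hk : ((c2 : G) * g) ∈ normalizer ((S : Subgroup G) : Set G) := by
    refine Sylow.smul_eq_iff_mem_normalizer.1 ?_
    rw [mul_smul]
    rw [Sylow.smul_subtype] at hc2
    exact Sylow.subtype_injective hc2
  have h2 := hN _ hk
  rw [map_mul] at h2
  have : C1.map (MulAut.conj (c2 : G)).toMonoidHom = A1 := by
    refine Eq.trans ?_ h2
    rw [Subgroup.map_map]; rfl
  have e3 : B1.map (MulAut.conj (c2 : G)).toMonoidHom = B1 := mem_normalizer_iff_map_conj_eq.1 c2.2
  rw [hgA, e3] at this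
  exact hAB (map_injective (S : Subgroup G).subtype_injective this.symm)

/-- Let S be a Sylow 2-subgroup of a finite group G having exactly two subgroups A ≠ B that are maximal among its elementary abelian subgroups, with S = AB. Then A and B are each weakly closed in S with respect to G, and the normalizer of S normalizes both A and B. -/
theorem result {G : Type*} [Group G] [Finite G] (S : Sylow 2 G)
    (A B : Subgroup ↥(S : Subgroup G)) (hAB : A ≠ B)
    (hA : Cfsg.IsElementaryAbelian 2 A ∧ ∀ C : Subgroup ↥(S : Subgroup G), Cfsg.IsElementaryAbelian 2 C → A ≤ C → C = A)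
    (hB : Cfsg.IsElementaryAbelian 2 B ∧ ∀ C : Subgroup ↥(S : Subgroup G), Cfsg.IsElementaryAbelian 2 C → B ≤ C → C = B)
    (honly : ∀ C : Subgroup ↥(S : Subgroup G), Cfsg.IsElementaryAbelian 2 C →
      (∀ D : Subgroup ↥(S : Subgroup G), Cfsg.IsElementaryAbelian 2 D → C ≤ D → D = C) → C = A ∨ C = B)
    (hprod : ∀ s : ↥(S : Subgroup G), ∃ a ∈ A, ∃ b ∈ B, a * b = s)
    (A' B' : Subgroup G) (hA' : A' = A.map (S : Subgroup G).subtype) (hB' : B' = B.map (S : Subgroup G).subtype) :
    Cfsg.IsWeaklyClosed A' (S : Subgroup G) ∧ Cfsg.IsWeaklyClosed B' (S : Subgroup G) ∧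
      Subgroup.normalizer ((S : Subgroup G) : Set G) ≤ Subgroup.normalizer (A' : Set G) ⊓ Subgroup.normalizer (B' : Set G) := by
  subst hA' hB'
  have hBA : ∀ s : ↥(S : Subgroup G), ∃ b ∈ B, ∃ a ∈ A, b * a = s := fun s => by
    obtain ⟨a, ha, b, hb, h⟩ := hprod s⁻¹
    exact ⟨b⁻¹, B.inv_mem hb, a⁻¹, A.inv_mem ha, by rw [← mul_inv_rev, h, inv_inv]⟩
  have honly' := fun C h1 h2 => (honly C h1 h2).symm
  have hAn : A.Normal := normal_of_two hAB hA hB honly hprod
  have hBn : B.Normal := normal_of_two (Ne.symm hAB) hB hA honly' hBA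
  have hN : ∀ g ∈ Subgroup.normalizer ((S : Subgroup G) : Set G),
      (A.map (S : Subgroup G).subtype).map (MulAut.conj g).toMonoidHom = A.map (S : Subgroup G).subtype :=
    normalizer_fixes S hAB hA hB honly hAn hBn
  have hN' : ∀ g ∈ Subgroup.normalizer ((S : Subgroup G) : Set G),
      (B.map (S : Subgroup G).subtype).map (MulAut.conj g).toMonoidHom = B.map (S : Subgroup G).subtype :=
    normalizer_fixes S (Ne.symm hAB) hB hA honly' hBn hAn
  exact ⟨weakly_closed S hAB hA hB honly hprod hAn hBn hN,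
    weakly_closed S (Ne.symm hAB) hB hA honly' hBA hBn hAn hN',
    le_inf (fun g hg => Subgroup.mem_normalizer_iff_map_conj_eq.2 (hN g hg))
      (fun g hg => Subgroup.mem_normalizer_iff_map_conj_eq.2 (hN' g hg))⟩

end Cfsg.Agent.S3203
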