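import Cfsg.Statements.S3208
import Mathlib
import Cfsg.Agent.PGroups.Basic

set_option autoImplicit false
open Cfsg

namespace Cfsg.Agent.S3208

/-- Let j be an involution of a finite group G, H a subgroup of G, and T a Sylow 2-subgroup of H ∩ C_G(j) containing j such that ⟨j⟩ is a characteristic subgroup of T. Then T is a Sylow 2-subgroup of H. -/
theorem result {G : Type*} [Group G] [Finite G]
    (j : G) (hj : orderOf j = 2) (H T : Subgroup G) (hT : T ≤ H ⊓ Subgroup.centralizer ({j} : Set G)) (h2 : IsPGroup 2 ↥T)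
    (hSyl : ¬ 2 ∣ T.relIndex (H ⊓ Subgroup.centralizer ({j} : Set G))) (hjT : j ∈ T)
    (hchar : ((Subgroup.zpowers j).subgroupOf T).Characteristic) :
    ¬ 2 ∣ T.relIndex H := by
  have : Fact (Nat.Prime 2) := ⟨Nat.prime_two⟩
  intro hdvd
  set C := H ⊓ Subgroup.centralizer ({j} : Set G)
  have hTH : T ≤ H := fun x hx => (hT hx).1
  have hT' : IsPGroup 2 (T.subgroupOf H) := h2.of_equiv (Subgroup.subgroupOfEquivOfLe hTH).symm
  obtain ⟨P, hP⟩ := hT'.exists_le_sylow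
  have hlt : T.subgroupOf H < (P : Subgroup H) := by
    refine lt_of_le_of_ne hP fun h => P.not_dvd_index ?_
    rw [← h]; exact hdvd
  obtain ⟨g, hgP, hgT, hgN⟩ : ∃ g ∈ (P : Subgroup H), g ∉ T.subgroupOf H ∧ ∀ t : G, t ∈ T ↔ (g : G) * t * (g : G)⁻¹ ∈ T := by
    have hne : (T.subgroupOf H).subgroupOf (P : Subgroup H) ≠ ⊤ :=
      fun h => hlt.not_ge (Subgroup.subgroupOf_eq_top.1 h)
    obtain ⟨g, hg, hg'⟩ := SetLike.exists_of_lt (PGroups.lt_normalizer P.2 hne)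
    have hn := Subgroup.mem_normalizer_iff.1 hg
    refine ⟨g, g.2, hg', fun t => ⟨fun ht => ?_, fun ht => ?_⟩⟩
    · exact ((hn ⟨⟨t, hTH ht⟩, hP ht⟩).1 ht : _)
    · have htH : t ∈ H := by
        have := H.mul_mem (H.mul_mem (H.inv_mem g.1.2) (hTH ht)) g.1.2
        simpa [mul_assoc] using this
      have htP : (⟨t, htH⟩ : H) ∈ (P : Subgroup H) := by
        have hm : (g : H) * ⟨t, htH⟩ * (g : H)⁻¹ ∈ (P : Subgroup H) := hP ht
        have := P.mul_mem (P.mul_mem (P.inv_mem g.2) hm) g.2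
        simpa [mul_assoc] using this
      exact ((hn ⟨⟨t, htH⟩, htP⟩).2 ht : _)
  -- g centralises j
  have hgn : (g : G) ∈ Subgroup.normalizer (T : Set G) := Subgroup.mem_normalizer_iff.2 hgN
  have hfix := hchar.fixed (T.normalizerMonoidHom ⟨g, hgn⟩)
  have hjmem : (⟨(g : G) * j * (g : G)⁻¹, (hgN j).1 hjT⟩ : T) ∈ (Subgroup.zpowers j).subgroupOf T := by
    have h1 : (⟨j, hjT⟩ : T) ∈ ((Subgroup.zpowers j).subgroupOf T).comap (T.normalizerMonoidHom ⟨g, hgn⟩).toMonoidHom := by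
      rw [hfix]; exact Subgroup.mem_zpowers j
    exact h1
  have hjg : (g : G) * j * (g : G)⁻¹ = j := by
    obtain ⟨k, hk⟩ := Subgroup.mem_zpowers_iff.1 (show (g : G) * j * (g : G)⁻¹ ∈ Subgroup.zpowers j from hjmem)
    have hj2 : j ^ (2 : ℤ) = 1 := by rw [show (2 : ℤ) = ((2 : ℕ) : ℤ) from rfl, zpow_natCast, ← hj, pow_orderOf_eq_one]
    rcases Int.even_or_odd' k with ⟨m, rfl | rfl⟩
    · rw [zpow_mul, hj2, one_zpow] at hk
      have : j = 1 := conj_eq_one_iff.1 hk.symm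
      rw [this, orderOf_one] at hj; omega
    · rw [zpow_add, zpow_mul, hj2, one_zpow, one_mul, zpow_one] at hk; exact hk.symm
  have hgC : (g : G) ∈ C := ⟨(g : H).2, Subgroup.mem_centralizer_singleton_iff.2 (mul_inv_eq_iff_eq_mul.1 hjg)⟩
  -- larger 2-subgroup inside C
  set Q := C ⊓ (P : Subgroup H).map H.subtype
  have hQ : IsPGroup 2 Q := (P.2.map H.subtype).to_le inf_le_right
  have hTQ : T ≤ Q := le_inf hT (fun t ht => ⟨⟨t, hTH ht⟩, hP ht, rfl⟩)
  obtain ⟨n, hn⟩ := hQ.index (T.subgroupOf Q)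
  cases n with
  | zero =>
    rw [pow_zero, ← Subgroup.relIndex, Subgroup.relIndex_eq_one] at hn
    exact hgT (hn ⟨hgC, (g : H), hgP, rfl⟩)
  | succ n =>
    refine hSyl ((?_ : 2 ∣ T.relIndex Q).trans ?_)
    · rw [Subgroup.relIndex, hn]; exact dvd_pow_self 2 (by omega)
    · exact ⟨_, (Subgroup.relIndex_mul_relIndex T Q C hTQ inf_le_left).symm⟩

end Cfsg.Agent.S3208
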