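import Cfsg.Statements.S3210
import Mathlib
import Cfsg.Agent.H64.SLPair

set_option autoImplicit false
open Cfsg

namespace Cfsg.Agent.S3210

theorem not_le_of_inf {G : Type*} [Group G] {F : Type*} [Field F] {L L' : Subgroup G} {j : G} (hF : (2 : F) ≠ 0)
    (e : ↥L ≃* Matrix.SpecialLinearGroup (Fin 2) F) (hj : orderOf j = 2) (hjL : j ∈ L) (hle' : L ≤ L')
    (hinf : L ⊓ L' = Subgroup.zpowers j) : False := by
  obtain ⟨a, ha, haa⟩ := H64.SLPair.exists_sq_eq hF e hjL hj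
  rw [inf_eq_left.2 hle'] at hinf
  rcases (H64.SLPair.mem_zpowers_involution_iff hj).1 (hinf ▸ ha) with h | h <;> subst h
  · rw [one_mul] at haa
    rw [← haa, orderOf_one] at hj; omega
  · have : a * a = 1 := by rw [← pow_two, ← hj, pow_orderOf_eq_one]
    rw [this] at haa
    rw [← haa, orderOf_one] at hj; omega

/-- Let G be a finite group with subgroups L₁ ≅ SL₂(q₁) and L₂ ≅ SL₂(q₂), q₁ and q₂ odd prime powers, which commute elementwise and meet in ⟨j⟩ for an involution j, and suppose L₁L₂ has index 2 in C_G(j). Then every element n of C_G(j) outside L₁L₂ either normalizes both L₁ and L₂, or conjugates L₁ onto L₂; in the second case q₁ = q₂ and there is an element n′ of C_G(j) outside L₁L₂ conjugating L₁ onto L₂ with n′² ∈ ⟨j⟩. -/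
theorem result {G : Type*} [Group G] [Finite G]
    {F₁ : Type*} [Field F₁] [Fintype F₁] {F₂ : Type*} [Field F₂] [Fintype F₂]
    (hF₁ : Odd (Fintype.card F₁)) (hF₂ : Odd (Fintype.card F₂)) (L₁ L₂ : Subgroup G)
    (e₁ : ↥L₁ ≃* Matrix.SpecialLinearGroup (Fin 2) F₁) (e₂ : ↥L₂ ≃* Matrix.SpecialLinearGroup (Fin 2) F₂)
    (hc : ∀ x ∈ L₁, ∀ y ∈ L₂, x * y = y * x) (j : G) (hj : orderOf j = 2) (hm : L₁ ⊓ L₂ = Subgroup.zpowers j)
    (hle : L₁ ⊔ L₂ ≤ Subgroup.centralizer ({j} : Set G)) (hi : (L₁ ⊔ L₂).relIndex (Subgroup.centralizer ({j} : Set G)) = 2) (n : G) (hn : n ∈ Subgroup.centralizer ({j} : Set G)) (hn' : n ∉ L₁ ⊔ L₂) :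
    (L₁.map (MulAut.conj n).toMonoidHom = L₁ ∧ L₂.map (MulAut.conj n).toMonoidHom = L₂) ∨
      (L₁.map (MulAut.conj n).toMonoidHom = L₂ ∧ Fintype.card F₁ = Fintype.card F₂ ∧
        ∃ n' ∈ Subgroup.centralizer ({j} : Set G), n' ∉ L₁ ⊔ L₂ ∧ L₁.map (MulAut.conj n').toMonoidHom = L₂ ∧ n' ^ 2 ∈ Subgroup.zpowers j) := by
  have h1 := Linear.two_ne_zero_of_odd_card hF₁
  have h2 := Linear.two_ne_zero_of_odd_card hF₂
  obtain ⟨hj1, hj2⟩ := H64.SLPair.j_mem hm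
  set C := Subgroup.centralizer ({j} : Set G)
  set M := L₁ ⊔ L₂ with hM
  have hnj : n * j * n⁻¹ = j := by
    rw [Subgroup.mem_centralizer_singleton_iff.1 hn, mul_inv_cancel_right]
  have hnorm : ∀ g ∈ C, ∀ x ∈ M, g * x * g⁻¹ ∈ M := by
    intro g hg x hx
    exact (Subgroup.normal_of_index_eq_two hi).conj_mem ⟨x, hle hx⟩ hx ⟨g, hg⟩
  have hn2 : n * n ∈ M := Subgroup.mul_self_mem_of_index_two (H := M.subgroupOf C) hi ⟨n, hn⟩
  set c := (MulAut.conj n).toMonoidHom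
  have hcinj : Function.Injective c := (MulAut.conj n).injective
  have hjc : ∀ L : Subgroup G, j ∈ L → j ∈ L.map c := fun L hL => ⟨j, hL, hnj⟩
  have hnorm1 : ∀ g ∈ M, ∀ x ∈ L₁, g * x * g⁻¹ ∈ L₁ := by
    intro g hg x hx
    obtain ⟨a, ha, b, hb, rfl⟩ := (H64.SLPair.mem_sup_iff hc).1 hg
    have : a * b * x * (a * b)⁻¹ = a * x * a⁻¹ := by
      calc a * b * x * (a * b)⁻¹ = a * (b * x) * b⁻¹ * a⁻¹ := by group
        _ = _ := by rw [← hc x hx b hb]; group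
    rw [this]
    exact L₁.mul_mem (L₁.mul_mem ha hx) (L₁.inv_mem ha)
  have hnorm2 : ∀ g ∈ M, ∀ x ∈ L₂, g * x * g⁻¹ ∈ L₂ := by
    intro g hg x hx
    obtain ⟨a, ha, b, hb, rfl⟩ := (H64.SLPair.mem_sup_iff hc).1 hg
    have : a * b * x * (a * b)⁻¹ = b * x * b⁻¹ := by
      calc a * b * x * (a * b)⁻¹ = a * (b * x * b⁻¹) * a⁻¹ := by group
        _ = _ := by rw [hc a ha _ (L₂.mul_mem (L₂.mul_mem hb hx) (L₂.inv_mem hb)), mul_inv_cancel_right]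
    rw [this]
    exact L₂.mul_mem (L₂.mul_mem hb hx) (L₂.inv_mem hb)
  have hnormal : ∀ L : Subgroup G, L ≤ M → (∀ g ∈ M, ∀ x ∈ L, g * x * g⁻¹ ∈ L) →
      L.map c ≤ M ∧ ∀ g ∈ M, ∀ k ∈ L.map c, g * k * g⁻¹ ∈ L.map c := by
    intro L hL hLn
    refine ⟨?_, ?_⟩
    · rintro _ ⟨x, hx, rfl⟩
      exact hnorm n hn x (hL hx)
    · rintro g hg _ ⟨x, hx, rfl⟩
      have hg' : n⁻¹ * g * n⁻¹⁻¹ ∈ M := hnorm n⁻¹ (C.inv_mem hn) g hg
      refine ⟨_, hLn _ hg' x hx, ?_⟩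
      show n * _ * n⁻¹ = g * (n * x * n⁻¹) * g⁻¹
      group
  obtain ⟨hK1, hK1n⟩ := hnormal L₁ le_sup_left hnorm1
  obtain ⟨hK2, hK2n⟩ := hnormal L₂ le_sup_right hnorm2
  have r1 := H64.SLPair.le_or_le h1 h2 h1 e₁ e₂ ((L₁.equivMapOfInjective c hcinj).symm.trans e₁) hc hj hm hK1 (hjc _ hj1) hK1n
  have r2 := H64.SLPair.le_or_le h1 h2 h2 e₁ e₂ ((L₂.equivMapOfInjective c hcinj).symm.trans e₂) hc hj hm hK2 (hjc _ hj2) hK2n
  have hcard : ∀ L : Subgroup G, Nat.card (L.map c) = Nat.card L := fun L =>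
    Subgroup.card_map_of_injective hcinj
  -- both images cannot lie in the same factor
  have hboth : ∀ L : Subgroup G, L₁.map c ≤ L → L₂.map c ≤ L → M ≤ L := by
    intro L a b x hx
    have : n⁻¹ * x * n⁻¹⁻¹ ∈ M := hnorm n⁻¹ (C.inv_mem hn) x hx
    have h := (Subgroup.map_mono (f := c) (le_refl M)) (Subgroup.mem_map_of_mem c this)
    rw [hM, Subgroup.map_sup] at h
    have hx' : c (n⁻¹ * x * n⁻¹⁻¹) = x := by show n * _ * n⁻¹ = x; group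
    rw [hx'] at h
    exact sup_le a b h
  have hproper : ¬ M ≤ L₁ ∧ ¬ M ≤ L₂ := by
    exact ⟨fun h => not_le_of_inf h2 e₂ hj hj2 (le_sup_right.trans h) (inf_comm L₂ L₁ ▸ hm), fun h => not_le_of_inf h1 e₁ hj hj1 (le_sup_left.trans h) hm⟩
  rcases r1 with a | a
  · refine Or.inl ⟨Subgroup.eq_of_le_of_card_ge a (hcard _).ge, Subgroup.eq_of_le_of_card_ge ?_ (hcard _).ge⟩
    exact r2.resolve_left fun b => hproper.1 (hboth _ a b)
  · have b : L₂.map c ≤ L₁ := r2.resolve_right fun b => hproper.2 (hboth _ a b)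
    have hle12 : Nat.card L₁ = Nat.card L₂ := le_antisymm
      ((hcard L₁).ge.trans (Subgroup.card_le_of_le a)) ((hcard L₂).ge.trans (Subgroup.card_le_of_le b))
    have heq : L₁.map c = L₂ := Subgroup.eq_of_le_of_card_ge a (by rw [hcard, hle12])
    refine Or.inr ⟨heq, ?_, ?_⟩
    · refine H64.SLPair.card_eq_of_card_SL_eq ?_
      rw [← Nat.card_congr e₁.toEquiv, ← Nat.card_congr e₂.toEquiv, hle12]
    obtain ⟨a₁, ha₁, b₁, hb₁, hab⟩ := (H64.SLPair.mem_sup_iff hc).1 hn2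
    set n' := n * a₁⁻¹ with hn'def
    have ha₁C : a₁ ∈ C := hle (Subgroup.mem_sup_left ha₁)
    have hn'C : n' ∈ C := C.mul_mem hn (C.inv_mem ha₁C)
    have hn'M : n' ∉ M := fun h => hn' (by simpa [n'] using M.mul_mem h (Subgroup.mem_sup_left (T := L₂) ha₁))
    have hc2 : n * a₁⁻¹ * n⁻¹ ∈ L₂ := a ⟨a₁⁻¹, L₁.inv_mem ha₁, rfl⟩
    have hsq : n' * n' ∈ L₂ := by
      have : n' * n' = n * a₁⁻¹ * n⁻¹ * b₁ := by
        calc n' * n' = n * a₁⁻¹ * n⁻¹ * (n * n) * a₁⁻¹ := by rw [hn'def]; group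
          _ = n * a₁⁻¹ * n⁻¹ * ((a₁ * b₁) * a₁⁻¹) := by rw [hab, mul_assoc]
          _ = _ := by rw [hc a₁ ha₁ b₁ hb₁, mul_inv_cancel_right]
      rw [this]
      exact L₂.mul_mem hc2 hb₁
    have hmap : ∀ x ∈ L₁, n' * x * n'⁻¹ ∈ L₂ := fun x hx => by
      have e : n' * x * n'⁻¹ = n * (a₁⁻¹ * x * a₁) * n⁻¹ := by rw [hn'def]; group
      rw [e]
      exact a ⟨_, L₁.mul_mem (L₁.mul_mem (L₁.inv_mem ha₁) hx) ha₁, rfl⟩
    have hmap' : ∀ x ∈ L₂, n' * x * n'⁻¹ ∈ L₁ := fun x hx => by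
      have e : n' * x * n'⁻¹ = n * (a₁⁻¹ * x * a₁) * n⁻¹ := by rw [hn'def]; group
      have e' : a₁⁻¹ * x * a₁ = x := by rw [hc _ (L₁.inv_mem ha₁) x hx, inv_mul_cancel_right]
      rw [e, e']
      exact b ⟨x, hx, rfl⟩
    refine ⟨n', hn'C, hn'M, Subgroup.eq_of_le_of_card_ge ?_ ?_, ?_⟩
    · rintro _ ⟨x, hx, rfl⟩
      exact hmap x hx
    · rw [Subgroup.card_map_of_injective (MulAut.conj n').injective, hle12]
    · have h := hmap' _ hsq
      rw [show n' * (n' * n') * n'⁻¹ = n' * n' by group] at h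
      rw [pow_two, ← hm]
      exact ⟨h, hsq⟩

end Cfsg.Agent.S3210
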