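import Cfsg.Statements.S3213
import Mathlib

set_option autoImplicit false
open Cfsg

namespace Cfsg.Agent.S3213

open Matrix

theorem two_ne {F : Type*} [Field F] [Fintype F] (hF : Fintype.card F = 3) : (2 : F) ≠ 0 := by
  intro h
  have := ringChar.spec F 2
  have hc : (Fintype.card F : F) = 0 := Nat.cast_card_eq_zero F
  rw [hF] at hc
  have h1 : (1 : F) = 0 := by linear_combination hc - h
  exact one_ne_zero h1

theorem natCard_End_units {F : Type*} [Field F] [Fintype F] (hF : Fintype.card F = 3) {W : Type*} [AddCommGroup W]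
    [Module F W] [FiniteDimensional F W] (hW : Module.finrank F W ≤ 3) :
    ¬ 5 ∣ Nat.card (Module.End F W)ˣ := by
  classical
  rw [Nat.card_congr (Units.mapEquiv (LinearMap.toMatrixAlgEquiv (Module.finBasis F W)).toMulEquiv).toEquiv]
  rw [Matrix.card_GL_field, hF]
  generalize hk : Module.finrank F W = k at *
  interval_cases k <;> decide

theorem pow_five_eq_one {F : Type*} [Field F] [Fintype F] (hF : Fintype.card F = 3) {W : Type*} [AddCommGroup W]
    [Module F W] [FiniteDimensional F W] (hW : Module.finrank F W ≤ 3) (f : Module.End F W) (h : f ^ 5 = 1) : f = 1 := by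
  have : Finite W := Module.finite_of_finite F
  let u : (Module.End F W)ˣ := ⟨f, f ^ 4, by rw [← pow_succ', h], by rw [← pow_succ, h]⟩
  have hu : u ^ 5 = 1 := Units.ext (by simpa [u] using h)
  have : u = 1 := by
    by_contra hne
    have : Fact (Nat.Prime 5) := ⟨by norm_num⟩
    have ho := orderOf_eq_prime hu hne
    have hd := orderOf_dvd_natCard u
    rw [ho] at hd
    exact natCard_End_units hF hW hd
  exact congrArg Units.val this

theorem fixed_space {F : Type*} [Field F] [Fintype F] (hF : Fintype.card F = 3) {V : Type*} [AddCommGroup V]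
    [Module F V] [FiniteDimensional F V] (hV : Module.finrank F V = 4) (ω : V → V → F)
    (hl : ∀ u u' v, ω (u + u') v = ω u v + ω u' v) (hls : ∀ (a : F) u v, ω (a • u) v = a • ω u v)
    (hr : ∀ u v v', ω u (v + v') = ω u v + ω u v') (hrs : ∀ (a : F) u v, ω u (a • v) = a • ω u v)
    (halt : ∀ v, ω v v = 0)
    {U G : Module.End F V} (hU3 : U ^ 3 = 1) (hU1 : U ≠ 1) (hG : G * G = -1) (hGU : U * G * U = G)
    (hω : ∀ u v, ω (U u) (U v) = ω u v) :
    Module.finrank F ↥(LinearMap.ker (U - LinearMap.id)) = 2 ∧ ∀ v w, U v = v → U w = w → ω v w = 0 := by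
  set W := LinearMap.ker (U - LinearMap.id)
  have hW : ∀ v, v ∈ W ↔ U v = v := fun v => by simp [W, sub_eq_zero]
  have h30 : (3 : F) = 0 := by have := Nat.cast_card_eq_zero F; rwa [hF] at this
  have hnil : ∀ v, U (U (U v)) = v := fun v => by
    have := congrArg (fun f : Module.End F V => f v) hU3
    simpa [pow_succ] using this
  -- every nonzero invariant subspace meets W
  have hmeet : ∀ P : Submodule F V, (∀ v ∈ P, U v ∈ P) → P ≠ ⊥ → ∃ u ∈ P, u ≠ 0 ∧ U u = u := by
    intro P hP hne
    obtain ⟨v, hv, hv0⟩ := P.exists_mem_ne_zero_of_ne_bot hne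
    by_cases h1 : U v - v = 0
    · exact ⟨v, hv, hv0, sub_eq_zero.1 h1⟩
    by_cases h2 : U (U v - v) - (U v - v) = 0
    · exact ⟨_, P.sub_mem (hP v hv) hv, h1, sub_eq_zero.1 h2⟩
    refine ⟨_, P.sub_mem (hP _ (P.sub_mem (hP v hv) hv)) (P.sub_mem (hP v hv) hv), h2, ?_⟩
    rw [map_sub, map_sub, map_sub, hnil]
    rw [← sub_eq_zero]
    calc _ = (3 : F) • (U v - U (U v)) := by module
      _ = 0 := by rw [h30, zero_smul]
  have hpos : 0 < Module.finrank F W := by
    have : Nontrivial V := Module.nontrivial_of_finrank_pos (R := F) (by omega)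
    obtain ⟨u, -, hu0, hu⟩ := hmeet ⊤ (fun _ _ => trivial) top_ne_bot
    exact Module.finrank_pos_iff_exists_ne_zero.2 ⟨⟨u, (hW u).2 hu⟩, fun h => hu0 (congrArg Subtype.val h)⟩
  have hlt : Module.finrank F W < 4 := by
    rw [← hV]
    refine Submodule.finrank_lt fun h => hU1 (LinearMap.ext fun v => ?_)
    exact (hW v).1 (h ▸ trivial)
  have hGW : ∀ v ∈ W, G v ∈ W := by
    intro v hv
    rw [hW] at hv ⊢
    have := congrArg (fun f : Module.End F V => f v) hGU
    simpa [hv] using this
  have hrank : Module.finrank F W = 2 := by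
    let GW : Module.End F W := G.restrict hGW
    have h : GW * GW = (-1 : F) • (1 : Module.End F W) := by
      ext v
      have := congrArg (fun f : Module.End F V => f v) hG
      simpa [GW] using this
    have hd := congrArg LinearMap.det h
    rw [map_mul, LinearMap.det_smul, map_one, mul_one] at hd
    have hno : ∀ a : F, a * a ≠ -1 := by
      intro a ha
      have ha3 : a ^ 3 = a := by have := FiniteField.pow_card a; rwa [hF] at this
      have : (a * a) * (a * a) = a * a := by linear_combination a * ha3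
      rw [ha] at this
      exact two_ne hF (by linear_combination this)
    rcases Nat.even_or_odd (Module.finrank F W) with ⟨k, hk⟩ | hodd
    · omega
    · rw [hodd.neg_one_pow] at hd
      exact absurd hd (hno _)
  refine ⟨hrank, fun v w hv hw => ?_⟩
  by_contra hvw
  let f : V →ₗ[F] F × F :=
    { toFun := fun u => (ω v u, ω w u)
      map_add' := fun a b => by simp [hr]
      map_smul' := fun a b => by simp [hrs] }
  have hne : LinearMap.ker f ≠ ⊥ := by
    intro h
    have := f.finrank_range_add_finrank_ker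
    rw [h, finrank_bot, hV] at this
    have hle := Submodule.finrank_le (LinearMap.range f)
    rw [Module.finrank_prod, Module.finrank_self] at hle
    omega
  have hinv : ∀ u ∈ LinearMap.ker f, U u ∈ LinearMap.ker f := by
    intro u hu
    simp only [LinearMap.mem_ker, f, LinearMap.coe_mk, AddHom.coe_mk, Prod.mk_eq_zero] at hu ⊢
    exact ⟨by rw [← hu.1]; conv_lhs => rw [← hv, hω], by rw [← hu.2]; conv_lhs => rw [← hw, hω]⟩
  obtain ⟨u, hu, hu0, huU⟩ := hmeet _ hinv hne
  simp only [LinearMap.mem_ker, f, LinearMap.coe_mk, AddHom.coe_mk, Prod.mk_eq_zero] at hu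
  have hanti : ω w v = - ω v w := by
    have := halt (v + w)
    rw [hl, hr, hr, halt, halt] at this
    linear_combination this
  have hind : LinearIndependent F ![(⟨v, (hW v).2 hv⟩ : W), ⟨w, (hW w).2 hw⟩] := by
    rw [LinearIndependent.pair_iff]
    intro s t hst
    have hst' : s • v + t • w = 0 := congrArg Subtype.val hst
    have h1 : ω v (s • v + t • w) = 0 := by
      rw [hst']
      simpa using hrs 0 v 0
    have h2 : ω w (s • v + t • w) = 0 := by
      rw [hst']
      simpa using hrs 0 w 0
    rw [hr, hrs, hrs, halt, smul_zero, zero_add, smul_eq_mul, mul_eq_zero] at h1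
    rw [hr, hrs, hrs, halt, smul_zero, add_zero, smul_eq_mul, mul_eq_zero, hanti, neg_eq_zero] at h2
    exact ⟨h2.resolve_right hvw, h1.resolve_right hvw⟩
  have hspan := hind.span_eq_top_of_card_eq_finrank (by simp [hrank])
  have hmem : (⟨u, (hW u).2 huU⟩ : W) ∈ Submodule.span F (Set.range ![(⟨v, (hW v).2 hv⟩ : W), ⟨w, (hW w).2 hw⟩]) := hspan ▸ trivial
  simp only [Matrix.range_cons, Matrix.range_empty, Set.union_empty, Set.union_singleton] at hmem
  obtain ⟨s, t, hst⟩ := Submodule.mem_span_pair.1 hmem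
  have hst' := congrArg Subtype.val hst
  simp only [Submodule.coe_add, Submodule.coe_smul] at hst'
  have h1 := hu.1
  have h2 := hu.2
  rw [← hst', hr, hrs, hrs] at h1 h2
  simp [halt, hanti, hvw] at h1 h2
  rw [h1, h2] at hst'
  exact hu0 (by simpa using hst'.symm)

theorem zmod_five_key : ∀ a b c : ZMod 5, a * (-1 - a) - b * c = 1 →
    ∃ r s t : ZMod 5, -(r * r) - s * t = 1 ∧ r * (a - (-1 - a)) + s * c + t * b = 0 := by decide

theorem exists_inverting {K : Type*} [Field K] [Fintype K] (hK : Fintype.card K = 5)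
    (x : SpecialLinearGroup (Fin 2) K) (hx : orderOf x = 3) :
    ∃ g : SpecialLinearGroup (Fin 2) K, g * g = -1 ∧ g * x * g⁻¹ = x⁻¹ := by
  have : Fact (Nat.Prime 5) := ⟨by norm_num⟩
  let e : ZMod 5 ≃+* K := ZMod.ringEquivOfPrime K (by norm_num) hK
  set a := x 0 0
  set b := x 0 1
  set c := x 1 0
  set d := x 1 1
  have hdet : a * d - b * c = 1 := by
    have := x.det_coe
    rwa [Matrix.det_fin_two] at this
  have htr : a + d = -1 := by
    have h := congrArg (fun y : SpecialLinearGroup (Fin 2) K => (y : Matrix (Fin 2) (Fin 2) K)) (hx ▸ pow_orderOf_eq_one x : x ^ 3 = 1)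
    have h00 := congrFun (congrFun h 0) 0
    have h01 := congrFun (congrFun h 0) 1
    have h10 := congrFun (congrFun h 1) 0
    have h11 := congrFun (congrFun h 1) 1
    simp [pow_succ, Matrix.mul_apply, Fin.sum_univ_two] at h00 h01 h10 h11
    set τ := a + d
    have e00 : (τ ^ 2 - 1) * a - τ = 1 := by linear_combination h00 + (2 * a + d) * hdet
    have e11 : (τ ^ 2 - 1) * d - τ = 1 := by linear_combination h11 + (a + 2 * d) * hdet
    have e01 : (τ ^ 2 - 1) * b = 0 := by linear_combination h01 + b * hdet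
    have e10 : (τ ^ 2 - 1) * c = 0 := by linear_combination h10 + c * hdet
    by_cases hτ : τ ^ 2 - 1 = 0
    · rw [hτ] at e00; linear_combination -e00
    exfalso
    rw [mul_eq_zero] at e01 e10
    have hb := e01.resolve_left hτ
    have hc := e10.resolve_left hτ
    have had : a = d := mul_left_cancel₀ hτ (by linear_combination e00 - e11)
    have ha2 : a * a = 1 := by linear_combination hdet + c * hb + a * had
    have ha : a = 1 := by linear_combination h00 - a * ha2 - (2 * a + d) * c * hb
    have : x = 1 := by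
      ext i j
      fin_cases i <;> fin_cases j
      · simpa using ha
      · simpa using hb
      · simpa using hc
      · show d = 1
        rw [← had]; exact ha
    rw [this, orderOf_one] at hx; omega
  have key := zmod_five_key
  obtain ⟨r, s, t, h1, h2⟩ := key (e.symm a) (e.symm b) (e.symm c) (e.injective (by
    simp only [map_mul, map_sub, map_neg, map_one, RingEquiv.apply_symm_apply]
    linear_combination hdet + (-a) * htr))
  have h1' := congrArg e h1
  have h2' := congrArg e h2
  simp only [map_mul, map_sub, map_add, map_neg, map_one, map_zero, RingEquiv.apply_symm_apply] at h1' h2'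
  let g : SpecialLinearGroup (Fin 2) K := ⟨!![e r, e s; e t, -e r], by rw [Matrix.det_fin_two_of]; linear_combination h1'⟩
  have hsq : ∀ y : SpecialLinearGroup (Fin 2) K, y 0 0 + y 1 1 = 0 → y * y = -1 := by
    intro y hy
    have hd := y.det_coe
    rw [Matrix.det_fin_two] at hd
    ext i j
    fin_cases i <;> fin_cases j <;> simp [Matrix.mul_apply, Fin.sum_univ_two]
    · linear_combination y 0 0 * hy - hd
    · linear_combination y 0 1 * hy
    · linear_combination y 1 0 * hy
    · linear_combination y 1 1 * hy - hd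
  have hg := hsq g (by simp [g])
  have hgx := hsq (g * x) (by
    simp only [Matrix.SpecialLinearGroup.coe_mul]
    simp [g, Matrix.mul_apply, Fin.sum_univ_two]
    linear_combination h2' + (-e r) * htr)
  refine ⟨g, hg, ?_⟩
  refine eq_inv_of_mul_eq_one_left ?_
  have : g⁻¹ = -g := inv_eq_of_mul_eq_one_right (by rw [mul_neg, hg, neg_neg])
  rw [this, mul_neg, neg_mul, mul_assoc (g * x), hgx, neg_neg]

theorem neg_one_image {F : Type*} [Field F] [Fintype F] (hF : Fintype.card F = 3)
    {K : Type*} [Field K] [Fintype K] (hK : Fintype.card K = 5)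
    (ρ : SpecialLinearGroup (Fin 2) K →* Module.End F (Fin 2 ⊕ Fin 2 → F)) (hρ : Function.Injective ρ) :
    ρ (-1) = -1 := by
  have h2 := two_ne hF
  have hK2 : (2 : K) ≠ 0 := by
    intro h
    have hc : (Fintype.card K : K) = 0 := Nat.cast_card_eq_zero K
    rw [hK] at hc
    exact one_ne_zero (α := K) (by linear_combination hc - 2 * h)
  set i := ρ (-1) with hi
  have hii : i * i = 1 := by rw [hi, ← map_mul]; simp
  have hci : ∀ v g, i (ρ g v) = ρ g (i v) := fun v g => by
    show (ρ (-1) * ρ g) v = (ρ g * ρ (-1)) v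
    rw [← map_mul, ← map_mul]; simp
  set P := LinearMap.ker (i - LinearMap.id)
  set M := LinearMap.ker (i + LinearMap.id)
  have hP : ∀ v, v ∈ P ↔ i v = v := fun v => by simp [P, sub_eq_zero]
  have hM : ∀ v, v ∈ M ↔ i v = -v := fun v => by simp [M, add_eq_zero_iff_eq_neg]
  have hPd : ∀ v, v + i v ∈ P := fun v => by
    rw [hP, map_add, show i (i v) = v from congrArg (fun f : Module.End F _ => f v) hii, add_comm]
  have hMd : ∀ v, v - i v ∈ M := fun v => by
    rw [hM, map_sub, show i (i v) = v from congrArg (fun f : Module.End F _ => f v) hii, neg_sub]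
  by_cases hP0 : P = ⊥
  · refine LinearMap.ext fun v => ?_
    have := hPd v
    rw [hP0, Submodule.mem_bot] at this
    show i v = -v
    exact eq_neg_of_add_eq_zero_right this
  exfalso
  by_cases hM0 : M = ⊥
  · have : i = 1 := LinearMap.ext fun v => by
      have := hMd v
      rw [hM0, Submodule.mem_bot, sub_eq_zero] at this
      exact this.symm
    have h := hρ (this.trans (map_one ρ).symm)
    have h00 := congrArg (fun y : SpecialLinearGroup (Fin 2) K => y 0 0) h
    simp at h00
    exact hK2 (by linear_combination -h00)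
  let y : SpecialLinearGroup (Fin 2) K := ⟨!![1, 1; 0, 1], by simp [Matrix.det_fin_two_of]⟩
  have hy5 : y ^ 5 = 1 := by
    have h5 : (5 : K) = 0 := by have := Nat.cast_card_eq_zero K; rwa [hK] at this
    ext i j
    simp only [Matrix.SpecialLinearGroup.coe_pow]
    fin_cases i <;> fin_cases j <;> simp [y, pow_succ, Matrix.mul_apply, Fin.sum_univ_two]
    linear_combination h5
  have hres : ∀ Q : Submodule F (Fin 2 ⊕ Fin 2 → F), (∀ v ∈ Q, ρ y v ∈ Q) → Q ≠ ⊤ → ∀ v ∈ Q, ρ y v = v := by
    intro Q hQ hne v hv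
    have hlt := Submodule.finrank_lt hne
    rw [Module.finrank_fintype_fun_eq_card] at hlt
    simp at hlt
    have h := pow_five_eq_one hF (by omega) ((ρ y).restrict hQ) (by
      rw [Module.End.pow_restrict]
      refine LinearMap.ext fun w => Subtype.ext ?_
      show (ρ y ^ 5) w = (w : Fin 2 ⊕ Fin 2 → F)
      rw [← map_pow, hy5, map_one]; rfl)
    exact congrArg Subtype.val (congrArg (fun f : Module.End F Q => f ⟨v, hv⟩) h)
  have hne : ∀ Q R : Submodule F (Fin 2 ⊕ Fin 2 → F), R ≠ ⊥ → (∀ v ∈ R, v ∈ Q → v = 0) → Q ≠ ⊤ := fun Q R hR h hQ =>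
    hR ((Submodule.eq_bot_iff R).2 fun v hv => h v hv (hQ ▸ trivial))
  have hPM : ∀ v, v ∈ P → v ∈ M → v = 0 := fun v h1 h1' => by
    rw [hP] at h1; rw [hM, h1] at h1'
    exact (smul_eq_zero.1 (show (2 : F) • v = 0 by rw [two_smul]; nth_rewrite 2 [h1']; simp)).resolve_left h2
  have hyv : ∀ v, ρ y v = v := by
    intro v
    have a := hres P (fun v hv => by rw [hP] at hv ⊢; rw [hci, hv]) (hne P M hM0 fun v h h' => hPM v h' h) _ (hPd v)
    have b := hres M (fun v hv => by rw [hM] at hv ⊢; rw [hci, hv, map_neg]) (hne M P hP0 fun v h h' => hPM v h h') _ (hMd v)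
    rw [map_add] at a
    rw [map_sub] at b
    have : (2 : F) • (ρ y v - v) = 0 := by
      calc (2 : F) • (ρ y v - v) = (ρ y v + ρ y (i v) - (v + i v)) + (ρ y v - ρ y (i v) - (v - i v)) := by module
        _ = 0 := by rw [a, b]; simp
    exact sub_eq_zero.1 ((smul_eq_zero.1 this).resolve_left h2)
  have hy : y = 1 := hρ ((LinearMap.ext hyv).trans (map_one ρ).symm)
  simpa [y] using congrArg (fun y : SpecialLinearGroup (Fin 2) K => y 0 1) hy

/-- Let F be the field with 3 elements and K the field with 5 elements. For every injective homomorphism φ from SL₂(K) into the symplectic group Sp₄(F) (4 × 4 matrices g with g J gᵀ = J for the standard alternating matrix J) and every element x of order 3 of SL₂(K), the vectors of F⁴ fixed by φ(x) form a 2-dimensional subspace that is totally isotropic for the alternating form defined by J. -/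
theorem result {F : Type*} [Field F] [Fintype F] (hF : Fintype.card F = 3)
    {K : Type*} [Field K] [Fintype K] (hK : Fintype.card K = 5)
    (φ : Matrix.SpecialLinearGroup (Fin 2) K →* ↥(Matrix.symplecticGroup (Fin 2) F)) (hφ : Function.Injective φ)
    (x : Matrix.SpecialLinearGroup (Fin 2) K) (hx : orderOf x = 3) :
    Module.finrank F ↥(LinearMap.ker (Matrix.toLin' ((φ x : Matrix (Fin 2 ⊕ Fin 2) (Fin 2 ⊕ Fin 2) F)) - LinearMap.id)) = 2 ∧
      ∀ v w : Fin 2 ⊕ Fin 2 → F, (φ x : Matrix (Fin 2 ⊕ Fin 2) (Fin 2 ⊕ Fin 2) F).mulVec v = v →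
        (φ x : Matrix (Fin 2 ⊕ Fin 2) (Fin 2 ⊕ Fin 2) F).mulVec w = w →
          dotProduct v ((Matrix.J (Fin 2) F).mulVec w) = 0 := by
  set V := Fin 2 ⊕ Fin 2 → F
  let ρ : SpecialLinearGroup (Fin 2) K →* Module.End F V :=
    { toFun := fun g => Matrix.toLin' ((φ g : Matrix (Fin 2 ⊕ Fin 2) (Fin 2 ⊕ Fin 2) F))
      map_one' := by simp [Matrix.toLin'_one]; rfl
      map_mul' := fun a b => by simp [Matrix.toLin'_mul]; rfl }
  have hρ : Function.Injective ρ := fun a b h => hφ (Subtype.ext (Matrix.toLin'.injective h))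
  obtain ⟨g, hgg, hgx⟩ := exists_inverting hK x hx
  have h2 : (2 : F) ≠ 0 := two_ne hF
  have hi := neg_one_image hF hK ρ hρ
  have hG2 : ρ g * ρ g = -1 := by rw [← map_mul, hgg, hi]
  have hx3 : x ^ 3 = 1 := hx ▸ pow_orderOf_eq_one x
  have hU3 : ρ x ^ 3 = 1 := by rw [← map_pow, hx3, map_one]
  have hGU : ρ x * ρ g * ρ x = ρ g := by
    rw [← map_mul, ← map_mul]
    congr 1
    rw [mul_inv_eq_iff_eq_mul] at hgx
    rw [mul_assoc, hgx]; group
  have hU1 : ρ x ≠ 1 := fun h => by
    have := hρ (h.trans (map_one ρ).symm)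
    rw [this, orderOf_one] at hx; omega
  have hJ : ∀ u v : V, dotProduct ((ρ x) u) ((Matrix.J (Fin 2) F).mulVec ((ρ x) v)) = dotProduct u ((Matrix.J (Fin 2) F).mulVec v) := by
    intro u v
    have h := SymplecticGroup.mem_iff'.1 (φ x).2
    set N : Matrix (Fin 2 ⊕ Fin 2) (Fin 2 ⊕ Fin 2) F := (φ x : Matrix (Fin 2 ⊕ Fin 2) (Fin 2 ⊕ Fin 2) F)
    have e : ∀ w : V, (ρ x) w = N.mulVec w := fun w => Matrix.toLin'_apply N w
    rw [e, e, ← Matrix.vecMul_transpose, ← Matrix.dotProduct_mulVec, Matrix.mulVec_mulVec, Matrix.mulVec_mulVec, h]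
  obtain ⟨h1, h2'⟩ := fixed_space hF (by simp [V]) (fun u v => dotProduct u ((Matrix.J (Fin 2) F).mulVec v))
    (fun u u' v => add_dotProduct _ _ _) (fun a u v => smul_dotProduct _ _ _)
    (fun u v v' => by simp [Matrix.mulVec_add, dotProduct_add]) (fun a u v => by simp [Matrix.mulVec_smul, dotProduct_smul])
    (fun v => by simp [dotProduct, Matrix.mulVec, Matrix.J, Matrix.one_apply, Fintype.sum_sum_type, Fin.sum_univ_two]; ring)
    hU3 hU1 hG2 hGU hJ
  refine ⟨?_, fun v w hv hw => h2' v w ?_ ?_⟩
  · exact h1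
  · show Matrix.toLin' _ v = v
    rw [Matrix.toLin'_apply, hv]
  · show Matrix.toLin' _ w = w
    rw [Matrix.toLin'_apply, hw]

end Cfsg.Agent.S3213
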