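import Cfsg.Statements.S3215
import Mathlib
import Cfsg.Agent.Cores.Fitting
import Cfsg.Agent.Cores.Constrained
import Cfsg.Agent.Cores.Residual
import Cfsg.Agent.PGroups.Basic
import Cfsg.Agent.Coprime.Generation
import Cfsg.Agent.S0341

set_option autoImplicit false
open Cfsg

namespace Cfsg.Agent.S3215

open Subgroup

variable {H : Type*} [Group H] [Finite H]

/-- An element of odd order commuting with an involution centralizes what that involution centralizes in `O₂`. -/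
theorem core_key (hI : ∀ t : H, orderOf t = 2 → Cfsg.HasNormalPComplement 2 ↥(Subgroup.centralizer ({t} : Set H)))
    {x t : H} (hx : Odd (orderOf x)) (ht : orderOf t = 2) (hxt : Commute x t) {c : H}
    (hc : c ∈ pCore 2 H) (hct : Commute c t) : Commute x c := by
  have : Fact (Nat.Prime 2) := ⟨Nat.prime_two⟩
  set C := centralizer ({t} : Set H)
  set x' : C := ⟨x, mem_centralizer_singleton_iff.2 hxt.eq⟩
  set c' : C := ⟨c, mem_centralizer_singleton_iff.2 hct.eq⟩
  have hxN : x' ∈ pPrimeCore 2 C := Cores.hasNormalPComplement_iff_forall_mem.1 (hI t ht) x'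
    (by rw [Subgroup.orderOf_mk]; exact Nat.coprime_two_right.2 hx)
  set w := x' * c' * x'⁻¹ * c'⁻¹
  have h1 : w ∈ pPrimeCore 2 C := by
    have hn : (pPrimeCore 2 C).Normal := inferInstance
    have : w = x' * (c' * x'⁻¹ * c'⁻¹) := by simp [w, mul_assoc]
    rw [this]
    exact mul_mem hxN (hn.conj_mem _ (inv_mem hxN) c')
  have h2 : w ∈ (pCore 2 H).subgroupOf C := by
    rw [mem_subgroupOf]
    exact mul_mem ((inferInstance : (pCore 2 H).Normal).conj_mem c hc x) (inv_mem hc)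
  have h3 : w ∈ pCore 2 C := Cores.subgroupOf_pCore_le C h2
  have h4 : w = 1 := by
    rw [← mem_bot, ← Cores.pCore_inf_pPrimeCore (p := 2) (G := C)]
    exact ⟨h3, h1⟩
  have h5 : x * c * x⁻¹ * c⁻¹ = 1 := congrArg Subtype.val h4
  exact mul_inv_eq_iff_eq_mul.1 (mul_inv_eq_one.1 h5)

/-- A nontrivial element of `O₂` commuting with a given element of a 2-group. -/
theorem exists_core_commute {t : H} (ht : ∃ i : ℕ, orderOf t = 2 ^ i) (hY : pCore 2 H ≠ ⊥) :
    ∃ z ∈ pCore 2 H, z ≠ 1 ∧ Commute z t := by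
  have : Fact (Nat.Prime 2) := ⟨Nat.prime_two⟩
  obtain ⟨i, hi⟩ := ht
  obtain ⟨S, hS⟩ := (IsPGroup.of_card (G := ↥(zpowers t)) (by rw [Nat.card_zpowers, hi])).exists_le_sylow
  have hle := Cores.pCore_le_sylow (p := 2) S
  have hne : (pCore 2 H).subgroupOf (S : Subgroup H) ≠ ⊥ := fun h => hY (by
    rw [subgroupOf_eq_bot] at h
    exact h.eq_bot_of_le hle)
  obtain ⟨z, hz, hzc, hzo⟩ := PGroups.exists_mem_center_orderOf_eq S.2 _ hne
  refine ⟨z, hz, fun h => ?_, (congrArg Subtype.val (mem_center_iff.1 hzc ⟨t, hS (mem_zpowers t)⟩)).symm⟩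
  rw [← Subgroup.orderOf_coe, h, orderOf_one] at hzo
  omega

theorem eq_one_of_commute (hI : ∀ t : H, orderOf t = 2 → Cfsg.HasNormalPComplement 2 ↥(Subgroup.centralizer ({t} : Set H)))
    (hCY : centralizer (pCore 2 H : Set H) ≤ pCore 2 H) {x : H} (hx : Odd (orderOf x))
    {y : H} (hy : y ∈ pCore 2 H) (hy1 : y ≠ 1) (hxy : Commute x y) : x = 1 := by
  have : Fact (Nat.Prime 2) := ⟨Nat.prime_two⟩
  have hY := Cores.pCore_isPGroup (p := 2) (G := H)
  -- an involution of O₂ commuting with x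
  obtain ⟨i, hi⟩ := IsPGroup.iff_orderOf.1 hY ⟨y, hy⟩
  rw [Subgroup.orderOf_mk] at hi
  have hi1 : i ≠ 0 := fun h => hy1 (orderOf_eq_one_iff.1 (by rw [hi, h, pow_zero]))
  have hdvd : 2 ∣ orderOf y := by rw [hi]; exact dvd_pow_self 2 hi1
  set t := y ^ (orderOf y / 2)
  have ht : orderOf t = 2 := orderOf_pow_orderOf_div (orderOf_pos y).ne' hdvd
  have hne : pCore 2 H ≠ ⊥ := fun h => hy1 (by rwa [h, mem_bot] at hy)
  obtain ⟨z, hz, hzc, hzo⟩ := PGroups.exists_mem_center_orderOf_eq hY (⊤ : Subgroup ↥(pCore 2 H))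
    (by have := nontrivial_iff_ne_bot _ |>.2 hne; exact top_ne_bot)
  have hzy : ∀ u : H, u ∈ pCore 2 H → Commute u (z : H) := fun u hu =>
    congrArg Subtype.val (mem_center_iff.1 hzc ⟨u, hu⟩)
  have hxz : Commute x z := core_key hI hx ht (hxy.pow_right _) z.2 ((hzy y hy).symm.pow_right _)
  have hxY : x ∈ pCore 2 H := hCY (mem_centralizer_iff.2 fun u hu =>
    (core_key hI hx (by rw [Subgroup.orderOf_coe]; exact hzo) hxz hu (hzy u hu)).eq.symm)
  obtain ⟨l, hl⟩ := IsPGroup.iff_orderOf.1 hY ⟨x, hxY⟩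
  rw [Subgroup.orderOf_mk] at hl
  refine orderOf_eq_one_iff.1 ?_
  rw [hl] at hx ⊢
  rcases l with _ | l
  · rfl
  · exact absurd hx (Nat.not_odd_iff_even.2 ⟨2 ^ l, by ring⟩)

/-- In the quotient by `O₂` an involution fixes no nontrivial element of odd order. -/
theorem fixed_free (hI : ∀ t : H, orderOf t = 2 → Cfsg.HasNormalPComplement 2 ↥(Subgroup.centralizer ({t} : Set H)))
    (hCY : centralizer (pCore 2 H : Set H) ≤ pCore 2 H) :
    ∀ u f : H ⧸ pCore 2 H, orderOf u = 2 → Odd (orderOf f) → Commute u f → f = 1 := by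
  have : Fact (Nat.Prime 2) := ⟨Nat.prime_two⟩
  intro u f hu hf huf
  by_contra hf1
  obtain ⟨g, hg⟩ := QuotientGroup.mk'_surjective (pCore 2 H) (u * f)
  obtain ⟨a, m, hm, hn⟩ : ∃ a m : ℕ, Odd m ∧ orderOf g = 2 ^ a * m := by
    obtain ⟨a, m, hm, hn⟩ := Nat.exists_eq_two_pow_mul_odd (orderOf_pos g).ne'
    exact ⟨a, m, hm, hn⟩
  set c := g ^ m
  set x := g ^ 2 ^ a
  have hc : orderOf c ∣ 2 ^ a := orderOf_dvd_of_pow_eq_one (by
    rw [← pow_mul, mul_comm, ← hn, pow_orderOf_eq_one])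
  have hx : Odd (orderOf x) := hm.of_dvd_nat (orderOf_dvd_of_pow_eq_one (by
    rw [← pow_mul, ← hn, pow_orderOf_eq_one]))
  have hx1 : x ≠ 1 := by
    intro h
    have h1 := congrArg (QuotientGroup.mk' (pCore 2 H)) h
    rw [map_pow, hg, huf.mul_pow, map_one] at h1
    have hu2 : u ^ 2 = 1 := by
      have := pow_orderOf_eq_one u
      rwa [hu] at this
    have h2 : (f ^ 2 ^ a) ^ 2 = 1 := by
      have h3 := congrArg (· ^ 2) h1
      simp only [one_pow] at h3
      rwa [((huf.pow_pow _ _)).mul_pow, ← pow_mul u, mul_comm (2 ^ a), pow_mul u, hu2,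
        one_pow, one_mul] at h3
    rw [← pow_mul, ← pow_succ] at h2
    refine hf1 (orderOf_eq_one_iff.1 ?_)
    exact Nat.eq_one_of_dvd_coprimes ((Nat.coprime_two_left.2 hf).pow_left (a + 1))
      (orderOf_dvd_of_pow_eq_one h2) dvd_rfl
  have hc1 : c ≠ 1 := by
    intro h
    have h1 := congrArg (QuotientGroup.mk' (pCore 2 H)) h
    rw [map_pow, hg, huf.mul_pow, map_one] at h1
    have hum : u ^ m = u := by
      obtain ⟨r, rfl⟩ := hm
      rw [pow_succ, pow_mul, (orderOf_dvd_iff_pow_eq_one (x := u)).1 hu.dvd, one_pow, one_mul]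
    rw [hum] at h1
    have : orderOf u ∣ orderOf f := by
      rw [eq_inv_of_mul_eq_one_left h1, orderOf_inv]; exact orderOf_pow_dvd m
    rw [hu] at this
    exact (Nat.not_even_iff_odd.2 hf) (even_iff_two_dvd.2 this)
  obtain ⟨i, -, hi⟩ := (Nat.dvd_prime_pow Nat.prime_two).1 hc
  have hdvd : 2 ∣ orderOf c := by
    rw [hi]; exact dvd_pow_self 2 fun h => hc1 (orderOf_eq_one_iff.1 (by rw [hi, h, pow_zero]))
  set t := c ^ (orderOf c / 2)
  have ht : orderOf t = 2 := orderOf_pow_orderOf_div (orderOf_pos c).ne' hdvd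
  have hY : pCore 2 H ≠ ⊥ := fun h => hx1 (by
    rw [← mem_bot, ← h]
    exact hCY (mem_centralizer_iff.2 fun y hy => by
      rw [h, SetLike.mem_coe, mem_bot] at hy
      rw [hy, one_mul, mul_one]))
  obtain ⟨z, hz, hz1, hzt⟩ := exists_core_commute (t := t) ⟨1, by rw [ht, pow_one]⟩ hY
  exact hx1 (eq_one_of_commute hI hCY hx hz hz1
    (core_key hI hx ht (((Commute.refl g).pow_pow _ _).pow_right _) hz hzt))

/-- The structure of a solvable group with trivial `O₂` whose involutions fix no odd order element. -/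
theorem quotient_structure {Q : Type*} [Group Q] [Finite Q] [Group.IsSolvable Q] (h2 : pCore 2 Q = ⊥)
    (hfix : ∀ u f : Q, orderOf u = 2 → Odd (orderOf f) → Commute u f → f = 1)
    (X : Subgroup Q) [IsZGroup ↥X] (hodd : Odd (Nat.card X)) {j : ℕ} (hj : X.index = 2 ^ j) :
    X.Normal ∧ ∀ _ : X.Normal, IsCyclic (Q ⧸ X) := by
  have : Fact (Nat.Prime 2) := ⟨Nat.prime_two⟩
  set F := fittingSubgroup Q
  have hFn : F.Normal := Cores.fittingSubgroup_normal
  have hFnil : Group.IsNilpotent ↥F := Cores.fittingSubgroup_isNilpotent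
  have hFodd : Odd (Nat.card F) := by
    rw [Nat.odd_iff, ← Nat.two_dvd_ne_zero]
    intro hd
    let P : Sylow 2 F := default
    have hPn : (P : Subgroup F).Normal := P.normal_of_normalizerCondition Group.normalizerCondition_of_isNilpotent
    have hle := (Subgroup.map_mono (f := F.subtype) (Cores.le_pCore (N := (P : Subgroup F)) P.2)).trans
      (Cores.map_pCore_le_of_normal (p := 2) F)
    rw [h2, le_bot_iff, map_eq_bot_iff_of_injective _ F.subtype_injective] at hle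
    exact P.not_dvd_index (by rw [hle, index_bot]; exact hd)
  -- F is contained in X
  have hFX : F ≤ X := by
    have hsup : Odd (Nat.card ↥(F ⊔ X)) := by
      have h := relIndex_mul_relIndex ⊥ F (F ⊔ X) bot_le le_sup_left
      rw [relIndex_bot_left, relIndex_bot_left, sup_comm, relIndex_sup_right] at h
      rw [sup_comm, ← h]
      exact hFodd.mul (hodd.of_dvd_nat (relIndex_dvd_card F X))
    have h1 : X.relIndex (F ⊔ X) ∣ 2 ^ j := hj ▸ relIndex_dvd_index_of_le le_sup_right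
    have h2' : Odd (X.relIndex (F ⊔ X)) := hsup.of_dvd_nat (index_dvd_card _)
    have := Nat.eq_one_of_dvd_coprimes ((Nat.coprime_two_left.2 h2').pow_left j) h1 dvd_rfl
    exact le_sup_left.trans (relIndex_eq_one.1 this)
  have : IsZGroup ↥F := IsZGroup.of_injective (f := inclusion hFX) (inclusion_injective hFX)
  have : IsCyclic ↥F := inferInstance
  obtain ⟨f0, hf0⟩ := IsCyclic.exists_generator (α := ↥F)
  -- every commutator lies in F
  have hpow : ∀ q : Q, ∃ a : ℤ, q * (f0 : Q) * q⁻¹ = (f0 : Q) ^ a := fun q => by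
    obtain ⟨a, ha⟩ := mem_zpowers_iff.1 (hf0 ⟨_, hFn.conj_mem _ f0.2 q⟩)
    exact ⟨a, (congrArg Subtype.val ha).symm.trans (by simp)⟩
  have hcF : ∀ q : Q, Commute q (f0 : Q) → q ∈ F := by
    intro q hq
    refine Cores.centralizer_fittingSubgroup_le (mem_centralizer_iff.2 fun f hf => ?_)
    obtain ⟨i, hi⟩ := mem_zpowers_iff.1 (hf0 ⟨f, hf⟩)
    rw [show f = (f0 : Q) ^ i from (congrArg Subtype.val hi).symm.trans (by simp)]
    exact (hq.zpow_right i).eq.symm
  have hcomm : ∀ q r : Q, q * r * q⁻¹ * r⁻¹ ∈ F := by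
    intro q r
    refine hcF _ ?_
    obtain ⟨a, ha⟩ := hpow q
    obtain ⟨b, hb⟩ := hpow r
    have h1 : q * r * (f0 : Q) * (q * r)⁻¹ = r * q * (f0 : Q) * (r * q)⁻¹ := by
      calc q * r * (f0 : Q) * (q * r)⁻¹ = q * (r * f0 * r⁻¹) * q⁻¹ := by group
        _ = (f0 : Q) ^ (a * b) := by rw [hb, ← conj_zpow, ha, zpow_mul]
        _ = r * (q * f0 * q⁻¹) * r⁻¹ := by rw [ha, ← conj_zpow, hb, ← zpow_mul, mul_comm]
        _ = _ := by group
    obtain ⟨k, hk⟩ := hpow (r * q)⁻¹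
    have h2 : q * r * (f0 : Q) ^ k * (q * r)⁻¹ = f0 := by
      rw [← conj_zpow, h1, conj_zpow, ← hk]; group
    show q * r * q⁻¹ * r⁻¹ * f0 = f0 * (q * r * q⁻¹ * r⁻¹)
    calc q * r * q⁻¹ * r⁻¹ * (f0 : Q) = q * r * ((r * q)⁻¹ * f0 * (r * q)⁻¹⁻¹) * (q * r)⁻¹ * (q * r * q⁻¹ * r⁻¹) := by group
      _ = _ := by rw [hk, h2]
  have hXn : X.Normal := ⟨fun x hx q => by
    have := X.mul_mem (hFX (hcomm q x)) hx
    rwa [inv_mul_cancel_right] at this⟩
  refine ⟨hXn, fun _ => ?_⟩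
  -- a Sylow 2-subgroup is cyclic
  let U : Sylow 2 Q := default
  have hUF : ∀ q ∈ (U : Subgroup Q), q ∈ F → q = 1 := by
    intro q hq hqF
    obtain ⟨i, hi⟩ := IsPGroup.iff_orderOf.1 U.2 ⟨q, hq⟩
    rw [Subgroup.orderOf_mk] at hi
    have hqo : Odd (orderOf q) := by
      rw [← Subgroup.orderOf_mk q hqF]; exact hFodd.of_dvd_nat (orderOf_dvd_natCard _)
    refine orderOf_eq_one_iff.1 (Nat.eq_one_of_dvd_coprimes ((Nat.coprime_two_left.2 hqo).pow_left i) (hi ▸ dvd_rfl) dvd_rfl)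
  have hUab : IsMulCommutative ↥(U : Subgroup Q) := ⟨⟨fun a b => Subtype.ext (by
    have := hUF _ (mul_mem (mul_mem (mul_mem a.2 b.2) (inv_mem a.2)) (inv_mem b.2)) (hcomm a b)
    exact mul_inv_eq_iff_eq_mul.1 (mul_inv_eq_one.1 this))⟩⟩
  have hUc : IsCyclic ↥(U : Subgroup Q) := by
    by_contra hnc
    obtain ⟨p, hp, x, y, hxp, hyp, hx1, hy⟩ := Coprime.exists_pair_of_not_isCyclic hnc
    have := Fact.mk hp
    have hp2 : p = 2 := by
      obtain ⟨i, hi⟩ := IsPGroup.iff_orderOf.1 U.2 x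
      have h := orderOf_eq_prime hxp hx1
      rw [h] at hi
      exact (Nat.prime_dvd_prime_iff_eq hp Nat.prime_two).1 (hp.dvd_of_dvd_pow (m := 2) (n := i) (by rw [← hi]))
    subst hp2
    have hy1 : y ≠ 1 := fun h => hy (h ▸ one_mem _)
    have hinv : ∀ v : ↥(U : Subgroup Q), v ^ 2 = 1 → v ≠ 1 → (v : Q) * f0 * (v : Q)⁻¹ = (f0 : Q)⁻¹ := by
      intro v hv hv1
      have hvo : orderOf (v : Q) = 2 := by rw [Subgroup.orderOf_coe]; exact orderOf_eq_prime hv hv1
      have hvv : (v : Q) * v = 1 := by rw [← pow_two]; exact orderOf_dvd_iff_pow_eq_one.1 hvo.dvd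
      obtain ⟨a, ha⟩ := hpow v
      set e := (f0 : Q) * ((v : Q) * f0 * (v : Q)⁻¹) with he
      have heF : e ∈ F := mul_mem f0.2 (hFn.conj_mem _ f0.2 v)
      have hcf : Commute (f0 : Q) ((v : Q) * f0 * (v : Q)⁻¹) := by
        rw [ha]; exact (Commute.refl _).zpow_right a
      have hev : Commute (v : Q) e := by
        show (v : Q) * e = e * v
        rw [← mul_inv_eq_iff_eq_mul, he]
        calc (v : Q) * ((f0 : Q) * ((v : Q) * f0 * (v : Q)⁻¹)) * (v : Q)⁻¹
            = ((v : Q) * f0 * (v : Q)⁻¹) * (((v : Q) * v) * f0 * ((v : Q) * v)⁻¹) := by group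
          _ = _ := by rw [hvv, one_mul, inv_one, mul_one, hcf.eq]
      have := hfix v e hvo (by rw [← Subgroup.orderOf_mk e heF]; exact hFodd.of_dvd_nat (orderOf_dvd_natCard _)) hev
      exact eq_inv_of_mul_eq_one_right this
    have hz : ((x * y : ↥(U : Subgroup Q)) : Q) = 1 := by
      refine hUF _ (x * y).2 (hcF _ ?_)
      show ((x : Q) * y) * f0 = f0 * ((x : Q) * y)
      rw [← mul_inv_eq_iff_eq_mul]
      calc (x : Q) * y * f0 * ((x : Q) * y)⁻¹ = x * ((y : Q) * f0 * (y : Q)⁻¹) * (x : Q)⁻¹ := by group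
        _ = ((x : Q) * f0 * (x : Q)⁻¹)⁻¹ := by rw [hinv y hyp hy1]; group
        _ = _ := by rw [hinv x hxp hx1, inv_inv]
    apply hy
    have : y = x⁻¹ := eq_inv_of_mul_eq_one_right (Subtype.ext hz)
    rw [this]
    exact inv_mem (mem_zpowers x)
  refine isCyclic_of_surjective ((QuotientGroup.mk' X).comp (U : Subgroup Q).subtype) ?_
  rw [← MonoidHom.range_eq_top, MonoidHom.range_comp, Subgroup.range_subtype, ← index_eq_one]
  refine Nat.eq_one_of_dvd_coprimes (k := _) ?_ (index_map_dvd (U : Subgroup Q) (QuotientGroup.mk'_surjective X))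
    (index_dvd_card _)
  show Nat.Coprime _ (Nat.card (Q ⧸ X))
  rw [show Nat.card (Q ⧸ X) = 2 ^ j from hj]
  exact ((Nat.prime_two.coprime_iff_not_dvd.2 U.not_dvd_index).pow_left j).symm

/-- Let H be a finite solvable group with no nontrivial normal subgroup of odd order in which the centralizer of every involution has a normal 2-complement. Let X be a Hall 2'-subgroup of H (odd order, index a power of 2) and Y = O₂(H). Then no non-identity element of X commutes with a non-identity element of Y (so for X ≠ 1 the group XY is a Frobenius group with kernel Y), every Sylow subgroup of X is cyclic, XY is normal in H, and H/XY is a cyclic 2-group. -/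
theorem result {H : Type*} [Group H] [Finite H] (hsol : Group.IsSolvable H)
    (hO : Cfsg.oddCore H = ⊥)
    (hI : ∀ t : H, orderOf t = 2 → Cfsg.HasNormalPComplement 2 ↥(Subgroup.centralizer ({t} : Set H)))
    (X : Subgroup H) (hXodd : Odd (Nat.card X)) (hXidx : ∃ k : ℕ, X.index = 2 ^ k) :
    (∀ x ∈ X, x ≠ 1 → ∀ y ∈ Cfsg.pCore 2 H, y ≠ 1 → x * y ≠ y * x) ∧
      (∀ (p : ℕ) [Fact p.Prime] (P : Sylow p ↥X), IsCyclic ↥(P : Subgroup ↥X)) ∧
      (X ⊔ Cfsg.pCore 2 H).Normal ∧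
      ∀ hN : (X ⊔ Cfsg.pCore 2 H).Normal, IsCyclic (H ⧸ (X ⊔ Cfsg.pCore 2 H)) ∧ IsPGroup 2 (H ⧸ (X ⊔ Cfsg.pCore 2 H)) := by
  have : Fact (Nat.Prime 2) := ⟨Nat.prime_two⟩
  have : Group.IsSolvable H := hsol
  have hCY : centralizer (pCore 2 H : Set H) ≤ pCore 2 H :=
    Cores.centralizer_pCore_le Cores.isPSolvable_of_isSolvable hO
  have hfpf : ∀ x : H, Odd (orderOf x) → x ≠ 1 → ∀ y ∈ pCore 2 H, y ≠ 1 → x * y ≠ y * x :=
    fun x hx hx1 y hy hy1 h => hx1 (eq_one_of_commute hI hCY hx hy hy1 h)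
  have hXo : ∀ x ∈ X, Odd (orderOf x) := fun x hx => by
    rw [← Subgroup.orderOf_mk x hx]
    exact hXodd.of_dvd_nat (orderOf_dvd_natCard _)
  have hZ : IsZGroup ↥X := by
    rcases subsingleton_or_nontrivial ↥X with h | h
    · infer_instance
    have : Nontrivial ↥(pCore 2 H) := by
      rw [nontrivial_iff_ne_bot]
      intro hb
      rw [hb] at hCY
      obtain ⟨x, hx⟩ := exists_ne (1 : ↥X)
      refine hx (Subtype.ext (mem_bot.1 (hCY (mem_centralizer_iff.2 fun y hy => ?_))))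
      rw [mem_bot.1 hy, one_mul, mul_one]
    let φ : ↥X →* MulAut ↥(pCore 2 H) := (MulAut.conjNormal (H := pCore 2 H)).comp X.subtype
    refine S0341.isZGroup_of_fpf φ (fun c hc y hy => ?_) hXodd
    by_contra hy1
    refine hfpf c (hXo _ c.2) (by simpa using hc) y y.2 (by simpa using hy1) ?_
    have h' := congrArg Subtype.val hy
    simp only [φ, MonoidHom.comp_apply, Subgroup.coe_subtype, MulAut.conjNormal_apply] at h'
    exact mul_inv_eq_iff_eq_mul.1 h'
  refine ⟨fun x hx hx1 => hfpf x (hXo x hx) hx1, fun p _ P => inferInstance, ?_⟩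
  obtain ⟨k, hk⟩ := hXidx
  -- pass to the quotient by O₂
  set Y := pCore 2 H
  set π := QuotientGroup.mk' Y
  set Xb := X.map π
  have hXb : Odd (Nat.card Xb) := hXodd.of_dvd_nat (card_map_dvd X π)
  obtain ⟨j, -, hj⟩ := (Nat.dvd_prime_pow Nat.prime_two).1 (hk ▸ index_map_dvd X (f := π) (QuotientGroup.mk'_surjective Y))
  have : IsZGroup ↥Xb := IsZGroup.of_surjective (f := π.subgroupMap X) (MonoidHom.subgroupMap_surjective π X)
  have hfix := fixed_free hI hCY
  obtain ⟨hXn, hcyc⟩ := quotient_structure (Cores.pCore_quotient_pCore (p := 2) (G := H)) hfix Xb hXb hj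
  have hcomap : Xb.comap π = X ⊔ Y := by rw [comap_map_eq, QuotientGroup.ker_mk']
  have hN : (X ⊔ Y).Normal := hcomap ▸ hXn.comap π
  refine ⟨hN, fun _ => ⟨?_, ?_⟩⟩
  · have := hcyc hXn
    refine isCyclic_of_injective (QuotientGroup.map (X ⊔ Y) Xb π hcomap.ge) ?_
    rw [← MonoidHom.ker_eq_bot_iff, eq_bot_iff]
    intro u hu
    induction u using QuotientGroup.induction_on with
    | H h =>
      rw [MonoidHom.mem_ker, QuotientGroup.map_mk, QuotientGroup.eq_one_iff] at hu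
      rw [mem_bot, QuotientGroup.eq_one_iff]
      exact hcomap.le hu
  · obtain ⟨i, -, hi⟩ := (Nat.dvd_prime_pow Nat.prime_two).1 (hk ▸ index_dvd_of_le (le_sup_left : X ≤ X ⊔ Y))
    exact IsPGroup.of_card (show Nat.card (H ⧸ (X ⊔ Y)) = 2 ^ i from hi)

end Cfsg.Agent.S3215
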