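import Cfsg.Statements.S3216
import Cfsg.Agent.H35.JT.Setup
import Cfsg.Agent.Cores.PCore

set_option autoImplicit false
open Cfsg

namespace Cfsg.Agent.S3216

/-- Let G be a finite non-abelian simple group and t an involution of G; write C = C_G(t) and C̄ = C/O(C). If the subgroup of C̄ generated by its 2-elements (the smallest normal subgroup of C̄ of odd index) is isomorphic to Z₂ × PSL₂(q) for some prime power q > 3, then the Sylow 2-subgroups of G are elementary abelian of order 8. -/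
theorem result {G : Type*} [Group G] [Finite G] [IsSimpleGroup G]
    (hG : ¬ IsMulCommutative G) (t : G) (ht : orderOf t = 2) {F : Type*} [Field F] [Fintype F] (hF : 3 < Fintype.card F)
    (hL : Nonempty (↥(Subgroup.closure {x : (↥(Subgroup.centralizer ({t} : Set G)) ⧸ Cfsg.oddCore ↥(Subgroup.centralizer ({t} : Set G))) | ∃ k : ℕ, orderOf x = 2 ^ k}) ≃*
      (Multiplicative (ZMod 2) × Matrix.ProjectiveSpecialLinearGroup (Fin 2) F))) (S : Sylow 2 G) :
    Nat.card ↥(S : Subgroup G) = 8 ∧ ∀ x ∈ (S : Subgroup G), x ^ 2 = 1 := by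
  classical
  obtain ⟨e⟩ := hL
  set C : Subgroup G := Subgroup.centralizer ({t} : Set G)
  set K : Subgroup (↥C ⧸ Cfsg.oddCore ↥C) :=
    Subgroup.closure {x : (↥C ⧸ Cfsg.oddCore ↥C) | ∃ k : ℕ, orderOf x = 2 ^ k} with hK
  have hKn : K.Normal := ⟨fun x hx g => by
    rw [hK] at hx ⊢
    induction hx using Subgroup.closure_induction with
    | mem y hy =>
      obtain ⟨k, hk⟩ := hy
      refine Subgroup.subset_closure ⟨k, ?_⟩
      rw [← hk]
      exact orderOf_injective (MulAut.conj g).toMonoidHom (MulAut.conj g).injective y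
    | one => simp
    | mul a b _ _ ha hb =>
      have := mul_mem ha hb
      rwa [show g * a * g⁻¹ * (g * b * g⁻¹) = g * (a * b) * g⁻¹ by group] at this
    | inv a _ ha =>
      have := inv_mem ha
      rwa [show (g * a * g⁻¹)⁻¹ = g * a⁻¹ * g⁻¹ by group] at this⟩
  let π : ↥C →* ↥C ⧸ Cfsg.oddCore ↥C := QuotientGroup.mk' _
  let N : Subgroup ↥C := K.comap π
  let f : N →* Multiplicative (ZMod 2) × Matrix.ProjectiveSpecialLinearGroup (Fin 2) F :=
    e.toMonoidHom.comp (π.subgroupComap K)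
  have hf : Function.Surjective f := e.surjective.comp
    (MonoidHom.subgroupComap_surjective_of_surjective π K (QuotientGroup.mk'_surjective _))
  have hf1 : ∀ n : N, f n = 1 ↔ π (n : ↥C) = 1 := fun n => by
    show e (π.subgroupComap K n) = 1 ↔ _
    rw [map_eq_one_iff e e.injective, Subtype.ext_iff]
    rfl
  have : Finite (Matrix.ProjectiveSpecialLinearGroup (Fin 2) F) :=
    Finite.of_surjective (QuotientGroup.mk' _) (QuotientGroup.mk'_surjective _)
  have hq : 4 ≤ Nat.card F := by rw [Nat.card_eq_fintype_card]; omega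
  have hsim : IsSimpleGroup (Matrix.ProjectiveSpecialLinearGroup (Fin 2) F) :=
    Linear.isSimpleGroup_PSL_fin le_rfl fun _ => hq
  have : Nontrivial (Fin 2) := Fin.nontrivial_iff_two_le.mpr le_rfl
  obtain ⟨a, b, hab⟩ := Linear.exists_not_commute_PSL (ι := Fin 2) (F := F)
    (Or.inr (Linear.exists_sq_ne_one_of_card hq))
  refine H35.JT.sylow_elem_eight (H35.JT.no_index_two hG) ht ?_ ?_ H35.JT.psl_one_class ?_ N
    ?_ f hf ?_ ?_ S
  · intro χ
    refine MonoidHom.ext fun l => ?_
    rcases (MonoidHom.normal_ker χ).eq_bot_or_eq_top with h | h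
    · exact absurd ((MonoidHom.ker_eq_bot_iff χ).1 h (by rw [map_mul, map_mul, mul_comm])) hab
    · exact MonoidHom.mem_ker.1 (h ▸ Subgroup.mem_top l : l ∈ χ.ker)
  · intro z hz
    rcases (inferInstance : (Subgroup.center (Matrix.ProjectiveSpecialLinearGroup (Fin 2) F)).Normal).eq_bot_or_eq_top with h | h
    · have : z ∈ Subgroup.center (Matrix.ProjectiveSpecialLinearGroup (Fin 2) F) :=
        Subgroup.mem_center_iff.2 fun l => (hz l).symm
      rwa [h, Subgroup.mem_bot] at this
    · exact absurd (Subgroup.mem_center_iff.1 (h ▸ Subgroup.mem_top b : b ∈ Subgroup.center _) a) hab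
  · intro P
    by_cases hodd : Odd (Fintype.card F)
    · rcases H35.JT.psl_sylow_odd hodd P with h | ⟨hsq, h4⟩
      · exact Or.inl h
      · exact Or.inr ⟨hsq, h4.ge, H35.JT.scalar_of_four P h4 hsq H35.JT.psl_one_class⟩
    · obtain ⟨p, hp⟩ := CharP.exists F
      obtain ⟨n, hpr, hn⟩ := FiniteField.card F p
      have hp2 : p = 2 := (hpr.eq_two_or_odd').resolve_right fun ho => hodd (hn ▸ ho.pow)
      subst hp2
      exact Or.inr (H35.JT.psl_sylow_char_two hF P)
  · rintro x ⟨k, hk⟩
    obtain ⟨i, -, hi⟩ := (Nat.dvd_prime_pow Nat.prime_two).1 (hk ▸ orderOf_map_dvd π x)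
    exact Subgroup.subset_closure ⟨i, hi⟩
  · intro n hn
    have hmem : (n : ↥C) ∈ Cfsg.oddCore ↥C := (QuotientGroup.eq_one_iff _).1 ((hf1 n).1 hn)
    refine Cfsg.Agent.Cores.odd_card_oddCore (G := ↥C) |>.of_dvd_nat ?_
    have h1 := orderOf_dvd_natCard (⟨(n : ↥C), hmem⟩ : Cfsg.oddCore ↥C)
    rwa [Subgroup.orderOf_mk, Subgroup.orderOf_coe] at h1
  · intro c n hn
    refine (hf1 _).2 ?_
    show π (c * (n : ↥C) * c⁻¹) = 1
    rw [map_mul, map_mul, (hf1 n).1 hn, map_inv, mul_one, mul_inv_cancel]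

end Cfsg.Agent.S3216
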