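import Cfsg.Statements.S3222
import Mathlib
import Cfsg.Agent.H64.CentSym.IndexTwo

set_option autoImplicit false
open Cfsg

namespace Cfsg.Agent.S3222

/-- Let G be a finite group of even order such that (1) some involution t lying in the centre of a Sylow 2-subgroup of G has C_G(t) ≅ Z₂ × S₄, and (2) every Sylow 2-subgroup S of G satisfies C_G(S′) = S, where S′ is the derived subgroup of S. Then G = C_G(t) if G is solvable, and G ≅ S₆ otherwise. -/
theorem result {G : Type*} [Group G] [Finite G] (hev : Even (Nat.card G))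
    (t : G) (ht : orderOf t = 2) (T : Sylow 2 G) (htT : t ∈ (T : Subgroup G)) (htc : ∀ s ∈ (T : Subgroup G), s * t = t * s)
    (e : ↥(Subgroup.centralizer ({t} : Set G)) ≃* (Multiplicative (ZMod 2) × Equiv.Perm (Fin 4)))
    (h2 : ∀ S : Sylow 2 G, Subgroup.centralizer ((⁅(S : Subgroup G), (S : Subgroup G)⁆ : Subgroup G) : Set G) = (S : Subgroup G)) :
    (Group.IsSolvable G → Subgroup.centralizer ({t} : Set G) = ⊤) ∧
      (¬ Group.IsSolvable G → Nonempty (G ≃* Equiv.Perm (Fin 6))) := by
  obtain ⟨E, rfl⟩ := H64.CentSym.exists_data t ht T htc e (h2 T)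
  rcases E.main with h | ⟨⟨f⟩⟩
  · have htop : Subgroup.centralizer ({E.t} : Set G) = ⊤ :=
      eq_top_iff.2 fun g _ => Subgroup.mem_centralizer_singleton_iff.2 (h g).eq
    refine ⟨fun _ => htop, fun hns => absurd ?_ hns⟩
    have hsurj : Function.Surjective E.inc := fun g => E.exists_inc g (h g)
    have : Group.IsSolvable (Equiv.Perm (Fin 4)) := Cfsg.Agent.H77.isSolvable_perm_four (by simp)
    exact Group.isSolvable_of_surjective hsurj
  · refine ⟨fun hs => absurd ?_ (Equiv.Perm.not_isSolvable (Fin 6) (by simp only [Cardinal.mk_fin]; norm_num)), fun _ => ⟨f⟩⟩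
    exact Group.isSolvable_of_surjective (f := f.toMonoidHom) f.surjective

end Cfsg.Agent.S3222
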