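import Cfsg.Statements.S3225
import Mathlib

set_option autoImplicit false
open Cfsg

namespace Cfsg.Agent.S3225

/-- Let G be a finite group of even order with no subgroup of index 2, S a Sylow 2-subgroup of G and M a subgroup of index 2 in S such that, for some n ≥ 1, every element of S outside M has order greater than 2^(n−1). Then every element of S of order 2ⁿ is conjugate in G to an element of M. -/
theorem result {G : Type*} [Group G] [Finite G] (hev : Even (Nat.card G))
    (hG : ∀ H : Subgroup G, H.index ≠ 2) (S : Sylow 2 G) (M : Subgroup G) (hMS : M ≤ (S : Subgroup G)) (hM : M.relIndex (S : Subgroup G) = 2)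
    (n : ℕ) (hn : 1 ≤ n) (hord : ∀ y ∈ (S : Subgroup G), y ∉ M → 2 ^ (n - 1) < orderOf y)
    (x : G) (hx : x ∈ (S : Subgroup G)) (hxn : orderOf x = 2 ^ n) :
    ∃ g : G, g * x * g⁻¹ ∈ M := by
  classical
  by_contra hcon
  push Not at hcon
  have hS : IsPGroup 2 ↥(S : Subgroup G) := S.2
  set M' := M.subgroupOf (S : Subgroup G) with hM'
  have : Fact (Nat.Prime 2) := ⟨Nat.prime_two⟩
  have hMi : M'.index = 2 := hM
  have : M'.Normal := Subgroup.normal_of_index_eq_two hMi
  have hQc : IsCyclic (↥(S : Subgroup G) ⧸ M') := isCyclic_of_prime_card (p := 2) hMi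
  letI : CommGroup (↥(S : Subgroup G) ⧸ M') := IsCyclic.commGroup
  let φ : ↥(S : Subgroup G) →* ↥(S : Subgroup G) ⧸ M' := QuotientGroup.mk' M'
  have hφ : ∀ z : ↥(S : Subgroup G), φ z = 1 ↔ (z : G) ∈ M := fun z => QuotientGroup.eq_one_iff z
  set c := φ ⟨x, hx⟩
  have hc : c ≠ 1 := fun h => hcon 1 (by simpa using (hφ _).1 h)
  have h2c : ∀ z : ↥(S : Subgroup G) ⧸ M', z ≠ 1 → z = c := by
    intro z hz
    have hcard : Nat.card (↥(S : Subgroup G) ⧸ M') = 2 := hMi
    obtain ⟨u, v, huv, h⟩ := Nat.card_eq_two_iff.1 hcard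
    have m : ∀ w, w = u ∨ w = v := fun w => by
      have := h.ge (Set.mem_univ w); simpa using this
    rcases m z with rfl | rfl <;> rcases m c with h' | h' <;> rcases m 1 with h'' | h'' <;> grind
  let ψ : G →* ↥(S : Subgroup G) ⧸ M' := MonoidHom.transfer φ
  suffices hx1 : ψ x = c by
    apply hG ψ.ker
    rw [Subgroup.index_ker]
    have : ψ.range = ⊤ := by
      refine Subgroup.eq_top_iff' _ |>.2 fun z => ?_
      by_cases hz : z = 1
      · exact hz ▸ one_mem _
      · exact h2c z hz ▸ hx1 ▸ ⟨x, rfl⟩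
    rw [this, Subgroup.card_top]; exact hMi
  let Ω := G ⧸ (S : Subgroup G)
  let Q := Quotient (MulAction.orbitRel (Subgroup.zpowers x) Ω)
  have : Fintype Q := Fintype.ofFinite _
  have e := MonoidHom.transfer_eq_prod_quotient_orbitRel_zpowers_quot φ x
  rw [e]
  -- each orbit contributes c when fixed, 1 otherwise
  have hval : ∀ q : Q,
      φ ⟨q.out.out⁻¹ * x ^ Function.minimalPeriod (x • ·) q.out * q.out.out,
        QuotientGroup.out_conj_pow_minimalPeriod_mem (S : Subgroup G) x q.out⟩ =
      if x • q.out = q.out then c else 1 := by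
    intro q
    set k := Function.minimalPeriod (x • ·) q.out
    split_ifs with hq
    · have hk : k = 1 := Function.minimalPeriod_eq_one_iff_isFixedPt.2 hq
      refine h2c _ fun h => hcon q.out.out⁻¹ ?_
      have := (hφ _).1 h
      have hk' : Function.minimalPeriod (x • ·) q.out = 1 := hk
      simp only [hk', pow_one] at this
      simpa [hk'] using this
    · have hk1 : k ≠ 1 := fun h => hq (Function.minimalPeriod_eq_one_iff_isFixedPt.1 h)
      have hkd : k ∣ 2 ^ n := by
        refine Function.IsPeriodicPt.minimalPeriod_dvd ?_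
        rw [Function.IsPeriodicPt, Function.IsFixedPt, smul_iterate, ← hxn]
        simp [pow_orderOf_eq_one]
      obtain ⟨j, -, hj⟩ := (Nat.dvd_prime_pow Nat.prime_two).1 hkd
      have hj1 : 1 ≤ j := by
        rcases Nat.eq_zero_or_pos j with rfl | h
        · exact absurd (by simpa using hj) hk1
        · exact h
      rw [hφ]
      by_contra hnm
      have h' := hord _ (QuotientGroup.out_conj_pow_minimalPeriod_mem (S : Subgroup G) x q.out) hnm
      have hle : orderOf (q.out.out⁻¹ * x ^ k * q.out.out) ≤ 2 ^ (n - 1) := by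
        refine Nat.le_of_dvd (by positivity) (orderOf_dvd_of_pow_eq_one ?_)
        have h2 : x ^ (k * 2 ^ (n - 1)) = 1 := by
          rw [← orderOf_dvd_iff_pow_eq_one, hxn, hj, ← pow_add]
          exact pow_dvd_pow 2 (by omega)
        have := conj_pow (i := 2 ^ (n - 1)) (a := q.out.out⁻¹) (b := x ^ k)
        rw [inv_inv] at this
        rw [this, ← pow_mul, h2]; group
      exact absurd h' (not_lt.2 hle)
  rw [Finset.prod_congr rfl (fun q _ => hval q), Finset.prod_ite, Finset.prod_const, Finset.prod_const_one, mul_one]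
  -- parity of the number of fixed points
  have hxP : IsPGroup 2 (Subgroup.zpowers x) := IsPGroup.of_card (n := n) (by rw [Nat.card_zpowers, hxn])
  have hmod := hxP.card_modEq_card_fixedPoints Ω
  have hodd : ¬ 2 ∣ Nat.card Ω := S.not_dvd_index
  have hfix : Nat.card (MulAction.fixedPoints (Subgroup.zpowers x) Ω) = (Finset.univ.filter fun q : Q => x • q.out = q.out).card := by
    rw [← Nat.card_eq_finsetCard]
    have hf : ∀ ω : Ω, x • ω = ω → (Quotient.mk'' ω : Q).out = ω := by
      intro ω hω
      have h : (MulAction.orbitRel (Subgroup.zpowers x) Ω).r (Quotient.mk'' ω : Q).out ω :=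
        Quotient.mk_out' ω
      obtain ⟨⟨g, hg⟩, hg'⟩ := h
      obtain ⟨i, rfl⟩ := Subgroup.mem_zpowers_iff.1 hg
      rw [← hg']
      show x ^ i • ω = ω
      exact MulAction.mem_stabilizer_iff.1 (zpow_mem (MulAction.mem_stabilizer_iff.2 hω) i)
    have hfix' : ∀ ω : Ω, ω ∈ MulAction.fixedPoints (Subgroup.zpowers x) Ω ↔ x • ω = ω := by
      intro ω
      constructor
      · exact fun h => h ⟨x, Subgroup.mem_zpowers x⟩
      · rintro h ⟨g, hg⟩
        obtain ⟨i, rfl⟩ := Subgroup.mem_zpowers_iff.1 hg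
        exact MulAction.mem_stabilizer_iff.1 (zpow_mem (MulAction.mem_stabilizer_iff.2 h) i)
    refine Nat.card_congr
      { toFun := fun ω => ⟨Quotient.mk'' ω.1, ?_⟩
        invFun := fun q => ⟨q.1.out, (hfix' _).2 (Finset.mem_filter.1 q.2).2⟩
        left_inv := fun ω => Subtype.ext (hf ω.1 ((hfix' _).1 ω.2))
        right_inv := fun q => Subtype.ext (Quotient.out_eq' q.1) }
    rw [Finset.mem_filter]
    refine ⟨Finset.mem_univ _, ?_⟩
    rw [hf ω.1 ((hfix' _).1 ω.2)]
    exact (hfix' _).1 ω.2
  rw [← hfix]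
  have hoddf : Odd (Nat.card (MulAction.fixedPoints (Subgroup.zpowers x) Ω)) := by
    rw [Nat.odd_iff]
    unfold Nat.ModEq at hmod
    omega
  obtain ⟨r, hr⟩ := hoddf
  have hc2 : c ^ 2 = 1 := by
    have := pow_card_eq_one' (x := c)
    rwa [show Nat.card (↥(S : Subgroup G) ⧸ M') = 2 from hMi] at this
  rw [hr, pow_add, pow_mul, hc2, one_pow, one_mul, pow_one]

end Cfsg.Agent.S3225
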