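import Cfsg.Statements.S3237
import Cfsg.Agent.H55.Quat.Reduce
import Cfsg.Agent.PGroups.Basic

set_option autoImplicit false
set_option linter.style.haveILetI false
open Cfsg

namespace Cfsg.Agent.S3237

open Cfsg.Agent Subgroup
open scoped commutatorElement

/-- Let G be a finite group of even order with an involution z, H = C_G(z), such that H has a normal subgroup E of order 32 that is extraspecial and contains no elementary abelian subgroup of order 8 (the central product of a dihedral group of order 8 with a quaternion group), C_H(E) ≤ E, and H/E ≅ S₄. Then O(G) is abelian, and if G is not solvable then G is isomorphic to the automorphism group of PGL₃(4). -/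
theorem result {G : Type*} [Group G] [Finite G]
    (hev : Even (Nat.card G)) (z : G) (hz : orderOf z = 2)
    (E : Subgroup ↥(Subgroup.centralizer ({z} : Set G))) [hEn : E.Normal] (hE : Cfsg.IsExtraspecial 2 ↥E) (hE32 : Nat.card ↥E = 32)
    (hEminus : ∀ A : Subgroup ↥E, Cfsg.IsElementaryAbelian 2 A → Nat.card ↥A ≠ 8)
    (hCE : Subgroup.centralizer (E : Set ↥(Subgroup.centralizer ({z} : Set G))) ≤ E)
    (e : (↥(Subgroup.centralizer ({z} : Set G)) ⧸ E) ≃* Equiv.Perm (Fin 4)) {F : Type*} [Field F] [Fintype F] (hF : Fintype.card F = 4) :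
    IsMulCommutative ↥(Cfsg.oddCore G) ∧
      (¬ Group.IsSolvable G → Nonempty (G ≃* MulAut (GL (Fin 3) F ⧸ Subgroup.center (GL (Fin 3) F)))) := by
  classical
  haveI : Fact (Nat.Prime 2) := ⟨Nat.prime_two⟩
  obtain ⟨⟨hEp, hEf, hEc⟩, hEz⟩ := hE
  have hzH : z ∈ (centralizer ({z} : Set G)) := mem_centralizer_singleton_iff.mpr rfl
  have hz2 : z * z = 1 := by rw [← pow_two, ← hz]; exact pow_orderOf_eq_one z
  have hz1 : z ≠ 1 := fun h => by rw [h, orderOf_one] at hz; omega
  let zH : (centralizer ({z} : Set G)) := ⟨z, hzH⟩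
  have hzc : ∀ c : (centralizer ({z} : Set G)), c * zH = zH * c := fun c => Subtype.ext (mem_centralizer_singleton_iff.mp c.2)
  have hzE : zH ∈ E := hCE (mem_centralizer_iff.mpr fun q _ => hzc q)
  let zE : E := ⟨zH, hzE⟩
  have hzEc : zE ∈ center E := mem_center_iff.mpr fun q => Subtype.ext (hzc q)
  have hzE1 : zE ≠ 1 := fun h => hz1 (congrArg (fun q : E => ((q : (centralizer ({z} : Set G))) : G)) h)
  have hcen : ∀ q ∈ center E, q = 1 ∨ q = zE := by
    intro q hq
    by_contra hcon
    push Not at hcon
    let g : Fin 3 → center E := ![1, ⟨zE, hzEc⟩, ⟨q, hq⟩]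
    have hg : Function.Injective g := by
      intro i j e
      have e' := congrArg Subtype.val e
      fin_cases i <;> fin_cases j <;> simp [g] at e' <;> first
        | rfl | exact absurd e' hzE1 | exact absurd e'.symm hzE1 | exact absurd e' hcon.1
        | exact absurd e'.symm hcon.1 | exact absurd e' hcon.2 | exact absurd e'.symm hcon.2
    have := Nat.card_le_card_of_injective g hg
    rw [hEz, Nat.card_eq_fintype_card, Fintype.card_fin] at this
    omega
  set E' := E.map (centralizer ({z} : Set G)).subtype with hE'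
  have hmem : ∀ {q : (centralizer ({z} : Set G))}, q ∈ E → (q : G) ∈ E' := fun {q} hq => ⟨q, hq, rfl⟩
  have hset : H55.Quat.Setup z E' := by
    refine ⟨hz, ?_, hmem hzE, ?_, ?_, ?_, ?_, ?_, ?_⟩
    · rw [hE', card_map_of_injective (centralizer ({z} : Set G)).subtype_injective, hE32]
    · rintro _ ⟨q, -, rfl⟩
      exact congrArg Subtype.val (hzc q)
    · intro c hc hall
      have hcE : (⟨c, mem_centralizer_singleton_iff.mpr hc⟩ : (centralizer ({z} : Set G))) ∈ E :=
        hCE (mem_centralizer_iff.mpr fun q hq => Subtype.ext (hall _ (hmem hq)))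
      rcases hcen ⟨_, hcE⟩ (mem_center_iff.mpr fun q => Subtype.ext (Subtype.ext (hall _ (hmem q.2)))) with e | e
      · exact Or.inl (congrArg (fun q : E => ((q : (centralizer ({z} : Set G))) : G)) e)
      · exact Or.inr (congrArg (fun q : E => ((q : (centralizer ({z} : Set G))) : G)) e)
    · rintro c hc _ ⟨q, hq, rfl⟩
      exact hmem (hEn.conj_mem q hq ⟨c, mem_centralizer_singleton_iff.mpr hc⟩)
    · rintro _ ⟨q, hq, rfl⟩
      have h2 : (⟨q, hq⟩ : E) ^ 2 ∈ frattini E := PGroups.pow_mem_frattini hEp _
      rw [hEf] at h2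
      rcases hcen _ h2 with e | e
      · exact Or.inl (by rw [← pow_two]; exact congrArg (fun q : E => ((q : (centralizer ({z} : Set G))) : G)) e)
      · exact Or.inr (by rw [← pow_two]; exact congrArg (fun q : E => ((q : (centralizer ({z} : Set G))) : G)) e)
    · rintro _ ⟨q, hq, rfl⟩ _ ⟨r, hr, rfl⟩
      have h2 : ⁅(⟨q, hq⟩ : E), (⟨r, hr⟩ : E)⁆ ∈ commutator E := commutator_mem_commutator (mem_top _) (mem_top _)
      rw [hEc] at h2
      rcases hcen _ h2 with e | e <;> rw [commutatorElement_def] at e
      · refine Or.inl ?_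
        have e' : (q : G) * (r : G) * (q : G)⁻¹ * (r : G)⁻¹ = 1 := congrArg (fun q : E => ((q : (centralizer ({z} : Set G))) : G)) e
        exact mul_inv_eq_iff_eq_mul.mp (mul_inv_eq_one.mp e')
      · refine Or.inr ?_
        have e' : (q : G) * (r : G) * (q : G)⁻¹ * (r : G)⁻¹ = z := congrArg (fun q : E => ((q : (centralizer ({z} : Set G))) : G)) e
        show (q : G) * (r : G) = z * ((r : G) * (q : G))
        calc (q : G) * (r : G) = (q : G) * (r : G) * (q : G)⁻¹ * (r : G)⁻¹ * ((r : G) * (q : G)) := by group
          _ = z * ((r : G) * (q : G)) := by rw [e']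
    · rintro _ ⟨a, ha, rfl⟩ _ ⟨b, hb, rfl⟩ ha2 hb2 hab ha1 haz
      simp only [coe_subtype] at *
      by_contra hcon
      push Not at hcon
      obtain ⟨hb1, hbz, hba, hbaz⟩ := hcon
      let aE : E := ⟨a, ha⟩
      let bE : E := ⟨b, hb⟩
      let v : E →* G := (centralizer ({z} : Set G)).subtype.comp E.subtype
      have hv : Function.Injective v := (centralizer ({z} : Set G)).subtype_injective.comp E.subtype_injective
      let f : Bool × Bool × Bool → E := fun p =>
        (if p.1 then zE else 1) * ((if p.2.1 then aE else 1) * (if p.2.2 then bE else 1))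
      have cz : ∀ q : E, Commute zE q := fun q => (mem_center_iff.mp hzEc q).symm
      have cab : Commute aE bE := hv hab
      have sz : zE * zE = 1 := hv hz2
      have sa : aE * aE = 1 := hv ha2
      have sb : bE * bE = 1 := hv hb2
      have ite_sq : ∀ {x : E}, x * x = 1 → ∀ s t : Bool,
          (if s then x else 1) * (if t then x else 1) = if xor s t then x else 1 := by
        intro x hx s t
        cases s <;> cases t <;> simp [hx]
      have ite_comm : ∀ {x y : E}, Commute x y → ∀ s t : Bool,
          Commute (if s then x else 1) (if t then y else 1) := by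
        intro x y hxy s t
        cases s <;> cases t <;> simp [hxy]
      have fmul : ∀ p q, f p * f q = f (xor p.1 q.1, xor p.2.1 q.2.1, xor p.2.2 q.2.2) := by
        rintro ⟨p1, p2, p3⟩ ⟨q1, q2, q3⟩
        simp only [f]
        rw [Commute.mul_mul_mul_comm ((ite_comm (cz aE) q1 p2).symm.mul_left (ite_comm (cz bE) q1 p3).symm),
          ite_sq sz, Commute.mul_mul_mul_comm (ite_comm cab q2 p3).symm, ite_sq sa, ite_sq sb]
      have f1 : f (false, false, false) = 1 := by simp [f]
      let A : Subgroup E :=
        { carrier := Set.range f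
          one_mem' := ⟨_, f1⟩
          mul_mem' := by
            rintro _ _ ⟨p, rfl⟩ ⟨q, rfl⟩
            exact ⟨_, (fmul p q).symm⟩
          inv_mem' := by
            rintro _ ⟨p, rfl⟩
            exact ⟨p, eq_inv_of_mul_eq_one_left (by rw [fmul]; simp [f])⟩ }
      have fker : ∀ p, f p = 1 → p = (false, false, false) := by
        rintro ⟨p1, p2, p3⟩ hp
        have hp' := congrArg v hp
        have za : z * (a : G) ≠ 1 := fun e => haz (by rw [eq_inv_of_mul_eq_one_right e, inv_eq_of_mul_eq_one_left hz2])
        have zb : z * (b : G) ≠ 1 := fun e => hbz (by rw [eq_inv_of_mul_eq_one_right e, inv_eq_of_mul_eq_one_left hz2])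
        have ab : (a : G) * b ≠ 1 := fun e => hba (by rw [eq_inv_of_mul_eq_one_right e, inv_eq_of_mul_eq_one_left ha2])
        have zab : z * ((a : G) * b) ≠ 1 := fun e => hbaz (by
          calc (b : G) = (a : G) * a * b := by rw [ha2, one_mul]
            _ = a * (z * (z * ((a : G) * b))) := by rw [← mul_assoc z z, hz2, one_mul, mul_assoc]
            _ = _ := by rw [e, mul_one])
        cases p1 <;> cases p2 <;> cases p3 <;> simp [f, v, zE, zH, aE, bE] at hp' <;> first
          | rfl | exact absurd hp' hz1 | exact absurd hp' ha1 | exact absurd hp' hb1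
          | exact absurd hp' za | exact absurd hp' zb | exact absurd hp' ab | exact absurd hp' zab
          | exact absurd (congrArg Subtype.val hp') ha1 | exact absurd (congrArg Subtype.val hp') hb1
      have finj : Function.Injective f := by
        intro p q e
        have hq : f q * f q = 1 := by rw [fmul]; simp [f]
        have h0 := fker _ (show f (xor p.1 q.1, xor p.2.1 q.2.1, xor p.2.2 q.2.2) = 1 by rw [← fmul, e, hq])
        obtain ⟨p1, p2, p3⟩ := p
        obtain ⟨q1, q2, q3⟩ := q
        revert h0
        cases p1 <;> cases q1 <;> cases p2 <;> cases q2 <;> cases p3 <;> cases q3 <;> simp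
      refine hEminus A ⟨⟨⟨?_⟩⟩, ?_⟩ ?_
      · rintro ⟨_, p, rfl⟩ ⟨_, q, rfl⟩
        refine Subtype.ext ?_
        show f p * f q = f q * f p
        rw [fmul, fmul]; simp [Bool.xor_comm]
      · rintro _ ⟨p, rfl⟩
        rw [pow_two, fmul]; simp [f]
      · show Nat.card (Set.range f) = 8
        rw [Nat.card_range_of_injective finj, Nat.card_eq_fintype_card]
        rfl
  let π0 : ↥(centralizer ({z} : Set G)) →* Equiv.Perm (Fin 4) := e.toMonoidHom.comp (QuotientGroup.mk' E)
  have hπs : Function.Surjective π0 := e.surjective.comp (QuotientGroup.mk'_surjective E)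
  have hπk : ∀ c, π0 c = 1 ↔ (c : G) ∈ E' := by
    intro c
    show e (QuotientGroup.mk c) = 1 ↔ _
    rw [MulEquiv.map_eq_one_iff, QuotientGroup.eq_one_iff]
    refine ⟨hmem, fun ⟨q, hq, hqc⟩ => ?_⟩
    rwa [← (centralizer ({z} : Set G)).subtype_injective hqc]
  refine ⟨hset.core_commutative, fun hns => ?_⟩
  obtain ⟨Fr⟩ := H55.Quat.exists_frame hset π0 hπs hπk
  exact H55.Quat.main hset Fr (hset.core_bot π0 hπs hπk hns) hns hF

end Cfsg.Agent.S3237
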