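import Cfsg.Statements.S3245
import Cfsg.Agent.H82.OneTwoLocal.Main
import Cfsg.Agent.Bridge.Bender
import Cfsg.Agent.S0205

set_option autoImplicit false
open Cfsg

namespace Cfsg.Agent.S3245

open H82.OneTwoLocal Subgroup

/-- If all maximal 2-local subgroups of the non-abelian simple group G are conjugate then G is PSL2(2^n), a Suzuki group or PSU3(2^n). -/
theorem result {G : Type*} [Group G] [Finite G] [IsSimpleGroup G] (hG : ¬ IsMulCommutative G)
    (h1 : ∀ M M' : Subgroup G, Cfsg.IsMaximalTwoLocal M → Cfsg.IsMaximalTwoLocal M' → ∃ g : G, M' = M.map (MulAut.conj g).toMonoidHom) :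
    (∃ (F : Type) (_ : Field F) (_ : Fintype F) (n : ℕ), 2 ≤ n ∧ Fintype.card F = 2 ^ n ∧
        Nonempty (G ≃* Matrix.ProjectiveSpecialLinearGroup (Fin 2) F)) ∨
      Cfsg.Lie.IsoSuzuki G ∨
      (∃ (F : Type) (_ : Field F) (_ : Fintype F) (n : ℕ), 2 ≤ n ∧ Fintype.card F = (2 ^ n) ^ 2 ∧ Nonempty (G ≃* Cfsg.PSU 3 F (2 ^ n))) := by
  haveI : Fact (Nat.Prime 2) := ⟨Nat.prime_two⟩
  have hna : ∃ a b : G, a * b ≠ b * a := by
    by_contra hc
    push Not at hc
    exact hG ⟨⟨hc⟩⟩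
  obtain ⟨a, b, hab⟩ := hna
  have hns : ¬ Group.IsSolvable G := fun hs => hab (IsSimpleGroup.comm_iff_isSolvable.2 hs a b)
  have heven : Even (Nat.card G) := by
    rcases Nat.even_or_odd (Nat.card G) with h | h
    · exact h
    · exact absurd (S0205.result h) hns
  obtain ⟨S⟩ : Nonempty (Sylow 2 G) := inferInstance
  have hS : (S : Subgroup G) ≠ ⊥ := S.ne_bot_of_dvd_card heven.two_dvd
  obtain ⟨M, hM, hNM⟩ := exists_maximal_ge
    (N := normalizer ((S : Subgroup G) : Set G)) ⟨S, S.isPGroup', hS, rfl⟩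
  have hMtop : M ≠ ⊤ := fun e => by
    obtain ⟨T, hT, hT1, hMT⟩ := hM.1
    haveI : T.Normal := normalizer_eq_top_iff.1 (hMT.symm.trans e)
    rcases (show T.Normal from inferInstance).eq_bot_or_eq_top with h | h
    · exact hT1 h
    · haveI := hT.isNilpotent
      haveI : Group.IsNilpotent (⊤ : Subgroup G) := h ▸ this
      haveI : Group.IsSolvable (⊤ : Subgroup G) := inferInstance
      exact hns (Group.isSolvable_of_surjective
        (f := (Subgroup.topEquiv : (⊤ : Subgroup G) ≃* G).toMonoidHom)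
        (Subgroup.topEquiv : (⊤ : Subgroup G) ≃* G).surjective)
  have hSE := stronglyEmbedded hMtop S hS hNM fun M' hM' => h1 M M' hM hM'
  rcases Bridge.bender G ⟨a, b, hab⟩ M hSE with
    ⟨F, iF, iT, hc, h4, he⟩ | h | ⟨F, iF, iT, q, hF, hq, h4, he⟩
  · obtain ⟨n, -, hn⟩ := FiniteField.card F 2
    refine Or.inl ⟨F, iF, iT, n, ?_, hn, he⟩
    by_contra hlt
    have := Nat.pow_le_pow_right (show 1 ≤ 2 by norm_num) (Nat.lt_succ_iff.1 (not_le.1 hlt))
    omega
  · exact Or.inr (Or.inl h)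
  · haveI := H76.PostBender.charP_two_of_card hF hq
    obtain ⟨k, -, hk⟩ := FiniteField.card F 2
    obtain ⟨n, -, rfl⟩ := (Nat.dvd_prime_pow Nat.prime_two).1
      (show q ∣ 2 ^ (k : ℕ) from hk ▸ hF ▸ dvd_pow_self q two_ne_zero)
    refine Or.inr (Or.inr ⟨F, iF, iT, n, ?_, hF, he⟩)
    by_contra hlt
    have := Nat.pow_le_pow_right (show 1 ≤ 2 by norm_num) (Nat.lt_succ_iff.1 (not_le.1 hlt))
    omega

end Cfsg.Agent.S3245
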