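import Cfsg.Agent.H65.Constrained2
import Cfsg.Agent.H61.CharP
import Cfsg.Agent.PGroups.Basic
import Cfsg.Statements.S3247
-- import your own Cfsg.Agent.* helpers here

set_option autoImplicit false
open Cfsg

namespace Cfsg.Agent.S3247

open Cfsg Cfsg.Agent.H65

variable {G : Type*} [Group G] [Finite G] {p : ℕ} [hp : Fact p.Prime]

/-- If a `p`-constrained subgroup contains `T` and its centraliser, the normaliser of `T` is
`p`-constrained. -/
theorem local_constrained {T M : Subgroup G} (hT : IsPGroup p ↥T) (hTM : T ≤ M)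
    (hCM : Subgroup.centralizer (T : Set G) ≤ M) (hM : IsPConstrained p ↥M) :
    IsPConstrained p ↥(Subgroup.normalizer (T : Set G)) := by
  refine isPConstrained_of_quot ?_
  set N := Subgroup.normalizer (T : Set G) with hN
  set D := pPrimeCore p ↥N with hD
  set R := pCore p (↥N ⧸ D) with hR
  refine Cores.le_pCore (H61.isPGroup_of_forall_coprime fun r hr hco => ?_)
  set π := QuotientGroup.mk' D with hπ
  -- a preimage of order prime to p
  obtain ⟨y, hy, hcoy⟩ : ∃ y : ↥N, π y = r ∧ (orderOf y).Coprime p := by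
    obtain ⟨y0, rfl⟩ := QuotientGroup.mk'_surjective D r
    obtain ⟨k, m, hm, hkm⟩ :=
      Nat.exists_eq_pow_mul_and_not_dvd (orderOf_pos y0).ne' p hp.out.one_lt.ne'
    obtain ⟨a, ha⟩ := exists_pow_eq_self_of_coprime (x := QuotientGroup.mk' D y0) (n := p ^ k)
      (Nat.Coprime.pow_left k hco.symm)
    refine ⟨y0 ^ (p ^ k * a), ?_, ?_⟩
    · rw [map_pow, pow_mul]
      exact ha
    · refine Nat.Coprime.coprime_dvd_left ?_ ((hp.out.coprime_iff_not_dvd).2 hm).symm
      refine orderOf_dvd_of_pow_eq_one ?_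
      rw [← pow_mul, mul_assoc, mul_comm a m, ← mul_assoc, ← hkm, pow_mul, pow_orderOf_eq_one,
        one_pow]
  subst hy
  have hTN : T ≤ N := Subgroup.le_normalizer
  haveI hTn : (T.subgroupOf N).Normal :=
    (Subgroup.normal_subgroupOf_iff_le_normalizer hTN).2 le_rfl
  have hTp : IsPGroup p ↥(T.subgroupOf N) := hT.comap_of_injective N.subtype N.subtype_injective
  have hTR : (T.subgroupOf N).map π ≤ R :=
    (Subgroup.map_mono (Cores.le_pCore hTp)).trans (Cores.pCore_map_le (QuotientGroup.mk'_surjective D))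
  have hyT : ∀ t ∈ T, Commute (y : G) t := by
    intro t ht
    have h1 := hr (π ⟨t, hTN ht⟩) (hTR ⟨⟨t, hTN ht⟩, ht, rfl⟩)
    have h2 : y * (⟨t, hTN ht⟩ : ↥N) * y⁻¹ * (⟨t, hTN ht⟩ : ↥N)⁻¹ ∈ T.subgroupOf N ⊓ D := by
      refine ⟨(T.subgroupOf N).mul_mem (hTn.conj_mem _ ht y) ((T.subgroupOf N).inv_mem (show (⟨t, hTN ht⟩ : ↥N) ∈ T.subgroupOf N from ht)), ?_⟩
      refine (QuotientGroup.eq_one_iff _).1 ?_
      rw [← QuotientGroup.mk'_apply]
      simp only [map_mul, map_inv]
      rw [← hπ, ← h1, mul_inv_cancel_right, mul_inv_cancel]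
    rw [Cores.disjoint_of_isPGroup_of_coprime hTp Cores.coprime_card_pPrimeCore,
      Subgroup.mem_bot, mul_inv_eq_one, mul_inv_eq_iff_eq_mul] at h2
    exact congrArg Subtype.val h2
  set C := Subgroup.centralizer (T : Set G) with hC
  have hyC : (y : G) ∈ C := fun t ht => (hyT t ht).symm
  have hCN : C ≤ N := by
    intro c hc
    refine Subgroup.mem_normalizer_iff.2 fun t => ⟨fun ht => ?_, fun ht => ?_⟩
    · rwa [← hc t ht, mul_inv_cancel_right]
    · have h' := hc _ ht
      rw [show c * t * c⁻¹ * c = c * t by group, mul_right_inj] at h'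
      rw [h']; exact ht
  haveI : (C.subgroupOf N).Normal := by
    refine ⟨fun c hc g => ?_⟩
    intro t ht
    have h1 := hc _ ((Subgroup.mem_normalizer_iff.1 (inv_mem g.2) t).1 ht)
    simp only [inv_inv] at h1
    simp only [Subgroup.coe_subtype, Subgroup.coe_mul, Subgroup.coe_inv] at h1 ⊢
    calc t * (↑g * ↑c * (↑g)⁻¹) = ↑g * (((↑g)⁻¹ * t * ↑g) * ↑c) * (↑g)⁻¹ := by group
      _ = ↑g * (↑c * ((↑g)⁻¹ * t * ↑g)) * (↑g)⁻¹ := by rw [h1]
      _ = ↑g * ↑c * (↑g)⁻¹ * t := by group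
  -- subgroups normalised by C and contained in C are subnormal in N
  have hsn : ∀ (K : Subgroup ↥M) [K.Normal],
      ((K.map M.subtype ⊓ C).subgroupOf N).IsSubnormal := by
    intro K hK
    refine Subgroup.IsSubnormal.trans (K := C.subgroupOf N)
      (fun d hd => hd.2) ?_ (Subgroup.Normal.isSubnormal inferInstance)
    refine Subgroup.Normal.isSubnormal ⟨fun d hd c => ⟨?_, C.mul_mem (C.mul_mem c.2 hd.2) (C.inv_mem c.2)⟩⟩
    obtain ⟨w, hw, hwd⟩ := hd.1
    exact ⟨⟨_, hCM c.2⟩ * w * ⟨_, hCM c.2⟩⁻¹, hK.conj_mem w hw _,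
      by simp only [map_mul, map_inv, hwd]; rfl⟩
  set O := pPrimeCore p ↥M with hO
  set yM : ↥M := ⟨y, hCM hyC⟩ with hyM
  have hcoM : (orderOf yM).Coprime p := by
    rwa [← Subgroup.orderOf_coe, hyM, Subgroup.coe_mk, Subgroup.orderOf_coe]
  set TM := T.subgroupOf M
  have hTMp : IsPGroup p ↥TM := hT.comap_of_injective M.subtype M.subtype_injective
  set μ := QuotientGroup.mk' O with hμ
  set Qb := pCore p (↥M ⧸ O) with hQb
  have hQbn : ∀ g : ↥M ⧸ O, g ∈ Subgroup.normalizer (Qb : Set (↥M ⧸ O)) := fun g => by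
    rw [Subgroup.normalizer_eq_top_iff.2 (inferInstance : Qb.Normal)]; trivial
  have hfix : ∀ x ∈ Qb, (∀ a ∈ TM.map μ, Commute a x) → Commute (μ yM) x := by
    intro x hx hxT
    obtain ⟨x0, rfl⟩ := QuotientGroup.mk'_surjective O x
    obtain ⟨o, ho, hxo⟩ := exists_mul_mem_centralizer O TM Cores.coprime_card_pPrimeCore hTMp
      (g := x0) (fun t ht => by
        rw [← QuotientGroup.eq_one_iff, ← QuotientGroup.mk'_apply]
        simp only [map_mul, map_inv]
        rw [← hμ, ← (hxT _ ⟨t, ht, rfl⟩).eq, mul_inv_cancel_right, mul_inv_cancel])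
    have hxeq : μ (x0 * o) = μ x0 := by
      rw [map_mul, show μ o = 1 from (QuotientGroup.eq_one_iff o).2 ho, mul_one]
    rw [← hxeq]
    rw [← hxeq] at hx
    set E := pPrimePCore p ↥M
    haveI : E.Normal := Subgroup.Normal.comap inferInstance _
    have hxE : x0 * o ∈ E := hx
    have hxC : ((x0 * o : ↥M) : G) ∈ C := fun t ht =>
      congrArg Subtype.val (hxo ⟨t, hTM ht⟩ ht)
    -- the image in N ⧸ D lies in R
    have hxR : π ⟨_, hCN hxC⟩ ∈ R := by
      refine Cores.le_pCore_of_isSubnormal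
        ((hsn E).map (QuotientGroup.mk'_surjective D)) ?_
        ⟨⟨_, hCN hxC⟩, ⟨⟨x0 * o, hxE, rfl⟩, hxC⟩, rfl⟩
      -- it is a p-group
      rintro ⟨e, w, ⟨hwE, hwC⟩, rfl⟩
      obtain ⟨v, hv, hvw⟩ := hwE
      obtain ⟨k, hk⟩ := (Cores.pCore_isPGroup (p := p) (G := ↥M ⧸ O)) ⟨μ v, hv⟩
      refine ⟨k, Subtype.ext ?_⟩
      change π w ^ p ^ k = 1
      rw [← map_pow]
      refine (QuotientGroup.eq_one_iff _).2 ?_
      have hvO : v ^ p ^ k ∈ O := by
        refine (QuotientGroup.eq_one_iff _).1 ?_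
        have := congrArg Subtype.val hk
        rw [SubgroupClass.coe_pow, Subgroup.coe_one] at this
        change μ (v ^ p ^ k) = 1
        rw [map_pow]
        exact this
      refine Cores.le_pPrimeCore_of_isSubnormal (hsn O) ?_ ⟨⟨v ^ p ^ k, hvO, ?_⟩, ?_⟩
      · refine Nat.Coprime.coprime_dvd_left ?_ (Cores.coprime_card_pPrimeCore (G := ↥M) (p := p))
        rw [← Nat.card_congr ((O.equivMapOfInjective M.subtype M.subtype_injective)).toEquiv.symm]
        refine dvd_trans ?_ (Subgroup.card_dvd_of_le (inf_le_left (b := C)))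
        exact Subgroup.card_comap_dvd_of_injective _ _ N.subtype_injective
      · simp only [map_pow, hvw]
      · exact C.pow_mem hwC _
    have h1 := hr _ hxR
    -- the commutator lies in O
    set d : ↥M := (x0 * o) * yM * (x0 * o)⁻¹ * yM⁻¹ with hd
    have hdD : (⟨(x0 * o : ↥M), hCN hxC⟩ : ↥N) * y * (⟨_, hCN hxC⟩ : ↥N)⁻¹ * y⁻¹ ∈ D := by
      rw [← QuotientGroup.eq_one_iff, ← QuotientGroup.mk'_apply]
      simp only [map_mul, map_inv]
      rw [← hπ, h1, mul_inv_cancel_right, mul_inv_cancel]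
    have hdco : (orderOf d).Coprime p := by
      rw [← Subgroup.orderOf_coe, show (d : G) = (((⟨(x0 * o : ↥M), hCN hxC⟩ : ↥N) * y *
        (⟨_, hCN hxC⟩ : ↥N)⁻¹ * y⁻¹ : ↥N) : G) from rfl, Subgroup.orderOf_coe]
      exact Nat.Coprime.coprime_dvd_left (Subgroup.orderOf_dvd_natCard _ hdD)
        Cores.coprime_card_pPrimeCore
    have hdQ : μ d ∈ Qb := by
      rw [hd, map_mul, map_mul, map_mul, map_inv, map_inv, mul_assoc, mul_assoc]
      refine mul_mem hx ?_
      rw [← mul_assoc]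
      exact (inferInstance : Qb.Normal).conj_mem _ (inv_mem hx) _
    have hd1 : μ d = 1 := H61.eq_one_of_mem_pGroup Cores.pCore_isPGroup hdQ
      (Nat.Coprime.coprime_dvd_left (orderOf_map_dvd μ d) hdco)
    rw [hd, map_mul, map_mul, map_mul, map_inv, map_inv, mul_inv_eq_one, mul_inv_eq_iff_eq_mul] at hd1
    exact hd1.symm
  have hyQ : μ yM ∈ Qb := by
    refine centralizer_quot hM fun x hx => ?_
    refine (H61.commute_of_commute_centralizer Cores.pCore_isPGroup (hTMp.map μ)
      (fun a _ => hQbn a) (Nat.Coprime.coprime_dvd_left (orderOf_map_dvd μ yM) hcoM) (hQbn _)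
      ?_ hfix x hx).symm
    rintro _ ⟨t, ht, rfl⟩
    exact (show Commute yM t from Subtype.ext (hyT t ht)).map μ
  have hyO : yM ∈ O := (QuotientGroup.eq_one_iff _).1
    (H61.eq_one_of_mem_pGroup Cores.pCore_isPGroup hyQ
      (Nat.Coprime.coprime_dvd_left (orderOf_map_dvd μ yM) hcoM))
  refine (QuotientGroup.eq_one_iff _).2 (Cores.le_pPrimeCore_of_isSubnormal (hsn O) ?_ ⟨⟨yM, hyO, rfl⟩, hyC⟩)
  refine Nat.Coprime.coprime_dvd_left ?_ (Cores.coprime_card_pPrimeCore (G := ↥M) (p := p))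
  rw [← Nat.card_congr ((O.equivMapOfInjective M.subtype M.subtype_injective)).toEquiv.symm]
  refine dvd_trans ?_ (Subgroup.card_dvd_of_le (inf_le_left (b := C)))
  exact Subgroup.card_comap_dvd_of_injective _ _ N.subtype_injective


/-- Let G be a finite group and p a prime; here a p-local subgroup means the normalizer of a nontrivial p-subgroup, other than G itself. If every p-local subgroup of G that is maximal among p-local subgroups is p-constrained, or if the centralizer of every element of order p of G is p-constrained, then every p-local subgroup of G is p-constrained. -/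
theorem result {G : Type*} [Group G] [Finite G] (p : ℕ) [hp : Fact p.Prime]
    (h : (∀ M : Subgroup G, (∃ T : Subgroup G, IsPGroup p ↥T ∧ T ≠ ⊥ ∧ M = Subgroup.normalizer (T : Set G)) → M ≠ ⊤ →
        (∀ M' : Subgroup G, (∃ T' : Subgroup G, IsPGroup p ↥T' ∧ T' ≠ ⊥ ∧ M' = Subgroup.normalizer (T' : Set G)) → M' ≠ ⊤ → M ≤ M' → M = M') →
        Cfsg.IsPConstrained p ↥M) ∨
      (∀ x : G, orderOf x = p → Cfsg.IsPConstrained p ↥(Subgroup.centralizer ({x} : Set G))))
    (T : Subgroup G) (hT : IsPGroup p ↥T) (hT1 : T ≠ ⊥) (hTG : Subgroup.normalizer (T : Set G) ≠ ⊤) :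
    Cfsg.IsPConstrained p ↥(Subgroup.normalizer (T : Set G)) := by
  rcases h with h | h
  · obtain ⟨M, hle, hM⟩ := (Set.toFinite {M : Subgroup G | (∃ T : Subgroup G, IsPGroup p ↥T ∧ T ≠ ⊥ ∧
        M = Subgroup.normalizer (T : Set G)) ∧ M ≠ ⊤}).exists_le_maximal
        (a := Subgroup.normalizer (T : Set G)) ⟨⟨T, hT, hT1, rfl⟩, hTG⟩
    have hc := h M hM.prop.1 hM.prop.2 (fun M' h1 h2 h3 => le_antisymm h3 (hM.le_of_ge ⟨h1, h2⟩ h3))
    refine local_constrained hT (Subgroup.le_normalizer.trans hle) (le_trans ?_ hle) hc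
    intro c hc
    refine Subgroup.mem_normalizer_iff.2 fun t => ⟨fun ht => ?_, fun ht => ?_⟩
    · rwa [← hc t ht, mul_inv_cancel_right]
    · have h' := hc _ ht
      rw [show c * t * c⁻¹ * c = c * t by group, mul_right_inj] at h'
      rw [h']; exact ht
  · haveI : Nontrivial ↥T := (Subgroup.nontrivial_iff_ne_bot T).2 hT1
    obtain ⟨z, -, hzc, hz⟩ := Cfsg.Agent.PGroups.exists_mem_center_orderOf_eq hT (⊤ : Subgroup ↥T) top_ne_bot
    refine local_constrained hT (fun t ht => Subgroup.mem_centralizer_singleton_iff.2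
      (congrArg Subtype.val (Subgroup.mem_center_iff.1 hzc ⟨t, ht⟩)))
      (Subgroup.centralizer_le (Set.singleton_subset_iff.2 z.2)) (h z ((Subgroup.orderOf_coe z).trans hz))

end Cfsg.Agent.S3247
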