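import Cfsg.Statements.S3252
import Cfsg.Agent.H36.CyZ.Reduce

set_option autoImplicit false
open Cfsg

namespace Cfsg.Agent.S3252

/-- Let G be a finite non-solvable group that is the product G = AB of a cyclic subgroup A and a subgroup B all of whose Sylow subgroups are cyclic. Then the quotient of G by its largest solvable normal subgroup is isomorphic to PGL₂(p) for some prime p > 3. -/
theorem result {G : Type*} [Group G] [Finite G] (hG : ¬ Group.IsSolvable G)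
    (A B : Subgroup G) (hA : IsCyclic ↥A) (hB : ∀ (q : ℕ) [Fact q.Prime] (Q : Sylow q ↥B), IsCyclic ↥(Q : Subgroup ↥B))
    (hAB : ∀ g : G, ∃ a ∈ A, ∃ b ∈ B, g = a * b)
    (R : Subgroup G) [hR : R.Normal] (hRs : Group.IsSolvable ↥R) (hRmax : ∀ N : Subgroup G, N.Normal → Group.IsSolvable ↥N → N ≤ R) :
    ∃ (F : Type) (_ : Field F) (_ : Fintype F) (p : ℕ), p.Prime ∧ 3 < p ∧ Fintype.card F = p ∧
      Nonempty ((G ⧸ R) ≃* (GL (Fin 2) F ⧸ Subgroup.center (GL (Fin 2) F))) := by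
  classical
  have hns : ¬ Group.IsSolvable (G ⧸ R) := fun hs => hG (Cfsg.Agent.H36.CyZ.solvable_of_ker
    (QuotientGroup.mk' R) (by rw [QuotientGroup.ker_mk']; exact hRs) inferInstance)
  have hF : Cfsg.Agent.H36.CyZ.Factored G :=
    ⟨A, B, hA, ⟨fun q hq Q => (haveI : Fact q.Prime := ⟨hq⟩; hB q Q)⟩, hAB⟩
  obtain ⟨Ω, _, _, hyp⟩ := Cfsg.Agent.H36.CyZ.model_aux _ (G ⧸ R) rfl hns
    (hF.map (QuotientGroup.mk' R) (QuotientGroup.mk'_surjective R))
    (Cfsg.Agent.H36.CyZ.noRadical_quotient R hRs hRmax)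
  obtain ⟨p, hp, hpn⟩ := hyp.conclusion.exists_prime
  have : Fact p.Prime := ⟨hp⟩
  have hp3 : 3 < p := by
    by_contra h
    have := hyp.faithful
    exact hns (Cfsg.Agent.H36.CyZ.solvable_of_card_le_four (Ω := Ω) (by omega))
  obtain ⟨e⟩ := Cfsg.Agent.H36.CyZ.exists_pgl hyp hpn
  exact ⟨ZMod p, inferInstance, inferInstance, p, hp, hp3, ZMod.card p, ⟨e⟩⟩

end Cfsg.Agent.S3252
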