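import Cfsg.Statements.S3254
import Cfsg.Agent.S0497
import Cfsg.Agent.H85.ThreeP.Decomp
import Cfsg.Agent.H85.ThreeP.RankThree
import Cfsg.Agent.H85.ThreeP.SevenSeven
import Cfsg.Agent.H85.ThreeP.DoublyTransitive
import Cfsg.Agent.H85.ThreeP.Special
import Cfsg.Agent.H85.ThreeP.Imprimitive

set_option autoImplicit false
open Cfsg

namespace Cfsg.Agent.S3254

/-- Let p > 3 be a prime and G a finite non-abelian simple group acting faithfully and transitively on a set Ω of 3p points, such that the normalizer of a Sylow p-subgroup of G has order 2p. If the action is primitive then p = 5 and G ≅ A₆; if it is imprimitive then p = 2^m + 1 for some m and G ≅ PSL₂(2^m). -/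
theorem result {G : Type*} [Group G] [Finite G] [IsSimpleGroup G] (hG : ¬ IsMulCommutative G)
    (p : ℕ) (hp : p.Prime) (hp3 : 3 < p) {Ω : Type*} [Fintype Ω] [MulAction G Ω] [FaithfulSMul G Ω]
    (htr : MulAction.IsPretransitive G Ω) (hΩ : Fintype.card Ω = 3 * p)
    (P : Sylow p G) (hN : Nat.card ↥(Subgroup.normalizer ((P : Subgroup G) : Set G)) = 2 * p) :
    (MulAction.IsPreprimitive G Ω → p = 5 ∧ Nonempty (G ≃* ↥(alternatingGroup (Fin 6)))) ∧
      (¬ MulAction.IsPreprimitive G Ω → ∃ (F : Type) (_ : Field F) (_ : Fintype F) (m : ℕ), Fintype.card F = 2 ^ m ∧ p = 2 ^ m + 1 ∧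
        Nonempty (G ≃* Matrix.ProjectiveSpecialLinearGroup (Fin 2) F)) := by
  classical
  haveI : Fact p.Prime := ⟨hp⟩
  letI : Fintype G := Fintype.ofFinite G
  have h : H85.ThreeP.Hyp Ω P := ⟨inferInstance, hG, hp3, inferInstance, htr, hΩ, hN⟩
  refine ⟨fun hpr => ?_, fun hnp => h.imprimitive hnp⟩
  obtain ⟨θ, Y, a, D⟩ := h.exists_data
  rcases h.decomp D with ⟨ha, hp5, hf, hπ⟩ | ⟨ha, hf⟩ | ⟨ha, hf, χ, h1, h2, h3, hd, hπ⟩ |
    ⟨ha, hf, hπ⟩
  · exact (h.no_seven D ha hp5 hf hπ).elim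
  · exact (h.no_special D ha hf hpr).elim
  · obtain ⟨hp5, hcard⟩ := h.rank_three D ha hf h1 h2 h3 hd hπ
    exact ⟨hp5, S0497.result hcard⟩
  · exact (h.no_doubly_transitive D ha hf hπ).elim

end Cfsg.Agent.S3254
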