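import Cfsg.Statements.S3260
import Cfsg.Agent.H42.Eqv.ZJ
import Cfsg.Agent.H27.PermFamily

set_option autoImplicit false
open Cfsg

namespace Cfsg.Agent.S3260

/-- Let p ≥ 5 be a prime, G a finite p-constrained group with Sylow p-subgroup S, and A a group of automorphisms of G of order coprime to |G| whose fixed-point subgroup has no section isomorphic to PSL₂(p). Then G = O_{p'}(G) · N_G(Z(J(S))), where J(S) is the subgroup generated by the abelian subgroups of S of largest order. -/
theorem result {G : Type*} [Group G] [Finite G] (p : ℕ) [hp : Fact p.Prime] (hp5 : 5 ≤ p)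
    (hG : Cfsg.IsPConstrained p G) (S : Sylow p G) (A : Subgroup (MulAut G)) (hA : (Nat.card ↥A).Coprime (Nat.card G))
    (C : Subgroup G) (hC : ∀ g : G, g ∈ C ↔ ∀ a ∈ A, a g = g)
    {F : Type*} [Field F] [Fintype F] (hF : Fintype.card F = p)
    (hfix : ¬ Cfsg.Involves (Matrix.ProjectiveSpecialLinearGroup (Fin 2) F) ↥C) :
    Cfsg.pPrimeCore p G ⊔ Subgroup.normalizer (Cfsg.centerThompsonAOf (S : Subgroup G) : Set G) = ⊤ := by
  classical
  obtain ⟨e⟩ : Nonempty (ZMod p ≃+* F) := ⟨ZMod.ringEquivOfPrime F hp.out hF⟩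
  rw [Thompson.centerThompsonAOf_eq]
  set N := Cfsg.pPrimeCore p G with hN
  set q := QuotientGroup.mk' N with hq
  have hNmap : ∀ a : MulAut G, N.map a.toMonoidHom = N := fun a =>
    Subgroup.characteristic_iff_map_eq.mp (Cores.pPrimeCore_characteristic (p := p) (G := G)) a
  let θ : ↥A →* MulAut (G ⧸ N) := MonoidHom.mk'
    (fun a => QuotientGroup.congr N N (a : MulAut G) (hNmap a))
    (fun a b => MulEquiv.ext fun x => by
      obtain ⟨g, rfl⟩ := QuotientGroup.mk'_surjective N x
      rfl)
  have hθ : ∀ (a : ↥A) (g : G), θ a (q g) = q ((a : MulAut G) g) := fun a g => rfl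
  refine Thompson.sup_normalizer_zjay_of_quotient (e := 0) S fun S' =>
    H42.Eqv.zjay_normal_of_fixed hp5 (Thompson.centralizer_pCore_quotient_le hG) θ.range
      ((hA.coprime_dvd_right (Subgroup.card_quotient_dvd_card N)).coprime_dvd_left (Subgroup.card_range_dvd θ))
      (C.map q) ?_ ?_ S'
  · intro x hx
    obtain ⟨g, rfl⟩ := QuotientGroup.mk'_surjective N x
    have hsolv : Group.IsSolvable ↥(SemidirectProduct.inr (φ := A.subtype)).range ∨
        Group.IsSolvable ↥(SemidirectProduct.inl (φ := A.subtype)).range := by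
      rcases Nat.even_or_odd (Nat.card A) with he | ho
      · refine Or.inr ?_
        have hodd : Odd (Nat.card G) := Nat.not_even_iff_odd.mp fun hg => by
          have := Nat.eq_one_of_dvd_coprimes hA (even_iff_two_dvd.mp he) (even_iff_two_dvd.mp hg)
          omega
        have := Cfsg.Agent.S0205.result hodd
        exact Group.isSolvable_of_surjective (MonoidHom.rangeRestrict_surjective _)
      · refine Or.inl ?_
        have := Cfsg.Agent.S0205.result ho
        exact Group.isSolvable_of_surjective (MonoidHom.rangeRestrict_surjective _)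
    haveI : Finite (G ⋊[A.subtype] ↥A) := Finite.of_equiv _ SemidirectProduct.equivProd.symm
    let i : G →* G ⋊[A.subtype] ↥A := SemidirectProduct.inl
    let j : ↥A →* G ⋊[A.subtype] ↥A := SemidirectProduct.inr
    haveI : i.range.Normal := by
      rw [SemidirectProduct.range_inl_eq_ker_rightHom]; infer_instance
    have hconj : ∀ (a : ↥A) (n : G), j a * i n * (j a)⁻¹ = i ((a : MulAut G) n) := fun a n => by
      rw [← map_inv]; exact (SemidirectProduct.inl_aut a n).symm
    have hNA : j.range ≤ Subgroup.normalizer ((N.map i : Subgroup _) : Set (G ⋊[A.subtype] ↥A)) :=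
      Subgroup.le_normalizer_iff.mpr fun y hy z hz => by
        obtain ⟨a, rfl⟩ := hy
        obtain ⟨n, hn, rfl⟩ := hz
        exact ⟨(a : MulAut G) n, hNmap (a : MulAut G) ▸ Subgroup.mem_map_of_mem (a : MulAut G).toMonoidHom hn, (hconj a n).symm⟩
    have hNK : i.range ≤ Subgroup.normalizer ((N.map i : Subgroup _) : Set (G ⋊[A.subtype] ↥A)) :=
      Subgroup.le_normalizer_iff.mpr fun y hy z hz => by
        obtain ⟨m, rfl⟩ := hy
        obtain ⟨n, hn, rfl⟩ := hz
        exact ⟨m * n * m⁻¹, (inferInstance : N.Normal).conj_mem n hn m, by simp⟩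
    obtain ⟨c, ⟨⟨c0, rfl⟩, hc⟩, hcn⟩ := Coprime.exists_centralizer_mem_of_comm_mem
      (A := j.range) (K := i.range) (N := N.map i)
      (le_top.trans (Subgroup.normalizer_eq_top (H := i.range)).ge)
      (by
        rw [← Nat.card_congr (MonoidHom.ofInjective (f := i) SemidirectProduct.inl_injective).toEquiv,
          ← Nat.card_congr (MonoidHom.ofInjective (f := j) SemidirectProduct.inr_injective).toEquiv]
        exact hA)
      hsolv (Subgroup.map_le_range i N) hNK hNA (k := i g) ⟨g, rfl⟩ (fun y hy => by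
        obtain ⟨a, rfl⟩ := hy
        rw [hconj, ← map_inv, ← map_mul]
        refine ⟨_, (QuotientGroup.eq_one_iff _).mp ?_, rfl⟩
        show q ((a : MulAut G) g * g⁻¹) = 1
        rw [map_mul, map_inv, ← hθ, hx _ ⟨a, rfl⟩, mul_inv_cancel])
    refine ⟨c0, (hC c0).mpr fun a ha => SemidirectProduct.inl_injective (φ := A.subtype) ?_, ?_⟩
    · show i (a c0) = i c0
      have h := Subgroup.mem_centralizer_iff.mp hc _ ⟨⟨a, ha⟩, rfl⟩
      rw [← hconj ⟨a, ha⟩, h, mul_inv_cancel_right]
    · obtain ⟨n, hn, e'⟩ := hcn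
      have e'' : g⁻¹ * c0 = n := SemidirectProduct.inl_injective (φ := A.subtype) (by
        rw [map_mul, map_inv]; exact e'.symm)
      exact ((QuotientGroup.eq (s := N)).mpr (by rw [e'']; exact hn)).symm
  · intro h
    obtain ⟨M, φ, hφ⟩ := h.of_surjective (f := q.subgroupMap C) (q.subgroupMap_surjective C)
    exact hfix (Thompson.hasSection_iff.mp ⟨M, (H27.PermFamily.pslCongr e).toMonoidHom.comp φ,
      (H27.PermFamily.pslCongr e).surjective.comp hφ⟩)

end Cfsg.Agent.S3260
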