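import Cfsg.Agent.H65.DihedralAltSix
import Cfsg.Agent.S0495
import Cfsg.Statements.S3261
-- import your own Cfsg.Agent.* helpers here

set_option autoImplicit false
open Cfsg

namespace Cfsg.Agent.S3261

open Equiv

/-- The canonical involution with four moved points. -/
def canInv : Perm (Fin 6) := swap 0 1 * swap 2 3

/-- A rotation of the centraliser of `canInv`. -/
def rot : Perm (Fin 6) := swap 0 2 * swap 2 1 * swap 1 3 * swap 4 5

/-- A reflection of the centraliser of `canInv`. -/
def refl : Perm (Fin 6) := swap 0 1 * swap 4 5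

/-- The centraliser of `canInv` in the alternating group, as a dihedral group. -/
def dih : DihedralGroup 4 → Perm (Fin 6)
  | .r i => rot ^ i.val
  | .sr i => refl * rot ^ i.val

theorem dih_mul : ∀ a b : DihedralGroup 4, dih (a * b) = dih a * dih b := by decide +kernel

theorem dih_inj : ∀ a b : DihedralGroup 4, dih a = dih b → a = b := by decide +kernel

theorem dih_mem : ∀ a : DihedralGroup 4, Perm.sign (dih a) = 1 ∧ dih a * canInv = canInv * dih a := by
  decide +kernel

theorem dih_surj : ∀ g : Perm (Fin 6), Perm.sign g = 1 → g * canInv = canInv * g →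
    ∃ a : DihedralGroup 4, dih a = g := by decide +kernel

theorem canInv_sign : Perm.sign canInv = 1 := by decide +kernel

theorem exists_dihedral (αt : ↥(alternatingGroup (Fin 6))) (hαt : orderOf αt = 2)
    (hsupp : (αt : Perm (Fin 6)).support.card = 4) :
    Nonempty (↥(Subgroup.centralizer ({αt} : Set ↥(alternatingGroup (Fin 6)))) ≃* DihedralGroup 4) := by
  have h2 : orderOf (αt : Perm (Fin 6)) = 2 := by rw [Subgroup.orderOf_coe, hαt]
  have hty : (αt : Perm (Fin 6)).cycleType = canInv.cycleType := by
    obtain ⟨n, hn⟩ := Perm.cycleType_prime_order (h2.symm ▸ Nat.prime_two : (orderOf (αt : Perm (Fin 6))).Prime)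
    rw [h2] at hn
    have hs := Perm.sum_cycleType (αt : Perm (Fin 6))
    rw [hn, hsupp, Multiset.sum_replicate, smul_eq_mul] at hs
    rw [hn, show n + 1 = 2 by omega]
    decide +kernel
  obtain ⟨g, hg⟩ := isConj_iff.1 (Perm.isConj_iff_cycleType_eq.2 hty)
  let φ : MulAut ↥(alternatingGroup (Fin 6)) := MulAut.conjNormal g
  have hφ : ∀ z, ((φ z : ↥(alternatingGroup (Fin 6))) : Perm (Fin 6)) = g * z * g⁻¹ := fun z =>
    MulAut.conjNormal_apply g z
  let ψ : DihedralGroup 4 →* ↥(alternatingGroup (Fin 6)) :=
    MonoidHom.mk' (fun a => φ.symm ⟨dih a, Perm.mem_alternatingGroup.2 (dih_mem a).1⟩) (fun a b => by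
      rw [← map_mul]
      exact congrArg φ.symm (Subtype.ext (dih_mul a b)))
  have hψ : Function.Injective ψ := fun a b h =>
    dih_inj a b (congrArg Subtype.val (φ.symm.injective h))
  have hφα : φ αt = ⟨canInv, Perm.mem_alternatingGroup.2 canInv_sign⟩ :=
    Subtype.ext ((hφ αt).trans hg)
  refine ⟨((MonoidHom.ofInjective hψ).trans (MulEquiv.subgroupCongr ?_)).symm⟩
  ext z
  rw [Subgroup.mem_centralizer_singleton_iff]
  constructor
  · rintro ⟨a, rfl⟩
    apply φ.injective
    rw [map_mul, map_mul, hφα]
    change φ (φ.symm _) * _ = _ * φ (φ.symm _)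
    rw [MulEquiv.apply_symm_apply]
    exact Subtype.ext (dih_mem a).2
  · intro hz
    have hz' : φ z * φ αt = φ αt * φ z := by rw [← map_mul, ← map_mul, hz]
    rw [hφα] at hz'
    obtain ⟨a, ha⟩ := dih_surj ((φ z : ↥(alternatingGroup (Fin 6))) : Perm (Fin 6))
      (Perm.mem_alternatingGroup.1 (φ z).2) (congrArg Subtype.val hz')
    exact ⟨a, φ.symm_apply_eq.2 (Subtype.ext ha)⟩

/-- Let α̃ be an involution of the alternating group A₆ that is a product of two disjoint transpositions (it lies in the centre of a Sylow 2-subgroup of A₆; its centralizer is dihedral of order 8). Let G be a finite group that has no subgroup of index 2 and contains an involution α, central in some Sylow 2-subgroup of G, with C_G(α) ≅ C_{A₆}(α̃). Then G is isomorphic to A₆ or to PSL₂(7). -/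
theorem result {G : Type*} [Group G] [Finite G]
    (hG : ∀ H : Subgroup G, H.index ≠ 2)
    (αt : ↥(alternatingGroup (Fin 6))) (hαt : orderOf αt = 2) (hsupp : (αt : Equiv.Perm (Fin 6)).support.card = 4)
    (α : G) (hα : orderOf α = 2) (S : Sylow 2 G) (hαS : α ∈ (S : Subgroup G)) (hαc : ∀ s ∈ (S : Subgroup G), s * α = α * s)
    (e : ↥(Subgroup.centralizer ({α} : Set G)) ≃* ↥(Subgroup.centralizer ({αt} : Set ↥(alternatingGroup (Fin 6))))) :
    Nonempty (G ≃* ↥(alternatingGroup (Fin 6))) ∨
      (∃ (F : Type) (_ : Field F) (_ : Fintype F), Fintype.card F = 7 ∧ Nonempty (G ≃* Matrix.ProjectiveSpecialLinearGroup (Fin 2) F)) := by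
  classical
  letI : Fintype G := Fintype.ofFinite G
  obtain ⟨d⟩ := exists_dihedral αt hαt hsupp
  have hno : ∀ f : G →* Multiplicative (ZMod 2), f = 1 := by
    intro f
    ext g
    by_contra hne
    refine hG f.ker ?_
    rw [Subgroup.index_ker, MonoidHom.range_eq_top.2 ?_, Subgroup.card_top]
    · simp
    · have key : ∀ a b : Multiplicative (ZMod 2), a ≠ 1 → b ≠ 1 → a = b := by decide
      intro b
      by_cases hb : b = 1
      · exact ⟨1, by rw [map_one, hb]⟩
      · exact ⟨g, key _ _ (by simpa using hne) hb⟩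
  have hone := H65.DihedralFusion.isConj_of_no_hom (e.trans d) hα hno
  haveI := H65.DihedralFusion.isSimpleGroup (e.trans d) hα hone
  rcases H65.DihedralEight.card_eq α (e.trans d) hα hone with h | h
  · haveI : Fact (Nat.Prime 7) := ⟨by norm_num⟩
    exact Or.inr ⟨ZMod 7, inferInstance, inferInstance, ZMod.card 7,
      Cfsg.Agent.S0495.result h (ZMod.card 7)⟩
  · exact Or.inl (H65.DihedralAltSix.iso_alternating_six α (e.trans d) hα hone h)

end Cfsg.Agent.S3261
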