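import Cfsg.Statements.S3266
import Mathlib

set_option autoImplicit false
open Cfsg Matrix

namespace Cfsg.Agent.S3266

variable {F : Type*} [Field F]

local notation "SL₂" => Matrix.SpecialLinearGroup (Fin 2) F
local notation "PSL₂" => Matrix.ProjectiveSpecialLinearGroup (Fin 2) F

/-- The projection to `PSL`. -/
abbrev prj : SL₂ →* PSL₂ := QuotientGroup.mk' (Subgroup.center SL₂)

theorem det_eq (g : SL₂) : g.1 0 0 * g.1 1 1 - g.1 0 1 * g.1 1 0 = 1 := by
  rw [← Matrix.det_fin_two]; exact g.2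

theorem central_iff (g : SL₂) : g ∈ Subgroup.center SL₂ ↔ g.1 0 1 = 0 ∧ g.1 1 0 = 0 ∧ g.1 0 0 = g.1 1 1 := by
  rw [Matrix.SpecialLinearGroup.mem_center_iff]
  constructor
  · rintro ⟨r, -, hr⟩
    rw [← hr]
    simp
  · rintro ⟨h1, h2, h3⟩
    refine ⟨g.1 0 0, ?_, ?_⟩
    · have := det_eq g
      rw [h1, ← h3] at this
      rw [Fintype.card_fin]
      linear_combination this
    · ext i j
      fin_cases i <;> fin_cases j <;> simp [h1, h2, h3]

theorem prj_eq_one (g : SL₂) : prj g = 1 ↔ g ∈ Subgroup.center SL₂ := QuotientGroup.eq_one_iff g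

theorem trace_zero_of_order_two (g : SL₂) (h : orderOf (prj g) = 2) :
    g.1 1 1 = - g.1 0 0 ∧ g ∉ Subgroup.center SL₂ := by
  have hn : g ∉ Subgroup.center SL₂ := fun hc => by
    rw [(prj_eq_one g).2 hc, orderOf_one] at h; omega
  refine ⟨?_, hn⟩
  have h2 : g * g ∈ Subgroup.center SL₂ := by
    rw [← prj_eq_one, map_mul, ← pow_two]
    have := pow_orderOf_eq_one (prj g)
    rwa [h] at this
  rw [central_iff] at h2 hn
  simp only [Matrix.SpecialLinearGroup.coe_mul, Matrix.mul_apply, Fin.sum_univ_two] at h2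
  by_contra hne
  have ht : g.1 0 0 + g.1 1 1 ≠ 0 := fun e => hne (by linear_combination e)
  refine hn ⟨?_, ?_, ?_⟩
  · exact (mul_eq_zero.1 (show (g.1 0 0 + g.1 1 1) * g.1 0 1 = 0 by linear_combination h2.1)).resolve_left ht
  · exact (mul_eq_zero.1 (show (g.1 0 0 + g.1 1 1) * g.1 1 0 = 0 by linear_combination h2.2.1)).resolve_left ht
  · exact sub_eq_zero.1 ((mul_eq_zero.1
      (show (g.1 0 0 + g.1 1 1) * (g.1 0 0 - g.1 1 1) = 0 by linear_combination h2.2.2)).resolve_left ht)

theorem order_two_of_trace_zero (g : SL₂) (h : g.1 1 1 = - g.1 0 0) (hn : g ∉ Subgroup.center SL₂) :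
    orderOf (prj g) = 2 := by
  refine orderOf_eq_prime (hp := ⟨Nat.prime_two⟩) ?_ (fun e => hn ((prj_eq_one g).1 e))
  have hd := det_eq g
  rw [h] at hd
  rw [← map_pow, prj_eq_one, central_iff, pow_two]
  simp only [Matrix.SpecialLinearGroup.coe_mul, Matrix.mul_apply, Fin.sum_univ_two, h]
  exact ⟨by ring, by ring, by ring⟩

theorem prj_eq (x y : SL₂) (h : prj x = prj y) : ∃ r : F, r * r = 1 ∧ y.1 = r • x.1 := by
  have hc : x⁻¹ * y ∈ Subgroup.center SL₂ := QuotientGroup.eq.1 h
  obtain ⟨r, hr, he⟩ := Matrix.SpecialLinearGroup.mem_center_iff.1 hc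
  rw [Fintype.card_fin, pow_two] at hr
  refine ⟨r, hr, ?_⟩
  have : y = x * (x⁻¹ * y) := by group
  rw [congrArg Subtype.val this, Matrix.SpecialLinearGroup.coe_mul, ← he, Matrix.scalar_apply,
    ← Matrix.smul_one_eq_diagonal, Matrix.mul_smul, mul_one]

theorem sq_one_central (g : SL₂) (h2 : (2 : F) ≠ 0) (h : g * g = 1) : g ∈ Subgroup.center SL₂ := by
  have hd := det_eq g
  have h' := congrArg Subtype.val h
  have e00 := congrFun (congrFun h' 0) 0
  have e01 := congrFun (congrFun h' 0) 1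
  have e10 := congrFun (congrFun h' 1) 0
  have e11 := congrFun (congrFun h' 1) 1
  simp [Matrix.mul_apply, Fin.sum_univ_two] at e00 e01 e10 e11
  have ht : g.1 0 0 + g.1 1 1 ≠ 0 := fun e => by
    apply h2
    linear_combination -hd - e00 + g.1 0 0 * e
  rw [central_iff]
  refine ⟨?_, ?_, ?_⟩
  · exact (mul_eq_zero.1 (show (g.1 0 0 + g.1 1 1) * g.1 0 1 = 0 by linear_combination e01)).resolve_left ht
  · exact (mul_eq_zero.1 (show (g.1 0 0 + g.1 1 1) * g.1 1 0 = 0 by linear_combination e10)).resolve_left ht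
  · exact sub_eq_zero.1 ((mul_eq_zero.1
      (show (g.1 0 0 + g.1 1 1) * (g.1 0 0 - g.1 1 1) = 0 by linear_combination e00 - e11)).resolve_left ht)

section Finite

variable [Fintype F]

/-- An element whose trace `2X` has `1 - X²` not a nonzero square has odd order in `PSL₂`. -/
theorem odd_order (h2 : (2 : F) ≠ 0) (g : SL₂) (X : F) (htr : g.1 0 0 + g.1 1 1 = 2 * X)
    (hns : ∀ w : F, 1 - X ^ 2 = w ^ 2 → w = 0) : Odd (orderOf (prj g)) := by
  obtain ⟨p, hchar, n, hp, hq⟩ := FiniteField.card' F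
  haveI := hchar
  haveI := Fact.mk hp
  have hrc : ringChar F ≠ 2 := fun e => h2 (by
    have := ringChar.Nat.cast_ringChar (R := F); rw [e] at this; exact_mod_cast this)
  have hodd : Odd (Fintype.card F) := Nat.odd_iff.2 (FiniteField.odd_card_of_char_ne_two hrc)
  set q := Fintype.card F with hqdef
  set d := X ^ 2 - 1
  let A : Matrix (Fin 2) (Fin 2) F := g.1
  let h : Matrix (Fin 2) (Fin 2) F := A - X • 1
  have hd := det_eq g
  have hh : h * h = d • (1 : Matrix (Fin 2) (Fin 2) F) := by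
    ext i j
    fin_cases i <;> fin_cases j <;>
      simp [h, A, d, Matrix.mul_apply, Fin.sum_univ_two, Matrix.one_apply] <;>
      first
        | linear_combination -hd + (g.1 0 0) * htr
        | linear_combination (g.1 0 1) * htr
        | linear_combination (g.1 1 0) * htr
        | linear_combination -hd + (g.1 1 1) * htr
  obtain ⟨m, hm⟩ := hodd
  have hqpow : q % 2 = 1 := by omega
  have hm2 : q / 2 = m := by omega
  have hgq : A ^ q = X • 1 + d ^ m • h := by
    have e1 : A = X • 1 + h := by simp [h]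
    have hc : Commute (X • (1 : Matrix (Fin 2) (Fin 2) F)) h := (Commute.one_left h).smul_left X
    have e2 : A ^ q = (X • (1 : Matrix (Fin 2) (Fin 2) F)) ^ q + h ^ q := by
      rw [e1, show q = p ^ (n : ℕ) from hq, add_pow_char_pow_of_commute p n hc]
    rw [e2, smul_pow, one_pow, hqdef, FiniteField.pow_card, ← hqdef]
    congr 1
    rw [hm, pow_succ, pow_mul, pow_two, hh, smul_pow, one_pow, smul_mul_assoc, one_mul]
  have fin_of : ∀ k : ℕ, Odd k → (g ^ k) ∈ Subgroup.center SL₂ → Odd (orderOf (prj g)) := by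
    intro k hk hc
    exact hk.of_dvd_nat (orderOf_dvd_of_pow_eq_one (by rw [← map_pow, prj_eq_one]; exact hc))
  have fin_of2 : ∀ k : ℕ, Odd k → A ^ (2 * k) = 1 → Odd (orderOf (prj g)) := by
    intro k hk hc
    refine fin_of k hk (sq_one_central _ h2 ?_)
    apply Subtype.ext
    rw [Matrix.SpecialLinearGroup.coe_mul, Matrix.SpecialLinearGroup.coe_pow, ← pow_add,
      Matrix.SpecialLinearGroup.coe_one, ← two_mul]
    exact hc
  by_cases hd0 : d = 0
  · refine fin_of q ⟨m, hm⟩ ((central_iff _).2 ?_)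
    rcases Nat.eq_zero_or_pos m with h0 | h0
    · have := Fintype.one_lt_card (α := F); omega
    rw [Matrix.SpecialLinearGroup.coe_pow, show g.1 ^ q = X • 1 + d ^ m • h from hgq, hd0,
      zero_pow h0.ne', zero_smul, add_zero]
    simp
  have hinv : A * (X • 1 - h) = 1 := by
    have key : ∀ N : Matrix (Fin 2) (Fin 2) F, (X • 1 + N) * (X • 1 - N) = (X * X) • 1 - N * N := by
      intro N
      simp [add_mul, mul_sub, smul_smul]
      abel
    calc A * (X • 1 - h) = (X • 1 + h) * (X • 1 - h) := by rw [show A = X • 1 + h by simp [h]]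
      _ = (X * X) • 1 - h * h := key h
      _ = 1 := by rw [hh, ← sub_smul, show X * X - d = 1 by simp only [d]; ring, one_smul]
  have hneg : (-d) ^ m = -1 := by
    rcases FiniteField.pow_dichotomy hrc (neg_ne_zero.2 hd0) with h | h
    · exfalso
      obtain ⟨w, hw⟩ := (FiniteField.isSquare_iff hrc (neg_ne_zero.2 hd0)).2 h
      have hw' := hns w (by simp only [d] at hw; linear_combination hw)
      rw [hw', mul_zero, neg_eq_zero] at hw
      exact hd0 hw
    · rwa [hm2] at h
  have hm1 : d ^ m = 1 ∨ d ^ m = -1 := by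
    have := FiniteField.pow_dichotomy hrc hd0
    rwa [hm2] at this
  have hne1 : (-1 : F) ≠ 1 := fun e => h2 (by linear_combination -e)
  rw [neg_pow] at hneg
  rcases hm1 with h1 | h1 <;> rw [h1] at hneg hgq
  · have hmo : Odd m := by
      rcases Nat.even_or_odd m with he | ho
      · rw [he.neg_one_pow, one_mul] at hneg; exact absurd hneg.symm hne1
      · exact ho
    refine fin_of2 m hmo ?_
    rw [one_smul, add_sub_cancel] at hgq
    have : A ^ (2 * m) * A = A := by rw [← pow_succ, ← hm]; exact hgq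
    calc A ^ (2 * m) = A ^ (2 * m) * (A * (X • 1 - h)) := by rw [hinv, mul_one]
      _ = 1 := by rw [← mul_assoc, this, hinv]
  · have hme : Even m := by
      rcases Nat.even_or_odd m with he | ho
      · exact he
      · rw [ho.neg_one_pow] at hneg; exact absurd (by linear_combination -hneg) hne1
    refine fin_of2 (m + 1) (hme.add_one) ?_
    rw [neg_one_smul, ← sub_eq_add_neg] at hgq
    rw [show 2 * (m + 1) = 1 + q by omega, pow_add, pow_one, hgq, hinv]

theorem odd_order_two [CharP F 2] (g : SL₂) (hs : g.1 0 0 + g.1 1 1 ≠ 0) :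
    Odd (orderOf (prj g)) := by
  obtain ⟨n, hp, hq⟩ := FiniteField.card F 2
  set q := Fintype.card F with hqdef
  set s := g.1 0 0 + g.1 1 1
  let A : Matrix (Fin 2) (Fin 2) F := g.1
  have hd := det_eq g
  have hA : A * A = s • A + 1 := by
    ext i j
    fin_cases i <;> fin_cases j <;>
      simp [A, s, Matrix.mul_apply, Fin.sum_univ_two, Matrix.one_apply] <;>
      first
        | ring1
        | linear_combination -hd + (-1 : F) * CharTwo.two_eq_zero (R := F)
        | linear_combination hd + (1 : F) * CharTwo.two_eq_zero (R := F)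
        | linear_combination -hd - (g.1 0 1 * g.1 1 0) * 0 + (0 : F) * CharTwo.two_eq_zero (R := F)
  have hself : ∀ M : Matrix (Fin 2) (Fin 2) F, M + M = 0 := CharTwo.add_self_eq_zero
  have hfr : ∀ M N : Matrix (Fin 2) (Fin 2) F, Commute M N → (M + N) ^ q = M ^ q + N ^ q := by
    intro M N h
    rw [hq]; exact add_pow_char_pow_of_commute 2 n h
  have hs' : ∀ M : Matrix (Fin 2) (Fin 2) F, (s • M) ^ q = s • M ^ q := by
    intro M; rw [smul_pow, hqdef, FiniteField.pow_card]
  set B := A ^ q with hB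
  have hBA : Commute B A := (Commute.refl A).pow_left q
  have hB2 : B * B = s • B + 1 := by
    rw [hB, ← pow_add, ← two_mul, pow_mul, pow_two, hA, hfr _ _ (Commute.one_right _), hs', one_pow]
  set u := B + A with hu
  have hu2 : u * u = s • u := by
    rw [hu, mul_add, add_mul, add_mul, hB2, hA, hBA.eq, smul_add]
    have := hself (A * B)
    have := hself (1 : Matrix (Fin 2) (Fin 2) F)
    calc s • B + 1 + A * B + (A * B + (s • A + 1))
        = s • B + s • A + ((A * B + A * B) + (1 + 1)) := by abel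
      _ = _ := by rw [hself, hself, add_zero, add_zero]
  have huk : ∀ k : ℕ, u ^ (k + 1) = s ^ k • u := by
    intro k
    induction k with
    | zero => simp
    | succ k ih => rw [pow_succ u, ih, smul_mul_assoc, hu2, smul_smul, pow_succ]
  have h1q : 1 ≤ q := Fintype.card_pos
  have huq : u ^ q = u := by
    have := huk (q - 1)
    rw [Nat.sub_add_cancel h1q, hqdef, FiniteField.pow_card_sub_one_eq_one s hs, one_smul] at this
    exact this
  have hAB : A + u = B := by rw [hu, add_comm B A, ← add_assoc, hself, zero_add]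
  have hqq : A ^ (q * q) = A := by
    calc A ^ (q * q) = B ^ q := by rw [pow_mul]
      _ = (A + u) ^ q := by rw [hAB]
      _ = A ^ q + u ^ q := hfr _ _ (by rw [hu]; exact hBA.symm.add_right (Commute.refl A))
      _ = A := by rw [← hB, huq, hu, ← add_assoc, hself, zero_add]
  obtain ⟨k, hk⟩ : ∃ k, q * q = k + 1 := ⟨q * q - 1, by have := Nat.mul_le_mul h1q h1q; omega⟩
  have hkodd : Odd k := by
    have : Even (q * q) := by
      have : Even q := by rw [hq]; exact (even_two).pow_of_ne_zero (PNat.ne_zero n)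
      exact this.mul_right q
    rcases Nat.even_or_odd k with he | ho
    · obtain ⟨a, ha⟩ := he; obtain ⟨b, hb⟩ := this; omega
    · exact ho
  have hone : g ^ k = 1 := by
    have : g ^ (k + 1) = g := Subtype.ext (by rw [Matrix.SpecialLinearGroup.coe_pow, ← hk]; exact hqq)
    rw [pow_succ] at this
    exact mul_right_cancel (this.trans (one_mul g).symm)
  exact hkodd.of_dvd_nat ((orderOf_map_dvd prj g).trans (orderOf_dvd_of_pow_eq_one hone))

/-- The standard involution. -/
def jay : SL₂ := ⟨!![0, -1; 1, 0], by simp [Matrix.det_fin_two_of]⟩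

theorem exists_conj (g : SL₂) (h : g.1 1 1 = - g.1 0 0) (hn : g ∉ Subgroup.center SL₂) :
    ∃ k : SL₂, k * jay * k⁻¹ = g := by
  have hd := det_eq g
  rw [h] at hd
  rw [central_iff, h] at hn
  set a := g.1 0 0 with ha
  set b := g.1 0 1 with hb
  set c := g.1 1 0 with hc
  obtain ⟨v1, v2, hv⟩ : ∃ v1 v2 : F, c * v1 * v1 - 2 * a * v1 * v2 - b * v2 * v2 = 1 := by
    by_cases h2 : (2 : F) = 0
    · have hc2 : ringChar F = 2 := by
        have := CharP.ringChar_of_prime_eq_zero (R := F) Nat.prime_two (by exact_mod_cast h2)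
        exact this
      by_cases hc0 : c = 0
      · by_cases hb0 : b = 0
        · exfalso; apply hn
          refine ⟨hb0, hc0, ?_⟩
          linear_combination a * h2
        · obtain ⟨w, hw⟩ := FiniteField.isSquare_of_char_two hc2 (-b⁻¹)
          refine ⟨0, w, ?_⟩
          rw [mul_assoc b w w, ← hw]
          field_simp
          ring
      · obtain ⟨w, hw⟩ := FiniteField.isSquare_of_char_two hc2 c⁻¹
        refine ⟨w, 0, ?_⟩
        rw [mul_assoc c w w, ← hw]
        field_simp
        ring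
    · have hrc : ringChar F ≠ 2 := fun e => h2 (by
        have := ringChar.Nat.cast_ringChar (R := F); rw [e] at this; exact_mod_cast this)
      by_cases hc0 : c = 0
      · have ha0 : a ≠ 0 := fun e => by rw [e, hc0] at hd; simp at hd
        refine ⟨(-1 - b) / (2 * a), 1, ?_⟩
        rw [hc0]
        field_simp
        ring
      · obtain ⟨u, w, huw⟩ := FiniteField.exists_root_sum_quadratic
          (f := Polynomial.X ^ 2 - Polynomial.C c) (g := (Polynomial.X ^ 2 : Polynomial F))
          (Polynomial.degree_X_pow_sub_C (by norm_num) c) (Polynomial.degree_X_pow 2)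
          (FiniteField.odd_card_of_char_ne_two hrc)
        simp at huw
        refine ⟨(u + a * w) / c, w, ?_⟩
        field_simp
        linear_combination huw + w ^ 2 * hd
  have hdet : (!![v1, a * v1 + b * v2; v2, c * v1 - a * v2]).det = 1 := by
    rw [Matrix.det_fin_two_of]; linear_combination hv
  let K : SL₂ := ⟨!![v1, a * v1 + b * v2; v2, c * v1 - a * v2], hdet⟩
  refine ⟨K, ?_⟩
  · have hKv : K.1 = !![v1, a * v1 + b * v2; v2, c * v1 - a * v2] := rfl
    have hJv : (jay : SL₂).1 = !![0, -1; 1, 0] := rfl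
    refine mul_inv_eq_of_eq_mul ?_
    apply Subtype.ext
    ext i j
    fin_cases i <;> fin_cases j <;>
      simp [hKv, hJv, Matrix.SpecialLinearGroup.coe_mul, Matrix.mul_apply, Fin.sum_univ_two, h,
        ← ha, ← hb, ← hc] <;>
      first
        | ring1
        | linear_combination v1 * hd
        | linear_combination -v1 * hd
        | linear_combination v2 * hd
        | linear_combination -v2 * hd

theorem isConj_of (t : PSL₂) (ht : orderOf t = 2) (g : SL₂) (h : g.1 1 1 = - g.1 0 0)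
    (hn : g ∉ Subgroup.center SL₂) : IsConj t (prj g) := by
  obtain ⟨s, rfl⟩ := QuotientGroup.mk'_surjective (Subgroup.center SL₂) t
  obtain ⟨hs1, hs2⟩ := trace_zero_of_order_two s ht
  obtain ⟨k, hk⟩ := exists_conj g h hn
  obtain ⟨l, hl⟩ := exists_conj s hs1 hs2
  have : IsConj s g := (isConj_iff.2 ⟨l, hl⟩).symm.trans (isConj_iff.2 ⟨k, hk⟩)
  exact prj.map_isConj this

section Count
open Finset
variable [DecidableEq F]

/-- The values `Y` with `c - (Y - k)²` a nonzero square. -/
def good (c k : F) : Finset F := univ.filter fun Y => ∃ T : F, T ≠ 0 ∧ (Y - k) ^ 2 + T ^ 2 = c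

theorem card_pairs (h2 : (2 : F) ≠ 0) (c k : F) :
    ((univ ×ˢ univ : Finset (F × F)).filter fun z => z.2 ≠ 0 ∧ (z.1 - k) ^ 2 + z.2 ^ 2 = c).card
      = 2 * (good c k).card := by
  rw [Finset.card_eq_sum_card_fiberwise (f := Prod.fst) (t := good c k) (fun z hz => by
    simp only [coe_filter, Set.mem_ofPred_eq] at hz
    simp only [good, coe_filter, Set.mem_ofPred_eq, mem_univ, true_and]
    exact ⟨z.2, hz.2⟩)]
  rw [Finset.sum_const_nat (m := 2), mul_comm]
  intro Y hY
  simp only [good, mem_filter, mem_univ, true_and] at hY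
  obtain ⟨T, hT0, hT⟩ := hY
  rw [Finset.card_eq_two]
  refine ⟨(Y, T), (Y, -T), fun e => ?_, ?_⟩
  · have := congrArg Prod.snd e
    exact hT0 (by
      have h3 : 2 * T = 0 := by simp only at this; linear_combination this
      exact (mul_eq_zero.1 h3).resolve_left h2)
  · ext ⟨y, u⟩
    simp only [mem_filter, mem_product, mem_univ, true_and, mem_insert, mem_singleton, Prod.mk.injEq]
    constructor
    · rintro ⟨⟨-, hu⟩, rfl⟩
      have : (u - T) * (u + T) = 0 := by linear_combination hu - hT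
      rcases mul_eq_zero.1 this with h | h
      · exact Or.inl ⟨rfl, sub_eq_zero.1 h⟩
      · exact Or.inr ⟨rfl, eq_neg_of_add_eq_zero_left h⟩
    · rintro (⟨rfl, rfl⟩ | ⟨rfl, rfl⟩)
      · exact ⟨⟨hT0, hT⟩, rfl⟩
      · exact ⟨⟨neg_ne_zero.2 hT0, by rw [neg_sq]; exact hT⟩, rfl⟩

theorem good_lt (h2 : (2 : F) ≠ 0) (hodd : Fintype.card F % 2 = 1) (c k : F) (hc : ¬ IsSquare c) :
    (good (1 : F) 0).card < (good c k).card := by
  have h1 := card_pairs h2 (1 : F) 0
  have h3 := card_pairs h2 c k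
  set S := (univ ×ˢ univ : Finset (F × F)).filter fun z => z.2 ≠ 0 ∧ (z.1 - 0) ^ 2 + z.2 ^ 2 = 1
  set T := (univ ×ˢ univ : Finset (F × F)).filter fun z => z.2 ≠ 0 ∧ (z.1 - k) ^ 2 + z.2 ^ 2 = c
  obtain ⟨a, b, hab⟩ := FiniteField.exists_root_sum_quadratic
    (f := Polynomial.X ^ 2 - Polynomial.C c) (g := (Polynomial.X ^ 2 : Polynomial F))
    (Polynomial.degree_X_pow_sub_C (by norm_num) c) (Polynomial.degree_X_pow 2) hodd
  simp at hab
  have hc0 : c ≠ 0 := fun e => hc (e ▸ IsSquare.zero)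
  have hsub : (insert ((1 : F), (0 : F)) S).card ≤ T.card := by
    refine Finset.card_le_card_of_injOn (fun z => (a * z.1 - b * z.2 + k, b * z.1 + a * z.2)) ?_ ?_
    · intro z hz
      have hz' : z.1 ^ 2 + z.2 ^ 2 = 1 := by
        rw [mem_coe, mem_insert] at hz
        rcases hz with rfl | hz
        · simp
        · simp only [S, mem_filter, sub_zero] at hz; exact hz.2.2
      have e : (a * z.1 - b * z.2) ^ 2 + (b * z.1 + a * z.2) ^ 2 = c := by
        linear_combination hab * (z.1 ^ 2 + z.2 ^ 2) + c * hz'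
      simp only [T, coe_filter, Set.mem_ofPred_eq, mem_product, mem_univ, true_and, add_sub_cancel_right]
      refine ⟨fun h0 => hc ⟨a * z.1 - b * z.2, ?_⟩, e⟩
      rw [h0] at e; linear_combination -e
    · intro z _ w _ h
      simp only [Prod.mk.injEq] at h
      obtain ⟨e1, e2⟩ := h
      have f1 : c * (z.1 - w.1) = 0 := by
        linear_combination a * e1 + b * e2 - (z.1 - w.1) * hab
      have f2 : c * (z.2 - w.2) = 0 := by
        linear_combination a * e2 - b * e1 - (z.2 - w.2) * hab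
      exact Prod.ext (sub_eq_zero.1 ((mul_eq_zero.1 f1).resolve_left hc0))
        (sub_eq_zero.1 ((mul_eq_zero.1 f2).resolve_left hc0))
  rw [card_insert_of_notMem (by simp [S])] at hsub
  omega

theorem exists_nonsq_param (h2 : (2 : F) ≠ 0) (hF : 4 ≤ Fintype.card F) :
    ∃ X : F, ¬ IsSquare (1 - X ^ 2) := by
  have hrc : ringChar F ≠ 2 := fun e => h2 (by
    have := ringChar.Nat.cast_ringChar (R := F); rw [e] at this; exact_mod_cast this)
  obtain ⟨n₀, hn₀⟩ := FiniteField.exists_nonsquare hrc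
  obtain ⟨n, hn, hn1⟩ : ∃ n : F, ¬ IsSquare n ∧ n + 1 ≠ 0 := by
    by_cases e : n₀ + 1 = 0
    · obtain ⟨s, hs⟩ : ∃ s : F, s ∉ ({0, 1, -1} : Finset F) := by
        by_contra hh
        push Not at hh
        have := Finset.card_le_card (s := (univ : Finset F)) (t := {0, 1, -1}) (fun x _ => hh x)
        rw [card_univ] at this
        have := this.trans (Finset.card_le_three)
        omega
      simp only [mem_insert, mem_singleton, not_or] at hs
      refine ⟨n₀ * (s * s), fun ⟨w, hw⟩ => hn₀ ⟨w / s, ?_⟩, fun e' => ?_⟩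
      · field_simp [hs.1]; linear_combination hw
      · have : (s - 1) * (s + 1) = 0 := by linear_combination -e' + s * s * e
        rcases mul_eq_zero.1 this with h | h
        · exact hs.2.1 (sub_eq_zero.1 h)
        · exact hs.2.2 (eq_neg_of_add_eq_zero_left h)
    · exact ⟨n₀, hn₀, e⟩
  refine ⟨(n - 1) / (n + 1), fun ⟨w, hw⟩ => hn ⟨w * (n + 1) / 2, ?_⟩⟩
  field_simp at hw ⊢
  linear_combination hw

end Count

theorem witness (h2 : (2 : F) ≠ 0) (a b c a' b' c' k D X Y T : F) (da : a * -a - b * c = 1)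
    (db : a' * -a' - b' * c' = 1) (hk : 2 * k = -(2 * a * a' + b * c' + c * b')) (hD : D = 1 - k ^ 2)
    (hD0 : D ≠ 0) (hT : (Y - k * X) ^ 2 + T ^ 2 = D * (1 - X ^ 2)) :
    ∃ za zb zc : F, za * -za - zb * zc = 1 ∧ 2 * a * za + b * zc + c * zb = -(2 * X) ∧
      2 * a' * za + b' * zc + c' * zb = -(2 * Y) := by
  obtain ⟨wa, hwa⟩ : ∃ wa : F, 2 * wa = b * c' - c * b' := ⟨_, mul_div_cancel₀ _ h2⟩
  obtain ⟨α, hα⟩ : ∃ α : F, α = (X - k * Y) / D := ⟨_, rfl⟩
  obtain ⟨β, hβ⟩ : ∃ β : F, β = (Y - k * X) / D := ⟨_, rfl⟩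
  obtain ⟨γ, hγ⟩ : ∃ γ : F, γ = T / D := ⟨_, rfl⟩
  have hαβ : α + k * β = X := by rw [hα, hβ]; field_simp; linear_combination -X * hD
  have hβα : β + k * α = Y := by rw [hα, hβ]; field_simp; linear_combination -Y * hD
  have hw : -(wa ^ 2 + (a * b' - b * a') * (c * a' - a * c')) = D := by
    have h4 : (4 : F) ≠ 0 := by
      rw [show (4 : F) = 2 * 2 by norm_num]; exact mul_ne_zero h2 h2
    refine mul_left_cancel₀ h4 ?_
    linear_combination -(2 * wa + (b * c' - c * b')) * hwa
      + (2 * k - (2 * a * a' + b * c' + c * b')) * hk + 4 * (a' * -a' - b' * c') * da + 4 * db - 4 * hD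
  refine ⟨α * a + β * a' + γ * wa, α * b + β * b' + γ * (a * b' - b * a'),
    α * c + β * c' + γ * (c * a' - a * c'), ?_, ?_, ?_⟩
  · have hQ : α ^ 2 + β ^ 2 + 2 * k * α * β + γ ^ 2 * D = 1 := by
      rw [hα, hβ, hγ]
      field_simp
      linear_combination D * hT - (X ^ 2 + Y ^ 2 - 2 * k * X * Y + X ^ 2 * D) * hD
    linear_combination α ^ 2 * da + β ^ 2 * db - α * β * hk - α * γ * a * hwa - β * γ * a' * hwa
      + γ ^ 2 * hw + hQ
  · linear_combination -2 * α * da + β * hk + a * γ * hwa - 2 * hαβ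
  · linear_combination -2 * β * db + α * hk + a' * γ * hwa - 2 * hβα

/-- A common neighbour in odd characteristic. -/
theorem common_odd (h2 : (2 : F) ≠ 0) (hF : 4 ≤ Fintype.card F) (A B : SL₂)
    (hA : A.1 1 1 = - A.1 0 0) (hB : B.1 1 1 = - B.1 0 0)
    (hAB : prj A ≠ prj B) (hnadj : ¬ Odd (orderOf (prj A * prj B))) :
    ∃ Z : SL₂, Z.1 1 1 = - Z.1 0 0 ∧ Z ∉ Subgroup.center SL₂ ∧
      prj A ≠ prj Z ∧ Odd (orderOf (prj A * prj Z)) ∧ prj Z ≠ prj B ∧ Odd (orderOf (prj B * prj Z)) := by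
  classical
  have hrc : ringChar F ≠ 2 := fun e => h2 (by
    have := ringChar.Nat.cast_ringChar (R := F); rw [e] at this; exact_mod_cast this)
  have hodd := FiniteField.odd_card_of_char_ne_two hrc
  have da := det_eq A
  have db := det_eq B
  rw [hA] at da
  rw [hB] at db
  set a := A.1 0 0 with ea
  set b := A.1 0 1 with eb
  set c := A.1 1 0 with ec
  set a' := B.1 0 0 with ea'
  set b' := B.1 0 1 with eb'
  set c' := B.1 1 0 with ec'
  set k := -(2 * a * a' + b * c' + c * b') / 2 with hk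
  obtain ⟨w, hw, hw0⟩ : ∃ w : F, 1 - k ^ 2 = w ^ 2 ∧ w ≠ 0 := by
    by_contra hcon
    refine hnadj ?_
    rw [← map_mul]
    refine odd_order h2 _ (-k) ?_ ?_
    · simp only [Matrix.SpecialLinearGroup.coe_mul, Matrix.mul_apply, Fin.sum_univ_two, hA, hB,
        ← ea, ← eb, ← ec, ← ea', ← eb', ← ec', hk]
      field_simp
      ring
    · intro w hw
      by_contra h0
      exact hcon ⟨w, by linear_combination hw, h0⟩
  set D := 1 - k ^ 2 with hD
  have hD0 : D ≠ 0 := by rw [hw]; exact pow_ne_zero 2 hw0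
  obtain ⟨X, hX⟩ := exists_nonsq_param h2 hF
  have hcns : ¬ IsSquare (D * (1 - X ^ 2)) := fun ⟨r, hr⟩ => hX ⟨r / w, by
    rw [hw] at hr; field_simp; linear_combination hr⟩
  have hlt := good_lt h2 hodd (D * (1 - X ^ 2)) (k * X) hcns
  obtain ⟨Y, hY, hY'⟩ : ∃ Y, Y ∈ good (D * (1 - X ^ 2)) (k * X) ∧ Y ∉ good (1 : F) 0 := by
    by_contra hcon
    push Not at hcon
    exact absurd (Finset.card_le_card hcon) (by omega)
  simp only [good, Finset.mem_filter, Finset.mem_univ, true_and, sub_zero] at hY hY'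
  obtain ⟨T, hT0, hT⟩ := hY
  have hYns : ∀ v : F, 1 - (-Y) ^ 2 = v ^ 2 → v = 0 := by
    intro v hv
    by_contra h0
    exact hY' ⟨v, h0, by linear_combination -hv⟩
  have hXns : ∀ v : F, 1 - (-X) ^ 2 = v ^ 2 → v = 0 :=
    fun v hv => absurd ⟨v, by linear_combination hv⟩ hX
  obtain ⟨za, zb, zc, hzdet, hzA, hzB⟩ := witness h2 a b c a' b' c' k D X Y T da db
    (by rw [hk]; field_simp) hD hD0 hT
  let Z : SL₂ := ⟨!![za, zb; zc, -za], by rw [Matrix.det_fin_two_of]; exact hzdet⟩
  have hZv : Z.1 = !![za, zb; zc, -za] := rfl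
  have htA : (A * Z).1 0 0 + (A * Z).1 1 1 = 2 * (-X) := by
    simp [Matrix.SpecialLinearGroup.coe_mul, Matrix.mul_apply, Fin.sum_univ_two, hA, hZv,
      ← ea, ← eb, ← ec]
    linear_combination hzA
  have htB : (B * Z).1 0 0 + (B * Z).1 1 1 = 2 * (-Y) := by
    simp [Matrix.SpecialLinearGroup.coe_mul, Matrix.mul_apply, Fin.sum_univ_two, hB, hZv,
      ← ea', ← eb', ← ec']
    linear_combination hzB
  have hZ1 : Z.1 1 1 = - Z.1 0 0 := by simp [hZv]
  have hZn : Z ∉ Subgroup.center SL₂ := by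
    rw [central_iff, hZv]
    rintro ⟨e1, e2, e3⟩
    simp at e1 e2 e3
    have : 2 * za = 0 := by linear_combination e3
    rw [(mul_eq_zero.1 this).resolve_left h2, e1] at hzdet
    simp at hzdet
  refine ⟨Z, hZ1, hZn, ?_, ?_, ?_, ?_⟩
  · intro e
    obtain ⟨r, hr, he⟩ := prj_eq A Z e
    rw [hZv] at he
    have f1 := congrFun (congrFun he 0) 0
    have f2 := congrFun (congrFun he 0) 1
    have f3 := congrFun (congrFun he 1) 0
    simp [← ea, ← eb, ← ec] at f1 f2 f3
    rw [f1, f2, f3] at hzA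
    have hXr : X = r := mul_left_cancel₀ h2 (by linear_combination hzA + 2 * r * da)
    apply hX
    rw [hXr, pow_two, hr, sub_self]
    exact IsSquare.zero
  · rw [← map_mul]; exact odd_order h2 _ (-X) htA hXns
  · intro e
    obtain ⟨r, hr, he⟩ := prj_eq B Z e.symm
    rw [hZv] at he
    have f1 := congrFun (congrFun he 0) 0
    have f2 := congrFun (congrFun he 0) 1
    have f3 := congrFun (congrFun he 1) 0
    simp [← ea', ← eb', ← ec'] at f1 f2 f3
    rw [f1, f2, f3] at hzA
    have hXr : X = r * k := by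
      refine mul_left_cancel₀ h2 ?_
      rw [hk]
      field_simp
      linear_combination hzA
    refine hX ⟨w, ?_⟩
    rw [hXr]
    linear_combination hw - k ^ 2 * hr
  · rw [← map_mul]; exact odd_order h2 _ (-Y) htB hYns

/-- A common neighbour in characteristic two. -/
theorem common_two [CharP F 2] (A B : SL₂)
    (hA : A.1 1 1 = - A.1 0 0) (hB : B.1 1 1 = - B.1 0 0)
    (nA : A ∉ Subgroup.center SL₂) (nB : B ∉ Subgroup.center SL₂) :
    ∃ Z : SL₂, Z.1 1 1 = - Z.1 0 0 ∧ Z ∉ Subgroup.center SL₂ ∧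
      prj A ≠ prj Z ∧ Odd (orderOf (prj A * prj Z)) ∧ prj Z ≠ prj B ∧ Odd (orderOf (prj B * prj Z)) := by
  have two0 : (2 : F) = 0 := CharTwo.two_eq_zero
  rw [CharTwo.neg_eq] at hA hB
  have hb : A.1 0 1 ≠ 0 ∨ A.1 1 0 ≠ 0 := by
    by_contra h; push Not at h; exact nA ((central_iff A).2 ⟨h.1, h.2, hA.symm⟩)
  have hb' : B.1 0 1 ≠ 0 ∨ B.1 1 0 ≠ 0 := by
    by_contra h; push Not at h; exact nB ((central_iff B).2 ⟨h.1, h.2, hB.symm⟩)
  obtain ⟨v, w, h1, h2⟩ : ∃ v w : F, A.1 0 1 * w + A.1 1 0 * v ≠ 0 ∧ B.1 0 1 * w + B.1 1 0 * v ≠ 0 := by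
    by_cases hx : A.1 0 1 ≠ 0 ∧ B.1 0 1 ≠ 0
    · exact ⟨0, 1, by simpa using hx.1, by simpa using hx.2⟩
    by_cases hy : A.1 1 0 ≠ 0 ∧ B.1 1 0 ≠ 0
    · exact ⟨1, 0, by simpa using hy.1, by simpa using hy.2⟩
    refine ⟨1, 1, ?_, ?_⟩ <;> rw [mul_one, mul_one] <;> grind
  have hc2 : ringChar F = 2 := ringChar.eq F 2
  obtain ⟨u, hu⟩ := FiniteField.isSquare_of_char_two hc2 (1 + v * w)
  let Z : SL₂ := ⟨!![u, v; w, u], by rw [Matrix.det_fin_two_of]; linear_combination -hu⟩
  have hZv : Z.1 = !![u, v; w, u] := rfl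
  have tA : (A * Z).1 0 0 + (A * Z).1 1 1 ≠ 0 := by
    convert h1 using 1
    simp [hZv, Matrix.SpecialLinearGroup.coe_mul, Matrix.mul_apply, Fin.sum_univ_two, hA]
    linear_combination A.1 0 0 * u * two0
  have tB : (B * Z).1 0 0 + (B * Z).1 1 1 ≠ 0 := by
    convert h2 using 1
    simp [hZv, Matrix.SpecialLinearGroup.coe_mul, Matrix.mul_apply, Fin.sum_univ_two, hB]
    linear_combination B.1 0 0 * u * two0
  have ne_of : ∀ C : SL₂, C.1 1 1 = C.1 0 0 → (C * Z).1 0 0 + (C * Z).1 1 1 ≠ 0 → prj C ≠ prj Z := by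
    intro C hC ht e
    obtain ⟨r, -, he⟩ := prj_eq C Z e
    apply ht
    simp [Matrix.SpecialLinearGroup.coe_mul, he, Matrix.mul_apply, Fin.sum_univ_two, hC]
    linear_combination (r * (C.1 0 0 * C.1 0 0) + r * (C.1 0 1 * C.1 1 0)) * two0
  refine ⟨Z, by simp [hZv, CharTwo.neg_eq], ?_, ne_of A hA tA, ?_, (ne_of B hB tB).symm, ?_⟩
  · rw [central_iff]
    rintro ⟨e1, e2, -⟩
    simp [hZv] at e1 e2
    simp [e1, e2] at h1
  · rw [← map_mul]; exact odd_order_two _ tA
  · rw [← map_mul]; exact odd_order_two _ tB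

theorem exists_commuting_pair (hF : 4 ≤ Fintype.card F) : ∃ J K : SL₂,
    (J.1 1 1 = - J.1 0 0 ∧ J ∉ Subgroup.center SL₂) ∧ (K.1 1 1 = - K.1 0 0 ∧ K ∉ Subgroup.center SL₂) ∧
    ((J * K).1 1 1 = - (J * K).1 0 0 ∧ J * K ∉ Subgroup.center SL₂) := by
  classical
  have hj : (jay : SL₂).1 1 1 = - (jay : SL₂).1 0 0 ∧ (jay : SL₂) ∉ Subgroup.center SL₂ :=
    ⟨by simp [jay], by rw [central_iff]; simp [jay]⟩
  by_cases h2 : (2 : F) = 0
  · obtain ⟨l, hl⟩ : ∃ l : F, l ∉ ({0, 1} : Finset F) := by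
      by_contra hh
      push Not at hh
      have := Finset.card_le_card (s := (Finset.univ : Finset F)) (t := {0, 1}) (fun x _ => hh x)
      rw [Finset.card_univ] at this
      have := this.trans Finset.card_le_two
      omega
    simp only [Finset.mem_insert, Finset.mem_singleton, not_or] at hl
    let K : SL₂ := ⟨!![1 + l, l; l, 1 + l], by rw [Matrix.det_fin_two_of]; linear_combination l * h2⟩
    have hKv : K.1 = !![1 + l, l; l, 1 + l] := rfl
    have hJv : (jay : SL₂).1 = !![0, -1; 1, 0] := rfl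
    refine ⟨jay, K, hj, ⟨?_, ?_⟩, ⟨?_, ?_⟩⟩
    · simp [K]; linear_combination (1 + l) * h2
    · rw [central_iff]; simp [K, hl.1]
    · simp [hKv, hJv, Matrix.SpecialLinearGroup.coe_mul, Matrix.mul_apply, Fin.sum_univ_two]
    · rw [central_iff]
      simp [hKv, hJv, Matrix.SpecialLinearGroup.coe_mul, Matrix.mul_apply, Fin.sum_univ_two]
      intro e
      exact absurd (show l = 1 by linear_combination -e + (0:F) * h2 - 1 * h2) hl.2
  · have hrc : ringChar F ≠ 2 := fun e => h2 (by
      have := ringChar.Nat.cast_ringChar (R := F); rw [e] at this; exact_mod_cast this)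
    obtain ⟨a, b, hab⟩ := FiniteField.exists_root_sum_quadratic
      (f := Polynomial.X ^ 2 - Polynomial.C (-1 : F)) (g := (Polynomial.X ^ 2 : Polynomial F))
      (Polynomial.degree_X_pow_sub_C (by norm_num) _) (Polynomial.degree_X_pow 2)
      (FiniteField.odd_card_of_char_ne_two hrc)
    simp at hab
    let K : SL₂ := ⟨!![a, b; b, -a], by rw [Matrix.det_fin_two_of]; linear_combination -hab⟩
    have nc : ∀ g : SL₂, g.1 1 1 = - g.1 0 0 → g ∉ Subgroup.center SL₂ := by
      intro g hg hc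
      rw [central_iff, hg] at hc
      have hd := det_eq g
      rw [hg, hc.1] at hd
      have h0 : 2 * g.1 0 0 = 0 := by linear_combination hc.2.2
      rw [(mul_eq_zero.1 h0).resolve_left h2] at hd
      simp at hd
    have hK : K.1 1 1 = - K.1 0 0 := by simp [K]
    have hKv : K.1 = !![a, b; b, -a] := rfl
    have hJv : (jay : SL₂).1 = !![0, -1; 1, 0] := rfl
    have hJK : (jay * K).1 1 1 = - (jay * K).1 0 0 := by simp [hKv, hJv, Matrix.SpecialLinearGroup.coe_mul, Matrix.mul_apply, Fin.sum_univ_two]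
    exact ⟨jay, K, hj, ⟨hK, nc _ hK⟩, ⟨hJK, nc _ hJK⟩⟩

end Finite

theorem main {F : Type*} [Field F] [Fintype F] (hF : 4 ≤ Fintype.card F)
    (t : Matrix.ProjectiveSpecialLinearGroup (Fin 2) F) (ht : orderOf t = 2) :
    (SimpleGraph.fromRel fun x y : {x : Matrix.ProjectiveSpecialLinearGroup (Fin 2) F // IsConj t x} =>
        Odd (orderOf (x.1 * y.1))).Connected ∧
      (SimpleGraph.fromRel fun x y : {x : Matrix.ProjectiveSpecialLinearGroup (Fin 2) F // IsConj t x} =>
        Odd (orderOf (x.1 * y.1))).diam = 2 := by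
  set Γ := SimpleGraph.fromRel fun x y : {x : Matrix.ProjectiveSpecialLinearGroup (Fin 2) F // IsConj t x} =>
        Odd (orderOf (x.1 * y.1)) with hΓ
  have lift : ∀ x : {x : Matrix.ProjectiveSpecialLinearGroup (Fin 2) F // IsConj t x},
      ∃ A, prj A = x.1 ∧ A.1 1 1 = - A.1 0 0 ∧ A ∉ Subgroup.center _ := by
    intro x
    obtain ⟨A, hA⟩ := QuotientGroup.mk'_surjective _ x.1
    have hx : orderOf (prj A) = 2 := by
      show orderOf (QuotientGroup.mk' _ A) = 2
      rw [hA]
      obtain ⟨c, hc⟩ := isConj_iff.1 x.2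
      rw [← hc]
      exact ((MulAut.conj c).orderOf_eq t).trans ht
    exact ⟨A, hA, trace_zero_of_order_two A hx⟩
  have near : ∀ u v, Γ.edist u v ≤ 2 := by
    intro u v
    by_cases huv : u = v
    · subst huv; simp
    by_cases hadj : Γ.Adj u v
    · rw [SimpleGraph.edist_eq_one_iff_adj.2 hadj]; norm_num
    obtain ⟨A, hA, tA, nA⟩ := lift u
    obtain ⟨B, hB, tB, nB⟩ := lift v
    have hne : prj A ≠ prj B := by rw [hA, hB]; exact fun e => huv (Subtype.ext e)
    have hnadj : ¬ Odd (orderOf (prj A * prj B)) := by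
      rw [hA, hB]
      intro h
      exact hadj (by rw [hΓ, SimpleGraph.fromRel_adj]; exact ⟨huv, Or.inl h⟩)
    obtain ⟨Z, hZ, nZ, h1, h2, h3, h4⟩ : ∃ Z : Matrix.SpecialLinearGroup (Fin 2) F,
        Z.1 1 1 = - Z.1 0 0 ∧ Z ∉ Subgroup.center _ ∧ prj A ≠ prj Z ∧ Odd (orderOf (prj A * prj Z)) ∧
          prj Z ≠ prj B ∧ Odd (orderOf (prj B * prj Z)) := by
      by_cases h2 : (2 : F) = 0
      · haveI : CharP F 2 := CharTwo.of_one_ne_zero_of_two_eq_zero one_ne_zero h2
        exact common_two A B tA tB nA nB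
      · exact common_odd h2 hF A B tA tB hne hnadj
    let z : {x : Matrix.ProjectiveSpecialLinearGroup (Fin 2) F // IsConj t x} :=
      ⟨prj Z, isConj_of t ht Z hZ nZ⟩
    have a1 : Γ.Adj u z := by
      rw [hΓ, SimpleGraph.fromRel_adj]
      refine ⟨fun e => h1 (hA.trans (congrArg Subtype.val e)), Or.inl ?_⟩
      rw [← hA]; exact h2
    have a2 : Γ.Adj z v := by
      rw [hΓ, SimpleGraph.fromRel_adj]
      refine ⟨fun e => h3 ((congrArg Subtype.val e).trans hB.symm), Or.inr ?_⟩
      rw [← hB]; exact h4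
    calc Γ.edist u v ≤ Γ.edist u z + Γ.edist z v := SimpleGraph.edist_triangle
      _ = 2 := by
        rw [SimpleGraph.edist_eq_one_iff_adj.2 a1, SimpleGraph.edist_eq_one_iff_adj.2 a2]; norm_num
  obtain ⟨J, K, ⟨tJ, nJ⟩, ⟨tK, nK⟩, ⟨tP, nP⟩⟩ := exists_commuting_pair (F := F) hF
  let u : {x : Matrix.ProjectiveSpecialLinearGroup (Fin 2) F // IsConj t x} := ⟨prj J, isConj_of t ht J tJ nJ⟩
  let v : {x : Matrix.ProjectiveSpecialLinearGroup (Fin 2) F // IsConj t x} := ⟨prj K, isConj_of t ht K tK nK⟩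
  have hp := order_two_of_trace_zero _ tP nP
  rw [map_mul] at hp
  have huv : u ≠ v := by
    intro e
    have e' : prj J = prj K := congrArg Subtype.val e
    have h1 := pow_orderOf_eq_one (prj J)
    rw [order_two_of_trace_zero J tJ nJ, pow_two] at h1
    rw [← e', h1, orderOf_one] at hp
    omega
  have hnuv : ¬ Γ.Adj u v := by
    rw [hΓ, SimpleGraph.fromRel_adj]
    rintro ⟨-, h | h⟩
    · rw [show u.1 * v.1 = prj J * prj K from rfl, hp] at h
      exact Nat.not_odd_iff_even.2 even_two h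
    · have : orderOf (v.1 * u.1) = 2 := by
        refine Eq.trans ?_ hp
        have e := (MulAut.conj (prj J)⁻¹).orderOf_eq (prj J * prj K)
        rw [← e, MulAut.conj_apply]
        congr 1
        show prj K * prj J = _
        group
      rw [this] at h
      exact Nat.not_odd_iff_even.2 even_two h
  haveI : Nonempty {x : Matrix.ProjectiveSpecialLinearGroup (Fin 2) F // IsConj t x} := ⟨u⟩
  have hle : Γ.ediam ≤ 2 := SimpleGraph.ediam_le_of_edist_le near
  have hd2 : Γ.edist u v = 2 := by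
    refine le_antisymm (near u v) ?_
    by_contra hlt
    rw [not_le] at hlt
    cases h : Γ.edist u v with
    | top => rw [h] at hlt; exact absurd hlt (by simp)
    | coe k =>
      rw [h] at hlt
      have : k < 2 := by exact_mod_cast hlt
      interval_cases k
      · exact huv (SimpleGraph.edist_eq_zero_iff.1 h)
      · exact hnuv (SimpleGraph.edist_eq_one_iff_adj.1 h)
  have hed : Γ.ediam = 2 := le_antisymm hle (hd2 ▸ SimpleGraph.edist_le_ediam)
  refine ⟨SimpleGraph.connected_of_ediam_ne_top (by rw [hed]; simp), ?_⟩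
  rw [SimpleGraph.diam, hed]
  rfl

/-- Let F be a finite field with at least 4 elements and let X be a conjugacy class of involutions of PSL(2, F). The graph on X joining two distinct involutions whose product has odd order is connected and has diameter exactly 2. -/
theorem result {F : Type*} [Field F] [Fintype F] (hF : 4 ≤ Fintype.card F)
    (t : Matrix.ProjectiveSpecialLinearGroup (Fin 2) F) (ht : orderOf t = 2) :
    (SimpleGraph.fromRel fun x y : {x : Matrix.ProjectiveSpecialLinearGroup (Fin 2) F // IsConj t x} =>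
        Odd (orderOf (x.1 * y.1))).Connected ∧
      (SimpleGraph.fromRel fun x y : {x : Matrix.ProjectiveSpecialLinearGroup (Fin 2) F // IsConj t x} =>
        Odd (orderOf (x.1 * y.1))).diam = 2 :=
  main hF t ht

end Cfsg.Agent.S3266
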