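import Cfsg.Statements.S3269
import Cfsg.Agent.H30.QuaternionFactor
-- import your own Cfsg.Agent.* helpers here

set_option autoImplicit false
open Cfsg

namespace Cfsg.Agent.S3269

/-- Let G be a finite group whose Sylow 2-subgroup S is an internal direct product Q × R with Q generalized quaternion (of order at least 8) and R a subgroup all of whose involutions are central in R. Then G is not simple. In particular no finite simple group has a Sylow 2-subgroup that is a direct product of one or more generalized quaternion groups. -/
theorem result {G : Type*} [Group G] [Finite G]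
    (S : Sylow 2 G) (Q R : Subgroup G) (hQR : Cfsg.IsInternalDirectProduct Q R (S : Subgroup G))
    (n : ℕ) (hn : 1 ≤ n) (eQ : ↥Q ≃* QuaternionGroup (2 ^ n))
    (hR : ∀ r ∈ R, orderOf r = 2 → ∀ s ∈ R, r * s = s * r) :
    ¬ IsSimpleGroup G := by
  intro hsimp
  obtain ⟨u, hu, huS, hiso⟩ := H30.QuaternionFactor.exists_isolated S Q R hQR n hn eQ hR
  obtain ⟨N, hN, hodd, hcom⟩ := H61.zStarTheorem S u hu huS hiso
  rcases hsimp.eq_bot_or_eq_top_of_normal N hN with h | h
  · have hc : u ∈ Subgroup.center G := by
      rw [Subgroup.mem_center_iff]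
      intro g
      have h1 : u * g * u⁻¹ * g⁻¹ = 1 := by simpa [h] using hcom g
      calc g * u = (u * g * u⁻¹ * g⁻¹) * g * u := by rw [h1, one_mul]
        _ = u * g := by group
    rcases hsimp.eq_bot_or_eq_top_of_normal (Subgroup.center G) inferInstance with h' | h'
    · rw [h', Subgroup.mem_bot] at hc
      rw [hc, orderOf_one] at hu
      omega
    · obtain ⟨hP, z, huniq, hzo, hzc, -⟩ := H30.QuaternionFactor.quaternion_facts n hn
      have hab : ∀ a b : QuaternionGroup (2 ^ n), a * b = b * a := by
        intro a b
        have := Subgroup.mem_center_iff.mp (h' ▸ Subgroup.mem_top ((eQ.symm b : Q) : G)) ((eQ.symm a : Q) : G)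
        apply eQ.symm.injective
        rw [map_mul, map_mul]
        exact Subtype.ext this
      have hbot : commutator (QuaternionGroup (2 ^ n)) = ⊥ := by
        rw [eq_bot_iff, commutator_def, Subgroup.commutator_le]
        intro a _ b _
        rw [Subgroup.mem_bot, commutatorElement_eq_one_iff_commute]
        exact hab a b
      rw [hbot, Subgroup.mem_bot] at hzc
      rw [hzc, orderOf_one] at hzo
      omega
  · rw [h, Subgroup.card_top] at hodd
    have h2 : 2 ∣ Nat.card G := hu ▸ orderOf_dvd_natCard u
    obtain ⟨k, hk⟩ := hodd
    omega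

end Cfsg.Agent.S3269
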