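import Cfsg.Statements.S3280
import Cfsg.Agent.H83.SmallCent.Main
import Cfsg.Agent.S0494
import Cfsg.Agent.S0495
import Cfsg.Agent.S0496
import Cfsg.Agent.S0497
import Cfsg.Agent.S0984
import Cfsg.Agent.S3331

set_option autoImplicit false
set_option linter.style.haveILetI false
open Cfsg

namespace Cfsg.Agent.S3280

/-- A non-cyclic finite simple group containing an element whose centralizer has order at most 4 is isomorphic to the alternating group of degree 5, 6 or 7, or to PSL(2, 7). -/
theorem result {G : Type*} [Group G] [Finite G] [IsSimpleGroup G] (hG : ¬ IsCyclic G)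
    (w : G) (hw : Nat.card ↥(Subgroup.centralizer ({w} : Set G)) ≤ 4) :
    Nonempty (G ≃* ↥(alternatingGroup (Fin 5))) ∨ Nonempty (G ≃* ↥(alternatingGroup (Fin 6))) ∨
      Nonempty (G ≃* ↥(alternatingGroup (Fin 7))) ∨
      (∃ (F : Type) (_ : Field F) (_ : Fintype F), Fintype.card F = 7 ∧ Nonempty (G ≃* Matrix.ProjectiveSpecialLinearGroup (Fin 2) F)) := by
  classical
  haveI := Fintype.ofFinite G
  haveI : Fact (Nat.Prime 2) := ⟨Nat.prime_two⟩
  have hnc : ¬ IsMulCommutative G := fun h => hG (by
    haveI := h
    letI : CommGroup G := { ‹Group G› with mul_comm := fun a b => h.is_comm.comm a b }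
    infer_instance)
  have hwmem : w ∈ Subgroup.centralizer ({w} : Set G) := Subgroup.mem_centralizer_singleton_iff.2 rfl
  have hdvd : orderOf w ∣ Nat.card ↥(Subgroup.centralizer ({w} : Set G)) :=
    Subgroup.orderOf_dvd_natCard _ hwmem
  have hle : orderOf w ≤ 4 := (Nat.le_of_dvd Nat.card_pos hdvd).trans hw
  have hpos : 0 < orderOf w := orderOf_pos w
  have hbig : ∀ n : ℕ, Nat.card G = n → n ≤ 12 → False := by
    intro n hn h12
    rcases S0496.result hnc (by omega) with h | h | h | h | h | h <;> omega
  rcases (show orderOf w = 1 ∨ orderOf w = 2 ∨ orderOf w = 3 ∨ orderOf w = 4 by omega) with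
    ho | ho | ho | ho
  · exfalso
    rw [orderOf_eq_one_iff] at ho
    subst ho
    have htop : Subgroup.centralizer ({1} : Set G) = ⊤ := by
      rw [eq_top_iff]
      exact fun g _ => Subgroup.mem_centralizer_singleton_iff.2 (Commute.one_right g).eq
    rw [htop, Subgroup.card_top] at hw
    exact hbig _ rfl (by omega)
  · have hcases : Nat.card ↥(Subgroup.centralizer ({w} : Set G)) = 2 ∨
        Nat.card ↥(Subgroup.centralizer ({w} : Set G)) = 4 := by
      rw [ho] at hdvd
      have := Nat.card_pos (α := ↥(Subgroup.centralizer ({w} : Set G)))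
      omega
    rcases hcases with hc | hc
    · exfalso
      obtain ⟨S, hS⟩ := (IsPGroup.of_card (p := 2) (n := 1)
        (G := ↥(Subgroup.centralizer ({w} : Set G))) (by rw [hc, pow_one])).exists_le_sylow
      have hS2 : Nat.card ↥(S : Subgroup G) = 2 := by
        haveI : Nontrivial ↥(S : Subgroup G) :=
          ⟨⟨w, hS hwmem⟩, 1, fun h => H65.ne_one_of_orderOf ho (congrArg Subtype.val h)⟩
        obtain ⟨z, -, hzc, hz⟩ := Cfsg.Agent.PGroups.exists_mem_center_orderOf_eq S.isPGroup'
          (⊤ : Subgroup ↥(S : Subgroup G)) top_ne_bot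
        have hzw : (z : G) = w := by
          have hzC : (z : G) ∈ Subgroup.centralizer ({w} : Set G) :=
            Subgroup.mem_centralizer_singleton_iff.2
              (congrArg Subtype.val (Subgroup.mem_center_iff.1 hzc ⟨w, hS hwmem⟩)).symm
          have hzp : Subgroup.centralizer ({w} : Set G) = Subgroup.zpowers w :=
            (Subgroup.eq_of_le_of_card_ge (Subgroup.zpowers_le.2 hwmem)
              (by rw [hc, Nat.card_zpowers, ho])).symm
          rw [hzp] at hzC
          exact Cfsg.Agent.PGroups.eq_of_sq_eq_one (inferInstance : IsCyclic (Subgroup.zpowers w))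
            hzC (Subgroup.mem_zpowers w)
            (orderOf_dvd_iff_pow_eq_one.1 (dvd_of_eq ((Subgroup.orderOf_coe z).trans hz)))
            (orderOf_dvd_iff_pow_eq_one.1 (dvd_of_eq ho))
            (H65.ne_one_of_orderOf ((Subgroup.orderOf_coe z).trans hz)) (H65.ne_one_of_orderOf ho)
        have hSC : (S : Subgroup G) ≤ Subgroup.centralizer ({w} : Set G) := fun s hs =>
          Subgroup.mem_centralizer_singleton_iff.2
            (hzw ▸ (congrArg Subtype.val (Subgroup.mem_center_iff.1 hzc ⟨s, hs⟩)))
        rw [le_antisymm hSC hS, hc]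
      obtain ⟨H, hH⟩ := S0219.result (G := G)
        (even_iff_two_dvd.2 (ho ▸ orderOf_dvd_natCard w)) S (isCyclic_of_prime_card hS2)
      exact H83.SmallCent.no_index_two hG H hH
    · rcases H83.SmallCent.card_sixty hG ho hc with h | h
      · exact (hbig _ h le_rfl).elim
      · exact Or.inl (S0494.result h)
  · have hX : Subgroup.centralizer ((Subgroup.zpowers w : Subgroup G) : Set G) =
        Subgroup.zpowers w := by
      have h3 : Nat.card ↥(Subgroup.centralizer ({w} : Set G)) = 3 := by
        rw [ho] at hdvd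
        have := Nat.card_pos (α := ↥(Subgroup.centralizer ({w} : Set G)))
        omega
      have hzp : Subgroup.centralizer ({w} : Set G) = Subgroup.zpowers w :=
        (Subgroup.eq_of_le_of_card_ge (Subgroup.zpowers_le.2 hwmem)
          (by rw [h3, Nat.card_zpowers, ho])).symm
      refine le_antisymm (fun a ha => hzp ▸ Subgroup.mem_centralizer_singleton_iff.2
        (Subgroup.mem_centralizer_iff.1 ha w (Subgroup.mem_zpowers w)).symm) fun a ha => ?_
      refine Subgroup.mem_centralizer_iff.2 fun b hb => ?_
      obtain ⟨i, rfl⟩ := Subgroup.mem_zpowers_iff.1 ha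
      obtain ⟨j, rfl⟩ := Subgroup.mem_zpowers_iff.1 hb
      exact (Commute.zpow_zpow_self w j i).eq
    have hwX : Nat.card (Subgroup.zpowers w) = 3 := by rw [Nat.card_zpowers, ho]
    rcases S3331.result (Subgroup.zpowers w) hwX hX with
      ⟨N, hN, hnil, hcop, hq⟩ | ⟨N, hN, hab, -, ⟨e⟩⟩ | ⟨e⟩
    · exfalso
      rcases hN.eq_bot_or_eq_top with h | h
      · subst h
        rcases hq with hq | ⟨⟨e⟩⟩
        · rw [← Subgroup.index_eq_card, Subgroup.index_bot] at hq
          exact hbig _ hq (by norm_num)
        · have h6 := Nat.card_congr e.toEquiv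
          rw [← Subgroup.index_eq_card, Subgroup.index_bot, Nat.card_perm, Nat.card_fin] at h6
          exact hbig _ h6 (by norm_num [Nat.factorial])
      · subst h
        rw [Subgroup.card_top] at hcop
        exact absurd ((Nat.coprime_comm.1 hcop).eq_one_of_dvd (hwX ▸ Subgroup.card_subgroup_dvd_card _))
          (by norm_num)
    · rcases hN.eq_bot_or_eq_top with h | h
      · subst h
        exact Or.inl ⟨QuotientGroup.quotientBot.symm.trans e⟩
      · subst h
        exact absurd ⟨⟨fun a b => congrArg Subtype.val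
          (hab.is_comm.comm (⟨a, Subgroup.mem_top a⟩ : (⊤ : Subgroup G)) ⟨b, Subgroup.mem_top b⟩)⟩⟩ hnc
    · haveI : Fact (Nat.Prime 7) := ⟨by norm_num⟩
      exact Or.inr (Or.inr (Or.inr ⟨ZMod 7, inferInstance, inferInstance, ZMod.card 7, e⟩))
  · have hc4 : Nat.card ↥(Subgroup.centralizer ({w} : Set G)) = 4 := by
      rw [ho] at hdvd
      have := Nat.card_pos (α := ↥(Subgroup.centralizer ({w} : Set G)))
      omega
    obtain ⟨S, e, hwS, heS, he, hinv, ⟨eS⟩, hcw, hone⟩ :=
      H83.SmallCent.exists_dihedral hG ho hc4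
    obtain ⟨O, hO⟩ := H83.SmallCent.exists_setup S ho hwS heS he hinv eS hcw hone
    rcases hO.card_cases S hwS heS eS with h | h | h
    · haveI : Fact (Nat.Prime 7) := ⟨by norm_num⟩
      exact Or.inr (Or.inr (Or.inr ⟨ZMod 7, inferInstance, inferInstance, ZMod.card 7,
        S0495.result h (ZMod.card 7)⟩))
    · exact Or.inr (Or.inl (S0497.result h))
    · exact Or.inr (Or.inr (Or.inl (S0984.result h)))

end Cfsg.Agent.S3280
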