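import Cfsg.Statements.S3282
import Cfsg.Agent.H65.BSW.Main

set_option autoImplicit false
open Cfsg

namespace Cfsg.Agent.S3282

/-- The abstract form of the Brauer–Suzuki–Wall Theorem. Let G be a finite group with an involution t and an abelian subgroup K of H = C_G(t) containing t, such that H = K⟨s⟩ for an involution s ∉ K with C_K(s) = ⟨t⟩ and s inverting every element of K, K ∩ K^g = 1 for every g outside H, and all involutions of G conjugate. Then G has a subgroup Q, of order q say, with |G| = q(q+1)(q−1)/2, C_G(x) = Q for every non-identity x ∈ Q, N_G(Q) = QD for an abelian subgroup D of order (q−1)/2 meeting Q trivially, and for every nontrivial subgroup X of D, N_G(X) = N_G(D) = D⟨u⟩ for some involution u ∉ D inverting D. -/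
theorem result {G : Type*} [Group G] [Finite G] (t : G) (ht : orderOf t = 2)
    (K : Subgroup G) (hKab : IsMulCommutative ↥K) (hKH : K ≤ Subgroup.centralizer ({t} : Set G)) (htK : t ∈ K)
    (s : G) (hs : orderOf s = 2) (hsH : s ∈ Subgroup.centralizer ({t} : Set G)) (hsK : s ∉ K)
    (hH : K ⊔ Subgroup.zpowers s = Subgroup.centralizer ({t} : Set G)) (hCK : K ⊓ Subgroup.centralizer ({s} : Set G) = Subgroup.zpowers t)
    (hinv : ∀ x ∈ K, s * x * s⁻¹ = x⁻¹)
    (hTI : ∀ g : G, g ∉ Subgroup.centralizer ({t} : Set G) → K ⊓ K.map (MulAut.conj g).toMonoidHom = ⊥)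
    (hconj : ∀ x y : G, orderOf x = 2 → orderOf y = 2 → IsConj x y) :
    ∃ Q D : Subgroup G, 2 * Nat.card G = Nat.card ↥Q * (Nat.card ↥Q + 1) * (Nat.card ↥Q - 1) ∧
      (∀ x ∈ Q, x ≠ 1 → Subgroup.centralizer ({x} : Set G) = Q) ∧
      IsMulCommutative ↥D ∧ 2 * Nat.card ↥D + 1 = Nat.card ↥Q ∧ Q ⊓ D = ⊥ ∧
      Subgroup.normalizer (Q : Set G) = Q ⊔ D ∧
      ∀ X : Subgroup G, X ≤ D → X ≠ ⊥ →
        Subgroup.normalizer (X : Set G) = Subgroup.normalizer (D : Set G) ∧
        ∃ u : G, orderOf u = 2 ∧ u ∉ D ∧ (∀ d ∈ D, u * d * u⁻¹ = d⁻¹) ∧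
          Subgroup.normalizer (D : Set G) = D ⊔ Subgroup.zpowers u := by
  refine H65.BSW.main
    ({ t := t, s := s, K := K, ht := ht, hs := hs, htK := htK, hsK := hsK, hinv := hinv,
       hone := hconj, comm := ?_, hst := Subgroup.mem_centralizer_singleton_iff.1 hsH, hH := ?_,
       hCK := ?_, hTI := ?_ } : H65.BSW.Data G)
  · intro x hx y hy
    exact congrArg Subtype.val (hKab.is_comm.comm (⟨x, hx⟩ : ↥K) ⟨y, hy⟩)
  · intro g hg
    have hss : s * s = 1 := H65.mul_self_eq_one hs
    have hmem : g ∈ K ⊔ Subgroup.zpowers s := by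
      rw [hH]; exact Subgroup.mem_centralizer_singleton_iff.2 hg
    let U : Subgroup G :=
      { carrier := {x | x ∈ K ∨ s * x ∈ K}
        one_mem' := Or.inl K.one_mem
        mul_mem' := by
          have hsx : ∀ x ∈ K, s * x * s ∈ K := fun x hx => by
            have := hinv x hx
            rw [H65.inv_eq_self hs] at this
            rw [this]; exact K.inv_mem hx
          rintro a b (ha | ha) (hb | hb)
          · exact Or.inl (K.mul_mem ha hb)
          · refine Or.inr ?_
            rw [show s * (a * b) = (s * a * s) * ((s * s)⁻¹ * (s * b)) by group, hss, inv_one,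
              one_mul]
            exact K.mul_mem (hsx a ha) hb
          · refine Or.inr ?_
            rw [← mul_assoc]
            exact K.mul_mem ha hb
          · refine Or.inl ?_
            rw [show a * b = ((s * s)⁻¹ * (s * (s * a) * s) * (s * s)⁻¹) * (s * b) * 1 by group,
              hss, inv_one, one_mul, mul_one, mul_one]
            exact K.mul_mem (hsx _ ha) hb
        inv_mem' := by
          rintro a (ha | ha)
          · exact Or.inl (K.inv_mem ha)
          · refine Or.inr ?_
            have h := hinv _ ha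
            rw [H65.inv_eq_self hs] at h
            rw [show s * a⁻¹ = s * (s * a)⁻¹ * s by group]
            rw [← h, show s * (s * (s * a) * s) * s = (s * s) * (s * a) * (s * s) by group, hss,
              one_mul, mul_one]
            exact ha }
    have hle : K ⊔ Subgroup.zpowers s ≤ U := sup_le (fun x hx => Or.inl hx)
      (Subgroup.zpowers_le.2 (Or.inr (by rw [hss]; exact K.one_mem)))
    exact hle hmem
  · intro x hx hxs
    have h : x ∈ Subgroup.zpowers t := by
      rw [← hCK]
      exact Subgroup.mem_inf.2 ⟨hx, Subgroup.mem_centralizer_singleton_iff.2 hxs⟩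
    obtain ⟨i, rfl⟩ := Subgroup.mem_zpowers_iff.1 h
    rcases Int.even_or_odd i with ⟨j, rfl⟩ | ⟨j, rfl⟩
    · left
      rw [← two_mul, zpow_mul, show t ^ (2 : ℤ) = 1 by
        rw [zpow_two]; exact H65.mul_self_eq_one ht, one_zpow]
    · right
      rw [zpow_add, zpow_mul, show t ^ (2 : ℤ) = 1 by
        rw [zpow_two]; exact H65.mul_self_eq_one ht, one_zpow, one_mul, zpow_one]
  · intro g x hx hx1 hgx
    by_contra hg
    have h := hTI g (fun h => hg (Subgroup.mem_centralizer_singleton_iff.1 h))
    have : g * x * g⁻¹ ∈ K ⊓ K.map (MulAut.conj g).toMonoidHom :=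
      Subgroup.mem_inf.2 ⟨hgx, ⟨x, hx, rfl⟩⟩
    rw [h, Subgroup.mem_bot] at this
    exact hx1 (conj_eq_one_iff.1 this)

end Cfsg.Agent.S3282
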