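import Cfsg.Statements.S3283
import Cfsg.Agent.H47.Ex9.TensorPure
import Cfsg.Agent.H92.ExtraIso

set_option autoImplicit false
open Cfsg

namespace Cfsg.Agent.S3283

open Subgroup Equiv
open Cfsg.Agent.H47.Ex9 (Frame)

universe u v w

theorem frame_of {G : Type u} [Group G] [Finite G] (z : G) (hz : orderOf z = 2)
    (hQ : Cfsg.IsExtraspecial 2 ↥(Cfsg.pCore 2 ↥(centralizer ({z} : Set G))))
    (hQ9 : Nat.card ↥(Cfsg.pCore 2 ↥(centralizer ({z} : Set G))) = 2 ^ 9)
    (hCQ : centralizer ((Cfsg.pCore 2 ↥(centralizer ({z} : Set G))) : Set ↥(centralizer ({z} : Set G))) ≤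
      Cfsg.pCore 2 ↥(centralizer ({z} : Set G)))
    {M : Type v} [Group M] [Finite M]
    (e : ↥(centralizer ({z} : Set G)) ⧸ Cfsg.pCore 2 ↥(centralizer ({z} : Set G)) ≃* M)
    (htwo : ∀ X : Subgroup M, IsPGroup 2 ↥X → Nat.card ↥X ≤ 32)
    (hcen : ∀ X : Subgroup M, IsPGroup 2 ↥X → Nat.card ↥X = 32 → 2 < Nat.card (center ↥X)) :
    Nonempty (Frame G M) := by
  set P := Cfsg.pCore 2 ↥(centralizer ({z} : Set G)) with hP
  have hzz : z * z = 1 := by
    have := pow_orderOf_eq_one z
    rwa [hz, pow_two] at this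
  have hz1 : z ≠ 1 := fun h => by rw [h, orderOf_one] at hz; exact absurd hz (by decide)
  have hzH : z ∈ centralizer ({z} : Set G) := mem_centralizer_singleton_iff.2 rfl
  have hzcen : (⟨z, hzH⟩ : ↥(centralizer ({z} : Set G))) ∈ center ↥(centralizer ({z} : Set G)) :=
    mem_center_iff.2 fun a => Subtype.ext (mem_centralizer_singleton_iff.1 a.2)
  have hzP : (⟨z, hzH⟩ : ↥(centralizer ({z} : Set G))) ∈ P := by
    refine le_sSup (show zpowers (⟨z, hzH⟩ : ↥(centralizer ({z} : Set G))) ∈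
      {N : Subgroup ↥(centralizer ({z} : Set G)) | N.Normal ∧ IsPGroup 2 ↥N} from ⟨⟨?_⟩, ?_⟩)
      (mem_zpowers _)
    · intro n hn g
      have hc : zpowers (⟨z, hzH⟩ : ↥(centralizer ({z} : Set G))) ≤
          center ↥(centralizer ({z} : Set G)) := zpowers_le.2 hzcen
      rwa [mem_center_iff.1 (hc hn) g, mul_inv_cancel_right]
    · refine IsPGroup.of_card (n := 1) ?_
      rw [Nat.card_zpowers, ← orderOf_submonoid, hz]; rfl
  have eP : ↥P ≃* ↥(P.map (centralizer ({z} : Set G)).subtype) :=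
    P.equivMapOfInjective _ (subtype_injective _)
  refine ⟨{
    z := z
    Q := P.map (centralizer ({z} : Set G)).subtype
    π := e.toMonoidHom.comp (QuotientGroup.mk' P)
    π_surj := e.surjective.comp (QuotientGroup.mk'_surjective P)
    π_ker := ?_
    z_sq := hzz
    z_ne := hz1
    zQ := ⟨⟨z, hzH⟩, hzP, rfl⟩
    Q_le := map_subtype_le _
    Q_ex := H92.isExtraspecial_of_mulEquiv eP hQ
    Q_card := by rw [← Nat.card_congr eP.toEquiv, hQ9]; rfl
    CQ := ?_
    M_two := htwo
    M_center := hcen }⟩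
  · intro h
    rw [MonoidHom.comp_apply, MulEquiv.coe_toMonoidHom, map_eq_one_iff e e.injective,
      QuotientGroup.mk'_apply, QuotientGroup.eq_one_iff]
    exact ⟨fun hh => ⟨h, hh, rfl⟩, fun ⟨a, ha, hae⟩ => (Subtype.ext hae : a = h) ▸ ha⟩
  · intro c hc
    have hcH : c ∈ centralizer ({z} : Set G) :=
      mem_centralizer_singleton_iff.2 (hc z ⟨⟨z, hzH⟩, hzP, rfl⟩).symm
    have hcP : (⟨c, hcH⟩ : ↥(centralizer ({z} : Set G))) ∈ P :=
      hCQ (mem_centralizer_iff.2 fun a ha => Subtype.ext (hc a ⟨a, ha, rfl⟩))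
    have h2 := hQ.2
    have hcc : (⟨⟨c, hcH⟩, hcP⟩ : ↥P) ∈ center ↥P :=
      mem_center_iff.2 fun a => Subtype.ext (Subtype.ext (hc _ ⟨(a : ↥(centralizer ({z} : Set G))), a.2, rfl⟩))
    obtain ⟨d, -, huniq⟩ := (Nat.card_eq_two_iff' (1 : ↥(center ↥P))).1 h2
    have hzc : (⟨⟨z, hzH⟩, hzP⟩ : ↥P) ∈ center ↥P :=
      mem_center_iff.2 fun a => Subtype.ext (mem_center_iff.1 hzcen a)
    by_cases hc1 : c = 1
    · exact Or.inl hc1
    refine Or.inr ?_
    have e1 := huniq ⟨_, hcc⟩ fun h => hc1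
      (congrArg (fun t : ↥(center ↥P) => (((t : ↥P) : ↥(centralizer ({z} : Set G))) : G)) h)
    have e2 := huniq ⟨_, hzc⟩ fun h => hz1
      (congrArg (fun t : ↥(center ↥P) => (((t : ↥P) : ↥(centralizer ({z} : Set G))) : G)) h)
    exact congrArg (fun t : ↥(center ↥P) => (((t : ↥P) : ↥(centralizer ({z} : Set G))) : G))
      (e1.trans e2.symm)

theorem card_two_le {N : Type w} [Group N] [Finite N] (m : ℕ) {k : ℕ} (hN : Nat.card N = 2 ^ k * m)
    (hm : ¬ 2 ∣ m) {X : Subgroup N} (hX : IsPGroup 2 ↥X) : Nat.card ↥X ≤ 2 ^ k := by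
  haveI := Fact.mk Nat.prime_two
  obtain ⟨j, hj⟩ := IsPGroup.iff_card.1 hX
  rw [hj]
  refine Nat.le_of_dvd (by positivity) ?_
  have hd := card_subgroup_dvd_card X
  rw [hj, hN] at hd
  exact (Nat.Coprime.pow_left j ((Nat.Prime.coprime_iff_not_dvd Nat.prime_two).2 hm)).dvd_of_dvd_mul_right hd

/-- The parity argument over either quotient. -/
theorem false_of_quotient {G : Type u} [Group G] [Finite G] [IsSimpleGroup G] {M : Type v} [Group M]
    [Finite M] (F : Frame G M) (P : Subgroup (Perm (Fin 6))) (hP : alternatingGroup (Fin 6) ≤ P)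
    (ι : Perm (Fin 3) × ↥P ≃* M)
    (hP' : P = ⊤ ∨ P = alternatingGroup (Fin 6) ∧ ∀ X : Subgroup M, IsPGroup 2 ↥X → Nat.card ↥X ≤ 16) :
    False := by
  classical
  refine F.with_coord fun U _ _ K => ?_
  haveI := Fintype.ofFinite U
  let j : ↥(alternatingGroup (Fin 6)) →* ↥P := Subgroup.inclusion hP
  let ι₀ : Perm (Fin 3) × ↥(alternatingGroup (Fin 6)) →* M :=
    ι.toMonoidHom.comp (MonoidHom.prodMap (MonoidHom.id _) j)
  have hι₀ : Function.Injective ι₀ := ι.injective.comp
    (Prod.map_injective.2 ⟨Function.injective_id, inclusion_injective hP⟩)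
  haveI := alternatingGroup.isSimpleGroup (α := Fin 6) (by simp)
  -- small subgroups normalised by the second factor
  have hsmall : ∀ X : Subgroup M, IsPGroup 2 ↥X →
      (∀ s, ∀ x ∈ X, ι₀ (1, s) * x * (ι₀ (1, s))⁻¹ ∈ X) → Nat.card ↥X < 8 := by
    intro X hX hnorm
    let f : ↥(alternatingGroup (Fin 6)) →* M := ι₀.comp (MonoidHom.inr _ _)
    have hn : (X.comap f).Normal := ⟨fun n hn s => by
      show f (s * n * s⁻¹) ∈ X
      rw [map_mul, map_mul, map_inv]
      exact hnorm s _ hn⟩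
    have hf : Function.Injective f := fun a b h => congrArg Prod.snd (hι₀ h)
    have hbot : X.comap f = ⊥ := by
      refine hn.eq_bot_or_eq_top.resolve_right fun h => ?_
      have h5 : (Frame.Coord.five : ↥(alternatingGroup (Fin 6))) ∈ X.comap f := h ▸ Subgroup.mem_top _
      obtain ⟨k, hk⟩ := hX ⟨_, mem_comap.1 h5⟩
      have h2 : orderOf (Frame.Coord.five : ↥(alternatingGroup (Fin 6))) ∣ 2 ^ k :=
        orderOf_dvd_of_pow_eq_one (hf (by rw [map_pow, map_one]; exact congrArg Subtype.val hk))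
      haveI := Fact.mk Nat.prime_five
      rw [orderOf_eq_prime Frame.Coord.five_pow Frame.Coord.five_ne] at h2
      exact absurd (Nat.prime_five.dvd_of_dvd_pow h2) (by decide)
    -- the product of two sign characters separates the subgroup
    let g : M →* Perm (Fin 3) × ℤˣ :=
      ((MonoidHom.id _).prodMap (Perm.sign.comp P.subtype)).comp ι.symm.toMonoidHom
    have hg : Function.Injective (g.comp X.subtype) := by
      rw [injective_iff_map_eq_one]
      rintro ⟨x, hx⟩ hgx
      have h1 : (ι.symm x).1 = 1 ∧ Perm.sign ((ι.symm x).2 : Perm (Fin 6)) = 1 :=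
        ⟨congrArg Prod.fst hgx, congrArg Prod.snd hgx⟩
      let s : ↥(alternatingGroup (Fin 6)) := ⟨_, Perm.mem_alternatingGroup.2 h1.2⟩
      have hs : f s = x := by
        show ι (1, j s) = x
        rw [← ι.apply_symm_apply x]
        exact congrArg ι (Prod.ext h1.1.symm rfl)
      have : s ∈ X.comap f := mem_comap.2 (hs.symm ▸ hx)
      rw [hbot, mem_bot] at this
      exact Subtype.ext (hs.symm.trans (by rw [this, map_one]; rfl))
    have hX' := hX.map g
    have hle : Nat.card ↥(X.map g) ≤ 2 ^ 2 := card_two_le 3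
      (by rw [Nat.card_prod, Nat.card_perm, Nat.card_fin, Nat.card_eq_fintype_card, Fintype.card_units_int]; rfl)
      (by decide) hX'
    have : Nat.card ↥X ≤ Nat.card ↥(X.map g) :=
      Nat.card_le_card_of_injective (fun x => ⟨g x, x, x.2, rfl⟩) fun a b h =>
        hg (congrArg Subtype.val h :)
    omega
  let E : Frame.Coord.Sub M := ⟨ι₀, hι₀, hsmall⟩
  -- the first factor moves every vector
  let f₀ : M →* ℤˣ := (Perm.sign.comp (MonoidHom.fst _ _)).comp ι.symm.toMonoidHom
  obtain ⟨hidx, hmem⟩ := Frame.Coord.exists_index_two_sign f₀ (n := E.ι (swap 0 1, 1)) (by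
    show Perm.sign (ι.symm (ι (swap 0 1, j 1))).1 = -1
    rw [MulEquiv.symm_apply_apply]
    exact Perm.sign_swap (by decide))
  have hfix := K.fix_three_eq_zero E f₀.ker hidx hmem
  obtain ⟨e, θ, hθ, hadd, hB, hq, hact⟩ := K.exists_model ι.toMonoidHom ι.injective
    (b := j Frame.Coord.five) (by rw [← map_pow, Frame.Coord.five_pow, map_one])
    (fun h => Frame.Coord.five_ne (inclusion_injective hP (h.trans (map_one j).symm)))
    (fun v hv => hfix v (by
      show K.φ (ι (swap 0 1 * swap 1 2, j 1)) v = v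
      rwa [map_one]))
  -- the second factor in its natural position
  have hrange : θ.range = P := by
    refine eq_of_le_of_card_ge ?_ (Nat.card_le_card_of_injective
      (fun p : ↥P => (⟨θ p, p, rfl⟩ : ↥θ.range)) fun a b h => hθ (congrArg Subtype.val h))
    rcases hP' with h | ⟨h, -⟩
    · exact le_of_le_of_eq le_top h.symm
    · have hc : Nat.card ↥θ.range = Nat.card ↥(alternatingGroup (Fin 6)) := by
        rw [← h, Nat.card_congr (MonoidHom.ofInjective hθ).toEquiv]
      have h2 : θ.range.index = 2 := by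
        have h1 := card_mul_index θ.range
        have h3 := card_mul_index (alternatingGroup (Fin 6))
        rw [alternatingGroup.index_eq_two, ← hc] at h3
        have := Nat.eq_of_mul_eq_mul_left Nat.card_pos (h1.trans h3.symm)
        exact this
      rw [Equiv.Perm.eq_alternatingGroup_of_index_eq_two h2, h]
  let θ' : ↥P ≃* ↥P := (MonoidHom.ofInjective hθ).trans (MulEquiv.subgroupCongr hrange)
  have hθ' : ∀ p, ((θ' p : ↥P) : Perm (Fin 6)) = θ p := fun p => rfl
  let T : K.Tensor P :=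
    { e := e
      ι := ((MulEquiv.refl (Perm (Fin 3))).prodCongr θ'.symm).trans ι
      e_add := hadd
      e_B := hB
      e_q := hq
      e_act := fun σ s u => by
        show e (K.φ (ι (σ, θ'.symm s)) u) = _
        rw [← MulEquiv.coe_toMonoidHom, hact, ← hθ', MulEquiv.apply_symm_apply] }
  rcases hP' with rfl | ⟨rfl, h16⟩
  · exact T.false_of_sym
  · exact T.false_of_alt h16

/-- Let G be a finite group with an involution z whose centralizer M has Q = O₂(M) extraspecial of order 2⁹ with C_M(Q) ≤ Q, and M/Q isomorphic to S₃ × A₆ or to S₃ × S₆. Then G is not simple. -/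
theorem result {G : Type*} [Group G] [Finite G] (z : G) (hz : orderOf z = 2)
    (hQ : Cfsg.IsExtraspecial 2 ↥(Cfsg.pCore 2 ↥(Subgroup.centralizer ({z} : Set G)))) (hQ9 : Nat.card ↥(Cfsg.pCore 2 ↥(Subgroup.centralizer ({z} : Set G))) = 2 ^ 9)
    (hCQ : Subgroup.centralizer ((Cfsg.pCore 2 ↥(Subgroup.centralizer ({z} : Set G))) : Set ↥(Subgroup.centralizer ({z} : Set G))) ≤ Cfsg.pCore 2 ↥(Subgroup.centralizer ({z} : Set G)))
    (hMQ : Nonempty (↥(Subgroup.centralizer ({z} : Set G)) ⧸ Cfsg.pCore 2 ↥(Subgroup.centralizer ({z} : Set G)) ≃* (Equiv.Perm (Fin 3) × ↥(alternatingGroup (Fin 6)))) ∨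
      Nonempty (↥(Subgroup.centralizer ({z} : Set G)) ⧸ Cfsg.pCore 2 ↥(Subgroup.centralizer ({z} : Set G)) ≃* (Equiv.Perm (Fin 3) × Equiv.Perm (Fin 6)))) :
    ¬ IsSimpleGroup G := by
  intro hG
  haveI := hG
  have hA : Nat.card (Perm (Fin 3) × ↥(alternatingGroup (Fin 6))) = 2 ^ 4 * 135 := by
    rw [Nat.card_prod, Nat.card_perm, Nat.card_fin, nat_card_alternatingGroup, Nat.card_fin]
    decide
  have hS : Nat.card (Perm (Fin 3) × Perm (Fin 6)) = 2 ^ 5 * 135 := by
    rw [Nat.card_prod, Nat.card_perm, Nat.card_perm, Nat.card_fin, Nat.card_fin]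
    decide
  rcases hMQ with ⟨⟨e⟩⟩ | ⟨⟨e⟩⟩
  · have h16 : ∀ X : Subgroup (Perm (Fin 3) × ↥(alternatingGroup (Fin 6))),
        IsPGroup 2 ↥X → Nat.card ↥X ≤ 16 := fun X hX => card_two_le 135 hA (by decide) hX
    obtain ⟨F⟩ := frame_of z hz hQ hQ9 hCQ e (fun X hX => (h16 X hX).trans (by norm_num))
      fun X hX h => absurd (h16 X hX) (by omega)
    exact false_of_quotient F (alternatingGroup (Fin 6)) le_rfl (MulEquiv.refl _) (Or.inr ⟨rfl, h16⟩)
  · obtain ⟨F⟩ := frame_of z hz hQ hQ9 hCQ e (fun X hX => card_two_le 135 hS (by decide) hX) (by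
      intro X hX h32
      haveI := Fact.mk Nat.prime_two
      let p₁ := MonoidHom.fst (Perm (Fin 3)) (Perm (Fin 6))
      let p₂ := MonoidHom.snd (Perm (Fin 3)) (Perm (Fin 6))
      have h1 : Nat.card ↥(X.map p₁) ≤ 2 ^ 1 := card_two_le 3
        (by rw [Nat.card_perm, Nat.card_fin]; rfl) (by decide) (hX.map p₁)
      have h2 : Nat.card ↥(X.map p₂) ≤ 2 ^ 4 := card_two_le 45
        (by rw [Nat.card_perm, Nat.card_fin]; rfl) (by decide) (hX.map p₂)
      have hle : X ≤ (X.map p₁).prod (X.map p₂) := fun x hx => ⟨⟨x, hx, rfl⟩, ⟨x, hx, rfl⟩⟩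
      have hcard : Nat.card ↥((X.map p₁).prod (X.map p₂)) =
          Nat.card ↥(X.map p₁) * Nat.card ↥(X.map p₂) := by
        rw [Nat.card_congr (Subgroup.prodEquiv _ _).toEquiv, Nat.card_prod]
      have h3 := (card_le_of_le hle).trans_eq hcard
      have h4 := Nat.mul_le_mul h1 h2
      have hX2 : X = (X.map p₁).prod (X.map p₂) :=
        eq_of_le_of_card_ge hle (by rw [hcard]; omega)
      have hcard1 : Nat.card ↥(X.map p₁) = 2 := by
        by_contra hne
        have := Nat.mul_le_mul (show Nat.card ↥(X.map p₁) ≤ 1 by omega) h2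
        omega
      haveI : Nontrivial ↥(X.map p₂) := Finite.one_lt_card_iff_nontrivial.1 (by
        by_contra hne
        push Not at hne
        have := Nat.mul_le_mul h1 hne
        omega)
      haveI := (hX.map p₂).center_nontrivial
      have hcz : 2 ≤ Nat.card (center ↥(X.map p₂)) := Finite.one_lt_card
      have hab : ∀ a b : ↥(X.map p₁), a * b = b * a := by
        have := IsPGroup.commutative_of_card_eq_prime_sq (p := 2) (G := ↥(X.map p₁) × ↥(X.map p₁))
          (by rw [Nat.card_prod, hcard1]; rfl)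
        intro a b
        exact congrArg Prod.fst (this (a, 1) (b, 1))
      have hinj : Nat.card ↥(X.map p₁) * Nat.card (center ↥(X.map p₂)) ≤ Nat.card (center ↥X) := by
        rw [← Nat.card_prod]
        refine Nat.card_le_card_of_injective (fun q => ⟨⟨((q.1 : Perm (Fin 3)), ((q.2 : ↥(X.map p₂)) : Perm (Fin 6))),
          hX2.ge (show _ ∈ (X.map p₁).prod (X.map p₂) from ⟨q.1.2, (q.2 : ↥(X.map p₂)).2⟩)⟩, ?_⟩) ?_
        · refine mem_center_iff.2 fun x => Subtype.ext (Prod.ext ?_ ?_)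
          · exact congrArg Subtype.val (hab ⟨_, x, x.2, rfl⟩ q.1)
          · exact congrArg Subtype.val (mem_center_iff.1 q.2.2 ⟨_, x, x.2, rfl⟩)
        · intro a b h
          have := congrArg (fun t : ↥(center ↥X) => ((t : ↥X) : Perm (Fin 3) × Perm (Fin 6))) h
          simp only [Prod.mk.injEq] at this
          exact Prod.ext (Subtype.ext this.1) (Subtype.ext (Subtype.ext this.2))
      rw [hcard1] at hinj
      omega)
    exact false_of_quotient F ⊤ le_top
      ((MulEquiv.refl (Perm (Fin 3))).prodCongr Subgroup.topEquiv) (Or.inl rfl)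

end Cfsg.Agent.S3283
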