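import Cfsg.Agent.S3303
import Cfsg.Agent.H61.CharP
import Cfsg.Agent.Fusion.PComplement
import Cfsg.Statements.S3294
-- import your own Cfsg.Agent.* helpers here

set_option autoImplicit false
open Cfsg

namespace Cfsg.Agent.S3294

open Cfsg

/-- A normal subgroup of a generalised quaternion group of order at least 32 has a cyclic subgroup
containing its elements of order above four and all products of two of its other elements. -/
theorem exists_cyclic_part {n : ℕ} (hn : 3 ≤ n) (K : Subgroup (QuaternionGroup (2 ^ n)))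
    (hK : K.Normal) :
    ∃ C : Subgroup (QuaternionGroup (2 ^ n)), IsCyclic ↥C ∧ C ≤ K ∧
      (∀ g ∈ K, 4 < orderOf g → g ∈ C) ∧ (∀ g ∈ K, ∀ h ∈ K, g ∉ C → h ∉ C → g * h ∈ C) ∧
      (C = K ∨ ∃ r, C = Subgroup.zpowers r ∧ 4 < orderOf r) := by
  haveI : NeZero (2 ^ n) := ⟨by positivity⟩
  set Z := Subgroup.zpowers (QuaternionGroup.a 1 : QuaternionGroup (2 ^ n)) with hZ
  have hmem : ∀ i, (QuaternionGroup.a i : QuaternionGroup (2 ^ n)) ∈ Z := fun i =>
    Subgroup.mem_zpowers_iff.2 ⟨(i.val : ℤ), by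
      rw [zpow_natCast, QuaternionGroup.a_one_pow, ZMod.natCast_zmod_val]⟩
  haveI : IsCyclic ↥(K ⊓ Z) := Subgroup.isCyclic_of_le inf_le_right
  refine ⟨K ⊓ Z, inferInstance, inf_le_left, ?_, ?_, ?_⟩
  · intro g hg h4
    rcases g with i | i
    · exact ⟨hg, hmem i⟩
    · rw [QuaternionGroup.orderOf_xa] at h4; omega
  · intro g hg h hh hgC hhC
    rcases g with i | i
    · exact absurd ⟨hg, hmem i⟩ hgC
    rcases h with j | j
    · exact absurd ⟨hh, hmem j⟩ hhC
    exact ⟨K.mul_mem hg hh, by rw [QuaternionGroup.xa_mul_xa]; exact hmem _⟩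
  by_cases hle : K ≤ Z
  · exact Or.inl (inf_eq_left.2 hle)
  right
  obtain ⟨k, hk, hkZ⟩ := SetLike.not_le_iff_exists.1 hle
  rcases k with i | i
  · exact absurd (hmem i) hkZ
  obtain ⟨r, hr⟩ := (Subgroup.isCyclic_iff_exists_zpowers_eq_top _).1 (inferInstance : IsCyclic ↥(K ⊓ Z))
  refine ⟨r, hr.symm, ?_⟩
  have e : (QuaternionGroup.a 1 : QuaternionGroup (2 ^ n)) * QuaternionGroup.xa i *
      (QuaternionGroup.a 1)⁻¹ = QuaternionGroup.a 2 * QuaternionGroup.xa i := by
    rw [mul_inv_eq_iff_eq_mul, QuaternionGroup.a_mul_xa, QuaternionGroup.a_mul_xa,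
      QuaternionGroup.xa_mul_a]
    congr 1
    ring
  have h2K : (QuaternionGroup.a 2 : QuaternionGroup (2 ^ n)) ∈ K := by
    have := K.mul_mem (hK.conj_mem _ hk (QuaternionGroup.a 1)) (K.inv_mem hk)
    rwa [e, mul_inv_cancel_right] at this
  have h2 : orderOf (QuaternionGroup.a 2 : QuaternionGroup (2 ^ n)) = 2 ^ n := by
    rw [show (QuaternionGroup.a 2 : QuaternionGroup (2 ^ n)) = QuaternionGroup.a 1 ^ 2 by
      rw [QuaternionGroup.a_one_pow]; norm_num]
    rw [orderOf_pow' _ two_ne_zero, QuaternionGroup.orderOf_a_one, Nat.gcd_mul_right_left,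
      Nat.mul_div_cancel_left _ two_pos]
  have h8 : 2 ^ 3 ≤ 2 ^ n := Nat.pow_le_pow_right two_pos hn
  have hle' : orderOf (QuaternionGroup.a 2 : QuaternionGroup (2 ^ n)) ≤ orderOf r := by
    refine Nat.le_of_dvd (orderOf_pos r) ?_
    have hr' : (QuaternionGroup.a 2 : QuaternionGroup (2 ^ n)) ∈ Subgroup.zpowers r :=
      hr.symm ▸ (⟨h2K, hmem 2⟩ : _ ∈ K ⊓ Z)
    rw [← Nat.card_zpowers r]
    exact Subgroup.orderOf_dvd_natCard _ hr'
  omega


/-- A finite solvable group whose Sylow 2-subgroups are generalized quaternion of order at least 32 has a normal 2-complement. -/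
theorem result {G : Type*} [Group G] [Finite G] (hsol : Group.IsSolvable G) (T : Sylow 2 G) (n : ℕ) (hn : 3 ≤ n) (hT : Nonempty ((T : Subgroup G) ≃* QuaternionGroup (2 ^ n))) : Cfsg.HasNormalPComplement 2 G := by
  haveI : Fact (Nat.Prime 2) := ⟨Nat.prime_two⟩
  haveI := hsol
  obtain ⟨e⟩ := hT
  set Q := G ⧸ oddCore G with hQdef
  haveI : Group.IsSolvable Q := solvable_of_surjective (QuotientGroup.mk'_surjective _)
  have hO : oddCore Q = ⊥ := Cores.pPrimeCore_quotient_pPrimeCore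
  set O2 := pCore 2 Q with hO2
  have hO2p : IsPGroup 2 ↥O2 := Cores.pCore_isPGroup
  -- the Sylow subgroup inside the quotient
  let ι : QuaternionGroup (2 ^ n) →* Q :=
    ((QuotientGroup.mk' (oddCore G)).comp (T : Subgroup G).subtype).comp e.symm.toMonoidHom
  have hι : Function.Injective ι := by
    rw [← MonoidHom.ker_eq_bot_iff, Subgroup.eq_bot_iff_forall]
    intro q hq
    have h1 : ((e.symm q : ↥(T : Subgroup G)) : G) ∈ (T : Subgroup G) ⊓ oddCore G :=
      ⟨(e.symm q).2, (QuotientGroup.eq_one_iff _).1 hq⟩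
    rw [Cores.disjoint_of_isPGroup_of_coprime T.isPGroup' Cores.coprime_card_pPrimeCore,
      Subgroup.mem_bot] at h1
    exact (map_eq_one_iff _ e.symm.injective).1 (Subtype.ext h1)
  have hrange : O2 ≤ ι.range := by
    intro c hc
    have hle := Cores.pCore_le_sylow (Sylow.mapSurjective (QuotientGroup.mk'_surjective (oddCore G)) T) hc
    rw [Sylow.coe_mapSurjective] at hle
    obtain ⟨t, ht, rfl⟩ := hle
    exact ⟨e ⟨t, ht⟩, by simp [ι]⟩
  set K := O2.comap ι with hK
  obtain ⟨C, hC, hCK, hC4, hC2, hCalt⟩ := exists_cyclic_part hn K (Subgroup.Normal.comap inferInstance ι)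
  set C' := C.map ι with hC'
  haveI : IsCyclic ↥C' := isCyclic_of_surjective _ (ι.subgroupMap_surjective C)
  have hC'O : C' ≤ O2 := Subgroup.map_le_iff_le_comap.2 hCK
  have hKimg : ∀ x ∈ O2, ∃ k ∈ K, ι k = x := fun x hx => by
    obtain ⟨k, rfl⟩ := hrange hx
    exact ⟨k, hx, rfl⟩
  haveI hC'n : C'.Normal := by
    rcases hCalt with h | ⟨r, hr, hr4⟩
    · have : C' = O2 := le_antisymm hC'O fun x hx => by
        obtain ⟨k, hk, rfl⟩ := hKimg x hx
        exact ⟨k, h.symm ▸ hk, rfl⟩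
      rw [this]; infer_instance
    · refine ⟨fun x hx g => ?_⟩
      have hrC : r ∈ C := hr ▸ Subgroup.mem_zpowers r
      have hgr : g * ι r * g⁻¹ ∈ C' := by
        obtain ⟨k, hk, hke⟩ := hKimg _
          ((inferInstance : O2.Normal).conj_mem _ (hCK hrC) g)
        refine ⟨k, hC4 k hk ?_, hke⟩
        rw [← orderOf_injective ι hι, hke,
          show orderOf (g * ι r * g⁻¹) = orderOf (ι r) from
            ((SemiconjBy.conj_mk g (ι r)).orderOf_eq).symm, orderOf_injective ι hι]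
        exact hr4
      obtain ⟨c, hc, rfl⟩ := hx
      rw [hr] at hc
      obtain ⟨j, rfl⟩ := Subgroup.mem_zpowers_iff.1 hc
      rw [map_zpow, ← conj_zpow]
      exact C'.zpow_mem hgr j
  -- odd elements centralise O2
  have hQp : IsPGroup 2 Q := by
    rw [IsPGroup.iff_orderOf]
    intro c
    obtain ⟨k, m, hm, hkm⟩ := Nat.exists_eq_pow_mul_and_not_dvd (orderOf_pos c).ne' 2 (by omega)
    have ho : orderOf (c ^ 2 ^ k) = m := by
      rw [orderOf_pow_of_dvd (pow_ne_zero _ two_ne_zero) (hkm ▸ dvd_mul_right _ _), hkm,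
        Nat.mul_div_cancel_left _ (by positivity)]
    have hodd : Odd (orderOf (c ^ 2 ^ k)) := by rw [ho, Nat.odd_iff]; omega
    set d := c ^ 2 ^ k
    have hco : (orderOf d).Coprime 2 := Nat.coprime_two_right.2 hodd
    have hdC := Cfsg.Agent.S3303.commute_cyclic C' (hO2p.to_le hC'O) hodd
    have hmem : d ∈ O2 := Cfsg.Agent.S3303.centralizer_twoCore_le hO fun x hx => by
      obtain ⟨k1, hk1, rfl⟩ := hKimg x hx
      by_cases h1 : k1 ∈ C
      · exact (hdC _ ⟨k1, h1, rfl⟩).symm.eq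
      have hy : d * ι k1 * d⁻¹ ∈ O2 := (inferInstance : O2.Normal).conj_mem _ hx d
      obtain ⟨k2, hk2, hk2e⟩ := hKimg _ hy
      have h2 : k2 ∉ C := fun h => h1 (by
        have h' : ι k2 ∈ C' := ⟨k2, h, rfl⟩
        rw [hk2e] at h'
        have := hC'n.conj_mem _ h' d⁻¹
        rw [show d⁻¹ * (d * ι k1 * d⁻¹) * d⁻¹⁻¹ = ι k1 by group] at this
        obtain ⟨w, hw, hwe⟩ := this
        exact hι hwe ▸ hw)
      have h3 : d * ι k1 * d⁻¹ * (ι k1)⁻¹ ∈ C' :=
        ⟨k2 * k1⁻¹, hC2 _ hk2 _ (K.inv_mem hk1) h2 (fun h => h1 (inv_inv k1 ▸ C.inv_mem h)),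
          by rw [map_mul, map_inv, hk2e]⟩
      exact (H61.commute_of_comm_mem hO2p hco (hC'O h3) (hdC _ h3)).symm.eq
    obtain ⟨j, hj⟩ := IsPGroup.iff_orderOf.1 hO2p ⟨_, hmem⟩
    rw [← Subgroup.orderOf_coe, Subgroup.coe_mk, ho] at hj
    have : j = 0 := by
      by_contra hj0
      exact hm (hj ▸ dvd_pow_self 2 hj0)
    subst this
    exact ⟨k, by rw [hkm, hj, pow_zero, mul_one]⟩
  exact Fusion.hasNormalPComplement_of_quotient (N := oddCore G)
    Cores.not_dvd_card_pPrimeCore hQp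

end Cfsg.Agent.S3294
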