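import Cfsg.Statements.S3299
import Cfsg.Agent.H92.LargeBasic
import Cfsg.Agent.PGroups.Extraspecial
import Cfsg.Agent.Cores.Residual
import Cfsg.Agent.Cores.PCore
import Mathlib.GroupTheory.Perm.Sign
import Mathlib.GroupTheory.Perm.Cycle.Type

set_option autoImplicit false
open Cfsg

namespace Cfsg.Agent.S3299

open Subgroup Cfsg.Agent
open scoped commutatorElement

/-- An extraspecial 2-group with an abelian centralizer of a noncentral element has order at most 8. -/
theorem card_le {P : Type*} [Group P] [Finite P] (h : Cfsg.IsExtraspecial 2 P) {x y : P}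
    (hxy : ⁅x, y⁆ ≠ 1) (hab : ∀ a b : P, a * x = x * a → b * x = x * b → a * b = b * a) :
    Nat.card P ≤ 8 := by
  haveI := Fact.mk Nat.prime_two
  obtain ⟨-, hidx, hcen⟩ := PGroups.centralizer_pair (PGroups.isSpecial_commutator_le h.1) h.2 hxy
  set C := centralizer ({x, y} : Set P)
  have hC : C ≤ center P := fun v hv => hcen v hv fun g hg =>
    hab g v ((mem_centralizer_iff.mp hg) x (by simp)).symm ((mem_centralizer_iff.mp hv) x (by simp)).symm
  have h2 := card_dvd_of_le hC
  rw [h.2] at h2
  have h4 := C.card_mul_index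
  rw [hidx] at h4
  have := Nat.le_of_dvd two_pos h2
  rw [← h4]
  omega

/-- The parity count behind the sign computation. -/
theorem exists_index_two {G : Type*} [Group G] [Finite G] (H K : Subgroup G) (e : G)
    (he : e * e = 1) (hKH : K ≤ H) (hK : K.relIndex H = 2) (hodd : ¬ 2 ∣ H.index)
    (hconj : ∀ h ∈ H, ∀ x ∈ K, h * x * h⁻¹ ∈ K)
    (heven : 2 ∣ Nat.card {q : G ⧸ H // q.out⁻¹ * e * q.out ∈ K}) :
    ∃ M : Subgroup G, M.Normal ∧ M.index = 2 := by
  classical
  have := Fintype.ofFinite (G ⧸ K)
  let f : G →* ℤˣ := Equiv.Perm.sign.comp (MulAction.toPermHom G (G ⧸ K))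
  let E := Subgroup.quotientEquivProdOfLE hKH
  have hP : ∀ a : G ⧸ K, e • a = a ↔ (E a).1.out⁻¹ * e * (E a).1.out ∈ K := by
    intro a
    induction a using QuotientGroup.induction_on with
    | H g =>
      have hE : (E (g : G ⧸ K)).1 = (g : G ⧸ H) := rfl
      rw [hE]
      obtain ⟨⟨h, hh⟩, ho⟩ := QuotientGroup.mk_out_eq_mul H g
      rw [ho, MulAction.Quotient.smul_mk, QuotientGroup.eq]
      simp only [smul_eq_mul]
      have hsym : (e * g)⁻¹ * g = g⁻¹ * e * g := by
        rw [mul_inv_rev, inv_eq_of_mul_eq_one_left he]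
      rw [hsym]
      constructor
      · intro hm
        simpa [mul_assoc] using hconj h⁻¹ (H.inv_mem hh) _ hm
      · intro hm
        simpa [mul_assoc] using hconj h hh _ hm
  have hfix : Nat.card {a : G ⧸ K // e • a = a} =
      Nat.card {q : G ⧸ H // q.out⁻¹ * e * q.out ∈ K} * 2 := by
    rw [← hK, relIndex, index_eq_card, ← Nat.card_prod]
    exact Nat.card_congr ((E.subtypeEquiv (q := fun p : (G ⧸ H) × (H ⧸ K.subgroupOf H) =>
      p.1.out⁻¹ * e * p.1.out ∈ K) hP).trans
      { toFun := fun a => (⟨a.1.1, a.2⟩, a.1.2)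
        invFun := fun a => ⟨(a.1.1, a.2), a.1.2⟩
        left_inv := fun a => rfl
        right_inv := fun a => rfl })
  have hcard : Nat.card (G ⧸ K) = 2 * H.index := by
    rw [← index_eq_card, ← relIndex_mul_index hKH, hK]
  set π := MulAction.toPermHom G (G ⧸ K) e with hπ
  have hsupp : π.support.card + Nat.card {a : G ⧸ K // e • a = a} = Nat.card (G ⧸ K) := by
    rw [Nat.card_eq_fintype_card, Nat.card_eq_fintype_card, Fintype.card_subtype]
    have h1 : π.support = Finset.univ.filter fun a : G ⧸ K => ¬ e • a = a := by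
      ext a; simp [hπ]
    rw [h1, add_comm]
    exact Finset.card_filter_add_card_filter_not _
  have hct : ∀ c ∈ π.cycleType, c = 2 := by
    intro c hc
    have h1 := Equiv.Perm.dvd_of_mem_cycleType hc
    have h2 : orderOf π ∣ 2 := orderOf_dvd_of_pow_eq_one (by rw [hπ, ← map_pow, pow_two, he, map_one])
    exact ((Nat.dvd_prime Nat.prime_two).mp (h1.trans h2)).resolve_left
      (Equiv.Perm.one_lt_of_mem_cycleType hc).ne'
  have hrep := Multiset.eq_replicate_card.mpr hct
  set k := Multiset.card π.cycleType with hk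
  have hk2 : k * 2 = π.support.card := by
    have h1 := Equiv.Perm.sum_cycleType π
    rw [hrep, Multiset.sum_replicate, smul_eq_mul] at h1
    exact h1
  have hkodd : k % 2 = 1 := by
    rw [hfix, hcard] at hsupp
    omega
  have hfe : f e = -1 := by
    change Equiv.Perm.sign π = -1
    rw [Equiv.Perm.sign_of_cycleType, hrep, Multiset.sum_replicate, Multiset.card_replicate,
      smul_eq_mul, pow_add, pow_mul']
    norm_num [Odd.neg_one_pow (Nat.odd_iff.mpr hkodd)]
  refine ⟨f.ker, inferInstance, ?_⟩
  rw [index_ker, MonoidHom.range_eq_top.mpr, card_top, Nat.card_eq_fintype_card,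
    Fintype.card_units_int]
  intro u
  rcases Int.units_eq_one_or u with rfl | rfl
  · exact ⟨1, map_one f⟩
  · exact ⟨e, hfe⟩

/-- Let G be a finite group with no nontrivial 2-group quotient (O^2(G) = G), z an involution of G with H = C_G(z), and suppose E = O_2(H) is extraspecial with C_G(E) ≤ E and of order 2^(2n+1) with n ≥ 2. Then E is contained in every normal subgroup of H of index 2. -/
theorem result {G : Type*} [Group G] [Finite G] (hres : Cfsg.pResidual 2 G = ⊤) (z : G) (hz : orderOf z = 2)
    (E : Subgroup G) (hE : E = (Cfsg.pCore 2 ↥(Subgroup.centralizer ({z} : Set G))).map (Subgroup.centralizer ({z} : Set G)).subtype)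
    (hext : Cfsg.IsExtraspecial 2 ↥E) (hcent : Subgroup.centralizer (E : Set G) ≤ E) (n : ℕ) (hn : 2 ≤ n) (hcard : Nat.card ↥E = 2 ^ (2 * n + 1))
    (K : Subgroup G) (hKH : K ≤ Subgroup.centralizer ({z} : Set G))
    (hKn : ∀ h ∈ Subgroup.centralizer ({z} : Set G), K.map (MulAut.conj h).toMonoidHom = K)
    (hKi : K.relIndex (Subgroup.centralizer ({z} : Set G)) = 2) : E ≤ K := by
  classical
  haveI := Fact.mk Nat.prime_two
  set H := centralizer ({z} : Set G) with hH
  have hz2 : z * z = 1 := by rw [← pow_two, ← hz]; exact pow_orderOf_eq_one z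
  have hz1 : z ≠ 1 := fun h => by rw [h, orderOf_one] at hz; exact absurd hz (by norm_num)
  have hzc : ∀ h ∈ H, h * z = z * h := fun h hh => mem_centralizer_singleton_iff.mp hh
  have hEH : E ≤ H := by rw [hE]; exact map_subtype_le _
  have hEn : ∀ h ∈ H, ∀ x ∈ E, h * x * h⁻¹ ∈ E := by
    intro h hh x hx
    rw [hE] at hx ⊢
    obtain ⟨x', hx', rfl⟩ := hx
    exact ⟨⟨h, hh⟩ * x' * ⟨h, hh⟩⁻¹, (Cfsg.pCore_normal 2 H).conj_mem x' hx' _, rfl⟩
  have hzcE : z ∈ centralizer (E : Set G) := mem_centralizer_iff.mpr fun a ha => hzc a (hEH ha)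
  have hzE : z ∈ E := hcent hzcE
  have hZ : ∀ c ∈ centralizer (E : Set G), c = 1 ∨ c = z := by
    intro c hc
    refine or_iff_not_imp_left.mpr fun hc1 => ?_
    have hmem : ∀ v : G, v ∈ centralizer (E : Set G) → v ∈ (center E).map E.subtype := fun v hv => by
      rw [H92.center_map_eq_inf]; exact ⟨hcent hv, hv⟩
    exact H92.eq_of_mem_of_card_two (H92.card_center_map hext) (hmem c hc) hc1 (hmem z hzcE) hz1
  have hcE : ∀ c : E, c ∈ center E → (c : G) ∈ centralizer (E : Set G) := fun c hc =>
    H92.center_map_le_centralizer (mem_map_of_mem E.subtype hc)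
  have hcomm : ∀ a ∈ E, ∀ b ∈ E, a * b = b * a ∨ a * b = z * (b * a) := by
    intro a ha b hb
    rcases hZ _ (hcE _ (PGroups.commutatorElement_mem_center (PGroups.isSpecial_commutator_le hext.1)
      (⟨a, ha⟩ : E) ⟨b, hb⟩)) with h | h
    · exact Or.inl (commutatorElement_eq_one_iff_mul_comm.mp h)
    · right
      calc a * b = ⁅a, b⁆ * (b * a) := by rw [commutatorElement_def]; group
        _ = z * (b * a) := by rw [show ⁅a, b⁆ = z from h]
  have hsq : ∀ a ∈ E, a * a = 1 ∨ a * a = z := by
    intro a ha
    have h := PGroups.isSpecial_pow_mem_center hext.1 (⟨a, ha⟩ : E)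
    rw [pow_two] at h
    exact hZ _ (hcE _ h)
  have hbig : ¬ Nat.card E ≤ 8 := by
    rw [hcard]
    have : 2 ^ 5 ≤ 2 ^ (2 * n + 1) := Nat.pow_le_pow_right two_pos (by omega)
    omega
  -- index two facts
  have hK2 : (K.subgroupOf H).index = 2 := hKi
  have Kmem : ∀ a ∈ H, ∀ b ∈ H, (a * b ∈ K ↔ (a ∈ K ↔ b ∈ K)) := fun a ha b hb => by
    simpa [mem_subgroupOf] using
      mul_mem_iff_of_index_two hK2 (a := (⟨a, ha⟩ : H)) (b := ⟨b, hb⟩)
  have hKc : ∀ a ∈ H, ∀ b ∈ H, ⁅a, b⁆ ∈ K := by
    intro a ha b hb
    rw [commutatorElement_def, Kmem _ (mul_mem (mul_mem ha hb) (inv_mem ha)) _ (inv_mem hb),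
      Kmem _ (mul_mem ha hb) _ (inv_mem ha), Kmem a ha b hb, inv_mem_iff, inv_mem_iff]
    tauto
  have hconj : ∀ h ∈ H, ∀ x ∈ K, h * x * h⁻¹ ∈ K := fun h hh x hx => by
    rw [← hKn h hh]
    exact ⟨x, hx, by simp⟩
  have hzK : z ∈ K := by
    obtain ⟨a, b, hab⟩ := PGroups.isExtraspecial_exists_ne hext
    rcases hcomm a a.2 b b.2 with h | h
    · exact absurd (Subtype.ext (commutatorElement_eq_one_iff_mul_comm.mpr h)) hab
    · have : ⁅(a : G), (b : G)⁆ = z := by
        rw [commutatorElement_def, h]; group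
      exact this ▸ hKc _ (hEH a.2) _ (hEH b.2)
  intro x₀ hx₀
  by_contra hx₀K
  -- an element outside `K` does not centralize `E`, and has nonabelian centralizer in `E`
  have hmove : ∀ e ∈ E, e ∉ K → ∃ f ∈ E, f * e ≠ e * f := by
    intro e he heK
    by_contra h
    push Not at h
    rcases hZ e (mem_centralizer_iff.mpr h) with rfl | rfl
    · exact heK (one_mem K)
    · exact heK hzK
  have hnab : ∀ e ∈ E, e ∉ K →
      ∃ a ∈ E, ∃ b ∈ E, a * e = e * a ∧ b * e = e * b ∧ a * b ≠ b * a := by
    intro e he heK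
    obtain ⟨f, hf, hfe⟩ := hmove e he heK
    by_contra h
    push Not at h
    refine hbig (card_le hext (x := (⟨e, he⟩ : E)) (y := ⟨f, hf⟩) (fun hc => hfe ?_) fun a b ha hb => ?_)
    · exact (congrArg Subtype.val (commutatorElement_eq_one_iff_mul_comm.mp hc)).symm
    · exact Subtype.ext (h a a.2 b b.2 (congrArg Subtype.val ha) (congrArg Subtype.val hb))
  -- an involution of `E` outside `K`
  obtain ⟨e, heE, heK, he2⟩ : ∃ e ∈ E, e ∉ K ∧ e * e = 1 := by
    by_contra h
    push Not at h
    have hx2 : x₀ * x₀ = z := (hsq x₀ hx₀).resolve_left (h x₀ hx₀ hx₀K)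
    have hinv : ∀ v ∈ E, v * x₀ = x₀ * v → v ∈ K → v * v = 1 := by
      intro v hv hvx hvK
      refine (hsq v hv).resolve_right fun hv2 => h (x₀ * v) (mul_mem hx₀ hv) ?_ ?_
      · rw [Kmem x₀ (hEH hx₀) v (hEH hv)]; tauto
      · calc x₀ * v * (x₀ * v) = x₀ * (v * x₀) * v := by group
          _ = x₀ * x₀ * (v * v) := by rw [hvx]; group
          _ = 1 := by rw [hx2, hv2, hz2]
    have hKK : ∀ v ∈ E, ∀ w ∈ E, v * x₀ = x₀ * v → w * x₀ = x₀ * w → v ∈ K → w ∈ K → Commute v w := by
      intro v hv w hw hvx hwx hvK hwK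
      have h1 := hinv (v * w) (mul_mem hv hw) (Commute.mul_left hvx hwx) (mul_mem hvK hwK)
      calc v * w = (v * w)⁻¹ := (inv_eq_of_mul_eq_one_left h1).symm
        _ = w * v := by
          rw [mul_inv_rev, inv_eq_of_mul_eq_one_left (hinv v hv hvx hvK),
            inv_eq_of_mul_eq_one_left (hinv w hw hwx hwK)]
    obtain ⟨a, ha, b, hb, hax, hbx, hab⟩ := hnab x₀ hx₀ hx₀K
    have hdec : ∀ v ∈ E, v * x₀ = x₀ * v → ∃ w ∈ E, w * x₀ = x₀ * w ∧ w ∈ K ∧ (v = w ∨ v = x₀⁻¹ * w) := by
      intro v hv hvx
      by_cases hvK : v ∈ K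
      · exact ⟨v, hv, hvx, hvK, Or.inl rfl⟩
      · exact ⟨x₀ * v, mul_mem hx₀ hv, (Commute.mul_left (Commute.refl x₀) hvx).eq,
          (Kmem x₀ (hEH hx₀) v (hEH hv)).mpr (by tauto), Or.inr (inv_mul_cancel_left _ _).symm⟩
    obtain ⟨a', ha', hax', haK, ha''⟩ := hdec a ha hax
    obtain ⟨b', hb', hbx', hbK, hb''⟩ := hdec b hb hbx
    have h0 : Commute a' b' := hKK a' ha' b' hb' hax' hbx' haK hbK
    have hA : Commute x₀⁻¹ a' := (Commute.inv_left (Eq.symm hax' : x₀ * a' = a' * x₀))
    have hB : Commute x₀⁻¹ b' := (Commute.inv_left (Eq.symm hbx' : x₀ * b' = b' * x₀))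
    apply hab
    rcases ha'' with rfl | rfl <;> rcases hb'' with rfl | rfl
    · exact h0.eq
    · exact (hA.symm.mul_right h0).eq
    · exact (hB.mul_left h0).eq
    · exact (((Commute.refl _).mul_right hB).mul_left (hA.symm.mul_right h0)).eq
  obtain ⟨f, hf, hfe⟩ := hmove e heE heK
  have hfe' : f * e = z * (e * f) := (hcomm f hf e heE).resolve_left hfe
  have hzcom : ∀ a ∈ E, a * z = z * a := fun a ha => hzc a (hEH ha)
  have hef' : e * f = z * (f * e) := by rw [hfe', ← mul_assoc z z, hz2, one_mul]
  -- `InC w`: `w` commutes with the centralizer of `e` in `E`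
  let InC : G → Prop := fun w => ∀ c ∈ E, c * e = e * c → w * c = c * w
  have hcentE : ∀ w, InC w → w * f = f * w → w = 1 ∨ w = z := by
    intro w hw hwf
    refine hZ w (mem_centralizer_iff.mpr fun v hv => ?_)
    by_cases hve : v * e = e * v
    · exact (hw v hv hve).symm
    have hve' : v * e = z * (e * v) := (hcomm v hv e heE).resolve_left hve
    have hvf : v * f * e = e * (v * f) := by
      calc v * f * e = v * (z * (e * f)) := by rw [mul_assoc, hfe']
        _ = (v * z) * (e * f) := by group
        _ = z * (v * e) * f := by rw [hzcom v hv]; group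
        _ = z * z * (e * (v * f)) := by rw [hve']; group
        _ = e * (v * f) := by rw [hz2, one_mul]
    have h1 : Commute w (v * f) := hw _ (mul_mem hv hf) hvf
    have h2 := h1.mul_right (Commute.inv_right (show Commute w f from hwf))
    rw [mul_inv_cancel_right] at h2
    exact h2.eq.symm
  have heInC : InC e := fun c _ hc => hc.symm
  have hzInC : InC z := fun c hc _ => (hzcom c hc).symm
  have hmulInC : ∀ {u v}, InC u → InC v → InC (u * v) := fun hu hv c hc hce =>
    ((show Commute _ c from hu c hc hce).mul_left (hv c hc hce)).eq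
  -- involutions centralizing `C_E(e)`
  have hclass : ∀ t, t * t = 1 → t ≠ 1 → InC t → t = z ∨ t = e ∨ t = e * z := by
    intro t ht ht1 htC
    have htH : t ∈ H := mem_centralizer_singleton_iff.mpr (htC z hzE (hzcom e heE).symm)
    have ht' : t⁻¹ = t := inv_eq_of_mul_eq_one_left ht
    set w := t * f * t * f⁻¹ with hw
    have hwE : w ∈ E := mul_mem (by simpa [ht'] using hEn t htH f hf) (inv_mem hf)
    have hwC : InC w := by
      intro c hc hce
      have hc' : f⁻¹ * c * f = c ∨ f⁻¹ * c * f = z * c := by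
        rcases hcomm c hc f hf with h | h
        · exact Or.inl (by rw [mul_assoc, h, inv_mul_cancel_left])
        · refine Or.inr ?_
          rw [mul_assoc, h, ← mul_assoc, hzcom _ (inv_mem hf)]
          group
      have hc'' : t * (f⁻¹ * c * f) = (f⁻¹ * c * f) * t := by
        rcases hc' with h | h <;> rw [h]
        · exact htC c hc hce
        · exact (Commute.mul_right (hzc t htH) (htC c hc hce)).eq
      calc w * c = t * f * (t * (f⁻¹ * c * f)) * f⁻¹ := by rw [hw]; group
        _ = t * c * (f * t * f⁻¹) := by rw [hc'']; group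
        _ = c * w := by rw [htC c hc hce, hw]; group
    have hwfw : w * f * w = f := by
      have h1 : w * f * (w * f) = f * f := by
        have e1 : w * f = t * f * t := by rw [hw]; group
        rw [e1]
        calc t * f * t * (t * f * t) = t * f * (t * t) * f * t := by group
          _ = t * (f * f) * t := by rw [ht]; group
          _ = f * f := by
            rcases hsq f hf with h | h <;> rw [h]
            · rw [mul_one, ht]
            · rw [hzc t htH, mul_assoc, ht, mul_one]
      exact mul_right_cancel (b := f) (by simpa [mul_assoc] using h1)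
    have hwz : w = 1 ∨ w = z := by
      by_contra hne
      by_cases hwf : w * f = f * w
      · exact hne (hcentE w hwC hwf)
      have hwf' : w * f = z * (f * w) := (hcomm w hwE f hf).resolve_left hwf
      have hwef : w * e * f = f * (w * e) := by
        calc w * e * f = w * (z * (f * e)) := by rw [mul_assoc, hef']
          _ = (w * z) * (f * e) := by group
          _ = z * (w * f) * e := by rw [hzcom w hwE]; group
          _ = (z * z) * (f * (w * e)) := by rw [hwf']; group
          _ = f * (w * e) := by rw [hz2, one_mul]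
      have hwe : w = e ∨ w = z * e := by
        rcases hcentE _ (hmulInC hwC heInC) hwef with h | h
        · left; rw [← inv_eq_of_mul_eq_one_left he2]; exact eq_inv_of_mul_eq_one_left h
        · right; rw [← h, mul_assoc, he2, mul_one]
      have hefe : e * f * e = f := by
        rcases hwe with h | h <;> rw [h] at hwfw
        · exact hwfw
        · calc e * f * e = z * z * (e * f * e) := by rw [hz2, one_mul]
            _ = z * ((z * e) * f) * e := by group
            _ = ((z * e) * f) * z * e := by rw [← hzcom _ (mul_mem (mul_mem hzE heE) hf)]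
            _ = f := by rw [mul_assoc _ z e]; exact hwfw
      apply hfe
      calc f * e = (e * f * e) * e := by rw [hefe]
        _ = e * f := by rw [mul_assoc, he2, mul_one]
    rcases hwz with h | h
    · have htf : t * f = f * t := by
        calc t * f = w * f * t⁻¹ := by rw [hw]; group
          _ = f * t := by rw [h, one_mul, ht']
      exact Or.inl ((hcentE t htC htf).resolve_left ht1)
    · have htf : t * f = z * (f * t) := by
        calc t * f = w * f * t⁻¹ := by rw [hw]; group
          _ = z * (f * t) := by rw [h, ht', mul_assoc]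
      have htef : t * e * f = f * (t * e) := by
        calc t * e * f = t * (z * (f * e)) := by rw [mul_assoc, hef']
          _ = (t * z) * (f * e) := by group
          _ = z * (t * f) * e := by rw [hzc t htH]; group
          _ = (z * z) * (f * (t * e)) := by rw [htf]; group
          _ = f * (t * e) := by rw [hz2, one_mul]
      rcases hcentE _ (hmulInC htC heInC) htef with h' | h'
      · right; left
        rw [← inv_eq_of_mul_eq_one_left he2]; exact eq_inv_of_mul_eq_one_left h'
      · right; right
        rw [hzcom e heE, ← h', mul_assoc, he2, mul_one]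
  -- a commutator witness
  obtain ⟨a, haE, b, hbE, hae, hbe, hab⟩ := hnab e heE heK
  have habz : ⁅a, b⁆ = z := by
    rw [commutatorElement_def, (hcomm a haE b hbE).resolve_left hab]; group
  -- index of `H` is odd
  have hodd : ¬ 2 ∣ H.index := by
    have hEp : IsPGroup 2 E := hext.1.1
    obtain ⟨S, hES⟩ := hEp.exists_le_sylow
    haveI : Nontrivial (S : Subgroup G) :=
      ⟨⟨⟨z, hES hzE⟩, 1, fun h => hz1 (congrArg Subtype.val h)⟩⟩
    haveI := S.isPGroup'.center_nontrivial
    obtain ⟨c, hc⟩ := exists_ne (1 : center (S : Subgroup G))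
    have hcS : ∀ v ∈ (S : Subgroup G), v * ((c : (S : Subgroup G)) : G) = ((c : (S : Subgroup G)) : G) * v :=
      fun v hv => congrArg Subtype.val (mem_center_iff.mp c.2 ⟨v, hv⟩)
    have hcz := (hZ _ (mem_centralizer_iff.mpr fun v hv => hcS v (hES hv))).resolve_left
      fun h => hc (Subtype.ext (Subtype.ext h))
    have hSH : (S : Subgroup G) ≤ H := fun v hv =>
      mem_centralizer_singleton_iff.mpr (hcz ▸ hcS v hv)
    exact fun h => S.not_dvd_index (h.trans (index_dvd_of_le hSH))
  -- conjugate of `z` attached to a coset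
  let T : G ⧸ H → G := fun q => q.out * z * q.out⁻¹
  have hTmk : ∀ g : G, T (g : G ⧸ H) = g * z * g⁻¹ := by
    intro g
    obtain ⟨⟨h, hh⟩, ho⟩ := QuotientGroup.mk_out_eq_mul H g
    simp only [T, ho]
    calc g * h * z * (g * h)⁻¹ = g * (h * z) * h⁻¹ * g⁻¹ := by group
      _ = g * z * g⁻¹ := by rw [hzc h hh]; group
  have hTinj : Function.Injective T := by
    intro q r hqr
    rw [← QuotientGroup.out_eq' q, ← QuotientGroup.out_eq' r, QuotientGroup.eq]
    refine mem_centralizer_singleton_iff.mpr ?_
    calc q.out⁻¹ * r.out * z = q.out⁻¹ * T r * r.out := by simp [T, mul_assoc]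
      _ = z * (q.out⁻¹ * r.out) := by rw [← hqr]; simp [T, mul_assoc]
  have hTsmul : ∀ (g : G) (q : G ⧸ H), T (g • q) = g * T q * g⁻¹ := by
    intro g q
    induction q using QuotientGroup.induction_on with
    | H x =>
      rw [MulAction.Quotient.smul_mk, hTmk, hTmk, smul_eq_mul]; group
  have hPT : ∀ q : G ⧸ H, T q = e ∨ T q = e * z → q.out⁻¹ * e * q.out ∈ K := by
    intro q hq
    set g := q.out
    have hmem : ∀ v ∈ E, v * e = e * v → g⁻¹ * v * g ∈ H := by
      intro v hv hve
      have hvT : Commute v (T q) := by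
        rcases hq with h | h <;> rw [h]
        · exact hve
        · exact Commute.mul_right hve (hzcom v hv)
      refine mem_centralizer_singleton_iff.mpr ?_
      calc g⁻¹ * v * g * z = g⁻¹ * (v * T q) * g := by simp [T, g, mul_assoc]
        _ = z * (g⁻¹ * v * g) := by rw [hvT.eq]; simp [T, g, mul_assoc]
    rcases hq with h | h
    · rw [← h]; simpa [T, g, mul_assoc] using hzK
    · have hu : g⁻¹ * z * g ∈ K := by
        have := hKc _ (hmem a haE hae) _ (hmem b hbE hbe)
        rw [← habz]
        convert this using 1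
        simp only [commutatorElement_def]; group
      have e1 : g⁻¹ * e * g = z * (g⁻¹ * z * g)⁻¹ := by
        have : T q * z = e := by rw [h, mul_assoc, hz2, mul_one]
        rw [← this]
        simp [T, g, mul_assoc, inv_eq_of_mul_eq_one_left hz2]
      rw [e1]
      exact mul_mem hzK (inv_mem hu)
  -- the action of `C_E(e)`
  set C := E ⊓ centralizer ({e} : Set G) with hC
  let Y : SubMulAction C (G ⧸ H) :=
    { carrier := {q | q.out⁻¹ * e * q.out ∈ K}
      smul_mem' := fun c q hq => by
        obtain ⟨⟨h, hh⟩, ho⟩ := QuotientGroup.mk_out_eq_mul H ((c : G) * q.out)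
        have hcq : c • q = (((c : G) * q.out : G) : G ⧸ H) := by
          conv_lhs => rw [← QuotientGroup.out_eq' q]
          rfl
        show (c • q).out⁻¹ * e * (c • q).out ∈ K
        rw [hcq, ho]
        have hce : (c : G) * e = e * c := mem_centralizer_singleton_iff.mp c.2.2
        have h2 := hconj h⁻¹ (H.inv_mem hh) _ hq
        convert h2 using 1
        calc ((c : G) * q.out * h)⁻¹ * e * ((c : G) * q.out * h)
            = h⁻¹ * q.out⁻¹ * ((c : G)⁻¹ * (e * c)) * q.out * h := by group
          _ = h⁻¹ * (q.out⁻¹ * e * q.out) * (h⁻¹)⁻¹ := by rw [← hce]; group }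
  have hCp : IsPGroup 2 C := hext.1.1.to_le inf_le_left
  have hmod := hCp.card_modEq_card_fixedPoints Y
  let Y0 := {q : G ⧸ H // T q = e ∨ T q = e * z}
  have hfixY : Nat.card (MulAction.fixedPoints C Y) = Nat.card Y0 := by
    have hto : ∀ q : Y, q ∈ MulAction.fixedPoints C Y → T q.1 = e ∨ T q.1 = e * z := by
      intro q hq
      have ht2 : T q.1 * T q.1 = 1 := by
        calc T q.1 * T q.1 = q.1.out * (z * z) * q.1.out⁻¹ := by simp [T, mul_assoc]
          _ = 1 := by rw [hz2]; group
      have htC : InC (T q.1) := by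
        intro c hc hce
        have h1 := congrArg (fun r : Y => T r.1) (hq ⟨c, hc, mem_centralizer_singleton_iff.mpr hce⟩)
        change T ((c : G) • q.1) = T q.1 at h1
        rw [hTsmul, mul_inv_eq_iff_eq_mul] at h1
        exact h1.symm
      have ht1 : T q.1 ≠ 1 := fun h => hz1 (by
        have := congrArg (fun v => q.1.out⁻¹ * v * q.1.out) h
        simpa [T, mul_assoc] using this)
      rcases hclass _ ht2 ht1 htC with h | h | h
      · exfalso
        have hm : q.1.out ∈ H := mem_centralizer_singleton_iff.mpr (mul_inv_eq_iff_eq_mul.mp h)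
        have h2 := hconj _ hm _ q.2
        simp [mul_assoc] at h2
        exact heK h2
      · exact Or.inl h
      · exact Or.inr h
    have hinv : ∀ q : Y0, (⟨q.1, hPT q.1 q.2⟩ : Y) ∈ MulAction.fixedPoints C Y := by
      intro q c
      refine Subtype.ext (hTinj ?_)
      change T ((c : G) • q.1) = T q.1
      rw [hTsmul, mul_inv_eq_iff_eq_mul]
      have hce : (c : G) * e = e * c := mem_centralizer_singleton_iff.mp c.2.2
      rcases q.2 with h | h <;> rw [h]
      · exact hce
      · exact (Commute.mul_right hce (hzcom _ c.2.1)).eq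
    exact Nat.card_congr
      { toFun := fun q => ⟨q.1.1, hto q.1 q.2⟩
        invFun := fun q => ⟨⟨q.1, hPT q.1 q.2⟩, hinv q⟩
        left_inv := fun q => rfl
        right_inv := fun q => rfl }
  have hY0 : 2 ∣ Nat.card Y0 := by
    have hfez : f * e * f⁻¹ = e * z := by
      rw [hfe', hzcom e heE]; group
    by_cases hex : ∃ q, T q = e
    · obtain ⟨q, hq⟩ := hex
      have hfq : T (f • q) = e * z := by rw [hTsmul, hq, hfez]
      have hne : e ≠ e * z := fun h => hz1 (left_eq_mul.mp h)
      refine dvd_of_eq (Eq.symm ?_)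
      rw [Nat.card_eq_two_iff]
      refine ⟨⟨q, Or.inl hq⟩, ⟨f • q, Or.inr hfq⟩,
        fun h => hne (hq.symm.trans ((congrArg (fun r : Y0 => T r.1) h).trans hfq)), ?_⟩
      ext r
      simp only [Set.mem_insert_iff, Set.mem_singleton_iff, Set.mem_univ, iff_true]
      rcases r.2 with h | h
      · exact Or.inl (Subtype.ext (hTinj (h.trans hq.symm)))
      · exact Or.inr (Subtype.ext (hTinj (h.trans hfq.symm)))
    · haveI : IsEmpty Y0 := ⟨fun r => hex (by
        rcases r.2 with h | h
        · exact ⟨r.1, h⟩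
        · refine ⟨f • r.1, ?_⟩
          rw [hTsmul, h, ← hfez]
          have hff : (f * f) * e = e * (f * f) := by
            rcases hsq f hf with h' | h' <;> rw [h']
            · simp
            · exact (hzcom e heE).symm
          calc f * (f * e * f⁻¹) * f⁻¹ = (f * f) * e * (f * f)⁻¹ := by group
            _ = e := by rw [hff]; group)⟩
      simp
  have heven : 2 ∣ Nat.card {q : G ⧸ H // q.out⁻¹ * e * q.out ∈ K} := by
    change Nat.card Y ≡ Nat.card (MulAction.fixedPoints C Y) [MOD 2] at hmod
    rw [hfixY] at hmod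
    exact (hmod.dvd_iff dvd_rfl).mpr hY0
  obtain ⟨M, hMn, hM⟩ := exists_index_two H K e he2 hKH hKi hodd hconj heven
  haveI := hMn
  have hle := Cores.pResidual_le_of_index_eq_pow (p := 2) M (k := 1) (by rw [hM, pow_one])
  rw [hres, top_le_iff] at hle
  rw [hle, index_top] at hM
  exact absurd hM (by norm_num)

end Cfsg.Agent.S3299
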