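import Cfsg.Statements.S3301
import Cfsg.Agent.Components.ExtraspecialTransfer
import Cfsg.Agent.Cores.PCore

set_option autoImplicit false
set_option linter.style.haveILetI false
set_option linter.unusedVariables false
open Cfsg

namespace Cfsg.Agent.S3301

open Subgroup Cfsg.Agent.Components.TransferOrbit
open scoped commutatorElement

variable {G : Type*} [Group G]

/-- A product with no fixed part: `x ↦` conjugation on `K / Z(K)` as permutations of the
nontrivial classes. -/
noncomputable def classPerm {K : Subgroup G} [K.Normal] :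
    G →* Equiv.Perm {v : ↥K ⧸ Subgroup.center ↥K // v ≠ 1} where
  toFun g := (QuotientGroup.congr (Subgroup.center ↥K) (Subgroup.center ↥K) (MulAut.conjNormal g)
    (characteristic_iff_map_eq.mp inferInstance _)).toEquiv.subtypeEquiv (fun v => by simp)
  map_one' := by
    apply Equiv.ext
    rintro ⟨v, hv⟩
    induction v using QuotientGroup.induction_on with
    | H k => simp
  map_mul' g h := by
    apply Equiv.ext
    rintro ⟨v, hv⟩
    induction v using QuotientGroup.induction_on with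
    | H k => simp; rfl

theorem classPerm_eq_one {K : Subgroup G} [K.Normal] {g : G} (h : classPerm (K := K) g = 1)
    (k : K) : (MulAut.conjNormal g k : K)⁻¹ * k ∈ Subgroup.center ↥K := by
  rw [← QuotientGroup.eq]
  by_cases hk : (k : ↥K ⧸ Subgroup.center ↥K) = 1
  · rw [hk]
    rw [QuotientGroup.eq_one_iff] at hk ⊢
    exact (characteristic_iff_map_eq.mp inferInstance (MulAut.conjNormal g)).le ⟨k, hk, rfl⟩
  · exact congrArg Subtype.val (Equiv.ext_iff.mp h ⟨_, hk⟩)

theorem isSquare_of_mul_self : ∀ x : Multiplicative (ZMod 4), x * x = 1 → IsSquare x := by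
  intro x hx
  have h : ∀ a : ZMod 4, a + a = 0 → ∃ b, a = b + b := by decide
  obtain ⟨b, hb⟩ := h x.toAdd (congrArg Multiplicative.toAdd hx)
  exact ⟨Multiplicative.ofAdd b, congrArg Multiplicative.ofAdd hb⟩

/-- An element of `2`-power order with nontrivial square in a finite commutative group gives a
homomorphism to `C₄` with a non-square value at an element of `2`-power order. -/
theorem exists_hom_four {B : Type*} [CommGroup B] [Finite B] {q : B} {k : ℕ}
    (hk : orderOf q = 2 ^ k) (hq : q ^ 2 ≠ 1) :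
    ∃ (χ : B →* Multiplicative (ZMod 4)) (x : B), ¬ IsSquare (χ x) := by
  obtain ⟨ι, hι, n, hn, ⟨e⟩⟩ := CommGroup.equiv_prod_multiplicative_zmod_of_finite B
  obtain ⟨i, hi⟩ : ∃ i, (e q ^ 2) i ≠ 1 := by
    by_contra hcon
    simp only [not_exists, not_not] at hcon
    exact hq (e.injective (by rw [map_pow, map_one]; exact funext hcon))
  have hdvd : orderOf (e q i) ∣ 2 ^ k := by
    rw [← hk]
    exact orderOf_map_dvd ((Pi.evalMonoidHom (fun i => Multiplicative (ZMod (n i))) i).comp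
      e.toMonoidHom) q
  obtain ⟨j, -, hj⟩ := (Nat.dvd_prime_pow Nat.prime_two).mp hdvd
  have hj2 : 2 ≤ j := by
    by_contra hcon
    refine hi ?_
    rw [Pi.pow_apply, ← orderOf_dvd_iff_pow_eq_one, hj]
    exact pow_dvd_pow 2 (by omega : j ≤ 1)
  have h4 : 4 ∣ n i := by
    have h1 : orderOf (e q i) ∣ n i := by
      have := orderOf_dvd_natCard (e q i)
      rwa [Nat.card_congr Multiplicative.toAdd, Nat.card_zmod] at this
    refine dvd_trans ?_ h1
    rw [hj]
    exact pow_dvd_pow 2 hj2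
  classical
  refine ⟨((ZMod.castHom h4 (ZMod 4)).toAddMonoidHom.toMultiplicative.comp
    (Pi.evalMonoidHom (fun i => Multiplicative (ZMod (n i))) i)).comp e.toMonoidHom,
    e.symm (Pi.mulSingle i (Multiplicative.ofAdd (1 : ZMod (n i)))), ?_⟩
  rintro ⟨w, hw⟩
  simp [-ZMod.castHom_apply] at hw
  have h : ∀ b : ZMod 4, (1 : ZMod 4) ≠ b + b := by decide
  exact h w.toAdd (congrArg Multiplicative.toAdd hw)

variable [Finite G]

/-- The `2`-part of an element, inside the same class modulo any homomorphism to a `2`-group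
detecting it up to squares. -/
theorem exists_two_element_not_isSquare {A : Type*} [CommGroup A] (χ : G →* A) (x : G)
    (hA : IsPGroup 2 A) (hx : ¬ IsSquare (χ x)) :
    ∃ t : G, (∃ k, orderOf t = 2 ^ k) ∧ ¬ IsSquare (χ t) := by
  obtain ⟨a, m, hm, hord⟩ := Nat.exists_eq_two_pow_mul_odd (orderOf_pos x).ne'
  refine ⟨x ^ m, ?_, fun h => hx ?_⟩
  · obtain ⟨j, -, hj⟩ := (Nat.dvd_prime_pow Nat.prime_two).mp (orderOf_dvd_of_pow_eq_one
      (show (x ^ m) ^ 2 ^ a = 1 by rw [← pow_mul, mul_comm, ← hord, pow_orderOf_eq_one]))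
    exact ⟨j, hj⟩
  · obtain ⟨c, rfl⟩ := hm
    rw [map_pow, pow_succ] at h
    have h2 : IsSquare ((χ x ^ (2 * c))⁻¹) := by
      rw [mul_comm 2 c, pow_mul]
      exact ⟨(χ x ^ c)⁻¹, by rw [← mul_inv, ← sq]⟩
    simpa using h2.mul h

omit [Finite G] in
theorem map_mem_eq_one_of_pResidual_eq_top {A : Type*} [CommGroup A] (hA : IsPGroup 2 A)
    (hres : Cfsg.pResidual 2 G = ⊤) (f : G →* A) (g : G) : f g = 1 := by
  have h : Cfsg.pResidual 2 G ≤ f.ker := (closure_le _).mpr fun x hx => by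
    rw [SetLike.mem_coe, MonoidHom.mem_ker, ← orderOf_eq_one_iff]
    obtain ⟨k, hk⟩ := IsPGroup.iff_orderOf.mp hA (f x)
    refine Nat.eq_one_of_dvd_coprimes (a := orderOf x) (b := 2 ^ k) ?_ (orderOf_map_dvd f x) hk.dvd
    exact Nat.Coprime.pow_right _ hx
  exact h (hres ▸ mem_top g)

/-- `E` behaves as an extraspecial `2`-group with centre `{1, z}`, normal in `H = C_G(z)`. -/
structure Setup (H E : Subgroup G) (z : G) : Prop where
  hz2 : z * z = 1
  hz1 : z ≠ 1
  mem_H : ∀ g : G, g ∈ H ↔ g * z = z * g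
  hEH : E ≤ H
  hzE : z ∈ E
  hnorm : ∀ h ∈ H, ∀ a ∈ E, h * a * h⁻¹ ∈ E
  hE2 : IsPGroup 2 E
  hcore : ∀ N : Subgroup H, N.Normal → IsPGroup 2 N → N.map H.subtype ≤ E
  hcomm : ∀ a ∈ E, ∀ b ∈ E, a * b * a⁻¹ * b⁻¹ = 1 ∨ a * b * a⁻¹ * b⁻¹ = z
  hsq : ∀ a ∈ E, a * a = 1 ∨ a * a = z
  hcenter : ∀ a ∈ E, (∀ b ∈ E, a * b = b * a) → a = 1 ∨ a = z
  hnonab : ∃ a ∈ E, ∃ b ∈ E, a * b ≠ b * a
  hcent : ∀ g : G, (∀ a ∈ E, g * a = a * g) → g ∈ E

variable {H E : Subgroup G} {z : G}

/-- If `|E| ≤ 8`, squares of `2`-elements of `H` lie in `H'`. -/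
theorem sq_mem_commutator_of_small (S : Setup H E z) (h8 : Nat.card E ≤ 8) (t : H)
    (ht : ∃ k, orderOf t = 2 ^ k) : t ^ 2 ∈ commutator ↥H := by
  classical
  set K : Subgroup H := E.subgroupOf H
  haveI hK : K.Normal := ⟨fun k hk h => by
    rw [mem_subgroupOf] at hk ⊢
    exact S.hnorm h h.2 k hk⟩
  obtain ⟨a, haE, b, hbE, hab⟩ := S.hnonab
  have habz : a * b * a⁻¹ * b⁻¹ = z := (S.hcomm a haE b hbE).resolve_left fun h => hab (by
    calc a * b = a * b * a⁻¹ * b⁻¹ * (b * a) := by group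
      _ = b * a := by rw [h, one_mul])
  have hzI : z⁻¹ = z := inv_eq_of_mul_eq_one_left S.hz2
  -- `a` and `b` generate `E`
  have hgen : ∀ W : Subgroup G, W ≤ E → a ∈ W → b ∈ W → W = E := by
    intro W hWE haW hbW
    obtain ⟨n, hn⟩ := IsPGroup.iff_card.mp (S.hE2.to_le hWE)
    refine eq_of_le_of_card_ge hWE ?_
    have h5 : 5 ≤ Nat.card W := by
      have hinj : Function.Injective
          (![⟨1, one_mem W⟩, ⟨a, haW⟩, ⟨b, hbW⟩, ⟨a * b, mul_mem haW hbW⟩,
            ⟨b * a, mul_mem hbW haW⟩] : Fin 5 → W) := by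
        have e1 : a ≠ 1 := fun h => hab (by simp [h])
        have e2 : b ≠ 1 := fun h => hab (by simp [h])
        have e3 : a ≠ b := fun h => hab (by simp [h])
        have e4 : a * b ≠ 1 := fun h => hab (by
          rw [eq_inv_of_mul_eq_one_left h]; simp)
        have e5 : b * a ≠ 1 := fun h => hab (by
          rw [eq_inv_of_mul_eq_one_left h]; simp)
        intro i j h
        fin_cases i <;> fin_cases j <;>
          simp_all [Subtype.ext_iff, eq_comm]
      simpa using Nat.card_le_card_of_injective _ hinj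
    have hn3 : 3 ≤ n := by
      by_contra hcon
      have : 2 ^ n ≤ 2 ^ 2 := Nat.pow_le_pow_right two_pos (by omega)
      omega
    calc Nat.card E ≤ 2 ^ 3 := h8
      _ ≤ 2 ^ n := Nat.pow_le_pow_right two_pos hn3
      _ = Nat.card W := hn.symm
  -- the kernel of the action on `E / Z(E)`
  have hker : ∀ h : H, (∀ x ∈ E, (h : G) * x * (h : G)⁻¹ = x ∨ (h : G) * x * (h : G)⁻¹ = z * x) →
      (h : G) ∈ E := by
    intro h hh
    obtain ⟨hz1', hz2'⟩ : a * z = z * a ∧ b * z = z * b :=
      ⟨(S.mem_H a).mp (S.hEH haE), (S.mem_H b).mp (S.hEH hbE)⟩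
    have hba : a * b * a⁻¹ = z * b := by rw [← habz]; group
    have hab2 : b * a * b⁻¹ = z * a := by
      rw [← hzI, ← habz]; group
    obtain ⟨e, heE, he1, he2⟩ : ∃ e ∈ E, (e * h) * a = a * (e * (h : G)) ∧
        (e * h) * b = b * (e * (h : G)) := by
      have key : ∀ e x : G, e * ((h : G) * x * (h : G)⁻¹) * e⁻¹ = x →
          (e * h) * x = x * (e * (h : G)) := fun e x hx => by
        calc (e * h) * x = e * ((h : G) * x * (h : G)⁻¹) * e⁻¹ * (e * h) := by group
          _ = _ := by rw [hx]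
      have hzz : z * z = 1 := S.hz2
      rcases hh a haE with h1 | h1 <;> rcases hh b hbE with h2 | h2
      · exact ⟨1, one_mem _, key _ _ (by rw [h1]; group), key _ _ (by rw [h2]; group)⟩
      · refine ⟨a, haE, key _ _ (by rw [h1]; group), key _ _ ?_⟩
        rw [h2, ← mul_assoc, hz1', mul_assoc z a b, mul_assoc, hba, ← mul_assoc, hzz, one_mul]
      · refine ⟨b, hbE, key _ _ ?_, key _ _ (by rw [h2]; group)⟩
        rw [h1, ← mul_assoc, hz2', mul_assoc z b a, mul_assoc, hab2, ← mul_assoc, hzz, one_mul]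
      · refine ⟨a * b, mul_mem haE hbE, key _ _ ?_, key _ _ ?_⟩
        · calc a * b * ((h : G) * a * (h : G)⁻¹) * (a * b)⁻¹
              = a * (b * z) * a * b⁻¹ * a⁻¹ := by rw [h1]; group
            _ = a * z * (b * a * b⁻¹) * a⁻¹ := by rw [hz2']; group
            _ = a * (z * z) * a * a⁻¹ := by rw [hab2]; group
            _ = a := by rw [hzz]; group
        · calc a * b * ((h : G) * b * (h : G)⁻¹) * (a * b)⁻¹
              = a * (b * z) * a⁻¹ := by rw [h2]; group
            _ = a * z * b * a⁻¹ := by rw [hz2']; group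
            _ = z * (a * b * a⁻¹) := by rw [hz1']; group
            _ = b := by rw [hba, ← mul_assoc, hzz, one_mul]
    have hW := hgen (E ⊓ Subgroup.centralizer ({e * (h : G)} : Set G)) inf_le_left
      ⟨haE, mem_centralizer_singleton_iff.mpr he1.symm⟩
      ⟨hbE, mem_centralizer_singleton_iff.mpr he2.symm⟩
    have heh : e * (h : G) ∈ E := S.hcent _ fun x hx =>
      (mem_centralizer_singleton_iff.mp (hW.symm.le hx).2).symm
    simpa using E.mul_mem (inv_mem heE) heh
  -- the centre of `K`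
  have hcen : ∀ c : K, c ∈ Subgroup.center ↥K → ((c : H) : G) = 1 ∨ ((c : H) : G) = z :=
    fun c hc => S.hcenter _ c.2 fun x hx => by
      have := mem_center_iff.mp hc ⟨⟨x, S.hEH hx⟩, hx⟩
      exact (congrArg (fun w : K => ((w : H) : G)) this).symm
  have hkerρ : ∀ h : H, classPerm (K := K) h = 1 → (h : G) ∈ E := fun h hh => hker h fun x hx => by
    have e : ((((MulAut.conjNormal h ⟨⟨x, S.hEH hx⟩, hx⟩ : K)⁻¹ * ⟨⟨x, S.hEH hx⟩, hx⟩ : K) : H)
        : G) = ((h : G) * x * (h : G)⁻¹)⁻¹ * x := by simp [mul_assoc]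
    rcases hcen _ (classPerm_eq_one hh ⟨⟨x, S.hEH hx⟩, hx⟩) with h1 | h1 <;> rw [e] at h1
    · exact Or.inl (inv_mul_eq_one.mp h1)
    · right
      rw [inv_mul_eq_iff_eq_mul] at h1
      calc (h : G) * x * (h : G)⁻¹ = x * z⁻¹ := eq_mul_inv_of_mul_eq h1.symm
        _ = z * x := by rw [hzI, (S.mem_H x).mp (S.hEH hx)]
  -- at most three nontrivial classes
  have hzK : (⟨⟨z, S.hEH S.hzE⟩, S.hzE⟩ : K) ∈ Subgroup.center ↥K := by
    refine mem_center_iff.mpr fun c => Subtype.ext (Subtype.ext ?_)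
    exact (S.mem_H ((c : H) : G)).mp (S.hEH c.2)
  have hV : Nat.card (↥K ⧸ Subgroup.center ↥K) ≤ 4 := by
    have h1 := card_eq_card_quotient_mul_card_subgroup (Subgroup.center ↥K)
    rw [Nat.card_congr (subgroupOfEquivOfLe S.hEH).toEquiv] at h1
    have h2 : 2 ≤ Nat.card (Subgroup.center ↥K) := by
      refine Nat.succ_le_of_lt (Finite.one_lt_card_iff_nontrivial.mpr ⟨⟨⟨_, hzK⟩, 1, fun h => S.hz1 ?_⟩⟩)
      exact congrArg (fun w : Subgroup.center ↥K => (((w : K) : H) : G)) h
    nlinarith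
  have hperm : Nat.card (Equiv.Perm {v : ↥K ⧸ Subgroup.center ↥K // v ≠ 1}) ∣ 6 := by
    rw [Nat.card_perm, show (6 : ℕ) = Nat.factorial 3 from rfl]
    refine Nat.factorial_dvd_factorial ?_
    have h1 := Finite.card_subtype_lt (p := fun v : ↥K ⧸ Subgroup.center ↥K => v ≠ 1) (x := 1) (by simp)
    omega
  obtain ⟨k, hk⟩ := ht
  have hsqker : (t : G) * t ∈ E := by
    have h1 : orderOf (classPerm (K := K) t) ∣ 2 := by
      have h2 : orderOf (classPerm (K := K) t) ∣ 2 ^ k := hk ▸ orderOf_map_dvd _ t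
      have h3 : orderOf (classPerm (K := K) t) ∣ 6 := (_root_.orderOf_dvd_natCard _).trans hperm
      obtain ⟨j, -, hj⟩ := (Nat.dvd_prime_pow Nat.prime_two).mp h2
      rw [hj] at h3 ⊢
      rcases Nat.lt_or_ge j 2 with hj2 | hj2
      · exact pow_dvd_pow 2 (by omega : j ≤ 1)
      · exact absurd ((pow_dvd_pow 2 hj2).trans h3) (by norm_num)
    have := hkerρ (t * t) (by
      rw [map_mul, ← sq]; exact orderOf_dvd_iff_pow_eq_one.mp h1)
    exact this
  have hzH' : (⟨z, S.hEH S.hzE⟩ : H) ∈ commutator ↥H := by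
    have : (⟨z, S.hEH S.hzE⟩ : H) = ⁅(⟨a, S.hEH haE⟩ : H), (⟨b, S.hEH hbE⟩ : H)⁆ :=
      Subtype.ext (by rw [commutatorElement_def]; exact habz.symm)
    rw [this]
    exact commutator_mem_commutator (mem_top _) (mem_top _)
  by_cases hall : IsPGroup 2 H
  · have h1 : (⊤ : Subgroup H).map H.subtype ≤ E :=
      S.hcore ⊤ inferInstance (hall.to_subgroup ⊤)
    have htE : (t : G) ∈ E := h1 ⟨t, mem_top _, rfl⟩
    rcases S.hsq _ htE with h | h
    · rw [show t ^ 2 = 1 from Subtype.ext (by simpa [sq] using h)]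
      exact one_mem _
    · rw [show t ^ 2 = ⟨z, S.hEH S.hzE⟩ from Subtype.ext (by simpa [sq] using h)]
      exact hzH'
  · obtain ⟨s, hs⟩ : ∃ s : H, ∃ q : ℕ, q.Prime ∧ q ≠ 2 ∧ orderOf s = q := by
      by_contra hcon
      refine hall (IsPGroup.of_card (n := (Nat.card H).primeFactorsList.length)
        (Nat.eq_prime_pow_of_unique_prime_dvd Nat.card_pos.ne' fun {q} hq hqd => ?_))
      haveI := Fact.mk hq
      obtain ⟨s, hs⟩ := exists_prime_orderOf_dvd_card' q hqd
      exact by_contra fun hq2 => hcon ⟨s, q, hq, hq2, hs⟩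
    obtain ⟨q, hq, hq2, hsord⟩ := hs
    have hρs : classPerm (K := K) s ≠ 1 := fun h => by
      have hsE := hkerρ s h
      obtain ⟨j, hj⟩ := IsPGroup.iff_orderOf.mp S.hE2 ⟨(s : G), hsE⟩
      rw [Subgroup.orderOf_mk, Subgroup.orderOf_coe, hsord] at hj
      exact hq2 ((Nat.prime_dvd_prime_iff_eq hq Nat.prime_two).mp
        (hq.dvd_of_dvd_pow hj.dvd))
    have hρ3 : (classPerm (K := K) s) ^ 3 = 1 := by
      have h1 : orderOf (classPerm (K := K) s) ∣ q := hsord ▸ orderOf_map_dvd _ s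
      rcases (Nat.dvd_prime hq).mp h1 with h | h
      · exact absurd (orderOf_eq_one_iff.mp h) hρs
      · have h6 : q ∣ 6 := h ▸ (_root_.orderOf_dvd_natCard _).trans hperm
        have : q = 3 := by
          have := Nat.le_of_dvd (by norm_num) h6
          interval_cases q <;> simp_all (config := {decide := true})
        rw [← this, ← h, pow_orderOf_eq_one]
    set τ := QuotientGroup.congr (Subgroup.center ↥K) (Subgroup.center ↥K)
      (MulAut.conjNormal s : MulAut K) (characteristic_iff_map_eq.mp inferInstance _) with hτ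
    have hτ3 : ∀ v, τ (τ (τ v)) = v := fun v => by
      by_cases hv : v = 1
      · simp [hv]
      · exact congrArg Subtype.val (Equiv.ext_iff.mp hρ3 ⟨v, hv⟩)
    obtain ⟨u, hu⟩ : ∃ u : K, τ (u : ↥K ⧸ Subgroup.center ↥K) ≠ u := by
      by_contra hcon
      simp only [not_exists, not_not] at hcon
      refine hρs (Equiv.ext ?_)
      rintro ⟨v, hv⟩
      refine Subtype.ext ?_
      induction v using QuotientGroup.induction_on with
      | H u => exact hcon u
    set c : K := u⁻¹ * MulAut.conjNormal s u with hc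
    have hτu : τ (u : ↥K ⧸ Subgroup.center ↥K) = (u : ↥K ⧸ Subgroup.center ↥K) * (c : ↥K ⧸ Subgroup.center ↥K) := by
      rw [hc, ← QuotientGroup.mk_mul, mul_inv_cancel_left]
      rfl
    have hcc : (c : ↥K ⧸ Subgroup.center ↥K) * c = 1 := by
      rw [← QuotientGroup.mk_mul, QuotientGroup.eq_one_iff]
      rcases S.hsq _ c.2 with h | h
      · rw [show c * c = 1 from Subtype.ext (Subtype.ext h)]
        exact one_mem _
      · rw [show c * c = ⟨⟨z, S.hEH S.hzE⟩, S.hzE⟩ from Subtype.ext (Subtype.ext h)]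
        exact hzK
    have hc1 : (c : ↥K ⧸ Subgroup.center ↥K) ≠ 1 := fun h => hu (by rw [hτu, h, mul_one])
    have hτc : τ (c : ↥K ⧸ Subgroup.center ↥K) ≠ c := fun h => hc1 (by
      have h3 := hτ3 (u : ↥K ⧸ Subgroup.center ↥K)
      simp only [hτu, map_mul, h, mul_assoc, mul_eq_left] at h3
      rwa [hcc, mul_one] at h3)
    -- `H'` covers `K`
    set N := ((commutator ↥H).subgroupOf K).map (QuotientGroup.mk' (Subgroup.center ↥K))
    have hcH' : (c : H) ∈ commutator ↥H := by
      have : (c : H) = ⁅((u : H))⁻¹, s⁆ := by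
        simp [hc, commutatorElement_def, mul_assoc]
      rw [this]
      exact commutator_mem_commutator (mem_top _) (mem_top _)
    have hcN : (c : ↥K ⧸ Subgroup.center ↥K) ∈ N := ⟨c, hcH', rfl⟩
    have hτcN : τ (c : ↥K ⧸ Subgroup.center ↥K) ∈ N :=
      ⟨MulAut.conjNormal s c, by
        rw [SetLike.mem_coe, mem_subgroupOf, MulAut.conjNormal_apply]
        exact (inferInstance : (commutator ↥H).Normal).conj_mem _ hcH' s, rfl⟩
    have hN3 : 3 ≤ Nat.card N := by
      have hinj : Function.Injective (![(⟨1, one_mem N⟩ : N), ⟨_, hcN⟩, ⟨_, hτcN⟩] : Fin 3 → N) := by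
        have h0 : τ (c : ↥K ⧸ Subgroup.center ↥K) ≠ 1 := fun h => hc1 (τ.injective (by rw [h, map_one]))
        intro i j h
        fin_cases i <;> fin_cases j <;> simp [Subtype.ext_iff] at h ⊢ <;>
          first
            | exact hc1 ((QuotientGroup.eq_one_iff _).mpr h)
            | exact hc1 h | exact hc1 h.symm | exact h0 h | exact h0 h.symm | exact hτc h
            | exact hτc h.symm
      simpa using Nat.card_le_card_of_injective _ hinj
    have hNtop : N = ⊤ := by
      refine eq_top_of_card_eq _ ?_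
      obtain ⟨d, hd⟩ := card_subgroup_dvd_card N
      rcases Nat.lt_or_ge d 2 with hd2 | hd2
      · interval_cases d
        · have : 0 < Nat.card (↥K ⧸ Subgroup.center ↥K) := Nat.card_pos
          omega
        · omega
      · nlinarith
    have hcomH : ∀ x : K, (x : H) ∈ commutator ↥H := fun x => by
      obtain ⟨y, hy, hyx⟩ := (hNtop.symm ▸ mem_top _ : (x : ↥K ⧸ Subgroup.center ↥K) ∈ N)
      have h1 : y⁻¹ * x ∈ Subgroup.center ↥K := QuotientGroup.eq.mp hyx
      rw [show (x : H) = (y : H) * ((y⁻¹ * x : K) : H) by simp]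
      refine mul_mem hy ?_
      rcases hcen _ h1 with h | h
      · rw [show ((y⁻¹ * x : K) : H) = 1 from Subtype.ext h]
        exact one_mem _
      · rw [show ((y⁻¹ * x : K) : H) = ⟨z, S.hEH S.hzE⟩ from Subtype.ext h]
        exact hzH'
    rw [sq]
    exact hcomH ⟨t * t, hsqker⟩

/-- If `|E| > 8`, the subgroups of index two of `E` are nonabelian. -/
theorem exists_noncommuting (S : Setup H E z) (h8 : 8 < Nat.card E) (M : Subgroup G) (y : G)
    (hy : y ∈ E) (hyM : y ∉ M) (hcov : ∀ x ∈ E, x ∈ M ∨ y⁻¹ * x ∈ M) :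
    ∃ a ∈ E, a ∈ M ∧ ∃ b ∈ E, b ∈ M ∧ a * b ≠ b * a := by
  classical
  by_contra hcon
  simp only [not_exists, not_and, not_not] at hcon
  have hfix : ∀ x ∈ E, x ∈ M → y * x = x * y → x = 1 ∨ x = z := fun x hxE hxM hxy =>
    S.hcenter x hxE fun w hw => by
      rcases hcov w hw with h | h
      · exact hcon x hxE hxM w hw h
      · have h1 := hcon x hxE hxM _ (mul_mem (inv_mem hy) hw) h
        calc x * w = (x * y) * (y⁻¹ * w) := by group
          _ = y * (x * (y⁻¹ * w)) := by rw [← hxy, mul_assoc]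
          _ = w * x := by rw [h1]; group
  obtain ⟨a₁, ha₁⟩ : ∃ a₁ : G, ∀ x ∈ E, x ∈ M → x = 1 ∨ x = z ∨ a₁⁻¹ * x = 1 ∨ a₁⁻¹ * x = z := by
    by_cases hex : ∃ a₁ ∈ E, a₁ ∈ M ∧ ¬ y * a₁ = a₁ * y
    · obtain ⟨a₁, ha₁E, ha₁M, ha₁⟩ := hex
      refine ⟨a₁, fun x hxE hxM => ?_⟩
      by_cases hx : y * x = x * y
      · exact (hfix x hxE hxM hx).imp id Or.inl
      · refine Or.inr (Or.inr (hfix _ (mul_mem (inv_mem ha₁E) hxE) (mul_mem (inv_mem ha₁M) hxM) ?_))
        have hz' : ∀ w ∈ E, ¬ y * w = w * y → y * w * y⁻¹ = z * w := fun w hw hne => by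
          rcases S.hcomm y hy w hw with h | h
          · exact absurd (by
              calc y * w = y * w * y⁻¹ * w⁻¹ * (w * y) := by group
                _ = w * y := by rw [h, one_mul]) hne
          · rw [← h]; group
        have h1 := hz' a₁ ha₁E ha₁
        have h2 := hz' x hxE hx
        have h3 : y * (a₁⁻¹ * x) * y⁻¹ = a₁⁻¹ * x := by
          calc y * (a₁⁻¹ * x) * y⁻¹ = (y * a₁ * y⁻¹)⁻¹ * (y * x * y⁻¹) := by group
            _ = a₁⁻¹ * x := by rw [h1, h2]; group
        calc y * (a₁⁻¹ * x) = y * (a₁⁻¹ * x) * y⁻¹ * y := by group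
          _ = _ := by rw [h3]
    · simp only [not_exists, not_and, not_not] at hex
      exact ⟨1, fun x hxE hxM => (hfix x hxE hxM (hex x hxE hxM)).imp id Or.inl⟩
  let F : Finset G := {1, z, a₁, a₁ * z, y, y * z, y * a₁, y * (a₁ * z)}
  have hsub : (E : Set G) ⊆ (F : Set G) := fun x hx => by
    rcases hcov x hx with h | h
    · rcases ha₁ x hx h with h1 | h1 | h1 | h1 <;>
        simp_all [F, inv_mul_eq_iff_eq_mul]
    · rcases ha₁ _ (mul_mem (inv_mem hy) hx) h with h1 | h1 | h1 | h1 <;>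
        simp_all [F, inv_mul_eq_iff_eq_mul]
  have h1 : Nat.card E ≤ F.card := by
    have h2 := Set.ncard_le_ncard hsub (Finset.finite_toSet F)
    rwa [Set.ncard_coe_finset, ← Nat.card_coe_set_eq] at h2
  have h2 : F.card ≤ 8 := by
    simp only [F]
    iterate 7 refine (Finset.card_insert_le _ _).trans (Nat.succ_le_succ ?_)
    simp
  omega

/-- If `|E| > 8`, a `2`-element of `H` has square value under the transfer modulo its own value. -/
theorem isSquare_transfer_div (S : Setup H E z) (h8 : 8 < Nat.card E)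
    (χ : H →* Multiplicative (ZMod 4)) (t : H) (ht : ∃ k, orderOf t = 2 ^ k) :
    IsSquare (MonoidHom.transfer χ (t : G) * (χ t)⁻¹) := by
  classical
  set R := E ⊔ zpowers (t : G) with hRdef
  have hRH : R ≤ H := sup_le S.hEH (zpowers_le.mpr t.2)
  have hnE : R ≤ normalizer (E : Set G) := fun r hr => by
    refine mem_normalizer_iff.mpr fun x => ⟨fun hx => S.hnorm r (hRH hr) x hx, fun hx => ?_⟩
    simpa [mul_assoc] using S.hnorm r⁻¹ (inv_mem (hRH hr)) _ hx
  have hR2 : IsPGroup 2 R := by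
    obtain ⟨k, hk⟩ := ht
    refine IsPGroup.to_sup_of_normal_left' S.hE2
      (IsPGroup.of_card (n := k) (by rw [Nat.card_zpowers, Subgroup.orderOf_coe, hk])) ?_
    exact fun x hx => hnE ((le_sup_right : zpowers (t : G) ≤ R) hx)
  haveI : (E.subgroupOf R).Normal := ⟨fun k hk r => by
    rw [mem_subgroupOf] at hk ⊢
    exact S.hnorm r (hRH r.2) k hk⟩
  let tR : R := ⟨t, mem_sup_right (mem_zpowers _)⟩
  letI := Fintype.ofFinite (Quotient (MulAction.orbitRel R (G ⧸ H)))
  have hdec := transfer_eq_prod_orbits χ R tR (fun o => o.out.out) (fun o => by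
    rw [QuotientGroup.out_eq', Quotient.out_eq])
  have htR : ((tR : R) : G) = (t : G) := rfl
  rw [htR] at hdec
  set o₀ := Quotient.mk (MulAction.orbitRel R (G ⧸ H)) ((1 : G) : G ⧸ H) with ho₀
  have hu₀ : o₀.out.out ∈ H := by
    obtain ⟨r, hr⟩ : o₀.out ∈ MulAction.orbit R ((1 : G) : G ⧸ H) :=
      Quotient.exact (Quotient.out_eq o₀)
    have h1 : (((r : G) * 1 : G) : G ⧸ H) = (o₀.out.out : G ⧸ H) := by
      rw [QuotientGroup.out_eq']; exact hr
    have h2 := QuotientGroup.eq.mp h1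
    simpa using mul_mem (hRH r.2) h2
  have hfirst : MonoidHom.transfer (stabHom χ R o₀.out.out) tR = χ t := by
    have htop : MulAction.stabilizer R ((o₀.out.out : G) : G ⧸ H) = ⊤ := eq_top_iff.mpr fun r _ => by
      rw [MulAction.mem_stabilizer_iff]
      exact QuotientGroup.eq.mpr (mul_mem (inv_mem (mul_mem (hRH r.2) hu₀)) hu₀)
    haveI : Subsingleton (R ⧸ MulAction.stabilizer R ((o₀.out.out : G) : G ⧸ H)) := by
      rw [htop]; exact QuotientGroup.subsingleton_quotient_top
    rw [transfer_of_subsingleton _ tR (htop ▸ mem_top _)]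
    have h1 : stabHom χ R o₀.out.out ⟨tR, htop ▸ mem_top _⟩ =
        χ ((⟨_, hu₀⟩ : H)⁻¹ * t * ⟨_, hu₀⟩) := rfl
    rw [h1, map_mul, map_mul, map_inv, mul_right_comm, inv_mul_cancel, one_mul]
  rw [hdec, Fintype.prod_eq_mul_prod_compl o₀, hfirst, mul_right_comm, mul_inv_cancel, one_mul]
  refine Finset.prod_induction _ IsSquare (fun _ _ => IsSquare.mul) IsSquare.one fun o ho => ?_
  have hEK : ¬ E.subgroupOf R ≤ MulAction.stabilizer R ((o.out.out : G) : G ⧸ H) := by
    intro hle
    refine (Finset.mem_compl.mp ho) (Finset.mem_singleton.mpr ?_)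
    set u := o.out.out with hu
    have hfix : ∀ e ∈ E, u⁻¹ * e * u ∈ H := fun e he => by
      have h1 : ((e * u : G) : G ⧸ H) = (u : G ⧸ H) :=
        MulAction.mem_stabilizer_iff.mp (hle (show (⟨e, mem_sup_left he⟩ : R) ∈ E.subgroupOf R from he))
      simpa [mul_assoc] using QuotientGroup.eq.mp h1.symm
    have hcomm : ∀ e ∈ E, (u * z * u⁻¹) * e = e * (u * z * u⁻¹) := fun e he => by
      have h1 := (S.mem_H _).mp (hfix e he)
      calc u * z * u⁻¹ * e = u * (z * (u⁻¹ * e * u)) * u⁻¹ := by group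
        _ = e * (u * z * u⁻¹) := by rw [← h1]; group
    have huH : u ∈ H := by
      rcases S.hcenter _ (S.hcent _ hcomm) hcomm with h | h
      · exact absurd (by
          calc z = u⁻¹ * (u * z * u⁻¹) * u := by group
            _ = 1 := by rw [h]; group) S.hz1
      · refine (S.mem_H u).mpr ?_
        calc u * z = u * z * u⁻¹ * u := by group
          _ = z * u := by rw [h]
    rw [← Quotient.out_eq o, ho₀]
    congr 1
    rw [← QuotientGroup.out_eq' o.out, ← hu]
    exact QuotientGroup.eq.mpr (by simpa using inv_mem huH)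
  refine isSquare_transfer_of_not_le hR2 hEK ⟨z, mem_sup_left S.hzE⟩ (fun a ha b hb => ?_)
    (fun a ha => ?_) (fun M y hy hyM hcov => ?_) isSquare_of_mul_self _ _
  · exact (S.hcomm _ ha _ hb).imp (fun h => Subtype.ext h) (fun h => Subtype.ext h)
  · exact (S.hsq _ ha).imp (fun h => Subtype.ext h) (fun h => Subtype.ext h)
  · obtain ⟨a, haE, ⟨a', ha', rfl⟩, b, hbE, ⟨b', hb', rfl⟩, hne⟩ :=
      exists_noncommuting S h8 (M.map R.subtype) y hy
        (fun ⟨y', hy', h⟩ => hyM (Subtype.ext h ▸ hy'))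
        (fun x hx => (hcov ⟨x, mem_sup_left hx⟩ hx).imp (fun h => ⟨_, h, rfl⟩) (fun h => ⟨_, h, rfl⟩))
    exact ⟨a', haE, ha', b', hbE, hb', fun h => hne (congrArg Subtype.val h)⟩



theorem setup_of {G : Type*} [Group G] [Finite G] (z : G) (hz : orderOf z = 2) (E : Subgroup G)
    (hE : E = (Cfsg.pCore 2 ↥(Subgroup.centralizer ({z} : Set G))).map (Subgroup.centralizer ({z} : Set G)).subtype)
    (hext : Cfsg.IsExtraspecial 2 ↥E) (hcent : Subgroup.centralizer (E : Set G) ≤ E) :
    Setup (Subgroup.centralizer ({z} : Set G)) E z := by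
  set H := Subgroup.centralizer ({z} : Set G) with hH
  have hzz : z * z = 1 := by
    have := pow_orderOf_eq_one z
    rwa [hz, sq] at this
  have hz1 : z ≠ 1 := fun h => by simp [h] at hz
  have hmemH : ∀ g : G, g ∈ H ↔ g * z = z * g := fun g => mem_centralizer_singleton_iff
  have hzH : z ∈ H := (hmemH z).mpr rfl
  have hEH : E ≤ H := hE ▸ map_subtype_le _
  haveI : (Cfsg.pCore 2 ↥H).Normal := Cfsg.pCore_normal 2 ↥H
  have hcore : ∀ N : Subgroup H, N.Normal → IsPGroup 2 N → N.map H.subtype ≤ E := fun N hN hN2 => by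
    haveI := hN
    rw [hE]; exact map_mono (Cfsg.Agent.Cores.le_pCore hN2)
  have hzE : z ∈ E := by
    have hle : zpowers (⟨z, hzH⟩ : H) ≤ Subgroup.center ↥H :=
      zpowers_le.mpr (mem_center_iff.mpr fun w => Subtype.ext ((hmemH w).mp w.2))
    have hcen : (zpowers (⟨z, hzH⟩ : H)).Normal := ⟨fun n hn g => by
      rw [mem_center_iff.mp (hle hn) g, mul_inv_cancel_right]; exact hn⟩
    refine hcore _ hcen (IsPGroup.of_card (n := 1) ?_) ⟨_, mem_zpowers _, rfl⟩
    rw [Nat.card_zpowers, Subgroup.orderOf_mk, hz, pow_one]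
  obtain ⟨⟨hE2, -, hder⟩, hcard⟩ := hext
  have hcen2 : ∀ w : ↥E, w ∈ Subgroup.center ↥E → (w : G) = 1 ∨ (w : G) = z := by
    intro w hw
    have hzc : (⟨z, hzE⟩ : E) ∈ Subgroup.center ↥E :=
      mem_center_iff.mpr fun v => Subtype.ext ((hmemH v).mp (hEH v.2))
    obtain ⟨v, -, hv⟩ := (Nat.card_eq_two_iff' (1 : Subgroup.center ↥E)).mp hcard
    by_cases h1 : w = 1
    · exact Or.inl (by rw [h1]; rfl)
    · right
      have e1 := hv ⟨w, hw⟩ (fun h => h1 (congrArg Subtype.val h))
      have e2 := hv ⟨_, hzc⟩ (fun h => hz1 (congrArg (fun x : Subgroup.center ↥E => ((x : E) : G)) h))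
      exact congrArg (fun x : Subgroup.center ↥E => ((x : E) : G)) (e1.trans e2.symm)
  have hcomm : ∀ a ∈ E, ∀ b ∈ E, a * b * a⁻¹ * b⁻¹ = 1 ∨ a * b * a⁻¹ * b⁻¹ = z := fun a ha b hb =>
    hcen2 (⁅(⟨a, ha⟩ : E), (⟨b, hb⟩ : E)⁆) (hder ▸ commutator_mem_commutator (mem_top _) (mem_top _))
  have hcenter : ∀ a ∈ E, (∀ b ∈ E, a * b = b * a) → a = 1 ∨ a = z := fun a ha h =>
    hcen2 ⟨a, ha⟩ (mem_center_iff.mpr fun b => Subtype.ext (h b b.2).symm)
  have hsq : ∀ a ∈ E, a * a = 1 ∨ a * a = z := fun a ha => hcenter _ (mul_mem ha ha) fun b hb => by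
    have hba : ∀ c : G, a * b * a⁻¹ * b⁻¹ = c → c * c = 1 → a * c = c * a → a * a * b = b * (a * a) := by
      intro c hc hcc hac
      have h1 : a * b = c * (b * a) := by rw [← hc]; group
      calc a * a * b = a * (a * b) := mul_assoc ..
        _ = (a * c) * b * a := by rw [h1]; group
        _ = c * (a * b) * a := by rw [hac]; group
        _ = (c * c) * b * (a * a) := by rw [h1]; group
        _ = b * (a * a) := by rw [hcc, one_mul]
    rcases hcomm a ha b hb with h | h
    · exact hba 1 h (one_mul 1) (by simp)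
    · exact hba z h hzz ((hmemH a).mp (hEH ha))
  have S : Setup H E z :=
    { hz2 := hzz, hz1 := hz1, mem_H := hmemH, hEH := hEH, hzE := hzE
      hnorm := fun h hh a ha => by
        rw [hE] at ha ⊢
        obtain ⟨a', ha', rfl⟩ := ha
        exact ⟨_, (inferInstance : (Cfsg.pCore 2 ↥H).Normal).conj_mem a' ha' ⟨h, hh⟩, rfl⟩
      hE2 := hE2, hcore := hcore, hcomm := hcomm, hsq := hsq, hcenter := hcenter
      hnonab := by
        by_contra hcon
        simp only [not_exists, not_and, not_not] at hcon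
        have h1 : Subgroup.center ↥E = ⊥ := by
          rw [← hder, _root_.commutator_def, eq_bot_iff, commutator_le]
          intro a _ b _
          rw [mem_bot, commutatorElement_eq_one_iff_mul_comm]
          exact Subtype.ext (hcon a a.2 b b.2)
        rw [h1, card_bot] at hcard
        omega
      hcent := fun g hg => hcent fun a ha => (hg a ha).symm }
  exact S

/-- Let G be a finite group with no nontrivial 2-group quotient (O^2(G) = G), z an involution of G with H = C_G(z), and suppose E = O_2(H) is extraspecial with C_G(E) ≤ E. Then the Sylow 2-subgroups of H/[H, H] are elementary abelian: every element of 2-power order of the abelianization of H has order at most 2. -/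
theorem result {G : Type*} [Group G] [Finite G] (hres : Cfsg.pResidual 2 G = ⊤) (z : G) (hz : orderOf z = 2)
    (E : Subgroup G) (hE : E = (Cfsg.pCore 2 ↥(Subgroup.centralizer ({z} : Set G))).map (Subgroup.centralizer ({z} : Set G)).subtype)
    (hext : Cfsg.IsExtraspecial 2 ↥E) (hcent : Subgroup.centralizer (E : Set G) ≤ E) :
    ∀ q : Abelianization ↥(Subgroup.centralizer ({z} : Set G)), (∃ k : ℕ, orderOf q = 2 ^ k) → q ^ 2 = 1 := by
  set H := Subgroup.centralizer ({z} : Set G) with hH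
  have S : Setup H E z := setup_of z hz E hE hext hcent
  rintro q ⟨k, hk⟩
  by_contra hq
  rcases Nat.lt_or_ge 8 (Nat.card E) with h8 | h8
  · obtain ⟨χ, x, hx⟩ := exists_hom_four hk hq
    obtain ⟨y, rfl⟩ := QuotientGroup.mk_surjective x
    have hA : IsPGroup 2 (Multiplicative (ZMod 4)) :=
      IsPGroup.of_card (n := 2) (by rw [Nat.card_congr Multiplicative.toAdd, Nat.card_zmod]; rfl)
    obtain ⟨t, ht, hts⟩ := exists_two_element_not_isSquare (χ.comp Abelianization.of) y hA hx
    have h1 := isSquare_transfer_div S h8 (χ.comp Abelianization.of) t ht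
    rw [map_mem_eq_one_of_pResidual_eq_top hA hres, one_mul] at h1
    exact hts (by simpa using h1.inv)
  · obtain ⟨y, rfl⟩ := QuotientGroup.mk_surjective q
    obtain ⟨a, m, hm, hord⟩ := Nat.exists_eq_two_pow_mul_odd (orderOf_pos y).ne'
    have ht : ∃ j, orderOf (y ^ m) = 2 ^ j := by
      obtain ⟨j, -, hj⟩ := (Nat.dvd_prime_pow Nat.prime_two).mp (orderOf_dvd_of_pow_eq_one
        (show (y ^ m) ^ 2 ^ a = 1 by rw [← pow_mul, mul_comm, ← hord, pow_orderOf_eq_one]))
      exact ⟨j, hj⟩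
    have h1 : (Abelianization.of (y ^ m)) ^ 2 = 1 := by
      rw [← map_pow]
      exact (QuotientGroup.eq_one_iff _).mpr (sq_mem_commutator_of_small S h8 _ ht)
    rw [map_pow, ← pow_mul, mul_comm, pow_mul, ← orderOf_dvd_iff_pow_eq_one] at h1
    refine hq ?_
    have hcop : Nat.Coprime (orderOf (Abelianization.of y ^ 2)) m := by
      refine Nat.Coprime.coprime_dvd_left ((orderOf_pow_dvd 2).trans hk.dvd) ?_
      exact ((Nat.prime_two.coprime_iff_not_dvd).mpr hm.not_two_dvd_nat).pow_left _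
    have h2 : orderOf (Abelianization.of y ^ 2) = 1 := Nat.eq_one_of_dvd_coprimes hcop dvd_rfl h1
    exact orderOf_eq_one_iff.mp h2

end Cfsg.Agent.S3301
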