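import Cfsg.Statements.S3300
import Cfsg.Agent.S3301
import Cfsg.Agent.Components.ExtraspecialTransferTwo

set_option autoImplicit false
set_option linter.style.haveILetI false
open Cfsg

namespace Cfsg.Agent.S3300

open Subgroup Cfsg.Agent.Components.TransferOrbit Cfsg.Agent.S3301

variable {G : Type*} [Group G] [Finite G] {H E : Subgroup G} {z : G}

theorem eq_one_or_z_of_prod (S : Setup H E z) {a b : G} (ha : a = 1 ∨ a = z) (hb : b = 1 ∨ b = z) :
    a * b = 1 ∨ a * b = z := by
  rcases ha with rfl | rfl <;> rcases hb with rfl | rfl <;> simp [S.hz2]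

/-- An abelian part of `E` covered four times gives `|E| ≤ 32`. -/
theorem exists_noncommuting_two (S : Setup H E z) (h32 : 32 < Nat.card E) (L : Subgroup G) (y y₁ : G)
    (hy : y ∈ E) (hy₁ : y₁ ∈ E)
    (hcov : ∀ x ∈ E, x ∈ L ∨ y⁻¹ * x ∈ L ∨ y₁⁻¹ * x ∈ L ∨ (y * y₁)⁻¹ * x ∈ L) :
    ∃ a ∈ E, a ∈ L ∧ ∃ b ∈ E, b ∈ L ∧ a * b ≠ b * a := by
  classical
  by_contra hcon
  simp only [not_exists, not_and, not_not] at hcon
  letI : Fintype ↥(E ⊓ L) := Fintype.ofFinite _
  let f : ↥(E ⊓ L) → ({1, z} : Finset G) × ({1, z} : Finset G) := fun a =>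
    (⟨(a : G) * y * (a : G)⁻¹ * y⁻¹, by
      simpa using S.hcomm _ a.2.1 _ hy⟩, ⟨(a : G) * y₁ * (a : G)⁻¹ * y₁⁻¹, by
      simpa using S.hcomm _ a.2.1 _ hy₁⟩)
  -- two elements with the same commutators differ by an element of the centre
  have hfib : ∀ a b : ↥(E ⊓ L), f a = f b → (a : G)⁻¹ * b = 1 ∨ (a : G)⁻¹ * b = z := by
    intro a b hab
    have h1 : (a : G) * y * (a : G)⁻¹ = (b : G) * y * (b : G)⁻¹ :=
      mul_right_cancel (congrArg (fun p : ({1, z} : Finset G) × ({1, z} : Finset G) => (p.1 : G)) hab)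
    have h2 : (a : G) * y₁ * (a : G)⁻¹ = (b : G) * y₁ * (b : G)⁻¹ :=
      mul_right_cancel (congrArg (fun p : ({1, z} : Finset G) × ({1, z} : Finset G) => (p.2 : G)) hab)
    set c := (a : G)⁻¹ * b with hc
    have hc1 : c * y = y * c := by
      calc c * y = (a : G)⁻¹ * ((b : G) * y * (b : G)⁻¹) * b := by rw [hc]; group
        _ = y * c := by rw [← h1, hc]; group
    have hc2 : c * y₁ = y₁ * c := by
      calc c * y₁ = (a : G)⁻¹ * ((b : G) * y₁ * (b : G)⁻¹) * b := by rw [hc]; group
        _ = y₁ * c := by rw [← h2, hc]; group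
    have hcE : c ∈ E := mul_mem (inv_mem a.2.1) b.2.1
    have hcL : c ∈ L := mul_mem (inv_mem a.2.2) b.2.2
    have hLc : ∀ w ∈ E, w ∈ L → c * w = w * c := fun w hw hwL => hcon c hcE hcL w hw hwL
    have hmul : ∀ s w : G, c * s = s * c → c * w = w * c → c * (s * w) = (s * w) * c := fun s w hs hw => by
      rw [← mul_assoc, hs, mul_assoc, hw, mul_assoc]
    refine S.hcenter c hcE fun w hw => ?_
    rcases hcov w hw with h | h | h | h
    · exact hLc w hw h
    · have := hmul y _ hc1 (hLc _ (mul_mem (inv_mem hy) hw) h)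
      simpa using this
    · have := hmul y₁ _ hc2 (hLc _ (mul_mem (inv_mem hy₁) hw) h)
      simpa using this
    · have := hmul (y * y₁) _ (hmul y y₁ hc1 hc2) (hLc _ (mul_mem (inv_mem (mul_mem hy hy₁)) hw) h)
      simpa [mul_assoc] using this
  have h8 : Nat.card ↥(E ⊓ L) ≤ 8 := by
    rw [Nat.card_eq_fintype_card, ← Finset.card_univ]
    refine (Finset.card_le_mul_card_image (f := f) Finset.univ 2 fun p hp => ?_).trans ?_
    · obtain ⟨a, -, rfl⟩ := Finset.mem_image.mp hp
      have hsub : ((Finset.univ.filter fun b => f b = f a).image fun b : ↥(E ⊓ L) => (b : G)) ⊆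
          {(a : G), (a : G) * z} := by
        intro x hx
        obtain ⟨b, hb, rfl⟩ := Finset.mem_image.mp hx
        rcases hfib a b (Finset.mem_filter.mp hb).2.symm with h | h <;>
          rw [inv_mul_eq_iff_eq_mul] at h <;> simp [h]
      calc _ = ((Finset.univ.filter fun b => f b = f a).image fun b : ↥(E ⊓ L) => (b : G)).card :=
            (Finset.card_image_of_injective _ Subtype.val_injective).symm
        _ ≤ _ := Finset.card_le_card hsub
        _ ≤ 2 := Finset.card_le_two
    · have h4 : (Finset.univ.image f).card ≤ 4 := by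
        refine (Finset.card_le_univ _).trans ?_
        rw [Fintype.card_prod, Fintype.card_coe]
        have := Finset.card_le_two (a := (1 : G)) (b := z)
        nlinarith
      omega
  let g : E → ↥(E ⊓ L) × Fin 4 := fun x =>
    if h : (x : G) ∈ L then (⟨x, Subgroup.mem_inf.mpr ⟨x.2, h⟩⟩, 0)
    else if h1 : y⁻¹ * (x : G) ∈ L then (⟨_, Subgroup.mem_inf.mpr ⟨mul_mem (inv_mem hy) x.2, h1⟩⟩, 1)
    else if h2 : y₁⁻¹ * (x : G) ∈ L then (⟨_, Subgroup.mem_inf.mpr ⟨mul_mem (inv_mem hy₁) x.2, h2⟩⟩, 2)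
    else (⟨_, Subgroup.mem_inf.mpr ⟨mul_mem (inv_mem (mul_mem hy hy₁)) x.2, ((((hcov x x.2).resolve_left h).resolve_left h1)).resolve_left h2⟩⟩, 3)
  have hg : Function.Injective g := by
    intro x x' h
    simp only [g] at h
    split_ifs at h <;> simp only [Prod.ext_iff, Subtype.ext_iff] at h <;>
      first
      | exact Subtype.ext h.1
      | exact Subtype.ext (mul_left_cancel h.1)
      | exact absurd h.2 (by decide)
  have := Nat.card_le_card_of_injective g hg
  rw [Nat.card_prod, Nat.card_fin] at this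
  omega

/-- The centralizer in `E` of a subgroup is large. -/
theorem two_mul_card_le (S : Setup H E z) (m : ℕ) : ∀ A : Subgroup G, Nat.card A = m → A ≤ E → z ∈ A →
    2 * Nat.card E ≤ Nat.card ↥(E ⊓ Subgroup.centralizer (A : Set G)) * Nat.card A := by
  induction m using Nat.strong_induction_on with
  | _ m ih =>
  intro A hA hAE hzA
  classical
  have hzord : Nat.card (zpowers z) = 2 := by
    rw [Nat.card_zpowers]
    exact orderOf_eq_prime_iff.mpr ⟨by rw [sq]; exact S.hz2, S.hz1⟩
  by_cases hsmall : A ≤ zpowers z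
  · have hA' : A = zpowers z := le_antisymm hsmall (zpowers_le.mpr hzA)
    have hC : E ⊓ Subgroup.centralizer (A : Set G) = E := inf_eq_left.mpr fun e he => by
      intro x hx
      rw [hA'] at hx
      obtain ⟨k, rfl⟩ := mem_zpowers_iff.mp hx
      exact ((show Commute e z from (S.mem_H e).mp (S.hEH he)).zpow_right k).eq.symm
    rw [hC, hA', hzord]; omega
  · -- a maximal subgroup `B` of `A` containing `z`
    obtain ⟨n, hn⟩ := IsPGroup.iff_card.mp (S.hE2.to_le hAE)
    have hn2 : 2 ≤ n := by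
      by_contra hcon
      refine hsmall (ge_of_eq (eq_of_le_of_card_ge (zpowers_le.mpr hzA) ?_))
      rw [hzord, hn]
      calc 2 ^ n ≤ 2 ^ 1 := Nat.pow_le_pow_right two_pos (by omega)
        _ = 2 := rfl
    have hk : Nat.card ((zpowers z).subgroupOf A) = 2 ^ 1 := by
      rw [pow_one, ← hzord]
      exact Nat.card_congr (subgroupOfEquivOfLe (zpowers_le.mpr hzA)).toEquiv
    obtain ⟨B₀, hB₀, hzB₀⟩ := Sylow.exists_subgroup_card_pow_prime_le (p := 2) (n := 1) (m := n - 1)
      (hn ▸ pow_dvd_pow 2 (Nat.sub_le n 1)) _ hk (by omega)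
    set B := B₀.map A.subtype
    have hBcard : Nat.card B = 2 ^ (n - 1) := by
      rw [← hB₀]
      exact (Nat.card_congr (B₀.equivMapOfInjective _ A.subtype_injective).toEquiv).symm
    have hpow : 2 ^ n = 2 ^ (n - 1) * 2 := by rw [← pow_succ]; congr 1; omega
    have hB₀i : B₀.index = 2 := by
      have h := B₀.card_mul_index
      rw [hB₀, hn] at h
      exact Nat.eq_of_mul_eq_mul_left (Nat.two_pow_pos (n - 1)) (h.trans hpow)
    obtain ⟨a, ha⟩ : ∃ a : A, a ∉ B₀ := by
      by_contra hcon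
      simp only [not_exists, not_not] at hcon
      have := index_eq_one.mpr (eq_top_iff.mpr fun a _ => hcon a)
      omega
    have hlt : Nat.card B < m := by rw [hBcard, ← hA, hn]; exact Nat.pow_lt_pow_right one_lt_two (by omega)
    have hih := ih _ hlt B rfl (le_trans (map_subtype_le _) hAE) ⟨⟨z, hzA⟩, hzB₀ (mem_zpowers z), rfl⟩
    set CB := E ⊓ Subgroup.centralizer (B : Set G)
    set CA := E ⊓ Subgroup.centralizer (A : Set G)
    -- `e ↦ [e, a]` takes two values on `CB`
    have hCA : ∀ e ∈ CB, e * a = a * e → e ∈ CA := fun e he h => ⟨he.1, fun x hx => by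
      rcases (mul_mem_iff_of_index_two hB₀i (a := a⁻¹) (b := (⟨x, hx⟩ : A))).symm with ⟨h1, h2⟩
      by_cases hxB : (⟨x, hx⟩ : A) ∈ B₀
      · exact he.2 x ⟨_, hxB, rfl⟩
      · have h3 : a⁻¹ * ⟨x, hx⟩ ∈ B₀ := h1 ((by simp [ha, hxB]))
        have h4 : ((a : G)⁻¹ * x) * e = e * ((a : G)⁻¹ * x) := he.2 _ ⟨_, h3, rfl⟩
        calc x * e = (a : G) * (((a : G)⁻¹ * x) * e) := by group
          _ = e * x := by rw [h4, ← mul_assoc, ← h]; group⟩
    have hle : Nat.card CB ≤ 2 * Nat.card CA := by
      by_cases hex : ∃ e₀ ∈ CB, ¬ e₀ * (a : G) = a * e₀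
      · obtain ⟨e₀, he₀, hne⟩ := hex
        have hz0 : e₀ * (a : G) * e₀⁻¹ = z * a := by
          rcases S.hcomm e₀ he₀.1 _ (hAE a.2) with h | h
          · exact absurd (mul_inv_eq_one.mp h |> fun h' => by
              calc e₀ * (a : G) = e₀ * (a : G) * e₀⁻¹ * e₀ := by group
                _ = a * e₀ := by rw [h']) hne
          · rw [← h]; group
        let g : CB → CA × Bool := fun e =>
          if h : (e : G) * a = a * e then (⟨e, hCA _ e.2 h⟩, true)
          else (⟨e₀⁻¹ * e, hCA _ (mul_mem (inv_mem he₀) e.2) (by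
            rcases S.hcomm _ e.2.1 _ (hAE a.2) with h1 | h1
            · exact absurd (mul_inv_eq_one.mp h1 |> fun h' => by
                calc (e : G) * (a : G) = (e : G) * a * (e : G)⁻¹ * e := by group
                  _ = a * e := by rw [h']) h
            · have h2 : (e : G) * a * (e : G)⁻¹ = z * a := by rw [← h1]; group
              calc e₀⁻¹ * (e : G) * a = e₀⁻¹ * ((e : G) * a * (e : G)⁻¹) * e := by group
                _ = e₀⁻¹ * (e₀ * (a : G) * e₀⁻¹) * e := by rw [h2, hz0]
                _ = a * (e₀⁻¹ * e) := by group)⟩, false)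
        have hg : Function.Injective g := by
          intro e e' h
          simp only [g] at h
          split_ifs at h <;> simp only [Prod.ext_iff, Subtype.ext_iff] at h <;>
            first
            | exact Subtype.ext h.1
            | exact Subtype.ext (mul_left_cancel h.1)
            | exact absurd h.2 (by decide)
        have h2 := Nat.card_le_card_of_injective g hg
        rw [Nat.card_prod, Nat.card_eq_fintype_card (α := Bool), Fintype.card_bool] at h2
        omega
      · simp only [not_exists, not_and, not_not] at hex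
        have : CB ≤ CA := fun e he => hCA e he (hex e he)
        have := card_le_of_le this
        omega
    calc 2 * Nat.card E ≤ Nat.card CB * Nat.card B := hih
      _ ≤ (2 * Nat.card CA) * Nat.card B := Nat.mul_le_mul_right _ hle
      _ = Nat.card CA * Nat.card A := by rw [hBcard, hn, hpow]; ring

/-- An element outside `H` moves `z` to a conjugate whose orbit stabilizer has index at least four
in `E`. -/
theorem exists_outside (S : Setup H E z) (h32 : 32 < Nat.card E)
    (hne : ∀ g : G, g * z * g⁻¹ ∈ E → g * z * g⁻¹ = z) {u : G} (hu : u ∉ H) (y : G) (hy : y ∈ E) :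
    ∃ x ∈ E, u⁻¹ * x * u ∉ H ∧ u⁻¹ * (y⁻¹ * x) * u ∉ H := by
  classical
  by_contra hcon
  simp only [not_exists, not_and, not_not] at hcon
  set z' := u * z * u⁻¹ with hz'
  have hz'E : z' ∉ E := fun h => hu ((S.mem_H u).mpr (by
    calc u * z = u * z * u⁻¹ * u := by group
      _ = z * u := by rw [hne u h]))
  have hCz : ∀ x, u⁻¹ * x * u ∈ H ↔ x * z' = z' * x := fun x => by
    rw [S.mem_H, hz']
    constructor
    · intro h
      calc x * (u * z * u⁻¹) = u * (u⁻¹ * x * u * z) * u⁻¹ := by group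
        _ = u * z * u⁻¹ * x := by rw [h]; group
    · intro h
      calc u⁻¹ * x * u * z = u⁻¹ * (x * (u * z * u⁻¹)) * u := by group
        _ = z * (u⁻¹ * x * u) := by rw [h]; group
  set A := E ⊓ Subgroup.centralizer ({z'} : Set G) with hA
  have hmemA : ∀ x, x ∈ A ↔ x ∈ E ∧ x * z' = z' * x := fun x =>
    and_congr_right fun _ => mem_centralizer_singleton_iff
  have hcov : ∀ x ∈ E, x ∈ A ∨ y⁻¹ * x ∈ A := fun x hx => by
    by_cases h : x * z' = z' * x
    · exact Or.inl ((hmemA x).mpr ⟨hx, h⟩)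
    · exact Or.inr ((hmemA _).mpr ⟨mul_mem (inv_mem hy) hx,
        (hCz _).mp (hcon x hx fun h' => h ((hCz x).mp h'))⟩)
  obtain ⟨a, haE, haA, b, hbE, hbA, hab⟩ := exists_noncommuting_two S h32 A y 1 hy (one_mem E)
    (fun x hx => (hcov x hx).imp id Or.inl)
  have hzA : z ∈ A := by
    rcases S.hcomm a haE b hbE with h | h
    · exact absurd (by
        calc a * b = a * b * a⁻¹ * b⁻¹ * (b * a) := by group
          _ = b * a := by rw [h, one_mul]) hab
    · exact h ▸ mul_mem (mul_mem (mul_mem haA hbA) (inv_mem haA)) (inv_mem hbA)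
  have hz'H : z' ∈ H := (S.mem_H z').mpr ((hmemA z).mp hzA).2.symm
  have hz'2 : z' * z' = 1 := by
    calc z' * z' = u * (z * z) * u⁻¹ := by rw [hz']; group
      _ = 1 := by rw [S.hz2]; group
  have hz'i : z'⁻¹ = z' := inv_eq_of_mul_eq_one_left hz'2
  have hcom : ∀ g : G, (∀ x ∈ A, g * x = x * g) → g * y = y * g → ∀ x ∈ E, g * x = x * g := by
    intro g hg hgy x hx
    rcases hcov x hx with h | h
    · exact hg x h
    · calc g * x = (g * y) * (y⁻¹ * x) := by group
        _ = y * (g * (y⁻¹ * x)) := by rw [hgy, mul_assoc]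
        _ = x * g := by rw [hg _ h]; group
  have hz'A : ∀ x ∈ A, z' * x = x * z' := fun x hx => ((hmemA x).mp hx).2.symm
  by_cases hzy : z' * y = y * z'
  · exact hz'E (S.hcent z' (hcom z' hz'A hzy))
  have hnzy : ¬ y ∈ A := fun h => hzy (hz'A y h)
  -- `w = y⁻¹ y^z'` commutes with `A`
  set w := y⁻¹ * (z' * y * z'⁻¹) with hw
  have hwE : w ∈ E := mul_mem (inv_mem hy) (S.hnorm z' hz'H y hy)
  have hconjA : ∀ x ∈ A, y * x * y⁻¹ ∈ A := fun x hx => by
    rcases S.hcomm y hy x hx.1 with h | h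
    · rw [show y * x * y⁻¹ = y * x * y⁻¹ * x⁻¹ * x by group, h, one_mul]; exact hx
    · rw [show y * x * y⁻¹ = y * x * y⁻¹ * x⁻¹ * x by group, h]; exact mul_mem hzA hx
  have hwA : ∀ x ∈ A, w * x = x * w := fun x hx => by
    have h1 := hz'A x hx
    have h2 := hz'A _ (hconjA x hx)
    calc w * x = y⁻¹ * z' * y * (z'⁻¹ * x) := by rw [hw]; group
      _ = y⁻¹ * z' * y * (x * z'⁻¹) := by rw [show z'⁻¹ * x = x * z'⁻¹ by rw [hz'i]; exact h1]
      _ = y⁻¹ * (z' * (y * x * y⁻¹)) * y * z'⁻¹ := by group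
      _ = x * w := by rw [h2, hw]; group
  have hz'y : z' * y * z'⁻¹ = y * w := by rw [hw]; group
  -- `w` lies in `A`
  have hwA' : w ∈ A := by
    by_contra hwnA
    have hy' : y⁻¹ * w ∈ A := (hcov w hwE).resolve_left hwnA
    have hwy : w * y = y * w := by
      have h1 := hwA _ hy'
      calc w * y = w * y * (y⁻¹ * w) * (y⁻¹ * w)⁻¹ := by group
        _ = y * ((y⁻¹ * w) * w) * (y⁻¹ * w)⁻¹ := by group
        _ = y * (w * (y⁻¹ * w)) * (y⁻¹ * w)⁻¹ := by rw [h1]
        _ = y * w := by group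
    rcases S.hcenter w hwE (hcom w hwA hwy) with h | h
    · exact hwnA (h ▸ one_mem A)
    · exact hwnA (h ▸ hzA)
  have hw2 : w * w = 1 := by
    have h1 : z' * w = w * z' := hz'A w hwA'
    have h2 : z' * (z' * y * z'⁻¹) * z'⁻¹ = y := by
      rw [hz'i]; simp [← mul_assoc, hz'2]
      rw [mul_assoc, hz'2, mul_one]
    rw [hz'y] at h2
    have h3 : z' * (y * w) * z'⁻¹ = y * w * w := by
      calc z' * (y * w) * z'⁻¹ = (z' * y * z'⁻¹) * (z' * w * z'⁻¹) := by group
        _ = y * w * w := by rw [hz'y, h1]; group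
    rw [h3] at h2
    simpa [mul_assoc] using h2
  have hwy : w * y = y * w := by
    have h1 : (y * w) * (y * w) = y * y := by
      rw [← hz'y, show z' * y * z'⁻¹ * (z' * y * z'⁻¹) = z' * (y * y) * z'⁻¹ by group]
      rcases S.hsq y hy with h | h <;> rw [h]
      · group
      · rw [(S.mem_H z').mp hz'H]; group
    have h2 : w * (y * w) = y := mul_left_cancel (by rw [← mul_assoc]; exact h1)
    calc w * y = w * (y * w) * w⁻¹ := by group
      _ = y * w⁻¹ := by rw [h2]
      _ = y * w := by rw [inv_eq_of_mul_eq_one_left hw2]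
  have hwz : w = z := by
    rcases S.hcenter w hwE (hcom w hwA hwy) with h | h
    · exact absurd (by
        calc z' * y = (z' * y * z'⁻¹) * z' := by group
          _ = y * z' := by rw [hz'y, h, mul_one]) hzy
    · exact h
  -- an element of `C_E(A)` acting as `z'`
  obtain ⟨c, hcE, hcA, hcy⟩ : ∃ c ∈ E, (∀ x ∈ A, c * x = x * c) ∧ ¬ c * y = y * c := by
    by_contra hc
    simp only [not_exists, not_and, not_not] at hc
    have hsub : ((E ⊓ Subgroup.centralizer (A : Set G) : Subgroup G) : Set G) ⊆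
        (({1, z} : Finset G) : Set G) := fun c hc' => by
      have h1 : ∀ x ∈ A, c * x = x * c := fun x hx => (hc'.2 x hx).symm
      rcases S.hcenter c hc'.1 (hcom c h1 (hc c hc'.1 h1)) with h | h <;> simp [h]
    have h2 := Set.ncard_le_ncard hsub (Finset.finite_toSet _)
    rw [Set.ncard_coe_finset, ← Nat.card_coe_set_eq] at h2
    have h3 : Nat.card ↥(E ⊓ Subgroup.centralizer (A : Set G)) ≤ 2 := h2.trans Finset.card_le_two
    have h4 := two_mul_card_le S _ A rfl inf_le_left hzA
    have h5 : Nat.card A * 2 ≤ Nat.card E := by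
      let g : A × Bool → E := fun p => if p.2 then ⟨p.1, p.1.2.1⟩ else ⟨y * p.1, mul_mem hy p.1.2.1⟩
      have hg : Function.Injective g := by
        have hne' : ∀ x x' : A, y * (x : G) ≠ x' := fun x x' h => hnzy (by
          rw [show y = (x' : G) * (x : G)⁻¹ by rw [← h]; group]; exact mul_mem x'.2 (inv_mem x.2))
        rintro ⟨x, bx⟩ ⟨x', bx'⟩ h
        cases bx <;> cases bx' <;> replace h := congrArg Subtype.val h <;>
          simp only [g, if_true, Bool.false_eq_true, if_false] at h <;>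
          first
          | exact absurd h (hne' _ _)
          | exact absurd h.symm (hne' _ _)
          | rw [Subtype.ext h]
          | rw [Subtype.ext (mul_left_cancel h)]
      have := Nat.card_le_card_of_injective g hg
      rwa [Nat.card_prod, Nat.card_eq_fintype_card (α := Bool), Fintype.card_bool] at this
    have h6 : 0 < Nat.card A := Nat.card_pos
    nlinarith
  have hcz : c * y * c⁻¹ = z * y := by
    rcases S.hcomm c hcE y hy with h | h
    · exact absurd (by
        calc c * y = c * y * c⁻¹ * y⁻¹ * (y * c) := by group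
          _ = y * c := by rw [h, one_mul]) hcy
    · rw [← h]; group
  have hall := hcom (z' * c) (fun x hx => by
    rw [mul_assoc, hcA x hx, ← mul_assoc, hz'A x hx, mul_assoc]) (by
    have hzy' : z * y = y * z := ((S.mem_H y).mp (S.hEH hy)).symm
    calc z' * c * y = z' * (c * y * c⁻¹) * c := by group
      _ = z' * (y * z) * c := by rw [hcz, hzy']
      _ = (z' * y * z'⁻¹) * (z' * z) * c := by group
      _ = y * (z * z) * (z' * c) := by rw [hz'y, hwz, (S.mem_H z').mp hz'H]; group
      _ = y * (z' * c) := by rw [S.hz2, mul_one])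
  exact hz'E (by simpa using E.mul_mem (S.hcent _ hall) (inv_mem hcE))

/-- The transfer agrees with the character on `2`-elements. -/
theorem transfer_eq_self (S : Setup H E z) (h32 : 32 < Nat.card E)
    (hne : ∀ g : G, g * z * g⁻¹ ∈ E → g * z * g⁻¹ = z)
    {A : Type*} [CommGroup A] (hA : ∀ x : A, x * x = 1) (χ : H →* A) (t : H)
    (ht : ∃ k, orderOf t = 2 ^ k) : MonoidHom.transfer χ (t : G) = χ t := by
  classical
  set R := E ⊔ zpowers (t : G) with hRdef
  have hRH : R ≤ H := sup_le S.hEH (zpowers_le.mpr t.2)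
  have hnE : R ≤ normalizer (E : Set G) := fun r hr => by
    refine mem_normalizer_iff.mpr fun x => ⟨fun hx => S.hnorm r (hRH hr) x hx, fun hx => ?_⟩
    simpa [mul_assoc] using S.hnorm r⁻¹ (inv_mem (hRH hr)) _ hx
  have hR2 : IsPGroup 2 R := by
    obtain ⟨k, hk⟩ := ht
    refine IsPGroup.to_sup_of_normal_left' S.hE2
      (IsPGroup.of_card (n := k) (by rw [Nat.card_zpowers, Subgroup.orderOf_coe, hk])) ?_
    exact fun x hx => hnE ((le_sup_right : zpowers (t : G) ≤ R) hx)
  haveI : (E.subgroupOf R).Normal := ⟨fun k hk r => by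
    rw [mem_subgroupOf] at hk ⊢
    exact S.hnorm r (hRH r.2) k hk⟩
  let tR : R := ⟨t, mem_sup_right (mem_zpowers _)⟩
  letI := Fintype.ofFinite (Quotient (MulAction.orbitRel R (G ⧸ H)))
  have hdec := transfer_eq_prod_orbits χ R tR (fun o => o.out.out) (fun o => by
    rw [QuotientGroup.out_eq', Quotient.out_eq])
  have htR : ((tR : R) : G) = (t : G) := rfl
  rw [htR] at hdec
  set o₀ := Quotient.mk (MulAction.orbitRel R (G ⧸ H)) ((1 : G) : G ⧸ H) with ho₀
  have hu₀ : o₀.out.out ∈ H := by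
    obtain ⟨r, hr⟩ : o₀.out ∈ MulAction.orbit R ((1 : G) : G ⧸ H) :=
      Quotient.exact (Quotient.out_eq o₀)
    have h1 : (((r : G) * 1 : G) : G ⧸ H) = (o₀.out.out : G ⧸ H) := by
      rw [QuotientGroup.out_eq']; exact hr
    have h2 := QuotientGroup.eq.mp h1
    simpa using mul_mem (hRH r.2) h2
  have hfirst : MonoidHom.transfer (stabHom χ R o₀.out.out) tR = χ t := by
    have htop : MulAction.stabilizer R ((o₀.out.out : G) : G ⧸ H) = ⊤ := eq_top_iff.mpr fun r _ => by
      rw [MulAction.mem_stabilizer_iff]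
      exact QuotientGroup.eq.mpr (mul_mem (inv_mem (mul_mem (hRH r.2) hu₀)) hu₀)
    haveI : Subsingleton (R ⧸ MulAction.stabilizer R ((o₀.out.out : G) : G ⧸ H)) := by
      rw [htop]; exact QuotientGroup.subsingleton_quotient_top
    rw [transfer_of_subsingleton _ tR (htop ▸ mem_top _)]
    have h1 : stabHom χ R o₀.out.out ⟨tR, htop ▸ mem_top _⟩ =
        χ ((⟨_, hu₀⟩ : H)⁻¹ * t * ⟨_, hu₀⟩) := rfl
    rw [h1, map_mul, map_mul, map_inv, mul_right_comm, inv_mul_cancel, one_mul]
  rw [hdec, Fintype.prod_eq_mul_prod_compl o₀, hfirst, Finset.prod_eq_one, mul_one]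
  intro o ho
  set u := o.out.out with hu
  have huH : u ∉ H := by
    intro huH
    refine (Finset.mem_compl.mp ho) (Finset.mem_singleton.mpr ?_)
    rw [← Quotient.out_eq o, ho₀]
    congr 1
    rw [← QuotientGroup.out_eq' o.out, ← hu]
    exact QuotientGroup.eq.mpr (by simpa using inv_mem huH)
  have hst : ∀ x : R, x ∈ MulAction.stabilizer R ((u : G) : G ⧸ H) → u⁻¹ * (x : G) * u ∈ H := fun x hx => by
    have h1 : (((x : G) * u : G) : G ⧸ H) = (u : G ⧸ H) := MulAction.mem_stabilizer_iff.mp hx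
    simpa [mul_assoc] using QuotientGroup.eq.mp h1.symm
  refine transfer_eq_one hR2 (E := E.subgroupOf R) ⟨z, mem_sup_left S.hzE⟩
    (fun a ha b hb => (S.hcomm _ ha _ hb).imp (fun h => Subtype.ext h) (fun h => Subtype.ext h))
    (fun a ha => (S.hsq _ ha).imp (fun h => Subtype.ext h) (fun h => Subtype.ext h))
    (fun y hy => ?_) (fun M y hy y₁ hy₁ hcov => ?_) hA _ _
  · obtain ⟨x, hx, h1, h2⟩ := exists_outside S h32 hne huH (y : G) hy
    exact ⟨⟨x, mem_sup_left hx⟩, hx, fun h => h1 (hst _ h), fun h => h2 (by simpa using hst _ h)⟩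
  · obtain ⟨a, haE, ⟨a', ha', rfl⟩, b, hbE, ⟨b', hb', rfl⟩, hab⟩ :=
      exists_noncommuting_two S h32 (M.map R.subtype) y y₁ hy hy₁
        (fun x hx => (hcov ⟨x, mem_sup_left hx⟩ hx).imp (fun h => ⟨_, h, rfl⟩)
          (Or.imp (fun h => ⟨_, h, rfl⟩) (Or.imp (fun h => ⟨_, h, rfl⟩) (fun h => ⟨_, h, rfl⟩))))
    exact ⟨a', haE, ha', b', hbE, hb', fun h => hab (congrArg Subtype.val h)⟩

/-- Let G be a finite group with no nontrivial 2-group quotient (O^2(G) = G), z an involution of G with H = C_G(z), and suppose E = O_2(H) is extraspecial with C_G(E) ≤ E and of order 2^(2n+1) with n ≥ 3. If H has a normal subgroup of index 2, then z is conjugate in G to an element of E other than z. -/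
theorem result {G : Type*} [Group G] [Finite G] (hres : Cfsg.pResidual 2 G = ⊤) (z : G) (hz : orderOf z = 2)
    (E : Subgroup G) (hE : E = (Cfsg.pCore 2 ↥(Subgroup.centralizer ({z} : Set G))).map (Subgroup.centralizer ({z} : Set G)).subtype)
    (hext : Cfsg.IsExtraspecial 2 ↥E) (hcent : Subgroup.centralizer (E : Set G) ≤ E) (n : ℕ) (hn : 3 ≤ n) (hcard : Nat.card ↥E = 2 ^ (2 * n + 1))
    (K : Subgroup G) (hKH : K ≤ Subgroup.centralizer ({z} : Set G))
    (hKn : ∀ h ∈ Subgroup.centralizer ({z} : Set G), K.map (MulAut.conj h).toMonoidHom = K)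
    (hKi : K.relIndex (Subgroup.centralizer ({z} : Set G)) = 2) :
    ∃ g : G, g * z * g⁻¹ ∈ E ∧ g * z * g⁻¹ ≠ z := by
  by_contra hcon
  simp only [not_exists, not_and, not_not] at hcon
  set H := Subgroup.centralizer ({z} : Set G) with hH
  have S : Cfsg.Agent.S3301.Setup H E z := Cfsg.Agent.S3301.setup_of z hz E hE hext hcent
  have h32 : 32 < Nat.card E := by
    rw [hcard]
    calc 32 < 2 ^ 7 := by norm_num
      _ ≤ 2 ^ (2 * n + 1) := Nat.pow_le_pow_right two_pos (by omega)
  set M := K.subgroupOf H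
  have hM : M.index = 2 := hKi
  classical
  let σ : Multiplicative (ZMod 2) := Multiplicative.ofAdd 1
  have hA : ∀ x : Multiplicative (ZMod 2), x * x = 1 := fun x => by
    have h : ∀ a : ZMod 2, a + a = 0 := by decide
    exact congrArg Multiplicative.ofAdd (h x.toAdd)
  let χ : H →* Multiplicative (ZMod 2) := MonoidHom.mk' (fun x => if x ∈ M then 1 else σ) (fun x y => by
    have h := mul_mem_iff_of_index_two hM (a := x) (b := y)
    by_cases hx : x ∈ M <;> by_cases hy : y ∈ M <;> simp [hx, hy, h, hA σ])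
  obtain ⟨x, hx⟩ : ∃ x : H, x ∉ M := by
    by_contra hall
    simp only [not_exists, not_not] at hall
    have := index_eq_one.mpr (eq_top_iff.mpr fun x _ => hall x : M = ⊤)
    omega
  have hA2 : IsPGroup 2 (Multiplicative (ZMod 2)) :=
    IsPGroup.of_card (n := 1) (by rw [Nat.card_congr Multiplicative.toAdd, Nat.card_zmod, pow_one])
  have hxs : ¬ IsSquare (χ x) := by
    rintro ⟨r, hr⟩
    rw [hA] at hr
    have : χ x = σ := if_neg hx
    rw [this] at hr
    exact absurd hr (by decide)
  obtain ⟨t, ht, hts⟩ := Cfsg.Agent.S3301.exists_two_element_not_isSquare χ x hA2 hxs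
  refine hts ?_
  rw [← transfer_eq_self S h32 hcon hA χ t ht,
    Cfsg.Agent.S3301.map_mem_eq_one_of_pResidual_eq_top hA2 hres]
  exact IsSquare.one

end Cfsg.Agent.S3300
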