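import Cfsg.Agent.S3305
import Cfsg.Agent.Cores.PCore
import Cfsg.Agent.Cores.Fitting
import Cfsg.Statements.S3303
-- import your own Cfsg.Agent.* helpers here

set_option autoImplicit false
open Cfsg

namespace Cfsg.Agent.S3303

open Cfsg

/-- In a finite solvable group without odd core, `O_2` contains its centraliser. -/
theorem centralizer_twoCore_le {Q : Type*} [Group Q] [Finite Q] [Group.IsSolvable Q]
    (h : oddCore Q = ⊥) : Subgroup.centralizer (pCore 2 Q : Set Q) ≤ pCore 2 Q := by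
  have hF : fittingSubgroup Q ≤ pCore 2 Q := by
    rw [Cores.iSup_pCore_eq_fittingSubgroup]
    refine iSup_le fun r => ?_
    obtain ⟨r, hr⟩ := r
    haveI : Fact (Nat.Prime r) := ⟨hr⟩
    by_cases h2 : r = 2
    · subst h2; exact le_rfl
    · refine le_trans ?_ (h.symm ▸ bot_le : oddCore Q ≤ pCore 2 Q)
      obtain ⟨k, hk⟩ := IsPGroup.iff_card.1 (Cores.pCore_isPGroup (p := r) (G := Q))
      exact Cores.le_pPrimeCore (hk ▸ Nat.Coprime.pow_left k
        ((Nat.coprime_primes (Fact.out) Nat.prime_two).2 h2))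
  intro x hx
  exact hF (Cores.centralizer_fittingSubgroup_le fun y hy => hx y (hF hy))

/-- An element of odd order centralises a normal cyclic 2-subgroup. -/
theorem commute_cyclic {Q : Type*} [Group Q] [Finite Q] (K : Subgroup Q) [K.Normal] [IsCyclic ↥K]
    (hK : IsPGroup 2 ↥K) {c : Q} (hc : Odd (orderOf c)) : ∀ x ∈ K, Commute c x := by
  intro x hx
  haveI : Fact (Nat.Prime 2) := ⟨Nat.prime_two⟩
  obtain ⟨k, hk⟩ := IsPGroup.iff_card.1 hK
  have hd : ∃ j, Nat.card (MulAut ↥K) = 2 ^ j := by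
    rw [IsCyclic.card_mulAut, hk]
    rcases k with _ | k
    · exact ⟨0, by simp⟩
    · exact ⟨k, by rw [Nat.totient_prime_pow_succ Nat.prime_two]; simp⟩
  obtain ⟨j, hj⟩ := hd
  have h1 : orderOf (MulAut.conjNormal (H := K) c) ∣ orderOf c := orderOf_map_dvd _ c
  have h2 : orderOf (MulAut.conjNormal (H := K) c) ∣ 2 ^ j := hj ▸ orderOf_dvd_natCard _
  have h3 : (orderOf c).Coprime (2 ^ j) := Nat.Coprime.pow_right j (Nat.coprime_two_right.2 hc)
  have h4 := orderOf_eq_one_iff.1 (Nat.eq_one_of_dvd_coprimes h3 h1 h2)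
  have h5 : c * x * c⁻¹ = x := by
    have := congrArg (fun a : MulAut ↥K => ((a ⟨x, hx⟩ : ↥K) : Q)) h4
    simpa [MulAut.conjNormal_apply] using this
  exact mul_inv_eq_iff_eq_mul.1 h5


/-- Let G be a finite solvable group in which the intersection of any two distinct Sylow 2-subgroups is cyclic. Then G/O(G) has a normal Sylow 2-subgroup, where O(G) is the largest normal subgroup of odd order. -/
theorem result {G : Type*} [Group G] [Finite G] (hs : Group.IsSolvable G)
    (hC : ∀ S T : Sylow 2 G, S ≠ T → IsCyclic ↥((S : Subgroup G) ⊓ (T : Subgroup G))) :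
    ∃ P : Sylow 2 (G ⧸ Cfsg.oddCore G), (P : Subgroup (G ⧸ Cfsg.oddCore G)).Normal := by
  haveI : Fact (Nat.Prime 2) := ⟨Nat.prime_two⟩
  haveI := hs
  set Q := G ⧸ oddCore G
  have hQ := Cfsg.Agent.S3305.result hC (oddCore G)
  haveI : Group.IsSolvable Q := solvable_of_surjective (QuotientGroup.mk'_surjective _)
  have hO : oddCore Q = ⊥ := Cores.pPrimeCore_quotient_pPrimeCore
  have P : Sylow 2 Q := default
  refine ⟨P, ?_⟩
  by_cases hall : ∀ S T : Sylow 2 Q, S = T
  · haveI : Subsingleton (Sylow 2 Q) := ⟨hall⟩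
    exact Sylow.normal_of_subsingleton P
  push Not at hall
  obtain ⟨S, T, hne⟩ := hall
  have hK : IsPGroup 2 ↥(pCore 2 Q) := Cores.pCore_isPGroup
  haveI := hQ S T hne
  haveI : IsCyclic ↥(pCore 2 Q) :=
    Subgroup.isCyclic_of_le (le_inf (Cores.pCore_le_sylow S) (Cores.pCore_le_sylow T))
  have hQp : IsPGroup 2 Q := by
    rw [IsPGroup.iff_orderOf]
    intro c
    obtain ⟨k, m, hm, hkm⟩ := Nat.exists_eq_pow_mul_and_not_dvd (orderOf_pos c).ne' 2 (by omega)
    have ho : orderOf (c ^ 2 ^ k) = m := by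
      rw [orderOf_pow_of_dvd (pow_ne_zero _ two_ne_zero) (hkm ▸ dvd_mul_right _ _), hkm,
        Nat.mul_div_cancel_left _ (by positivity)]
    have hodd : Odd (orderOf (c ^ 2 ^ k)) := by rw [ho, Nat.odd_iff]; omega
    have hmem : c ^ 2 ^ k ∈ pCore 2 Q := centralizer_twoCore_le hO fun x hx =>
      (commute_cyclic (pCore 2 Q) hK hodd x hx).symm
    obtain ⟨j, hj⟩ := IsPGroup.iff_orderOf.1 hK ⟨_, hmem⟩
    rw [← Subgroup.orderOf_coe, Subgroup.coe_mk, ho] at hj
    have : j = 0 := by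
      by_contra hj0
      exact hm (hj ▸ dvd_pow_self 2 hj0)
    subst this
    exact ⟨k, by rw [hkm, hj, pow_zero, mul_one]⟩
  have htop : (⊤ : Subgroup Q) = P := P.3 (hQp.to_subgroup ⊤) le_top
  rw [← htop]
  infer_instance

end Cfsg.Agent.S3303
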