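import Cfsg.Agent.S1853
import Cfsg.Agent.H65.Invol
import Cfsg.Statements.S3309
-- import your own Cfsg.Agent.* helpers here

set_option autoImplicit false
open Cfsg

namespace Cfsg.Agent.S3309

/-- A finite group whose Sylow 2-subgroups are isomorphic to the direct product of a group of order 2 and the dihedral group of order 8 is not a non-abelian simple group. -/
theorem result {G : Type*} [Group G] [Finite G] (S : Sylow 2 G) (hS : Nonempty (↥(S : Subgroup G) ≃* Multiplicative (ZMod 2) × DihedralGroup 4))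
    [IsSimpleGroup G] (hG : ¬ IsMulCommutative G) : False := by
  classical
  obtain ⟨e⟩ := hS
  let φ : ↥(S : Subgroup G) →* Multiplicative (ZMod 2) := (MonoidHom.fst _ _).comp e.toMonoidHom
  haveI : IsCyclic (Multiplicative (ZMod 2)) := inferInstance
  have hhom : ∀ f : G →* Multiplicative (ZMod 2), f = 1 := by
    intro f
    rcases f.normal_ker.eq_bot_or_eq_top with h | h
    · exact absurd ⟨⟨fun a b => (MonoidHom.ker_eq_bot_iff f).1 h
        (by rw [map_mul, map_mul, mul_comm])⟩⟩ hG
    · ext a
      exact congrArg Multiplicative.toAdd (MonoidHom.mem_ker.1 (h ▸ Subgroup.mem_top a))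
  set c : ↥(S : Subgroup G) := e.symm (Multiplicative.ofAdd 1, 1) with hc
  have hcc : ∀ s, s * c = c * s := by
    intro s
    apply e.injective
    rw [map_mul, map_mul, hc, e.apply_symm_apply, Prod.ext_iff]
    exact ⟨mul_comm _ _, (mul_one _).trans (one_mul _).symm⟩
  have hφc : φ c ≠ 1 := by
    simp only [φ, hc, MonoidHom.comp_apply, MulEquiv.coe_toMonoidHom, e.apply_symm_apply,
      MonoidHom.coe_fst]
    decide
  have hc2 : orderOf (c : G) = 2 := by
    haveI : Fact (Nat.Prime 2) := ⟨Nat.prime_two⟩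
    rw [Subgroup.orderOf_coe, ← e.orderOf_eq, hc, e.apply_symm_apply]
    refine orderOf_eq_prime ?_ ?_ <;> decide +revert
  obtain ⟨g, hg, h, hgφ⟩ := Cfsg.Agent.S1853.exists_conj_mem S φ hhom (c : G) hc2 c.2 hφc
    (S : Subgroup G) S.isPGroup' c.2
    (fun s hs => Subgroup.mem_centralizer_singleton_iff.2 (congrArg Subtype.val (hcc ⟨s, hs⟩)))
  -- `g` normalises `S`
  let ψ : ↥(S : Subgroup G) → ↥(S : Subgroup G) := fun s => ⟨g⁻¹ * s * g, hg s s.2⟩
  have hψ : Function.Surjective ψ := Finite.injective_iff_surjective.1 fun a b hab =>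
    Subtype.ext (mul_left_cancel (mul_right_cancel (congrArg Subtype.val hab)))
  set v : ↥(S : Subgroup G) := ⟨g⁻¹ * (c : G) * g, h⟩ with hv
  have hvc : ∀ s, s * v = v * s := by
    intro s
    obtain ⟨t, rfl⟩ := hψ s
    refine Subtype.ext ?_
    have := congrArg Subtype.val (hcc t)
    simp only [Subgroup.coe_mul] at this
    simp only [ψ, hv, Subgroup.coe_mul]
    calc g⁻¹ * (t : G) * g * (g⁻¹ * (c : G) * g) = g⁻¹ * ((t : G) * c) * g := by group
      _ = g⁻¹ * ((c : G) * t) * g := by rw [this]
      _ = g⁻¹ * (c : G) * g * (g⁻¹ * (t : G) * g) := by group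
  have hkey : ∀ d : DihedralGroup 4, (∀ k, d * k = k * d) → ∃ s, d = s * s := by decide
  obtain ⟨s, hs⟩ := hkey (e v).2 (fun k => by
    have h1 := congrArg e (hvc (e.symm (1, k)))
    rw [map_mul, map_mul, e.apply_symm_apply] at h1
    exact (congrArg Prod.snd h1).symm)
  set w := e.symm ((1 : Multiplicative (ZMod 2)), s) with hw
  have hvw : v = w * w := by
    apply e.injective
    rw [map_mul, hw, e.apply_symm_apply]
    refine Prod.ext ?_ hs
    exact (show (e v).1 = 1 from hgφ).trans (mul_one (1 : Multiplicative (ZMod 2))).symm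
  obtain ⟨t, ht⟩ := hψ w
  have hcw : c = t * t := by
    refine Subtype.ext ?_
    have h1 := congrArg Subtype.val hvw
    rw [← ht] at h1
    simp only [hv, ψ, Subgroup.coe_mul] at h1 ⊢
    calc (c : G) = g * (g⁻¹ * (c : G) * g) * g⁻¹ := by group
      _ = (t : G) * t := by rw [h1]; group
  apply hφc
  rw [hcw, map_mul]
  generalize φ t = a
  revert a
  decide

end Cfsg.Agent.S3309
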