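import Cfsg.Statements.S3312
import Cfsg.Agent.H47.WeakCoset.Char

set_option autoImplicit false
open Cfsg

namespace Cfsg.Agent.S3312

/-- A non-simplicity criterion by weak closure. Let T be a Sylow 2-subgroup of a finite group G, W a nontrivial subgroup of the centre of T that is weakly closed in T with respect to G, and t an involution of T outside W. Suppose that for every involution x in the coset Wt, W lies in O_{2',2}(C_G(x)), the preimage of O₂ of C_G(x)/O_{2'}(C_G(x)). Then G is not simple. -/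
theorem result {G : Type*} [Group G] [Finite G]
    (T : Sylow 2 G) (W : Subgroup G) (hW1 : W ≠ ⊥) (hWZ : W ≤ (T : Subgroup G) ⊓ Subgroup.centralizer ((T : Subgroup G) : Set G))
    (hwc : Cfsg.IsWeaklyClosed W (T : Subgroup G)) (t : G) (ht : orderOf t = 2) (htT : t ∈ (T : Subgroup G)) (htW : t ∉ W)
    (hcos : ∀ w ∈ W, orderOf (w * t) = 2 →
      W.subgroupOf (Subgroup.centralizer ({w * t} : Set G)) ≤ Cfsg.pPrimePCore 2 ↥(Subgroup.centralizer ({w * t} : Set G))) :
    ¬ IsSimpleGroup G := by
  intro hs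
  haveI : Fact (Nat.Prime 2) := ⟨Nat.prime_two⟩
  cases nonempty_fintype G
  have D : H47.WeakCoset.WData T W := ⟨hWZ, hwc⟩
  haveI : Nontrivial ↥W := (Subgroup.nontrivial_iff_ne_bot _).2 hW1
  obtain ⟨k, hk⟩ := IsPGroup.iff_card.1 (T.isPGroup'.to_le (le_inf_iff.1 hWZ).1)
  have h1 : 1 < Nat.card ↥W := Finite.one_lt_card
  have h2 : 2 ∣ Nat.card ↥W := hk ▸ dvd_pow_self 2 (by rintro rfl; simp [hk] at h1)
  obtain ⟨u, hu⟩ := exists_prime_orderOf_dvd_card' (G := ↥W) 2 h2
  have htt := H26.mul_self_of_orderOf_two ht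
  have hX : ∀ a ∈ W, a * a = 1 → H47.WeakCoset.XData T W (a * t) := by
    intro a ha haa
    have hat : Commute a t := (H47.WeakCoset.comm D htT ha).symm
    have hsq : a * t * (a * t) = 1 := by
      rw [← sq, hat.mul_pow, sq, sq, haa, htt, one_mul]
    have hnot : a * t ∉ W := fun h => htW (by simpa using W.mul_mem (W.inv_mem ha) h)
    exact ⟨hsq, mul_mem (H47.WeakCoset.mem_T D ha) htT, hnot,
      hcos a ha (H26.orderOf_two_of_mul_self hsq fun h => hnot (h ▸ W.one_mem))⟩
  obtain ⟨N, hN, huN, hNt⟩ := H47.WeakCoset.exists_normal D htT hX u.2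
    (by rw [Subgroup.orderOf_coe, hu])
  rcases hs.eq_bot_or_eq_top_of_normal N hN with h | h
  · rw [h, Subgroup.mem_bot] at huN
    rw [show u = 1 from Subtype.ext huN, orderOf_one] at hu
    exact absurd hu (by norm_num)
  · exact hNt h

end Cfsg.Agent.S3312
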