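import Cfsg.Statements.S3335
import Cfsg.Agent.H66.Present
import Cfsg.Agent.H66.PermLift

set_option autoImplicit false
open Cfsg

namespace Cfsg.Agent.S3335

open Cfsg.Agent.H66
open scoped Pointwise

/-- Carmichael's generators inside the symmetric group on `k+3` letters. -/
def carX (k i : ℕ) : Equiv.Perm (Fin (k + 3)) := adjSwap (k + 2) 0 * adjSwap (k + 2) (i + 1)

theorem carX_even {k i : ℕ} (hi : i ≤ k) : carX k i ∈ alternatingGroup (Fin (k + 3)) := by
  rw [Equiv.Perm.mem_alternatingGroup, carX, map_mul, adjSwap_of_lt (by omega), adjSwap_of_lt (by omega),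
    Equiv.Perm.sign_swap (Fin.ne_of_val_ne (by simp)), Equiv.Perm.sign_swap (Fin.ne_of_val_ne (by simp))]
  rfl

theorem result (n : ℕ) (hn : 3 ≤ n) :
    Nonempty (PresentedGroup
      ({g : FreeGroup (Fin (n - 2)) | ∃ i : Fin (n - 2), i.val = 0 ∧ g = FreeGroup.of i ^ 3} ∪
       {g | ∃ i : Fin (n - 2), 1 ≤ i.val ∧ g = FreeGroup.of i ^ 2} ∪
       {g | ∃ i j : Fin (n - 2), j.val = i.val + 1 ∧ g = (FreeGroup.of i * FreeGroup.of j) ^ 3} ∪
       {g | ∃ i j : Fin (n - 2), i.val + 1 < j.val ∧ g = (FreeGroup.of i * FreeGroup.of j) ^ 2})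
      ≃* alternatingGroup (Fin n)) := by
  obtain ⟨k, rfl⟩ : ∃ k, n = k + 3 := ⟨n - 3, by omega⟩
  generalize hrels : ({g : FreeGroup (Fin (k + 3 - 2)) | ∃ i : Fin (k + 3 - 2), i.val = 0 ∧ g = FreeGroup.of i ^ 3} ∪
       {g | ∃ i : Fin (k + 3 - 2), 1 ≤ i.val ∧ g = FreeGroup.of i ^ 2} ∪
       {g | ∃ i j : Fin (k + 3 - 2), j.val = i.val + 1 ∧ g = (FreeGroup.of i * FreeGroup.of j) ^ 3} ∪
       {g | ∃ i j : Fin (k + 3 - 2), i.val + 1 < j.val ∧ g = (FreeGroup.of i * FreeGroup.of j) ^ 2}) = rels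
  let s := fun i => adjSwap (k + 2) i
  have hs : ∀ i, s i * s i = 1 := fun i => adjSwap_sq _ i
  have hcomm : ∀ i, 1 < i → i < k + 2 → s 0 * s i = s i * s 0 := fun i h1 hi => by
    have h := adjSwap_far (k := k + 2) (i := 0) h1 hi
    rw [pow_two] at h
    have := eq_inv_of_mul_eq_one_left h
    rwa [mul_inv_rev, inv_eq_of_mul_eq_one_right (hs i), inv_eq_of_mul_eq_one_right (hs 0)] at this
  have hsq : ∀ i, 1 ≤ i → i ≤ k → carX k i * carX k i = 1 := fun i h1 hi => by
    show s 0 * s (i + 1) * (s 0 * s (i + 1)) = 1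
    rw [mul_assoc (s 0), ← mul_assoc (s (i + 1)), ← hcomm (i + 1) (by omega) (by omega), mul_assoc (s 0), hs, mul_one, hs]
  let f : Fin (k + 3 - 2) → alternatingGroup (Fin (k + 3)) := fun i => ⟨carX k i, carX_even (by omega)⟩
  have hcube : carX k 0 ^ 3 = 1 := adjSwap_braid (i := 0) (by omega)
  have hbraid : ∀ i, i + 1 ≤ k → (carX k i * carX k (i + 1)) ^ 3 = 1 := fun i hi => by
    rcases Nat.eq_zero_or_pos i with rfl | hpos
    · show (s 0 * s 1 * (s 0 * s 2)) ^ 3 = 1
      show (adjSwap (k + 2) 0 * adjSwap (k + 2) 1 * (adjSwap (k + 2) 0 * adjSwap (k + 2) 2)) ^ 3 = 1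
      have e : adjSwap (k + 2) 0 * adjSwap (k + 2) 1 * (adjSwap (k + 2) 0 * adjSwap (k + 2) 2) =
          Equiv.swap (⟨2, by omega⟩ : Fin (k + 2 + 1)) ⟨0, by omega⟩ * Equiv.swap ⟨2, by omega⟩ ⟨3, by omega⟩ := by
        rw [← mul_assoc]
        congr 1
        · rw [adjSwap_of_lt (by omega : 0 < k + 2), adjSwap_of_lt (by omega : 1 < k + 2),
            Equiv.swap_comm (⟨0, by omega⟩ : Fin (k + 2 + 1)) ⟨0 + 1, by omega⟩,
            Equiv.swap_comm (⟨1, by omega⟩ : Fin (k + 2 + 1)) ⟨1 + 1, by omega⟩]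
          exact (Equiv.swap_mul_swap_mul_swap (Fin.ne_of_val_ne (by simp)) (Fin.ne_of_val_ne (by simp))).trans (Equiv.swap_comm _ _)
        · exact adjSwap_of_lt (by omega)
      rw [e]
      refine orderOf_dvd_iff_pow_eq_one.mp ?_
      rw [(Equiv.Perm.isThreeCycle_swap_mul_swap_same (Fin.ne_of_val_ne (by simp)) (Fin.ne_of_val_ne (by simp)) (Fin.ne_of_val_ne (by simp))).orderOf]
    · show (s 0 * s (i + 1) * (s 0 * s (i + 1 + 1))) ^ 3 = 1
      rw [hcomm (i + 1) (by omega) (by omega), ← mul_assoc, mul_assoc (s (i + 1)), hs, mul_one]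
      exact adjSwap_braid (by omega)
  have hfar : ∀ i j, i + 1 < j → j ≤ k → (carX k i * carX k j) ^ 2 = 1 := fun i j hij hj => by
    rcases Nat.eq_zero_or_pos i with rfl | hpos
    · show (s 0 * s 1 * (s 0 * s (j + 1))) ^ 2 = 1
      have c1 : s 1 * s (j + 1) = s (j + 1) * s 1 := by
        have h := adjSwap_far (k := k + 2) (i := 1) (j := j + 1) (by omega) (by omega)
        rw [pow_two] at h
        have := eq_inv_of_mul_eq_one_left h
        rwa [mul_inv_rev, inv_eq_of_mul_eq_one_right (hs (j + 1)), inv_eq_of_mul_eq_one_right (hs 1)] at this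
      have c0 := hcomm (j + 1) (by omega) (by omega)
      have c01 : Commute (s 0 * s 1 * s 0) (s (j + 1)) := (Commute.mul_left (Commute.mul_left c0 c1) c0)
      rw [← mul_assoc, pow_two, mul_assoc, ← mul_assoc (s (j + 1)), ← c01.eq, mul_assoc _ (s (j + 1)), hs,
        mul_one, ← mul_assoc, ← mul_assoc, mul_assoc (s 0 * s 1), hs, mul_one, mul_assoc (s 0), hs, mul_one, hs]
    · show (s 0 * s (i + 1) * (s 0 * s (j + 1))) ^ 2 = 1
      rw [hcomm (i + 1) (by omega) (by omega), ← mul_assoc, mul_assoc (s (i + 1)), hs, mul_one]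
      exact adjSwap_far (by omega) (by omega)
  have hf : ∀ r ∈ rels, FreeGroup.lift f r = 1 := by
    rw [← hrels]
    rintro r (((⟨i, hi, rfl⟩ | ⟨i, hi, rfl⟩) | ⟨i, j, hij, rfl⟩) | ⟨i, j, hij, rfl⟩) <;> apply Subtype.ext <;>
      simp only [map_pow, map_mul, FreeGroup.lift_apply_of, SubmonoidClass.coe_pow, Subgroup.coe_mul, OneMemClass.coe_one, f]
    · rw [hi]; exact hcube
    · rw [pow_two]; exact hsq i hi (by omega)
    · rw [hij]; exact hbraid i (by omega)
    · exact hfar i j hij (by omega)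
  let φ := PresentedGroup.toGroup hf
  let X : ℕ → PresentedGroup rels := fun i => if h : i < k + 1 then PresentedGroup.of ⟨i, by omega⟩ else 1
  have hX : ∀ (i : ℕ) (h : i < k + 1), X i = PresentedGroup.mk rels (FreeGroup.of ⟨i, by omega⟩) := fun i h => by
    simp only [X, dif_pos h]; rfl
  obtain ⟨hfin, hle⟩ := card_carmichael_le (k + 1) X
    (fun h => by
      rw [hX 0 h, ← map_pow]
      exact PresentedGroup.one_of_mem (hrels ▸ Or.inl (Or.inl (Or.inl ⟨⟨0, by omega⟩, rfl, rfl⟩))))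
    (fun i h1 h => by
      rw [hX i h, ← map_mul, ← pow_two]
      exact PresentedGroup.one_of_mem (hrels ▸ Or.inl (Or.inl (Or.inr ⟨⟨i, by omega⟩, h1, rfl⟩))))
    (fun i h => by
      rw [hX i (by omega), hX (i + 1) h, ← map_mul, ← map_pow]
      exact PresentedGroup.one_of_mem (hrels ▸ Or.inl (Or.inr ⟨⟨i, by omega⟩, ⟨i + 1, by omega⟩, rfl, rfl⟩)))
    (fun i j hij h => by
      rw [hX i (by omega), hX j h, ← map_mul, ← map_pow]
      exact PresentedGroup.one_of_mem (hrels ▸ Or.inr ⟨⟨i, by omega⟩, ⟨j, by omega⟩, hij, rfl⟩))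
    (by
      rw [← PresentedGroup.closure_range_of rels]
      congr 1
      ext g
      constructor
      · rintro ⟨i, hi, rfl⟩; exact ⟨⟨i, by simp at hi; omega⟩, (hX i hi).symm⟩
      · rintro ⟨i, rfl⟩; exact ⟨i.1, by rw [Set.mem_Iio]; omega, hX i.1 (by omega)⟩)
  -- the image
  let ψ : PresentedGroup rels →* Equiv.Perm (Fin (k + 3)) := (alternatingGroup (Fin (k + 3))).subtype.comp φ
  have hmem : ∀ i, i ≤ k → carX k i ∈ ψ.range := fun i hi =>
    ⟨PresentedGroup.of ⟨i, by omega⟩, by simp [ψ, φ, f]⟩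
  have htop : Subgroup.closure ({s 0} : Set (Equiv.Perm (Fin (k + 3)))) ⊔ ψ.range = ⊤ := by
    set W := Subgroup.closure ({s 0} : Set (Equiv.Perm (Fin (k + 3)))) ⊔ ψ.range
    have h0 : s 0 ∈ W := Subgroup.mem_sup_left (Subgroup.subset_closure rfl)
    rw [eq_top_iff, ← closure_adjSwap (k + 2), Subgroup.closure_le]
    rintro _ ⟨i, hi, rfl⟩
    rcases i with _ | i
    · exact h0
    · have := W.mul_mem h0 (Subgroup.mem_sup_right (hmem i (by simp at hi; omega)))
      rwa [carX, ← mul_assoc, hs, one_mul] at this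
  have hnorm : Subgroup.closure ({s 0} : Set (Equiv.Perm (Fin (k + 3)))) ≤ Subgroup.normalizer (ψ.range : Set _) := by
    rw [Subgroup.closure_le, Set.singleton_subset_iff, SetLike.mem_coe]
    have hconj : ∀ g ∈ ψ.range, s 0 * g * (s 0)⁻¹ ∈ ψ.range := by
      rintro _ ⟨p, rfl⟩
      have hp : p ∈ Subgroup.closure (Set.range (PresentedGroup.of : Fin (k + 3 - 2) → PresentedGroup rels)) := by
        rw [PresentedGroup.closure_range_of]; trivial
      induction hp using Subgroup.closure_induction with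
      | mem g hg =>
        obtain ⟨i, rfl⟩ := hg
        rw [show ψ (PresentedGroup.of i) = carX k i by simp [ψ, φ, f], inv_eq_of_mul_eq_one_right (hs 0)]
        show s 0 * (s 0 * s (i.1 + 1)) * s 0 ∈ _
        rw [← mul_assoc, hs, one_mul]
        rcases Nat.eq_zero_or_pos i.1 with h0 | hpos
        · rw [h0]
          have := ψ.range.inv_mem (hmem 0 (by omega))
          rwa [carX, mul_inv_rev, inv_eq_of_mul_eq_one_right (adjSwap_sq _ _), inv_eq_of_mul_eq_one_right (adjSwap_sq _ _)] at this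
        · rw [← hcomm (i.1 + 1) (by omega) (by omega)]
          exact hmem i.1 (by omega)
      | one => simp
      | mul a b _ _ ha hb => rw [map_mul, ← conj_mul]; exact ψ.range.mul_mem ha hb
      | inv a _ ha => rw [map_inv, ← conj_inv]; exact ψ.range.inv_mem ha
    rw [Subgroup.mem_normalizer_iff]
    intro g
    refine ⟨hconj g, fun hg => ?_⟩
    have := hconj _ hg
    rwa [inv_eq_of_mul_eq_one_right (hs 0), ← mul_assoc, ← mul_assoc, hs, one_mul, mul_assoc, hs, mul_one] at this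
  have hbig : (k + 3).factorial ≤ 2 * Nat.card ψ.range := by
    have h1 := Subgroup.coe_mul_of_left_le_normalizer_right _ ψ.range hnorm
    rw [htop, Subgroup.coe_top] at h1
    have h2 : (Nat.card (Equiv.Perm (Fin (k + 3)))) ≤ Nat.card (Subgroup.closure ({s 0} : Set (Equiv.Perm (Fin (k + 3))))) * Nat.card ψ.range := by
      rw [← Nat.card_prod]
      refine Nat.card_le_card_of_surjective (fun x => (x.1 : Equiv.Perm (Fin (k + 3))) * (x.2 : Equiv.Perm (Fin (k + 3)))) ?_
      intro g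
      obtain ⟨a, ha, b, hb, rfl⟩ := Set.mem_mul.mp (h1 ▸ Set.mem_univ g)
      exact ⟨(⟨a, ha⟩, ⟨b, hb⟩), rfl⟩
    rw [Nat.card_perm, Nat.card_fin, ← Subgroup.zpowers_eq_closure, Nat.card_zpowers] at h2
    refine h2.trans (Nat.mul_le_mul_right _ (Nat.le_of_dvd (by norm_num) (orderOf_dvd_of_pow_eq_one (by rw [pow_two, hs]))))
  have hAlt : 2 * Nat.card (alternatingGroup (Fin (k + 3))) = (k + 3).factorial := by
    rw [two_mul_nat_card_alternatingGroup, Nat.card_perm, Nat.card_fin]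
  have hψ : Nat.card ψ.range = Nat.card φ.range := by
    rw [MonoidHom.range_eq_map, ← Subgroup.map_map, Subgroup.card_map_of_injective Subtype.val_injective, ← MonoidHom.range_eq_map]
  have hrangele := φ.range.card_le_card_group
  have hsur : Function.Surjective φ := by
    rw [← MonoidHom.range_eq_top, ← Subgroup.card_eq_iff_eq_top]
    omega
  have hPle : Nat.card (PresentedGroup rels) ≤ Nat.card (alternatingGroup (Fin (k + 3))) := by
    have : 2 * Nat.card (PresentedGroup rels) ≤ (k + 3).factorial := hle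
    omega
  exact ⟨MulEquiv.ofBijective φ ((Nat.bijective_iff_surjective_and_card φ).mpr
    ⟨hsur, le_antisymm hPle (Nat.card_le_card_of_surjective φ hsur)⟩)⟩

end Cfsg.Agent.S3335
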