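import Cfsg.Statements.S3349

set_option autoImplicit false
open Cfsg

namespace Cfsg.Agent.S3349

theorem result {Q : Type*} [Group Q] [Finite Q]
    (p : ℕ) [Fact p.Prime] (hQ : Cfsg.IsExtraspecial p Q) (α : MulAut Q)
    (A : Subgroup Q) (hA : IsMulCommutative A) (hmax : ∀ B : Subgroup Q, A ≤ B → IsMulCommutative B → B = A)
    (hfix : ∀ a ∈ A, α a = a) :
    ∃ k : ℕ, orderOf α = p ^ k := by
  obtain ⟨⟨hp, -, hcom⟩, -⟩ := hQ
  have comm : ∀ a ∈ A, ∀ b ∈ A, a * b = b * a := fun a ha b hb =>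
    congrArg Subtype.val (hA.is_comm.comm (⟨a, ha⟩ : A) ⟨b, hb⟩)
  -- elements centralizing A lie in A
  have selfC : ∀ x : Q, (∀ a ∈ A, a * x = x * a) → x ∈ A := by
    intro x hx
    have hc : ∀ u ∈ insert x (A : Set Q), ∀ v ∈ insert x (A : Set Q), u * v = v * u := by
      rintro u (rfl | hu) v (rfl | hv)
      · rfl
      · exact (hx v hv).symm
      · exact hx u hu
      · exact comm u hu v hv
    have := hmax (Subgroup.closure (insert x (A : Set Q)))
      (fun a ha => Subgroup.subset_closure (Or.inr ha))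
      (Subgroup.isMulCommutative_closure hc)
    rw [← this]
    exact Subgroup.subset_closure (Or.inl rfl)
  have hZ : Subgroup.center Q ≤ A := fun z hz => selfC z fun a _ => (Subgroup.mem_center_iff.mp hz a)
  -- A is normal
  have hnorm : ∀ x : Q, ∀ a ∈ A, x * a * x⁻¹ ∈ A := by
    intro x a ha
    have h1 : x * a * x⁻¹ * a⁻¹ ∈ A := by
      apply hZ
      rw [← hcom]
      exact Subgroup.commutator_mem_commutator (Subgroup.mem_top x) (Subgroup.mem_top a)
    simpa using A.mul_mem h1 ha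
  have hd : ∀ x : Q, x⁻¹ * α x ∈ A := by
    intro x
    apply selfC
    intro a ha
    have h := hfix _ (hnorm x a ha)
    simp only [map_mul, map_inv, hfix a ha] at h
    have h2 : α x * a = x * a * x⁻¹ * α x := by rw [← h]; group
    calc a * (x⁻¹ * α x) = x⁻¹ * (x * a * x⁻¹ * α x) := by group
      _ = x⁻¹ * (α x * a) := by rw [h2]
      _ = x⁻¹ * α x * a := by group
  have hpow : ∀ (n : ℕ) (x : Q), (α ^ n) x = x * (x⁻¹ * α x) ^ n := by
    intro n
    induction n with
    | zero => intro x; simp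
    | succ n ih =>
      intro x
      rw [pow_succ', MulAut.mul_apply, ih, map_mul, map_pow, hfix _ (hd x), pow_succ', ← mul_assoc x]
      group
  obtain ⟨e, he⟩ := IsPGroup.iff_card.mp hp
  have h1 : α ^ (p ^ e) = 1 := by
    ext x
    rw [hpow, ← he, pow_card_eq_one', mul_one]
    rfl
  obtain ⟨k, -, hk⟩ := (Nat.dvd_prime_pow (Fact.out : p.Prime)).mp (orderOf_dvd_of_pow_eq_one h1)
  exact ⟨k, hk⟩

end Cfsg.Agent.S3349
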