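import Cfsg.Statements.S3356
import Cfsg.Agent.H66.HalfTransitive

set_option autoImplicit false
open Cfsg

namespace Cfsg.Agent.S3356

open Cfsg.Agent.H66

theorem result {G Ω : Type*} [Group G] [Finite G]
    [MulAction G Ω] [FaithfulSMul G Ω] [Finite Ω] (htrans : MulAction.IsPretransitive G Ω)
    (hne : ∀ a : Ω, MulAction.stabilizer G a ≠ ⊥)
    (hhalf : ∀ a b c : Ω, b ≠ a → c ≠ a →
      Nat.card (MulAction.orbit (MulAction.stabilizer G a) b) = Nat.card (MulAction.orbit (MulAction.stabilizer G a) c))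
    (N : Subgroup G) [hN : N.Normal] (hNt : MulAction.IsPretransitive N Ω) (hNr : ∀ a : Ω, MulAction.stabilizer N a = ⊥)
    (hnotF : ∃ a b : Ω, a ≠ b ∧ MulAction.stabilizer G a ⊓ MulAction.stabilizer G b ≠ ⊥) :
    (∃ p : ℕ, p.Prime ∧ IsMulCommutative N ∧ ∀ x ∈ N, x ^ p = 1) ∧
    (∀ M : Subgroup G, M.Normal → M ≠ ⊥ → N ≤ M) := by
  classical
  obtain ⟨a, b, hab, hK⟩ := hnotF
  set H := MulAction.stabilizer G a with hH
  have hreg : ∀ m ∈ N, m • a = a → m = 1 := fun m hm e => by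
    have : (⟨m, hm⟩ : N) ∈ MulAction.stabilizer N a := e
    rw [hNr a] at this
    exact congrArg Subtype.val (Subgroup.mem_bot.mp this)
  have hinj : ∀ m ∈ N, ∀ n ∈ N, m • a = n • a → m = n := fun m hm n hn e => by
    have := hreg (n⁻¹ * m) (N.mul_mem (N.inv_mem hn) hm) (by rw [mul_smul, e, inv_smul_smul])
    exact (inv_mul_eq_one.mp this).symm
  have hsurj : ∀ c : Ω, ∃ n ∈ N, n • a = c := fun c => by
    obtain ⟨n, hn⟩ := hNt.exists_smul_eq a c
    exact ⟨n, n.2, hn⟩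
  have hNorm : ∀ h ∈ H, ∀ x ∈ N, h * x * h⁻¹ ∈ N := fun h _ x hx => hN.conj_mem x hx h
  have hact : ∀ h ∈ H, ∀ x : G, h • (x • a) = (h * x * h⁻¹) • a := fun h hh x => by
    rw [mul_smul, mul_smul, show h⁻¹ • a = a from inv_smul_eq_iff.mpr (show h • a = a from hh).symm]
  have hfix : ∀ x ∈ N, ∀ h ∈ H, (h • (x • a) = x • a ↔ h * x * h⁻¹ = x) := fun x hx h hh => by
    rw [hact h hh]
    exact ⟨fun e => hinj _ (hNorm h hh x hx) _ hx e, fun e => by rw [e]⟩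
  have hfaith : ∀ h ∈ H, (∀ x ∈ N, h * x * h⁻¹ = x) → h = 1 := fun h hh hall => by
    refine eq_of_smul_eq_smul (α := Ω) fun c => ?_
    obtain ⟨x, hx, rfl⟩ := hsurj c
    rw [(hfix x hx h hh).mpr (hall x hx), one_smul]
  have horb : ∀ x ∈ N, (Subgroup.centralizer {x}).relIndex H = Nat.card (MulAction.orbit H (x • a)) := fun x hx => by
    rw [Nat.card_coe_set_eq, ← MulAction.index_stabilizer]
    refine congrArg Subgroup.index ?_
    ext h
    rw [MulAction.mem_stabilizer_iff, Subgroup.mem_subgroupOf, Subgroup.mem_centralizer_singleton_iff,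
      ← mul_inv_eq_iff_eq_mul]
    exact ((hfix x hx h h.2)).symm
  obtain ⟨nb, hnb, rfl⟩ := hsurj b
  have hnb1 : nb ≠ 1 := fun e => hab (by rw [e, one_smul])
  set s := Nat.card (MulAction.orbit H (nb • a))
  have hs : ∀ x ∈ N, x ≠ 1 → (Subgroup.centralizer {x}).relIndex H = s := fun x hx hx1 => by
    rw [horb x hx]
    exact hhalf a _ _ (fun e => hx1 (hreg x hx e)) (fun e => hnb1 (hreg nb hnb e))
  have hcop : Nat.Coprime s (Nat.card N) := by
    have hd : s ∣ Nat.card ((N : Set G) \ {1} : Set G) :=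
      relIndex_dvd_card H ((N : Set G) \ {1} : Set G) (fun h hh y hy => (⟨hNorm h hh y hy.1, fun e => hy.2 (by
        simpa [conj_eq_one_iff] using e)⟩ : _ ∧ _)) s (fun y hy => hs y hy.1 hy.2)
    rw [Nat.card_coe_set_eq, Set.ncard_sdiff_singleton_of_mem N.one_mem, ← Nat.card_coe_set_eq] at hd
    have hd' : s ∣ Nat.card N - 1 := hd
    have hpos : 0 < Nat.card N := Nat.card_pos
    refine Nat.Coprime.coprime_dvd_left hd' ?_
    have e : Nat.card N = Nat.card N - 1 + 1 := by omega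
    rw [e, Nat.add_sub_cancel]
    simp
  have hne' : ∃ x ∈ N, x ≠ 1 ∧ fixer H x ≠ ⊥ := by
    refine ⟨nb, hnb, hnb1, fun e => hK ((Subgroup.eq_bot_iff_forall _).mpr fun h hh => ?_)⟩
    have : h ∈ fixer H nb := mem_fixer.mpr ⟨hh.1, (hfix nb hnb h hh.1).mp hh.2⟩
    rw [e] at this
    exact Subgroup.mem_bot.mp this
  obtain ⟨p, hp, hcomm, hexp⟩ := elementary_of_halfTransitive hNorm hs hcop hne' hfaith
  refine ⟨⟨p, hp, ⟨⟨fun x y => Subtype.ext (hcomm x x.2 y y.2)⟩⟩, hexp⟩, fun M hM hM1 => ?_⟩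
  rcases invariant_eq_bot_or_eq hNorm hs hcop hne' hfaith (M ⊓ N) inf_le_right
    (fun h hh w hw => ⟨hM.conj_mem w hw.1 h, hNorm h hh w hw.2⟩) with e | e
  swap
  · exact inf_eq_right.mp e
  exfalso
  refine hM1 ((Subgroup.eq_bot_iff_forall _).mpr fun c hc => ?_)
  have hcN : ∀ x ∈ N, c * x = x * c := fun x hx => by
    have : c * x * c⁻¹ * x⁻¹ ∈ M ⊓ N := ⟨by
      rw [show c * x * c⁻¹ * x⁻¹ = c * (x * c⁻¹ * x⁻¹) by group]
      exact M.mul_mem hc (hM.conj_mem c⁻¹ (M.inv_mem hc) x), N.mul_mem (hN.conj_mem x hx c) (N.inv_mem hx)⟩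
    rw [e, Subgroup.mem_bot, mul_inv_eq_one, mul_inv_eq_iff_eq_mul] at this
    exact this
  obtain ⟨n, hn, hna⟩ := hsurj (c • a)
  have hh : n⁻¹ * c ∈ H := by
    show (n⁻¹ * c) • a = a
    rw [mul_smul, ← hna, inv_smul_smul]
  have h1 : n⁻¹ * c = 1 := hfaith _ hh fun x hx => by
    rw [mul_inv_eq_iff_eq_mul, mul_assoc, hcN x hx, ← mul_assoc, ← mul_assoc, hcomm n⁻¹ (N.inv_mem hn) x hx]
  have hcN' : c ∈ M ⊓ N := ⟨hc, by rw [← inv_mul_eq_one.mp h1]; exact hn⟩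
  rwa [e, Subgroup.mem_bot] at hcN'

end Cfsg.Agent.S3356
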