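import Cfsg.Statements.S3358
import Cfsg.Agent.H78.Zass.CoreQuotient
import Cfsg.Agent.H78.Zass.Meta

set_option autoImplicit false
open Cfsg

namespace Cfsg.Agent.S3358

/-- Structure of solvable Frobenius complements. Let G be a finite solvable group that occurs as a Frobenius complement. Then G has a normal subgroup G₀ such that G/G₀ is isomorphic to a subgroup of Sym(4) (G₀ is the kernel of a homomorphism to Sym(4)), all Sylow subgroups of G₀ are cyclic, and G₀ has a presentation ⟨x, y | x^n = 1, y^m = 1, x⁻¹ y x = y^r⟩ with n, m ≥ 1, gcd(r − 1, m) = gcd(n, m) = 1 and r^(n/n′) ≡ 1 (mod m), where n′ is the product of the distinct primes dividing n. -/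
theorem result {G : Type*} [Group G] [Finite G] (hsol : Group.IsSolvable G)
    (hFC : ∃ (L : Type) (_ : Group L) (_ : Finite L) (H : Subgroup L), Cfsg.IsFrobeniusComplement H ∧ Nonempty (G ≃* H)) :
    ∃ G₀ : Subgroup G, G₀.Normal ∧
      (∃ f : G →* Equiv.Perm (Fin 4), f.ker = G₀) ∧
      (∀ (p : ℕ) [Fact p.Prime] (P : Sylow p G₀), IsCyclic P) ∧
      ∃ n m r : ℕ, 0 < n ∧ 0 < m ∧ Nat.Coprime (r - 1) m ∧ Nat.Coprime n m ∧ 1 ≤ r ∧
        r ^ (n / ∏ p ∈ n.primeFactors, p) % m = 1 % m ∧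
        Nonempty (G₀ ≃* PresentedGroup
          ({FreeGroup.of (0 : Fin 2) ^ n, FreeGroup.of (1 : Fin 2) ^ m,
            (FreeGroup.of (0 : Fin 2))⁻¹ * FreeGroup.of 1 * FreeGroup.of 0 * (FreeGroup.of (1 : Fin 2) ^ r)⁻¹} :
            Set (FreeGroup (Fin 2)))) := by
  obtain ⟨L, _, _, H, hH, ⟨e⟩⟩ := hFC
  have hG := Cfsg.Agent.H78.Zass.pqGroup_of_complement hH e.toMonoidHom e.injective
  obtain ⟨N, hN, hNz, hker⟩ : ∃ N : Subgroup G, N.Normal ∧ IsZGroup N ∧
      ∃ f : G →* Equiv.Perm (Fin 4), f.ker = N := by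
    by_cases hz : IsZGroup G
    · haveI := hz
      exact ⟨⊤, inferInstance, inferInstance, 1, MonoidHom.ker_one⟩
    · haveI := hsol
      obtain ⟨N, hN, hNz, ⟨f, hf, hfk⟩ | ⟨f, hf, -⟩⟩ := Cfsg.Agent.H78.Zass.exists_zQuotient hG hz
      · have hc : Nat.card (DihedralGroup 2) = 4 := by rw [Nat.card_eq_fintype_card, DihedralGroup.card]
        obtain ⟨σ⟩ : Nonempty (DihedralGroup 2 ≃ Fin 4) :=
          ⟨(Nat.equivFinOfCardPos (by rw [hc]; norm_num)).trans (finCongr hc)⟩
        refine ⟨N, hN, hNz, ((σ.permCongrHom).toMonoidHom.comp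
          (MulAction.toPermHom (DihedralGroup 2) (DihedralGroup 2))).comp f, ?_⟩
        rw [← MonoidHom.comap_ker]
        have hinj : ((σ.permCongrHom).toMonoidHom.comp
            (MulAction.toPermHom (DihedralGroup 2) (DihedralGroup 2))).ker = ⊥ :=
          (MonoidHom.ker_eq_bot_iff _).2 (σ.permCongrHom.injective.comp MulAction.toPerm_injective)
        rw [hinj, MonoidHom.comap_bot, hfk]
      · exact ⟨N, hN, hNz, f, hf⟩
  haveI := hNz
  exact ⟨N, hN, hker, fun p _ P => inferInstance, (hG.subgroup N).exists_presentation⟩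

end Cfsg.Agent.S3358
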