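import Cfsg.Statements.S3359
import Cfsg.Agent.H78.Zass.Nonsolvable

set_option autoImplicit false
open Cfsg

namespace Cfsg.Agent.S3359

/-- Structure of non-solvable Frobenius complements. Let G be a finite non-solvable group that occurs as a Frobenius complement. Then G has a normal subgroup G₀ of index 1 or 2 which is the direct product of a subgroup isomorphic to SL(2,5) and a subgroup M of order prime to 30 all of whose Sylow subgroups are cyclic. -/
theorem result {G : Type*} [Group G] [Finite G] (hns : ¬ Group.IsSolvable G)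
    (hFC : ∃ (L : Type) (_ : Group L) (_ : Finite L) (H : Subgroup L), Cfsg.IsFrobeniusComplement H ∧ Nonempty (G ≃* H)) :
    ∃ G₀ : Subgroup G, G₀.Normal ∧ (G₀.index = 1 ∨ G₀.index = 2) ∧
      ∃ S M : Subgroup G, S ⊔ M = G₀ ∧ S ⊓ M = ⊥ ∧ (∀ s ∈ S, ∀ x ∈ M, s * x = x * s) ∧
        Nonempty (S ≃* Matrix.SpecialLinearGroup (Fin 2) (ZMod 5)) ∧
        (∀ (p : ℕ) [Fact p.Prime] (P : Sylow p M), IsCyclic P) ∧ (Nat.card M).Coprime 30 := by
  obtain ⟨L, _, _, H, hH, ⟨e⟩⟩ := hFC
  obtain ⟨S, D⟩ := Cfsg.Agent.H78.Zass.exists_slNormal hns hH e.toMonoidHom e.injective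
  haveI := D.normal
  obtain ⟨M, hMn, hMC, hM30, hSM, hCle, hCZ⟩ := D.exists_M
  obtain ⟨f, hker, hmap, hA⟩ := D.exists_perm
  have h2 : (S.map f).index = 2 := by
    have := (S.map f).card_mul_index
    rw [hmap, Nat.card_eq_fintype_card, Fintype.card_perm, Fintype.card_fin,
      show Nat.factorial 5 = 120 by decide] at this
    omega
  have hG₀ : (S.map f).comap f = S ⊔ M := by
    rw [Subgroup.comap_map_eq, hker]
    exact le_antisymm (sup_le le_sup_left hCle) (sup_le_sup_left hMC _)
  refine ⟨S ⊔ M, inferInstance, ?_, S, M, rfl, hSM, ?_, D.iso, ?_, hM30⟩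
  · rw [← hG₀, Subgroup.index_comap]
    refine (Nat.dvd_prime Nat.prime_two).1 ?_
    rw [← h2, ← Subgroup.relIndex_mul_index (Subgroup.map_le_range f S)]
    exact dvd_mul_right _ _
  · exact fun s hs x hx => Subgroup.mem_centralizer_iff.1 (hMC hx) s hs
  · intro p _ P
    haveI : IsZGroup M := IsZGroup.of_injective (Subgroup.inclusion_injective hMC)
    exact inferInstance

end Cfsg.Agent.S3359
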