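import Cfsg.Statements.S3362
import Cfsg.Agent.Compute.PermRep

set_option autoImplicit false
open Cfsg

namespace Cfsg.Agent.S3362

open Cfsg.Agent.Compute

/-- Level 0. -/
def lvl0 : Level ℕ :=
  { base := 2,
    gens := [(171139535290896, 186605193351696), (92615224025616, 148868997747216), (183942805598736, 153208536773136), (80841396400656, 95285065495056), (164327252963856, 110731096240656), (167926364897811, 167926364897811), (148896472117761, 148896472117761), (114875801284896, 114875801284896)],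
    orb := [⟨2, 205163983024656, 205163983024656, 0, 0⟩, ⟨1, 114875801284896, 114875801284896, 7, 0⟩, ⟨0, 171143312191521, 186601419583746, 6, 1⟩, ⟨3, 203987229082401, 200838984507651, 5, 2⟩, ⟨4, 169769507816481, 117336514384131, 0, 3⟩, ⟨6, 92056794367521, 166598605709571, 1, 3⟩, ⟨5, 188533650425121, 188465700749571, 0, 4⟩, ⟨7, 57839073101601, 132577678242051, 1, 4⟩, ⟨10, 129425772907041, 160961292357891, 4, 4⟩, ⟨9, 147692243781921, 92545448640771, 1, 5⟩, ⟨11, 144686077840161, 42449384087811, 4, 5⟩, ⟨8, 76603215710241, 151124139794691, 1, 6⟩] }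

/-- Level 1. -/
def lvl1 : Level ℕ :=
  { base := 1,
    gens := [(171139535290896, 186605193351696), (92615224025616, 148868997747216), (183942805598736, 153208536773136), (80841396400656, 95285065495056), (164327252963856, 110731096240656), (167926364897811, 167926364897811), (148896472117761, 148896472117761)],
    orb := [⟨1, 205163983024656, 205163983024656, 0, 0⟩, ⟨0, 148896472117761, 148896472117761, 6, 0⟩, ⟨3, 183040958792241, 118230153957891, 5, 1⟩, ⟨4, 201805098451521, 202763917152771, 0, 2⟩, ⟨6, 80967474020961, 133750674129411, 1, 2⟩, ⟨5, 167587380134481, 148135453475331, 0, 3⟩, ⟨7, 99731613680241, 169823371289091, 1, 3⟩, ⟨10, 165226170811041, 125019695436291, 4, 3⟩, ⟨9, 126745973490321, 92456560992771, 1, 4⟩, ⟨11, 183977478849201, 30196381352451, 4, 4⟩, ⟨8, 65513895363201, 184242630210051, 1, 5⟩] }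

/-- Level 2. -/
def lvl2 : Level ℕ :=
  { base := 0,
    gens := [(171139535290896, 186605193351696), (92615224025616, 148868997747216), (183942805598736, 153208536773136), (80841396400656, 95285065495056), (164327252963856, 110731096240656), (167926364897811, 167926364897811)],
    orb := [⟨0, 205163983024656, 205163983024656, 0, 0⟩, ⟨3, 167926364897811, 167926364897811, 5, 0⟩, ⟨4, 183186666881556, 153478412390931, 0, 1⟩, ⟨6, 65234555830806, 183022525133331, 1, 1⟩, ⟨5, 201938729894421, 203992257085971, 0, 2⟩, ⟨7, 80494857814551, 113954165330451, 1, 2⟩, ⟨10, 100576930562586, 176491341435411, 4, 2⟩, ⟨9, 111631379595801, 92399974380051, 1, 3⟩, ⟨11, 63266835792411, 9523895317011, 4, 3⟩, ⟨8, 99246920827416, 134554156892691, 1, 4⟩] }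

/-- Level 3. -/
def lvl3 : Level ℕ :=
  { base := 3,
    gens := [(171139535290896, 186605193351696), (92615224025616, 148868997747216), (183942805598736, 153208536773136), (80841396400656, 95285065495056), (164327252963856, 110731096240656)],
    orb := [⟨3, 205163983024656, 205163983024656, 0, 0⟩, ⟨4, 171139535290896, 186605193351696, 0, 0⟩, ⟨6, 92615224025616, 148868997747216, 1, 0⟩, ⟨5, 186605193351696, 171139535290896, 0, 1⟩, ⟨7, 58590776291856, 130310208074256, 1, 1⟩, ⟨10, 133432927101456, 144743461245456, 4, 1⟩, ⟨9, 148868997747216, 92615224025616, 1, 2⟩, ⟨11, 151978882019856, 64370360291856, 4, 2⟩, ⟨8, 74056434352656, 114844550013456, 1, 3⟩] }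

/-- Level 4. -/
def lvl4 : Level ℕ :=
  { base := 4,
    gens := [(183942805598736, 153208536773136), (80841396400656, 95285065495056), (164327252963856, 110731096240656)],
    orb := [⟨4, 205163983024656, 205163983024656, 0, 0⟩, ⟨6, 183942805598736, 153208536773136, 0, 0⟩, ⟨7, 80841396400656, 95285065495056, 1, 0⟩, ⟨10, 164327252963856, 110731096240656, 2, 0⟩, ⟨5, 132399770186256, 132399770186256, 0, 1⟩, ⟨11, 95285065495056, 80841396400656, 2, 1⟩, ⟨8, 110731096240656, 164327252963856, 0, 2⟩, ⟨9, 153208536773136, 183942805598736, 1, 3⟩] }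

theorem chain_ok : checkChain (permOps 4 12) [lvl0, lvl1, lvl2, lvl3, lvl4] = true := by decide +kernel

/-- The interpretation of the codes. -/
noncomputable def S : Sound (G := Equiv.Perm (Fin 12)) (permOps 4 12) := permSound 4 12 (by norm_num)

theorem den_eq {a : ℕ} (ha : PermOK 4 12 a) (σ : Equiv.Perm (Fin 12))
    (h : ∀ i : Fin 12, (σ i : ℕ) = getP 4 a i) : S.den a = σ :=
  Equiv.ext fun i => Fin.ext ((permDen_apply ha i).trans (h i).symm)

theorem chain1_ok : checkChain (permOps 4 12) [lvl1, lvl2, lvl3, lvl4] = true := checkChain_tail chain_ok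
theorem chain2_ok : checkChain (permOps 4 12) [lvl2, lvl3, lvl4] = true := checkChain_tail chain1_ok
theorem chain3_ok : checkChain (permOps 4 12) [lvl3, lvl4] = true := checkChain_tail chain2_ok
theorem chain4_ok : checkChain (permOps 4 12) [lvl4] = true := checkChain_tail chain3_ok

theorem move {l : Level ℕ} {ls : List (Level ℕ)} (h : checkChain (permOps 4 12) (l :: ls) = true)
    (hb : l.base < 12) (p : Fin 12) (hp : p.val ∈ l.orb.map Entry.pt) :
    ∃ g ∈ S.grp (l :: ls), g p = (⟨l.base, hb⟩ : Fin 12) := by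
  obtain ⟨g, hg, e⟩ := (orbit_iff S h p).mpr hp
  refine ⟨g⁻¹, Subgroup.inv_mem _ hg, ?_⟩
  have e' : g ⟨l.base, hb⟩ = p := Fin.ext (by
    have e2 : permAct 12 g l.base = p.val := e
    simpa [permAct, hb] using e2)
  rw [← e']; simp

theorem fix_base {l : Level ℕ} {ls : List (Level ℕ)} (h : checkChain (permOps 4 12) (l :: ls) = true)
    (hb : l.base < 12) {g : Equiv.Perm (Fin 12)} (hg : g ∈ S.grp ls) :
    g ∈ S.grp (l :: ls) ∧ g ⟨l.base, hb⟩ = ⟨l.base, hb⟩ := by
  obtain ⟨h1, h2⟩ := (mem_tail_iff S h g).mp hg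
  refine ⟨h1, Fin.ext ?_⟩
  have e2 : permAct 12 g l.base = l.base := h2
  simpa [permAct, hb] using e2

theorem orb0 : ∀ p : Fin 12, p.val ∈ lvl0.orb.map Entry.pt := by decide +kernel
theorem orb1 : ∀ p : Fin 12, p ≠ 2 → p.val ∈ lvl1.orb.map Entry.pt := by decide +kernel
theorem orb2 : ∀ p : Fin 12, p ≠ 2 → p ≠ 1 → p.val ∈ lvl2.orb.map Entry.pt := by decide +kernel
theorem orb3 : ∀ p : Fin 12, p ≠ 2 → p ≠ 1 → p ≠ 0 → p.val ∈ lvl3.orb.map Entry.pt := by decide +kernel
theorem orb4 : ∀ p : Fin 12, p ≠ 2 → p ≠ 1 → p ≠ 0 → p ≠ 3 → p.val ∈ lvl4.orb.map Entry.pt := by decide +kernel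

theorem codes_valid : validPerm 4 12 171139535290896 = true ∧ validPerm 4 12 92615224025616 = true ∧ validPerm 4 12 183942805598736 = true ∧
    validPerm 4 12 80841396400656 = true ∧ validPerm 4 12 164327252963856 = true ∧ validPerm 4 12 167926364897811 = true ∧
    validPerm 4 12 148896472117761 = true ∧ validPerm 4 12 114875801284896 = true := by decide +kernel

theorem grp0_eq (s t u v w x₁ x₂ x₃ : Equiv.Perm (Fin 12))
    (hs : ∀ i : Fin 12, (s i : ℕ) = getP 4 171139535290896 i) (ht : ∀ i : Fin 12, (t i : ℕ) = getP 4 92615224025616 i)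
    (hu : ∀ i : Fin 12, (u i : ℕ) = getP 4 183942805598736 i) (hv : ∀ i : Fin 12, (v i : ℕ) = getP 4 80841396400656 i)
    (hw : ∀ i : Fin 12, (w i : ℕ) = getP 4 164327252963856 i) (h1 : ∀ i : Fin 12, (x₁ i : ℕ) = getP 4 167926364897811 i)
    (h2 : ∀ i : Fin 12, (x₂ i : ℕ) = getP 4 148896472117761 i) (h3 : ∀ i : Fin 12, (x₃ i : ℕ) = getP 4 114875801284896 i) :
    S.grp [lvl0, lvl1, lvl2, lvl3, lvl4] = Subgroup.closure {s, t, u, v, w, x₁, x₂, x₃} ∧
    S.grp [lvl1, lvl2, lvl3, lvl4] = Subgroup.closure {s, t, u, v, w, x₁, x₂} := by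
  have g0 := (checkChain_sound S chain_ok).gens_ok
  have hd : ∀ a ∈ lvl0.gens, S.ok a.1 := g0
  have d1 := den_eq (hd (171139535290896, _) (List.mem_cons_self ..)) s hs
  have d2 := den_eq (hd (92615224025616, _) (by simp only [lvl0, List.mem_cons]; tauto)) t ht
  have d3 := den_eq (hd (183942805598736, _) (by simp only [lvl0, List.mem_cons]; tauto)) u hu
  have d4 := den_eq (hd (80841396400656, _) (by simp only [lvl0, List.mem_cons]; tauto)) v hv
  have d5 := den_eq (hd (164327252963856, _) (by simp only [lvl0, List.mem_cons]; tauto)) w hw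
  have d6 := den_eq (hd (167926364897811, _) (by simp only [lvl0, List.mem_cons]; tauto)) x₁ h1
  have d7 := den_eq (hd (148896472117761, _) (by simp only [lvl0, List.mem_cons]; tauto)) x₂ h2
  have d8 := den_eq (hd (114875801284896, _) (by simp only [lvl0, List.mem_cons]; tauto)) x₃ h3
  refine ⟨congrArg Subgroup.closure ?_, congrArg Subgroup.closure ?_⟩
  · have e : {a | ∃ g ∈ nextGens [lvl0, lvl1, lvl2, lvl3, lvl4], g.1 = a} =
        ({171139535290896, 92615224025616, 183942805598736, 80841396400656, 164327252963856, 167926364897811, 148896472117761, 114875801284896} : Set ℕ) := by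
      ext a; simp [nextGens, lvl0, eq_comm]
    rw [e]
    simp [Set.image_insert_eq, d1, d2, d3, d4, d5, d6, d7, d8]
  · have e : {a | ∃ g ∈ nextGens [lvl1, lvl2, lvl3, lvl4], g.1 = a} =
        ({171139535290896, 92615224025616, 183942805598736, 80841396400656, 164327252963856, 167926364897811, 148896472117761} : Set ℕ) := by
      ext a; simp [nextGens, lvl1, eq_comm]
    rw [e]
    simp [Set.image_insert_eq, d1, d2, d3, d4, d5, d6, d7]

theorem result
    (s t u v w x₁ x₂ x₃ : Equiv.Perm (Fin 12))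
    (hs : s = Equiv.swap (3 : Fin 12) 5 * Equiv.swap (3 : Fin 12) 4 * Equiv.swap (6 : Fin 12) 8 * Equiv.swap (6 : Fin 12) 7 * Equiv.swap (9 : Fin 12) 11 * Equiv.swap (9 : Fin 12) 10) (ht : t = Equiv.swap (3 : Fin 12) 9 * Equiv.swap (3 : Fin 12) 6 * Equiv.swap (4 : Fin 12) 10 * Equiv.swap (4 : Fin 12) 7 * Equiv.swap (5 : Fin 12) 11 * Equiv.swap (5 : Fin 12) 8)
    (hu : u = Equiv.swap (4 : Fin 12) 9 * Equiv.swap (4 : Fin 12) 5 * Equiv.swap (4 : Fin 12) 6 * Equiv.swap (7 : Fin 12) 10 * Equiv.swap (7 : Fin 12) 11 * Equiv.swap (7 : Fin 12) 8) (hv : v = Equiv.swap (4 : Fin 12) 11 * Equiv.swap (4 : Fin 12) 5 * Equiv.swap (4 : Fin 12) 7 * Equiv.swap (6 : Fin 12) 8 * Equiv.swap (6 : Fin 12) 9 * Equiv.swap (6 : Fin 12) 10) (hw : w = Equiv.swap (4 : Fin 12) 8 * Equiv.swap (4 : Fin 12) 5 * Equiv.swap (4 : Fin 12) 10 * Equiv.swap (6 : Fin 12) 7 * Equiv.swap (6 : Fin 12) 9 * Equiv.swap (6 : Fin 12) 11)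
    (hx₁ : x₁ = Equiv.swap (0 : Fin 12) 3 * Equiv.swap (6 : Fin 12) 7 * Equiv.swap (8 : Fin 12) 10 * Equiv.swap (9 : Fin 12) 11) (hx₂ : x₂ = Equiv.swap (0 : Fin 12) 1 * Equiv.swap (6 : Fin 12) 9 * Equiv.swap (7 : Fin 12) 10 * Equiv.swap (8 : Fin 12) 11)
    (hx₃ : x₃ = Equiv.swap (1 : Fin 12) 2 * Equiv.swap (6 : Fin 12) 11 * Equiv.swap (7 : Fin 12) 9 * Equiv.swap (8 : Fin 12) 10)
    (M₁₂ M₁₁ : Subgroup (Equiv.Perm (Fin 12))) (hM₁₂ : M₁₂ = Subgroup.closure {s, t, u, v, w, x₁, x₂, x₃})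
    (hM₁₁ : M₁₁ = Subgroup.closure {s, t, u, v, w, x₁, x₂}) :
    MulAction.IsMultiplyPretransitive M₁₂ (Fin 12) 5 ∧ (∀ y : Fin 5 ↪ Fin 12, MulAction.stabilizer M₁₂ y = ⊥) ∧
    Nat.card M₁₂ = 95040 ∧ Nat.card M₁₁ = 7920 ∧
    M₁₁ = M₁₂ ⊓ MulAction.stabilizer (Equiv.Perm (Fin 12)) (2 : Fin 12) := by
  obtain ⟨g0, g1⟩ := grp0_eq s t u v w x₁ x₂ x₃
    (by subst hs; decide +kernel) (by subst ht; decide +kernel) (by subst hu; decide +kernel)
    (by subst hv; decide +kernel) (by subst hw; decide +kernel) (by subst hx₁; decide +kernel)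
    (by subst hx₂; decide +kernel) (by subst hx₃; decide +kernel)
  rw [← hM₁₂] at g0
  rw [← hM₁₁] at g1
  have c12 : Nat.card M₁₂ = 95040 := by rw [← g0, (checkChain_sound S chain_ok).card]; rfl
  have c11 : Nat.card M₁₁ = 7920 := by rw [← g1, (checkChain_sound S chain1_ok).card]; rfl
  let base : Fin 5 ↪ Fin 12 := ⟨![2, 1, 0, 3, 4], by decide⟩
  have htr : ∀ y : Fin 5 ↪ Fin 12, ∃ g : M₁₂, g • y = base := by
    intro y
    have ne : ∀ (σ : Equiv.Perm (Fin 12)) (i j : Fin 5), i ≠ j → σ (y i) ≠ σ (y j) := fun σ i j h =>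
      σ.injective.ne (y.injective.ne h)
    obtain ⟨a, ha, ea⟩ := move chain_ok (by decide) (y 0) (orb0 _)
    have ea' : a (y 0) = 2 := ea
    obtain ⟨b, hb, eb⟩ := move chain1_ok (by decide) (a (y 1)) (orb1 _ (ea' ▸ ne a 1 0 (by decide)))
    have eb' : b (a (y 1)) = 1 := eb
    obtain ⟨hb0, hb2⟩ := fix_base chain_ok (by decide) hb
    have b2 : (b * a) (y 0) = 2 := by rw [Equiv.Perm.mul_apply, ea']; exact hb2
    obtain ⟨c, hc, ec⟩ := move chain2_ok (by decide) ((b * a) (y 2))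
      (orb2 _ (b2 ▸ ne (b * a) 2 0 (by decide)) (eb' ▸ ne (b * a) 2 1 (by decide)))
    have ec' : c ((b * a) (y 2)) = 0 := ec
    obtain ⟨hc1, hc1'⟩ := fix_base chain1_ok (by decide) hc
    obtain ⟨hc0, hc0'⟩ := fix_base chain_ok (by decide) hc1
    have c2 : (c * (b * a)) (y 0) = 2 := by rw [Equiv.Perm.mul_apply, b2]; exact hc0'
    have c1 : (c * (b * a)) (y 1) = 1 := by rw [Equiv.Perm.mul_apply, Equiv.Perm.mul_apply, eb']; exact hc1'
    obtain ⟨d, hd, ed⟩ := move chain3_ok (by decide) ((c * (b * a)) (y 3))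
      (orb3 _ (c2 ▸ ne _ 3 0 (by decide)) (c1 ▸ ne _ 3 1 (by decide)) (ec' ▸ ne (c * (b * a)) 3 2 (by decide)))
    have ed' : d ((c * (b * a)) (y 3)) = 3 := ed
    obtain ⟨hd2, hd2'⟩ := fix_base chain2_ok (by decide) hd
    obtain ⟨hd1, hd1'⟩ := fix_base chain1_ok (by decide) hd2
    obtain ⟨hd0, hd0'⟩ := fix_base chain_ok (by decide) hd1
    have d2 : (d * (c * (b * a))) (y 0) = 2 := by rw [Equiv.Perm.mul_apply, c2]; exact hd0'
    have d1 : (d * (c * (b * a))) (y 1) = 1 := by rw [Equiv.Perm.mul_apply, c1]; exact hd1'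
    have d0 : (d * (c * (b * a))) (y 2) = 0 := by rw [Equiv.Perm.mul_apply, Equiv.Perm.mul_apply, ec']; exact hd2'
    obtain ⟨e, he, ee⟩ := move chain4_ok (by decide) ((d * (c * (b * a))) (y 4))
      (orb4 _ (d2 ▸ ne _ 4 0 (by decide)) (d1 ▸ ne _ 4 1 (by decide)) (d0 ▸ ne _ 4 2 (by decide))
        (ed' ▸ ne (d * (c * (b * a))) 4 3 (by decide)))
    obtain ⟨he3, he3'⟩ := fix_base chain3_ok (by decide) he
    obtain ⟨he2, he2'⟩ := fix_base chain2_ok (by decide) he3
    obtain ⟨he1, he1'⟩ := fix_base chain1_ok (by decide) he2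
    obtain ⟨he0, he0'⟩ := fix_base chain_ok (by decide) he1
    refine ⟨⟨e * (d * (c * (b * a))), ?_⟩, ?_⟩
    · rw [← g0]
      exact Subgroup.mul_mem _ he0 (Subgroup.mul_mem _ hd0 (Subgroup.mul_mem _ hc0 (Subgroup.mul_mem _ hb0 ha)))
    · ext i
      show ((e * (d * (c * (b * a)))) (y i) : ℕ) = (base i : ℕ)
      congr 1
      fin_cases i
      · exact (congrArg e d2).trans he0'
      · exact (congrArg e d1).trans he1'
      · exact (congrArg e d0).trans he2'
      · exact (congrArg e ed').trans he3'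
      · exact ee
  have hpre : MulAction.IsMultiplyPretransitive M₁₂ (Fin 12) 5 := by
    rw [MulAction.isMultiplyPretransitive_iff]
    intro x y
    obtain ⟨g, hg⟩ := htr x
    obtain ⟨h, hh⟩ := htr y
    refine ⟨h⁻¹ * g, ?_⟩
    ext i
    have hg' : (g : Equiv.Perm (Fin 12)) (x i) = base i := congrArg (fun f : Fin 5 ↪ Fin 12 => f i) hg
    have hh' : (h : Equiv.Perm (Fin 12)) (y i) = base i := congrArg (fun f : Fin 5 ↪ Fin 12 => f i) hh
    show (((h : Equiv.Perm (Fin 12))⁻¹ ((g : Equiv.Perm (Fin 12)) (x i))) : ℕ) = (y i : ℕ)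
    rw [hg', ← hh', Equiv.Perm.inv_eq_iff_eq.mpr rfl]
  refine ⟨hpre, fun y => ?_, c12, c11, ?_⟩
  · rw [eq_bot_iff]
    intro g hg
    rw [Subgroup.mem_bot]
    let φ : M₁₂ → (Fin 5 ↪ Fin 12) := fun h => h • y
    have hsur : Function.Surjective φ := fun z => MulAction.isMultiplyPretransitive_iff.mp hpre y z
    have hbij : Function.Bijective φ := by
      refine (Nat.bijective_iff_surjective_and_card φ).mpr ⟨hsur, ?_⟩
      rw [c12, Nat.card_eq_fintype_card, Fintype.card_embedding_eq, Fintype.card_fin, Fintype.card_fin]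
      rfl
    refine hbij.1 ?_
    have hg' : g • y = y := hg
    refine hg'.trans ?_
    ext i
    rfl
  · rw [← g0, ← g1]
    ext g
    rw [mem_tail_iff S chain_ok g, Subgroup.mem_inf, MulAction.mem_stabilizer_iff]
    refine and_congr_right fun _ => ?_
    show permAct 12 g 2 = 2 ↔ g 2 = 2
    have e : permAct 12 g 2 = (g 2 : ℕ) := by simp [permAct]
    rw [e]
    exact ⟨fun h => Fin.ext h, fun h => by rw [h]; rfl⟩

end Cfsg.Agent.S3362
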