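import Cfsg.Statements.S3365
import Cfsg.Agent.H19.Fixity.Small
import Cfsg.Agent.H19.Fixity.FourSylow
import Cfsg.Agent.H19.Fixity.FourShared
import Cfsg.Agent.H19.Fixity.OddMain

set_option autoImplicit false
open Cfsg

namespace Cfsg.Agent.S3365

/-- Finite simple groups acting with fixity 4. Let G be a finite non-abelian simple group acting faithfully and transitively on a finite set so that every non-identity element fixes at most 4 points and some non-identity element fixes exactly 4 (fixity 4). Let P be a Sylow 3-subgroup, S a Sylow 2-subgroup, f the largest number of fixed points of an involution of G, and a a point. Then one of the following holds: (1) f ≥ 1 and G has a strongly embedded subgroup; (2) 1 ≤ f ≤ 3 and S is dihedral or semidihedral; (3) f = 4 and G has sectional 2-rank at most 4; (4) the point stabilizer G_a has odd order divisible by 3 and either G has a strongly 3-embedded subgroup (a proper subgroup H of order divisible by 3 such that H ∩ gHg⁻¹ has order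 prime to 3 for every element g outside H), or |P| = 3 and a Sylow 2-subgroup of N_G(P) has order at most 4, or P is elementary abelian of order 9, or P is extraspecial of order 27 and exponent 3, or P is isomorphic to a Sylow 3-subgroup of Sym(9) (the wreath product C₃ ≀ C₃); (5) G_a has order prime to 6. -/
theorem result {G Ω : Type*} [Group G] [Finite G] [IsSimpleGroup G] (hna : ¬ IsMulCommutative G)
    [MulAction G Ω] [FaithfulSMul G Ω] [Finite Ω] (htrans : MulAction.IsPretransitive G Ω)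
    (hfix : ∀ g : G, g ≠ 1 → Nat.card (MulAction.fixedBy Ω g) ≤ 4)
    (hfix4 : ∃ g : G, g ≠ 1 ∧ Nat.card (MulAction.fixedBy Ω g) = 4)
    (P : Sylow 3 G) (S : Sylow 2 G) (f : ℕ)
    (hf : ∀ g : G, orderOf g = 2 → Nat.card (MulAction.fixedBy Ω g) ≤ f)
    (hf' : ∃ g : G, orderOf g = 2 ∧ Nat.card (MulAction.fixedBy Ω g) = f) (a : Ω) :
    (1 ≤ f ∧ ∃ H : Subgroup G, Cfsg.IsStronglyEmbedded H) ∨
    (1 ≤ f ∧ f ≤ 3 ∧ ((∃ n : ℕ, Nonempty ((S : Subgroup G) ≃* DihedralGroup n)) ∨ Cfsg.IsQuasiDihedral (S : Subgroup G))) ∨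
    (f = 4 ∧ Cfsg.SectionalPRankLE 2 4 G) ∨
    (Odd (Nat.card (MulAction.stabilizer G a)) ∧ 3 ∣ Nat.card (MulAction.stabilizer G a) ∧
      ((∃ H : Subgroup G, H ≠ ⊤ ∧ 3 ∣ Nat.card H ∧ ∀ g : G, g ∉ H → ¬ 3 ∣ Nat.card ↥(H ⊓ H.map (MulAut.conj g).toMonoidHom)) ∨
       (Nat.card P = 3 ∧ ∀ T : Sylow 2 (Subgroup.normalizer ((P : Subgroup G) : Set G)), Nat.card T ≤ 4) ∨
       (Nat.card P = 9 ∧ ∀ x ∈ (P : Subgroup G), x ^ 3 = 1) ∨
       (Nat.card P = 27 ∧ Cfsg.IsExtraspecial 3 (P : Subgroup G) ∧ ∀ x ∈ (P : Subgroup G), x ^ 3 = 1) ∨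
       (∃ T : Sylow 3 (Equiv.Perm (Fin 9)), Nonempty ((P : Subgroup G) ≃* (T : Subgroup (Equiv.Perm (Fin 9))))))) ∨
    (Nat.card (MulAction.stabilizer G a)).Coprime 6 := by
  haveI := htrans
  simp only [Nat.card_coe_set_eq] at hfix hf hf'
  haveI : Fact (Nat.Prime 2) := ⟨Nat.prime_two⟩
  obtain ⟨t, ht, htf⟩ := hf'
  have ht1 : t ≠ 1 := fun h => by rw [h, orderOf_one] at ht; omega
  have hf4 : f ≤ 4 := htf ▸ hfix t ht1
  have h2G : 2 ∣ Nat.card G := ht ▸ orderOf_dvd_natCard t
  have hmod : ∀ u : G, orderOf u = 2 → (MulAction.fixedBy Ω u).ncard % 4 = f % 4 := by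
    intro u hu
    obtain ⟨k, hk⟩ := H19.Fixity.moved_mod_four (Ω := Ω) hna hu
    obtain ⟨l, hl⟩ := H19.Fixity.moved_mod_four (Ω := Ω) hna ht
    rw [← htf]
    omega
  rcases (show (1 ≤ f ∧ f ≤ 3) ∨ f = 4 ∨ f = 0 by omega) with ⟨h1, h3⟩ | h4 | h0
  · have hall : ∀ u : G, orderOf u = 2 → (MulAction.fixedBy Ω u).ncard = f := fun u hu => by
      have := hf u hu
      have := hmod u hu
      omega
    rcases H19.Fixity.small_cases h1 h3 hall h2G S with h | h
    · exact Or.inl ⟨h1, h⟩
    · exact Or.inr (Or.inl ⟨h1, h3, h⟩)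
  · have hex : ∃ u : G, orderOf u = 2 ∧ (MulAction.fixedBy Ω u).ncard = 4 := ⟨t, ht, htf.trans h4⟩
    rcases H19.Fixity.fix_four_sylow hfix hna hex S with h | ⟨F, hF, hSF, hall⟩
    · exact Or.inr (Or.inr (Or.inl ⟨h4, h⟩))
    · refine Or.inl ⟨by omega, H19.Fixity.shared_case hfix hna (fun u hu => ?_) hF S hSF hex hall⟩
      have := hf u hu
      have := hmod u hu
      omega
  · have hodd : ∀ (g : G) (b : Ω), g • b = b → Odd (orderOf g) := by
      intro g b hgb
      by_contra hev
      rw [Nat.not_odd_iff_even] at hev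
      obtain ⟨k, hk⟩ := hev
      have hk0 : k ≠ 0 := fun h => by
        have := orderOf_pos g
        omega
      have ho : orderOf (g ^ k) = 2 := by
        rw [orderOf_pow' g hk0, show orderOf g = k * 2 by omega, Nat.gcd_eq_right (Dvd.intro 2 rfl),
          Nat.mul_div_cancel_left 2 (Nat.pos_of_ne_zero hk0)]
      have hb : b ∈ MulAction.fixedBy Ω (g ^ k) := by
        rw [← zpow_natCast]; exact MulAction.mem_fixedBy_zpow hgb _
      have h0' := hf _ ho
      rw [h0, Nat.le_zero, Set.ncard_eq_zero (Set.toFinite _)] at h0'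
      rw [h0'] at hb
      exact hb
    have hoddcard : Odd (Nat.card (MulAction.stabilizer G a)) := by
      rw [← Nat.not_even_iff_odd, even_iff_two_dvd]
      intro h
      obtain ⟨⟨x, hx⟩, hxo⟩ := exists_prime_orderOf_dvd_card' 2 h
      rw [← Subgroup.orderOf_coe] at hxo
      have := hodd x a (MulAction.mem_stabilizer_iff.1 hx)
      simp only at hxo
      rw [hxo] at this
      exact absurd this (by decide)
    by_cases h3 : 3 ∣ Nat.card (MulAction.stabilizer G a)
    · refine Or.inr (Or.inr (Or.inr (Or.inl ⟨hoddcard, h3, ?_⟩)))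
      rcases H19.Fixity.odd_three hna hfix hodd P a h3 with h | h
      · exact Or.inl h
      · exact Or.inr (Or.inr (Or.inl h))
    · refine Or.inr (Or.inr (Or.inr (Or.inr ?_)))
      rw [show 6 = 2 * 3 from rfl]
      exact Nat.Coprime.mul_right (Nat.coprime_two_right.2 hoddcard)
        ((Nat.prime_three.coprime_iff_not_dvd.2 h3).symm)

end Cfsg.Agent.S3365
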