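import Cfsg.Statements.S3366
import Cfsg.Agent.H66.HeisSLRecog
import Cfsg.Agent.H66.HeisSLPSp

set_option autoImplicit false
open Cfsg

namespace Cfsg.Agent.S3366

/-- Let X be a finite group with O₃(X) extraspecial of order 27 and exponent 3, X/O₃(X) isomorphic to SL(2,3), O₂(X) = 1, and a Sylow 3-subgroup of X containing an elementary abelian subgroup of order 27. Then X is isomorphic to the centralizer in PSp(4,3) of a 3-central element of order 3 (an element of order 3 in the centre of a Sylow 3-subgroup). -/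
theorem result {X : Type*} [Group X] [Finite X]
    (hR : Cfsg.IsExtraspecial 3 (Cfsg.pCore 3 X)) (hRcard : Nat.card (Cfsg.pCore 3 X) = 27)
    (hRexp : ∀ r ∈ Cfsg.pCore 3 X, r ^ 3 = 1)
    (e : X ⧸ Cfsg.pCore 3 X ≃* Matrix.SpecialLinearGroup (Fin 2) (ZMod 3))
    (hO2 : Cfsg.pCore 2 X = ⊥)
    (hE : ∃ E : Subgroup X, IsMulCommutative E ∧ (∀ a ∈ E, a ^ 3 = 1) ∧ Nat.card E = 27)
    (F : Type*) [Field F] [Fintype F] (hF : Fintype.card F = 3) :
    ∃ (c : Cfsg.PSp 2 F) (S : Sylow 3 (Cfsg.PSp 2 F)), orderOf c = 3 ∧ c ∈ (S : Subgroup (Cfsg.PSp 2 F)) ∧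
      c ∈ Subgroup.centralizer ((S : Subgroup (Cfsg.PSp 2 F)) : Set (Cfsg.PSp 2 F)) ∧
      Nonempty (X ≃* Subgroup.centralizer ({c} : Set (Cfsg.PSp 2 F))) := by
  haveI : Fact (Nat.Prime 3) := ⟨Nat.prime_three⟩
  obtain ⟨DX⟩ := H66.HeisSL.exists_data hR hRcard hRexp e hO2 hE
  obtain ⟨c, S, hc, hcS, hcc, ⟨DC⟩⟩ := H66.HeisSL.exists_central_element
  let φ : F ≃+* ZMod 3 :=
    FiniteField.ringEquivOfCardEq (K := F) (K' := ZMod 3) (by rw [hF, ZMod.card])
  let ψ : Matrix.symplecticGroup (Fin 2) (ZMod 3) ≃* Matrix.symplecticGroup (Fin 2) F :=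
    H27.SpFourTwo.spCongr φ.symm 2
  have hcen : (Subgroup.center (Matrix.symplecticGroup (Fin 2) (ZMod 3))).map ψ.toMonoidHom =
      Subgroup.center (Matrix.symplecticGroup (Fin 2) F) := by
    ext g
    simp only [Subgroup.mem_map, Subgroup.mem_center_iff]
    constructor
    · rintro ⟨a, ha, rfl⟩ b
      obtain ⟨b', rfl⟩ := ψ.surjective b
      show ψ b' * ψ a = ψ a * ψ b'
      rw [← map_mul, ha b', map_mul]
    · intro hg
      refine ⟨ψ.symm g, fun b => ψ.injective ?_, ψ.apply_symm_apply g⟩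
      rw [map_mul, map_mul, ψ.apply_symm_apply, hg]
  let Φ : Cfsg.PSp 2 (ZMod 3) ≃* Cfsg.PSp 2 F := QuotientGroup.congr _ _ ψ hcen
  refine ⟨Φ c, S.mapSurjective Φ.surjective, (Φ.orderOf_eq c).trans hc, ⟨c, hcS, rfl⟩, ?_, ?_⟩
  · rintro _ ⟨x, hx, rfl⟩
    show Φ x * Φ c = Φ c * Φ x
    rw [← map_mul, hcc x hx, map_mul]
  · obtain ⟨i⟩ := DX.nonempty_mulEquiv DC
    have hmap : (Subgroup.centralizer ({c} : Set (Cfsg.PSp 2 (ZMod 3)))).map Φ.toMonoidHom =
        Subgroup.centralizer ({Φ c} : Set (Cfsg.PSp 2 F)) := by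
      ext g
      obtain ⟨x, rfl⟩ := Φ.surjective g
      simp only [Subgroup.mem_map, Subgroup.mem_centralizer_singleton_iff]
      constructor
      · rintro ⟨y, hy, hyx⟩
        rw [← Φ.injective hyx, ← map_mul, hy, map_mul]
      · intro h
        exact ⟨x, Φ.injective (by rw [map_mul, map_mul]; exact h), rfl⟩
    exact ⟨i.trans ((Φ.subgroupMap _).trans (MulEquiv.subgroupCongr hmap))⟩

end Cfsg.Agent.S3366
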