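import Cfsg.Statements.S3371
import Cfsg.Agent.HalfTrans.Monomial
import Cfsg.Agent.PGroups.NormalSq
import Cfsg.Agent.S3370

set_option autoImplicit false
open Cfsg

namespace Cfsg.Agent.S3371

/-- Let q be a prime, V a non-trivial finite vector space over the field with q elements, and G a finite p-group (p prime) acting faithfully and linearly on V such that all G-orbits on the non-zero vectors have the same size. Then one of the following holds: G is cyclic or generalized quaternion and acts semiregularly on the non-zero vectors; or V has q² elements with q = 2^m − 1 and G is dihedral of order 2^(m+1) or semidihedral of order 2^(m+2); or V has q² elements with q = 2^m + 1 and, in suitable coordinates V = F_q², G is exactly the group of maps (x, y) ↦ (a x, ± a⁻¹ y) and (x, y) ↦ (± a⁻¹ y, a x) with a ≠ 0; or V has 81 elements (q = 3) and G is a 2-group. -/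
theorem result (q : ℕ) [Fact q.Prime] {V : Type*} [AddCommGroup V] [Module (ZMod q) V] [Finite V] [Nontrivial V]
    {G : Type*} [Group G] [Finite G] (p : ℕ) [Fact p.Prime] (hG : IsPGroup p G)
    (ρ : G →* (V ≃ₗ[ZMod q] V)) (hρ : Function.Injective ρ)
    (hhalf : ∀ v w : V, v ≠ 0 → w ≠ 0 → Nat.card {u : V | ∃ g : G, ρ g v = u} = Nat.card {u : V | ∃ g : G, ρ g w = u}) :
    ((IsCyclic G ∨ ∃ n : ℕ, Nonempty (G ≃* QuaternionGroup n)) ∧ ∀ v : V, v ≠ 0 → ∀ g : G, ρ g v = v → g = 1) ∨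
    (Nat.card V = q ^ 2 ∧ ∃ m : ℕ, q = 2 ^ m - 1 ∧
      (Nonempty (G ≃* DihedralGroup (2 ^ m)) ∨ (Cfsg.IsQuasiDihedral G ∧ Nat.card G = 2 ^ (m + 2)))) ∨
    (Nat.card V = q ^ 2 ∧ (∃ m : ℕ, q = 2 ^ m + 1) ∧
      ∃ e : V ≃ₗ[ZMod q] (Fin 2 → ZMod q), ∀ f : (Fin 2 → ZMod q) ≃ₗ[ZMod q] (Fin 2 → ZMod q),
        (∃ g : G, f = e.symm.trans ((ρ g).trans e)) ↔
        ∃ a s : ZMod q, a ≠ 0 ∧ (s = 1 ∨ s = -1) ∧
          ((∀ v, f v = ![a * v 0, s * a⁻¹ * v 1]) ∨ (∀ v, f v = ![s * a⁻¹ * v 1, a * v 0]))) ∨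
    (Nat.card V = 81 ∧ q = 3 ∧ p = 2) := by
  classical
  have hp : p.Prime := Fact.out
  have hq : q.Prime := Fact.out
  letI : DistribMulAction G V := DistribMulAction.compHom V ρ
  have hlin : ∀ (g : G) (a : ZMod q) (v : V), g • a • v = a • g • v := fun g a v => map_smul (ρ g) a v
  have hfaith : ∀ g : G, (∀ v : V, g • v = v) → g = 1 := fun g hg => hρ (by
    rw [map_one]; exact LinearEquiv.ext hg)
  have hprod : ∀ v : V, Nat.card (MulAction.stabilizer G v) * (MulAction.orbit G v).ncard = Nat.card G :=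
    fun v => by rw [← MulAction.index_stabilizer G v, Subgroup.card_mul_index]
  have horbeq : ∀ v : V, Nat.card {u : V | ∃ g : G, ρ g v = u} = (MulAction.orbit G v).ncard := fun v => rfl
  have hcardeq : ∀ v w : V, v ≠ 0 → w ≠ 0 →
      Nat.card (MulAction.stabilizer G v) = Nat.card (MulAction.stabilizer G w) := fun v w hv hw => by
    have h1 := hhalf v w hv hw
    rw [horbeq, horbeq] at h1
    refine Nat.eq_of_mul_eq_mul_right ((Set.ncard_pos (Set.toFinite _)).2 (MulAction.nonempty_orbit (M := G) v)) ?_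
    rw [hprod v, h1, hprod w]
  by_cases hfree : ∀ v : V, v ≠ 0 → MulAction.stabilizer G v = ⊥
  · left
    refine ⟨?_, fun v hv g hg => Subgroup.mem_bot.1 (hfree v hv ▸ MulAction.mem_stabilizer_iff.2 hg)⟩
    let φ : G →* MulAut (Multiplicative V) :=
      { toFun := fun g => AddEquiv.toMultiplicative (ρ g).toAddEquiv
        map_one' := by ext v; simp
        map_mul' := fun g h => by ext v; simp }
    have hfpf : Cfsg.Agent.Frobenius.IsFPF φ := by
      intro g hg m hm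
      by_contra hm1
      have hv : Multiplicative.toAdd m ≠ 0 := fun h => hm1 (by simpa using h)
      exact hg (Subgroup.mem_bot.1 (hfree _ hv ▸ MulAction.mem_stabilizer_iff.2 (congrArg Multiplicative.toAdd hm)))
    rcases Cfsg.Agent.H76.cyclic_or_quaternion_of_fpf hfpf p hG with hc | ⟨-, n, he⟩
    · exact Or.inl hc
    · exact Or.inr ⟨_, he⟩
  push Not at hfree
  obtain ⟨v₀, hv₀, hst₀⟩ := hfree
  have hnt : ∀ v : V, v ≠ 0 → MulAction.stabilizer G v ≠ ⊥ := fun v hv h =>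
    hst₀ (Subgroup.eq_bot_of_card_eq _ (by rw [hcardeq v₀ v hv₀ hv, h, Subgroup.card_bot]))
  have hexp : ∀ v : V, q • v = 0 := fun v => by
    rw [← Nat.cast_smul_eq_nsmul (ZMod q), ZMod.natCast_self, zero_smul]
  have hpq : p ≠ q := by
    rintro rfl
    have hdvd : p ∣ Nat.card V := by
      rw [Module.natCard_eq_pow_finrank (K := ZMod p), Nat.card_zmod]
      exact dvd_pow_self _ (Module.finrank_pos).ne'
    obtain ⟨v, hv, hv0⟩ := hG.exists_fixed_point_of_prime_dvd_card_of_fixed_point V hdvd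
      (a := (0 : V)) fun g => smul_zero g
    refine hst₀ ((Subgroup.eq_bot_iff_forall _).2 fun g _ => hfaith g fun x => ?_)
    by_cases hx : x = 0
    · rw [hx, smul_zero]
    have htop : MulAction.stabilizer G x = ⊤ := Subgroup.eq_top_of_card_eq _ (by
      rw [hcardeq x v hx hv0.symm, show MulAction.stabilizer G v = ⊤ from eq_top_iff.2 (fun g _ => MulAction.mem_stabilizer_iff.2 (hv g)),
        Subgroup.card_top])
    exact MulAction.mem_stabilizer_iff.1 (htop ▸ Subgroup.mem_top g)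
  have H : HalfTrans.Hyp p q G V := ⟨hp, hq, hpq, hG, hexp, hfaith, hcardeq, hnt⟩
  have hnc : ¬ IsCyclic G := fun hc => by
    obtain ⟨g, hg1, v, hv, hg⟩ := H.exists_order
    exact hv (H.eq_zero_of_central (fun x => by
      letI := IsCyclic.commGroup (α := G)
      exact mul_comm x g) hg1 hg)
  by_cases hE : ∃ E : Subgroup G, E.Normal ∧ Nat.card E = p ^ 2 ∧ ∀ a ∈ E, a ^ p = 1
  · obtain ⟨E, hEn, hEc, hEe⟩ := hE
    obtain ⟨T, u, hu, hu0⟩ := HalfTrans.exists_pair H hEc hEe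
    obtain rfl := T.p_eq_two H hu hu0
    obtain ⟨d, k, hd, hV, hk, hc0, hc1⟩ := HalfTrans.split T H hu hu0
    have hq2 : q ≠ 2 := fun h => hpq h.symm
    have hq3 : 3 ≤ q := by have := hq.two_le; omega
    rcases S3370.catalan_odd hq3 (hq.odd_of_ne_two hq2) hd hk with rfl | ⟨rfl, rfl⟩
    · rw [pow_one] at hV hk hc0 hc1
      obtain ⟨b, honly, hall⟩ := HalfTrans.monomial T H hlin hu hu0 hc0 hc1 hV
      refine Or.inr (Or.inr (Or.inl ⟨hV, ⟨k, hk⟩, b.symm, fun f => ⟨?_, ?_⟩⟩))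
      · rintro ⟨g, rfl⟩
        obtain ⟨a, s, ha, hs, h | h⟩ := honly g
        · refine ⟨a, s, ha, hs, Or.inl fun x => ?_⟩
          show b.symm (g • b x) = _
          rw [h x, LinearEquiv.symm_apply_apply]
        · refine ⟨a, s, ha, hs, Or.inr fun x => ?_⟩
          show b.symm (g • b x) = _
          rw [h x, LinearEquiv.symm_apply_apply]
      · rintro ⟨a, s, ha, hs, h | h⟩
        · obtain ⟨g, hg⟩ := (hall a s ha hs).1
          refine ⟨g, LinearEquiv.ext fun x => ?_⟩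
          show f x = b.symm (g • b x)
          rw [h, hg, LinearEquiv.symm_apply_apply]
        · obtain ⟨g, hg⟩ := (hall a s ha hs).2
          refine ⟨g, LinearEquiv.ext fun x => ?_⟩
          show f x = b.symm (g • b x)
          rw [h, hg, LinearEquiv.symm_apply_apply]
    · exact Or.inr (Or.inr (Or.inr ⟨by rw [hV]; norm_num, rfl, rfl⟩))
  push Not at hE
  obtain rfl : p = 2 := by
    by_contra hp2
    obtain ⟨A, hAn, -, hAe, hAc⟩ := PGroups.exists_normal_elementary_sq hG hp2 hnc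
    obtain ⟨a, ha, hap⟩ := hE A hAn hAc
    exact hap (hAe a ha)
  have hn : ∀ A : Subgroup G, A.Normal → IsMulCommutative A → IsCyclic A := by
    intro A hAn hA
    let W : Subgroup G :=
      { carrier := {a | a ∈ A ∧ a ^ 2 = 1}
        one_mem' := ⟨one_mem _, one_pow 2⟩
        mul_mem' := fun {a b} ha hb => ⟨mul_mem ha.1 hb.1, by
          rw [(show Commute a b from PGroups.comm_of_isMulCommutative hA ha.1 hb.1).mul_pow, ha.2, hb.2, one_mul]⟩
        inv_mem' := fun {a} ha => ⟨inv_mem ha.1, by rw [inv_pow, ha.2, inv_one]⟩ }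
    haveI hWn : W.Normal := ⟨fun a ha g =>
      ⟨hAn.conj_mem a ha.1 g, by rw [conj_pow, ha.2, mul_one, mul_inv_cancel]⟩⟩
    refine PGroups.isCyclic_of_small_omega hG hA W (fun a ha hap => ⟨ha, hap⟩) ?_
    by_contra hlt
    obtain ⟨n, hn⟩ := IsPGroup.iff_card.mp (hG.to_subgroup W)
    have h2 : 2 ^ 2 ≤ Nat.card W := by
      rw [hn] at hlt ⊢
      refine Nat.pow_le_pow_right two_pos ?_
      by_contra h
      exact hlt ((Nat.pow_le_pow_right two_pos (show n ≤ 1 by omega)).trans (pow_one 2).le)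
    obtain ⟨B, hBn, hBW, hB⟩ := PGroups.exists_normal_card_le hG W 2 h2
    obtain ⟨a, ha, hap⟩ := hE B hBn hB
    exact hap (hBW ha).2
  obtain ⟨k, c, y, hc, hcard, hy, hcase⟩ := PGroups.structure_of_normal_abelian_cyclic hG hnc hn
  have hk' : ((2 ^ k : ℕ) : ℤ) = (2 : ℤ) ^ k := by push_cast; rfl
  obtain ⟨hk2, r, s, hr, hs, hinv⟩ : 2 ≤ k ∧ ∃ r s : ℤ, y * c * y⁻¹ = c ^ r ∧ y ^ 2 = c ^ s ∧
      y * c ^ 2 ^ (k - 2) * y⁻¹ = (c ^ 2 ^ (k - 2))⁻¹ := by
    rcases hcase with ⟨h1, h2, h3⟩ | ⟨h1, h2, h3⟩ | ⟨h1, h2, h3⟩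
    · exact ⟨by omega, -1, 0, by rw [h2, zpow_neg_one], by rw [h3, zpow_zero],
        by rw [← conj_pow, h2, inv_pow]⟩
    · exact ⟨h1, -1, (2 ^ (k - 1) : ℕ), by rw [h2, zpow_neg_one], by rw [h3, zpow_natCast],
        by rw [← conj_pow, h2, inv_pow]⟩
    · refine ⟨by omega, (2 ^ (k - 1) - 1 : ℕ), 0, by rw [h2, zpow_natCast], by rw [h3, zpow_zero], ?_⟩
      rw [← conj_pow, h2, eq_inv_iff_mul_eq_one, ← pow_mul, ← pow_add, ← Nat.succ_mul,
        Nat.succ_eq_add_one, Nat.sub_add_cancel Nat.one_le_two_pow, ← pow_add,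
        show k - 1 + (k - 2) = k + (k - 3) by omega, pow_add, pow_mul, ← hc, pow_orderOf_eq_one, one_pow]
  obtain ⟨d, hV, hI⟩ := HalfTrans.count H hk2 hc hcard hy hinv
  have hd : 1 ≤ d := by
    by_contra h
    have h1 : 1 < Nat.card V := Finite.one_lt_card
    rw [hV, show d = 0 by omega, pow_zero, one_pow] at h1
    exact lt_irrefl 1 h1
  have hidx : (Subgroup.zpowers c).index = 2 := by
    have h1 := Subgroup.card_mul_index (Subgroup.zpowers c)
    rw [Nat.card_zpowers, hc, hcard, pow_succ] at h1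
    exact Nat.eq_of_mul_eq_mul_left (Nat.two_pow_pos k) h1
  have hout : ∀ g, g ∉ Subgroup.zpowers c → ∃ i : ℤ, g = y * c ^ i := fun g hg => by
    obtain ⟨i, hi⟩ := Subgroup.mem_zpowers_iff.1
      ((Subgroup.mul_mem_iff_of_index_two hidx (a := y⁻¹) (b := g)).2 (by simp [hy, hg]))
    exact ⟨i, by rw [hi, mul_inv_cancel_left]⟩
  have hyi : ∀ i : ℤ, y * c ^ i ∉ Subgroup.zpowers c := fun i h =>
    hy ((Subgroup.mul_mem_cancel_right _ (Subgroup.zpow_mem_zpowers c i)).1 h)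
  refine Or.inr (Or.inl ?_)
  rcases hcase with ⟨h1, h2, h3⟩ | ⟨h1, h2, h3⟩ | ⟨h1, h2, h3⟩
  · -- dihedral
    have hIc : Nat.card {g : G // g ∉ Subgroup.zpowers c ∧ g ^ 2 = 1} = 2 ^ k := by
      have he : {g : G | g ∉ Subgroup.zpowers c ∧ g ^ 2 = 1} = ((Subgroup.zpowers c : Set G))ᶜ := by
        ext g
        refine ⟨fun h => h.1, fun h => ⟨h, ?_⟩⟩
        obtain ⟨i, rfl⟩ := hout g h
        rw [PGroups.sq_mul_zpow (r := -1) (s := 0) (by rw [h2, zpow_neg_one]) (by rw [h3, zpow_zero])]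
        simp
      show ({g : G | g ∉ Subgroup.zpowers c ∧ g ^ 2 = 1}).ncard = _
      rw [he, Set.ncard_compl, show (Subgroup.zpowers c : Set G).ncard = 2 ^ k from
        (Nat.card_zpowers c).trans hc, hcard, pow_succ]
      omega
    rw [hIc] at hI
    have hqd := S3370.exp_one hq hI.symm hd
    rw [hqd] at hV hI
    haveI : NeZero (2 ^ k) := ⟨by positivity⟩
    exact ⟨hV, k, by omega, Or.inl (PGroups.nonempty_mulEquiv_dihedral hc hy h3 h2 (by rw [hcard, pow_succ']))⟩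
  · -- quaternion
    exfalso
    have hIc : Nat.card {g : G // g ∉ Subgroup.zpowers c ∧ g ^ 2 = 1} = 0 := by
      haveI : IsEmpty {g : G // g ∉ Subgroup.zpowers c ∧ g ^ 2 = 1} := ⟨fun ⟨g, hg, hg2⟩ => by
        obtain ⟨i, rfl⟩ := hout g hg
        rw [PGroups.sq_mul_zpow (r := -1) (s := ((2 ^ (k - 1) : ℕ) : ℤ)) (by rw [h2, zpow_neg_one])
          (by rw [h3, zpow_natCast]), neg_one_mul, neg_add_cancel_comm, zpow_natCast] at hg2
        have h4 := Nat.le_of_dvd (Nat.two_pow_pos _) (hc ▸ orderOf_dvd_of_pow_eq_one hg2)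
        exact absurd ((Nat.pow_le_pow_iff_right (by norm_num)).1 h4) (by omega)⟩
      exact Nat.card_of_isEmpty
    omega
  · -- semidihedral
    have hord : orderOf (c ^ 2) = 2 ^ (k - 1) := by
      rw [orderOf_pow' _ two_ne_zero, hc, Nat.gcd_eq_right (dvd_pow_self 2 (by omega)),
        show k = k - 1 + 1 by omega, pow_succ, Nat.mul_div_cancel _ two_pos, Nat.add_sub_cancel]
    have hr' : y * c * y⁻¹ = c ^ ((2 : ℤ) ^ (k - 1) - 1) := by
      rw [h2, ← zpow_natCast, Nat.cast_sub Nat.one_le_two_pow]; push_cast; rfl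
    have hev : ∀ i : ℤ, (y * c ^ i) ^ 2 = 1 ↔ (2 : ℤ) ∣ i := fun i => by
      rw [PGroups.sq_mul_zpow (s := 0) hr' (by rw [h3, zpow_zero]), PGroups.zpow_eq_one_iff_dvd hc, hk',
        show ((2 : ℤ) ^ (k - 1) - 1) * i + 0 + i = 2 ^ (k - 1) * i by ring,
        show (2 : ℤ) ^ k = 2 ^ (k - 1) * 2 by rw [← pow_succ]; congr 1; omega]
      exact mul_dvd_mul_iff_left (by positivity)
    have hIc : Nat.card {g : G // g ∉ Subgroup.zpowers c ∧ g ^ 2 = 1} = 2 ^ (k - 1) := by
      have he : {g : G | g ∉ Subgroup.zpowers c ∧ g ^ 2 = 1} = (y * ·) '' (Subgroup.zpowers (c ^ 2) : Set G) := by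
        ext g
        constructor
        · rintro ⟨hg, hg2⟩
          obtain ⟨i, rfl⟩ := hout g hg
          obtain ⟨t, rfl⟩ := (hev i).1 hg2
          exact ⟨c ^ (2 * t), ⟨t, by show (c ^ 2) ^ t = _; rw [zpow_mul, zpow_ofNat]⟩, rfl⟩
        · rintro ⟨_, ⟨t, rfl⟩, rfl⟩
          have e1 : (fun x : ℤ => (c ^ 2) ^ x) t = c ^ (2 * t) := by show (c ^ 2) ^ t = _; rw [zpow_mul, zpow_ofNat]
          simp only [e1]
          exact ⟨hyi _, (hev _).2 (dvd_mul_right 2 t)⟩
      show ({g : G | g ∉ Subgroup.zpowers c ∧ g ^ 2 = 1}).ncard = _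
      rw [he, Set.ncard_image_of_injective _ (mul_right_injective y)]
      exact (Nat.card_zpowers _).trans hord
    rw [hIc] at hI
    have hqd := S3370.exp_one hq hI.symm hd
    rw [hqd] at hV hI
    refine ⟨hV, k - 1, by omega, Or.inr ⟨⟨k, h1, hcard, c, y, hc, ?_, h2⟩, ?_⟩⟩
    · exact orderOf_eq_prime h3 fun h => hy (h ▸ one_mem _)
    · rw [hcard]; congr 1; omega

end Cfsg.Agent.S3371
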