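import Cfsg.Statements.S3375

set_option autoImplicit false
open Cfsg

namespace Cfsg.Agent.S3375

/-- An invariant subgroup of index two is inverted, when there are exactly two fixed points. -/
theorem inverted {H : Type*} [Group H] [Finite H] (γ : MulAut H) (h2 : ∀ h, γ (γ h) = h)
    (hc : Nat.card {h : H // γ h = h} = 2) (A : Subgroup H) (hA : A.index = 2)
    (hinv : ∀ h, γ h ∈ A ↔ h ∈ A) (a : H) (ha : a ∈ A) : γ a = a⁻¹ := by
  classical
  let φ : H → A := fun h => ⟨γ h * h⁻¹, by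
    rw [Subgroup.mul_mem_iff_of_index_two hA, A.inv_mem_iff, hinv]⟩
  let C : Subgroup H := (MonoidHom.eqLocus γ.toMonoidHom (MonoidHom.id H))
  have hC : Nat.card C = 2 := hc
  have key : ∀ x y : H, γ x * x⁻¹ = γ y * y⁻¹ ↔ γ (x⁻¹ * y) = x⁻¹ * y := by
    intro x y
    rw [map_mul, map_inv, inv_mul_eq_iff_eq_mul, mul_inv_eq_iff_eq_mul, eq_comm (a := γ y)]
    constructor <;> intro h
    · rw [h]; group
    · calc γ x = γ x * (x⁻¹ * y) * y⁻¹ * x := by group
        _ = _ := by rw [h]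
  let ψ : H ⧸ C → A := fun q => Quotient.liftOn' q φ (by
    intro x y hxy
    rw [QuotientGroup.leftRel_apply] at hxy
    exact Subtype.ext ((key x y).mpr hxy))
  have hψ : Function.Injective ψ := by
    intro p q
    refine Quotient.inductionOn₂' p q fun x y h => ?_
    apply Quotient.sound'
    rw [QuotientGroup.leftRel_apply]
    exact (key x y).mp (congrArg Subtype.val h)
  have hcard : Nat.card (H ⧸ C) = Nat.card A := by
    have h1 := C.card_mul_index
    have h3 := A.card_mul_index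
    rw [hC] at h1
    rw [hA] at h3
    rw [← Subgroup.index_eq_card]
    omega
  obtain ⟨⟨x⟩, hx⟩ := ((Nat.bijective_iff_injective_and_card ψ).mpr ⟨hψ, hcard⟩).2 ⟨a, ha⟩
  have hxa : γ x * x⁻¹ = a := congrArg Subtype.val hx
  rw [← hxa, map_mul, map_inv, h2]
  group

theorem result {H : Type*} [Group H] [Finite H] (γ : MulAut H) (hγ : orderOf γ = 2) :
    ((∀ h : H, γ h = h → h = 1) → (∀ a b : H, a * b = b * a) ∧ ∀ h : H, γ h = h⁻¹) ∧
    ((Nat.card {h : H // γ h = h} = 2 ∧ ∃ M : Subgroup H, M.index = 2) →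
      ∃ A : Subgroup H, A.index = 2 ∧ IsMulCommutative A ∧ (∀ a ∈ A, γ a ∈ A) ∧ ∀ a ∈ A, γ a = a⁻¹) := by
  classical
  have h2 : ∀ h, γ (γ h) = h := fun h => by
    rw [← MulAut.mul_apply, ← pow_two, ← hγ, pow_orderOf_eq_one]; rfl
  refine ⟨fun hf => ?_, ?_⟩
  · have hf' : MonoidHom.FixedPointFree (γ : H → H) := hf
    refine ⟨fun a b => MonoidHom.FixedPointFree.commute_all_of_involutive hf' h2 a b, fun h => ?_⟩
    exact congrFun (MonoidHom.FixedPointFree.coe_eq_inv_of_involutive hf' h2) h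
  · rintro ⟨hc, M, hM⟩
    obtain ⟨A, hA, hinv⟩ : ∃ A : Subgroup H, A.index = 2 ∧ ∀ h, γ h ∈ A ↔ h ∈ A := by
      by_cases hMγ : ∀ h, γ h ∈ M ↔ h ∈ M
      · exact ⟨M, hM, hMγ⟩
      push Not at hMγ
      obtain ⟨a, ha⟩ := hMγ
      let A : Subgroup H :=
        { carrier := {h | h ∈ M ↔ γ h ∈ M}
          one_mem' := by simp
          mul_mem' := by
            intro x y hx hy
            simp only [Set.mem_setOf_eq, map_mul, Subgroup.mul_mem_iff_of_index_two hM] at *
            tauto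
          inv_mem' := by
            intro x hx
            simpa [Subgroup.inv_mem_iff] using hx }
      have hmem : ∀ h, h ∈ A ↔ (h ∈ M ↔ γ h ∈ M) := fun h => Iff.rfl
      refine ⟨A, Subgroup.index_eq_two_iff.mpr ⟨a, fun b => ?_⟩, fun h => ?_⟩
      · rw [hmem, hmem, map_mul, Subgroup.mul_mem_iff_of_index_two hM, Subgroup.mul_mem_iff_of_index_two hM]
        unfold Xor
        tauto
      · rw [hmem, hmem, h2]; tauto
    have hi := inverted γ h2 hc A hA hinv
    refine ⟨A, hA, ⟨⟨fun a b => Subtype.ext ?_⟩⟩, fun a ha => (hinv a).mpr ha, hi⟩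
    have h := hi _ (A.mul_mem a.2 b.2)
    rw [map_mul, hi _ a.2, hi _ b.2, mul_inv_rev] at h
    have h' := congrArg (·⁻¹) h
    simp only [mul_inv_rev, inv_inv] at h'
    exact h'.symm

end Cfsg.Agent.S3375
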