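import Cfsg.Statements.S3376

set_option autoImplicit false
open Cfsg

namespace Cfsg.Agent.S3376

/-- Coordinates. -/
abbrev V := ZMod 3 → ZMod 3

/-- Coordinates of the group. -/
abbrev M := V × ZMod 3 × ZMod 2

/-- The cyclic shift. -/
def shift (i : ZMod 3) (a : V) : V := fun k => a (k - i)

/-- The reversal. -/
def flipV (e : ZMod 2) (a : V) : V := fun k => if e = 0 then a k else a (-k)

/-- The action of the reversal on the cyclic part. -/
def flipC (e : ZMod 2) (j : ZMod 3) : ZMod 3 := if e = 0 then j else -j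

/-- The product in coordinates. -/
def mmul (p q : M) : M :=
  (p.1 + shift p.2.1 (flipV p.2.2 q.1), p.2.1 + flipC p.2.2 q.2.1, p.2.2 + q.2.2)

/-- The relations. -/
structure Rel {H : Type*} [Group H] (v x t : H) : Prop where
  hv : v ^ 3 = 1
  hx : x ^ 3 = 1
  ht : t ^ 2 = 1
  htv : t * v * t⁻¹ = v
  htx : t * x * t⁻¹ = x⁻¹
  h01 : Commute v (x * v * x⁻¹)
  h02 : Commute v (x ^ 2 * v * (x ^ 2)⁻¹)
  h12 : Commute (x * v * x⁻¹) (x ^ 2 * v * (x ^ 2)⁻¹)

section generic

variable {H : Type*} [Group H] (v x t : H)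

/-- The vector part. -/
def iota (a : V) : H :=
  v ^ (a 0).val * (x * v * x⁻¹) ^ (a 1).val * (x ^ 2 * v * (x ^ 2)⁻¹) ^ (a 2).val

/-- The element with given coordinates. -/
def phi (p : M) : H := iota v x p.1 * x ^ p.2.1.val * t ^ p.2.2.val

theorem pow_val_add {y : H} {n : ℕ} [NeZero n] (hy : y ^ n = 1) (a b : ZMod n) :
    y ^ (a + b).val = y ^ a.val * y ^ b.val := by
  rw [← pow_add, ZMod.val_add]
  conv_rhs => rw [← Nat.div_add_mod (a.val + b.val) n, pow_add, pow_mul, hy, one_pow, one_mul]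

variable {v x t}

theorem conj3 {y g : H} (hy : y ^ 3 = 1) : (g * y * g⁻¹) ^ 3 = 1 := by simp [conj_pow, hy]

theorem iota_add (h : Rel v x t) (a b : V) : iota v x (a + b) = iota v x a * iota v x b := by
  simp only [iota, Pi.add_apply]
  rw [pow_val_add h.hv, pow_val_add (conj3 h.hv), pow_val_add (conj3 h.hv)]
  have e1 := (h.h01.pow_pow (b 0).val (a 1).val).eq
  have e2 := (h.h02.pow_pow (b 0).val (a 2).val).eq
  have e3 := (h.h12.pow_pow (b 1).val (a 2).val).eq
  generalize v ^ (a 0).val = A0, v ^ (b 0).val = B0, (x * v * x⁻¹) ^ (a 1).val = A1,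
    (x * v * x⁻¹) ^ (b 1).val = B1, (x ^ 2 * v * (x ^ 2)⁻¹) ^ (a 2).val = A2,
    (x ^ 2 * v * (x ^ 2)⁻¹) ^ (b 2).val = B2 at e1 e2 e3 ⊢
  calc A0 * B0 * (A1 * B1) * (A2 * B2) = A0 * (B0 * A1) * (B1 * A2) * B2 := by simp only [mul_assoc]
    _ = A0 * A1 * (B0 * A2) * B1 * B2 := by rw [e1, e3]; simp only [mul_assoc]
    _ = A0 * A1 * A2 * (B0 * B1 * B2) := by rw [e2]; simp only [mul_assoc]

theorem x_iota (h : Rel v x t) (a : V) : x * iota v x a = iota v x (shift 1 a) * x := by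
  have e0 : shift 1 a 0 = a 2 := congrArg a (by decide +kernel)
  have e1 : shift 1 a 1 = a 0 := congrArg a (by decide +kernel)
  have e2 : shift 1 a 2 = a 1 := congrArg a (by decide +kernel)
  have hc : x * iota v x a * x⁻¹ = (x * v * x⁻¹) ^ (a 0).val * (x ^ 2 * v * (x ^ 2)⁻¹) ^ (a 1).val *
      v ^ (a 2).val := by
    simp only [iota, conj_pow]
    have : x ^ 3 = 1 := h.hx
    calc x * (v ^ (a 0).val * (x * v ^ (a 1).val * x⁻¹) * (x ^ 2 * v ^ (a 2).val * (x ^ 2)⁻¹)) * x⁻¹
        = (x * v ^ (a 0).val * x⁻¹) * (x ^ 2 * v ^ (a 1).val * (x ^ 2)⁻¹) * (x ^ 3 * v ^ (a 2).val * (x ^ 3)⁻¹) := by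
          group
      _ = _ := by rw [this]; simp
  rw [eq_comm, ← eq_mul_inv_iff_mul_eq, hc]
  simp only [iota, e0, e1, e2]
  rw [mul_assoc (v ^ _)]
  have := (h.h01.pow_pow (a 2).val (a 0).val).mul_right (h.h02.pow_pow (a 2).val (a 1).val)
  exact this.eq

theorem xpow_iota (h : Rel v x t) : ∀ (n : ℕ) (a : V), x ^ n * iota v x a = iota v x (shift (n : ZMod 3) a) * x ^ n := by
  intro n
  induction n with
  | zero => intro a; rw [Nat.cast_zero, show shift 0 a = a from funext fun k => congrArg a (sub_zero k)]; simp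
  | succ n ih =>
    intro a
    have e : shift ((n : ZMod 3) + 1) a = shift 1 (shift (n : ZMod 3) a) := funext fun k => by
      simp only [shift]; rw [sub_sub, add_comm]
    rw [pow_succ', mul_assoc, ih, ← mul_assoc, x_iota h, mul_assoc, Nat.cast_succ, e]

theorem t_iota (h : Rel v x t) (e : ZMod 2) (a : V) :
    t ^ e.val * iota v x a = iota v x (flipV e a) * t ^ e.val := by
  have he : e = 0 ∨ e = 1 := by revert e; decide +kernel
  rcases he with rfl | rfl
  · rw [show flipV 0 a = a from funext fun k => if_pos rfl]; simp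
  have e1 : t * (x * v * x⁻¹) * t⁻¹ = x ^ 2 * v * (x ^ 2)⁻¹ := by
    have hx2 : x⁻¹ = x ^ 2 := inv_eq_of_mul_eq_one_right (by rw [← pow_succ']; exact h.hx)
    calc t * (x * v * x⁻¹) * t⁻¹ = (t * x * t⁻¹) * (t * v * t⁻¹) * (t * x * t⁻¹)⁻¹ := by group
      _ = _ := by rw [h.htx, h.htv, hx2]
  have e2 : t * (x ^ 2 * v * (x ^ 2)⁻¹) * t⁻¹ = x * v * x⁻¹ := by
    have hx2 : (x ^ 2)⁻¹ = x := inv_eq_of_mul_eq_one_right (by rw [← pow_succ]; exact h.hx)
    calc t * (x ^ 2 * v * (x ^ 2)⁻¹) * t⁻¹ = (t * x * t⁻¹) ^ 2 * (t * v * t⁻¹) * ((t * x * t⁻¹) ^ 2)⁻¹ := by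
          simp only [conj_pow]; group
      _ = _ := by rw [h.htx, h.htv, inv_pow, hx2]
  have f0 : flipV 1 a 0 = a 0 := by simp [flipV]
  have f1 : flipV 1 a 1 = a 2 := by
    simp only [flipV, if_neg (show ¬(1 : ZMod 2) = 0 by decide +kernel)]; exact congrArg a (by decide +kernel)
  have f2 : flipV 1 a 2 = a 1 := by
    simp only [flipV, if_neg (show ¬(1 : ZMod 2) = 0 by decide +kernel)]; exact congrArg a (by decide +kernel)
  rw [show (1 : ZMod 2).val = 1 from rfl, pow_one, eq_comm, ← eq_mul_inv_iff_mul_eq]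
  simp only [iota, f0, f1, f2]
  set w1 := x * v * x⁻¹
  set w2 := x ^ 2 * v * (x ^ 2)⁻¹
  calc v ^ (a 0).val * w1 ^ (a 2).val * w2 ^ (a 1).val
      = v ^ (a 0).val * (w2 ^ (a 1).val * w1 ^ (a 2).val) := by rw [mul_assoc, (h.h12.pow_pow _ _).eq]
    _ = (t * v * t⁻¹) ^ (a 0).val * ((t * w1 * t⁻¹) ^ (a 1).val * (t * w2 * t⁻¹) ^ (a 2).val) := by
          rw [h.htv, e1, e2]
    _ = t * (v ^ (a 0).val * w1 ^ (a 1).val * w2 ^ (a 2).val) * t⁻¹ := by
          simp only [conj_pow]; group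

theorem t_x (h : Rel v x t) (e : ZMod 2) (j : ZMod 3) :
    t ^ e.val * x ^ j.val = x ^ (flipC e j).val * t ^ e.val := by
  have he : e = 0 ∨ e = 1 := by revert e; decide +kernel
  rcases he with rfl | rfl
  · simp [flipC]
  rw [show (1 : ZMod 2).val = 1 from rfl, pow_one, show flipC 1 j = -j from rfl, eq_comm, ← eq_mul_inv_iff_mul_eq,
    ← conj_pow, h.htx, inv_pow]
  refine (inv_eq_of_mul_eq_one_right ?_).symm
  rw [← pow_val_add h.hx, add_neg_cancel, ZMod.val_zero, pow_zero]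

theorem phi_mul (h : Rel v x t) (p q : M) : phi v x t p * phi v x t q = phi v x t (mmul p q) := by
  obtain ⟨a, i, e⟩ := p
  obtain ⟨b, j, f⟩ := q
  simp only [phi, mmul]
  rw [iota_add h, pow_val_add h.hx, pow_val_add h.ht]
  have e1 := xpow_iota h i.val (flipV e b)
  rw [ZMod.natCast_zmod_val] at e1
  calc iota v x a * x ^ i.val * t ^ e.val * (iota v x b * x ^ j.val * t ^ f.val)
      = iota v x a * x ^ i.val * (t ^ e.val * iota v x b) * x ^ j.val * t ^ f.val := by simp only [mul_assoc]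
    _ = iota v x a * (x ^ i.val * iota v x (flipV e b)) * (t ^ e.val * x ^ j.val) * t ^ f.val := by
          rw [t_iota h]; simp only [mul_assoc]
    _ = _ := by rw [e1, t_x h]; simp only [mul_assoc]

end generic

/-- The product of the three cycles. -/
abbrev sig : Equiv.Perm (Fin 9) :=
  Equiv.swap (0 : Fin 9) 1 * Equiv.swap 1 2 * Equiv.swap 3 4 * Equiv.swap 4 5 * Equiv.swap 6 7 * Equiv.swap 7 8

/-- The first cycle. -/
def cv : Equiv.Perm (Fin 9) := Equiv.swap 0 1 * Equiv.swap 1 2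

/-- The rotation of the blocks. -/
def cx : Equiv.Perm (Fin 9) :=
  Equiv.swap 0 3 * Equiv.swap 3 6 * (Equiv.swap 1 4 * Equiv.swap 4 7) * (Equiv.swap 2 5 * Equiv.swap 5 8)

/-- The swap of two blocks. -/
def ct : Equiv.Perm (Fin 9) := Equiv.swap 3 6 * Equiv.swap 4 7 * Equiv.swap 5 8

theorem rel_perm : Rel cv cx ct :=
  ⟨by decide +kernel, by decide +kernel, by decide +kernel, by decide +kernel, by decide +kernel,
    by unfold Commute SemiconjBy; decide +kernel, by unfold Commute SemiconjBy; decide +kernel,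
    by unfold Commute SemiconjBy; decide +kernel⟩

/-- Reading off the coordinates. -/
def psi (p0 p1 p2 : Fin 9) : M :=
  let b0 : ZMod 3 := ((p0 : ℕ) / 3 : ℕ)
  let b1 : ZMod 3 := ((p1 : ℕ) / 3 : ℕ)
  let e : ZMod 2 := if b1 = b0 + 1 then 0 else 1
  (fun k => if k = b0 then ((p0 : ℕ) : ZMod 3) else if k = b1 then ((p1 : ℕ) : ZMod 3) else ((p2 : ℕ) : ZMod 3), b0, e)

theorem psi_phi : ∀ p : M, psi (phi cv cx ct p 0) (phi cv cx ct p 3) (phi cv cx ct p 6) = p := by decide +kernel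

theorem phi_psi : ∀ p0 p1 p2 : Fin 9, (p0 : ℕ) / 3 ≠ (p1 : ℕ) / 3 → (p0 : ℕ) / 3 ≠ (p2 : ℕ) / 3 →
    (p1 : ℕ) / 3 ≠ (p2 : ℕ) / 3 → phi cv cx ct (psi p0 p1 p2) 0 = p0 ∧ phi cv cx ct (psi p0 p1 p2) 3 = p1 ∧
      phi cv cx ct (psi p0 p1 p2) 6 = p2 := by decide +kernel

theorem phi_perm_mem (p : M) : phi cv cx ct p ∈ Subgroup.centralizer ({sig} : Set (Equiv.Perm (Fin 9))) := by
  have hv : cv ∈ Subgroup.centralizer ({sig} : Set (Equiv.Perm (Fin 9))) :=
    Subgroup.mem_centralizer_singleton_iff.mpr (by decide +kernel)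
  have hx : cx ∈ Subgroup.centralizer ({sig} : Set (Equiv.Perm (Fin 9))) :=
    Subgroup.mem_centralizer_singleton_iff.mpr (by decide +kernel)
  have ht : ct ∈ Subgroup.centralizer ({sig} : Set (Equiv.Perm (Fin 9))) :=
    Subgroup.mem_centralizer_singleton_iff.mpr (by decide +kernel)
  unfold phi iota
  refine mul_mem (mul_mem (mul_mem (mul_mem ?_ ?_) ?_) (pow_mem hx _)) (pow_mem ht _) <;> apply pow_mem
  · exact hv
  · exact mul_mem (mul_mem hx hv) (inv_mem hx)
  · exact mul_mem (mul_mem (pow_mem hx 2) hv) (inv_mem (pow_mem hx 2))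

theorem centralizer_apply {α : Type*} {g s : Equiv.Perm α} (h : g ∈ Subgroup.centralizer ({s} : Set (Equiv.Perm α)))
    (k : α) : g (s k) = s (g k) :=
  DFunLike.congr_fun (Subgroup.mem_centralizer_singleton_iff.mp h) k

theorem phi_perm_surj (g : Equiv.Perm (Fin 9)) (hg : g ∈ Subgroup.centralizer ({sig} : Set (Equiv.Perm (Fin 9)))) :
    ∃ p, phi cv cx ct p = g := by
  have hc := centralizer_apply hg
  have hb : ∀ a b : Fin 9, (a : ℕ) / 3 = (b : ℕ) / 3 → a = b ∨ a = sig b ∨ a = sig (sig b) := by decide +kernel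
  have hne : ∀ a b : Fin 9, a ≠ b ∧ a ≠ sig b ∧ a ≠ sig (sig b) → (g a : ℕ) / 3 ≠ (g b : ℕ) / 3 := by
    intro a b hab h
    rcases hb _ _ h with e | e | e
    · exact hab.1 (g.injective e)
    · exact hab.2.1 (g.injective (e.trans (hc b).symm))
    · rw [← hc, ← hc] at e; exact hab.2.2 (g.injective e)
  obtain ⟨e0, e3, e6⟩ := phi_psi (g 0) (g 3) (g 6) (hne 0 3 (by decide +kernel)) (hne 0 6 (by decide +kernel))
    (hne 3 6 (by decide +kernel))
  refine ⟨psi (g 0) (g 3) (g 6), ?_⟩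
  have hh := centralizer_apply (phi_perm_mem (psi (g 0) (g 3) (g 6)))
  generalize phi cv cx ct (psi (g 0) (g 3) (g 6)) = h at e0 e3 e6 hh ⊢
  have step : ∀ a b : Fin 9, sig a = b → h a = g a → h b = g b := by
    intro a b hab e
    rw [← hab, hh, e, hc]
  have s1 := step 0 1 (by decide +kernel) e0
  have s4 := step 3 4 (by decide +kernel) e3
  have s7 := step 6 7 (by decide +kernel) e6
  have s2 := step 1 2 (by decide +kernel) s1
  have s5 := step 4 5 (by decide +kernel) s4
  have s8 := step 7 8 (by decide +kernel) s7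
  ext k
  fin_cases k <;> simp only [Fin.isValue, Fin.zero_eta, Fin.mk_one, Fin.reduceFinMk, e0, s1, s2, e3, s4, s5, e6, s7, s8]

theorem sum_ne_cases : ∀ a : V, a 0 + a 1 + a 2 ≠ 0 → a + shift 1 a + shift 1 (shift 1 a) = (fun _ => 1) ∨
    (a + shift 1 a + shift 1 (shift 1 a)) + (a + shift 1 a + shift 1 (shift 1 a)) = (fun _ => 1) := by
  decide +kernel

theorem two_cases : ∀ e f : ZMod 2, e = f ∨ (e = 0 ∧ f = 1) ∨ (e = 1 ∧ f = 0) := by decide +kernel

theorem three_cases : ∀ k : ZMod 3, k = 0 ∨ k = 1 ∨ k = 2 := by decide +kernel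

theorem trivial_action {A : Type*} [CommGroup A] (τ χ : A →* A) (h3 : ∀ a : A, a ^ 3 = 1)
    (hx3 : ∀ a, χ (χ (χ a)) = a) (hc : ∀ a, τ (χ a) = χ (τ a)) (ht : ∀ a, τ (τ a) = a)
    (hfix : ∀ a, χ a = a → τ a = a) (a : A) : τ a = a := by
  have inv_fix : ∀ b : A, τ b = b⁻¹ → χ b = b → b = 1 := fun b hb hf => by
    have h2 : b * b = 1 := by
      nth_rewrite 2 [show b = b⁻¹ from (hfix b hf).symm.trans hb]
      exact mul_inv_cancel b
    have := h3 b
    rwa [pow_succ, pow_two, h2, one_mul] at this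
  set b := τ a * a⁻¹ with hb
  have hbi : τ b = b⁻¹ := by rw [hb, map_mul, map_inv, ht, mul_inv, inv_inv, mul_comm]
  clear_value b
  have hN : χ (χ b) * χ b * b = 1 := by
    apply inv_fix
    · rw [map_mul, map_mul, hc, hc, hbi, map_inv, map_inv, mul_inv, mul_inv]
    · rw [map_mul, map_mul, hx3]; ac_rfl
  have hD : χ b * b⁻¹ = 1 := by
    apply inv_fix
    · rw [map_mul, map_inv, hc, hbi, map_inv, inv_inv, mul_inv, inv_inv]
    · rw [map_mul, map_inv, mul_inv_eq_iff_eq_mul]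
      have e := h3 (χ b)
      calc χ (χ b) = χ (χ b) * χ b * b * ((χ b)⁻¹ * b⁻¹) := by
            rw [← mul_inv, mul_assoc _ (χ b) b, mul_inv_cancel_right]
        _ = (χ b)⁻¹ * b⁻¹ := by rw [hN, one_mul]
        _ = χ b * b⁻¹ * χ b := by
            rw [inv_eq_of_mul_eq_one_right (show χ b * (χ b) ^ 2 = 1 by rw [← pow_succ']; exact e), pow_two]
            ac_rfl
  exact mul_inv_eq_one.mp (hb.symm.trans (inv_fix b hbi (mul_inv_eq_one.mp hD)))

theorem exists_norm {A : Type*} [CommGroup A] [Finite A] (χ : A →* A) (h3 : ∀ a : A, a ^ 3 = 1)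
    (hA : Nat.card A = 27) (hker : Nat.card (χ * (MonoidHom.id A)⁻¹).ker ≤ 3) :
    ∃ a, a * χ a * χ (χ a) ≠ 1 := by
  by_contra h
  push Not at h
  have hran : (χ * (MonoidHom.id A)⁻¹).range ≤ (χ * (MonoidHom.id A)⁻¹).ker := by
    rintro _ ⟨a, rfl⟩
    show χ (χ a * a⁻¹) * (χ a * a⁻¹)⁻¹ = 1
    rw [map_mul, map_inv, mul_inv, inv_inv]
    have e : (χ a)⁻¹ * (χ a)⁻¹ = χ a := by
      rw [← mul_inv, inv_eq_iff_mul_eq_one, ← pow_two, ← pow_succ]; exact h3 _
    calc χ (χ a) * (χ a)⁻¹ * ((χ a)⁻¹ * a) = χ (χ a) * ((χ a)⁻¹ * (χ a)⁻¹) * a := by ac_rfl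
      _ = a * χ a * χ (χ a) := by rw [e]; ac_rfl
      _ = 1 := h a
  have h1 := (χ * (MonoidHom.id A)⁻¹).ker.card_mul_index
  rw [Subgroup.index_ker, hA] at h1
  have h2 := (Subgroup.card_le_of_le hran).trans hker
  have := Nat.mul_le_mul hker h2
  omega

theorem relation_cases : ∀ a : V, a 0 + a 1 + a 2 = 0 → a = 0 ∨ a = (fun _ => 1) ∨ a + a = (fun _ => 1) ∨
    a + (shift 1 a + shift 1 a) = (fun _ => 1) ∨ (a + (shift 1 a + shift 1 a)) + (a + (shift 1 a + shift 1 a)) = (fun _ => 1) := by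
  decide +kernel

theorem result {G : Type*} [Group G] [Finite G] (hG : Nat.card G = 162)
    (S : Sylow 3 G) (T : Sylow 2 G) (J : Subgroup G) [hJn : J.Normal] (hJcomm : IsMulCommutative J)
    (hJexp : ∀ a ∈ J, a ^ 3 = 1) (hJcard : Nat.card J = 27)
    (Z : Subgroup G) (hZ : Z = (S : Subgroup G) ⊓ Subgroup.centralizer ((S : Subgroup G) : Set G)) (hZcard : Nat.card Z = 3)
    (hZT : Z ≤ Subgroup.centralizer ((T : Subgroup G) : Set G))
    (hST : (S : Subgroup G) ⊓ Subgroup.centralizer ((T : Subgroup G) : Set G) ≠ S) :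
    Nonempty (G ≃* Subgroup.centralizer ({Equiv.swap (0 : Fin 9) 1 * Equiv.swap 1 2 * Equiv.swap 3 4 * Equiv.swap 4 5 * Equiv.swap 6 7 * Equiv.swap 7 8} : Set (Equiv.Perm (Fin 9)))) := by
  classical
  have : Fact (Nat.Prime 3) := ⟨Nat.prime_three⟩
  have : Fact (Nat.Prime 2) := ⟨Nat.prime_two⟩
  have hJS : J ≤ (S : Subgroup G) := by
    obtain ⟨Q, hQ⟩ := (IsPGroup.of_card (n := 3) (by rw [hJcard]; norm_num) : IsPGroup 3 J).exists_le_sylow
    obtain ⟨g, rfl⟩ := MulAction.exists_smul_eq G Q S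
    intro a ha
    rw [Sylow.coe_subgroup_smul, Subgroup.mem_pointwise_smul_iff_inv_smul_mem]
    apply hQ
    simpa [MulAut.smul_def] using hJn.conj_mem a ha g⁻¹
  have hScard : Nat.card (S : Subgroup G) = 81 := by
    rw [S.card_eq_multiplicity, hG, show (162 : ℕ) = 2 ^ 1 * 3 ^ 4 by norm_num,
      Nat.factorization_mul (by norm_num) (by norm_num), Nat.Prime.factorization_pow Nat.prime_two,
      Nat.Prime.factorization_pow Nat.prime_three]
    simp
  have hTcard : Nat.card (T : Subgroup G) = 2 := by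
    rw [T.card_eq_multiplicity, hG, show (162 : ℕ) = 2 ^ 1 * 3 ^ 4 by norm_num,
      Nat.factorization_mul (by norm_num) (by norm_num), Nat.Prime.factorization_pow Nat.prime_two,
      Nat.Prime.factorization_pow Nat.prime_three]
    simp
  have hSn : (S : Subgroup G).Normal := by
    apply Subgroup.normal_of_index_eq_two
    have := (S : Subgroup G).card_mul_index
    rw [hScard, hG] at this
    omega
  obtain ⟨t0, hTgen⟩ := (isCyclic_of_prime_card hTcard).exists_generator
  set t : G := (t0 : G) with htdef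
  have ht2 : t ^ 2 = 1 := by
    have : t0 ^ Nat.card (T : Subgroup G) = 1 := pow_card_eq_one'
    rw [hTcard] at this
    exact congrArg Subtype.val this
  have hti : t⁻¹ = t := inv_eq_of_mul_eq_one_right (by rw [← pow_two]; exact ht2)
  have hTC : ∀ g : G, Commute t g → g ∈ Subgroup.centralizer ((T : Subgroup G) : Set G) := by
    intro g hg
    rw [Subgroup.mem_centralizer_iff]
    intro k hk
    obtain ⟨n, hn⟩ := Subgroup.mem_zpowers_iff.mp (hTgen ⟨k, hk⟩)
    rw [← show t ^ n = k from congrArg Subtype.val hn]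
    exact hg.zpow_left n
  have htZ : ∀ a ∈ Z, Commute t a := fun a ha =>
    Subgroup.mem_centralizer_iff.mp (hZT ha) t t0.2
  -- the abelian normal subgroup
  letI : CommGroup J := { (inferInstance : Group J) with mul_comm := fun a b => hJcomm.is_comm.comm a b }
  have h3 : ∀ a : J, a ^ 3 = 1 := fun a => Subtype.ext (hJexp a a.2)
  have hJc : ∀ a ∈ J, ∀ b ∈ J, Commute a b := fun a ha b hb =>
    congrArg Subtype.val (mul_comm (⟨a, ha⟩ : J) ⟨b, hb⟩)
  let c : G → J →* J := fun g =>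
    { toFun := fun a => ⟨g * a * g⁻¹, hJn.conj_mem a a.2 g⟩
      map_one' := Subtype.ext (by simp)
      map_mul' := fun a b => Subtype.ext (by simp [mul_assoc]) }
  have cc : ∀ g g' a, c (g * g') a = c g (c g' a) := fun g g' a => Subtype.ext (by simp [c, mul_assoc])
  have cJ : ∀ g ∈ J, ∀ a, c g a = a := fun g hg a => Subtype.ext (by
    show g * a * g⁻¹ = a
    rw [(hJc g hg a a.2).eq, mul_inv_cancel_right])
  have gen : ∀ x ∈ (S : Subgroup G), x ∉ J → ∀ K : Subgroup G, J ≤ K → x ∈ K → (S : Subgroup G) ≤ K := by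
    intro x hxS hxJ K hJK hxK
    have hle : J ≤ (S : Subgroup G) ⊓ K := le_inf hJS hJK
    obtain ⟨i, hi, hcard⟩ := (Nat.dvd_prime_pow Nat.prime_three).mp
      (show Nat.card ↥((S : Subgroup G) ⊓ K) ∣ 3 ^ 4 by
        have := Subgroup.card_dvd_of_le (inf_le_left : (S : Subgroup G) ⊓ K ≤ S)
        rwa [hScard] at this)
    have hlt : 27 < Nat.card ↥((S : Subgroup G) ⊓ K) := by
      by_contra hh
      push Not at hh
      have := Subgroup.eq_of_le_of_card_ge hle (by rw [hJcard]; exact hh)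
      exact hxJ (this ▸ ⟨hxS, hxK⟩)
    have : i = 4 := by interval_cases i <;> simp_all
    subst this
    have := Subgroup.eq_of_le_of_card_ge (inf_le_left : (S : Subgroup G) ⊓ K ≤ S)
      (by rw [hcard, hScard]; norm_num)
    exact this ▸ inf_le_right
  have fixZ : ∀ x ∈ (S : Subgroup G), x ∉ J → ∀ a : J, c x a = a → (a : G) ∈ Z := by
    intro x hxS hxJ a ha
    rw [hZ]
    refine ⟨hJS a.2, Subgroup.mem_centralizer_iff.mpr fun y hy => ?_⟩
    refine Subgroup.mem_centralizer_singleton_iff.mp (gen x hxS hxJ (Subgroup.centralizer {(a : G)})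
      (fun b hb => Subgroup.mem_centralizer_singleton_iff.mpr (hJc b hb a a.2).eq)
      (Subgroup.mem_centralizer_singleton_iff.mpr ?_) hy)
    exact mul_inv_eq_iff_eq_mul.mp (congrArg Subtype.val ha)
  have fix2 : ∀ a : J, a ^ 2 = 1 → a = 1 := fun a ha => by
    have := h3 a
    rwa [pow_succ, ha, one_mul] at this
  have htJ : ∀ x ∈ (S : Subgroup G), x ∉ J → ∀ a : J, c x a = a → c t a = a := fun x hxS hxJ a ha =>
    Subtype.ext (by
      show t * a * t⁻¹ = a
      rw [(htZ _ (fixZ x hxS hxJ a ha)).eq, mul_inv_cancel_right])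
  have hpow3 : ∀ x ∈ (S : Subgroup G), x ^ 3 ∈ J := by
    intro x hxS
    have hidx : (J.subgroupOf (S : Subgroup G)).index = 3 := by
      have := (J.subgroupOf (S : Subgroup G)).card_mul_index
      rw [Nat.card_congr (Subgroup.subgroupOfEquivOfLe hJS).toEquiv, hJcard, hScard] at this
      omega
    have := Subgroup.pow_index_mem (J.subgroupOf (S : Subgroup G)) ⟨x, hxS⟩
    rw [hidx] at this
    simpa [Subgroup.mem_subgroupOf] using this
  -- the involution inverts some coset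
  have key : ∀ x ∈ (S : Subgroup G), x ∉ J → x⁻¹ * (t * x * t⁻¹) ∉ J := by
    intro x hxS hxJ hbad
    set j : G := x⁻¹ * (t * x * t⁻¹)
    have hc : ∀ a, c t (c x a) = c x (c t a) := fun a => by
      rw [← cc, ← cc, show t * x = x * j * t by simp [j], cc (x * j), cc x j, cJ j hbad, ← cc]
    have hx3 : ∀ a, c x (c x (c x a)) = a := fun a => by
      rw [← cc, ← cc, show x * x * x = x ^ 3 by simp [pow_succ, mul_assoc], cJ _ (hpow3 x hxS)]
    have htJ' : ∀ a : J, c t a = a :=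
      trivial_action (c t) (c x) h3 hx3 hc (fun a => by rw [← cc, ← pow_two, ht2]; exact cJ 1 J.one_mem a)
        (htJ x hxS hxJ)
    have hjt : t * j * t⁻¹ = j := congrArg Subtype.val (htJ' ⟨j, hbad⟩)
    have hj2 : (⟨j, hbad⟩ : J) ^ 2 = 1 := Subtype.ext (by
      have : t * (t * x * t⁻¹) * t⁻¹ = x := by
        rw [hti, show t * (t * x * t) * t = (t * t) * x * (t * t) by group, ← pow_two, ht2, one_mul, mul_one]
      rw [show t * x * t⁻¹ = x * j by simp [j]] at this
      rw [show t * (x * j) * t⁻¹ = (t * x * t⁻¹) * (t * j * t⁻¹) by group, hjt,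
        show t * x * t⁻¹ = x * j by simp [j], mul_assoc, mul_eq_left, ← pow_two] at this
      exact this)
    have hj1 : j = 1 := congrArg Subtype.val (fix2 _ hj2)
    have htx : Commute t x := mul_inv_eq_iff_eq_mul.mp (inv_mul_eq_one.mp hj1).symm
    refine hST (inf_eq_left.mpr ?_)
    refine gen x hxS hxJ _ (fun a ha => hTC a ?_) (hTC x htx)
    exact mul_inv_eq_iff_eq_mul.mp (congrArg Subtype.val (htJ' ⟨a, ha⟩))
  obtain ⟨y, hyS, hyJ⟩ : ∃ y ∈ (S : Subgroup G), y ∉ J := by
    by_contra h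
    push Not at h
    have := Subgroup.card_le_of_le (show (S : Subgroup G) ≤ J from h)
    omega
  set x : G := y⁻¹ * (t * y * t⁻¹) with hxdef
  have hxS : x ∈ (S : Subgroup G) := mul_mem (inv_mem hyS) (hSn.conj_mem y hyS t)
  have hxJ : x ∉ J := key y hyS hyJ
  have htx : t * x * t⁻¹ = x⁻¹ := by
    rw [hxdef, mul_inv_rev, mul_inv_rev, mul_inv_rev, inv_inv, inv_inv, hti]
    calc t * (y⁻¹ * (t * y * t)) * t = t * y⁻¹ * t * y * (t * t) := by group
      _ = _ := by rw [← pow_two, ht2, mul_one]; group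
  have hx3 : x ^ 3 = 1 := by
    have hfix : c x ⟨x ^ 3, hpow3 x hxS⟩ = ⟨x ^ 3, hpow3 x hxS⟩ := Subtype.ext (by
      show x * x ^ 3 * x⁻¹ = x ^ 3
      group)
    have h1 := congrArg Subtype.val (htJ x hxS hxJ _ hfix)
    have h2 : (⟨x ^ 3, hpow3 x hxS⟩ : J) ^ 2 = 1 := Subtype.ext (by
      show (x ^ 3) ^ 2 = 1
      change t * x ^ 3 * t⁻¹ = x ^ 3 at h1
      rw [← conj_pow, htx, inv_pow] at h1
      rw [pow_two]; nth_rewrite 1 [← h1]; exact inv_mul_cancel _)
    exact congrArg Subtype.val (fix2 _ h2)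
  have hx3' : ∀ a, c x (c x (c x a)) = a := fun a => by
    rw [← cc, ← cc, show x * x * x = x ^ 3 by simp [pow_succ, mul_assoc], hx3]; exact cJ 1 J.one_mem a
  let N : J → J := fun a => a * c x a * c x (c x a)
  have hNfix : ∀ a, c x (N a) = N a := fun a => by simp only [N, map_mul, hx3']; ac_rfl
  obtain ⟨v0, hv0⟩ : ∃ v0, N v0 ≠ 1 := by
    refine exists_norm (c x) h3 hJcard ?_
    rw [← hZcard]
    refine Nat.card_le_card_of_injective
      (fun a => (⟨((a : J) : G), fixZ x hxS hxJ _ (mul_inv_eq_one.mp a.2)⟩ : Z)) ?_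
    intro a b e
    exact Subtype.ext (Subtype.ext (congrArg (fun z : Z => (z : G)) e))
  have hctx : ∀ a, c t (c x a) = c x (c x (c t a)) := fun a => by
    rw [← cc, show t * x = x * x * t from ?_, cc, cc]
    have hxi : x⁻¹ = x * x := inv_eq_of_mul_eq_one_right (by rw [← mul_assoc, ← pow_two, ← pow_succ]; exact hx3)
    rw [← hxi, ← htx, inv_mul_cancel_right]
  obtain ⟨vJ, hvt, hvN⟩ : ∃ vJ : J, c t vJ = vJ ∧ N vJ ≠ 1 := by
    refine ⟨v0 * c t v0, ?_, ?_⟩
    · rw [map_mul, ← cc, ← pow_two, ht2, cJ 1 J.one_mem, mul_comm]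
    · have hNt : N (c t v0) = N v0 := by
        have := htJ x hxS hxJ _ (hNfix v0)
        rw [← this]
        simp only [N, map_mul, hctx, hx3']
        ac_rfl
      have hmul : N (v0 * c t v0) = N v0 * N (c t v0) := by simp only [N, map_mul]; ac_rfl
      rw [hmul, hNt, ← pow_two]
      exact fun e => hv0 (fix2 _ e)
  set v : G := (vJ : G) with hvdef
  have hx2v : x ^ 2 * v * (x ^ 2)⁻¹ ∈ J := hJn.conj_mem v vJ.2 _
  have hxv : x * v * x⁻¹ ∈ J := hJn.conj_mem v vJ.2 _
  have hR : Rel v x t := ⟨hJexp v vJ.2, hx3, ht2, congrArg Subtype.val hvt, htx,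
    hJc v vJ.2 _ hxv, hJc v vJ.2 _ hx2v, hJc _ hxv _ hx2v⟩
  have iota_mem : ∀ a, iota v x a ∈ J := fun a => by
    unfold iota
    exact mul_mem (mul_mem (pow_mem vJ.2 _) (pow_mem hxv _)) (pow_mem hx2v _)
  have iota_zero : iota v x (0 : V) = 1 := by simp [iota]
  have iota_ones : iota v x (fun _ => 1) ≠ 1 := fun e => hvN (Subtype.ext (by
    simp only [iota, show (1 : ZMod 3).val = 1 from rfl, pow_one] at e
    show v * (x * v * x⁻¹) * (x * (x * v * x⁻¹) * x⁻¹) = 1
    rw [show x * (x * v * x⁻¹) * x⁻¹ = x ^ 2 * v * (x ^ 2)⁻¹ by simp [pow_two, mul_assoc]]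
    exact e))
  have iota_ker : ∀ a, iota v x a = 1 → a = 0 := by
    intro a ha
    have hsh : iota v x (shift 1 a) = 1 := by
      have := x_iota hR a
      rw [ha, mul_one] at this
      exact mul_eq_right.mp this.symm
    have hsum : a 0 + a 1 + a 2 = 0 := by
      by_contra hne
      refine iota_ones ?_
      have hsh2 : iota v x (shift 1 (shift 1 a)) = 1 := by
        have := x_iota hR (shift 1 a)
        rw [hsh, mul_one] at this
        exact mul_eq_right.mp this.symm
      have hs : iota v x (a + shift 1 a + shift 1 (shift 1 a)) = 1 := by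
        rw [iota_add hR, iota_add hR, ha, hsh, hsh2, one_mul, one_mul]
      rcases sum_ne_cases a hne with e | e
      · rw [← e]; exact hs
      · rw [← e, iota_add hR, hs, one_mul]
    rcases relation_cases a hsum with e | e | e | e | e
    · exact e
    all_goals (exfalso; apply iota_ones; rw [← e]; simp only [iota_add hR, ha, hsh, one_mul])
  have phiG_inj : Function.Injective (phi v x t) := by
    rintro ⟨a, i, e⟩ ⟨b, j, f⟩ h
    simp only [phi] at h
    have hS1 : ∀ a (i : ZMod 3), iota v x a * x ^ i.val ∈ (S : Subgroup G) := fun a i =>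
      mul_mem (hJS (iota_mem a)) (pow_mem hxS _)
    have htS : t ∉ (S : Subgroup G) := fun hmem => by
      have h1 : orderOf t ∣ 81 := hScard ▸ Subgroup.orderOf_dvd_natCard _ hmem
      have h2 : orderOf t ∣ 2 := orderOf_dvd_of_pow_eq_one ht2
      have h1' : orderOf t = 1 := Nat.dvd_one.mp ((show Nat.gcd 81 2 = 1 by norm_num) ▸ Nat.dvd_gcd h1 h2)
      have e1 : t = 1 := orderOf_eq_one_iff.mp h1'
      exact hST (inf_eq_left.mpr fun g _ => hTC g (e1 ▸ Commute.one_left g))
    have hef : e = f := by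
      rcases two_cases e f with r | ⟨rfl, rfl⟩ | ⟨rfl, rfl⟩
      · exact r
      · exfalso; simp only [ZMod.val_zero, pow_zero, mul_one, show (1 : ZMod 2).val = 1 from rfl, pow_one] at h
        exact htS ((Subgroup.mul_mem_cancel_left _ (hS1 b j)).mp (h ▸ hS1 a i))
      · exfalso; simp only [ZMod.val_zero, pow_zero, mul_one, show (1 : ZMod 2).val = 1 from rfl, pow_one] at h
        exact htS ((Subgroup.mul_mem_cancel_left _ (hS1 a i)).mp (h.symm ▸ hS1 b j))
    subst hef
    have h' := mul_right_cancel h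
    have hij : i = j := by
      have hm : x ^ i.val * (x ^ j.val)⁻¹ ∈ J := by
        rw [show x ^ i.val * (x ^ j.val)⁻¹ = (iota v x a)⁻¹ * (iota v x b) by
          rw [eq_inv_mul_iff_mul_eq, ← mul_assoc, h', mul_inv_cancel_right]]
        exact mul_mem (inv_mem (iota_mem a)) (iota_mem b)
      have hji : x ^ (i - j).val ∈ J := by
        have := pow_val_add hx3 (i - j) j
        rw [sub_add_cancel] at this
        rwa [this, mul_inv_cancel_right] at hm
      rcases three_cases (i - j) with r | r | r <;> rw [r] at hji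
      · exact sub_eq_zero.mp r
      · exact absurd (by simpa [show (1 : ZMod 3).val = 1 from rfl] using hji) hxJ
      · rw [show (2 : ZMod 3).val = 2 from rfl] at hji
        refine absurd ?_ hxJ
        have : x = (x ^ 2)⁻¹ := (inv_eq_of_mul_eq_one_right (by rw [← pow_succ]; exact hx3)).symm
        rw [this]; exact inv_mem hji
    subst hij
    have h'' := mul_right_cancel h'
    have : iota v x (a - b) = 1 := by
      have := iota_add hR (a - b) b
      rw [sub_add_cancel, h''] at this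
      exact mul_eq_right.mp this.symm
    rw [sub_eq_zero.mp (iota_ker _ this)]
  have hMcard : Nat.card M = 162 := by simp [Nat.card_eq_fintype_card]
  have phiG_bij : Function.Bijective (phi v x t) :=
    (Nat.bijective_iff_injective_and_card _).mpr ⟨phiG_inj, hMcard.trans hG.symm⟩
  let ψ : M → Subgroup.centralizer ({sig} : Set (Equiv.Perm (Fin 9))) := fun p => ⟨phi cv cx ct p, phi_perm_mem p⟩
  have ψ_bij : Function.Bijective ψ := by
    refine ⟨fun p q h => ?_, fun g => ?_⟩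
    · have h' : phi cv cx ct p = phi cv cx ct q := congrArg Subtype.val h
      rw [← psi_phi p, h', psi_phi q]
    · obtain ⟨p, hp⟩ := phi_perm_surj g g.2
      exact ⟨p, Subtype.ext hp⟩
  let E := (Equiv.ofBijective _ phiG_bij).symm.trans (Equiv.ofBijective ψ ψ_bij)
  refine ⟨⟨E, fun g g' => ?_⟩⟩
  obtain ⟨p, rfl⟩ := phiG_bij.2 g
  obtain ⟨q, rfl⟩ := phiG_bij.2 g'
  have hE : ∀ r, E (phi v x t r) = ψ r := fun r => by
    simp only [E, Equiv.trans_apply]
    rw [Equiv.ofBijective_symm_apply_apply]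
    rfl
  show E (phi v x t p * phi v x t q) = E _ * E _
  rw [phi_mul hR, hE, hE, hE]
  exact Subtype.ext (phi_mul rel_perm p q).symm

end Cfsg.Agent.S3376
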