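import Cfsg.Statements.S3377
import Cfsg.Agent.H66.AltFive

set_option autoImplicit false
open Cfsg

namespace Cfsg.Agent.S3377

theorem result :
    Nonempty (PresentedGroup ({FreeGroup.of (0 : Fin 2) ^ 3, FreeGroup.of (1 : Fin 2) ^ 5,
        (FreeGroup.of (0 : Fin 2) * FreeGroup.of 1) ^ 2} : Set (FreeGroup (Fin 2))) ≃* alternatingGroup (Fin 5)) := by
  set rels := ({FreeGroup.of (0 : Fin 2) ^ 3, FreeGroup.of (1 : Fin 2) ^ 5,
    (FreeGroup.of (0 : Fin 2) * FreeGroup.of 1) ^ 2} : Set (FreeGroup (Fin 2))) with hrels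
  let f : Fin 2 → alternatingGroup (Fin 5) := ![H66.x5, H66.y5]
  have hf : ∀ r ∈ rels, FreeGroup.lift f r = 1 := by
    rintro r (rfl | rfl | rfl)
    · simpa [f] using H66.x5_pow
    · simpa [f] using H66.y5_pow
    · simpa [f] using H66.x5y5_pow
  let φ := PresentedGroup.toGroup hf
  have hrel : ∀ r ∈ rels, PresentedGroup.mk rels r = 1 := fun r hr => PresentedGroup.one_of_mem hr
  obtain ⟨hfin, hle⟩ := H66.card_triangle235_le (PresentedGroup.of (rels := rels) 0) (PresentedGroup.of 1)
    (by simpa [PresentedGroup.of] using hrel _ (Or.inl rfl))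
    (by simpa [PresentedGroup.of] using hrel _ (Or.inr (Or.inl rfl)))
    (by simpa [PresentedGroup.of] using hrel _ (Or.inr (Or.inr rfl)))
    (by
      rw [← PresentedGroup.closure_range_of rels]
      congr 1
      ext g
      simp [Fin.exists_fin_two, eq_comm])
  have hsur : Function.Surjective φ := by
    rw [← MonoidHom.range_eq_top, eq_top_iff, ← H66.closure_x5_y5, Subgroup.closure_le]
    rintro g (rfl | rfl)
    · exact ⟨PresentedGroup.of 0, by simp [φ, f]⟩
    · exact ⟨PresentedGroup.of 1, by simp [φ, f]⟩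
  have h60 : Nat.card (alternatingGroup (Fin 5)) = 60 := by
    rw [nat_card_alternatingGroup, Nat.card_fin]; rfl
  have hbij : Function.Bijective φ :=
    (Nat.bijective_iff_surjective_and_card φ).mpr
      ⟨hsur, le_antisymm (h60.symm ▸ hle) (Nat.card_le_card_of_surjective φ hsur)⟩
  exact ⟨MulEquiv.ofBijective φ hbij⟩

end Cfsg.Agent.S3377
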