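import Cfsg.Statements.S3379

set_option autoImplicit false
open Cfsg
open scoped commutatorElement

namespace Cfsg.Agent.S3379

theorem result {G : Type*} [Group G] [Finite G]
    (hZ : ∀ (p : ℕ) [Fact p.Prime] (P : Sylow p G), IsCyclic (P : Subgroup G)) :
    ∃ (x y : G) (n m r : ℕ), Subgroup.closure {x, y} = ⊤ ∧ orderOf x = n ∧ orderOf y = m ∧
      x⁻¹ * y * x = y ^ r ∧ Nat.Coprime (r - 1) m ∧ Nat.Coprime n m ∧ 1 ≤ r ∧ r ^ n % m = 1 % m := by
  have hG : IsZGroup G := ⟨fun p hp P => @hZ p ⟨hp⟩ P⟩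
  obtain ⟨H, hH⟩ := Subgroup.exists_right_complement'_of_coprime hG.coprime_commutator_index
  have := IsZGroup.isCyclic_commutator G
  have : IsCyclic H := by
    have h1 : Abelianization G ≃* H := hH.symm.QuotientMulEquiv
    exact isCyclic_of_surjective _ h1.surjective
  obtain ⟨y, hy⟩ := (commutator G).isCyclic_iff_exists_zpowers_eq_top.mp ‹_›
  obtain ⟨x, hx⟩ := H.isCyclic_iff_exists_zpowers_eq_top.mp ‹_›
  -- every conjugate of `y` is a power of `y`
  have hconj : ∀ g : G, ∃ k : ℕ, g * y * g⁻¹ = y ^ k := by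
    intro g
    have hm : g * y * g⁻¹ ∈ Subgroup.zpowers y := by
      rw [hy]
      refine Subgroup.Normal.conj_mem inferInstance y ?_ g
      rw [← hy]
      exact Subgroup.mem_zpowers y
    obtain ⟨k, hk⟩ := Submonoid.mem_powers_iff _ _ |>.mp (mem_powers_iff_mem_zpowers.mpr hm)
    exact ⟨k, hk.symm⟩
  obtain ⟨r₀, hr₀⟩ := hconj x⁻¹
  refine ⟨x, y, orderOf x, orderOf y, r₀ + orderOf y, ?_, rfl, rfl, ?_, ?_, ?_, ?_, ?_⟩
  · apply top_unique
    rw [← hH.sup_eq_top, ← hx, ← hy]
    refine sup_le ?_ ?_ <;> rw [Subgroup.zpowers_le] <;> apply Subgroup.subset_closure <;> simp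
  · rw [pow_add, pow_orderOf_eq_one, mul_one, ← hr₀, inv_inv]
  · set r := r₀ + orderOf y with hr
    have hxy : x⁻¹ * y * x = y ^ r := by
      rw [hr, pow_add, pow_orderOf_eq_one, mul_one, ← hr₀, inv_inv]
    have hr1 : 1 ≤ r := le_add_left (Nat.one_le_iff_ne_zero.mpr (orderOf_pos y).ne')
    have hMn : (Subgroup.zpowers (y ^ (r - 1))).Normal := by
      constructor
      intro a ha g
      obtain ⟨j, rfl⟩ := ha
      obtain ⟨k, hk⟩ := hconj g
      show g * (y ^ (r - 1)) ^ j * g⁻¹ ∈ _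
      rw [← conj_zpow, ← conj_pow, hk, ← pow_mul, mul_comm k, pow_mul]
      exact Subgroup.zpow_mem _ (Subgroup.pow_mem _ (Subgroup.mem_zpowers _) k) j
    have hc : Commute (QuotientGroup.mk' (Subgroup.zpowers (y ^ (r - 1))) x)
        (QuotientGroup.mk' (Subgroup.zpowers (y ^ (r - 1))) y) := by
      rw [Commute, SemiconjBy, ← map_mul, ← map_mul]
      refine (QuotientGroup.mk'_eq_mk' _).mpr ⟨y ^ (r - 1), Subgroup.mem_zpowers _, ?_⟩
      have h1 : y ^ (r - 1) = y⁻¹ * (x⁻¹ * y * x) := by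
        rw [hxy, eq_inv_mul_iff_mul_eq, ← pow_succ', Nat.sub_add_cancel hr1]
      rw [h1]
      group
    have hle : commutator G ≤ Subgroup.zpowers (y ^ (r - 1)) := by
      set q := QuotientGroup.mk' (Subgroup.zpowers (y ^ (r - 1))) with hq
      have hgen : (⊤ : Subgroup G).map q ≤ Subgroup.closure {q x, q y} := by
        rw [← hH.sup_eq_top, Subgroup.map_sup, ← hx, ← hy, MonoidHom.map_zpowers, MonoidHom.map_zpowers]
        refine sup_le ?_ ?_ <;> rw [Subgroup.zpowers_le] <;> apply Subgroup.subset_closure <;> simp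
      have hcomm : IsMulCommutative (Subgroup.closure {q x, q y}) := Subgroup.isMulCommutative_closure (by
        rintro a (rfl | rfl) b (rfl | rfl)
        exacts [rfl, hc, hc.symm, rfl])
      rw [commutator_def, Subgroup.commutator_le]
      intro a _ b _
      have hab := congrArg Subtype.val (hcomm.is_comm.comm ⟨q a, hgen ⟨a, trivial, rfl⟩⟩ ⟨q b, hgen ⟨b, trivial, rfl⟩⟩)
      have : q ⁅a, b⁆ = 1 := by
        rw [map_commutatorElement, commutatorElement_eq_one_iff_mul_comm]
        exact hab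
      exact (QuotientGroup.eq_one_iff _).mp this
    have hyM : Subgroup.zpowers y ≤ Subgroup.zpowers (y ^ (r - 1)) := hy ▸ hle
    have := Subgroup.card_dvd_of_le hyM
    rw [Nat.card_zpowers, Nat.card_zpowers, orderOf_pow] at this
    have h3 : Nat.gcd (orderOf y) (r - 1) = 1 := by
      have hd : Nat.gcd (orderOf y) (r - 1) ∣ orderOf y := Nat.gcd_dvd_left _ _
      have hle' := Nat.le_of_dvd (Nat.div_pos (Nat.le_of_dvd (orderOf_pos y) hd) (Nat.pos_of_dvd_of_pos hd (orderOf_pos y))) this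
      by_contra hne
      have := Nat.pos_of_dvd_of_pos hd (orderOf_pos y)
      exact absurd hle' (not_le.mpr (Nat.div_lt_self (orderOf_pos y) (by omega)))
    rw [Nat.coprime_comm]
    exact h3
  · have h := hG.coprime_commutator_index
    rw [← hy, Nat.card_zpowers, hy, hH.symm.index_eq_card, ← hx, Nat.card_zpowers] at h
    exact h.symm
  · exact le_add_left (Nat.one_le_iff_ne_zero.mpr (orderOf_pos y).ne')
  · have hxy : x⁻¹ * y * x = y ^ (r₀ + orderOf y) := by
      rw [pow_add, pow_orderOf_eq_one, mul_one, ← hr₀, inv_inv]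
    have hn : ∀ n : ℕ, (x ^ n)⁻¹ * y * x ^ n = y ^ ((r₀ + orderOf y) ^ n) := by
      intro n
      induction n with
      | zero => simp
      | succ n ih =>
        have : (x ^ (n + 1))⁻¹ * y * x ^ (n + 1) = x⁻¹ * ((x ^ n)⁻¹ * y * x ^ n) * x := by group
        rw [this, ih, pow_succ' _ n, pow_mul, ← hxy]
        have := (conj_pow (i := (r₀ + orderOf y) ^ n) (a := x⁻¹) (b := y))
        rw [inv_inv] at this
        exact this.symm
    have h := hn (orderOf x)
    simp only [pow_orderOf_eq_one, inv_one, one_mul, mul_one] at h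
    exact (pow_inj_mod (x := y)).mp ((pow_one y).trans h).symm

end Cfsg.Agent.S3379
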