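import Cfsg.Statements.S3380
import Cfsg.Agent.PGroups.Basic
import Cfsg.Agent.PGroups.NormalSq
import Cfsg.Agent.PGroups.TwoGroups
import Cfsg.Agent.S0016

set_option autoImplicit false
open Cfsg

namespace Cfsg.Agent.S3380

/-- A power sum. -/
def psum {G V : Type*} [Group G] [AddCommGroup V] {q : ℕ} [Module (ZMod q) V] (ρ : G →* (V ≃ₗ[ZMod q] V))
    (p : ℕ) (x : G) (v : V) : V :=
  ∑ k ∈ Finset.range p, ρ (x ^ k) v

theorem psum_fixed {G V : Type*} [Group G] [AddCommGroup V] {q : ℕ} [Module (ZMod q) V] (ρ : G →* (V ≃ₗ[ZMod q] V))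
    {p : ℕ} {x : G} (hx : x ^ p = 1) (v : V) : ρ x (psum ρ p x v) = psum ρ p x v := by
  unfold psum
  rw [map_sum]
  simp only [← LinearEquiv.mul_apply, ← map_mul, ← pow_succ']
  have h1 := Finset.sum_range_succ' (fun k => ρ (x ^ k) v) p
  have h2 := Finset.sum_range_succ (fun k => ρ (x ^ k) v) p
  rw [h2] at h1
  simp only [pow_zero, hx] at h1
  exact (add_right_cancel h1).symm

theorem pow_val_add {H : Type*} [Monoid H] {y : H} {n : ℕ} [NeZero n] (hy : y ^ n = 1) (a b : ZMod n) :
    y ^ (a + b).val = y ^ a.val * y ^ b.val := by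
  rw [← pow_add, ZMod.val_add]
  conv_rhs => rw [← Nat.div_add_mod (a.val + b.val) n, pow_add, pow_mul, hy, one_pow, one_mul]

/-- A non-cyclic p-group outside the exceptional classes has a normal elementary abelian subgroup of order p². -/
theorem exists_normal_sq {G : Type*} [Group G] [Finite G] (p : ℕ) [Fact p.Prime] (hG : IsPGroup p G)
    (hnc : ¬ IsCyclic G) (hnq : ∀ n : ℕ, ¬ Nonempty (G ≃* QuaternionGroup n))
    (hnd : ∀ n : ℕ, ¬ Nonempty (G ≃* DihedralGroup n)) (hnsd : ¬ Cfsg.IsQuasiDihedral G) :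
    ∃ U : Subgroup G, U.Normal ∧ (∀ a ∈ U, ∀ b ∈ U, a * b = b * a) ∧ (∀ a ∈ U, a ^ p = 1) ∧
      Nat.card U = p ^ 2 := by
  have hp : p.Prime := Fact.out
  by_cases hp2 : p = 2
  · subst hp2
    obtain ⟨A, hAn, hAc, hAnc⟩ : ∃ A : Subgroup G, A.Normal ∧ IsMulCommutative A ∧ ¬ IsCyclic A := by
      by_contra h
      push Not at h
      rcases Cfsg.Agent.PGroups.isQuaternion_or_isDihedral_or_isQuasiDihedral hG hnc h with
        ⟨n, -, e⟩ | ⟨n, -, e⟩ | e
      · exact hnq _ e
      · exact hnd _ e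
      · exact hnsd e
    have hcomm : ∀ a ∈ A, ∀ b ∈ A, a * b = b * a := fun a ha b hb =>
      congrArg Subtype.val (hAc.is_comm.comm ⟨a, ha⟩ ⟨b, hb⟩)
    let E : Subgroup G :=
      { carrier := {a | a ∈ A ∧ a ^ 2 = 1}
        one_mem' := ⟨A.one_mem, one_pow 2⟩
        mul_mem' := fun {a b} ha hb => ⟨A.mul_mem ha.1 hb.1, by
          rw [(show Commute a b from hcomm a ha.1 b hb.1).mul_pow, ha.2, hb.2, one_mul]⟩
        inv_mem' := fun {a} ha => ⟨A.inv_mem ha.1, by rw [inv_pow, ha.2, inv_one]⟩ }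
    have hEn : E.Normal := ⟨fun a ha g => ⟨hAn.conj_mem a ha.1 g, by rw [conj_pow, ha.2, mul_one, mul_inv_cancel]⟩⟩
    have hEcard : 2 ^ 2 ≤ Nat.card E := by
      by_contra hlt
      refine hAnc ?_
      obtain ⟨e, he⟩ := IsPGroup.iff_card.mp (hG.to_subgroup E)
      have he2 : Nat.card E ≤ 2 := by
        rw [he] at hlt ⊢
        rcases e with _ | _ | e
        · simp
        · simp
        · exfalso; apply hlt; exact Nat.pow_le_pow_right (by norm_num) (by omega)
      have huniq : ∀ H K : Subgroup A, Nat.card H = 2 → Nat.card K = 2 → H = K := fun H K hH hK => by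
        have hE' : ∀ L : Subgroup A, Nat.card L = 2 → L.map A.subtype = E := fun L hL => by
          refine Subgroup.eq_of_le_of_card_ge ?_ ?_
          · rintro _ ⟨a, ha, rfl⟩
            refine ⟨a.2, ?_⟩
            have := Subgroup.orderOf_dvd_natCard L ha
            rw [hL] at this
            exact congrArg Subtype.val (orderOf_dvd_iff_pow_eq_one.mp this)
          · rw [Subgroup.card_map_of_injective A.subtype_injective, hL]; exact he2
        exact Subgroup.map_injective A.subtype_injective ((hE' H hH).trans (hE' K hK).symm)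
      rcases Cfsg.Agent.S0016.result 2 (hG.to_subgroup A) huniq with h | ⟨-, n, ⟨en⟩⟩
      · exact h
      · exfalso
        have : NeZero (2 ^ n) := ⟨by positivity⟩
        have h1 : ∀ a b : QuaternionGroup (2 ^ n), a * b = b * a := fun a b => en.symm.injective (by
          rw [map_mul, map_mul]; exact hAc.is_comm.comm _ _)
        rcases Nat.eq_zero_or_pos n with rfl | hn
        · refine hAnc ?_
          have : Fact (Nat.Prime 2) := ⟨Nat.prime_two⟩
          have : IsCyclic (QuaternionGroup (2 ^ 0)) := QuaternionGroup.quaternionGroup_one_isCyclic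
          exact isCyclic_of_surjective en.symm en.symm.surjective
        · have h2 := h1 (QuaternionGroup.a 1) (QuaternionGroup.xa 0)
          rw [QuaternionGroup.a_mul_xa, QuaternionGroup.xa_mul_a] at h2
          injection h2 with h3
          rw [zero_sub, zero_add, neg_eq_iff_add_eq_zero] at h3
          have h4 : ((2 : ℕ) : ZMod (2 * 2 ^ n)) = 0 := by rw [← h3]; norm_num
          rw [ZMod.natCast_eq_zero_iff] at h4
          have := Nat.le_of_dvd (by norm_num) h4
          have : 2 ^ 1 ≤ 2 ^ n := Nat.pow_le_pow_right (by norm_num) hn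
          omega
    have := hEn
    obtain ⟨U, hUn, hUE, hUc⟩ := Cfsg.Agent.PGroups.exists_normal_card_le hG E 2 hEcard
    exact ⟨U, hUn, fun a ha b hb => hcomm a (hUE ha).1 b (hUE hb).1, fun a ha => (hUE ha).2, hUc⟩
  · obtain ⟨B, -, hBn, hBc, hBexp, hBcard⟩ := Cfsg.Agent.PGroups.exists_normal_elementary_sq_le hG hp2 ⊤
      (fun h => hnc (isCyclic_of_surjective Subgroup.topEquiv Subgroup.topEquiv.surjective))
    exact ⟨B, hBn, fun a ha b hb => congrArg Subtype.val (hBc.is_comm.comm ⟨a, ha⟩ ⟨b, hb⟩), hBexp, hBcard⟩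

theorem result
    (q : ℕ) [Fact q.Prime] {V : Type*} [AddCommGroup V] [Module (ZMod q) V] [Finite V] [Nontrivial V]
    {G : Type*} [Group G] [Finite G] (p : ℕ) [Fact p.Prime] (hG : IsPGroup p G)
    (ρ : G →* (V ≃ₗ[ZMod q] V)) (hρ : Function.Injective ρ)
    (hirr : ∀ W : Submodule (ZMod q) V, (∀ g : G, ∀ w ∈ W, ρ g w ∈ W) → W = ⊥ ∨ W = ⊤)
    (hnc : ¬ IsCyclic G) (hnq : ∀ n : ℕ, ¬ Nonempty (G ≃* QuaternionGroup n))
    (hnd : ∀ n : ℕ, ¬ Nonempty (G ≃* DihedralGroup n)) (hnsd : ¬ Cfsg.IsQuasiDihedral G) :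
    ∃ (H : Subgroup G) (W : Fin p → Submodule (ZMod q) V), H.index = p ∧
      iSup W = ⊤ ∧ iSupIndep W ∧
      (∀ h ∈ H, ∀ i, ∀ w ∈ W i, ρ h w ∈ W i) ∧
      (∀ i, ∃ h ∈ H, h ≠ 1 ∧ ∀ w ∈ W i, ρ h w = w) ∧
      ∀ g : G, g ∉ H → ∃ σ : Equiv.Perm (Fin p), orderOf σ = p ∧ ∀ i, (W i).map (ρ g : V →ₗ[ZMod q] V) = W (σ i) := by
  classical
  have hp : p.Prime := Fact.out
  have : NeZero p := ⟨hp.ne_zero⟩
  have hmulv : ∀ (g h : G) (v : V), ρ (g * h) v = ρ g (ρ h v) := fun g h v => by rw [map_mul]; rfl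
  have honev : ∀ v : V, ρ 1 v = v := fun v => by rw [map_one]; rfl
  let Fix : G → Submodule (ZMod q) V := fun x => LinearMap.ker ((ρ x : V →ₗ[ZMod q] V) - LinearMap.id)
  have hFix : ∀ x v, v ∈ Fix x ↔ ρ x v = v := fun x v => by simp [Fix, sub_eq_zero]
  have hFixConj : ∀ g x v, v ∈ Fix x → ρ g v ∈ Fix (g * x * g⁻¹) := fun g x v hv => by
    rw [hFix] at hv ⊢
    rw [← hmulv, show g * x * g⁻¹ * g = g * x by group, hmulv, hv]
  -- the characteristic is not p
  have hpq : (p : ZMod q) ≠ 0 := by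
    intro h
    rw [ZMod.natCast_eq_zero_iff, Nat.prime_dvd_prime_iff_eq Fact.out hp] at h
    subst h
    letI : MulAction G V := { smul := fun g v => ρ g v, one_smul := honev, mul_smul := hmulv }
    have hd : q ∣ Nat.card V := by
      rw [Module.natCard_eq_pow_finrank (K := ZMod q), Nat.card_zmod]
      exact dvd_pow_self q Module.finrank_pos.ne'
    obtain ⟨v, hv, hv0⟩ := hG.exists_fixed_point_of_prime_dvd_card_of_fixed_point V hd
      (a := (0 : V)) (fun g => map_zero (ρ g))
    let W : Submodule (ZMod q) V :=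
      { carrier := {v | ∀ g : G, ρ g v = v}
        add_mem' := fun {a b} ha hb g => by rw [map_add, ha g, hb g]
        zero_mem' := fun g => map_zero _
        smul_mem' := fun c {a} ha g => by rw [map_smul, ha g] }
    rcases hirr W (fun g w hw => by rw [hw g]; exact hw) with e | e
    · have : v ∈ W := hv
      rw [e, Submodule.mem_bot] at this
      exact hv0 this.symm
    · refine hnc ?_
      have : Subsingleton G := ⟨fun a b => hρ (LinearEquiv.ext fun w => by
        have hw : w ∈ W := e ▸ Submodule.mem_top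
        rw [hw a, hw b])⟩
      infer_instance
  obtain ⟨U, hUn, hUc, hUexp, hUcard⟩ := exists_normal_sq p hG hnc hnq hnd hnsd
  have := hUn
  have hU1 : U ≠ ⊥ := fun e => by
    rw [e, Subgroup.card_bot] at hUcard
    exact absurd hUcard (Nat.one_lt_pow two_ne_zero hp.one_lt).ne
  obtain ⟨z, hzU, hzc, hzo⟩ := Cfsg.Agent.PGroups.exists_mem_center_orderOf_eq hG U hU1
  have hzc' : ∀ g : G, g * z = z * g := Subgroup.mem_center_iff.mp hzc
  have hzp : z ^ p = 1 := hUexp z hzU
  have hZn : (Subgroup.zpowers z).Normal :=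
    Cfsg.Agent.PGroups.normal_of_le_center (Subgroup.zpowers_le.mpr hzc)
  have hZU : Subgroup.zpowers z ≤ U := Subgroup.zpowers_le.mpr hzU
  obtain ⟨u, huU, huZ⟩ : ∃ u ∈ U, u ∉ Subgroup.zpowers z := by
    refine SetLike.exists_of_lt (lt_of_le_of_ne hZU fun e => ?_)
    have := hUcard
    rw [← e, Nat.card_zpowers, hzo, pow_two] at this
    exact absurd this (by have := hp.one_lt; nlinarith)
  have hup : u ^ p = 1 := hUexp u huU
  have huz : Commute u z := hUc u huU z hzU
  -- the commutators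
  have hcomm : ∀ g : G, g * u * g⁻¹ * u⁻¹ ∈ Subgroup.zpowers z := by
    intro g
    let f := QuotientGroup.mk' (Subgroup.zpowers z)
    have hN : (U.map f).Normal := hUn.map f (QuotientGroup.mk'_surjective _)
    have hcard : Nat.card (U.map f) = p := by
      have h := (f.comp U.subtype).ker.card_mul_index
      rw [Subgroup.index_ker, MonoidHom.range_comp, Subgroup.range_subtype, ← MonoidHom.comap_ker,
        QuotientGroup.ker_mk'] at h
      rw [show (Subgroup.zpowers z).comap U.subtype = (Subgroup.zpowers z).subgroupOf U from rfl,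
        Nat.card_congr (Subgroup.subgroupOfEquivOfLe hZU).toEquiv, Nat.card_zpowers, hzo, hUcard, pow_two] at h
      exact Nat.eq_of_mul_eq_mul_left hp.pos h
    have hc := Cfsg.Agent.PGroups.le_center_of_card_eq (hG.to_quotient _) (U.map f) hcard ⟨u, huU, rfl⟩
    rw [← QuotientGroup.ker_mk' (Subgroup.zpowers z), MonoidHom.mem_ker, map_mul, map_mul, map_mul, map_inv, map_inv,
      Subgroup.mem_center_iff.mp hc (f g), mul_inv_cancel_right, mul_inv_cancel]
  let zi : ZMod p → G := fun i => z ^ i.val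
  have hzi : ∀ i j, zi (i + j) = zi i * zi j := pow_val_add hzp
  have hzi0 : zi 0 = 1 := by simp [zi]
  have hzic : ∀ i g, g * zi i = zi i * g := fun i g =>
    ((show Commute g z from hzc' g).pow_right i.val)
  have hzinj : ∀ i j, zi i = zi j → i = j := fun i j e => by
    have h1 := pow_injOn_Iio_orderOf (x := z) (Set.mem_Iio.mpr (hzo.symm ▸ ZMod.val_lt i))
      (Set.mem_Iio.mpr (hzo.symm ▸ ZMod.val_lt j)) e
    exact ZMod.val_injective p h1
  have hc : ∀ g : G, ∃ c : ZMod p, g * u * g⁻¹ = u * zi c := by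
    intro g
    obtain ⟨n, hn⟩ := (mem_powers_iff_mem_zpowers.mpr (hcomm g) : g * u * g⁻¹ * u⁻¹ ∈ Submonoid.powers z)
    refine ⟨(n : ZMod p), ?_⟩
    have hn' : z ^ (n : ZMod p).val = z ^ n := by rw [ZMod.val_natCast, ← hzo, pow_mod_orderOf]
    simp only [zi]
    rw [hn', (huz.pow_right n).eq, show z ^ n = g * u * g⁻¹ * u⁻¹ from hn, inv_mul_cancel_right]
  choose c hc using hc
  let χ : G →* Multiplicative (ZMod p) :=
    { toFun := fun g => Multiplicative.ofAdd (c g)
      map_one' := by
        refine congrArg Multiplicative.ofAdd (hzinj _ 0 ?_)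
        have := hc 1
        rw [one_mul, inv_one, mul_one] at this
        rw [hzi0]; exact mul_eq_left.mp this.symm
      map_mul' := fun g h => by
        refine congrArg Multiplicative.ofAdd (hzinj _ _ ?_)
        apply mul_left_cancel (a := u)
        rw [← hc, hzi, show g * h * u * (g * h)⁻¹ = g * (h * u * h⁻¹) * g⁻¹ by group, hc h,
          show g * (u * zi (c h)) * g⁻¹ = (g * u * g⁻¹) * (g * zi (c h) * g⁻¹) by group, hc g, hzic (c h) g,
          mul_inv_cancel_right, mul_assoc]
        rfl }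
  let H := χ.ker
  have hH : ∀ g, g ∈ H ↔ c g = 0 := fun g => by
    rw [MonoidHom.mem_ker]; exact ⟨fun h => congrArg Multiplicative.toAdd h, fun h => congrArg Multiplicative.ofAdd h⟩
  -- fixed vectors of the central element
  have hzfix : ∀ v, ρ z v = v → v = 0 := by
    intro v hv
    rcases hirr (Fix z) (fun g w hw => by
      have := hFixConj g z w hw
      rwa [hzc', mul_inv_cancel_right] at this) with e | e
    · have : v ∈ Fix z := (hFix z v).mpr hv
      rwa [e, Submodule.mem_bot] at this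
    · exfalso
      have : z = 1 := hρ (LinearEquiv.ext fun w => by
        rw [map_one]; exact (hFix z w).mp (e ▸ Submodule.mem_top))
      rw [this, orderOf_one] at hzo
      exact hp.one_lt.ne hzo
  have hfixpow : ∀ x v, ρ x v = v → ∀ n : ℕ, ρ (x ^ n) v = v := by
    intro x v hv n
    induction n with
    | zero => rw [pow_zero, honev]
    | succ n ih => rw [pow_succ, hmulv, hv, ih]
  have hzero : ∀ d : ZMod p, d ≠ 0 → ∀ v, ρ (zi d) v = v → v = 0 := by
    intro d hd v hv
    refine hzfix v ?_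
    have hd' : zi d ^ (d⁻¹).val = z := by
      simp only [zi]
      rw [← pow_mul, ← pow_mod_orderOf, hzo, ← ZMod.val_mul, mul_inv_cancel₀ hd, ZMod.val_one, pow_one]
    rw [← hd']; exact hfixpow _ v hv _
  have hxp : ∀ i : ZMod p, (u * zi i) ^ p = 1 := fun i => by
    refine hUexp _ (U.mul_mem huU (U.pow_mem hzU _))
  have hzip : ∀ d : ZMod p, (zi d) ^ p = 1 := fun d => hUexp _ (U.pow_mem hzU _)
  have hPzero : ∀ d : ZMod p, d ≠ 0 → ∀ v, psum ρ p (zi d) v = 0 := fun d hd v =>
    hzero d hd _ (psum_fixed ρ (hzip d) v)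
  let W' : ZMod p → Submodule (ZMod q) V := fun i => Fix (u * zi i)
  have hP : ∀ i v, psum ρ p (u * zi i) v ∈ W' i := fun i v => (hFix _ _).mpr (psum_fixed ρ (hxp i) v)
  have hPeq : ∀ i, ∀ w ∈ W' i, psum ρ p (u * zi i) w = (p : ZMod q) • w := fun i w hw => by
    unfold psum
    rw [Finset.sum_congr rfl fun k _ => hfixpow _ w ((hFix _ _).mp hw) k, Finset.sum_const, Finset.card_range,
      Nat.cast_smul_eq_nsmul]
  have hPne : ∀ i j, i ≠ j → ∀ w ∈ W' i, psum ρ p (u * zi j) w = 0 := fun i j hij w hw => by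
    rw [← hPzero (j - i) (sub_ne_zero.mpr (Ne.symm hij)) w]
    unfold psum
    refine Finset.sum_congr rfl fun k _ => ?_
    have e : u * zi j = zi (j - i) * (u * zi i) := by
      rw [← mul_assoc, ← hzic, mul_assoc, ← hzi, sub_add_cancel]
    rw [e, (show Commute (zi (j - i)) (u * zi i) from (hzic _ _).symm).mul_pow, hmulv,
      hfixpow _ w ((hFix _ _).mp hw) k]
  have hsum : ∀ v, ∑ i, psum ρ p (u * zi i) v = (p : ZMod q) • v := by
    intro v
    unfold psum
    rw [Finset.sum_comm]
    rw [Finset.sum_eq_single (0 : ℕ)]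
    · simp [honev, Nat.cast_smul_eq_nsmul]
    · intro k hk hk0
      have e : ∀ i : ZMod p, ρ ((u * zi i) ^ k) v = ρ (u ^ k) (ρ (zi ((k : ZMod p) * i)) v) := fun i => by
        rw [← hmulv, (show Commute u (zi i) from hzic i u).mul_pow]
        congr 3
        simp only [zi]
        rw [← pow_mul, ← pow_mod_orderOf, hzo, ZMod.val_mul, ZMod.val_natCast, Nat.mod_mul_mod, mul_comm]
      rw [Finset.sum_congr rfl fun i _ => e i, ← map_sum]
      have hk' : (k : ZMod p) ≠ 0 := by
        intro h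
        rw [ZMod.natCast_eq_zero_iff] at h
        exact absurd (Nat.le_of_dvd (Nat.pos_of_ne_zero hk0) h) (not_le.mpr (Finset.mem_range.mp hk))
      rw [show ∑ i, ρ (zi ((k : ZMod p) * i)) v = ∑ i, ρ (zi i) v from
        Equiv.sum_comp (Equiv.mulLeft₀ (k : ZMod p) hk') (fun i => ρ (zi i) v)]
      have hfix : ρ z (∑ i, ρ (zi i) v) = ∑ i, ρ (zi i) v := by
        rw [map_sum]
        refine Fintype.sum_equiv (Equiv.addLeft (1 : ZMod p)) _ _ fun i => ?_
        rw [← hmulv, Equiv.coe_addLeft, hzi]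
        congr 3
        simp [zi, ZMod.val_one]
      rw [hzfix _ hfix, map_zero]
    · intro h; exact absurd (Finset.mem_range.mpr hp.pos) h
  have hspan : ∀ v, v ∈ ⨆ i, W' i := fun v => by
    have : (p : ZMod q)⁻¹ • ∑ i, psum ρ p (u * zi i) v ∈ ⨆ i, W' i :=
      Submodule.smul_mem _ _ (Submodule.sum_mem _ fun i _ => Submodule.mem_iSup_of_mem i (hP i v))
    rwa [hsum, smul_smul, inv_mul_cancel₀ hpq, one_smul] at this
  have hconj : ∀ g i, g * (u * zi i) * g⁻¹ = u * zi (c g + i) := fun g i => by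
    rw [show g * (u * zi i) * g⁻¹ = (g * u * g⁻¹) * (g * zi i * g⁻¹) by group, hc, hzic i g, mul_inv_cancel_right,
      mul_assoc, ← hzi]
  have hmap : ∀ g i, ∀ w ∈ W' i, ρ g w ∈ W' (c g + i) := fun g i w hw => by
    have := hFixConj g _ w hw
    rwa [hconj] at this
  have hHtop : H ≠ ⊤ := by
    intro htop
    obtain ⟨v, hv⟩ := exists_ne (0 : V)
    have h0 : ∀ i, W' i = ⊥ := fun i => by
      refine (hirr (W' i) fun g w hw => ?_).resolve_right fun e => ?_
      · have := hmap g i w hw
        rwa [(hH g).mp (htop ▸ Subgroup.mem_top g), zero_add] at this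
      · have h1 : u * zi i = 1 := hρ (LinearEquiv.ext fun w => by
          rw [map_one]; exact (hFix _ w).mp (by rw [show Fix (u * zi i) = ⊤ from e]; trivial))
        exact huZ (eq_inv_of_mul_eq_one_left h1 ▸ Subgroup.inv_mem _ (Subgroup.pow_mem _ (Subgroup.mem_zpowers z) _))
    have := hspan v
    rw [iSup_eq_bot.mpr h0, Submodule.mem_bot] at this
    exact hv this
  have hidx : H.index = p := by
    have hd : H.index ∣ p := by
      have := Subgroup.card_subgroup_dvd_card χ.range
      rwa [← Subgroup.index_ker, Nat.card_congr Multiplicative.toAdd, Nat.card_zmod] at this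
    exact (hp.eq_one_or_self_of_dvd _ hd).resolve_left fun h => hHtop (Subgroup.index_eq_one.mp h)
  let φ : Fin p ≃ ZMod p := (ZMod.finEquiv p).toEquiv
  refine ⟨H, fun i => W' (φ i), hidx, ?_, ?_, ?_, ?_, ?_⟩
  · rw [eq_top_iff]
    exact fun v _ => by rw [φ.iSup_comp (g := W')]; exact hspan v
  · rw [iSupIndep_def]
    intro i
    rw [Submodule.disjoint_def]
    intro w hw hw'
    have hle : (⨆ (j : Fin p) (_ : j ≠ i), W' (φ j)) ≤ LinearMap.ker
        (∑ k ∈ Finset.range p, (ρ ((u * zi (φ i)) ^ k) : V →ₗ[ZMod q] V)) := by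
      refine iSup₂_le fun j hj x hx => ?_
      rw [LinearMap.mem_ker, LinearMap.sum_apply]
      exact hPne (φ j) (φ i) (fun e => hj (φ.injective e)) x hx
    have h1 := hle hw'
    rw [LinearMap.mem_ker, LinearMap.sum_apply] at h1
    have h2 : (p : ZMod q) • w = 0 := (hPeq _ w hw).symm.trans h1
    exact (smul_eq_zero.mp h2).resolve_left hpq
  · intro h hh i w hw
    have := hmap h _ w hw
    rwa [(hH h).mp hh, zero_add] at this
  · intro i
    refine ⟨u * zi (φ i), (hH _).mpr (hzinj _ 0 ?_), fun e => huZ ?_, fun w hw => (hFix _ w).mp hw⟩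
    · rw [hzi0]
      have := hc (u * zi (φ i))
      rw [show u * zi (φ i) * u = u * (u * zi (φ i)) by rw [mul_assoc, ← hzic], mul_inv_cancel_right] at this
      exact mul_eq_left.mp this.symm
    · exact eq_inv_of_mul_eq_one_left e ▸ Subgroup.inv_mem _ (Subgroup.pow_mem _ (Subgroup.mem_zpowers z) _)
  · intro g hg
    have hcg : c g ≠ 0 := fun h => hg ((hH g).mpr h)
    refine ⟨φ.symm.permCongr (Equiv.addLeft (c g)), orderOf_eq_prime ?_ ?_, fun i => ?_⟩
    · refine Equiv.ext fun i => ?_
      have hit : ∀ n : ℕ, ∀ i, φ (((φ.symm.permCongr (Equiv.addLeft (c g))) ^ n) i) = (n : ZMod p) * c g + φ i := by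
        intro n
        induction n with
        | zero => intro i; simp
        | succ n ih =>
          intro i
          rw [pow_succ', Equiv.Perm.mul_apply, Equiv.permCongr_apply, Equiv.symm_symm, Equiv.apply_symm_apply,
            Equiv.coe_addLeft, ih]
          push_cast
          ring
      apply φ.injective
      rw [hit, ZMod.natCast_self, zero_mul, zero_add, Equiv.Perm.one_apply]
    · intro e
      have h0 : φ ((φ.symm.permCongr (Equiv.addLeft (c g))) (φ.symm 0)) = φ (φ.symm 0) := by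
        rw [e, Equiv.Perm.one_apply]
      simp [Equiv.permCongr_apply] at h0
      exact hcg h0
    · have e : φ ((φ.symm.permCongr (Equiv.addLeft (c g))) i) = c g + φ i := by
        simp [Equiv.permCongr_apply]
      show _ = W' (φ ((φ.symm.permCongr (Equiv.addLeft (c g))) i))
      rw [e]
      refine le_antisymm (Submodule.map_le_iff_le_comap.mpr fun w hw => hmap g _ w hw) fun w hw => ?_
      refine ⟨ρ g⁻¹ w, ?_, ?_⟩
      · have := hmap g⁻¹ _ w hw
        have hcinv : c g⁻¹ = - c g := by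
          have := congrArg Multiplicative.toAdd (map_inv χ g)
          simpa [χ] using this
        rwa [hcinv, neg_add_cancel_left] at this
      · show ρ g (ρ g⁻¹ w) = w
        rw [← hmulv, mul_inv_cancel, honev]

end Cfsg.Agent.S3380
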