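import Cfsg.Statements.S3381

set_option autoImplicit false
open Cfsg

namespace Cfsg.Agent.S3381

theorem result
    (q : ℕ) [Fact q.Prime] {V : Type*} [AddCommGroup V] [Module (ZMod q) V] [Finite V] [Nontrivial V]
    {G : Type*} [Group G] [Finite G] (ρ : G →* (V ≃ₗ[ZMod q] V)) (hρ : Function.Injective ρ)
    (hstab : ∀ v : V, v ≠ 0 → Nat.card {g : G // ρ g v = v} = 2)
    (z : G) (hz : orderOf z = 2) (hzc : z ∈ Subgroup.center G) :
    ∃ r : ℕ, Nat.card V = q ^ (2 * r) ∧
      Nat.card {g : G // orderOf g = 2 ∧ g ∉ Subgroup.center G} = q ^ r + 1 := by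
  classical
  have hmul : ∀ (a b : G) (v : V), ρ (a * b) v = ρ a (ρ b v) := fun a b v => by rw [map_mul]; rfl
  have hone : ∀ v : V, ρ 1 v = v := fun v => by rw [map_one]; rfl
  have huniq : ∀ v : V, v ≠ 0 → ∀ s t : G, ρ s v = v → ρ t v = v → s ≠ 1 → t ≠ 1 → s = t := by
    intro v hv s t hs ht hs1 ht1
    by_contra hne
    have : Fintype {g : G // ρ g v = v} := Fintype.ofFinite _
    have h2 := hstab v hv
    rw [Nat.card_eq_fintype_card] at h2
    have h3 : ({⟨1, hone v⟩, ⟨s, hs⟩, ⟨t, ht⟩} : Finset {g : G // ρ g v = v}).card ≤ 2 :=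
      h2 ▸ Finset.card_le_univ _
    rw [Finset.card_insert_of_notMem, Finset.card_insert_of_notMem, Finset.card_singleton] at h3
    · omega
    · simp [hne]
    · simp [Ne.symm hs1, Ne.symm ht1]
  have hex : ∀ v : V, v ≠ 0 → ∃ t : G, t ≠ 1 ∧ ρ t v = v := by
    intro v hv
    by_contra h
    push Not at h
    have : Subsingleton {g : G // ρ g v = v} :=
      ⟨fun a b => Subtype.ext <| by
        rcases eq_or_ne a.1 1 with ha | ha
        · rcases eq_or_ne b.1 1 with hb | hb
          · rw [ha, hb]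
          · exact absurd b.2 (h _ hb)
        · exact absurd a.2 (h _ ha)⟩
    have h2 := hstab v hv
    have := Finite.card_le_one_iff_subsingleton.mpr this
    omega
  -- a central involution inverts every vector, and has no nonzero fixed vector
  have hcent : ∀ c : G, orderOf c = 2 → c ∈ Subgroup.center G →
      (∀ v : V, v ≠ 0 → ρ c v ≠ v) ∧ ∀ v : V, ρ c v = -v := by
    intro c hc hcc
    have hc1 : c ≠ 1 := fun h => by simp [h] at hc
    have hcc2 : c * c = 1 := by rw [← pow_two, ← hc]; exact pow_orderOf_eq_one c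
    have hfix : ∀ v : V, v ≠ 0 → ρ c v ≠ v := by
      intro v hv hvf
      have hnon : ∀ w : V, ρ c w ≠ w → ρ c w = -w := by
        intro w hw
        by_contra hne
        have hu : w + ρ c w ≠ 0 := fun h => hne (eq_neg_of_add_eq_zero_right h)
        have hw0 : w ≠ 0 := fun h => hw (by simp [h])
        obtain ⟨t, ht1, htw⟩ := hex w hw0
        have htc : ρ t (ρ c w) = ρ c w := by
          rw [← hmul, ← (Subgroup.mem_center_iff.mp hcc t).symm, hmul, htw]
        have h1 : ρ t (w + ρ c w) = w + ρ c w := by rw [map_add, htw, htc]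
        have h2 : ρ c (w + ρ c w) = w + ρ c w := by
          rw [map_add, ← hmul, hcc2, hone, add_comm]
        have := huniq _ hu t c h1 h2 ht1 hc1
        exact hw (this ▸ htw)
      obtain ⟨w, hw⟩ : ∃ w, ρ c w ≠ w := by
        by_contra h
        push Not at h
        exact hc1 (hρ (LinearEquiv.ext fun w => by rw [h, hone]))
      have h1 := hnon w hw
      have hwv : ρ c (w + v) ≠ w + v := by
        rw [map_add, hvf]
        exact fun h => hw (add_right_cancel h)
      have h2 := hnon _ hwv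
      rw [map_add, h1, hvf, neg_add] at h2
      have h3 : v = -v := add_left_cancel h2
      have h4 : (2 : ZMod q) • v = 0 := by rw [two_smul]; nth_rewrite 2 [h3]; exact add_neg_cancel v
      rcases smul_eq_zero.mp h4 with h5 | h5
      · exact hw (by
          rw [h1]
          have : (2 : ZMod q) • w = 0 := by rw [h5, zero_smul]
          rw [two_smul] at this
          exact (eq_neg_of_add_eq_zero_right this).symm)
      · exact hv h5
    refine ⟨hfix, fun v => ?_⟩
    by_contra hne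
    refine hfix (v + ρ c v) (fun h => hne (eq_neg_of_add_eq_zero_right h)) ?_
    rw [map_add, ← hmul, hcc2, hone, add_comm]
  have hzneg := (hcent z hz hzc).2
  have hzfix := (hcent z hz hzc).1
  have h2V : ∀ v : V, v + v = 0 → v = 0 := by
    intro v hv
    by_contra hv0
    exact hzfix v hv0 (by rw [hzneg]; exact (eq_neg_of_add_eq_zero_right hv).symm)
  let I := {g : G // orderOf g = 2 ∧ g ∉ Subgroup.center G}
  let W : G → Submodule (ZMod q) V := fun t => LinearMap.ker ((ρ t : V →ₗ[ZMod q] V) - LinearMap.id)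
  have hW : ∀ (t : G) (v : V), v ∈ W t ↔ ρ t v = v := fun t v => by simp [W, sub_eq_zero]
  have hsq : ∀ t : I, (t : G) * t = 1 := fun t => by
    rw [← pow_two]; exact orderOf_dvd_iff_pow_eq_one.mp t.2.1.dvd
  have hI1 : ∀ t : I, (t : G) ≠ 1 := fun t h => by simpa [h] using t.2.1
  -- stabilizers give elements of `I`
  have hmem : ∀ (t : G) (v : V), v ≠ 0 → t ≠ 1 → ρ t v = v → orderOf t = 2 ∧ t ∉ Subgroup.center G := by
    intro t v hv ht1 htv
    have h2 : t ^ 2 = 1 := by
      by_contra h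
      have := huniq v hv (t ^ 2) t (by rw [pow_two, hmul, htv, htv]) htv h ht1
      rw [pow_two] at this
      exact ht1 (mul_eq_left.mp this)
    have ho : orderOf t = 2 := orderOf_eq_prime h2 ht1
    exact ⟨ho, fun hc => (hcent t ho hc).1 v hv htv⟩
  have hzI : ∀ t : I, orderOf (z * (t : G)) = 2 ∧ z * (t : G) ∉ Subgroup.center G := by
    intro t
    have hz2 : z * z = 1 := by rw [← pow_two, ← hz]; exact pow_orderOf_eq_one z
    have hzt : z * (t : G) ∉ Subgroup.center G := fun h => t.2.2 (by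
      simpa using Subgroup.mul_mem _ (Subgroup.inv_mem _ hzc) h)
    refine ⟨orderOf_eq_prime ?_ fun h => hzt (h ▸ Subgroup.one_mem _), hzt⟩
    rw [pow_two, mul_assoc, ← mul_assoc (t : G) z, Subgroup.mem_center_iff.mp hzc t, mul_assoc z, hsq, mul_one, hz2]
  let zI : I → I := fun t => ⟨z * t, hzI t⟩
  have hz1 : z ≠ 1 := fun h => by simp [h] at hz
  have hzne : ∀ t : I, zI t ≠ t := fun t h => hz1 (mul_eq_right.mp (congrArg Subtype.val h))
  have hzz : ∀ t : I, zI (zI t) = t := fun t => Subtype.ext <| by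
    show z * (z * (t : G)) = t
    rw [← mul_assoc, ← pow_two, orderOf_dvd_iff_pow_eq_one.mp hz.dvd, one_mul]
  have hneg : ∀ (t : I) (v : V), ρ (zI t : G) v = - ρ (t : G) v := fun t v => by
    show ρ (z * (t : G)) v = _
    rw [hmul, hzneg]
  -- cardinalities of the fixed spaces
  let c : I → ℕ := fun t => Nat.card (W t)
  have hdisj : ∀ s t : I, s ≠ t → W s ⊓ W t = ⊥ := by
    intro s t hne
    rw [eq_bot_iff]
    rintro v ⟨hs, ht⟩
    rw [Submodule.mem_bot]
    by_contra hv
    exact hne (Subtype.ext (huniq v hv _ _ ((hW _ _).mp hs) ((hW _ _).mp ht) (hI1 s) (hI1 t)))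
  have hinj : ∀ s t : I, s ≠ t → Function.Injective (fun x : W s × W t => (x.1 : V) + x.2) := by
    intro s t hne x y hxy
    have h1 : (x.1 : V) - y.1 = y.2 - x.2 := by
      rw [sub_eq_sub_iff_add_eq_add]; simpa [add_comm] using hxy
    have h2 : (x.1 : V) - y.1 ∈ W s ⊓ W t :=
      ⟨(W s).sub_mem x.1.2 y.1.2, h1 ▸ (W t).sub_mem y.2.2 x.2.2⟩
    rw [hdisj s t hne, Submodule.mem_bot] at h2
    refine Prod.ext (Subtype.ext (sub_eq_zero.mp h2)) (Subtype.ext ?_)
    rw [h2] at h1
    exact (sub_eq_zero.mp h1.symm).symm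
  have hle : ∀ s t : I, s ≠ t → c s * c t ≤ Nat.card V := fun s t hne =>
    (Nat.card_prod _ _).symm.trans_le (Nat.card_le_card_of_injective _ (hinj s t hne))
  have hsum : ∀ t : I, c t * c (zI t) = Nat.card V := by
    intro t
    refine (Nat.card_prod _ _).symm.trans (Nat.card_eq_of_bijective _ ⟨hinj t (zI t) (hzne t).symm, ?_⟩)
    intro v
    have hd : Function.Bijective (fun x : V => x + x) := by
      refine Finite.injective_iff_bijective.mp fun x y h => sub_eq_zero.mp (h2V _ ?_)
      have : x + x = y + y := h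
      rw [sub_add_sub_comm, this, sub_self]
    obtain ⟨u, hu⟩ := hd.2 v
    have hu' : u + u = v := hu
    have htt : ρ (t : G) (ρ (t : G) u) = u := by rw [← hmul, hsq, hone]
    refine ⟨(⟨u + ρ (t : G) u, (hW _ _).mpr ?_⟩, ⟨u - ρ (t : G) u, (hW _ _).mpr ?_⟩), ?_⟩
    · rw [map_add, htt, add_comm]
    · rw [hneg, map_sub, htt, neg_sub]
    · show u + ρ (t : G) u + (u - ρ (t : G) u) = v
      rw [← hu']; abel
  have hpos : ∀ t : I, 0 < c t := fun t => Nat.card_pos
  have hother : ∀ s t : I, s ≠ t → c s = c (zI t) := by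
    intro s t hne
    have h1 : c s ≤ c (zI t) := by
      have := hle s t hne
      rw [← hsum t, mul_comm (c t)] at this
      exact Nat.le_of_mul_le_mul_right this (hpos t)
    have h2 : c (zI s) ≤ c t := by
      have hne' : zI s ≠ zI t := fun h => hne (by rw [← hzz s, h, hzz])
      have := hle (zI s) (zI t) hne'
      rw [← hsum t] at this
      exact Nat.le_of_mul_le_mul_right this (hpos _)
    by_contra hne'
    have h3 := Nat.mul_lt_mul_of_lt_of_le (lt_of_le_of_ne h1 hne') h2 (hpos _)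
    rw [hsum s, mul_comm, hsum t] at h3
    exact lt_irrefl _ h3
  -- the fixed spaces cover the nonzero vectors
  let f : (Σ t : I, {x : W t // x ≠ 0}) → {v : V // v ≠ 0} :=
    fun x => ⟨(x.2.1 : V), fun h => x.2.2 (Subtype.ext h)⟩
  have hf : Function.Bijective f := by
    constructor
    · rintro ⟨s, ⟨v, hv⟩, hv0⟩ ⟨t, ⟨w, hw⟩, hw0⟩ h
      obtain rfl : v = w := congrArg Subtype.val h
      obtain rfl : s = t := Subtype.ext (huniq v (fun h => hv0 (Subtype.ext h)) _ _ ((hW _ _).mp hv) ((hW _ _).mp hw) (hI1 s) (hI1 t))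
      rfl
    · rintro ⟨v, hv⟩
      obtain ⟨t, ht1, htv⟩ := hex v hv
      exact ⟨⟨⟨t, hmem t v hv ht1 htv⟩, ⟨⟨v, (hW _ _).mpr htv⟩, fun h => hv (congrArg Subtype.val h)⟩⟩, rfl⟩
  obtain ⟨v₀, hv₀⟩ := exists_ne (0 : V)
  obtain ⟨⟨t₀, y⟩, -⟩ := hf.2 ⟨v₀, hv₀⟩
  -- a third involution
  have ht₀ : c t₀ = c (zI t₀) := by
    obtain ⟨a, ha, ha0⟩ : ∃ a ∈ W t₀, a ≠ 0 := ⟨y.1, y.1.2, fun h => y.2 (Subtype.ext h)⟩
    obtain ⟨b, hb, hb0⟩ : ∃ b ∈ W (zI t₀ : G), b ≠ 0 := by
      by_contra h
      push Not at h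
      refine t₀.2.2 ?_
      have : (t₀ : G) = 1 := hρ <| LinearEquiv.ext fun v => by
        rw [hone]
        have hm : v - ρ (t₀ : G) v ∈ W (zI t₀ : G) := (hW _ _).mpr (by
          rw [hneg, map_sub, ← hmul (t₀ : G) (t₀ : G), hsq, hone, neg_sub])
        exact (sub_eq_zero.mp (h _ hm)).symm
      rw [this]; exact Subgroup.one_mem _
    have hab : a + b ≠ 0 := fun h => ha0 <| by
      have h1 : a ∈ W t₀ ⊓ W (zI t₀ : G) := ⟨ha, by rw [eq_neg_of_add_eq_zero_left h]; exact (W _).neg_mem hb⟩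
      rwa [hdisj _ _ (hzne t₀).symm, Submodule.mem_bot] at h1
    obtain ⟨⟨s, x⟩, hx⟩ := hf.2 ⟨a + b, hab⟩
    have hxv : (x.1 : V) = a + b := congrArg Subtype.val hx
    have hs1 : s ≠ t₀ := by
      rintro rfl
      have : b ∈ W s ⊓ W (zI s : G) := ⟨by have := (W (s : G)).sub_mem x.1.2 ha; rwa [hxv, add_sub_cancel_left] at this, hb⟩
      rw [hdisj _ _ (hzne s).symm, Submodule.mem_bot] at this
      exact hb0 this
    have hs2 : s ≠ zI t₀ := by
      rintro rfl
      have : a ∈ W t₀ ⊓ W (zI t₀ : G) := ⟨ha, by have := (W (zI t₀ : G)).sub_mem x.1.2 hb; rwa [hxv, add_sub_cancel_right] at this⟩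
      rw [hdisj _ _ (hzne t₀).symm, Submodule.mem_bot] at this
      exact ha0 this
    have h1 := hother s t₀ hs1
    have h2 := hother s (zI t₀) hs2
    rw [hzz] at h2
    omega
  have hall : ∀ s : I, c s = c t₀ := by
    intro s
    by_cases h : s = t₀
    · rw [h]
    · rw [hother s t₀ h, ← ht₀]
  refine ⟨Module.finrank (ZMod q) (W t₀), ?_, ?_⟩
  · rw [← hsum t₀, ← ht₀, two_mul, pow_add]
    simp only [c, Module.natCard_eq_pow_finrank (K := ZMod q) (V := W t₀), Nat.card_zmod]
  · have hC : c t₀ = q ^ Module.finrank (ZMod q) (W t₀) := by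
      simp only [c, Module.natCard_eq_pow_finrank (K := ZMod q) (V := W t₀), Nat.card_zmod]
    rw [← hC]
    have : Fintype I := Fintype.ofFinite I
    have hcount := Nat.card_eq_of_bijective f hf
    have hpred : ∀ (A : Type _) [AddCommGroup A] [Finite A], Nat.card {a : A // a ≠ 0} = Nat.card A - 1 := by
      intro A _ _
      have : Fintype A := Fintype.ofFinite A
      simp [Nat.card_eq_fintype_card, Fintype.card_subtype_compl]
    rw [Nat.card_sigma, hpred] at hcount
    rw [Finset.sum_congr rfl (fun (t : I) _ => (hpred (W t)).trans (congrArg (· - 1) (hall t))), Finset.sum_const,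
      smul_eq_mul, Finset.card_univ, ← Nat.card_eq_fintype_card, ← hsum t₀, ← ht₀] at hcount
    have hC1 : 1 < c t₀ := by
      have : Nontrivial (W t₀) := ⟨⟨y.1, 0, y.2⟩⟩
      exact Finite.one_lt_card
    show Nat.card I = _
    have h3 : c t₀ * c t₀ - 1 = (c t₀ + 1) * (c t₀ - 1) := by
      have := Nat.sq_sub_sq (c t₀) 1
      simpa [pow_two] using this
    rw [h3] at hcount
    exact Nat.eq_of_mul_eq_mul_right (by omega) hcount

end Cfsg.Agent.S3381
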