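import Cfsg.Statements.S3382

set_option autoImplicit false
open Cfsg

namespace Cfsg.Agent.S3382

/-- An automorphism moving elements inside cosets of a pointwise fixed subgroup has order dividing
the order of that subgroup, on those elements. -/
theorem pow_fix {G : Type*} [Group G] (ψ : MulAut G) (N : Subgroup G) (hN : ∀ d ∈ N, ψ d = d) (x : G)
    (hx : ψ x * x⁻¹ ∈ N) : ∀ n : ℕ, (ψ ^ n) x = (ψ x * x⁻¹) ^ n * x := by
  intro n
  induction n with
  | zero => simp
  | succ n ih =>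
    rw [pow_succ', MulAut.mul_apply, ih, map_mul, map_pow, hN _ hx, pow_succ, mul_assoc,
      inv_mul_cancel_right]

theorem fix_stable {G : Type*} [Group G] (ψ : MulAut G) (x : G) (h : ψ x = x) : ∀ n : ℕ, (ψ ^ n) x = x := by
  intro n
  induction n with
  | zero => simp
  | succ n ih => rw [pow_succ, MulAut.mul_apply, h, ih]

/-- A finite 2-group with a suitable invariant chain has a 2-group of automorphisms. -/
theorem isPGroup_mulAut {G : Type*} [Group G] [Finite G] (hG : IsPGroup 2 G) (A D : Subgroup G)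
    [IsCyclic D] (hA : ∀ (θ : MulAut G), ∀ x ∈ A, θ x ∈ A) (hD : ∀ (θ : MulAut G), ∀ x ∈ D, θ x ∈ D)
    (h1 : ∀ (θ : MulAut G) (x : G), θ x * x⁻¹ ∈ A)
    (h2 : ∀ (θ : MulAut G), ∀ x ∈ A, θ (θ x) * x⁻¹ ∈ D) : IsPGroup 2 (MulAut G) := by
  intro θ
  obtain ⟨a, ha⟩ := IsPGroup.iff_card.mp (hG.to_subgroup A)
  obtain ⟨d, hd⟩ := IsPGroup.iff_card.mp (hG.to_subgroup D)
  obtain ⟨u, hu⟩ : ∃ u, Nat.card (MulAut D) = 2 ^ u := by
    rw [IsCyclic.card_mulAut, hd]
    rcases Nat.eq_zero_or_pos d with rfl | hpos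
    · exact ⟨0, by simp⟩
    · exact ⟨d - 1, by rw [Nat.totient_prime_pow Nat.prime_two hpos]; simp⟩
  set ψ := (θ ^ 2) ^ (2 ^ u) with hψ
  -- restriction to the cyclic subgroup
  let R : MulAut G →* MulAut D :=
    { toFun := fun φ =>
        { toFun := fun x => ⟨φ x, hD φ x x.2⟩
          invFun := fun x => ⟨φ⁻¹ x, hD φ⁻¹ x x.2⟩
          left_inv := fun x => Subtype.ext (by simp)
          right_inv := fun x => Subtype.ext (by simp)
          map_mul' := fun x y => Subtype.ext (by simp) }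
      map_one' := by ext x; rfl
      map_mul' := fun φ χ => by ext x; rfl }
  have hψD : ∀ x ∈ D, ψ x = x := by
    intro x hx
    have : R ψ = 1 := by rw [hψ, map_pow, ← hu, pow_card_eq_one']
    exact congrArg Subtype.val (DFunLike.congr_fun this ⟨x, hx⟩)
  have hψA : ∀ x ∈ A, ψ x * x⁻¹ ∈ D := by
    have key : ∀ n : ℕ, ∀ x ∈ A, ((θ ^ 2) ^ n) x * x⁻¹ ∈ D ∧ ((θ ^ 2) ^ n) x ∈ A := by
      intro n
      induction n with
      | zero => intro x hx; simp [hx, D.one_mem]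
      | succ n ih =>
        intro x hx
        obtain ⟨i1, i2⟩ := ih x hx
        refine ⟨?_, hA _ x hx⟩
        rw [pow_succ', MulAut.mul_apply, pow_two θ, MulAut.mul_apply]
        have := D.mul_mem (h2 θ _ i2) i1
        rwa [mul_assoc, inv_mul_cancel_left] at this
    exact fun x hx => (key _ x hx).1
  have hA' : ∀ x ∈ A, (ψ ^ (2 ^ d)) x = x := by
    intro x hx
    rw [pow_fix ψ D hψD x (hψA x hx), ← hd]
    have h : (⟨_, hψA x hx⟩ : D) ^ Nat.card D = 1 := pow_card_eq_one'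
    rw [show (ψ x * x⁻¹) ^ Nat.card D = 1 from congrArg Subtype.val h, one_mul]
  refine ⟨1 + u + d + a, MulEquiv.ext fun x => ?_⟩
  rw [show (2 : ℕ) ^ (1 + u + d + a) = 2 * 2 ^ u * 2 ^ d * 2 ^ a by ring, pow_mul, pow_mul, pow_mul, ← hψ,
    pow_fix (ψ ^ (2 ^ d)) A hA' x (h1 _ x), ← ha]
  have h : (⟨_, h1 (ψ ^ (2 ^ d)) x⟩ : A) ^ Nat.card A = 1 := pow_card_eq_one'
  rw [show ((ψ ^ (2 ^ d)) x * x⁻¹) ^ Nat.card A = 1 from congrArg Subtype.val h, one_mul, MulAut.one_apply]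

section monomial

variable {q : ℕ} [Fact q.Prime]
  (T : Subgroup ((Fin 2 → ZMod q) ≃ₗ[ZMod q] (Fin 2 → ZMod q)))
  (hT : ∀ f, f ∈ T ↔ ∃ a s : ZMod q, a ≠ 0 ∧ (s = 1 ∨ s = -1) ∧
    ((∀ v, f v = ![a * v 0, s * a⁻¹ * v 1]) ∨ (∀ v, f v = ![s * a⁻¹ * v 1, a * v 0])))

/-- The four entries. -/
def ent (f : T) (i j : Fin 2) : ZMod q := (f : (Fin 2 → ZMod q) ≃ₗ[ZMod q] (Fin 2 → ZMod q)) (Pi.single j 1) i

theorem single_ext {f : (Fin 2 → ZMod q) ≃ₗ[ZMod q] (Fin 2 → ZMod q)} (v : Fin 2 → ZMod q) (i : Fin 2) :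
    f v i = v 0 * f (Pi.single 0 1) i + v 1 * f (Pi.single 1 1) i := by
  conv_lhs => rw [show v = v 0 • (Pi.single 0 1 : Fin 2 → ZMod q) + v 1 • Pi.single 1 1 by
    funext k; fin_cases k <;> simp]
  rw [map_add, map_smul, map_smul]
  rfl

theorem ent_mul (f g : T) (i j : Fin 2) :
    ent T (f * g) i j = ent T f i 0 * ent T g 0 j + ent T f i 1 * ent T g 1 j := by
  show (f : (Fin 2 → ZMod q) ≃ₗ[ZMod q] (Fin 2 → ZMod q)) ((g : (Fin 2 → ZMod q) ≃ₗ[ZMod q] (Fin 2 → ZMod q)) (Pi.single j 1)) i = _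
  rw [single_ext]
  unfold ent
  ring

theorem ent_ext {f g : T} (h : ∀ i j, ent T f i j = ent T g i j) : f = g := by
  apply Subtype.ext
  apply LinearEquiv.ext
  intro v
  funext i
  rw [single_ext v i, @single_ext q _ (g : (Fin 2 → ZMod q) ≃ₗ[ZMod q] (Fin 2 → ZMod q)) v i]
  exact congrArg₂ (fun a b => v 0 * a + v 1 * b) (h i 0) (h i 1)

theorem ent_one (i j : Fin 2) : ent T (1 : T) i j = if i = j then 1 else 0 := by
  show (Pi.single j 1 : Fin 2 → ZMod q) i = _
  rw [Pi.single_apply]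

/-- The diagonal map with entries a unit and its inverse. -/
def dmap (b : ZMod q) (hb : b ≠ 0) : (Fin 2 → ZMod q) ≃ₗ[ZMod q] (Fin 2 → ZMod q) where
  toFun v := ![b * v 0, b⁻¹ * v 1]
  invFun v := ![b⁻¹ * v 0, b * v 1]
  left_inv v := by funext i; fin_cases i <;> simp [hb]
  right_inv v := by funext i; fin_cases i <;> simp [hb]
  map_add' v v' := by funext i; fin_cases i <;> simp [mul_add]
  map_smul' c v := by funext i; fin_cases i <;> simp [mul_left_comm]

include hT in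
theorem cases_ent (f : T) : ∃ a s : ZMod q, a ≠ 0 ∧ (s = 1 ∨ s = -1) ∧
    ((ent T f 0 0 = a ∧ ent T f 0 1 = 0 ∧ ent T f 1 0 = 0 ∧ ent T f 1 1 = s * a⁻¹) ∨
     (ent T f 0 0 = 0 ∧ ent T f 0 1 = s * a⁻¹ ∧ ent T f 1 0 = a ∧ ent T f 1 1 = 0)) := by
  obtain ⟨a, s, ha, hs, h | h⟩ := (hT _).mp f.2
  · exact ⟨a, s, ha, hs, Or.inl (by simp [ent, h])⟩
  · exact ⟨a, s, ha, hs, Or.inr (by simp [ent, h])⟩

/-- Diagonal elements. -/
def IsDiag (f : T) : Prop := ent T f 0 1 = 0 ∧ ent T f 1 0 = 0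

include hT in
theorem exists_diag (w : (ZMod q)ˣ) : ∃ f : T, IsDiag T f ∧ ent T f 0 0 = (w : ZMod q) ∧
    ent T f 1 1 = (w : ZMod q)⁻¹ := by
  have hm : dmap (w : ZMod q) w.ne_zero ∈ T := (hT _).mpr ⟨w, 1, w.ne_zero, Or.inl rfl, Or.inl fun v => by
    rw [one_mul]; rfl⟩
  exact ⟨⟨_, hm⟩, ⟨by simp [ent, dmap, -ZMod.inv_coe_unit], by simp [ent, dmap, -ZMod.inv_coe_unit]⟩, by simp [ent, dmap, -ZMod.inv_coe_unit], by simp [ent, dmap, -ZMod.inv_coe_unit]⟩

theorem diag_pow {f : T} (hf : IsDiag T f) : ∀ n : ℕ, IsDiag T (f ^ n) ∧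
    ent T (f ^ n) 0 0 = ent T f 0 0 ^ n ∧ ent T (f ^ n) 1 1 = ent T f 1 1 ^ n := by
  intro n
  induction n with
  | zero => simp [IsDiag, ent_one]
  | succ n ih =>
    obtain ⟨⟨i1, i2⟩, i3, i4⟩ := ih
    simp only [IsDiag, pow_succ, ent_mul, i1, i2, i3, i4, hf.1, hf.2, mul_zero, zero_mul, add_zero, zero_add, and_self]

include hT in
theorem anti_sq {f : T} (hf : ¬ IsDiag T f) : f ^ 4 = 1 := by
  obtain ⟨a, s, ha, hs, h | ⟨h1, h2, h3, h4⟩⟩ := cases_ent T hT f
  · exact absurd ⟨h.2.1, h.2.2.1⟩ hf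
  refine ent_ext T fun i j => ?_
  have hs2 : s * s = 1 := by rcases hs with rfl | rfl <;> ring
  rw [show f ^ 4 = (f * f) * (f * f) by simp [pow_succ, mul_assoc]]
  fin_cases i <;> fin_cases j <;> simp [ent_mul, ent_one, h1, h2, h3, h4] <;> field_simp <;> linear_combination hs2

include hT in
theorem diag_facts {f : T} (hf : IsDiag T f) : ent T f 0 0 ≠ 0 ∧
    (ent T f 0 0 * ent T f 1 1 = 1 ∨ ent T f 0 0 * ent T f 1 1 = -1) := by
  obtain ⟨a, s, ha, hs, ⟨h1, -, -, h4⟩ | ⟨-, -, h3, -⟩⟩ := cases_ent T hT f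
  · refine ⟨h1 ▸ ha, ?_⟩
    rw [h1, h4, mul_left_comm, mul_inv_cancel₀ ha, mul_one]
    exact hs
  · exact absurd (h3 ▸ hf.2) ha

include hT in
theorem anti_det {f : T} (hf : ¬ IsDiag T f) : ent T f 0 0 = 0 ∧ ent T f 1 1 = 0 ∧
    (ent T f 0 1 * ent T f 1 0 = 1 ∨ ent T f 0 1 * ent T f 1 0 = -1) := by
  obtain ⟨a, s, ha, hs, h | ⟨h1, h2, h3, h4⟩⟩ := cases_ent T hT f
  · exact absurd ⟨h.2.1, h.2.2.1⟩ hf
  · refine ⟨h1, h4, ?_⟩
    rw [h2, h3, inv_mul_cancel_right₀ ha]
    exact hs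

include hT in
theorem inv_ent (f : T) : IsDiag T f → IsDiag T f⁻¹ := by
  intro hf
  by_contra hn
  obtain ⟨a1, a2, a3⟩ := anti_det T hT hn
  obtain ⟨d0, -⟩ := diag_facts T hT hf
  have h := ent_mul T f f⁻¹ 0 0
  rw [mul_inv_cancel, ent_one, if_pos rfl, a1, hf.1, mul_zero, zero_mul, add_zero] at h
  exact one_ne_zero h

include hT in
/-- The case of large fields. -/
theorem big [Finite T] (m : ℕ) (hm : 3 ≤ m) (hq : q = 2 ^ m + 1) (hP : IsPGroup 2 T) : IsPGroup 2 (MulAut T) := by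
  have hq2 : (-1 : ZMod q) ≠ 1 := by
    intro h
    have : ((2 : ℕ) : ZMod q) = 0 := by push_cast; linear_combination (-1 : ZMod q) * h
    rw [ZMod.natCast_eq_zero_iff] at this
    have h1 : (2 : ℕ) ^ 3 ≤ 2 ^ m := Nat.pow_le_pow_right (by norm_num) hm
    have := Nat.le_of_dvd (by norm_num) this
    omega
  obtain ⟨g, hg⟩ := IsCyclic.exists_generator (α := (ZMod q)ˣ)
  have hgord : orderOf g = 2 ^ m := by
    rw [orderOf_eq_card_of_forall_mem_zpowers hg, Nat.card_eq_fintype_card, ZMod.card_units, hq]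
    simp
  have hg4 : (g : ZMod q) ^ 4 ≠ 1 := by
    intro h
    have h' : g ^ 4 = 1 := Units.ext (by simpa using h)
    have := Nat.le_of_dvd (by norm_num) (hgord ▸ orderOf_dvd_of_pow_eq_one h')
    have h1 : (2 : ℕ) ^ 3 ≤ 2 ^ m := Nat.pow_le_pow_right (by norm_num) hm
    omega
  let A : Subgroup T :=
    { carrier := {f | IsDiag T f}
      one_mem' := by simp [IsDiag, ent_one]
      mul_mem' := fun {x y} hx hy => by
        simp only [Set.mem_setOf_eq, IsDiag, ent_mul] at *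
        simp [hx.1, hx.2, hy.1, hy.2]
      inv_mem' := fun {x} hx => inv_ent T hT x hx }
  have hAcomm : ∀ x ∈ A, ∀ y ∈ A, x * y = y * x := fun x hx y hy => ent_ext T fun i j => by
    have hx' : IsDiag T x := hx
    have hy' : IsDiag T y := hy
    fin_cases i <;> fin_cases j <;> simp [ent_mul, hx'.1, hx'.2, hy'.1, hy'.2, mul_comm]
  let D : Subgroup T :=
    { carrier := {f | ∃ y ∈ A, f = y ^ 2}
      one_mem' := ⟨1, A.one_mem, by simp⟩
      mul_mem' := by
        rintro _ _ ⟨x, hx, rfl⟩ ⟨y, hy, rfl⟩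
        exact ⟨x * y, A.mul_mem hx hy, ((show Commute x y from hAcomm x hx y hy).mul_pow 2).symm⟩
      inv_mem' := by
        rintro _ ⟨x, hx, rfl⟩
        exact ⟨x⁻¹, A.inv_mem hx, (inv_pow x 2).symm⟩ }
  have hDA : D ≤ A := by rintro _ ⟨y, hy, rfl⟩; exact A.pow_mem hy 2
  -- every diagonal element is a product of two elements of order at least eight
  have hA : ∀ (θ : MulAut T), ∀ x ∈ A, θ x ∈ A := by
    have hgood : ∀ (θ : MulAut T) (x : T), x ^ 4 ≠ 1 → θ x ∈ A := by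
      intro θ x hx
      show IsDiag T (θ x)
      by_contra hn
      exact hx (θ.injective (by rw [map_pow, anti_sq T hT hn, map_one]))
    intro θ x hx
    have hx' : IsDiag T x := hx
    by_cases h4 : x ^ 4 = 1
    · obtain ⟨u, hu⟩ : ∃ u : T, IsDiag T u ∧ ent T u 0 0 = (g : ZMod q) :=
        (exists_diag T hT g).imp fun u hu => ⟨hu.1, hu.2.1⟩
      have hu4 : u ^ 4 ≠ 1 := fun e => hg4 (by rw [← hu.2, ← (diag_pow T hu.1 4).2.1, e, ent_one, if_pos rfl])
      have huA : u ∈ A := hu.1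
      have hxu : (u⁻¹ * x) ^ 4 ≠ 1 := fun e => hu4 (by
        have h' : Commute u⁻¹ x := hAcomm _ (A.inv_mem huA) _ hx
        rw [h'.mul_pow, h4, mul_one, inv_pow, inv_eq_one] at e
        exact e)
      have := A.mul_mem (hgood θ u hu4) (hgood θ _ hxu)
      rwa [← map_mul, mul_inv_cancel_left] at this
    · exact hgood θ x h4
  have hD : ∀ (θ : MulAut T), ∀ x ∈ D, θ x ∈ D := by
    rintro θ _ ⟨y, hy, rfl⟩
    exact ⟨θ y, hA θ y hy, map_pow θ y 2⟩
  have hA' : ∀ (θ : MulAut T) (x : T), θ x ∈ A ↔ x ∈ A := fun θ x =>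
    ⟨fun h => by simpa using hA θ⁻¹ _ h, hA θ x⟩
  have h1 : ∀ (θ : MulAut T) (x : T), θ x * x⁻¹ ∈ A := by
    intro θ x
    by_cases hx : x ∈ A
    · exact A.mul_mem (hA θ x hx) (A.inv_mem hx)
    · have h' : ¬ IsDiag T (θ x) := fun h => hx ((hA' θ x).mp h)
      have hxi : ¬ IsDiag T x⁻¹ := fun h => hx (A.inv_mem_iff.mp h)
      obtain ⟨a1, a2, -⟩ := anti_det T hT h'
      obtain ⟨b1, b2, -⟩ := anti_det T hT hxi
      exact ⟨by simp [ent_mul, a1, b2], by simp [ent_mul, a2, b1]⟩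
  -- characterisation of the squares
  have hDmem : ∀ x ∈ A, ent T x 0 0 ^ (2 ^ (m - 1)) = 1 → ent T x 0 0 * ent T x 1 1 = 1 → x ∈ D := by
    intro x hx hpow hdet
    have hx' : IsDiag T x := hx
    have hx0 := (diag_facts T hT hx').1
    have hsq : IsSquare (ent T x 0 0) := by
      rw [ZMod.euler_criterion q hx0]
      have hh : q / 2 = 2 ^ (m - 1) := by
        have : 2 ^ m = 2 * 2 ^ (m - 1) := by rw [← pow_succ']; congr 1; omega
        omega
      rw [hh]; exact hpow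
    obtain ⟨b, hb⟩ := hsq
    have hb0 : b ≠ 0 := fun h => hx0 (by rw [hb, h, mul_zero])
    obtain ⟨y, hy, y0, y1⟩ := exists_diag T hT (Units.mk0 b hb0)
    refine ⟨y, hy, ent_ext T fun i j => ?_⟩
    obtain ⟨⟨p1, p2⟩, p3, p4⟩ := diag_pow T hy 2
    revert i j
    simp only [Fin.forall_fin_two]
    rw [p1, p2, p3, p4, y0, y1, Units.val_mk0]
    refine ⟨⟨by rw [hb, pow_two], hx'.1⟩, hx'.2, ?_⟩
    rw [pow_two, ← mul_inv, ← hb]
    exact eq_inv_of_mul_eq_one_right hdet
  have hDprop : ∀ x ∈ D, ent T x 0 0 ^ (2 ^ (m - 1)) = 1 ∧ ent T x 0 0 * ent T x 1 1 = 1 := by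
    rintro _ ⟨y, hy, rfl⟩
    have hy' : IsDiag T y := hy
    obtain ⟨-, p3, p4⟩ := diag_pow T hy' 2
    obtain ⟨y0, ydet⟩ := diag_facts T hT hy'
    refine ⟨?_, ?_⟩
    · rw [p3, ← pow_mul, ← pow_succ' 2 (m - 1), Nat.sub_add_cancel (by omega),
        show (2 : ℕ) ^ m = q - 1 by omega, ZMod.pow_card_sub_one_eq_one y0]
    · rw [p3, p4, ← mul_pow]
      rcases ydet with e | e <;> rw [e] <;> simp
  -- the subgroup of squares-or-negatives
  have hA2 : ∀ (θ : MulAut T), ∀ x ∈ A, ent T x 0 0 ^ (2 ^ (m - 1)) = 1 → θ x * x⁻¹ ∈ D := by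
    intro θ x hx hpow
    have hx' : IsDiag T x := hx
    by_cases hxD : x ∈ D
    · exact D.mul_mem (hD θ x hxD) (D.inv_mem hxD)
    have hθx : IsDiag T (θ x) := hA θ x hx
    have hpow' : x ^ (2 ^ (m - 1)) = 1 := by
      refine ent_ext T fun i j => ?_
      obtain ⟨⟨p1, p2⟩, p3, p4⟩ := diag_pow T hx' (2 ^ (m - 1))
      obtain ⟨x0, xdet⟩ := diag_facts T hT hx'
      fin_cases i <;> fin_cases j
      · simp [ent_one, p3, hpow]
      · simp [ent_one, p1]
      · simp [ent_one, p2]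
      · simp only [Fin.mk_one]
        rw [ent_one, if_pos rfl, p4]
        have he : (2 : ℕ) ^ (m - 1) = 2 * 2 ^ (m - 2) := by rw [← pow_succ']; congr 1; omega
        have h5 : (ent T x 0 0 * ent T x 1 1) ^ (2 ^ (m - 1)) = 1 := by
          rcases xdet with e | e <;> rw [e, he, pow_mul] <;> simp
        rwa [mul_pow, hpow, one_mul] at h5
    have hθpow : ent T (θ x) 0 0 ^ (2 ^ (m - 1)) = 1 := by
      rw [← (diag_pow T hθx _).2.1, ← map_pow, hpow', map_one, ent_one, if_pos rfl]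
    have hθD : θ x ∉ D := fun h => hxD (by simpa using hD θ⁻¹ _ h)
    have d1 := (diag_facts T hT hx').2.resolve_left fun e => hxD (hDmem x hx hpow e)
    have d2 := (diag_facts T hT hθx).2.resolve_left fun e => hθD (hDmem _ (hA θ x hx) hθpow e)
    have hxi : IsDiag T x⁻¹ := inv_ent T hT x hx'
    have e0 : ent T x 0 0 * ent T x⁻¹ 0 0 = 1 := by
      have := ent_mul T x x⁻¹ 0 0
      rw [mul_inv_cancel, ent_one, if_pos rfl, hx'.1, zero_mul, add_zero] at this
      exact this.symm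
    have e1 : ent T x 1 1 * ent T x⁻¹ 1 1 = 1 := by
      have := ent_mul T x x⁻¹ 1 1
      rw [mul_inv_cancel, ent_one, if_pos rfl, hx'.2, zero_mul, zero_add] at this
      exact this.symm
    refine hDmem _ (A.mul_mem (hA θ x hx) (A.inv_mem hx)) ?_ ?_
    · rw [ent_mul, hθx.1, zero_mul, add_zero, mul_pow, hθpow, one_mul]
      have := congrArg (· ^ (2 ^ (m - 1))) e0
      simpa [mul_pow, hpow] using this
    · rw [ent_mul, ent_mul, hθx.1, hθx.2, zero_mul, zero_mul, add_zero, zero_add]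
      linear_combination (ent T x⁻¹ 0 0 * ent T x⁻¹ 1 1) * d2 - (ent T x⁻¹ 0 0 * ent T x⁻¹ 1 1) * d1 + e1 + (ent T x 1 1 * ent T x⁻¹ 1 1) * e0
  have h2 : ∀ (θ : MulAut T), ∀ x ∈ A, θ (θ x) * x⁻¹ ∈ D := by
    intro θ x hx
    have hx' : IsDiag T x := hx
    by_cases hp : ent T x 0 0 ^ (2 ^ (m - 1)) = 1
    · have := hA2 (θ * θ) x hx hp
      simpa using this
    have hsgn : ∀ y : T, IsDiag T y → ent T y 0 0 ^ (2 ^ (m - 1)) ≠ 1 → ent T y 0 0 ^ (2 ^ (m - 1)) = -1 := by
      intro y hy hne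
      refine (mul_self_eq_one_iff.mp ?_).resolve_left hne
      rw [← pow_add, ← two_mul, ← pow_succ', Nat.sub_add_cancel (by omega), show (2 : ℕ) ^ m = q - 1 by omega,
        ZMod.pow_card_sub_one_eq_one (diag_facts T hT hy).1]
    have hθx : IsDiag T (θ x) := hA θ x hx
    have hpθ : ent T (θ x) 0 0 ^ (2 ^ (m - 1)) ≠ 1 := by
      intro h
      have h1' := hA2 θ⁻¹ (θ x) (hA θ x hx) h
      rw [MulAut.inv_apply_self] at h1'
      have h2' := hDprop _ h1'
      rw [ent_mul, hx'.1, zero_mul, add_zero, mul_pow] at h2'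
      have hθi : ent T (θ x) 0 0 * ent T (θ x)⁻¹ 0 0 = 1 := by
        have := ent_mul T (θ x) (θ x)⁻¹ 0 0
        rw [mul_inv_cancel, ent_one, if_pos rfl, hθx.1, zero_mul, add_zero] at this
        exact this.symm
      have := congrArg (· ^ (2 ^ (m - 1))) hθi
      simp only [mul_pow, h, one_mul, one_pow] at this
      rw [this, mul_one] at h2'
      exact hp h2'.1
    set y := θ x * x⁻¹ with hy
    have hyA : y ∈ A := h1 θ x
    have hyp : ent T y 0 0 ^ (2 ^ (m - 1)) = 1 := by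
      rw [hy, ent_mul, hθx.1, zero_mul, add_zero, mul_pow, hsgn _ hθx hpθ]
      have e0 := ent_mul T x x⁻¹ 0 0
      rw [mul_inv_cancel, ent_one, if_pos rfl, hx'.1, zero_mul, add_zero] at e0
      have := congrArg (· ^ (2 ^ (m - 1))) e0
      simp only [mul_pow, hsgn _ hx' hp, one_pow] at this
      exact this.symm
    have hd := hA2 θ y hyA hyp
    have hy2 : y ^ 2 ∈ D := ⟨y, hyA, rfl⟩
    have e : θ (θ x) * x⁻¹ = (θ y * y⁻¹) * y ^ 2 := by
      rw [pow_two, mul_assoc, inv_mul_cancel_left, hy, map_mul, map_inv, mul_assoc (θ (θ x)), inv_mul_cancel_left]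
    rw [e]
    exact D.mul_mem hd hy2
  have hcyc : IsCyclic D := by
    let φ : D →* ZMod q :=
      { toFun := fun f => ent T (f : T) 0 0
        map_one' := by simp [ent_one]
        map_mul' := fun a b => by
          have : IsDiag T (a : T) := hDA a.2
          rw [Subgroup.coe_mul, ent_mul, this.1, zero_mul, add_zero] }
    refine isCyclic_of_injective_ringHom φ ?_
    intro a b h
    have ha : IsDiag T (a : T) := hDA a.2
    have hb : IsDiag T (b : T) := hDA b.2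
    have h' : ent T (a : T) 0 0 = ent T (b : T) 0 0 := h
    refine Subtype.ext (ent_ext T fun i j => ?_)
    fin_cases i <;> fin_cases j
    · exact h'
    · exact ha.1.trans hb.1.symm
    · exact ha.2.trans hb.2.symm
    · have e1 := (hDprop _ a.2).2
      have e2 := (hDprop _ b.2).2
      rw [h'] at e1
      exact mul_left_cancel₀ (left_ne_zero_of_mul_eq_one e1) (e1.trans e2.symm)
  exact isPGroup_mulAut hP A D hA hD h1 h2

include hT in
/-- The field of three elements. -/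
theorem three [Finite T] (hq : q = 3) (hP : IsPGroup 2 T) : IsPGroup 2 (MulAut T) := by
  subst hq
  obtain rfl : ‹Fact (Nat.Prime 3)› = Nat.fact_prime_three := Subsingleton.elim _ _
  let J : (Fin 2 → ZMod 3) ≃ₗ[ZMod 3] (Fin 2 → ZMod 3) :=
    { toFun := fun v => ![- v 1, v 0]
      invFun := fun v => ![v 1, - v 0]
      left_inv := fun v => by funext i; fin_cases i <;> simp
      right_inv := fun v => by funext i; fin_cases i <;> simp
      map_add' := fun v w => by funext i; fin_cases i <;> simp [add_comm]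
      map_smul' := fun c v => by funext i; fin_cases i <;> simp }
  have hJ : J ∈ T := (hT J).mpr ⟨1, -1, one_ne_zero, Or.inr rfl, Or.inr fun v => by
    funext i; fin_cases i <;> simp [J]⟩
  let j : T := ⟨J, hJ⟩
  have J00 : ent T j 0 0 = 0 := by simp [ent, j, J]
  have J01 : ent T j 0 1 = -1 := by simp [ent, j, J]
  have J10 : ent T j 1 0 = 1 := by simp [ent, j, J]
  have J11 : ent T j 1 1 = 0 := by simp [ent, j, J]
  have hz : ∀ a : ZMod 3, a ≠ 0 → a = 1 ∨ a = -1 := by decide +kernel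
  let δ : T → ZMod 3 := fun f => ent T f 0 0 * ent T f 1 1 - ent T f 0 1 * ent T f 1 0
  have hδ : ∀ f g, δ (f * g) = δ f * δ g := fun f g => by simp only [δ, ent_mul]; ring
  have hj2 : ∀ i k, ent T (j ^ 2) i k = if i = k then -1 else 0 := by
    intro i k
    fin_cases i <;> fin_cases k <;> simp [pow_two, ent_mul, J00, J01, J10, J11]
  have hker : ∀ f, δ f = 1 → f ∈ Subgroup.zpowers j := by
    intro f hf
    obtain ⟨a, s, ha, hs, ⟨e1, e2, e3, e4⟩ | ⟨e1, e2, e3, e4⟩⟩ := cases_ent T hT f <;>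
      simp only [δ, e1, e2, e3, e4] at hf <;>
      rcases hz a ha with rfl | rfl <;> rcases hs with rfl | rfl <;> first | (exfalso; revert hf; decide +kernel) | skip
    · convert Subgroup.one_mem (Subgroup.zpowers j)
      refine ent_ext T fun i k => ?_
      fin_cases i <;> fin_cases k <;> simp [ent_one, e1, e2, e3, e4]
    · convert Subgroup.pow_mem _ (Subgroup.mem_zpowers j) 2 using 1
      refine ent_ext T fun i k => ?_
      fin_cases i <;> fin_cases k <;> simp [hj2, e1, e2, e3, e4]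
    · convert Subgroup.mem_zpowers j using 1
      refine ent_ext T fun i k => ?_
      fin_cases i <;> fin_cases k <;> simp [J00, J01, J10, J11, e1, e2, e3, e4]
    · convert Subgroup.pow_mem _ (Subgroup.mem_zpowers j) 3 using 1
      refine ent_ext T fun i k => ?_
      fin_cases i <;> fin_cases k <;> simp [pow_succ, ent_mul, hj2, J00, J01, J10, J11, e1, e2, e3, e4]
  have hord : ∀ f, f ∉ Subgroup.zpowers j → f ^ 2 = 1 := by
    intro f hf
    have hd : δ f ≠ 1 := fun h => hf (hker f h)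
    refine ent_ext T fun i k => ?_
    obtain ⟨a, s, ha, hs, ⟨e1, e2, e3, e4⟩ | ⟨e1, e2, e3, e4⟩⟩ := cases_ent T hT f <;>
      simp only [δ, e1, e2, e3, e4] at hd <;>
      rcases hz a ha with rfl | rfl <;> rcases hs with rfl | rfl <;>
      first
        | (exfalso; revert hd; decide +kernel)
        | (fin_cases i <;> fin_cases k <;> simp [pow_two, ent_mul, ent_one, e1, e2, e3, e4])
  have hj4 : j ^ 2 ≠ 1 := fun h => by
    have := hj2 0 0
    rw [h, ent_one, if_pos rfl, if_pos rfl] at this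
    exact absurd this (by decide +kernel)
  have hA : ∀ (θ : MulAut T), ∀ x ∈ Subgroup.zpowers j, θ x ∈ Subgroup.zpowers j := by
    rintro θ _ ⟨k, rfl⟩
    rw [map_zpow]
    refine Subgroup.zpow_mem _ ?_ k
    by_contra h
    exact hj4 (θ.injective (by rw [map_pow, hord _ h, map_one]))
  have hδj : ∀ x ∈ Subgroup.zpowers j, δ x = 1 := by
    intro x hx
    obtain ⟨n, rfl⟩ := Submonoid.mem_powers_iff _ _ |>.mp (mem_powers_iff_mem_zpowers.mpr hx)
    induction n with
    | zero => simp [δ, ent_one]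
    | succ n ih =>
      rw [pow_succ, hδ, ih (Subgroup.pow_mem _ (Subgroup.mem_zpowers j) n), one_mul]
      simp [δ, J00, J01, J10, J11]
  have hsgn : ∀ f : T, δ f = 1 ∨ δ f = -1 := by
    intro f
    obtain ⟨a, s, ha, hs, ⟨e1, e2, e3, e4⟩ | ⟨e1, e2, e3, e4⟩⟩ := cases_ent T hT f <;>
      simp only [δ, e1, e2, e3, e4] <;>
      rcases hz a ha with rfl | rfl <;> rcases hs with rfl | rfl <;> decide +kernel
  refine isPGroup_mulAut hP (Subgroup.zpowers j) (Subgroup.zpowers j) hA hA (fun θ x => ?_) (fun θ x hx => ?_)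
  · apply hker
    rw [hδ]
    by_cases hx : x ∈ Subgroup.zpowers j
    · rw [hδj _ (hA θ x hx), hδj _ (Subgroup.inv_mem _ hx), one_mul]
    · have h1 := (hsgn (θ x)).resolve_left fun h => hx (by simpa using hA θ⁻¹ _ (hker _ h))
      have h2 := (hsgn x⁻¹).resolve_left fun h => hx (inv_inv x ▸ Subgroup.inv_mem _ (hker _ h))
      rw [h1, h2]; decide +kernel
  · exact Subgroup.mul_mem _ (hA θ _ (hA θ x hx)) (Subgroup.inv_mem _ hx)

end monomial

theorem result (q m : ℕ) [Fact q.Prime] (hq : q = 2 ^ m + 1) (hq5 : q ≠ 5)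
    (T : Subgroup ((Fin 2 → ZMod q) ≃ₗ[ZMod q] (Fin 2 → ZMod q)))
    (hT : ∀ f, f ∈ T ↔ ∃ a s : ZMod q, a ≠ 0 ∧ (s = 1 ∨ s = -1) ∧
      ((∀ v, f v = ![a * v 0, s * a⁻¹ * v 1]) ∨ (∀ v, f v = ![s * a⁻¹ * v 1, a * v 0]))) :
    IsPGroup 2 (MulAut T) := by
  have : Finite T := Finite.of_injective (fun f : T => fun i j => ent T f i j)
    (fun f g h => ent_ext T fun i j => congrFun (congrFun h i) j)
  have hP : IsPGroup 2 T := by
    intro f
    by_cases hf : IsDiag T f
    · refine ⟨m + 1, ent_ext T fun i j => ?_⟩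
      obtain ⟨⟨p1, p2⟩, p3, p4⟩ := diag_pow T hf (2 ^ (m + 1))
      obtain ⟨f0, fd⟩ := diag_facts T hT hf
      have f1 : ent T f 1 1 ≠ 0 := by
        intro h
        rw [h, mul_zero] at fd
        rcases fd with e | e
        · exact one_ne_zero e.symm
        · exact neg_ne_zero.mpr one_ne_zero e.symm
      have hp : ∀ a : ZMod q, a ≠ 0 → a ^ (2 ^ (m + 1)) = 1 := fun a ha => by
        rw [pow_succ, pow_mul, (Nat.eq_sub_of_add_eq hq.symm : (2 : ℕ) ^ m = q - 1), ZMod.pow_card_sub_one_eq_one ha, one_pow]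
      fin_cases i <;> fin_cases j <;> simp [ent_one, p1, p2, p3, p4, hp _ f0, hp _ f1]
    · exact ⟨2, anti_sq T hT hf⟩
  rcases (show m = 0 ∨ m = 1 ∨ m = 2 ∨ 3 ≤ m by omega) with rfl | rfl | rfl | h3
  · have h2 : q = 2 := by simpa using hq
    subst h2
    obtain rfl : ‹Fact (Nat.Prime 2)› = Nat.fact_prime_two := Subsingleton.elim _ _
    have hone : ∀ a : ZMod 2, a ≠ 0 → a = 1 := by decide
    have hcard : Nat.card T ∣ 2 := by
      let w : Fin 2 → T → ZMod 2 := fun _ f => ent T f 0 0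
      have hinj : Function.Injective (fun f : T => ent T f 0 0) := by
        intro f g hfg
        have key : ∀ f : T, ent T f 1 1 = ent T f 0 0 ∧ ent T f 0 1 = 1 - ent T f 0 0 ∧ ent T f 1 0 = 1 - ent T f 0 0 := by
          intro f
          obtain ⟨a, s, ha, hs, h⟩ := cases_ent T hT f
          obtain rfl := hone a ha
          have hs' : s = 1 := hs.elim id (fun h => h.trans (by decide))
          subst hs'
          rcases h with ⟨e1, e2, e3, e4⟩ | ⟨e1, e2, e3, e4⟩ <;> simp [e1, e2, e3, e4]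
        obtain ⟨a1, a2, a3⟩ := key f
        obtain ⟨b1, b2, b3⟩ := key g
        have hfg' : ent T f 0 0 = ent T g 0 0 := hfg
        refine ent_ext T fun i j => ?_
        fin_cases i <;> fin_cases j <;> simp [a1, a2, a3, b1, b2, b3, hfg']
      have hle := Nat.card_le_card_of_injective _ hinj
      simp only [Nat.card_zmod] at hle
      obtain ⟨k, hk⟩ := IsPGroup.iff_card.mp hP
      rw [hk] at hle ⊢
      rcases k with _ | _ | k
      · simp
      · simp
      · exfalso; rw [pow_succ, pow_succ] at hle; have := Nat.one_le_two_pow (n := k); omega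
    have : IsCyclic T := isCyclic_of_card_dvd_prime hcard
    have : IsCyclic (⊤ : Subgroup T) := isCyclic_of_surjective Subgroup.topEquiv.symm Subgroup.topEquiv.symm.surjective
    exact isPGroup_mulAut hP ⊤ ⊤ (fun _ _ _ => trivial) (fun _ _ _ => trivial) (fun _ _ => trivial) (fun _ _ _ => trivial)
  · exact three T hT (by simpa using hq) hP
  · exact absurd (by simpa using hq) hq5
  · exact big T hT m h3 hq hP

end Cfsg.Agent.S3382
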