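import Cfsg.Statements.S3385
import Cfsg.Agent.H19.Cubic.Suborbit
-- import your own Cfsg.Agent.* helpers here

set_option autoImplicit false
open Cfsg

namespace Cfsg.Agent.S3385

/-- Sims' Theorem on primitive groups with a suborbit of length 3. Let G be a finite group acting faithfully and primitively on a set Ω, and suppose the stabilizer of a point a has an orbit of length 3 on Ω. Then the stabilizer of a has order 2^k · 3 for some k ≤ 4. -/
theorem result {G : Type*} [Group G] [Finite G] {Ω : Type*} [MulAction G Ω] [FaithfulSMul G Ω]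
    (hprim : MulAction.IsPreprimitive G Ω) (a b : Ω)
    (h3 : Nat.card (MulAction.orbit (MulAction.stabilizer G a) b) = 3) :
    ∃ k : ℕ, k ≤ 4 ∧ Nat.card ↥(MulAction.stabilizer G a) = 2 ^ k * 3 := by
  have hc3 : Nat.card (Multiplicative (ZMod 3)) = 3 := by simp
  have hc2 : Nat.card (Multiplicative (ZMod 2)) = 2 := by simp
  have hp4 : Nat.card (Equiv.Perm (Fin 4)) = 24 := by
    rw [Nat.card_perm, Nat.card_fin]; rfl
  rcases H19.Cubic.primitive_cases hprim a b h3 with e | e | e | e | e <;>
    rw [Nat.card_congr e.some.toEquiv]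
  · exact ⟨0, by norm_num, by rw [hc3]; rfl⟩
  · exact ⟨1, by norm_num, by rw [H19.Cubic.card_perm_three]; rfl⟩
  · exact ⟨2, by norm_num, by rw [DihedralGroup.nat_card]; rfl⟩
  · exact ⟨3, by norm_num, by rw [hp4]; rfl⟩
  · exact ⟨4, le_rfl, by rw [Nat.card_prod, hp4, hc2]; rfl⟩

end Cfsg.Agent.S3385
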