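import Cfsg.Statements.S3389

set_option autoImplicit false
open Cfsg
open scoped Pointwise

namespace Cfsg.Agent.S3389

variable {G : Type*} [Group G] [Finite G] {Ω : Type*} [Fintype Ω] [MulAction G Ω]

theorem not_dvd_index (p : ℕ) [Fact p.Prime] (H : Subgroup G) (P : Sylow p H)
    (hQ : ∀ Q : Subgroup G, IsPGroup p Q →
      Q ≤ Subgroup.normalizer (((P : Subgroup H).map H.subtype : Subgroup G) : Set G) → Q ≤ H) :
    ¬ p ∣ H.index := by
  intro hd
  have hp : p.Prime := Fact.out
  obtain ⟨n, hn⟩ := P.2.exists_card_eq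
  have hn' : Nat.card ((P : Subgroup H).map H.subtype) = p ^ n := by
    rw [Subgroup.card_map_of_injective H.subtype_injective, hn]
  have hdvd : p ^ (n + 1) ∣ Nat.card G := by
    rw [← H.card_mul_index, pow_succ]
    exact mul_dvd_mul (hn ▸ (P : Subgroup H).card_subgroup_dvd_card) hd
  obtain ⟨Q, hQc⟩ := Sylow.exists_subgroup_card_pow_prime p (Sylow.prime_pow_dvd_card_normalizer hdvd hn')
  have hle : Q.map (Subgroup.normalizer (((P : Subgroup H).map H.subtype : Subgroup G) : Set G)).subtype ≤ H :=
    hQ _ ((IsPGroup.of_card hQc).map _) (Subgroup.map_subtype_le _)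
  have h1 := Subgroup.card_dvd_of_le hle
  rw [Subgroup.card_map_of_injective (Subgroup.subtype_injective _), hQc] at h1
  have h2 := P.pow_dvd_card_of_pow_dvd_card h1
  rw [hn] at h2
  exact absurd ((Nat.pow_dvd_pow_iff_le_right hp.one_lt).mp h2) (by omega)

theorem center_semireg [FaithfulSMul G Ω] (htr : MulAction.IsPretransitive G Ω)
    {z : G} (hz : z ∈ Subgroup.center G) {ω : Ω} (h : z • ω = ω) : z = 1 := by
  apply eq_of_smul_eq_smul (α := Ω)
  intro x
  obtain ⟨g, rfl⟩ := htr.exists_smul_eq ω x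
  rw [one_smul, ← mul_smul, ← Subgroup.mem_center_iff.mp hz g, mul_smul, h]

theorem result {G : Type*} [Group G] [Finite G] {Ω : Type*} [Fintype Ω] [MulAction G Ω] [FaithfulSMul G Ω]
    (htr : MulAction.IsPretransitive G Ω) (k : ℕ) (hk : 1 ≤ k)
    (hfix : ∀ g : G, g ≠ 1 → Nat.card (MulAction.fixedBy Ω g) ≤ k) (hex : ∃ g : G, g ≠ 1 ∧ Nat.card (MulAction.fixedBy Ω g) = k) :
    Nat.card (Subgroup.center G) ∣ k ∧ (k = 2 → 2 ∣ Nat.card G) ∧
      ∀ (p : ℕ), p.Prime → k < p → p ∣ Nat.card G → ∀ α : Ω,
        ¬ p ∣ Nat.card (MulAction.stabilizer G α) ∨ ¬ p ∣ (MulAction.stabilizer G α).index := by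
  classical
  obtain ⟨g, hg1, hgk⟩ := hex
  refine ⟨?_, ?_, ?_⟩
  · let S : SubMulAction (Subgroup.center G) Ω :=
      { carrier := MulAction.fixedBy Ω g
        smul_mem' := by
          intro z x hx
          rw [MulAction.mem_fixedBy] at hx ⊢
          rw [Subgroup.smul_def, ← mul_smul, Subgroup.mem_center_iff.mp z.2 g, mul_smul, hx] }
    have hfree : ∀ b : S, MulAction.stabilizer (Subgroup.center G) b = ⊥ := by
      intro b
      rw [eq_bot_iff]
      intro z hz
      rw [Subgroup.mem_bot]
      exact Subtype.ext (center_semireg htr z.2 (congrArg Subtype.val hz))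
    have h1 : Nat.card S = k := hgk
    rw [← h1, Nat.card_congr (MulAction.selfEquivOrbitsQuotientProd hfree), Nat.card_prod]
    exact dvd_mul_left _ _
  · rintro rfl
    by_contra hodd
    obtain ⟨a, b, hab, hFix⟩ := Set.ncard_eq_two.mp ((Nat.card_coe_set_eq _).symm.trans hgk)
    set H := MulAction.stabilizer G a ⊓ MulAction.stabilizer G b with hH
    have hga : g • a = a := (hFix ▸ Set.mem_insert a {b} : a ∈ MulAction.fixedBy Ω g)
    have hgb : g • b = b := (hFix ▸ Set.mem_insert_of_mem a rfl : b ∈ MulAction.fixedBy Ω g)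
    have hgH : g ∈ H := ⟨hga, hgb⟩
    obtain ⟨p, hp, hpd⟩ := Nat.exists_prime_and_dvd
      (show Nat.card H ≠ 1 by
        rw [Ne, Subgroup.card_eq_one]
        exact fun h => hg1 (by rw [h] at hgH; exact hgH))
    have := Fact.mk hp
    set P₀ : Sylow p H := default with hP₀
    set P := (P₀ : Subgroup H).map H.subtype with hP
    have hPH : P ≤ H := Subgroup.map_subtype_le _
    obtain ⟨u, huP, hu1⟩ : ∃ u ∈ P, u ≠ (1 : G) := by
      refine (Subgroup.bot_or_exists_ne_one P).resolve_left ?_
      rw [hP,  Subgroup.map_eq_bot_iff_of_injective _ H.subtype_injective]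
      exact P₀.ne_bot_of_dvd_card hpd
    have hfu : ∀ x : Ω, u • x = x → x = a ∨ x = b := by
      intro x hx
      by_contra hne
      push Not at hne
      have h3 : ({x, a, b} : Set Ω) ⊆ MulAction.fixedBy Ω u := by
        rintro y (rfl | rfl | rfl)
        · exact hx
        · exact (hPH huP).1
        · exact (hPH huP).2
      have := Set.ncard_le_ncard h3 (Set.toFinite _)
      rw [Set.ncard_eq_three.mpr ⟨x, a, b, hne.1, hne.2, hab, rfl⟩] at this
      have h2 := hfix u hu1
      rw [Nat.card_coe_set_eq] at h2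
      omega
    have hN : ∀ n ∈ Subgroup.normalizer (P : Set G), n ∈ H := by
      intro n hn
      have hperm : ∀ x : Ω, (x = a ∨ x = b) → (n • x = a ∨ n • x = b) := by
        intro x hx
        apply hfu
        have hc : n⁻¹ * u * n ∈ P := (Subgroup.mem_normalizer_iff''.mp hn u).mp huP
        have h4 : (n⁻¹ * u * n) • x = x := by
          rcases hx with rfl | rfl
          exacts [(hPH hc).1, (hPH hc).2]
        rwa [mul_smul, mul_smul, inv_smul_eq_iff] at h4
      have hn2 : n ∈ Subgroup.zpowers (n ^ 2) := by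
        obtain ⟨m, hm⟩ : Odd (orderOf n) :=
          Nat.not_even_iff_odd.mp fun h => hodd ((even_iff_two_dvd.mp h).trans (orderOf_dvd_natCard n))
        refine ⟨(m + 1 : ℕ), ?_⟩
        simp only [zpow_natCast]
        rw [← pow_mul, show 2 * (m + 1) = orderOf n + 1 by omega, pow_succ, pow_orderOf_eq_one, one_mul]
      have hna : n • a = a := by
        rcases hperm a (Or.inl rfl) with h | h
        · exact h
        · rcases hperm b (Or.inr rfl) with h' | h'
          · have h2 : n ^ 2 ∈ MulAction.stabilizer G a := by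
              rw [MulAction.mem_stabilizer_iff, pow_two, mul_smul, h, h']
            exact Subgroup.zpowers_le.mpr h2 hn2
          · exact absurd (MulAction.injective n (h.trans h'.symm)) hab
      refine ⟨hna, ?_⟩
      rcases hperm b (Or.inr rfl) with h | h
      · exact absurd (MulAction.injective n (hna.trans h.symm)) hab
      · exact h
    have hnd : ¬ p ∣ H.index := not_dvd_index p H P₀ fun Q _ hQ x hx => hN x (hQ hx)
    obtain ⟨c, hc⟩ := htr.exists_smul_eq a b
    have hPpg : IsPGroup p P := P₀.2.map _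
    let PG : Sylow p G := hPpg.toSylow (by
      rw [hP, Subgroup.index_map_subtype]
      exact fun h => (hp.dvd_mul.mp h).elim P₀.not_dvd_index hnd)
    have hcoe : (PG : Subgroup G) = P := rfl
    have h1 : (PG : Subgroup G) ≤ MulAction.stabilizer G b := hPH.trans inf_le_right
    have h2 : ((c • PG : Sylow p G) : Subgroup G) ≤ MulAction.stabilizer G b := by
      rintro _ ⟨x, hx, rfl⟩
      show (c * x * c⁻¹) • b = b
      have hxa : x • a = a := (hPH hx).1
      rw [mul_smul, mul_smul, show c⁻¹ • b = a from inv_smul_eq_iff.mpr hc.symm, hxa, hc]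
    obtain ⟨h, hh⟩ := MulAction.exists_smul_eq (MulAction.stabilizer G b) ((c • PG).subtype h2) (PG.subtype h1)
    rw [Sylow.smul_subtype] at hh
    have hh' := Sylow.subtype_injective hh
    rw [← smul_assoc] at hh'
    have hh'' : ((h : G) * c) • PG = PG := hh'
    rw [Sylow.smul_eq_iff_mem_normalizer] at hh''
    have h3 : ((h : G) * c) • a = a := (hN _ hh'').1
    rw [mul_smul, hc, MulAction.mem_stabilizer_iff.mp h.2] at h3
    exact hab h3.symm
  · intro p hp hkp _ α
    by_cases hd : p ∣ Nat.card (MulAction.stabilizer G α)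
    swap
    · exact Or.inl hd
    right
    have := Fact.mk hp
    set P₀ : Sylow p (MulAction.stabilizer G α) := default with hP₀
    refine not_dvd_index p _ P₀ fun Q hQ hQN x hx => ?_
    obtain ⟨u, huP, hu1⟩ : ∃ u ∈ (P₀ : Subgroup _).map (MulAction.stabilizer G α).subtype, u ≠ (1 : G) := by
      refine (Subgroup.bot_or_exists_ne_one _).resolve_left ?_
      rw [Subgroup.map_eq_bot_iff_of_injective _ (Subgroup.subtype_injective _)]
      exact P₀.ne_bot_of_dvd_card hd
    have hsub : MulAction.orbit Q α ⊆ MulAction.fixedBy Ω u := by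
      rintro _ ⟨q, rfl⟩
      have hc := (Subgroup.mem_normalizer_iff''.mp (hQN q.2) u).mp huP
      have h4 : ((q : G)⁻¹ * u * q) • α = α := Subgroup.map_subtype_le _ hc
      rwa [mul_smul, mul_smul, inv_smul_eq_iff] at h4
    obtain ⟨n, hn⟩ := hQ.card_orbit α
    have hle : Nat.card (MulAction.orbit Q α) ≤ k :=
      (Nat.card_mono (Set.toFinite _) hsub).trans (hfix u hu1)
    rw [hn] at hle
    have hn0 : n = 0 := by
      rcases Nat.eq_zero_or_pos n with h | h
      · exact h
      · exact absurd ((Nat.le_self_pow h.ne' p).trans hle) (by omega)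
    rw [hn0, pow_zero, Nat.card_coe_set_eq, Set.ncard_eq_one] at hn
    obtain ⟨w, hw⟩ := hn
    have h5 : (⟨x, hx⟩ : Q) • α = w := (hw ▸ MulAction.mem_orbit α (⟨x, hx⟩ : Q) : _ ∈ ({w} : Set Ω))
    have h6 : α = w := (hw ▸ MulAction.mem_orbit_self (M := Q) α : α ∈ ({w} : Set Ω))
    exact h5.trans h6.symm

end Cfsg.Agent.S3389
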