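import Cfsg.Statements.S3390
import Cfsg.Agent.H66.FixityTwo

set_option autoImplicit false
open Cfsg

namespace Cfsg.Agent.S3390

/-- Let G be a finite group acting faithfully and transitively on a finite set Ω with fixity 2 (every non-identity element fixes at most two points, and some fixes exactly two). Let α ∈ Ω and S a Sylow 2-subgroup of G. Then one of the following holds: the stabilizer S_α of α in S is trivial; S is dihedral or semidihedral and either |S_α| = 2 or |S : S_α| = 2; |S| ≥ 4, S has exactly one orbit of size 2 on Ω, every other S-orbit is regular, and G has a normal subgroup of index 2 or of index |S| which is a Frobenius group; or S ≤ G_α. -/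
theorem result {G : Type*} [Group G] [Finite G] {Ω : Type*} [Fintype Ω] [MulAction G Ω] [FaithfulSMul G Ω] (htr : MulAction.IsPretransitive G Ω)
    (hfix : ∀ g : G, g ≠ 1 → Nat.card (MulAction.fixedBy Ω g) ≤ 2) (hex : ∃ g : G, g ≠ 1 ∧ Nat.card (MulAction.fixedBy Ω g) = 2) (α : Ω) (S : Sylow 2 G) :
    (S : Subgroup G) ⊓ MulAction.stabilizer G α = ⊥ ∨
    (((∃ n : ℕ, Nonempty (↥(S : Subgroup G) ≃* DihedralGroup n)) ∨ Cfsg.IsQuasiDihedral ↥(S : Subgroup G)) ∧
       (Nat.card ↥((S : Subgroup G) ⊓ MulAction.stabilizer G α) = 2 ∨ ((S : Subgroup G) ⊓ MulAction.stabilizer G α).relIndex (S : Subgroup G) = 2)) ∨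
    (4 ≤ Nat.card (S : Subgroup G) ∧
       (∃ ω : Ω, Nat.card (MulAction.orbit ↥(S : Subgroup G) ω) = 2 ∧
          ∀ ω' : Ω, ω' ∉ MulAction.orbit ↥(S : Subgroup G) ω → Nat.card (MulAction.orbit ↥(S : Subgroup G) ω') = Nat.card (S : Subgroup G)) ∧
       ∃ N : Subgroup G, N.Normal ∧ (N.index = 2 ∨ N.index = Nat.card (S : Subgroup G)) ∧ (∃ H : Subgroup ↥N, Cfsg.IsFrobeniusComplement H)) ∨
    (S : Subgroup G) ≤ MulAction.stabilizer G α := by
  haveI : Fact (Nat.Prime 2) := ⟨Nat.prime_two⟩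
  have main : (S : Subgroup G) ⊓ MulAction.stabilizer G α = ⊥ ∨
      (S : Subgroup G) ≤ MulAction.stabilizer G α ∨
      ((S : Subgroup G) ⊓ MulAction.stabilizer G α ≠ ⊥ ∧
        MulAction.stabilizer ↥(S : Subgroup G) α ≠ ⊥ ∧
        MulAction.stabilizer ↥(S : Subgroup G) α ≠ ⊤) := by
    by_cases h1 : (S : Subgroup G) ⊓ MulAction.stabilizer G α = ⊥
    · exact Or.inl h1
    by_cases h2 : (S : Subgroup G) ≤ MulAction.stabilizer G α
    · exact Or.inr (Or.inl h2)
    refine Or.inr (Or.inr ⟨h1, ?_, ?_⟩)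
    · intro h
      refine h1 ((Subgroup.eq_bot_iff_forall _).mpr fun a ha => ?_)
      have : (⟨a, ha.1⟩ : ↥(S : Subgroup G)) ∈ MulAction.stabilizer ↥(S : Subgroup G) α := ha.2
      rw [h] at this
      exact congrArg Subtype.val this
    · intro h
      refine h2 fun a ha => ?_
      have : (⟨a, ha⟩ : ↥(S : Subgroup G)) ∈ MulAction.stabilizer ↥(S : Subgroup G) α :=
        h ▸ Subgroup.mem_top _
      exact this
  rcases main with h | h | ⟨hne, hb, ht⟩
  · exact Or.inl h
  · exact Or.inr (Or.inr (Or.inr h))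
  have hF := H66.FixityTwo.atMostTwo_of_card hfix
  have hFS : H66.FixityTwo.AtMostTwo ↥(S : Subgroup G) Ω := fun g hg =>
    hF g (fun h => hg (Subtype.ext h))
  have hcard : Nat.card ↥((S : Subgroup G) ⊓ MulAction.stabilizer G α) =
      Nat.card (MulAction.stabilizer ↥(S : Subgroup G) α) :=
    Nat.card_congr
      { toFun := fun a => ⟨⟨a, a.2.1⟩, a.2.2⟩
        invFun := fun a => ⟨(a : ↥(S : Subgroup G)), (a : ↥(S : Subgroup G)).2, a.2⟩
        left_inv := fun _ => rfl
        right_inv := fun _ => rfl }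
  have hrel : ((S : Subgroup G) ⊓ MulAction.stabilizer G α).relIndex (S : Subgroup G) =
      (MulAction.stabilizer ↥(S : Subgroup G) α).index := by
    rw [inf_comm, Subgroup.inf_relIndex_right]; rfl
  rcases H66.FixityTwo.two_group_fixity S.isPGroup' hFS α hb ht with
    ⟨hs, hc⟩ | ⟨hi, h4, hreg⟩
  · exact Or.inr (Or.inl ⟨hs, hc.imp (fun h => hcard.trans h) (fun h => hrel.trans h)⟩)
  have hno : ∀ u ∈ (S : Subgroup G), ∀ x : Ω, u • x = x → u • α = α := by
    intro u hu x hx
    by_cases hxo : x ∈ MulAction.orbit ↥(S : Subgroup G) α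
    · obtain ⟨g, rfl⟩ := hxo
      haveI := Subgroup.normal_of_index_eq_two hi
      have hm : (⟨u, hu⟩ : ↥(S : Subgroup G)) ∈ MulAction.stabilizer ↥(S : Subgroup G) (g • α) := hx
      have hc := this.conj_mem (g⁻¹ * ⟨u, hu⟩ * g) (by
        rw [MulAction.mem_stabilizer_iff, mul_smul, mul_smul, MulAction.mem_stabilizer_iff.mp hm,
          inv_smul_smul]) g
      have e : g * (g⁻¹ * ⟨u, hu⟩ * g) * g⁻¹ = (⟨u, hu⟩ : ↥(S : Subgroup G)) := by group
      rw [e] at hc
      exact hc
    · have hm : (⟨u, hu⟩ : ↥(S : Subgroup G)) ∈ MulAction.stabilizer ↥(S : Subgroup G) x := hx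
      rw [hreg x hxo, Subgroup.mem_bot] at hm
      rw [show u = 1 from congrArg Subtype.val hm, one_smul]
  obtain ⟨N, hN, hN2, hH⟩ := H66.FixityTwo.frobenius_of_index_two htr hF S α hne hi hno
  refine Or.inr (Or.inr (Or.inl ⟨h4, ⟨α, ?_, fun x hx => ?_⟩, N, hN, Or.inl hN2, hH⟩))
  · rw [Nat.card_coe_set_eq, ← MulAction.index_stabilizer]; exact hi
  · rw [Nat.card_coe_set_eq, ← MulAction.index_stabilizer, hreg x hx, Subgroup.index_bot]

end Cfsg.Agent.S3390
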