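import Cfsg.Statements.S3391
import Cfsg.Agent.Suzuki.Fixity
import Cfsg.Agent.Suzuki.Lie

set_option autoImplicit false
open Cfsg

namespace Cfsg.Agent.S3391

/-- Let q = 2^{2m+1} ≥ 8 and let G be isomorphic to the Suzuki group Sz(q). If G acts faithfully and transitively on a finite set Ω with fixity 2 (every non-identity element fixes at most two points, and some fixes exactly two), then either |Ω| = q² + 1 and the action is 2-transitive, or |Ω| = q²(q² + 1) and the point stabilizers have order q − 1. -/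
theorem result {G : Type*} [Group G] [Finite G] (F : Type) [Field F] [Fintype F] (m : ℕ) (hm : 1 ≤ m) (hF : Fintype.card F = 2 ^ (2 * m + 1))
    (e : G ≃* ↥(Cfsg.Lie.Sz F (2 ^ (m + 1)))) {Ω : Type*} [Fintype Ω] [MulAction G Ω] [FaithfulSMul G Ω] (htr : MulAction.IsPretransitive G Ω)
    (hfix : ∀ g : G, g ≠ 1 → Nat.card (MulAction.fixedBy Ω g) ≤ 2) (hex : ∃ g : G, g ≠ 1 ∧ Nat.card (MulAction.fixedBy Ω g) = 2) :
    (Fintype.card Ω = Fintype.card F ^ 2 + 1 ∧ MulAction.IsMultiplyPretransitive G Ω 2) ∨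
    (Fintype.card Ω = Fintype.card F ^ 2 * (Fintype.card F ^ 2 + 1) ∧ ∀ α : Ω, Nat.card (MulAction.stabilizer G α) = Fintype.card F - 1) := by
  have : Cfsg.Agent.Suzuki.SzField F m := ⟨hF, hm⟩
  let f : ↥(Cfsg.Sz F m) ≃* G := (Cfsg.Agent.Suzuki.lieEquiv m).trans e.symm
  let _ : MulAction ↥(Cfsg.Sz F m) Ω := MulAction.compHom Ω f.toMonoidHom
  have hsmul : ∀ (g : ↥(Cfsg.Sz F m)) (x : Ω), g • x = f g • x := fun _ _ => rfl
  have : MulAction.IsPretransitive ↥(Cfsg.Sz F m) Ω := ⟨fun x y => by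
    obtain ⟨g, hg⟩ := htr.exists_smul_eq x y
    exact ⟨f.symm g, by rw [hsmul, MulEquiv.apply_symm_apply, hg]⟩⟩
  have hfix' : ∀ g : ↥(Cfsg.Sz F m), g ≠ 1 → Nat.card (MulAction.fixedBy Ω g) ≤ 2 := fun g hg =>
    hfix (f g) (fun h => hg (f.injective (by rw [h, map_one])))
  have hex' : ∃ g : ↥(Cfsg.Sz F m), g ≠ 1 ∧ Nat.card (MulAction.fixedBy Ω g) = 2 := by
    obtain ⟨g, hg1, hg⟩ := hex
    refine ⟨f.symm g, fun h => hg1 (f.symm.injective (by rw [h, map_one])), ?_⟩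
    rw [← hg]
    exact Nat.card_congr (Equiv.subtypeEquivRight fun x => by
      simp [hsmul])
  rcases Cfsg.Agent.Suzuki.fixity_two m hfix' hex' with ⟨h1, h2⟩ | ⟨h1, h2⟩
  · refine Or.inl ⟨by rw [← Nat.card_eq_fintype_card, h1, Nat.card_eq_fintype_card], ?_⟩
    rw [MulAction.is_two_pretransitive_iff] at h2 ⊢
    intro a b c d hab hcd
    obtain ⟨g, hg1, hg2⟩ := h2 hab hcd
    exact ⟨f g, hg1, hg2⟩
  · refine Or.inr ⟨by rw [← Nat.card_eq_fintype_card, h1, Nat.card_eq_fintype_card], fun α => ?_⟩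
    rw [← Nat.card_eq_fintype_card, ← h2 α]
    exact Nat.card_congr (f.toEquiv.subtypeEquiv (fun g => Iff.rfl)).symm

end Cfsg.Agent.S3391
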