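import Cfsg.Statements.S3396
import Cfsg.Agent.H70.SpectrumCN
import Cfsg.Agent.H27.PermFamily
import Cfsg.Agent.S0337
import Cfsg.Agent.H65.CIT.CNStructure

set_option autoImplicit false
open Cfsg Cfsg.Agent.H70

namespace Cfsg.Agent.S3396

/-- Let G be a finite group whose order has at least three distinct prime divisors, and suppose every nonidentity element of G has order a power of 2 or a prime other than 5. Then G is isomorphic to PSL₂(7) (here F is any field with 7 elements). In particular a finite group whose set of element orders is {1, 2, 3, 4, 7} is PSL₂(7). -/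
theorem result {G : Type*} [Group G] [Finite G]
    {F : Type*} [Field F] [Fintype F] (hF : Fintype.card F = 7)
    (h3 : 3 ≤ (Nat.card G).primeFactors.card)
    (hord : ∀ g : G, g ≠ 1 → (∃ k : ℕ, orderOf g = 2 ^ k) ∨ ((orderOf g).Prime ∧ orderOf g ≠ 5)) :
    Nonempty (G ≃* Matrix.ProjectiveSpecialLinearGroup (Fin 2) F) := by
  have hpp : ∀ g : G, g ≠ 1 → IsPrimePow (orderOf g) := by
    intro g hg
    rcases hord g hg with ⟨k, hk⟩ | ⟨hp, -⟩
    · refine (isPrimePow_nat_iff _).2 ⟨2, k, Nat.prime_two, Nat.pos_of_ne_zero ?_, hk.symm⟩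
      rintro rfl
      exact hg (orderOf_eq_one_iff.1 hk)
    · exact hp.isPrimePow
  have hodd : ∀ g : G, Odd (orderOf g) → orderOf g ≠ 1 → (orderOf g).Prime ∧ orderOf g ≠ 5 := by
    intro g ho h1
    refine (hord g (fun e => h1 (orderOf_eq_one_iff.2 e))).resolve_left ?_
    rintro ⟨k, hk⟩
    rcases Nat.eq_zero_or_pos k with rfl | hk0
    · exact h1 hk
    · exact (Nat.not_even_iff_odd.2 ho) (hk ▸ Nat.even_pow.2 ⟨even_two, hk0.ne'⟩)
  have h5 : ¬ 5 ∣ Nat.card G := by
    intro h
    have := Fact.mk (by norm_num : Nat.Prime 5)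
    obtain ⟨g, hg⟩ := exists_prime_orderOf_dvd_card' 5 h
    exact (hodd g (by rw [hg]; decide) (by omega)).2 hg
  have hns := SpecCN.not_solvable hpp h3
  have hCN : ∀ x : G, x ≠ 1 → Group.IsNilpotent (Subgroup.centralizer ({x} : Set G)) :=
    fun _ => SpecCN.nilpotent_centralizer hpp
  -- even characteristic is impossible
  have heven : ∀ {Y : Type _} [Group Y] (f : G →* Y), Function.Surjective f →
      ∀ (F₁ : Type) [Field F₁] [Fintype F₁] (n : ℕ), 2 ≤ n → Fintype.card F₁ = 2 ^ n →
        (Y ≃* Matrix.ProjectiveSpecialLinearGroup (Fin 2) F₁) → False := by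
    intro Y _ f hf F₁ _ _ n hn hF₁ e
    obtain ⟨x, hx⟩ := SpecCN.exists_order_succ_psl (F := F₁) hF₁
    obtain ⟨g, hg⟩ := hf (e.symm x)
    have hdvd : 2 ^ n + 1 ∣ orderOf g := by
      have := orderOf_map_dvd f g
      rw [hg, MulEquiv.orderOf_eq, hx, hF₁] at this
      exact this
    have hn' : 4 ≤ 2 ^ n := le_trans (by norm_num) (Nat.pow_le_pow_right (by norm_num) hn)
    have hno : orderOf g ≠ 1 := fun e => by rw [e, Nat.dvd_one] at hdvd; omega
    rcases hord g (fun e => hno (orderOf_eq_one_iff.2 e)) with ⟨k, hk⟩ | ⟨hp, hp5⟩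
    · rw [hk] at hdvd
      obtain ⟨i, -, hi⟩ := (Nat.dvd_prime_pow Nat.prime_two).1 hdvd
      have h2 : 2 ∣ 2 ^ n := dvd_pow_self 2 (by omega)
      rcases Nat.eq_zero_or_pos i with rfl | hi0
      · omega
      · have : 2 ∣ 2 ^ i := dvd_pow_self 2 hi0.ne'
        omega
    · rcases hp.eq_one_or_self_of_dvd _ hdvd with h | h
      · omega
      · rw [← h] at hp hp5
        obtain ⟨j, rfl | rfl⟩ := Nat.even_or_odd' n
        · refine h5 (dvd_trans ?_ ((Nat.card_congr e.toEquiv).symm.dvd.trans
            (Subgroup.card_dvd_of_surjective f hf)))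
          refine SpecCN.dvd_card_psl_two (by norm_num) (by norm_num) (dvd_mul_of_dvd_right ?_ _)
          rw [hF₁, ← pow_mul, show 2 * j * 2 = 4 * j by ring, pow_mul]
          exact (Nat.sub_mod_eq_zero_of_mod_eq (by rw [Nat.pow_mod]; norm_num)
            : (16 ^ j - 1) % 5 = 0) |> Nat.dvd_of_mod_eq_zero
        · have h3 : (2 ^ (2 * j + 1) + 1) % 3 = 0 := by
            rw [Nat.add_mod, pow_succ, pow_mul, Nat.mul_mod, Nat.pow_mod]; norm_num
          have := (Nat.prime_dvd_prime_iff_eq Nat.prime_three hp).1 (Nat.dvd_of_mod_eq_zero h3)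
          omega
  rcases Cfsg.Agent.H65.CIT.cn_structure hns hCN with ⟨hs, hna⟩ | ⟨N, hN, hidx, F₁, _, _, hF₁, ⟨e⟩⟩ |
      ⟨N, hN, -, hN2, -, hQ⟩
  · have := hs
    have hnc : ∃ a b : G, a * b ≠ b * a := by
      by_contra hc
      push Not at hc
      exact hna ⟨⟨hc⟩⟩
    rcases S0337.result hnc hCN with ⟨F₁, _, _, hF₁, ⟨e⟩⟩ | ⟨F₁, _, _, hF₁, ⟨e⟩⟩ | hsz
    · have hc := Cfsg.Agent.Linear.card_PSL_two_mul (F := F₁)
      rw [← Nat.card_congr e.toEquiv] at hc
      rcases hF₁ with h9 | ⟨n, hn⟩ | ⟨hp, k, hk⟩
      · exfalso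
        rw [h9] at hc
        norm_num at hc
        omega
      · exfalso
        by_cases hn2 : 2 ≤ n
        · exact heven (MonoidHom.id G) Function.surjective_id F₁ n hn2 hn e
        · have h2 : 2 ≤ Fintype.card F₁ := Fintype.one_lt_card
          interval_cases n
          · omega
          · rw [hn] at hc
            norm_num at hc
            rw [hc, show Nat.primeFactors 6 = {2, 3} from by decide +kernel] at h3
            simp at h3
      · refine ⟨e.trans (Cfsg.Agent.H27.PermFamily.pslCongr
          (FiniteField.ringEquivOfCardEq ?_))⟩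
        rw [hF]
        set p := Fintype.card F₁ with hpdef
        have h2 := hp.two_le
        by_contra h7
        by_cases hpk : p ≤ 5
        · interval_cases p <;> norm_num at hp <;> norm_num at hc
          · rw [hc, show Nat.primeFactors 6 = {2, 3} from by decide +kernel] at h3
            simp at h3
          · rw [show Nat.card G = 12 by omega,
              show Nat.primeFactors 12 = {2, 3} from by decide +kernel] at h3
            simp at h3
          · omega
        · -- some `(p ± 1) / 2` is a multiple of three greater than three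
          have hp3 : p % 3 ≠ 0 := fun e => by
            have := (Nat.prime_dvd_prime_iff_eq Nat.prime_three hp).1 (Nat.dvd_of_mod_eq_zero e)
            omega
          obtain ⟨k, rfl⟩ : ∃ j, k = j + 1 := ⟨k - 1, by
            rcases Nat.eq_zero_or_pos k with rfl | h
            · omega
            · omega⟩
          rw [pow_succ] at hk
          have hk8 : 4 ≤ 2 ^ k ∧ 2 ≤ k := by
            have hk2 : 2 ≤ k := by
              by_contra hlt
              interval_cases k <;> omega
            exact ⟨le_trans (by norm_num) (Nat.pow_le_pow_right (by norm_num) hk2), hk2⟩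
          have hall : ∀ x : G, Odd (orderOf x) → 3 ∣ orderOf x → orderOf x = 3 := fun x ho h3 =>
            ((Nat.prime_dvd_prime_iff_eq Nat.prime_three
              (hodd x ho (fun e => by omega)).1).1 h3).symm
          obtain ⟨g, hg, hg3, hgo⟩ : ∃ g : G, (orderOf g = (p + 1) / 2 ∨ orderOf g = (p - 1) / 2) ∧
              3 ∣ orderOf g ∧ Odd (orderOf g) := by
            obtain ⟨j, hj | hj⟩ := Nat.even_or_odd' k
            · -- `k` even
              have h4 : 2 ^ k % 3 = 1 := by rw [hj, pow_mul, Nat.pow_mod]; norm_num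
              have h2k : 2 ^ k % 2 = 0 := by
                rw [Nat.pow_mod, Nat.mod_self, zero_pow (by omega), Nat.zero_mod]
              rcases hk with hk | hk
              · omega
              · obtain ⟨x, hx⟩ := SpecCN.exists_order_half_psl (F := F₁) (by omega) false
                refine ⟨e.symm x, ?_⟩
                rw [MulEquiv.orderOf_eq, hx]
                refine ⟨Or.inr rfl, Nat.dvd_of_mod_eq_zero ?_, Nat.odd_iff.2 ?_⟩ <;>
                  simp only [Bool.false_eq_true, if_false] <;> omega
            · have h4 : 2 ^ k % 3 = 2 := by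
                rw [hj, pow_succ, pow_mul, Nat.mul_mod, Nat.pow_mod]; norm_num
              have h2k : 2 ^ k % 2 = 0 := by
                rw [Nat.pow_mod, Nat.mod_self, zero_pow (by omega), Nat.zero_mod]
              rcases hk with hk | hk
              · obtain ⟨x, hx⟩ := SpecCN.exists_order_half_psl (F := F₁) (by omega) true
                refine ⟨e.symm x, ?_⟩
                rw [MulEquiv.orderOf_eq, hx]
                refine ⟨Or.inl rfl, Nat.dvd_of_mod_eq_zero ?_, Nat.odd_iff.2 ?_⟩ <;>
                  simp only [if_true] <;> omega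
              · exfalso
                -- `2 ^ (k + 1) - 1` is a prime divisible by three
                have : 3 ∣ p := Nat.dvd_of_mod_eq_zero (by omega)
                have := (Nat.prime_dvd_prime_iff_eq Nat.prime_three hp).1 this
                omega
          have := hall g hgo hg3
          omega
    · exfalso
      exact h5 (Nat.card_congr e.toEquiv ▸ SpecCN.dvd_card_psl_three_four (Or.inl rfl) hF₁)
    · exact absurd (SpecCN.five_dvd_suzuki hsz) h5
  · exfalso
    have := Cfsg.Agent.Linear.card_PSL_two_mul (F := F₁)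
    rw [hF₁] at this
    norm_num at this
    have hd : Nat.card N ∣ Nat.card G := N.card_subgroup_dvd_card
    rw [Nat.card_congr e.toEquiv] at hd
    exact h5 (dvd_trans (by omega) hd)
  · exfalso
    have := hN
    rcases hQ with ⟨-, -, F₁, _, _, hchar, h4, ⟨e⟩⟩ | hsz
    · obtain ⟨n, -, hn⟩ := FiniteField.card F₁ 2
      refine heven (QuotientGroup.mk' N) (QuotientGroup.mk'_surjective N) F₁ n ?_ hn e
      exact (Nat.pow_le_pow_iff_right (a := 2) (by norm_num)).1 (by rw [← hn]; exact h4)
    · exact h5 ((SpecCN.five_dvd_suzuki hsz).trans (Subgroup.card_quotient_dvd_card N))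

end Cfsg.Agent.S3396
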