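import Cfsg.Statements.S3401
import Cfsg.Agent.Perm.Basic
import Cfsg.Agent.Perm.RegularNormal

set_option autoImplicit false
open Cfsg

namespace Cfsg.Agent.S3401

open MulAction

/-- The sign of the regular representation. -/
noncomputable def regSign (Q : Type*) [Group Q] [Fintype Q] [DecidableEq Q] : Q →* ℤˣ :=
  Equiv.Perm.sign.comp (MulAction.toPermHom Q Q)

theorem regSign_of_odd {Q : Type*} [Group Q] [Fintype Q] [DecidableEq Q] {y : Q}
    (hy : Odd (orderOf y)) : regSign Q y = 1 := by
  have h : (regSign Q y) ^ orderOf y = 1 := by rw [← map_pow, pow_orderOf_eq_one, map_one]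
  rcases Int.units_eq_one_or (regSign Q y) with h1 | h1
  · exact h1
  · rw [h1, hy.neg_one_pow] at h
    exact absurd h (by decide)

theorem regSign_of_even {Q : Type*} [Group Q] [Fintype Q] [DecidableEq Q]
    (hQ : ¬ 4 ∣ Nat.card Q) {y : Q} (hy : 2 ∣ orderOf y) : regSign Q y = -1 := by
  obtain ⟨m, hm⟩ := hy
  have hpos := orderOf_pos y
  have hm0 : m ≠ 0 := by rintro rfl; omega
  have hmodd : Odd m := by
    rw [← Nat.not_even_iff_odd]
    rintro ⟨k, hk⟩
    exact hQ (dvd_trans ⟨k, by omega⟩ (orderOf_dvd_natCard y))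
  have hz : orderOf (y ^ m) = 2 := by
    rw [orderOf_pow_of_dvd hm0 ⟨2, by omega⟩, hm, Nat.mul_div_cancel _ (Nat.pos_of_ne_zero hm0)]
  set z := y ^ m with hzdef
  set σ := MulAction.toPermHom Q Q z with hσdef
  have hz1 : z ≠ 1 := fun h => by rw [h, orderOf_one] at hz; omega
  have hsupp : σ.support = Finset.univ := by
    ext x
    simp only [Equiv.Perm.mem_support, Finset.mem_univ, iff_true]
    intro h
    apply hz1
    have h' : z * x = x := h
    exact mul_right_cancel (h'.trans (one_mul x).symm)
  have hσ : orderOf σ = 2 := by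
    apply orderOf_eq_prime
    · rw [hσdef, ← map_pow, show z ^ 2 = 1 from hz ▸ pow_orderOf_eq_one z, map_one]
    · intro h
      rw [h, Equiv.Perm.support_one] at hsupp
      exact absurd hsupp.symm (Finset.univ_nonempty.ne_empty)
  obtain ⟨k, hk⟩ := Equiv.Perm.cycleType_prime_order (σ := σ) (hσ.symm ▸ Nat.prime_two)
  rw [hσ] at hk
  have hcard : (k + 1) * 2 = Nat.card Q := by
    have := σ.sum_cycleType
    rw [hk, hsupp, Multiset.sum_replicate, Finset.card_univ, ← Nat.card_eq_fintype_card] at this
    simpa using this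
  have hsign : regSign Q z = -1 := by
    show Equiv.Perm.sign σ = -1
    rw [Equiv.Perm.sign_of_cycleType, hk, Multiset.sum_replicate, Multiset.card_replicate]
    have : Odd (k + 1) := by
      rw [← Nat.not_even_iff_odd]
      rintro ⟨j, hj⟩
      exact hQ ⟨j, by omega⟩
    obtain ⟨j, hj⟩ := this
    refine Odd.neg_one_pow ⟨3 * j + 1, ?_⟩
    simp only [smul_eq_mul]
    omega
  rw [hzdef, map_pow] at hsign
  rcases Int.units_eq_one_or (regSign Q y) with h1 | h1
  · rw [h1, one_pow] at hsign
    exact absurd hsign (by decide)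
  · exact h1

/-- In a doubly transitive group of degree `2 mod 4`, bigger than `2`, every nontrivial normal
subgroup is doubly transitive. -/
theorem normal_two_transitive {G : Type*} [Group G] [Finite G] {Ω : Type*} [Finite Ω]
    [MulAction G Ω] [FaithfulSMul G Ω] (h2 : IsMultiplyPretransitive G Ω 2)
    (hn : Nat.card Ω % 4 = 2) (N : Subgroup G) [N.Normal] (hN : N ≠ ⊥) :
    IsMultiplyPretransitive ↥N Ω 2 := by
  classical
  have := Fintype.ofFinite Ω
  have htr : IsPretransitive N Ω := Perm.transitive_of_normal_of_two h2 hN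
  haveI : Fact (Nat.Prime 2) := ⟨Nat.prime_two⟩
  rw [is_two_pretransitive_iff] at h2
  -- every pair is swapped by an element of `N`
  have swap : ∀ a b : Ω, a ≠ b → ∃ t : N, t • a = b ∧ t • b = a := by
    intro a b hab
    have hNcard : 2 ∣ Nat.card N := by
      have h1 := MulAction.index_stabilizer_of_transitive N a
      have h3 : Nat.card Ω ∣ Nat.card N := h1 ▸ Subgroup.index_dvd_card (stabilizer N a)
      exact dvd_trans (by omega) h3
    obtain ⟨t, ht⟩ := exists_prime_orderOf_dvd_card' (G := N) 2 hNcard
    obtain ⟨c, hc⟩ : ∃ c : Ω, t • c ≠ c := by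
      by_contra h
      simp only [not_exists, not_not] at h
      have : t = 1 := Subtype.ext (eq_of_smul_eq_smul (α := Ω) fun x => by
        rw [Subgroup.coe_one, one_smul]; exact h x)
      rw [this, orderOf_one] at ht
      omega
    have htt : t • t • c = c := by
      rw [← mul_smul, ← sq, ← ht, pow_orderOf_eq_one, one_smul]
    obtain ⟨g, hg1, hg2⟩ := h2 (Ne.symm hc) hab
    have hNn : N.Normal := inferInstance
    refine ⟨⟨g * (t : G) * g⁻¹, hNn.conj_mem _ t.2 g⟩, ?_, ?_⟩
    · show (g * (t : G) * g⁻¹) • a = b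
      rw [← hg1, mul_smul, mul_smul, inv_smul_smul]
      exact hg2
    · show (g * (t : G) * g⁻¹) • b = a
      rw [← hg2, mul_smul, mul_smul, inv_smul_smul]
      exact (congrArg (g • ·) htt).trans hg1
  rw [is_two_pretransitive_iff]
  -- it suffices that point stabilisers are transitive on the rest
  suffices key : ∀ a b c : Ω, b ≠ a → c ≠ a → ∃ g : N, g • a = a ∧ g • b = c by
    intro a b c d hab hcd
    obtain ⟨g, hg⟩ := exists_smul_eq N a c
    have hgb : g • b ≠ c := fun h => hab (MulAction.injective g (hg.trans h.symm))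
    obtain ⟨g', h1, h3⟩ := key c (g • b) d hgb hcd.symm
    exact ⟨g' * g, by rw [mul_smul, hg, h1], by rw [mul_smul, h3]⟩
  intro a
  set S := stabilizer N a with hSdef
  let T : Sylow 2 S := default
  set T' : Subgroup N := (T : Subgroup S).map S.subtype with hT'
  have hT'S : T' ≤ S := Subgroup.map_subtype_le _
  have hT'p : IsPGroup 2 T' := T.isPGroup'.map _
  have hodd : ¬ 2 ∣ T'.relIndex S := by
    rw [hT', Subgroup.relIndex, Subgroup.subgroupOf,
      Subgroup.comap_map_eq_self_of_injective S.subtype_injective]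
    exact T.not_dvd_index
  -- each orbit of the point stabiliser away from `a` has a point fixed by `T'`
  have orb : ∀ b : Ω, b ≠ a → ∃ c, c ≠ a ∧ c ∈ MulAction.orbit S b ∧ ∀ t ∈ T', t • c = c := by
    intro b hb
    have hsize : ∀ c : Ω, c ≠ a → Nat.card (MulAction.orbit S c) = Nat.card (MulAction.orbit S b) := by
      intro c hc
      obtain ⟨g, hga, hgb⟩ := h2 hb.symm hc.symm
      have hNn : N.Normal := inferInstance
      let φ : MulAction.orbit S b → MulAction.orbit S c := fun x => ⟨g • x.1, by
        obtain ⟨s, hs⟩ := x.2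
        have hs' : ((s : N) : G) • b = x.1 := hs
        have hsa : ((s : N) : G) • a = a := s.2
        refine ⟨⟨⟨g * ((s : N) : G) * g⁻¹, hNn.conj_mem _ (s : N).2 g⟩, ?_⟩, ?_⟩
        · show (g * ((s : N) : G) * g⁻¹) • a = a
          have hga' : g⁻¹ • a = a := by rw [inv_smul_eq_iff, hga]
          rw [mul_smul, mul_smul, hga', hsa, hga]
        · show (g * ((s : N) : G) * g⁻¹) • c = g • x.1
          rw [← hgb, mul_smul, mul_smul, inv_smul_smul, hs']⟩
      refine (Nat.card_congr (Equiv.ofBijective φ ⟨fun x y h => ?_, fun y => ?_⟩)).symm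
      · exact Subtype.ext (MulAction.injective g (congrArg Subtype.val h))
      · obtain ⟨s, hs⟩ := y.2
        have hs' : ((s : N) : G) • c = y.1 := hs
        have hsa : ((s : N) : G) • a = a := s.2
        refine ⟨⟨g⁻¹ • y.1, ⟨⟨⟨g⁻¹ * ((s : N) : G) * g, hNn.conj_mem' _ (s : N).2 g⟩, ?_⟩, ?_⟩⟩,
          Subtype.ext (smul_inv_smul g y.1)⟩
        · show (g⁻¹ * ((s : N) : G) * g) • a = a
          rw [mul_smul, mul_smul, hga, hsa, inv_smul_eq_iff, hga]
        · show (g⁻¹ * ((s : N) : G) * g) • b = g⁻¹ • y.1
          rw [mul_smul, mul_smul, hgb, hs']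
    -- the orbit has odd size
    have hoddorb : ¬ 2 ∣ Nat.card (MulAction.orbit S b) := by
      intro hd
      set m := Nat.card (MulAction.orbit S b) with hm
      have hall : ∀ q : MulAction.orbitRel.Quotient S Ω, q ≠ Quotient.mk'' a →
          2 ∣ Nat.card (MulAction.orbitRel.Quotient.orbit q) := by
        intro q hq
        induction q using Quotient.inductionOn' with
        | h c =>
          have hca : c ≠ a := fun h => hq (by rw [h])
          rw [MulAction.orbitRel.Quotient.orbit_mk, hsize c hca]
          exact hd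
      have hsum : Nat.card Ω = ∑ q : MulAction.orbitRel.Quotient S Ω,
          Nat.card (MulAction.orbitRel.Quotient.orbit q) := by
        rw [← Nat.card_sigma]
        exact Nat.card_congr (MulAction.selfEquivSigmaOrbits' S Ω)
      rw [← Finset.add_sum_erase _ _ (Finset.mem_univ (Quotient.mk'' a))] at hsum
      have h1 : Nat.card (MulAction.orbitRel.Quotient.orbit
          (Quotient.mk'' a : MulAction.orbitRel.Quotient S Ω)) = 1 := by
        rw [MulAction.orbitRel.Quotient.orbit_mk]
        have : MulAction.orbit S a = {a} := by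
          ext x
          refine ⟨?_, ?_⟩
          · rintro ⟨s, rfl⟩
            exact s.2
          · rintro rfl
            exact MulAction.mem_orbit_self _
        rw [this, Nat.card_eq_one_iff_exists]
        exact ⟨⟨a, rfl⟩, fun x => Subtype.ext x.2⟩
      have h3 : 2 ∣ ∑ q ∈ Finset.univ.erase (Quotient.mk'' a : MulAction.orbitRel.Quotient S Ω),
          Nat.card (MulAction.orbitRel.Quotient.orbit q) :=
        Finset.dvd_sum fun q hq => hall q (Finset.ne_of_mem_erase hq)
      omega
    -- so `T` fixes a point in it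
    have hfix := (T.isPGroup').card_modEq_card_fixedPoints (MulAction.orbit S b)
    have hne : Nat.card (fixedPoints (T : Subgroup S) (MulAction.orbit S b)) ≠ 0 := by
      intro h
      rw [h] at hfix
      exact hoddorb (Nat.modEq_zero_iff_dvd.1 hfix)
    obtain ⟨⟨⟨c, hc⟩, hcfix⟩⟩ := (Nat.card_ne_zero.1 hne).1
    refine ⟨c, ?_, hc, ?_⟩
    · obtain ⟨s, rfl⟩ := hc
      intro h
      have h' : s • b = s • a := h.trans s.2.symm
      exact hb (MulAction.injective s h')
    · rintro _ ⟨t, ht, rfl⟩
      exact congrArg Subtype.val (hcfix ⟨t, ht⟩)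
  -- `T'` fixes at most one point besides `a`
  have two : ∀ b c : Ω, b ≠ a → c ≠ a → (∀ t ∈ T', t • b = b) → (∀ t ∈ T', t • c = c) → b = c := by
    intro b c hb hc hbf hcf
    by_contra hbc
    set X := Subgroup.normalizer (T' : Set N) with hX
    set K := T'.subgroupOf X
    haveI : K.Normal := Subgroup.normal_in_normalizer
    let Q := X ⧸ K
    letI : Fintype Q := Fintype.ofFinite Q
    have hQ : ¬ 4 ∣ Nat.card Q := by
      intro h
      have h1 : T'.relIndex X * X.index = T'.index := Subgroup.relIndex_mul_index Subgroup.le_normalizer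
      have h3 : T'.relIndex S * S.index = T'.index := Subgroup.relIndex_mul_index hT'S
      have h4 : S.index = Nat.card Ω := MulAction.index_stabilizer_of_transitive N a
      have h5 : Nat.card Q = T'.relIndex X := rfl
      rw [h5] at h
      have h6 : 4 ∣ T'.relIndex S * Nat.card Ω := by
        rw [← h4, h3, ← h1]; exact Dvd.dvd.mul_right h _
      have h7 : (4 : ℕ) ∣ Nat.card Ω := by
        refine Nat.Coprime.dvd_of_dvd_mul_left ?_ h6
        exact Nat.Coprime.pow_left 2 ((Nat.prime_two.coprime_iff_not_dvd).2 hodd)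
      omega
    -- swaps normalising `T'`
    have swaps : ∀ u v : Ω, u ≠ v → (∀ t ∈ T', t • u = u) → (∀ t ∈ T', t • v = v) →
        ∃ x : X, (x : N) • u = v ∧ (x : N) • v = u := by
      intro u v huv huf hvf
      obtain ⟨t, ht1, ht2⟩ := swap u v huv
      set D := stabilizer N u ⊓ stabilizer N v with hD
      have hT'D : T' ≤ D := fun x hx => ⟨huf x hx, hvf x hx⟩
      -- `T'` is a maximal 2-subgroup of `N` fixing `u`
      have hmax : ∀ P : Subgroup N, IsPGroup 2 P → P ≤ D → T' ≤ P → P = T' := by
        intro P hP hPD hTP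
        by_contra hne
        have hlt : T' < P := lt_of_le_of_ne hTP (Ne.symm hne)
        have h1 : T'.relIndex P * P.index = T'.index := Subgroup.relIndex_mul_index hTP
        have h3 : T'.relIndex S * S.index = T'.index := Subgroup.relIndex_mul_index hT'S
        have h5 : T'.relIndex (stabilizer N u) * (stabilizer N u).index = T'.index :=
          Subgroup.relIndex_mul_index (fun x hx => huf x hx)
        have h6 : T'.relIndex P ∣ T'.relIndex (stabilizer N u) :=
          Dvd.intro _ (Subgroup.relIndex_mul_relIndex T' P _ hTP (hPD.trans inf_le_left))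
        rw [MulAction.index_stabilizer_of_transitive] at h5 h3
        have h7 : T'.relIndex (stabilizer N u) = T'.relIndex S := by
          have h8 := h5.trans h3.symm
          exact Nat.eq_of_mul_eq_mul_right (by omega) h8
        obtain ⟨k, hk⟩ := hP.index (T'.subgroupOf P)
        have hk' : T'.relIndex P = 2 ^ k := hk
        rcases Nat.eq_zero_or_pos k with h0 | h0
        · rw [h0, pow_zero, Subgroup.relIndex_eq_one] at hk'
          exact hlt.not_ge hk'
        · exact hodd (h7 ▸ (dvd_trans (hk' ▸ dvd_pow_self 2 h0.ne') h6))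
      let P₁ : Sylow 2 D :=
        { toSubgroup := T'.subgroupOf D
          isPGroup' := hT'p.comap_subtype
          is_maximal' := by
            intro P hP hle
            have h1 := hmax (P.map D.subtype) (hP.map _) (Subgroup.map_subtype_le _) (by
              intro x hx
              exact ⟨⟨x, hT'D hx⟩, hle hx, rfl⟩)
            apply le_antisymm _ hle
            intro x hx
            show (x : N) ∈ T'
            rw [← h1]
            exact ⟨x, hx, rfl⟩ }
      have htD : ∀ x : N, x ∈ D ↔ t * x * t⁻¹ ∈ D := by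
        intro x
        have e1 : t⁻¹ • u = v := by rw [inv_smul_eq_iff, ht2]
        have e2 : t⁻¹ • v = u := by rw [inv_smul_eq_iff, ht1]
        constructor
        · rintro ⟨h1 : x • u = u, h3 : x • v = v⟩
          refine ⟨?_, ?_⟩
          · show (t * x * t⁻¹) • u = u
            rw [mul_smul, mul_smul, e1, h3, ht2]
          · show (t * x * t⁻¹) • v = v
            rw [mul_smul, mul_smul, e2, h1, ht1]
        · rintro ⟨h1 : (t * x * t⁻¹) • u = u, h3 : (t * x * t⁻¹) • v = v⟩
          rw [mul_smul, mul_smul, e1, smul_eq_iff_eq_inv_smul, e1] at h1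
          rw [mul_smul, mul_smul, e2, smul_eq_iff_eq_inv_smul, e2] at h3
          exact ⟨h3, h1⟩
      have hDt : D.map (MulAut.conj t).toMonoidHom = D := by
        ext x
        rw [Subgroup.mem_map]
        constructor
        · rintro ⟨y, hy, rfl⟩
          exact (htD y).1 hy
        · intro hx
          refine ⟨t⁻¹ * x * t, (htD _).2 ?_, ?_⟩
          · simpa [mul_assoc] using hx
          · simp [mul_assoc]
      let e : D ≃* D := ((MulAut.conj t).subgroupMap D).trans (MulEquiv.subgroupCongr hDt)
      obtain ⟨w, hw⟩ := MulAction.exists_smul_eq D (P₁.mapSurjective (f := e.toMonoidHom) e.surjective) P₁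
      have hmem : ∀ x : N, x ∈ T' → (w : N) * (t * x * t⁻¹) * (w : N)⁻¹ ∈ T' := by
        intro x hx
        have h1 : e ⟨x, hT'D hx⟩ ∈ (P₁.mapSurjective (f := e.toMonoidHom) e.surjective : Subgroup D) :=
          ⟨⟨x, hT'D hx⟩, hx, rfl⟩
        have h3 : w * e ⟨x, hT'D hx⟩ * w⁻¹ ∈ (P₁ : Subgroup D) := by
          rw [← hw, Sylow.coe_subgroup_smul, Subgroup.mem_pointwise_smul_iff_inv_smul_mem]
          simpa [mul_assoc] using h1
        exact h3
      have hxX : (w : N) * t ∈ X := by
        refine Subgroup.mem_normalizer_fintype fun x hx => ?_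
        have := hmem x hx
        simpa [mul_assoc] using this
      refine ⟨⟨(w : N) * t, hxX⟩, ?_, ?_⟩
      · show ((w : N) * t) • u = v
        rw [mul_smul, ht1]; exact w.2.2
      · show ((w : N) * t) • v = u
        rw [mul_smul, ht2]; exact w.2.1
    have hswap : ∀ u v : Ω, u ≠ v → (∀ t ∈ T', t • u = u) → ∀ x : X, (x : N) • u = v →
        (x : N) • v = u → regSign Q (QuotientGroup.mk x) = -1 := by
      intro u v huv huf x h1 h3
      refine regSign_of_even hQ ?_
      by_contra hodd'
      set m := orderOf (QuotientGroup.mk x : Q)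
      obtain ⟨j, hj⟩ := Nat.odd_iff.2 (Nat.two_dvd_ne_zero.1 hodd')
      have hmem : x ^ m ∈ K := (QuotientGroup.eq_one_iff _).1 (by
        rw [QuotientGroup.mk_pow]; exact pow_orderOf_eq_one _)
      have h5 : ((x : N) ^ m) • u = u := huf _ hmem
      have h6 : ∀ i : ℕ, ((x : N) ^ (2 * i)) • u = u := by
        intro i
        induction i with
        | zero => simp
        | succ i ih => rw [Nat.mul_succ, pow_add, mul_smul, sq, mul_smul, h1, h3, ih]
      rw [hj, pow_succ', mul_smul, h6, h1] at h5
      exact huv h5.symm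
    have haf : ∀ t ∈ T', t • a = a := fun t ht => hT'S ht
    obtain ⟨x, hx1, hx2⟩ := swaps a b hb.symm haf hbf
    obtain ⟨y, hy1, hy2⟩ := swaps b c hbc hbf hcf
    obtain ⟨z, hz1, hz2⟩ := swaps c a hc hcf haf
    have ex := hswap a b hb.symm haf x hx1 hx2
    have ey := hswap b c hbc hbf y hy1 hy2
    have ez := hswap c a hc hcf z hz1 hz2
    have hfixa : ((z * y * x : X) : N) • a = a := by
      simp only [Subgroup.coe_mul, mul_smul]
      rw [hx1, hy1, hz1]
    have hodd2 : regSign Q (QuotientGroup.mk (z * y * x)) = 1 := by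
      refine regSign_of_odd ?_
      rw [← Nat.not_even_iff_odd, even_iff_two_dvd]
      intro hd
      set w := z * y * x
      set m := orderOf (QuotientGroup.mk w : Q) with hm
      set L := (S.subgroupOf X)
      have hwL : w ∈ L := hfixa
      have hcardL : Nat.card (L.map (QuotientGroup.mk' K)) ∣ T'.relIndex S := by
        have h1 : Nat.card (L.map (QuotientGroup.mk' K)) = K.relIndex L := by
          calc Nat.card (L.map (QuotientGroup.mk' K)) = (QuotientGroup.mk' K).ker.relIndex L := by
                rw [Subgroup.relIndex_ker]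
            _ = K.relIndex L := by rw [QuotientGroup.ker_mk']
        rw [h1, ← Subgroup.inf_relIndex_right]
        calc (K ⊓ L).relIndex L = T'.relIndex (S ⊓ X) := by
              rw [Subgroup.inf_relIndex_right, show L = (S ⊓ X).subgroupOf X by
                simp [L, Subgroup.inf_subgroupOf_right], Subgroup.relIndex_subgroupOf inf_le_right]
          _ ∣ T'.relIndex S := by
              have h3 := Subgroup.relIndex_mul_relIndex T' (S ⊓ X) S
                (le_inf hT'S Subgroup.le_normalizer) inf_le_left
              exact Dvd.intro _ h3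
      have hwm : (QuotientGroup.mk w : Q) ∈ L.map (QuotientGroup.mk' K) :=
        Subgroup.mem_map_of_mem (QuotientGroup.mk' K) hwL
      exact hodd (hd.trans ((Subgroup.orderOf_dvd_natCard _ hwm).trans hcardL))
    rw [QuotientGroup.mk_mul, QuotientGroup.mk_mul, map_mul, map_mul, ex, ey, ez] at hodd2
    exact absurd hodd2 (by decide)
  intro b c hb hc
  obtain ⟨b', hb'a, ⟨s, hs⟩, hb'f⟩ := orb b hb
  obtain ⟨c', hc'a, ⟨s', hs'⟩, hc'f⟩ := orb c hc
  have he := two b' c' hb'a hc'a hb'f hc'f
  refine ⟨((s'⁻¹ * s : S) : N), (s'⁻¹ * s : S).2, ?_⟩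
  show ((s'⁻¹ * s : S) : N) • b = c
  have h1 : (s : N) • b = b' := hs
  have h3 : (s' : N) • c = c' := hs'
  rw [Subgroup.coe_mul, Subgroup.coe_inv, mul_smul, h1, he, ← h3, inv_smul_smul]

/-- Let G be a doubly transitive permutation group on a finite set Ω with |Ω| ≡ 2 mod 4 and |Ω| > 2. Then G has a unique minimal normal subgroup M (a nontrivial normal subgroup contained in every nontrivial normal subgroup); M is simple and doubly transitive on Ω, and its centralizer in G is trivial (so G embeds in Aut(M)). -/
theorem result {G : Type*} [Group G] [Finite G] {Ω : Type*} [Fintype Ω] [MulAction G Ω] [FaithfulSMul G Ω]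
    (h2 : MulAction.IsMultiplyPretransitive G Ω 2) (hn : Fintype.card Ω % 4 = 2) (hn2 : 2 < Fintype.card Ω) :
    ∃ M : Subgroup G, M.Normal ∧ M ≠ ⊥ ∧ (∀ N : Subgroup G, N.Normal → N ≠ ⊥ → M ≤ N) ∧
      IsSimpleGroup ↥M ∧ MulAction.IsMultiplyPretransitive ↥M Ω 2 ∧ Subgroup.centralizer (M : Set G) = ⊥ := by
  classical
  rw [← Nat.card_eq_fintype_card] at hn hn2
  have htop : (⊤ : Subgroup G) ≠ ⊥ := by
    intro h
    have hsub : ∀ g : G, g = 1 := fun g => Subgroup.mem_bot.1 (h ▸ Subgroup.mem_top g)
    obtain ⟨x, y, hxy⟩ := (Finite.one_lt_card_iff_nontrivial.1 (by omega) : Nontrivial Ω)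
    obtain ⟨g, hg⟩ := (MulAction.is_two_pretransitive_iff.1 h2) hxy hxy.symm
    rw [hsub g, one_smul] at hg
    exact hxy hg.1
  obtain ⟨M, hMn, -, hM, hmin⟩ := Perm.exists_minimal_normal_le (N := (⊤ : Subgroup G)) htop
  haveI := hMn
  have h2M := normal_two_transitive h2 hn M hM
  -- nontrivial commuting normal subgroups are impossible
  have cent : ∀ (H : Type _) [Group H] [Finite H] [MulAction H Ω] [FaithfulSMul H Ω],
      MulAction.IsMultiplyPretransitive H Ω 2 → ∀ N : Subgroup H, N.Normal → N ≠ ⊥ →
        Subgroup.centralizer (N : Set H) = ⊥ := by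
    intro H _ _ _ _ hH N hNn hN
    by_contra hC
    haveI : (Subgroup.centralizer (N : Set H)).Normal := inferInstance
    have hC2 := normal_two_transitive hH hn _ hC
    have hNt : MulAction.IsPretransitive N Ω := Perm.transitive_of_normal_of_two hH hN
    obtain ⟨x⟩ : Nonempty Ω := (Nat.card_ne_zero.1 (by omega)).1
    have hfree := Perm.centralizer_free hNt x
    obtain ⟨y, z, hy, hz, hyz⟩ : ∃ y z : Ω, y ≠ x ∧ z ≠ x ∧ y ≠ z := by
      have := Fintype.ofFinite Ω
      have h3 : 2 ≤ (Finset.univ.erase x).card := by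
        rw [Finset.card_erase_of_mem (Finset.mem_univ _), Finset.card_univ, ← Nat.card_eq_fintype_card]
        omega
      obtain ⟨y, hy, z, hz, hyz⟩ := Finset.one_lt_card.1 h3
      exact ⟨y, z, Finset.ne_of_mem_erase hy, Finset.ne_of_mem_erase hz, hyz⟩
    obtain ⟨g, hg1, hg2⟩ := (MulAction.is_two_pretransitive_iff.1 hC2) hy.symm hz.symm
    have : g ∈ MulAction.stabilizer (Subgroup.centralizer (N : Set H)) x := hg1
    rw [hfree, Subgroup.mem_bot] at this
    rw [this, one_smul] at hg2
    exact hyz hg2
  have hcentM := cent G h2 M hMn hM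
  refine ⟨M, hMn, hM, fun N hNn hN => ?_, ?_, h2M, hcentM⟩
  · rcases hmin (N ⊓ M) (Subgroup.normal_inf_normal N M) inf_le_right with h | h
    · exfalso
      apply hN
      rw [eq_bot_iff]
      intro x hx
      rw [← hcentM]
      refine Subgroup.mem_centralizer_iff.2 fun m hm => ?_
      exact (Subgroup.commute_of_normal_of_disjoint _ _ hNn hMn (disjoint_iff.2 h) x m hx hm).symm
    · exact inf_eq_right.1 h
  · haveI : Nontrivial M := (Subgroup.nontrivial_iff_ne_bot M).2 hM
    haveI : FaithfulSMul M Ω := ⟨fun {a b} h => Subtype.ext (eq_of_smul_eq_smul (α := Ω) h)⟩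
    refine ⟨fun K hK => ?_⟩
    rcases eq_or_ne K ⊥ with h | h
    · exact Or.inl h
    right
    haveI := hK
    -- a minimal normal subgroup of `M` inside `K` is unique, hence normal in `G`
    obtain ⟨L, hLn, hLK, hL, hLmin⟩ := Perm.exists_minimal_normal_le (N := K) h
    haveI := hLn
    have huniq : ∀ L' : Subgroup M, L'.Normal → L' ≠ ⊥ → L ≤ L' := by
      intro L' hL'n hL'
      rcases hLmin (L' ⊓ L) (Subgroup.normal_inf_normal L' L) inf_le_right with h1 | h1
      · exfalso
        apply hL'
        rw [eq_bot_iff]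
        intro x hx
        rw [← cent M h2M L hLn hL]
        refine Subgroup.mem_centralizer_iff.2 fun m hm => ?_
        exact (Subgroup.commute_of_normal_of_disjoint _ _ hL'n hLn (disjoint_iff.2 h1) x m hx hm).symm
      · exact inf_eq_right.1 h1
    haveI : L.Characteristic := Subgroup.characteristic_iff_le_comap.2 fun φ => by
      refine huniq _ (hLn.comap _) ?_
      intro h1
      apply hL
      rw [← Subgroup.map_comap_eq_self_of_surjective (f := φ.toMonoidHom) φ.surjective L, h1,
        Subgroup.map_bot]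
    have hLM : L.map M.subtype = M := by
      refine (hmin _ inferInstance (Subgroup.map_subtype_le _)).resolve_left ?_
      rw [Subgroup.map_eq_bot_iff_of_injective _ M.subtype_injective]
      exact hL
    rw [eq_top_iff]
    intro x _
    obtain ⟨y, hy, hyx⟩ := hLM.symm.le x.2
    exact Subtype.ext hyx ▸ hLK hy

end Cfsg.Agent.S3401
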