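import Cfsg.Statements.S3406
import Cfsg.Agent.H76.FiveOrbits.Main

set_option autoImplicit false
open Cfsg

namespace Cfsg.Agent.S3406

/-- A non-abelian finite simple group on whose elements the full automorphism group has at most five orbits is isomorphic to the alternating group of degree 5 or 6, to PSL(2, 7) or to PSL(2, 8). -/
theorem result {G : Type*} [Group G] [Finite G] [IsSimpleGroup G] (hG : ¬ IsMulCommutative G)
    (h5 : Nat.card (MulAction.orbitRel.Quotient (MulAut G) G) ≤ 5) :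
    Nonempty (G ≃* ↥(alternatingGroup (Fin 5))) ∨ Nonempty (G ≃* ↥(alternatingGroup (Fin 6))) ∨
      (∃ (F : Type) (_ : Field F) (_ : Fintype F), (Fintype.card F = 7 ∨ Fintype.card F = 8) ∧
        Nonempty (G ≃* Matrix.ProjectiveSpecialLinearGroup (Fin 2) F)) := by
  have hna := hG
  have hne : ∃ a b : G, a * b ≠ b * a := by
    by_contra! h
    exact hG ⟨⟨h⟩⟩
  rcases S0348.result hne (H76.FiveOrbits.cit h5 hna) with ⟨F, _, _, hF, ⟨e⟩⟩ | ⟨F, _, _, hF, hN⟩ | hSz
  · rcases hF with h9 | ⟨n, hn⟩ | ⟨hp, k, hk⟩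
    · obtain ⟨e'⟩ := S0254.result (F := F) h9
      exact Or.inr (Or.inl ⟨e.trans e'⟩)
    · rcases H76.FiveOrbits.psl_even h5 hna hn e with h4 | h8
      · obtain ⟨e'⟩ := H70.SpecCN.iso_alt_five_psl_four (F := F) h4
        exact Or.inl ⟨e.trans e'⟩
      · exact Or.inr (Or.inr ⟨F, _, _, Or.inr h8, ⟨e⟩⟩)
    · rcases H76.FiveOrbits.psl_odd h5 hna hp hk e with h5' | h7
      · refine Or.inl (H70.SpecCN.iso_alt_five_of_simple ?_)
        rw [Nat.card_congr e.toEquiv]
        have := Linear.card_PSL_two_mul (F := F)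
        rw [h5'] at this
        norm_num at this
        omega
      · exact Or.inr (Or.inr ⟨F, _, _, Or.inl h7, ⟨e⟩⟩)
  · exact ((H76.FiveOrbits.not_psl_three h5 hna hF).false hN.some).elim
  · exact (H76.FiveOrbits.not_suzuki h5 hna hSz).elim

end Cfsg.Agent.S3406
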