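import Cfsg.Statements.S3410
import Cfsg.Agent.H70.ONan.Reduce
import Cfsg.Agent.Components.Basic
import Cfsg.Agent.Components.Layer
import Cfsg.Agent.Components.PLocal

set_option autoImplicit false
open Cfsg

namespace Cfsg.Agent.S3410

/-- a normal simple subgroup with trivial centraliser is the generalised Fitting subgroup -/
theorem genFitting_eq_of_simple' {G : Type*} [Group G] [Finite G] (N : Subgroup G) [N.Normal]
    [IsSimpleGroup ↥N] (hC : Subgroup.centralizer (N : Set G) = ⊥) :
    Cfsg.generalizedFittingSubgroup G = N := by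
  have hne : N ≠ ⊥ := fun e => by
    obtain ⟨x, hx⟩ := exists_ne (1 : ↥N)
    exact hx (Subtype.ext (Subgroup.mem_bot.mp (show (x : G) ∈ (⊥ : Subgroup G) from
      (SetLike.ext_iff.mp e (x : G)).mp x.2)))
  have dich : ∀ M : Subgroup G, M.Normal → M ≤ Subgroup.centralizer (N : Set G) ∨ N ≤ M := by
    intro M hM
    rcases (Subgroup.Normal.subgroupOf hM N).eq_bot_or_eq_top with e | e
    · refine Or.inl fun m hm => Subgroup.mem_centralizer_iff.mpr fun n hn => ?_
      have h1 : n * m * n⁻¹ * m⁻¹ ∈ M := mul_mem (hM.conj_mem m hm n) (inv_mem hm)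
      have h2 : n * m * n⁻¹ * m⁻¹ ∈ N := by
        rw [show n * m * n⁻¹ * m⁻¹ = n * (m * n⁻¹ * m⁻¹) by group]
        exact mul_mem hn (‹N.Normal›.conj_mem _ (inv_mem hn) m)
      have h3 : (⟨_, h2⟩ : ↥N) ∈ (⊥ : Subgroup ↥N) := e ▸ Subgroup.mem_subgroupOf.mpr h1
      have h4 : n * m * n⁻¹ * m⁻¹ = 1 := congrArg Subtype.val (Subgroup.mem_bot.mp h3)
      rw [mul_inv_eq_one, mul_inv_eq_iff_eq_mul] at h4
      exact h4
    · exact Or.inr (Subgroup.subgroupOf_eq_top.mp e)
  refine le_antisymm (Components.genFitting_le_of_centralizer_le N ?_ (hC.le.trans bot_le)) ?_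
  · rcases dich (Cfsg.fittingSubgroup G) inferInstance with q | q
    · exact q.trans (hC.le.trans bot_le)
    · exfalso
      have : Group.IsNilpotent ↥N :=
        Group.nilpotent_of_mulEquiv (Subgroup.subgroupOfEquivOfLe q)
      have hc : ∀ x y : ↥N, x * y = y * x := IsSimpleGroup.comm_iff_isSolvable.mpr inferInstance
      exact hne (eq_bot_iff.mpr fun n hn => hC ▸ Subgroup.mem_centralizer_iff.mpr fun m hm =>
        congrArg Subtype.val (hc ⟨m, hm⟩ ⟨n, hn⟩))
  · rcases dich (Cfsg.generalizedFittingSubgroup G) inferInstance with q | q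
    · have h1 : N ≤ Subgroup.centralizer (Cfsg.generalizedFittingSubgroup G : Set G) := fun n hn =>
        Subgroup.mem_centralizer_iff.mpr fun m hm =>
          (Subgroup.mem_centralizer_iff.mp (q hm) n hn).symm
      exact h1.trans Components.centralizer_genFitting_le
    · exact q

/-- Let a finite group G act faithfully and 2-transitively on a finite set X, and let N be an abelian normal subgroup of the stabilizer of a point x which is not semiregular on the remaining points (some non-identity element of N fixes a second point). Then the generalized Fitting subgroup of G is isomorphic to PSL_n(F) for some n ≥ 3 and some finite field F. -/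
theorem result {G X : Type*} [Group G] [Finite G] [Fintype X]
    [MulAction G X] [FaithfulSMul G X] (h2 : MulAction.IsMultiplyPretransitive G X 2) (x : X)
    (N : Subgroup G) (hNle : N ≤ MulAction.stabilizer G x)
    (hNnormal : ∀ g ∈ MulAction.stabilizer G x, ∀ n ∈ N, g * n * g⁻¹ ∈ N) (hNab : IsMulCommutative N)
    (hnsr : ∃ n ∈ N, n ≠ 1 ∧ ∃ y : X, y ≠ x ∧ n • y = y) :
    ∃ (F : Type) (_ : Field F) (_ : Fintype F) (n : ℕ), 3 ≤ n ∧
      Nonempty (↥(Cfsg.generalizedFittingSubgroup G) ≃* Matrix.ProjectiveSpecialLinearGroup (Fin n) F) := by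
  obtain ⟨L, F, iF, iFt, n, hn, hnorm, hC, ⟨e⟩, -⟩ :=
    Cfsg.Agent.H70.ONan.main_abelian h2 x N hNle hNnormal hNab hnsr
  have := hnorm
  have : IsSimpleGroup (Matrix.ProjectiveSpecialLinearGroup (Fin n) F) :=
    Cfsg.Agent.Linear.isSimpleGroup_PSL_fin (by omega) (fun h => by omega)
  have : Nontrivial ↥L := e.toEquiv.nontrivial
  have : IsSimpleGroup ↥L := IsSimpleGroup.isSimpleGroup_of_surjective e.symm.toMonoidHom e.symm.surjective
  refine ⟨F, iF, iFt, n, hn, ?_⟩
  rw [genFitting_eq_of_simple' L hC]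
  exact ⟨e⟩

end Cfsg.Agent.S3410
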