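import Cfsg.Statements.S3412
import Cfsg.Agent.H67.L33Cert
import Cfsg.Agent.H67.GraphIso
import Cfsg.Agent.Linear.Order
import Cfsg.Agent.Linear.Simple

set_option autoImplicit false
open Cfsg

namespace Cfsg.Agent.S3412

/-- Let H be a finite group whose commuting graph (vertices the non-identity elements, two joined when they commute) is isomorphic to that of PSL_3(3): there is a bijection between the non-identity elements of H and of PSL_3(3) under which two elements commute exactly when their images do. Then H ≅ PSL_3(3). -/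
theorem result {H : Type*} [Group H] [Finite H]
    (f : {h : H // h ≠ 1} ≃ {g : Matrix.ProjectiveSpecialLinearGroup (Fin 3) (ZMod 3) // g ≠ 1})
    (hf : ∀ x y : {h : H // h ≠ 1}, (x : H) * y = y * x ↔ ((f x) : Matrix.ProjectiveSpecialLinearGroup (Fin 3) (ZMod 3)) * (f y) = (f y) * (f x)) :
    Nonempty (H ≃* Matrix.ProjectiveSpecialLinearGroup (Fin 3) (ZMod 3)) := by
  have hcard : Nat.card (Matrix.ProjectiveSpecialLinearGroup (Fin 3) (ZMod 3)) = 5616 := by
    have h := Cfsg.Agent.Linear.card_center_mul_card_PSL (ι := Fin 3) (F := ZMod 3)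
    rw [Cfsg.Agent.H67.center_sl33, Subgroup.card_bot, one_mul,
      Cfsg.Agent.Linear.card_SL_three, ZMod.card] at h
    rw [h]; norm_num
  refine Cfsg.Agent.H67.nonempty_mulEquiv_of_cert Cfsg.Agent.H67.l33Enc
    Cfsg.Agent.H67.l33_certOK hcard ⟨4, rfl⟩ (by decide) (Or.inr ⟨?_, ?_, rfl⟩) f hf
  · exact Cfsg.Agent.Linear.isSimpleGroup_PSL_fin (by norm_num) (by norm_num)
  · omega

end Cfsg.Agent.S3412
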