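import Cfsg.Statements.S3419
import Cfsg.Agent.H67.AltPrimes
import Cfsg.Agent.Hall.CardForms

set_option autoImplicit false
open Cfsg

namespace Cfsg.Agent.S3419

/-- A group of order `p ^ a * q ^ b` in which both Sylow numbers are forced to be one has an element
of order `p * q`. -/
theorem exists_orderOf_mul_of_sylow {H : Type*} [Group H] [Finite H] {p q : ℕ} (hp : p.Prime)
    (hq : q.Prime) (hne : p ≠ q) (hpH : p ∣ Nat.card H) (hqH : q ∣ Nat.card H)
    (h1 : ∀ d, d ∣ Nat.card H → d % p = 1 → d = 1) (h2 : ∀ d, d ∣ Nat.card H → d % q = 1 → d = 1) :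
    ∃ z : H, orderOf z = p * q := by
  have : Fact p.Prime := ⟨hp⟩
  have : Fact q.Prime := ⟨hq⟩
  have hn : ∀ r : ℕ, [Fact r.Prime] → (∀ d, d ∣ Nat.card H → d % r = 1 → d = 1) →
      ∀ P : Sylow r H, (P : Subgroup H).Normal := by
    intro r hr h P
    rw [← Subgroup.normalizer_eq_top_iff, ← Subgroup.index_eq_one]
    show (Subgroup.normalizer (P : Set H)).index = 1
    rw [← P.card_eq_index_normalizer]
    refine h _ (P.card_dvd_index.trans (Subgroup.index_dvd_card _)) ?_
    have h4 := card_sylow_modEq_one r H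
    unfold Nat.ModEq at h4
    rw [h4, Nat.one_mod_eq_one.2 hr.out.one_lt.ne']
  let P : Sylow p H := default
  let Q : Sylow q H := default
  obtain ⟨x, hx⟩ := exists_prime_orderOf_dvd_card' (G := H) p hpH
  obtain ⟨y, hy⟩ := exists_prime_orderOf_dvd_card' (G := H) q hqH
  have hmem : ∀ r : ℕ, [Fact r.Prime] → ∀ R : Sylow r H, (R : Subgroup H).Normal → ∀ z : H,
      orderOf z = r → z ∈ (R : Subgroup H) := by
    intro r hr R hR z hz
    obtain ⟨R', hR'⟩ := (IsPGroup.of_card (p := r) (n := 1) (G := Subgroup.zpowers z)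
      (by rw [Nat.card_zpowers, hz, pow_one])).exists_le_sylow
    have := R.unique_of_normal hR
    rw [Subsingleton.elim R R']
    exact hR' (Subgroup.mem_zpowers z)
  have hcomm : Commute x y := Subgroup.commute_of_normal_of_disjoint _ _ (hn p h1 P) (hn q h2 Q)
    (IsPGroup.disjoint_of_ne p q hne _ _ P.isPGroup' Q.isPGroup') x y
    (hmem p P (hn p h1 P) x hx) (hmem q Q (hn q h2 Q) y hy)
  exact H67.exists_orderOf_eq_mul ((Nat.coprime_primes hp hq).2 hne) hcomm hx hy

theorem small_case {G : Type*} [Group G] [Finite G] [Group.IsSolvable G] (n m k p q : ℕ)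
    (hcard : Nat.card G = Nat.card ↥(alternatingGroup (Fin n)))
    (hspec : Set.range (orderOf : G → ℕ) = Set.range (orderOf : ↥(alternatingGroup (Fin n)) → ℕ))
    (hn : 2 ≤ n) (hfac : n.factorial = 2 * (m * k)) (hmk : m.Coprime k)
    (hp : p.Prime) (hq : q.Prime) (hne : p ≠ q) (hsum : n < p + q) (hpm : p ∣ m) (hqm : q ∣ m)
    (hm : ∀ d ∈ m.divisors, (d % p = 1 → d = 1) ∧ (d % q = 1 → d = 1)) : False := by
  have : Nontrivial (Fin n) := Fin.nontrivial_iff_two_le.2 hn
  have hc : 2 * Nat.card (alternatingGroup (Fin n)) = n.factorial := by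
    rw [two_mul_nat_card_alternatingGroup, Nat.card_perm, Nat.card_eq_fintype_card, Fintype.card_fin]
  have hG : Nat.card G = m * k := by omega
  obtain ⟨H, hH⟩ := Hall.exists_subgroup_card hG hmk
  have hm0 : m ≠ 0 := fun h => (Nat.card_pos (α := H)).ne' (hH.trans h)
  obtain ⟨z, hz⟩ := exists_orderOf_mul_of_sylow (H := H) hp hq hne (hH.symm ▸ hpm) (hH.symm ▸ hqm)
    (fun d hd h => (hm d (Nat.mem_divisors.2 ⟨hH ▸ hd, hm0⟩)).1 h)
    (fun d hd h => (hm d (Nat.mem_divisors.2 ⟨hH ▸ hd, hm0⟩)).2 h)
  obtain ⟨g, hg⟩ : p * q ∈ Set.range (orderOf : ↥(alternatingGroup (Fin n)) → ℕ) :=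
    hspec ▸ ⟨(z : G), by rw [Subgroup.orderOf_coe, hz]⟩
  exact H67.alt_no_orderOf_mul n p q hp hq hne hsum g hg

/-- Let n ≥ 5 and let G be a finite group with the same order and the same set of element orders as the alternating group of degree n. Then G is not solvable. -/
theorem result {G : Type*} [Group G] [Finite G] (n : ℕ) (hn : 5 ≤ n)
    (hcard : Nat.card G = Nat.card ↥(alternatingGroup (Fin n)))
    (hspec : Set.range (orderOf : G → ℕ) = Set.range (orderOf : ↥(alternatingGroup (Fin n)) → ℕ)) :
    ¬ Group.IsSolvable G := by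
  intro hsol
  rcases lt_or_ge n 11 with h | h
  · interval_cases n
    · exact small_case 5 15 4 5 3 hcard hspec (by norm_num) (by decide) (by decide) Nat.prime_five
        Nat.prime_three (by norm_num) (by norm_num) (by norm_num) (by norm_num) (by decide +kernel)
    · exact small_case 6 45 8 5 3 hcard hspec (by norm_num) (by decide) (by decide) Nat.prime_five
        Nat.prime_three (by norm_num) (by norm_num) (by norm_num) (by norm_num) (by decide +kernel)
    · exact small_case 7 35 72 7 5 hcard hspec (by norm_num) (by decide) (by decide) (by norm_num)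
        Nat.prime_five (by norm_num) (by norm_num) (by norm_num) (by norm_num) (by decide +kernel)
    · exact small_case 8 35 576 7 5 hcard hspec (by norm_num) (by decide) (by decide) (by norm_num)
        Nat.prime_five (by norm_num) (by norm_num) (by norm_num) (by norm_num) (by decide +kernel)
    · exact small_case 9 35 5184 7 5 hcard hspec (by norm_num) (by decide) (by decide) (by norm_num)
        Nat.prime_five (by norm_num) (by norm_num) (by norm_num) (by norm_num) (by decide +kernel)
    · exact small_case 10 175 10368 7 5 hcard hspec (by norm_num) (by decide) (by decide) (by norm_num)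
        Nat.prime_five (by norm_num) (by norm_num) (by norm_num) (by norm_num) (by decide +kernel)
  · obtain ⟨N, H, hN, -, -, hs, hna, -⟩ := H67.alt_section n h hcard hspec
    exact H67.not_isSolvable_of_section hs hna hsol

end Cfsg.Agent.S3419
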