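import Cfsg.Statements.S3421
import Cfsg.Agent.H67.PSLTwoByOrder
import Cfsg.Agent.H55.SLTwoClasses

set_option autoImplicit false
open Cfsg

namespace Cfsg.Agent.S3421

/-- Let F be a finite field with more than 3 elements. A finite group G is isomorphic to PSL(2, F) if and only if G has the same set of element orders and the same order as PSL(2, F). -/
theorem result {G : Type*} [Group G] [Finite G] {F : Type*} [Field F] [Fintype F] (hF : 3 < Fintype.card F) :
    Nonempty (G ≃* Matrix.ProjectiveSpecialLinearGroup (Fin 2) F) ↔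
      (Set.range (orderOf : G → ℕ) = Set.range (orderOf : Matrix.ProjectiveSpecialLinearGroup (Fin 2) F → ℕ) ∧
        Nat.card G = Nat.card (Matrix.ProjectiveSpecialLinearGroup (Fin 2) F)) := by
  constructor
  · rintro ⟨φ⟩
    refine ⟨?_, Nat.card_congr φ.toEquiv⟩
    ext k
    constructor
    · rintro ⟨g, rfl⟩; exact ⟨φ g, MulEquiv.orderOf_eq φ g⟩
    · rintro ⟨y, rfl⟩; exact ⟨φ.symm y, MulEquiv.orderOf_eq φ.symm y⟩
  · rintro ⟨hω, hcard⟩
    obtain ⟨p, hchar⟩ := CharP.exists F
    obtain ⟨m, hp, hm⟩ := FiniteField.card F p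
    have := Fact.mk hp
    set q := Fintype.card F with hq
    have hpq : p ∣ q := hm ▸ dvd_pow_self p m.pos.ne'
    refine Cfsg.Agent.H67.PSLTwoByOrder.nonempty_psl (p := p) (n := (m : ℕ)) hm m.pos (by omega)
      (by rw [hcard]; exact Cfsg.Agent.Linear.card_PSL_two_mul) (fun g hg => ?_) ?_ rfl
    · obtain ⟨y, hy⟩ := (hω ▸ Set.mem_range_self g :
        orderOf g ∈ Set.range (orderOf : Matrix.ProjectiveSpecialLinearGroup (Fin 2) F → ℕ))
      obtain ⟨X, rfl⟩ := QuotientGroup.mk'_surjective _ y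
      rcases Cfsg.Agent.H55.toPSL_two_orderOf_dvd p X with h | h | h
      · exact Nat.dvd_antisymm (hy ▸ h) hg
      all_goals
        exfalso
        have h1 : p ∣ _ := (hy ▸ hg).trans h
        have h2 := h1.trans (Nat.div_dvd_of_dvd (by
          first
            | exact Nat.gcd_dvd_right _ _
            | (have h3 := Nat.gcd_dvd_right 2 (q - 1)
               rcases (Nat.dvd_prime Nat.prime_two).1 (Nat.gcd_dvd_left 2 (q - 1)) with h4 | h4
               · rw [← hq, h4]; exact one_dvd _
               · rw [← hq, h4]; rw [h4] at h3; omega)))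
      · have h5 := Nat.dvd_sub hpq h2
        rw [← hq, Nat.sub_sub_self (by omega : 1 ≤ q)] at h5
        exact hp.one_lt.ne' (Nat.dvd_one.1 h5)
      · exact hp.one_lt.ne' (Nat.dvd_one.1 ((Nat.dvd_add_right hpq).1 h2))
    · obtain ⟨-, -, y, hy⟩ := Cfsg.Agent.H55.exists_torus_orders (F := F) p
      obtain ⟨g, hg⟩ := (hω ▸ Set.mem_range_self y : orderOf y ∈ Set.range (orderOf : G → ℕ))
      exact ⟨g, hg ▸ hy⟩

end Cfsg.Agent.S3421
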