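import Cfsg.Statements.S3427
import Cfsg.Agent.Compute.G22.Reduce
import Cfsg.Agent.Compute.G22.Ident
import Cfsg.Agent.S1059
import Cfsg.Agent.H14.GTwoOrd.Main

set_option autoImplicit false
open Cfsg

namespace Cfsg.Agent.S3427

open Cfsg.Agent.Compute.G22 Cfsg.Agent.H14.GTwoOrd

/-- A group with this order and these element orders is the automorphism group of `W0`. -/
theorem equiv_aut_W0 {G : Type*} [Group G] [Finite G] (S : Spec G) (hc : Nat.card G = 12096)
    (h4 : ∃ g : G, orderOf g = 4) : Nonempty (G ≃* MulAut W0) := by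
  classical
  obtain ⟨M, -, hs, hM, SM, f, hf⟩ := exists_simple S hc h4
  haveI : Fintype M := Fintype.ofFinite M
  haveI := hs
  obtain ⟨Fr⟩ := exists_frame SM hM
  obtain ⟨e⟩ := Fr.nonempty_equiv hM
  have hle := Fr.card_mulAut_le hM
  haveI : Finite (MulAut M) :=
    Finite.of_injective (fun a => (a : M → M)) DFunLike.coe_injective
  have hb : Function.Bijective f := by
    rw [Nat.bijective_iff_injective_and_card]
    refine ⟨hf, le_antisymm (Nat.card_le_card_of_injective f hf) ?_⟩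
    rw [hc]
    exact hle
  exact ⟨(MulEquiv.ofBijective f hb).trans (MulAut.congr e)⟩

/-- Let F be the field with 2 elements and let M be the Chevalley group of type G₂ over F (a non-simple group of order 12096 whose derived subgroup, of index 2, is isomorphic to PSU(3, 3)). A finite group G is isomorphic to M if and only if G has the same set of element orders and the same order as M. -/
theorem result {G : Type*} [Group G] [Finite G] {F : Type*} [Field F] [Fintype F] (hF : Fintype.card F = 2) :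
    Nonempty (G ≃* ↥(Cfsg.Lie.chevG2.group F)) ↔
      (Set.range (orderOf : G → ℕ) = Set.range (orderOf : ↥(Cfsg.Lie.chevG2.group F) → ℕ) ∧ Nat.card G = Nat.card ↥(Cfsg.Lie.chevG2.group F)) := by
  constructor
  · rintro ⟨e⟩
    refine ⟨Set.ext fun n => ⟨?_, ?_⟩, Nat.card_congr e.toEquiv⟩
    · rintro ⟨x, rfl⟩; exact ⟨e x, e.orderOf_eq x⟩
    · rintro ⟨x, rfl⟩; exact ⟨e.symm x, e.symm.orderOf_eq x⟩
  rintro ⟨hr, hcard⟩
  haveI : Fact (Nat.Prime 2) := ⟨Nat.prime_two⟩
  haveI := charP_of_card Nat.prime_two (le_refl 1) (by simpa using hF : Fintype.card F = 2 ^ 1)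
  have hc : Nat.card ↥(Cfsg.Lie.chevG2.group F) = 12096 := by
    rw [Cfsg.Agent.S1059.result hF]; norm_num
  haveI : Finite ↥(Cfsg.Lie.chevG2.group F) := Nat.finite_of_card_ne_zero (by rw [hc]; norm_num)
  have hbad : ∀ m : ↥(Cfsg.Lie.chevG2.group F),
      orderOf m ≠ 9 ∧ orderOf m ≠ 14 ∧ orderOf m ≠ 21 := by
    intro m
    obtain ⟨g, hg⟩ : orderOf m ∈ Set.range (orderOf : ↥(Cfsg.Lie.G2 F) → ℕ) :=
      range_orderOf_eq (F := F) ▸ ⟨m, rfl⟩
    have hb := upper (p := 2) (a := 1) le_rfl (by simpa using hF) g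
    rw [hg] at hb
    refine ⟨fun h => ?_, fun h => ?_, fun h => ?_⟩ <;> rw [h] at hb <;> revert hb <;>
      norm_num [Bound]
  have h4 : ∃ m : ↥(Cfsg.Lie.chevG2.group F), orderOf m = 4 := by
    obtain ⟨g, hg⟩ := (exists_order_unip (F := F)).1 ‹_›
    obtain ⟨e⟩ := nonempty_equiv (F := F)
    exact ⟨e (g ^ 2), by rw [e.orderOf_eq, orderOf_pow' g two_ne_zero, hg]; rfl⟩
  have S : Spec ↥(Cfsg.Lie.chevG2.group F) :=
    ⟨by rw [hc], by rw [hc]; norm_num, fun g => (hbad g).1, fun g => (hbad g).2.1,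
      fun g => (hbad g).2.2⟩
  have htr : ∀ g : G, ∃ m : ↥(Cfsg.Lie.chevG2.group F), orderOf m = orderOf g := fun g => by
    obtain ⟨m, hm⟩ : orderOf g ∈ Set.range (orderOf : ↥(Cfsg.Lie.chevG2.group F) → ℕ) :=
      hr ▸ ⟨g, rfl⟩
    exact ⟨m, hm⟩
  have hcG : Nat.card G = 12096 := hcard.trans hc
  have SG : Spec G := ⟨by rw [hcG], by rw [hcG]; norm_num,
    fun g h => by obtain ⟨m, hm⟩ := htr g; exact (hbad m).1 (hm.trans h),
    fun g h => by obtain ⟨m, hm⟩ := htr g; exact (hbad m).2.1 (hm.trans h),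
    fun g h => by obtain ⟨m, hm⟩ := htr g; exact (hbad m).2.2 (hm.trans h)⟩
  have h4G : ∃ g : G, orderOf g = 4 := by
    obtain ⟨m, hm⟩ := h4
    obtain ⟨g, hg⟩ : (4 : ℕ) ∈ Set.range (orderOf : G → ℕ) := hr ▸ ⟨m, hm⟩
    exact ⟨g, hg⟩
  obtain ⟨e1⟩ := equiv_aut_W0 SG hcG h4G
  obtain ⟨e2⟩ := equiv_aut_W0 S hc h4
  exact ⟨e1.trans e2.symm⟩

end Cfsg.Agent.S3427
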