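import Cfsg.Statements.S3433
import Cfsg.Agent.H70.SpectrumCN
import Cfsg.Agent.S0337
import Cfsg.Agent.H65.CIT.CNStructure
import Cfsg.Agent.Linear.Simple

set_option autoImplicit false
open Cfsg Cfsg.Agent.H70

namespace Cfsg.Agent.S3433

/-- A finite group whose set of element orders is exactly {1, 2, 3, 4, 5} is isomorphic to the alternating group of degree 6, or has a normal elementary abelian 2-subgroup with quotient isomorphic to the alternating group of degree 5. -/
theorem result {G : Type*} [Group G] [Finite G] (h : Set.range (orderOf : G → ℕ) = {k : ℕ | 1 ≤ k ∧ k ≤ 5}) :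
    Nonempty (G ≃* ↥(alternatingGroup (Fin 6))) ∨
      ∃ (N : Subgroup G) (_ : N.Normal), Cfsg.IsElementaryAbelian 2 N ∧ Nonempty (G ⧸ N ≃* ↥(alternatingGroup (Fin 5))) := by
  have hmem : ∀ g : G, 1 ≤ orderOf g ∧ orderOf g ≤ 5 := fun g =>
    (h ▸ ⟨g, rfl⟩ : orderOf g ∈ {k : ℕ | 1 ≤ k ∧ k ≤ 5})
  have hex : ∀ k, 1 ≤ k → k ≤ 5 → ∃ g : G, orderOf g = k := fun k h1 h2 =>
    (h.symm ▸ ⟨h1, h2⟩ : k ∈ Set.range (orderOf : G → ℕ))
  have hpp : ∀ g : G, g ≠ 1 → IsPrimePow (orderOf g) := by
    intro g hg
    have h1 : orderOf g ≠ 1 := orderOf_eq_one_iff.not.2 hg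
    have := hmem g
    have : orderOf g = 2 ∨ orderOf g = 3 ∨ orderOf g = 2 ^ 2 ∨ orderOf g = 5 := by
      norm_num; omega
    rcases this with e | e | e | e <;> rw [e]
    · exact Nat.prime_two.isPrimePow
    · exact Nat.prime_three.isPrimePow
    · exact Nat.prime_two.isPrimePow.pow (by norm_num)
    · exact (by norm_num : Nat.Prime 5).isPrimePow
  have hprime : ∀ r : ℕ, r.Prime → r ∣ Nat.card G → r ≤ 5 := by
    intro r hr hrd
    have := Fact.mk hr
    obtain ⟨g, hg⟩ := exists_prime_orderOf_dvd_card' r hrd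
    exact hg ▸ (hmem g).2
  have h3 : 3 ≤ (Nat.card G).primeFactors.card := by
    have hsub : ({2, 3, 5} : Finset ℕ) ⊆ (Nat.card G).primeFactors := by
      intro r hr
      simp only [Finset.mem_insert, Finset.mem_singleton] at hr
      obtain ⟨g, hg⟩ := hex r (by omega) (by omega)
      refine Nat.Prime.mem_primeFactors ?_ (hg ▸ orderOf_dvd_natCard g) Nat.card_pos.ne'
      rcases hr with rfl | rfl | rfl <;> norm_num
    exact (show ({2, 3, 5} : Finset ℕ).card = 3 from rfl) ▸ Finset.card_le_card hsub
  have hns := SpecCN.not_solvable hpp h3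
  have hCN : ∀ x : G, x ≠ 1 → Group.IsNilpotent (Subgroup.centralizer ({x} : Set G)) :=
    fun _ => SpecCN.nilpotent_centralizer hpp
  obtain ⟨g4, hg4⟩ := hex 4 (by norm_num) (by norm_num)
  have hfour : ∀ {X : Type} [Group X], Nonempty (G ≃* X) →
      Nonempty (X ≃* alternatingGroup (Fin 5)) → False := by
    rintro X _ ⟨e⟩ ⟨f⟩
    exact SpecCN.no_order_four (e.trans f) g4 hg4
  have hpq : ∀ (F : Type) [Field F] [Fintype F] (n : ℕ), 4 ≤ Fintype.card F →
      Fintype.card F = 2 ^ n →
      Nat.card (Matrix.ProjectiveSpecialLinearGroup (Fin 2) F) ∣ Nat.card G →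
      Fintype.card F = 4 := by
    intro F _ _ n h4 hn hd
    have hn2 : 2 ≤ n := (Nat.pow_le_pow_iff_right (a := 2) (by norm_num)).1
      (by rw [← hn]; exact h4)
    have hn' : n = 2 := SpecCN.pow_two_cases hn2 fun r hr hrd => by
      by_cases h2 : r = 2
      · omega
      · refine hprime r hr ((SpecCN.dvd_card_psl_two (F := F) hr h2 ?_).trans hd)
        refine dvd_mul_of_dvd_right ?_ _
        rw [hn, ← one_pow 2, Nat.sq_sub_sq, mul_comm]
        exact hrd
    rw [hn, hn']; rfl
  rcases Cfsg.Agent.H65.CIT.cn_structure hns hCN with ⟨hs, hna⟩ | ⟨N, hN, hidx, F, _, _, hF, ⟨e⟩⟩ |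
      ⟨N, hN, -, hN2, -, hQ⟩
  · have := hs
    have hnc : ∃ a b : G, a * b ≠ b * a := by
      by_contra hc
      push Not at hc
      exact hna ⟨⟨hc⟩⟩
    rcases S0337.result hnc hCN with ⟨F, _, _, hF, ⟨e⟩⟩ | ⟨F, _, _, hF, ⟨e⟩⟩ | hsz
    · rcases hF with h9 | ⟨n, hn⟩ | ⟨hp, -⟩
      · exact Or.inl ⟨e.trans (Classical.choice (Cfsg.Agent.H27.SixPoints.psl_two_nine' h9))⟩
      · exfalso
        have h2 : 2 ≤ Fintype.card F := Fintype.one_lt_card
        by_cases h4 : 4 ≤ Fintype.card F
        · exact hfour ⟨e⟩ (SpecCN.iso_alt_five_psl_four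
            (hpq F n h4 hn (Nat.card_congr e.toEquiv ▸ dvd_rfl)))
        · have hc := Cfsg.Agent.Linear.card_PSL_two_mul (F := F)
          have hq : Fintype.card F = 2 := by
            rcases (by omega : Fintype.card F = 2 ∨ Fintype.card F = 3) with h | h
            · exact h
            · rw [h] at hn
              rcases Nat.eq_zero_or_pos n with rfl | hn0
              · norm_num at hn
              · have : 2 ∣ 2 ^ n := dvd_pow_self 2 hn0.ne'
                omega
          rw [hq, ← Nat.card_congr e.toEquiv] at hc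
          have : 5 ∣ Nat.card G := by
            obtain ⟨g, hg⟩ := hex 5 (by norm_num) (by norm_num)
            exact hg ▸ orderOf_dvd_natCard g
          norm_num at hc
          omega
      · exfalso
        have hd : Fintype.card F ∣ Nat.card G := by
          rw [Nat.card_congr e.toEquiv]
          rcases eq_or_ne (Fintype.card F) 2 with h2 | h2
          · have := Cfsg.Agent.Linear.card_PSL_two_mul (F := F)
            rw [h2] at this ⊢
            norm_num at this
            omega
          · exact SpecCN.dvd_card_psl_two hp h2 (dvd_mul_right _ _)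
        have h5 := hprime _ hp hd
        have hc := Cfsg.Agent.Linear.card_PSL_two_mul (F := F)
        rw [← Nat.card_congr e.toEquiv] at hc
        have : 5 ∣ Nat.card G := by
          obtain ⟨g, hg⟩ := hex 5 (by norm_num) (by norm_num)
          exact hg ▸ orderOf_dvd_natCard g
        have := hp.two_le
        rcases (by omega : Fintype.card F = 2 ∨ Fintype.card F = 3 ∨ Fintype.card F = 4 ∨
            Fintype.card F = 5) with h | h | h | h <;> rw [h] at hc hp <;> norm_num at hc hp
        · omega
        · omega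
        · obtain ⟨f⟩ := SpecCN.iso_alt_five_of_simple (X := G) (by omega)
          exact SpecCN.no_order_four f g4 hg4
    · exfalso
      have := hprime 7 (by norm_num)
        (Nat.card_congr e.toEquiv ▸ SpecCN.dvd_card_psl_three_four (Or.inr rfl) hF)
      omega
    · exfalso
      obtain ⟨r, hr, h5, hrd⟩ := SpecCN.exists_prime_suzuki hsz
      have := hprime r hr hrd
      omega
  · exfalso
    have := hN
    have hcard : Nat.card N = 360 := by
      rw [Nat.card_congr e.toEquiv]
      have := Cfsg.Agent.Linear.card_PSL_two_mul (F := F)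
      rw [hF] at this
      norm_num at this
      omega
    exact SpecTwo.Hyp.false (N := N) ⟨hpp, fun g => (hmem g).2, hidx,
      (have := Cfsg.Agent.Linear.isSimpleGroup_PSL_fin (F := F) (n := 2) le_rfl
        (fun _ => by rw [Nat.card_eq_fintype_card, hF]; norm_num)
       e.isSimpleGroup), hcard⟩
  · right
    have := hN
    have hd : Nat.card (G ⧸ N) ∣ Nat.card G := Subgroup.card_quotient_dvd_card N
    rcases hQ with ⟨hNc, hNsq, F, _, _, hchar, h4, ⟨e⟩⟩ | hsz
    · obtain ⟨n, -, hn⟩ := FiniteField.card F 2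
      refine ⟨N, hN, ⟨hNc, fun a ha => by rw [pow_two]; exact hNsq a ha⟩, ?_⟩
      exact ⟨e.trans (Classical.choice (SpecCN.iso_alt_five_psl_four
        (hpq F n h4 hn (Nat.card_congr e.toEquiv ▸ hd))))⟩
    · exfalso
      obtain ⟨r, hr, h5, hrd⟩ := SpecCN.exists_prime_suzuki hsz
      have := hprime r hr (hrd.trans hd)
      omega

end Cfsg.Agent.S3433
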