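import Cfsg.Statements.S3437
import Cfsg.Agent.H67.Octahedral

set_option autoImplicit false
open Cfsg

namespace Cfsg.Agent.S3437

open Matrix

/-- One step of the recursion for `A ^ k = c₀ + c₁ A + c₂ A²` when `A³ = a A² - b A + 1`. -/
def step (a b : ZMod 3) (c : ZMod 3 × ZMod 3 × ZMod 3) : ZMod 3 × ZMod 3 × ZMod 3 :=
  (c.2.2, c.1 - b * c.2.2, c.2.1 + a * c.2.2)

/-- Iterated step. -/
def iter (a b : ZMod 3) : ℕ → ZMod 3 × ZMod 3 × ZMod 3
  | 0 => (1, 0, 0)
  | k + 1 => step a b (iter a b k)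

theorem iter_table : ∀ a b : ZMod 3,
    iter a b 13 = (1, 0, 0) ∨ iter a b 8 = (1, 0, 0) ∨ iter a b 6 = (1, 0, 0) := by decide +kernel

theorem cayley {R : Type*} [CommRing R] (A : Matrix (Fin 3) (Fin 3) R) :
    A * A * A = (A 0 0 + A 1 1 + A 2 2) • (A * A) -
      (A 0 0 * A 1 1 - A 0 1 * A 1 0 + (A 0 0 * A 2 2 - A 0 2 * A 2 0) +
        (A 1 1 * A 2 2 - A 1 2 * A 2 1)) • A + A.det • 1 := by
  ext i j
  fin_cases i <;> fin_cases j <;>
    simp [Matrix.mul_apply, Fin.sum_univ_three, Matrix.det_fin_three] <;> ring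

theorem pow_cases {F : Type*} [Field F] (e : ZMod 3 ≃+* F) (A : Matrix (Fin 3) (Fin 3) F)
    (hd : A.det = 1) : A ^ 13 = 1 ∨ A ^ 8 = 1 ∨ A ^ 6 = 1 := by
  obtain ⟨a, ha⟩ := e.surjective (A 0 0 + A 1 1 + A 2 2)
  obtain ⟨b, hb⟩ := e.surjective (A 0 0 * A 1 1 - A 0 1 * A 1 0 + (A 0 0 * A 2 2 - A 0 2 * A 2 0) +
        (A 1 1 * A 2 2 - A 1 2 * A 2 1))
  have hc := cayley A
  rw [hd, one_smul, ← ha, ← hb] at hc
  have key : ∀ k, A ^ k = e (iter a b k).1 • (1 : Matrix (Fin 3) (Fin 3) F) + e (iter a b k).2.1 • A +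
      e (iter a b k).2.2 • (A * A) := by
    intro k
    induction k with
    | zero => simp [iter]
    | succ k ih =>
      rw [pow_succ, ih, add_mul, add_mul, smul_mul_assoc, smul_mul_assoc, smul_mul_assoc, one_mul, hc]
      simp only [iter, step, map_add, map_sub, map_mul]
      module
  have fin : ∀ k, iter a b k = (1, 0, 0) → A ^ k = 1 := by
    intro k hk
    rw [key, hk]
    simp
  exact (iter_table a b).imp (fin _) (Or.imp (fin _) (fin _))

/-- Witnesses of order 8, 13, 6. -/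
def w8 : Matrix (Fin 3) (Fin 3) (ZMod 3) := !![0, 0, 1; 1, 0, 2; 0, 1, 0]
/-- order 13 -/
def w13 : Matrix (Fin 3) (Fin 3) (ZMod 3) := !![0, 0, 1; 1, 0, 1; 0, 1, 0]
/-- order 6 -/
def w6 : Matrix (Fin 3) (Fin 3) (ZMod 3) := !![0, 0, 1; 1, 0, 1; 0, 1, 2]

theorem w_facts : w8 ^ 8 = 1 ∧ ¬ w8 ^ 4 = 1 ∧ w13 ^ 13 = 1 ∧ ¬ w13 = 1 ∧
    w6 ^ 6 = 1 ∧ ¬ w6 ^ 3 = 1 ∧ ¬ w6 ^ 2 = 1 ∧ w8.det = 1 ∧ w13.det = 1 ∧ w6.det = 1 := by
  decide +kernel

theorem cube_root : ∀ s : ZMod 3, s ^ 3 = 1 → s = 1 := by decide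

theorem range_psl {F : Type*} [Field F] [Fintype F] (hF : Fintype.card F = 3) :
    Set.range (orderOf : Matrix.ProjectiveSpecialLinearGroup (Fin 3) F → ℕ) =
      {n | n ∣ 13 ∨ n ∣ 8 ∨ n ∣ 6} := by
  haveI : Fact (Nat.Prime 3) := ⟨Nat.prime_three⟩
  haveI : CharP F 3 := charP_of_card_eq_prime hF
  let e : ZMod 3 ≃+* F := ZMod.ringEquivOfPrime F Nat.prime_three hF
  have hz : Subgroup.center (SpecialLinearGroup (Fin 3) F) = ⊥ := by
    rw [eq_bot_iff]
    intro g hg
    obtain ⟨r, hr, hg⟩ := Matrix.SpecialLinearGroup.mem_center_iff.1 hg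
    obtain ⟨s, rfl⟩ := e.surjective r
    have : s ^ 3 = 1 := e.injective (by rw [map_pow, map_one]; simpa using hr)
    have hs : s = 1 := cube_root s this
    rw [hs, map_one, map_one] at hg
    exact Subgroup.mem_bot.2 (Subtype.ext hg.symm)
  let π : SpecialLinearGroup (Fin 3) F →* Matrix.ProjectiveSpecialLinearGroup (Fin 3) F :=
    QuotientGroup.mk' _
  have hπ : Function.Injective π := by
    rw [← MonoidHom.ker_eq_bot_iff]
    exact (QuotientGroup.ker_mk' _).trans hz
  have hval : Function.Injective (fun g : SpecialLinearGroup (Fin 3) F => g.val) := Subtype.val_injective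
  let v : SpecialLinearGroup (Fin 3) F →* Matrix (Fin 3) (Fin 3) F :=
    { toFun := fun g => g.val, map_one' := rfl, map_mul' := fun _ _ => rfl }
  ext n
  constructor
  · rintro ⟨x, rfl⟩
    obtain ⟨g, rfl⟩ : ∃ g, π g = x := QuotientGroup.mk_surjective x
    rw [orderOf_injective π hπ, ← orderOf_injective v hval]
    exact (pow_cases e g.val g.2).imp orderOf_dvd_of_pow_eq_one
      (Or.imp orderOf_dvd_of_pow_eq_one orderOf_dvd_of_pow_eq_one)
  · intro hn
    let m := e.toRingHom.mapMatrix (m := Fin 3)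
    have hm : Function.Injective m := Matrix.map_injective e.injective
    have mk : ∀ (w : Matrix (Fin 3) (Fin 3) (ZMod 3)) (k : ℕ), w.det = 1 → orderOf w = k →
        ∃ x : Matrix.ProjectiveSpecialLinearGroup (Fin 3) F, orderOf x = k := by
      intro w k hd ho
      have hd' : (m w).det = 1 := by rw [← RingHom.map_det, hd, map_one]
      let g : SpecialLinearGroup (Fin 3) F := ⟨m w, hd'⟩
      refine ⟨π g, ?_⟩
      rw [orderOf_injective π hπ g, ← orderOf_injective v hval g]
      show orderOf (m w) = k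
      exact (orderOf_injective m.toMonoidHom hm w).trans ho
    obtain ⟨h1, h2, h3, h4, h5, h6, h7, d8, d13, d6⟩ := w_facts
    have o8 : orderOf w8 = 8 := by
      haveI : Fact (Nat.Prime 2) := ⟨Nat.prime_two⟩
      show orderOf w8 = 2 ^ (2 + 1)
      exact orderOf_eq_prime_pow h2 h1
    have o13 : orderOf w13 = 13 := by
      haveI : Fact (Nat.Prime 13) := ⟨by norm_num⟩
      exact orderOf_eq_prime h3 h4
    have o6 : orderOf w6 = 6 := by
      have hm : orderOf w6 ∈ (6 : ℕ).divisors :=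
        Nat.mem_divisors.2 ⟨orderOf_dvd_of_pow_eq_one h5, by norm_num⟩
      rw [show (6 : ℕ).divisors = {1, 2, 3, 6} by decide] at hm
      simp only [Finset.mem_insert, Finset.mem_singleton] at hm
      rcases hm with hm | hm | hm | hm
      · exact absurd (orderOf_dvd_iff_pow_eq_one.1 (hm ▸ one_dvd 2)) h7
      · exact absurd (orderOf_dvd_iff_pow_eq_one.1 (dvd_of_eq hm)) h7
      · exact absurd (orderOf_dvd_iff_pow_eq_one.1 (dvd_of_eq hm)) h6
      · exact hm
    have key : ∀ k, (∃ x : Matrix.ProjectiveSpecialLinearGroup (Fin 3) F, orderOf x = k) → n ∣ k →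
        n ∈ Set.range (orderOf : Matrix.ProjectiveSpecialLinearGroup (Fin 3) F → ℕ) := by
      rintro k ⟨x, rfl⟩ hd
      exact ⟨_, orderOf_pow_orderOf_div (orderOf_pos x).ne' hd⟩
    rcases hn with hn | hn | hn
    · exact key _ (mk w13 _ d13 o13) hn
    · exact key _ (mk w8 _ d8 o8) hn
    · exact key _ (mk w6 _ d6 o6) hn

/-- There is a finite solvable group with exactly the same set of element orders as the simple group PSL(3,3). -/
theorem result {F : Type*} [Field F] [Fintype F] (hF : Fintype.card F = 3) :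
    ∃ (H : Type) (_ : Group H) (_ : Fintype H), Group.IsSolvable H ∧
      Set.range (orderOf : H → ℕ) = Set.range (orderOf : Matrix.ProjectiveSpecialLinearGroup (Fin 3) F → ℕ) := by
  haveI : Fact (Nat.Prime 13) := ⟨by norm_num⟩
  haveI := H67.finite_affine H67.Oct
  refine ⟨H67.Affine H67.Oct, inferInstance, Fintype.ofFinite _, ?_, ?_⟩
  · haveI := H67.Oct_isSolvable
    exact Group.isSolvable_of_ker_le_range
      (SemidirectProduct.inl : Multiplicative (Fin 4 → ZMod 13) →* H67.Affine H67.Oct)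
      SemidirectProduct.rightHom (SemidirectProduct.range_inl_eq_ker_rightHom.ge)
  · rw [range_psl hF]
    ext n
    constructor
    · rintro ⟨x, rfl⟩
      rcases H67.orderOf_affine (C := H67.Oct) (fun c hc => (H67.Oct_spec c hc).1) x with ⟨-, h⟩ | ⟨h1, h⟩
      · rw [ringChar.eq (ZMod 13) 13] at h
        exact Or.inl h
      · rw [h]
        exact Or.inr (H67.Oct_spec _ h1).2
    · have key : ∀ k, (∃ x : H67.Affine H67.Oct, orderOf x = k) → n ∣ k →
          n ∈ Set.range (orderOf : H67.Affine H67.Oct → ℕ) := by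
        rintro k ⟨x, rfl⟩ hd
        exact ⟨_, orderOf_pow_orderOf_div (orderOf_pos x).ne' hd⟩
      have inr : ∀ g : GL (Fin 4) (ZMod 13), g ∈ H67.Oct →
          ∃ x : H67.Affine H67.Oct, orderOf x = orderOf g := fun g hg =>
        ⟨SemidirectProduct.inr ⟨g, hg⟩,
          (orderOf_injective _ SemidirectProduct.inr_injective _).trans (Subgroup.orderOf_mk g hg)⟩
      rintro (hn | hn | hn)
      · refine key 13 ⟨SemidirectProduct.inl (Multiplicative.ofAdd fun _ => (1 : ZMod 13)), ?_⟩ hn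
        apply orderOf_eq_prime
        · rw [← map_pow, show (Multiplicative.ofAdd fun _ : Fin 4 => (1 : ZMod 13)) ^ 13 = 1 from
            Multiplicative.toAdd.injective (funext fun _ => by
              show 13 • (1 : ZMod 13) = 0
              rw [nsmul_one]; exact ZMod.natCast_self 13), map_one]
        · rw [← map_one (SemidirectProduct.inl (φ := H67.vecAct H67.Oct)), Ne, SemidirectProduct.inl_inj]
          intro h
          have h1 : (1 : ZMod 13) = 0 := congrFun (congrArg Multiplicative.toAdd h) 0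
          exact one_ne_zero h1
      · obtain ⟨x, hx⟩ := inr H67.octAU (Subgroup.subset_closure (by simp))
        exact key 8 ⟨x, hx.trans H67.orderOf_octA⟩ hn
      · obtain ⟨g, hg, ho⟩ := H67.exists_orderOf_six
        obtain ⟨x, hx⟩ := inr g hg
        exact key 6 ⟨x, hx.trans ho⟩ hn

end Cfsg.Agent.S3437
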