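import Cfsg.Statements.S3438
import Cfsg.Agent.H67.SmallFPF
import Cfsg.Agent.H67.U33

set_option autoImplicit false
open Cfsg

namespace Cfsg.Agent.S3438

/-- There is a finite solvable group with exactly the same set of element orders as the simple group PSU(3,3) (realised over the field with 9 elements). -/
theorem result {F : Type*} [Field F] [Fintype F] (hF : Fintype.card F = 9) :
    ∃ (H : Type) (_ : Group H) (_ : Fintype H), Group.IsSolvable H ∧ Set.range (orderOf : H → ℕ) = Set.range (orderOf : Cfsg.PSU 3 F 3 → ℕ) := by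
  haveI : Fact (Nat.Prime 7) := ⟨by norm_num⟩
  haveI := Cfsg.Agent.H67.finite_affine Cfsg.Agent.H67.ThreeEight
  refine ⟨Cfsg.Agent.H67.Affine Cfsg.Agent.H67.ThreeEight, inferInstance, Fintype.ofFinite _, ?_, ?_⟩
  · haveI := Cfsg.Agent.H67.threeEight_isSolvable
    exact Group.isSolvable_of_ker_le_range
      (SemidirectProduct.inl :
        Multiplicative (Fin 4 → ZMod 7) →* Cfsg.Agent.H67.Affine Cfsg.Agent.H67.ThreeEight)
      SemidirectProduct.rightHom (SemidirectProduct.range_inl_eq_ker_rightHom.ge)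
  · rw [Cfsg.Agent.H67.U33.range_orderOf_PSU hF]
    ext n
    constructor
    · rintro ⟨x, rfl⟩
      rcases Cfsg.Agent.H67.orderOf_affine (C := Cfsg.Agent.H67.ThreeEight)
          (fun c hc => (Cfsg.Agent.H67.threeEight_spec c hc).1) x with ⟨-, h⟩ | ⟨h1, h⟩
      · rw [ringChar.eq (ZMod 7) 7] at h
        exact Or.inr (Or.inr h)
      · rw [h]
        rcases (Cfsg.Agent.H67.threeEight_spec _ h1).2 with h2 | h2
        · exact Or.inr (Or.inl h2)
        · exact Or.inl h2
    · have key : ∀ k, (∃ x : Cfsg.Agent.H67.Affine Cfsg.Agent.H67.ThreeEight, orderOf x = k) → n ∣ k →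
          n ∈ Set.range (orderOf : Cfsg.Agent.H67.Affine Cfsg.Agent.H67.ThreeEight → ℕ) := by
        rintro k ⟨x, rfl⟩ hd
        exact ⟨_, orderOf_pow_orderOf_div (orderOf_pos x).ne' hd⟩
      have inr : ∀ c : Cfsg.Agent.H67.ThreeEight,
          ∃ x : Cfsg.Agent.H67.Affine Cfsg.Agent.H67.ThreeEight, orderOf x = orderOf c := fun c =>
        ⟨SemidirectProduct.inr c, orderOf_injective _ SemidirectProduct.inr_injective _⟩
      obtain ⟨⟨c8, h8⟩, c12, h12⟩ := Cfsg.Agent.H67.exists_orderOf_eight_twelve
      rintro (hn | hn | hn)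
      · obtain ⟨x, hx⟩ := inr c12
        exact key 12 ⟨x, hx.trans h12⟩ hn
      · obtain ⟨x, hx⟩ := inr c8
        exact key 8 ⟨x, hx.trans h8⟩ hn
      · refine key 7 ⟨SemidirectProduct.inl (Multiplicative.ofAdd fun _ => (1 : ZMod 7)), ?_⟩ hn
        apply orderOf_eq_prime
        · rw [← map_pow, show (Multiplicative.ofAdd fun _ : Fin 4 => (1 : ZMod 7)) ^ 7 = 1 from
            Multiplicative.toAdd.injective (funext fun _ => by
              show 7 • (1 : ZMod 7) = 0
              rw [nsmul_one]; exact ZMod.natCast_self 7), map_one]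
        · rw [← map_one (SemidirectProduct.inl (φ := Cfsg.Agent.H67.vecAct Cfsg.Agent.H67.ThreeEight)),
            Ne, SemidirectProduct.inl_inj]
          intro h
          have h1 : (1 : ZMod 7) = 0 := congrFun (congrArg Multiplicative.toAdd h) 0
          exact one_ne_zero h1

end Cfsg.Agent.S3438
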