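import Cfsg.Statements.S3439
import Cfsg.Agent.H67.CubeSpectrum
import Cfsg.Agent.H67.PSp43

set_option autoImplicit false
open Cfsg

namespace Cfsg.Agent.S3439

/-- There is a finite solvable group with exactly the same set of element orders as the simple group PSp(4,3). -/
theorem result {F : Type*} [Field F] [Fintype F] (hF : Fintype.card F = 3) :
    ∃ (H : Type) (_ : Group H) (_ : Fintype H), Group.IsSolvable H ∧ Set.range (orderOf : H → ℕ) = Set.range (orderOf : Cfsg.PSp 2 F → ℕ) := by
  haveI : Fact (Nat.Prime 3) := ⟨Nat.prime_three⟩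
  haveI : Fintype (GaloisField 3 4) := Fintype.ofFinite _
  have hcard : Fintype.card (GaloisField 3 4) = 81 := by
    rw [← Nat.card_eq_fintype_card, GaloisField.card 3 4 (by norm_num)]
    norm_num
  have h81 : ∀ a : GaloisField 3 4, a ^ 81 = a := fun a => by
    rw [← hcard]; exact FiniteField.pow_card a
  haveI := Cfsg.Agent.H67.finite_cubeExt h81
  obtain ⟨g, hg⟩ := IsCyclic.exists_ofOrder_eq_natCard (α := (GaloisField 3 4)ˣ)
  rw [Nat.card_units, Nat.card_eq_fintype_card, hcard] at hg
  have hv : ((g : GaloisField 3 4)) ^ 9 ≠ g := by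
    intro hc
    have h8 : g ^ 8 = 1 := by
      have : g ^ 9 = g := Units.ext (by rw [Units.val_pow_eq_pow_val]; exact hc)
      rw [pow_succ] at this
      exact mul_eq_right.1 this
    have := Nat.le_of_dvd (by norm_num) (hg ▸ orderOf_dvd_of_pow_eq_one h8)
    norm_num at this
  have ho : orderOf (g ^ 16) = 5 := by
    rw [orderOf_pow_of_dvd (by norm_num) (by rw [hg]; norm_num), hg]
  refine ⟨Cfsg.Agent.H67.CubeExt h81, inferInstance, Fintype.ofFinite _,
    Cfsg.Agent.H67.isSolvable_cubeExt h81, ?_⟩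
  rw [Cfsg.Agent.H67.PSp43.range_orderOf_PSp hF]
  ext n
  constructor
  · rintro ⟨x, rfl⟩
    exact Cfsg.Agent.H67.orderOf_cases h81 x
  · have key : ∀ k, (∃ x : Cfsg.Agent.H67.CubeExt h81, orderOf x = k) → n ∣ k →
        n ∈ Set.range (orderOf : Cfsg.Agent.H67.CubeExt h81 → ℕ) := by
      rintro k ⟨x, rfl⟩ hd
      exact ⟨_, orderOf_pow_orderOf_div (orderOf_pos x).ne' hd⟩
    obtain ⟨e9, e12, e5⟩ := Cfsg.Agent.H67.exists_orders h81 _ hv _ ho
    rintro (hn | hn | hn)
    · exact key 9 e9 hn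
    · exact key 12 e12 hn
    · exact key 5 e5 hn

end Cfsg.Agent.S3439
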