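import Cfsg.Statements.S3444
import Cfsg.Agent.H67.Spectrum
import Cfsg.Agent.Hall.MinimalNormal

set_option autoImplicit false
open Cfsg

namespace Cfsg.Agent.S3444

/-- A finite group with a non-trivial solvable normal subgroup is not determined by its set of element orders, not even up to finitely many possibilities: for every bound N there is a finite group of order greater than N with exactly the same set of element orders. -/
theorem result {G : Type*} [Group G] [Finite G] (K : Subgroup G) [K.Normal] (hK : K ≠ ⊥)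
    (hs : Group.IsSolvable K) (N : ℕ) :
    ∃ (H : Type) (_ : Group H) (_ : Fintype H), N < Fintype.card H ∧ Set.range (orderOf : H → ℕ) = Set.range (orderOf : G → ℕ) := by
  obtain ⟨M, hMn, hM, hMK, hmin⟩ := Hall.exists_minimal_normal_le K hK
  have : M.Normal := hMn
  have hMs : Group.IsSolvable M :=
    solvable_of_solvable_injective (Subgroup.inclusion_injective hMK)
  obtain ⟨_, p, hp, _, hexp⟩ := Hall.minimal_normal_elementary hM hmin hMs
  obtain ⟨G₀, ⟨e⟩⟩ : ∃ G₀ : Type, Nonempty (G₀ ≃ G) := ⟨Fin (Nat.card G), ⟨(Finite.equivFin G).symm⟩⟩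
  letI : Group G₀ := e.group
  haveI : Finite G₀ := Finite.of_equiv _ e.symm
  let f : G₀ ≃* G := e.mulEquiv
  have h0 : ∃ (V : Subgroup G₀) (p : ℕ), V.Normal ∧ V ≠ ⊥ ∧ p.Prime ∧ ∀ x : V, x ^ p = 1 := by
    refine ⟨M.comap f.toMonoidHom, p, hMn.comap _, ?_, hp, ?_⟩
    · intro h
      apply hM
      rw [← Subgroup.map_comap_eq_self_of_surjective (f := f.toMonoidHom) f.surjective M, h, Subgroup.map_bot]
    · rintro ⟨x, hx⟩
      apply Subtype.ext
      rw [SubmonoidClass.coe_pow, OneMemClass.coe_one]
      apply f.injective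
      rw [map_pow, map_one]
      exact hexp (f x) hx
  obtain ⟨H, iH, fH, hc, hsp, _⟩ := H67.exists_arbitrarily_large h0 (N + 1)
  haveI := fH
  refine ⟨H, iH, Fintype.ofFinite H, ?_, hsp.trans (H67.range_orderOf_congr f)⟩
  rw [@Fintype.card_eq_nat_card H (Fintype.ofFinite H)]
  omega

end Cfsg.Agent.S3444
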