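import Cfsg.Statements.S3448


set_option autoImplicit false
open Cfsg

namespace Cfsg.Agent.S3448

theorem five_orders : ∀ g : alternatingGroup (Fin 5), g ^ 2 = 1 ∨ g ^ 3 = 1 ∨ g ^ 5 = 1 := by
  decide +kernel

theorem range_a5 : Set.range (orderOf : alternatingGroup (Fin 5) → ℕ) = {1, 2, 3, 5} := by
  ext n
  constructor
  · rintro ⟨g, rfl⟩
    rcases five_orders g with h | h | h
    · rcases (Nat.dvd_prime Nat.prime_two).1 (orderOf_dvd_of_pow_eq_one h) with h' | h' <;> simp [h']
    · rcases (Nat.dvd_prime Nat.prime_three).1 (orderOf_dvd_of_pow_eq_one h) with h' | h' <;> simp [h']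
    · rcases (Nat.dvd_prime Nat.prime_five).1 (orderOf_dvd_of_pow_eq_one h) with h' | h' <;> simp [h']
  · intro hn
    have hc : Nat.card (alternatingGroup (Fin 5)) = 60 := by
      rw [nat_card_alternatingGroup]; simp [Nat.factorial]
    have key : ∀ p : ℕ, p.Prime → p ∣ 60 →
        ∃ g : alternatingGroup (Fin 5), orderOf g = p := by
      intro p hp hd
      haveI := Fact.mk hp
      exact exists_prime_orderOf_dvd_card' p (hc ▸ hd)
    rcases hn with rfl | rfl | rfl | rfl
    · exact ⟨1, orderOf_one⟩
    · exact key 2 Nat.prime_two (by norm_num)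
    · exact key 3 Nat.prime_three (by norm_num)
    · exact key 5 Nat.prime_five (by norm_num)

theorem range_prod_a5 :
    Set.range (orderOf : alternatingGroup (Fin 5) × alternatingGroup (Fin 5) → ℕ) =
      {1, 2, 3, 5, 6, 10, 15} := by
  ext n
  constructor
  · rintro ⟨⟨a, b⟩, rfl⟩
    have ha : orderOf a ∈ ({1, 2, 3, 5} : Set ℕ) := range_a5 ▸ ⟨a, rfl⟩
    have hb : orderOf b ∈ ({1, 2, 3, 5} : Set ℕ) := range_a5 ▸ ⟨b, rfl⟩
    rw [Prod.orderOf]
    rcases ha with h | h | h | h <;> rcases hb with h' | h' | h' | h' <;>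
      · rw [h, h']; norm_num [Nat.lcm]
  · intro hn
    have key : ∀ a ∈ ({1, 2, 3, 5} : Set ℕ), ∀ b ∈ ({1, 2, 3, 5} : Set ℕ),
        Nat.lcm a b ∈ Set.range (orderOf : alternatingGroup (Fin 5) × alternatingGroup (Fin 5) → ℕ) := by
      intro a ha b hb
      rw [← range_a5] at ha hb
      obtain ⟨x, rfl⟩ := ha
      obtain ⟨y, rfl⟩ := hb
      exact ⟨(x, y), Prod.orderOf _⟩
    rcases hn with rfl | rfl | rfl | rfl | rfl | rfl | rfl
    · exact key 1 (by simp) 1 (by simp)
    · exact key 1 (by simp) 2 (by simp)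
    · exact key 1 (by simp) 3 (by simp)
    · exact key 1 (by simp) 5 (by simp)
    · exact key 2 (by simp) 3 (by simp)
    · exact key 2 (by simp) 5 (by simp)
    · exact key 3 (by simp) 5 (by simp)

/-- The set of element orders of the direct product of two copies of the alternating group of degree 5 is {1, 2, 3, 5, 6, 10, 15}. (It is shared by the direct product of two Frobenius groups of orders 50 and 75, so this direct product is not determined by its element orders.) -/
theorem result : Set.range (orderOf : alternatingGroup (Fin 5) × alternatingGroup (Fin 5) → ℕ) = {1, 2, 3, 5, 6, 10, 15} := by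
  exact range_prod_a5

end Cfsg.Agent.S3448
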