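import Cfsg.Statements.S3449
import Cfsg.Agent.S3448

set_option autoImplicit false
open Cfsg

namespace Cfsg.Agent.S3449

/-- The direct product of three copies of the alternating group of degree 5 has exactly the same set of element orders as the cyclic group of order 30, namely the divisors of 30; in particular a direct power of a non-abelian simple group need not be determined by its element orders. -/
theorem result : Set.range (orderOf : alternatingGroup (Fin 5) × alternatingGroup (Fin 5) × alternatingGroup (Fin 5) → ℕ) =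
      Set.range (orderOf : Multiplicative (ZMod 30) → ℕ) := by
  ext n
  constructor
  · rintro ⟨⟨a, bc⟩, rfl⟩
    have ha : orderOf a ∈ ({1, 2, 3, 5} : Set ℕ) := S3448.range_a5 ▸ ⟨a, rfl⟩
    have hb : orderOf bc ∈ ({1, 2, 3, 5, 6, 10, 15} : Set ℕ) := S3448.range_prod_a5 ▸ ⟨bc, rfl⟩
    have hd : orderOf ((a, bc) : alternatingGroup (Fin 5) × _) ∣ 30 := by
      rw [Prod.orderOf]
      apply Nat.lcm_dvd
      · rcases ha with h | h | h | h <;> rw [h] <;> norm_num
      · rcases hb with h | h | h | h | h | h | h <;> rw [h] <;> norm_num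
    obtain ⟨c, hc⟩ := hd
    refine ⟨Multiplicative.ofAdd ((c : ℕ) : ZMod 30), ?_⟩
    rw [orderOf_ofAdd_eq_addOrderOf, ZMod.addOrderOf_coe _ (by norm_num), hc,
      Nat.gcd_eq_right (dvd_mul_left c _), Nat.mul_div_cancel _ (by
        rcases Nat.eq_zero_or_pos c with h | h
        · subst h; simp at hc
        · exact h)]
  · rintro ⟨z, rfl⟩
    have hd : orderOf z ∣ 30 := by
      have h := orderOf_dvd_natCard z
      rwa [show Nat.card (Multiplicative (ZMod 30)) = 30 by simp] at h
    have key : ∀ a ∈ ({1, 2, 3, 5} : Set ℕ), ∀ b ∈ ({1, 2, 3, 5, 6, 10, 15} : Set ℕ),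
        Nat.lcm a b ∈ Set.range (orderOf : alternatingGroup (Fin 5) × alternatingGroup (Fin 5) ×
          alternatingGroup (Fin 5) → ℕ) := by
      intro a ha b hb
      rw [← S3448.range_a5] at ha
      rw [← S3448.range_prod_a5] at hb
      obtain ⟨x, rfl⟩ := ha
      obtain ⟨y, rfl⟩ := hb
      exact ⟨(x, y), Prod.orderOf _⟩
    have hm : orderOf z ∈ (30 : ℕ).divisors := Nat.mem_divisors.2 ⟨hd, by norm_num⟩
    rw [show (30 : ℕ).divisors = {1, 2, 3, 5, 6, 10, 15, 30} by decide] at hm
    simp only [Finset.mem_insert, Finset.mem_singleton] at hm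
    rcases hm with h | h | h | h | h | h | h | h <;> rw [h]
    · exact key 1 (by simp) 1 (by simp)
    · exact key 1 (by simp) 2 (by simp)
    · exact key 1 (by simp) 3 (by simp)
    · exact key 1 (by simp) 5 (by simp)
    · exact key 1 (by simp) 6 (by simp)
    · exact key 1 (by simp) 10 (by simp)
    · exact key 1 (by simp) 15 (by simp)
    · exact key 2 (by simp) 15 (by simp)

end Cfsg.Agent.S3449
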