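import Cfsg.Statements.S3452
import Cfsg.Agent.H67.UnipotentModule
import Cfsg.Agent.H67.PGLSmall
import Cfsg.Agent.S3444

set_option autoImplicit false
open Cfsg

namespace Cfsg.Agent.S3452

/-- For F a finite field whose number of elements is a prime or equals 9, the group PGL(2,F) = GL(2,F)/Z(GL(2,F)) is not determined by its set of element orders: for every bound N there is a finite group of order greater than N with exactly the same set of element orders as PGL(2,F). -/
theorem result {F : Type*} [Field F] [Fintype F] (hF : (Fintype.card F).Prime ∨ Fintype.card F = 9) (N : ℕ) :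
    ∃ (H : Type) (_ : Group H) (_ : Fintype H), N < Fintype.card H ∧
      Set.range (orderOf : H → ℕ) = Set.range (orderOf : Matrix.GeneralLinearGroup (Fin 2) F ⧸ Subgroup.center (Matrix.GeneralLinearGroup (Fin 2) F) → ℕ) := by
  rcases hF with hp | h9
  · rcases lt_or_ge (Fintype.card F) 4 with h4 | h4
    · obtain ⟨K, hKn, hK, hKs⟩ := H67.small_pgl (F := F) (by have := hp.two_le; omega)
      exact S3444.result K hK hKs N
    · have h5 : 5 ≤ Fintype.card F := by
        rcases eq_or_lt_of_le h4 with h | h
        · exact absurd (h.symm ▸ hp) (by norm_num)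
        · exact h
      obtain ⟨hspec, t₀, -, hne, hmem⟩ := H67.modGroup_spectrum (F := F) hp h5 rfl
      have hfin : Finite (H67.ModGroup F) := Finite.of_equiv _ SemidirectProduct.equivProd.symm
      set ι : Multiplicative (H67.W F) →* H67.ModGroup F := SemidirectProduct.inl
      have hn : ι.range.Normal := by
        simp only [ι, SemidirectProduct.range_inl_eq_ker_rightHom]
        exact MonoidHom.normal_ker _
      have hb : ι.range ≠ ⊥ := by
        intro h
        have h1 : ι (Multiplicative.ofAdd (⟨H67.wit t₀, hmem⟩ : H67.W F)) ∈ ι.range := ⟨_, rfl⟩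
        rw [h, Subgroup.mem_bot, ← map_one ι, SemidirectProduct.inl_inj] at h1
        exact hne (congrArg Subtype.val (congrArg Multiplicative.toAdd h1))
      have hs : Group.IsSolvable ι.range :=
        Group.isSolvable_of_surjective (MonoidHom.rangeRestrict_surjective ι)
      obtain ⟨H, iH, fH, hN, hH⟩ := S3444.result (G := H67.ModGroup F) ι.range hb hs N
      refine ⟨H, iH, fH, hN, ?_⟩
      have hodd : Odd (Fintype.card F) := hp.odd_of_ne_two (by omega)
      rw [hH, hspec, H67.range_orderOf_PGL hodd]
      haveI := charP_of_card_eq_prime (R := F) (p := Fintype.card F) (hp := ⟨hp⟩) rfl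
      rw [ringChar.eq F (Fintype.card F)]
  · obtain ⟨V, hVn, hV, hVs⟩ := H67.affine_translations H67.C40
    haveI := H67.finite_affine H67.C40
    obtain ⟨H, iH, fH, hN, hH⟩ := S3444.result (G := H67.Frob9) V hV hVs N
    refine ⟨H, iH, fH, hN, ?_⟩
    rw [hH, H67.frob9_spectrum, H67.range_orderOf_PGL (by rw [h9]; decide), h9]
    have hchar : ringChar F = 3 := by
      refine CharP.ringChar_of_prime_eq_zero Nat.prime_three ?_
      have h3 : ((9 : ℕ) : F) = 0 := by rw [← h9]; exact FiniteField.cast_card_eq_zero F
      have h4 : (3 : F) * 3 = 0 := by rw [← h3]; norm_num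
      simpa using (mul_self_eq_zero.1 h4)
    rw [hchar]

end Cfsg.Agent.S3452
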