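import Cfsg.Statements.S3466
import Cfsg.Agent.H69.Psp4.Main

set_option autoImplicit false
open Cfsg

namespace Cfsg.Agent.S3466

/-- Let F be a finite field with q ≥ 3 elements such that q is not of the form 3^(2t+1) with t ≥ 1. Then PSp(4,F) is not determined by its set of element orders, not even up to finitely many groups: for every bound N there is a finite group of order greater than N with exactly the same set of element orders as PSp(4,F). -/
theorem result {F : Type*} [Field F] [Fintype F] (h3 : 3 ≤ Fintype.card F) (hq : ∀ t : ℕ, 1 ≤ t → Fintype.card F ≠ 3 ^ (2 * t + 1)) (N : ℕ) :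
    ∃ (H : Type) (_ : Group H) (_ : Fintype H), N < Fintype.card H ∧ Set.range (orderOf : H → ℕ) = Set.range (orderOf : Cfsg.PSp 2 F → ℕ) := by
  obtain ⟨p, hchar⟩ := CharP.exists F
  obtain ⟨⟨n, hn⟩, hp, hcard⟩ := FiniteField.card F p
  haveI := Fact.mk hp
  obtain ⟨H, hG, hF, hN, hspec⟩ := Cfsg.Agent.H69.Psp4.exists_witness p n hn (fun h3' ho => by
    obtain ⟨t, ht⟩ := ho
    by_contra hne
    exact hq t (by omega) (by rw [hcard, h3']; simp [ht])) N
  refine ⟨H, hG, hF, hN, ?_⟩
  rw [hspec, Cfsg.Agent.H69.Psp4.psp_spectrum p, Nat.card_eq_fintype_card, hcard]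
  rfl

end Cfsg.Agent.S3466
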