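import Cfsg.Statements.S3494
import Cfsg.Agent.H68.Manning
-- import your own Cfsg.Agent.* helpers here

set_option autoImplicit false
open Cfsg

namespace Cfsg.Agent.S3494

/-- Manning's Theorem on extremely primitive groups. Let a finite group G act faithfully and primitively on a finite set Ω with non-trivial point stabilizers, and suppose every point stabilizer G_α acts primitively on each of its orbits. Then G_α acts faithfully on each of its orbits other than {α}: an element of G_α fixing every point of one such orbit is the identity. -/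
theorem result {G : Type*} [Group G] [Finite G] {Ω : Type*} [Fintype Ω] [MulAction G Ω] [FaithfulSMul G Ω] (hprim : MulAction.IsPreprimitive G Ω) (hH : ∀ α : Ω, MulAction.stabilizer G α ≠ ⊥) (hep : ∀ (α : Ω) (ω : Ω), MulAction.IsPreprimitive (MulAction.stabilizer G α) (MulAction.orbit (MulAction.stabilizer G α) ω))
    (α ω : Ω) (hω : ω ≠ α) (h : MulAction.stabilizer G α) (hfix : ∀ x ∈ MulAction.orbit (MulAction.stabilizer G α) ω, h • x = x) : h = 1 := by
  classical
  have hM := Cfsg.Agent.H68.manning hprim (hH α) hep
    ((MulAction.toPermHom (MulAction.stabilizer G α)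
      (MulAction.orbit (MulAction.stabilizer G α) ω)).ker.map (MulAction.stabilizer G α).subtype)
    (Subgroup.map_subtype_le _) ?_ hω ?_
  · have h1 : (h : G) ∈ ((MulAction.toPermHom (MulAction.stabilizer G α)
      (MulAction.orbit (MulAction.stabilizer G α) ω)).ker.map
        (MulAction.stabilizer G α).subtype) := by
      refine ⟨h, ?_, rfl⟩
      rw [SetLike.mem_coe, MonoidHom.mem_ker]
      ext ⟨x, hx⟩
      exact hfix x hx
    rw [hM, Subgroup.mem_bot] at h1
    exact Subtype.ext h1
  · intro g hg
    rw [Subgroup.mem_normalizer_iff]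
    intro m
    constructor
    · rintro ⟨k, hk, rfl⟩
      exact ⟨⟨g, hg⟩ * k * ⟨g, hg⟩⁻¹,
        (inferInstance : (MonoidHom.ker _).Normal).conj_mem k hk ⟨g, hg⟩, rfl⟩
    · rintro ⟨k, hk, hkm⟩
      refine ⟨⟨g, hg⟩⁻¹ * k * ⟨g, hg⟩, ?_, ?_⟩
      · simpa using (inferInstance : (MonoidHom.ker (MulAction.toPermHom (MulAction.stabilizer G α)
          (MulAction.orbit (MulAction.stabilizer G α) ω))).Normal).conj_mem k hk ⟨g, hg⟩⁻¹
      · simp only [Subgroup.coe_subtype] at hkm
        simp [hkm, mul_assoc]
  · rintro m ⟨k, hk, rfl⟩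
    have h2 := Equiv.ext_iff.mp (MonoidHom.mem_ker.mp hk) ⟨ω, MulAction.mem_orbit_self ω⟩
    exact congrArg Subtype.val h2

end Cfsg.Agent.S3494
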