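import Cfsg.Statements.S3495
import Cfsg.Agent.H68.Manning
-- import your own Cfsg.Agent.* helpers here

set_option autoImplicit false
open Cfsg

namespace Cfsg.Agent.S3495

/-- Let a finite group G act faithfully and primitively on a finite set Ω with non-trivial point stabilizers, each acting primitively on every one of its orbits (an extremely primitive group), and suppose G has an elementary abelian normal p-subgroup N acting regularly on Ω (affine type). Then every non-trivial subgroup M of a point stabilizer G_α that is normal in G_α has the same orbits on Ω as G_α, and normalizes no subgroup of N other than 1 and N. -/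
theorem result {G : Type*} [Group G] [Finite G] {Ω : Type*} [Fintype Ω] [MulAction G Ω] [FaithfulSMul G Ω] (hprim : MulAction.IsPreprimitive G Ω) (hH : ∀ α : Ω, MulAction.stabilizer G α ≠ ⊥) (hep : ∀ (α : Ω) (ω : Ω), MulAction.IsPreprimitive (MulAction.stabilizer G α) (MulAction.orbit (MulAction.stabilizer G α) ω))
    (N : Subgroup G) [N.Normal] (hNc : IsMulCommutative N) (p : ℕ) (hp : p.Prime) (hNp : ∀ n ∈ N, n ^ p = 1)
    (hNtr : MulAction.IsPretransitive N Ω) (hNreg : ∀ ω : Ω, MulAction.stabilizer N ω = ⊥) (α : Ω) (M : Subgroup G) (hM : M ≠ ⊥) (hMle : M ≤ MulAction.stabilizer G α)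
    (hMn : MulAction.stabilizer G α ≤ Subgroup.normalizer (M : Set G)) :
    (∀ ω : Ω, MulAction.orbit M ω = MulAction.orbit (MulAction.stabilizer G α) ω) ∧
    (∀ L : Subgroup G, L ≤ N → M ≤ Subgroup.normalizer (L : Set G) → L = ⊥ ∨ L = N) := by
  classical
  have horb := Cfsg.Agent.H68.orbit_eq_stabilizer_orbit hprim (hH α) hep M hM hMle hMn
  refine ⟨horb, fun L hL hML => ?_⟩
  have := Cfsg.Agent.H68.nontrivial_of_stabilizer_ne_bot (hH α)
  -- the points of `L`
  let B : Set Ω := MulAction.orbit L α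
  have hMB : ∀ m ∈ M, ∀ x ∈ B, m • x ∈ B := by
    rintro m hm x ⟨⟨l, hl⟩, rfl⟩
    refine ⟨⟨m * l * m⁻¹, (Subgroup.mem_normalizer_iff.mp (hML hm) l).mp hl⟩, ?_⟩
    change (m * l * m⁻¹) • α = m • l • α
    have hm' : m⁻¹ • α = α := MulAction.mem_stabilizer_iff.mp (inv_mem (hMle hm))
    rw [mul_smul, mul_smul, hm']
  have hHB : ∀ g ∈ MulAction.stabilizer G α, ∀ x ∈ B, g • x ∈ B := by
    intro g hg x hx
    have h1 : g • x ∈ MulAction.orbit (MulAction.stabilizer G α) x := ⟨⟨g, hg⟩, rfl⟩
    rw [← horb] at h1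
    obtain ⟨⟨m, hm⟩, hmx⟩ := h1
    rw [← hmx]
    exact hMB m hm x hx
  -- hence `L` is normalized by the stabilizer
  have hLn : MulAction.stabilizer G α ≤ Subgroup.normalizer (L : Set G) := by
    have key : ∀ g ∈ MulAction.stabilizer G α, ∀ l ∈ L, g * l * g⁻¹ ∈ L := by
      intro g hg l hl
      obtain ⟨⟨l', hl'⟩, hll⟩ := hHB g hg (l • α) ⟨⟨l, hl⟩, rfl⟩
      have hconj : g * l * g⁻¹ ∈ N := ‹N.Normal›.conj_mem l (hL hl) g
      have hg' : g⁻¹ • α = α := MulAction.mem_stabilizer_iff.mp (inv_mem hg)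
      have hst : (⟨l'⁻¹ * (g * l * g⁻¹), mul_mem (inv_mem (hL hl')) hconj⟩ : N) ∈
          MulAction.stabilizer N α := by
        change (l'⁻¹ * (g * l * g⁻¹)) • α = α
        rw [mul_smul, mul_smul, mul_smul, hg', inv_smul_eq_iff]
        exact hll.symm
      rw [hNreg α, Subgroup.mem_bot] at hst
      have := congrArg Subtype.val hst
      simp only [Subgroup.coe_one] at this
      rw [inv_mul_eq_one] at this
      exact this ▸ hl'
    intro g hg
    rw [Subgroup.mem_normalizer_iff]
    intro l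
    refine ⟨key g hg l, fun h => ?_⟩
    have h2 := key g⁻¹ (inv_mem hg) _ h
    simpa [mul_assoc] using h2
  have hLN : N ≤ Subgroup.normalizer (L : Set G) := by
    intro n hn
    rw [Subgroup.mem_normalizer_iff]
    intro l
    constructor
    · intro hl
      have h3 : n * l = l * n := congrArg Subtype.val (hNc.is_comm.comm ⟨n, hn⟩ ⟨l, hL hl⟩)
      simp [h3, hl]
    · intro h
      have h3 : n * (n * l * n⁻¹) = (n * l * n⁻¹) * n :=
        congrArg Subtype.val (hNc.is_comm.comm ⟨n, hn⟩ ⟨_, hL h⟩)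
      have h4 : n * l * n⁻¹ = l := mul_left_cancel (h3.trans (by group))
      rwa [h4] at h
  have hnorm : L.Normal := by
    rw [← Subgroup.normalizer_eq_top_iff]
    rcases hLn.lt_or_eq with hlt | heq
    · exact (MulAction.IsPreprimitive.isCoatom_stabilizer_of_isPreprimitive G α).2 _ hlt
    · exfalso
      obtain ⟨β, hβ⟩ := exists_ne α
      obtain ⟨n, hn⟩ := hNtr.exists_smul_eq α β
      have h5 : (n : G) ∈ MulAction.stabilizer G α := by rw [heq]; exact hLN n.2
      exact hβ (hn.symm.trans (MulAction.mem_stabilizer_iff.mp h5))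
  by_cases hL1 : L = ⊥
  · exact Or.inl hL1
  refine Or.inr (le_antisymm hL ?_)
  have hLt : MulAction.IsPretransitive L Ω := by
    refine hprim.isQuasiPreprimitive.isPretransitive_of_normal ?_
    intro hu
    refine hL1 ((Subgroup.eq_bot_iff_forall _).mpr fun l hl => ?_)
    refine FaithfulSMul.eq_of_smul_eq_smul fun x : Ω => ?_
    have hx : x ∈ MulAction.fixedPoints L Ω := hu ▸ Set.mem_univ x
    rw [one_smul]
    exact hx ⟨l, hl⟩
  intro n hn
  obtain ⟨⟨l, hl⟩, hln⟩ := hLt.exists_smul_eq α (n • α)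
  have hst : (⟨n⁻¹ * l, mul_mem (inv_mem hn) (hL hl)⟩ : N) ∈ MulAction.stabilizer N α := by
    change (n⁻¹ * l) • α = α
    rw [mul_smul, inv_smul_eq_iff]
    exact hln
  rw [hNreg α, Subgroup.mem_bot] at hst
  have := congrArg Subtype.val hst
  simp only [Subgroup.coe_one] at this
  rw [inv_mul_eq_one] at this
  exact this ▸ hl

end Cfsg.Agent.S3495
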