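import Cfsg.Statements.S3496
import Cfsg.Agent.H68.SuborbitStabilizer
import Cfsg.Agent.H68.IrreducibleOperator
import Cfsg.Agent.S3495
import Cfsg.Agent.Hall.MinimalNormal
import Cfsg.Agent.Frobenius.NoFrobenius
import Cfsg.Agent.H24.FPF

set_option autoImplicit false
set_option maxHeartbeats 1000000
open Cfsg Cfsg.Agent.H68

namespace Cfsg.Agent.S3496

/-- The soluble extremely primitive groups. Let a finite solvable group G act faithfully and primitively on a finite set Ω with p ^ d points (p prime), with non-trivial point stabilizers each acting primitively on every one of its orbits. Then there is a prime q such that every orbit of a point stabilizer G_α other than {α} has exactly q points, q divides p ^ d − 1 but no p ^ i − 1 with 0 < i < d, and G_α has a normal subgroup T of order q with G_α generated by T and one further element and the order of G_α dividing q·d (so G_α is cyclic of order q, or an extension of T by a cyclic group of order dividing d). -/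
theorem result {G : Type*} [Group G] [Finite G] {Ω : Type*} [Fintype Ω] [MulAction G Ω] [FaithfulSMul G Ω] [Group.IsSolvable G] (p d : ℕ) (hp : p.Prime) (hcard : Fintype.card Ω = p ^ d)
    (hprim : MulAction.IsPreprimitive G Ω) (hH : ∀ α : Ω, MulAction.stabilizer G α ≠ ⊥) (hep : ∀ (α : Ω) (ω : Ω), MulAction.IsPreprimitive (MulAction.stabilizer G α) (MulAction.orbit (MulAction.stabilizer G α) ω)) (α : Ω) :
    ∃ q : ℕ, q.Prime ∧ (∀ ω : Ω, ω ≠ α → Nat.card (MulAction.orbit (MulAction.stabilizer G α) ω) = q) ∧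
      q ∣ p ^ d - 1 ∧ (∀ i : ℕ, 0 < i → i < d → ¬ q ∣ p ^ i - 1) ∧
      ∃ T : Subgroup G, T ≤ MulAction.stabilizer G α ∧ MulAction.stabilizer G α ≤ Subgroup.normalizer (T : Set G) ∧ Nat.card T = q ∧
        (∃ h : G, MulAction.stabilizer G α = T ⊔ Subgroup.zpowers h) ∧ Nat.card (MulAction.stabilizer G α) ∣ q * d := by
  classical
  have hep' := hep
  have hΩn := nontrivial_of_stabilizer_ne_bot (hH α)
  have : Nontrivial G := by
    obtain ⟨g, -, hg⟩ := (Subgroup.bot_or_exists_ne_one _).resolve_left (hH α)
    exact ⟨⟨g, 1, hg⟩⟩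
  have : Fact p.Prime := ⟨hp⟩
  -- the regular normal subgroup
  obtain ⟨N, hNn, hN0, -, hNmin⟩ := Cfsg.Agent.Hall.exists_minimal_normal_le (⊤ : Subgroup G) top_ne_bot
  have := hNn
  obtain ⟨hNc, r, hr, -, hNexp⟩ := Cfsg.Agent.Hall.minimal_normal_of_solvable hN0 hNmin
  have := hprim
  have hNt : MulAction.IsPretransitive N Ω := Cfsg.Agent.Perm.transitive_of_normal hN0
  have hNfree := Cfsg.Agent.Perm.abelian_transitive_free (X := Ω) hNc hNt
  have hNfree' := Cfsg.Agent.Perm.free_iff.1 hNfree
  have hNcard : Nat.card N = p ^ d := by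
    rw [Cfsg.Agent.Perm.card_eq_of_regular hNt hNfree α, Nat.card_eq_fintype_card, hcard]
  have hd0 : d ≠ 0 := by
    intro h
    have := Fintype.one_lt_card (α := Ω)
    rw [hcard, h] at this
    simp at this
  have hrp : r = p := by
    obtain ⟨m, hm⟩ := Cfsg.Agent.Perm.card_prime_pow_of_exp hr hNexp
    have : p ∣ r ^ m := by rw [← hm, hNcard]; exact dvd_pow_self p hd0
    exact ((Nat.prime_dvd_prime_iff_eq hp hr).1 (hp.dvd_of_dvd_pow this)).symm
  rw [hrp] at hNexp
  -- the normal subgroup of the stabilizer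
  set K := MulAction.stabilizer G α with hK
  have : Nontrivial K := (Subgroup.nontrivial_iff_ne_bot _).2 (hH α)
  obtain ⟨A, hAn, hA0, -, hAmin'⟩ := Cfsg.Agent.Hall.exists_minimal_normal_le (⊤ : Subgroup K) top_ne_bot
  have := hAn
  obtain ⟨hAc, -⟩ := Cfsg.Agent.Hall.minimal_normal_of_solvable hA0 hAmin'
  obtain ⟨-, hcent, q, e, hq, he0, hAcard, hAexp, horb⟩ :=
    abelian_normal_minimal hprim (hH α) hep A hA0 hAc
  have : Fact q.Prime := ⟨hq⟩
  have hdvd : Nat.card A ∣ p ^ d - 1 := by
    have := card_dvd_sub_one hprim (hH α) hep A hA0 hAc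
    rwa [Nat.card_eq_fintype_card (α := Ω), hcard] at this
  letI : CommGroup N := { mul_comm := hNc.is_comm.comm }
  letI : CommGroup A := { mul_comm := hAc.is_comm.comm }
  have : Nontrivial N := (Subgroup.nontrivial_iff_ne_bot _).2 hN0
  let φ : A →* MulAut N := (MulAut.conjNormal).comp (K.subtype.comp A.subtype)
  have hφ : Cfsg.Agent.Frobenius.IsFPF φ := by
    intro x hx n hn
    by_contra hn1
    have hne : (n : G) • α ≠ α := fun h => hn1 (Subtype.ext (hNfree' n n.2 α h))
    have h1 : ((x : K) : G) * n * ((x : K) : G)⁻¹ = n := by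
      have := congrArg (fun y : N => (y : G)) hn
      simpa [φ] using this
    have h3 : ((x : K) : G)⁻¹ • α = α := MulAction.mem_stabilizer_iff.1 (inv_mem (x : K).2)
    have h2 := (abelian_normal_spec hprim (hH α) hep hne A hA0 hAc).2.2 x x.2 (by
      conv_rhs => rw [← h1, mul_smul, mul_smul, h3])
    exact hx (Subtype.ext h2)
  have he1 : e = 1 := by
    by_contra he1
    have hnc : ¬ IsCyclic A := by
      intro hc
      obtain ⟨g, hg⟩ := IsCyclic.exists_ofOrder_eq_natCard (α := A)
      have h1 : orderOf g ∣ q := orderOf_dvd_of_pow_eq_one (Subtype.ext (by simpa using hAexp g g.2))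
      rw [hg, hAcard] at h1
      have h2 : q ^ 2 ∣ q := (pow_dvd_pow q (by omega)).trans h1
      have h3 := Nat.le_of_dvd hq.pos h2
      have := hq.two_le
      nlinarith
    obtain ⟨B, hB, hBexp⟩ := Cfsg.Agent.H24.exists_elementary_sq hq (IsPGroup.of_card hAcard) hnc
    have hcyc := Cfsg.Agent.Frobenius.isCyclic_of_card_sq
      (hφ.comp (f := B.subtype) (Subgroup.subtype_injective B)) q hB
    obtain ⟨g, hg⟩ := IsCyclic.exists_ofOrder_eq_natCard (α := B)
    have h1 : orderOf g ∣ q := orderOf_dvd_of_pow_eq_one (Subtype.ext (by simpa using hBexp g g.2))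
    rw [hg, hB] at h1
    have h3 := Nat.le_of_dvd hq.pos h1
    have := hq.two_le
    nlinarith
  rw [he1, pow_one] at hAcard horb
  have : IsCyclic A := isCyclic_of_prime_card hAcard
  obtain ⟨x, hx⟩ := IsCyclic.exists_ofOrder_eq_natCard (α := A)
  rw [hAcard] at hx
  have hxgen : ∀ y : A, ∃ i : ℕ, x ^ i = y := fun y => by
    have hy : y ∈ Subgroup.zpowers x := mem_zpowers_of_prime_card hAcard (fun h => by
      rw [h, orderOf_one] at hx; exact hq.ne_one hx.symm)
    obtain ⟨i, hi⟩ := mem_powers_iff_mem_zpowers.2 hy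
    exact ⟨i, hi⟩
  -- the operator on `N`
  obtain ⟨iM⟩ : Nonempty (Module (ZMod p) (Additive N)) := ⟨AddCommGroup.zmodModule (fun a => by
    apply Additive.toMul.injective
    rw [toMul_nsmul, toMul_zero]
    exact Subtype.ext (by simpa using hNexp _ (Additive.toMul a).2))⟩
  let c : G →* MulAut N := MulAut.conjNormal
  have hc : ∀ (g : G) (n : N), ((c g n : N) : G) = g * n * g⁻¹ := fun g n =>
    MulAut.conjNormal_apply g n
  let y : G := ((x : K) : G)
  let T : Module.End (ZMod p) (Additive N) :=
    (MonoidHom.toAdditive (c y).toMonoidHom).toZModLinearMap p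
  have hT : ∀ (n : N) (k : ℕ), (T ^ k) (Additive.ofMul n) = Additive.ofMul (c (y ^ k) n) := by
    intro n k
    induction k with
    | zero => simp
    | succ k ih =>
      rw [pow_succ', Module.End.mul_apply, ih, pow_succ', map_mul]
      rfl
  have hyq : y ^ q = 1 := by
    have := congrArg (fun z : A => ((z : K) : G)) (hx ▸ pow_orderOf_eq_one x)
    simpa [y] using this
  have hTq : T ^ q = 1 := by
    refine LinearMap.ext fun v => ?_
    obtain ⟨n, rfl⟩ := Additive.ofMul.surjective v
    rw [hT, hyq, map_one]; rfl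
  have hxne : x ≠ 1 := fun h => by rw [h, orderOf_one] at hx; exact hq.ne_one hx.symm
  have hT1 : T ≠ 1 := by
    intro h
    obtain ⟨n, hn⟩ := exists_ne (1 : N)
    refine hn (hφ x hxne n ?_)
    have h1 := hT n 1
    rw [pow_one, pow_one, h] at h1
    exact (Additive.ofMul.injective h1).symm
  have hirr : ∀ L : Submodule (ZMod p) (Additive N), (∀ v ∈ L, T v ∈ L) → L = ⊥ ∨ L = ⊤ := by
    intro L hL
    let L' : Subgroup G := (AddSubgroup.toSubgroup' L.toAddSubgroup).map N.subtype
    have hmemL : ∀ n : N, (n : G) ∈ L' ↔ Additive.ofMul n ∈ L := by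
      intro n
      constructor
      · rintro ⟨m, hm, hmn⟩
        obtain rfl : m = n := Subtype.ext hmn
        exact hm
      · exact fun h => ⟨n, h, rfl⟩
    have hiter : ∀ (k : ℕ) (v : Additive N), v ∈ L → (T ^ k) v ∈ L := by
      intro k
      induction k with
      | zero => simp
      | succ k ih =>
        intro v hv
        rw [pow_succ', Module.End.mul_apply]
        exact hL _ (ih v hv)
    have hconj : ∀ (k : ℕ) (g : G), g ∈ L' → y ^ k * g * (y ^ k)⁻¹ ∈ L' := by
      rintro k _ ⟨n, hn, rfl⟩
      have h2 : (T ^ k) (Additive.ofMul n) ∈ L := hiter k _ hn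
      rw [hT] at h2
      show y ^ k * (n : G) * (y ^ k)⁻¹ ∈ L'
      rw [← hc]
      exact (hmemL _).2 h2
    have hnorm : A.map K.subtype ≤ Subgroup.normalizer (L' : Set G) := by
      rintro _ ⟨a, ha, rfl⟩
      obtain ⟨i, hi⟩ := hxgen ⟨a, ha⟩
      have ha' : (a : G) = y ^ i := by
        have := congrArg (fun z : A => ((z : K) : G)) hi
        simpa [y] using this.symm
      show (a : G) ∈ _
      rw [Subgroup.mem_normalizer_iff, ha']
      intro g
      refine ⟨hconj i g, fun h => ?_⟩
      have h2 := hconj ((q - 1) * i) _ h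
      have e : y ^ ((q - 1) * i) * y ^ i = 1 := by
        have h3 : q - 1 + 1 = q := Nat.succ_pred_eq_of_pos hq.pos
        rw [← pow_add, ← Nat.succ_mul, Nat.succ_eq_add_one, h3, pow_mul, hyq, one_pow]
      rw [eq_inv_of_mul_eq_one_left e] at h2
      simpa [mul_assoc] using h2
    rcases (Cfsg.Agent.S3495.result hprim hH hep N hNc p hp hNexp hNt hNfree α (A.map K.subtype)
      (by rwa [Ne, Subgroup.map_eq_bot_iff_of_injective _ (Subgroup.subtype_injective _)])
      (Subgroup.map_subtype_le _)
      ((Subgroup.normal_subgroupOf_iff_le_normalizer (Subgroup.map_subtype_le _)).1 (by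
        rw [← Subgroup.comap_subtype, Subgroup.comap_map_eq_self_of_injective
          (Subgroup.subtype_injective _)]
        exact hAn))).2 L' (Subgroup.map_subtype_le _) hnorm with h | h
    · left
      rw [eq_bot_iff]
      intro v hv
      have h2 : ((v.toMul : N) : G) ∈ L' := (hmemL _).2 hv
      rw [h, Subgroup.mem_bot] at h2
      rw [Submodule.mem_bot]
      exact Additive.toMul.injective (Subtype.ext h2)
    · right
      rw [eq_top_iff]
      intro v _
      exact (hmemL v.toMul).1 (by rw [h]; exact v.toMul.2)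
  have hVcard : Nat.card (Additive N) = p ^ d := (Nat.card_congr Additive.toMul).trans hNcard
  obtain ⟨hprimdiv, hfrob⟩ := irreducible_operator hVcard hq T hTq hT1 hirr
  -- the action of the stabilizer on `A`
  let f : K →* MulAut A := MulAut.conjNormal
  have hker : f.ker = A := by
    conv_rhs => rw [← hcent]
    ext k
    rw [MonoidHom.mem_ker, Subgroup.mem_centralizer_iff]
    constructor
    · intro h z hz
      have := congrArg (fun σ : MulAut A => ((σ ⟨z, hz⟩ : A) : K)) h
      simp only [f, MulAut.conjNormal_apply, MulAut.one_apply] at this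
      exact (mul_inv_eq_iff_eq_mul.1 this).symm
    · intro h
      ext z
      simp only [f, MulAut.conjNormal_apply, MulAut.one_apply]
      rw [← h z z.2, mul_inv_cancel_right]
  have hfd : ∀ k : K, f k ^ d = 1 := by
    intro k
    obtain ⟨i, hi⟩ := hxgen (f k x)
    have hi' : (k : G) * y * (k : G)⁻¹ = y ^ i := by
      have := congrArg (fun z : A => ((z : K) : G)) hi
      simpa [y, f] using this.symm
    let S : Additive N ≃ₗ[ZMod p] Additive N :=
      (MulEquiv.toAdditive (c (k : G))).toLinearEquiv (fun a v =>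
        ZMod.map_smul ((MulEquiv.toAdditive (c (k : G))).toAddMonoidHom) a v)
    obtain ⟨j, hj⟩ := hfrob i S (fun v => by
      obtain ⟨n, rfl⟩ := Additive.ofMul.surjective v
      show Additive.ofMul (c (k : G) (c y n)) = (T ^ i) (Additive.ofMul (c (k : G) n))
      rw [hT]
      congr 1
      rw [← MulAut.mul_apply, ← map_mul, ← MulAut.mul_apply, ← map_mul]
      congr 2
      rw [← hi', inv_mul_cancel_right])
    have hfx : f k x = x ^ (p ^ j) := by
      rw [← hi]
      exact pow_eq_pow_iff_modEq.2 (hx.symm ▸ hj.symm)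
    have hiter : ∀ m : ℕ, (f k ^ m) x = x ^ (p ^ (j * m)) := by
      intro m
      induction m with
      | zero => simp
      | succ m ih =>
        rw [pow_succ, MulAut.mul_apply, hfx, map_pow, ih, ← pow_mul, ← pow_add]
        congr 2
    have hone : x ^ (p ^ (j * d)) = x := by
      conv_rhs => rw [← pow_one x]
      refine pow_eq_pow_iff_modEq.2 ?_
      rw [hx, mul_comm, pow_mul]
      have h1 : p ^ d ≡ 1 [MOD q] := ((Nat.modEq_iff_dvd' (Nat.one_le_pow _ _ hp.pos)).2 (hAcard ▸ hdvd)).symm
      simpa using h1.pow j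
    ext z
    obtain ⟨m, rfl⟩ := hxgen z
    rw [map_pow, hiter, hone]
    rfl
  have : IsCyclic (MulAut A) := by
    have : Fact (Nat.card A).Prime := ⟨hAcard ▸ hq⟩
    exact isCyclic_of_surjective (IsCyclic.mulAutMulEquiv A).symm (MulEquiv.surjective _)
  obtain ⟨⟨σ, ⟨h, rfl⟩⟩, hσ⟩ := IsCyclic.exists_generator (α := f.range)
  have hKgen : K = A.map K.subtype ⊔ Subgroup.zpowers (h : G) := by
    have h1 : (⊤ : Subgroup K) = A ⊔ Subgroup.zpowers h := by
      refine (eq_top_iff.2 fun k _ => ?_).symm
      obtain ⟨m, hm⟩ := hσ ⟨f k, k, rfl⟩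
      have hm' : f (h ^ m) = f k := by
        rw [map_zpow]
        simpa using congrArg (fun z : f.range => (z : MulAut A)) hm
      have hA : k * (h ^ m)⁻¹ ∈ A := by
        rw [← hker, MonoidHom.mem_ker, map_mul, map_inv, hm', mul_inv_cancel]
      have := Subgroup.mul_mem_sup hA (Subgroup.zpow_mem_zpowers h m)
      simpa using this
    conv_lhs => rw [← K.range_subtype, MonoidHom.range_eq_map, h1, Subgroup.map_sup,
      MonoidHom.map_zpowers]
    rfl
  have hrange : Nat.card f.range ∣ d := by
    obtain ⟨g, hg⟩ := IsCyclic.exists_ofOrder_eq_natCard (α := f.range)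
    rw [← hg]
    obtain ⟨_, k, rfl⟩ := g
    exact orderOf_dvd_of_pow_eq_one (Subtype.ext (by simpa using hfd k))
  refine ⟨q, hq, fun ω hω => by rw [Nat.card_coe_set_eq]; exact horb ω hω, hAcard ▸ hdvd,
    fun i hi hid hqi => absurd (hprimdiv i hi hqi) (by omega),
    A.map K.subtype, Subgroup.map_subtype_le _, ?_, ?_, ⟨h, hKgen⟩, ?_⟩
  · exact (Subgroup.normal_subgroupOf_iff_le_normalizer (Subgroup.map_subtype_le _)).1 (by
      rw [← Subgroup.comap_subtype, Subgroup.comap_map_eq_self_of_injective
        (Subgroup.subtype_injective _)]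
      exact hAn)
  · rw [Subgroup.card_map_of_injective (Subgroup.subtype_injective _), hAcard]
  · rw [← f.ker.card_mul_index, Subgroup.index_ker, hker, hAcard]
    exact Nat.mul_dvd_mul_left q hrange

end Cfsg.Agent.S3496
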