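import Cfsg.Statements.S3497
import Cfsg.Agent.H68.SuborbitStabilizer

set_option autoImplicit false
open Cfsg Cfsg.Agent.H68

namespace Cfsg.Agent.S3497

/-- Restrictions on the point stabilizer of an extremely primitive group. Let a finite group G act faithfully and primitively on a finite set Ω with point stabilizers H = G_α whose order is neither 1 nor a prime, each acting primitively on every one of its orbits. Then H has trivial center, the Fitting subgroup F(H) is an elementary abelian p-group for some prime p, and if F(H) ≠ 1 has order p ^ e then p ^ e divides the number of points minus one and H / F(H) embeds in GL_e(p) (there is a homomorphism from H to GL_e(p) with kernel exactly F(H)). -/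
theorem result {G : Type*} [Group G] [Finite G] {Ω : Type*} [Fintype Ω] [MulAction G Ω] [FaithfulSMul G Ω] (hprim : MulAction.IsPreprimitive G Ω) (hep : ∀ (α : Ω) (ω : Ω), MulAction.IsPreprimitive (MulAction.stabilizer G α) (MulAction.orbit (MulAction.stabilizer G α) ω)) (α : Ω)
    (hH1 : MulAction.stabilizer G α ≠ ⊥) (hHp : ¬ (Nat.card (MulAction.stabilizer G α)).Prime) :
    Subgroup.center (MulAction.stabilizer G α) = ⊥ ∧
    IsMulCommutative (Cfsg.fittingSubgroup (MulAction.stabilizer G α)) ∧
    ∃ p e : ℕ, p.Prime ∧ Nat.card (Cfsg.fittingSubgroup (MulAction.stabilizer G α)) = p ^ e ∧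
      (∀ x ∈ Cfsg.fittingSubgroup (MulAction.stabilizer G α), x ^ p = 1) ∧
      (Cfsg.fittingSubgroup (MulAction.stabilizer G α) ≠ ⊥ →
        p ^ e ∣ Fintype.card Ω - 1 ∧
        ∃ φ : MulAction.stabilizer G α →* GL (Fin e) (ZMod p), φ.ker = Cfsg.fittingSubgroup (MulAction.stabilizer G α)) := by
  refine ⟨center_eq_bot_of_not_prime hprim hH1 hep hHp, ?_⟩
  rcases eq_or_ne (Cfsg.fittingSubgroup (MulAction.stabilizer G α)) ⊥ with hF | hF
  · rw [hF]
    exact ⟨⟨⟨fun x y => Subsingleton.elim _ _⟩⟩, 2, 0, Nat.prime_two, by simp, by simp,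
      fun h => absurd rfl h⟩
  · have hc := fitting_spec hprim hH1 hep hF
    obtain ⟨-, hcent, p, e, hp, he0, he, hexp, -⟩ := abelian_normal_minimal hprim hH1 hep _ hF hc
    refine ⟨hc, p, e, hp, he, hexp, fun _ => ⟨?_, ?_⟩⟩
    · rw [← he, ← Nat.card_eq_fintype_card]
      exact card_dvd_sub_one hprim hH1 hep _ hF hc
    · have : Fact p.Prime := ⟨hp⟩
      exact exists_matrix_rep _ hc p e he hexp hcent

end Cfsg.Agent.S3497
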