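import Cfsg.Statements.S3498
-- import your own Cfsg.Agent.* helpers here

set_option autoImplicit false
open Cfsg
open scoped Pointwise

namespace Cfsg.Agent.S3498

theorem inf_eq_bot_or_le_of_simple {G : Type*} [Group G] (T : Subgroup G)
    (hT : IsSimpleGroup T) (K : Subgroup G) (hK : K.Normal) : T ⊓ K = ⊥ ∨ T ≤ K := by
  have := hT
  rcases (Subgroup.Normal.eq_bot_or_eq_top (Subgroup.Normal.comap hK T.subtype)) with h | h
  · left
    rw [Subgroup.eq_bot_iff_forall]
    rintro x ⟨hxT, hxK⟩
    have : (⟨x, hxT⟩ : T) ∈ K.comap T.subtype := hxK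
    rw [h, Subgroup.mem_bot] at this
    exact congrArg Subtype.val this
  · exact Or.inr fun x hx => (h ▸ Subgroup.mem_top (⟨x, hx⟩ : T) : (⟨x, hx⟩ : T) ∈ K.comap T.subtype)

/-- An `r`-group normalizes some Sylow subgroup of a normal `r'`-subgroup. -/
theorem exists_normalized_sylow {G : Type*} [Group G] [Finite G] (T : Subgroup G) [T.Normal]
    (H : Subgroup G) {r : ℕ} [Fact r.Prime] (hH : IsPGroup r H) (hd : ¬ r ∣ Nat.card T) (s : ℕ)
    [Fact s.Prime] : ∃ Q : Sylow s T,
      H ≤ Subgroup.normalizer (((Q : Subgroup T).map T.subtype : Subgroup G) : Set G) := by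
  classical
  letI : MulAction H (Sylow s T) := MulAction.compHom (Sylow s T)
    ((MulAut.conjNormal : G →* MulAut T).comp H.subtype)
  have hn : ¬ r ∣ Nat.card (Sylow s T) := fun h => hd (h.trans
    ((Sylow.card_eq_index_normalizer (default : Sylow s T)) ▸ Subgroup.index_dvd_card _))
  obtain ⟨Q, hQ⟩ := hH.nonempty_fixed_point_of_prime_not_dvd_card _ hn
  refine ⟨Q, ?_⟩
  have key : ∀ h : H, ∀ x ∈ (Q : Subgroup T).map T.subtype,
      (h : G) * x * (h : G)⁻¹ ∈ (Q : Subgroup T).map T.subtype := by
    rintro h _ ⟨x, hx, rfl⟩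
    refine ⟨MulAut.conjNormal (h : G) x, ?_, MulAut.conjNormal_apply _ _⟩
    have h1 : MulAut.conjNormal (h : G) x ∈ ((MulAut.conjNormal (h : G) : MulAut T) • Q : Sylow s T) :=
      Subgroup.smul_mem_pointwise_smul x _ (Q : Subgroup T) hx
    rwa [show ((MulAut.conjNormal (h : G) : MulAut T) • Q : Sylow s T) = Q from hQ h] at h1
  intro g hg
  rw [Subgroup.mem_normalizer_iff]
  intro x
  refine ⟨key ⟨g, hg⟩ x, fun h => ?_⟩
  have := key ⟨g, hg⟩⁻¹ _ h
  simpa [mul_assoc] using this

/-- A maximal subgroup of a finite almost simple group does not have prime order. Here G is almost simple in the sense that it has a non-abelian simple normal subgroup T with trivial centralizer. -/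
theorem result {G : Type*} [Group G] [Finite G] (T : Subgroup G) [T.Normal] (hT : IsSimpleGroup T) (hTc : ¬ IsMulCommutative T)
    (hC : Subgroup.centralizer (T : Set G) = ⊥) (H : Subgroup G) (hmax : IsCoatom H) : ¬ (Nat.card H).Prime := by
  classical
  intro hr
  obtain ⟨r, hr0⟩ : ∃ r, Nat.card H = r := ⟨_, rfl⟩
  rw [hr0] at hr
  have : Fact r.Prime := ⟨hr⟩
  have hT0 : T ≠ ⊥ := by
    intro h
    have he : ∀ z : T, z = 1 := fun z => by
      have hz : (z : G) ∈ (⊥ : Subgroup G) := h.le z.2
      exact Subtype.ext (Subgroup.mem_bot.1 hz)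
    exact hTc ⟨⟨fun x y => by rw [he x, he y]⟩⟩
  have hTnr : ¬ IsPGroup r T := by
    intro hP
    have : Nontrivial T := (Subgroup.nontrivial_iff_ne_bot _).2 hT0
    have := hT
    rcases (Subgroup.Normal.eq_bot_or_eq_top (inferInstance : (Subgroup.center T).Normal)) with h | h
    · exact (Subgroup.nontrivial_iff_ne_bot _).1 hP.center_nontrivial h
    · exact hTc ⟨⟨fun x y => ((Subgroup.mem_center_iff.1 (h ▸ Subgroup.mem_top x)) y).symm⟩⟩
  -- `H` is a Sylow subgroup
  obtain ⟨P, hP⟩ := (IsPGroup.of_card (n := 1) (by rw [hr0, pow_one]) : IsPGroup r H).exists_le_sylow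
  have hPH : (P : Subgroup G) = H := by
    rcases hP.eq_or_lt with h | h
    · exact h.symm
    · exact absurd ((P.2.to_le (show T ≤ (P : Subgroup G) by rw [hmax.2 _ h]; exact le_top))) hTnr
  have hcyc : IsCyclic H := isCyclic_of_prime_card hr0
  have hnn : ¬ H.Normal := by
    intro hn
    rcases inf_eq_bot_or_le_of_simple T hT H hn with h | h
    · have hle : H ≤ Subgroup.centralizer (T : Set G) := fun x hx =>
        Subgroup.mem_centralizer_iff.2 fun t ht =>
          (Subgroup.commute_of_normal_of_disjoint H T hn inferInstance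
            (disjoint_iff.2 (by rw [inf_comm]; exact h)) x t hx ht).eq.symm
      rw [hC, le_bot_iff] at hle
      rw [hle] at hr0
      simp at hr0
      exact hr.ne_one hr0.symm
    · exact hTnr ((IsPGroup.of_card (n := 1) (by rw [hr0, pow_one]) : IsPGroup r H).to_le h)
  have hN : Subgroup.normalizer (H : Set G) = H := by
    rcases (Subgroup.le_normalizer (H := H)).eq_or_lt with h | h
    · exact h.symm
    · exact absurd (Subgroup.normalizer_eq_top_iff.1 (hmax.2 _ h)) hnn
  have hNC : Subgroup.normalizer ((P : Subgroup G) : Set G) ≤ Subgroup.centralizer (P : Set G) := by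
    rw [hPH, hN]
    intro x hx
    have hPc : ((P : Subgroup G) : Set G) = (H : Set G) := by rw [hPH]
    refine Subgroup.mem_centralizer_iff.2 fun y hy => ?_
    have hy' : y ∈ H := by rw [← hPH]; exact hy
    have := hcyc.commutative.is_comm.comm (⟨y, hy'⟩ : H) ⟨x, hx⟩
    exact congrArg Subtype.val this
  have hcomp := MonoidHom.ker_transferSylow_isComplement' P hNC
  set K := (MonoidHom.transferSylow P hNC).ker with hK
  have hKn : K.Normal := MonoidHom.normal_ker _
  have hndvd := MonoidHom.not_dvd_card_ker_transferSylow P hNC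
  rcases inf_eq_bot_or_le_of_simple T hT K hKn with h | h
  · have hle : K ≤ Subgroup.centralizer (T : Set G) := fun x hx =>
      Subgroup.mem_centralizer_iff.2 fun t ht =>
        (Subgroup.commute_of_normal_of_disjoint K T hKn inferInstance
          (disjoint_iff.2 (by rw [inf_comm]; exact h)) x t hx ht).eq.symm
    rw [hC, le_bot_iff] at hle
    have h1 := hcomp.card_mul_card
    rw [hle, Subgroup.card_bot, one_mul, hPH, hr0] at h1
    have h2 : IsPGroup r G := IsPGroup.of_card (n := 1) (by rw [pow_one, ← h1])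
    exact hTnr (h2.to_subgroup T)
  · have hdT : ¬ r ∣ Nat.card T := fun hd => hndvd (hd.trans (Subgroup.card_dvd_of_le h))
    -- a Sylow subgroup of `T` normalized by `H`
    have hT1 : Nat.card T ≠ 1 := fun e => hT0 (Subgroup.card_eq_one.1 e)
    obtain ⟨s, hs, hsd⟩ := Nat.exists_prime_and_dvd hT1
    have : Fact s.Prime := ⟨hs⟩
    have hHr : IsPGroup r H := IsPGroup.of_card (n := 1) (by rw [hr0, pow_one])
    obtain ⟨Q, hQ⟩ := exists_normalized_sylow T H hHr hdT s
    have hQ0 : (Q : Subgroup T) ≠ ⊥ := Sylow.ne_bot_of_dvd_card Q hsd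
    let Q' : Subgroup G := (Q : Subgroup T).map T.subtype
    have hle : H ≤ Subgroup.normalizer (Q' : Set G) := hQ
    rcases hle.eq_or_lt with he | hlt
    · have h1 : Q' ≤ H := by rw [he]; exact Subgroup.le_normalizer
      have h2 := Subgroup.card_dvd_of_le h1
      rw [hr0] at h2
      have h3 : Nat.card Q' ∣ Nat.card T := Subgroup.card_dvd_of_le (Subgroup.map_subtype_le _)
      rcases (Nat.dvd_prime hr).1 h2 with e | e
      · refine hQ0 ?_
        rw [Subgroup.card_eq_one, Subgroup.map_eq_bot_iff_of_injective _ (Subgroup.subtype_injective _)] at e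
        exact e
      · exact hdT (e ▸ h3)
    · have hn : Q'.Normal := Subgroup.normalizer_eq_top_iff.1 (hmax.2 _ hlt)
      rcases inf_eq_bot_or_le_of_simple T hT Q' hn with h' | h'
      · rw [inf_eq_right.2 (Subgroup.map_subtype_le _)] at h'
        exact hQ0 ((Subgroup.map_eq_bot_iff_of_injective _ (Subgroup.subtype_injective _)).1 h')
      · have hQT : (Q : Subgroup T) = ⊤ := by
          refine eq_top_iff.2 fun x _ => ?_
          obtain ⟨y, hy, hyx⟩ := h' x.2
          rwa [← Subtype.ext hyx]
        have hTs : IsPGroup s T := fun x => by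
          obtain ⟨k, hk⟩ := Q.2 ⟨x, hQT ▸ Subgroup.mem_top x⟩
          exact ⟨k, by simpa using congrArg Subtype.val hk⟩
        have : Nontrivial T := (Subgroup.nontrivial_iff_ne_bot _).2 hT0
        have := hT
        rcases (Subgroup.Normal.eq_bot_or_eq_top (inferInstance : (Subgroup.center T).Normal)) with hc | hc
        · exact (Subgroup.nontrivial_iff_ne_bot _).1 hTs.center_nontrivial hc
        · exact hTc ⟨⟨fun x y => ((Subgroup.mem_center_iff.1 (hc ▸ Subgroup.mem_top x)) y).symm⟩⟩

end Cfsg.Agent.S3498
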