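import Cfsg.Statements.S3501
import Cfsg.Agent.H68.DerangementClasses
-- import your own Cfsg.Agent.* helpers here

set_option autoImplicit false
open Cfsg

namespace Cfsg.Agent.S3501

/-- Let a finite group G act faithfully and primitively on a finite set Ω with at least two points, and suppose G is not almost simple (it has no non-abelian simple normal subgroup with trivial centralizer). Then the derangements of G form a single conjugacy class if and only if G is sharply 2-transitive (2-transitive, and no non-identity element fixes two points). -/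
theorem result {G : Type*} [Group G] [Finite G] {Ω : Type*} [Fintype Ω] [MulAction G Ω] [FaithfulSMul G Ω] (hΩ : 2 ≤ Fintype.card Ω) (hprim : MulAction.IsPreprimitive G Ω) (hnas : ¬ ∃ T : Subgroup G, T.Normal ∧ IsSimpleGroup T ∧ ¬ IsMulCommutative T ∧ Subgroup.centralizer (T : Set G) = ⊥) :
    Nat.card {c : ConjClasses G // ∃ g : G, ConjClasses.mk g = c ∧ ∀ ω : Ω, g • ω ≠ ω} = 1 ↔ (MulAction.IsMultiplyPretransitive G Ω 2 ∧ ∀ g : G, g ≠ 1 → ∀ a b : Ω, a ≠ b → g • a = a → g • b ≠ b) := by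
  classical
  have htr : MulAction.IsPretransitive G Ω := hprim.toIsPretransitive
  have : Nontrivial Ω := Fintype.one_lt_card_iff_nontrivial.mp hΩ
  have hΩ' : 2 ≤ Nat.card Ω := by rwa [Nat.card_eq_fintype_card]
  obtain ⟨a₀, b₀, hab₀⟩ := exists_pair_ne Ω
  have : Nontrivial G := by
    obtain ⟨g, hg⟩ := MulAction.exists_smul_eq G a₀ b₀
    exact ⟨⟨g, 1, fun h => hab₀ (by rw [← hg, h, one_smul])⟩⟩
  obtain ⟨N, hN, hN1, hmin'⟩ := Cfsg.Agent.H69.exists_minimal_normal (G := G)
  have hmin : ∀ M : Subgroup G, M.Normal → M ≤ N → M = ⊥ ∨ M = N := fun M hM hle => by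
    by_cases h : M = ⊥
    · exact Or.inl h
    · exact Or.inr (hmin' M hM h hle)
  have := hN
  have hNt : MulAction.IsPretransitive N Ω := Cfsg.Agent.Perm.transitive_of_normal hN1
  constructor
  · intro h1
    by_cases hab : IsMulCommutative N
    swap
    · have := Cfsg.Agent.H68.three_classes_of_not_affine hprim hnas N hN1 hmin hab
      simp only [Cfsg.Agent.H68.DerClasses] at this
      omega
    have hfree := Cfsg.Agent.Perm.free_iff.mp
      (Cfsg.Agent.Perm.abelian_transitive_free (X := Ω) hab hNt)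
    have hder : ∀ n ∈ N, n ≠ 1 → Cfsg.Agent.H68.Der Ω n := fun n hn hn1 ω h => hn1 (hfree n hn ω h)
    obtain ⟨n₀, hn₀, hn₀e⟩ := Cfsg.Agent.Perm.exists_mem_smul_eq hNt a₀ b₀
    have hn₀1 : n₀ ≠ 1 := fun h => hab₀ (by rw [← hn₀e, h, one_smul])
    have hsub : ∀ g : G, Cfsg.Agent.H68.Der Ω g → g ∈ N := by
      intro g hg
      obtain ⟨x, rfl⟩ := isConj_iff.mp
        (Cfsg.Agent.H68.isConj_of_card_derClasses_eq_one h1 (hder n₀ hn₀ hn₀1) hg)
      exact hN.conj_mem n₀ hn₀ x
    refine ⟨Cfsg.Agent.H68.two_transitive_of_stabilizer htr a₀ fun x y hx hy => ?_, ?_⟩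
    · obtain ⟨m, hm, hmx⟩ := Cfsg.Agent.Perm.exists_mem_smul_eq hNt a₀ x
      obtain ⟨n, hn, hny⟩ := Cfsg.Agent.Perm.exists_mem_smul_eq hNt a₀ y
      have hm1 : m ≠ 1 := fun h => hx (by rw [← hmx, h, one_smul])
      have hn1 : n ≠ 1 := fun h => hy (by rw [← hny, h, one_smul])
      obtain ⟨g, hg⟩ := isConj_iff.mp
        (Cfsg.Agent.H68.isConj_of_card_derClasses_eq_one h1 (hder m hm hm1) (hder n hn hn1))
      obtain ⟨l, hl, k, hk, rfl⟩ := Cfsg.Agent.Perm.exists_mul_stabilizer hNt a₀ g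
      refine ⟨k, hk, ?_⟩
      have hlk : k * m * k⁻¹ = n := by
        have hcomm : Commute l (k * m * k⁻¹) :=
          congrArg Subtype.val (hab.is_comm.comm ⟨l, hl⟩ ⟨_, hN.conj_mem m hm k⟩)
        calc k * m * k⁻¹ = l * (k * m * k⁻¹) * l⁻¹ := by rw [hcomm.eq]; group
          _ = n := by rw [← hg]; group
      rw [← hmx, Cfsg.Agent.Perm.smul_conj_smul hk, hlk, hny]
    · intro g hg a b hab' ha hb
      have hinj : Nat.card {x : G // Cfsg.Agent.H68.Der Ω x} ≤ Nat.card Ω - 1 := by
        have h2 : Nat.card {x : G // Cfsg.Agent.H68.Der Ω x} ≤ Nat.card {y : Ω // y ≠ a₀} := by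
          refine Nat.card_le_card_of_injective
            (fun x => ⟨(x : G) • a₀, x.2 a₀⟩) fun x y hxy => ?_
          exact Subtype.ext (Cfsg.Agent.Perm.eq_of_smul_eq_of_free
            (Cfsg.Agent.Perm.abelian_transitive_free (X := Ω) hab hNt) (hsub x x.2) (hsub y y.2) a₀
            (congrArg Subtype.val hxy))
        rw [Nat.card_eq_fintype_card (α := {y : Ω // y ≠ a₀}), Fintype.card_subtype_compl] at h2
        simpa [Nat.card_eq_fintype_card] using h2
      have hfix := ((Cfsg.Agent.H68.card_der_eq_iff htr inferInstance).2.mp hinj) g hg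
      have := (Finite.card_le_one_iff_subsingleton.mp hfix)
      exact hab' (congrArg Subtype.val
        (Subsingleton.elim (⟨a, ha⟩ : MulAction.fixedBy Ω g) ⟨b, hb⟩))
  · rintro ⟨h2, hsharp⟩
    exact Cfsg.Agent.H68.derClasses_eq_one_of_sharp h2 hsharp hΩ'

end Cfsg.Agent.S3501
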