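import Cfsg.Statements.S3504
-- import your own Cfsg.Agent.* helpers here

set_option autoImplicit false
open Cfsg

namespace Cfsg.Agent.S3504

/-- For n ≥ 5, the fixed-point-free permutations of prime order in the symmetric group of degree n form a single conjugacy class if and only if n is a prime power. -/
theorem result (n : ℕ) (hn : 5 ≤ n) :
    Nat.card {c : ConjClasses (Equiv.Perm (Fin n)) // ∃ g : Equiv.Perm (Fin n), ConjClasses.mk g = c ∧ (orderOf g).Prime ∧ ∀ i : Fin n, g i ≠ i} = 1 ↔ IsPrimePow n := by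
  classical
  rw [isPrimePow_iff_card_primeFactors_eq_one]
  suffices h : Nat.card {c : ConjClasses (Equiv.Perm (Fin n)) // ∃ g : Equiv.Perm (Fin n),
      ConjClasses.mk g = c ∧ (orderOf g).Prime ∧ ∀ i : Fin n, g i ≠ i} = n.primeFactors.card by rw [h]
  have hrep : ∀ g : Equiv.Perm (Fin n), (orderOf g).Prime → (∀ i, g i ≠ i) →
      orderOf g ∣ n ∧ g.cycleType = Multiset.replicate (n / orderOf g) (orderOf g) := by
    intro g hg hfix
    obtain ⟨k, hk⟩ := Equiv.Perm.cycleType_prime_order hg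
    have hsum : g.cycleType.sum = n := by
      rw [Equiv.Perm.sum_cycleType]
      have : g.support = Finset.univ := Finset.eq_univ_iff_forall.2 fun i => Equiv.Perm.mem_support.2 (hfix i)
      rw [this, Finset.card_univ, Fintype.card_fin]
    rw [hk, Multiset.sum_replicate, smul_eq_mul] at hsum
    refine ⟨⟨k + 1, by rw [mul_comm]; exact hsum.symm⟩, ?_⟩
    have hdiv : (k + 1) * orderOf g / orderOf g = k + 1 := Nat.mul_div_cancel _ hg.pos
    rw [hsum] at hdiv
    rw [hk, hdiv]
  have hex : ∀ p : ℕ, p ∈ n.primeFactors → ∃ g : Equiv.Perm (Fin n),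
      orderOf g = p ∧ (∀ i, g i ≠ i) := by
    intro p hp
    obtain ⟨hpp, hpd, -⟩ := Nat.mem_primeFactors.1 hp
    obtain ⟨g, hg⟩ := (Equiv.Perm.exists_with_cycleType_iff (Fin n)).2
      (show (Multiset.replicate (n / p) p).sum ≤ Fintype.card (Fin n) ∧
          ∀ a ∈ Multiset.replicate (n / p) p, 2 ≤ a from
        ⟨by rw [Multiset.sum_replicate, smul_eq_mul, Nat.div_mul_cancel hpd, Fintype.card_fin],
          fun a ha => by rw [Multiset.eq_of_mem_replicate ha]; exact hpp.two_le⟩)
    refine ⟨g, ?_, ?_⟩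
    · rw [← Equiv.Perm.lcm_cycleType, hg]
      have hq : n / p ≠ 0 := Nat.div_ne_zero_iff.2 ⟨hpp.ne_zero, Nat.le_of_dvd (by omega) hpd⟩
      obtain ⟨j, hj⟩ := Nat.exists_eq_succ_of_ne_zero hq
      rw [hj]
      clear hj hq
      induction j with
      | zero => simp
      | succ j ih => rw [Multiset.replicate_succ, Multiset.lcm_cons, ih]; simp
    · intro i
      rw [← Equiv.Perm.mem_support]
      have : g.support = Finset.univ := by
        rw [← Finset.card_eq_iff_eq_univ, ← Equiv.Perm.sum_cycleType, hg, Multiset.sum_replicate,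
          smul_eq_mul, Nat.div_mul_cancel hpd, Fintype.card_fin]
      rw [this]; exact Finset.mem_univ i
  choose g hgo hgf using hex
  rw [← Fintype.card_coe n.primeFactors, ← Nat.card_eq_fintype_card]
  symm
  refine Nat.card_eq_of_bijective (fun p : n.primeFactors => ⟨ConjClasses.mk (g p p.2), g p p.2, rfl,
    by rw [hgo]; exact (Nat.mem_primeFactors.1 p.2).1, hgf _ _⟩) ⟨?_, ?_⟩
  · rintro ⟨p, hp⟩ ⟨q, hq⟩ h
    have h1 : IsConj (g p hp) (g q hq) := ConjClasses.mk_eq_mk_iff_isConj.1 (congrArg Subtype.val h)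
    obtain ⟨x, hx⟩ := isConj_iff.1 h1
    apply Subtype.ext
    show p = q
    have h2 := congrArg orderOf hx
    rw [← MulAut.conj_apply, MulEquiv.orderOf_eq, hgo, hgo] at h2
    exact h2
  · rintro ⟨c, y, rfl, hy, hyf⟩
    obtain ⟨hd, hct⟩ := hrep y hy hyf
    have hp : orderOf y ∈ n.primeFactors := Nat.mem_primeFactors.2 ⟨hy, hd, by omega⟩
    refine ⟨⟨orderOf y, hp⟩, Subtype.ext (ConjClasses.mk_eq_mk_iff_isConj.2 ?_)⟩
    rw [Equiv.Perm.isConj_iff_cycleType_eq, hct]
    obtain ⟨-, hct'⟩ := hrep _ (by rw [hgo]; exact hy) (hgf (orderOf y) hp)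
    rw [hct', hgo]

end Cfsg.Agent.S3504
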