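import Cfsg.Statements.S3508
import Cfsg.Agent.Perm.Basic

set_option autoImplicit false
open Cfsg

namespace Cfsg.Agent.S3508

/-- Let a finite group G act faithfully on a set Ω with p ^ m points (p prime) and have an elementary abelian normal p-subgroup N acting regularly on Ω (so G is a group of affine transformations of an m-dimensional space over the field with p elements). If G contains an element of order p ^ r with r ≥ 1, then p ^ (r − 1) ≤ m. In particular an element of order p ^ m forces m ≤ 2, and m ≤ 1 when p is odd. -/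
theorem result {G : Type*} [Group G] [Finite G] {Ω : Type*} [Fintype Ω] [MulAction G Ω] [FaithfulSMul G Ω] (p m : ℕ) (hp : p.Prime) (hcard : Fintype.card Ω = p ^ m)
    (N : Subgroup G) [N.Normal] (hNc : IsMulCommutative N) (hNp : ∀ n ∈ N, n ^ p = 1)
    (hNtr : MulAction.IsPretransitive N Ω) (hNreg : ∀ ω : Ω, MulAction.stabilizer N ω = ⊥)
    (g : G) (r : ℕ) (hr : 1 ≤ r) (hg : orderOf g = p ^ r) :
    p ^ (r - 1) ≤ m ∧ (r = m → m ≤ 2 ∧ (2 < p → m ≤ 1)) := by
  classical
  have : Fact p.Prime := ⟨hp⟩
  have : Nonempty Ω := Fintype.card_pos_iff.1 (by rw [hcard]; exact pow_pos hp.pos m)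
  obtain ⟨a⟩ := this
  letI : CommGroup N := { mul_comm := hNc.is_comm.comm }
  obtain ⟨iM⟩ : Nonempty (Module (ZMod p) (Additive N)) := ⟨AddCommGroup.zmodModule (fun x => by
    apply Additive.toMul.injective
    rw [toMul_nsmul, toMul_zero]
    exact Subtype.ext (by simpa using hNp _ (Additive.toMul x).2))⟩
  have hV : Nat.card (Additive N) = p ^ m := by
    rw [Nat.card_congr Additive.toMul, Cfsg.Agent.Perm.card_eq_of_regular hNtr hNreg a,
      Nat.card_eq_fintype_card, hcard]
  have hfr : Module.finrank (ZMod p) (Additive N) = m :=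
    Nat.pow_right_injective hp.two_le ((FiniteField.pow_finrank_eq_natCard p (Additive N)).trans hV)
  have hmain : p ^ (r - 1) ≤ m := by
    by_contra hlt
    push Not at hlt
    obtain ⟨n, hn, h, hh, hgnh⟩ := Cfsg.Agent.Perm.exists_mul_stabilizer hNtr a g
    let c : G →* MulAut N := MulAut.conjNormal
    let A : Module.End (ZMod p) (Additive N) :=
      (MonoidHom.toAdditive (c h).toMonoidHom).toZModLinearMap p
    have hA : ∀ (x : N) (k : ℕ), (A ^ k) (Additive.ofMul x) = Additive.ofMul (c (h ^ k) x) := by
      intro x k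
      induction k with
      | zero => simp
      | succ k ih =>
        rw [pow_succ', Module.End.mul_apply, ih, pow_succ', map_mul]
        rfl
    have hch : c h = c g := by
      ext x
      simp only [c, MulAut.conjNormal_apply]
      rw [hgnh, mul_inv_rev]
      have e : n * (h * (x : G) * h⁻¹) = (h * (x : G) * h⁻¹) * n :=
        congrArg Subtype.val (hNc.is_comm.comm ⟨n, hn⟩ ⟨_, (inferInstance : N.Normal).conj_mem x x.2 h⟩)
      calc h * (x : G) * h⁻¹ = (h * (x : G) * h⁻¹) * n * n⁻¹ := by group
        _ = n * (h * (x : G) * h⁻¹) * n⁻¹ := by rw [e]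
        _ = n * h * (x : G) * (h⁻¹ * n⁻¹) := by group
    have hApow : A ^ (p ^ r) = 1 := by
      refine LinearMap.ext fun v => ?_
      obtain ⟨x, rfl⟩ := Additive.ofMul.surjective v
      rw [hA, map_pow, hch, ← map_pow, ← hg, pow_orderOf_eq_one, map_one]
      rfl
    have hpoly : ∀ t : ℕ, (Polynomial.X - 1 : Polynomial (ZMod p)) ^ p ^ t = Polynomial.X ^ p ^ t - 1 :=
      fun t => by rw [sub_pow_char_pow, one_pow]
    have hnil : IsNilpotent (A - 1) := by
      refine ⟨p ^ r, ?_⟩
      have := congrArg (Polynomial.aeval A) (hpoly r)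
      simpa [hApow] using this
    have hzero : (A - 1) ^ m = 0 := by
      have h1 := LinearMap.aeval_self_charpoly (A - 1)
      rw [IsNilpotent.charpoly_eq_X_pow_finrank hnil, hfr] at h1
      simpa using h1
    set u := p ^ (r - 1) with hu
    have hup : 0 < u := pow_pos hp.pos _
    have hsum : ∑ i ∈ Finset.range u, A ^ i = 0 := by
      have h1 : ((∑ i ∈ Finset.range u, Polynomial.X ^ i) : Polynomial (ZMod p)) =
          (Polynomial.X - 1) ^ (u - 1) := by
        refine mul_right_cancel₀ (b := Polynomial.X - 1)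
          (by simpa using Polynomial.X_sub_C_ne_zero (1 : ZMod p)) ?_
        rw [geom_sum_mul, ← pow_succ, Nat.sub_add_cancel hup, hu, hpoly]
      have h2 := congrArg (Polynomial.aeval A) h1
      simp only [map_sum, map_pow, Polynomial.aeval_X, map_sub, map_one] at h2
      rw [h2, ← Nat.sub_add_cancel (show m ≤ u - 1 by omega), pow_add, hzero, mul_zero]
    have hu1 : A ^ u = 1 := by
      have h2 := geom_sum_mul A u
      rw [hsum, zero_mul] at h2
      exact sub_eq_zero.1 h2.symm
    -- the power formula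
    have hpow : ∀ k : ℕ, (n * h) ^ k =
        (((∑ i ∈ Finset.range k, A ^ i) (Additive.ofMul ⟨n, hn⟩)).toMul : N) * h ^ k := by
      intro k
      induction k with
      | zero => simp
      | succ k ih =>
        rw [pow_succ, ih, Finset.sum_range_succ, LinearMap.add_apply, toMul_add, Subgroup.coe_mul,
          hA, toMul_ofMul]
        simp only [c, MulAut.conjNormal_apply]
        rw [pow_succ]
        group
    have hhu : h ^ u = 1 := by
      have hc : h ^ u ∈ Subgroup.centralizer (N : Set G) := by
        rw [Subgroup.mem_centralizer_iff]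
        intro x hx
        have h3 := hA ⟨x, hx⟩ u
        rw [hu1] at h3
        have h4 : h ^ u * x * (h ^ u)⁻¹ = x := by
          have h5 := congrArg (fun y : Additive N => ((y.toMul : N) : G)) h3
          simp only [Module.End.one_apply, toMul_ofMul, c, MulAut.conjNormal_apply] at h5
          exact h5.symm
        exact (mul_inv_eq_iff_eq_mul.1 h4).symm
      rw [Cfsg.Agent.Perm.centralizer_eq_self hNc hNtr] at hc
      exact Cfsg.Agent.Perm.free_iff.1 hNreg _ hc a (MulAction.mem_stabilizer_iff.1 (pow_mem hh u))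
    have hgu : g ^ u = 1 := by
      rw [hgnh, hpow, hsum, hhu]
      simp
    have := Nat.le_of_dvd hup (orderOf_dvd_of_pow_eq_one hgu)
    rw [hg, hu] at this
    have := Nat.pow_lt_pow_right hp.one_lt (show r - 1 < r by omega)
    omega
  refine ⟨hmain, fun hrm => ?_⟩
  subst hrm
  obtain ⟨k, rfl⟩ : ∃ k, r = k + 1 := ⟨r - 1, by omega⟩
  simp only [Nat.add_sub_cancel] at hmain
  have hlin : ∀ j : ℕ, j + 2 < 2 ^ (j + 1) + 1 := fun j => by
    have := Nat.lt_two_pow_self (n := j + 1)
    omega
  refine ⟨?_, fun hp2 => ?_⟩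
  · by_contra hk
    obtain ⟨j, rfl⟩ : ∃ j, k = j + 2 := ⟨k - 2, by omega⟩
    have h1 : 2 ^ (j + 2) ≤ p ^ (j + 2) := Nat.pow_le_pow_left hp.two_le _
    have h2 := Nat.lt_two_pow_self (n := j + 1)
    rw [pow_succ] at h1
    omega
  · by_contra hk
    obtain ⟨j, rfl⟩ : ∃ j, k = j + 1 := ⟨k - 1, by omega⟩
    have h1 : 3 * 2 ^ j ≤ p ^ (j + 1) := by
      rw [pow_succ, mul_comm]
      exact Nat.mul_le_mul (Nat.pow_le_pow_left hp.two_le _) hp2
    have h2 := Nat.lt_two_pow_self (n := j)
    omega

end Cfsg.Agent.S3508
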