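import Cfsg.Statements.S3511
-- import your own Cfsg.Agent.* helpers here

set_option autoImplicit false
open Cfsg

namespace Cfsg.Agent.S3511

/-- Let a finite group G act faithfully on a set Ω. If every element of G of square-free order has a regular cycle (an orbit of the cyclic group it generates with trivial stabilizer), then every element of G has a regular cycle. -/
theorem result {G : Type*} [Group G] [Finite G] {Ω : Type*} [MulAction G Ω] [FaithfulSMul G Ω]
    (h : ∀ g : G, Squarefree (orderOf g) → ∃ ω : Ω, MulAction.stabilizer (Subgroup.zpowers g) ω = ⊥) (g : G) :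
    ∃ ω : Ω, MulAction.stabilizer (Subgroup.zpowers g) ω = ⊥ := by
  classical
  have : Fintype G := Fintype.ofFinite G
  set n := orderOf g with hn
  have hn0 : n ≠ 0 := (orderOf_pos g).ne'
  set r := ∏ p ∈ n.primeFactors, p with hr
  have hrn : r ∣ n := Nat.prod_primeFactors_dvd n
  have hord : orderOf (g ^ (n / r)) = r := by
    rw [orderOf_pow_of_dvd _ (Nat.div_dvd_of_dvd hrn), ← hn, Nat.div_div_self hrn hn0]
    exact (Nat.div_pos (Nat.le_of_dvd (Nat.pos_of_ne_zero hn0) hrn)
      (Finset.prod_pos fun p hp => (Nat.prime_of_mem_primeFactors hp).pos)).ne'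
  have hsq : Squarefree r := by
    rw [hr]
    refine Finset.squarefree_prod_of_pairwise_isCoprime (fun p hp q hq hpq => ?_)
      (fun p hp => (Nat.prime_of_mem_primeFactors hp).squarefree)
    exact Nat.coprime_iff_isRelPrime.mp ((Nat.coprime_primes (Nat.prime_of_mem_primeFactors hp)
      (Nat.prime_of_mem_primeFactors hq)).mpr hpq)
  obtain ⟨ω, hω⟩ := h _ (hord.symm ▸ hsq)
  refine ⟨ω, ?_⟩
  by_contra hne
  obtain ⟨⟨x, hx⟩, hxs, hx1⟩ := (Subgroup.bot_or_exists_ne_one _).resolve_left hne
  have hxne : x ≠ 1 := fun h' => hx1 (Subtype.ext h')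
  -- an element of prime order in the stabilizer
  obtain ⟨p, hp, hpd⟩ := Nat.exists_prime_and_dvd (mt orderOf_eq_one_iff.mp hxne)
  set y := x ^ (orderOf x / p) with hy
  have hyord : orderOf y = p := by
    rw [hy, orderOf_pow_of_dvd _ (Nat.div_dvd_of_dvd hpd),
      Nat.div_div_self hpd (orderOf_pos x).ne']
    exact (Nat.div_pos (Nat.le_of_dvd (orderOf_pos x) hpd) hp.pos).ne'
  have hyω : y • ω = ω := by
    have h1 : x ∈ MulAction.stabilizer G ω := hxs
    exact pow_mem h1 _
  have hyg : y ∈ Subgroup.zpowers (g ^ (n / r)) := by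
    obtain ⟨k, hk⟩ := Subgroup.mem_zpowers_iff.mp (Subgroup.pow_mem _ hx (orderOf x / p) : y ∈ _)
    have h1 : y ^ p = 1 := hyord ▸ pow_orderOf_eq_one y
    rw [hy, ← hk, ← zpow_natCast, ← zpow_mul, ← orderOf_dvd_iff_zpow_eq_one, ← hn] at h1
    have hpr : p ∣ r := by
      refine Finset.dvd_prod_of_mem _ (Nat.mem_primeFactors.mpr ⟨hp, ?_, hn0⟩)
      have := orderOf_dvd_of_mem_zpowers hx
      exact hn ▸ hpd.trans this
    have h2 : ((n / p : ℕ) : ℤ) ∣ k := by
      have e : (n : ℤ) = ((n / p : ℕ) : ℤ) * (p : ℤ) := by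
        exact_mod_cast (Nat.div_mul_cancel (hpr.trans hrn)).symm
      rw [e] at h1
      exact Int.dvd_of_mul_dvd_mul_right (by exact_mod_cast hp.ne_zero) h1
    have h3 : n / p = n / r * (r / p) := by
      rw [Nat.div_mul_div_comm hrn hpr, Nat.mul_comm n r,
        Nat.mul_div_mul_left _ _ (Nat.pos_of_ne_zero
          (fun h' => hn0 (by simpa [h'] using hrn)))]
    rw [h3, Int.natCast_mul] at h2
    obtain ⟨c, rfl⟩ := h2
    refine Subgroup.mem_zpowers_iff.mpr ⟨((r / p : ℕ) : ℤ) * c, ?_⟩
    rw [hy, ← hk, ← zpow_natCast g, ← zpow_mul]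
    congr 1
    push_cast
    ring
  have : (⟨y, hyg⟩ : Subgroup.zpowers (g ^ (n / r))) ∈
      MulAction.stabilizer (Subgroup.zpowers (g ^ (n / r))) ω := hyω
  rw [hω, Subgroup.mem_bot] at this
  have := congrArg Subtype.val this
  simp only [Subgroup.coe_one] at this
  rw [this, orderOf_one] at hyord
  exact hp.one_lt.ne hyord

end Cfsg.Agent.S3511
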