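import Cfsg.Statements.S3514
-- import your own Cfsg.Agent.* helpers here

set_option autoImplicit false
open Cfsg
open scoped Pointwise

namespace Cfsg.Agent.S3514

/-- Let p be a prime, V a finite vector space over the field with p elements, and H a group of linear transformations of V all of whose orbits on V have size coprime to p. (i) Every normal subgroup K of H has all its orbits on V of size coprime to p. (ii) If N is a group of linear transformations of V of order coprime to p that is normalized by H, then the group generated by N and H has all its orbits on V of size coprime to p. -/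
theorem result (p : ℕ) [Fact p.Prime] {V : Type*} [AddCommGroup V] [Module (ZMod p) V] [Finite V]
    (H : Subgroup (V ≃ₗ[ZMod p] V)) (hH : ∀ v : V, ¬ p ∣ Nat.card {u : V | ∃ h ∈ H, h v = u}) :
    (∀ K : Subgroup (V ≃ₗ[ZMod p] V), K ≤ H → H ≤ Subgroup.normalizer (K : Set (V ≃ₗ[ZMod p] V)) →
        ∀ v : V, ¬ p ∣ Nat.card {u : V | ∃ k ∈ K, k v = u}) ∧
    (∀ N : Subgroup (V ≃ₗ[ZMod p] V), ¬ p ∣ Nat.card N → H ≤ Subgroup.normalizer (N : Set (V ≃ₗ[ZMod p] V)) →
        ∀ v : V, ¬ p ∣ Nat.card {u : V | ∃ x ∈ N ⊔ H, x v = u}) := by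
  classical
  have horb : ∀ (K : Subgroup (V ≃ₗ[ZMod p] V)) (v : V),
      {u : V | ∃ k ∈ K, k v = u} = MulAction.orbit K v := by
    intro K v
    ext u
    simp only [Set.mem_ofPred_eq, MulAction.mem_orbit_iff, Subtype.exists, Subgroup.mk_smul,
      exists_prop]
    rfl
  simp only [horb] at hH ⊢
  have : Finite (V ≃ₗ[ZMod p] V) := Finite.of_injective _ DFunLike.coe_injective
  constructor
  · intro K hK hKn v hdvd
    refine hH v (hdvd.trans ?_)
    have hN : (K.subgroupOf H).Normal := Subgroup.normal_subgroupOf_iff_le_normalizer hK |>.mpr hKn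
    have hb : MulAction.IsBlock H (MulAction.orbit (K.subgroupOf H)
        (⟨v, MulAction.mem_orbit_self v⟩ : MulAction.orbit H v)) := MulAction.IsBlock.orbit_of_normal _
    have h1 := hb.ncard_dvd_card ⟨_, MulAction.mem_orbit_self _⟩
    have h2 : Subtype.val '' (MulAction.orbit (K.subgroupOf H)
        (⟨v, MulAction.mem_orbit_self v⟩ : MulAction.orbit H v)) = MulAction.orbit K v := by
      ext u
      constructor
      · rintro ⟨_, ⟨⟨k, hk⟩, rfl⟩, rfl⟩
        exact ⟨⟨k.1, hk⟩, rfl⟩
      · rintro ⟨⟨k, hk⟩, rfl⟩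
        exact ⟨_, ⟨⟨⟨k, hK hk⟩, hk⟩, rfl⟩, rfl⟩
    rw [Nat.card_coe_set_eq, ← h2, Set.ncard_image_of_injective _ Subtype.val_injective]
    exact h1
  · intro N hN hNn v hdvd
    set L := N ⊔ H
    have hNn' : L ≤ Subgroup.normalizer (N : Set (V ≃ₗ[ZMod p] V)) :=
      sup_le Subgroup.le_normalizer hNn
    have hnorm : (N.subgroupOf L).Normal :=
      Subgroup.normal_subgroupOf_iff_le_normalizer le_sup_left |>.mpr hNn'
    have hb : MulAction.IsBlock L (MulAction.orbit (N.subgroupOf L)
        (⟨v, MulAction.mem_orbit_self v⟩ : MulAction.orbit L v)) := MulAction.IsBlock.orbit_of_normal _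
    set X := MulAction.orbit L v
    set B : Set X := MulAction.orbit (N.subgroupOf L) (⟨v, MulAction.mem_orbit_self v⟩ : X)
    have h1 := hb.ncard_block_mul_ncard_orbit_eq ⟨_, MulAction.mem_orbit_self _⟩
    have hp : p.Prime := Fact.out
    have h3 : p ∣ B.ncard * (Set.range fun g : L => g • B).ncard := by
      rw [show B.ncard * (Set.range fun g : L => g • B).ncard = Nat.card X from h1]
      exact hdvd
    rcases hp.dvd_mul.mp h3 with h4 | h4
    · refine hN (h4.trans ?_)
      simp only [B] at *
      rw [← MulAction.index_stabilizer (N.subgroupOf L) (⟨v, MulAction.mem_orbit_self v⟩ : X)] at *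
      refine (Subgroup.index_dvd_card _).trans ?_
      rw [Nat.card_congr (Subgroup.subgroupOfEquivOfLe (le_sup_left : N ≤ L)).toEquiv]
    · refine hH v (h4.trans ?_)
      let hHL : ∀ h : H, L := fun h => ⟨h.1, le_sup_right (a := N) h.2⟩
      have hHB : ∀ g : L, ∃ h : H, g • B = hHL h • B := by
        intro g
        have h5 : (g : V ≃ₗ[ZMod p] V) ∈ ((H ⊔ N : Subgroup (V ≃ₗ[ZMod p] V)) : Set _) := by
          rw [sup_comm]; exact g.2
        rw [Subgroup.coe_mul_of_left_le_normalizer_right _ _ hNn, Set.mem_mul] at h5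
        obtain ⟨h, hh, n, hn, hgh⟩ := h5
        refine ⟨⟨h, hh⟩, ?_⟩
        have : g = hHL ⟨h, hh⟩ * ⟨n, le_sup_left (b := H) hn⟩ := Subtype.ext hgh.symm
        rw [this, mul_smul]
        congr 1
        exact MulAction.smul_orbit
          (⟨⟨n, le_sup_left (b := H) hn⟩, hn⟩ : N.subgroupOf L) _
      let ι : H →* L := Subgroup.inclusion le_sup_right
      let S := (MulAction.stabilizer L B).comap ι
      have hrange : (Set.range fun g : L => g • B).ncard = S.index := by
        have e : (Set.range fun g : L => g • B) = Set.range fun h : H => ι h • B := by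
          ext s
          constructor
          · rintro ⟨g, rfl⟩
            obtain ⟨h, hh⟩ := hHB g
            exact ⟨h, hh.symm⟩
          · rintro ⟨h, rfl⟩
            exact ⟨_, rfl⟩
        rw [e]
        letI : MulAction H (Set X) := MulAction.compHom _ ι
        rw [show (Set.range fun h : H => ι h • B) = MulAction.orbit H B from rfl,
          ← MulAction.index_stabilizer]
        rfl
      rw [Nat.card_coe_set_eq, hrange, ← MulAction.index_stabilizer]
      refine Subgroup.index_dvd_of_le ?_
      intro h hh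
      have hv : ι h • (⟨v, MulAction.mem_orbit_self v⟩ : X) = ⟨v, MulAction.mem_orbit_self v⟩ :=
        Subtype.ext (MulAction.mem_stabilizer_iff.mp hh)
      exact MulAction.IsBlock.stabilizer_le hb (MulAction.mem_orbit_self _) hv

end Cfsg.Agent.S3514
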