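import Cfsg.Statements.S3515
import Cfsg.Agent.H68.AffineClosure

set_option autoImplicit false
open Cfsg Cfsg.Agent.H68

namespace Cfsg.Agent.S3515

theorem plane_two : (∀ z : Fin 2 → ZMod 2, z = 0 ∨ z = Pi.single 0 1 ∨ z = Pi.single 1 1 ∨ z = ![1, 1]) ∧
    (![1, 1] : Fin 2 → ZMod 2) ≠ 0 ∧ (![1, 1] : Fin 2 → ZMod 2) ≠ Pi.single 0 1 ∧
      (![1, 1] : Fin 2 → ZMod 2) ≠ Pi.single 1 1 := by
  decide

/-- Every primitive affine permutation group of degree p² is 3-closed. Let p be a prime and G a group of permutations of the plane V = F_p² consisting of affine maps x ↦ Ax + b, containing all translations, and acting primitively on V. Then any permutation σ of V that agrees on every triple of points with some element of G (σ preserves every G-orbit on ordered triples) already lies in G. -/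
theorem result (p : ℕ) [Fact p.Prime] (G : Subgroup (Equiv.Perm (Fin 2 → ZMod p)))
    (haff : (G : Set (Equiv.Perm (Fin 2 → ZMod p))) ⊆ {τ : Equiv.Perm (Fin 2 → ZMod p) | ∃ (A : (Fin 2 → ZMod p) ≃ₗ[ZMod p] (Fin 2 → ZMod p)) (b : Fin 2 → ZMod p), ∀ x, τ x = A x + b})
    (htrans : ∀ b : Fin 2 → ZMod p, ∃ g ∈ G, ∀ x, g x = x + b) (hprim : MulAction.IsPreprimitive G (Fin 2 → ZMod p))
    (σ : Equiv.Perm (Fin 2 → ZMod p)) (hσ : (∀ t : Fin 3 → (Fin 2 → ZMod p), ∃ g ∈ G, ∀ i, σ (t i) = g (t i))) : σ ∈ G := by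
  classical
  obtain ⟨g, hg, hgt⟩ := hσ ![0, Pi.single 0 1, Pi.single 1 1]
  suffices h : g⁻¹ * σ = 1 by rw [inv_mul_eq_one] at h; exact h ▸ hg
  have hτ : ∀ t : Fin 3 → (Fin 2 → ZMod p), ∃ k ∈ G, ∀ i, (g⁻¹ * σ) (t i) = k (t i) := by
    intro t
    obtain ⟨k, hk, hkt⟩ := hσ t
    exact ⟨g⁻¹ * k, G.mul_mem (G.inv_mem hg) hk, fun i => by
      rw [Equiv.Perm.mul_apply, Equiv.Perm.mul_apply, hkt]⟩
  have hcomb := affine_combination (K := ZMod p) (G : Set (Equiv.Perm (Fin 2 → ZMod p))) haff _ hτ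
  have hfix : ∀ i, (g⁻¹ * σ) (![0, Pi.single 0 1, Pi.single 1 1] i) =
      ![0, Pi.single 0 1, Pi.single 1 1] i := fun i => by
    rw [Equiv.Perm.mul_apply, hgt, Equiv.Perm.inv_def, Equiv.symm_apply_apply]
  generalize g⁻¹ * σ = τ at hτ hcomb hfix ⊢
  have h0 : τ 0 = 0 := hfix 0
  have h1 : τ (Pi.single 0 1) = Pi.single 0 1 := hfix 1
  have h2 : τ (Pi.single 1 1) = Pi.single 1 1 := hfix 2
  have hline0 : ∀ c : ZMod p, τ (c • Pi.single 0 1) = c • Pi.single 0 1 := fun c => by
    have := hcomb 0 (Pi.single 0 1) c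
    simpa [h0, h1] using this
  have hline1 : ∀ c : ZMod p, τ (c • Pi.single 1 1) = c • Pi.single 1 1 := fun c => by
    have := hcomb 0 (Pi.single 1 1) c
    simpa [h0, h2] using this
  have hdec : ∀ x : Fin 2 → ZMod p,
      x = x 0 • (Pi.single 0 1 : Fin 2 → ZMod p) + x 1 • (Pi.single 1 1 : Fin 2 → ZMod p) := fun x => by
    funext i
    fin_cases i <;> simp
  refine Equiv.ext fun x => ?_
  rw [Equiv.Perm.one_apply]
  by_cases hp2 : p = 2
  · subst hp2
    obtain ⟨hall, n0, n1, n2⟩ := plane_two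
    have hrest : τ ![1, 1] = ![1, 1] := by
      rcases hall (τ ![1, 1]) with h | h | h | h
      · exact absurd (τ.injective (h.trans h0.symm)) n0
      · exact absurd (τ.injective (h.trans h1.symm)) n1
      · exact absurd (τ.injective (h.trans h2.symm)) n2
      · exact h
    rcases hall x with rfl | rfl | rfl | rfl
    · exact h0
    · exact h1
    · exact h2
    · exact hrest
  · have two : (2 : ZMod p) ≠ 0 := by
      intro h
      have : ((2 : ℕ) : ZMod p) = 0 := by exact_mod_cast h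
      rw [ZMod.natCast_eq_zero_iff] at this
      exact hp2 ((Nat.prime_dvd_prime_iff_eq Fact.out Nat.prime_two).1 this)
    have hx : x = (2 * x 0) • (Pi.single 0 1 : Fin 2 → ZMod p) + (2 : ZMod p)⁻¹ •
        ((2 * x 1) • (Pi.single 1 1 : Fin 2 → ZMod p) - (2 * x 0) • (Pi.single 0 1 : Fin 2 → ZMod p)) := by
      conv_lhs => rw [hdec x]
      rw [smul_sub, smul_smul, smul_smul, inv_mul_cancel_left₀ two, inv_mul_cancel_left₀ two,
        two_mul (x 0), add_smul]
      abel
    rw [hx, hcomb, hline0, hline1]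

end Cfsg.Agent.S3515
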