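import Cfsg.Statements.S3516
import Cfsg.Agent.H68.AffineClosure

set_option autoImplicit false
open Cfsg Cfsg.Agent.H68

namespace Cfsg.Agent.S3516

/-- Let p be an odd prime, d ≥ 3, and G a group of affine permutations x ↦ Ax + b of V = F_p^d containing all translations and all maps x ↦ Ax with A of determinant 1. Then the 3-closure of G is the full affine group: a permutation σ of V agrees on every triple of points with some element of G if and only if σ is an affine map. -/
theorem result (p : ℕ) [Fact p.Prime] (hp : p ≠ 2) (d : ℕ) (hd : 3 ≤ d) (G : Subgroup (Equiv.Perm (Fin d → ZMod p)))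
    (haff : (G : Set (Equiv.Perm (Fin d → ZMod p))) ⊆ {τ : Equiv.Perm (Fin d → ZMod p) | ∃ (A : (Fin d → ZMod p) ≃ₗ[ZMod p] (Fin d → ZMod p)) (b : Fin d → ZMod p), ∀ x, τ x = A x + b})
    (htrans : ∀ b : Fin d → ZMod p, ∃ g ∈ G, ∀ x, g x = x + b)
    (hsl : ∀ A : (Fin d → ZMod p) ≃ₗ[ZMod p] (Fin d → ZMod p), LinearMap.det (A : (Fin d → ZMod p) →ₗ[ZMod p] (Fin d → ZMod p)) = 1 → ∃ g ∈ G, ∀ x, g x = A x)
    (σ : Equiv.Perm (Fin d → ZMod p)) :
    (∀ t : Fin 3 → (Fin d → ZMod p), ∃ g ∈ G, ∀ i, σ (t i) = g (t i)) ↔ σ ∈ {τ : Equiv.Perm (Fin d → ZMod p) | ∃ (A : (Fin d → ZMod p) ≃ₗ[ZMod p] (Fin d → ZMod p)) (b : Fin d → ZMod p), ∀ x, τ x = A x + b} := by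
  classical
  constructor
  · intro hσ
    have hcomb := affine_combination (K := ZMod p) (G : Set (Equiv.Perm (Fin d → ZMod p))) haff σ hσ
    have two : (2 : ZMod p) ≠ 0 := by
      intro h
      have : ((2 : ℕ) : ZMod p) = 0 := by exact_mod_cast h
      rw [ZMod.natCast_eq_zero_iff] at this
      exact hp ((Nat.prime_dvd_prime_iff_eq Fact.out Nat.prime_two).1 this)
    have hsm : ∀ (c : ZMod p) (x : Fin d → ZMod p), σ (c • x) = σ 0 + c • (σ x - σ 0) := fun c x => by
      simpa using hcomb 0 x c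
    have hadd : ∀ x y, σ (x + y) - σ 0 = (σ x - σ 0) + (σ y - σ 0) := by
      intro x y
      have e : x + y = (2 : ZMod p) • x + (2 : ZMod p)⁻¹ • ((2 : ZMod p) • y - (2 : ZMod p) • x) := by
        rw [smul_sub, inv_smul_smul₀ two, inv_smul_smul₀ two, two_smul]; abel
      rw [e, hcomb, hsm, hsm, add_sub_add_left_eq_sub, ← smul_sub, inv_smul_smul₀ two, two_smul]
      abel
    let f : (Fin d → ZMod p) →ₗ[ZMod p] (Fin d → ZMod p) :=
      { toFun := fun x => σ x - σ 0
        map_add' := hadd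
        map_smul' := fun c x => by simp [hsm] }
    have hbij : Function.Bijective f := by
      refine Finite.injective_iff_bijective.1 fun x y h => σ.injective ?_
      exact sub_left_inj.1 (show σ x - σ 0 = σ y - σ 0 from h)
    exact ⟨LinearEquiv.ofBijective f hbij, σ 0, fun x => (sub_add_cancel (σ x) (σ 0)).symm⟩
  · rintro ⟨A, b, hA⟩ t
    let U : Submodule (ZMod p) (Fin d → ZMod p) := Submodule.span (ZMod p) (Set.range ![t 1 - t 0, t 2 - t 0])
    have hU : U < ⊤ := by
      rw [lt_top_iff_ne_top]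
      intro h
      have h1 : Module.finrank (ZMod p) U ≤ 2 :=
        (finrank_range_le_card (R := ZMod p) ![t 1 - t 0, t 2 - t 0]).trans (by simp)
      rw [h, finrank_top, Module.finrank_fin_fun] at h1
      omega
    have hdA : LinearMap.det (A : (Fin d → ZMod p) →ₗ[ZMod p] (Fin d → ZMod p)) ≠ 0 :=
      A.isUnit_det'.ne_zero
    obtain ⟨D, hD, hfix⟩ := exists_det_fixing U hU _ (inv_ne_zero hdA)
    obtain ⟨g₀, hg₀, hg₀'⟩ := hsl (D.trans A) (by
      rw [LinearEquiv.coe_trans, LinearMap.det_comp, hD, mul_inv_cancel₀ hdA])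
    obtain ⟨s, hs, hs'⟩ := htrans (b + A (t 0) - A (D (t 0)))
    refine ⟨s * g₀, G.mul_mem hs hg₀, fun i => ?_⟩
    rw [Equiv.Perm.mul_apply, hs', hg₀', hA, LinearEquiv.trans_apply]
    have hmem : t i - t 0 ∈ U := by
      fin_cases i
      · simpa using U.zero_mem
      · exact Submodule.subset_span ⟨0, rfl⟩
      · exact Submodule.subset_span ⟨1, rfl⟩
    have h1 := congrArg A (hfix _ hmem)
    rw [map_sub, map_sub, map_sub, sub_eq_sub_iff_add_eq_add] at h1
    calc A (t i) + b = (A (t i) + A (D (t 0))) + (b - A (D (t 0))) := by abel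
      _ = _ := by rw [← h1]; abel

end Cfsg.Agent.S3516
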