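import Cfsg.Statements.S3517
import Cfsg.Agent.H68.AffineClosure

set_option autoImplicit false
open Cfsg Cfsg.Agent.H68

namespace Cfsg.Agent.S3517

/-- For d ≥ 3, the 3-closure of the affine group AGL_d(2) acting on F_2^d is the full symmetric group: every permutation of F_2^d agrees on every ordered triple of points with some affine map (AGL_d(2) is 3-transitive). -/
theorem result (d : ℕ) (hd : 3 ≤ d) (σ : Equiv.Perm (Fin d → ZMod 2)) (t : Fin 3 → (Fin d → ZMod 2)) :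
    ∃ (A : (Fin d → ZMod 2) ≃ₗ[ZMod 2] (Fin d → ZMod 2)) (b : Fin d → ZMod 2), ∀ i, σ (t i) = A (t i) + b := by
  classical
  have hinj : ∀ i j, t i - t j = 0 ↔ σ (t i) - σ (t j) = 0 := fun i j => by
    rw [sub_eq_zero, sub_eq_zero, σ.injective.eq_iff]
  suffices h : ∃ A : (Fin d → ZMod 2) ≃ₗ[ZMod 2] (Fin d → ZMod 2),
      A (t 1 - t 0) = σ (t 1) - σ (t 0) ∧ A (t 2 - t 0) = σ (t 2) - σ (t 0) by
    obtain ⟨A, h1, h2⟩ := h
    refine ⟨A, σ (t 0) - A (t 0), fun i => ?_⟩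
    fin_cases i
    · show σ (t 0) = A (t 0) + (σ (t 0) - A (t 0))
      abel
    · show σ (t 1) = A (t 1) + (σ (t 0) - A (t 0))
      rw [map_sub, sub_eq_iff_eq_add] at h1
      rw [h1]; abel
    · show σ (t 2) = A (t 2) + (σ (t 0) - A (t 0))
      rw [map_sub, sub_eq_iff_eq_add] at h2
      rw [h2]; abel
  have hu := hinj 1 0
  have hv := hinj 2 0
  have huv := hinj 1 2
  generalize e1 : t 1 - t 0 = u at hu ⊢
  generalize e2 : t 2 - t 0 = v at hv ⊢
  generalize e3 : σ (t 1) - σ (t 0) = u' at hu ⊢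
  generalize e4 : σ (t 2) - σ (t 0) = v' at hv ⊢
  have e5 : t 1 - t 2 = u - v := by rw [← e1, ← e2]; abel
  have e6 : σ (t 1) - σ (t 2) = u' - v' := by rw [← e3, ← e4]; abel
  rw [e5, e6, sub_eq_zero, sub_eq_zero] at huv
  by_cases hu0 : u = 0
  · by_cases hv0 : v = 0
    · exact ⟨LinearEquiv.refl _ _, by simp [hu0, hu.1 hu0], by simp [hv0, hv.1 hv0]⟩
    · obtain ⟨A, hA⟩ := exists_equiv_single (K := ZMod 2) hv0 (fun h => hv0 (hv.2 h))
      exact ⟨A, by simp [hu0, hu.1 hu0], hA⟩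
  by_cases hv0 : v = 0
  · obtain ⟨A, hA⟩ := exists_equiv_single (K := ZMod 2) hu0 (fun h => hu0 (hu.2 h))
    exact ⟨A, hA, by simp [hv0, hv.1 hv0]⟩
  by_cases he : u = v
  · obtain ⟨A, hA⟩ := exists_equiv_single (K := ZMod 2) hu0 (fun h => hu0 (hu.2 h))
    exact ⟨A, hA, by rw [← he, hA, huv.1 he]⟩
  obtain ⟨A, hA⟩ := exists_equiv_of_indep ![u, v] ![u', v'] (indep_pair_two hu0 hv0 he)
    (indep_pair_two (fun h => hu0 (hu.2 h)) (fun h => hv0 (hv.2 h)) (fun h => he (huv.2 h)))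
  exact ⟨A, hA 0, hA 1⟩

end Cfsg.Agent.S3517
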