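import Cfsg.Statements.S3518
import Cfsg.Agent.H68.Directions

set_option autoImplicit false
open Cfsg

namespace Cfsg.Agent.S3518

/-- Closures of subgroups of the one-dimensional affine group. Let p be a prime and G a group of permutations of F_p lying in the affine group AGL₁(p) = {x ↦ ax + b, a ≠ 0} and containing all translations. (1) If G is a proper subgroup of AGL₁(p), then G is 2-closed: a permutation of F_p agreeing on every ordered pair of points with some element of G lies in G. (2) Every permutation of F_p agrees on every ordered pair with some element of AGL₁(p) (the 2-closure of AGL₁(p) is the symmetric group). (3) AGL₁(p) is 3-closed: a permutation agreeing on every ordered triple with some affine map is affine. -/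
theorem result (p : ℕ) [Fact p.Prime] (G : Subgroup (Equiv.Perm (ZMod p))) (hG : G ≤ Cfsg.affineGroup (ZMod p))
    (htrans : ∀ b : ZMod p, ∃ g ∈ G, ∀ x, g x = x + b) :
    (G ≠ Cfsg.affineGroup (ZMod p) → ∀ σ : Equiv.Perm (ZMod p), (∀ t : Fin 2 → ZMod p, ∃ g ∈ G, ∀ i, σ (t i) = g (t i)) → σ ∈ G) ∧
    (∀ σ : Equiv.Perm (ZMod p), (∀ t : Fin 2 → ZMod p, ∃ g ∈ Cfsg.affineGroup (ZMod p), ∀ i, σ (t i) = g (t i))) ∧
    (∀ σ : Equiv.Perm (ZMod p), (∀ t : Fin 3 → ZMod p, ∃ g ∈ Cfsg.affineGroup (ZMod p), ∀ i, σ (t i) = g (t i)) → σ ∈ Cfsg.affineGroup (ZMod p)) := by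
  classical
  have hp := (Fact.out : p.Prime)
  refine ⟨fun hne σ hσ => ?_, fun σ t => ?_, fun σ hσ => ?_⟩
  · -- the slopes of elements of `G`
    let M : Subgroup (ZMod p)ˣ :=
      { carrier := {a | ∃ g ∈ G, ∃ b, ∀ x, g x = (a : ZMod p) * x + b}
        one_mem' := ⟨1, G.one_mem, 0, fun x => by simp⟩
        mul_mem' := by
          rintro a c ⟨g, hg, b, h⟩ ⟨g', hg', b', h'⟩
          refine ⟨g * g', G.mul_mem hg hg', (a : ZMod p) * b' + b, fun x => ?_⟩
          rw [Equiv.Perm.mul_apply, h', h, Units.val_mul]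
          ring
        inv_mem' := by
          rintro a ⟨g, hg, b, h⟩
          refine ⟨g⁻¹, G.inv_mem hg, -((a⁻¹ : (ZMod p)ˣ) : ZMod p) * b, fun x => ?_⟩
          rw [Equiv.Perm.inv_def, Equiv.symm_apply_eq, h, mul_add, ← mul_assoc, ← mul_assoc,
            mul_neg, Units.mul_inv]
          ring }
    have haff : ∀ (τ : Equiv.Perm (ZMod p)) (a : (ZMod p)ˣ) (b : ZMod p), a ∈ M →
        (∀ x, τ x = (a : ZMod p) * x + b) → τ ∈ G := by
      rintro τ a b ⟨g, hg, c, h⟩ hτ
      obtain ⟨t, ht, ht'⟩ := htrans (b - c)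
      have : τ = t * g := Equiv.ext fun x => by
        rw [Equiv.Perm.mul_apply, ht', h, hτ]; ring
      rw [this]
      exact G.mul_mem ht hg
    have hM : M ≠ ⊤ := by
      intro h
      refine hne (le_antisymm hG ?_)
      rintro τ ⟨a, b, hτ⟩
      exact haff τ a b (h ▸ Subgroup.mem_top a) hτ
    have hslope : ∀ x y : ZMod p, x ≠ y → ∃ a ∈ M, σ x - σ y = ((a : (ZMod p)ˣ) : ZMod p) * (x - y) := by
      intro x y _
      obtain ⟨g, hg, hgt⟩ := hσ ![x, y]
      obtain ⟨a, b, hab⟩ := hG hg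
      refine ⟨a, ⟨g, hg, b, hab⟩, ?_⟩
      have h0 : σ x = g x := hgt 0
      have h1 : σ y = g y := hgt 1
      rw [h0, h1, hab, hab]; ring
    have hc : 2 * Nat.card M ≤ p - 1 := by
      have h1 := M.card_mul_index
      have h2 : Nat.card (ZMod p)ˣ = p - 1 := by rw [Nat.card_units, Nat.card_zmod]
      have h3 : 1 < M.index := M.one_lt_index_of_ne_top hM
      rw [h2] at h1
      nlinarith
    have hodd : p ≠ 2 := by
      intro h
      have : 0 < Nat.card M := Nat.card_pos
      omega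
    let D : Finset (ZMod p) := (Finset.univ.filter (· ∈ M)).image fun a : (ZMod p)ˣ => (a : ZMod p)
    have hD : D.card ≤ Nat.card M := by
      refine Finset.card_image_le.trans ?_
      rw [Nat.card_eq_fintype_card, Fintype.card_subtype]
    obtain ⟨a, b, hab⟩ := Cfsg.Agent.H68.affine_of_nondirections hodd σ Dᶜ (by
      rw [Finset.card_compl, ZMod.card]
      obtain ⟨m, hm⟩ := hp.odd_of_ne_two hodd
      omega) (by
      intro c hc x y hxy
      by_contra hne'
      obtain ⟨u, hu, he⟩ := hslope x y hne'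
      refine Finset.mem_compl.1 hc (Finset.mem_image.2 ⟨u, by simpa using hu, ?_⟩)
      have h' : (c - (u : ZMod p)) * (x - y) = 0 := by linear_combination he - hxy
      exact (sub_eq_zero.1 ((mul_eq_zero.1 h').resolve_right (sub_ne_zero.2 hne'))).symm)
    obtain ⟨u, hu, he⟩ := hslope 1 0 one_ne_zero
    have hau : a = (u : ZMod p) := by rw [hab, hab] at he; linear_combination he
    exact haff σ u b hu fun x => by rw [hab, hau]
  · rcases eq_or_ne (t 0) (t 1) with h | h
    · refine ⟨Equiv.addRight (σ (t 0) - t 0), ⟨1, σ (t 0) - t 0, fun x => by simp⟩, ?_⟩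
      intro i
      fin_cases i <;> simp [← h]
    · have h1 : t 0 - t 1 ≠ 0 := sub_ne_zero.2 h
      have h2 : σ (t 0) - σ (t 1) ≠ 0 := sub_ne_zero.2 fun e => h (σ.injective e)
      let a : (ZMod p)ˣ := Units.mk0 ((σ (t 0) - σ (t 1)) / (t 0 - t 1)) (div_ne_zero h2 h1)
      refine ⟨(a.mulLeft).trans (Equiv.addRight (σ (t 1) - (a : ZMod p) * t 1)),
        ⟨a, σ (t 1) - (a : ZMod p) * t 1, fun x => rfl⟩, ?_⟩
      intro i
      fin_cases i
      · show σ (t 0) = (a : ZMod p) * t 0 + (σ (t 1) - (a : ZMod p) * t 1)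
        have : (a : ZMod p) * (t 0 - t 1) = σ (t 0) - σ (t 1) := div_mul_cancel₀ _ h1
        linear_combination -this
      · show σ (t 1) = (a : ZMod p) * t 1 + (σ (t 1) - (a : ZMod p) * t 1)
        ring
  · have hne' : σ 1 - σ 0 ≠ 0 := sub_ne_zero.2 fun e => one_ne_zero (σ.injective e)
    refine ⟨Units.mk0 _ hne', σ 0, fun x => ?_⟩
    obtain ⟨g, ⟨a, b, hg⟩, hgt⟩ := hσ ![0, 1, x]
    have h0 : σ 0 = g 0 := hgt 0
    have h1 : σ 1 = g 1 := hgt 1
    have h2 : σ x = g x := hgt 2
    rw [Units.val_mk0, h0, h1, h2, hg, hg, hg]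
    ring

end Cfsg.Agent.S3518
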