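import Cfsg.Statements.S3520
import Cfsg.Agent.H68.DerangementClasses
-- import your own Cfsg.Agent.* helpers here

set_option autoImplicit false
open Cfsg

namespace Cfsg.Agent.S3520

/-- Let a finite group G act faithfully and primitively on a finite set Ω with at least two points, suppose G is not almost simple (no non-abelian simple normal subgroup with trivial centralizer), and suppose the derangements of G form exactly two conjugacy classes. Then either Ω has 3 points and G has order 3; or G has a non-trivial abelian normal subgroup N acting regularly, every non-identity element of G fixes at most one point (so, when n > 3, G is a Frobenius group with kernel N), the number n of points is odd and a point stabilizer has order (n − 1)/2; or G is 2-transitive with a non-trivial abelian regular normal subgroup and some non-identity element fixes at least two points (a non-Frobenius 2-transitive affine group). -/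
theorem result {G : Type*} [Group G] [Finite G] {Ω : Type*} [Fintype Ω] [MulAction G Ω] [FaithfulSMul G Ω] (hΩ : 2 ≤ Fintype.card Ω) (hprim : MulAction.IsPreprimitive G Ω) (hnas : ¬ ∃ T : Subgroup G, T.Normal ∧ IsSimpleGroup T ∧ ¬ IsMulCommutative T ∧ Subgroup.centralizer (T : Set G) = ⊥)
    (hκ : Nat.card {c : ConjClasses G // ∃ g : G, ConjClasses.mk g = c ∧ ∀ ω : Ω, g • ω ≠ ω} = 2) (α : Ω) :
    (Fintype.card Ω = 3 ∧ Nat.card G = 3) ∨
    ((∃ N : Subgroup G, N.Normal ∧ N ≠ ⊥ ∧ IsMulCommutative N ∧ ∀ ω : Ω, MulAction.stabilizer N ω = ⊥) ∧ (∀ g : G, g ≠ 1 → Nat.card (MulAction.fixedBy Ω g) ≤ 1) ∧ ¬ 2 ∣ Fintype.card Ω ∧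
        2 * Nat.card (MulAction.stabilizer G α) = Fintype.card Ω - 1) ∨
    ((∃ N : Subgroup G, N.Normal ∧ N ≠ ⊥ ∧ IsMulCommutative N ∧ ∀ ω : Ω, MulAction.stabilizer N ω = ⊥) ∧ MulAction.IsMultiplyPretransitive G Ω 2 ∧ ∃ g : G, g ≠ 1 ∧ 2 ≤ Nat.card (MulAction.fixedBy Ω g)) := by
  classical
  have htr : MulAction.IsPretransitive G Ω := hprim.toIsPretransitive
  have : Nontrivial Ω := Fintype.one_lt_card_iff_nontrivial.mp hΩ
  have hΩ' : 2 ≤ Nat.card Ω := by rwa [Nat.card_eq_fintype_card]
  obtain ⟨a₀, b₀, hab₀⟩ := exists_pair_ne Ω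
  have : Nontrivial G := by
    obtain ⟨g, hg⟩ := MulAction.exists_smul_eq G a₀ b₀
    exact ⟨⟨g, 1, fun h => hab₀ (by rw [← hg, h, one_smul])⟩⟩
  obtain ⟨N, hN, hN1, hmin'⟩ := Cfsg.Agent.H69.exists_minimal_normal (G := G)
  have hmin : ∀ M : Subgroup G, M.Normal → M ≤ N → M = ⊥ ∨ M = N := fun M hM hle => by
    by_cases h : M = ⊥
    · exact Or.inl h
    · exact Or.inr (hmin' M hM h hle)
  have := hN
  have hNt : MulAction.IsPretransitive N Ω := Cfsg.Agent.Perm.transitive_of_normal hN1
  by_cases hab : IsMulCommutative N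
  swap
  · have := Cfsg.Agent.H68.three_classes_of_not_affine hprim hnas N hN1 hmin hab
    simp only [Cfsg.Agent.H68.DerClasses] at this
    omega
  right
  have hstab := Cfsg.Agent.Perm.abelian_transitive_free (X := Ω) hab hNt
  have haff : ∃ N : Subgroup G, N.Normal ∧ N ≠ ⊥ ∧ IsMulCommutative N ∧
      ∀ ω : Ω, MulAction.stabilizer N ω = ⊥ := ⟨N, hN, hN1, hab, hstab⟩
  have hfree := Cfsg.Agent.Perm.free_iff.mp hstab
  have hder : ∀ n ∈ N, n ≠ 1 → Cfsg.Agent.H68.Der Ω n := fun n hn hn1 ω h => hn1 (hfree n hn ω h)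
  have hcmp : ∀ x : Ω, x ≠ α → ∃ n ∈ N, n ≠ 1 ∧ n • α = x := by
    intro x hx
    obtain ⟨n, hn, hne⟩ := Cfsg.Agent.Perm.exists_mem_smul_eq hNt α x
    exact ⟨n, hn, fun h => hx (by rw [← hne, h, one_smul]), hne⟩
  have hstep : ∀ m ∈ N, ∀ n ∈ N, IsConj m n →
      ∃ k ∈ MulAction.stabilizer G α, k • m • α = n • α := by
    intro m hm n hn hc
    obtain ⟨g, hg⟩ := isConj_iff.mp hc
    obtain ⟨l, hl, k, hk, rfl⟩ := Cfsg.Agent.Perm.exists_mul_stabilizer hNt α g
    refine ⟨k, hk, ?_⟩
    have hlk : k * m * k⁻¹ = n := by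
      have hcomm : Commute l (k * m * k⁻¹) :=
        congrArg Subtype.val (hab.is_comm.comm ⟨l, hl⟩ ⟨_, hN.conj_mem m hm k⟩)
      calc k * m * k⁻¹ = l * (k * m * k⁻¹) * l⁻¹ := by rw [hcomm.eq]; group
        _ = n := by rw [← hg]; group
    rw [Cfsg.Agent.Perm.smul_conj_smul hk, hlk]
  obtain ⟨hlow, hiff⟩ := Cfsg.Agent.H68.card_der_eq_iff (G := G) htr inferInstance
  have hcompl : Nat.card {y : Ω // y ≠ α} = Nat.card Ω - 1 := by
    rw [Nat.card_eq_fintype_card, Fintype.card_subtype_compl]
    simp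
  by_cases hout : ∃ z : G, z ∉ N ∧ Cfsg.Agent.H68.Der Ω z
  · -- a derangement outside `N`
    obtain ⟨z, hzN, hz⟩ := hout
    have hconj : ∀ m ∈ N, m ≠ 1 → ∀ n ∈ N, n ≠ 1 → IsConj m n := by
      intro m hm hm1 n hn hn1
      rcases Cfsg.Agent.H68.isConj_of_card_derClasses_eq_two hκ (hder m hm hm1) (hder n hn hn1) hz
        with h | h | h
      · exact h
      all_goals
        obtain ⟨g, hg⟩ := isConj_iff.mp h
        exact absurd (hg ▸ hN.conj_mem _ ‹_› g) hzN
    refine Or.inr ⟨haff, Cfsg.Agent.H68.two_transitive_of_stabilizer htr α fun x y hx hy => ?_, ?_⟩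
    · obtain ⟨m, hm, hm1, rfl⟩ := hcmp x hx
      obtain ⟨n, hn, hn1, rfl⟩ := hcmp y hy
      exact hstep m hm n hn (hconj m hm hm1 n hn hn1)
    · by_contra hcon
      push Not at hcon
      have hle := hiff.mpr fun g hg => Nat.lt_succ_iff.mp (hcon g hg)
      let f : Option {y : Ω // y ≠ α} → {g : G // Cfsg.Agent.H68.Der Ω g} := fun o =>
        o.elim ⟨z, hz⟩ fun y => ⟨(hcmp y y.2).choose,
          hder _ (hcmp y y.2).choose_spec.1 (hcmp y y.2).choose_spec.2.1⟩
      have hf : Function.Injective f := by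
        rintro (_ | y) (_ | y') h
        · rfl
        · refine absurd ?_ hzN
          have h' := congrArg Subtype.val h
          simp only [f, Option.elim] at h'
          rw [h']
          exact (hcmp y' y'.2).choose_spec.1
        · refine absurd ?_ hzN
          have h' := congrArg Subtype.val h
          simp only [f, Option.elim] at h'
          rw [← h']
          exact (hcmp y y.2).choose_spec.1
        · have h' := congrArg Subtype.val h
          simp only [f, Option.elim] at h'
          refine congrArg some (Subtype.ext ?_)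
          rw [← (hcmp y y.2).choose_spec.2.2, h', (hcmp y' y'.2).choose_spec.2.2]
      have hcard := Nat.card_le_card_of_injective f hf
      rw [Finite.card_option, hcompl] at hcard
      omega
  · -- all derangements lie in `N`
    push Not at hout
    have hsub : ∀ g : G, Cfsg.Agent.H68.Der Ω g → g ∈ N := fun g hg => by
      by_contra h
      exact hout g h hg
    have hle : Nat.card {x : G // Cfsg.Agent.H68.Der Ω x} ≤ Nat.card Ω - 1 := by
      rw [← hcompl]
      refine Nat.card_le_card_of_injective (fun x => ⟨(x : G) • α, x.2 α⟩) fun x y hxy => ?_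
      exact Subtype.ext (Cfsg.Agent.Perm.eq_of_smul_eq_of_free hstab (hsub x x.2) (hsub y y.2) α
        (congrArg Subtype.val hxy))
    have hfix := hiff.mp hle
    obtain ⟨c₁, c₂, hne, huniv⟩ := Nat.card_eq_two_iff.mp hκ
    obtain ⟨g₁, hg₁, hd₁⟩ := c₁.2
    obtain ⟨g₂, hg₂, hd₂⟩ := c₂.2
    have hnc : ¬ IsConj g₁ g₂ := by
      intro h
      refine hne (Subtype.ext ?_)
      rw [← hg₁, ← hg₂, ConjClasses.mk_eq_mk_iff_isConj]
      exact h
    have hm : ∀ i : Bool, (cond i g₁ g₂) • α ≠ α := fun i => by cases i <;> simp [hd₁ α, hd₂ α]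
    let f : MulAction.stabilizer G α × Bool → {y : Ω // y ≠ α} := fun p =>
      ⟨(p.1 : G) • (cond p.2 g₁ g₂) • α, fun h => hm p.2 (smul_left_cancel (p.1 : G)
        (h.trans p.1.2.symm))⟩
    have hbij : Function.Bijective f := by
      constructor
      · rintro ⟨h, i⟩ ⟨k, j⟩ he
        have he' : (h : G) • (cond i g₁ g₂) • α = (k : G) • (cond j g₁ g₂) • α :=
          congrArg Subtype.val he
        rw [Cfsg.Agent.Perm.smul_conj_smul h.2, Cfsg.Agent.Perm.smul_conj_smul k.2] at he'
        have hmemN : ∀ i : Bool, cond i g₁ g₂ ∈ N := fun i => by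
          cases i
          · exact hsub g₂ hd₂
          · exact hsub g₁ hd₁
        have he2 := Cfsg.Agent.Perm.eq_of_smul_eq_of_free hstab
          (hN.conj_mem _ (hmemN i) _) (hN.conj_mem _ (hmemN j) _) α he'
        have hij : i = j := by
          by_contra hij
          refine hnc ?_
          cases i <;> cases j <;> simp only [not_true_eq_false, cond] at hij he2
          · exact (IsConj.trans (isConj_iff.mpr ⟨(k : G), rfl⟩)
              (he2 ▸ (isConj_iff.mpr ⟨(h : G), rfl⟩).symm))
          · exact IsConj.trans (isConj_iff.mpr ⟨(h : G), rfl⟩)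
              (he2.symm ▸ (isConj_iff.mpr ⟨(k : G), rfl⟩).symm)
        subst hij
        refine Prod.ext (Subtype.ext ?_) rfl
        by_contra hne'
        set q := cond i g₁ g₂
        have hq : ((k : G)⁻¹ * h) • q • α = q • α := by
          rw [mul_smul, Cfsg.Agent.Perm.smul_conj_smul h.2, he2,
            ← Cfsg.Agent.Perm.smul_conj_smul k.2, inv_smul_smul]
        have hne2 : (k : G)⁻¹ * h ≠ 1 := fun h' => hne' (inv_mul_eq_one.mp h').symm
        have := Finite.card_le_one_iff_subsingleton.mp (hfix _ hne2)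
        refine hm i (congrArg Subtype.val (Subsingleton.elim
          (⟨q • α, hq⟩ : MulAction.fixedBy Ω ((k : G)⁻¹ * h))
          ⟨α, (mul_mem (inv_mem k.2) h.2 : _ ∈ MulAction.stabilizer G α)⟩))
      · rintro ⟨y, hy⟩
        obtain ⟨n, hn, hn1, rfl⟩ := hcmp y hy
        have hcn : (⟨_, n, rfl, hder n hn hn1⟩ : {c : ConjClasses G // ∃ g : G,
            ConjClasses.mk g = c ∧ ∀ ω : Ω, g • ω ≠ ω}) ∈ ({c₁, c₂} : Set _) :=
          huniv ▸ Set.mem_univ _
        rcases hcn with h | h
        · have h' := congrArg Subtype.val h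
          rw [← hg₁, ConjClasses.mk_eq_mk_iff_isConj] at h'
          obtain ⟨k, hk, hke⟩ := hstep g₁ (hsub g₁ hd₁) n hn h'.symm
          exact ⟨(⟨k, hk⟩, true), Subtype.ext hke⟩
        · have h' := congrArg Subtype.val (Set.mem_singleton_iff.mp h)
          rw [← hg₂, ConjClasses.mk_eq_mk_iff_isConj] at h'
          obtain ⟨k, hk, hke⟩ := hstep g₂ (hsub g₂ hd₂) n hn h'.symm
          exact ⟨(⟨k, hk⟩, false), Subtype.ext hke⟩
    have hcard := Nat.card_eq_of_bijective f hbij
    rw [Nat.card_prod, hcompl, Nat.card_eq_fintype_card (α := Bool), Fintype.card_bool] at hcard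
    rw [← Nat.card_eq_fintype_card]
    exact Or.inl ⟨haff, hfix, by omega, by omega⟩

end Cfsg.Agent.S3520
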