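import Cfsg.Statements.S3532
import Cfsg.Agent.H68.FrobeniusField

set_option autoImplicit false
open Cfsg Cfsg.Agent.H68.FrobField

namespace Cfsg.Agent.S3532

/-- Let q ≥ 4 be a prime power and L = PSL(2,q). There is a finite solvable group with the same set of element orders as L × L (so L × L is not determined by its spectrum). -/
theorem result {F : Type*} [Field F] [Fintype F] (hF : 4 ≤ Fintype.card F) :
    ∃ (H : Type) (_ : Group H) (_ : Finite H), Group.IsSolvable H ∧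
      Set.range (orderOf : H → ℕ) = Set.range (orderOf : Matrix.ProjectiveSpecialLinearGroup (Fin 2) F × Matrix.ProjectiveSpecialLinearGroup (Fin 2) F → ℕ) := by
  obtain ⟨p, hchar⟩ := CharP.exists F
  obtain ⟨n, hp, hq⟩ := FiniteField.card F p
  have : Fact p.Prime := ⟨hp⟩
  set q := Fintype.card F with hqdef
  have hd2 : Nat.gcd 2 (q - 1) ∣ q + 1 :=
    Cfsg.Agent.Linear.Dickson.gcd_dvd_add_one q (by omega)
  set A := (q - 1) / Nat.gcd 2 (q - 1) with hA
  set B := (q + 1) / Nat.gcd 2 (q - 1) with hB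
  have exU : ∀ (k m : ℕ), k ≠ 0 → m ∣ p ^ k - 1 →
      ∃ U : Subgroup (GaloisField p k)ˣ, Nat.card U = m := by
    intro k m hk hm
    obtain ⟨g, hg⟩ := IsCyclic.exists_ofOrder_eq_natCard (α := (GaloisField p k)ˣ)
    rw [Nat.card_units, GaloisField.card p k hk] at hg
    refine ⟨Subgroup.zpowers (g ^ (orderOf g / m)), ?_⟩
    rw [Nat.card_zpowers]
    exact orderOf_pow_orderOf_div (orderOf_pos g).ne' (hg ▸ hm)
  obtain ⟨U, hU⟩ := exU n A n.ne_zero (by
    rw [← hq, hA]; exact Nat.div_dvd_of_dvd (Nat.gcd_dvd_right 2 _))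
  obtain ⟨V, hV⟩ := exU (2 * (n : ℕ)) B (by have := n.ne_zero; omega) (by
    have h : p ^ (2 * (n : ℕ)) - 1 = (q + 1) * (q - 1) := by
      rw [hq, ← Nat.sq_sub_sq, one_pow, ← pow_mul, mul_comm 2]
    rw [h, hB]
    exact (Nat.div_dvd_of_dvd hd2).trans (dvd_mul_right _ _))
  have fU : Finite (Grp U) := Finite.of_equiv _ SemidirectProduct.equivProd.symm
  have fV : Finite (Grp V) := Finite.of_equiv _ SemidirectProduct.equivProd.symm
  have := Cfsg.Agent.H68.FrobField.isSolvable U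
  have := Cfsg.Agent.H68.FrobField.isSolvable V
  refine ⟨Grp U × Grp V, inferInstance, inferInstance, inferInstance, ?_⟩
  rw [range_orderOf_prod, range_orderOf_prod, range_orderOf p U, range_orderOf p V,
    range_orderOf_psl p hF, hU, hV, ← hqdef, ← hA, ← hB]
  ext m
  simp only [Set.mem_setOf_eq]
  constructor
  · rintro ⟨a, ha, b, hb, rfl⟩
    refine ⟨a, ?_, b, ?_, rfl⟩
    · exact ha.elim Or.inl fun h => Or.inr (Or.inl h)
    · exact hb.elim Or.inl fun h => Or.inr (Or.inr h)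
  · rintro ⟨a, ha, b, hb, rfl⟩
    rcases ha with ha | ha | ha <;> rcases hb with hb | hb | hb
    · exact ⟨a.lcm b, Or.inl (Nat.lcm_dvd ha hb), 1, Or.inl (one_dvd _), Nat.lcm_one_right _⟩
    · exact ⟨b, Or.inr hb, a, Or.inl ha, Nat.lcm_comm _ _⟩
    · exact ⟨a, Or.inl ha, b, Or.inr hb, rfl⟩
    · exact ⟨a, Or.inr ha, b, Or.inl hb, rfl⟩
    · exact ⟨a.lcm b, Or.inr (Nat.lcm_dvd ha hb), 1, Or.inl (one_dvd _), Nat.lcm_one_right _⟩
    · exact ⟨a, Or.inr ha, b, Or.inr hb, rfl⟩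
    · exact ⟨b, Or.inl hb, a, Or.inr ha, Nat.lcm_comm _ _⟩
    · exact ⟨b, Or.inr hb, a, Or.inr ha, Nat.lcm_comm _ _⟩
    · exact ⟨1, Or.inl (one_dvd _), a.lcm b, Or.inr (Nat.lcm_dvd ha hb), Nat.lcm_one_left _⟩

end Cfsg.Agent.S3532
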