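import Cfsg.Statements.S3554
-- import your own Cfsg.Agent.* helpers here

set_option autoImplicit false
open Cfsg

namespace Cfsg.Agent.S3554

/-- Let G act faithfully and transitively on a finite set and suppose G has a non-trivial cyclic normal subgroup. Then some element of G of prime order fixes no point. -/
theorem result {G Ω : Type*} [Group G] [Finite G] [MulAction G Ω] [FaithfulSMul G Ω] [Finite Ω]
    (htrans : MulAction.IsPretransitive G Ω) (C : Subgroup G) (hC : C.Normal) (hC1 : C ≠ ⊥) (hcyc : IsCyclic ↥C) :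
    ∃ g : G, (orderOf g).Prime ∧ ∀ ω : Ω, g • ω ≠ ω := by
  classical
  have hnt : Nontrivial C := (Subgroup.nontrivial_iff_ne_bot C).mpr hC1
  set p := (Nat.card C).minFac
  have hp : p.Prime := Nat.minFac_prime Finite.one_lt_card.ne'
  have := Fact.mk hp
  obtain ⟨c, hc⟩ := exists_prime_orderOf_dvd_card' p (Nat.minFac_dvd (Nat.card C))
  refine ⟨c, by rw [Subgroup.orderOf_coe, hc]; exact hp, fun ω hω => ?_⟩
  -- `⟨c⟩` is normal
  have hconj : ∀ g : G, g * (c : G) * g⁻¹ ∈ Subgroup.zpowers (c : G) := by
    intro g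
    have hmem : g * (c : G) * g⁻¹ ∈ C := hC.conj_mem _ c.2 g
    have hord : orderOf (⟨_, hmem⟩ : C) = orderOf c := by
      rw [← Subgroup.orderOf_coe, ← Subgroup.orderOf_coe]
      exact orderOf_injective (MulAut.conj g).toMonoidHom (MulAut.conj g).injective _
    have h1 : (⟨_, hmem⟩ : C) ∈ Subgroup.zpowers c := by
      have : Fintype C := Fintype.ofFinite C
      have hsub : (Subgroup.zpowers c : Set C).toFinset ⊆ ({x : C | x ^ p = 1} : Finset C) := by
        intro x hx
        simp only [Set.mem_toFinset, SetLike.mem_coe] at hx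
        simp only [Finset.mem_filter, Finset.mem_univ, true_and]
        exact orderOf_dvd_iff_pow_eq_one.mp (hc ▸ orderOf_dvd_of_mem_zpowers hx)
      have heq : (Subgroup.zpowers c : Set C).toFinset = ({x : C | x ^ p = 1} : Finset C) := by
        refine Finset.eq_of_subset_of_card_le hsub ((IsCyclic.card_pow_eq_one_le hp.pos).trans ?_)
        rw [Set.toFinset_card, ← Nat.card_eq_fintype_card]
        exact le_of_eq ((Nat.card_zpowers c).trans hc).symm
      have hx : (⟨_, hmem⟩ : C) ∈ ({x : C | x ^ p = 1} : Finset C) := by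
        simp only [Finset.mem_filter, Finset.mem_univ, true_and]
        exact orderOf_dvd_iff_pow_eq_one.mp ((hord.trans hc) ▸ dvd_refl _)
      rw [← heq, Set.mem_toFinset] at hx
      exact hx
    obtain ⟨k, hk⟩ := Subgroup.mem_zpowers_iff.mp h1
    exact Subgroup.mem_zpowers_iff.mpr ⟨k, by simpa using congrArg Subtype.val hk⟩
  have hall : ∀ x : Ω, (c : G) • x = x := by
    intro x
    obtain ⟨g, rfl⟩ := htrans.exists_smul_eq ω x
    have hmem : g⁻¹ * (c : G) * g⁻¹⁻¹ ∈ MulAction.stabilizer G ω :=
      (Subgroup.zpowers_le.mpr (MulAction.mem_stabilizer_iff.mpr hω)) (hconj g⁻¹)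
    rw [MulAction.mem_stabilizer_iff, inv_inv, mul_smul, mul_smul, inv_smul_eq_iff] at hmem
    exact hmem
  have h1 : (c : G) = 1 := FaithfulSMul.eq_of_smul_eq_smul fun x : Ω => by rw [hall x, one_smul]
  rw [← Subgroup.orderOf_coe, h1, orderOf_one] at hc
  exact hp.one_lt.ne hc

end Cfsg.Agent.S3554
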