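import Cfsg.Statements.S3555


set_option autoImplicit false
open Cfsg

namespace Cfsg.Agent.S3555
open MulAction
open scoped Pointwise

variable {G Ω : Type*} [Group G] [MulAction G Ω]

/-- Equality in the Cameron–Cohen bound: a non-derangement other than `1` fixes exactly one point, and
each ordered pair is joined by exactly one derangement. -/
theorem sharp [Finite G] [Finite Ω] [IsPretransitive G Ω] [FaithfulSMul G Ω]
    (hinv : ∀ g : G, (∀ ω : Ω, g • ω ≠ ω) → orderOf g = 2) :
    (∀ g : G, g ≠ 1 → ∀ a b : Ω, g • a = a → g • b = b → a = b) ∧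
    (∀ a b : Ω, a ≠ b → ∃ g : G, (∀ ω : Ω, g • ω ≠ ω) ∧ g • a = b) := by
  classical
  cases nonempty_fintype G
  cases nonempty_fintype Ω
  by_cases hn : Fintype.card Ω ≤ 1
  · exact ⟨fun g _ a b _ _ => (Fintype.card_le_one_iff.1 hn a b),
      fun a b h => absurd (Fintype.card_le_one_iff.1 hn a b) h⟩
  let f : G → ℤ := fun g => ((Finset.univ.filter fun ω : Ω => g • ω = ω).card : ℤ)
  let n : ℤ := Fintype.card Ω
  let Dr : Finset G := Finset.univ.filter fun g => ∀ ω : Ω, g • ω ≠ ω
  -- the pairs fixed by elements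
  let F : Ω → Ω → ℕ := fun a b => (Finset.univ.filter fun g : G => g • a = a ∧ g • b = b).card
  let E : Ω → Ω → ℕ := fun a b => (Dr.filter fun g => g • a = b).card
  have hEF : ∀ a b, a ≠ b → E a b ≤ F a b := by
    intro a b hab
    rcases (Dr.filter fun g => g • a = b).eq_empty_or_nonempty with h | ⟨x, hx⟩
    · simp [E, h]
    obtain ⟨hxD, hxa⟩ := Finset.mem_filter.1 hx
    have hsw : ∀ g, g ∈ Dr.filter (fun g => g • a = b) → g • a = b ∧ g • b = a := by
      intro g hg
      obtain ⟨hgD, hga⟩ := Finset.mem_filter.1 hg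
      refine ⟨hga, ?_⟩
      have h2 := hinv g (Finset.mem_filter.1 hgD).2
      rw [← hga, ← mul_smul, ← pow_two, ← h2, pow_orderOf_eq_one, one_smul]
    refine Finset.card_le_card_of_injOn (fun g => x⁻¹ * g) ?_ (fun u _ v _ h => mul_left_cancel h)
    intro g hg
    simp only [Finset.coe_filter, Finset.mem_univ, true_and, Set.mem_ofPred_eq]
    obtain ⟨h1, h2⟩ := hsw g hg
    obtain ⟨h3, h4⟩ := hsw x hx
    constructor
    · rw [mul_smul, h1, inv_smul_eq_iff, h3]
    · rw [mul_smul, h2, inv_smul_eq_iff, h4]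
  have hsumf : ∑ g : G, f g = Fintype.card G := by
    have h := sum_card_fixedBy_eq_card_orbits_mul_card_group G Ω
    have hsub : Subsingleton (orbitRel.Quotient G Ω) :=
      (pretransitive_iff_subsingleton_quotient G Ω).1 inferInstance
    haveI : Nonempty Ω := Fintype.card_pos_iff.1 (by omega)
    haveI : Nonempty (orbitRel.Quotient G Ω) := ⟨Quotient.mk'' (Classical.arbitrary Ω)⟩
    rw [show Fintype.card (orbitRel.Quotient G Ω) = 1 from
      le_antisymm (Fintype.card_le_one_iff_subsingleton.2 hsub) Fintype.card_pos, one_mul] at h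
    rw [← h, Nat.cast_sum]
    refine Finset.sum_congr rfl fun g _ => ?_
    simp only [f, Nat.cast_inj]
    rw [Fintype.card_subtype]
    rfl
  -- ordered pairs of distinct fixed points
  have hpairs : ∑ a : Ω, ∑ b ∈ Finset.univ.erase a, (F a b : ℤ) = ∑ g : G, f g * (f g - 1) := by
    have h1 : ∀ g : G, f g * (f g - 1) =
        ∑ a : Ω, ∑ b ∈ Finset.univ.erase a, if g • a = a ∧ g • b = b then (1 : ℤ) else 0 := by
      intro g
      have h2 : ∀ a : Ω, (∑ b ∈ Finset.univ.erase a, if g • a = a ∧ g • b = b then (1 : ℤ) else 0) =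
          if g • a = a then f g - 1 else 0 := by
        intro a
        by_cases ha : g • a = a
        · rw [if_pos ha, Finset.sum_erase_eq_sub (Finset.mem_univ a)]
          simp [ha, f]
        · simp [ha]
      simp only [h2, ← Finset.sum_filter, Finset.sum_const, nsmul_eq_mul]
      rfl
    simp only [h1]
    rw [Finset.sum_comm (s := (Finset.univ : Finset G))]
    refine Finset.sum_congr rfl fun a _ => ?_
    rw [Finset.sum_comm]
    refine Finset.sum_congr rfl fun b _ => ?_
    simp [F]
  have hD : ∑ a : Ω, ∑ b ∈ Finset.univ.erase a, (E a b : ℤ) = n * Dr.card := by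
    have h1 : ∀ a : Ω, ∑ b ∈ Finset.univ.erase a, E a b = Dr.card := by
      intro a
      rw [eq_comm]
      refine Finset.card_eq_sum_card_fiberwise fun g hg => Finset.mem_erase.2 ⟨?_, Finset.mem_univ _⟩
      exact (Finset.mem_filter.1 hg).2 a
    simp only [← Nat.cast_sum, h1]
    simp [n]
  -- the non-negative terms
  let φ : G → ℤ := fun g => if g ∈ Dr then 0 else (f g - 1) * (n - f g)
  have hφ : ∀ g, 0 ≤ φ g := by
    intro g
    simp only [φ]
    split_ifs with h
    · exact le_rfl
    · have h' : ∃ ω : Ω, g • ω = ω := by simpa [Dr] using h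
      obtain ⟨ω, hω⟩ := h'
      refine mul_nonneg ?_ ?_
      · have : 0 < (Finset.univ.filter fun ω : Ω => g • ω = ω).card :=
          Finset.card_pos.2 ⟨ω, by simp [hω]⟩
        simp only [f]; omega
      · have := Finset.card_filter_le (Finset.univ : Finset Ω) (fun ω : Ω => g • ω = ω)
        simp only [f, n, ← Finset.card_univ]; omega
  have hid : ∑ g : G, φ g = n * Dr.card - ∑ g : G, f g * (f g - 1) := by
    have h1 : ∀ g : G, φ g = (if g ∈ Dr then n else 0) + n * f g - n - f g * (f g - 1) := by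
      intro g
      simp only [φ]
      split_ifs with h
      · have h0 : f g = 0 := by
          have := (Finset.mem_filter.1 h).2
          simp [f, this]
        rw [h0]; ring
      · ring
    simp only [h1, Finset.sum_sub_distrib, Finset.sum_add_distrib, ← Finset.mul_sum, hsumf]
    simp [Finset.sum_ite_mem]
    ring
  have hle : ∑ a : Ω, ∑ b ∈ Finset.univ.erase a, (E a b : ℤ) ≤
      ∑ a : Ω, ∑ b ∈ Finset.univ.erase a, (F a b : ℤ) :=
    Finset.sum_le_sum fun a _ => Finset.sum_le_sum fun b hb =>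
      by exact_mod_cast hEF a b (Finset.mem_erase.1 hb).1.symm
  have hsum0 : ∑ g : G, φ g = 0 := by
    refine le_antisymm ?_ (Finset.sum_nonneg fun g _ => hφ g)
    rw [hid, ← hpairs, ← hD]
    linarith
  have hzero : ∀ g, φ g = 0 := fun g =>
    (Finset.sum_eq_zero_iff_of_nonneg fun g _ => hφ g).1 hsum0 g (Finset.mem_univ g)
  have hone : ∀ g : G, g ≠ 1 → ∀ a b : Ω, g • a = a → g • b = b → a = b := by
    intro g hg a b ha hb
    have h := hzero g
    have hgD : g ∉ Dr := fun h' => (Finset.mem_filter.1 h').2 a ha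
    simp only [φ, if_neg hgD, mul_eq_zero] at h
    rcases h with h | h
    · have h1 : (Finset.univ.filter fun ω : Ω => g • ω = ω).card = 1 := by
        simp only [f] at h; omega
      exact Finset.card_le_one.1 h1.le a (by simp [ha]) b (by simp [hb])
    · exfalso
      have h1 : (Finset.univ.filter fun ω : Ω => g • ω = ω) = Finset.univ := by
        apply Finset.eq_univ_of_card
        simp only [f, n] at h; omega
      apply hg
      refine eq_of_smul_eq_smul fun ω : Ω => ?_
      have h2 := Finset.mem_univ ω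
      rw [← h1] at h2
      simpa using (Finset.mem_filter.1 h2).2
  refine ⟨hone, fun a b hab => ?_⟩
  have htot : ∑ a : Ω, ∑ b ∈ Finset.univ.erase a, ((F a b : ℤ) - E a b) = 0 := by
    simp only [Finset.sum_sub_distrib, hpairs, hD]
    linarith [hid, hsum0]
  have hnn : ∀ a : Ω, 0 ≤ ∑ b ∈ Finset.univ.erase a, ((F a b : ℤ) - E a b) := fun a =>
    Finset.sum_nonneg fun b hb => by
      have := hEF a b (Finset.mem_erase.1 hb).1.symm
      omega
  have h1 := (Finset.sum_eq_zero_iff_of_nonneg fun a _ => hnn a).1 htot a (Finset.mem_univ a)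
  have h2 := (Finset.sum_eq_zero_iff_of_nonneg (fun c hc => by
      have := hEF a c (Finset.mem_erase.1 hc).1.symm
      omega)).1 h1 b (Finset.mem_erase.2 ⟨hab.symm, Finset.mem_univ b⟩)
  have h3 : 0 < F a b := Finset.card_pos.2 ⟨1, by simp⟩
  obtain ⟨g, hg⟩ := Finset.card_pos.1 (show 0 < E a b by omega)
  obtain ⟨hgD, hga⟩ := Finset.mem_filter.1 hg
  exact ⟨g, (Finset.mem_filter.1 hgD).2, hga⟩


/-- Let G act faithfully and transitively on a finite set and suppose every element of G fixing no point is an involution. Then either G is an elementary abelian 2-group, or G is a Frobenius group whose Frobenius kernel is an elementary abelian 2-group: G has a Frobenius complement H, and the elements lying in no conjugate of H, together with the identity, pairwise commute and square to the identity. -/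
theorem result {G Ω : Type*} [Group G] [Finite G] [MulAction G Ω] [FaithfulSMul G Ω] [Finite Ω]
    (htrans : MulAction.IsPretransitive G Ω) (hinv : ∀ g : G, (∀ ω : Ω, g • ω ≠ ω) → orderOf g = 2) :
    (IsMulCommutative G ∧ ∀ g : G, g ^ 2 = 1) ∨
    (∃ H : Subgroup G, Cfsg.IsFrobeniusComplement H ∧
      (∀ x ∈ Cfsg.frobeniusKernel H, x ^ 2 = 1) ∧
      ∀ x ∈ Cfsg.frobeniusKernel H, ∀ y ∈ Cfsg.frobeniusKernel H, x * y = y * x) := by
  classical
  obtain ⟨hone, hconn⟩ := sharp (G := G) (Ω := Ω) hinv
  -- derangements together with 1 are closed under multiplication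
  have hsq : ∀ x : G, (∀ ω : Ω, x • ω ≠ ω) → x ^ 2 = 1 := fun x hx => by
    rw [← hinv x hx, pow_orderOf_eq_one]
  have hinvol : ∀ x : G, (∀ ω : Ω, x • ω ≠ ω) → x⁻¹ = x := fun x hx =>
    inv_eq_of_mul_eq_one_left (by rw [← pow_two, hsq x hx])
  have hmul : ∀ x y : G, (∀ ω : Ω, x • ω ≠ ω) → (∀ ω : Ω, y • ω ≠ ω) →
      x = y ∨ ∀ ω : Ω, (x * y) • ω ≠ ω := by
    intro x y hx hy
    by_cases hf : ∀ ω : Ω, (x * y) • ω ≠ ω
    · exact Or.inr hf
    left
    simp only [not_forall, not_not] at hf
    obtain ⟨c, hc⟩ := hf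
    rw [mul_smul] at hc
    have hx' : x • c = y • c := by
      conv_lhs => rw [← hc, ← mul_smul, ← pow_two, hsq x hx, one_smul]
    by_contra hxy
    have h1 : (x * y) • c = c := by rw [mul_smul]; exact hc
    have h2 : (x * y) • (x • c) = x • c := by
      rw [mul_smul, hx', ← mul_smul y y, ← pow_two, hsq y hy, one_smul, hx']
    have hne : x * y ≠ 1 := fun h => hxy (by rw [eq_inv_of_mul_eq_one_left h, hinvol y hy])
    exact hx c (hone _ hne _ _ h1 h2).symm
  have hK : ∀ x y : G, (x = 1 ∨ ∀ ω : Ω, x • ω ≠ ω) → (y = 1 ∨ ∀ ω : Ω, y • ω ≠ ω) → x * y = y * x := by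
    rintro x y (rfl | hx) (rfl | hy) <;> try simp
    rcases hmul x y hx hy with rfl | hxy
    · rfl
    · calc x * y = (x * y)⁻¹ := (hinvol _ hxy).symm
        _ = y * x := by rw [mul_inv_rev, hinvol x hx, hinvol y hy]
  by_cases hfree : ∀ g : G, g ≠ 1 → ∀ ω : Ω, g • ω ≠ ω
  · left
    have hcase : ∀ g : G, g = 1 ∨ ∀ ω : Ω, g • ω ≠ ω := fun g => by
      by_cases h : g = 1
      · exact Or.inl h
      · exact Or.inr (hfree g h)
    refine ⟨⟨⟨fun x y => hK x y (hcase x) (hcase y)⟩⟩, fun g => ?_⟩
    rcases hcase g with rfl | h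
    · exact one_pow 2
    · exact hsq g h
  right
  simp only [not_forall, not_not] at hfree
  obtain ⟨h₀, hh₀, a, ha⟩ := hfree
  have hconj : ∀ x g : G, x ∈ MulAut.conj g • stabilizer G a ↔ x • g • a = g • a := by
    intro x g
    rw [Subgroup.mem_pointwise_smul_iff_inv_smul_mem, MulAut.smul_def, mem_stabilizer_iff]
    simp only [MulAut.inv_apply, MulAut.conj_symm_apply]
    rw [mul_smul, mul_smul, inv_smul_eq_iff]
  refine ⟨stabilizer G a, ⟨?_, ?_, fun g hg => ?_⟩, fun x hx => ?_, fun x hx y hy => ?_⟩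
  · intro h
    apply hh₀
    have : h₀ ∈ stabilizer G a := ha
    rwa [h, Subgroup.mem_bot] at this
  · intro h
    apply hh₀
    refine eq_of_smul_eq_smul fun ω : Ω => ?_
    obtain ⟨g, rfl⟩ := exists_smul_eq G a ω
    have hg : g ∈ stabilizer G a := h ▸ Subgroup.mem_top g
    rw [mem_stabilizer_iff] at hg
    rw [hg, ha, one_smul]
  · rw [Subgroup.eq_bot_iff_forall]
    rintro x ⟨hx1, hx2⟩
    by_contra hx
    exact hg (hone x hx a (g • a) hx1 ((hconj x g).1 hx2)).symm
  all_goals
    have hmem : ∀ z ∈ Cfsg.frobeniusKernel (stabilizer G a), z = 1 ∨ ∀ ω : Ω, z • ω ≠ ω := by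
      rintro z (rfl | hz)
      · exact Or.inl rfl
      · refine Or.inr fun ω hω => ?_
        obtain ⟨g, rfl⟩ := exists_smul_eq G a ω
        exact hz g ((hconj z g).2 hω)
  · rcases hmem x hx with rfl | h
    · exact one_pow 2
    · exact hsq x h
  · exact hK x y (hmem x hx) (hmem y hy)

end Cfsg.Agent.S3555
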