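import Cfsg.Statements.S3556
import Cfsg.Agent.H69.Basic

set_option autoImplicit false
open Cfsg Cfsg.Agent.H69

namespace Cfsg.Agent.S3556

open MulAction

variable {G : Type*} [Group G]

theorem isPGroup_of_derangements [Finite G] {Ω : Type*} [MulAction G Ω] {p : ℕ}
    (hder : ∀ g : G, (∀ ω : Ω, g • ω ≠ ω) → ∃ k : ℕ, orderOf g = p ^ k)
    (T : Subgroup G) (hT : ∀ t ∈ T, t ≠ 1 → ∀ ω : Ω, t • ω ≠ ω) : IsPGroup p T := by
  intro t
  by_cases h : t = 1
  · exact ⟨0, by simp [h]⟩
  obtain ⟨k, hk⟩ := hder t (hT t t.2 (by simpa using h))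
  refine ⟨k, ?_⟩
  ext
  simpa [hk] using pow_orderOf_eq_one (t : G)

/-- The core of the argument: a nonabelian minimal normal subgroup is simple. -/
theorem simple_of_nonabelian {Ω : Type*} [Finite G] [MulAction G Ω] [FaithfulSMul G Ω]
    {p : ℕ} [Fact p.Prime]
    (hder : ∀ g : G, (∀ ω : Ω, g • ω ≠ ω) → ∃ k : ℕ, orderOf g = p ^ k)
    (N : Subgroup G) [hN : N.Normal]
    (hmin : ∀ M : Subgroup G, M.Normal → M ≠ ⊥ → M ≤ N → M = N)
    (hnc : ¬ (N : Subgroup G) ≤ Subgroup.centralizer (N : Set G))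
    (htr : ∀ a b : Ω, ∃ n ∈ N, n • a = b) (a : Ω) :
    ∀ T : Subgroup G, T ≤ N → T ≠ ⊥ → N ≤ Subgroup.normalizer (T : Set G) → T = N := by
  classical
  let S : Set (Subgroup G) := {T | T ≤ N ∧ T ≠ ⊥ ∧ N ≤ Subgroup.normalizer (T : Set G)}
  intro T₀ hT₀ hT₀1 hT₀n
  by_contra hT₀N
  obtain ⟨T, hTT₀, hT⟩ := Finite.exists_le_minimal (p := fun T => T ∈ S) (a := T₀) ⟨hT₀, hT₀1, hT₀n⟩
  obtain ⟨hTN, hT1, hTn⟩ := hT.prop
  have hTmin : ∀ U ∈ S, U ≤ T → U = T := fun U hU hle => le_antisymm hle (hT.le_of_le hU hle)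
  have hTne : T ≠ N := fun h => hT₀N (le_antisymm hT₀ (h ▸ hTT₀))
  let c : G → Subgroup G := fun g => T.comap (MulAut.conj g⁻¹).toMonoidHom
  have mem_c : ∀ g x, x ∈ c g ↔ g⁻¹ * x * g ∈ T := by
    intro g x
    simp [c, Subgroup.mem_comap]
  have normN : ∀ n ∈ N, ∀ x, x ∈ T → n * x * n⁻¹ ∈ T := fun n hn x hx =>
    (Subgroup.mem_normalizer_iff.1 (hTn hn) x).1 hx
  have cN : ∀ g, c g ≤ N := by
    intro g x hx
    have := hN.conj_mem _ (hTN ((mem_c g x).1 hx)) g
    simpa [mul_assoc] using this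
  have cn : ∀ g, ∀ n ∈ N, ∀ x ∈ c g, n * x * n⁻¹ ∈ c g := by
    intro g n hn x hx
    rw [mem_c]
    have h1 : g⁻¹ * n * g ∈ N := by simpa using hN.conj_mem n hn g⁻¹
    have := normN _ h1 _ ((mem_c g x).1 hx)
    simpa [mul_assoc] using this
  have ctriv : ∀ g, c g ≠ T → T ⊓ c g = ⊥ := by
    intro g hg
    by_contra h
    have hmem : T ⊓ c g ∈ S := by
      refine ⟨inf_le_left.trans hTN, h, fun n hn => ?_⟩
      rw [Subgroup.mem_normalizer_iff]
      intro x
      constructor
      · exact fun hx => ⟨normN n hn x hx.1, cn g n hn x hx.2⟩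
      · intro hx
        have h2 : n⁻¹ ∈ N := N.inv_mem hn
        refine ⟨?_, ?_⟩
        · simpa [mul_assoc] using normN _ h2 _ hx.1
        · simpa [mul_assoc] using cn g _ h2 _ hx.2
    have hle : T ≤ c g := by
      conv_lhs => rw [← hTmin _ hmem inf_le_left]
      exact inf_le_right
    have hcard : Nat.card (c g) = Nat.card T :=
      Nat.card_congr ((MulAut.conj g⁻¹).toEquiv.subtypeEquiv fun x => by rfl)
    exact hg (Subgroup.eq_of_le_of_card_ge hle hcard.le).symm
  have comm : ∀ g, c g ≠ T → ∀ t ∈ T, ∀ x ∈ c g, t * x = x * t := by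
    intro g hg t ht x hx
    have h : t * x * t⁻¹ * x⁻¹ ∈ T ⊓ c g := by
      refine ⟨?_, ?_⟩
      · have := normN x (cN g hx) _ (T.inv_mem ht)
        simpa [mul_assoc] using T.mul_mem ht this
      · exact (c g).mul_mem (cn g t (hTN ht) x hx) ((c g).inv_mem hx)
    rw [ctriv g hg, Subgroup.mem_bot] at h
    have h2 : t * x * t⁻¹ = x := mul_inv_eq_one.1 h
    calc t * x = t * x * t⁻¹ * t := by group
      _ = x * t := by rw [h2]
  let C : Subgroup G := ⨆ g : {g : G // c g ≠ T}, c g
  have hCN : C ≤ N := iSup_le fun g => cN g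
  have hTC : ∀ t ∈ T, ∀ x ∈ C, t * x = x * t := by
    intro t ht
    have : C ≤ Subgroup.centralizer ({t} : Set G) := iSup_le fun g x hx => by
      rw [Subgroup.mem_centralizer_singleton_iff]
      exact (comm g g.2 t ht x hx).symm
    intro x hx
    exact (Subgroup.mem_centralizer_singleton_iff.1 (this hx)).symm
  have hjoin : (⨆ g, c g) = N := by
    refine hmin _ ⟨?_⟩ ?_ (iSup_le cN)
    · intro x hx h
      have : (⨆ g, c g) ≤ (⨆ g, c g).comap (MulAut.conj h).toMonoidHom := iSup_le fun g y hy => by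
        refine Subgroup.mem_iSup_of_mem (h * g) ?_
        rw [mem_c]
        have := (mem_c g y).1 hy
        simpa [mul_assoc] using this
      exact this hx
    · intro h
      refine hT1 (le_bot_iff.1 ?_)
      rw [← h]
      refine le_trans ?_ (le_iSup c 1)
      intro x hx
      rw [mem_c]
      simpa using hx
  have hTCN : ∀ n ∈ N, ∃ t ∈ T, ∃ x ∈ C, n = t * x := by
    intro n hn
    have hle : N ≤ T ⊔ C := by
      rw [← hjoin]
      refine iSup_le fun g => ?_
      by_cases hg : c g = T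
      · exact hg ▸ le_sup_left
      · exact le_trans (le_iSup (fun g : {g : G // c g ≠ T} => c g) ⟨g, hg⟩) le_sup_right
    have hnorm : T ≤ Subgroup.normalizer (C : Set G) := fun t ht => by
      rw [Subgroup.mem_normalizer_iff]
      intro x
      constructor
      · intro hx
        rw [hTC t ht x hx]
        simpa using hx
      · intro hx
        have h2 := hTC t ht _ hx
        have : x = t * x * t⁻¹ := by
          have h4 : t * (t * x * t⁻¹) = t * x := h2.trans (by group)
          exact (mul_left_cancel h4).symm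
        exact this ▸ hx
    have h' := hle hn
    rw [← SetLike.mem_coe, Subgroup.coe_mul_of_left_le_normalizer_right _ _ hnorm] at h'
    obtain ⟨t, ht, x, hx, rfl⟩ := h'
    exact ⟨t, ht, x, hx, rfl⟩
  have hTZ : T ⊓ Subgroup.centralizer (T : Set G) = ⊥ := by
    by_contra h
    have hmem : T ⊓ Subgroup.centralizer (T : Set G) ∈ S := by
      refine ⟨inf_le_left.trans hTN, h, fun n hn => ?_⟩
      rw [Subgroup.mem_normalizer_iff]
      have key : ∀ n ∈ N, ∀ x ∈ T ⊓ Subgroup.centralizer (T : Set G),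
          n * x * n⁻¹ ∈ T ⊓ Subgroup.centralizer (T : Set G) := by
        intro n hn x hx
        refine ⟨normN n hn x hx.1, fun t ht => ?_⟩
        have := Subgroup.mem_centralizer_iff.1 hx.2 _ (normN n⁻¹ (N.inv_mem hn) t ht)
        calc t * (n * x * n⁻¹) = n * (n⁻¹ * t * n⁻¹⁻¹ * x) * n⁻¹ := by group
          _ = n * x * n⁻¹ * t := by rw [this]; group
      intro x
      refine ⟨key n hn x, fun hx => ?_⟩
      simpa [mul_assoc] using key n⁻¹ (N.inv_mem hn) _ hx
    have hTT : ∀ t ∈ T, ∀ x ∈ T, t * x = x * t := fun t ht x hx => by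
      have hx' : x ∈ T ⊓ Subgroup.centralizer (T : Set G) := by
        rw [hTmin _ hmem inf_le_left]; exact hx
      exact Subgroup.mem_centralizer_iff.1 hx'.2 t ht
    apply hnc
    intro n hn
    have hall : ∀ n ∈ N, ∀ t ∈ T, t * n = n * t := by
      intro n hn t ht
      obtain ⟨s, hs, x, hx, rfl⟩ := hTCN n hn
      rw [← mul_assoc, hTT t ht s hs, mul_assoc, hTC t ht x hx, mul_assoc]
    intro m hm
    have hle : N ≤ Subgroup.centralizer ({n} : Set G) := by
      rw [← hjoin]
      refine iSup_le fun g x hx => ?_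
      rw [Subgroup.mem_centralizer_singleton_iff]
      have h1 : g⁻¹ * n * g ∈ N := by simpa using hN.conj_mem n hn g⁻¹
      have h2 := hall _ h1 _ ((mem_c g x).1 hx)
      have h3 := congrArg (fun y => g * y * g⁻¹) h2
      simpa [mul_assoc] using h3
    exact Subgroup.mem_centralizer_singleton_iff.1 (hle hm)
  have hTCbot : ∀ x, x ∈ T → x ∈ C → x = 1 := by
    intro x hxT hxC
    have : x ∈ T ⊓ Subgroup.centralizer (T : Set G) := ⟨hxT, fun t ht => hTC t ht x hxC⟩
    rwa [hTZ, Subgroup.mem_bot] at this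
  have hTp : ¬ IsPGroup p T := fun h => inf_centralizer_ne_bot T hT1 h hTZ
  let R : Subgroup T :=
    { carrier := {t : T | ∃ x ∈ C, ((t : G) * x) • a = a}
      one_mem' := ⟨1, C.one_mem, by simp⟩
      mul_mem' := by
        rintro s t ⟨x, hx, hxs⟩ ⟨y, hy, hyt⟩
        refine ⟨x * y, C.mul_mem hx hy, ?_⟩
        have h : ((s * t : T) : G) * (x * y) = ((s : G) * x) * ((t : G) * y) := by
          calc ((s * t : T) : G) * (x * y) = (s : G) * ((t : G) * x) * y := by
                simp [mul_assoc]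
            _ = (s : G) * (x * (t : G)) * y := by rw [hTC t t.2 x hx]
            _ = ((s : G) * x) * ((t : G) * y) := by group
        rw [h, mul_smul, hyt, hxs]
      inv_mem' := by
        rintro t ⟨x, hx, hxt⟩
        refine ⟨x⁻¹, C.inv_mem hx, ?_⟩
        have h : ((t⁻¹ : T) : G) * x⁻¹ = ((t : G) * x)⁻¹ := by
          rw [hTC t t.2 x hx, mul_inv_rev]; simp
        rw [h, inv_smul_eq_iff, hxt] }
  by_cases hR : R = ⊤
  · have hfix : ∀ t ∈ T, t • a = a → t = 1 := by
      by_contra hc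
      simp only [not_forall] at hc
      obtain ⟨t, ht, hta, ht1⟩ := hc
      have hmem : T ⊓ stabilizer G a ∈ S := by
        have key : ∀ n ∈ N, ∀ x ∈ T ⊓ stabilizer G a, n * x * n⁻¹ ∈ T ⊓ stabilizer G a := by
          intro n hn x hx
          refine ⟨normN n hn x hx.1, ?_⟩
          obtain ⟨s, hs, y, hy, rfl⟩ := hTCN n hn
          obtain ⟨z, hz, hsz⟩ : (⟨s, hs⟩ : T) ∈ R := by rw [hR]; exact Subgroup.mem_top _
          have hyz : ∀ w ∈ C, w * x * w⁻¹ = x := fun w hw => by
            rw [← hTC x hx.1 w hw]; group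
          have : s * y * x * (s * y)⁻¹ = (s * z) * x * (s * z)⁻¹ := by
            calc s * y * x * (s * y)⁻¹ = s * (y * x * y⁻¹) * s⁻¹ := by group
              _ = s * (z * x * z⁻¹) * s⁻¹ := by rw [hyz y hy, hyz z hz]
              _ = (s * z) * x * (s * z)⁻¹ := by group
          rw [this]
          exact (stabilizer G a).mul_mem ((stabilizer G a).mul_mem hsz hx.2)
            ((stabilizer G a).inv_mem hsz)
        refine ⟨inf_le_left.trans hTN, ?_, fun n hn => ?_⟩
        · intro h
          exact ht1 (by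
            have : t ∈ T ⊓ stabilizer G a := ⟨ht, hta⟩
            rwa [h, Subgroup.mem_bot] at this)
        · rw [Subgroup.mem_normalizer_iff]
          intro x
          refine ⟨key n hn x, fun hx => ?_⟩
          simpa [mul_assoc] using key n⁻¹ (N.inv_mem hn) _ hx
      have hle : T ≤ stabilizer G a := by
        conv_lhs => rw [← hTmin _ hmem inf_le_left]
        exact inf_le_right
      apply hT1
      rw [Subgroup.eq_bot_iff_forall]
      intro s hs
      refine eq_of_smul_eq_smul fun b : Ω => ?_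
      obtain ⟨n, hn, rfl⟩ := htr a b
      have h2 : (n⁻¹ * s * n) • a = a := hle (by simpa using normN n⁻¹ (N.inv_mem hn) s hs)
      rw [mul_smul, mul_smul, inv_smul_eq_iff] at h2; rw [one_smul]
      exact h2
    refine hTp (isPGroup_of_derangements hder T fun t ht ht1 b hb => ht1 ?_)
    obtain ⟨n, hn, rfl⟩ := htr a b
    have h2 : n⁻¹ * t * n = 1 := hfix _ (by simpa using normN n⁻¹ (N.inv_mem hn) t ht)
      (by rw [mul_smul, mul_smul, hb, inv_smul_smul])
    calc t = n * (n⁻¹ * t * n) * n⁻¹ := by group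
      _ = 1 := by rw [h2]; group
  obtain ⟨d, hd⟩ := exists_not_conj_mem R hR
  have hder' : ∀ u ∈ C, ∀ b : Ω, ((d : G) * u) • b ≠ b := by
    intro u hu b hb
    obtain ⟨n, hn, rfl⟩ := htr a b
    obtain ⟨s, hs, y, hy, rfl⟩ := hTCN n hn
    apply hd ⟨s, hs⟩
    refine ⟨y⁻¹ * u * y, C.mul_mem (C.mul_mem (C.inv_mem hy) hu) hy, ?_⟩
    have hw : ((⟨s, hs⟩⁻¹ * d * ⟨s, hs⟩ : T) : G) * (y⁻¹ * u * y)
        = (s * y)⁻¹ * ((d : G) * u) * (s * y) := by
      have hw1 : s⁻¹ * (d : G) * s ∈ T := T.mul_mem (T.mul_mem (T.inv_mem hs) d.2) hs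
      have e1 := hTC _ hw1 y⁻¹ (C.inv_mem hy)
      have e2 := hTC s hs u hu
      calc ((⟨s, hs⟩⁻¹ * d * ⟨s, hs⟩ : T) : G) * (y⁻¹ * u * y)
          = (s⁻¹ * (d : G) * s * y⁻¹) * u * y := by simp [mul_assoc]
        _ = (y⁻¹ * (s⁻¹ * (d : G) * s)) * u * y := by rw [e1]
        _ = y⁻¹ * s⁻¹ * (d : G) * (s * u) * y := by group
        _ = y⁻¹ * s⁻¹ * (d : G) * (u * s) * y := by rw [e2]
        _ = _ := by group
    rw [hw, mul_smul, mul_smul, hb, inv_smul_smul]
  obtain ⟨k, hk⟩ : ∃ k, orderOf (d : G) = p ^ k := by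
    have := hder ((d : G) * 1) (hder' 1 C.one_mem)
    rwa [mul_one] at this
  have hCp : IsPGroup p C := by
    intro u
    obtain ⟨j, hj⟩ := hder _ (hder' u u.2)
    refine ⟨k + j, ?_⟩
    have h1 : ((d : G) * u) ^ p ^ (k + j) = 1 := by
      rw [pow_add, mul_comm (p ^ k), pow_mul, ← hj, pow_orderOf_eq_one, one_pow]
    have h2 : (d : G) ^ p ^ (k + j) = 1 := by
      rw [pow_add, pow_mul, ← hk, pow_orderOf_eq_one, one_pow]
    rw [(show Commute (d : G) u from hTC d d.2 u u.2).mul_pow, h2, one_mul] at h1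
    ext
    simpa using h1
  obtain ⟨g, hg⟩ : ∃ g, c g ≠ T := by
    by_contra hc
    simp only [not_exists, not_not] at hc
    exact hTne (le_antisymm hTN (hjoin ▸ iSup_le fun g => (hc g).le))
  apply hTp
  have hcg : IsPGroup p (c g) :=
    hCp.to_le (le_iSup (fun g : {g : G // c g ≠ T} => c g) ⟨g, hg⟩)
  intro t
  obtain ⟨j, hj⟩ := hcg ⟨g * t * g⁻¹, by rw [mem_c]; simp [mul_assoc]⟩
  refine ⟨j, ?_⟩
  have := congrArg Subtype.val hj
  simp only [SubmonoidClass.coe_pow, conj_pow, OneMemClass.coe_one] at this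
  ext
  simpa using this

/-- Let G act faithfully and primitively on a finite set with at least two points, and suppose that for some fixed prime p every element of G fixing no point has order a power of p. Then G is of affine type (it has a regular normal subgroup that is an elementary abelian r-group for some prime r) or almost simple (it has a non-abelian simple normal subgroup with trivial centralizer). -/
theorem result {G Ω : Type*} [Group G] [Finite G] [MulAction G Ω] [FaithfulSMul G Ω] [Finite Ω]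
    (hprim : MulAction.IsPreprimitive G Ω) (hΩ : 2 ≤ Nat.card Ω) (p : ℕ) (hp : p.Prime)
    (hder : ∀ g : G, (∀ ω : Ω, g • ω ≠ ω) → ∃ k : ℕ, orderOf g = p ^ k) :
    (∃ (N : Subgroup G) (r : ℕ), r.Prime ∧ N.Normal ∧ Cfsg.IsElementaryAbelian r N ∧
      MulAction.IsPretransitive N Ω ∧ ∀ a : Ω, MulAction.stabilizer N a = ⊥) ∨
    (∃ T : Subgroup G, T.Normal ∧ IsSimpleGroup ↥T ∧ ¬ IsMulCommutative ↥T ∧
      Subgroup.centralizer (T : Set G) = ⊥) := by
  classical
  haveI : Fact p.Prime := ⟨hp⟩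
  have hΩ' : Nontrivial Ω := Finite.one_lt_card_iff_nontrivial.1 hΩ
  obtain ⟨a, b, hab⟩ := exists_pair_ne Ω
  haveI : Nontrivial G := by
    obtain ⟨g, hg⟩ := MulAction.exists_smul_eq G a b
    exact ⟨⟨g, 1, fun h => hab (by rw [← hg, h, one_smul])⟩⟩
  obtain ⟨N, hN, hN1, hmin⟩ := exists_minimal_normal (G := G)
  haveI := hN
  have htr : ∀ M : Subgroup G, M.Normal → M ≠ ⊥ → IsPretransitive M Ω := by
    intro M hM hM1
    haveI := hM
    refine IsQuasiPreprimitive.isPretransitive_of_normal fun h => hM1 ?_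
    rw [Subgroup.eq_bot_iff_forall]
    intro m hm
    refine eq_of_smul_eq_smul fun w : Ω => ?_
    have hw : w ∈ fixedPoints M Ω := by rw [h]; trivial
    simpa [Subgroup.smul_def] using hw ⟨m, hm⟩
  have htN : ∀ a b : Ω, ∃ n ∈ N, n • a = b := fun a b => by
    obtain ⟨⟨n, hn⟩, h⟩ := (htr N hN hN1).exists_smul_eq a b
    exact ⟨n, hn, h⟩
  by_cases hc : N ≤ Subgroup.centralizer (N : Set G)
  · left
    have hcomm : ∀ x ∈ N, ∀ y ∈ N, x * y = y * x := fun x hx y hy =>
      (Subgroup.mem_centralizer_iff.1 (hc hx) y hy).symm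
    haveI : Nontrivial N := (Subgroup.nontrivial_iff_ne_bot N).2 hN1
    obtain ⟨r, hr, hrd⟩ := Nat.exists_prime_and_dvd (Finite.one_lt_card (α := N)).ne'
    haveI : Fact r.Prime := ⟨hr⟩
    obtain ⟨x, hx⟩ := exists_prime_orderOf_dvd_card' (G := N) r hrd
    let A : Subgroup G :=
      { carrier := {y | y ∈ N ∧ y ^ r = 1}
        one_mem' := ⟨N.one_mem, one_pow r⟩
        mul_mem' := fun {y z} hy hz => ⟨N.mul_mem hy.1 hz.1, by
          rw [(show Commute y z from hcomm y hy.1 z hz.1).mul_pow, hy.2, hz.2, one_mul]⟩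
        inv_mem' := fun {y} hy => ⟨N.inv_mem hy.1, by rw [inv_pow, hy.2, inv_one]⟩ }
    have hA : A = N := by
      refine hmin A ⟨fun y hy g => ⟨hN.conj_mem y hy.1 g, ?_⟩⟩ ?_ fun y hy => hy.1
      · rw [conj_pow, hy.2, mul_one, mul_inv_cancel]
      · intro h
        have hx' : (x : G) ∈ A := by
          refine ⟨x.2, ?_⟩
          have := pow_orderOf_eq_one x
          rw [hx] at this
          simpa using congrArg Subtype.val this
        rw [h, Subgroup.mem_bot] at hx'
        have : x = 1 := Subtype.ext hx'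
        rw [this, orderOf_one] at hx
        exact hr.one_lt.ne hx
    refine ⟨N, r, hr, hN, ⟨⟨⟨fun x y => Subtype.ext (hcomm x x.2 y y.2)⟩⟩, fun y hy => ?_⟩,
      htr N hN hN1, fun w => ?_⟩
    · rw [← hA] at hy
      exact hy.2
    · rw [Subgroup.eq_bot_iff_forall]
      intro m hm
      have hm' : (m : G) • w = w := hm
      refine Subtype.ext (eq_of_smul_eq_smul fun v : Ω => ?_)
      obtain ⟨n, hn, rfl⟩ := htN w v
      rw [← mul_smul, hcomm _ m.2 n hn, mul_smul, hm', OneMemClass.coe_one, one_smul]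
  · right
    have hNp : ¬ IsPGroup p N := by
      intro h
      have h1 := inf_centralizer_ne_bot N hN1 h
      have : N ⊓ Subgroup.centralizer (N : Set G) = N :=
        hmin _ inferInstance h1 inf_le_left
      exact hc (le_of_eq_of_le this.symm inf_le_right)
    have hsimp := simple_of_nonabelian hder N hmin hc htN a
    refine ⟨N, hN, ?_, ?_, ?_⟩
    · haveI : Nontrivial N := (Subgroup.nontrivial_iff_ne_bot N).2 hN1
      refine ⟨fun K hK => ?_⟩
      by_contra hK'
      simp only [not_or] at hK'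
      have h1 : K.map N.subtype = N := by
        refine hsimp _ (Subgroup.map_subtype_le K) ?_ ?_
        · rw [Ne, Subgroup.map_eq_bot_iff_of_injective _ N.subtype_injective]
          exact hK'.1
        · intro n hn
          rw [Subgroup.mem_normalizer_iff]
          intro x
          constructor
          · rintro ⟨k, hk, rfl⟩
            exact ⟨⟨n, hn⟩ * k * ⟨n, hn⟩⁻¹, hK.conj_mem k hk _, rfl⟩
          · rintro ⟨k, hk, hke⟩
            refine ⟨⟨n, hn⟩⁻¹ * k * ⟨n, hn⟩, by simpa using hK.conj_mem k hk ⟨n, hn⟩⁻¹, ?_⟩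
            have hke' : (k : G) = n * x * n⁻¹ := hke
            simp [hke', mul_assoc]
      apply hK'.2
      apply Subgroup.map_injective N.subtype_injective
      rw [h1]
      ext x
      simp
    · intro h
      exact hc fun x hx y hy => congrArg Subtype.val (h.is_comm.comm ⟨y, hy⟩ ⟨x, hx⟩)
    · by_contra hC
      haveI := htr (Subgroup.centralizer (N : Set G)) inferInstance hC
      refine hNp (isPGroup_of_derangements hder N fun n hn hn1 w hw => hn1 ?_)
      refine eq_of_smul_eq_smul fun v : Ω => ?_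
      obtain ⟨⟨z, hz⟩, rfl⟩ := MulAction.exists_smul_eq (Subgroup.centralizer (N : Set G)) w v
      show n • z • w = (1 : G) • z • w
      rw [← mul_smul, Subgroup.mem_centralizer_iff.1 hz n hn, mul_smul, hw, one_smul]

end Cfsg.Agent.S3556
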