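import Cfsg.Statements.S3557
import Cfsg.Agent.PGroups.Basic

set_option autoImplicit false
open Cfsg

namespace Cfsg.Agent.S3557
open MulAction

theorem orb_smul {H X : Type*} [Group H] [MulAction H X] (x : H) {a b : X} (h : b ∈ orbit H a) :
    x • b ∈ orbit H a := by
  obtain ⟨y, rfl⟩ := h
  exact ⟨x * y, mul_smul x y a⟩

/-- The orbits of a Sylow `p`-subgroup in a transitive group have size divisible by the `p`-part of
the degree. -/
theorem pow_dvd_card_orbit {G Ω : Type*} [Group G] [Finite G] [MulAction G Ω] [IsPretransitive G Ω]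
    {p : ℕ} [Fact p.Prime] (P : Sylow p G) (v : ℕ) (hv : p ^ v ∣ Nat.card Ω) (ω : Ω) :
    p ^ v ∣ Nat.card (orbit (P : Subgroup G) ω) := by
  have h1 : Nat.card (orbit (P : Subgroup G) ω) * Nat.card (stabilizer (P : Subgroup G) ω) =
      Nat.card (P : Subgroup G) := by
    rw [Nat.card_coe_set_eq, ← index_stabilizer, mul_comm, Subgroup.card_mul_index]
  have h2 : Nat.card Ω * Nat.card (stabilizer G ω) = Nat.card G := by
    rw [← index_stabilizer_of_transitive G ω, mul_comm, Subgroup.card_mul_index]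
  have h4 : Nat.card (stabilizer (P : Subgroup G) ω) ∣ Nat.card (stabilizer G ω) :=
    Subgroup.card_dvd_of_injective
      (({ toFun := fun x => ⟨((x : (P : Subgroup G)) : G), x.2⟩
          map_one' := rfl
          map_mul' := fun _ _ => rfl } :
        stabilizer (P : Subgroup G) ω →* stabilizer G ω))
      fun x y h => Subtype.ext (Subtype.ext (congrArg (fun t : stabilizer G ω => (t : G)) h))
  have hdvd : p ^ v * Nat.card (stabilizer (P : Subgroup G) ω) ∣ Nat.card G :=
    h2 ▸ Nat.mul_dvd_mul hv h4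
  obtain ⟨f, hf⟩ := IsPGroup.iff_card.1 (P.2.to_subgroup (stabilizer (P : Subgroup G) ω))
  rw [hf, ← pow_add] at hdvd
  have h5 := P.pow_dvd_card_of_pow_dvd_card hdvd
  rw [pow_add, ← hf] at h5
  conv at h5 => rhs; rw [← h1]
  exact Nat.dvd_of_mul_dvd_mul_right Nat.card_pos h5


/-- Let G act faithfully and transitively on a finite set with 2p² points, p a prime, and suppose G is 2-closed: every permutation of the set which, on each ordered pair of points, agrees with some element of G, is itself induced by an element of G. Then some element of G of prime order fixes no point. -/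
theorem result {G Ω : Type*} [Group G] [Finite G] [MulAction G Ω] [FaithfulSMul G Ω] [Finite Ω]
    (htrans : MulAction.IsPretransitive G Ω) (p : ℕ) (hp : p.Prime) (hcard : Nat.card Ω = 2 * p ^ 2)
    (hcl : ∀ σ : Equiv.Perm Ω, (∀ a b : Ω, ∃ g : G, σ a = g • a ∧ σ b = g • b) → ∃ g : G, ∀ a : Ω, σ a = g • a) :
    ∃ g : G, (orderOf g).Prime ∧ ∀ ω : Ω, g • ω ≠ ω := by
  classical
  haveI : Fact p.Prime := ⟨hp⟩
  obtain ⟨P⟩ : Nonempty (Sylow p G) := inferInstance
  have hH : IsPGroup p (P : Subgroup G) := P.2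
  have horb : ∀ ω : Ω, p ^ 2 ∣ Nat.card (orbit (P : Subgroup G) ω) :=
    pow_dvd_card_orbit P 2 (hcard ▸ dvd_mul_left (p ^ 2) 2)
  haveI : Nonempty Ω := by
    have : 0 < Nat.card Ω := by rw [hcard]; exact Nat.mul_pos two_pos (pow_pos hp.pos 2)
    exact (Nat.card_pos_iff.1 this).1
  obtain ⟨ω₀⟩ := ‹Nonempty Ω›
  have hHne : (⊤ : Subgroup (P : Subgroup G)) ≠ ⊥ := by
    intro h
    have h1 := horb ω₀
    have h2 : orbit (P : Subgroup G) ω₀ = {ω₀} := by
      ext y
      constructor
      · rintro ⟨g, rfl⟩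
        have : g = 1 := by
          have hg : g ∈ (⊤ : Subgroup (P : Subgroup G)) := Subgroup.mem_top g
          rwa [h, Subgroup.mem_bot] at hg
        simp [this]
      · rintro rfl
        exact mem_orbit_self _
    rw [h2, Nat.card_coe_set_eq, Set.ncard_singleton, Nat.dvd_one] at h1
    exact (Nat.one_lt_pow two_ne_zero hp.one_lt).ne' h1
  obtain ⟨z, -, hzc, hzo⟩ := PGroups.exists_mem_center_orderOf_eq hH ⊤ hHne
  by_cases hzf : ∀ ω : Ω, (z : G) • ω ≠ ω
  · exact ⟨z, by rw [Subgroup.orderOf_coe, hzo]; exact hp, hzf⟩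
  simp only [not_forall, not_not] at hzf
  obtain ⟨b₀, hb₀⟩ := hzf
  obtain ⟨a₀, ha₀⟩ : ∃ a : Ω, (z : G) • a ≠ a := by
    by_contra hc
    simp only [not_exists, not_not] at hc
    have h1 : (z : G) = 1 := eq_of_smul_eq_smul fun ω : Ω => by rw [hc ω, one_smul]
    have h2 : z = 1 := Subtype.ext h1
    rw [h2, orderOf_one] at hzo
    exact hp.one_lt.ne hzo
  have zinv : ∀ (x : (P : Subgroup G)) (ω : Ω), z • ω = ω → z • (x • ω) = x • ω := by
    intro x ω h
    rw [← mul_smul, ← Subgroup.mem_center_iff.1 hzc x, mul_smul, h]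
  have hzB : ∀ b ∈ orbit (P : Subgroup G) b₀, z • b = b := by
    rintro b ⟨x, rfl⟩
    exact zinv x b₀ hb₀
  have hzA : ∀ a ∈ orbit (P : Subgroup G) a₀, z • a ≠ a := by
    rintro a ⟨x, rfl⟩ h
    have := zinv x⁻¹ _ h
    rw [inv_smul_smul] at this
    exact ha₀ this
  have hdisj : Disjoint (orbit (P : Subgroup G) a₀) (orbit (P : Subgroup G) b₀) :=
    Set.disjoint_left.2 fun ω h1 h2 => hzA ω h1 (hzB ω h2)
  have hu : (orbit (P : Subgroup G) a₀ ∪ orbit (P : Subgroup G) b₀).ncard =
      (orbit (P : Subgroup G) a₀).ncard + (orbit (P : Subgroup G) b₀).ncard :=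
    Set.ncard_union_eq hdisj
  have hle := Set.ncard_le_card (orbit (P : Subgroup G) a₀ ∪ orbit (P : Subgroup G) b₀)
  have hA2 : p ^ 2 ≤ (orbit (P : Subgroup G) a₀).ncard :=
    Nat.le_of_dvd ((Set.ncard_pos (Set.toFinite _)).2 ⟨a₀, mem_orbit_self _⟩)
      (by simpa [← Nat.card_coe_set_eq] using horb a₀)
  have hB2 : p ^ 2 ≤ (orbit (P : Subgroup G) b₀).ncard :=
    Nat.le_of_dvd ((Set.ncard_pos (Set.toFinite _)).2 ⟨b₀, mem_orbit_self _⟩)
      (by simpa [← Nat.card_coe_set_eq] using horb b₀)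
  rw [hu, hcard] at hle
  have hAc : (orbit (P : Subgroup G) a₀).ncard = p ^ 2 := by omega
  have hBc : (orbit (P : Subgroup G) b₀).ncard = p ^ 2 := by omega
  have hcov : ∀ ω : Ω, ω ∈ orbit (P : Subgroup G) a₀ ∨ ω ∈ orbit (P : Subgroup G) b₀ := by
    intro ω
    have : orbit (P : Subgroup G) a₀ ∪ orbit (P : Subgroup G) b₀ = Set.univ := by
      apply Set.eq_of_subset_of_ncard_le (Set.subset_univ _)
      rw [Set.ncard_univ, hu, hAc, hBc, hcard]
      omega
    exact (this.symm ▸ Set.mem_univ ω : ω ∈ orbit (P : Subgroup G) a₀ ∪ orbit (P : Subgroup G) b₀)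
  let K : Subgroup (P : Subgroup G) :=
    { carrier := {k | ∀ b ∈ orbit (P : Subgroup G) b₀, k • b = b}
      one_mem' := fun b _ => one_smul _ b
      mul_mem' := fun {x y} hx hy b hb => by rw [mul_smul, hy b hb, hx b hb]
      inv_mem' := fun {x} hx b hb => by rw [inv_smul_eq_iff, hx b hb] }
  haveI hKn : K.Normal := ⟨fun k hk g b hb => by
    have h1 : k • (g⁻¹ • b) = g⁻¹ • b := hk _ (orb_smul g⁻¹ hb)
    rw [mul_smul, mul_smul, h1, smul_inv_smul]⟩
  let Q : Subgroup (P : Subgroup G) := K ⊔ stabilizer (P : Subgroup G) a₀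
  have hQeq : Q.index = 1 ∨ Q.index = p := by
    have h1 := Subgroup.relIndex_mul_index (le_sup_right : stabilizer (P : Subgroup G) a₀ ≤ Q)
    have h2 : (stabilizer (P : Subgroup G) a₀).index = p ^ 2 := by
      rw [index_stabilizer, hAc]
    rw [h2] at h1
    have h3 : (stabilizer (P : Subgroup G) a₀).relIndex Q ≠ 1 := fun h => by
      rw [Subgroup.relIndex_eq_one] at h
      exact ha₀ (h (Subgroup.mem_sup_left (show z ∈ K from hzB)))
    obtain ⟨j, hj, hj'⟩ := (Nat.dvd_prime_pow hp).1 (Dvd.intro_left _ h1)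
    interval_cases j
    · exact Or.inl (by simpa using hj')
    · exact Or.inr (by simpa using hj')
    · rw [hj'] at h1
      exact absurd (Nat.eq_of_mul_eq_mul_right (pow_pos hp.pos 2) (by rw [h1, one_mul])) h3
  haveI hQn : Q.Normal := by
    rcases hQeq with h | h
    · rw [Subgroup.index_eq_one.1 h]; infer_instance
    · exact PGroups.normal_of_index_eq hH h
  haveI : (Q.map (QuotientGroup.mk' K)).Normal :=
    Subgroup.Normal.map hQn _ (QuotientGroup.mk'_surjective K)
  have hQK : Q.map (QuotientGroup.mk' K) ≠ ⊥ := by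
    intro h
    rw [Subgroup.map_eq_bot_iff, QuotientGroup.ker_mk'] at h
    have h1 : K ≤ stabilizer (P : Subgroup G) b₀ := fun k hk => hk b₀ (mem_orbit_self _)
    have h2 := Subgroup.index_dvd_of_le (h.trans h1)
    rw [index_stabilizer, hBc] at h2
    have h4 : p < p ^ 2 := lt_self_pow₀ hp.one_lt one_lt_two
    have h3 := Nat.le_of_dvd (Nat.pos_of_ne_zero Subgroup.index_ne_zero_of_finite) h2
    rcases hQeq with e | e <;> rw [e] at h3
    · have := hp.one_lt; omega
    · omega
  obtain ⟨wb, ⟨w, hwQ, rfl⟩, hwc, hwo⟩ :=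
    PGroups.exists_mem_center_orderOf_eq (hH.to_quotient K) _ hQK
  have hwK : w ∉ K := fun h => by
    rw [show (QuotientGroup.mk' K) w = 1 from (QuotientGroup.eq_one_iff w).2 h, orderOf_one] at hwo
    exact hp.one_lt.ne hwo
  have hwp : w ^ p ∈ K := by
    rw [← QuotientGroup.eq_one_iff]
    have := pow_orderOf_eq_one ((QuotientGroup.mk' K) w)
    rw [hwo, ← map_pow] at this
    exact this
  have hwcomm : ∀ (x : (P : Subgroup G)), ∀ b ∈ orbit (P : Subgroup G) b₀, w • x • b = x • w • b := by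
    intro x b hb
    have h1 : ((x * w : (P : Subgroup G)) : (P : Subgroup G) ⧸ K) = (w * x : (P : Subgroup G)) := by
      rw [QuotientGroup.mk_mul, QuotientGroup.mk_mul]
      exact Subgroup.mem_center_iff.1 hwc _
    have h2 := (QuotientGroup.eq.1 h1) b hb
    rw [mul_smul, inv_smul_eq_iff, mul_smul, mul_smul] at h2
    exact h2
  have hwB : ∀ b ∈ orbit (P : Subgroup G) b₀, w • b ≠ b := by
    intro b hb h
    apply hwK
    intro c hc
    rw [← orbit_eq_iff.2 hb] at hc
    obtain ⟨x, rfl⟩ := hc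
    show w • x • b = x • b
    rw [hwcomm x b hb, h]
  have hkey : ∀ a ∈ orbit (P : Subgroup G) a₀, ∃ s : (P : Subgroup G), s • a = a ∧
      ∀ b ∈ orbit (P : Subgroup G) b₀, s • b = w • b := by
    rintro a ⟨x, rfl⟩
    have h1 : x⁻¹ * w * x ∈ Q := by simpa using hQn.conj_mem w hwQ x⁻¹
    rw [← SetLike.mem_coe, Subgroup.normal_mul] at h1
    obtain ⟨k, hk, s, hs, hks⟩ := Set.mem_mul.1 h1
    have hs' : s • a₀ = a₀ := hs
    refine ⟨x * s * x⁻¹, ?_, fun b hb => ?_⟩
    · show (x * s * x⁻¹) • x • a₀ = x • a₀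
      rw [mul_smul, inv_smul_smul, mul_smul, hs']
    · have hw : w = (x * k * x⁻¹) * (x * s * x⁻¹) := by
        calc w = x * (x⁻¹ * w * x) * x⁻¹ := by group
          _ = x * (k * s) * x⁻¹ := by rw [hks]
          _ = _ := by group
      have h2 : (x * k * x⁻¹) • ((x * s * x⁻¹) • b) = (x * s * x⁻¹) • b :=
        hKn.conj_mem k hk x _ (orb_smul _ hb)
      conv_rhs => rw [hw, mul_smul, h2]
  have hnot : ∀ ω : Ω, ω ∈ orbit (P : Subgroup G) a₀ → ω ∉ orbit (P : Subgroup G) b₀ :=
    fun ω h => Set.disjoint_left.1 hdisj h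
  let f : Ω → Ω := fun ω => if ω ∈ orbit (P : Subgroup G) b₀ then w • ω else ω
  have hf : Function.Injective f := by
    intro u v huv
    by_cases hu : u ∈ orbit (P : Subgroup G) b₀ <;> by_cases hv : v ∈ orbit (P : Subgroup G) b₀ <;>
      simp only [f, hu, hv, if_true, if_false] at huv
    · exact smul_left_cancel w huv
    · exact absurd (huv ▸ orb_smul w hu) hv
    · exact absurd (huv.symm ▸ orb_smul w hv) hu
    · exact huv
  obtain ⟨g, hg⟩ := hcl (Equiv.ofBijective f (Finite.injective_iff_bijective.1 hf)) fun u v => by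
    simp only [Equiv.ofBijective_apply, f]
    by_cases hu : u ∈ orbit (P : Subgroup G) b₀ <;> by_cases hv : v ∈ orbit (P : Subgroup G) b₀
    · exact ⟨w, by simp [hu, Subgroup.smul_def], by simp [hv, Subgroup.smul_def]⟩
    · obtain ⟨s, hs1, hs2⟩ := hkey v ((hcov v).resolve_right hv)
      refine ⟨s, ?_, ?_⟩
      · rw [if_pos hu, ← hs2 u hu]; rfl
      · rw [if_neg hv]; exact hs1.symm
    · obtain ⟨s, hs1, hs2⟩ := hkey u ((hcov u).resolve_right hu)
      refine ⟨s, ?_, ?_⟩
      · rw [if_neg hu]; exact hs1.symm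
      · rw [if_pos hv, ← hs2 v hv]; rfl
    · exact ⟨1, by simp [hu], by simp [hv]⟩
  simp only [Equiv.ofBijective_apply, f] at hg
  have hyA : ∀ a ∈ orbit (P : Subgroup G) a₀, ((z : G) * g) • a = z • a := by
    intro a ha
    rw [mul_smul, ← hg a, if_neg (hnot a ha)]
    rfl
  have hyB : ∀ b ∈ orbit (P : Subgroup G) b₀, ((z : G) * g) • b = w • b := by
    intro b hb
    rw [mul_smul, ← hg b, if_pos hb]
    exact hzB _ (orb_smul w hb)
  have hpA : ∀ (n : ℕ), ∀ a ∈ orbit (P : Subgroup G) a₀, ((z : G) * g) ^ n • a = z ^ n • a := by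
    intro n
    induction n with
    | zero => intro a _; simp
    | succ n ih =>
      intro a ha
      rw [pow_succ, pow_succ, mul_smul, hyA a ha, mul_smul, ih _ (orb_smul z ha)]
  have hpB : ∀ (n : ℕ), ∀ b ∈ orbit (P : Subgroup G) b₀, ((z : G) * g) ^ n • b = w ^ n • b := by
    intro n
    induction n with
    | zero => intro a _; simp
    | succ n ih =>
      intro b hb
      rw [pow_succ, pow_succ, mul_smul, hyB b hb, mul_smul, ih _ (orb_smul w hb)]
  have hfree : ∀ ω : Ω, ((z : G) * g) • ω ≠ ω := by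
    intro ω
    rcases hcov ω with h | h
    · rw [hyA ω h]; exact hzA ω h
    · rw [hyB ω h]; exact hwB ω h
  refine ⟨(z : G) * g, ?_, hfree⟩
  have hyp : ((z : G) * g) ^ p = 1 := eq_of_smul_eq_smul fun ω : Ω => by
    rw [one_smul]
    rcases hcov ω with h | h
    · rw [hpA p ω h, orderOf_dvd_iff_pow_eq_one.1 hzo.dvd, one_smul]
    · rw [hpB p ω h]; exact hwp ω h
  rw [orderOf_eq_prime hyp fun h => hfree ω₀ (by rw [h, one_smul])]
  exact hp

end Cfsg.Agent.S3557
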