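import Cfsg.Statements.S3560


set_option autoImplicit false
open Cfsg

namespace Cfsg.Agent.S3560
open MulAction
open scoped Pointwise

variable {ι : Type*} [Fintype ι] [DecidableEq ι] (F : ι → Type*) [∀ i, DecidableEq (F i)]

/-- The number of coordinates in which two tuples differ. -/
def dist (x y : ∀ i, F i) : ℕ := (Finset.univ.filter fun i => x i ≠ y i).card

/-- The automorphism group of the Hamming graph. -/
def hamming : Subgroup (Equiv.Perm (∀ i, F i)) where
  carrier := {σ | ∀ x y, dist F (σ x) (σ y) = dist F x y}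
  one_mem' := fun x y => rfl
  mul_mem' := fun {s t} hs ht x y => (hs _ _).trans (ht x y)
  inv_mem' := fun {s} hs x y => by simpa using (hs (s⁻¹ x) (s⁻¹ y)).symm

variable {F}

theorem congrRight_mem (π : ∀ i, Equiv.Perm (F i)) : Equiv.piCongrRight π ∈ hamming F := by
  intro x y
  unfold dist
  congr 1
  ext i
  simp

/-- Exchange of two coordinates by means of an equivalence. -/
def exch {i j : ι} (hij : i ≠ j) (ψ : F i ≃ F j) : Equiv.Perm (∀ k, F k) where
  toFun w := Function.update (Function.update w j (ψ (w i))) i (ψ.symm (w j))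
  invFun w := Function.update (Function.update w j (ψ (w i))) i (ψ.symm (w j))
  left_inv w := by
    funext k
    by_cases hki : k = i
    · subst hki; simp [hij, Ne.symm hij]
    · by_cases hkj : k = j
      · subst hkj; simp [hki]
      · simp [hki, hkj]
  right_inv w := by
    funext k
    by_cases hki : k = i
    · subst hki; simp [hij, Ne.symm hij]
    · by_cases hkj : k = j
      · subst hkj; simp [hki]
      · simp [hki, hkj]

theorem exch_mem {i j : ι} (hij : i ≠ j) (ψ : F i ≃ F j) : exch hij ψ ∈ hamming F := by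
  intro x y
  unfold dist
  refine Finset.card_equiv (Equiv.swap i j) fun k => ?_
  rw [Finset.mem_filter, Finset.mem_filter]
  simp only [exch, Equiv.coe_fn_mk, Finset.mem_univ, true_and]
  by_cases hki : k = i
  · subst hki; simp [hij, Ne.symm hij]; rw [Equiv.swap_apply_left]
  · by_cases hkj : k = j
    · subst hkj; simp [hki, hij, Ne.symm hij]; rw [Equiv.swap_apply_right]
    · simp [hki, hkj, Equiv.swap_apply_of_ne_of_ne]; rw [Equiv.swap_apply_of_ne_of_ne hki hkj]

theorem mulLeft_mem [∀ i, Group (F i)] (a : ∀ i, F i) : Equiv.mulLeft a ∈ hamming F := by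
  intro x y
  unfold dist
  congr 1
  ext i
  simp

theorem dist_update (x : ∀ i, F i) (i : ι) {v : F i} (h : v ≠ x i) :
    dist F x (Function.update x i v) = 1 := by
  rw [dist, Finset.card_eq_one]
  refine ⟨i, ?_⟩
  ext k
  by_cases hk : k = i
  · subst hk; simp [h.symm]
  · simp [hk]

theorem dist_update_two (x : ∀ i, F i) {i j : ι} (hij : i ≠ j) {v : F i} {w : F j}
    (hv : v ≠ x i) (hw : w ≠ x j) :
    dist F x (Function.update (Function.update x i v) j w) = 2 := by
  rw [dist, Finset.card_eq_two]
  refine ⟨i, j, hij, ?_⟩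
  ext k
  by_cases hk : k = j
  · subst hk; simp [hw.symm]
  · by_cases hk' : k = i
    · subst hk'; simp [hk, hv.symm]
    · simp [hk, hk']

theorem hamming_preprimitive [∀ i, Group (F i)] [∀ i, Finite (F i)] (m : ℕ) (hm : 3 ≤ m)
    (hcard : ∀ i, Nat.card (F i) = m) : IsPreprimitive (hamming F) (∀ i, F i) := by
  haveI : IsPretransitive (hamming F) (∀ i, F i) := ⟨fun x y =>
    ⟨⟨Equiv.mulLeft (y * x⁻¹), mulLeft_mem _⟩, by simp [Subgroup.smul_def, Equiv.Perm.smul_def]⟩⟩
  refine { isTrivialBlock_of_isBlock := fun {B} hB => ?_ }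
  by_contra hBt
  simp only [IsTrivialBlock, not_or] at hBt
  obtain ⟨hBs, hBu⟩ := hBt
  obtain ⟨x, hx, y, hy, hxy⟩ := Set.not_subsingleton_iff.1 hBs
  have hstab : ∀ σ ∈ hamming F, ∀ p ∈ B, σ p ∈ B → ∀ q ∈ B, σ q ∈ B := by
    intro σ hσ p hp hp' q hq
    have h := isBlock_iff_smul_eq_of_mem.1 hB (g := ⟨σ, hσ⟩) hp hp'
    exact h ▸ Set.smul_mem_smul_set (a := (⟨σ, hσ⟩ : hamming F)) hq
  obtain ⟨i, hi⟩ := Function.ne_iff.1 hxy
  classical
  obtain ⟨z, hzx, hzy⟩ : ∃ z : F i, z ≠ x i ∧ z ≠ y i := by
    by_contra hc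
    simp only [not_exists, not_and, not_not] at hc
    have h1 : Function.Surjective fun b : Bool => if b then x i else y i := fun z => by
      by_cases h : z = x i
      · exact ⟨true, by simp [h]⟩
      · exact ⟨false, by simp [hc z h]⟩
    have h2 := Nat.card_le_card_of_surjective _ h1
    simp [hcard i] at h2
    omega
  have hy' : Function.update y i z ∈ B := by
    let π : ∀ k, Equiv.Perm (F k) := Function.update (fun _ => Equiv.refl _) i (Equiv.swap (y i) z)
    have h := hstab (Equiv.piCongrRight π) (congrRight_mem π) x hx (by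
      convert hx using 1
      funext k
      by_cases hk : k = i
      · subst hk; simp [π, Equiv.swap_apply_of_ne_of_ne hi hzx.symm]
      · simp [π, hk]) y hy
    convert h using 1
    funext k
    by_cases hk : k = i
    · subst hk; simp [π]
    · simp [π, hk]
  have hnb : ∀ (j : ι) (v : F j), Function.update y j v ∈ B := by
    intro j v
    by_cases hv : v = y j
    · rw [hv, Function.update_eq_self]; exact hy
    by_cases hji : j = i
    · subst hji
      let π : ∀ k, Equiv.Perm (F k) := Function.update (fun _ => Equiv.refl _) j (Equiv.swap z v)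
      have h := hstab (Equiv.piCongrRight π) (congrRight_mem π) y hy (by
        convert hy using 1
        funext k
        by_cases hk : k = j
        · subst hk; simp [π, Equiv.swap_apply_of_ne_of_ne hzy.symm (Ne.symm hv)]
        · simp [π, hk]) _ hy'
      convert h using 1
      funext k
      by_cases hk : k = j
      · subst hk; simp [π]
      · simp [π, hk]
    · obtain ⟨ψ₀⟩ : Nonempty (F i ≃ F j) :=
        ⟨(Finite.equivFinOfCardEq (hcard i)).trans (Finite.equivFinOfCardEq (hcard j)).symm⟩
      let ψ₁ := ψ₀.trans (Equiv.swap (ψ₀ (y i)) (y j))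
      let ψ := ψ₁.trans (Equiv.swap (ψ₁ z) v)
      have h1 : ψ₁ (y i) = y j := by simp [ψ₁]
      have h2 : ψ₁ z ≠ y j := fun h => hzy (ψ₁.injective (h.trans h1.symm))
      have hψ1 : ψ (y i) = y j := by
        show Equiv.swap (ψ₁ z) v (ψ₁ (y i)) = y j
        rw [h1, Equiv.swap_apply_of_ne_of_ne (Ne.symm h2) (Ne.symm hv)]
      have hψ2 : ψ z = v := by simp [ψ]
      have hij : i ≠ j := fun h => hji h.symm
      have hψ3 : ψ.symm (y j) = y i := by rw [Equiv.symm_apply_eq, hψ1]
      have h := hstab _ (exch_mem hij ψ) y hy (by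
        convert hy using 1
        funext k
        by_cases hki : k = i
        · subst hki; simp [exch, hψ3]
        · by_cases hkj : k = j
          · subst hkj; simp [exch, hki, hψ1]
          · simp [exch, hki, hkj]) _ hy'
      convert h using 1
      funext k
      by_cases hki : k = i
      · subst hki; simp [exch, hij, Ne.symm hij, hψ3]
      · by_cases hkj : k = j
        · subst hkj; simp [exch, hki, hψ2]
        · simp [exch, hki, hkj]
  have hnb' : ∀ w ∈ B, ∀ (j : ι) (v : F j), Function.update w j v ∈ B := by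
    intro w hw j v
    have h := hstab _ (mulLeft_mem (w * y⁻¹)) y hy (by simpa using hw) _
      (hnb j (((w * y⁻¹) j)⁻¹ * v))
    convert h using 1
    funext k
    by_cases hk : k = j
    · subst hk; simp; group
    · simp [hk]
  apply hBu
  refine Set.eq_univ_of_forall fun w => ?_
  have hall : ∀ s : Finset ι, s.piecewise w y ∈ B := by
    intro s
    induction s using Finset.induction_on with
    | empty => simpa using hy
    | insert j s hj ih => rw [Finset.piecewise_insert]; exact hnb' _ ih j _
  simpa using hall Finset.univ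


/-- Let K be a finite group isomorphic to a direct product of r ≥ 2 groups all of the same order m ≥ 3. Then K is not a B-group: there is a primitive but not doubly transitive permutation group (on some finite set) containing a regular subgroup isomorphic to K. -/
theorem result {K : Type*} [Group K] [Finite K] {ι : Type*} [Fintype ι] (F : ι → Type*) [∀ i, Group (F i)]
    (hr : 2 ≤ Fintype.card ι) (m : ℕ) (hm : 3 ≤ m) (hcard : ∀ i, Nat.card (F i) = m) (e : K ≃* (∀ i, F i)) :
    ∃ (n : ℕ) (G R : Subgroup (Equiv.Perm (Fin n))), R ≤ G ∧ Nonempty (↥R ≃* K) ∧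
      MulAction.IsPretransitive ↥R (Fin n) ∧ (∀ a : Fin n, MulAction.stabilizer ↥R a = ⊥) ∧
      MulAction.IsPreprimitive ↥G (Fin n) ∧ ¬ MulAction.IsMultiplyPretransitive ↥G (Fin n) 2 := by
  classical
  haveI : ∀ i, Finite (F i) := fun i => Nat.finite_of_card_ne_zero (by rw [hcard i]; omega)
  let c := Finite.equivFin (∀ i, F i)
  let ρ : K →* Equiv.Perm (∀ i, F i) :=
    { toFun := fun k => Equiv.mulLeft (e k)
      map_one' := by ext x; simp
      map_mul' := fun a b => by ext x; simp [mul_assoc] }
  let Φ := (c.permCongrHom : Equiv.Perm (∀ i, F i) ≃* Equiv.Perm (Fin _))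
  let G := (hamming F).map Φ.toMonoidHom
  let R := (Φ.toMonoidHom.comp ρ).range
  have hinj : Function.Injective (Φ.toMonoidHom.comp ρ) := fun a b h => by
    have h1 : ρ a = ρ b := Φ.injective h
    have h2 := Equiv.congr_fun h1 1
    simpa [ρ] using h2
  have happ : ∀ (k : K) (x : Fin _), (Φ.toMonoidHom.comp ρ) k x = c (e k * c.symm x) := fun k x => by
    simp [Φ, ρ, Equiv.permCongrHom]
  refine ⟨_, G, R, ?_, ⟨(MonoidHom.ofInjective hinj).symm⟩, ⟨fun a b => ?_⟩, fun a => ?_, ?_, ?_⟩
  · rintro _ ⟨k, rfl⟩
    exact ⟨ρ k, mulLeft_mem _, rfl⟩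
  · refine ⟨⟨_, e.symm (c.symm b * (c.symm a)⁻¹), rfl⟩, ?_⟩
    rw [Subgroup.smul_def, Equiv.Perm.smul_def, happ]
    simp
  · rw [Subgroup.eq_bot_iff_forall]
    rintro ⟨_, k, rfl⟩ h
    have h' : c (e k * c.symm a) = a := by rw [← happ]; exact h
    rw [← Equiv.eq_symm_apply, mul_eq_right, MulEquiv.map_eq_one_iff] at h'
    exact Subtype.ext (by simp [h'])
  · haveI := hamming_preprimitive (F := F) m hm hcard
    let φ : hamming F → G := fun σ => ⟨Φ σ.1, σ.1, σ.2, rfl⟩
    let f : (∀ i, F i) →ₑ[φ] Fin _ :=
      { toFun := c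
        map_smul' := fun σ x => by
          simp [φ, Φ, Subgroup.smul_def, Equiv.Perm.smul_def, Equiv.permCongrHom] }
    exact IsPreprimitive.of_surjective (f := f) c.surjective
  · intro h2
    rw [is_two_pretransitive_iff] at h2
    obtain ⟨i, j, hij⟩ := Fintype.exists_pair_of_one_lt_card (α := ι) (by omega)
    have hex : ∀ k, ∃ u : F k, u ≠ 1 := fun k => by
      haveI : Nontrivial (F k) := Finite.one_lt_card_iff_nontrivial.1 (by rw [hcard k]; omega)
      exact exists_ne 1
    obtain ⟨u, hu⟩ := hex i
    obtain ⟨v, hv⟩ := hex j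
    let y : ∀ k, F k := Function.update 1 i u
    let z : ∀ k, F k := Function.update y j v
    have d1 : dist F 1 y = 1 := dist_update 1 i (by simpa using hu)
    have d2 : dist F 1 z = 2 := dist_update_two 1 hij (by simpa using hu) (by simpa using hv)
    have d0 : dist F (1 : ∀ k, F k) 1 = 0 := by simp [dist]
    obtain ⟨⟨_, σ, hσ, rfl⟩, h1, hy⟩ := h2 (a := c 1) (b := c y) (c := c 1) (d := c z)
      (fun h => by rw [← c.injective h] at d1; omega)
      (fun h => by rw [← c.injective h] at d2; omega)
    have e1 : σ 1 = 1 := by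
      simpa [Φ, Subgroup.smul_def, Equiv.Perm.smul_def, Equiv.permCongrHom] using h1
    have e2 : σ y = z := by
      simpa [Φ, Subgroup.smul_def, Equiv.Perm.smul_def, Equiv.permCongrHom] using hy
    have := hσ 1 y
    rw [e1, e2, d1, d2] at this
    omega

end Cfsg.Agent.S3560
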