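import Cfsg.Statements.S3571
import Cfsg.Agent.H66.AltDerangement
import Cfsg.Agent.S2119

set_option autoImplicit false
open Cfsg

namespace Cfsg.Agent.S3571

open MulAction Equiv Equiv.Perm
open Cfsg.Agent.H66

/-- The conjugation action on the socle gives an injective map into `Perm (Fin m)`. -/
theorem exists_permHom {G : Type*} [Group G] (T : Subgroup G) [T.Normal]
    (hTc : Subgroup.centralizer (T : Set G) = ⊥) {m : ℕ} (hm : 5 ≤ m) (h6 : m ≠ 6)
    (eT : ↥T ≃* ↥(alternatingGroup (Fin m))) :
    ∃ φ : G →* Equiv.Perm (Fin m), Function.Injective φ ∧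
      ∀ t : ↥T, φ (t : G) = ((eT t : ↥(alternatingGroup (Fin m))) : Equiv.Perm (Fin m)) := by
  let ψ := MulEquiv.ofBijective _ (Cfsg.Agent.S2119.result m (by omega) h6)
  let c : G →* MulAut ↥(alternatingGroup (Fin m)) :=
    (MulAut.congr eT).toMonoidHom.comp MulAut.conjNormal
  have hc : ∀ (g : G) (t : ↥T), c g (eT t) = eT (MulAut.conjNormal g t) := by
    intro g t
    show eT (MulAut.conjNormal g (eT.symm (eT t))) = _
    rw [eT.symm_apply_apply]
  refine ⟨ψ.symm.toMonoidHom.comp c, ψ.symm.injective.comp ((injective_iff_map_eq_one c).2 ?_), ?_⟩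
  · intro g hg
    rw [← Subgroup.mem_bot, ← hTc, Subgroup.mem_centralizer_iff]
    intro t ht
    have h := hc g ⟨t, ht⟩
    rw [hg, MulAut.one_apply] at h
    have h' : g * t * g⁻¹ = t := congrArg Subtype.val (eT.injective h).symm
    exact (mul_inv_eq_iff_eq_mul.1 h').symm
  · intro t
    show ψ.symm (c t) = _
    rw [MulEquiv.symm_apply_eq]
    ext x : 1
    obtain ⟨u, rfl⟩ := eT.surjective x
    rw [hc, show MulAut.conjNormal (t : G) u = t * u * t⁻¹ from Subtype.ext rfl, map_mul, map_mul,
      map_inv]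
    exact Subtype.ext rfl

/-- The existence of a derangement, in terms of `eT (T ∩ Gω)`. -/
theorem exists_aux {G Ω : Type*} [Group G] [Finite G] [MulAction G Ω] [Finite Ω]
    (T : Subgroup G) [T.Normal] (hTc : Subgroup.centralizer (T : Set G) = ⊥) {m : ℕ} (hm : 5 ≤ m)
    (eT : ↥T ≃* ↥(alternatingGroup (Fin m))) (ω : Ω) (hcoatom : IsCoatom (stabilizer G ω))
    (hTH : ¬ T ≤ stabilizer G ω) (K : Subgroup ↥(alternatingGroup (Fin m)))
    (hK : ∀ t : ↥T, eT t ∈ K ↔ (t : G) • ω = ω) {r : ℕ} (hr : r.Prime) (hrd : r ∣ K.index)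
    (hmax : ∀ s : ℕ, s.Prime → s ∣ K.index → s ≤ r) :
    ∃ x : ↥(alternatingGroup (Fin m)), orderOf x = r ∧
      ∀ g : ↥(alternatingGroup (Fin m)), g * x * g⁻¹ ∉ K := by
  have hKtop : K ≠ ⊤ := fun h => hTH fun t ht => (hK ⟨t, ht⟩).1 (h ▸ Subgroup.mem_top _)
  rcases eq_or_ne m 6 with h6 | h6
  · exact AltDerangement.exists_of_six (by simpa using h6) hKtop hr hrd hmax
  have : Nontrivial (Fin m) := Fin.nontrivial_iff_two_le.2 (by omega)
  by_cases h2r : Fintype.card (Fin m) < 2 * r
  · exact AltDerangement.exists_of_large hr hrd h2r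
  rw [Fintype.card_fin, not_lt] at h2r
  obtain ⟨φ, hφ, hφT⟩ := exists_permHom T hTc hm h6 eT
  set H := stabilizer G ω with hHdef
  have hKH : ∀ g ∈ K, (g : Equiv.Perm (Fin m)) ∈ H.map φ := by
    intro g hg
    obtain ⟨t, rfl⟩ := eT.surjective g
    exact ⟨t, (hK t).1 hg, hφT t⟩
  have hnA : ¬ alternatingGroup (Fin m) ≤ H.map φ := by
    refine fun h => hTH fun t ht => ?_
    obtain ⟨u, hu, he⟩ := h (eT ⟨t, ht⟩).2
    rw [← hφT] at he
    have h' := hφ he
    subst h'
    exact hu
  by_cases htr : IsPretransitive ↥(H.map φ) (Fin m)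
  · -- transitive normalisers are primitive, by Bertrand's postulate
    obtain ⟨p, hp, hp1, hp2⟩ := Nat.exists_prime_lt_and_le_two_mul (m / 2) (by omega)
    have hpK : ¬ p ∣ K.index := fun h => by have := hmax p hp h; omega
    have := Fact.mk hp
    obtain ⟨x, hx⟩ := exists_prime_orderOf_dvd_card' (G := ↥K) p (by
      have hd : p ∣ Nat.card ↥(alternatingGroup (Fin m)) := by
        have h := two_mul_card_alternatingGroup (α := Fin m)
        rw [Fintype.card_perm, Fintype.card_fin, ← Nat.card_eq_fintype_card] at h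
        have hd2 : p ∣ 2 * Nat.card ↥(alternatingGroup (Fin m)) :=
          h ▸ hp.dvd_factorial.2 (by omega)
        rcases hp.dvd_mul.1 hd2 with h' | h'
        · have := Nat.le_of_dvd two_pos h'; omega
        · exact h'
      rw [← K.index_mul_card] at hd
      exact (hp.dvd_mul.1 hd).resolve_left hpK)
    have hprim := AltDerangement.isPreprimitive_of_cycle (H := H.map φ) hp
      (g := ((x : ↥(alternatingGroup (Fin m))) : Equiv.Perm (Fin m)))
      (by rw [Subgroup.orderOf_coe, Subgroup.orderOf_coe, hx]) (hKH _ x.2)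
      (by rw [Fintype.card_fin]; omega)
    exact AltDerangement.exists_of_primitive (by simpa using hm) hprim hnA hKH hr hmax
      (by simpa using h2r)
  · -- intransitive normalisers are set stabilisers, by maximality
    classical
    let z : Fin m := ⟨0, by omega⟩
    let D₀ : Finset (Fin m) := Finset.univ.filter fun w => ∃ h ∈ H, φ h z = w
    have hinv : ∀ h ∈ H, ∀ w, w ∈ D₀ ↔ φ h w ∈ D₀ := by
      intro h hh w
      simp only [D₀, Finset.mem_filter, Finset.mem_univ, true_and]
      constructor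
      · rintro ⟨k, hk, rfl⟩
        exact ⟨h * k, H.mul_mem hh hk, by rw [map_mul, mul_apply]⟩
      · rintro ⟨k, hk, hkw⟩
        exact ⟨h⁻¹ * k, H.mul_mem (H.inv_mem hh) hk, by
          rw [map_mul, mul_apply, hkw, ← mul_apply, ← map_mul, inv_mul_cancel, map_one, one_apply]⟩
    have hz : z ∈ D₀ := by
      simp only [D₀, Finset.mem_filter, Finset.mem_univ, true_and]
      exact ⟨1, H.one_mem, by simp⟩
    have huniv : D₀ ≠ Finset.univ := by
      intro h
      refine htr ((MulAction.isPretransitive_iff_base z).2 fun w => ?_)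
      obtain ⟨k, hk, hkw⟩ := (Finset.mem_filter.1 (h ▸ Finset.mem_univ w : w ∈ D₀)).2
      exact ⟨⟨φ k, k, hk, rfl⟩, hkw⟩
    obtain ⟨D, hD1, hD2, hDinv⟩ : ∃ D : Finset (Fin m), 1 ≤ D.card ∧ 2 * D.card ≤ m ∧
        ∀ h ∈ H, ∀ w, w ∈ D ↔ φ h w ∈ D := by
      rcases le_or_gt (2 * D₀.card) m with h | h
      · exact ⟨D₀, Finset.card_pos.2 ⟨z, hz⟩, h, hinv⟩
      · refine ⟨D₀ᶜ, ?_, ?_, fun k hk w => by simp [← hinv k hk w]⟩
        · rw [Finset.card_compl]
          have := Finset.card_lt_univ_of_notMem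
            (Classical.choose_spec (not_forall.1 (mt Finset.eq_univ_iff_forall.2 huniv)))
          omega
        · rw [Finset.card_compl, Fintype.card_fin]; omega
    let S : Subgroup (Equiv.Perm (Fin m)) :=
      { carrier := {σ | ∀ w, w ∈ D ↔ σ w ∈ D}
        one_mem' := fun w => Iff.rfl
        mul_mem' := fun {a b} ha hb w => (hb w).trans (ha (b w))
        inv_mem' := fun {a} ha w => by simpa using (ha (a⁻¹ w)).symm }
    have hHS : H = S.comap φ := by
      rcases eq_or_lt_of_le (show H ≤ S.comap φ from fun h hh => hDinv h hh) with h | h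
      · exact h
      exfalso
      have htop := hcoatom.2 _ h
      obtain ⟨w, hw⟩ := Finset.card_pos.1 (show 0 < D.card by omega)
      obtain ⟨u, hu⟩ : ∃ u, u ∉ D := by
        by_contra hcon
        push Not at hcon
        rw [Finset.eq_univ_iff_forall.2 hcon, Finset.card_univ, Fintype.card_fin] at hD2
        omega
      let E := insert u (D.erase w)
      have hE : E.card = D.card := by
        rw [Finset.card_insert_of_notMem (fun h => hu (Finset.mem_of_mem_erase h)),
          Finset.card_erase_of_mem hw]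
        omega
      obtain ⟨g, hg⟩ := AltDerangement.exists_even_map hE.symm (by rw [Fintype.card_fin]; omega)
      obtain ⟨t, rfl⟩ := eT.surjective g
      have hmem : (t : G) ∈ S.comap φ := htop ▸ Subgroup.mem_top _
      have hne : ((eT t : ↥(alternatingGroup (Fin m))) : Equiv.Perm (Fin m)).symm u ∈ D := by
        rw [hg]; simp [E]
      have h2 := (hmem _).1 hne
      rw [hφT, Equiv.apply_symm_apply] at h2
      exact hu h2
    refine AltDerangement.exists_of_set_stabilizer (D := D) hD1 (by rw [Fintype.card_fin]; exact hD2)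
      (by simpa using hm) (fun g => ?_) hr hrd hmax
    obtain ⟨t, rfl⟩ := eT.surjective g
    rw [hK, ← hφT]
    show (t : G) ∈ H ↔ φ (t : G) ∈ S
    rw [hHS]
    exact Iff.rfl

/-- Let G be an almost simple group whose socle is an alternating group of degree m ≥ 5 (G has a normal subgroup T isomorphic to that alternating group with trivial centralizer), acting faithfully and primitively on a finite set Ω with at least two points, and let r be the largest prime divisor of the number of points. Then G contains an element of order r fixing no point. -/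
theorem result {G Ω : Type*} [Group G] [Finite G] [MulAction G Ω] [FaithfulSMul G Ω] [Finite Ω]
    (T : Subgroup G) (hT : T.Normal) (hTc : Subgroup.centralizer (T : Set G) = ⊥) (m : ℕ) (hm : 5 ≤ m)
    (eT : ↥T ≃* ↥(alternatingGroup (Fin m))) (hprim : MulAction.IsPreprimitive G Ω) (hΩ : 2 ≤ Nat.card Ω)
    (r : ℕ) (hr : r.Prime) (hrd : r ∣ Nat.card Ω) (hmax : ∀ s : ℕ, s.Prime → s ∣ Nat.card Ω → s ≤ r) :
    ∃ g : G, orderOf g = r ∧ ∀ ω : Ω, g • ω ≠ ω := by
  have := hT
  have : Nontrivial Ω := Finite.one_lt_card_iff_nontrivial.1 (by omega)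
  have hTne : T ≠ ⊥ := by
    intro h
    have hc : Nat.card ↥(alternatingGroup (Fin m)) = 1 := by
      rw [← Nat.card_congr eT.toEquiv, h, Subgroup.card_bot]
    have : Nontrivial (Fin m) := Fin.nontrivial_iff_two_le.2 (by omega)
    have h' := two_mul_card_alternatingGroup (α := Fin m)
    rw [← Nat.card_eq_fintype_card, hc, Fintype.card_perm, Fintype.card_fin] at h'
    have := Nat.factorial_le (show 3 ≤ m by omega)
    simp [Nat.factorial] at this
    omega
  have := hprim.toIsPretransitive
  obtain ⟨ω₀, hω⟩ : ∃ ω₀ : Ω, ¬ T ≤ stabilizer G ω₀ := by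
    by_contra h
    push Not at h
    apply hTne
    rw [Subgroup.eq_bot_iff_forall]
    intro t ht
    exact eq_of_smul_eq_smul fun ω => by rw [one_smul]; exact h ω ht
  have htrT : IsPretransitive ↥T Ω := by
    refine IsQuasiPreprimitive.isPretransitive_of_normal fun h => hω fun t ht => ?_
    have : ω₀ ∈ fixedPoints ↥T Ω := h ▸ Set.mem_univ _
    exact this ⟨t, ht⟩
  let K := (stabilizer ↥T ω₀).map eT.toMonoidHom
  have hK : ∀ t : ↥T, eT t ∈ K ↔ (t : G) • ω₀ = ω₀ := by
    intro t
    constructor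
    · rintro ⟨u, hu, he⟩
      exact eT.injective he ▸ hu
    · exact fun h => ⟨t, h, rfl⟩
  have hidx : K.index = Nat.card Ω := by
    rw [show K.index = (stabilizer ↥T ω₀).index from Subgroup.index_map_equiv _ eT,
      MulAction.index_stabilizer_of_transitive]
  obtain ⟨x, hx, hxK⟩ := exists_aux T hTc hm eT ω₀
    ((isCoatom_stabilizer_iff_preprimitive G ω₀).2 hprim) hω K hK hr (hidx ▸ hrd)
    (fun s hs hd => hmax s hs (hidx ▸ hd))
  obtain ⟨t, rfl⟩ := eT.surjective x
  refine ⟨t, by rw [Subgroup.orderOf_coe, ← MulEquiv.orderOf_eq eT, hx], fun ω hfix => ?_⟩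
  obtain ⟨u, rfl⟩ := MulAction.exists_smul_eq ↥T ω₀ ω
  apply hxK (eT u⁻¹)
  rw [← map_inv, ← map_mul, ← map_mul, hK]
  simp only [inv_inv, Subgroup.coe_mul, Subgroup.coe_inv, mul_smul]
  rw [inv_smul_eq_iff]
  exact hfix

end Cfsg.Agent.S3571
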