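import Cfsg.Statements.S3572
import Cfsg.Agent.H78.Dihedral.OfAction

set_option autoImplicit false
open Cfsg

namespace Cfsg.Agent.S3572

/-- A finite primitive permutation group containing a dihedral subgroup that acts regularly (transitively with trivial point stabilizers) is doubly transitive. -/
theorem result {G Ω : Type*} [Group G] [Finite G] [MulAction G Ω] [FaithfulSMul G Ω] [Finite Ω]
    (hprim : MulAction.IsPreprimitive G Ω) (D : Subgroup G) (m : ℕ) (hD : Nonempty (↥D ≃* DihedralGroup m))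
    (hDreg : MulAction.IsPretransitive ↥D Ω ∧ ∀ a : Ω, MulAction.stabilizer ↥D a = ⊥) :
    MulAction.IsMultiplyPretransitive G Ω 2 := by
  obtain ⟨e⟩ := hD
  obtain ⟨htr, hfree⟩ := hDreg
  haveI : NeZero m := ⟨fun h0 => by
    subst h0
    haveI : Finite (DihedralGroup 0) := Finite.of_equiv _ e.toEquiv
    haveI : Finite ℤ := Finite.of_injective (fun i : ℤ => (DihedralGroup.r i : DihedralGroup 0))
      (fun a b h => DihedralGroup.r.inj h)
    exact not_finite ℤ⟩
  rcases isEmpty_or_nonempty Ω with hΩ | hΩ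
  · exact ⟨fun x => isEmptyElim (x 0)⟩
  obtain ⟨ω⟩ := hΩ
  refine H78.Dihedral.two_transitive_of_dihedral (D.subtype.comp e.symm.toMonoidHom) ω ⟨?_, ?_⟩ hprim
  · intro a b hab
    have h1 : (e.symm a)⁻¹ * e.symm b ∈ MulAction.stabilizer (↥D) ω := by
      rw [MulAction.mem_stabilizer_iff, mul_smul, inv_smul_eq_iff]
      exact hab.symm
    rw [hfree ω, Subgroup.mem_bot, inv_mul_eq_one] at h1
    exact e.symm.injective h1
  · intro x
    obtain ⟨d, hd⟩ := htr.exists_smul_eq ω x
    refine ⟨e d, ?_⟩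
    show (e.symm (e d)) • ω = x
    rw [e.symm_apply_apply]; exact hd

end Cfsg.Agent.S3572
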