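import Cfsg.Statements.S3573


set_option autoImplicit false
open Cfsg

namespace Cfsg.Agent.S3573
open Equiv Equiv.Perm

theorem worst {n r : ℕ} (hr : r.Prime) (hrn : r ≤ n) (k : ℕ)
    (h : ∀ σ : Perm (Fin n), orderOf σ = r → ∃ s : Finset (Fin n), s.card = k ∧ s.image σ = s) :
    k % r ≤ n % r := by
  classical
  haveI : Fact r.Prime := ⟨hr⟩
  have hne : Multiset.replicate (n / r) r ≠ 0 := by
    have : 0 < n / r := Nat.div_pos hrn hr.pos
    intro h0
    have := congrArg Multiset.card h0
    rw [Multiset.card_replicate, Multiset.card_zero] at this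
    omega
  obtain ⟨σ, hσ⟩ : ∃ σ : Perm (Fin n), σ.cycleType = Multiset.replicate (n / r) r := by
    rw [exists_with_cycleType_iff]
    refine ⟨?_, fun a ha => by rw [Multiset.eq_of_mem_replicate ha]; exact hr.two_le⟩
    simp [Nat.div_mul_le_self]
  have hord : orderOf σ = r := by
    have h1 : σ ^ r = 1 := by
      rw [← orderOf_dvd_iff_pow_eq_one, ← lcm_cycleType, hσ]
      exact Multiset.lcm_dvd.2 fun a ha => by rw [Multiset.eq_of_mem_replicate ha]
    refine orderOf_eq_prime h1 fun h0 => hne ?_
    rw [← hσ, h0, cycleType_one]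
  obtain ⟨s, hsk, hs⟩ := h σ hord
  have hmem : ∀ x, σ x ∈ s ↔ x ∈ s := by
    intro x
    conv_lhs => rw [← hs]
    rw [Finset.mem_image]
    exact ⟨fun ⟨y, hy, hyx⟩ => σ.injective hyx ▸ hy, fun hx => ⟨x, hx, rfl⟩⟩
  let τ : Perm {x // x ∈ s} := σ.subtypePerm hmem
  have hτ : τ ^ r ^ 1 = 1 := by
    rw [pow_one, subtypePerm_pow]
    have h1 : σ ^ r = 1 := by rw [← hord, pow_orderOf_eq_one]
    ext x
    simp [h1]
  have hmod := card_compl_support_modEq hτ
  rw [Fintype.card_coe, hsk] at hmod
  have hle : τ.supportᶜ.card ≤ σ.supportᶜ.card := by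
    refine Finset.card_le_card_of_injOn Subtype.val ?_ (Subtype.val_injective.injOn)
    intro x hx
    simp [τ, Subtype.ext_iff] at hx ⊢
    exact hx
  have hfix : σ.supportᶜ.card = n % r := by
    rw [Finset.card_compl, ← sum_cycleType, hσ, Multiset.sum_replicate, smul_eq_mul, Fintype.card_fin]
    have := Nat.div_add_mod n r
    rw [mul_comm] at this
    omega
  calc k % r = τ.supportᶜ.card % r := hmod.symm
    _ ≤ τ.supportᶜ.card := Nat.mod_le _ _
    _ ≤ n % r := hle.trans hfix.le

theorem always {n r : ℕ} (hr : r.Prime) {k : ℕ} (hkn : k ≤ n) (hk : k % r ≤ n % r)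
    (σ : Perm (Fin n)) (hσ : orderOf σ = r) : ∃ s : Finset (Fin n), s.card = k ∧ s.image σ = s := by
  classical
  haveI : Fact r.Prime := ⟨hr⟩
  have hpow : σ ^ r = 1 := by rw [← hσ, pow_orderOf_eq_one]
  have hct := cycleType_of_pow_prime_eq_one hpow
  obtain ⟨C, hC⟩ : ∃ C, σ.cycleType.card = C := ⟨_, rfl⟩
  have hsupp : σ.support.card = C * r := by
    rw [← sum_cycleType, hct, Multiset.sum_replicate, smul_eq_mul, hC]
  have hcards : ∀ c ∈ σ.cycleFactorsFinset, c.support.card = r := by
    intro c hc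
    have hm : c.support.card ∈ σ.cycleType := by
      rw [cycleType_def, Multiset.mem_map]
      exact ⟨c, hc, rfl⟩
    rw [hct] at hm
    exact Multiset.eq_of_mem_replicate hm
  have hCcard : σ.cycleFactorsFinset.card = C := by
    rw [← hC, cycleType_def, Multiset.card_map]; rfl
  have hfixc : σ.supportᶜ.card + C * r = n := by
    rw [← hsupp, Finset.card_compl, Fintype.card_fin]
    have := Finset.card_le_univ σ.support
    simp at this
    omega
  obtain ⟨a, ha, b, hb, hab⟩ : ∃ a ≤ C, ∃ b ≤ σ.supportᶜ.card, a * r + b = k := by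
    by_cases hh : C ≤ k / r
    · have h1 := Nat.mul_le_mul_right r hh
      have h2 := Nat.div_mul_le_self k r
      exact ⟨C, le_rfl, k - C * r, by omega, by omega⟩
    · refine ⟨k / r, by omega, k % r, ?_, by rw [mul_comm]; exact Nat.div_add_mod k r⟩
      have h1 : n % r = σ.supportᶜ.card % r :=
        (congrArg (· % r) hfixc).symm.trans (Nat.add_mul_mod_self_right _ _ _)
      have := Nat.mod_le σ.supportᶜ.card r
      omega
  obtain ⟨A, hA, hAc⟩ := Finset.exists_subset_card_eq (hCcard.symm ▸ ha)
  obtain ⟨B, hB, hBc⟩ := Finset.exists_subset_card_eq hb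
  refine ⟨A.biUnion (fun c => c.support) ∪ B, ?_, ?_⟩
  · rw [Finset.card_union_of_disjoint, Finset.card_biUnion, Finset.sum_congr rfl (fun c hc => hcards c (hA hc)),
      Finset.sum_const, smul_eq_mul, hAc, hBc, hab]
    · intro c hc d hd hcd
      exact (cycleFactorsFinset_pairwise_disjoint σ (hA hc) (hA hd) hcd).disjoint_support
    · rw [Finset.disjoint_left]
      intro x hx hxB
      obtain ⟨c, hc, hxc⟩ := Finset.mem_biUnion.1 hx
      exact Finset.mem_compl.1 (hB hxB) (mem_cycleFactorsFinset_support_le (hA hc) hxc)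
  · refine Finset.eq_of_subset_of_card_le ?_ (by rw [Finset.card_image_of_injective _ σ.injective])
    intro y hy
    obtain ⟨x, hx, rfl⟩ := Finset.mem_image.1 hy
    rcases Finset.mem_union.1 hx with h | h
    · obtain ⟨c, hc, hxc⟩ := Finset.mem_biUnion.1 h
      refine Finset.mem_union_left _ (Finset.mem_biUnion.2 ⟨c, hc, ?_⟩)
      have := (mem_cycleFactorsFinset_iff.1 (hA hc)).2 x hxc
      rw [← this]
      exact apply_mem_support.2 hxc
    · have := Finset.mem_compl.1 (hB h)
      rw [mem_support, not_not] at this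
      rw [this]
      exact Finset.mem_union_right _ h


/-- Let 1 ≤ k with 2k < n and consider the symmetric group of degree n acting on the k-subsets of an n-set. Let r be a prime dividing the number C(n,k) of k-subsets. If r is odd, then every permutation of order r fixes some k-subset if and only if r ≤ k and the remainder of k modulo r is at most the remainder of n modulo r. If r = 2, then every involution fixes some k-subset if and only if k is even or n is odd. -/
theorem result (n k : ℕ) (hk : 1 ≤ k) (hkn : 2 * k < n) (r : ℕ) (hr : r.Prime) (hrd : r ∣ Nat.choose n k) :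
    (r ≠ 2 → ((∀ σ : Equiv.Perm (Fin n), orderOf σ = r → ∃ s : Finset (Fin n), s.card = k ∧ s.image σ = s) ↔
      (r ≤ k ∧ k % r ≤ n % r))) ∧
    (r = 2 → ((∀ σ : Equiv.Perm (Fin n), orderOf σ = 2 → ∃ s : Finset (Fin n), s.card = k ∧ s.image σ = s) ↔
      (Even k ∨ Odd n))) := by
  haveI : Fact r.Prime := ⟨hr⟩
  have hrn : r ≤ n := by
    refine hr.dvd_factorial.1 ?_
    rw [← Nat.choose_mul_factorial_mul_factorial (show k ≤ n by omega), mul_assoc]
    exact dvd_mul_of_dvd_left hrd _
  have hrk : k % r ≤ n % r → r ≤ k := by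
    intro h
    by_contra hc
    have hkr : k % r = k := Nat.mod_eq_of_lt (by omega)
    have h1 := Choose.choose_modEq_choose_mod_mul_choose_div_nat (p := r) (n := n) (k := k)
    rw [hkr, Nat.div_eq_of_lt (show k < r by omega), Nat.choose_zero_right, mul_one] at h1
    have h2 : r ∣ (n % r).choose k := (Nat.ModEq.dvd_iff h1 dvd_rfl).1 hrd
    have h4 : k ≤ n % r := by omega
    have h3 : r ∣ (n % r).factorial := by
      rw [← Nat.choose_mul_factorial_mul_factorial h4, mul_assoc]
      exact dvd_mul_of_dvd_left h2 _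
    have := hr.dvd_factorial.1 h3
    have := Nat.mod_lt n hr.pos
    omega
  refine ⟨fun _ => ⟨fun h => ?_, fun h σ hσ => always hr (by omega) h.2 σ hσ⟩, ?_⟩
  · have h' := worst hr hrn k h
    exact ⟨hrk h', h'⟩
  · rintro rfl
    have hiff : k % 2 ≤ n % 2 ↔ (Even k ∨ Odd n) := by
      rw [Nat.even_iff, Nat.odd_iff]; omega
    exact ⟨fun h => hiff.1 (worst hr hrn k h), fun h σ hσ => always hr (by omega) (hiff.2 h) σ hσ⟩

end Cfsg.Agent.S3573
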