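import Cfsg.Statements.S3575
import Mathlib

set_option autoImplicit false
open Cfsg Equiv Finset

namespace Cfsg.Agent.S3575

/-- Number of moved points. -/
def mv {X : Type*} [Fintype X] [DecidableEq X] (σ : Perm X) : ℕ := σ.support.card

theorem mv_permCongr {X Y : Type*} [Fintype X] [DecidableEq X] [Fintype Y] [DecidableEq Y] (e : X ≃ Y) (σ : Perm X) :
    mv (e.permCongr σ) = mv σ := by
  have : (e.permCongr σ).support = σ.support.map e.toEmbedding := by
    ext y
    simp [Equiv.permCongr_apply, Finset.mem_map_equiv, Equiv.apply_eq_iff_eq_symm_apply]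
  rw [mv, mv, this, Finset.card_map]

theorem permCongr_pow {X Y : Type*} (e : X ≃ Y) (σ : Perm X) (n : ℕ) :
    (e.permCongr σ) ^ n = e.permCongr (σ ^ n) := (map_pow e.permCongrHom σ n).symm

theorem dvd_mv {X : Type*} [Fintype X] [DecidableEq X] {r : ℕ} (hr : r.Prime) {σ : Perm X}
    (h : σ ^ r = 1) : r ∣ mv σ := by
  by_cases h1 : σ = 1
  · subst h1; simp [mv]
  obtain ⟨n, hn⟩ := Equiv.Perm.cycleType_prime_order (by rw [orderOf_eq_prime (hp := ⟨hr⟩) h h1]; exact hr)
  rw [mv, ← Equiv.Perm.sum_cycleType, hn, orderOf_eq_prime (hp := ⟨hr⟩) h h1, Multiset.sum_replicate,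
    smul_eq_mul]
  exact dvd_mul_left r _

theorem isConj_of_mv {X : Type*} [Fintype X] [DecidableEq X] {r : ℕ} (hr : r.Prime) {σ τ : Perm X}
    (hσ : orderOf σ = r) (hτ : orderOf τ = r) (h : mv σ = mv τ) : IsConj σ τ := by
  obtain ⟨n, hn⟩ := Equiv.Perm.cycleType_prime_order (hσ.symm ▸ hr : (orderOf σ).Prime)
  obtain ⟨m, hm⟩ := Equiv.Perm.cycleType_prime_order (hτ.symm ▸ hr : (orderOf τ).Prime)
  rw [mv, mv, ← Equiv.Perm.sum_cycleType, ← Equiv.Perm.sum_cycleType, hn, hm, hσ, hτ,
    Multiset.sum_replicate, Multiset.sum_replicate, smul_eq_mul, smul_eq_mul] at h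
  rw [Equiv.Perm.isConj_iff_cycleType_eq, hn, hm, hσ, hτ, Nat.eq_of_mul_eq_mul_right hr.pos h]

theorem exists_perm {r : ℕ} (hr : r.Prime) (c e : ℕ) (h : e * r ≤ c) :
    ∃ σ : Perm (Fin c), σ ^ r = 1 ∧ mv σ = e * r := by
  haveI := Fact.mk hr
  let E : ((Fin e × ZMod r) ⊕ Fin (c - e * r)) ≃ Fin c :=
    Fintype.equivFinOfCardEq (by simp [Nat.add_sub_cancel' h])
  let τ : Perm ((Fin e × ZMod r) ⊕ Fin (c - e * r)) :=
    Equiv.sumCongr (Equiv.prodCongr (Equiv.refl _) (Equiv.addRight (1 : ZMod r))) (Equiv.refl _)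
  have hpow : ∀ (n : ℕ) (x : (Fin e × ZMod r) ⊕ Fin (c - e * r)),
      (τ ^ n) x = Sum.map (fun z : Fin e × ZMod r => (z.1, z.2 + (n : ZMod r))) id x := by
    intro n
    induction n with
    | zero => intro x; cases x <;> simp
    | succ n ih =>
      intro x
      rw [pow_succ', Perm.mul_apply, ih]
      cases x <;> simp [τ, add_assoc]
  refine ⟨E.permCongr τ, ?_, ?_⟩
  · rw [permCongr_pow, show τ ^ r = 1 from Equiv.ext fun x => by rw [hpow]; cases x <;> simp]
    exact map_one E.permCongrHom
  · have : τ.support = Finset.univ.map ⟨Sum.inl, Sum.inl_injective⟩ := by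
      ext x
      cases x <;> simp [τ, Prod.ext_iff]
    rw [mv_permCongr, mv, this, Finset.card_map, Finset.card_univ, Fintype.card_prod, Fintype.card_fin,
      ZMod.card]

theorem distribute {ι : Type*} [DecidableEq ι] (s : Finset ι) (A : ℕ) : ∀ e : ℕ, e ≤ s.card * A →
    ∃ g : ι → ℕ, (∀ i, g i ≤ A) ∧ (∀ i ∉ s, g i = 0) ∧ ∑ i ∈ s, g i = e := by
  induction s using Finset.induction_on with
  | empty => intro e he; exact ⟨fun _ => 0, fun _ => Nat.zero_le _, fun _ _ => rfl, by simp at he ⊢; omega⟩
  | insert x s hx ih =>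
    intro e he
    rw [card_insert_of_notMem hx, add_mul, one_mul] at he
    obtain ⟨g, hg, hg0, hs⟩ := ih (e - min e A) (by omega)
    refine ⟨Function.update g x (min e A), fun i => ?_, fun i hi => ?_, ?_⟩
    · by_cases h : i = x
      · subst h; simp
      · simp [h, hg i]
    · rw [mem_insert, not_or] at hi
      simp [hi.1, hg0 i hi.2]
    · rw [sum_insert hx, Function.update_self, sum_congr rfl (fun i hi => by
        rw [Function.update_of_ne (ne_of_mem_of_not_mem hi hx)]), hs]
      omega

/-- `σ` preserves some uniform partition. -/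
def Pres (a b : ℕ) (σ : Perm (Fin (a * b))) : Prop :=
  ∃ f : Fin (a * b) → Fin b, (∀ j : Fin b, Nat.card {x : Fin (a * b) // f x = j} = a) ∧
    ∃ π : Perm (Fin b), ∀ x : Fin (a * b), f (σ x) = π (f x)

theorem pres_conj {a b : ℕ} {σ τ : Perm (Fin (a * b))} (h : IsConj σ τ) (hs : Pres a b σ) : Pres a b τ := by
  obtain ⟨c, rfl⟩ := isConj_iff.1 h
  obtain ⟨f, hf, π, hπ⟩ := hs
  refine ⟨fun x => f (c⁻¹ x), fun j => ?_, π, fun x => ?_⟩
  · exact (Nat.card_congr (c⁻¹.subtypeEquiv fun x => Iff.rfl)).trans (hf j)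
  · simp [hπ]

/-- Achievable numbers of cycles. -/
def Ach (a b r k : ℕ) : Prop := ∃ j e : ℕ, j * r ≤ b ∧ e ≤ (b - j * r) * (a / r) ∧ k = j * a + e

theorem ach_of_pres {a b r : ℕ} (ha : 2 ≤ a) (hr : r.Prime) {σ : Perm (Fin (a * b))} (hσ : σ ^ r = 1)
    (hp : Pres a b σ) (k : ℕ) (hk : mv σ = k * r) : Ach a b r k := by
  obtain ⟨f, hf, π, hπ⟩ := hp
  have hfib : ∀ y : Fin b, (univ.filter fun x => f x = y).card = a := fun y => by
    refine Eq.trans ?_ (hf y)
    rw [Nat.card_eq_fintype_card, Fintype.card_subtype]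
  have hpi : ∀ (n : ℕ) x, f ((σ ^ n) x) = (π ^ n) (f x) := by
    intro n
    induction n with
    | zero => intro x; simp
    | succ n ih => intro x; rw [pow_succ', Perm.mul_apply, hπ, ih, pow_succ', Perm.mul_apply]
  have hπr : π ^ r = 1 := by
    ext1 y
    obtain ⟨x, hx⟩ := Finset.card_pos.1 (show 0 < (univ.filter fun x => f x = y).card by rw [hfib]; omega)
    rw [mem_filter] at hx
    rw [← hx.2, ← hpi, hσ]
    rfl
  obtain ⟨j, hj⟩ := dvd_mv hr hπr
  have hsplit := Finset.card_eq_sum_card_fiberwise (s := σ.support) (t := univ) (f := f) (fun x _ => mem_univ _)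
  rw [← mv, hk] at hsplit
  have hin : ∀ y ∉ π.support, ∃ e, e ≤ a / r ∧ (σ.support.filter fun x => f x = y).card = e * r := by
    intro y hy
    rw [Perm.notMem_support] at hy
    have hinv : ∀ x, f (σ x) = y ↔ f x = y := fun x => by
      rw [hπ]; exact ⟨fun h => π.injective (h.trans hy.symm), fun h => h.symm ▸ hy⟩
    set τ : Perm {x // f x = y} := σ.subtypePerm hinv
    have hτ : τ ^ r = 1 := by
      rw [show τ ^ r = (σ ^ r).subtypePerm _ from Equiv.Perm.subtypePerm_pow _ _ _]
      ext x
      simp [hσ]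
    have hc : (σ.support.filter fun x => f x = y).card = mv τ := by
      rw [mv, ← Finset.card_map (Function.Embedding.subtype _)]
      congr 1
      ext x
      simp [τ, Subtype.ext_iff, and_comm]
    obtain ⟨e, he⟩ := dvd_mv hr hτ
    refine ⟨e, (Nat.le_div_iff_mul_le hr.pos).2 ?_, by rw [hc, he, mul_comm]⟩
    have : mv τ ≤ a := by
      refine (Finset.card_le_univ _).trans ?_
      rw [Fintype.card_subtype, hfib]
    rw [he] at this
    rwa [mul_comm]
  choose! E hE1 hE2 using hin
  refine ⟨j, ∑ y ∈ (π.support)ᶜ, E y, ?_, ?_, ?_⟩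
  · have := Finset.card_le_univ π.support
    rw [Fintype.card_fin, ← mv, hj] at this
    rwa [mul_comm]
  · refine (Finset.sum_le_card_nsmul _ _ (a / r) fun y hy => hE1 y (by simpa using hy)).trans ?_
    rw [card_compl, Fintype.card_fin, smul_eq_mul, ← mv, hj, mul_comm j r]
  · refine Nat.eq_of_mul_eq_mul_right hr.pos ?_
    rw [hsplit, ← Finset.sum_add_sum_compl π.support, add_mul, Finset.sum_mul]
    congr 1
    · have : ∀ y ∈ π.support, (σ.support.filter fun x => f x = y).card = a := by
        intro y hy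
        refine Eq.trans ?_ (hfib y)
        congr 1
        ext x
        simp only [mem_filter, mem_univ, true_and, and_iff_right_iff_imp, Perm.mem_support]
        intro hx he
        rw [Perm.mem_support] at hy
        exact hy (by rw [← hx, ← hπ, he])
      rw [Finset.sum_congr rfl this, sum_const, smul_eq_mul, ← mv, hj]
      ring
    · exact Finset.sum_congr rfl fun y hy => hE2 y (by simpa using hy)

theorem pres_of_ach {a b r : ℕ} (hr : r.Prime) (k : ℕ) (hk : Ach a b r k) :
    ∃ τ : Perm (Fin (a * b)), τ ^ r = 1 ∧ mv τ = k * r ∧ Pres a b τ := by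
  obtain ⟨j, e, hj, he, rfl⟩ := hk
  obtain ⟨π, hπ, hπm⟩ := exists_perm hr b j hj
  obtain ⟨g, hg, hg0, hgs⟩ := distribute (π.supportᶜ) (a / r) e (by
    rw [card_compl, Fintype.card_fin, ← mv, hπm]; exact he)
  have hex : ∀ y, ∃ ρ : Perm (Fin a), ρ ^ r = 1 ∧ mv ρ = g y * r := fun y =>
    exists_perm hr a (g y) ((Nat.le_div_iff_mul_le hr.pos).1 (hg y))
  choose ρ hρ hρm using hex
  have hρ1 : ∀ y ∈ π.support, ρ y = 1 := by
    intro y hy
    have := hρm y
    rw [hg0 y (by simpa using hy), zero_mul, mv, Finset.card_eq_zero, Perm.support_eq_empty_iff] at this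
    exact this
  have hρc : ∀ y, ρ (π y) = ρ y := by
    intro y
    by_cases hy : y ∈ π.support
    · rw [hρ1 y hy, hρ1 _ (Perm.apply_mem_support.2 hy)]
    · rw [Perm.notMem_support.1 hy]
  let τ : Perm (Fin b × Fin a) :=
    { toFun := fun z => (π z.1, ρ z.1 z.2)
      invFun := fun z => (π.symm z.1, (ρ (π.symm z.1)).symm z.2)
      left_inv := fun z => by simp
      right_inv := fun z => by simp }
  have hpow : ∀ (n : ℕ) z, (τ ^ n) z = ((π ^ n) z.1, (ρ z.1 ^ n) z.2) := by
    intro n
    induction n with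
    | zero => intro z; simp
    | succ n ih =>
      intro z
      have hh : ∀ m : ℕ, ρ ((π ^ m) z.1) = ρ z.1 := by
        intro m
        induction m with
        | zero => simp
        | succ m ihm => rw [pow_succ', Perm.mul_apply, hρc, ihm]
      rw [pow_succ', Perm.mul_apply, ih]
      simp [τ, hh, pow_succ']
  let E : Fin b × Fin a ≃ Fin (a * b) := (Equiv.prodComm _ _).trans finProdFinEquiv
  refine ⟨E.permCongr τ, ?_, ?_, fun x => (E.symm x).1, fun y => ?_, π, fun x => ?_⟩
  · rw [permCongr_pow, show τ ^ r = 1 from Equiv.ext fun z => by rw [hpow, hπ, hρ]; rfl]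
    exact map_one E.permCongrHom
  · rw [mv_permCongr, mv, Finset.card_eq_sum_card_fiberwise (t := univ) (f := Prod.fst) (fun x _ => mem_univ _),
      ← Finset.sum_add_sum_compl π.support, add_mul, ← hgs, Finset.sum_mul]
    congr 1
    · rw [Finset.sum_const_nat (m := a), ← mv, hπm, mul_right_comm]
      intro y hy
      rw [show (τ.support.filter fun z => z.1 = y) = ({y} : Finset (Fin b)) ×ˢ univ from ?_]
      · simp
      ext ⟨u, v⟩
      simp only [mem_filter, Perm.mem_support, mem_product, mem_singleton, mem_univ, and_true]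
      refine ⟨fun h => h.2, fun h => ⟨fun e => ?_, h⟩⟩
      exact Perm.mem_support.1 hy (h ▸ congrArg Prod.fst e)
    · refine Finset.sum_congr rfl fun y hy => ?_
      rw [mem_compl, Perm.notMem_support] at hy
      rw [show (τ.support.filter fun z => z.1 = y) = ({y} : Finset (Fin b)) ×ˢ (ρ y).support from ?_]
      · rw [card_product, card_singleton, one_mul, ← mv, hρm]
      ext ⟨u, v⟩
      simp only [mem_filter, Perm.mem_support, mem_product, mem_singleton]
      constructor
      · rintro ⟨h, rfl⟩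
        exact ⟨rfl, fun e => h (Prod.ext hy e)⟩
      · rintro ⟨rfl, h⟩
        exact ⟨fun e => h (congrArg Prod.snd e), rfl⟩
  · refine Eq.trans ?_ (Nat.card_fin a)
    refine Nat.card_congr ⟨fun x => (E.symm x.1).2, fun v => ⟨E (y, v), by simp⟩, fun x => ?_, fun v => ?_⟩
    · have h := x.2
      refine Subtype.ext ?_
      show E (y, (E.symm x.1).2) = x.1
      rw [← Equiv.eq_symm_apply]
      exact Prod.ext h.symm rfl
    · simp
  · simp [Equiv.permCongr_apply, τ]

theorem cover_iff (a b r : ℕ) (ha : 2 ≤ a) (hr : r.Prime) (hab : r ≤ a * b) :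
    (∀ k, 1 ≤ k → k * r ≤ a * b → Ach a b r k) ↔
      (r ≤ a ∧ (a % r = 0 ∨ (b % r = 0 ∧ a % r = 1) ∨
        (a % r ≠ 0 ∧ b % r ≠ 0 ∧ (b % r) * (a % r) < r ∧ (b < r ∨ (b % r + r) * (a % r) ≤ (b % r) * a + r)))) := by
  have ea : a = r * (a / r) + a % r := (Nat.div_add_mod a r).symm
  have eb : b = r * (b / r) + b % r := (Nat.div_add_mod b r).symm
  have hA := Nat.mod_lt a hr.pos
  have hB := Nat.mod_lt b hr.pos
  unfold Ach
  generalize a / r = A at ea ⊢
  generalize a % r = α at ea hA ⊢
  generalize hBdef : b / r = B at eb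
  generalize b % r = β at eb hB ⊢
  have hr2 := hr.two_le
  have jle : ∀ j, j * r ≤ b → j ≤ B := fun j hj => hBdef ▸ (Nat.le_div_iff_mul_le hr.pos).2 hj
  have top : ∀ j e, j * r ≤ b → e ≤ (b - j * r) * A → j * a + e ≤ b * A + j * α := by
    intro j e hj he
    have : (b - j * r) * A + j * r * A = b * A := by rw [← add_mul, Nat.sub_add_cancel hj]
    rw [ea]
    nlinarith
  have hab' : a * b = (b * A + B * α) * r + β * α := by subst ea eb; ring
  constructor
  · intro h
    have hra : r ≤ a := by
      by_contra hlt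
      have hA0 : A = 0 := by
        by_contra hne
        have : r * 1 ≤ r * A := Nat.mul_le_mul_left r (Nat.one_le_iff_ne_zero.2 hne)
        omega
      obtain ⟨j, e, -, he, h1⟩ := h 1 le_rfl (by omega)
      rw [hA0, mul_zero] at he
      have he0 : e = 0 := by omega
      subst he0
      rcases Nat.eq_zero_or_pos j with hj | hj
      · subst hj; omega
      · nlinarith
    have hsmall : β * α < r := by
      by_contra hge
      obtain ⟨j, e, hj, he, hk⟩ := h (b * A + B * α + 1) (by omega) (by rw [hab']; nlinarith)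
      have := top j e hj he
      have := Nat.mul_le_mul_right α (jle j hj)
      omega
    have hgap : B = 0 ∨ α ≤ β * A + 1 := by
      by_contra hcon
      push Not at hcon
      obtain ⟨B', rfl⟩ : ∃ B', B = B' + 1 := ⟨B - 1, by omega⟩
      have hk0 : B' * a + (β + r) * A + 1 < (B' + 1) * a := by
        have : (β + r) * A + 1 < a := by rw [ea, add_mul]; nlinarith
        rw [add_mul B', one_mul]; omega
      have hval : B' * a + (β + r) * A = b * A + B' * α := by subst ea eb; ring
      have hmax : (B' + 1) * a ≤ b * A + (B' + 1) * α := by subst ea eb; nlinarith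
      obtain ⟨j, e, hj, he, hk⟩ := h (B' * a + (β + r) * A + 1) (by omega) (by rw [hab']; nlinarith)
      have := top j e hj he
      rcases Nat.lt_or_ge j (B' + 1) with hlt | hge
      · have := Nat.mul_le_mul_right α (show j ≤ B' by omega)
        omega
      · have := Nat.mul_le_mul_right a hge
        omega
    refine ⟨hra, ?_⟩
    rcases Nat.eq_zero_or_pos α with hα | hα
    · exact Or.inl hα
    rcases Nat.eq_zero_or_pos β with hβ | hβ
    · refine Or.inr (Or.inl ⟨hβ, ?_⟩)
      rcases hgap with h0 | h0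
      · subst hβ h0; simp at eb; subst eb; simp at hab; omega
      · subst hβ; omega
    refine Or.inr (Or.inr ⟨hα.ne', hβ.ne', hsmall, ?_⟩)
    rcases hgap with h0 | h0
    · left; subst h0; simp at eb; omega
    · right; subst ea; nlinarith [Nat.mul_le_mul_left r h0]
  · rintro ⟨hra, hC⟩
    have hsmall : β * α < r := by
      rcases hC with h | ⟨h, -⟩ | ⟨-, -, h, -⟩
      · subst h; simp; omega
      · subst h; simp; omega
      · exact h
    have hgap : B = 0 ∨ α ≤ β * A + 1 := by
      rcases hC with h | ⟨-, h⟩ | ⟨-, -, -, h | h⟩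
      · right; omega
      · right; omega
      · left
        by_contra hne
        have : r * 1 ≤ r * B := Nat.mul_le_mul_left r (Nat.one_le_iff_ne_zero.2 hne)
        omega
      · right
        have : r * α ≤ r * (β * A + 1) := by subst ea; nlinarith
        exact Nat.le_of_mul_le_mul_left this hr.pos
    intro k hk1 hk
    have hkle : k ≤ b * A + B * α := by
      by_contra hlt
      have := Nat.mul_le_mul_right r (show b * A + B * α + 1 ≤ k by omega)
      rw [hab'] at hk
      nlinarith
    rcases Nat.lt_or_ge k (B * a) with hlt | hge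
    · obtain ⟨B', rfl⟩ : ∃ B', B = B' + 1 := ⟨B - 1, by rcases Nat.eq_zero_or_pos B with h | h <;> [skip; omega]; subst h; simp at hlt⟩
      have hj : k / a ≤ B' := Nat.lt_succ_iff.1 ((Nat.div_lt_iff_lt_mul (by omega)).2 hlt)
      have hjb : k / a * r + r + β ≤ b := by
        have := Nat.mul_le_mul_right r hj
        subst eb; nlinarith
      refine ⟨k / a, k % a, by omega, ?_, by rw [mul_comm]; exact (Nat.div_add_mod k a).symm⟩
      have h1 := Nat.mod_lt k (show a > 0 by omega)
      have h2 : (r + β) * A ≤ (b - k / a * r) * A := Nat.mul_le_mul_right A (by omega)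
      have h3 : α ≤ β * A + 1 := hgap.resolve_left (by omega)
      rw [add_mul] at h2
      omega
    · refine ⟨B, k - B * a, by rw [eb, mul_comm]; omega, ?_, by omega⟩
      have e1 : b - B * r = β := by rw [eb, mul_comm B r]; omega
      have e2 : b * A + B * α = β * A + B * a := by subst ea eb; ring
      rw [e1]
      omega

/-- Let a, b ≥ 2 and consider the symmetric group of degree a·b acting on the partitions of an (a·b)-set into b parts of size a (encoded as maps onto a b-element set all of whose fibres have a elements; a permutation fixes such a partition when it permutes the fibres). Let r be a prime dividing the number (ab)!/((a!)^b·b!) of such partitions, and let ℓ and k be the remainders of a and b modulo r. Then every permutation of order r fixes some such partition if and only if r ≤ a and one of the following holds: ℓ = 0; or k = 0 and ℓ = 1; or ℓ and k are non-zero, k·ℓ < r, and either b < r or (k + r)·ℓ ≤ k·a + r. -/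
theorem result (a b : ℕ) (ha : 2 ≤ a) (hb : 2 ≤ b) (r : ℕ) (hr : r.Prime)
    (hrd : r ∣ (a * b).factorial / (a.factorial ^ b * b.factorial)) :
    (∀ σ : Equiv.Perm (Fin (a * b)), orderOf σ = r →
        ∃ f : Fin (a * b) → Fin b, (∀ j : Fin b, Nat.card {x : Fin (a * b) // f x = j} = a) ∧
          ∃ π : Equiv.Perm (Fin b), ∀ x : Fin (a * b), f (σ x) = π (f x)) ↔
      (r ≤ a ∧ (a % r = 0 ∨ (b % r = 0 ∧ a % r = 1) ∨
        (a % r ≠ 0 ∧ b % r ≠ 0 ∧ (b % r) * (a % r) < r ∧ (b < r ∨ (b % r + r) * (a % r) ≤ (b % r) * a + r)))) := by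
  have hrn : r ≤ a * b := by
    by_contra hlt
    have h2 : (a * b).factorial / (a.factorial ^ b * b.factorial) ∣ (a * b).factorial := by
      refine Nat.div_dvd_of_dvd ?_
      have := Nat.uniformBell_mul_eq b (show a ≠ 0 by omega)
      exact ⟨Nat.uniformBell b a, by rw [mul_comm a b, ← this]; ring⟩
    exact hlt ((Nat.Prime.dvd_factorial hr).1 (hrd.trans h2))
  rw [← cover_iff a b r ha hr hrn]
  constructor
  · intro h k hk1 hk
    obtain ⟨σ, hσ, hm⟩ := exists_perm hr (a * b) k hk
    have h1 : σ ≠ 1 := by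
      intro e
      subst e
      simp [mv] at hm
      rcases hm with h | h
      · omega
      · exact hr.ne_zero h
    exact ach_of_pres ha hr hσ (h σ (orderOf_eq_prime (hp := ⟨hr⟩) hσ h1)) k hm
  · intro h σ hσ
    have hpow : σ ^ r = 1 := hσ ▸ pow_orderOf_eq_one σ
    obtain ⟨k, hk⟩ := dvd_mv hr hpow
    have hk' : k * r ≤ a * b := by
      have := Finset.card_le_univ σ.support
      rw [Fintype.card_fin, ← mv, hk] at this
      rwa [mul_comm]
    have hk1 : 1 ≤ k := by
      rcases Nat.eq_zero_or_pos k with h0 | h0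
      · subst h0
        simp [mv] at hk
        rw [hk, orderOf_one] at hσ
        exact absurd hσ.symm hr.ne_one
      · exact h0
    obtain ⟨τ, hτ, hτm, hP⟩ := pres_of_ach hr k (h k hk1 hk')
    have hτ1 : τ ≠ 1 := by
      intro e
      subst e
      simp [mv] at hτm
      rcases hτm with h | h
      · omega
      · exact hr.ne_zero h
    exact pres_conj (isConj_of_mv hr (orderOf_eq_prime (hp := ⟨hr⟩) hτ hτ1) hσ (by rw [hτm, hk, mul_comm])) hP

end Cfsg.Agent.S3575
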