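import Cfsg.Statements.S3589
import Cfsg.Agent.H69.SpecEight.Main

set_option autoImplicit false
open Cfsg

namespace Cfsg.Agent.S3589

/-- Let F be a finite field of characteristic 2 and let a, b ∈ F make the binary form z₁² + a z₁z₂ + b z₂² anisotropic. Then the symplectic group PSp(8,F) (= Sp(8,F)) and the full isometry group of the non-singular quadratic form x₁y₁ + x₂y₂ + x₃y₃ + (z₁² + a z₁z₂ + b z₂²) of minus type in dimension 8 have the same set of element orders. -/
theorem result {F : Type*} [Field F] [Fintype F]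
    [CharP F 2] (a b : F) (han : ∀ z₁ z₂ : F, z₁ ^ 2 + a * z₁ * z₂ + b * z₂ ^ 2 = 0 → z₁ = 0 ∧ z₂ = 0) :
    Set.range (orderOf : Cfsg.PSp 4 F → ℕ) = Set.range (orderOf : ↥(Cfsg.isometryGroup F (Cfsg.quadFormMinus 3 F a b)) → ℕ) := by
  haveI : Fintype (Matrix.symplecticGroup (Fin 4) F) := Fintype.ofFinite _
  apply Set.Subset.antisymm
  · rintro m ⟨y, rfl⟩
    obtain ⟨g, rfl⟩ := QuotientGroup.mk_surjective y
    rw [H69.SpecEight.orderOf_mk_PSp (by norm_num)]
    obtain ⟨n, hn, hgn⟩ := H69.SpecEight.exists_symplectic_bound g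
    obtain ⟨h, hh⟩ := H69.SpecEight.real_bounds han hn
    have hdvd : orderOf g ∣ orderOf ((Orthogonal.toO (Orthogonal.formMinus F 3 a b)).symm h) := by
      rw [MulEquiv.orderOf_eq]; exact hgn.trans hh
    set x : ↥(Cfsg.isometryGroup F (Cfsg.quadFormMinus 3 F a b)) :=
      (Orthogonal.toO (Orthogonal.formMinus F 3 a b)).symm h
    refine ⟨x ^ (orderOf x / orderOf g), ?_⟩
    have hpos : orderOf x ≠ 0 := (orderOf_pos x).ne'
    exact (orderOf_pow_of_dvd (Nat.div_ne_zero_iff.2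
      ⟨(orderOf_pos g).ne', Nat.le_of_dvd (orderOf_pos x) hdvd⟩) (Nat.div_dvd_of_dvd hdvd)).trans
      (Nat.div_div_self hdvd hpos)
  · rintro m ⟨x, rfl⟩
    obtain ⟨f, hf⟩ := H69.SpecEight.exists_embedding han
    refine ⟨QuotientGroup.mk (f (Orthogonal.toO (Orthogonal.formMinus F 3 a b) x)), ?_⟩
    rw [H69.SpecEight.orderOf_mk_PSp (by norm_num), orderOf_injective f hf]
    exact MulEquiv.orderOf_eq (Orthogonal.toO (Orthogonal.formMinus F 3 a b)) x

end Cfsg.Agent.S3589
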