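import Cfsg.Statements.S3590
import Cfsg.Agent.H69.SpecEight.Witness

set_option autoImplicit false
open Cfsg

namespace Cfsg.Agent.S3590

/-- Let F be a finite field of characteristic 2. Then PSp(8,F) is not determined by its set of element orders, not even up to finitely many groups: for every bound there is a finite group of larger order with exactly the same set of element orders as PSp(8,F). -/
theorem result {F : Type*} [Field F] [Fintype F]
    [CharP F 2] (M : ℕ) :
    ∃ (H : Type) (_ : Group H) (_ : Fintype H), M < Fintype.card H ∧ Set.range (orderOf : H → ℕ) = Set.range (orderOf : Cfsg.PSp 4 F → ℕ) := by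
  classical
  obtain ⟨ζ, hζ⟩ := H69.SpecEight.exists_no_root (F := F)
  have hab : ∀ z₁ z₂ : F, z₁ ^ 2 + 1 * z₁ * z₂ + ζ * z₂ ^ 2 = 0 → z₁ = 0 ∧ z₂ = 0 :=
    fun z₁ z₂ h => Orthogonal.aniso_of_no_root hζ z₁ z₂ h
  haveI : Finite (H69.SpecEight.omega8 hab) := by
    haveI := H69.SpecEight.finite_O' (F := F) (Orthogonal.formMinus F 3 1 ζ)
    exact Subtype.finite
  haveI : Finite (H69.SpecEight.Ext hab (M + 1)) :=
    Finite.of_equiv _ SemidirectProduct.equivProd.symm
  obtain ⟨n, ⟨e⟩⟩ := Finite.exists_equiv_fin (H69.SpecEight.Ext hab (M + 1))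
  letI : Group (Fin n) := e.symm.group
  refine ⟨Fin n, inferInstance, inferInstance, ?_, ?_⟩
  · rw [Fintype.card_fin]
    have hn : Nat.card (H69.SpecEight.Ext hab (M + 1)) = n := by
      rw [Nat.card_congr e, Nat.card_fin]
    have hV : 2 ≤ Nat.card ((Fin 3 ⊕ Fin 3) ⊕ Fin 2 → F) := Finite.one_lt_card
    rw [← hn, Nat.card_congr SemidirectProduct.equivProd, Nat.card_prod,
      Nat.card_congr Multiplicative.toAdd, Nat.card_fun, Nat.card_fin]
    calc M < 2 ^ (M + 1) := lt_of_lt_of_le Nat.lt_two_pow_self (Nat.pow_le_pow_right two_pos M.le_succ)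
      _ ≤ Nat.card ((Fin 3 ⊕ Fin 3) ⊕ Fin 2 → F) ^ (M + 1) := Nat.pow_le_pow_left hV _
      _ ≤ _ := Nat.le_mul_of_pos_right _ Nat.card_pos
  · rw [← H69.SpecEight.spectrum_ext hab (M + 1) (Nat.le_add_left 1 M)]
    have hm : ∀ x, orderOf (e.symm x) = orderOf x := fun x =>
      MulEquiv.orderOf_eq (Equiv.mulEquiv e.symm) x
    ext m
    constructor
    · rintro ⟨x, rfl⟩
      exact ⟨e.symm x, hm x⟩
    · rintro ⟨y, rfl⟩
      exact ⟨e y, by rw [← hm, e.symm_apply_apply]⟩

end Cfsg.Agent.S3590
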