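import Cfsg.Statements.S3599
import Cfsg.Agent.H69.MinFrobenius

set_option autoImplicit false
open Cfsg

namespace Cfsg.Agent.S3599
open H69.MinFrobenius

variable {ι : Type*} [DecidableEq ι] [Fintype ι] {X : ι → Type} [∀ j, Group (X j)]

theorem orderOf_pi_eq_prod (c : ι → ℕ) (hcop : ∀ i j, i ≠ j → Nat.Coprime (c i) (c j))
    (x : ∀ j, X j) (hx : ∀ j, orderOf (x j) = c j) : orderOf x = ∏ j, c j := by
  apply Nat.dvd_antisymm
  · rw [orderOf_dvd_iff_pow_eq_one]
    funext j
    rw [Pi.pow_apply, Pi.one_apply, ← orderOf_dvd_iff_pow_eq_one, hx]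
    exact Finset.dvd_prod_of_mem _ (Finset.mem_univ j)
  · have h : ∀ s : Finset ι, ∏ j ∈ s, c j ∣ orderOf x := by
      intro s
      induction s using Finset.induction_on with
      | empty => simp
      | insert j s hj ih =>
        rw [Finset.prod_insert hj]
        refine (Nat.Coprime.prod_right fun k hk => hcop j k fun h => hj (h ▸ hk)).mul_dvd_of_dvd_of_dvd ?_ ih
        rw [← hx]
        exact orderOf_map_dvd (Pi.evalMonoidHom X j) x
    exact h _


/-- A finite group is critical with respect to a set Ω of natural numbers when its set of element orders is Ω while no proper section H/N (H a subgroup, N normal in H, (H, N) ≠ (whole group, 1)) has Ω as its set of element orders. Let s ≥ 1 and let p(j,0), p(j,1) (j < s) be 2s pairwise distinct primes, and let Ω be the set of all products c(0)·…·c(s−1) with each c(j) ∈ {1, p(j,0), p(j,1)}. Then there are 2^s pairwise non-isomorphic finite groups critical with respect to Ω. -/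
theorem result (s : ℕ) (hs : 1 ≤ s) (p : Fin s → Fin 2 → ℕ)
    (hp : ∀ j i, (p j i).Prime) (hinj : ∀ j i j' i', p j i = p j' i' → j = j' ∧ i = i') :
    ∃ (G : Fin (2 ^ s) → Type) (_ : ∀ a, Group (G a)) (_ : ∀ a, Fintype (G a)),
      (∀ a b, a ≠ b → ¬ Nonempty (G a ≃* G b)) ∧
      ∀ a, Set.range (orderOf : (G a) → ℕ) = {m : ℕ | ∃ c : Fin s → ℕ, (∀ j, c j = 1 ∨ c j = p j 0 ∨ c j = p j 1) ∧ m = ∏ j, c j} ∧
      ∀ (H : Subgroup (G a)) (N : Subgroup ↥H) [N.Normal], (H ≠ ⊤ ∨ N ≠ ⊥) → Set.range (orderOf : (↥H ⧸ N) → ℕ) ≠ {m : ℕ | ∃ c : Fin s → ℕ, (∀ j, c j = 1 ∨ c j = p j 0 ∨ c j = p j 1) ∧ m = ∏ j, c j} := by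
  classical
  have hne : ∀ j i, p j i ≠ p j (1 - i) := by
    intro j i h
    have h' := (hinj j i j (1 - i) h).2
    revert h'; clear h; revert i; decide
  have hex : ∀ (j : Fin s) (i : Fin 2), ∃ (G : Type) (_ : Group G) (_ : Finite G),
      IsMinFrob G (p j i) (p j (1 - i)) := fun j i => exists_isMinFrob _ _ (hp _ _) (hp _ _) (hne j i)
  choose X iX fX hX using hex
  let enc : Fin (2 ^ s) ≃ (Fin s → Fin 2) := finFunctionFinEquiv.symm
  let Y : (Fin s → Fin 2) → Type := fun b => ∀ j, X j (b j)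
  letI : ∀ b, Group (Y b) := fun b => Pi.group
  haveI : ∀ b, Finite (Y b) := fun b => Pi.finite
  refine ⟨fun a => Y (enc a), fun a => @Pi.group _ _ (fun j => iX j (enc a j)), fun a => Fintype.ofFinite _, ?_, ?_⟩
  · rintro a a' hne' ⟨e⟩
    obtain ⟨j, hj⟩ := Function.ne_iff.1 (fun h => hne' (enc.injective h))
    have hc := Nat.card_congr e.toEquiv
    have hbb : 1 - enc a j = enc a' j := by
      revert hj; generalize enc a j = x; generalize enc a' j = y; revert x y; decide
    have hbb' : 1 - enc a' j = enc a j := by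
      revert hj; generalize enc a j = x; generalize enc a' j = y; revert x y; decide
    obtain ⟨d, hd1, hd, hdt⟩ := (hX j (enc a j)).card
    obtain ⟨d', hd1', hd', hdt'⟩ := (hX j (enc a' j)).card
    rw [hbb] at hd hdt
    rw [hbb'] at hd' hdt'
    have hr := hp j (enc a j)
    have ht := hp j (enc a' j)
    have hrt : p j (enc a j) ≠ p j (enc a' j) := fun h => hj (hinj _ _ _ _ h).2
    -- the other factors have order prime to both primes
    have hM : ∀ (b : Fin s → Fin 2) (i : Fin 2),
        Nat.Coprime (p j i) (∏ k ∈ Finset.univ.erase j, Nat.card (X k (b k))) := by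
      intro b i
      refine Nat.Coprime.prod_right fun k hk => ?_
      have hkj : k ≠ j := (Finset.mem_erase.1 hk).1
      obtain ⟨e', -, he', -⟩ := (hX k (b k)).card
      rw [he']
      have hcop : ∀ i', Nat.Coprime (p j i) (p k i') := fun i' =>
        (Nat.coprime_primes (hp _ _) (hp _ _)).2 fun h => hkj (hinj _ _ _ _ h).1.symm
      exact ((hcop _).pow_right _).mul_right (hcop _)
    have hsplit : ∀ b : Fin s → Fin 2, Nat.card (Y b) =
        Nat.card (X j (b j)) * ∏ k ∈ Finset.univ.erase j, Nat.card (X k (b k)) := fun b => by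
      rw [Finset.mul_prod_erase _ (fun k => Nat.card (X k (b k))) (Finset.mem_univ j)]
      exact Nat.card_pi
    have hc' : Nat.card (Y (enc a)) = Nat.card (Y (enc a')) := hc
    rw [hsplit, hsplit, hd, hd'] at hc'
    have hco1 : Nat.Coprime (p j (enc a j)) (p j (enc a' j)) := (Nat.coprime_primes hr ht).2 hrt
    have e1 : d = 1 := by
      have h1 : p j (enc a j) ^ d ∣ p j (enc a j) := by
        have h2 : p j (enc a j) ^ d ∣ p j (enc a' j) ^ d' * p j (enc a j) *
            ∏ k ∈ Finset.univ.erase j, Nat.card (X k (enc a' k)) := by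
          rw [← hc', mul_assoc]; exact dvd_mul_right _ _
        exact (hco1.pow d d').dvd_of_dvd_mul_left (((hM (enc a') _).pow_left d).dvd_of_dvd_mul_right h2)
      have h3 := Nat.le_of_dvd hr.pos h1
      by_contra hcon
      have h4 : p j (enc a j) < p j (enc a j) ^ d := lt_self_pow₀ hr.one_lt (by omega)
      omega
    have e2 : d' = 1 := by
      have h1 : p j (enc a' j) ^ d' ∣ p j (enc a' j) := by
        have h2 : p j (enc a' j) ^ d' ∣ p j (enc a j) ^ d * p j (enc a' j) *
            ∏ k ∈ Finset.univ.erase j, Nat.card (X k (enc a k)) := by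
          rw [hc', mul_assoc]; exact dvd_mul_right _ _
        exact (hco1.symm.pow d' d).dvd_of_dvd_mul_left (((hM (enc a) _).pow_left d').dvd_of_dvd_mul_right h2)
      have h3 := Nat.le_of_dvd ht.pos h1
      by_contra hcon
      have h4 : p j (enc a' j) < p j (enc a' j) ^ d' := lt_self_pow₀ ht.one_lt (by omega)
      omega
    have l1 := Nat.le_of_dvd (Nat.sub_pos_of_lt hr.one_lt) (hdt e1)
    have l2 := Nat.le_of_dvd (Nat.sub_pos_of_lt ht.one_lt) (hdt' e2)
    have := hr.two_le
    have := ht.two_le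
    omega
  intro a
  beta_reduce
  generalize enc a = b
  have hmem : ∀ (j : Fin s) (m : ℕ), (m = 1 ∨ m = p j 0 ∨ m = p j 1) ↔
      (m = 1 ∨ m = p j (b j) ∨ m = p j (1 - b j)) := by
    intro j m
    generalize b j = x
    fin_cases x <;> simp [or_comm, or_left_comm]
  have hcop : ∀ c : Fin s → ℕ, (∀ j, c j = 1 ∨ c j = p j 0 ∨ c j = p j 1) →
      ∀ i j, i ≠ j → Nat.Coprime (c i) (c j) := by
    intro c hc i j hij
    have key : ∀ u v, Nat.Coprime (p i u) (p j v) := fun u v =>
      (Nat.coprime_primes (hp _ _) (hp _ _)).2 fun h => hij (hinj _ _ _ _ h).1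
    rcases hc i with h | h | h <;> rcases hc j with h' | h' | h' <;> rw [h, h'] <;>
      first | exact Nat.coprime_one_left _ | exact Nat.coprime_one_right _ | exact key _ _
  have hcomp : ∀ (x : Y b) (j : Fin s),
      orderOf (x j) = 1 ∨ orderOf (x j) = p j 0 ∨ orderOf (x j) = p j 1 := fun x j =>
    (hmem j _).2 ((hX j (b j)).orders (x j))
  have hordx : ∀ x : Y b, orderOf x = ∏ j, orderOf (x j) := fun x =>
    orderOf_pi_eq_prod _ (hcop _ (hcomp x)) x fun _ => rfl
  have hrange : Set.range (orderOf : Y b → ℕ) =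
      {m : ℕ | ∃ c : Fin s → ℕ, (∀ j, c j = 1 ∨ c j = p j 0 ∨ c j = p j 1) ∧ m = ∏ j, c j} := by
    ext m
    constructor
    · rintro ⟨x, rfl⟩
      exact ⟨_, hcomp x, hordx x⟩
    · rintro ⟨c, hc, rfl⟩
      have : ∀ j, ∃ y : X j (b j), orderOf y = c j := fun j => by
        rcases (hmem j _).1 (hc j) with h | h | h
        · exact ⟨1, by rw [orderOf_one, h]⟩
        · rw [h]; exact (hX j (b j)).exists_r
        · rw [h]; exact (hX j (b j)).exists_t
      choose y hy using this
      exact ⟨y, orderOf_pi_eq_prod c (hcop c hc) y hy⟩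
  refine ⟨hrange, fun H N hN hHN heq => ?_⟩
  -- every prime of the spectrum comes from an element supported at one coordinate
  have hsing : ∀ (j : Fin s) (i : Fin 2), ∃ y : X j (b j), orderOf y = p j i ∧
      ∃ h : Pi.mulSingle j y ∈ H, (⟨Pi.mulSingle j y, h⟩ : H) ∉ N := by
    intro j i
    have hπ := hp j i
    have hpi : p j i ∈ Set.range (orderOf : (↥H ⧸ N) → ℕ) := by
      rw [heq]
      refine ⟨Function.update (fun _ => 1) j (p j i), fun k => ?_, ?_⟩
      · by_cases hk : k = j
        · subst hk; simp only [Function.update_self]; fin_cases i <;> simp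
        · simp [hk]
      · rw [Finset.prod_update_of_mem (Finset.mem_univ j)]; simp
    obtain ⟨q, hq⟩ := hpi
    obtain ⟨h, rfl⟩ := QuotientGroup.mk_surjective q
    let x : Y b := h
    have hdvd : p j i ∣ orderOf (x j) := by
      have h1 : p j i ∣ orderOf x := by
        rw [← hq]
        show _ ∣ orderOf (h : Y b)
        rw [Subgroup.orderOf_coe]
        exact orderOf_map_dvd (QuotientGroup.mk' N) h
      rw [hordx] at h1
      obtain ⟨k, -, hk⟩ := (hπ.prime.dvd_finset_prod_iff _).1 h1
      have : k = j := by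
        rcases hcomp x k with e | e | e <;> rw [e] at hk
        · exact absurd (Nat.dvd_one.1 hk) hπ.one_lt.ne'
        · exact ((hinj _ _ _ _ ((Nat.prime_dvd_prime_iff_eq hπ (hp _ _)).1 hk)).1).symm
        · exact ((hinj _ _ _ _ ((Nat.prime_dvd_prime_iff_eq hπ (hp _ _)).1 hk)).1).symm
      rwa [this] at hk
    have hxj : orderOf (x j) = p j i := by
      rcases hcomp x j with e | e | e <;> rw [e] at hdvd ⊢
      · exact absurd (Nat.dvd_one.1 hdvd) hπ.one_lt.ne'
      · exact ((Nat.prime_dvd_prime_iff_eq hπ (hp _ _)).1 hdvd).symm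
      · exact ((Nat.prime_dvd_prime_iff_eq hπ (hp _ _)).1 hdvd).symm
    let m : ℕ := ∏ k ∈ Finset.univ.erase j, orderOf (x k)
    have hcm : Nat.Coprime (p j i) m := Nat.Coprime.prod_right fun k hk => by
      rw [← hxj]
      exact hcop _ (hcomp x) j k ((Finset.mem_erase.1 hk).1).symm
    have hxm : (h ^ m : H).val = Pi.mulSingle j (x j ^ m) := by
      show x ^ m = _
      funext k
      by_cases hk : k = j
      · subst hk; simp; rfl
      · rw [Pi.mulSingle_eq_of_ne hk, Pi.pow_apply, ← orderOf_dvd_iff_pow_eq_one]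
        exact Finset.dvd_prod_of_mem _ (Finset.mem_erase.2 ⟨hk, Finset.mem_univ k⟩)
    refine ⟨x j ^ m, by rw [Nat.Coprime.orderOf_pow]; exacts [hxj, hxj.symm ▸ hcm],
      hxm ▸ (h ^ m).2, fun hN' => ?_⟩
    have h2 : h ^ m ∈ N := by
      convert hN' using 1
      exact Subtype.ext hxm
    rw [← QuotientGroup.eq_one_iff, QuotientGroup.mk_pow, ← orderOf_dvd_iff_pow_eq_one, hq] at h2
    exact hπ.one_lt.ne' (Nat.Coprime.eq_one_of_dvd hcm h2)
  have hH : H = ⊤ := by
    have hj : ∀ j, ∀ y : X j (b j), Pi.mulSingle j y ∈ H := by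
      intro j
      have := (hX j (b j)).gen (H.comap (MonoidHom.mulSingle (fun k => X k (b k)) j))
        (by obtain ⟨y, hy, hyH, -⟩ := hsing j (b j); exact ⟨y, hyH, hy⟩)
        (by obtain ⟨y, hy, hyH, -⟩ := hsing j (1 - b j); exact ⟨y, hyH, hy⟩)
      intro y
      have hy : y ∈ H.comap (MonoidHom.mulSingle (fun k => X k (b k)) j) := by rw [this]; trivial
      exact hy
    rw [eq_top_iff]
    intro x _
    exact Subgroup.pi_mem_of_mulSingle_mem x fun j => hj j (x j)
  subst hH
  have hN1 : N ≠ ⊥ := hHN.resolve_left (by simp)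
  obtain ⟨n, hn, hn1⟩ : ∃ n ∈ N, n ≠ 1 := by
    by_contra h
    simp only [not_exists, not_and, not_not] at h
    exact hN1 ((Subgroup.eq_bot_iff_forall _).2 h)
  obtain ⟨j, hj⟩ : ∃ j, (n : Y b) j ≠ 1 := by
    by_contra h
    simp only [not_exists, not_not] at h
    exact hn1 (Subtype.ext (funext h))
  let ι : X j (b j) →* (⊤ : Subgroup (Y b)) :=
    (MonoidHom.mulSingle (fun k => X k (b k)) j).codRestrict ⊤ fun _ => Subgroup.mem_top _
  have hMne : N.comap ι ≠ ⊥ := by
    intro hbot
    let m : ℕ := ∏ k ∈ Finset.univ.erase j, orderOf ((n : Y b) k)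
    have hmem' : (n : Y b) j ^ m ∈ N.comap ι := by
      rw [Subgroup.mem_comap]
      have e : ι ((n : Y b) j ^ m) = n ^ m := by
        apply Subtype.ext
        show Pi.mulSingle j _ = (n : Y b) ^ m
        funext k
        by_cases hk : k = j
        · subst hk; simp; rfl
        · rw [Pi.mulSingle_eq_of_ne hk, Pi.pow_apply, eq_comm, ← orderOf_dvd_iff_pow_eq_one]
          exact Finset.dvd_prod_of_mem _ (Finset.mem_erase.2 ⟨hk, Finset.mem_univ k⟩)
      rw [e]
      exact N.pow_mem hn m
    rw [hbot, Subgroup.mem_bot, ← orderOf_dvd_iff_pow_eq_one] at hmem'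
    have hcm : Nat.Coprime (orderOf ((n : Y b) j)) m := Nat.Coprime.prod_right fun k hk =>
      hcop _ (hcomp (n : Y b)) j k ((Finset.mem_erase.1 hk).1).symm
    exact hj (orderOf_eq_one_iff.1 (Nat.Coprime.eq_one_of_dvd hcm hmem'))
  obtain ⟨y, hy, hyH, hyN⟩ := hsing j (b j)
  exact hyN ((hX j (b j)).absorb _ (hN.comap ι) hMne y hy)

end Cfsg.Agent.S3599
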