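import Cfsg.Statements.S3600
import Cfsg.Agent.H70.AffineAltFiveBuild
import Cfsg.Agent.S3433

set_option autoImplicit false
open Cfsg Cfsg.Agent.H70

namespace Cfsg.Agent.S3600

/-- A finite group is critical with respect to a set Ω of natural numbers when its set of element orders is Ω while no proper section has Ω as its set of element orders. A finite group critical with respect to {1, 2, 3, 4, 5} (the set of element orders of the alternating group of degree 6) is isomorphic either to the alternating group of degree 6 or to the affine group F² ⋊ SL(2,F) over the field F with four elements (realised as the matrices of SL(3,F) with last row (0, 0, 1)). -/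
theorem result {G : Type*} [Group G] [Finite G]
    (hcrit : Set.range (orderOf : G → ℕ) = ({1, 2, 3, 4, 5} : Set ℕ) ∧
      ∀ (H : Subgroup G) (N : Subgroup ↥H) [N.Normal], (H ≠ ⊤ ∨ N ≠ ⊥) → Set.range (orderOf : (↥H ⧸ N) → ℕ) ≠ ({1, 2, 3, 4, 5} : Set ℕ)) :
    Nonempty (G ≃* alternatingGroup (Fin 6)) ∨
      ∃ (F : Type) (_ : Field F) (_ : Fintype F), Fintype.card F = 4 ∧
        Nonempty (G ≃* ↥(Subgroup.closure {M : Matrix.SpecialLinearGroup (Fin 3) F |
          (M : Matrix (Fin 3) (Fin 3) F) 2 0 = 0 ∧ (M : Matrix (Fin 3) (Fin 3) F) 2 1 = 0 ∧ (M : Matrix (Fin 3) (Fin 3) F) 2 2 = 1})) := by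
  obtain ⟨hspec, hcrit⟩ := hcrit
  have hset : ({1, 2, 3, 4, 5} : Set ℕ) = {k : ℕ | 1 ≤ k ∧ k ≤ 5} := by
    ext k; simp only [Set.mem_insert_iff, Set.mem_singleton_iff, Set.mem_ofPred_eq]; omega
  rcases S3433.result (G := G) (hspec.trans hset) with h | ⟨N, hN, ⟨hNc, hN2⟩, ⟨e⟩⟩
  · exact Or.inl h
  right
  have := hN
  have h5 : ∀ g : G, 1 ≤ orderOf g ∧ orderOf g ≤ 5 := fun g =>
    (hspec.trans hset ▸ ⟨g, rfl⟩ : orderOf g ∈ {k : ℕ | 1 ≤ k ∧ k ≤ 5})
  have hpp : ∀ g : G, g ≠ 1 → IsPrimePow (orderOf g) := by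
    intro g hg
    have h1 : orderOf g ≠ 1 := orderOf_eq_one_iff.not.2 hg
    have := h5 g
    have : orderOf g = 2 ∨ orderOf g = 3 ∨ orderOf g = 2 ^ 2 ∨ orderOf g = 5 := by
      norm_num; omega
    rcases this with e | e | e | e <;> rw [e]
    · exact Nat.prime_two.isPrimePow
    · exact Nat.prime_three.isPrimePow
    · exact Nat.prime_two.isPrimePow.pow (by norm_num)
    · exact (by norm_num : Nat.Prime 5).isPrimePow
  have hne : N ≠ ⊥ := by
    rintro rfl
    obtain ⟨g, hg⟩ : (4 : ℕ) ∈ Set.range (orderOf : G → ℕ) := by rw [hspec]; simp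
    exact SpecCN.no_order_four ((QuotientGroup.quotientBot.symm).trans e) g hg
  obtain ⟨D, hD⟩ := AffA5.exists_data hpp (fun g => (h5 g).2) N hne
    (fun a ha b hb => congrArg Subtype.val (hNc.is_comm.comm (⟨a, ha⟩ : N) ⟨b, hb⟩))
    (fun a ha => by rw [← pow_two]; exact hN2 a ha) e
  let H : Subgroup G :=
    { carrier := {g | ∃ f k, g = (D.psi f : G) * D.ι k}
      one_mem' := ⟨0, 1, by rw [D.psi_zero, map_one, Subgroup.coe_one, one_mul]⟩
      mul_mem' := by
        rintro _ _ ⟨f, k, rfl⟩ ⟨g, l, rfl⟩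
        obtain ⟨g', hg'⟩ := D.range_invariant k g
        refine ⟨f + g', k * l, ?_⟩
        rw [D.psi_add, ← hg', Subgroup.coe_mul, D.act_val, map_mul]
        group
      inv_mem' := by
        rintro _ ⟨f, k, rfl⟩
        obtain ⟨g', hg'⟩ := D.range_invariant k⁻¹ f
        refine ⟨g', k⁻¹, ?_⟩
        rw [← hg', D.act_val, mul_inv_rev, map_inv,
          inv_eq_of_mul_eq_one_right (D.sq _ (D.psi f).2)]
        group }
  have htop : H = ⊤ := by
    by_contra hH
    refine hcrit H ⊥ (Or.inl hH) (Set.ext fun m => ?_)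
    have hr : Set.range (orderOf : (↥H ⧸ (⊥ : Subgroup ↥H)) → ℕ) = Set.range (fun h : H => orderOf (h : G)) := by
      ext j
      constructor
      · rintro ⟨x, rfl⟩
        exact ⟨QuotientGroup.quotientBot x, (Subgroup.orderOf_coe _).trans (MulEquiv.orderOf_eq _ _)⟩
      · rintro ⟨x, rfl⟩
        exact ⟨QuotientGroup.quotientBot.symm x, (MulEquiv.orderOf_eq _ _).trans (Subgroup.orderOf_coe x).symm⟩
    rw [hr]
    constructor
    · rintro ⟨x, rfl⟩
      rw [← hspec]
      exact ⟨x, rfl⟩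
    · intro hm
      have hι : Function.Injective D.ι := (MonoidHom.ker_eq_bot_iff _).1 (eq_bot_iff.2 fun k hk =>
        Subgroup.mem_bot.2 (D.meet k (by rw [MonoidHom.mem_ker.1 hk]; exact D.N.one_mem)))
      have hA : ∀ k : AffA5.A5, orderOf k ∈ Set.range (fun h : H => orderOf (h : G)) := fun k =>
        ⟨⟨D.ι k, 0, k, by rw [D.psi_zero, Subgroup.coe_one, one_mul]⟩, orderOf_injective _ hι k⟩
      simp only [Set.mem_insert_iff, Set.mem_singleton_iff] at hm
      rcases hm with rfl | rfl | rfl | rfl | rfl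
      · exact orderOf_one (G := AffA5.A5) ▸ hA 1
      · have := orderOf_eq_prime (p := 2) (by rw [pow_two]; exact AffA5.pa_sq)
          (by decide +kernel : AffA5.pa ≠ 1)
        exact this ▸ hA AffA5.pa
      · exact AffA5.orderOf_pc ▸ hA AffA5.pc
      · -- `v u` has order four
        have hmove : D.act AffA5.pu D.vec ≠ D.vec := fun h => D.vec_ne <|
          D.fixed_eq_one D.pa_vec D.pa'_vec (by rw [h, D.pa_vec]) (by rw [h, D.pa'_vec])
        have hu : D.ι AffA5.pu * D.ι AffA5.pu = 1 := by rw [← map_mul, AffA5.pu_sq, map_one]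
        have hx2 : ((D.vec : G) * D.ι AffA5.pu) ^ 2 = ((D.vec * D.act AffA5.pu D.vec : D.N) : G) := by
          rw [pow_two, Subgroup.coe_mul, D.act_val, inv_eq_of_mul_eq_one_right hu]
          group
        have hne2 : ((D.vec : G) * D.ι AffA5.pu) ^ 2 ≠ 1 := fun h => hmove <| by
          rw [hx2] at h
          have h' : D.vec * D.act AffA5.pu D.vec = 1 := Subtype.ext h
          calc D.act AffA5.pu D.vec = (D.vec * D.vec) * D.act AffA5.pu D.vec := by
                rw [D.sq_eq, one_mul]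
            _ = D.vec := by rw [mul_assoc, h', mul_one]
        refine ⟨⟨(D.vec : G) * D.ι AffA5.pu, ![1, 0, 0, 0], AffA5.pu, ?_⟩, ?_⟩
        · simp [AffA5.Data.psi, AffA5.Data.sm, ZMod.val_one]
        · have h4 : ((D.vec : G) * D.ι AffA5.pu) ^ (2 ^ (1 + 1)) = 1 := by
            rw [show (2 : ℕ) ^ (1 + 1) = 2 * 2 from rfl, pow_mul, hx2, pow_two]
            exact D.sq _ (D.vec * D.act AffA5.pu D.vec).2
          exact orderOf_eq_prime_pow (p := 2) (n := 1) (by simpa using hne2) h4
      · have := orderOf_eq_prime (p := 5) (hp := ⟨by norm_num⟩) H66.y5_pow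
          (by decide +kernel : H66.y5 ≠ 1)
        exact this ▸ hA H66.y5
  have hsurj : Function.Surjective D.psi := by
    intro n
    obtain ⟨f, k, hfk⟩ : (n : G) ∈ H := htop ▸ Subgroup.mem_top _
    have hk : k = 1 := D.meet k (by
      rw [show D.ι k = (D.psi f : G)⁻¹ * n by rw [hfk]; group]
      exact D.N.mul_mem (D.N.inv_mem (D.psi f).2) n.2)
    exact ⟨f, Subtype.ext (by rw [hfk, hk, map_one, mul_one])⟩
  refine ⟨GaloisField 2 2, inferInstance, Fintype.ofFinite _, ?_, ?_⟩
  · rw [Fintype.card_eq_nat_card, GaloisField.card 2 2 (by norm_num)]; rfl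
  · letI := Fintype.ofFinite (GaloisField 2 2)
    obtain ⟨E, hE⟩ := AffA5.exists_model (F := GaloisField 2 2)
      (by rw [Fintype.card_eq_nat_card, GaloisField.card 2 2 (by norm_num)]; rfl)
    exact D.iso E hsurj hE

end Cfsg.Agent.S3600
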