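import Cfsg.Statements.S3611
import Cfsg.Agent.H84.PrimeDegHalf

set_option autoImplicit false
open Cfsg

namespace Cfsg.Agent.S3611

/-- Let G be an insoluble group acting faithfully and transitively on a finite set of prime size p, and suppose the normalizer of a Sylow p-subgroup of G has order p(p-1)/2. If p ≡ 3 (mod 4), then G is triply transitive, or for any two distinct points the stabilizer of both has exactly four orbits on the set (the two fixed points and exactly two orbits on the remaining p - 2 points). -/
theorem result {G Ω : Type*} [Group G] [Finite G] [MulAction G Ω] [FaithfulSMul G Ω] [Finite Ω]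
    (p : ℕ) (hp : p.Prime) (hΩ : Nat.card Ω = p) (htrans : MulAction.IsPretransitive G Ω)
    (hins : ¬ Group.IsSolvable G) (P : Sylow p G)
    (hN : 2 * Nat.card ↥(Subgroup.normalizer ((P : Subgroup G) : Set G)) = p * (p - 1))
    (hp3 : p % 4 = 3) :
    MulAction.IsMultiplyPretransitive G Ω 3 ∨
    ∀ α β : Ω, α ≠ β →
      Nat.card (MulAction.orbitRel.Quotient ↥(MulAction.stabilizer G α ⊓ MulAction.stabilizer G β) Ω) = 4 := by
  haveI : Fact p.Prime := ⟨hp⟩
  obtain ⟨C⟩ := Cfsg.Agent.H84.PrimeDeg.exists_half hΩ htrans hins P hN
  refine or_iff_not_imp_left.mpr fun h3 α β hab => ?_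
  refine le_antisymm (C.card_orbits_le hab) ?_
  by_contra h
  exact h3 (C.three_transitive_of_card_le hab (by omega))

end Cfsg.Agent.S3611
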