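import Cfsg.Statements.S3619


set_option autoImplicit false
open Cfsg

namespace Cfsg.Agent.S3619
open MulAction
open scoped Pointwise

/-- Let G act faithfully on a finite set in such a way that every non-trivial normal subgroup of G is transitive (G is quasiprimitive). Let Γ be a subset with more than one point and not the whole set, such that the pointwise stabilizer of the complement of Γ acts transitively on Γ (a Jordan set). If that pointwise stabilizer acts primitively on Γ, then G is k-fold transitive where k is one more than the number of points outside Γ (the Jordan set is a trivial one). -/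
theorem result {G Ω : Type*} [Group G] [Finite G] [MulAction G Ω] [FaithfulSMul G Ω] [Finite Ω]
    (hqp : ∀ N : Subgroup G, N.Normal → N ≠ ⊥ → MulAction.IsPretransitive ↥N Ω)
    (Γ : Set Ω) (hΓ1 : 1 < Γ.ncard) (hΓ2 : Γ.ncard < Nat.card Ω)
    (hJ : MulAction.IsPretransitive ↥(fixingSubgroup G Γᶜ) ↥(SubMulAction.ofFixingSubgroup G Γᶜ))
    (hJp : MulAction.IsPreprimitive ↥(fixingSubgroup G Γᶜ) ↥(SubMulAction.ofFixingSubgroup G Γᶜ)) :
    MulAction.IsMultiplyPretransitive G Ω (Nat.card Ω - Γ.ncard + 1) := by
  have hK : fixingSubgroup G Γᶜ ≠ ⊥ := by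
    intro hb
    obtain ⟨a, ha, b, hb', hab⟩ := (Set.one_lt_ncard (Set.toFinite Γ)).1 hΓ1
    obtain ⟨⟨k, hk⟩, hkab⟩ := hJ.exists_smul_eq
      ⟨a, by simpa [SubMulAction.mem_ofFixingSubgroup_iff] using ha⟩
      ⟨b, by simpa [SubMulAction.mem_ofFixingSubgroup_iff] using hb'⟩
    have hk1 : k = 1 := by rwa [hb, Subgroup.mem_bot] at hk
    apply hab
    have := congrArg Subtype.val hkab
    simpa [hk1] using this
  haveI htr : IsPretransitive G Ω := by
    have : (⊤ : Subgroup G) ≠ ⊥ := fun h => hK (le_bot_iff.1 (h ▸ le_top))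
    haveI := hqp ⊤ inferInstance this
    refine ⟨fun a b => ?_⟩
    obtain ⟨g, hg⟩ := exists_smul_eq (⊤ : Subgroup G) a b
    exact ⟨g, hg⟩
  have htriv : ∀ B : Set Ω, IsBlock G B → IsTrivialBlock B := by
    intro B hB
    by_contra hBt
    simp only [IsTrivialBlock, not_or] at hBt
    obtain ⟨hBs, hBu⟩ := hBt
    obtain ⟨a, ha, b, hb, hab⟩ := (Set.one_lt_ncard (Set.toFinite Γ)).1 hΓ1
    obtain ⟨c, hc, d, hd, hcd⟩ := Set.not_subsingleton_iff.1 hBs
    obtain ⟨g, hg⟩ := exists_smul_eq G c a
    have haB : a ∈ g • B := hg ▸ Set.smul_mem_smul_set hc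
    have hgB : IsBlock G (g • B) := hB.translate g
    have hmem : ∀ x, x ∈ SubMulAction.ofFixingSubgroup G Γᶜ ↔ x ∈ Γ := by
      simp [SubMulAction.mem_ofFixingSubgroup_iff]
    have hsub : Γ ⊆ g • B := by
      have htb : IsBlock (fixingSubgroup G Γᶜ)
          ((Subtype.val : SubMulAction.ofFixingSubgroup G Γᶜ → Ω) ⁻¹' (g • B)) := by
        rw [isBlock_iff_smul_eq_of_mem]
        intro k x hx hkx
        have h1 : ((k : G) • (g • B)) = g • B :=
          isBlock_iff_smul_eq_of_mem.1 hgB hx hkx
        ext y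
        rw [Set.mem_smul_set_iff_inv_smul_mem]
        constructor
        · intro hy
          have : (k : G) • ((k⁻¹ • y : SubMulAction.ofFixingSubgroup G Γᶜ) : Ω) ∈ g • B := by
            rw [← h1]; exact Set.smul_mem_smul_set hy
          simpa [Subgroup.smul_def, smul_smul] using this
        · intro hy
          have : (y : Ω) ∈ (k : G) • (g • B) := by rw [h1]; exact hy
          rw [Set.mem_smul_set_iff_inv_smul_mem] at this
          exact this
      rcases hJp.isTrivialBlock_of_isBlock htb with hs | hu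
      · exfalso
        have hgnt : ¬ (g • B).Subsingleton := fun h =>
          hcd (smul_left_cancel g (h (Set.smul_mem_smul_set hc) (Set.smul_mem_smul_set hd)))
        obtain ⟨e, he, hea⟩ : ∃ e ∈ g • B, e ≠ a := by
          by_contra hcon
          simp only [not_exists, not_and, not_not] at hcon
          exact hgnt fun x hx y hy => (hcon x hx).trans (hcon y hy).symm
        have he' : e ∉ Γ := fun h => hea (congrArg Subtype.val
          (@hs ⟨e, (hmem e).2 h⟩ he ⟨a, (hmem a).2 ha⟩ haB))
        obtain ⟨k, hk⟩ := hJ.exists_smul_eq ⟨a, (hmem a).2 ha⟩ ⟨b, (hmem b).2 hb⟩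
        have hke : (k : G) • e = e := (mem_fixingSubgroup_iff G).1 k.2 e he'
        have h1 : ((k : G) • (g • B)) = g • B :=
          isBlock_iff_smul_eq_of_mem.1 hgB he (by rw [hke]; exact he)
        have hka : (k : G) • a = b := congrArg Subtype.val hk
        have hbB : b ∈ g • B := by rw [← h1, ← hka]; exact Set.smul_mem_smul_set haB
        exact hab (congrArg Subtype.val (@hs ⟨a, (hmem a).2 ha⟩ haB ⟨b, (hmem b).2 hb⟩ hbB))
      · intro x hx
        have : (⟨x, (hmem x).2 hx⟩ : SubMulAction.ofFixingSubgroup G Γᶜ) ∈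
            ((Subtype.val : SubMulAction.ofFixingSubgroup G Γᶜ → Ω) ⁻¹' (g • B)) := by
          rw [hu]; trivial
        exact this
    let L : Subgroup G := ⨅ h : G, stabilizer G (h • B)
    have hL : L.Normal := ⟨fun x hx h => by
      simp only [L, Subgroup.mem_iInf, mem_stabilizer_iff] at hx ⊢
      intro i
      have := hx (h⁻¹ * i)
      rw [mul_smul, mul_smul] at *
      rw [this, smul_inv_smul]⟩
    have hKL : fixingSubgroup G Γᶜ ≤ L := by
      intro k hk
      simp only [L, Subgroup.mem_iInf, mem_stabilizer_iff]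
      intro h
      have hb' : IsBlock G (h • B) := hB.translate h
      by_cases hmeet : ∃ x ∈ h • B, x ∈ Γ
      · obtain ⟨x, hx, hxΓ⟩ := hmeet
        have hkx : k • x ∈ Γ := by
          by_contra hn
          have h1 : k • (k • x) = k • x := (mem_fixingSubgroup_iff G).1 hk _ hn
          exact hn ((smul_left_cancel k h1).symm ▸ hxΓ)
        have heq : h • B = g • B := by
          rcases (isBlock_iff_smul_eq_or_disjoint.1 hB (g⁻¹ * h)) with he | he
          · rw [mul_smul, inv_smul_eq_iff] at he; exact he
          · exfalso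
            rw [Set.disjoint_left] at he
            refine he (a := g⁻¹ • x) ?_ ?_
            · rw [mul_smul]; exact Set.smul_mem_smul_set hx
            · rw [← Set.mem_smul_set_iff_inv_smul_mem]; exact hsub hxΓ
        rw [heq]
        exact isBlock_iff_smul_eq_of_mem.1 hgB (hsub hxΓ) (hsub hkx)
      · simp only [not_exists, not_and] at hmeet
        ext y
        constructor
        · rintro ⟨z, hz, rfl⟩
          show k • z ∈ h • B
          rwa [show k • z = z from (mem_fixingSubgroup_iff G).1 hk z (hmeet z hz)]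
        · intro hy
          exact ⟨y, hy, (mem_fixingSubgroup_iff G).1 hk y (hmeet y hy)⟩
    have hL1 : L ≠ ⊥ := fun h => hK (le_bot_iff.1 (h ▸ hKL))
    haveI := hqp L hL hL1
    apply hBu
    refine Set.eq_univ_of_forall fun y => ?_
    obtain ⟨⟨l, hl⟩, rfl⟩ := exists_smul_eq L c y
    simp only [L, Subgroup.mem_iInf, mem_stabilizer_iff] at hl
    have h1 := hl 1
    rw [one_smul] at h1
    rw [← h1]
    exact Set.smul_mem_smul_set hc
  have hprim : IsPreprimitive G Ω := { isTrivialBlock_of_isBlock := fun {B} hB => htriv B hB }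
  have hsum := Set.ncard_add_ncard_compl Γ
  obtain ⟨n, hn⟩ : ∃ n, Γᶜ.ncard = n + 1 := ⟨Γᶜ.ncard - 1, by omega⟩
  have h := hprim.isMultiplyPreprimitive hn (by omega) hJp
  rw [show Nat.card Ω - Γ.ncard + 1 = n + 2 by omega]
  haveI := h
  exact IsMultiplyPreprimitive.isMultiplyPretransitive G Ω (n + 2)

end Cfsg.Agent.S3619
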