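import Cfsg.Statements.S3626
import Cfsg.Agent.S1159
import Cfsg.Agent.H48.ReeCube

set_option autoImplicit false
open Cfsg

namespace Cfsg.Agent.S3626

/-- If `Z` has only orders of `R`, and every order of `R` outside those of `Z` divides `A` or `B`,
two coordinates of `R` and one of `Z` give the spectrum of `R × R × R`. -/
theorem range_orderOf_cube {R Z : Type*} [Group R] [Group Z] (A B : ℕ)
    (h1 : ∀ z : Z, ∃ c : R, orderOf c = orderOf z)
    (h2 : ∀ c : R, (∃ z : Z, orderOf z = orderOf c) ∨ orderOf c ∣ A ∨ orderOf c ∣ B)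
    (hA : ∀ n, n ∣ A → ∃ c : R, orderOf c = n) (hB : ∀ n, n ∣ B → ∃ c : R, orderOf c = n) :
    Set.range (orderOf : R × R × Z → ℕ) = Set.range (orderOf : R × R × R → ℕ) := by
  ext n
  simp only [Set.mem_range, Prod.exists, Prod.orderOf]
  constructor
  · rintro ⟨a, b, z, rfl⟩
    obtain ⟨c, hc⟩ := h1 z
    exact ⟨a, b, c, by rw [hc]⟩
  · rintro ⟨a, b, c, rfl⟩
    set x := orderOf a
    set y := orderOf b
    set w := orderOf c
    rcases h2 a with ⟨z, hz⟩ | ha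
    · exact ⟨b, c, z, by rw [hz, ← Nat.lcm_assoc, Nat.lcm_comm]⟩
    rcases h2 b with ⟨z, hz⟩ | hb
    · exact ⟨a, c, z, by rw [hz, Nat.lcm_comm w]⟩
    rcases h2 c with ⟨z, hz⟩ | hc
    · exact ⟨a, b, z, by rw [hz]⟩
    have merge : ∀ {u v : R}, (orderOf u ∣ A ∧ orderOf v ∣ A) ∨ (orderOf u ∣ B ∧ orderOf v ∣ B) →
        ∃ e : R, orderOf e = (orderOf u).lcm (orderOf v) := by
      rintro u v (⟨hu, hv⟩ | ⟨hu, hv⟩)
      · exact hA _ (Nat.lcm_dvd hu hv)
      · exact hB _ (Nat.lcm_dvd hu hv)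
    have h3 : (x ∣ A ∧ y ∣ A ∨ x ∣ B ∧ y ∣ B) ∨ (x ∣ A ∧ w ∣ A ∨ x ∣ B ∧ w ∣ B) ∨
        (y ∣ A ∧ w ∣ A ∨ y ∣ B ∧ w ∣ B) := by tauto
    rcases h3 with h | h | h <;> obtain ⟨e, he⟩ := merge h
    · exact ⟨e, c, 1, by rw [he, orderOf_one, Nat.lcm_one_right, Nat.lcm_assoc]⟩
    · exact ⟨e, b, 1, by rw [he, orderOf_one, Nat.lcm_one_right, Nat.lcm_assoc, Nat.lcm_comm w]⟩
    · exact ⟨a, e, 1, by rw [he, orderOf_one, Nat.lcm_one_right]⟩

/-- Let R be the small Ree group over the field with q = 3^(2m+1) ≥ 27 elements. Then there are finite groups of arbitrarily large order with exactly the same set of element orders as R × R × R. -/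
theorem result {K : Type*} [Field K] [Fintype K] {m : ℕ} (hm : 1 ≤ m) (hK : Fintype.card K = 3 ^ (2 * m + 1)) (N : ℕ) :
    ∃ (H : Type) (_ : Group H) (_ : Fintype H), N < Fintype.card H ∧
      Set.range (orderOf : H → ℕ) = Set.range (orderOf : ↥(Cfsg.Lie.twistedG2 K (3 ^ m)) × ↥(Cfsg.Lie.twistedG2 K (3 ^ m)) × ↥(Cfsg.Lie.twistedG2 K (3 ^ m)) → ℕ) := by
  classical
  haveI : Fact (Nat.Prime 3) := ⟨Nat.prime_three⟩
  haveI : CharP K 3 := charP_of_card_eq_prime_pow hK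
  haveI : Finite (H48.ReeCube.Z K (Fin (N + 1))) := Finite.of_equiv _ SemidirectProduct.equivProd.symm
  have ho := Cfsg.Agent.S1159.result hm hK
  have hzd := fun n => H48.ReeCube.exists_orderOf (ι := Fin (N + 1)) hK n
  have hzo := fun z : H48.ReeCube.Z K (Fin (N + 1)) => H48.ReeCube.orderOf_dvd hK z
  rw [hK] at hzd hzo
  set R := ↥(Cfsg.Lie.twistedG2 K (3 ^ m))
  let H0 := R × R × H48.ReeCube.Z K (Fin (N + 1))
  let eK : { i : Fin (Nat.card H0) // True } ≃ H0 :=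
    (Equiv.subtypeUnivEquiv fun _ => trivial).trans (Finite.equivFin H0).symm
  letI : Group { i : Fin (Nat.card H0) // True } := eK.group
  refine ⟨{ i : Fin (Nat.card H0) // True }, inferInstance, inferInstance, ?_, ?_⟩
  · rw [← Nat.card_eq_fintype_card, Nat.card_congr eK]
    have h1 : 2 ^ (N + 1) ≤ Nat.card (Fin (N + 1) → Matrix (Fin 2) (Fin 2) K) := by
      rw [Nat.card_fun, Nat.card_eq_fintype_card (α := Fin (N + 1)), Fintype.card_fin]
      exact Nat.pow_le_pow_left Finite.one_lt_card _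
    have h2 : N < 2 ^ (N + 1) := lt_trans (Nat.lt_succ_self N) Nat.lt_two_pow_self
    refine lt_of_lt_of_le h2 (h1.trans ?_)
    refine Nat.card_le_card_of_injective
      (fun w => ((1 : R), (1 : R), (SemidirectProduct.inl (Multiplicative.ofAdd w) : H48.ReeCube.Z K (Fin (N + 1)))))
      fun w w' h => Multiplicative.ofAdd.injective (SemidirectProduct.inl_injective (Prod.ext_iff.1 (Prod.ext_iff.1 h).2).2)
  · have hr : Set.range (orderOf : { i : Fin (Nat.card H0) // True } → ℕ) = Set.range (orderOf : H0 → ℕ) := by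
      ext n
      exact ⟨fun ⟨g, hg⟩ => ⟨eK.mulEquiv g, by rw [MulEquiv.orderOf_eq, hg]⟩,
        fun ⟨g, hg⟩ => ⟨eK.mulEquiv.symm g, by rw [MulEquiv.orderOf_eq, hg]⟩⟩
    rw [hr]
    refine range_orderOf_cube (3 ^ (2 * m + 1) - 3 ^ (m + 1) + 1) (3 ^ (2 * m + 1) + 3 ^ (m + 1) + 1)
      (fun z => (ho _).2 (by have := hzo z; tauto)) (fun c => ?_) (fun n hn => (ho n).2 (by tauto))
      (fun n hn => (ho n).2 (by tauto))
    rcases (ho (orderOf c)).1 ⟨c, rfl⟩ with h | h | h | h | h | h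
    exacts [Or.inl (hzd _ (Or.inl h)), Or.inl (hzd _ (Or.inr (Or.inl h))),
      Or.inl (hzd _ (Or.inr (Or.inr (Or.inl h)))), Or.inl (hzd _ (Or.inr (Or.inr (Or.inr h)))),
      Or.inr (Or.inl h), Or.inr (Or.inr h)]

end Cfsg.Agent.S3626
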