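import Cfsg.Statements.S3633
import Cfsg.Agent.Hall.ThreePrimes

set_option autoImplicit false
open Cfsg

namespace Cfsg.Agent.S3633

theorem eq_of_dvd {G : Type*} [Group G] [Finite G] (ρ : Finset ℕ) (hρ : 3 ≤ ρ.card)
    (hp : ∀ r ∈ ρ, r.Prime ∧ r ∣ Nat.card G)
    (hadj : ∀ r ∈ ρ, ∀ s ∈ ρ, r ≠ s → ¬ ∃ x : G, orderOf x = r * s)
    (K : Subgroup G) [K.Normal] (hK : Group.IsSolvable K) {r s : ℕ} (hr : r ∈ ρ) (hs : s ∈ ρ)
    (hrK : r ∣ Nat.card K) (hsK : s ∣ Nat.card K) : r = s := by
  classical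
  by_contra hne
  have hadjH : ∀ {H : Subgroup G} {a b : ℕ}, a ∈ ρ → b ∈ ρ → a ≠ b →
      ¬ ∃ x : H, orderOf x = a * b :=
    fun {H a b} ha hb hab ⟨x, hx⟩ => hadj a ha b hb hab ⟨x, (Subgroup.orderOf_coe x).trans hx⟩
  obtain ⟨t, ht⟩ : ((ρ.erase r).erase s).Nonempty := by
    rw [← Finset.card_pos, Finset.card_erase_of_mem (Finset.mem_erase.mpr ⟨Ne.symm hne, hs⟩),
      Finset.card_erase_of_mem hr]
    omega
  obtain ⟨hts, ht'⟩ := Finset.mem_erase.mp ht
  obtain ⟨htr, htρ⟩ := Finset.mem_erase.mp ht'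
  have hρ' : 3 ≤ ({r, s, t} : Finset ℕ).card :=
    le_of_eq (Finset.card_eq_three.mpr ⟨r, s, t, hne, htr.symm, hts.symm, rfl⟩).symm
  have hsub : ∀ a ∈ ({r, s, t} : Finset ℕ), a ∈ ρ := by
    intro a ha
    simp only [Finset.mem_insert, Finset.mem_singleton] at ha
    rcases ha with rfl | rfl | rfl <;> assumption
  by_cases htK : t ∣ Nat.card K
  · refine Hall.three_primes_false (G := K) {r, s, t} hρ' (fun a ha => ⟨(hp a (hsub a ha)).1, ?_⟩)
      fun a ha b hb hab => hadjH (hsub a ha) (hsub b hb) hab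
    simp only [Finset.mem_insert, Finset.mem_singleton] at ha
    rcases ha with rfl | rfl | rfl <;> assumption
  obtain ⟨H, hH⟩ := (Hall.hallDom_of_isSolvable (↑({r, s} : Finset ℕ) : Set ℕ) K).1
  have hdvdH : ∀ a ∈ ({r, s} : Finset ℕ), a.Prime → a ∣ Nat.card K → a ∣ Nat.card H :=
    fun a ha hap hd => (hap.dvd_mul.mp (H.card_mul_index.symm ▸ hd)).resolve_right fun h =>
      Hall.IsPiHall.isPiNumber_index hH a hap h (Finset.mem_coe.mpr ha)
  set H' : Subgroup G := H.map K.subtype with hH'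
  have hH'K : H' ≤ K := Subgroup.map_subtype_le H
  have hcard : Nat.card H' = Nat.card H := Subgroup.card_map_of_injective K.subtype_injective
  have htop : K ⊔ Subgroup.normalizer (H' : Set G) = ⊤ := by
    refine Hall.sup_normalizer_hall_eq_top K hK hH'K ?_
    have he : (H.map K.subtype).subgroupOf K = H := Subgroup.comap_map_eq_self_of_injective K.subtype_injective H
    rw [hcard, Subgroup.relIndex, hH', he]
    exact Hall.IsPiHall.coprime hH
  set T := Subgroup.normalizer (H' : Set G)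
  have htp : t.Prime := (hp t htρ).1
  have : Fact t.Prime := ⟨htp⟩
  have htT : t ∣ Nat.card T := by
    have h1 := Hall.card_sup_dvd_mul K T
    rw [htop, Subgroup.card_top] at h1
    exact (htp.dvd_mul.mp ((hp t htρ).2.trans h1)).resolve_left htK
  obtain ⟨y, hy⟩ := exists_prime_orderOf_dvd_card' (G := T) t htT
  set Y := Subgroup.zpowers (y : G)
  have hYT : Y ≤ T := Subgroup.zpowers_le.mpr y.2
  set U := H' ⊔ Y with hU
  have : (H'.subgroupOf U).Normal :=
    (Subgroup.normal_subgroupOf_iff_le_normalizer le_sup_left).mpr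
      (sup_le Subgroup.le_normalizer hYT)
  have hUs : Group.IsSolvable U := by
    rw [Group.isSolvable_iff_subgroup_quotient (H'.subgroupOf U)]
    refine ⟨Hall.isSolvable_subgroupOf le_sup_left (Hall.isSolvable_of_le hH'K hK), ?_⟩
    have : IsMulCommutative Y := inferInstance
    have hYc : IsMulCommutative (Y.subgroupOf U) := inferInstance
    have : Group.IsSolvable (Y.subgroupOf U) := Group.isSolvable_of_comm hYc.is_comm.comm
    refine Group.isSolvable_of_surjective
      (f := (QuotientGroup.mk' (H'.subgroupOf U)).comp (Y.subgroupOf U).subtype) ?_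
    rw [← MonoidHom.range_eq_top, MonoidHom.range_comp, Subgroup.range_subtype]
    have h1 : H'.subgroupOf U ⊔ Y.subgroupOf U = ⊤ := by
      apply Subgroup.map_injective U.subtype_injective
      rw [Subgroup.map_sup, Subgroup.map_subgroupOf_eq_of_le le_sup_left,
        Subgroup.map_subgroupOf_eq_of_le le_sup_right, ← MonoidHom.range_eq_map,
        Subgroup.range_subtype]
    have h2 := congrArg (Subgroup.map (QuotientGroup.mk' (H'.subgroupOf U))) h1
    rwa [Subgroup.map_sup, QuotientGroup.map_mk'_self, bot_sup_eq,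
      Subgroup.map_top_of_surjective _ (QuotientGroup.mk'_surjective _)] at h2
  refine Hall.three_primes_false (G := U) {r, s, t} hρ' (fun a ha => ⟨(hp a (hsub a ha)).1, ?_⟩)
    fun a ha b hb hab => hadjH (hsub a ha) (hsub b hb) hab
  have hap := (hp a (hsub a ha)).1
  simp only [Finset.mem_insert, Finset.mem_singleton] at ha
  rcases ha with rfl | rfl | rfl
  · exact ((hdvdH _ (by simp) hap hrK).trans hcard.symm.dvd).trans
      (Subgroup.card_dvd_of_le le_sup_left)
  · exact ((hdvdH _ (by simp) hap hsK).trans hcard.symm.dvd).trans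
      (Subgroup.card_dvd_of_le le_sup_left)
  · refine dvd_trans ?_ (Subgroup.card_dvd_of_le (le_sup_right : Y ≤ U))
    rw [Nat.card_zpowers, Subgroup.orderOf_coe, hy]

/-- Let G be a finite group and ρ a set of at least three prime divisors of the order of G that are pairwise non-adjacent in the prime graph (no element of order rs for distinct r, s ∈ ρ). Then at most one prime of ρ divides the order of any given solvable normal subgroup of G; in particular G is not solvable. -/
theorem result {G : Type*} [Group G] [Finite G] (ρ : Finset ℕ) (hρ : 3 ≤ ρ.card) (hc : ((∀ r ∈ ρ, r.Prime ∧ r ∣ Nat.card G) ∧ (∀ r ∈ ρ, ∀ s ∈ ρ, r ≠ s → ¬ ∃ x : G, orderOf x = r * s)))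
    (K : Subgroup G) [K.Normal] (hK : Group.IsSolvable ↥K) :
    (∀ r ∈ ρ, ∀ s ∈ ρ, r ∣ Nat.card ↥K → s ∣ Nat.card ↥K → r = s) ∧ ¬ Group.IsSolvable G := by
  exact ⟨fun r hr s hs hrK hsK => eq_of_dvd ρ hρ hc.1 hc.2 K hK hr hs hrK hsK,
    fun hG => Hall.three_primes_false ρ hρ hc.1 hc.2⟩

end Cfsg.Agent.S3633
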