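import Cfsg.Statements.S3634
import Cfsg.Agent.H70.FpfSum

set_option autoImplicit false
open Cfsg

namespace Cfsg.Agent.S3634

theorem exists_order_mul {G : Type*} [Group G] [Finite G] {p q : ℕ} (hp : p.Prime) (hq : q.Prime)
    (hpq : p ≠ q) {u v : G} (hu : orderOf u = p) (hv : IsPGroup q (Subgroup.zpowers v)) (hv1 : v ≠ 1)
    (h : Commute u v) : ∃ g : G, orderOf g = p * q := by
  obtain ⟨k, hk⟩ := hv ⟨v, Subgroup.mem_zpowers v⟩
  have hk' : v ^ q ^ k = 1 := by simpa using congrArg Subtype.val hk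
  obtain ⟨j, hj1, hj⟩ := (Nat.dvd_prime_pow hq).mp (orderOf_dvd_of_pow_eq_one hk')
  have hdvd : q ∣ orderOf v := by
    rw [hj]
    refine dvd_pow_self q fun h0 => hv1 ?_
    rw [← orderOf_eq_one_iff, hj, h0, pow_zero]
  have hw : orderOf (v ^ (orderOf v / q)) = q := by
    rw [orderOf_pow_of_dvd (Nat.div_pos (Nat.le_of_dvd (orderOf_pos v) hdvd) hq.pos).ne'
      (Nat.div_dvd_of_dvd hdvd), Nat.div_div_self hdvd (orderOf_pos v).ne']
  refine ⟨u * v ^ (orderOf v / q), ?_⟩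
  rw [(h.pow_right _).orderOf_mul_eq_mul_orderOf_of_coprime (by rw [hu, hw]; exact (Nat.coprime_primes hp hq).mpr hpq),
    hu, hw]

/-- Let G be a finite group with normal subgroups K ≤ M, and let p, q, r be distinct primes with p dividing the order of K, q dividing the order of M/K and r dividing the order of G/M. Then p, q, r are not pairwise non-adjacent in the prime graph of G: G has an element of order pq, pr or qr. -/
theorem result {G : Type*} [Group G] [Finite G] (K M : Subgroup G) [K.Normal] [M.Normal] (hKM : K ≤ M)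
    (p q r : ℕ) (hp : p.Prime) (hq : q.Prime) (hr : r.Prime) (hpq : p ≠ q) (hpr : p ≠ r) (hqr : q ≠ r)
    (hpK : p ∣ Nat.card ↥K) (hqM : q ∣ Nat.card ↥M / Nat.card ↥K) (hrG : r ∣ Nat.card G / Nat.card ↥M) :
    (∃ x : G, orderOf x = p * q) ∨ (∃ x : G, orderOf x = p * r) ∨ (∃ x : G, orderOf x = q * r) := by
  classical
  by_contra hcon
  push_neg at hcon
  obtain ⟨hnpq, hnpr, hnqr⟩ := hcon
  have := Fact.mk hp
  have := Fact.mk hq
  have := Fact.mk hr
  let P : Sylow p K := default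
  set P' : Subgroup G := P.1.map K.subtype with hP'
  have hP'p : IsPGroup p P' := P.2.map K.subtype
  have hP'ne : P' ≠ ⊥ := by
    rw [hP', Ne, Subgroup.map_eq_bot_iff_of_injective _ (Subgroup.subtype_injective K)]
    exact P.ne_bot_of_dvd_card hpK
  set N1 := Subgroup.normalizer (P' : Set G)
  have hfr : N1 ⊔ K = ⊤ := Sylow.normalizer_sup_eq_top P
  set Z : Subgroup G := P' ⊓ Subgroup.centralizer (P' : Set G) with hZ
  have hZp : IsPGroup p Z := hP'p.to_le inf_le_left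
  have hZne : Z ≠ ⊥ := by
    have : Nontrivial P' := (Subgroup.nontrivial_iff_ne_bot _).mpr hP'ne
    have := hP'p.center_nontrivial
    obtain ⟨⟨z, hz⟩, hz1⟩ := exists_ne (1 : Subgroup.center P')
    intro hb
    apply hz1
    have hzZ : (z : G) ∈ Z := ⟨z.2, fun w hw => congrArg Subtype.val (Subgroup.mem_center_iff.mp hz ⟨w, hw⟩)⟩
    rw [hb, Subgroup.mem_bot] at hzZ
    exact Subtype.ext (Subtype.ext hzZ)
  have hN1Z : N1 ≤ Subgroup.normalizer (Z : Set G) := by
    intro g hg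
    rw [Subgroup.mem_normalizer_iff] at hg ⊢
    intro w
    have hc : ∀ g : G, (∀ h, h ∈ P' ↔ g * h * g⁻¹ ∈ P') → ∀ w,
        w ∈ Subgroup.centralizer (P' : Set G) → g * w * g⁻¹ ∈ Subgroup.centralizer (P' : Set G) := by
      intro g hg w hw u hu
      have hu' : g⁻¹ * u * g ∈ P' := by rw [hg]; simpa [mul_assoc] using hu
      have := hw _ hu'
      calc u * (g * w * g⁻¹) = g * ((g⁻¹ * u * g) * w) * g⁻¹ := by group
        _ = g * (w * (g⁻¹ * u * g)) * g⁻¹ := by rw [this]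
        _ = g * w * g⁻¹ * u := by group
    constructor
    · rintro ⟨h1, h2⟩; exact ⟨(hg w).mp h1, hc g hg w h2⟩
    · rintro ⟨h1, h2⟩
      refine ⟨(hg w).mpr h1, ?_⟩
      have := hc g⁻¹ (fun h => by
        rw [hg (g⁻¹ * h * g⁻¹⁻¹)]; simp [mul_assoc]) _ h2
      simpa [mul_assoc] using this
  have hsupM : (N1 ⊓ M) ⊔ K = M := by
    apply le_antisymm (sup_le inf_le_right hKM)
    intro g hg
    obtain ⟨a, ha, k, hk, rfl⟩ := Subgroup.mem_sup_of_normal_right.mp
      (hfr.ge (Subgroup.mem_top g))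
    refine Subgroup.mul_mem_sup ⟨ha, ?_⟩ hk
    have := M.mul_mem hg (M.inv_mem (hKM hk))
    simpa [mul_assoc] using this
  have hrel : K.relIndex M = Nat.card M / Nat.card K := by
    rw [← K.relIndex_bot_left, ← M.relIndex_bot_left,
      ← Subgroup.relIndex_mul_relIndex ⊥ K M bot_le hKM, Nat.mul_div_cancel_left]
    rw [Subgroup.relIndex_bot_left]; exact Nat.card_pos
  have hqN1 : q ∣ Nat.card (N1 ⊓ M : Subgroup G) := by
    rw [← hsupM, Subgroup.relIndex_sup_right, hsupM] at hrel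
    exact (hrel ▸ hqM).trans (Subgroup.relIndex_dvd_card _ _)
  have hrN1 : r ∣ (M.subgroupOf N1).index := by
    show r ∣ M.relIndex N1
    have htop : N1 ⊔ M = ⊤ := top_le_iff.mp (hfr.ge.trans (sup_le_sup_left hKM _))
    rw [← Subgroup.relIndex_sup_right, htop, Subgroup.relIndex_top_right]
    convert hrG using 1
    rw [← M.card_mul_index, Nat.mul_div_cancel_left _ Nat.card_pos]
  set M1 := M.subgroupOf N1 with hM1
  let Q : Sylow q M1 := default
  have hqM1 : q ∣ Nat.card M1 := by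
    rw [hM1, ← Subgroup.inf_subgroupOf_left, Nat.card_congr (Subgroup.subgroupOfEquivOfLe inf_le_left).toEquiv]
    exact hqN1
  have hfr2 := Sylow.normalizer_sup_eq_top Q
  set N2 := Subgroup.normalizer (((Q : Subgroup M1).map M1.subtype : Subgroup N1) : Set N1)
  have hrN2 : r ∣ Nat.card N2 := by
    refine hrN1.trans ?_
    rw [← Subgroup.relIndex_top_right, ← hfr2, Subgroup.relIndex_sup_right]
    exact Subgroup.relIndex_dvd_card _ _
  obtain ⟨⟨x1, hx1⟩, hxo⟩ := exists_prime_orderOf_dvd_card' r hrN2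
  set Q' : Subgroup G := ((Q : Subgroup M1).map M1.subtype).map N1.subtype with hQ'
  have hQ'q : IsPGroup q Q' := (Q.2.map _).map _
  have hQ'ne : Q' ≠ ⊥ := by
    rw [hQ', Ne, Subgroup.map_eq_bot_iff_of_injective _ (Subgroup.subtype_injective _),
      Subgroup.map_eq_bot_iff_of_injective _ (Subgroup.subtype_injective _)]
    exact Q.ne_bot_of_dvd_card hqM1
  set x : G := (x1 : G)
  have hxo' : orderOf x = r := by
    rw [Subgroup.orderOf_mk] at hxo; rw [← hxo]; exact Subgroup.orderOf_coe x1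
  have hQ'Z : Q' ≤ Subgroup.normalizer (Z : Set G) :=
    le_trans (Subgroup.map_subtype_le _) hN1Z
  have hxQ : ∀ y ∈ Q', x * y * x⁻¹ ∈ Q' := by
    rintro y ⟨y1, hy1, rfl⟩
    exact ⟨x1 * y1 * x1⁻¹, (Subgroup.mem_normalizer_iff.mp hx1 y1).mp hy1, rfl⟩
  have hZcomm : IsMulCommutative Z := ⟨⟨fun a b => Subtype.ext (b.2.2 _ a.2.1)⟩⟩
  have hfpfQ : ∀ y ∈ Q', x * y * x⁻¹ = y → y = 1 := fun y hy e => by
    by_contra hy1
    obtain ⟨g, hg⟩ := exists_order_mul hr hq hqr.symm hxo'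
      (hQ'q.to_le ((Subgroup.zpowers_le).mpr hy)) hy1 (mul_inv_eq_iff_eq_mul.mp e)
    exact hnqr g (hg.trans (Nat.mul_comm _ _))
  have hnorm : ∀ v ∈ Z, (v * x) ^ r = x ^ r := by
    intro v hv
    have hxr : x ^ r = 1 := hxo' ▸ pow_orderOf_eq_one x
    rw [hxr]
    set w := (v * x) ^ r
    have hwZ : ∀ k : ℕ, (v * x) ^ k * (x ^ k)⁻¹ ∈ Z := by
      intro k
      induction k with
      | zero => simp
      | succ k ih =>
        have h2 := (Subgroup.mem_normalizer_iff.mp (hN1Z x1.2) _).mp ih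
        have := mul_mem hv h2
        convert this using 1
        rw [pow_succ' (v * x), pow_succ' x]; show _ = v * (x * _ * x⁻¹); group
    have hw : w ∈ Z := by simpa [hxr] using hwZ r
    have hvw : v * w = w * v := congrArg Subtype.val (hZcomm.is_comm.comm (⟨v, hv⟩ : Z) ⟨w, hw⟩)
    have hwc : x * w * x⁻¹ = w := by
      have h3 : (v * x) * w = w * (v * x) := (Commute.self_pow (v * x) r).eq
      rw [mul_assoc, ← mul_assoc w, ← hvw, mul_assoc v w x, mul_right_inj] at h3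
      rw [h3, mul_inv_cancel_right]
    by_contra hw1
    obtain ⟨g, hg⟩ := exists_order_mul hr hp hpr.symm hxo'
      (hZp.to_le ((Subgroup.zpowers_le).mpr hw)) hw1 (mul_inv_eq_iff_eq_mul.mp hwc)
    exact hnpr g (hg.trans (Nat.mul_comm _ _))
  have hco : (Nat.card Q').Coprime (Nat.card Z) := by
    obtain ⟨a, ha⟩ := IsPGroup.iff_card.mp hQ'q
    obtain ⟨b, hb⟩ := IsPGroup.iff_card.mp hZp
    rw [ha, hb]; exact Nat.Coprime.pow _ _ ((Nat.coprime_primes hq hp).mpr hpq.symm)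
  have hfpf : ∀ i, 0 < i → i < r → ∀ y ∈ Q', x ^ i * y * (x ^ i)⁻¹ = y → y = 1 := by
    intro i hi hir y hy e
    apply hfpfQ y hy
    have hc : Commute (x ^ i) y := mul_inv_eq_iff_eq_mul.mp e
    obtain ⟨j, hj⟩ : ∃ j : ℕ, (x ^ i) ^ j = x :=
      exists_pow_eq_self_of_coprime (by rw [hxo']; exact Nat.coprime_of_lt_prime hi.ne' hir hr |>.symm)
    have := (hc.pow_left j).eq
    rw [hj] at this
    rw [this]; group
  have : Nontrivial Z := (Subgroup.nontrivial_iff_ne_bot _).mpr hZne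
  have : Nontrivial Q' := (Subgroup.nontrivial_iff_ne_bot _).mpr hQ'ne
  obtain ⟨⟨v, hv⟩, hv1⟩ := exists_ne (1 : Z)
  obtain ⟨⟨z, hz⟩, hz1⟩ := exists_ne (1 : Q')
  have hcomm := Cfsg.Agent.H70.commute_of_trivial_norm Z Q' hZcomm hQ'Z x (hN1Z x1.2) hco r hr.pos
    hxQ hfpf hnorm z hz v hv
  have hz' : z ≠ 1 := fun e => hz1 (Subtype.ext e)
  have hv' : v ≠ 1 := fun e => hv1 (Subtype.ext e)
  obtain ⟨k, hk⟩ := hZp.to_le ((Subgroup.zpowers_le).mpr hv) ⟨v, Subgroup.mem_zpowers v⟩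
  obtain ⟨j, _, hj⟩ := (Nat.dvd_prime_pow hp).mp
    (orderOf_dvd_of_pow_eq_one (by simpa using congrArg Subtype.val hk : v ^ p ^ k = 1))
  have hj0 : j ≠ 0 := fun h0 => hv' (by rw [← orderOf_eq_one_iff, hj, h0, pow_zero])
  have hu : orderOf (v ^ p ^ (j - 1)) = p := by
    rw [orderOf_pow_of_dvd (pow_ne_zero _ hp.ne_zero) (hj ▸ pow_dvd_pow p (Nat.sub_le _ _)), hj,
      Nat.pow_div (Nat.sub_le _ _) hp.pos, show j - (j - 1) = 1 by omega, pow_one]
  obtain ⟨g, hg⟩ := exists_order_mul hp hq hpq hu (hQ'q.to_le ((Subgroup.zpowers_le).mpr hz)) hz'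
    ((Commute.pow_left (show Commute v z from hcomm.symm) _))
  exact hnpq g hg

end Cfsg.Agent.S3634
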