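import Cfsg.Statements.S3639
import Cfsg.Agent.Suzuki.Lie
import Cfsg.Agent.Suzuki.FixedVector
import Cfsg.Agent.H70.SplitExt

set_option autoImplicit false
open Cfsg

namespace Cfsg.Agent.S3639

/-- Let S be the Suzuki group over the field with q = 2^(2m+1) ≥ 8 elements. Then there are finite groups of arbitrarily large order with the same prime graph as S. -/
theorem result {F : Type*} [Field F] [Fintype F] {m : ℕ} (hm : 1 ≤ m) (hF : Fintype.card F = 2 ^ (2 * m + 1)) (N : ℕ) :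
    ∃ (H : Type) (_ : Group H) (_ : Fintype H), N < Fintype.card H ∧ ((∀ r : ℕ, r.Prime → (r ∣ Nat.card ↥(Cfsg.Lie.Sz F (2 ^ (m + 1))) ↔ r ∣ Nat.card H)) ∧
      (∀ r s : ℕ, r.Prime → s.Prime → r ≠ s → ((∃ x : ↥(Cfsg.Lie.Sz F (2 ^ (m + 1))), orderOf x = r * s) ↔ (∃ y : H, orderOf y = r * s)))) := by
  have : Cfsg.Agent.Suzuki.SzField F m := ⟨hF, hm⟩
  let e := Cfsg.Agent.Suzuki.lieEquiv (F := F) m
  let _ : DistribMulAction ↥(Cfsg.Sz F m) (Fin 4 → F) :=
    DistribMulAction.compHom _ (Cfsg.Sz F m).subtype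
  have : Fact (Nat.Prime 2) := ⟨Nat.prime_two⟩
  obtain ⟨H, hG, hFin, hN, hsame⟩ := Cfsg.Agent.H70.exists_large_sameGraph (S := ↥(Cfsg.Sz F m))
    (V := Fin 4 → F) 2 Nat.prime_two
    (fun v => by
      funext i
      rw [Pi.smul_apply, two_nsmul, Pi.zero_apply]
      exact Cfsg.Agent.Suzuki.add_self m _)
    (by
      rw [Cfsg.Agent.Suzuki.card_Sz, Cfsg.Agent.Suzuki.card_nat (F := F) m]
      exact Dvd.dvd.mul_right (Dvd.dvd.mul_right (dvd_pow (dvd_pow_self 2 (by omega)) two_ne_zero) _) _)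
    (fun s v hv h => ⟨_, Cfsg.Agent.Suzuki.orderOf_dvd_of_fixed_vector m hv h⟩) N
  obtain ⟨h1, h2⟩ := (Cfsg.Agent.H70.SameGraph.of_mulEquiv e.symm).trans hsame
  let _ := hG
  let _ : Fintype H := Fintype.ofFinite H
  exact ⟨H, hG, Fintype.ofFinite H, by rw [← Nat.card_eq_fintype_card]; exact hN, h1, h2⟩

end Cfsg.Agent.S3639
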