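import Cfsg.Statements.S3643
import Cfsg.Agent.H79.MTwelve.DegreeGraph
import Cfsg.Agent.H79.MTwelve.Final
import Cfsg.Agent.H28.M12.ColumnsMain

set_option autoImplicit false
open Cfsg

namespace Cfsg.Agent.S3643

/-- Let G be a finite group of the same order as the Mathieu group M₁₂ whose character degree graph equals that of M₁₂ (same primes dividing some irreducible complex character degree, same pairs of distinct primes whose product divides some degree). Then G is isomorphic to M₁₂ or to the direct product of the alternating group of degree 4 with M₁₁. -/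
theorem result {G : Type*} [Group G] [Finite G] (hcard : Nat.card G = Nat.card ↥Cfsg.Spor.M12) (hΔ : Cfsg.degreePrimes G = Cfsg.degreePrimes ↥Cfsg.Spor.M12 ∧ Cfsg.degreeGraph G = Cfsg.degreeGraph ↥Cfsg.Spor.M12) :
    Nonempty (G ≃* ↥Cfsg.Spor.M12) ∨ Nonempty (G ≃* alternatingGroup (Fin 4) × ↥Cfsg.Spor.M11) := by
  rcases H79.MTwelve.isM12_or_prod hcard hΔ with h | h
  · exact Or.inl (H79.MTwelve.nonempty_mulEquiv_of_columns h (H28.M12.exists_columns h)).1
  · exact Or.inr h

end Cfsg.Agent.S3643
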