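import Cfsg.Statements.S3662
import Cfsg.Agent.H90.G2Four.Witness

set_option autoImplicit false
open Cfsg Cfsg.Agent.H90

namespace Cfsg.Agent.S3662

/-- The prime graph of a finite group has the prime divisors of its order as vertices, two distinct primes p, q being joined when the group has an element of order pq; two groups have the same prime graph when they have the same prime divisors and the same joined pairs. Let F be the field with 4 elements and L the Chevalley group of type G₂ over F. There are finite groups of arbitrarily large order with the same prime graph as L. -/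
theorem result {F : Type*} [Field F] [Fintype F] (hF : Fintype.card F = 4) (N : ℕ) :
    ∃ (H : Type) (_ : Group H) (_ : Finite H), N < Nat.card H ∧
      ((∀ p : ℕ, p.Prime → (p ∣ Nat.card ↥(Cfsg.Lie.chevG2.group F) ↔ p ∣ Nat.card H)) ∧
      (∀ p q : ℕ, p.Prime → q.Prime → p ≠ q → ((∃ g : ↥(Cfsg.Lie.chevG2.group F), orderOf g = p * q) ↔ (∃ g : H, orderOf g = p * q)))) := by
  classical
  obtain ⟨θ, hsurj, hker, -⟩ := Agent.H38.St.steinberg (D := Cfsg.Lie.chevG2) (F := F) (Agent.H37.Chev.dataG2 F)
    (Agent.H38.St.relOK_of_check _ Agent.H37.Chev.typeG2.M (w := Agent.Chevalley.G2.tab.w) rfl (by decide +kernel))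
    (Agent.H38.St.adj_of_check (by decide +kernel))
  rw [Cfsg.Agent.S1078.result Cfsg.Lie.chevG2 (by simp)] at hker
  let eG := MulEquiv.ofBijective θ ⟨(MonoidHom.ker_eq_bot_iff θ).1 hker, hsurj⟩
  haveI : Finite (Cfsg.Lie.chevG2.SteinbergGroup F) := Finite.of_equiv _ eG.symm.toEquiv
  let ε : F ≃+* G2Four.K4 := FiniteField.ringEquivOfCardEq (by rw [hF, G2Four.K4.card_eq])
  have hG : Nat.card (Cfsg.Lie.chevG2.SteinbergGroup F) = 4 ^ 6 * 15 * 4095 := by
    rw [Nat.card_congr eG.toEquiv, Cfsg.Agent.S1059.result hF]; norm_num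
  let K := G2Four.Pow N ⋊[G2Four.powRep ε N] Cfsg.Lie.chevG2.SteinbergGroup F
  haveI : Finite K := Finite.of_equiv _ SemidirectProduct.equivProd.symm
  have hK : Nat.card K = 4096 ^ N * (4 ^ 6 * 15 * 4095) := by
    rw [SemidirectProduct.card, hG, Nat.card_fun, G2Four.card_V, Nat.card_eq_fintype_card, Fintype.card_fin]
  let eK : { i : Fin (Nat.card K) // True } ≃ K := (Equiv.subtypeUnivEquiv fun _ => trivial).trans (Finite.equivFin K).symm
  letI : Group { i : Fin (Nat.card K) // True } := eK.group
  refine ⟨{ i : Fin (Nat.card K) // True }, inferInstance, inferInstance, ?_, fun p hp => ?_, fun p q hp hq hpq => ?_⟩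
  · rw [Nat.card_congr eK, hK]
    have h1 : N < 4096 ^ N := Nat.lt_pow_self (by norm_num)
    nlinarith
  · rw [Nat.card_congr eK, hK, ← Nat.card_congr eG.toEquiv, hG]
    refine ⟨fun h => h.mul_left _, fun h => (Nat.Prime.dvd_mul hp).1 h |>.elim (fun h1 => ?_) id⟩
    rw [(Nat.prime_dvd_prime_iff_eq hp Nat.prime_two).1 (hp.dvd_of_dvd_pow
      (show p ∣ 2 ^ (12 * N) by rwa [pow_mul]))]
    norm_num
  · have ho : ∀ n : ℕ, (∃ g : { i : Fin (Nat.card K) // True }, orderOf g = n) ↔ ∃ g : K, orderOf g = n := fun n =>
      ⟨fun ⟨g, hg⟩ => ⟨eK.mulEquiv g, by rw [MulEquiv.orderOf_eq, hg]⟩,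
        fun ⟨g, hg⟩ => ⟨eK.mulEquiv.symm g, by rw [MulEquiv.orderOf_eq, hg]⟩⟩
    rw [ho]
    constructor
    · rintro ⟨g, hg⟩
      refine ⟨SemidirectProduct.inr (eG.symm g), ?_⟩
      rw [orderOf_injective _ SemidirectProduct.inr_injective, MulEquiv.orderOf_eq, hg]
    · rintro ⟨h, hh⟩
      suffices hs : ∃ g : Cfsg.Lie.chevG2.SteinbergGroup F, orderOf g = p * q by
        obtain ⟨g, hg⟩ := hs
        exact ⟨eG g, by rw [MulEquiv.orderOf_eq, hg]⟩
      set g := SemidirectProduct.rightHom (φ := G2Four.powRep ε N) h with hg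
      set d := orderOf g with hd
      have hdvd : d ∣ p * q := hh ▸ orderOf_map_dvd (SemidirectProduct.rightHom (φ := G2Four.powRep ε N)) h
      by_cases hdq : d = p * q
      · exact ⟨g, hdq⟩
      have hright : (h ^ d).right = 1 := by
        have := map_pow (SemidirectProduct.rightHom (φ := G2Four.powRep ε N)) h d
        rw [← hg, hd, pow_orderOf_eq_one] at this
        exact this
      have hsq : (h ^ d) ^ 2 = 1 := by
        rw [show h ^ d = SemidirectProduct.inl (h ^ d).left from SemidirectProduct.ext (by simp) (by simp [hright]),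
          ← map_pow]
        refine (congrArg _ (funext fun i => ?_)).trans (map_one _)
        rw [pow_two]
        refine Multiplicative.toAdd.injective ?_
        show Multiplicative.toAdd ((h ^ d).left i) + Multiplicative.toAdd ((h ^ d).left i) = 0
        simp [Prod.ext_iff, G2Four.K4.add_self]
      have hne : h ^ d ≠ 1 := by
        intro e
        have := orderOf_dvd_of_pow_eq_one e
        rw [hh] at this
        exact hdq (Nat.dvd_antisymm hdvd this)
      have hd2 : p * q = 2 * d := by
        have h1 : p * q ∣ d * 2 := by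
          rw [← hh]; refine orderOf_dvd_of_pow_eq_one ?_; rwa [pow_mul]
        obtain ⟨k, hk⟩ := hdvd
        rw [hk, mul_comm 2]
        congr 1
        rw [hk] at h1
        have hk2 : k ∣ 2 := Nat.dvd_of_mul_dvd_mul_left (orderOf_pos g) h1
        rcases (Nat.dvd_prime Nat.prime_two).1 hk2 with rfl | rfl
        · exact absurd (by rw [hk, mul_one]) hdq
        · rfl
      have hdp : d.Prime ∧ d ≠ 2 := by
        have h2 : 2 ∣ p * q := Dvd.intro d hd2.symm
        rcases (Nat.Prime.dvd_mul Nat.prime_two).1 h2 with h2' | h2'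
        · rw [← (Nat.prime_dvd_prime_iff_eq Nat.prime_two hp).1 h2'] at hd2 hpq
          obtain rfl : q = d := Nat.eq_of_mul_eq_mul_left two_pos hd2
          exact ⟨hq, hpq.symm⟩
        · rw [← (Nat.prime_dvd_prime_iff_eq Nat.prime_two hq).1 h2'] at hd2 hpq
          obtain rfl : p = d := by omega
          exact ⟨hp, hpq⟩
      obtain ⟨i, hi⟩ : ∃ i, (h ^ d).left i ≠ 1 := by
        by_contra hcon
        push Not at hcon
        exact hne (SemidirectProduct.ext (funext hcon) hright)
      have hfix : G2Four.powRep ε N g (h ^ d).left = (h ^ d).left := by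
        have := congrArg SemidirectProduct.left (((Commute.refl h).pow_right d).eq)
        rw [SemidirectProduct.mul_left, SemidirectProduct.mul_left, hright, map_one, MulAut.one_apply,
          mul_comm (h ^ d).left] at this
        exact mul_left_cancel this
      have h35 : d = 3 ∨ d = 5 :=
        (G2Four.prime_of_fix ε hG hi (congrFun hfix i) hdp.1).resolve_left hdp.2
      obtain ⟨g', hg'⟩ := G2Four.exists_two_mul ε h35
      exact ⟨g', hg'.trans hd2.symm⟩

end Cfsg.Agent.S3662
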