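import Cfsg.Statements.S3669
import Cfsg.Agent.H70.Sixty
import Cfsg.Agent.H27.ProjLine
import Cfsg.Agent.S0169

set_option autoImplicit false
open Cfsg

namespace Cfsg.Agent.S3669

/-- The character degree graph of a finite group has as vertices the primes dividing some irreducible complex character degree, two distinct primes being joined when their product divides some irreducible character degree; two groups have the same character degree graph when they have the same vertices and the same joined pairs. A finite group of order 60 with the same character degree graph as the alternating group A₅ (whose character degrees are 1, 3, 4, 5, so the graph has vertices 2, 3, 5 and no edges) is isomorphic to A₅. -/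
theorem result {G : Type*} [Group G] [Finite G] (hcard : Nat.card G = 60)
    (hΓ : Cfsg.degreePrimes G = Cfsg.degreePrimes (alternatingGroup (Fin 5)) ∧ Cfsg.degreeGraph G = Cfsg.degreeGraph (alternatingGroup (Fin 5))) : Nonempty (G ≃* alternatingGroup (Fin 5)) := by
  classical
  have h5 : 5 ∈ Cfsg.degreePrimes G := hΓ.1 ▸ Cfsg.Agent.H70.five_mem_degreePrimes_altFive
  obtain ⟨-, d, ⟨χ, hd⟩, hdvd⟩ := h5
  obtain ⟨n, ρ, hρ, he⟩ := χ.2
  have := hρ
  have hn : d = n := by
    rw [← hd, Cfsg.charDegree, ← he, Representation.char_one, Module.finrank_fin_fun,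
      Complex.natCast_re, Nat.floor_natCast]
  have := Fact.mk (by norm_num : Nat.Prime 5)
  have hne : Nat.card (Sylow 5 G) ≠ 1 := by
    intro h1
    let P : Sylow 5 G := default
    have : Subsingleton (Sylow 5 G) := (Nat.card_eq_one_iff_unique.mp h1).1
    have : (P : Subgroup G).Normal := P.normal_of_subsingleton
    have hP : Nat.card (P : Subgroup G) = 5 := by
      simpa using Cfsg.Agent.H36.card_sylow_eq hcard P (a := 1) (m := 12) rfl (by norm_num)
    have : IsCyclic (P : Subgroup G) := isCyclic_of_prime_card hP
    have hab : ∀ a ∈ (P : Subgroup G), ∀ b ∈ (P : Subgroup G), a * b = b * a := fun a ha b hb =>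
      congrArg Subtype.val ((IsCyclic.isMulCommutative).is_comm.comm
        (⟨a, ha⟩ : (P : Subgroup G)) ⟨b, hb⟩)
    have h := Cfsg.Agent.S0169.result ρ (P : Subgroup G) hab
    rw [Module.finrank_fin_fun, Cfsg.Agent.H36.index_eq_of_card hcard hP, ← hn] at h
    have := hdvd.trans h
    norm_num at this
  obtain ⟨hsimp, h6⟩ := Cfsg.Agent.H70.simple_of_card_sixty hcard hne
  have hinj : Function.Injective (MulAction.toPermHom G (Sylow 5 G)) := by
    rw [← MonoidHom.ker_eq_bot_iff]
    refine (IsSimpleGroup.eq_bot_or_eq_top_of_normal _ inferInstance).resolve_right fun h => ?_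
    apply hne
    rw [Nat.card_eq_one_iff_unique]
    refine ⟨⟨fun P Q => ?_⟩, inferInstance⟩
    obtain ⟨g, rfl⟩ := MulAction.exists_smul_eq G P Q
    have hg : g ∈ (MulAction.toPermHom G (Sylow 5 G)).ker := h ▸ Subgroup.mem_top g
    exact (Equiv.congr_fun (MonoidHom.mem_ker.mp hg) P).symm
  exact Cfsg.Agent.H27.ProjLine.equiv_alternating_five (MulAction.toPermHom G (Sylow 5 G)) hinj h6 hcard

end Cfsg.Agent.S3669
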