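import Cfsg.Statements.S3668
import Cfsg.Agent.H79.DegGraphSmall.GroupCases
import Cfsg.Agent.S3669

set_option autoImplicit false
open Cfsg

namespace Cfsg.Agent.S3668

/-- The character degree graph of a finite group has as vertices the primes dividing some irreducible complex character degree, two distinct primes being joined when their product divides some irreducible character degree; two groups have the same character degree graph when they have the same vertices and the same joined pairs. Let S be a finite non-abelian simple group of order less than 6000. If a finite group G has the same order as S and the same character degree graph as S, then G is isomorphic to S. -/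
theorem result {S : Type*} [Group S] [Finite S] [IsSimpleGroup S] (hS : ¬ IsMulCommutative S)
    (hlt : Nat.card S < 6000) {G : Type*} [Group G] [Finite G] (hcard : Nat.card G = Nat.card S) (hΓ : Cfsg.degreePrimes G = Cfsg.degreePrimes S ∧ Cfsg.degreeGraph G = Cfsg.degreeGraph S) :
    Nonempty (G ≃* S) := by
  obtain ⟨hP, hA⟩ := hΓ
  have hmem := Cfsg.Agent.H79.DegGraphSmall.simple_order_cases hS hlt
  simp only [Finset.mem_insert, Finset.mem_singleton] at hmem
  have hv : ∀ p, p ∈ Cfsg.degreePrimes S → p ∈ Cfsg.degreePrimes G := fun p h => hP ▸ h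
  have ha : ∀ r s, (Cfsg.degreeGraph G).Adj r s ↔ (Cfsg.degreeGraph S).Adj r s := fun r s => by
    rw [hA]
  rcases hmem with h | h | h | h | h | h | h | h | h | h | h
  · obtain ⟨e⟩ := Cfsg.Agent.S0494.result h
    obtain ⟨h1, h2⟩ := Cfsg.Agent.H79.DegGraphSmall.graph_congr e
    obtain ⟨f⟩ := Cfsg.Agent.S3669.result (hcard.trans h)
      ⟨hP.trans h1, hA.trans (SimpleGraph.ext (funext fun r => funext fun s => propext (h2 r s)))⟩
    exact ⟨f.trans e.symm⟩
  · obtain ⟨f2, f7⟩ := Cfsg.Agent.H79.DegGraphSmall.facts_168 h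
    have := Cfsg.Agent.H79.DegGraphSmall.simple_168 (hcard.trans h) (hv 7 f7) (hv 2 f2)
    haveI : Fact (Nat.Prime 7) := ⟨by norm_num⟩
    obtain ⟨e⟩ := Cfsg.Agent.S0495.result h (ZMod.card 7)
    obtain ⟨f⟩ := Cfsg.Agent.S0495.result (hcard.trans h) (ZMod.card 7)
    exact ⟨f.trans e.symm⟩
  · obtain ⟨f5, f25, f23⟩ := Cfsg.Agent.H79.DegGraphSmall.facts_360 h
    have := Cfsg.Agent.H79.DegGraphSmall.simple_360 (hcard.trans h) (hv 5 f5) ((ha 2 5).2 f25)
      (fun hh => f23 ((ha 2 3).1 hh))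
    obtain ⟨e⟩ := Cfsg.Agent.S0497.result h
    obtain ⟨f⟩ := Cfsg.Agent.S0497.result (hcard.trans h)
    exact ⟨f.trans e.symm⟩
  · obtain ⟨f2, f7, f23⟩ := Cfsg.Agent.H79.DegGraphSmall.facts_504 h
    have := Cfsg.Agent.H79.DegGraphSmall.simple_504 (hcard.trans h) (hv 7 f7) (hv 2 f2)
      (fun hh => f23 ((ha 2 3).1 hh))
    haveI : Fintype (GaloisField 2 3) := Fintype.ofFinite _
    have hF : Fintype.card (GaloisField 2 3) = 8 := by
      rw [← Nat.card_eq_fintype_card, GaloisField.card 2 3 (by norm_num)]; norm_num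
    obtain ⟨e⟩ := Cfsg.Agent.S1011.result h hF
    obtain ⟨f⟩ := Cfsg.Agent.S1011.result (hcard.trans h) hF
    exact ⟨f.trans e.symm⟩
  · haveI : Fact (Nat.Prime 11) := ⟨by norm_num⟩
    have fv := Cfsg.Agent.H79.DegGraphSmall.facts_prime_psl (S := S) (p := 11) (Or.inl rfl)
      (by rw [h]; norm_num)
    have := Cfsg.Agent.H79.DegGraphSmall.simple_660 (hcard.trans h) (hv 11 fv)
    obtain ⟨e⟩ := Cfsg.Agent.S0498.result (G := S) 11 (Or.inl rfl) (by rw [h]; norm_num)
      (ZMod.card 11)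
    obtain ⟨f⟩ := Cfsg.Agent.S0498.result (G := G) 11 (Or.inl rfl) (by rw [hcard, h]; norm_num)
      (ZMod.card 11)
    exact ⟨f.trans e.symm⟩
  · haveI : Fact (Nat.Prime 13) := ⟨by norm_num⟩
    have fv := Cfsg.Agent.H79.DegGraphSmall.facts_prime_psl (S := S) (p := 13) (Or.inr rfl)
      (by rw [h]; norm_num)
    have := Cfsg.Agent.H79.DegGraphSmall.simple_1092 (hcard.trans h) (hv 13 fv)
    obtain ⟨e⟩ := Cfsg.Agent.S0498.result (G := S) 13 (Or.inr rfl) (by rw [h]; norm_num)
      (ZMod.card 13)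
    obtain ⟨f⟩ := Cfsg.Agent.S0498.result (G := G) 13 (Or.inr rfl) (by rw [hcard, h]; norm_num)
      (ZMod.card 13)
    exact ⟨f.trans e.symm⟩
  · have := Cfsg.Agent.H79.DegGraphSmall.simple_2448 (hcard.trans h)
      (hv 17 (Cfsg.Agent.H79.DegGraphSmall.facts_2448 h))
    haveI : Fact (Nat.Prime 17) := ⟨by norm_num⟩
    obtain ⟨e⟩ := Cfsg.Agent.S1020.result h (ZMod.card 17)
    obtain ⟨f⟩ := Cfsg.Agent.S1020.result (hcard.trans h) (ZMod.card 17)
    exact ⟨f.trans e.symm⟩
  · obtain ⟨f5, f7⟩ := Cfsg.Agent.H79.DegGraphSmall.facts_2520 h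
    have := Cfsg.Agent.H79.DegGraphSmall.simple_2520 (hcard.trans h) (hv 5 f5) (hv 7 f7)
    obtain ⟨e⟩ := Cfsg.Agent.S0984.result h
    obtain ⟨f⟩ := Cfsg.Agent.S0984.result (hcard.trans h)
    exact ⟨f.trans e.symm⟩
  · have := Cfsg.Agent.H79.DegGraphSmall.simple_3420 (hcard.trans h)
      (hv 19 (Cfsg.Agent.H79.DegGraphSmall.facts_3420 h))
    haveI : Fact (Nat.Prime 19) := ⟨by norm_num⟩
    obtain ⟨e⟩ := Cfsg.Agent.S1021.result h (ZMod.card 19)
    obtain ⟨f⟩ := Cfsg.Agent.S1021.result (hcard.trans h) (ZMod.card 19)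
    exact ⟨f.trans e.symm⟩
  · have := Cfsg.Agent.H79.DegGraphSmall.simple_4080 (hcard.trans h)
      (hv 17 (Cfsg.Agent.H79.DegGraphSmall.facts_4080 h))
    haveI : Fintype (GaloisField 2 4) := Fintype.ofFinite _
    have hF : Fintype.card (GaloisField 2 4) = 16 := by
      rw [← Nat.card_eq_fintype_card, GaloisField.card 2 4 (by norm_num)]; norm_num
    obtain ⟨e⟩ := Cfsg.Agent.S0981.result h hF
    obtain ⟨f⟩ := Cfsg.Agent.S0981.result (hcard.trans h) hF
    exact ⟨f.trans e.symm⟩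
  · have := Cfsg.Agent.H79.DegGraphSmall.simple_5616 (hcard.trans h)
      (hv 13 (Cfsg.Agent.H79.DegGraphSmall.thirteen_vertex_5616 h))
      (hv 3 (Cfsg.Agent.H79.DegGraphSmall.three_vertex_5616 h))
    haveI : Fact (Nat.Prime 3) := ⟨Nat.prime_three⟩
    haveI := Fintype.ofFinite S
    haveI := Fintype.ofFinite G
    obtain ⟨e⟩ := Cfsg.Agent.H79.DegGraphSmall.PSL33.nonempty_equiv (G := S) h
    obtain ⟨f⟩ := Cfsg.Agent.H79.DegGraphSmall.PSL33.nonempty_equiv (G := G) (hcard.trans h)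
    exact ⟨f.trans e.symm⟩

end Cfsg.Agent.S3668
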