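import Cfsg.Statements.S3670
import Cfsg.Agent.H67.U33Degrees
import Cfsg.Agent.H67.Solv6048

set_option autoImplicit false
open Cfsg

namespace Cfsg.Agent.S3670

/-- The character degree graph of a finite group has as vertices the primes dividing some irreducible complex character degree, two distinct primes being joined when their product divides some irreducible character degree; two groups have the same character degree graph when they have the same vertices and the same joined pairs. Let F be the field with 9 elements and L = PSU(3,3) realised over F (order 6048). There is a finite solvable group of order 6048 with the same character degree graph as L; so L is not determined by its order together with its character degree graph. -/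
theorem result {F : Type*} [Field F] [Fintype F] (hF : Fintype.card F = 9) :
    ∃ (H : Type) (_ : Group H) (_ : Fintype H), Group.IsSolvable H ∧ Nat.card H = 6048 ∧ Cfsg.degreePrimes H = Cfsg.degreePrimes (Cfsg.PSU 3 F 3) ∧ Cfsg.degreeGraph H = Cfsg.degreeGraph (Cfsg.PSU 3 F 3) := by
  obtain ⟨hcard, h6, h14, h21⟩ := Cfsg.Agent.H67.U33.psu_facts hF
  obtain ⟨χ, hχ⟩ := Cfsg.Agent.H67.Solv6048.exists_irr42
  haveI : Finite (Cfsg.PSU 3 F 3) := Nat.finite_of_card_ne_zero (by omega)
  have h42 : 42 ∈ Cfsg.charDegrees Cfsg.Agent.H67.Solv6048.H := ⟨χ, hχ⟩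
  refine ⟨Cfsg.Agent.H67.Solv6048.H, inferInstance, inferInstance, Cfsg.Agent.H67.Solv6048.solvable_H,
    Cfsg.Agent.H67.Solv6048.card_H, Cfsg.Agent.H67.graph_eq Cfsg.Agent.H67.Solv6048.card_H hcard
      ⟨42, h42, by norm_num⟩ ⟨42, h42, by norm_num⟩ ⟨42, h42, by norm_num⟩
      ⟨6, h6, dvd_rfl⟩ ⟨14, h14, dvd_rfl⟩ ⟨21, h21, dvd_rfl⟩⟩

end Cfsg.Agent.S3670
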