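import Cfsg.Statements.S3678
import Cfsg.Agent.H70.SLTwoOrders
import Cfsg.Agent.Linear.Order

set_option autoImplicit false
open Cfsg

namespace Cfsg.Agent.S3678

theorem no_edge {A : Type*} [Group A] (h : ∀ g : A, ∃ p k : ℕ, p.Prime ∧ orderOf g ∣ p ^ k)
    (r s : ℕ) (hr : r.Prime) (hs : s.Prime) (hne : r ≠ s) : ¬ ∃ g : A, orderOf g = r * s := by
  rintro ⟨g, hg⟩
  obtain ⟨p, k, hp, hd⟩ := h g
  rw [hg] at hd
  exact hne (((Nat.prime_dvd_prime_iff_eq hr hp).mp (hr.dvd_of_dvd_pow ((dvd_mul_right r s).trans hd))).trans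
    ((Nat.prime_dvd_prime_iff_eq hs hp).mp (hs.dvd_of_dvd_pow ((dvd_mul_left s r).trans hd))).symm)

section Eight

variable {K : Type*} [Field K] [Fintype K] [CharP K 2]

theorem order_SL_eight (hK : Fintype.card K = 8) (A : Matrix.SpecialLinearGroup (Fin 2) K) :
    ∃ p k : ℕ, p.Prime ∧ orderOf A ∣ p ^ k := by
  set M := (A : Matrix (Fin 2) (Fin 2) K) with hM
  set t := A 0 0 + A 1 1
  have : CharP (Matrix (Fin 2) (Fin 2) K) 2 := inferInstance
  have h2 : M ^ 2 = t • M + 1 := by
    rw [hM, Cfsg.Agent.H70.sq_eq_trace_smul, CharTwo.sub_eq_add]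
  have lift : ∀ n : ℕ, M ^ n = 1 → A ^ n = 1 := fun n hn => Subtype.ext (by
    simpa [hM] using hn)
  rcases eq_or_ne t 0 with ht | ht
  · exact ⟨2, 1, Nat.prime_two, orderOf_dvd_of_pow_eq_one (lift 2 (by rw [h2, ht, zero_smul, zero_add]))⟩
  have ht7 : t ^ 7 = 1 := by
    have := FiniteField.pow_card_sub_one_eq_one t ht
    rwa [hK] at this
  have hsq : ∀ a b : K, (a • M + b • (1 : Matrix (Fin 2) (Fin 2) K)) ^ 2
      = (a ^ 2 * t) • M + (a ^ 2 + b ^ 2) • (1 : Matrix (Fin 2) (Fin 2) K) := by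
    intro a b
    have hc : Commute (a • M) (b • (1 : Matrix (Fin 2) (Fin 2) K)) :=
      ((Commute.one_right M).smul_left a).smul_right b
    rw [add_pow_char_of_commute (p := 2) hc, smul_pow, smul_pow, one_pow, h2, smul_add, smul_smul,
      add_assoc, ← add_smul]
  have h4 : M ^ 4 = (t ^ 3) • M + (t ^ 2 + 1) • (1 : Matrix (Fin 2) (Fin 2) K) := by
    rw [show 4 = 2 * 2 from rfl, pow_mul, h2, show t • M + 1 = t • M + (1 : K) • (1 : Matrix (Fin 2) (Fin 2) K) by
      rw [one_smul], hsq]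
    congr 2 <;> ring
  set a := (t ^ 3) ^ 2 + (t ^ 2 + 1) ^ 2 with ha
  have h8 : M ^ 8 = M + a • (1 : Matrix (Fin 2) (Fin 2) K) := by
    rw [show 8 = 4 * 2 from rfl, pow_mul, h4, hsq, show (t ^ 3) ^ 2 * t = t ^ 7 by ring, ht7, one_smul]
  have hprod : a * (a + t) = 0 := by
    have h0 : (2 : K) = 0 := CharTwo.two_eq_zero
    have e5 : t ^ 12 = t ^ 5 := by rw [show 12 = 7 + 5 from rfl, pow_add, ht7, one_mul]
    have e1 : t ^ 8 = t := by rw [show 8 = 7 + 1 from rfl, pow_add, ht7, one_mul, pow_one]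
    rw [ha]
    linear_combination e5 + e1 + ht7 + (t ^ 10 + 2 * t ^ 8 + 3 * t ^ 6 + 3 * t ^ 4 + 2 * t ^ 2 +
      t ^ 5 + t ^ 3 + t + 1) * h0
  have hMu : IsUnit M := (Matrix.isUnit_iff_isUnit_det M).mpr (by rw [hM, A.2]; exact isUnit_one)
  rcases mul_eq_zero.mp hprod with h | h
  · refine ⟨7, 1, by norm_num, orderOf_dvd_of_pow_eq_one (lift 7 ?_)⟩
    rw [h, zero_smul, add_zero] at h8
    apply hMu.mul_left_cancel
    rw [← pow_succ', h8, mul_one]
  · refine ⟨3, 2, Nat.prime_three, orderOf_dvd_of_pow_eq_one (lift 9 ?_)⟩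
    have hat : a = t := by rw [← CharTwo.sub_eq_add, sub_eq_zero] at h; exact h
    rw [pow_succ', h8, hat, mul_add, ← pow_two, Matrix.mul_smul, mul_one, h2, add_comm (t • M),
      add_assoc, CharTwo.add_self_eq_zero, add_zero]

end Eight

section Seven

variable {F : Type*} [Field F] [Fintype F]

/-- coefficients of `g ^ n` for `g ^ 2 = t g - 1` -/
def coef (t : ZMod 7) : ℕ → ZMod 7 × ZMod 7
  | 0 => (0, 1)
  | n + 1 => ((coef t n).1 * t + (coef t n).2, -(coef t n).1)

theorem coef_cases : ∀ t : ZMod 7, ∃ n ∈ [2, 3, 4, 7], (coef t n).1 = 0 ∧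
    ((coef t n).2 = 1 ∨ (coef t n).2 = -1) := by decide

theorem order_PSL_seven (hF : Fintype.card F = 7)
    (g : Matrix.ProjectiveSpecialLinearGroup (Fin 2) F) :
    ∃ p k : ℕ, p.Prime ∧ orderOf g ∣ p ^ k := by
  have : CharP F 7 := charP_of_card_eq_prime (hp := ⟨by norm_num⟩) hF
  set ψ : ZMod 7 →+* F := ZMod.castHom dvd_rfl F
  have hψ : Function.Surjective ψ := by
    refine ((Fintype.bijective_iff_injective_and_card ψ).mpr ⟨?_, by rw [ZMod.card, hF]⟩).surjective
    exact ZMod.castHom_injective F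
  obtain ⟨A, rfl⟩ := QuotientGroup.mk'_surjective _ g
  set M := (A : Matrix (Fin 2) (Fin 2) F) with hM
  obtain ⟨u, hu⟩ := hψ (A 0 0 + A 1 1)
  have h2 : M ^ 2 = ψ u • M - 1 := by rw [hM, Cfsg.Agent.H70.sq_eq_trace_smul, hu]
  have hn : ∀ n, M ^ n = ψ (coef u n).1 • M + ψ (coef u n).2 • (1 : Matrix (Fin 2) (Fin 2) F) := by
    intro n
    induction n with
    | zero => simp [coef]
    | succ n ih =>
      rw [pow_succ', ih, mul_add, Matrix.mul_smul, Matrix.mul_smul, mul_one, ← pow_two, h2]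
      simp only [coef, map_add, map_mul, map_neg]
      module
  obtain ⟨n, hmem, h1, hc⟩ := coef_cases u
  have hMn : M ^ n = ψ (coef u n).2 • (1 : Matrix (Fin 2) (Fin 2) F) := by rw [hn, h1]; simp
  have hcen : A ^ n ∈ Subgroup.center (Matrix.SpecialLinearGroup (Fin 2) F) := by
    rw [Matrix.SpecialLinearGroup.mem_center_iff]
    refine ⟨ψ (coef u n).2, ?_, ?_⟩
    · rcases hc with hc | hc <;> simp [hc]
    · rw [← Algebra.algebraMap_eq_smul_one] at hMn
      exact hMn.symm
  have hg : orderOf (QuotientGroup.mk' (Subgroup.center (Matrix.SpecialLinearGroup (Fin 2) F)) A) ∣ n := by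
    apply orderOf_dvd_of_pow_eq_one
    rw [← map_pow]
    exact (QuotientGroup.eq_one_iff _).mpr hcen
  simp only [List.mem_cons, List.not_mem_nil, or_false] at hmem
  rcases hmem with rfl | rfl | rfl | rfl
  · exact ⟨2, 1, Nat.prime_two, hg⟩
  · exact ⟨3, 1, Nat.prime_three, hg⟩
  · exact ⟨2, 2, Nat.prime_two, hg⟩
  · exact ⟨7, 1, by norm_num, hg⟩

theorem card_eq (hF : Fintype.card F = 7) :
    Nat.card (Matrix.ProjectiveSpecialLinearGroup (Fin 2) F) = 168 := by
  have := Cfsg.Agent.Linear.card_PSL_two_mul (F := F)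
  rw [hF] at this
  norm_num at this
  omega

end Seven

/-- The prime graph of a finite group has the prime divisors of its order as vertices, two distinct primes p, q being joined when the group has an element of order pq; two groups have the same prime graph when they have the same prime divisors and the same joined pairs. Let F be the field with 7 elements. There are finite groups of arbitrarily large order with the same prime graph as PSL(2,F) (the graph on {2, 3, 7} with no edges, which is also the prime graph of PSL(2,8)). -/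
theorem result {F : Type*} [Field F] [Fintype F] (hF : Fintype.card F = 7) (N : ℕ) :
    ∃ (H : Type) (_ : Group H) (_ : Finite H), N < Nat.card H ∧
      ((∀ p : ℕ, p.Prime → (p ∣ Nat.card (Matrix.ProjectiveSpecialLinearGroup (Fin 2) F) ↔ p ∣ Nat.card H)) ∧
      (∀ p q : ℕ, p.Prime → q.Prime → p ≠ q → ((∃ g : (Matrix.ProjectiveSpecialLinearGroup (Fin 2) F), orderOf g = p * q) ↔ (∃ g : H, orderOf g = p * q)))) := by
  let K := GaloisField 2 3
  letI : Fintype K := Fintype.ofFinite K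
  have hK : Fintype.card K = 8 := by
    rw [← Nat.card_eq_fintype_card, GaloisField.card 2 3 (by norm_num)]; norm_num
  obtain ⟨H, hG, hFin, hN, hS⟩ := Cfsg.Agent.H70.exists_large_sameGraph_SL (F := K) N
  refine ⟨H, hG, hFin, hN, Cfsg.Agent.H70.SameGraph.trans ⟨fun p hp => ?_, fun p q hp hq hne => ?_⟩ hS⟩
  · rw [card_eq hF, Cfsg.Agent.Linear.card_SL_two, hK]
    norm_num
    constructor <;> intro h
    · have h' : p ∣ 2 ^ 3 * 3 * 7 := by norm_num; exact h
      rcases (hp.dvd_mul).mp h' with h' | h'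
      · rcases (hp.dvd_mul).mp h' with h' | h'
        · rw [(Nat.prime_dvd_prime_iff_eq hp Nat.prime_two).mp (hp.dvd_of_dvd_pow h')]; norm_num
        · rw [(Nat.prime_dvd_prime_iff_eq hp Nat.prime_three).mp h']; norm_num
      · rw [(Nat.prime_dvd_prime_iff_eq hp (by norm_num)).mp h']; norm_num
    · have h' : p ∣ 2 ^ 3 * 3 ^ 2 * 7 := by norm_num; exact h
      rcases (hp.dvd_mul).mp h' with h' | h'
      · rcases (hp.dvd_mul).mp h' with h' | h'
        · rw [(Nat.prime_dvd_prime_iff_eq hp Nat.prime_two).mp (hp.dvd_of_dvd_pow h')]; norm_num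
        · rw [(Nat.prime_dvd_prime_iff_eq hp Nat.prime_three).mp (hp.dvd_of_dvd_pow h')]; norm_num
      · rw [(Nat.prime_dvd_prime_iff_eq hp (by norm_num)).mp h']; norm_num
  · exact iff_of_false (no_edge (order_PSL_seven hF) p q hp hq hne)
      (no_edge (order_SL_eight hK) p q hp hq hne)

end Cfsg.Agent.S3678
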