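import Cfsg.Statements.S3680
import Cfsg.Agent.Perm.RegularNormal
import Cfsg.Agent.S5914

set_option autoImplicit false
open Cfsg

namespace Cfsg.Agent.S3680

/-- The socle of a finite primitive permutation group. Let a finite group G act faithfully and primitively on a set Ω, and let N be the subgroup generated by the minimal normal subgroups of G. Then either N is an elementary abelian p-group for some prime p and acts regularly on Ω (transitively with trivial point stabilizers), or N is isomorphic to a direct product of m ≥ 1 copies of a non-abelian simple group. -/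
theorem result {G Ω : Type*} [Group G] [Finite G] [MulAction G Ω] [FaithfulSMul G Ω] [Finite Ω]
    (hprim : MulAction.IsPreprimitive G Ω) (N : Subgroup G)
    (hN : N = sSup {V : Subgroup G | V.Normal ∧ V ≠ ⊥ ∧ ∀ M : Subgroup G, M.Normal → M ≤ V → M = ⊥ ∨ M = V}) :
    (∃ p : ℕ, p.Prime ∧ IsMulCommutative N ∧ (∀ x : N, x ^ p = 1) ∧
      MulAction.IsPretransitive N Ω ∧ ∀ ω : Ω, MulAction.stabilizer N ω = ⊥) ∨
    (∃ (T : Type) (_ : Group T) (m : ℕ), 1 ≤ m ∧ IsSimpleGroup T ∧ ¬ IsMulCommutative T ∧ Nonempty (N ≃* (Fin m → T))) := by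
  classical
  have hpre := hprim
  set S := {V : Subgroup G | V.Normal ∧ V ≠ ⊥ ∧ ∀ M : Subgroup G, M.Normal → M ≤ V → M = ⊥ ∨ M = V} with hS
  by_cases hG : Nontrivial G
  swap
  · left
    have : Subsingleton G := not_nontrivial_iff_subsingleton.mp hG
    have hsub : ∀ a b : Ω, a = b := fun a b => by
      obtain ⟨g, hg⟩ := hprim.toIsPretransitive.exists_smul_eq a b
      rw [← hg, Subsingleton.elim g 1, one_smul]
    exact ⟨2, Nat.prime_two, ⟨⟨fun x y => Subsingleton.elim _ _⟩⟩, fun x => Subsingleton.elim _ _,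
      ⟨fun a b => ⟨1, hsub _ _⟩⟩, fun ω => Subsingleton.elim _ _⟩
  obtain ⟨M, hMn, -, hM, hMmin⟩ :=
    Cfsg.Agent.Perm.exists_minimal_normal_le (N := (⊤ : Subgroup G)) top_ne_bot
  have htrans : ∀ V ∈ S, MulAction.IsPretransitive V Ω := fun V hV => by
    have := hV.1
    exact Cfsg.Agent.Perm.transitive_of_normal hV.2.1
  have hdisj : ∀ V ∈ S, ∀ U ∈ S, V ≠ U → V ≤ Subgroup.centralizer (U : Set G) := by
    intro V hV U hU hne v hv u hu
    have hVU : V ⊓ U = ⊥ := by
      have := hV.1
      have := hU.1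
      rcases hV.2.2 (V ⊓ U) inferInstance inf_le_left with h | h
      · exact h
      · rcases hU.2.2 V hV.1 (h ▸ inf_le_right) with h' | h'
        · exact absurd h' hV.2.1
        · exact absurd h' hne
    exact (Subgroup.commute_of_normal_of_disjoint V U hV.1 hU.1 (disjoint_iff.mpr hVU) v u hv hu).eq.symm
  by_cases hA : ∃ V ∈ S, IsMulCommutative V
  · left
    obtain ⟨V, hV, hVab⟩ := hA
    have := hV.1
    obtain ⟨p, hp, hexp⟩ := Cfsg.Agent.Perm.minimal_abelian_exp hV.2.1 hV.2.2 hVab
    have hcen := Cfsg.Agent.Perm.centralizer_eq_self (X := Ω) hVab (htrans V hV)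
    have hNV : N = V := by
      rw [hN]
      refine le_antisymm (sSup_le fun U hU => ?_) (le_sSup hV)
      by_cases hne : U = V
      · exact hne.le
      · exact hcen ▸ hdisj U hU V hV hne
    subst hNV
    exact ⟨p, hp, hVab, fun x => Subtype.ext (hexp x x.2), htrans _ hV,
      Cfsg.Agent.Perm.abelian_transitive_free hVab (htrans _ hV)⟩
  right
  have hMS : M ∈ S := ⟨hMn, hM, hMmin⟩
  have : Nontrivial M := (Subgroup.nontrivial_iff_ne_bot M).mpr hM
  obtain ⟨T, hTg, hTs, m, hm, ⟨e⟩⟩ := (Cfsg.Agent.S5914.result (G := M)).mp (fun H hH => by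
    rcases hMmin (H.map M.subtype) inferInstance (Subgroup.map_subtype_le H) with h | h
    · exact Or.inl ((Subgroup.map_eq_bot_iff_of_injective _ M.subtype_injective).mp h)
    · right
      apply Subgroup.map_injective M.subtype_injective
      rw [h, ← MonoidHom.range_eq_map, Subgroup.range_subtype])
  have hTna : ¬ IsMulCommutative T := fun h => hA ⟨M, hMS, ⟨⟨fun x y => e.injective (by
    rw [map_mul, map_mul]; funext i; exact h.is_comm.comm _ _)⟩⟩⟩
  by_cases hone : ∀ U ∈ S, U = M
  · have hNM : N = M := hN ▸ le_antisymm (sSup_le fun U hU => (hone U hU).le) (le_sSup hMS)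
    exact ⟨T, hTg, m, hm, hTs, hTna, ⟨(MulEquiv.subgroupCongr hNM).trans e⟩⟩
  push Not at hone
  obtain ⟨C, hCS, hCM⟩ := hone
  have hCfree : ∀ x : Ω, MulAction.stabilizer C x = ⊥ := by
    rw [Cfsg.Agent.Perm.free_iff]
    intro c hc x hx
    exact Cfsg.Agent.Perm.free_iff.mp (Cfsg.Agent.Perm.centralizer_free (X := Ω) (htrans M hMS)) c
      (hdisj C hCS M hMS hCM hc) x hx
  have hMfree : ∀ x : Ω, MulAction.stabilizer M x = ⊥ := by
    rw [Cfsg.Agent.Perm.free_iff]
    intro c hc x hx
    exact Cfsg.Agent.Perm.free_iff.mp (Cfsg.Agent.Perm.centralizer_free (X := Ω) (htrans C hCS)) c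
      (hdisj M hMS C hCS (Ne.symm hCM) hc) x hx
  have hcomm : ∀ c ∈ C, ∀ x ∈ M, x * c = c * x := fun c hc x hx => hdisj C hCS M hMS hCM hc x hx
  have hcenC : ∀ U ∈ S, U = M ∨ U = C := by
    intro U hU
    by_cases hUM : U = M
    · exact Or.inl hUM
    by_cases hUC : U = C
    · exact Or.inr hUC
    exfalso
    -- `U` centralises both `M` and `C`, hence is regular in the centraliser of `M`
    obtain ⟨u, hu, hu1⟩ := (U.bot_or_exists_ne_one).resolve_left hU.2.1
    have hne : Nonempty Ω := by
      by_contra h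
      rw [not_nonempty_iff] at h
      exact hu1 (eq_of_smul_eq_smul (α := Ω) fun x => (h.false x).elim)
    obtain ⟨a⟩ := hne
    obtain ⟨c, hc, hca⟩ := Cfsg.Agent.Perm.exists_mem_smul_eq (htrans C hCS) a (u • a)
    have huc : u = c := Cfsg.Agent.Perm.eq_of_smul_eq_of_free
      (Cfsg.Agent.Perm.centralizer_free (X := Ω) (htrans M hMS))
      (hdisj U hU M hMS hUM hu) (hdisj C hCS M hMS hCM hc) a hca.symm
    rcases hU.2.2 (U ⊓ C) (by have := hU.1; have := hCS.1; infer_instance) inf_le_left with h | h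
    · exact hu1 (Subgroup.mem_bot.mp (h ▸ ⟨hu, huc ▸ hc⟩ : u ∈ (⊥ : Subgroup G)))
    · rcases hCS.2.2 U hU.1 (h ▸ inf_le_right) with h' | h'
      · exact hU.2.1 h'
      · exact hUC h'
  have hNsup : N = M ⊔ C := hN ▸ le_antisymm
    (sSup_le fun U hU => by
      rcases hcenC U hU with rfl | rfl
      · exact le_sup_left
      · exact le_sup_right)
    (sup_le (le_sSup hMS) (le_sSup hCS))
  obtain ⟨c₀, hc₀, hc₀1⟩ := (C.bot_or_exists_ne_one).resolve_left hCS.2.1
  have hΩ : Nonempty Ω := by
    by_contra h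
    rw [not_nonempty_iff] at h
    exact hc₀1 (eq_of_smul_eq_smul (α := Ω) fun x => (h.false x).elim)
  obtain ⟨a⟩ := hΩ
  let eM := Cfsg.Agent.Perm.regularEquiv (htrans M hMS) hMfree a
  let eC := Cfsg.Agent.Perm.regularEquiv (htrans C hCS) hCfree a
  let φ : M ≃ C := (Equiv.inv M).trans (eM.trans eC.symm)
  have hφ : ∀ x : M, ((φ x : C) : G) • a = (x : G)⁻¹ • a := fun x => eC.apply_symm_apply _
  let ψ : M ≃* C := { φ with
    map_mul' := fun x y => Subtype.ext (by
      show ((φ (x * y) : C) : G) = ((φ x * φ y : C) : G)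
      refine Cfsg.Agent.Perm.eq_of_smul_eq_of_free hCfree (φ (x * y)).2 (φ x * φ y : C).2 a ?_
      rw [hφ, Subgroup.coe_mul, Subgroup.coe_mul, mul_smul (φ x : G), hφ y, ← mul_smul,
        ← hcomm _ (φ x).2 _ (inv_mem y.2), mul_smul, hφ x, ← mul_smul, mul_inv_rev]) }
  have hcmm : ∀ (x : M) (c : C), Commute (M.subtype x) (C.subtype c) := fun x c => hcomm c c.2 x x.2
  let f := M.subtype.noncommCoprod C.subtype hcmm
  have hfi : Function.Injective f := by
    show Function.Injective (MonoidHom.noncommCoprod M.subtype C.subtype _)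
    rw [MonoidHom.noncommCoprod_injective]
    refine ⟨M.subtype_injective, C.subtype_injective, ?_⟩
    rw [Subgroup.range_subtype, Subgroup.range_subtype, disjoint_iff]
    have := hMn
    have := hCS.1
    rcases hMmin (M ⊓ C) inferInstance inf_le_left with h | h
    · exact h
    · rcases hCS.2.2 M hMn (h ▸ inf_le_right) with h' | h'
      · exact absurd h' hM
      · exact absurd h'.symm hCM
  have hfr : f.range = N := by
    show (MonoidHom.noncommCoprod M.subtype C.subtype _).range = N
    rw [MonoidHom.noncommCoprod_range, Subgroup.range_subtype, Subgroup.range_subtype, hNsup]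
  exact ⟨T, hTg, m + m, by omega, hTs, hTna,
    ⟨(MulEquiv.subgroupCongr hfr.symm).trans ((MonoidHom.ofInjective hfi).symm.trans
      ((MulEquiv.prodCongr e (ψ.symm.trans e)).trans
        { Fin.appendEquiv m m with
          map_mul' := fun u v => by
            funext i
            show Fin.append (u * v).1 (u * v).2 i = Fin.append u.1 u.2 i * Fin.append v.1 v.2 i
            refine Fin.addCases (fun j => ?_) (fun j => ?_) i <;>
              simp only [Prod.fst_mul, Prod.snd_mul, Pi.mul_apply, Fin.append_left, Fin.append_right] }))⟩⟩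

end Cfsg.Agent.S3680
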