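import Cfsg.Statements.S3681
-- import your own Cfsg.Agent.* helpers here

set_option autoImplicit false
open Cfsg

namespace Cfsg.Agent.S3681

open Equiv Equiv.Perm

theorem threeCycle_of_meet {α : Type*} [Fintype α] [DecidableEq α] (g h : Perm α) (x : α)
    (hgx : g x ≠ x) (hhx : h x ≠ x) (hmeet : ∀ y, g y ≠ y → h y ≠ y → y = x) :
    IsThreeCycle (g * h * g⁻¹ * h⁻¹) := by
  have gfix : ∀ y, h y ≠ y → y ≠ x → g y = y := fun y hy hyx => by
    by_contra hh; exact hyx (hmeet y hh hy)
  have hfix : ∀ y, g y ≠ y → y ≠ x → h y = y := fun y hy hyx => by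
    by_contra hh; exact hyx (hmeet y hy hh)
  have ginv : ∀ y, g y = y → g⁻¹ y = y := fun y hy => by
    conv_lhs => rw [← hy]
    simp
  have hinv : ∀ y, h y = y → h⁻¹ y = y := fun y hy => by
    conv_lhs => rw [← hy]
    simp
  have hgne : g (g x) ≠ g x := fun e => hgx (g.injective e)
  have hhne : h (h x) ≠ h x := fun e => hhx (h.injective e)
  have hgh : g x ≠ h x := fun e => hgx (hmeet (g x) hgne (e ▸ hhne))
  rw [← card_support_eq_three_iff, Finset.card_eq_three]
  refine ⟨x, g x, h x, Ne.symm hgx, Ne.symm hhx, hgh, ?_⟩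
  ext y
  simp only [mem_support, Perm.mul_apply, Finset.mem_insert, Finset.mem_singleton]
  constructor
  · intro hy
    by_contra hn
    push_neg at hn
    obtain ⟨h1, h2, h3⟩ := hn
    apply hy
    by_cases hyh : h y = y
    · rw [hinv y hyh]
      by_cases hyg : g y = y
      · rw [ginv y hyg, hyh, hyg]
      · have hw : g (g⁻¹ y) ≠ g⁻¹ y := fun e => hyg (by
          have := congrArg g e; simpa using this)
        have hwx : g⁻¹ y ≠ x := fun e => h2 (by rw [← e]; simp)
        rw [hfix _ hw hwx]; simp
    · have hw : h (h⁻¹ y) ≠ h⁻¹ y := fun e => hyh (by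
        have := congrArg h e; simpa using this)
      have hwx : h⁻¹ y ≠ x := fun e => h3 (by rw [← e]; simp)
      rw [ginv _ (gfix _ hw hwx)]
      simp [gfix y hyh h1]
  · rintro (rfl | rfl | rfl)
    · have hu : h (h⁻¹ y) ≠ h⁻¹ y := fun e => hhx (by
        have := congrArg h e; simpa using this)
      have hux : h⁻¹ y ≠ y := fun e => hhx (by
        have := congrArg h e; simpa using this.symm)
      rw [ginv _ (gfix _ hu hux)]
      simpa using hgx
    · rw [hinv _ (hfix _ hgne hgx)]
      have e : g⁻¹ (g x) = x := by simp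
      rw [e, gfix _ hhne hhx]
      exact Ne.symm hgh
    · have e : h⁻¹ (h x) = x := by simp
      rw [e]
      have hw : g (g⁻¹ x) ≠ g⁻¹ x := fun e => hgx (by
        have := congrArg g e; simpa using this)
      have hwx : g⁻¹ x ≠ x := fun e => hgx (by
        have := congrArg g e; simpa using this.symm)
      rw [hfix _ hw hwx]
      simpa using Ne.symm hhx

/-- Bochert's bound for primitive groups. Let a finite group G act faithfully and primitively on a finite set Ω with n elements, and suppose the image of G in the symmetric group of Ω does not contain the alternating group of Ω. Then |G| · ⌊(n + 1)/2⌋! ≤ n!, that is, the index of G in the symmetric group is at least ⌊(n + 1)/2⌋!. -/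
theorem result {G Ω : Type*} [Group G] [Finite G] [MulAction G Ω] [FaithfulSMul G Ω] [Fintype Ω] [DecidableEq Ω]
    (hprim : MulAction.IsPreprimitive G Ω) (hA : ¬ alternatingGroup Ω ≤ (MulAction.toPermHom G Ω).range) :
    Nat.card G * Nat.factorial ((Fintype.card Ω + 1) / 2) ≤ Nat.factorial (Fintype.card Ω) := by
  classical
  set R := (MulAction.toPermHom G Ω).range with hR
  let good : Finset Ω → Prop := fun Γ => ∀ σ ∈ R, σ.support ⊆ Γ → σ = 1
  have hne : (Finset.univ.filter good).Nonempty :=
    ⟨∅, by simp [good, Finset.subset_empty]⟩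
  obtain ⟨Γ, hΓ, hmax⟩ := Finset.exists_max_image _ Finset.card hne
  simp only [Finset.mem_filter, Finset.mem_univ, true_and] at hΓ hmax
  have hpre : MulAction.IsPreprimitive R Ω :=
    MulAction.IsPreprimitive.of_surjective
      (f := ({ toFun := id, map_smul' := fun _ _ => rfl } :
        Ω →ₑ[(MulAction.toPermHom G Ω).rangeRestrict] Ω)) Function.surjective_id
  have hbig : (Fintype.card Ω + 1) / 2 ≤ Γ.card := by
    by_contra hlt
    have hc : Γ.card < Γᶜ.card := by rw [Finset.card_compl]; omega
    have hb : ¬ good Γᶜ := fun h => by have := hmax _ h; omega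
    simp only [good, not_forall] at hb
    obtain ⟨g, hgR, hgs, hg1⟩ := hb
    obtain ⟨x, hx⟩ : g.support.Nonempty := Finset.nonempty_iff_ne_empty.mpr (by simpa using hg1)
    have hxΓ : x ∉ Γ := by simpa using hgs hx
    have hb : ¬ good (insert x Γ) := fun h => by
      have := hmax _ h
      rw [Finset.card_insert_of_notMem hxΓ] at this
      omega
    simp only [good, not_forall] at hb
    obtain ⟨h, hhR, hhs, hh1⟩ := hb
    have hxh : h x ≠ x := fun e => hh1 (hΓ h hhR (fun y hy => by
      rcases Finset.mem_insert.mp (hhs hy) with rfl | hy'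
      · exact absurd e (mem_support.mp hy)
      · exact hy'))
    have h3 := threeCycle_of_meet g h x (mem_support.mp hx) hxh (fun y hy hy' => by
      have := hgs (mem_support.mpr hy)
      rcases Finset.mem_insert.mp (hhs (mem_support.mpr hy')) with h' | h'
      · exact h'
      · simp [h'] at this)
    exact hA (alternatingGroup_le_of_isPreprimitive_of_isThreeCycle_mem hpre h3
      (R.mul_mem (R.mul_mem (R.mul_mem hgR hhR) (R.inv_mem hgR)) (R.inv_mem hhR)))
  have hinj : Function.Injective (fun p : G × Perm {x // x ∈ Γ} =>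
      MulAction.toPermHom G Ω p.1 * Perm.ofSubtype p.2) := by
    rintro ⟨g, s⟩ ⟨g', s'⟩ e
    have e' : MulAction.toPermHom G Ω (g'⁻¹ * g) = Perm.ofSubtype (s' * s⁻¹) := by
      simp only [map_mul, map_inv] at e ⊢
      rw [eq_mul_inv_iff_mul_eq, mul_assoc, e, inv_mul_cancel_left]
    have h1 : MulAction.toPermHom G Ω (g'⁻¹ * g) = 1 := hΓ _ ⟨_, rfl⟩ (by
      intro y hy
      rw [e', mem_support] at hy
      by_contra hn
      exact hy (Perm.ofSubtype_apply_of_not_mem _ hn))
    have hg : g'⁻¹ * g = 1 := MulAction.toPerm_injective (α := G) (β := Ω) (by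
      rw [← map_one (MulAction.toPermHom G Ω)] at h1
      exact h1)
    have hs : s' * s⁻¹ = 1 := Perm.ofSubtype_injective (by rw [← e', h1, map_one])
    rw [inv_mul_eq_one] at hg
    rw [mul_inv_eq_one] at hs
    simp [hg, hs]
  have := Nat.card_le_card_of_injective _ hinj
  rw [Nat.card_prod, Nat.card_perm, Nat.card_perm, Nat.card_eq_fintype_card (α := {x // x ∈ Γ}),
    Fintype.card_coe, Nat.card_eq_fintype_card (α := Ω)] at this
  exact le_trans (Nat.mul_le_mul_left _ (Nat.factorial_le hbig)) this

end Cfsg.Agent.S3681
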