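import Cfsg.Statements.S3682
import Cfsg.Agent.H70.Wielandt

set_option autoImplicit false
open Cfsg

namespace Cfsg.Agent.S3682

/-- Wielandt's bound toward the Sims conjecture. Let a finite group G act faithfully and primitively on a set Ω, let a and b be points, and suppose the orbit of b under the stabilizer of a has length d ≥ 2. Then there are a prime p and a normal p-subgroup P of the stabilizer of a, all of whose elements fix b, such that the index of P in the stabilizer of a divides d! · ((d - 1)!)^d. -/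
theorem result {G Ω : Type*} [Group G] [Finite G] [MulAction G Ω] [FaithfulSMul G Ω] [Finite Ω]
    (hprim : MulAction.IsPreprimitive G Ω) (a b : Ω) (d : ℕ) (hd : Nat.card (MulAction.orbit (MulAction.stabilizer G a) b) = d) (h2 : 2 ≤ d) :
    ∃ p : ℕ, p.Prime ∧ ∃ P : Subgroup (MulAction.stabilizer G a), P.Normal ∧ IsPGroup p P ∧ (∀ g : P, ((g : MulAction.stabilizer G a) : G) • b = b) ∧
      P.index ∣ Nat.factorial d * (Nat.factorial (d - 1)) ^ d := by
  classical
  have h := Cfsg.Agent.H70.Wielandt.Hyp.of_card hprim hd h2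
  haveI := hprim.toIsPretransitive
  let H := MulAction.stabilizer G a
  let P := Cfsg.Agent.H70.Wielandt.P (G := G) a b
  have hPH : P ≤ H :=
    (Cfsg.Agent.H70.Wielandt.P_le_K a b).trans (Cfsg.Agent.H70.Wielandt.K_le_fst a b)
  by_cases hp : ∃ p : ℕ, p.Prime ∧ IsPGroup p P
  · obtain ⟨p, hp, hPp⟩ := hp
    refine ⟨p, hp, P.subgroupOf H, Subgroup.normal_subgroupOf_of_le_normalizer
      (Cfsg.Agent.H70.Wielandt.le_normalizer_P a b),
      hPp.of_equiv (Subgroup.subgroupOfEquivOfLe hPH).symm,
      fun g => MulAction.mem_stabilizer_iff.mp (Cfsg.Agent.H70.Wielandt.K_le_snd a b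
        (Cfsg.Agent.H70.Wielandt.P_le_K a b (Subgroup.mem_subgroupOf.mp g.2))),
      Cfsg.Agent.H70.Wielandt.relIndex_dvd hd⟩
  · refine ⟨2, Nat.prime_two, ⊥, inferInstance, IsPGroup.of_bot, fun g => ?_, ?_⟩
    · rw [show (g : MulAction.stabilizer G a) = 1 from Subgroup.mem_bot.mp g.2]
      simp
    · rw [Subgroup.index_bot]
      exact Cfsg.Agent.H70.Wielandt.card_stab_dvd hd
        (Or.inr (h.P_eq_bot fun p hp' hP => hp ⟨p, hp', hP⟩))

end Cfsg.Agent.S3682
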