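import Cfsg.Statements.S3683
import Cfsg.Agent.H70.Primitive

set_option autoImplicit false
open Cfsg

namespace Cfsg.Agent.S3683

/-- Let a finite group G act faithfully and primitively on a set Ω, and suppose the stabilizer of a point a fixes a second point b ≠ a (a suborbit of length 1 other than {a}). Then the stabilizer of a is trivial and G is cyclic of prime order. -/
theorem result {G Ω : Type*} [Group G] [Finite G] [MulAction G Ω] [FaithfulSMul G Ω] [Finite Ω]
    (hprim : MulAction.IsPreprimitive G Ω) (a b : Ω) (hab : a ≠ b) (hfix : ∀ g : G, g • a = a → g • b = b) :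
    MulAction.stabilizer G a = ⊥ ∧ IsCyclic G ∧ (Nat.card G).Prime := by
  open MulAction in
  have ht : IsPretransitive G Ω := hprim.toIsPretransitive
  have hs : MulAction.stabilizer G a = ⊥ := by
    by_contra hne
    refine Cfsg.Agent.H70.stab_ne_of_ne hprim hab hne ?_
    exact Subgroup.eq_of_le_of_card_ge hfix (Cfsg.Agent.H70.card_stab_eq b a).le
  have hco := Cfsg.Agent.H70.isCoatom_stab hprim hab
  rw [hs] at hco
  have hne : Nat.card G ≠ 1 := by
    intro h
    have : Subsingleton G := (Nat.card_eq_one_iff_unique.mp h).1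
    exact hco.1 (Subsingleton.elim _ _)
  have hp := Nat.minFac_prime hne
  have := Fact.mk hp
  obtain ⟨x, hx⟩ := exists_prime_orderOf_dvd_card' (Nat.card G).minFac (Nat.minFac_dvd _)
  have htop : Subgroup.zpowers x = ⊤ := hco.2 _ (bot_lt_iff_ne_bot.mpr (by
    rw [Ne, Subgroup.zpowers_eq_bot]
    intro h
    exact hp.ne_one (by rw [← hx, h, orderOf_one])))
  refine ⟨hs, ⟨x, fun y => ?_⟩, ?_⟩
  · exact (htop ▸ Subgroup.mem_top y : y ∈ Subgroup.zpowers x)
  · rw [show Nat.card G = (Nat.card G).minFac by
      rw [← hx, ← Nat.card_zpowers, htop, Subgroup.card_top]]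
    exact hp

end Cfsg.Agent.S3683
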