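import Cfsg.Statements.S3684
import Cfsg.Agent.H70.Primitive

set_option autoImplicit false
open Cfsg

namespace Cfsg.Agent.S3684

theorem gen_of_card_two {G : Type*} [Group G] [Finite G] (A : Subgroup G) (h : Nat.card A = 2) :
    ∃ t : G, t * t = 1 ∧ A = Subgroup.zpowers t := by
  obtain ⟨x, hx⟩ := exists_prime_orderOf_dvd_card' (G := A) 2 (by rw [h])
  have ho : orderOf (x : G) = 2 := by rw [Subgroup.orderOf_coe, hx]
  refine ⟨x, ?_, ?_⟩
  · rw [← pow_two, ← ho, pow_orderOf_eq_one]
  · exact (Subgroup.eq_of_le_of_card_ge (by rw [Subgroup.zpowers_le]; exact x.2)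
      (by rw [h, Nat.card_zpowers, ho])).symm

theorem dihedral_of_gen {G : Type*} [Group G] [Finite G] (t s : G) (ht : t * t = 1) (hs : s * s = 1)
    (hgen : Subgroup.closure ({t, s} : Set G) = ⊤) (A : Subgroup G) (hA : A = Subgroup.zpowers t)
    (hco : IsCoatom A) (hnn : ¬ A.Normal) :
    ∃ p : ℕ, p.Prime ∧ Nonempty (G ≃* DihedralGroup p) := by
  set u := t * s with hu
  set R := Subgroup.zpowers u
  have hti : t⁻¹ = t := inv_eq_of_mul_eq_one_right ht
  have hsi : s⁻¹ = s := inv_eq_of_mul_eq_one_right hs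
  have hconj : t * u * t⁻¹ = u⁻¹ := by
    rw [hu, mul_inv_rev, hti, hsi, ← mul_assoc, ht, one_mul]
  have htz : ∀ i : ℤ, t * u ^ i = u ^ (-i) * t := fun i => by
    have h : (t * u * t⁻¹) ^ i = t * u ^ i * t⁻¹ := conj_zpow
    rw [hconj, inv_zpow', eq_mul_inv_iff_mul_eq] at h
    exact h.symm
  have hall : ∀ x : G, x ∈ R ∨ t * x ∈ R := by
    intro x
    have hx : x ∈ Subgroup.closure ({t, s} : Set G) := hgen ▸ Subgroup.mem_top x
    induction hx using Subgroup.closure_induction with
    | mem y hy =>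
      rcases hy with rfl | rfl
      · exact Or.inr (by rw [ht]; exact one_mem _)
      · exact Or.inr (Subgroup.mem_zpowers u)
    | one => exact Or.inl (one_mem _)
    | mul y z _ _ hy hz =>
      rcases hz with hz | hz
      · rcases hy with hy | hy
        · exact Or.inl (mul_mem hy hz)
        · exact Or.inr (by rw [← mul_assoc]; exact mul_mem hy hz)
      · obtain ⟨j, hj⟩ := hz
        have hj' : z = t * u ^ j := by rw [show u ^ j = t * z from hj, ← mul_assoc, ht, one_mul]
        rcases hy with hy | hy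
        · obtain ⟨i, rfl⟩ := hy
          refine Or.inr ⟨-i + j, ?_⟩
          show u ^ (-i + j) = t * (u ^ i * z)
          rw [hj', ← mul_assoc, htz i, ← mul_assoc (u ^ (-i) * t), mul_assoc (u ^ (-i)) t t, ht,
            mul_one, zpow_add]
        · obtain ⟨i, hi⟩ := hy
          have hi' : y = t * u ^ i := by rw [show u ^ i = t * y from hi, ← mul_assoc, ht, one_mul]
          refine Or.inl ⟨-i + j, ?_⟩
          show u ^ (-i + j) = y * z
          rw [hi', hj', htz i, ← mul_assoc, mul_assoc (u ^ (-i)) t t, ht, mul_one, zpow_add]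
    | inv y _ hy =>
      rcases hy with hy | hy
      · exact Or.inl (inv_mem hy)
      · obtain ⟨i, hi⟩ := hy
        refine Or.inr ⟨i, ?_⟩
        have hi' : y = t * u ^ i := by rw [show u ^ i = t * y from hi, ← mul_assoc, ht, one_mul]
        show u ^ i = t * y⁻¹
        rw [hi', mul_inv_rev, ← zpow_neg, hti, ← mul_assoc, htz (-i), neg_neg, mul_assoc, ht, mul_one]
  have htR : t ∉ R := fun h => by
    apply hnn
    constructor
    intro a ha g
    have key : ∀ x : G, x ∈ R := fun x => by
      rcases hall x with hx | hx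
      · exact hx
      · have := mul_mem h hx; rwa [← mul_assoc, ht, one_mul] at this
    obtain ⟨i, rfl⟩ := key g
    obtain ⟨j, rfl⟩ := key a
    show u ^ i * u ^ j * (u ^ i)⁻¹ ∈ A
    rw [← zpow_neg, ← zpow_add, ← zpow_add, show i + j + -i = j by omega]
    exact ha
  set m := orderOf u with hm
  have hm0 : 0 < m := orderOf_pos u
  have hm1 : m ≠ 1 := fun h => by
    have hu1 : u = 1 := orderOf_eq_one_iff.mp h
    apply hco.1
    rw [eq_top_iff]
    intro x _
    rw [hA]
    rcases hall x with hx | hx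
    · obtain ⟨i, rfl⟩ := hx; simp [hu1]
    · obtain ⟨i, hi⟩ := hx
      have : x = t := by
        have hi' : t * x = 1 := by rw [← show u ^ i = t * x from hi, hu1, one_zpow]
        rw [← inv_eq_of_mul_eq_one_right hi', hti]
      rw [this]; exact Subgroup.mem_zpowers t
  have hp := Nat.minFac_prime hm1
  set p := m.minFac
  have hmp : m = p := by
    set N := Subgroup.zpowers (u ^ (p : ℤ)) with hN
    have hNR : N ≤ R := by rw [hN, Subgroup.zpowers_le]; exact ⟨p, rfl⟩
    have hNn : N.Normal := by
      constructor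
      intro n hn g
      obtain ⟨k, rfl⟩ := hn
      show g * (u ^ (p : ℤ)) ^ k * g⁻¹ ∈ N
      rw [← zpow_mul]
      rcases hall g with hg | hg
      · obtain ⟨i, rfl⟩ := hg
        show u ^ i * u ^ ((p : ℤ) * k) * (u ^ i)⁻¹ ∈ N
        rw [← zpow_neg, ← zpow_add, ← zpow_add, show i + (p : ℤ) * k + -i = p * k by ring, zpow_mul]
        exact ⟨k, rfl⟩
      · obtain ⟨i, hi⟩ := hg
        have hg' : g = t * u ^ i := by rw [show u ^ i = t * g from hi, ← mul_assoc, ht, one_mul]
        refine ⟨-k, ?_⟩
        show (u ^ (p : ℤ)) ^ (-k) = g * u ^ ((p : ℤ) * k) * g⁻¹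
        rw [hg', mul_assoc t, ← zpow_add, mul_inv_rev, ← zpow_neg, htz (i + _), mul_assoc,
          ← mul_assoc t, htz (-i), neg_neg, mul_assoc (u ^ i), mul_inv_cancel, mul_one, ← zpow_add,
          ← zpow_mul]
        congr 1; ring
    rcases hco.le_iff.mp (le_sup_left : A ≤ A ⊔ N) with h | h
    · exfalso
      have hu' : u ∈ A ⊔ N := h ▸ Subgroup.mem_top u
      rw [Subgroup.mem_sup_of_normal_right] at hu'
      obtain ⟨a, ha, n, hn, e⟩ := hu'
      obtain ⟨k, rfl⟩ := hn
      rw [hA] at ha
      obtain ⟨j, rfl⟩ := ha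
      have htj : t ^ j = 1 ∨ t ^ j = t := by
        rcases Int.even_or_odd' j with ⟨c, rfl | rfl⟩
        · left; rw [zpow_mul, zpow_two, ht, one_zpow]
        · right; rw [zpow_add, zpow_mul, zpow_two, ht, one_zpow, one_mul, zpow_one]
      have e' : t ^ j = u ^ ((1 : ℤ) - p * k) := by
        rw [zpow_sub, zpow_one, zpow_mul, eq_mul_inv_iff_mul_eq]; exact e
      rcases htj with h1 | h1
      · rw [h1] at e'
        have hd : (m : ℤ) ∣ 1 - p * k := orderOf_dvd_iff_zpow_eq_one.mpr e'.symm
        have h2 : (p : ℤ) ∣ 1 := by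
          have := ((Int.natCast_dvd_natCast.mpr (Nat.minFac_dvd m)).trans hd).add (dvd_mul_right (p : ℤ) k)
          simpa using this
        exact hp.ne_one (Nat.dvd_one.mp (by exact_mod_cast h2))
      · rw [h1] at e'
        exact htR ⟨_, e'.symm⟩
    · have hle : N ≤ A := le_sup_right.trans h.le
      have h1 : u ^ (p : ℤ) = 1 := by
        have := hle (Subgroup.mem_zpowers _)
        rw [hA] at this
        obtain ⟨j, hj⟩ := this
        rcases Int.even_or_odd' j with ⟨c, rfl | rfl⟩
        · rw [← hj]; show t ^ (2 * c) = 1; rw [zpow_mul, zpow_two, ht, one_zpow]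
        · exfalso; apply htR
          refine ⟨p, ?_⟩
          show u ^ (p : ℤ) = t
          rw [← hj]; show t ^ (2 * c + 1) = t
          rw [zpow_add, zpow_mul, zpow_two, ht, one_zpow, one_mul, zpow_one]
      exact Nat.dvd_antisymm (orderOf_dvd_of_pow_eq_one (by rwa [zpow_natCast] at h1)) (Nat.minFac_dvd m)
  have : NeZero p := ⟨hp.pos.ne'⟩
  have key : ∀ a b : ℤ, ((a : ZMod p) = b) → u ^ a = u ^ b := fun a b h => by
    rw [zpow_eq_zpow_iff_modEq, ← hm, hmp]
    exact (ZMod.intCast_eq_intCast_iff _ _ _).mp h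
  let f : ZMod p → G := fun i => u ^ (i.val : ℤ)
  have fadd : ∀ i j, f (i + j) = f i * f j := fun i j => by
    simp only [f, ← zpow_add]; exact key _ _ (by simp)
  have fneg : ∀ i, f (-i) = (f i)⁻¹ := fun i => by
    simp only [f, ← zpow_neg]; exact key _ _ (by simp)
  let F : DihedralGroup p → G := fun x => match x with
    | .r i => f i
    | .sr i => t * f i
  have hF : ∀ x y, F (x * y) = F x * F y := by
    rintro (i | i) (j | j)
    · exact fadd i j
    · show t * f (j - i) = f i * (t * f j)
      rw [sub_eq_add_neg, add_comm, fadd, fneg, ← mul_assoc, ← mul_assoc]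
      congr 1
      show t * (u ^ (i.val : ℤ))⁻¹ = u ^ (i.val : ℤ) * t
      rw [← zpow_neg, htz, neg_neg]
    · show t * f (i + j) = t * f i * f j
      rw [fadd, mul_assoc]
    · show f (j - i) = t * f i * (t * f j)
      rw [sub_eq_add_neg, add_comm, fadd, fneg]
      show (u ^ (i.val : ℤ))⁻¹ * f j = t * u ^ (i.val : ℤ) * (t * f j)
      rw [htz, ← mul_assoc, mul_assoc _ t t, ht, mul_one, zpow_neg]
  have hfR : ∀ i, f i ∈ R := fun i => ⟨_, rfl⟩
  have finj : Function.Injective f := fun i j h => by
    simp only [f, zpow_natCast] at h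
    rw [pow_eq_pow_iff_modEq, ← hm, hmp] at h
    exact ZMod.val_injective p (Nat.ModEq.eq_of_lt_of_lt h i.val_lt j.val_lt)
  refine ⟨p, hp, ⟨(MulEquiv.ofBijective (MonoidHom.mk' F hF) ⟨?_, ?_⟩).symm⟩⟩
  · rintro (i | i) (j | j) h
    · exact congrArg _ (finj h)
    · exfalso; apply htR
      have h' : f i = t * f j := h
      rw [← mul_inv_eq_iff_eq_mul] at h'
      rw [← h']; exact mul_mem (hfR i) (inv_mem (hfR j))
    · exfalso; apply htR
      have h' : t * f i = f j := h
      rw [← eq_mul_inv_iff_mul_eq] at h'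
      rw [h']; exact mul_mem (hfR j) (inv_mem (hfR i))
    · exact congrArg _ (finj (mul_left_cancel (show t * f i = t * f j from h)))
  · intro x
    rcases hall x with ⟨i, hi⟩ | ⟨i, hi⟩
    · refine ⟨.r (i : ZMod p), ?_⟩
      show f _ = x
      rw [← hi]; exact key _ _ (by simp)
    · refine ⟨.sr (i : ZMod p), ?_⟩
      show t * f _ = x
      have : f (i : ZMod p) = t * x := by rw [← hi]; exact key _ _ (by simp)
      rw [this, ← mul_assoc, ht, one_mul]

/-- Let a finite group G act faithfully and primitively on a set Ω, and suppose the stabilizer of a point a has an orbit of length 2. Then the stabilizer of a has order 2 and G is isomorphic to the dihedral group of order 2p for some prime p. -/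
theorem result {G Ω : Type*} [Group G] [Finite G] [MulAction G Ω] [FaithfulSMul G Ω] [Finite Ω]
    (hprim : MulAction.IsPreprimitive G Ω) (a b : Ω) (h2 : Nat.card (MulAction.orbit (MulAction.stabilizer G a) b) = 2) :
    Nat.card (MulAction.stabilizer G a) = 2 ∧ ∃ p : ℕ, p.Prime ∧ Nonempty (G ≃* DihedralGroup p) := by
  have ht : MulAction.IsPretransitive G Ω := hprim.toIsPretransitive
  set A := MulAction.stabilizer G a with hAdef
  set B := MulAction.stabilizer G b with hBdef
  have hab : a ≠ b := by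
    rintro rfl
    have : Nat.card (MulAction.orbit A a) = 1 := by
      have e : MulAction.orbit A a = {a} := by
        ext y
        constructor
        · rintro ⟨g, rfl⟩; exact g.2
        · rintro rfl; exact MulAction.mem_orbit_self y
      rw [e]; simp
    omega
  have hcAB : Nat.card A = Nat.card B := Cfsg.Agent.H70.card_stab_eq a b
  have hstab : MulAction.stabilizer A b = B.subgroupOf A := by
    ext g; rfl
  have hiA : (B.subgroupOf A).index = 2 := by
    rw [← hstab, MulAction.index_stabilizer, ← Nat.card_coe_set_eq, h2]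
  have hiB : (A.subgroupOf B).index = 2 := by
    have e1 := Subgroup.card_mul_index (B.subgroupOf A)
    have e2 := Subgroup.card_mul_index (A.subgroupOf B)
    rw [hiA, ← Subgroup.inf_subgroupOf_left,
      Nat.card_congr (Subgroup.subgroupOfEquivOfLe (inf_le_left : A ⊓ B ≤ A)).toEquiv] at e1
    rw [← Subgroup.inf_subgroupOf_right,
      Nat.card_congr (Subgroup.subgroupOfEquivOfLe (inf_le_right : A ⊓ B ≤ B)).toEquiv, ← hcAB] at e2
    have hpos : 0 < Nat.card (A ⊓ B : Subgroup G) := Nat.card_pos
    rw [← Subgroup.inf_subgroupOf_right]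
    exact Nat.eq_of_mul_eq_mul_left hpos (e2.trans e1.symm)
  have hK : A ⊓ B = ⊥ := by
    have n1 : A ≤ Subgroup.normalizer ((A ⊓ B : Subgroup G) : Set G) := by
      have := Subgroup.normal_of_index_eq_two hiA
      rw [← Subgroup.normal_subgroupOf_iff_le_normalizer inf_le_left, Subgroup.inf_subgroupOf_left]
      exact this
    have n2 : B ≤ Subgroup.normalizer ((A ⊓ B : Subgroup G) : Set G) := by
      have := Subgroup.normal_of_index_eq_two hiB
      rw [← Subgroup.normal_subgroupOf_iff_le_normalizer inf_le_right, Subgroup.inf_subgroupOf_right]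
      exact this
    have hne : ¬ B ≤ A := fun h => by
      have e := Subgroup.eq_of_le_of_card_ge h hcAB.le
      rw [e, Subgroup.subgroupOf_self, Subgroup.index_top] at hiA
      omega
    have htop : A ⊔ B = ⊤ := (Cfsg.Agent.H70.isCoatom_stab hprim hab).2 _ (left_lt_sup.mpr hne)
    exact Cfsg.Agent.H70.eq_bot_of_normal_le_stab (a := a)
      (Subgroup.normalizer_eq_top_iff.mp (top_le_iff.mp (htop ▸ sup_le n1 n2))) inf_le_left
  have hA2 : Nat.card A = 2 := by
    rw [← Subgroup.card_mul_index (B.subgroupOf A), hiA, ← Subgroup.inf_subgroupOf_left,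
      hK, Subgroup.bot_subgroupOf, Subgroup.card_bot]
  refine ⟨hA2, ?_⟩
  have hAne : A ≠ ⊥ := fun h => by rw [h, Subgroup.card_bot] at hA2; omega
  obtain ⟨t, ht1, hAt⟩ := gen_of_card_two A hA2
  obtain ⟨s, hs1, hBs⟩ := gen_of_card_two B (hcAB ▸ hA2)
  have hco := Cfsg.Agent.H70.isCoatom_stab hprim hab
  have hgen : Subgroup.closure ({t, s} : Set G) = ⊤ := by
    rw [Set.insert_eq, Subgroup.closure_union, ← Subgroup.zpowers_eq_closure,
      ← Subgroup.zpowers_eq_closure, ← hAt, ← hBs]
    exact hco.2 _ (left_lt_sup.mpr fun h =>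
      (Cfsg.Agent.H70.stab_ne_of_ne hprim hab hAne) (Subgroup.eq_of_le_of_card_ge h hcAB.le).symm)
  have hnn : ¬ A.Normal := fun h => hAne (Cfsg.Agent.H70.eq_bot_of_normal_le_stab (a := a) h le_rfl)
  exact dihedral_of_gen t s ht1 hs1 hgen A hAt hco hnn

end Cfsg.Agent.S3684
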