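import Cfsg.Statements.S3687
import Cfsg.Agent.H32.Suborbit.Main
-- import your own Cfsg.Agent.* helpers here

set_option autoImplicit false
set_option maxHeartbeats 800000
open Cfsg

namespace Cfsg.Agent.S3687

open MulAction Equiv
open Equiv.Perm (sign)
open Cfsg.Agent.H32.Suborbit
open Cfsg.Agent.H70.Wielandt (K Hyp)

theorem equiv_prod {H A B : Type*} [Group H] [Finite H] [Group A] [Group B] [Finite A] [Finite B]
    (φ : H →* A × B) (hφ : Function.Injective φ) (A₁ : Subgroup A) (B₁ : Subgroup B)
    (hle : φ.range ≤ A₁.prod B₁) (hc : Nat.card A₁ * Nat.card B₁ ≤ Nat.card H) :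
    Nonempty (H ≃* A₁ × B₁) := by
  have he : φ.range = A₁.prod B₁ := Subgroup.eq_of_le_of_card_ge hle
    (by rw [Nat.card_congr (Subgroup.prodEquiv A₁ B₁).toEquiv, Nat.card_prod,
      ← Nat.card_congr (MonoidHom.ofInjective hφ).toEquiv]; exact hc)
  exact ⟨((MonoidHom.ofInjective hφ).trans (MulEquiv.subgroupCongr he)).trans
    (Subgroup.prodEquiv A₁ B₁)⟩


/-- Let a finite group G act faithfully and primitively on a set Ω, let a and b be points such that the orbit Δ of b under the stabilizer H of a has d ≥ 6 elements, and suppose that the permutation group induced by H on Δ contains the alternating group of Δ (the image of H in the symmetric group of Δ has index at most 2) while H does not act faithfully on Δ. Then either H induces exactly the alternating group of Δ and H is isomorphic to the direct product of the alternating groups of degrees d and d - 1; or H induces the full symmetric group of Δ and H is isomorphic to one of: the direct product of the symmetric groups of degrees d and d - 1, the direct product of the symmetric group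 of degree d with the alternating group of degree d - 1, or the subgroup of the direct product of the symmetric groups of degrees d and d - 1 consisting of the pairs of permutations with equal signs. -/
theorem result {G Ω : Type*} [Group G] [Finite G] [MulAction G Ω] [FaithfulSMul G Ω] [Finite Ω]
    (hprim : MulAction.IsPreprimitive G Ω) (a b : Ω) (d : ℕ) (hd : Nat.card (MulAction.orbit (MulAction.stabilizer G a) b) = d) (h6 : 6 ≤ d)
    (halt : (MulAction.toPermHom (MulAction.stabilizer G a) (MulAction.orbit (MulAction.stabilizer G a) b)).range.index ≤ 2)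
    (hunf : ¬ Function.Injective (MulAction.toPermHom (MulAction.stabilizer G a) (MulAction.orbit (MulAction.stabilizer G a) b))) :
    ((MulAction.toPermHom (MulAction.stabilizer G a) (MulAction.orbit (MulAction.stabilizer G a) b)).range.index = 2 ∧
      Nonempty (MulAction.stabilizer G a ≃* alternatingGroup (Fin d) × alternatingGroup (Fin (d - 1)))) ∨
    ((MulAction.toPermHom (MulAction.stabilizer G a) (MulAction.orbit (MulAction.stabilizer G a) b)).range = ⊤ ∧
      (Nonempty (MulAction.stabilizer G a ≃* Equiv.Perm (Fin d) × Equiv.Perm (Fin (d - 1))) ∨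
       Nonempty (MulAction.stabilizer G a ≃* Equiv.Perm (Fin d) × alternatingGroup (Fin (d - 1))) ∨
       Nonempty (MulAction.stabilizer G a ≃* ((Equiv.Perm.sign.comp (MonoidHom.fst (Equiv.Perm (Fin d)) (Equiv.Perm (Fin (d - 1))))) *
         (Equiv.Perm.sign.comp (MonoidHom.snd (Equiv.Perm (Fin d)) (Equiv.Perm (Fin (d - 1)))))).ker))) := by
  classical
  have hT := hprim.toIsPretransitive
  have := Fintype.ofFinite (orbit (stabilizer G a) b)
  have := Fintype.ofFinite (pts G b a)
  have hyp : Hyp G a b := Hyp.of_card hprim hd (by omega)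
  have hker := piHom_ker (G := G) a b
  have hcardH : Nat.card (stabilizer G a) =
      Nat.card (piHom G a b).range * Nat.card (K a b : Subgroup G) := by
    rw [← Subgroup.index_ker, ← Nat.card_congr (Subgroup.subgroupOfEquivOfLe
      (Cfsg.Agent.H70.Wielandt.K_le_fst a b : (K a b : Subgroup G) ≤ _)).toEquiv, ← hker,
      mul_comm, Subgroup.card_mul_index]
  have hcfg : Cfg G a b d := by
    refine ⟨hyp, hd, h6, ?_⟩
    have e := Subgroup.card_mul_index (piHom G a b).range
    rw [Nat.card_perm, hd, ← Subgroup.index_ker, hker] at e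
    change (K a b : Subgroup G).relIndex (stabilizer G a) * _ = _ at e
    rw [← e, mul_comm 2]
    exact Nat.mul_le_mul_left _ halt
  have hK : (K a b : Subgroup G) ≠ ⊥ := fun e => hunf ((MonoidHom.ker_eq_bot_iff _).mp (by
    show (piHom G a b).ker = ⊥
    rw [hker, e, Subgroup.bot_subgroupOf]))
  obtain ⟨θ, hinj, hL, hθK, hπker⟩ := exists_theta hcfg hK
  let e1 : orbit (stabilizer G a) b ≃ Fin d := Finite.equivFinOfCardEq hd
  let e2 : pts G b a ≃ Fin (d - 1) :=
    Finite.equivFinOfCardEq (card_pts_swap hcfg (mem_orbit_self b))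
  set π := e1.permCongrHom.toMonoidHom.comp (piHom G a b) with hπ
  set τ := e2.permCongrHom.toMonoidHom.comp θ with hτ
  have hΦ : Function.Injective (π.prod τ) := fun x y hxy => hinj (Prod.ext
    (e1.permCongrHom.injective (congrArg Prod.fst hxy))
    (e2.permCongrHom.injective (congrArg Prod.snd hxy)))
  have hπi : π.range.index = (piHom G a b).range.index := by
    rw [hπ, MonoidHom.range_comp]
    exact Subgroup.index_map_equiv (piHom G a b).range e1.permCongrHom
  set B := ((K a b : Subgroup G).subgroupOf (stabilizer G a)).map τ with hB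
  have hBi : B.index ≤ 2 := by
    have h1 : B = ((θ.comp ((K a b : Subgroup G).subgroupOf (stabilizer G a)).subtype).range).map
        e2.permCongrHom.toMonoidHom := by
      rw [hB, hτ, MonoidHom.range_comp, Subgroup.range_subtype, ← Subgroup.map_map]
    rw [h1, MulEquiv.toMonoidHom_eq_coe, Subgroup.index_map_equiv]
    exact hθK
  have hBc : Nat.card B = Nat.card (K a b : Subgroup G) := by
    rw [← Nat.card_congr (Subgroup.subgroupOfEquivOfLe
      (Cfsg.Agent.H70.Wielandt.K_le_fst a b : (K a b : Subgroup G) ≤ _)).toEquiv, hB]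
    refine (Nat.card_congr (Equiv.ofBijective
      (τ.subgroupMap ((K a b : Subgroup G).subgroupOf (stabilizer G a))) ⟨?_, ?_⟩)).symm
    · intro x y hxy
      refine Subtype.ext (hinj (Prod.ext ?_ ?_))
      · have hx : piHom G a b x = 1 := MonoidHom.mem_ker.mp (by rw [hker]; exact x.2)
        have hy : piHom G a b y = 1 := MonoidHom.mem_ker.mp (by rw [hker]; exact y.2)
        simp [hx, hy]
      · exact e2.permCongrHom.injective (congrArg Subtype.val hxy)
    · exact MonoidHom.subgroupMap_surjective _ _
  have hd1 : Nat.card (Perm (Fin d)) = d.factorial := by rw [Nat.card_perm, Nat.card_fin]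
  have hd2 : Nat.card (Perm (Fin (d - 1))) = (d - 1).factorial := by rw [Nat.card_perm, Nat.card_fin]
  have hA2 : 2 * Nat.card (alternatingGroup (Fin (d - 1))) = (d - 1).factorial := by
    have : Nontrivial (Fin (d - 1)) := Fin.nontrivial_iff_two_le.mpr (by omega)
    rw [← hd2, ← Subgroup.card_mul_index (alternatingGroup (Fin (d - 1))),
      alternatingGroup.index_eq_two, mul_comm]
  rcases eq_top_or_eq_alt (A := (piHom G a b).range) halt with hA | ⟨hA, hAalt⟩
  swap
  · -- only the alternating group is induced
    left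
    refine ⟨hA, ?_⟩
    obtain ⟨hc1, hc2⟩ := alt_case hcfg hK hA
    have hπr : π.range = alternatingGroup (Fin d) :=
      Equiv.Perm.eq_alternatingGroup_of_index_eq_two (hπi.trans hA)
    have hτle : τ.range ≤ alternatingGroup (Fin (d - 1)) := by
      have hτr : θ.range.index = 2 := by
        have hle : (rho (G := G) b a).range ≤ θ.range := by
          rintro _ ⟨⟨x, hx⟩, rfl⟩
          exact ⟨⟨x, hx.2⟩, hL ⟨x, hx.2⟩ hx⟩
        have hge : θ.range ≤ (rho (G := G) b a).range := by
          rintro _ ⟨x, rfl⟩
          -- `x` differs from an element fixing `b` by an element of the kernel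
          have hmem : ∃ c ∈ θ.ker, (c : G) • b = (x : G) • b := by
            have hd5 : 5 ≤ Nat.card (orbit (stabilizer G a) b) := by rw [hd]; omega
            have halt' := alt_le_of_index hπker
            have hT2 := alternatingGroup.isMultiplyPretransitive (α := orbit (stabilizer G a) b)
            have : IsMultiplyPretransitive (alternatingGroup (orbit (stabilizer G a) b))
                (orbit (stabilizer G a) b) 1 :=
              MulAction.isMultiplyPretransitive_of_le
                (n := Nat.card (orbit (stabilizer G a) b) - 2) (by omega) (Nat.sub_le _ _)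
            have := is_one_pretransitive_iff.mp this
            obtain ⟨⟨g, hg⟩, hgb⟩ := exists_smul_eq (alternatingGroup (orbit (stabilizer G a) b))
              (⟨b, mem_orbit_self b⟩ : orbit (stabilizer G a) b) ⟨x • b, mem_orbit b x⟩
            obtain ⟨⟨c, hc⟩, rfl⟩ := halt' hg
            exact ⟨c, hc, congrArg Subtype.val hgb⟩
          obtain ⟨c, hc, hcb⟩ := hmem
          have hl : ((c⁻¹ * x : stabilizer G a) : G) ∈ (Two b a : Subgroup G) := by
            refine ⟨?_, (c⁻¹ * x).2⟩
            show (c : G)⁻¹ * (x : G) ∈ stabilizer G b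
            rw [mem_stabilizer_iff, mul_smul, ← hcb, inv_smul_smul]
          refine ⟨⟨_, hl⟩, ?_⟩
          rw [← hL _ hl, map_mul, map_inv, MonoidHom.mem_ker.mp hc, inv_one, one_mul]
        rw [le_antisymm hge hle]
        have e := Subgroup.card_mul_index (rho (G := G) b a).range
        rw [Nat.card_perm, card_pts_swap hcfg (mem_orbit_self b), ← Subgroup.index_ker, rho_ker,
          ← hc2] at e
        change (K b a : Subgroup G).relIndex (Two b a) * _ = _ at e
        have e' : (K b a : Subgroup G).relIndex (Two b a) = (K b a : Subgroup G).relIndex (Two a b) :=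
          congrArg (fun S : Subgroup G => (K b a : Subgroup G).relIndex S) (inf_comm _ _)
        rw [e', mul_comm 2] at e
        have hpos : 0 < (K b a : Subgroup G).relIndex (Two a b) := by
          have := Nat.factorial_pos (d - 1)
          omega
        exact Nat.eq_of_mul_eq_mul_left hpos e
      have hτ2 : τ.range.index = 2 := by
        rw [hτ, MonoidHom.range_comp]
        exact (Subgroup.index_map_equiv θ.range e2.permCongrHom).trans hτr
      exact (Equiv.Perm.eq_alternatingGroup_of_index_eq_two hτ2).le
    refine equiv_prod (π.prod τ) hΦ _ _ ?_ ?_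
    · rintro _ ⟨x, rfl⟩
      exact ⟨hπr.le ⟨x, rfl⟩, hτle ⟨x, rfl⟩⟩
    · rw [hcardH]
      have e := Subgroup.card_mul_index (piHom G a b).range
      rw [Nat.card_perm, hd, hA] at e
      have hA1 : 2 * Nat.card (alternatingGroup (Fin d)) = d.factorial := by
        have : Nontrivial (Fin d) := Fin.nontrivial_iff_two_le.mpr (by omega)
        rw [← hd1, ← Subgroup.card_mul_index (alternatingGroup (Fin d)),
          alternatingGroup.index_eq_two, mul_comm]
      have := Nat.card (alternatingGroup (Fin d))
      nlinarith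
  right
  refine ⟨hA, ?_⟩
  have hcardA : Nat.card (piHom G a b).range = d.factorial := by
    rw [hA, Subgroup.card_top, Nat.card_perm, hd]
  rcases eq_top_or_eq_alt hBi with hBt | ⟨-, hBa⟩
  · left
    obtain ⟨e⟩ := equiv_prod (π.prod τ) hΦ ⊤ ⊤
      (fun x _ => ⟨Subgroup.mem_top _, Subgroup.mem_top _⟩)
      (by rw [hcardH, ← hBc, hBt, Subgroup.card_top, Subgroup.card_top, hcardA, hd1])
    exact ⟨e.trans (MulEquiv.prodCongr Subgroup.topEquiv Subgroup.topEquiv)⟩
  have hBc' : 2 * Nat.card (K a b : Subgroup G) = (d - 1).factorial := by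
    rw [← hBc, hBa, hA2]
  have hBτ : B ≤ τ.range := Subgroup.map_le_range _ _
  have hτi : τ.range.index ≤ 2 := (Nat.le_of_dvd (Nat.pos_of_ne_zero
    Subgroup.index_ne_zero_of_finite) (Subgroup.index_dvd_of_le hBτ)).trans hBi
  rcases eq_top_or_eq_alt hτi with hτt | ⟨-, hτa⟩
  swap
  · right; left
    obtain ⟨e⟩ := equiv_prod (π.prod τ) hΦ ⊤ (alternatingGroup (Fin (d - 1)))
      (by rintro _ ⟨x, rfl⟩; exact ⟨Subgroup.mem_top _, hτa.le ⟨x, rfl⟩⟩)
      (by rw [hcardH, Subgroup.card_top, hcardA, hd1]; exact Nat.mul_le_mul_left _ (by omega))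
    exact ⟨e.trans (MulEquiv.prodCongr Subgroup.topEquiv (MulEquiv.refl _))⟩
  right; right
  set χ := (Equiv.Perm.sign.comp (MonoidHom.fst (Equiv.Perm (Fin d)) (Equiv.Perm (Fin (d - 1))))) *
    (Equiv.Perm.sign.comp (MonoidHom.snd (Equiv.Perm (Fin d)) (Equiv.Perm (Fin (d - 1))))) with hχ
  -- even on the first component implies even on the second
  have hev : ∀ x, sign (π x) = 1 → sign (τ x) = 1 := by
    intro x hx
    have hx' : piHom G a b x ∈ alternatingGroup (orbit (stabilizer G a) b) := by
      rw [Equiv.Perm.mem_alternatingGroup]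
      rwa [hπ, MonoidHom.comp_apply, MulEquiv.coe_toMonoidHom, Equiv.permCongrHom_coe,
        Equiv.Perm.sign_permCongr] at hx
    obtain ⟨⟨c, hc⟩, hcx⟩ := alt_le_of_index hπker hx'
    have hk : c⁻¹ * x ∈ (K a b : Subgroup G).subgroupOf (stabilizer G a) := by
      rw [← hker, MonoidHom.mem_ker, map_mul, map_inv, inv_mul_eq_one]
      exact hcx
    have h1 : τ (c⁻¹ * x) ∈ alternatingGroup (Fin (d - 1)) := hBa.le ⟨_, hk, rfl⟩
    have h2 : τ c = 1 := by
      rw [hτ, MonoidHom.comp_apply, MonoidHom.mem_ker.mp hc, map_one]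
    rw [map_mul, map_inv, h2, inv_one, one_mul, Equiv.Perm.mem_alternatingGroup] at h1
    exact h1
  have hall : ∀ x, sign (π x) = sign (τ x) := by
    intro x
    have : Nontrivial (Fin (d - 1)) := Fin.nontrivial_iff_two_le.mpr (by omega)
    obtain ⟨x₀, hx₀⟩ : ∃ x₀, sign (τ x₀) = -1 := by
      obtain ⟨σ, hσ⟩ := Equiv.Perm.sign_surjective (Fin (d - 1)) (-1)
      obtain ⟨x₀, rfl⟩ := hτt.ge (Subgroup.mem_top σ)
      exact ⟨x₀, hσ⟩
    have hx₀' : sign (π x₀) = -1 := (Int.units_eq_one_or _).resolve_left fun h => by
      rw [hev x₀ h] at hx₀; exact absurd hx₀ (by decide)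
    rcases Int.units_eq_one_or (sign (π x)) with h | h
    · rw [h, hev x h]
    · have h1 : sign (π (x₀ * x)) = 1 := by rw [map_mul, map_mul, hx₀', h]; rfl
      have h2 := hev _ h1
      rw [map_mul, map_mul, hx₀, neg_one_mul, neg_eq_iff_eq_neg] at h2
      rw [h, h2]
  have hle : (π.prod τ).range ≤ χ.ker := by
    rintro _ ⟨x, rfl⟩
    rw [MonoidHom.mem_ker, hχ, MonoidHom.mul_apply]
    show sign (π x) * sign (τ x) = 1
    rw [hall x, Int.units_mul_self]
  have hχsurj : Function.Surjective χ := by
    have : Nontrivial (Fin d) := Fin.nontrivial_iff_two_le.mpr (by omega)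
    intro u
    obtain ⟨σ, hσ⟩ := Equiv.Perm.sign_surjective (Fin d) u
    refine ⟨(σ, 1), ?_⟩
    rw [hχ, MonoidHom.mul_apply]
    show sign σ * sign 1 = u
    rw [map_one, mul_one, hσ]
  have hc : Nat.card χ.ker * 2 = d.factorial * (d - 1).factorial := by
    rw [← hd1, ← hd2, ← Nat.card_prod, ← Subgroup.card_mul_index χ.ker, Subgroup.index_ker,
      MonoidHom.range_eq_top.mpr hχsurj, Subgroup.card_top]
    simp [Nat.card_eq_fintype_card]
  have he : (π.prod τ).range = χ.ker := Subgroup.eq_of_le_of_card_ge hle (by
    rw [← Nat.card_congr (MonoidHom.ofInjective hΦ).toEquiv, hcardH, hcardA]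
    have : Nat.card χ.ker * 2 = (d.factorial * Nat.card (K a b : Subgroup G)) * 2 := by
      rw [hc, ← hBc']; ring
    omega)
  exact ⟨(MonoidHom.ofInjective hΦ).trans (MulEquiv.subgroupCongr he)⟩

end Cfsg.Agent.S3687
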