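import Cfsg.Statements.S3688
import Cfsg.Agent.H70.Wielandt

set_option autoImplicit false
open Cfsg

namespace Cfsg.Agent.S3688

/-- Let a finite group G act faithfully and primitively on a set Ω, let a and b be points such that the orbit of b under the stabilizer H of a has length d ≥ 2, and suppose that H is not strongly constrained: for no prime p does the generalized Fitting subgroup of H coincide with the largest normal p-subgroup of H. Then the order of H divides d! · ((d - 1)!)^d. -/
theorem result {G Ω : Type*} [Group G] [Finite G] [MulAction G Ω] [FaithfulSMul G Ω] [Finite Ω]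
    (hprim : MulAction.IsPreprimitive G Ω) (a b : Ω) (d : ℕ) (hd : Nat.card (MulAction.orbit (MulAction.stabilizer G a) b) = d) (h2 : 2 ≤ d)
    (hnc : ∀ p : ℕ, p.Prime → Cfsg.generalizedFittingSubgroup (MulAction.stabilizer G a) ≠ Cfsg.pCore p (MulAction.stabilizer G a)) :
    Nat.card (MulAction.stabilizer G a) ∣ Nat.factorial d * (Nat.factorial (d - 1)) ^ d := by
  classical
  have h := H70.Wielandt.Hyp.of_card hprim hd h2
  haveI := hprim.toIsPretransitive
  refine H70.Wielandt.card_stab_dvd hd (Classical.byContradiction fun hc => ?_)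
  obtain ⟨hP, hP'⟩ := not_or.mp hc
  obtain ⟨p, hp, hPp⟩ : ∃ p : ℕ, p.Prime ∧ IsPGroup p (H70.Wielandt.P (G := G) a b) :=
    Classical.byContradiction fun hx =>
      hP' (h.P_eq_bot fun p hp hPp => hx ⟨p, hp, hPp⟩)
  haveI := Fact.mk hp
  have hq : ∀ q : ℕ, q.Prime → q ≠ p →
      H70.Wielandt.opIn q (MulAction.stabilizer G a) = ⊥ := by
    intro q hq hqp
    haveI := Fact.mk hq
    refine h.opIn_eq_bot fun hPq => hP ?_
    rw [Subgroup.eq_bot_iff_card, ← Nat.dvd_one]
    exact (Nat.dvd_gcd dvd_rfl dvd_rfl).trans
      (dvd_of_eq (IsPGroup.coprime_card_of_ne q p hqp _ _ hPq hPp))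
  have hP'sn : ((H70.Wielandt.P (G := G) b a).subgroupOf (MulAction.stabilizer G a)).IsSubnormal :=
    H70.Wielandt.sn_two (H70.Wielandt.P_le_K' b a) (H70.Wielandt.K_le_fst a b)
      ((H70.Wielandt.K_le_snd a b).trans (H70.Wielandt.le_normalizer_P b a))
      (H70.Wielandt.le_normalizer_K a b)
  obtain ⟨r, hr, hPr⟩ : ∃ r : ℕ, r.Prime ∧ IsPGroup r (H70.Wielandt.P (G := G) b a) :=
    Classical.byContradiction fun hx =>
      hP (h.symm.P_eq_bot fun r hr hPr => hx ⟨r, hr, hPr⟩)
  have hP'U : H70.Wielandt.P (G := G) b a ≤ H70.Wielandt.opIn r (MulAction.stabilizer G a) :=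
    H70.Wielandt.le_opIn ((H70.Wielandt.P_le_K' b a).trans (H70.Wielandt.K_le_fst a b)) hP'sn hPr
  have hrp : r = p := Classical.byContradiction fun hne =>
    hP' (le_bot_iff.mp (hP'U.trans (hq r hr hne).le))
  subst hrp
  have hFit : Cfsg.fittingSubgroup (MulAction.stabilizer G a) =
      Cfsg.pCore r (MulAction.stabilizer G a) :=
    H70.Wielandt.fitting_eq_pCore fun q hq' hne => H70.Wielandt.pCore_eq_bot_of_opIn (hq q hq' hne)
  have hE := h.eOf_eq_bot hP hP' fun C hC hCH hCK => by
    refine H70.Wielandt.qs_false hC.qs hCH (h.commute_eOf hP' hCK) ?_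
    set H := MulAction.stabilizer G a
    set L := MulAction.stabilizer G b
    set T := H70.Wielandt.opIn r (H ⊓ L) with hTdef
    set U := H70.Wielandt.opIn r H with hUdef
    have hCD : C ≤ H ⊓ L := le_inf hCH hC.1
    have hcompD : Cfsg.IsComponent (C.subgroupOf (H ⊓ L)) :=
      ⟨hC.2.1.comap (Subgroup.inclusion (inf_le_right : H ⊓ L ≤ L)),
        Components.qs_congr (Subgroup.subgroupOfEquivOfLe hCD).symm hC.qs⟩
    have hCT : ∀ c ∈ C, ∀ t ∈ T, c * t = t * c := by
      rintro c hc _ ⟨t, ht, rfl⟩
      exact congrArg Subtype.val (Components.commute_of_commutator_eq_bot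
        (Components.component_commutator_fitting hcompD)
        (a := ⟨c, hCD hc⟩) (Subgroup.mem_subgroupOf.mpr hc) (Components.pCore_le_fitting r ht))
    have hP'T : H70.Wielandt.P (G := G) b a ≤ T :=
      H70.Wielandt.le_opIn_of_normalized
        ((H70.Wielandt.P_le_K' b a).trans (H70.Wielandt.K_le a b))
        (inf_le_right.trans (H70.Wielandt.le_normalizer_P b a)) hPr
    have hUT : U ⊓ Subgroup.centralizer (T : Set G) ≤ T := by
      intro y hy
      have hyL : y ∈ L := h.symm.normalizer_le hP'
        ((H70.Wielandt.P_le_K b a).trans (H70.Wielandt.K_le_fst b a))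
        (H70.Wielandt.le_normalizer_P b a)
        (Subgroup.mem_normalizer_iff.mpr (fun x => by
          have hcy : ∀ x ∈ H70.Wielandt.P (G := G) b a, y * x * y⁻¹ = x := fun x hx => by
            rw [← (Subgroup.mem_centralizer_iff.mp hy.2 x (hP'T hx)), mul_inv_cancel_right]
          refine ⟨fun hx => by rw [hcy x hx]; exact hx, fun hx => ?_⟩
          have := hcy _ hx
          have hx' : y * x * y⁻¹ = x := mul_left_cancel (mul_right_cancel this)
          rwa [hx'] at hx))
      exact H70.Wielandt.le_opIn_of_normalized (A := U ⊓ L)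
        (inf_le_inf_right L (H70.Wielandt.opIn_le r H))
        ((inf_le_inf (H70.Wielandt.le_normalizer_opIn r H) Subgroup.le_normalizer).trans
          Subgroup.inf_normalizer_le_normalizer_inf)
        ((H70.Wielandt.isPGroup_opIn H).to_le inf_le_left) ⟨hy.1, hyL⟩
    have hCU : C ≤ Subgroup.centralizer (U : Set G) := by
      have htop : Cfsg.pResidual r C = ⊤ := by
        by_contra hne
        have h1 := Fusion.isPGroup_quotient_pResidual (p := r) (G := C)
        haveI := h1.isNilpotent
        haveI : Nontrivial (C ⧸ Cfsg.pResidual r C) :=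
          QuotientGroup.nontrivial_iff.mpr hne
        haveI := hC.qs.1
        haveI := Group.IsPerfect.ofSurjective (f := QuotientGroup.mk' (Cfsg.pResidual r C))
          (QuotientGroup.mk'_surjective _)
        exact Group.IsPerfect.not_isSolvable (G := C ⧸ Cfsg.pResidual r C) inferInstance
      intro c hc
      have hle : Cfsg.pResidual r C ≤ (Subgroup.centralizer (U : Set G)).subgroupOf C := by
        refine Fusion.pResidual_le.mpr fun g hg => ?_
        have hT : IsPGroup r T := H70.Wielandt.isPGroup_opIn _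
        refine Coprime.thompson_AxB (Q := Subgroup.zpowers (g : G)) hT
          (by rwa [Nat.card_zpowers, Subgroup.orderOf_coe]) ?_ U (H70.Wielandt.isPGroup_opIn H)
          (((H70.Wielandt.opIn_le r _).trans inf_le_left).trans
            (H70.Wielandt.le_normalizer_opIn r H))
          (Subgroup.zpowers_le.mpr (H70.Wielandt.le_normalizer_opIn r H (hCH g.2))) ?_
          (Subgroup.mem_zpowers (g : G))
        · rw [Subgroup.le_centralizer_iff]
          exact Subgroup.zpowers_le.mpr fun t ht => (hCT g g.2 t ht).symm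
        · intro y hy
          exact Subgroup.le_centralizer_iff.mp (Subgroup.zpowers_le.mpr
            (show (g : G) ∈ Subgroup.centralizer (T : Set G) from
              fun t ht => (hCT g g.2 t ht).symm)) (hUT hy)
      exact hle (x := ⟨c, hc⟩) (htop ▸ Subgroup.mem_top _)
    intro e he c hc
    exact (Subgroup.mem_centralizer_iff.mp (hCU hc) (e : G) ⟨e, hFit ▸ he, rfl⟩).symm
  refine hnc r hp ?_
  rw [Components.genFitting_eq_sup, hFit,
    (Subgroup.map_eq_bot_iff_of_injective _ (Subgroup.subtype_injective _)).mp hE, bot_sup_eq]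

end Cfsg.Agent.S3688
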