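import Cfsg.Statements.S3693
import Cfsg.Agent.H70.Wielandt

set_option autoImplicit false
open Cfsg

namespace Cfsg.Agent.S3693

/-- Let a finite group G act faithfully and primitively on a set Ω, let a and b be points such that the orbit Δ of b under the stabilizer H of a has length d ≥ 2, and consider the permutation group induced on Δ by the elements of H fixing b. If that induced group has trivial Fitting subgroup (no non-trivial nilpotent normal subgroup), then the two-point stabilizer of a and b has trivial Fitting subgroup and the order of H divides d! · ((d - 1)!)^d. -/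
theorem result {G Ω : Type*} [Group G] [Finite G] [MulAction G Ω] [FaithfulSMul G Ω] [Finite Ω]
    (hprim : MulAction.IsPreprimitive G Ω) (a b : Ω) (d : ℕ) (hd : Nat.card (MulAction.orbit (MulAction.stabilizer G a) b) = d) (h2 : 2 ≤ d)
    (hF : Cfsg.fittingSubgroup ↥(((MulAction.stabilizer G b).subgroupOf (MulAction.stabilizer G a)).map (MulAction.toPermHom (MulAction.stabilizer G a) (MulAction.orbit (MulAction.stabilizer G a) b))) = ⊥) :
    Cfsg.fittingSubgroup ↥(MulAction.stabilizer G a ⊓ MulAction.stabilizer G b) = ⊥ ∧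
      Nat.card (MulAction.stabilizer G a) ∣ Nat.factorial d * (Nat.factorial (d - 1)) ^ d := by
  classical
  have h := H70.Wielandt.Hyp.of_card hprim hd h2
  haveI := hprim.toIsPretransitive
  set H := MulAction.stabilizer G a with hHdef
  set L := MulAction.stabilizer G b with hLdef
  set f := MulAction.toPermHom H (MulAction.orbit H b) with hf
  let j : ↥(H ⊓ L) →* ↥((L.subgroupOf H).map f) :=
    (f.subgroupMap (L.subgroupOf H)).comp
      { toFun := fun x => ⟨⟨x, x.2.1⟩, x.2.2⟩
        map_one' := rfl
        map_mul' := fun _ _ => rfl }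
  have hj : Function.Surjective j := by
    rintro ⟨_, ⟨x, hx, rfl⟩⟩
    exact ⟨⟨x, x.2, hx⟩, rfl⟩
  have hFK : ∀ x ∈ Cfsg.fittingSubgroup ↥(H ⊓ L), (x : G) ∈ H70.Wielandt.K (G := G) a b := by
    intro x hx
    have hle : (Cfsg.fittingSubgroup ↥(H ⊓ L)).map j ≤ ⊥ := hF ▸
      Components.normal_nilpotent_le_fitting (Subgroup.Normal.map inferInstance j hj)
        (Components.isNilpotent_map j _ inferInstance)
    have hx1 : j x = 1 := Subgroup.mem_bot.mp (hle ⟨x, hx, rfl⟩)
    refine H70.Wielandt.mem_K.mpr ⟨x.2.1, fun y hy => ?_⟩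
    exact congrArg Subtype.val (DFunLike.congr_fun (congrArg Subtype.val hx1) ⟨y, hy⟩)
  have key : ∀ p : ℕ, p.Prime → H70.Wielandt.opIn p (H ⊓ L) = ⊥ := by
    intro p hp
    haveI := Fact.mk hp
    by_contra hT
    set T := H70.Wielandt.opIn p (H ⊓ L) with hTdef
    have hTK : T ≤ H70.Wielandt.K (G := G) a b := by
      rintro _ ⟨x, hx, rfl⟩
      exact hFK x (Components.pCore_le_fitting p hx)
    have hTU : T ≤ H70.Wielandt.opIn p H :=
      H70.Wielandt.le_opIn (hTK.trans (H70.Wielandt.K_le_fst a b))
        (H70.Wielandt.sn_two hTK (H70.Wielandt.K_le_fst a b)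
          ((H70.Wielandt.K_le a b).trans (H70.Wielandt.le_normalizer_opIn p _))
          (H70.Wielandt.le_normalizer_K a b))
        (H70.Wielandt.isPGroup_opIn _)
    have hUKn : H ≤ Subgroup.normalizer
        (H70.Wielandt.opIn p H ⊓ H70.Wielandt.K (G := G) a b : Set G) :=
      (le_inf (H70.Wielandt.le_normalizer_opIn p H) (H70.Wielandt.le_normalizer_K a b)).trans
        Subgroup.inf_normalizer_le_normalizer_inf
    have heq : H70.Wielandt.opIn p H ⊓ H70.Wielandt.K (G := G) a b = T :=
      le_antisymm (H70.Wielandt.le_opIn_of_normalized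
        (inf_le_right.trans (H70.Wielandt.K_le a b)) (inf_le_left.trans hUKn)
        ((H70.Wielandt.isPGroup_opIn H).to_le inf_le_left)) (le_inf hTU hTK)
    have hTn : H ≤ Subgroup.normalizer (T : Set G) := heq ▸ hUKn
    have hle := h.symm.opIn_le_of (p := p) (by rwa [inf_comm]) (by rwa [inf_comm])
    rw [inf_comm] at hle
    have he : H70.Wielandt.opIn p L = H70.Wielandt.opIn p H :=
      Subgroup.eq_of_le_of_card_ge (hle.trans hTU) (H70.Wielandt.card_opIn_stab h p).le
    have hU := h.eq_bot_of_both (H70.Wielandt.opIn_le p H) (H70.Wielandt.le_normalizer_opIn p H)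
      (he ▸ H70.Wielandt.le_normalizer_opIn p L)
    exact hT (le_bot_iff.mp (hTU.trans hU.le))
  refine ⟨H70.Wielandt.fitting_eq_bot fun p hp => H70.Wielandt.pCore_eq_bot_of_opIn (key p hp),
    H70.Wielandt.card_stab_dvd hd ?_⟩
  by_cases hP : H70.Wielandt.P (G := G) a b = ⊥
  · exact Or.inl hP
  · refine Or.inr (h.P_eq_bot fun p hp hPp => hP (le_bot_iff.mp ?_))
    rw [← key p hp]
    exact H70.Wielandt.le_opIn_of_normalized
      ((H70.Wielandt.P_le_K a b).trans (H70.Wielandt.K_le a b))
      (inf_le_left.trans (H70.Wielandt.le_normalizer_P a b)) hPp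

end Cfsg.Agent.S3693
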