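import Cfsg.Statements.S3696
-- import your own Cfsg.Agent.* helpers here

set_option autoImplicit false
open Cfsg

namespace Cfsg.Agent.S3696

theorem weighted_amgm (m n j r : ℕ) (hr : 1 ≤ r) :
    m ^ j * n ^ r * (j + r) ^ (j + r) ≤ (m + n) ^ (j + r) * (j ^ j * r ^ r) := by
  rcases Nat.eq_zero_or_pos n with rfl | hn
  · simp [show r ≠ 0 by omega]
  rcases Nat.eq_zero_or_pos j with rfl | hj
  · simp only [pow_zero, one_mul, zero_add]
    exact Nat.mul_le_mul_right _ (Nat.pow_le_pow_left (by omega) _)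
  suffices h : ((m : ℝ) ^ j * n ^ r * ((j : ℝ) + r) ^ (j + r)) ≤
      ((m : ℝ) + n) ^ (j + r) * ((j : ℝ) ^ j * (r : ℝ) ^ r) by exact_mod_cast h
  have hjR : (0 : ℝ) < j := by exact_mod_cast hj
  have hrR : (0 : ℝ) < r := by exact_mod_cast hr
  have hmn : (0 : ℝ) < (m : ℝ) + n := by positivity
  set x : ℝ := (m * (j + r)) / ((m + n) * j) with hx
  set y : ℝ := (n * (j + r)) / ((m + n) * r) with hy
  have hsum : (j : ℝ) * (x - 1) + r * (y - 1) = 0 := by
    rw [hx, hy]; field_simp; ring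
  have hle : ∀ (z : ℝ) (k : ℕ), 0 ≤ z → z ^ k ≤ Real.exp (k * (z - 1)) := fun z k hz => by
    rw [Real.exp_nat_mul]
    refine pow_le_pow_left₀ hz ?_ k
    have := Real.add_one_le_exp (z - 1)
    linarith
  have hxy : x ^ j * y ^ r ≤ 1 := by
    calc x ^ j * y ^ r ≤ Real.exp (j * (x - 1)) * Real.exp (r * (y - 1)) :=
          mul_le_mul (hle _ _ (by positivity)) (hle _ _ (by positivity)) (by positivity) (Real.exp_nonneg _)
      _ = 1 := by rw [← Real.exp_add, hsum, Real.exp_zero]
  have e : (m : ℝ) ^ j * n ^ r * ((j : ℝ) + r) ^ (j + r) =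
      x ^ j * y ^ r * (((m : ℝ) + n) ^ (j + r) * ((j : ℝ) ^ j * (r : ℝ) ^ r)) := by
    rw [hx, hy, div_pow, div_pow, mul_pow, mul_pow, mul_pow, mul_pow, pow_add, pow_add]
    field_simp
  rw [e]
  calc _ ≤ 1 * (((m : ℝ) + n) ^ (j + r) * ((j : ℝ) ^ j * (r : ℝ) ^ r)) :=
        mul_le_mul_of_nonneg_right hxy (by positivity)
    _ = _ := one_mul _

theorem orbit_bound {n r : ℕ} (hr : 1 ≤ r) (hn : 2 ^ r ≤ n) : n * r ^ r ≤ n ^ r := by
  obtain ⟨s, rfl⟩ : ∃ s, r = s + 1 := ⟨r - 1, by omega⟩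
  rw [pow_succ' n]
  apply Nat.mul_le_mul_left
  calc (s + 1) ^ (s + 1) ≤ (2 ^ s) ^ (s + 1) := Nat.pow_le_pow_left (Nat.lt_two_pow_self) _
    _ = (2 ^ (s + 1)) ^ s := by rw [← pow_mul, ← pow_mul, Nat.mul_comm]
    _ ≤ n ^ s := Nat.pow_le_pow_left hn _

theorem bound_of_action : ∀ (N : ℕ) {A : Type*} {Ω : Type*} [Group A] [Finite A] [Finite Ω]
    [MulAction A Ω] [FaithfulSMul A Ω] (p k : ℕ), p.Prime → Nat.card A = N →
    (∀ a b : A, a * b = b * a) → IsPGroup p A → Nat.card {x : A // x ^ p = 1} = p ^ k →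
    Nat.card A * k ^ k ≤ Nat.card Ω ^ k := by
  intro N
  induction N using Nat.strong_induction_on with
  | _ N ih =>
  intro A Ω _ _ _ _ _ p k hp hN hab hA hk
  classical
  have := Fact.mk hp
  rcases Nat.eq_zero_or_pos k with rfl | hk0
  · have h1 : Nat.card A = 1 := by
      by_contra hne
      obtain ⟨n, hn⟩ := IsPGroup.iff_card.mp hA
      have hn0 : n ≠ 0 := fun h => hne (by rw [hn, h, pow_zero])
      obtain ⟨x, hx⟩ := exists_prime_orderOf_dvd_card' (G := A) p (hn ▸ dvd_pow_self p hn0)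
      rw [pow_zero, Nat.card_eq_one_iff_unique] at hk
      have := hk.1
      have h2 := congrArg Subtype.val (Subsingleton.elim
        (⟨x, hx ▸ pow_orderOf_eq_one x⟩ : {x : A // x ^ p = 1}) ⟨1, one_pow _⟩)
      exact hp.ne_one (by rw [← hx, show x = 1 from h2, orderOf_one])
    simp [h1]
  let T : Subgroup A :=
    { carrier := {x | x ^ p = 1}
      mul_mem' := fun {a b} ha hb => by
        show (a * b) ^ p = 1
        rw [(show Commute a b from hab a b).mul_pow, show a ^ p = 1 from ha, show b ^ p = 1 from hb, one_mul]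
      one_mem' := one_pow p
      inv_mem' := fun {a} ha => by
        show a⁻¹ ^ p = 1
        rw [inv_pow, show a ^ p = 1 from ha, inv_one] }
  have hT : Nat.card T = p ^ k := hk
  -- an orbit moved by an element of order `p`
  have hTne : T ≠ ⊥ := by
    intro h
    rw [h, Subgroup.card_bot] at hT
    have := Nat.one_lt_pow hk0.ne' hp.one_lt
    omega
  obtain ⟨t, htT, ht1⟩ := (T.bot_or_exists_ne_one).resolve_left hTne
  obtain ⟨a, ha⟩ : ∃ a : Ω, t • a ≠ a := by
    by_contra h
    push Not at h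
    exact ht1 (eq_of_smul_eq_smul (α := Ω) fun a => by rw [h a, one_smul])
  set B := MulAction.stabilizer A a with hB
  set O := MulAction.orbit A a with hO
  have hcardA : Nat.card A = Nat.card B * Nat.card O := by
    rw [← B.card_mul_index, hB, MulAction.index_stabilizer, hO, Nat.card_coe_set_eq]
  -- the stabilizer acts faithfully on the other points
  letI actB : MulAction B {x : Ω // x ∉ O} :=
    { smul := fun b x => ⟨(b : A) • (x : Ω), fun h => x.2 (by
        have := MulAction.mem_orbit_of_mem_orbit (b : A)⁻¹ h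
        rwa [inv_smul_smul] at this)⟩
      one_smul := fun x => Subtype.ext (one_smul A (x : Ω))
      mul_smul := fun b c x => Subtype.ext (mul_smul (b : A) (c : A) (x : Ω)) }
  have hfaith : FaithfulSMul B {x : Ω // x ∉ O} := ⟨fun {b c} h => Subtype.ext
    (eq_of_smul_eq_smul (α := Ω) fun x => by
      by_cases hx : x ∈ O
      · obtain ⟨g, rfl⟩ := hx
        show (b : A) • g • a = (c : A) • g • a
        rw [smul_smul, smul_smul, hab _ g, hab _ g, mul_smul, mul_smul, b.2, c.2]
      · exact congrArg Subtype.val (h ⟨x, hx⟩))⟩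
  -- ranks
  obtain ⟨j, hj⟩ : ∃ j, Nat.card {x : B // x ^ p = 1} = p ^ j := by
    have e : {x : B // x ^ p = 1} ≃ (T.subgroupOf B) :=
      Equiv.subtypeEquivRight fun x => by
        rw [Subgroup.mem_subgroupOf]
        exact ⟨fun h => congrArg Subtype.val h, fun h => Subtype.ext h⟩
    rw [Nat.card_congr e]
    exact IsPGroup.iff_card.mp ((hA.to_subgroup B).to_subgroup _)
  have hBT : Nat.card (T ⊓ B : Subgroup A) = p ^ j := by
    rw [← hj]
    exact Nat.card_congr
      { toFun := fun x => ⟨⟨x.1, x.2.2⟩, Subtype.ext x.2.1⟩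
        invFun := fun x => ⟨x.1.1, congrArg Subtype.val x.2, x.1.2⟩
        left_inv := fun _ => rfl
        right_inv := fun _ => rfl }
  have hjk : j < k := by
    have hlt : Nat.card (T ⊓ B : Subgroup A) < Nat.card T := by
      refine lt_of_le_of_ne (Subgroup.card_le_of_le inf_le_left) fun e => ha ?_
      exact ((Subgroup.eq_of_le_of_card_ge inf_le_left e.ge).ge htT).2
    rw [hBT, hT] at hlt
    exact (Nat.pow_lt_pow_iff_right hp.one_lt).mp hlt
  obtain ⟨r, rfl⟩ : ∃ r, k = j + r := ⟨k - j, by omega⟩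
  have hr : 1 ≤ r := by omega
  have hO2 : p ^ r ≤ Nat.card O := by
    have : IsMulCommutative A := ⟨⟨hab⟩⟩
    have : (B : Subgroup A).Normal := inferInstance
    have hle : Nat.card (T ⊔ B : Subgroup A) ≤ Nat.card A := Subgroup.card_le_card_group _
    have hrel : B.relIndex (T ⊔ B) = B.relIndex T := Subgroup.relIndex_sup_right _ _
    have h1 : Nat.card (T ⊓ B : Subgroup A) * B.relIndex T = Nat.card T := by
      rw [← Subgroup.relIndex_bot_left, ← Subgroup.inf_relIndex_left T B,
        Subgroup.relIndex_mul_relIndex _ _ _ bot_le inf_le_left, Subgroup.relIndex_bot_left]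
    have h2 : Nat.card B * B.relIndex T = Nat.card (T ⊔ B : Subgroup A) := by
      rw [← hrel, ← Subgroup.relIndex_bot_left,
        Subgroup.relIndex_mul_relIndex _ _ _ bot_le le_sup_right, Subgroup.relIndex_bot_left]
    rw [hBT, hT, pow_add] at h1
    have h3 : B.relIndex T = p ^ r := Nat.eq_of_mul_eq_mul_left (pow_pos hp.pos j) h1
    rw [h3] at h2
    rw [hcardA] at hle
    exact Nat.le_of_mul_le_mul_left (h2 ▸ hle) Nat.card_pos
  have hlt : Nat.card B < N := by
    rw [← hN, hcardA]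
    refine lt_mul_of_one_lt_right Nat.card_pos ?_
    exact lt_of_lt_of_le (Nat.one_lt_pow (by omega) hp.one_lt) hO2
  have hIH := ih _ hlt (A := B) (Ω := {x : Ω // x ∉ O}) p j hp rfl
    (fun x y => Subtype.ext (hab x y)) (hA.to_subgroup B) hj
  set m := Nat.card {x : Ω // x ∉ O}
  set n := Nat.card O
  have hΩ : Nat.card Ω = m + n := by
    rw [Nat.card_congr (Equiv.sumCompl (fun x => x ∈ O)).symm, Nat.card_sum, Nat.add_comm]
  have hn2 : 2 ^ r ≤ n := le_trans (Nat.pow_le_pow_left hp.two_le _) hO2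
  have h1 := orbit_bound hr hn2
  have h2 := weighted_amgm m n j r hr
  rw [hcardA, hΩ]
  have hpos : 0 < j ^ j * r ^ r := Nat.mul_pos (Nat.pow_self_pos) (Nat.pow_self_pos)
  refine Nat.le_of_mul_le_mul_right ?_ hpos
  calc Nat.card B * n * (j + r) ^ (j + r) * (j ^ j * r ^ r)
      = (Nat.card B * j ^ j) * (n * r ^ r) * (j + r) ^ (j + r) := by ring
    _ ≤ m ^ j * n ^ r * (j + r) ^ (j + r) := Nat.mul_le_mul_right _ (Nat.mul_le_mul hIH h1)
    _ ≤ _ := h2

/-- Let p be a prime, Ω a finite set with n ≥ p elements, and A an abelian p-subgroup of the symmetric group on Ω whose elements of order dividing p number p^k (so k is the rank of A). Then |A| · k^k ≤ n^k, that is, |A| ≤ (n/k)^k. -/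
theorem result {Ω : Type*} [Fintype Ω] [DecidableEq Ω]
    (p : ℕ) (hp : p.Prime) (hn : p ≤ Fintype.card Ω) (A : Subgroup (Equiv.Perm Ω)) (hA : IsPGroup p A) (hab : IsMulCommutative A)
    (k : ℕ) (hk : Nat.card {x : A // x ^ p = 1} = p ^ k) :
    Nat.card A * k ^ k ≤ Fintype.card Ω ^ k := by
  have := bound_of_action (Nat.card A) (A := A) (Ω := Ω) p k hp rfl
    (fun a b => hab.is_comm.comm a b) hA hk
  rwa [Nat.card_eq_fintype_card (α := Ω)] at this

end Cfsg.Agent.S3696
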