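import Cfsg.Statements.S3703
import Cfsg.Agent.H70.FrobQuot

set_option autoImplicit false
open Cfsg
open scoped Pointwise

namespace Cfsg.Agent.S3703

/-- Let N be a normal subgroup of the finite group G such that G/N is a Frobenius group with kernel F and cyclic complement H, where the order of F is coprime to that of N and F is not contained in the image of C_G(N) in G/N. Then G has an element of order p·#H for some prime p dividing the order of N. (A standard tool in recognising groups by their element orders.) -/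
theorem result {G : Type*} [Group G] [Finite G] (N : Subgroup G) [N.Normal]
    (Fb Hb : Subgroup (G ⧸ N)) [Fb.Normal] (hHb : Cfsg.IsFrobeniusComplement Hb) (hker : Cfsg.frobeniusKernel Hb = (Fb : Set (G ⧸ N)))
    (hcyc : IsCyclic Hb) (hcop : (Nat.card Fb).Coprime (Nat.card N))
    (hnot : ¬ Fb ≤ (Subgroup.centralizer (N : Set G)).map (QuotientGroup.mk' N)) :
    ∃ p : ℕ, p.Prime ∧ p ∣ Nat.card N ∧ ∃ g : G, orderOf g = p * Nat.card Hb := by
  classical
  by_contra hcon
  apply hnot
  obtain ⟨⟨h0, hh0⟩, hgenH⟩ := hcyc.exists_generator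
  have hgen : Hb = Subgroup.zpowers h0 := by
    apply le_antisymm
    · intro y hy
      obtain ⟨k, hk⟩ := hgenH ⟨y, hy⟩
      exact ⟨k, congrArg Subtype.val hk⟩
    · rwa [Subgroup.zpowers_le]
  set m := Nat.card Hb with hmdef
  have hm : 0 < m := Nat.card_pos
  have hord : orderOf h0 = m := by rw [hmdef, hgen, Nat.card_zpowers]
  have hfpf0 : ∀ i, 0 < i → i < m → ∀ y ∈ Fb, h0 ^ i * y * (h0 ^ i)⁻¹ = y → y = 1 := by
    intro i hi hi' y hy e
    have hc : h0 ^ i * y = y * h0 ^ i := mul_inv_eq_iff_eq_mul.mp e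
    have hne : h0 ^ i ≠ 1 := pow_ne_one_of_lt_orderOf hi.ne' (hord ▸ hi')
    by_contra hy1
    have hyH : y ∉ Hb := fun h => by
      have hk : y ∈ Cfsg.frobeniusKernel Hb := hker ▸ hy
      rcases hk with h1 | h1
      · exact hy1 h1
      · exact h1 1 (by simpa using h)
    have := hHb.2.2 y hyH
    apply hne
    rw [← Subgroup.mem_bot, ← this]
    refine ⟨pow_mem hh0 i, ?_⟩
    show h0 ^ i ∈ MulAut.conj y • Hb
    rw [Subgroup.mem_pointwise_smul_iff_inv_smul_mem]
    simp only [MulAut.smul_def, MulAut.conj_inv_apply]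
    rw [mul_assoc, hc, inv_mul_cancel_left]
    exact pow_mem hh0 i
  have hconjF : ∀ f ∈ Fb, ∃ y ∈ Fb, f * h0 = y * h0 * y⁻¹ := by
    let e : Fb → Fb := fun y => ⟨(y : G ⧸ N) * (h0 * (y : G ⧸ N)⁻¹ * h0⁻¹),
      mul_mem y.2 (Subgroup.Normal.conj_mem inferInstance _ (inv_mem y.2) h0)⟩
    rcases Nat.lt_or_ge 1 m with hm2 | hm2
    · have einj : Function.Injective e := by
        intro a b h
        have h' := congrArg Subtype.val h
        simp only [e] at h'
        have := hfpf0 1 one_pos hm2 _ (mul_mem (inv_mem b.2) a.2) (by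
          rw [pow_one]
          calc h0 * ((b : G ⧸ N)⁻¹ * a) * h0⁻¹
              = (b : G ⧸ N)⁻¹ * ((b : G ⧸ N) * (h0 * (b : G ⧸ N)⁻¹ * h0⁻¹)) * (h0 * a * h0⁻¹) := by group
            _ = (b : G ⧸ N)⁻¹ * a := by rw [← h']; group)
        exact Subtype.ext (inv_mul_eq_one.mp this).symm
      intro f hf
      obtain ⟨y, hy⟩ := (Finite.injective_iff_surjective.mp einj) ⟨f, hf⟩
      refine ⟨y, y.2, ?_⟩
      have := congrArg Subtype.val hy
      rw [← show _ = f from this]
      simp [e, mul_assoc]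
    · exfalso
      exact hHb.1 (Subgroup.card_eq_one.mp (by omega))
  set π := QuotientGroup.mk' N with hπ
  set F' := Fb.comap π with hF'
  have hNF : N ≤ F' := fun n hn => by
    show π n ∈ Fb
    rw [show π n = 1 from (QuotientGroup.eq_one_iff n).mpr hn]
    exact one_mem _
  -- every element of a coset generating the cyclic complement has order exactly `m`
  have hexact : ∀ g : G, orderOf (π g) = m → g ^ m = 1 := by
    intro g hg
    by_contra hne
    have hN : g ^ m ∈ N := by
      rw [← QuotientGroup.eq_one_iff, ← hg]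
      show π (g ^ _) = 1
      rw [map_pow, pow_orderOf_eq_one]
    have hdvd : m ∣ orderOf g := hg ▸ orderOf_map_dvd π g
    have ho : orderOf (g ^ m) = orderOf g / m := orderOf_pow_of_dvd hm.ne' hdvd
    have hne' : orderOf (g ^ m) ≠ 1 := fun h => hne (orderOf_eq_one_iff.mp h)
    obtain ⟨s, hs, hsd⟩ := Nat.exists_prime_and_dvd hne'
    apply hcon
    refine ⟨s, hs, hsd.trans ?_, g ^ (orderOf g / (s * m)), ?_⟩
    · have hco := Subgroup.orderOf_coe (⟨_, hN⟩ : N)
      simp only at hco
      rw [hco]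
      exact orderOf_dvd_natCard _
    · have hsm : s * m ∣ orderOf g := by
        rw [ho] at hsd
        obtain ⟨c, hc⟩ := hsd
        exact ⟨c, by rw [← Nat.div_mul_cancel hdvd, hc]; ring⟩
      have hpos : 0 < orderOf g := orderOf_pos g
      rw [orderOf_pow_of_dvd (Nat.div_pos (Nat.le_of_dvd hpos hsm) (Nat.mul_pos hs.pos hm)).ne'
        (Nat.div_dvd_of_dvd hsm), Nat.div_div_self hsm hpos.ne']
  have hmain : ∀ l : ℕ, l.Prime → l ∣ Nat.card Fb → ∀ L : Sylow l F',
      (L : Subgroup F').map F'.subtype ≤ Subgroup.centralizer (N : Set G) := by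
    intro l hl hlF L
    have := Fact.mk hl
    set L' := (L : Subgroup F').map F'.subtype with hL'
    have hL'p : IsPGroup l L' := L.2.map _
    have hlN : ¬ l ∣ Nat.card N := fun h => hl.ne_one (Nat.eq_one_of_dvd_coprimes hcop hlF h)
    have hL'F : L' ≤ F' := Subgroup.map_subtype_le _
    rw [Subgroup.le_centralizer_iff]
    have hle : N ⊓ Subgroup.centralizer (L' : Set G) ≤ N := inf_le_left
    refine le_trans (Cfsg.Agent.H70.card_dvd_of_forall_sylow hle ?_) inf_le_right
    intro p hp hpN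
    have := Fact.mk hp
    have hlp : l ≠ p := fun h => hlN (h ▸ hpN)
    -- an `L'`-invariant Sylow `p`-subgroup of `N`
    have hnd : ¬ l ∣ Nat.card (Sylow p N) := fun h =>
      hlN (h.trans ((default : Sylow p N).card_dvd_index.trans (Subgroup.index_dvd_card _)))
    let act : MulAction L' (Sylow p N) :=
      MulAction.compHom _ ((MulAut.conjNormal : G →* MulAut N).comp L'.subtype)
    obtain ⟨P, hP⟩ := (hL'p : IsPGroup l L').nonempty_fixed_point_of_prime_not_dvd_card (Sylow p N) hnd
    refine ⟨P, le_inf (Subgroup.map_subtype_le _) ?_⟩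
    set P' := (P : Subgroup N).map N.subtype
    have hLP : L' ≤ Subgroup.normalizer (P' : Set G) := by
      intro y hy
      have hy' : (⟨y, hy⟩ : L') • P = P := hP ⟨y, hy⟩
      have hstep : ∀ n : N, n ∈ (P : Subgroup N) →
          (MulAut.conjNormal y : MulAut N) n ∈ (P : Subgroup N) := by
        intro n hn
        have h2 : (MulAut.conjNormal y : MulAut N) • n ∈
            (((MulAut.conjNormal y : MulAut N) • P : Sylow p N) : Subgroup N) :=
          Subgroup.smul_mem_pointwise_smul n (MulAut.conjNormal y : MulAut N) _ hn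
        rw [show (MulAut.conjNormal y : MulAut N) • P = P from hy'] at h2
        exact h2
      rw [Subgroup.mem_normalizer_iff]
      intro w
      constructor
      · rintro ⟨n, hn, rfl⟩
        exact ⟨_, hstep n hn, MulAut.conjNormal_apply y n⟩
      · rintro ⟨n, hn, hw⟩
        have hy2 : (⟨y⁻¹, inv_mem hy⟩ : L') • P = P := hP ⟨y⁻¹, inv_mem hy⟩
        have h2 : (MulAut.conjNormal y⁻¹ : MulAut N) • n ∈
            (((MulAut.conjNormal y⁻¹ : MulAut N) • P : Sylow p N) : Subgroup N) :=
          Subgroup.smul_mem_pointwise_smul n (MulAut.conjNormal y⁻¹ : MulAut N) _ hn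
        rw [show (MulAut.conjNormal y⁻¹ : MulAut N) • P = P from hy2] at h2
        refine ⟨_, h2, ?_⟩
        show ((MulAut.conjNormal y⁻¹ n : N) : G) = w
        rw [MulAut.conjNormal_apply, show (n : G) = y * w * y⁻¹ from hw]
        group
    set NP := Subgroup.normalizer (P' : Set G)
    set D := F' ⊓ NP with hD
    have : (F'.subgroupOf NP).Normal := inferInstance
    have hmax : ∀ R : Subgroup G, IsPGroup l R → R ≤ F' → L' ≤ R → R = L' := by
      intro R hR hRF hLR
      have h1 : (L : Subgroup F') ≤ R.subgroupOf F' := fun y hy =>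
        Subgroup.mem_subgroupOf.mpr (hLR (Subgroup.mem_map_of_mem _ hy))
      have h2 := L.3 (hR.comap_of_injective F'.subtype F'.subtype_injective) h1
      rw [hL', ← h2]
      exact (Subgroup.map_subgroupOf_eq_of_le hRF).symm
    let E := F'.subgroupOf NP
    let L2 : Sylow l E :=
      { toSubgroup := (L'.subgroupOf NP).subgroupOf E
        isPGroup' := (hL'p.comap_of_injective NP.subtype NP.subtype_injective).comap_of_injective
          E.subtype E.subtype_injective
        is_maximal' := fun {R} hR hle => by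
          have hRG : ((R.map E.subtype).map NP.subtype) = L' := by
            apply hmax _ ((hR.map _).map _)
            · rintro _ ⟨_, ⟨y, _, rfl⟩, rfl⟩; exact y.2
            · intro y hy
              exact ⟨⟨y, hLP hy⟩, ⟨⟨⟨y, hLP hy⟩, hL'F hy⟩, hle hy, rfl⟩, rfl⟩
          refine le_antisymm ?_ hle
          intro y hy
          show ((y : NP) : G) ∈ L'
          rw [← hRG]; exact ⟨_, ⟨y, hy, rfl⟩, rfl⟩ }
    have hfr := Sylow.normalizer_sup_eq_top L2
    have hfrN : NP ⊔ N = ⊤ := Sylow.normalizer_sup_eq_top P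
    obtain ⟨g0, hg0⟩ := QuotientGroup.mk'_surjective N h0
    obtain ⟨a, ha, n, hn, rfl⟩ := Subgroup.mem_sup_of_normal_right.mp (hfrN.ge (Subgroup.mem_top g0))
    obtain ⟨⟨x, hxP⟩, hx2, e, he, hxe⟩ :=
      Subgroup.mem_sup_of_normal_right.mp (hfr.ge (Subgroup.mem_top (⟨a, ha⟩ : NP)))
    have hxe' : x * (e : G) = a := congrArg Subtype.val hxe
    have hxπ : ∃ f ∈ Fb, π x = f * h0 := by
      refine ⟨h0 * (π (e : G))⁻¹ * h0⁻¹, Subgroup.Normal.conj_mem (inferInstance : Fb.Normal) _
        (inv_mem (show π (e : G) ∈ Fb from he)) h0, ?_⟩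
      rw [inv_mul_cancel_right, ← hg0]
      rw [show π (a * n) = π a by rw [map_mul, show π n = 1 from (QuotientGroup.eq_one_iff n).mpr hn, mul_one],
        ← hxe', map_mul, mul_inv_cancel_right]
    obtain ⟨f, hf, hxf⟩ := hxπ
    obtain ⟨y0, hy0, hy0'⟩ := hconjF f hf
    have hxm : orderOf (π x) = m := by
      rw [hxf, hy0', ← hord]
      exact (MulAut.conj y0).orderOf_eq h0
    have hxL : ∀ y ∈ L', x * y * x⁻¹ ∈ L' := by
      intro y hy
      have hmem : (⟨y, hLP hy⟩ : NP) ∈ ((L2 : Subgroup E).map E.subtype) :=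
        ⟨⟨⟨y, hLP hy⟩, hL'F hy⟩, hy, rfl⟩
      obtain ⟨w, hw, hwe⟩ := (Subgroup.mem_normalizer_iff.mp hx2 _).mp hmem
      have hw' : ((w : NP) : G) = x * y * x⁻¹ := congrArg Subtype.val hwe
      rw [← hw']; exact hw
    have hfpf : ∀ i, 0 < i → i < m → ∀ y ∈ L', x ^ i * y * (x ^ i)⁻¹ = y → y = 1 := by
      intro i hi hi' y hy e
      have e' : π x ^ i * π y * (π x ^ i)⁻¹ = π y := by
        rw [← map_pow, ← map_inv, ← map_mul, ← map_mul, e]
      have h1 : y0⁻¹ * π y * y0 = 1 := hfpf0 i hi hi' _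
        (mul_mem (mul_mem (inv_mem hy0) (hL'F hy)) hy0) (by
          rw [hxf, hy0', conj_pow] at e'
          calc h0 ^ i * (y0⁻¹ * π y * y0) * (h0 ^ i)⁻¹
              = y0⁻¹ * ((y0 * h0 ^ i * y0⁻¹) * π y * (y0 * h0 ^ i * y0⁻¹)⁻¹) * y0 := by group
            _ = y0⁻¹ * π y * y0 := by rw [e'])
      have hyN : y ∈ N := by
        rw [← QuotientGroup.eq_one_iff]
        show π y = 1
        calc π y = y0 * (y0⁻¹ * π y * y0) * y0⁻¹ := by group
          _ = 1 := by rw [h1]; group
      obtain ⟨k, hk⟩ := hL'p ⟨y, hy⟩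
      have d1 : orderOf y ∣ l ^ k := orderOf_dvd_of_pow_eq_one (congrArg Subtype.val hk)
      have hco := Subgroup.orderOf_coe (⟨_, hyN⟩ : N)
      simp only at hco
      have d2 : orderOf y ∣ Nat.card N := hco ▸ orderOf_dvd_natCard _
      exact orderOf_eq_one_iff.mp (Nat.eq_one_of_dvd_coprimes
        (((hl.coprime_iff_not_dvd).mpr hlN).pow_left k) d1 d2)
    have hxm1 : x ^ m = 1 := hexact x hxm
    refine Cfsg.Agent.H70.centralizes_pGroup ((Nat.coprime_primes hl hp).mpr hlp) L' hL'p x m hm hxL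
      hfpf P' (P.2.map _) hLP hxP ?_
    intro w hw
    rw [hxm1]
    apply hexact
    rw [map_mul, show π w = 1 from (QuotientGroup.eq_one_iff w).mpr (Subgroup.map_subtype_le _ hw), one_mul]
    exact hxm
  have hI : Fb ⊓ (Subgroup.centralizer (N : Set G)).map π ≤ Fb := inf_le_left
  refine le_trans (Cfsg.Agent.H70.card_dvd_of_forall_sylow hI ?_) inf_le_right
  intro l hl hlF
  have := Fact.mk hl
  let φ : F' →* Fb := π.subgroupComap Fb
  have hφ : Function.Surjective φ := π.subgroupComap_surjective_of_surjective Fb (QuotientGroup.mk'_surjective N)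
  let L : Sylow l F' := default
  refine ⟨L.mapSurjective hφ, le_inf (Subgroup.map_subtype_le _) ?_⟩
  rintro _ ⟨_, ⟨y, hy, rfl⟩, rfl⟩
  exact ⟨(y : G), hmain l hl hlF L (Subgroup.mem_map_of_mem _ hy), rfl⟩

end Cfsg.Agent.S3703
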