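import Cfsg.Statements.S3704
-- import your own Cfsg.Agent.* helpers here

set_option autoImplicit false
open Cfsg

namespace Cfsg.Agent.S3704

section

variable {G Ω : Type*} [Group G] [MulAction G Ω]

/-- incidence between the cosets of `H` and the points, for an `H`-invariant set `O` -/
noncomputable def inc (H : Subgroup G) (O : Set Ω) (hO : ∀ h ∈ H, ∀ a, a ∈ O → h • a ∈ O) :
    G ⧸ H → Ω → ℚ := fun x a =>
  Quotient.liftOn' x (fun g => O.indicator (fun _ => (1 : ℚ)) (g⁻¹ • a)) fun g g' hgg => by
    rw [QuotientGroup.leftRel_apply] at hgg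
    classical
    have e : g'⁻¹ • a = (g⁻¹ * g')⁻¹ • (g⁻¹ • a) := by rw [smul_smul]; congr 1; group
    have e' : g⁻¹ • a = (g⁻¹ * g') • (g'⁻¹ • a) := by rw [smul_smul]; congr 1; group
    simp only [Set.indicator_apply]
    refine if_congr ⟨fun h => ?_, fun h => ?_⟩ rfl rfl
    · rw [e]; exact hO _ (inv_mem hgg) _ h
    · rw [e']; exact hO _ hgg _ h

variable {H : Subgroup G} {O : Set Ω} {hO : ∀ h ∈ H, ∀ a, a ∈ O → h • a ∈ O}

theorem inc_mk (g : G) (a : Ω) :
    inc H O hO (g : G ⧸ H) a = O.indicator (fun _ => (1 : ℚ)) (g⁻¹ • a) := rfl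

theorem inc_smul (g : G) (x : G ⧸ H) (a : Ω) : inc H O hO (g • x) (g • a) = inc H O hO x a := by
  induction x using QuotientGroup.induction_on with
  | _ y =>
    rw [MulAction.Quotient.smul_coe, inc_mk, inc_mk, smul_smul, smul_eq_mul]
    simp [mul_inv_rev]

theorem inc_nonneg (x : G ⧸ H) (a : Ω) : 0 ≤ inc H O hO x a := by
  induction x using QuotientGroup.induction_on with
  | _ y => rw [inc_mk]; exact Set.indicator_nonneg (fun _ _ => zero_le_one) _

theorem inc_le_one (x : G ⧸ H) (a : Ω) : inc H O hO x a ≤ 1 := by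
  induction x using QuotientGroup.induction_on with
  | _ y =>
    rw [inc_mk]
    by_cases h : y⁻¹ • a ∈ O
    · rw [Set.indicator_of_mem h]
    · rw [Set.indicator_of_notMem h]; exact zero_le_one

end

/-- Let G be a finite group acting faithfully and 2-transitively on a finite set Ω of size n, and let H be a subgroup of index n in G which is not transitive on Ω and fixes no point of Ω. Then H has exactly two orbits on Ω. -/
theorem result {G Ω : Type*} [Group G] [Finite G] [MulAction G Ω] [FaithfulSMul G Ω] [Finite Ω] (h2 : MulAction.IsMultiplyPretransitive G Ω 2) (H : Subgroup G) (hidx : H.index = Nat.card Ω) (hnt : ¬ MulAction.IsPretransitive H Ω) (hfix : ∀ a : Ω, ∃ h : H, h • a ≠ a) : Nat.card (MulAction.orbitRel.Quotient H Ω) = 2 := by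
  classical
  have : Fintype Ω := Fintype.ofFinite Ω
  have : Fintype (G ⧸ H) := Fintype.ofFinite _
  let Q := MulAction.orbitRel.Quotient H Ω
  have : Finite Q := Finite.of_surjective (Quotient.mk'' : Ω → Q) Quotient.mk''_surjective
  have : Fintype Q := Fintype.ofFinite Q
  let orb : Q → Set Ω := fun i => {a | (Quotient.mk'' a : Q) = i}
  have horb : ∀ i, ∀ h ∈ H, ∀ a, a ∈ orb i → h • a ∈ orb i := fun i h hh a ha =>
    (Quotient.sound' (s₁ := MulAction.orbitRel H Ω) (show MulAction.orbitRel H Ω (h • a) a from ⟨⟨h, hh⟩, rfl⟩)).trans ha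
  let A : Q → G ⧸ H → Ω → ℚ := fun i => inc H (orb i) (horb i)
  have hk2 : 2 ≤ Nat.card Q := by
    by_contra hlt
    have : Subsingleton Q := Finite.card_le_one_iff_subsingleton.mp (by omega)
    exact hnt ⟨fun a b => by
      obtain ⟨h, hh⟩ := Quotient.eq''.mp (Subsingleton.elim (Quotient.mk'' b : Q) (Quotient.mk'' a))
      exact ⟨h, hh⟩⟩
  have : Nontrivial Q := Finite.one_lt_card_iff_nontrivial.mp (by omega)
  obtain ⟨o1, o2, ho⟩ := exists_pair_ne Q
  obtain ⟨a0, ha0⟩ := Quotient.mk''_surjective o1
  obtain ⟨b0, hb0⟩ := Quotient.mk''_surjective o2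
  have hab : a0 ≠ b0 := fun e => ho (by rw [← ha0, ← hb0, e])
  have hpre : MulAction.IsPretransitive G Ω := by
    refine ⟨fun a b => ?_⟩
    by_cases hca : a = b
    · exact ⟨1, by rw [hca, one_smul]⟩
    · obtain ⟨g, hg⟩ := (MulAction.is_two_pretransitive_iff.mp h2) hca (Ne.symm hca)
      exact ⟨g, hg.1⟩
  -- the inner products are invariant
  let B : Q → Q → Ω → Ω → ℚ := fun i j a b => ∑ x, A i x a * A j x b
  have hB : ∀ i j (g : G) a b, B i j (g • a) (g • b) = B i j a b := fun i j g a b => by
    refine (Fintype.sum_equiv (MulAction.toPerm g) _ _ fun x => ?_).symm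
    show A i x a * A j x b = A i (g • x) (g • a) * A j (g • x) (g • b)
    simp only [A, inc_smul]
  have hdiag : ∀ i j a, B i j a a = B i j a0 a0 := fun i j a => by
    obtain ⟨g, hg⟩ := MulAction.exists_smul_eq G a0 a
    rw [← hg, hB]
  have hoff : ∀ i j a b, a ≠ b → B i j a b = B i j a0 b0 := fun i j a b h => by
    obtain ⟨g, hga, hgb⟩ := (MulAction.is_two_pretransitive_iff.mp h2) hab h
    rw [← hga, ← hgb, hB]
  set d := B o1 o1 a0 a0
  set μ := B o1 o1 a0 b0
  have hμ : 0 ≤ μ := Finset.sum_nonneg fun x _ => mul_nonneg (inc_nonneg _ _) (inc_nonneg _ _)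
  have hμd : μ < d := by
    have hle : ∀ x ∈ (Finset.univ : Finset (G ⧸ H)),
        A o1 x a0 * A o1 x b0 ≤ A o1 x a0 * A o1 x a0 := by
      intro x _
      induction x using QuotientGroup.induction_on with
      | _ y =>
        by_cases h : y⁻¹ • a0 ∈ orb o1
        · simp only [A, inc_mk, Set.indicator_of_mem h, one_mul]
          exact le_trans (le_of_eq (inc_mk (hO := horb o1) y b0).symm) (inc_le_one _ _)
        · simp [A, inc_mk, Set.indicator_of_notMem h]
    refine Finset.sum_lt_sum hle ⟨((1 : G) : G ⧸ H), Finset.mem_univ _, ?_⟩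
    have h1 : (1 : G)⁻¹ • a0 ∈ orb o1 := by rw [inv_one, one_smul]; exact ha0
    have h2 : (1 : G)⁻¹ • b0 ∉ orb o1 := by
      rw [inv_one, one_smul]; intro h; exact ho (h.symm.trans hb0)
    simp only [A, inc_mk, Set.indicator_of_mem h1, Set.indicator_of_notMem h2]
    norm_num
  have hcard : Fintype.card Ω = Fintype.card (G ⧸ H) := by
    rw [← Nat.card_eq_fintype_card, ← Nat.card_eq_fintype_card, ← hidx, Subgroup.index_eq_card]
  obtain ⟨e⟩ := Fintype.card_eq.mp hcard
  let M : Matrix Ω Ω ℚ := fun i a => A o1 (e i) a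
  have hMM : ∀ a b, (M.transpose * M) a b = if a = b then d else μ := fun a b => by
    rw [Matrix.mul_apply, show ∑ i, M.transpose a i * M i b = B o1 o1 a b from
      Fintype.sum_equiv e _ _ fun i => rfl]
    split_ifs with h
    · rw [h, hdiag]
    · rw [hoff _ _ a b h]
  have hdet : (M.transpose * M).det ≠ 0 := by
    intro h0
    obtain ⟨v, hv, hMv⟩ := Matrix.exists_mulVec_eq_zero_iff.mpr h0
    have hrow : ∀ a, (d - μ) * v a + μ * ∑ b, v b = 0 := fun a => by
      have h := congrFun hMv a
      simp only [Matrix.mulVec, dotProduct, hMM, Pi.zero_apply] at h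
      rw [← h]
      rw [Finset.mul_sum, show (d - μ) * v a = ∑ b, if a = b then (d - μ) * v b else 0 by simp,
        ← Finset.sum_add_distrib]
      exact Finset.sum_congr rfl fun b _ => by split_ifs <;> ring
    have hS : ((d - μ) + μ * Fintype.card Ω) * ∑ b, v b = 0 := by
      have h := Finset.sum_eq_zero (s := Finset.univ) (fun a _ => hrow a)
      rw [Finset.sum_add_distrib, ← Finset.mul_sum, Finset.sum_const, Finset.card_univ, nsmul_eq_mul] at h
      linear_combination h
    have hpos : (0 : ℚ) < (d - μ) + μ * Fintype.card Ω := by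
      have : (0 : ℚ) ≤ μ * Fintype.card Ω := mul_nonneg hμ (Nat.cast_nonneg _)
      linarith
    have hS0 : ∑ b, v b = 0 := (mul_eq_zero.mp hS).resolve_left hpos.ne'
    apply hv
    funext a
    have h := hrow a
    rw [hS0, mul_zero, add_zero] at h
    exact (mul_eq_zero.mp h).resolve_left (by linarith)
  have hMT : M.transpose.det ≠ 0 := fun h => hdet (by rw [Matrix.det_mul, h, zero_mul])
  have hinj : ∀ w : G ⧸ H → ℚ, (∀ a, ∑ x, A o1 x a * w x = 0) → w = 0 := fun w hw => by
    by_contra hne
    refine hMT (Matrix.exists_mulVec_eq_zero_iff.mp ⟨fun i => w (e i), fun h => hne (funext fun x => ?_), ?_⟩)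
    · simpa using congrFun h (e.symm x)
    · funext a
      exact (Fintype.sum_equiv e _ (fun x => A o1 x a * w x) fun i => rfl).trans (hw a)
  -- the map into the two-dimensional space of invariant matrices
  let Ψ : (Q → ℚ) →ₗ[ℚ] (Fin 2 → ℚ) :=
    { toFun := fun c => ![∑ i, c i * B o1 i a0 a0, ∑ i, c i * B o1 i a0 b0]
      map_add' := fun c c' => by
        funext k; fin_cases k <;> simp [add_mul, Finset.sum_add_distrib]
      map_smul' := fun r c => by
        funext k; fin_cases k <;> simp [mul_assoc, Finset.mul_sum] }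
  have hΨ : Function.Injective Ψ := by
    rw [← LinearMap.ker_eq_bot, LinearMap.ker_eq_bot']
    intro c hc
    have h0 : ∑ i, c i * B o1 i a0 a0 = 0 := congrFun hc 0
    have h1 : ∑ i, c i * B o1 i a0 b0 = 0 := congrFun hc 1
    have hz : ∀ a b, ∑ x, A o1 x a * (∑ i, c i * A i x b) = 0 := fun a b => by
      calc ∑ x, A o1 x a * (∑ i, c i * A i x b) = ∑ i, c i * B o1 i a b := by
            simp only [B, Finset.mul_sum]
            rw [Finset.sum_comm]
            exact Finset.sum_congr rfl fun i _ => Finset.sum_congr rfl fun x _ => by ring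
        _ = 0 := by
            by_cases h : a = b
            · subst h; simp only [hdiag _ _ a]; exact h0
            · simp only [hoff _ _ a b h]; exact h1
    funext i
    obtain ⟨b, hb⟩ := Quotient.mk''_surjective i
    have hv := congrFun (hinj (fun x => ∑ i, c i * A i x b) (fun a => hz a b)) ((1 : G) : G ⧸ H)
    simp only [A, inc_mk, inv_one, one_smul, Pi.zero_apply] at hv
    rw [Finset.sum_eq_single i] at hv
    · rw [Set.indicator_of_mem (show b ∈ orb i from hb), mul_one] at hv; exact hv
    · intro j _ hji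
      rw [Set.indicator_of_notMem (show b ∉ orb j from fun h => hji (h.symm.trans hb)), mul_zero]
    · intro h; exact absurd (Finset.mem_univ i) h
  have := LinearMap.finrank_le_finrank_of_injective hΨ
  rw [Module.finrank_fintype_fun_eq_card, Module.finrank_fintype_fun_eq_card, Fintype.card_fin,
    ← Nat.card_eq_fintype_card] at this
  exact le_antisymm this hk2

end Cfsg.Agent.S3704
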