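import Cfsg.Statements.S3707
-- import your own Cfsg.Agent.* helpers here

set_option autoImplicit false
open Cfsg

namespace Cfsg.Agent.S3707

open scoped Pointwise

/-- `B` is the complement of a Jordan set. -/
def CoJordan (G : Type*) {Ω : Type*} [Group G] [MulAction G Ω] (B : Set Ω) : Prop :=
  ∀ x ∉ B, ∀ y ∉ B, ∃ g : G, (∀ z ∈ B, g • z = z) ∧ g • x = y

theorem CoJordan.smul {G Ω : Type*} [Group G] [MulAction G Ω] {B : Set Ω} (h : CoJordan G B) (g : G) :
    CoJordan G (g • B) := by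
  intro x hx y hy
  rw [Set.mem_smul_set_iff_inv_smul_mem] at hx hy
  obtain ⟨k, hk, hkx⟩ := h _ hx _ hy
  refine ⟨g * k * g⁻¹, fun z hz => ?_, ?_⟩
  · rw [Set.mem_smul_set_iff_inv_smul_mem] at hz
    rw [mul_smul, mul_smul, hk _ hz, smul_inv_smul]
  · rw [mul_smul, mul_smul, hkx, smul_inv_smul]

theorem CoJordan.inter {G Ω : Type*} [Group G] [MulAction G Ω] {B C : Set Ω} (hB : CoJordan G B)
    (hC : CoJordan G C) {w : Ω} (hw : w ∉ B ∪ C) : CoJordan G (B ∩ C) := by
  have key : ∀ x ∉ B ∩ C, ∃ g : G, (∀ z ∈ B ∩ C, g • z = z) ∧ g • x = w := by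
    intro x hx
    by_cases hxB : x ∈ B
    · obtain ⟨g, hg, hgx⟩ := hC x (fun h => hx ⟨hxB, h⟩) w (fun h => hw (Or.inr h))
      exact ⟨g, fun z hz => hg z hz.2, hgx⟩
    · obtain ⟨g, hg, hgx⟩ := hB x hxB w (fun h => hw (Or.inl h))
      exact ⟨g, fun z hz => hg z hz.1, hgx⟩
  intro x hx y hy
  obtain ⟨g, hg, hgx⟩ := key x hx
  obtain ⟨k, hk, hky⟩ := key y hy
  refine ⟨k⁻¹ * g, fun z hz => ?_, ?_⟩
  · rw [mul_smul, hg z hz, inv_smul_eq_iff, hk z hz]
  · rw [mul_smul, hgx, inv_smul_eq_iff, hky]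

/-- Let G be a finite primitive permutation group on Ω of degree n and Γ ⊂ Ω a subset with 1 < #Γ ≤ n/2 such that the pointwise stabilizer of Ω ∖ Γ is transitive on Γ. Then G is 3-transitive on Ω. -/
theorem result {G Ω : Type*} [Group G] [Finite G] [MulAction G Ω] [FaithfulSMul G Ω] [Finite Ω] (hprim : MulAction.IsPreprimitive G Ω) (Γ : Set Ω) (h1 : 1 < Γ.ncard) (h2 : 2 * Γ.ncard ≤ Nat.card Ω) (htr : ∀ x ∈ Γ, ∀ y ∈ Γ, ∃ g : G, (∀ z ∉ Γ, g • z = z) ∧ g • x = y) : MulAction.IsMultiplyPretransitive G Ω 3 := by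
  classical
  have hsum := Set.ncard_add_ncard_compl Γ
  -- double transitivity
  have htwo : MulAction.IsMultiplyPretransitive G Ω 2 := by
    refine hprim.is_two_pretransitive (s := Γᶜ) (n := Γᶜ.ncard - 1) (by omega) (by omega) ?_
    refine ⟨fun x y => ?_⟩
    have hx : (x : Ω) ∈ Γ := by
      have := (SubMulAction.mem_ofFixingSubgroup_iff G).mp x.2; simpa using this
    have hy : (y : Ω) ∈ Γ := by
      have := (SubMulAction.mem_ofFixingSubgroup_iff G).mp y.2; simpa using this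
    obtain ⟨g, hg, hgx⟩ := htr _ hx _ hy
    exact ⟨⟨g, (mem_fixingSubgroup_iff G).mpr fun z hz => hg z hz⟩, Subtype.ext hgx⟩
  have h2t : ∀ {a b c d : Ω}, a ≠ b → c ≠ d → ∃ g : G, g • a = c ∧ g • b = d :=
    fun {a b c d} hab hcd => MulAction.is_two_pretransitive_iff.mp htwo hab hcd
  have hJ : CoJordan G Γᶜ := fun x hx y hy => by
    obtain ⟨g, hg, hgx⟩ := htr x (by simpa using hx) y (by simpa using hy)
    exact ⟨g, fun z hz => hg z hz, hgx⟩
  let S : Set (Set Ω) := {B | CoJordan G B ∧ 2 ≤ B.ncard}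
  obtain ⟨B, hBS, hBmin⟩ := S.toFinite.exists_minimalFor Set.ncard S ⟨Γᶜ, hJ, by omega⟩
  have hmin : ∀ C, CoJordan G C → 2 ≤ C.ncard → B.ncard ≤ C.ncard := fun C hC hC2 => by
    by_contra hlt
    exact hlt (hBmin ⟨hC, hC2⟩ (by omega))
  obtain ⟨hBJ, hB2⟩ := hBS
  have hBΓ : B.ncard ≤ Γᶜ.ncard := hmin _ hJ (by omega)
  -- a minimal one has at most (n+1)/2 points
  have hhalf : 2 * B.ncard ≤ Nat.card Ω + 1 := by
    by_contra hbig
    have hBc : 1 < Bᶜ.ncard := by
      have := Set.ncard_add_ncard_compl B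
      omega
    obtain ⟨a, ha, b, hb, hab⟩ := (Set.one_lt_ncard (Set.toFinite _)).mp hBc
    obtain ⟨c, hc⟩ : B.Nonempty := Set.nonempty_of_ncard_ne_zero (by omega)
    obtain ⟨g, hga, hgb⟩ := h2t (a := a) (b := c) (fun h => ha (h ▸ hc)) hab
    have hag : a ∉ g • B := by
      rw [← hga, Set.smul_mem_smul_set_iff]; exact ha
    have hbg : b ∈ g • B := by
      rw [← hgb, Set.smul_mem_smul_set_iff]; exact hc
    have hw : a ∉ B ∪ g • B := by rintro (h | h); exacts [ha h, hag h]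
    have hu := Set.ncard_union_add_ncard_inter B (g • B)
    rw [Set.ncard_smul_set] at hu
    have hlt : (B ∪ g • B).ncard < Nat.card Ω := by
      rw [← Set.ncard_univ]
      exact Set.ncard_lt_ncard ((Set.ssubset_univ_iff).mpr fun h => hw (h ▸ Set.mem_univ a))
    have hsub : (B ∩ g • B).ncard < B.ncard := by
      refine Set.ncard_lt_ncard ⟨Set.inter_subset_left, fun h => hb ?_⟩
      have : B = g • B := Set.eq_of_subset_of_ncard_le (h.trans Set.inter_subset_right)
        (by rw [Set.ncard_smul_set])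
      rw [this]; exact hbg
    have := hmin _ (hBJ.inter (hBJ.smul g) hw) (by omega)
    omega
  have hB : B.ncard = 2 := by
    by_contra hne
    -- two translates meet in at most one point
    have line : ∀ g h : G, ∀ u v : Ω, u ≠ v → u ∈ g • B → v ∈ g • B → u ∈ h • B → v ∈ h • B →
        g • B = h • B := by
      intro g h u v huv hu hv hu' hv'
      by_contra hgh
      have h2 : 2 ≤ (g • B ∩ h • B).ncard :=
        (Set.one_lt_ncard (Set.toFinite _)).mpr ⟨u, ⟨hu, hu'⟩, v, ⟨hv, hv'⟩, huv⟩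
      have hun := Set.ncard_union_add_ncard_inter (g • B) (h • B)
      rw [Set.ncard_smul_set, Set.ncard_smul_set] at hun
      obtain ⟨w, hw⟩ : ∃ w, w ∉ g • B ∪ h • B := by
        by_contra hall
        push Not at hall
        rw [Set.eq_univ_of_forall hall, Set.ncard_univ] at hun
        omega
      have hlt : (g • B ∩ h • B).ncard < B.ncard := by
        rw [← Set.ncard_smul_set g B]
        refine Set.ncard_lt_ncard ⟨Set.inter_subset_left, fun hs => hgh ?_⟩
        exact Set.eq_of_subset_of_ncard_le (hs.trans Set.inter_subset_right)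
          (by rw [Set.ncard_smul_set, Set.ncard_smul_set])
      have := hmin _ ((hBJ.smul g).inter (hBJ.smul h) hw) h2
      omega
    have cover : ∀ u v : Ω, u ≠ v → ∃ g : G, u ∈ g • B ∧ v ∈ g • B ∧
        ∃ d ∈ g • B, d ≠ u ∧ d ≠ v := by
      intro u v huv
      obtain ⟨p, hp, q, hq, hpq⟩ := (Set.one_lt_ncard (Set.toFinite _)).mp (show 1 < B.ncard by omega)
      obtain ⟨g, hgp, hgq⟩ := h2t hpq huv
      refine ⟨g, hgp ▸ Set.smul_mem_smul_set hp, hgq ▸ Set.smul_mem_smul_set hq, ?_⟩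
      obtain ⟨d, hd, hdn⟩ := Set.exists_mem_notMem_of_ncard_lt_ncard (s := ({u, v} : Set Ω))
        (t := g • B) (by rw [Set.ncard_pair huv, Set.ncard_smul_set]; omega)
      simp only [Set.mem_insert_iff, Set.mem_singleton_iff, not_or] at hdn
      exact ⟨d, hd, hdn.1, hdn.2⟩
    by_cases hI : ∃ a ∉ Γ, ∃ b ∉ Γ, a ≠ b ∧ ∃ g : G, a ∈ g • B ∧ b ∈ g • B ∧ ∃ x ∈ g • B, x ∈ Γ
    · obtain ⟨a, ha, b, hb, hab, g, hag, hbg, x, hxg, hxΓ⟩ := hI
      have hΓg : Γ ⊆ g • B := by
        intro y hy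
        obtain ⟨k, hk, hkx⟩ := htr x hxΓ y hy
        have hka : a ∈ (k * g) • B := by
          rw [mul_smul, ← hk a ha]; exact Set.smul_mem_smul_set hag
        have hkb : b ∈ (k * g) • B := by
          rw [mul_smul, ← hk b hb]; exact Set.smul_mem_smul_set hbg
        rw [line g (k * g) a b hab hag hbg hka hkb, mul_smul, ← hkx]
        exact Set.smul_mem_smul_set hxg
      obtain ⟨c, hc⟩ : ∃ c, c ∉ g • B := by
        by_contra hall
        push Not at hall
        have := congrArg Set.ncard (Set.eq_univ_of_forall hall)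
        rw [Set.ncard_smul_set, Set.ncard_univ] at this
        omega
      obtain ⟨h, hch, hxh, d, hdh, hdc, hdx⟩ := cover c x (fun e => hc (e ▸ hxg))
      have hd : d ∉ g • B := fun hdg => hc ((line h g d x hdx hdh hxh hdg hxg) ▸ hch)
      obtain ⟨y, hy, hyx⟩ := Set.exists_ne_of_one_lt_ncard h1 x
      obtain ⟨k, hk, hkx⟩ := htr x hxΓ y hy
      have hkc : c ∈ (k * h) • B := by
        rw [mul_smul, ← hk c (fun h' => hc (hΓg h'))]; exact Set.smul_mem_smul_set hch
      have hkd : d ∈ (k * h) • B := by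
        rw [mul_smul, ← hk d (fun h' => hd (hΓg h'))]; exact Set.smul_mem_smul_set hdh
      have hyh : y ∈ h • B := by
        rw [line h (k * h) d c hdc hdh hch hkd hkc, mul_smul, ← hkx]
        exact Set.smul_mem_smul_set hxh
      exact hc ((line h g y x hyx hyh hxh (hΓg hy) hxg) ▸ hch)
    · push Not at hI
      obtain ⟨x, hx⟩ : Γ.Nonempty := Set.nonempty_of_ncard_ne_zero (by omega)
      choose L hLu hLv D hDL hDu hDv using cover
      let f : Ω → Ω := fun c => if h : x = c then c else D x c h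
      have hne' : ∀ c ∈ Γᶜ, x ≠ c := fun c hc e => hc (e ▸ hx)
      have hle := Set.ncard_le_ncard_of_injOn (s := Γᶜ) (t := Γ \ {x}) f (fun c hc => by
        simp only [f, dif_neg (hne' c hc)]
        refine ⟨?_, by simpa using hDu x c (hne' c hc)⟩
        by_contra hd
        exact hI c hc _ hd (Ne.symm (hDv x c (hne' c hc))) (L x c (hne' c hc)) (hLv x c (hne' c hc))
          (hDL x c (hne' c hc)) x (hLu x c (hne' c hc)) hx) (by
        intro c hc c' hc' e
        simp only [f, dif_neg (hne' c hc), dif_neg (hne' c' hc')] at e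
        by_contra hcc
        have hl := line (L x c (hne' c hc)) (L x c' (hne' c' hc')) x (D x c (hne' c hc))
          (Ne.symm (hDu x c (hne' c hc))) (hLu x c (hne' c hc)) (hDL x c (hne' c hc))
          (hLu x c' (hne' c' hc')) (e ▸ hDL x c' (hne' c' hc'))
        exact hI c hc c' hc' hcc (L x c (hne' c hc)) (hLv x c (hne' c hc))
          (hl ▸ hLv x c' (hne' c' hc')) x (hLu x c (hne' c hc)) hx)
      rw [Set.ncard_diff_singleton_of_mem hx] at hle
      omega
  obtain ⟨a, b, hab, rfl⟩ := Set.ncard_eq_two.mp hB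
  obtain ⟨z, hz⟩ : ∃ z, z ∉ ({a, b} : Set Ω) := by
    by_contra hall
    push Not at hall
    have := congrArg Set.ncard (Set.eq_univ_of_forall hall)
    rw [Set.ncard_univ, Set.ncard_pair hab] at this
    omega
  have key : ∀ e : Fin 3 ↪ Ω, ∃ g : G, g • e 0 = a ∧ g • e 1 = b ∧ g • e 2 = z := by
    intro e
    obtain ⟨g, hg0, hg1⟩ := h2t (e.injective.ne (by decide : (0 : Fin 3) ≠ 1)) hab
    have hn : g • e 2 ∉ ({a, b} : Set Ω) := by
      rintro (h | h)
      · exact (by decide : (2 : Fin 3) ≠ 0) (e.injective (smul_left_cancel g (h.trans hg0.symm)))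
      · rw [Set.mem_singleton_iff] at h
        exact (by decide : (2 : Fin 3) ≠ 1) (e.injective (smul_left_cancel g (h.trans hg1.symm)))
    obtain ⟨k, hk, hkz⟩ := hBJ _ hn z hz
    refine ⟨k * g, ?_, ?_, ?_⟩
    · rw [mul_smul, hg0, hk a (by simp)]
    · rw [mul_smul, hg1, hk b (by simp)]
    · rw [mul_smul, hkz]
  refine ⟨fun e e' => ?_⟩
  obtain ⟨g, g0, g1, g2⟩ := key e
  obtain ⟨k, k0, k1, k2⟩ := key e'
  refine ⟨k⁻¹ * g, ?_⟩
  ext i
  show (k⁻¹ * g) • e i = e' i
  rw [mul_smul, inv_smul_eq_iff]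
  match i with
  | 0 => rw [g0, k0]
  | 1 => rw [g1, k1]
  | 2 => rw [g2, k2]

end Cfsg.Agent.S3707
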