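import Cfsg.Statements.S3709
import Cfsg.Agent.Cores.Phan.Amalgam

set_option autoImplicit false
open Cfsg

namespace Cfsg.Agent.S3709

/-- Recognition of unitary groups from a weak Phan system. Let F be a finite field with q² elements, q > 3, and n ≥ 3. Let G be a group with subgroups U_0, …, U_{n−1}, each isomorphic to SU(2, q²), and, for each pair of consecutive indices, a subgroup V_{i,i+1} in which U_i and U_{i+1} form a standard pair (some isomorphism from SU(3, q²), or from its central quotient PSU(3, q²), onto V_{i,i+1} carries the two block-diagonal SU(2, q²) subgroups, or their images, onto U_i and U_{i+1}). Suppose that U_i and U_j commute elementwise whenever the indices differ by at least 2, and that G is generated by the U_i together with the V_{i,i+1}. Then G is a homomorphic image of SU(n+1, q²). (G is not assumed finite.) -/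
theorem result {G : Type*} [Group G] (n : ℕ) (hn : 3 ≤ n)
    (F : Type*) [Field F] [Fintype F] (q : ℕ) (hq : 3 < q) (hF : Fintype.card F = q ^ 2)
    (U : Fin n → Subgroup G) (e : ∀ i, ↥(Cfsg.SU 2 F q) ≃* ↥(U i))
    (V : Fin n → Fin n → Subgroup G)
    (h1 : ∀ i j : Fin n, (i : ℕ) + 2 ≤ j → ∀ x ∈ U i, ∀ y ∈ U j, x * y = y * x)
    (h2 : ∀ i j : Fin n, (i : ℕ) + 1 = j → Cfsg.IsStandardUnitaryPair (V i j) (U i) (U j) F q)
    (hgen : (⨆ i, U i) ⊔ (⨆ (i : Fin n) (j : Fin n) (_ : (i : ℕ) + 1 = j), V i j) = ⊤) :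
    ∃ f : ↥(Cfsg.SU (n + 1) F q) →* G, Function.Surjective f := by
  let U' : ℕ → Subgroup G := fun i => if h : i < n then U ⟨i, h⟩ else ⊥
  let V' : ℕ → Subgroup G := fun i => if h : i + 1 < n then V ⟨i, by omega⟩ ⟨i + 1, h⟩ else ⊥
  have hU : ∀ (i : ℕ) (h : i < n), U' i = U ⟨i, h⟩ := fun i h => dif_pos h
  have hV : ∀ (i : ℕ) (h : i + 1 < n), V' i = V ⟨i, by omega⟩ ⟨i + 1, h⟩ := fun i h => dif_pos h
  obtain ⟨φ, hφ, hrange, hθ⟩ := Cores.Phan.exists_amalgam (n := n) hF (by omega) U' V'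
    (fun i hi => by rw [hU i (by omega), hU (i + 1) hi, hV i hi]; exact h2 _ _ rfl)
    (fun i j hij hj => by rw [hU i (by omega), hU j hj]; exact h1 _ _ hij)
  obtain ⟨Φ, hΦ⟩ := hφ.exists_three hF (by omega)
  obtain ⟨f, hf⟩ := hφ.exists_hom hF (by omega) le_rfl (by omega) (Or.inl (by omega)) hΦ
  refine ⟨f, Cores.Phan.surjective_of_amalgam hF (by omega) U' hrange hf fun H hH => ?_⟩
  rw [eq_top_iff, ← hgen]
  refine sup_le (iSup_le fun i => hU i i.2 ▸ hH i i.2) (iSup_le fun i => iSup₂_le fun j hij => ?_)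
  obtain ⟨i, hi⟩ := i
  obtain ⟨j, hj⟩ := j
  obtain rfl : i + 1 = j := hij
  obtain ⟨θ, hθV, hθL, hθR, -⟩ := hθ i hj
  rw [← hV i hj, ← hθV]
  exact (Cores.Phan.pair_le hF (by omega) (by rw [hθL, hrange i hi]) (by rw [hθR, hrange _ hj])).trans
    (sup_le (hH i hi) (hH _ hj))

end Cfsg.Agent.S3709
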