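import Cfsg.Statements.S3710
import Cfsg.Agent.Cores.Phan.ThreeConfig

set_option autoImplicit false
open Cfsg

namespace Cfsg.Agent.S3710

/-- Recognition of unitary groups over the field with 9 elements from a weak Phan system. Let F be a field with 9 elements and n ≥ 4. Let G be a group with subgroups U_0, …, U_{n−1}, each isomorphic to SU(2, 9), and, for consecutive indices, subgroups V_{i,i+1} in which U_i and U_{i+1} form a standard pair (via an isomorphism from SU(3, 9) or PSU(3, 9) carrying the block-diagonal subgroups, or their images, onto U_i and U_{i+1}); suppose U_i and U_j commute elementwise whenever the indices differ by at least 2, that G is generated by the U_i and the V_{i,i+1}, and moreover that for each i the subgroup generated by V_{i,i+1} and V_{i+1,i+2} is a homomorphic image of SU(4, 9). Then G is a homomorphic image of SU(n+1, 9). (G is not assumed finite.) -/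
theorem result {G : Type*} [Group G] (n : ℕ) (hn : 4 ≤ n)
    (F : Type*) [Field F] [Fintype F] (hF : Fintype.card F = 9)
    (U : Fin n → Subgroup G) (e : ∀ i, ↥(Cfsg.SU 2 F 3) ≃* ↥(U i))
    (V : Fin n → Fin n → Subgroup G)
    (h1 : ∀ i j : Fin n, (i : ℕ) + 2 ≤ j → ∀ x ∈ U i, ∀ y ∈ U j, x * y = y * x)
    (h2 : ∀ i j : Fin n, (i : ℕ) + 1 = j → Cfsg.IsStandardUnitaryPair (V i j) (U i) (U j) F 3)
    (hgen : (⨆ i, U i) ⊔ (⨆ (i : Fin n) (j : Fin n) (_ : (i : ℕ) + 1 = j), V i j) = ⊤)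
    (h4 : ∀ i j k : Fin n, (i : ℕ) + 1 = j → (j : ℕ) + 1 = k →
      ∃ g : ↥(Cfsg.SU 4 F 3) →* ↥(V i j ⊔ V j k), Function.Surjective g) :
    ∃ f : ↥(Cfsg.SU (n + 1) F 3) →* G, Function.Surjective f := by
  have hF' : Fintype.card F = 3 ^ 2 := hF
  let U' : ℕ → Subgroup G := fun i => if h : i < n then U ⟨i, h⟩ else ⊥
  let V' : ℕ → Subgroup G := fun i => if h : i + 1 < n then V ⟨i, by omega⟩ ⟨i + 1, h⟩ else ⊥
  have hU : ∀ (i : ℕ) (h : i < n), U' i = U ⟨i, h⟩ := fun i h => dif_pos h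
  have hV : ∀ (i : ℕ) (h : i + 1 < n), V' i = V ⟨i, by omega⟩ ⟨i + 1, h⟩ := fun i h => dif_pos h
  obtain ⟨φ, hφ, hrange, hθ⟩ := Cores.Phan.exists_amalgam (n := n) hF' (by omega) U' V'
    (fun i hi => by rw [hU i (by omega), hU (i + 1) hi, hV i hi]; exact h2 _ _ rfl)
    (fun i j hij hj => by rw [hU i (by omega), hU j hj]; exact h1 _ _ hij)
  obtain ⟨g, hg⟩ := h4 ⟨0, by omega⟩ ⟨1, by omega⟩ ⟨2, by omega⟩ rfl rfl
  have hgr : (Subgroup.subtype _ |>.comp g).range =
      V ⟨0, by omega⟩ ⟨1, by omega⟩ ⊔ V ⟨1, by omega⟩ ⟨2, by omega⟩ := by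
    rw [Cores.Phan.range_comp_of_surjective _ hg, Subgroup.range_subtype]
  obtain ⟨Φ, hΦ⟩ := Cores.Phan.exists_base_three hF' (by omega) hφ
    (fun i hi => (hθ i hi).imp fun θ h => h.2) (Subgroup.subtype _ |>.comp g) (fun i hi => by
      rw [hgr]
      obtain rfl | rfl | rfl : i = 0 ∨ i = 1 ∨ i = 2 := by omega
      · obtain ⟨θ, hθV, hθL, -, -⟩ := hθ 0 (by omega)
        refine le_trans ?_ le_sup_left
        rw [← hθL, ← hV 0 (by omega), ← hθV]
        rintro _ ⟨x, rfl⟩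
        exact ⟨_, rfl⟩
      · obtain ⟨θ, hθV, -, hθR, -⟩ := hθ 0 (by omega)
        refine le_trans ?_ le_sup_left
        rw [← hθR, ← hV 0 (by omega), ← hθV]
        rintro _ ⟨x, rfl⟩
        exact ⟨_, rfl⟩
      · obtain ⟨θ, hθV, -, hθR, -⟩ := hθ 1 (by omega)
        refine le_trans ?_ le_sup_right
        rw [← hθR, ← hV 1 (by omega), ← hθV]
        rintro _ ⟨x, rfl⟩
        exact ⟨_, rfl⟩)
  obtain ⟨f, hf⟩ := hφ.exists_hom hF' le_rfl (by omega) (by omega) (Or.inr le_rfl) hΦ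
  refine ⟨f, Cores.Phan.surjective_of_amalgam hF' le_rfl U' hrange hf fun H hH => ?_⟩
  rw [eq_top_iff, ← hgen]
  refine sup_le (iSup_le fun i => hU i i.2 ▸ hH i i.2) (iSup_le fun i => iSup₂_le fun j hij => ?_)
  obtain ⟨i, hi⟩ := i
  obtain ⟨j, hj⟩ := j
  obtain rfl : i + 1 = j := hij
  obtain ⟨θ, hθV, hθL, hθR, -⟩ := hθ i hj
  rw [← hV i hj, ← hθV]
  exact (Cores.Phan.pair_le hF' le_rfl (by rw [hθL, hrange i hi]) (by rw [hθR, hrange _ hj])).trans
    (sup_le (hH i hi) (hH _ hj))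

end Cfsg.Agent.S3710
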