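import Cfsg.Statements.S3713
import Cfsg.Agent.H68.SpAmalgam.Induction
-- import your own Cfsg.Agent.* helpers here

set_option autoImplicit false
open Cfsg

namespace Cfsg.Agent.S3713

open Cfsg.Agent.H68.SpAmalgam in
/-- The universal property, for the subgroups given by generating sets. -/
theorem main (F : Type*) [Field F] (hF : ∃ a : F, a ≠ 0 ∧ a ≠ 1) {n : ℕ}
    {S M : Fin n → Subgroup (Sp n F)}
    (hS : ∀ j : Fin n, S j = Subgroup.closure {A : Sp n F | Pl j A})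
    (hM : ∀ i : Fin n, (i : ℕ) + 1 < n → M i = Subgroup.closure {A : Sp n F | Up i A})
    {H : Type*} [Group H] (σ : ∀ j : Fin n, ↥(S j) →* H) (μ : ∀ i : Fin n, ↥(M i) →* H)
    (hSS : ∀ j l : Fin n, j ≠ l → ∃ Ψ : ↥(S j ⊔ S l) →* H,
      (∀ (g : Sp n F) (hg : g ∈ S j), Ψ ⟨g, Subgroup.mem_sup_left hg⟩ = σ j ⟨g, hg⟩) ∧
        (∀ (g : Sp n F) (hg : g ∈ S l), Ψ ⟨g, Subgroup.mem_sup_right hg⟩ = σ l ⟨g, hg⟩))
    (hMM : ∀ i i' : Fin n, i ≠ i' → (i : ℕ) + 1 < n → (i' : ℕ) + 1 < n → ∃ Ψ : ↥(M i ⊔ M i') →* H,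
      (∀ (g : Sp n F) (hg : g ∈ M i), Ψ ⟨g, Subgroup.mem_sup_left hg⟩ = μ i ⟨g, hg⟩) ∧
        (∀ (g : Sp n F) (hg : g ∈ M i'), Ψ ⟨g, Subgroup.mem_sup_right hg⟩ = μ i' ⟨g, hg⟩))
    (hMS : ∀ i j : Fin n, (i : ℕ) + 1 < n → ∃ Ψ : ↥(M i ⊔ S j) →* H,
      (∀ (g : Sp n F) (hg : g ∈ M i), Ψ ⟨g, Subgroup.mem_sup_left hg⟩ = μ i ⟨g, hg⟩) ∧
        (∀ (g : Sp n F) (hg : g ∈ S j), Ψ ⟨g, Subgroup.mem_sup_right hg⟩ = σ j ⟨g, hg⟩)) :
    ∃! Φ : Sp n F →* H,
      (∀ (j : Fin n) (g : Sp n F) (hg : g ∈ S j), Φ g = σ j ⟨g, hg⟩) ∧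
        (∀ (i : Fin n), (i : ℕ) + 1 < n → ∀ (g : Sp n F) (hg : g ∈ M i), Φ g = μ i ⟨g, hg⟩) := by
  classical
  let ls : Fin n → Sp n F → Sp n F × H := fun k g => (g, if h : g ∈ S k then σ k ⟨g, h⟩ else 1)
  let lm : Fin n → Sp n F → Sp n F × H := fun i g => (g, if h : g ∈ M i then μ i ⟨g, h⟩ else 1)
  have hs : ∀ k g, Pl k g → g ∈ S k := fun k g h => hS k ▸ Subgroup.subset_closure h
  have hm : ∀ i : Fin n, (i : ℕ) + 1 < n → ∀ g, Up i g → g ∈ M i :=
    fun i hi g h => hM i hi ▸ Subgroup.subset_closure h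
  -- the faithful image of a subgroup
  have graph : ∀ (A : Subgroup (Sp n F)) (ψ : A →* H),
      InjFst (MonoidHom.range (A.subtype.prod ψ)) := by
    rintro A ψ x ⟨a, rfl⟩ ha
    obtain rfl : a = 1 := Subtype.ext ha
    rw [map_one]
  have D : Amal ls lm := by
    refine ⟨fun _ _ => rfl, fun _ _ => rfl, fun k l => ?_, fun i i' hi hi' => ?_, fun i k hi => ?_⟩
    · by_cases hkl : k = l
      · subst hkl
        refine ⟨_, graph (S k) (σ k), fun g hg => ⟨⟨g, hs k g hg⟩, ?_⟩, fun g hg => ⟨⟨g, hs k g hg⟩, ?_⟩⟩ <;>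
          simp [ls, hs k g hg]
      · obtain ⟨Ψ, h1, h2⟩ := hSS k l hkl
        refine ⟨_, graph _ Ψ, fun g hg => ⟨⟨g, Subgroup.mem_sup_left (hs k g hg)⟩, ?_⟩,
          fun g hg => ⟨⟨g, Subgroup.mem_sup_right (hs l g hg)⟩, ?_⟩⟩
        · simp [ls, hs k g hg, h1]
        · simp [ls, hs l g hg, h2]
    · by_cases hii : i = i'
      · subst hii
        refine ⟨_, graph (M i) (μ i), fun g hg => ⟨⟨g, hm i hi g hg⟩, ?_⟩, fun g hg => ⟨⟨g, hm i hi g hg⟩, ?_⟩⟩ <;>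
          simp [lm, hm i hi g hg]
      · obtain ⟨Ψ, h1, h2⟩ := hMM i i' hii hi hi'
        refine ⟨_, graph _ Ψ, fun g hg => ⟨⟨g, Subgroup.mem_sup_left (hm i hi g hg)⟩, ?_⟩,
          fun g hg => ⟨⟨g, Subgroup.mem_sup_right (hm i' hi' g hg)⟩, ?_⟩⟩
        · simp [lm, hm i hi g hg, h1]
        · simp [lm, hm i' hi' g hg, h2]
    · obtain ⟨Ψ, h1, h2⟩ := hMS i k hi
      refine ⟨_, graph _ Ψ, fun g hg => ⟨⟨g, Subgroup.mem_sup_left (hm i hi g hg)⟩, ?_⟩,
        fun g hg => ⟨⟨g, Subgroup.mem_sup_right (hs k g hg)⟩, ?_⟩⟩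
      · simp [lm, hm i hi g hg, h1]
      · simp [ls, hs k g hg, h2]
  have G0 := D.good (Or.inl hF) 0
  have hall : ∀ g : Sp n F, Supp {l | 0 ≤ l} g := fun g l hl => absurd (Nat.zero_le _) hl
  choose s hsL hs1 using fun g => G0.surj g (hall g)
  have hsu : ∀ {x}, x ∈ L ls lm 0 → s x.1 = x := fun hx => G0.inj.eq (hsL _) hx (hs1 _)
  let Φ : Sp n F →* H :=
    { toFun := fun g => (s g).2
      map_one' := by
        show (s ((1 : Sp n F × H).1)).2 = 1
        rw [hsu (one_mem _)]; rfl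
      map_mul' := fun g h => by
        have h1 := hsu (mul_mem (hsL g) (hsL h))
        rw [Prod.fst_mul, hs1, hs1] at h1
        rw [h1, Prod.snd_mul] }
  have hΦS : ∀ (j : Fin n) (g : Sp n F), Pl j g → Φ g = (ls j g).2 := fun j g hg => by
    show (s (ls j g).1).2 = _
    rw [hsu (D.mem_L_ls (Nat.zero_le _) hg)]
  have hΦM : ∀ (i : Fin n), (i : ℕ) + 1 < n → ∀ (g : Sp n F), Up i g → Φ g = (lm i g).2 := fun i hi g hg => by
    show (s (lm i g).1).2 = _
    rw [hsu (D.mem_L_lm (Nat.zero_le _) hi hg)]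
  refine ⟨Φ, ⟨fun j g hg => ?_, fun i hi g hg => ?_⟩, fun Φ' hΦ' => MonoidHom.ext fun g => ?_⟩
  · have key : ∀ g' ∈ Subgroup.closure {A : Sp n F | Pl j A}, ∀ h : g' ∈ S j, Φ g' = σ j ⟨g', h⟩ := by
      intro g' hg'
      induction hg' using Subgroup.closure_induction with
      | mem y hy => intro h; rw [hΦS j y hy]; simp [ls, h]
      | one => intro h; rw [map_one]; exact (map_one (σ j)).symm
      | mul y z hy hz ihy ihz =>
        intro h
        rw [map_mul, ihy (hS j ▸ hy), ihz (hS j ▸ hz), ← map_mul]; rfl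
      | inv y hy ihy =>
        intro h
        rw [map_inv, ihy (hS j ▸ hy), ← map_inv]; rfl
    exact key g (hS j ▸ hg) hg
  · have key : ∀ g' ∈ Subgroup.closure {A : Sp n F | Up i A}, ∀ h : g' ∈ M i, Φ g' = μ i ⟨g', h⟩ := by
      intro g' hg'
      induction hg' using Subgroup.closure_induction with
      | mem y hy => intro h; rw [hΦM i hi y hy]; simp [lm, h]
      | one => intro h; rw [map_one]; exact (map_one (μ i)).symm
      | mul y z hy hz ihy ihz =>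
        intro h
        rw [map_mul, ihy (hM i hi ▸ hy), ihz (hM i hi ▸ hz), ← map_mul]; rfl
      | inv y hy ihy =>
        intro h
        rw [map_inv, ihy (hM i hi ▸ hy), ← map_inv]; rfl
    exact key g (hM i hi ▸ hg) hg
  · have key : ∀ x ∈ L ls lm 0, Φ' x.1 = x.2 := by
      intro x hx
      induction hx using Subgroup.closure_induction with
      | mem y hy =>
        rcases hy with ⟨k, -, g', hg', rfl⟩ | ⟨k, -, hkn, g', hg', rfl⟩
        · simp [ls, hs k g' hg', hΦ'.1 k g' (hs k g' hg')]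
        · simp [lm, hm k hkn g' hg', hΦ'.2 k hkn g' (hm k hkn g' hg')]
      | one => exact map_one Φ'
      | mul y z _ _ hy hz => rw [Prod.fst_mul, map_mul, hy, hz]; rfl
      | inv y _ hy => rw [Prod.fst_inv, map_inv, hy]; rfl
    have := key (s g) (hsL g)
    rw [hs1] at this
    exact this

/-- A presentation of the symplectic group as the universal completion of an amalgam of small subgroups. Let F be a field with more than two elements, n ≥ 2, and Sp the group of 2n × 2n matrices over F preserving the standard alternating form, acting on column vectors; write e_k, f_k for the standard basis vectors of the two halves (a hyperbolic basis). For each k let S_k be the subgroup of Sp fixing e_l and f_l for all l ≠ k (a copy of SL(2, F) on the plane of e_k, f_k), and for each i with i + 1 < n let M_i be the subgroup fixing every e_l and fixing f_l for all l other than i, i+1 (an abelian group isomorphic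 to the additive group of F³). Then Sp is the universal completion of the amalgam formed by the S_k, the M_i and the subgroups generated by two of them: for every group H and homomorphisms σ_k : S_k → H, μ_i : M_i → H such that for each pair of these subgroups some homomorphism on the subgroup they generate restricts to the given ones, there is exactly one homomorphism Sp → H restricting to every σ_k and μ_i. -/
theorem result
    (F : Type*) [Field F] (hF : ∃ a : F, a ≠ 0 ∧ a ≠ 1) (n : ℕ) (hn : 2 ≤ n)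
    (S M : Fin n → Subgroup ↥(Matrix.symplecticGroup (Fin n) F))
    (hS : ∀ j : Fin n, S j = Subgroup.closure {A : ↥(Matrix.symplecticGroup (Fin n) F) | ∀ k : Fin n, k ≠ j →
      ((A : ↥(Matrix.symplecticGroup (Fin n) F)) : Matrix (Fin n ⊕ Fin n) (Fin n ⊕ Fin n) F).mulVec (Pi.single (Sum.inl k) (1 : F)) = (Pi.single (Sum.inl k) (1 : F)) ∧ ((A : ↥(Matrix.symplecticGroup (Fin n) F)) : Matrix (Fin n ⊕ Fin n) (Fin n ⊕ Fin n) F).mulVec (Pi.single (Sum.inr k) (1 : F)) = (Pi.single (Sum.inr k) (1 : F))})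
    (hM : ∀ i : Fin n, (i : ℕ) + 1 < n → M i = Subgroup.closure {A : ↥(Matrix.symplecticGroup (Fin n) F) |
      (∀ k : Fin n, ((A : ↥(Matrix.symplecticGroup (Fin n) F)) : Matrix (Fin n ⊕ Fin n) (Fin n ⊕ Fin n) F).mulVec (Pi.single (Sum.inl k) (1 : F)) = (Pi.single (Sum.inl k) (1 : F))) ∧
        ∀ k : Fin n, (k : ℕ) ≠ i → (k : ℕ) ≠ (i : ℕ) + 1 → ((A : ↥(Matrix.symplecticGroup (Fin n) F)) : Matrix (Fin n ⊕ Fin n) (Fin n ⊕ Fin n) F).mulVec (Pi.single (Sum.inr k) (1 : F)) = (Pi.single (Sum.inr k) (1 : F))})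
    {H : Type*} [Group H] (σ : ∀ j : Fin n, ↥(S j) →* H) (μ : ∀ i : Fin n, ↥(M i) →* H)
    (hSS : ∀ j l : Fin n, j ≠ l → ∃ Ψ : ↥(S j ⊔ S l) →* H,
      (∀ (g : ↥(Matrix.symplecticGroup (Fin n) F)) (hg : g ∈ S j), Ψ ⟨g, Subgroup.mem_sup_left hg⟩ = σ j ⟨g, hg⟩) ∧
        (∀ (g : ↥(Matrix.symplecticGroup (Fin n) F)) (hg : g ∈ S l), Ψ ⟨g, Subgroup.mem_sup_right hg⟩ = σ l ⟨g, hg⟩))
    (hMM : ∀ i i' : Fin n, i ≠ i' → (i : ℕ) + 1 < n → (i' : ℕ) + 1 < n → ∃ Ψ : ↥(M i ⊔ M i') →* H,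
      (∀ (g : ↥(Matrix.symplecticGroup (Fin n) F)) (hg : g ∈ M i), Ψ ⟨g, Subgroup.mem_sup_left hg⟩ = μ i ⟨g, hg⟩) ∧
        (∀ (g : ↥(Matrix.symplecticGroup (Fin n) F)) (hg : g ∈ M i'), Ψ ⟨g, Subgroup.mem_sup_right hg⟩ = μ i' ⟨g, hg⟩))
    (hMS : ∀ i j : Fin n, (i : ℕ) + 1 < n → ∃ Ψ : ↥(M i ⊔ S j) →* H,
      (∀ (g : ↥(Matrix.symplecticGroup (Fin n) F)) (hg : g ∈ M i), Ψ ⟨g, Subgroup.mem_sup_left hg⟩ = μ i ⟨g, hg⟩) ∧
        (∀ (g : ↥(Matrix.symplecticGroup (Fin n) F)) (hg : g ∈ S j), Ψ ⟨g, Subgroup.mem_sup_right hg⟩ = σ j ⟨g, hg⟩)) :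
    ∃! Φ : ↥(Matrix.symplecticGroup (Fin n) F) →* H,
      (∀ (j : Fin n) (g : ↥(Matrix.symplecticGroup (Fin n) F)) (hg : g ∈ S j), Φ g = σ j ⟨g, hg⟩) ∧
        (∀ (i : Fin n), (i : ℕ) + 1 < n → ∀ (g : ↥(Matrix.symplecticGroup (Fin n) F)) (hg : g ∈ M i), Φ g = μ i ⟨g, hg⟩) := by
  exact main F hF hS hM σ μ hSS hMM hMS

end Cfsg.Agent.S3713
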