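import Cfsg.Statements.S3716
import Mathlib
import Cfsg.Agent.H33.ExcThree.Main
import Cfsg.Agent.H33.ExcThree.Setup
import Cfsg.Agent.H33.ExcThree.Order

set_option autoImplicit false
open Cfsg

namespace Cfsg.Agent.S3716

/-- Let G be a finite group with an elementary abelian Sylow 3-subgroup M of order 9 which is self-centralizing (C_G(M) = M), let N = N_G(M), and suppose C_G(g) ≤ N for every nonidentity g ∈ M. If the Sylow 2-subgroups of N are dihedral of order 8, then G is not simple. -/
theorem result {G : Type*} [Group G] [Finite G] (M : Sylow 3 G) (hM9 : Nat.card ↥(M : Subgroup G) = 9)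
    (hMel : ∀ m ∈ (M : Subgroup G), m ^ 3 = 1)
    (hCM : Subgroup.centralizer ((M : Subgroup G) : Set G) = (M : Subgroup G))
    (N : Subgroup G) (hN : N = Subgroup.normalizer ((M : Subgroup G) : Set G))
    (hCg : ∀ g ∈ (M : Subgroup G), g ≠ 1 → Subgroup.centralizer ({g} : Set G) ≤ N)
    (hS : ∀ S : Sylow 2 ↥N, Nonempty (↥(S : Subgroup ↥N) ≃* DihedralGroup 4)) :
    ¬ IsSimpleGroup G := by
  intro hsimple
  subst hN
  haveI : Fact (Nat.Prime 2) := ⟨Nat.prime_two⟩
  haveI : Fact (Nat.Prime 3) := ⟨Nat.prime_three⟩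
  let T : Sylow 2 ↥(Subgroup.normalizer ((M : Subgroup G) : Set G)) := default
  obtain ⟨eT⟩ := hS T
  have hidx : ¬ 3 ∣ (M : Subgroup G).index := M.not_dvd_index
  have hT8 : Nat.card (T : Subgroup ↥(Subgroup.normalizer ((M : Subgroup G) : Set G))) = 8 := by
    rw [Nat.card_congr eT.toEquiv, DihedralGroup.nat_card]
  have h72 := Cfsg.Agent.H33.ExcThree.card_normalizer hM9 hidx hCM T hT8
  obtain ⟨K, hK⟩ := Cfsg.Agent.H33.ExcThree.exists_cfg (M : Subgroup G) hM9 hidx hCM
    (fun m hm h1 => hCg m hm h1) h72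
    ((T : Subgroup ↥(Subgroup.normalizer ((M : Subgroup G) : Set G))).map
      (Subgroup.normalizer ((M : Subgroup G) : Set G)).subtype)
    (Subgroup.map_subtype_le _)
    ((Subgroup.equivMapOfInjective _ _ (Subgroup.subtype_injective _)).symm.trans eT)
  rcases Cfsg.Agent.H33.ExcThree.main K with h | φ
  · rw [hK] at h
    rcases h.eq_bot_or_eq_top with h' | h'
    · rw [h', Subgroup.card_bot] at hM9
      norm_num at hM9
    · have hN : Subgroup.normalizer ((M : Subgroup G) : Set G) = ⊤ := by
        rw [h']; exact Subgroup.normalizer_eq_top _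
      rw [hN, Subgroup.card_top, ← Subgroup.card_top (G := G), ← h', hM9] at h72
      omega
  · obtain ⟨ψ⟩ := φ
    haveI : IsSimpleGroup (Equiv.Perm (Fin 6)) := ψ.symm.isSimpleGroup
    rcases (inferInstance : (alternatingGroup (Fin 6)).Normal).eq_bot_or_eq_top with h' | h'
    · have := nat_card_alternatingGroup (α := Fin 6)
      rw [h', Subgroup.card_bot, Nat.card_fin] at this
      norm_num [Nat.factorial] at this
    · have := nat_card_alternatingGroup (α := Fin 6)
      rw [h', Subgroup.card_top, Nat.card_perm, Nat.card_fin] at this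
      norm_num [Nat.factorial] at this

end Cfsg.Agent.S3716
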