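import Cfsg.Statements.S3730
import Cfsg.Agent.H5.EvenCyclic.CaseOne
import Cfsg.Agent.H5.EvenCyclic.Socle
import Cfsg.Agent.H5.EvenCyclic.AllTwo
import Cfsg.Agent.H5.EvenCyclic.Outer

set_option autoImplicit false
open Cfsg

namespace Cfsg.Agent.S3730

/-- Let G be a nontrivial finite group with no nontrivial solvable normal subgroup, such that for every cyclic subgroup X of even order and every nontrivial subgroup Y of X one has N_G(X) = N_G(Y) (every nontrivial subgroup of a cyclic subgroup of even order has the same normalizer as the whole cyclic subgroup). Then G is isomorphic to PSL(2, q) or to PGL(2, q) for some prime power q > 3. -/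
theorem result
    {G : Type*} [Group G] [Finite G] [Nontrivial G]
    (hss : ∀ N : Subgroup G, N.Normal → Group.IsSolvable ↥N → N = ⊥)
    (hii : ∀ X : Subgroup G, IsCyclic ↥X → Even (Nat.card ↥X) → ∀ Y : Subgroup G, Y ≤ X → Y ≠ ⊥ →
      Subgroup.normalizer (X : Set G) = Subgroup.normalizer (Y : Set G)) :
    ∃ (F : Type) (_ : Field F) (_ : Fintype F), 3 < Fintype.card F ∧
      (Nonempty (G ≃* Matrix.ProjectiveSpecialLinearGroup (Fin 2) F) ∨
        Nonempty (G ≃* Matrix.ProjGenLinGroup (Fin 2) F)) := by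
  classical
  have hP := H5.EvenCyclic.of_subgroups hii
  by_cases hone : ∃ t : G, orderOf t = 2 ∧
      ∀ s, orderOf s = 2 → Commute s t → H5.EvenCyclic.C s = H5.EvenCyclic.C t
  · obtain ⟨t, ht, hall⟩ := hone
    obtain ⟨n, hn, he⟩ := H5.EvenCyclic.psl_even hP hss ht hall
    haveI : Fintype (GaloisField 2 n) := Fintype.ofFinite _
    refine ⟨GaloisField 2 n, inferInstance, inferInstance, ?_, Or.inl he⟩
    rw [← Nat.card_eq_fintype_card, GaloisField.card 2 n (by omega)]
    exact lt_of_lt_of_le (by norm_num : 3 < 2 ^ 2) (Nat.pow_le_pow_right (by norm_num) hn)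
  have hmix : H5.EvenCyclic.Mix G := fun t ht => by
    by_contra hcon
    exact hone ⟨t, ht, fun s hs hst => by_contra fun hne => hcon ⟨s, hs, hst, hne⟩⟩
  by_cases h2 : ∀ t : G, orderOf t = 2 → H5.EvenCyclic.Two t
  · rcases H5.EvenCyclic.all_two hP hss hmix h2 with
      ⟨F, iF, iFt, hF, he⟩ | ⟨N, hN, hC, F, iF, iFt, hodd, hF, ⟨e⟩⟩
    · exact ⟨F, iF, iFt, hF, Or.inl he⟩
    · haveI := hN
      exact ⟨F, iF, iFt, by omega, H5.EvenCyclic.psl_or_pgl hP N hC e hodd⟩
  push Not at h2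
  obtain ⟨t, ht, hn⟩ := h2
  have H : H5.EvenCyclic.Odd2 G t := ⟨hP, hss, hmix, ht, hn⟩
  obtain ⟨S, hS⟩ := H.exists_sylow
  obtain ⟨T, hT, hT0, hsimp, hC⟩ := H5.EvenCyclic.exists_simple_normal hP hss hmix
  haveI := hT
  haveI := hsimp
  haveI : Nontrivial ↥T := (Subgroup.nontrivial_iff_ne_bot _).2 hT0
  have hns : ¬ Group.IsSolvable ↥T := (H5.EvenCyclic.Nss.of_normal hss T).not_solvable
  have hcyc : ¬ IsCyclic ↥T := fun hc => hns (Group.isSolvable_of_comm fun a b => by
    haveI := hc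
    exact (IsCyclic.commGroup (α := ↥T)).mul_comm a b)
  obtain ⟨F, iF, iFt, hodd, ⟨e⟩⟩ := H5.EvenCyclic.socle_psl hP hss hmix hS T hcyc
  have h4 := H5.EvenCyclic.four_le_of_not_solvable e hns
  exact ⟨F, iF, iFt, by omega, H5.EvenCyclic.psl_or_pgl hP T hC e hodd⟩

end Cfsg.Agent.S3730
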