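import Cfsg.Statements.S3733

set_option autoImplicit false
open Cfsg

namespace Cfsg.Agent.S3733

/-- Let A and V be subgroups of a finite group with V abelian and nontrivial and A normalizing V. Suppose a nonempty finite family of proper subgroups of A partitions A: every non-identity element of A lies in exactly one member. If the number of members minus one is coprime to the order of V, then some member B of the family has a non-identity fixed point on V, that is V ∩ C(B) ≠ 1. -/
theorem result {G : Type*} [Group G] [Finite G] (A V : Subgroup G) (hVab : IsMulCommutative V) (hV : V ≠ ⊥) (hAV : A ≤ Subgroup.normalizer (V : Set G)) (𝒜 : Finset (Subgroup G)) (hne : 𝒜.Nonempty) (hprop : ∀ B ∈ 𝒜, B < A) (hpart : ∀ a ∈ A, a ≠ 1 → ∃! B, B ∈ 𝒜 ∧ a ∈ B) (hk : (𝒜.card - 1).Coprime (Nat.card V)) : ∃ B ∈ 𝒜, V ⊓ Subgroup.centralizer (B : Set G) ≠ ⊥ := by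
  classical
  letI := Fintype.ofFinite G
  haveI := hVab
  -- 𝒜 has at least two members
  by_contra hcon
  push Not at hcon
  obtain ⟨v, hvV, hv1⟩ := (Subgroup.bot_or_exists_ne_one V).resolve_left hV
  letI : CommGroup V := { (inferInstance : Group V) with mul_comm := fun a b => hVab.is_comm.comm a b }
  let act : G → V → V := fun a w => if h : a * (w : G) * a⁻¹ ∈ V then ⟨_, h⟩ else 1
  have hact : ∀ a ∈ A, ∀ w : V, ((act a w : V) : G) = a * (w : G) * a⁻¹ := by
    intro a ha w
    have : a * (w : G) * a⁻¹ ∈ V := (Subgroup.mem_normalizer_iff.1 (hAV ha) w).1 w.2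
    simp [act, this]
  let N : Subgroup G → V := fun B => ∏ a ∈ Finset.univ.filter (· ∈ B), act a ⟨v, hvV⟩
  have hfix : ∀ B : Subgroup G, B ≤ A → (((N B : V)) : G) ∈ Subgroup.centralizer (B : Set G) := by
    intro B hB
    refine Subgroup.mem_centralizer_iff.2 fun b hb => ?_
    let φ : V →* V :=
      { toFun := act b
        map_one' := Subtype.ext (by rw [hact b (hB hb)]; simp)
        map_mul' := fun x y => Subtype.ext (by
          simp only [hact b (hB hb), Subgroup.coe_mul]; group) }
    have : φ (N B) = N B := by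
      simp only [N, map_prod]
      refine Finset.prod_bij (fun a _ => b * a) ?_ ?_ ?_ ?_
      · intro a ha
        simp only [Finset.mem_filter, Finset.mem_univ, true_and] at ha ⊢
        exact mul_mem hb ha
      · intro a _ a' _ h
        exact mul_left_cancel h
      · intro a ha
        simp only [Finset.mem_filter, Finset.mem_univ, true_and] at ha
        exact ⟨b⁻¹ * a, by simpa using mul_mem (inv_mem hb) ha, by simp⟩
      · intro a ha
        simp only [Finset.mem_filter, Finset.mem_univ, true_and] at ha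
        apply Subtype.ext
        show ((act b (act a ⟨v, hvV⟩) : V) : G) = _
        rw [hact b (hB hb), hact a (hB ha), hact _ (mul_mem (hB hb) (hB ha))]
        group
    have h2 := congrArg (Subtype.val) this
    change ((act b (N B) : V) : G) = _ at h2
    rw [hact b (hB hb)] at h2
    conv_rhs => rw [← h2]
    group
  have hN1 : ∀ B ∈ 𝒜, N B = 1 := by
    intro B hB
    have := hcon B hB
    have hmem : ((N B : V) : G) ∈ V ⊓ Subgroup.centralizer (B : Set G) := ⟨(N B).2, hfix B (hprop B hB).le⟩
    rw [this, Subgroup.mem_bot] at hmem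
    exact Subtype.ext hmem
  have hNA : N A = 1 := by
    obtain ⟨B, hB⟩ := hne
    have := hcon B hB
    have hmem : ((N A : V) : G) ∈ V ⊓ Subgroup.centralizer (B : Set G) :=
      ⟨(N A).2, Subgroup.centralizer_le (fun x hx => (hprop B hB).le hx) (hfix A le_rfl)⟩
    rw [this, Subgroup.mem_bot] at hmem
    exact Subtype.ext hmem
  set w : V := ⟨v, hvV⟩ with hw
  have hact1 : act 1 w = w := Subtype.ext (by rw [hact 1 A.one_mem]; simp)
  -- split off the identity and regroup along the partition
  let A' : Finset G := Finset.univ.filter fun a => a ∈ A ∧ a ≠ 1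
  let P : Subgroup G → Finset G := fun B => Finset.univ.filter fun a => a ∈ B ∧ a ≠ 1
  have hsplit : ∀ B : Subgroup G, B ≤ A → N B = w * ∏ a ∈ P B, act a w := by
    intro B _
    show ∏ a ∈ Finset.univ.filter (· ∈ B), act a w = _
    rw [← Finset.mul_prod_erase _ _ (show (1 : G) ∈ Finset.univ.filter (· ∈ B) by simp), hact1]
    congr 1
    exact Finset.prod_congr (by ext a; simp [P, and_comm]) fun _ _ => rfl
  have hunion : P A = 𝒜.biUnion P := by
    ext a
    simp only [P, Finset.mem_filter, Finset.mem_univ, true_and, Finset.mem_biUnion]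
    constructor
    · rintro ⟨ha, ha1⟩
      obtain ⟨B, ⟨hB, haB⟩, -⟩ := hpart a ha ha1
      exact ⟨B, hB, haB, ha1⟩
    · rintro ⟨B, hB, haB, ha1⟩
      exact ⟨(hprop B hB).le haB, ha1⟩
  have hdisj : (↑𝒜 : Set (Subgroup G)).PairwiseDisjoint P := by
    intro B hB C hC hBC
    rw [Function.onFun, Finset.disjoint_left]
    intro a ha ha'
    simp only [P, Finset.mem_filter, Finset.mem_univ, true_and] at ha ha'
    obtain ⟨D, -, huniq⟩ := hpart a ((hprop B hB).le ha.1) ha.2
    exact hBC ((huniq B ⟨hB, ha.1⟩).trans (huniq C ⟨hC, ha'.1⟩).symm)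
  have h1 : w * ∏ a ∈ P A, act a w = 1 := by rw [← hsplit A le_rfl, hNA]
  have h2 : ∀ B ∈ 𝒜, ∏ a ∈ P B, act a w = w⁻¹ := fun B hB =>
    eq_inv_of_mul_eq_one_right (by rw [← hsplit B (hprop B hB).le, hN1 B hB])
  rw [hunion, Finset.prod_biUnion hdisj, Finset.prod_congr rfl h2, Finset.prod_const, inv_pow] at h1
  have hpow : w ^ (𝒜.card - 1) = 1 := by
    obtain ⟨m, hm⟩ : ∃ m, 𝒜.card = m + 1 := ⟨𝒜.card - 1, by have := hne.card_pos; omega⟩
    rw [hm, Nat.add_sub_cancel]
    rw [hm, pow_succ'] at h1
    simpa [mul_inv_rev, mul_comm] using h1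
  have := Nat.Coprime.eq_one_of_dvd (hk.coprime_dvd_left (orderOf_dvd_of_pow_eq_one hpow))
    (orderOf_dvd_natCard w)
  exact hv1 (congrArg Subtype.val (orderOf_eq_one_iff.1 this))

end Cfsg.Agent.S3733
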