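import Cfsg.Statements.S3735
import Cfsg.Agent.Coprime.Basic

set_option autoImplicit false
open Cfsg

namespace Cfsg.Agent.S3735

open Subgroup

variable {G : Type*} [Group G]

private theorem conj_le_map {g : G} {T : Subgroup G} {V : Subgroup G} (hg : g ∈ normalizer (V : Set G))
    (hT : T ≤ V) : T.map (MulAut.conj g).toMonoidHom ≤ V := by
  rintro _ ⟨t, ht, rfl⟩
  exact (mem_normalizer_iff.1 hg t).1 (hT ht)


/-- Clifford's Theorem for actions on finite abelian groups, first part. Let H and V be subgroups of a finite group with V abelian and H normalizing V, and let A be a normal subgroup of H. If every H-invariant subgroup of V has an H-invariant complement in V, then every A-invariant subgroup of V has an A-invariant complement in V. -/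
theorem result {G : Type*} [Group G] [Finite G] (H A V : Subgroup G) (hVab : IsMulCommutative V) (hHV : H ≤ Subgroup.normalizer (V : Set G)) (hAH : A ≤ H) (hAn : H ≤ Subgroup.normalizer (A : Set G)) (hss : ∀ U : Subgroup G, U ≤ V → H ≤ Subgroup.normalizer (U : Set G) → ∃ W : Subgroup G, W ≤ V ∧ H ≤ Subgroup.normalizer (W : Set G) ∧ U ⊓ W = ⊥ ∧ U ⊔ W = V) (U : Subgroup G) (hUV : U ≤ V) (hAU : A ≤ Subgroup.normalizer (U : Set G)) : ∃ W : Subgroup G, W ≤ V ∧ A ≤ Subgroup.normalizer (W : Set G) ∧ U ⊓ W = ⊥ ∧ U ⊔ W = V := by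
  classical
  have hinv : ∀ S T : Subgroup G, ∀ g : G, g ∈ Subgroup.normalizer (S : Set G) → g ∈ Subgroup.normalizer (T : Set G) →
      g ∈ Subgroup.normalizer ((S ⊔ T : Subgroup G) : Set G) := fun S T g h1 h2 => by
    apply Coprime.mem_normalizer_of_map_conj
    rw [Subgroup.map_sup, Coprime.map_conj_eq h1, Coprime.map_conj_eq h2]
  have hinf : ∀ S T : Subgroup G, ∀ g : G, g ∈ Subgroup.normalizer (S : Set G) → g ∈ Subgroup.normalizer (T : Set G) →
      g ∈ Subgroup.normalizer ((S ⊓ T : Subgroup G) : Set G) := fun S T g h1 h2 => by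
    apply Coprime.mem_normalizer_of_map_conj
    rw [Subgroup.map_inf _ _ _ (MulAut.conj g).injective, Coprime.map_conj_eq h1, Coprime.map_conj_eq h2]
  -- `A`-irreducible subgroups of `V`
  let atom : Subgroup G → Prop := fun T => T ≤ V ∧ T ≠ ⊥ ∧ A ≤ Subgroup.normalizer (T : Set G) ∧
    ∀ T' : Subgroup G, T' ≤ T → A ≤ Subgroup.normalizer (T' : Set G) → T' = ⊥ ∨ T' = T
  have atom_below : ∀ Z : Subgroup G, Z ≤ V → Z ≠ ⊥ → A ≤ Subgroup.normalizer (Z : Set G) →
      ∃ T, atom T ∧ T ≤ Z := by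
    intro Z hZV hZ hAZ
    obtain ⟨T, ⟨hTZ, hT0, hAT⟩, hmin⟩ := (Set.toFinite {T : Subgroup G | T ≤ Z ∧ T ≠ ⊥ ∧
      A ≤ Subgroup.normalizer (T : Set G)}).exists_minimal ⟨Z, le_rfl, hZ, hAZ⟩
    refine ⟨T, ⟨hTZ.trans hZV, hT0, hAT, fun T' hle hn => ?_⟩, hTZ⟩
    by_cases h0 : T' = ⊥
    · exact Or.inl h0
    · exact Or.inr (le_antisymm hle (hmin ⟨hle.trans hTZ, h0, hn⟩ hle))
  have atom_conj : ∀ h ∈ H, ∀ T, atom T → atom (T.map (MulAut.conj h).toMonoidHom) := by
    intro h hh T ⟨hTV, hT0, hAT, hmin⟩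
    have key : ∀ S : Subgroup G, A ≤ Subgroup.normalizer (S : Set G) → ∀ g ∈ H,
        A ≤ Subgroup.normalizer ((S.map (MulAut.conj g).toMonoidHom : Subgroup G) : Set G) := by
      intro S hS g hg a ha
      apply Coprime.mem_normalizer_of_map_conj
      rw [Coprime.map_conj_map_conj]
      have h1 : g⁻¹ * a * g ∈ A := by
        have := (Subgroup.mem_normalizer_iff''.1 (hAn hg) a).1 ha
        exact this
      have h2 := Coprime.map_conj_eq (hS h1)
      conv_rhs => rw [← h2, Coprime.map_conj_map_conj]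
      congr 2
      group
    refine ⟨conj_le_map (hHV hh) hTV, ?_, key T hAT h hh, fun T' hle hn => ?_⟩
    · rwa [ne_eq, Subgroup.map_eq_bot_iff_of_injective _ (MulAut.conj h).injective]
    · have h1 : T'.map (MulAut.conj h⁻¹).toMonoidHom ≤ T := by
        refine le_trans (Subgroup.map_mono hle) ?_
        rw [Coprime.map_conj_map_conj, inv_mul_cancel, Coprime.map_conj_one]
      rcases hmin _ h1 (key T' hn h⁻¹ (inv_mem hh)) with h2 | h2
      · left; rwa [Subgroup.map_eq_bot_iff_of_injective _ (MulAut.conj h⁻¹).injective] at h2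
      · right; rw [← h2, Coprime.map_conj_map_conj, mul_inv_cancel, Coprime.map_conj_one]
  -- their join is everything
  let S := sSup {T : Subgroup G | atom T}
  have hSV : S ≤ V := sSup_le fun T hT => hT.1
  have hS : S = V := by
    have hHS : H ≤ Subgroup.normalizer (S : Set G) := by
      intro h hh
      apply Coprime.mem_normalizer_of_map_conj
      refine le_antisymm ?_ ?_
      · rw [Subgroup.map_le_iff_le_comap]
        refine sSup_le fun T hT => ?_
        rw [← Subgroup.map_le_iff_le_comap]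
        exact le_sSup (atom_conj h hh T hT)
      · refine sSup_le fun T hT => ?_
        have h2 := atom_conj h⁻¹ (inv_mem hh) T hT
        calc T = (T.map (MulAut.conj h⁻¹).toMonoidHom).map (MulAut.conj h).toMonoidHom := by
              rw [Coprime.map_conj_map_conj, mul_inv_cancel, Coprime.map_conj_one]
          _ ≤ _ := Subgroup.map_mono (le_sSup h2)
    obtain ⟨W, hWV, hHW, hinfW, hsup⟩ := hss S hSV hHS
    by_cases hW : W = ⊥
    · rwa [hW, sup_bot_eq] at hsup
    · obtain ⟨T, hT, hTW⟩ := atom_below W hWV hW (hAH.trans hHW)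
      exfalso
      apply hT.2.1
      exact le_bot_iff.1 (hinfW ▸ le_inf (le_sSup hT) hTW)
  -- a maximal `A`-invariant subgroup avoiding `U`
  obtain ⟨W, ⟨hWV, hAW, hUW⟩, hmax⟩ := (Set.toFinite {W : Subgroup G | W ≤ V ∧
      A ≤ Subgroup.normalizer (W : Set G) ∧ U ⊓ W = ⊥}).exists_maximal
    ⟨⊥, bot_le, fun a _ => Subgroup.mem_normalizer_iff.2 fun n => by simp [Subgroup.mem_bot, conj_eq_one_iff], inf_bot_eq U⟩
  refine ⟨W, hWV, hAW, hUW, le_antisymm (sup_le hUV hWV) ?_⟩
  conv_lhs => rw [← hS]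
  refine sSup_le fun T hT => ?_
  have hAUW : A ≤ Subgroup.normalizer ((U ⊔ W : Subgroup G) : Set G) := fun a ha =>
    hinv U W a (hAU ha) (hAW ha)
  rcases hT.2.2.2 (T ⊓ (U ⊔ W)) inf_le_left (fun a ha => hinf T (U ⊔ W) a (hT.2.2.1 ha) (hAUW ha)) with h | h
  swap
  · exact h ▸ inf_le_right
  exfalso
  apply hT.2.1
  have hnew : U ⊓ (W ⊔ T) = ⊥ := by
    rw [eq_bot_iff]
    rintro u ⟨huU, huWT⟩
    have hTn : T ≤ Subgroup.normalizer (W : Set G) := fun t ht => by
      refine Subgroup.mem_normalizer_iff.2 fun w => ?_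
      have hc : ∀ w ∈ V, t * w * t⁻¹ = w := fun w hw => by
        have := congrArg Subtype.val (hVab.is_comm.comm (⟨t, hT.1 ht⟩ : V) ⟨w, hw⟩)
        simp only [Subgroup.coe_mul] at this
        rw [this, mul_inv_cancel_right]
      constructor
      · intro hw; rwa [hc w (hWV hw)]
      · intro hw
        have hwV : w ∈ V := (Subgroup.mem_normalizer_iff.1 (Subgroup.le_normalizer (hT.1 ht)) w).2 (hWV hw)
        rwa [hc w hwV] at hw
    obtain ⟨w, hw, t, ht, rfl⟩ := (Coprime.mem_sup_iff hTn).1 huWT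
    have htUW : t ∈ T ⊓ (U ⊔ W) := ⟨ht, by
      have := (U ⊔ W).mul_mem ((U ⊔ W).inv_mem (Subgroup.mem_sup_right hw)) (Subgroup.mem_sup_left huU)
      simpa using this⟩
    rw [h, Subgroup.mem_bot] at htUW
    rw [htUW, mul_one] at huU ⊢
    exact hUW ▸ (Subgroup.mem_inf.2 ⟨huU, hw⟩)
  have hWT : W ⊔ T ≤ W := hmax (show W ⊔ T ∈ {W : Subgroup G | W ≤ V ∧
      A ≤ Subgroup.normalizer (W : Set G) ∧ U ⊓ W = ⊥} from
    ⟨sup_le hWV hT.1, fun a ha => hinv W T a (hAW ha) (hT.2.2.1 ha), hnew⟩) le_sup_left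
  rw [← h]
  exact (inf_eq_left.2 ((le_sup_right.trans hWT).trans le_sup_right)).symm

end Cfsg.Agent.S3735
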