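import Cfsg.Statements.S3737
import Cfsg.Agent.H71.MinimalAction
import Cfsg.Agent.H71.Baer

set_option autoImplicit false
open Cfsg

namespace Cfsg.Agent.S3737

open scoped commutatorElement

/-- Thompson's strengthening of the P × Q lemma for odd primes. Let p be an odd prime and let P, Q and G be subgroups of a finite group with P a p-group, Q of order prime to p and normalized by P, and G a p-group normalized by both P and Q. If every element of G centralized by P is centralized by Q, then Q centralizes G. -/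
theorem result {X : Type*} [Group X] [Finite X] {p : ℕ} [Fact p.Prime] (hp : p ≠ 2) (P Q G : Subgroup X) (hP : IsPGroup p P) (hQ : (Nat.card Q).Coprime p) (hPQ : P ≤ Subgroup.normalizer (Q : Set X)) (hG : IsPGroup p G) (hPG : P ≤ Subgroup.normalizer (G : Set X)) (hQG : Q ≤ Subgroup.normalizer (G : Set X)) (hC : G ⊓ Subgroup.centralizer (P : Set X) ≤ Subgroup.centralizer (Q : Set X)) : Q ≤ Subgroup.centralizer (G : Set X) := by
  classical
  obtain ⟨N, hN⟩ : ∃ N, Nat.card G = N := ⟨_, rfl⟩
  induction N using Nat.strong_induction_on generalizing G with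
  | _ N ih =>
  rw [← Subgroup.commutator_eq_bot_iff_le_centralizer, Subgroup.commutator_comm]
  by_contra hnt
  have hBn : P ⊔ Q ≤ Subgroup.normalizer (Q : Set X) := sup_le hPQ Subgroup.le_normalizer
  have hBG : P ⊔ Q ≤ Subgroup.normalizer (G : Set X) := sup_le hPG hQG
  have hmin : ∀ U : Subgroup X, U < G → P ⊔ Q ≤ Subgroup.normalizer (U : Set X) → ⁅U, Q⁆ = ⊥ := by
    intro U hU hUn
    have h := ih (Nat.card U) (hN ▸ lt_of_le_of_ne (Subgroup.card_le_of_le hU.le)
      (fun h => hU.ne (Subgroup.eq_of_le_of_card_ge hU.le h.ge))) U (hG.to_le hU.le)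
      (le_sup_left.trans hUn) (le_sup_right.trans hUn) ((inf_le_inf_right _ hU.le).trans hC) rfl
    rw [Subgroup.commutator_comm]; exact Subgroup.commutator_eq_bot_iff_le_centralizer.2 h
  obtain ⟨hGQ, hCQ, hstr, -, hexp⟩ := H71.minimal_action (P ⊔ Q) Q G hG hBG le_sup_right hBn hQ hnt hmin
  have hexp' : ∀ x : G, x ^ p = 1 := fun x => Subtype.ext (by simpa using hexp hp x x.2)
  have hcen : ∀ x y : G, ⁅x, y⁆ ∈ Subgroup.center G := by
    intro x y
    rcases hstr with h | h
    · rw [Subgroup.mem_center_iff]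
      exact fun g => h.1.is_comm.comm g _
    · rw [← h.2.2]
      exact Subgroup.commutator_mem_commutator (Subgroup.mem_top x) (Subgroup.mem_top y)
  let φ : Subgroup.normalizer (G : Set X) →* MulAut G := G.normalizerMonoidHom
  let P' := (P.subgroupOf (Subgroup.normalizer (G : Set X))).map φ
  let Q' := (Q.subgroupOf (Subgroup.normalizer (G : Set X))).map φ
  have hP' : IsPGroup p P' := (hP.comap_of_injective _ (Subgroup.subtype_injective _)).map _
  have hQ' : (Nat.card Q').Coprime p := by
    refine hQ.coprime_dvd_left ((Subgroup.card_map_dvd _ _).trans ?_)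
    rw [Nat.card_congr (Subgroup.subgroupOfEquivOfLe hQG).toEquiv]
  have hPQ' : P' ≤ Subgroup.normalizer (Q' : Set (MulAut G)) := by
    refine le_trans (Subgroup.map_mono ?_) (Subgroup.le_normalizer_map φ)
    intro x hx
    rw [Subgroup.mem_normalizer_iff]
    intro y
    exact Subgroup.mem_normalizer_iff.1 (hPQ hx) y
  obtain ⟨x, hxP, q', hq', hxq⟩ := H71.exists_fixed_not_fixed
    ((Fact.out : p.Prime).odd_of_ne_two hp) hG hexp' hcen P' Q' hP' hQ' hPQ' (by
    by_contra h
    push Not at h
    apply hnt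
    rw [eq_bot_iff, Subgroup.commutator_le]
    intro g hg q hq
    have := congrArg Subtype.val (h (φ ⟨q, hQG hq⟩) ⟨⟨q, hQG hq⟩, hq, rfl⟩ ⟨g, hg⟩)
    change q * g * q⁻¹ = g at this
    rw [Subgroup.mem_bot, commutatorElement_eq_one_iff_mul_comm]
    exact (mul_inv_eq_iff_eq_mul.1 this).symm)
  obtain ⟨⟨q, hqn⟩, hq, rfl⟩ := hq'
  apply hxq
  apply Subtype.ext
  show q * (x : X) * q⁻¹ = x
  rw [mul_inv_eq_iff_eq_mul]
  refine Subgroup.mem_centralizer_iff.1 (hC ⟨x.2, Subgroup.mem_centralizer_iff.2 fun b hb => ?_⟩) q hq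
  have := congrArg Subtype.val (hxP (φ ⟨b, hPG hb⟩) ⟨⟨b, hPG hb⟩, hb, rfl⟩)
  change b * (x : X) * b⁻¹ = x at this
  exact mul_inv_eq_iff_eq_mul.1 this

end Cfsg.Agent.S3737
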