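import Cfsg.Statements.S3738
import Cfsg.Agent.H71.MinimalAction
import Cfsg.Agent.H71.DegreeTwo
import Cfsg.Agent.PGroups.Critical

set_option autoImplicit false
open Cfsg

namespace Cfsg.Agent.S3738

open Subgroup
open scoped commutatorElement

variable {X : Type*} [Group X]

/-- A central elementary abelian subgroup extended by an element of square one. -/
private theorem sup_zpowers_spec {H : Type*} [Group H] [Finite H] {M' : Subgroup H} (hc : M' ≤ center H)
    (hM2 : ∀ m ∈ M', m ^ 2 = 1) {x : H} (hx : x ∉ M') (hx2 : x ^ 2 = 1) :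
    IsMulCommutative (M' ⊔ zpowers x : Subgroup H) ∧ (∀ e ∈ M' ⊔ zpowers x, e ^ 2 = 1) ∧
      2 * Nat.card M' ≤ Nat.card (M' ⊔ zpowers x : Subgroup H) := by
  set E := M' ⊔ zpowers x with hE
  have hEx : E ≤ centralizer ({x} : Set H) := by
    refine sup_le (fun m hm => ?_) (zpowers_le.2 (mem_centralizer_iff.2 (by simp)))
    exact mem_centralizer_iff.2 (by rintro _ rfl; exact mem_center_iff.1 (hc hm) _)
  have hxE : zpowers x ≤ centralizer (E : Set H) := zpowers_le.2 (mem_centralizer_iff.2 fun y hy =>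
    (mem_centralizer_iff.1 (hEx hy) x rfl).symm)
  have hEc : E ≤ centralizer (E : Set H) :=
    sup_le (fun m hm => mem_centralizer_iff.2 fun y _ => mem_center_iff.1 (hc hm) y) hxE
  refine ⟨⟨⟨fun a b => Subtype.ext (mem_centralizer_iff.1 (hEc b.2) a a.2)⟩⟩, ?_, ?_⟩
  · haveI : M'.Normal := Subgroup.Normal.mk fun m hm g => by
      rw [mem_center_iff.1 (hc hm) g, mul_inv_cancel_right]; exact hm
    intro e he
    obtain ⟨m, hm, y, hy, rfl⟩ := Subgroup.mem_sup_of_normal_left.1 he
    obtain ⟨i, rfl⟩ := mem_zpowers_iff.1 hy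
    rw [Commute.mul_pow (mem_center_iff.1 (hc hm) _).symm, hM2 m hm, one_mul, ← zpow_natCast,
      ← zpow_mul, mul_comm, zpow_mul, zpow_natCast, hx2, one_zpow]
  · obtain ⟨c, hc'⟩ := Subgroup.card_dvd_of_le (le_sup_left : M' ≤ E)
    have hne : Nat.card M' ≠ Nat.card E := fun h => hx
      (eq_of_le_of_card_ge le_sup_left h.ge ▸ mem_sup_right (mem_zpowers x) :)
    have hlt : Nat.card M' < Nat.card E :=
      lt_of_le_of_ne (Subgroup.card_le_of_le le_sup_left) hne
    have hc1 : 1 < c := by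
      by_contra h
      push Not at h
      rw [hc'] at hlt
      exact absurd hlt (not_lt.2 (Nat.mul_le_mul_left (Nat.card M') h |>.trans (mul_one _).le))
    rw [hc', mul_comm 2]
    exact Nat.mul_le_mul_left _ hc1

/-- Images of elementary abelian subgroups. -/
private theorem elementary_map {H : Type*} [Group H] (φ : H →* X) (hφ : Function.Injective φ)
    {E : Subgroup H} (hab : IsMulCommutative E) (hsq : ∀ e ∈ E, e ^ 2 = 1) :
    Cfsg.IsElementaryAbelian 2 (E.map φ) ∧ Nat.card (E.map φ) = Nat.card E := by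
  refine ⟨⟨⟨⟨?_⟩⟩, ?_⟩, (Nat.card_congr (E.equivMapOfInjective φ hφ).toEquiv).symm⟩
  · rintro ⟨_, a, ha, rfl⟩ ⟨_, b, hb, rfl⟩
    apply Subtype.ext
    show φ a * φ b = φ b * φ a
    rw [← map_mul, ← map_mul]
    exact congrArg φ (congrArg Subtype.val (hab.is_comm.comm ⟨a, ha⟩ ⟨b, hb⟩) :)
  · rintro _ ⟨a, ha, rfl⟩
    rw [← map_pow, hsq a ha, map_one]


/-- Let d be a non-identity 3-element of a finite group and P a 2-subgroup normalized by d on which ⟨d⟩ acts faithfully (no non-identity power of d centralizes P) and without non-identity fixed points (C_P(d) = 1). If every abelian subgroup of P has 2-rank at most 2, then d has order 3. -/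
theorem result {X : Type*} [Group X] [Finite X] (d : X) (n : ℕ) (hn : 1 ≤ n) (hd : orderOf d = 3 ^ n) (P : Subgroup X) (hP : IsPGroup 2 P) (hdP : d ∈ Subgroup.normalizer (P : Set X)) (hfaith : Subgroup.zpowers d ⊓ Subgroup.centralizer (P : Set X) = ⊥) (hfpf : P ⊓ Subgroup.centralizer {d} = ⊥) (hrank : ∀ V : Subgroup X, V ≤ P → IsMulCommutative V → Cfsg.PRankLE 2 2 V) : orderOf d = 3 := by
  classical
  by_contra hne
  have hn2 : 2 ≤ n := by
    by_contra h
    exact hne (by rw [hd, show n = 1 by omega, pow_one])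
  haveI : Fact (Nat.Prime 2) := ⟨Nat.prime_two⟩
  have hbound : ∀ E : Subgroup X, E ≤ P → Cfsg.IsElementaryAbelian 2 E → Nat.card E ≤ 4 := by
    intro E hE hEl
    haveI := hEl.1
    have := hrank E hE hEl.1 ⊤ inferInstance (fun a _ => Subtype.ext (by simpa using hEl.2 a a.2))
    simpa [Subgroup.card_top] using this
  set z := d ^ 3 ^ (n - 1) with hz
  have hzo : orderOf z = 3 := by
    rw [hz, orderOf_pow, hd, Nat.gcd_eq_right (pow_dvd_pow 3 (by omega)), Nat.pow_div (by omega) (by norm_num),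
      show n - (n - 1) = 1 by omega, pow_one]
  set D := Subgroup.zpowers d with hD
  set A := Subgroup.zpowers z with hA
  have hAD : A ≤ D := Subgroup.zpowers_le.2 (Subgroup.pow_mem _ (Subgroup.mem_zpowers d) _)
  have hDA : D ≤ Subgroup.normalizer (A : Set X) := by
    refine le_trans ?_ (Subgroup.centralizer_le_normalizer _)
    rw [hD, Subgroup.zpowers_le, Subgroup.mem_centralizer_iff]
    intro y hy
    obtain ⟨i, rfl⟩ := Subgroup.mem_zpowers_iff.1 hy
    exact (((Commute.refl d).pow_left _).zpow_left i).eq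
  have hAP : ⁅P, A⁆ ≠ ⊥ := by
    intro h
    rw [Subgroup.commutator_comm, Subgroup.commutator_eq_bot_iff_le_centralizer] at h
    have hz1 : z ∈ D ⊓ Subgroup.centralizer (P : Set X) := ⟨hAD (Subgroup.mem_zpowers z), h (Subgroup.mem_zpowers z)⟩
    rw [hfaith, Subgroup.mem_bot] at hz1
    simp [hz1] at hzo
  obtain ⟨U, ⟨hUP, hDU, hUne⟩, hUmin⟩ := (Set.toFinite {U : Subgroup X | U ≤ P ∧
    D ≤ Subgroup.normalizer (U : Set X) ∧ ⁅U, A⁆ ≠ ⊥}).exists_minimal
      ⟨P, le_rfl, Subgroup.zpowers_le.2 hdP, hAP⟩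
  have hU2 : IsPGroup 2 U := hP.to_le hUP
  obtain ⟨-, hCΦ, hstr, -, -⟩ := H71.minimal_action D A U hU2 hDU hAD hDA
    (by rw [Nat.card_zpowers, hzo]; decide) hUne (fun W hW hWn => by
      by_contra h
      exact hW.not_ge (hUmin ⟨hW.le.trans hUP, hWn, h⟩ hW.le))
  set Φ := frattini ↥U with hΦ
  have hΦ2 : Φ ≤ Subgroup.center U ∧ ∀ m ∈ Φ, m ^ 2 = 1 := by
    rcases hstr with h | h
    · refine ⟨fun m _ => Subgroup.mem_center_iff.2 fun g => h.1.is_comm.comm g m, fun m _ => Subtype.ext ?_⟩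
      simpa using h.2 m m.2
    · refine ⟨h.2.1.le, ?_⟩
      have hpow : ∀ a b : U, ⁅a, b⁆ ^ 2 = 1 := fun a b => by
        have hc : ⁅a, b⁆ ∈ Subgroup.center U := by
          rw [← h.2.2]; exact Subgroup.commutator_mem_commutator (Subgroup.mem_top a) (Subgroup.mem_top b)
        rw [← PGroups.commutatorElement_pow_left_of_mem_center hc, commutatorElement_eq_one_iff_mul_comm]
        have : a ^ 2 ∈ Subgroup.center U := h.2.1 ▸ PGroups.pow_mem_frattini hU2 a
        exact (Subgroup.mem_center_iff.1 this b).symm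
      intro m hm
      rw [hΦ, h.2.1, ← h.2.2, commutator_eq_closure] at hm
      induction hm using Subgroup.closure_induction'' with
      | one => exact one_pow 2
      | mem x hx => obtain ⟨a, b, rfl⟩ := hx; exact hpow a b
      | inv_mem x hx =>
        obtain ⟨a, b, rfl⟩ := hx
        rw [inv_pow, hpow a b, inv_one]
      | mul x y hxc hyc hx hy =>
        have hcx : x ∈ Subgroup.center U := by
          rw [← h.2.2, commutator_eq_closure]; exact hxc
        rw [Commute.mul_pow (Subgroup.mem_center_iff.1 hcx y).symm, hx, hy, one_mul]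
  have hΦcard : Nat.card Φ ≤ 4 := by
    rw [Nat.card_congr (Φ.equivMapOfInjective _ U.subtype_injective).toEquiv]
    refine hbound _ ((Subgroup.map_subtype_le _).trans hUP)
      (elementary_map U.subtype U.subtype_injective ?_ hΦ2.2).1
    exact ⟨⟨fun a b => Subtype.ext (Subgroup.mem_center_iff.1 (hΦ2.1 b.2) a)⟩⟩
  obtain ⟨u, hu⟩ := IsPGroup.iff_card.1 hU2
  obtain ⟨f, hf⟩ := IsPGroup.iff_card.1 (hU2.to_subgroup Φ)
  have hf2 : f ≤ 2 := (Nat.pow_le_pow_iff_right (show 1 < 2 by norm_num)).1 (by rw [← hf]; simpa using hΦcard)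
  -- `⟨d⟩` acts freely on `U \ Φ`
  have hfree : 3 ^ n ∣ 2 ^ u - 2 ^ f := by
    let act : MulAction D {x : U // x ∉ Φ} :=
      { smul := fun g x => ⟨U.normalizerMonoidHom ⟨g, hDU g.2⟩ x.1, fun h => x.2
          ((PGroups.apply_mem_iff_of_characteristic (inferInstance) _).1 h)⟩
        one_smul := fun x => Subtype.ext (Subtype.ext (by
          show (1 : X) * (x.1 : X) * (1 : X)⁻¹ = x.1; simp))
        mul_smul := fun a b x => Subtype.ext (Subtype.ext (by
          show (a * b : X) * (x.1 : X) * (a * b : X)⁻¹ = a * (b * x.1 * (b : X)⁻¹) * (a : X)⁻¹; group)) }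
    letI := act
    have hstab : ∀ x : {x : U // x ∉ Φ}, MulAction.stabilizer D x = ⊥ := by
      intro x
      rw [eq_bot_iff]
      intro g hg
      by_contra hg1
      apply x.2
      have h := congrArg (fun y : {x : U // x ∉ Φ} => ((y.1 : U) : X)) (MulAction.mem_stabilizer_iff.1 hg)
      change (g : X) * (x.1 : X) * (g : X)⁻¹ = x.1 at h
      have hzg : z ∈ Subgroup.zpowers (g : X) := by
        obtain ⟨k, hk⟩ := Submonoid.mem_powers_iff _ _ |>.1 (mem_powers_iff_mem_zpowers.2 g.2)
        have hk3 : ¬ 3 ^ n ∣ k := by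
          rintro ⟨c, rfl⟩
          apply hg1
          rw [Subgroup.mem_bot]
          ext
          rw [← hk, pow_mul, ← hd, pow_orderOf_eq_one, one_pow]; rfl
        obtain ⟨i, m, hm, hkm⟩ := Nat.exists_eq_pow_mul_and_not_dvd
          (n := k) (fun h => hk3 (h ▸ dvd_zero _)) 3 (by norm_num)
        have hi : i < n := by
          by_contra hi
          exact hk3 (hkm ▸ Dvd.dvd.mul_right (pow_dvd_pow 3 (by omega)) m)
        have hcop : m.Coprime (orderOf (d ^ 3 ^ i)) := by
          rw [orderOf_pow, hd, Nat.gcd_eq_right (pow_dvd_pow 3 hi.le), Nat.pow_div hi.le (by norm_num)]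
          exact Nat.Coprime.pow_right _ ((Nat.prime_three.coprime_iff_not_dvd).2 hm).symm
        obtain ⟨s, hs⟩ := exists_pow_eq_self_of_coprime hcop
        rw [← pow_mul (d) (3 ^ i) m, ← hkm, hk] at hs
        refine Subgroup.mem_zpowers_iff.2 ⟨((s * 3 ^ (n - 1 - i) : ℕ) : ℤ), ?_⟩
        rw [zpow_natCast, pow_mul, hs, hz, ← pow_mul]
        congr 1
        rw [← pow_add]; congr 1; omega
      have hcz : (x.1 : X) ∈ U ⊓ Subgroup.centralizer (A : Set X) := by
        refine ⟨x.1.2, Subgroup.mem_centralizer_iff.2 fun y hy => ?_⟩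
        obtain ⟨i, hi⟩ := Subgroup.mem_zpowers_iff.1 (Subgroup.zpowers_le.2 hzg hy)
        rw [← hi]
        exact ((show Commute (g : X) x.1 from mul_inv_eq_iff_eq_mul.1 h).zpow_left i).eq
      rw [hCΦ] at hcz
      obtain ⟨y, hy, hyx⟩ := hcz
      rwa [← Subtype.ext hyx]
    letI := Fintype.ofFinite (Quotient (MulAction.orbitRel D {x : U // x ∉ Φ}))
    have hsum : Nat.card {x : U // x ∉ Φ} =
        ∑ ω : Quotient (MulAction.orbitRel D {x : U // x ∉ Φ}), Nat.card (MulAction.orbitRel.Quotient.orbit ω) := by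
      rw [← Nat.card_sigma]
      exact Nat.card_congr (MulAction.selfEquivSigmaOrbits' D _)
    have hcard : Nat.card {x : U // x ∉ Φ} = 2 ^ u - 2 ^ f := by
      letI := Fintype.ofFinite U
      rw [← hu, ← hf, Nat.card_eq_fintype_card, Fintype.card_subtype_compl, Nat.card_eq_fintype_card,
        Nat.card_eq_fintype_card]
    rw [← hcard, hsum]
    refine Finset.dvd_sum fun ω _ => ?_
    induction ω using Quotient.inductionOn with
    | h x =>
      rw [MulAction.orbitRel.Quotient.orbit_mk, Nat.card_coe_set_eq, ← MulAction.index_stabilizer, hstab,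
        Subgroup.index_bot, Nat.card_zpowers, hd]
  have hfu : f ≤ u := (Nat.pow_le_pow_iff_right (show 1 < 2 by norm_num)).1 (hu ▸ hf ▸ Subgroup.card_le_card_group Φ)
  have hne' : f ≠ u := fun h => by
    apply hUne
    have htop : Φ = ⊤ := Subgroup.eq_top_of_card_eq _ (by rw [hf, hu, h])
    have hle : U ≤ Φ.map U.subtype := fun x hx => ⟨⟨x, hx⟩, htop ▸ Subgroup.mem_top _, rfl⟩
    rw [← hCΦ] at hle
    exact Subgroup.commutator_eq_bot_iff_le_centralizer.2 (hle.trans inf_le_right)
  have hm6 : 6 ≤ u - f := by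
    have h9 : 9 ∣ 2 ^ f * (2 ^ (u - f) - 1) := by
      rw [Nat.mul_sub, ← pow_add, mul_one, show f + (u - f) = u by omega]
      exact dvd_trans (show 9 ∣ 3 ^ n by rw [show (9 : ℕ) = 3 ^ 2 by norm_num]; exact pow_dvd_pow 3 hn2) hfree
    have h9' : 9 ∣ 2 ^ (u - f) - 1 :=
      (Nat.Coprime.pow_right f (by decide : Nat.Coprime 9 2)).dvd_of_dvd_mul_left h9
    by_contra h
    have : u - f ≠ 0 := by omega
    generalize hm : u - f = m at *
    have hm6 : m < 6 := by omega
    interval_cases m <;> omega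
  have hsq : ∀ x : U, x ^ 2 ∈ Φ := fun x => PGroups.pow_mem_frattini hU2 x
  have hcl : ∀ a b : U, ⁅a, b⁆ ∈ Φ := fun a b =>
    PGroups.commutator_le_frattini hU2 (Subgroup.commutator_mem_commutator (Subgroup.mem_top a) (Subgroup.mem_top b))
  have hf0 : f ≠ 0 := by
    intro h0
    rw [h0, pow_zero] at hf
    have hbot : Φ = ⊥ := Subgroup.card_eq_one.1 hf
    have hu4 : Nat.card U ≤ 4 := by
      refine hbound U hUP ⟨⟨⟨fun a b => ?_⟩⟩, fun a ha => ?_⟩
      · have h := hcl a b
        rw [hbot, Subgroup.mem_bot] at h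
        exact commutatorElement_eq_one_iff_mul_comm.1 h
      · have h := hsq ⟨a, ha⟩
        rw [hbot, Subgroup.mem_bot] at h
        simpa using congrArg Subtype.val h
    rw [hu] at hu4
    have := Nat.pow_le_pow_right (show 0 < 2 by norm_num) (show 6 ≤ u by omega)
    omega
  have hsmall : 2 ^ (2 * f) * 2 ^ 2 < 2 ^ (u - 1) := by
    rw [← pow_add]
    exact Nat.pow_lt_pow_right (by norm_num) (by omega)
  have hΦle : 2 ^ (2 * f) * Nat.card Φ ≤ 2 ^ (2 * f) * 2 ^ 2 := Nat.mul_le_mul_left _ (by simpa using hΦcard)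
  obtain ⟨x, hx, hx2⟩ := H71.exists_sq_eq_one_notMem (G := ↥U) (M := Φ) (M' := Φ) le_rfl hΦ2.1 hsq hΦ2.2
    (j := f) hf.le (by
      rw [hu]
      exact (hΦle.trans_lt hsmall).trans_le (Nat.pow_le_pow_right (by norm_num) (by omega)))
  obtain ⟨hEab, hEsq, hEcard⟩ := sup_zpowers_spec hΦ2.1 hΦ2.2 hx hx2
  set E := Φ ⊔ Subgroup.zpowers x with hE
  have hE4 : Nat.card E ≤ 4 := by
    obtain ⟨h1, h2⟩ := elementary_map U.subtype U.subtype_injective hEab hEsq
    rw [← h2]
    exact hbound _ ((Subgroup.map_subtype_le _).trans hUP) h1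
  have hf1 : f = 1 := by
    by_contra h
    rw [hf, show f = 2 by omega] at hEcard
    omega
  -- the centralizer of `x` has index at most two
  set C := Subgroup.centralizer ({x} : Set U) with hC
  have hEC : E ≤ C := by
    refine sup_le (fun m hm => ?_) (Subgroup.zpowers_le.2 (Subgroup.mem_centralizer_iff.2 (by simp)))
    exact Subgroup.mem_centralizer_iff.2 (by rintro _ rfl; exact Subgroup.mem_center_iff.1 (hΦ2.1 hm) _)
  have hCidx : C.index ≤ 2 ^ f := by
    rw [Subgroup.index_eq_card, ← hf]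
    refine Nat.card_le_card_of_injective (fun q => (⟨⁅q.out, x⁆, hcl _ _⟩ : Φ)) fun q q' h => ?_
    rw [← QuotientGroup.out_eq' q, ← QuotientGroup.out_eq' q', QuotientGroup.eq]
    refine Subgroup.mem_centralizer_iff.2 fun w hw => ?_
    rw [Set.mem_singleton_iff] at hw
    subst hw
    refine (commutatorElement_eq_one_iff_mul_comm.1 ?_).symm
    have h' : ⁅q.out, w⁆ = ⁅q'.out, w⁆ := congrArg Subtype.val h
    rw [PGroups.commutatorElement_mul_left_of_mem_center (hΦ2.1 (hcl _ _)), ← h',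
      ← PGroups.commutatorElement_mul_left_of_mem_center (hΦ2.1 (hcl _ _)), inv_mul_cancel,
      commutatorElement_one_left]
  have hEZ : E.subgroupOf C ≤ Subgroup.center C := by
    intro m hm
    rw [Subgroup.mem_center_iff]
    intro g
    apply Subtype.ext
    have hgle : E ≤ Subgroup.centralizer ({(g : U)} : Set U) := by
      refine sup_le (fun a ha => ?_) (Subgroup.zpowers_le.2 ?_)
      · exact Subgroup.mem_centralizer_iff.2 (by rintro _ rfl; exact Subgroup.mem_center_iff.1 (hΦ2.1 ha) _)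
      · exact Subgroup.mem_centralizer_iff.2 (by
          rintro _ rfl; exact (Subgroup.mem_centralizer_iff.1 g.2 x rfl).symm)
    exact Subgroup.mem_centralizer_iff.1 (hgle (Subgroup.mem_subgroupOf.1 hm)) (g : U) rfl
  have hEcardC : Nat.card (E.subgroupOf C) = Nat.card E :=
    Nat.card_congr (Subgroup.subgroupOfEquivOfLe hEC).toEquiv
  obtain ⟨y, hy, hy2⟩ := H71.exists_sq_eq_one_notMem (G := ↥C) (M := Φ.subgroupOf C) (M' := E.subgroupOf C)
    (Subgroup.comap_mono le_sup_left) hEZ
    (fun c => Subgroup.mem_subgroupOf.2 (hsq c)) (fun m hm => Subtype.ext (hEsq _ hm)) (j := f)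
    (le_of_eq ((Nat.card_congr (Subgroup.subgroupOfEquivOfLe (le_sup_left.trans hEC)).toEquiv).trans hf)) (by
      rw [hEcardC]
      have h1 := C.index_mul_card
      rw [hu] at h1
      have h2 : 2 ^ u ≤ 2 * Nat.card C := by
        rw [← h1]; exact Nat.mul_le_mul_right _ (hCidx.trans (by rw [hf1, pow_one]))
      have h4 : (2 : ℕ) ^ u = 2 * 2 ^ (u - 1) := by rw [← pow_succ', show u - 1 + 1 = u by omega]
      have h5 : 2 ^ (2 * f) * Nat.card E ≤ 2 ^ (2 * f) * 2 ^ 2 := Nat.mul_le_mul_left _ (by simpa using hE4)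
      omega)
  obtain ⟨hTab, hTsq, hTcard⟩ := sup_zpowers_spec hEZ (fun m hm => Subtype.ext (hEsq _ hm)) hy hy2
  obtain ⟨h1, h2⟩ := elementary_map (U.subtype.comp C.subtype)
    (U.subtype_injective.comp C.subtype_injective) hTab hTsq
  have h8 := hbound _ (fun w hw => by obtain ⟨a, -, rfl⟩ := hw; exact hUP (a : U).2) h1
  rw [h2] at h8
  rw [hEcardC] at hTcard
  rw [hf, hf1] at hEcard
  omega

end Cfsg.Agent.S3738
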