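import Cfsg.Statements.S3739
import Cfsg.Agent.S3738
import Cfsg.Agent.Cores.PCore
import Cfsg.Agent.Coprime.Generation
import Cfsg.Agent.Coprime.Abelian

set_option autoImplicit false
open Cfsg

namespace Cfsg.Agent.S3739

open Subgroup

variable {G : Type*} [Group G]

/-- Adjoin an element of square one. -/
private theorem elementary_sup [Finite G] {E : Subgroup G} (hE : Cfsg.IsElementaryAbelian 2 E) {u : G}
    (hu : u ^ 2 = 1) (hcomm : ∀ e ∈ E, Commute u e) (huE : u ∉ E) :
    ∃ E' : Subgroup G, Cfsg.IsElementaryAbelian 2 E' ∧ 2 * Nat.card E ≤ Nat.card E' := by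
  set E' := E ⊔ zpowers u with hE'
  have hEE : ∀ a ∈ E, ∀ b ∈ E, Commute a b := fun a ha b hb =>
    congrArg Subtype.val (hE.1.is_comm.comm (⟨a, ha⟩ : E) ⟨b, hb⟩)
  have hu' : u ∈ centralizer (E' : Set G) := by
    have h : E' ≤ centralizer ({u} : Set G) := by
      refine sup_le (fun a ha => mem_centralizer_iff.2 ?_) (zpowers_le.2 (mem_centralizer_iff.2 (by simp)))
      rintro _ rfl; exact hcomm a ha
    exact mem_centralizer_iff.2 fun y hy => (mem_centralizer_iff.1 (h hy) u rfl).symm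
  have hE1 : E ≤ centralizer (E' : Set G) := by
    intro a ha
    have h : E' ≤ centralizer ({a} : Set G) := by
      refine sup_le (fun b hb => mem_centralizer_iff.2 ?_) (zpowers_le.2 (mem_centralizer_iff.2 ?_))
      · rintro _ rfl; exact hEE _ ha b hb
      · rintro _ rfl; exact (hcomm _ ha).symm
    exact mem_centralizer_iff.2 fun y hy => (mem_centralizer_iff.1 (h hy) a rfl).symm
  have hc : E' ≤ centralizer (E' : Set G) := sup_le hE1 (zpowers_le.2 hu')
  have hab : IsMulCommutative E' := ⟨⟨fun a b => Subtype.ext (mem_centralizer_iff.1 (hc b.2) a a.2)⟩⟩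
  refine ⟨E', ⟨hab, ?_⟩, ?_⟩
  · intro a ha
    have hle : E' ≤ ({ carrier := {x | x ∈ E' ∧ x ^ 2 = 1}
                       one_mem' := ⟨one_mem _, one_pow 2⟩
                       mul_mem' := fun {x y} hx hy => ⟨mul_mem hx.1 hy.1, by
                         rw [Commute.mul_pow (mem_centralizer_iff.1 (hc hy.1) x hx.1), hx.2, hy.2, one_mul]⟩
                       inv_mem' := fun {x} hx => ⟨inv_mem hx.1, by rw [inv_pow, hx.2, inv_one]⟩ } : Subgroup G) :=
      sup_le (fun x hx => ⟨mem_sup_left hx, hE.2 x hx⟩)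
        (zpowers_le.2 ⟨mem_sup_right (mem_zpowers u), hu⟩)
    exact (hle ha).2
  · obtain ⟨c, hc'⟩ := card_dvd_of_le (le_sup_left : E ≤ E')
    have hne : Nat.card E ≠ Nat.card E' := fun h => huE
      (eq_of_le_of_card_ge le_sup_left h.ge ▸ mem_sup_right (mem_zpowers u) :)
    have hlt : Nat.card E < Nat.card E' := lt_of_le_of_ne (card_le_of_le le_sup_left) hne
    have hc1 : 1 < c := by
      by_contra h
      push Not at h
      rw [hc'] at hlt
      exact absurd hlt (not_lt.2 ((Nat.mul_le_mul_left (Nat.card E) h).trans (mul_one _).le))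
    rw [hc', mul_comm 2]
    exact Nat.mul_le_mul_left _ hc1


/-- Let G be a finite group with C_G(O₂(G)) ≤ O₂(G) containing an element of order 6, and let d be a non-identity 3-element of G normalizing a nontrivial elementary abelian 2-subgroup W with C_W(d) = 1. Then G has an elementary abelian subgroup of order 8. -/
theorem result {G : Type*} [Group G] [Finite G] (hchar : Subgroup.centralizer (Cfsg.pCore 2 G : Set G) ≤ Cfsg.pCore 2 G) (hsix : ∃ g : G, orderOf g = 6) (d : G) (hd1 : d ≠ 1) (hd : IsPGroup 3 ↥(Subgroup.zpowers d)) (W : Subgroup G) (hW : Cfsg.IsElementaryAbelian 2 W) (hW1 : W ≠ ⊥) (hdW : d ∈ Subgroup.normalizer (W : Set G)) (hfpf : W ⊓ Subgroup.centralizer {d} = ⊥) : ∃ E : Subgroup G, Cfsg.IsElementaryAbelian 2 E ∧ Nat.card E = 8 := by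
  classical
  by_contra hno
  push Not at hno
  haveI : Fact (Nat.Prime 2) := ⟨Nat.prime_two⟩
  haveI : Fact (Nat.Prime 3) := ⟨Nat.prime_three⟩
  have h2grp : ∀ E : Subgroup G, Cfsg.IsElementaryAbelian 2 E → IsPGroup 2 E := fun E hE a =>
    ⟨1, Subtype.ext (by simpa using hE.2 a a.2)⟩
  have hbound : ∀ E : Subgroup G, Cfsg.IsElementaryAbelian 2 E → Nat.card E ≤ 4 := by
    intro E hE
    obtain ⟨k, hk⟩ := IsPGroup.iff_card.1 (h2grp E hE)
    by_contra h
    push Not at h
    rw [hk] at h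
    have hk3 : 3 ≤ k := by
      by_contra h3
      have := Nat.pow_le_pow_right (show 0 < 2 by norm_num) (show k ≤ 2 by omega)
      omega
    obtain ⟨E₀, hE₀⟩ := Sylow.exists_subgroup_card_pow_prime (G := E) 2 (n := 3) (hk ▸ pow_dvd_pow 2 hk3)
    refine hno (E₀.map E.subtype) ⟨⟨⟨?_⟩⟩, ?_⟩ ?_
    · rintro ⟨_, a, -, rfl⟩ ⟨_, b, -, rfl⟩
      exact Subtype.ext (congrArg Subtype.val (hE.1.is_comm.comm a b) :)
    · rintro _ ⟨a, -, rfl⟩; exact hE.2 a a.2
    · rw [← Nat.card_congr (E₀.equivMapOfInjective _ E.subtype_injective).toEquiv, hE₀]; norm_num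
  have hmax : ∀ E : Subgroup G, Cfsg.IsElementaryAbelian 2 E → Nat.card E = 4 →
      ∀ u : G, u ^ 2 = 1 → (∀ e ∈ E, Commute u e) → u ∈ E := by
    intro E hE hc u hu hcomm
    by_contra huE
    obtain ⟨E', hE', hge⟩ := elementary_sup hE hu hcomm huE
    have := hbound E' hE'
    omega
  haveI := hW.1
  have hWfix : ∀ w ∈ W, d * w * d⁻¹ = w → w = 1 := fun w hw h => by
    have : w ∈ W ⊓ Subgroup.centralizer {d} :=
      ⟨hw, Subgroup.mem_centralizer_iff.2 (by rintro _ rfl; exact mul_inv_eq_iff_eq_mul.1 h)⟩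
    rwa [hfpf, Subgroup.mem_bot] at this
  have hsub : ∀ T : Subgroup G, T ≤ W → d ∈ Subgroup.normalizer (T : Set G) → T ≠ ⊥ → Nat.card T = 4 := by
    intro T hT hdT hT0
    have hTel : Cfsg.IsElementaryAbelian 2 T :=
      ⟨⟨⟨fun a b => Subtype.ext (congrArg Subtype.val (hW.1.is_comm.comm (⟨a, hT a.2⟩ : W) ⟨b, hT b.2⟩) :)⟩⟩,
        fun a ha => hW.2 a (hT ha)⟩
    obtain ⟨k, hk⟩ := IsPGroup.iff_card.1 (h2grp T hTel)
    have h4 := hbound T hTel
    rw [hk] at h4 ⊢
    have hk2 : k ≤ 2 := (Nat.pow_le_pow_iff_right (show 1 < 2 by norm_num)).1 (by simpa using h4)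
    have hk1 : k ≠ 1 := fun h1 => by
      obtain ⟨w, hw, hw1⟩ := (Subgroup.bot_or_exists_ne_one T).resolve_left hT0
      apply hw1
      refine hWfix w (hT hw) ?_
      have hz : Subgroup.zpowers (⟨w, hw⟩ : T) = ⊤ :=
        zpowers_eq_top_of_prime_card (p := 2) (by rw [hk, h1, pow_one]) (fun h => hw1 (congrArg Subtype.val h))
      obtain ⟨i, hi⟩ := Subgroup.mem_zpowers_iff.1
        (hz ▸ Subgroup.mem_top (⟨_, (Subgroup.mem_normalizer_iff.1 hdT w).1 hw⟩ : T))
      have hi' : w ^ i = d * w * d⁻¹ := congrArg Subtype.val hi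
      have hw2 : w ^ (2 : ℤ) = 1 := by
        rw [show (2 : ℤ) = ((2 : ℕ) : ℤ) from rfl, zpow_natCast]; exact hW.2 w (hT hw)
      rcases Int.even_or_odd' i with ⟨q, rfl | rfl⟩
      · rw [zpow_mul, hw2, one_zpow] at hi'
        exact absurd (conj_eq_one_iff.1 hi'.symm) hw1
      · rw [zpow_add, zpow_mul, hw2, one_zpow, one_mul, zpow_one] at hi'
        exact hi'.symm
    have hk0 : k ≠ 0 := fun h => hT0 (Subgroup.card_eq_one.1 (by rw [hk, h, pow_zero]))
    rw [show k = 2 by omega]; norm_num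
  have hW4 : Nat.card W = 4 := hsub W le_rfl hdW hW1
  set P := Cfsg.pCore 2 G with hP
  have hP2 : IsPGroup 2 P := Cores.pCore_isPGroup
  have hP0 : P ≠ ⊥ := by
    intro h
    rw [h] at hchar
    obtain ⟨g, hg⟩ := hsix
    have hgb : g ∈ (⊥ : Subgroup G) := hchar (Subgroup.mem_centralizer_iff.2 fun y hy => by
      rw [Subgroup.mem_bot.1 hy]; simp)
    rw [Subgroup.mem_bot.1 hgb, orderOf_one] at hg
    omega
  -- `Ω₁(Z(P))`
  let Z0 : Subgroup G :=
    { carrier := {u | u ∈ P ∧ u ∈ Subgroup.centralizer (P : Set G) ∧ u ^ 2 = 1}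
      one_mem' := ⟨one_mem _, one_mem _, one_pow 2⟩
      mul_mem' := fun {a b} ha hb => ⟨mul_mem ha.1 hb.1, mul_mem ha.2.1 hb.2.1, by
        rw [Commute.mul_pow (Subgroup.mem_centralizer_iff.1 hb.2.1 a ha.1), ha.2.2, hb.2.2, one_mul]⟩
      inv_mem' := fun {a} ha => ⟨inv_mem ha.1, inv_mem ha.2.1, by rw [inv_pow, ha.2.2, inv_one]⟩ }
  have hPn : P.Normal := inferInstance
  haveI hZn : Z0.Normal := Subgroup.Normal.mk fun u hu g => by
    refine ⟨hPn.conj_mem u hu.1 g, Subgroup.mem_centralizer_iff.2 fun y hy => ?_, ?_⟩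
    · have h1 : Commute (g⁻¹ * y * g) u :=
        Subgroup.mem_centralizer_iff.1 hu.2.1 _ (hPn.conj_mem' y hy g)
      calc y * (g * u * g⁻¹) = g * ((g⁻¹ * y * g) * u) * g⁻¹ := by group
        _ = g * (u * (g⁻¹ * y * g)) * g⁻¹ := by rw [h1.eq]
        _ = _ := by group
    · rw [conj_pow, hu.2.2, mul_one, mul_inv_cancel]
  have hZel : Cfsg.IsElementaryAbelian 2 Z0 :=
    ⟨⟨⟨fun a b => Subtype.ext (Subgroup.mem_centralizer_iff.1 b.2.2.1 a a.2.1)⟩⟩, fun a ha => ha.2.2⟩
  have hZ0 : Z0 ≠ ⊥ := by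
    intro h
    obtain ⟨z, hz, hzo⟩ := PGroups.exists_orderOf_eq hP2 (H := Subgroup.center P) (by
      intro h'
      haveI : Nontrivial P := (Subgroup.nontrivial_iff_ne_bot P).2 hP0
      haveI := hP2.center_nontrivial
      exact (Subgroup.nontrivial_iff_ne_bot _).1 inferInstance h')
    have hzZ : (z : G) ∈ Z0 := ⟨z.2, Subgroup.mem_centralizer_iff.2 fun y hy =>
      congrArg Subtype.val (Subgroup.mem_center_iff.1 hz ⟨y, hy⟩),
      congrArg Subtype.val (hzo ▸ pow_orderOf_eq_one z :)⟩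
    rw [h, Subgroup.mem_bot] at hzZ
    rw [Subtype.ext hzZ (a2 := (1 : P)), orderOf_one] at hzo
    omega
  have hWZ : W = Z0 := by
    have hJ : IsPGroup 2 (Z0 ⊔ W : Subgroup G) :=
      (h2grp Z0 hZel).to_sup_of_normal_left (h2grp W hW)
    haveI : (Z0.subgroupOf (Z0 ⊔ W)).Normal := inferInstance
    obtain ⟨z, ⟨hz, hzc⟩, hz1⟩ := (Subgroup.bot_or_exists_ne_one _).resolve_left
      (PGroups.inf_center_ne_bot hJ (Z0.subgroupOf (Z0 ⊔ W)) (by
        intro h
        rw [Subgroup.subgroupOf_eq_bot, disjoint_iff, inf_eq_left.2 le_sup_left] at h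
        exact hZ0 h))
    have hzW : (z : G) ∈ W := hmax W hW hW4 z (Subgroup.mem_subgroupOf.1 hz).2.2 fun w hw =>
      (congrArg Subtype.val (Subgroup.mem_center_iff.1 hzc ⟨w, Subgroup.mem_sup_right hw⟩) :).symm
    have hne : W ⊓ Z0 ≠ ⊥ := fun h => hz1 (Subtype.ext
      (Subgroup.mem_bot.1 (h ▸ (Subgroup.mem_inf.2 ⟨hzW, Subgroup.mem_subgroupOf.1 hz⟩) :)))
    have h4 := hsub (W ⊓ Z0) inf_le_left (by
      apply Coprime.mem_normalizer_of_map_conj
      rw [Subgroup.map_inf _ _ _ (MulAut.conj d).injective, Coprime.map_conj_eq hdW,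
        Coprime.map_conj_eq (Subgroup.normalizer_eq_top Z0 ▸ Subgroup.mem_top d)]) hne
    have h1 : W ⊓ Z0 = W := Subgroup.eq_of_le_of_card_ge inf_le_left (by rw [h4, hW4])
    have h2 : W ≤ Z0 := inf_eq_left.1 h1
    exact Subgroup.eq_of_le_of_card_ge h2 (by rw [hW4]; exact hbound Z0 hZel)
  haveI hWn : W.Normal := hWZ ▸ hZn
  have hWP : ∀ w ∈ W, w ∈ P ∧ w ∈ Subgroup.centralizer (P : Set G) := fun w hw => by
    rw [hWZ] at hw; exact ⟨hw.1, hw.2.1⟩
  have hinv : ∀ u ∈ P, u ^ 2 = 1 → u ∈ W := fun u hu hu2 => hmax W hW hW4 u hu2 fun w hw =>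
    Subgroup.mem_centralizer_iff.1 (hWP w hw).2 u hu
  have hWcen : ∀ g : G, orderOf g = 3 → (∃ w ∈ W, w ≠ 1 ∧ Commute g w) →
      g ∈ Subgroup.centralizer (W : Set G) := by
    rintro g hg ⟨w, hw, hw1, hgw⟩
    have hgW : Subgroup.zpowers g ≤ Subgroup.normalizer (W : Set G) :=
      fun a _ => (Subgroup.normalizer_eq_top W).symm ▸ Subgroup.mem_top a
    have hcop : (Nat.card (Subgroup.zpowers g)).Coprime (Nat.card W) := by
      rw [Nat.card_zpowers, hg, hW4]; norm_num
    obtain ⟨h1, h2⟩ := Coprime.abelian_decomposition (V := W) hgW hcop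
    set C := W ⊓ Subgroup.centralizer (Subgroup.zpowers g : Set G)
    set D := ⁅W, Subgroup.zpowers g⁆
    have hCD := Coprime.card_sup (H := D) (N := C)
      ?_ h1
    swap
    · intro y hy
      refine Subgroup.mem_normalizer_iff.2 fun c => ?_
      have hyW : y ∈ W := Coprime.commutator_le_left_of_normalizer hgW hy
      have hc : ∀ c ∈ W, y * c * y⁻¹ = c := fun c hc => by
        have := congrArg Subtype.val (hW.1.is_comm.comm (⟨y, hyW⟩ : W) ⟨c, hc⟩)
        rw [mul_inv_eq_iff_eq_mul]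
        exact this
      constructor
      · intro h; rwa [hc c h.1]
      · intro h
        have hcW : c ∈ W := (Subgroup.mem_normalizer_iff.1 (Subgroup.le_normalizer hyW) c).2 h.1
        rwa [hc c hcW] at h
    rw [h2, hW4] at hCD
    have hC2 : 2 ≤ Nat.card C := by
      have hwC : w ∈ C := ⟨hw, Subgroup.mem_centralizer_iff.2 fun y hy => by
        obtain ⟨i, rfl⟩ := Subgroup.mem_zpowers_iff.1 hy; exact (hgw.zpow_left i).eq⟩
      haveI : Nontrivial C := ⟨⟨⟨w, hwC⟩, 1, fun h => hw1 (congrArg Subtype.val h)⟩⟩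
      exact Finite.one_lt_card
    have hD2 : Nat.card D ≤ 2 := by nlinarith
    have hDbot : D = ⊥ := by
      by_contra hD
      obtain ⟨y, hy, hy1⟩ := (Subgroup.bot_or_exists_ne_one D).resolve_left hD
      apply hy1
      have hconj : g * y * g⁻¹ ∈ D := (Subgroup.mem_normalizer_iff.1
        (Subgroup.normalizer_commutator_ge_right W _ (Subgroup.mem_zpowers g)) y).1 hy
      have hyC : y ∈ C := by
        refine ⟨Coprime.commutator_le_left_of_normalizer hgW hy, Subgroup.mem_centralizer_iff.2 fun z hz => ?_⟩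
        have : Commute g y := by
          by_contra hne
          have h3 : ({1, y, g * y * g⁻¹} : Finset G).card = 3 := by
            rw [Finset.card_insert_of_notMem, Finset.card_pair (fun h => hne (mul_inv_eq_iff_eq_mul.1 h.symm))]
            simp only [Finset.mem_insert, Finset.mem_singleton, not_or]
            exact ⟨fun h => hy1 h.symm, fun h => hy1 (conj_eq_one_iff.1 h.symm)⟩
          letI := Fintype.ofFinite G
          have hle : ({1, y, g * y * g⁻¹} : Finset G) ⊆ Finset.univ.filter (· ∈ D) := by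
            intro a ha
            simp only [Finset.mem_insert, Finset.mem_singleton] at ha
            simp only [Finset.mem_filter, Finset.mem_univ, true_and]
            rcases ha with rfl | rfl | rfl
            exacts [one_mem _, hy, hconj]
          have := Finset.card_le_card hle
          rw [h3, ← Fintype.card_subtype, ← Nat.card_eq_fintype_card] at this
          omega
        obtain ⟨i, rfl⟩ := Subgroup.mem_zpowers_iff.1 hz
        exact (this.zpow_left i).eq
      exact Subgroup.mem_bot.1 (h1 ▸ (Subgroup.mem_inf.2 ⟨hyC, hy⟩) :)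
    exact Subgroup.commutator_eq_bot_iff_le_centralizer.1
      (by rw [Subgroup.commutator_comm]; exact hDbot) (Subgroup.mem_zpowers g)
  -- an element of order 3 centralizing `W`
  set K := Subgroup.centralizer (W : Set G) with hK
  obtain ⟨x, hx3, hxK⟩ : ∃ x : G, orderOf x = 3 ∧ x ∈ K := by
    obtain ⟨g, hg⟩ := hsix
    have ht : orderOf (g ^ 3) = 2 := by rw [orderOf_pow, hg]; norm_num
    have hx : orderOf (g ^ 2) = 3 := by rw [orderOf_pow, hg]; norm_num
    refine ⟨g ^ 2, hx, ?_⟩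
    have hxt : Commute (g ^ 2) (g ^ 3) := ((Commute.refl g).pow_left 2).pow_right 3
    obtain ⟨ht2, ht1⟩ := orderOf_eq_prime_iff.1 ht
    by_cases htW : g ^ 3 ∈ K
    · have : g ^ 3 ∈ W := hmax W hW hW4 _ ht2 fun w hw => (Subgroup.mem_centralizer_iff.1 htW w hw).symm
      exact hWcen _ hx ⟨_, this, ht1, hxt⟩
    · obtain ⟨v, hv, hvt⟩ : ∃ v ∈ W, ¬ v * g ^ 3 = g ^ 3 * v := by
        by_contra h; push Not at h; exact htW (Subgroup.mem_centralizer_iff.2 h)
      set t := g ^ 3
      have htinv : t⁻¹ = t := inv_eq_of_mul_eq_one_left (by rw [← pow_two]; exact ht2)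
      have htv : t * v * t⁻¹ ∈ W := hWn.conj_mem v hv t
      have hcc : ∀ a ∈ W, ∀ b ∈ W, Commute a b := fun a ha b hb =>
        congrArg Subtype.val (hW.1.is_comm.comm (⟨a, ha⟩ : W) ⟨b, hb⟩)
      set u := v * (t * v * t⁻¹) with hu
      have huW : u ∈ W := mul_mem hv htv
      have hut : t * u * t⁻¹ = u := by
        rw [hu, (hcc v hv _ htv).eq]
        have e : t⁻¹ * v * t⁻¹ = t * v * t⁻¹ := by rw [show t⁻¹ * v = t * v by rw [htinv]]
        calc t * (t * v * t⁻¹ * v) * t⁻¹ = (t * t) * v * (t⁻¹ * v * t⁻¹) := by group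
          _ = v * (t * v * t⁻¹) := by rw [← pow_two, ht2, one_mul, e]
          _ = _ := (hcc v hv _ htv).eq
      have hu1 : u ≠ 1 := by
        intro h
        apply hvt
        have hvv : v⁻¹ = v := inv_eq_of_mul_eq_one_left (by rw [← pow_two]; exact hW.2 v hv)
        have h2 : t * v * t⁻¹ = v := (eq_inv_of_mul_eq_one_right h).trans hvv
        exact (mul_inv_eq_iff_eq_mul.1 h2).symm
      refine hWcen _ hx ⟨u, huW, hu1, ?_⟩
      by_contra hne
      apply hvt
      set x := g ^ 2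
      set u' := x * u * x⁻¹ with hu'
      have hu'W : u' ∈ W := hWn.conj_mem u huW x
      have hu't : t * u' * t⁻¹ = u' := by
        rw [hu']
        calc t * (x * u * x⁻¹) * t⁻¹ = (t * x) * u * (t * x)⁻¹ := by group
          _ = (x * t) * u * (x * t)⁻¹ := by rw [hxt.eq]
          _ = x * (t * u * t⁻¹) * x⁻¹ := by group
          _ = _ := by rw [hut]
      -- the fixed points of `t` in `W` form a subgroup of order at most two
      let F : Subgroup G := W ⊓ Subgroup.centralizer {t}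
      have hF : ∀ a ∈ W, t * a * t⁻¹ = a → a ∈ F := fun a ha h =>
        ⟨ha, Subgroup.mem_centralizer_iff.2 (by rintro _ rfl; exact mul_inv_eq_iff_eq_mul.1 h)⟩
      have hFlt : F = W := by
        refine Subgroup.eq_of_le_of_card_ge inf_le_left ?_
        rw [hW4]
        letI := Fintype.ofFinite G
        have h3 : ({1, u, u'} : Finset G).card = 3 := by
          rw [Finset.card_insert_of_notMem, Finset.card_pair (fun h => hne (mul_inv_eq_iff_eq_mul.1 h.symm))]
          simp only [Finset.mem_insert, Finset.mem_singleton, not_or]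
          exact ⟨fun h => hu1 h.symm, fun h => hu1 (conj_eq_one_iff.1 h.symm)⟩
        have hle : ({1, u, u'} : Finset G) ⊆ Finset.univ.filter (· ∈ F) := by
          intro a ha
          simp only [Finset.mem_insert, Finset.mem_singleton] at ha
          simp only [Finset.mem_filter, Finset.mem_univ, true_and]
          rcases ha with rfl | rfl | rfl
          exacts [one_mem _, hF u huW hut, hF u' hu'W hu't]
        have h := Finset.card_le_card hle
        rw [h3, ← Fintype.card_subtype, ← Nat.card_eq_fintype_card] at h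
        obtain ⟨c, hc⟩ := IsPGroup.iff_card.1 ((h2grp W hW).to_le (inf_le_left : F ≤ W))
        change 3 ≤ Nat.card F at h
        rw [hc] at h ⊢
        have : 2 ≤ c := by
          by_contra h'
          have := Nat.pow_le_pow_right (show 0 < 2 by norm_num) (show c ≤ 1 by omega)
          omega
        calc 4 = 2 ^ 2 := by norm_num
          _ ≤ 2 ^ c := Nat.pow_le_pow_right (by norm_num) this
      have hvF : v ∈ F := hFlt ▸ hv
      exact (Subgroup.mem_centralizer_iff.1 hvF.2 t rfl).symm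
  -- `d` acts faithfully and fixed point freely on `P`, so it has order 3
  have hdfpf : ∀ a : G, (∀ w ∈ W, a * w * a⁻¹ = w → w = 1) → P ⊓ Subgroup.centralizer {a} = ⊥ := by
    intro a ha
    by_contra hne
    obtain ⟨u, hu, huo⟩ := PGroups.exists_orderOf_eq (H := (P ⊓ Subgroup.centralizer {a}).subgroupOf P) hP2 (by
      rw [ne_eq, Subgroup.subgroupOf_eq_bot, disjoint_iff, inf_eq_left.2 inf_le_left]; exact hne)
    obtain ⟨hu2, hu1⟩ := orderOf_eq_prime_iff.1 huo
    have huW : (u : G) ∈ W := hinv _ u.2 (congrArg Subtype.val hu2 :)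
    refine hu1 (Subtype.ext (ha u huW ?_))
    rw [mul_inv_eq_iff_eq_mul]
    exact Subgroup.mem_centralizer_iff.1 (Subgroup.mem_subgroupOf.1 hu).2 a rfl
  obtain ⟨n, hn⟩ := IsPGroup.iff_card.1 hd
  rw [Nat.card_zpowers] at hn
  have hn1 : 1 ≤ n := by
    by_contra h
    exact hd1 (orderOf_eq_one_iff.1 (by rw [hn, show n = 0 by omega, pow_zero]))
  have hdP : d ∈ Subgroup.normalizer (P : Set G) := (Subgroup.normalizer_eq_top P).symm ▸ Subgroup.mem_top d
  have hdfaith : Subgroup.zpowers d ⊓ Subgroup.centralizer (P : Set G) = ⊥ := by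
    rw [eq_bot_iff]
    rintro a ⟨ha, haP⟩
    have hd3 : IsPGroup 3 (Subgroup.zpowers d) := hd
    exact (IsPGroup.disjoint_of_ne 3 2 (by norm_num) _ _ hd3 hP2).le_bot ⟨ha, hchar haP⟩
  have hd3' : orderOf d = 3 := by
    refine Cfsg.Agent.S3738.result d n hn1 hn P hP2 hdP hdfaith (hdfpf d hWfix) fun V _ hVc A hA hA2 => ?_
    have h := hbound (A.map V.subtype) ⟨⟨⟨?_⟩⟩, ?_⟩
    · rwa [← Nat.card_congr (A.equivMapOfInjective _ V.subtype_injective).toEquiv] at h
    · rintro ⟨_, a, ha, rfl⟩ ⟨_, b, hb, rfl⟩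
      exact Subtype.ext (congrArg Subtype.val (hVc.is_comm.comm a b) :)
    · rintro _ ⟨a, ha, rfl⟩
      rw [← map_pow, hA2 a ha, map_one]
  -- an element of order 3 in `K` commuting with `d`
  obtain ⟨S, hS⟩ := IsPGroup.exists_le_sylow (p := 3) (P := Subgroup.zpowers d) hd
  haveI hKn : K.Normal := inferInstance
  obtain ⟨y, ⟨hyK, hyc⟩, hy3⟩ : ∃ y : (S : Subgroup G), y ∈ K.subgroupOf S ⊓ Subgroup.center _ ∧ orderOf y = 3 := by
    have hne : K.subgroupOf (S : Subgroup G) ≠ ⊥ := by
      intro h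
      obtain ⟨S', hS'⟩ := IsPGroup.exists_le_sylow (p := 3) (P := Subgroup.zpowers x)
        (IsPGroup.of_card (n := 1) (by rw [Nat.card_zpowers, hx3, pow_one]))
      obtain ⟨g, hg⟩ := MulAction.exists_smul_eq G S' S
      have hmem : g * x * g⁻¹ ∈ (S : Subgroup G) := by
        rw [← hg, Sylow.coe_subgroup_smul]
        exact ⟨x, hS' (Subgroup.mem_zpowers x), rfl⟩
      have hbot : (⟨_, hmem⟩ : (S : Subgroup G)) ∈ K.subgroupOf (S : Subgroup G) :=
        Subgroup.mem_subgroupOf.2 (hKn.conj_mem x hxK g)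
      rw [h, Subgroup.mem_bot] at hbot
      have h1 : x = 1 := conj_eq_one_iff.1 (congrArg Subtype.val hbot :)
      simp [h1] at hx3
    exact PGroups.exists_orderOf_eq S.2 (H := K.subgroupOf (S : Subgroup G) ⊓ Subgroup.center _)
      (PGroups.inf_center_ne_bot S.2 (K.subgroupOf (S : Subgroup G)) hne)
  have hyd : Commute d (y : G) :=
    congrArg Subtype.val (Subgroup.mem_center_iff.1 hyc ⟨d, hS (Subgroup.mem_zpowers d)⟩)
  have hyo : orderOf (y : G) = 3 := by rw [Subgroup.orderOf_coe, hy3]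
  set A := Subgroup.zpowers d ⊔ Subgroup.zpowers (y : G) with hA
  have hdy : ∀ a ∈ A, Commute a d ∧ Commute a (y : G) := by
    have h : A ≤ Subgroup.centralizer ({d, (y : G)} : Set G) := by
      refine sup_le (Subgroup.zpowers_le.2 ?_) (Subgroup.zpowers_le.2 ?_) <;>
        refine Subgroup.mem_centralizer_iff.2 fun z hz => ?_ <;>
        rcases hz with rfl | hz
      · rfl
      · rw [Set.mem_singleton_iff] at hz; subst hz; exact hyd.eq.symm
      · exact hyd.eq
      · rw [Set.mem_singleton_iff] at hz; subst hz; rfl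
    exact fun a ha => ⟨(Subgroup.mem_centralizer_iff.1 (h ha) d (Or.inl rfl)).symm,
      (Subgroup.mem_centralizer_iff.1 (h ha) _ (Or.inr rfl)).symm⟩
  have hAc : A ≤ Subgroup.centralizer (A : Set G) := by
    intro a ha
    refine Subgroup.mem_centralizer_iff.2 fun b hb => ?_
    have h : A ≤ Subgroup.centralizer ({a} : Set G) := by
      refine sup_le (Subgroup.zpowers_le.2 ?_) (Subgroup.zpowers_le.2 ?_) <;>
        refine Subgroup.mem_centralizer_iff.2 ?_ <;> rintro _ rfl
      · exact (hdy _ ha).1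
      · exact (hdy _ ha).2
    exact (Subgroup.mem_centralizer_iff.1 (h hb) a rfl).symm
  haveI hAab : IsMulCommutative A := ⟨⟨fun a b => Subtype.ext (Subgroup.mem_centralizer_iff.1 (hAc b.2) a a.2)⟩⟩
  have hd31 : d ^ 3 = 1 := by have h := pow_orderOf_eq_one d; rwa [hd3'] at h
  have hy31 : (y : G) ^ 3 = 1 := by have h := pow_orderOf_eq_one (y : G); rwa [hyo] at h
  have hA3 : IsPGroup 3 A := by
    intro a
    refine ⟨1, Subtype.ext ?_⟩
    have : A ≤ ({ carrier := {z | z ∈ A ∧ z ^ 3 = 1}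
                  one_mem' := ⟨one_mem _, one_pow 3⟩
                  mul_mem' := fun {u v} hu hv => ⟨mul_mem hu.1 hv.1, by
                    rw [Commute.mul_pow (Subgroup.mem_centralizer_iff.1 (hAc hv.1) u hu.1), hu.2, hv.2, one_mul]⟩
                  inv_mem' := fun {u} hu => ⟨inv_mem hu.1, by rw [inv_pow, hu.2, inv_one]⟩ } : Subgroup G) :=
      sup_le (Subgroup.zpowers_le.2 ⟨Subgroup.mem_sup_left (Subgroup.mem_zpowers d), hd31⟩)
        (Subgroup.zpowers_le.2 ⟨Subgroup.mem_sup_right (Subgroup.mem_zpowers (y : G)), hy31⟩)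
    simpa using (this a.2).2
  have hPy : P ≤ Subgroup.centralizer ({(y : G)} : Set G) := by
    obtain ⟨k, hk⟩ := IsPGroup.iff_card.1 hP2
    obtain ⟨l, hl⟩ := IsPGroup.iff_card.1 hA3
    refine Coprime.le_of_centralizer_le (A := A) (p := 3) (x := d) (y := (y : G))
      (Subgroup.mem_sup_left (Subgroup.mem_zpowers d)) (Subgroup.mem_sup_right (Subgroup.mem_zpowers _))
      P _ (fun a _ => (Subgroup.normalizer_eq_top P).symm ▸ Subgroup.mem_top a) ?_ ?_ ?_ ?_ inf_le_right ?_
    · rw [hk, hl]; exact Nat.Coprime.pow _ _ (by norm_num)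
    · rw [hk]; exact Nat.Coprime.pow_right _ (by norm_num)
    · rw [hd31]; exact one_mem _
    · rw [hy31]; exact one_mem _
    · intro i _
      rw [hdfpf _ fun w hw h => hWfix w hw ?_]
      · exact bot_le
      · have hyw : Commute ((y : G) ^ i) w :=
          (show Commute (y : G) w from (Subgroup.mem_centralizer_iff.1 (Subgroup.mem_subgroupOf.1 hyK) w hw).symm).pow_left i
        calc d * w * d⁻¹ = d * ((y : G) ^ i * w * ((y : G) ^ i)⁻¹) * d⁻¹ := by
              rw [hyw.eq, mul_inv_cancel_right]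
          _ = (d * (y : G) ^ i) * w * (d * (y : G) ^ i)⁻¹ := by group
          _ = w := h
  have hyP : (y : G) ∈ P := hchar (Subgroup.mem_centralizer_iff.2 fun z hz =>
    (Subgroup.mem_centralizer_iff.1 (hPy hz) _ rfl).symm)
  obtain ⟨k, hk⟩ := IsPGroup.iff_orderOf.1 hP2 ⟨_, hyP⟩
  rw [Subgroup.orderOf_mk, hyo] at hk
  have h32 : 3 ∣ 2 ^ k := by rw [← hk]
  exact absurd (Nat.prime_three.dvd_of_dvd_pow h32) (by norm_num)

end Cfsg.Agent.S3739
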