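import Cfsg.Statements.S3740
import Cfsg.Agent.Linear.TwoTorus
import Cfsg.Agent.Coprime.Action
import Cfsg.Agent.H64.UniqueInvolution
import Cfsg.Agent.H25.SL23

set_option autoImplicit false
set_option linter.style.haveILetI false
set_option linter.unusedSectionVars false
set_option maxHeartbeats 1000000
open Cfsg

namespace Cfsg.Agent.S3740

open Subgroup Cfsg.Agent.Linear
open scoped commutatorElement

private theorem mem_normalizer_of_conj_le' {G : Type*} [Group G] [Finite G] {H : Subgroup G} (g : G)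
    (h : ∀ x ∈ H, g * x * g⁻¹ ∈ H) : g ∈ Subgroup.normalizer (H : Set G) := by
  have he : H.map (MulAut.conj g).toMonoidHom = H := by
    refine Subgroup.eq_of_le_of_card_ge ?_ (le_of_eq (Subgroup.card_map_of_injective (MulAut.conj g).injective).symm)
    rintro _ ⟨x, hx, rfl⟩
    exact h x hx
  refine Subgroup.mem_normalizer_iff.mpr fun x => ⟨h x, fun hx => ?_⟩
  rw [← he] at hx
  obtain ⟨y, hy, hye⟩ := hx
  rwa [← (MulAut.conj g).injective hye]


/-- Let F be a finite field of odd characteristic p and let a be a p-element of SL₂(F) normalizing a subgroup R of order prime to p with [R, a] ≠ 1. Then p = 3, R is a quaternion group of order 8, and R⟨a⟩ is isomorphic to SL₂(3). -/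
theorem result (F : Type) [Field F] [Fintype F] {p : ℕ} [Fact p.Prime] [CharP F p] (hp : p ≠ 2) (a : Matrix.SpecialLinearGroup (Fin 2) F) (ha : IsPGroup p ↥(Subgroup.zpowers a)) (R : Subgroup (Matrix.SpecialLinearGroup (Fin 2) F)) (hR : (Nat.card R).Coprime p) (haR : a ∈ Subgroup.normalizer (R : Set (Matrix.SpecialLinearGroup (Fin 2) F))) (hnt : ⁅R, Subgroup.zpowers a⁆ ≠ ⊥) : p = 3 ∧ Nonempty (↥R ≃* QuaternionGroup 2) ∧ Nonempty (↥(R ⊔ Subgroup.zpowers a) ≃* Matrix.SpecialLinearGroup (Fin 2) (ZMod 3)) := by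
  classical
  have hpp := (Fact.out : p.Prime)
  have h2 : (2 : F) ≠ 0 := Ring.two_ne_zero (by rwa [ringChar.eq F p])
  have ha1 : a ≠ 1 := by
    rintro rfl
    exact hnt (by rw [Subgroup.zpowers_one_eq_bot]; simp)
  -- `a` has order `p`
  have hat : (a : Matrix (Fin 2) (Fin 2) F).trace = 2 := by
    obtain ⟨k, hk⟩ := ha ⟨a, mem_zpowers a⟩
    have hk' : a ^ p ^ k = 1 := congrArg Subtype.val hk
    have e : ((a : Matrix (Fin 2) (Fin 2) F) - 1) ^ p ^ k = 0 := by
      rw [sub_pow_char_pow_of_commute (p := p) (n := k) (Commute.one_right (a : Matrix (Fin 2) (Fin 2) F)), one_pow,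
        ← Matrix.SpecialLinearGroup.coe_pow, hk', Matrix.SpecialLinearGroup.coe_one, sub_self]
    have ht := IsNilpotent.eq_zero (Matrix.isNilpotent_trace_of_isNilpotent ⟨p ^ k, e⟩)
    rw [Matrix.trace_sub, Matrix.trace_one, sub_eq_zero, Fintype.card_fin] at ht
    simpa using ht
  have hao : orderOf a = p := orderOf_eq_char_of_trace p ha1 hat
  have hap : a ^ p = 1 := hao ▸ pow_orderOf_eq_one a
  have hans := not_scalar_of_orderOf_eq_char p hao
  have hconj : ∀ x ∈ R, a * x * a⁻¹ ∈ R := fun x hx => (Subgroup.mem_normalizer_iff.mp haR x).mp hx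
  have hordR : ∀ x ∈ R, (orderOf x).Coprime p := fun x hx =>
    Nat.Coprime.coprime_dvd_left (Subgroup.orderOf_dvd_natCard R hx) hR
  -- fixed points are scalar
  have hfix : ∀ x ∈ R, a * x * a⁻¹ = x → x = 1 ∨ x = -1 := by
    intro x hx hax
    by_contra hs
    rw [← isScalarTwo_SL_iff] at hs
    refine trace_sq_ne_four p hs (hordR x hx) ?_
    have hxc : x ∈ Subgroup.centralizer ({a} : Set _) :=
      Subgroup.mem_centralizer_singleton_iff.mpr (mul_inv_eq_iff_eq_mul.mp hax).symm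
    obtain ⟨α, β, hab⟩ := (mem_centralizer_SL_two hans).mp hxc
    have hd : (x : Matrix (Fin 2) (Fin 2) F).det = 1 := x.2
    rw [hab, det_smul_add_smul, a.2, hat] at hd
    rw [hab, trace_smul_add_smul, hat]
    linear_combination 4 * hd
  -- invariant cyclic subgroups are centralised
  have hcyc : ∀ x ∈ R, a * x * a⁻¹ ∈ zpowers x → x = 1 ∨ x = -1 := by
    intro x hx hax
    by_contra hs
    have hns : ¬ IsScalarTwo (x : Matrix (Fin 2) (Fin 2) F) := fun h => hs (isScalarTwo_SL_iff.mp h)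
    have ht := trace_sq_ne_four p hns (hordR x hx)
    obtain ⟨i, hi⟩ := hax
    have hmem : a * x * a⁻¹ ∈ Subgroup.centralizer ({x} : Set _) :=
      Subgroup.mem_centralizer_singleton_iff.mpr (hi ▸ ((Commute.refl x).zpow_left i).eq)
    rcases eq_or_eq_inv_of_trace ht hmem (trace_conj x a) with h | h
    · exact hs (hfix x hx h)
    · have h2' : Commute (a ^ 2) x := mul_inv_eq_iff_eq_mul.mp (by
        calc a ^ 2 * x * (a ^ 2)⁻¹ = a * (a * x * a⁻¹) * a⁻¹ := by rw [sq]; group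
          _ = (a * x * a⁻¹)⁻¹ := by
            conv_lhs => rw [h]
            group
          _ = x := by rw [h, inv_inv])
      obtain ⟨m, hm⟩ := hpp.odd_of_ne_two hp
      have h3 : Commute a x := by
        have h4 := h2'.pow_left (m + 1)
        rwa [← pow_mul, show 2 * (m + 1) = p + 1 by omega, pow_succ, hap, one_mul] at h4
      exact hs (hfix x hx (by rw [h3.eq, mul_inv_cancel_right]))
  -- `R` is a 2-group
  have hA : zpowers a ≤ Subgroup.normalizer (R : Set _) := zpowers_le.mpr haR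
  have hcop : (Nat.card (zpowers a)).Coprime (Nat.card R) := by rw [Nat.card_zpowers, hao]; exact hR.symm
  have hsolv : Group.IsSolvable (zpowers a) ∨ Group.IsSolvable R :=
    Or.inl (Group.isSolvable_of_comm fun x y => IsCyclic.isMulCommutative.is_comm.comm x y)
  have h2group : IsPGroup 2 R := by
    refine IsPGroup.of_card (n := (Nat.card R).primeFactorsList.length)
      (Nat.eq_prime_pow_of_unique_prime_dvd Nat.card_pos.ne' ?_)
    intro r hr hrd
    by_contra hr2
    haveI : Fact r.Prime := ⟨hr⟩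
    have hrp : r ≠ p := fun h => (hpp.coprime_iff_not_dvd.mp hR.symm) (h ▸ hrd)
    obtain ⟨P, hP⟩ := Coprime.exists_invariant_sylow hA hcop hsolv r
    set S := (P : Subgroup R).map R.subtype with hS
    have hSR : S ≤ R := map_subtype_le _
    have hSp : IsPGroup r S := P.isPGroup'.map _
    haveI := isCyclic_of_isPGroup (F := F) p hr2 hrp hSp
    obtain ⟨x, hx⟩ := S.isCyclic_iff_exists_zpowers_eq_top.mp inferInstance
    have hxS : x ∈ S := hx ▸ mem_zpowers x
    have hxx : a * x * a⁻¹ ∈ zpowers x := by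
      rw [hx]
      exact (Subgroup.mem_normalizer_iff.mp (hP (mem_zpowers a)) x).mp hxS
    have hx2 : x ^ 2 = 1 := by
      rcases hcyc x (hSR hxS) hxx with rfl | rfl
      · exact one_pow 2
      · exact neg_one_sq
    have hcard : Nat.card S = Nat.card (P : Subgroup R) := Subgroup.card_map_of_injective R.subtype_injective
    have h5 : r ∣ Nat.card S := hcard ▸ P.dvd_card_of_dvd_card hrd
    rw [← hx, Nat.card_zpowers] at h5
    exact hr2 ((Nat.prime_dvd_prime_iff_eq hr Nat.prime_two).mp (h5.trans (orderOf_dvd_of_pow_eq_one hx2)))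
  -- `R` is not commutative
  obtain ⟨x₀, hx₀, hx₀s⟩ : ∃ x ∈ R, ¬ (x = 1 ∨ x = -1) := by
    by_contra h
    apply hnt
    rw [Subgroup.commutator_eq_bot_iff_le_centralizer]
    intro x hx
    refine Subgroup.mem_centralizer_iff.mpr fun y _ => ?_
    have hxz : x ∈ Subgroup.center _ := mem_center_SL_two.mpr (by_contra fun hs => h ⟨x, hx, hs⟩)
    exact Subgroup.mem_center_iff.mp hxz y
  have hna : ¬ IsMulCommutative R := by
    intro hab
    have hns : ¬ IsScalarTwo (x₀ : Matrix (Fin 2) (Fin 2) F) := fun h => hx₀s (isScalarTwo_SL_iff.mp h)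
    have hle : R ≤ Subgroup.centralizer ({x₀} : Set _) := fun y hy =>
      Subgroup.mem_centralizer_singleton_iff.mpr (PGroups.comm_of_isMulCommutative hab hy hx₀)
    haveI := isCyclic_centralizer (trace_sq_ne_four p hns (hordR x₀ hx₀))
    haveI : IsCyclic R := isCyclic_of_injective (Subgroup.inclusion hle) (Subgroup.inclusion_injective hle)
    obtain ⟨x, hx⟩ := R.isCyclic_iff_exists_zpowers_eq_top.mp inferInstance
    have hxR : x ∈ R := hx ▸ mem_zpowers x
    rw [← hx] at hx₀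
    obtain ⟨i, rfl⟩ := hx₀
    have hxs := hcyc x hxR (by rw [hx]; exact hconj x hxR)
    apply hx₀s
    show x ^ i = 1 ∨ x ^ i = -1
    rcases hxs with rfl | rfl
    · exact Or.inl (one_zpow i)
    · refine eq_one_or_neg_one_of_sq h2 ?_
      rw [← (Commute.refl (-1 : Matrix.SpecialLinearGroup (Fin 2) F)).mul_zpow, neg_mul_neg, one_mul, one_zpow]
  have hsq1 : ∀ x : R, x * x = 1 → x = 1 ∨ (x : Matrix.SpecialLinearGroup (Fin 2) F) = -1 := fun x hx =>
    (eq_one_or_neg_one_of_sq h2 (congrArg Subtype.val hx)).imp_left fun h => Subtype.ext h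
  have hu : ∃! x : R, orderOf x = 2 := by
    obtain ⟨k, hk⟩ := IsPGroup.iff_card.mp h2group
    have hk0 : k ≠ 0 := by
      rintro rfl
      refine hx₀s (Or.inl (Subgroup.mem_bot.mp ?_))
      rw [pow_zero] at hk
      rwa [Subgroup.eq_bot_of_card_eq R hk] at hx₀
    obtain ⟨x, hx⟩ := exists_prime_orderOf_dvd_card' (G := R) 2 (hk ▸ dvd_pow_self 2 hk0)
    have hne : ∀ y : R, orderOf y = 2 → (y : Matrix.SpecialLinearGroup (Fin 2) F) = -1 := fun y hy =>
      (hsq1 y (by rw [← sq]; exact orderOf_dvd_iff_pow_eq_one.mp hy.dvd)).resolve_left fun h => by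
        rw [h, orderOf_one] at hy; omega
    exact ⟨x, hx, fun y hy => Subtype.ext ((hne y hy).trans (hne x hx).symm)⟩
  obtain ⟨k, c₀, b₀, hk2, hc₀, hb₀, hbc₀, hb2₀, hgen₀⟩ := H64.exists_quaternion_gens h2group hna hu
  set c : Matrix.SpecialLinearGroup (Fin 2) F := ↑c₀ with hcdef
  set b : Matrix.SpecialLinearGroup (Fin 2) F := ↑b₀ with hbdef
  have hc : orderOf c = 2 ^ k := by rw [hcdef, Subgroup.orderOf_coe, hc₀]
  have hcR : c ∈ R := c₀.2
  have hbR : b ∈ R := b₀.2
  have hbc : b * c * b⁻¹ = c⁻¹ := congrArg Subtype.val hbc₀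
  have hb2 : b ^ 2 = c ^ 2 ^ (k - 1) := congrArg Subtype.val hb2₀
  have hgen : ∀ x ∈ R, ∃ i : ℕ, x = c ^ i ∨ x = b * c ^ i := fun x hx =>
    let ⟨i, hi⟩ := hgen₀ ⟨x, hx⟩
    ⟨i, hi.imp (fun h => congrArg Subtype.val h) (fun h => congrArg Subtype.val h)⟩
  have hbci : ∀ i : ℕ, (b * c ^ i) * c * (b * c ^ i)⁻¹ = c⁻¹ ∧ (b * c ^ i) ^ 2 = c ^ 2 ^ (k - 1) := fun i => by
    refine ⟨?_, ?_⟩
    · calc (b * c ^ i) * c * (b * c ^ i)⁻¹ = b * (c ^ i * c * (c ^ i)⁻¹) * b⁻¹ := by group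
        _ = c⁻¹ := by rw [← ((Commute.refl c).pow_right i).eq, mul_inv_cancel_right, hbc]
    · calc (b * c ^ i) ^ 2 = (b * c ^ i * b⁻¹) * b ^ 2 * c ^ i := by rw [sq, sq]; group
        _ = (c ^ i)⁻¹ * c ^ i * c ^ 2 ^ (k - 1) := by
          rw [← conj_pow, hbc, inv_pow, hb2, mul_assoc, mul_assoc, ((Commute.refl c).pow_pow _ i).eq]
        _ = _ := by rw [inv_mul_cancel, one_mul]
  have hcns : ¬ (c = 1 ∨ c = -1) := fun h => by
    have h' : c ^ 2 = 1 := by rcases h with h | h <;> rw [h] <;> simp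
    have := orderOf_dvd_of_pow_eq_one h'
    rw [hc] at this
    have := Nat.le_of_dvd two_pos this
    have : 2 ^ 2 ≤ 2 ^ k := Nat.pow_le_pow_right two_pos hk2
    omega
  have hdn : a * c * a⁻¹ ∉ zpowers c := fun h => hcns (hcyc c hcR h)
  have hk : k = 2 := by
    by_contra hk
    apply hdn
    obtain ⟨i, hi | hi⟩ := hgen _ (hconj c hcR)
    · rw [hi]; exact pow_mem (mem_zpowers c) i
    · exfalso
      have h1 : (a * c * a⁻¹) ^ 4 = 1 := by
        rw [hi, show 4 = 2 * 2 from rfl, pow_mul, (hbci i).2, ← pow_mul, ← pow_succ,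
          Nat.sub_add_cancel (by omega), ← hc, pow_orderOf_eq_one]
      rw [conj_pow, conj_eq_one_iff] at h1
      have := orderOf_dvd_of_pow_eq_one h1
      rw [hc] at this
      have := Nat.le_of_dvd (by norm_num) this
      have : 2 ^ 3 ≤ 2 ^ k := Nat.pow_le_pow_right two_pos (by omega)
      omega
  subst hk
  set d := a * c * a⁻¹ with hd
  have hdR : d ∈ R := hconj c hcR
  obtain ⟨i₀, hi₀ | hi₀⟩ := hgen d hdR
  · exact absurd (hi₀ ▸ pow_mem (mem_zpowers c) i₀) hdn
  have hdc : d * c * d⁻¹ = c⁻¹ := hi₀ ▸ (hbci i₀).1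
  have hd2 : d ^ 2 = c ^ 2 := hi₀ ▸ (hbci i₀).2
  have hc4 : c ^ 4 = 1 := by rw [show 4 = 2 ^ 2 from rfl, ← hc, pow_orderOf_eq_one]
  -- elements of `R`
  have hel : ∀ x ∈ R, ∃ j : ℤ, x = c ^ j ∨ x = c ^ j * d := by
    intro x hx
    obtain ⟨i, hi | hi⟩ := hgen x hx
    · exact ⟨i, Or.inl (by rw [hi, zpow_natCast])⟩
    · refine ⟨(i₀ : ℤ) - i, Or.inr ?_⟩
      rw [hi, hi₀, ← mul_assoc, ← zpow_natCast c i, ← zpow_natCast c i₀,
        PGroups.zpow_mul_of_conj_eq_inv hbc, mul_assoc, ← zpow_add]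
      congr 2
      ring
  -- the image of `d`
  set e := a * d * a⁻¹ with he
  have heR : e ∈ R := hconj d hdR
  have hnorm : ∀ g : Matrix.SpecialLinearGroup (Fin 2) F, g * c * g⁻¹ ∈ zpowers c →
      g ∈ Subgroup.normalizer (zpowers c : Set _) := by
    intro g hg
    refine mem_normalizer_of_conj_le' g ?_
    intro x hx
    obtain ⟨j, rfl⟩ := hx
    show g * c ^ j * g⁻¹ ∈ zpowers c
    rw [← conj_zpow]; exact zpow_mem hg j
  have haN : a ∉ Subgroup.normalizer (zpowers c : Set _) := fun h =>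
    hdn ((Subgroup.mem_normalizer_iff.mp h c).mp (mem_zpowers c))
  have hec : e ∉ zpowers c := fun h => haN (by
    obtain ⟨m, hm⟩ := hpp.odd_of_ne_two hp
    have h1 := pow_mem (hnorm (a ^ 2) (by
      rw [show a ^ 2 * c * (a ^ 2)⁻¹ = e by rw [he, hd, sq]; group]; exact h)) (m + 1)
    rwa [← pow_mul, show 2 * (m + 1) = p + 1 by omega, pow_succ, hap, one_mul] at h1)
  have hed : e ∉ zpowers d := fun h => by
    have hd' : d = 1 ∨ d = -1 := hcyc d hdR h
    apply hcns
    rw [show c = a⁻¹ * d * a by rw [hd]; group]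
    rcases hd' with h' | h' <;> rw [h'] <;> simp
  have hcases : e = c * d ∨ e = c⁻¹ * d := by
    obtain ⟨j, hj | hj⟩ := hel e heR
    · exact absurd (hj ▸ zpow_mem_zpowers c j) hec
    obtain ⟨q, rfl | rfl⟩ : ∃ q, j = 2 * q ∨ j = 2 * q + 1 := ⟨j / 2, by omega⟩
    · refine absurd ?_ hed
      rw [hj, zpow_mul, show c ^ (2 : ℤ) = d ^ 2 by rw [hd2]; norm_cast]
      exact mul_mem (zpow_mem (pow_mem (mem_zpowers d) 2) q) (mem_zpowers d)
    · rcases Int.even_or_odd' q with ⟨t, rfl | rfl⟩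
      · left
        rw [hj, show 2 * (2 * t) + 1 = (4 : ℤ) * t + 1 by ring, zpow_add, zpow_mul,
          show c ^ (4 : ℤ) = 1 from (zpow_natCast c 4).trans hc4, one_zpow, one_mul, zpow_one]
      · right
        rw [hj, show 2 * (2 * t + 1) + 1 = (4 : ℤ) * (t + 1) + -1 by ring, zpow_add, zpow_mul,
          show c ^ (4 : ℤ) = 1 from (zpow_natCast c 4).trans hc4, one_zpow, one_mul, zpow_neg_one]
  obtain ⟨c', hc'R, hc'o, hc'z, hrel⟩ : ∃ c' ∈ R, orderOf c' = 4 ∧ zpowers c' = zpowers c ∧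
      a * (a * c' * a⁻¹) * a⁻¹ = c' * (a * c' * a⁻¹) ∧ (a * c' * a⁻¹) ^ 2 = c' ^ 2 ∧
      a * c' * a⁻¹ * c' * (a * c' * a⁻¹)⁻¹ = c'⁻¹ := by
    rcases hcases with h | h
    · exact ⟨c, hcR, hc, rfl, h, hd2, hdc⟩
    · have hd' : a * c⁻¹ * a⁻¹ = d⁻¹ := by rw [hd]; group
      refine ⟨c⁻¹, R.inv_mem hcR, by rw [orderOf_inv, hc]; rfl, Subgroup.zpowers_inv, ?_, ?_, ?_⟩
      · rw [hd', show a * d⁻¹ * a⁻¹ = e⁻¹ by rw [he]; group, h, mul_inv_rev, inv_inv]
        calc d⁻¹ * c = d⁻¹ * (c⁻¹)⁻¹ := by rw [inv_inv]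
          _ = d⁻¹ * (d * c * d⁻¹)⁻¹ * 1 := by rw [hdc, inv_inv, mul_one]
          _ = c⁻¹ * d⁻¹ := by group
      · rw [hd', inv_pow, inv_pow, hd2]
      · rw [hd', inv_inv, inv_inv]
        calc d⁻¹ * c⁻¹ * d = d⁻¹ * (d * c * d⁻¹) * d := by rw [hdc]
          _ = c := by group
  obtain ⟨hshift, hsq, hinv⟩ := hrel
  set d' := a * c' * a⁻¹ with hd'def
  have hp3 : p = 3 := by
    by_contra hp3
    apply haN
    have h3 : a ^ 3 * c' * (a ^ 3)⁻¹ = d' * (c' * d') := by
      calc a ^ 3 * c' * (a ^ 3)⁻¹ = a * (a * d' * a⁻¹) * a⁻¹ := by rw [hd'def, pow_succ, sq]; group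
        _ = a * (c' * d') * a⁻¹ := by rw [hshift]
        _ = a * c' * a⁻¹ * (a * d' * a⁻¹) := by group
        _ = d' * (c' * d') := by rw [hshift]
    have h4 : d' * (c' * d') ∈ zpowers c := by
      rw [← hc'z, show d' * (c' * d') = (d' * c' * d'⁻¹) * d' ^ 2 by rw [sq]; group, hinv, hsq]
      exact mul_mem (inv_mem (mem_zpowers c')) (pow_mem (mem_zpowers c') 2)
    have h5 : a ^ 3 ∈ Subgroup.normalizer (zpowers c : Set _) := by
      refine mem_normalizer_of_conj_le' _ ?_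
      intro x hx
      rw [← hc'z] at hx ⊢
      obtain ⟨j, rfl⟩ := hx
      show a ^ 3 * c' ^ j * (a ^ 3)⁻¹ ∈ zpowers c'
      rw [← conj_zpow, h3, hc'z]
      exact zpow_mem h4 j
    obtain ⟨m, hm⟩ := exists_pow_eq_self_of_coprime (x := a) (n := 3) (by
      rw [hao]; exact (Nat.coprime_primes Nat.prime_three hpp).mpr (Ne.symm hp3))
    exact hm ▸ pow_mem h5 m
  subst hp3
  refine ⟨rfl, ?_⟩
  have hcard : Nat.card R = 8 := by
    have hi : (zpowers c₀).index = 2 := by
      refine Subgroup.index_eq_two_iff.mpr ⟨b₀, fun q => ?_⟩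
      by_cases hq : q ∈ zpowers c₀
      · exact Or.inr ⟨hq, fun h => hb₀ ((Subgroup.mul_mem_cancel_left _ hq).mp h)⟩
      · refine Or.inl ⟨?_, hq⟩
        obtain ⟨i, rfl | rfl⟩ := hgen₀ q
        · exact absurd (pow_mem (mem_zpowers c₀) i) hq
        · rw [show b₀ * c₀ ^ i * b₀ = (b₀ * c₀ ^ i * b₀⁻¹) * b₀ ^ 2 by rw [sq]; group, ← conj_pow, hbc₀, hb2₀]
          exact mul_mem (pow_mem (inv_mem (mem_zpowers c₀)) i) (pow_mem (mem_zpowers c₀) _)
    rw [← (zpowers c₀).card_mul_index, hi, Nat.card_zpowers, hc₀]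
    norm_num
  refine ⟨PGroups.nonempty_mulEquiv_quaternion (n := 2) (by rw [hc₀]; norm_num) hb₀ (by simpa using hb2₀)
    hbc₀ (by rw [hcard]), ?_⟩
  have hrel' : H25.SL23Rel c' a := ⟨hap, by rw [← hc'o, pow_orderOf_eq_one], hsq, hinv, hshift⟩
  have hc'2 : c' ^ 2 ≠ 1 := fun h => by
    have := Nat.le_of_dvd two_pos (orderOf_dvd_of_pow_eq_one h)
    omega
  have haR' : a ∉ R := fun h => by
    have h' := hordR a h
    rw [hao] at h'
    exact absurd h' (by decide)
  obtain ⟨f, hf, hfc, hfa⟩ := H25.exists_model_hom hrel' hc'2 (fun h => haR' ((Subgroup.closure_le R).mpr (by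
    rintro x (rfl | rfl)
    · exact hc'R
    · exact hconj _ hc'R) h))
  have hcf : c ∈ f.range := by
    have : c ∈ zpowers c' := hc'z ▸ mem_zpowers c
    exact zpowers_le.mpr hfc this
  have hRf : R ≤ f.range := by
    intro x hx
    have hdf : d ∈ f.range := f.range.mul_mem (f.range.mul_mem hfa hcf) (f.range.inv_mem hfa)
    obtain ⟨j, rfl | rfl⟩ := hel x hx
    · exact f.range.zpow_mem hcf j
    · exact f.range.mul_mem (f.range.zpow_mem hcf j) hdf
  have hle : R ⊔ zpowers a ≤ f.range := sup_le hRf (zpowers_le.mpr hfa)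
  have hM : Nat.card f.range = 24 := by
    rw [← Nat.card_congr (MonoidHom.ofInjective hf).toEquiv, SemidirectProduct.card, Nat.card_eq_fintype_card,
      Nat.card_eq_fintype_card]
    decide
  have heq : R ⊔ zpowers a = f.range := by
    refine Subgroup.eq_of_le_of_card_ge hle ?_
    rw [hM]
    have h8 : 8 ∣ Nat.card ↥(R ⊔ zpowers a) := hcard ▸ Subgroup.card_dvd_of_le le_sup_left
    have h3 : 3 ∣ Nat.card ↥(R ⊔ zpowers a) := by
      have := Subgroup.card_dvd_of_le (le_sup_right : zpowers a ≤ R ⊔ zpowers a)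
      rwa [Nat.card_zpowers, hao] at this
    exact Nat.le_of_dvd Nat.card_pos (Nat.Coprime.mul_dvd_of_dvd_of_dvd (by norm_num) h8 h3)
  obtain ⟨φ⟩ := H25.nonempty_model_equiv_SL
  exact ⟨((MulEquiv.subgroupCongr heq).trans (MonoidHom.ofInjective hf).symm).trans φ⟩

end Cfsg.Agent.S3740
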