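import Cfsg.Statements.S3741
import Cfsg.Agent.PGroups.Basic

set_option autoImplicit false
open Cfsg

namespace Cfsg.Agent.S3741

open scoped commutatorElement

variable {G : Type*} [Group G]

private theorem exists_gen_of_index {G : Type*} [Group G] [Finite G] {p : ℕ} [hp : Fact p.Prime]
    (hG : IsPGroup p G) {B : Subgroup G} {K : Subgroup B} {m : ℕ} (hm : K.index = p ^ m) :
    ∃ S : Finset B, S.card ≤ m ∧ Subgroup.closure (S : Set B) ⊔ K = ⊤ := by
  classical
  induction m using Nat.strong_induction_on generalizing K with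
  | _ m ih =>
    rcases eq_or_ne K ⊤ with rfl | hK
    · exact ⟨∅, by simp, by simp⟩
    obtain ⟨x, hx⟩ : ∃ x : B, x ∉ K := by
      by_contra h
      push Not at h
      exact hK (eq_top_iff.2 fun x _ => h x)
    set K' := K ⊔ Subgroup.zpowers x with hK'
    obtain ⟨m', hm'⟩ := (hG.to_subgroup B).index K'
    have hlt : K < K' :=
      lt_of_le_of_ne le_sup_left fun h => hx (h ▸ Subgroup.mem_sup_right (Subgroup.mem_zpowers x))
    have hlt2 : m' < m := by
      have h := Subgroup.index_strictAnti hlt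
      rw [hm, hm'] at h
      exact (Nat.pow_lt_pow_iff_right hp.out.one_lt).1 h
    obtain ⟨S, hS, hgen⟩ := ih m' hlt2 hm'
    refine ⟨insert x S, le_trans (Finset.card_insert_le _ _) (by omega), ?_⟩
    rw [eq_top_iff, ← hgen, hK']
    refine sup_le (le_sup_of_le_left (Subgroup.closure_mono (by simp))) (sup_le le_sup_right ?_)
    exact le_sup_of_le_left (Subgroup.zpowers_le.2 (Subgroup.subset_closure (by simp)))

private theorem key [Finite G] {p : ℕ} [hp : Fact p.Prime] (hG : IsPGroup p G) (A B : Subgroup G)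
    (hAB : ⁅A, B⁆ ≤ A ⊓ B) (hcard : Nat.card ↥⁅A, B⁆ ≤ p) (h0 : ⁅A, B⁆ ≠ ⊥) :
    (A ⊓ Subgroup.centralizer (B : Set G)).relIndex A ≤
      (B ⊓ Subgroup.centralizer (A : Set G)).relIndex B := by
  classical
  have hp' := hp.out
  set Z := ⁅A, B⁆ with hZ
  have hZp : Nat.card Z = p := by
    obtain ⟨k, hk⟩ := IsPGroup.iff_card.1 (hG.to_subgroup Z)
    have h1 : 1 < Nat.card Z := by
      rw [Finite.one_lt_card_iff_nontrivial, Subgroup.nontrivial_iff_ne_bot]; exact h0
    rw [hk] at hcard h1 ⊢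
    have : k ≤ 1 := (Nat.pow_le_pow_iff_right hp'.one_lt).1 (by simpa using hcard)
    rcases Nat.le_one_iff_eq_zero_or_eq_one.1 this with rfl | rfl
    · simp at h1
    · exact pow_one p
  -- `Z` is central in `A ⊔ B`
  set J := A ⊔ B with hJ
  have hZJ : Z ≤ J := hAB.trans (inf_le_left.trans le_sup_left)
  have hcen : ∀ g ∈ J, ∀ z ∈ Z, g * z = z * g := by
    have hnA : A ≤ Subgroup.normalizer (Z : Set G) := Subgroup.normalizer_commutator_ge_left A B
    have hnB : B ≤ Subgroup.normalizer (Z : Set G) := Subgroup.normalizer_commutator_ge_right A B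
    haveI : (Z.subgroupOf J).Normal :=
      (Subgroup.normal_subgroupOf_iff_le_normalizer hZJ).2 (sup_le hnA hnB)
    have hnt : Z.subgroupOf J ≠ ⊥ := by
      intro h
      apply h0
      rw [Subgroup.subgroupOf_eq_bot, disjoint_iff, inf_eq_left.2 hZJ] at h
      exact h
    have hc := Cfsg.Agent.PGroups.inf_center_ne_bot (hG.to_subgroup J) (Z.subgroupOf J) hnt
    obtain ⟨w, hw, hw1⟩ := (Subgroup.bot_or_exists_ne_one _).resolve_left hc
    intro g hg z hz
    have hgen : Subgroup.zpowers (⟨w, hw.1⟩ : Z.subgroupOf J) = ⊤ := by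
      apply zpowers_eq_top_of_prime_card (p := p)
      · rw [Nat.card_congr (Subgroup.subgroupOfEquivOfLe hZJ).toEquiv, hZp]
      · intro h; exact hw1 (congrArg Subtype.val h)
    obtain ⟨k, hk⟩ := Subgroup.mem_zpowers_iff.1
      (hgen ▸ Subgroup.mem_top (⟨⟨z, hZJ hz⟩, hz⟩ : Z.subgroupOf J))
    have hk' : ((w : J) : G) ^ k = z := congrArg (fun a : Z.subgroupOf J => ((a : J) : G)) hk
    rw [← hk']
    have := congrArg Subtype.val (Subgroup.mem_center_iff.1 hw.2 ⟨g, hg⟩)
    exact (show Commute g ((w : J) : G) from this).zpow_right k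
  have hmem : ∀ (a : A) (b : B), ⁅(a : G), (b : G)⁆ ∈ Z := fun a b =>
    Subgroup.commutator_mem_commutator a.2 b.2
  have hmulA : ∀ (a a' : A) (b : B), ⁅(a : G) * a', (b : G)⁆ = ⁅(a : G), (b : G)⁆ * ⁅(a' : G), (b : G)⁆ := by
    intro a a' b
    have e : ⁅(a : G) * a', (b : G)⁆ = (a : G) * ⁅(a' : G), (b : G)⁆ * (a : G)⁻¹ * ⁅(a : G), (b : G)⁆ := by
      simp only [commutatorElement_def]; group
    rw [e, hcen a (Subgroup.mem_sup_left a.2) _ (hmem a' b), mul_inv_cancel_right]
    exact hcen _ (hZJ (hmem a' b)) _ (hmem a b)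
  have hmulB : ∀ (a : A) (b b' : B), ⁅(a : G), (b : G) * b'⁆ = ⁅(a : G), (b : G)⁆ * ⁅(a : G), (b' : G)⁆ := by
    intro a b b'
    have e : ⁅(a : G), (b : G) * b'⁆ = ⁅(a : G), (b : G)⁆ * ((b : G) * ⁅(a : G), (b' : G)⁆ * (b : G)⁻¹) := by
      simp only [commutatorElement_def]; group
    rw [e, hcen b (Subgroup.mem_sup_right b.2) _ (hmem a b'), mul_inv_cancel_right]
  set K := (B ⊓ Subgroup.centralizer (A : Set G)).subgroupOf B with hK
  set r := K.index with hr
  obtain ⟨m, hm⟩ := (hG.to_subgroup B).index K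
  -- generators of `B` modulo `K`, as few as the index allows
  obtain ⟨S, hScard, hSgen⟩ := exists_gen_of_index hG hm
  let f : A → (S → Z) := fun a s => ⟨⁅(a : G), ((s : B) : G)⁆, hmem a s⟩
  have hf : ∀ a a' : A, f a = f a' → (a⁻¹ * a' : G) ∈ A ⊓ Subgroup.centralizer (B : Set G) := by
    intro a a' h
    refine ⟨A.mul_mem (A.inv_mem a.2) a'.2, ?_⟩
    let H : Subgroup B :=
      { carrier := {b | ⁅(a : G), (b : G)⁆ = ⁅(a' : G), (b : G)⁆}
        one_mem' := by simp
        mul_mem' := fun {x y} hx hy => by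
          simp only [Set.mem_setOf_eq, Subgroup.coe_mul] at *
          rw [hmulB, hmulB, hx, hy]
        inv_mem' := fun {x} hx => by
          simp only [Set.mem_setOf_eq] at *
          have h1 := hmulB a x x⁻¹
          have h2 := hmulB a' x x⁻¹
          rw [Subgroup.coe_inv, mul_inv_cancel, commutatorElement_one_right] at h1 h2
          rw [Subgroup.coe_inv]
          rw [hx] at h1
          exact mul_left_cancel (h1.symm.trans h2) }
    have htop : H = ⊤ := by
      rw [eq_top_iff, ← hSgen]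
      refine sup_le ((Subgroup.closure_le _).2 fun s hs => ?_) fun k hk => ?_
      · exact congrArg Subtype.val (congrFun h ⟨s, hs⟩)
      · show ⁅(a : G), (k : G)⁆ = ⁅(a' : G), (k : G)⁆
        have hc := Subgroup.mem_centralizer_iff.1 hk.2
        rw [commutatorElement_eq_one_iff_mul_comm.2 (show (a : G) * (k : G) = (k : G) * a from hc a a.2),
          commutatorElement_eq_one_iff_mul_comm.2 (show (a' : G) * (k : G) = (k : G) * a' from hc a' a'.2)]
    refine Subgroup.mem_centralizer_iff.2 fun b hb => ?_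
    have hb' : ⁅(a : G), b⁆ = ⁅(a' : G), b⁆ := by
      have : (⟨b, hb⟩ : B) ∈ H := htop ▸ Subgroup.mem_top _
      exact this
    have h1 := hmulA a⁻¹ a' ⟨b, hb⟩
    have h2 := hmulA a⁻¹ a ⟨b, hb⟩
    simp only [Subgroup.coe_inv, inv_mul_cancel, commutatorElement_one_left] at h1 h2
    rw [← hb', ← h2] at h1
    exact (commutatorElement_eq_one_iff_mul_comm.1 h1).symm
  set L := (A ⊓ Subgroup.centralizer (B : Set G)).subgroupOf A
  have hinj : Nat.card (A ⧸ L) ≤ Nat.card (S → Z) := by
    refine Nat.card_le_card_of_injective (fun q => f q.out) fun q q' h => ?_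
    rw [← QuotientGroup.out_eq' q, ← QuotientGroup.out_eq' q', QuotientGroup.eq]
    exact hf _ _ h
  show L.index ≤ K.index
  rw [Subgroup.index_eq_card, hm]
  refine hinj.trans ?_
  rw [Nat.card_fun, hZp, Nat.card_eq_fintype_card, Fintype.card_coe]
  exact Nat.pow_le_pow_right hp'.pos hScard


/-- Let A and B be subgroups of a finite p-group with [A, B] ≤ A ∩ B and [A, B] of order at most p. Then |A : C_A(B)| = |B : C_B(A)|. -/
theorem result {G : Type*} [Group G] [Finite G] {p : ℕ} [Fact p.Prime] (hG : IsPGroup p G) (A B : Subgroup G) (hAB : ⁅A, B⁆ ≤ A ⊓ B) (hcard : Nat.card ↥⁅A, B⁆ ≤ p) : (A ⊓ Subgroup.centralizer (B : Set G)).relIndex A = (B ⊓ Subgroup.centralizer (A : Set G)).relIndex B := by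
  classical
  rcases eq_or_ne ⁅A, B⁆ ⊥ with h0 | h0
  · have e1 : A ⊓ Subgroup.centralizer (B : Set G) = A :=
      inf_eq_left.2 (Subgroup.commutator_eq_bot_iff_le_centralizer.1 h0)
    have e2 : B ⊓ Subgroup.centralizer (A : Set G) = B :=
      inf_eq_left.2 (Subgroup.commutator_eq_bot_iff_le_centralizer.1 (by rwa [Subgroup.commutator_comm]))
    rw [e1, e2, Subgroup.relIndex_self, Subgroup.relIndex_self]
  have hBA : ⁅B, A⁆ ≤ B ⊓ A := by rw [Subgroup.commutator_comm, inf_comm]; exact hAB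
  exact le_antisymm (key hG A B hAB hcard h0)
    (key hG B A hBA (by rwa [Subgroup.commutator_comm]) (by rwa [Subgroup.commutator_comm]))

end Cfsg.Agent.S3741
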