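import Cfsg.Statements.S3746
import Cfsg.Agent.Components.Basic
-- import your own Cfsg.Agent.* helpers here

set_option autoImplicit false
open Cfsg

namespace Cfsg.Agent.S3746

open Cfsg.Agent.Components
open scoped commutatorElement
set_option linter.style.haveILetI false

/-- Let Z ≤ Z(G) be a central subgroup of a finite group G and E a subgroup of G containing Z whose image E/Z is a component of G/Z (subnormal and quasisimple). Then the derived subgroup [E, E] is a component of G. -/
theorem result {G : Type*} [Group G] [Finite G] (Z : Subgroup G) (hZ : Z ≤ Subgroup.center G) [Z.Normal] (E : Subgroup G) (hZE : Z ≤ E) (hE : Cfsg.IsComponent (E.map (QuotientGroup.mk' Z))) : Cfsg.IsComponent ⁅E, E⁆ := by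
  set π := QuotientGroup.mk' Z
  have hEs : E.IsSubnormal := by
    have h1 := hE.1.comap π
    rwa [Subgroup.comap_map_eq, QuotientGroup.ker_mk', sup_eq_left.mpr hZE] at h1
  set D := ⁅E, E⁆ with hD
  have hDE : D ≤ E := Subgroup.commutator_le_self E
  have hDs : D.IsSubnormal := .step _ _ hDE hEs
    ((Subgroup.normal_subgroupOf_iff_le_normalizer hDE).mpr
      (Subgroup.normalizer_commutator_ge_left E E))
  have hmapD : D.map π = E.map π := by
    rw [hD, Subgroup.map_commutator]
    exact component_perfect hE
  have hZc : ∀ A : Subgroup G, ⁅A, Z⁆ = ⊥ := fun A =>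
    le_bot_iff.mp ((Subgroup.commutator_mono le_rfl hZ).trans (Subgroup.commutator_center_right A).le)
  have hup : ∀ A : Subgroup G, E.map π ≤ A.map π → D ≤ ⁅A, A⁆ := by
    intro A hA
    rw [Subgroup.map_le_iff_le_comap, Subgroup.comap_map_eq, QuotientGroup.ker_mk'] at hA
    rw [hD, Subgroup.commutator_le]
    intro a ha b hb
    obtain ⟨m, hm, z, hz, rfl⟩ := Subgroup.mem_sup_of_normal_right.mp (hA ha)
    obtain ⟨n, hn, w, hw, rfl⟩ := Subgroup.mem_sup_of_normal_right.mp (hA hb)
    have e : ⁅m * z, n * w⁆ = ⁅m, n⁆ := by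
      have hz' : ∀ g, g * z = z * g := Subgroup.mem_center_iff.mp (hZ hz)
      have hw' : ∀ g, g * w = w * g := Subgroup.mem_center_iff.mp (hZ hw)
      simp only [commutatorElement_def, mul_inv_rev, mul_assoc]
      rw [← mul_assoc z, ← hz' n, mul_assoc, ← mul_assoc z, ← hz' w, mul_assoc, mul_inv_cancel_left,
        ← mul_assoc w, ← hw' m⁻¹, mul_assoc, mul_inv_cancel_left]
    rw [e]
    exact Subgroup.commutator_mem_commutator hm hn
  have hperf : ⁅D, D⁆ = D :=
    le_antisymm (Subgroup.commutator_le_self _) (hup D hmapD.ge)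
  haveI : Nontrivial D := (Subgroup.nontrivial_iff_ne_bot D).mpr fun hb => qsSub_ne_bot hE.2
    (by rw [← hmapD, hb, Subgroup.map_bot])
  refine ⟨hDs, qs_of_perfect (Subgroup.isPerfect_iff.mpr hperf) fun N hN hNt => ?_⟩
  set A := N.map D.subtype with hA
  have hAD : A ≤ D := Subgroup.map_subtype_le N
  have hAs : A.IsSubnormal := hN.isSubnormal.trans' hDs
  rcases component_le_or_commutator_eq_bot hE (K := A.map π)
      (hAs.map (QuotientGroup.mk'_surjective Z)) with h | h
  · exfalso
    apply hNt
    have hDA : A = D := le_antisymm hAD ((hup A h).trans (Subgroup.commutator_le_self A))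
    exact Subgroup.map_subtype_inj.mp (hDA.trans
      (by rw [← MonoidHom.range_eq_map, Subgroup.range_subtype]))
  · rw [← hmapD, ← Subgroup.map_commutator, Subgroup.map_eq_bot_iff, QuotientGroup.ker_mk'] at h
    have h2 : ⁅D, A⁆ = ⊥ := commutator_eq_bot_of_perfect hperf (le_bot_iff.mp
      ((Subgroup.commutator_mono h le_rfl).trans
        ((Subgroup.commutator_comm _ _).le.trans (hZc D).le)))
    intro x hx
    rw [Subgroup.mem_center_iff]
    exact fun y => Subtype.ext (commute_of_commutator_eq_bot h2 y.2 ⟨x, hx, rfl⟩)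

end Cfsg.Agent.S3746
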