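import Cfsg.Statements.S3747
import Cfsg.Agent.Components.Layer
-- import your own Cfsg.Agent.* helpers here

set_option autoImplicit false
open Cfsg

namespace Cfsg.Agent.S3747

open Cfsg.Agent.Components
open scoped commutatorElement
set_option linter.style.haveILetI false

/-- Let G be a finite group. (a) If K is a component of G with trivial centre, then the normal closure of K in G is a minimal normal subgroup of G. (b) If the Fitting subgroup of G is trivial, then the layer E(G) is generated by the minimal normal subgroups of G. -/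
theorem result {G : Type*} [Group G] [Finite G] : (∀ K : Subgroup G, Cfsg.IsComponent K → Subgroup.center ↥K = ⊥ → (Subgroup.normalClosure (K : Set G) ≠ ⊥ ∧ ∀ N : Subgroup G, N.Normal → N ≤ Subgroup.normalClosure (K : Set G) → N = ⊥ ∨ N = Subgroup.normalClosure (K : Set G))) ∧ (Cfsg.fittingSubgroup G = ⊥ → sSup {N : Subgroup G | N ≠ ⊥ ∧ N.Normal ∧ ∀ N' : Subgroup G, N'.Normal → N' ≤ N → N' = ⊥ ∨ N' = N} = Cfsg.layer G) := by
  classical
  have hmin : ∀ K : Subgroup G, Cfsg.IsComponent K → Subgroup.center ↥K = ⊥ →
      (Subgroup.normalClosure (K : Set G) ≠ ⊥ ∧ ∀ N : Subgroup G, N.Normal →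
        N ≤ Subgroup.normalClosure (K : Set G) →
          N = ⊥ ∨ N = Subgroup.normalClosure (K : Set G)) := by
    intro K hK hZ
    refine ⟨fun hb => qsSub_ne_bot hK.2 (le_bot_iff.mp (hb ▸ Subgroup.le_normalClosure)),
      fun N hN hle => ?_⟩
    rcases component_le_or_commutator_eq_bot hK hN.isSubnormal with h | h
    · exact Or.inr (le_antisymm hle (Subgroup.normalClosure_le_normal h))
    left
    let s : Finset (Subgroup G) := (Set.toFinite
      (Set.range fun g : G => K.map (MulAut.conj g).toMonoidHom)).toFinset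
    have hs : ∀ L ∈ s, ∃ g : G, K.map (MulAut.conj g).toMonoidHom = L :=
      fun L hL => by simpa [s] using hL
    have hsc : ∀ L ∈ s, Cfsg.IsComponent L := fun L hL => by
      obtain ⟨g, rfl⟩ := hs L hL
      exact component_conj hK g
    have hcl : Subgroup.normalClosure (K : Set G) ≤ ⨆ L ∈ s, L := by
      refine (Subgroup.closure_le _).mpr fun x hx => ?_
      obtain ⟨a, ha, hax⟩ := Group.mem_conjugatesOfSet_iff.mp hx
      obtain ⟨g, rfl⟩ := isConj_iff.mp hax
      exact Subgroup.mem_iSup_of_mem (K.map (MulAut.conj g).toMonoidHom)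
        (Subgroup.mem_iSup_of_mem (by simp [s]) ⟨a, ha, rfl⟩)
    rw [eq_bot_iff]
    intro z hz
    have hz' := mem_iSup_center_of_commutes s hsc (hcl (hle hz)) fun L hL y hy => by
      obtain ⟨g, rfl⟩ := hs L hL
      obtain ⟨x, hx, rfl⟩ := hy
      have h1 := commute_of_commutator_eq_bot h hx (hN.conj_mem z hz g⁻¹)
      have h2 := congrArg (MulAut.conj g) h1
      simp only [map_mul, MulAut.conj_apply] at h2
      simpa [mul_assoc] using h2
    refine (iSup₂_le fun L hL => ?_ : (⨆ L ∈ s, (Subgroup.center ↥L).map L.subtype) ≤ ⊥) hz'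
    obtain ⟨g, rfl⟩ := hs L hL
    rw [← map_center_equiv (K.equivMapOfInjective _ (MulAut.conj g).injective), hZ,
      Subgroup.map_bot, Subgroup.map_bot]
  refine ⟨hmin, fun hF => le_antisymm (sSup_le ?_) (layer_le_iff.mpr fun L hL => ?_)⟩
  · rintro N ⟨hN1, hN, hN2⟩
    rcases hN2 (N ⊓ Cfsg.layer G) inferInstance inf_le_left with h | h
    · exfalso
      apply hN1
      have hC := centralizer_genFitting_le (G := G)
      rw [genFitting_eq_sup, hF, sup_bot_eq] at hC
      have h2 : N ≤ Subgroup.centralizer (Cfsg.layer G : Set G) :=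
        Subgroup.commutator_eq_bot_iff_le_centralizer.mp
          (Subgroup.commutator_eq_bot_of_disjoint (disjoint_iff.mpr h))
      rw [← h]
      exact (inf_eq_left.mpr (h2.trans hC)).symm
    · rw [← h]; exact inf_le_right
  · have hZ : Subgroup.center ↥L = ⊥ := by
      rw [← Subgroup.map_eq_bot_iff_of_injective _ L.subtype_injective, ← le_bot_iff]
      calc (Subgroup.center ↥L).map L.subtype
          ≤ ⨆ M : {K : Subgroup G // Cfsg.IsComponent K},
              (Subgroup.center (M : Subgroup G)).map (M : Subgroup G).subtype :=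
            le_iSup (fun M : {K : Subgroup G // Cfsg.IsComponent K} =>
              (Subgroup.center (M : Subgroup G)).map (M : Subgroup G).subtype) ⟨L, hL⟩
        _ = Cfsg.fittingSubgroup G ⊓ Cfsg.layer G :=
            center_layer.symm.trans center_layer_eq_fitting_inf
        _ ≤ ⊥ := hF ▸ inf_le_left
    exact Subgroup.le_normalClosure.trans (le_sSup
      ⟨(hmin L hL hZ).1, Subgroup.normalClosure_normal, (hmin L hL hZ).2⟩)

end Cfsg.Agent.S3747
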