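import Cfsg.Statements.S3749
import Cfsg.Agent.Coprime.Action
import Cfsg.Agent.Cores.PCore

set_option autoImplicit false
set_option linter.style.haveILetI false
set_option linter.unusedVariables false
open Cfsg

namespace Cfsg.Agent.S3749

open Subgroup


/-- Call a proper subgroup M of G primitive when M = N_G(N) for every non-trivial normal subgroup N of M. Let M be a primitive subgroup of the finite group G, p a prime with O_p(M) ≠ 1, and N a normal subgroup of G with M ∩ N = 1. Then p does not divide the order of N; for every prime q there is exactly one Sylow q-subgroup of N normalized by M; and if the order of N has at least two prime divisors then M is not a maximal subgroup of G. -/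
theorem result {G : Type*} [Group G] [Finite G] (M : Subgroup G) (hM : M ≠ ⊤) (hprim : ∀ N : Subgroup G, N ≤ M → M ≤ Subgroup.normalizer (N : Set G) → N ≠ ⊥ → Subgroup.normalizer (N : Set G) = M) {p : ℕ} [Fact p.Prime] (hOp : Cfsg.pCore p ↥M ≠ ⊥) (N : Subgroup G) [N.Normal] (hMN : M ⊓ N = ⊥) : ¬ p ∣ Nat.card N ∧ (∀ q : ℕ, [Fact q.Prime] → ∃! Q : Sylow q ↥N, M ≤ Subgroup.normalizer ((Q : Subgroup ↥N).map N.subtype : Set G)) ∧ ((∃ q r : ℕ, q.Prime ∧ r.Prime ∧ q ≠ r ∧ q ∣ Nat.card N ∧ r ∣ Nat.card N) → ¬ IsCoatom M) := by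
  classical
  set P : Subgroup G := (Cfsg.pCore p ↥M).map M.subtype with hPdef
  have hPM : P ≤ M := map_subtype_le _
  have hPne : P ≠ ⊥ := by
    simpa [hPdef, Subgroup.map_eq_bot_iff_of_injective _ M.subtype_injective] using hOp
  have hMP : M ≤ normalizer (P : Set G) := by
    intro g hg
    refine Coprime.mem_normalizer_of_map_conj ?_
    have h := (inferInstance : (Cfsg.pCore p ↥M).Normal)
    ext x
    constructor
    · rintro ⟨_, ⟨y, hy, rfl⟩, rfl⟩
      exact ⟨⟨g, hg⟩ * y * ⟨g, hg⟩⁻¹, h.conj_mem y hy _, rfl⟩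
    · rintro ⟨y, hy, rfl⟩
      refine ⟨((⟨g, hg⟩⁻¹ * y * ⟨g, hg⟩ : M) : G), ⟨_, h.conj_mem' y hy _, rfl⟩, ?_⟩
      simp [mul_assoc]
  have hN : normalizer (P : Set G) = M := hprim P hPM hMP hPne
  have hfix : ∀ x ∈ N, x ∈ centralizer (P : Set G) → x = 1 := fun x hxN hx =>
    Subgroup.mem_bot.mp (hMN ▸ ⟨hN ▸ centralizer_le_normalizer _ hx, hxN⟩)
  have hPp : IsPGroup p P := (Cores.pCore_isPGroup (p := p) (G := ↥M)).map _
  have hdvd : ¬ p ∣ Nat.card N := by
    intro hd
    letI : MulAction P N := MulAction.compHom N ((MulAut.conjNormal (H := N)).comp P.subtype)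
    obtain ⟨b, hb, hb1⟩ := hPp.exists_fixed_point_of_prime_dvd_card_of_fixed_point N hd (a := (1 : N))
      (fun g => Subtype.ext (show (g : G) * 1 * (g : G)⁻¹ = 1 by simp))
    refine hb1 (Subtype.ext (hfix b b.2 (mem_centralizer_iff.mpr fun g hg => ?_)).symm)
    have h1 : g * (b : G) * g⁻¹ = b := congrArg Subtype.val (hb ⟨g, hg⟩)
    exact mul_inv_eq_iff_eq_mul.1 h1
  have hPN : P ≤ normalizer (N : Set G) := le_normalizer_of_normal
  have hcop : (Nat.card P).Coprime (Nat.card N) := by
    obtain ⟨k, hk⟩ := IsPGroup.iff_card.mp hPp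
    rw [hk]
    exact Nat.Coprime.pow_left _ (((Fact.out : p.Prime).coprime_iff_not_dvd).2 hdvd)
  haveI : Group.IsNilpotent P := hPp.isNilpotent
  have hsolv : Group.IsSolvable P ∨ Group.IsSolvable N := Or.inl inferInstance
  have huniq : ∀ (q : ℕ) [Fact q.Prime] (Q Q' : Sylow q N),
      P ≤ normalizer (((Q : Subgroup N).map N.subtype : Subgroup G) : Set G) →
      P ≤ normalizer (((Q' : Subgroup N).map N.subtype : Subgroup G) : Set G) → Q = Q' := by
    intro q _ Q Q' hQ hQ'
    obtain ⟨c, hc, he⟩ := Coprime.exists_conj_invariant_sylow hPN hcop hsolv q Q Q' hQ hQ'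
    have hc1 : c = 1 := Subtype.ext (hfix c c.2 hc)
    rw [← he, hc1]
    simp
  have hexist : ∀ (q : ℕ) [Fact q.Prime], ∃! Q : Sylow q N,
      M ≤ normalizer ((Q : Subgroup N).map N.subtype : Set G) := by
    intro q _
    obtain ⟨Q, hQ⟩ := Coprime.exists_invariant_sylow hPN hcop hsolv q
    refine ⟨Q, fun g hg => ?_, fun Q' hQ' => huniq q Q' Q (hPM.trans hQ') hQ⟩
    let Q' : Sylow q N := Sylow.ofCard ((Q : Subgroup N).map (MulAut.conjNormal g).toMonoidHom)
      (by rw [Subgroup.card_map_of_injective (MulEquiv.injective _)]; exact Q.card_eq_multiplicity)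
    have he : (Q' : Subgroup N).map N.subtype =
        ((Q : Subgroup N).map N.subtype).map (MulAut.conj g).toMonoidHom := by
      simp only [Q', Sylow.coe_ofCard, Subgroup.map_map]
      congr 1
    refine Coprime.mem_normalizer_of_map_conj ?_
    have hP' : P ≤ normalizer (((Q' : Subgroup N).map N.subtype : Subgroup G) : Set G) := by
      rw [he]
      intro x hx
      refine Coprime.mem_normalizer_of_map_conj ?_
      have hgx : g⁻¹ * x * g ∈ P := by
        simpa using Coprime.conj_mem (hMP (M.inv_mem hg)) hx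
      rw [Coprime.map_conj_map_conj, show x * g = g * (g⁻¹ * x * g) by group, ← Coprime.map_conj_map_conj,
        Coprime.map_conj_eq (hQ hgx)]
    have h := huniq q Q' Q hP' hQ
    rw [← he, h]
  refine ⟨hdvd, hexist, ?_⟩
  rintro ⟨q, r, hq, hr, hqr, hqd, hrd⟩ hM'
  haveI := Fact.mk hq
  haveI := Fact.mk hr
  obtain ⟨Q, hQ, -⟩ := hexist q
  set R := (Q : Subgroup N).map N.subtype with hR
  have hRN : R ≤ N := map_subtype_le _
  have hRne : R ≠ ⊥ := by
    simpa [hR, Subgroup.map_eq_bot_iff_of_injective _ N.subtype_injective] using Q.ne_bot_of_dvd_card hqd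
  have hlt : M < M ⊔ R := lt_of_le_of_ne le_sup_left fun h => by
    refine hRne (le_bot_iff.mp (hMN ▸ le_inf ?_ hRN))
    exact le_sup_right.trans h.ge
  have htop := hM'.2 _ hlt
  have hNR : N ≤ R := by
    intro x hx
    have hx' : x ∈ ((M ⊔ R : Subgroup G) : Set G) := by simp [htop]
    rw [coe_mul_of_left_le_normalizer_right M R hQ] at hx'
    obtain ⟨m, hm, y, hy, rfl⟩ := Set.mem_mul.mp hx'
    have hmN : m ∈ N := by simpa using N.mul_mem hx (N.inv_mem (hRN hy))
    have h0 : m ∈ M ⊓ N := ⟨hm, hmN⟩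
    rw [hMN] at h0
    rw [Subgroup.mem_bot.mp h0, one_mul]
    exact hy
  have hcard : r ∣ Nat.card (Q : Subgroup N) := by
    rw [← Subgroup.card_map_of_injective N.subtype_injective]
    exact hrd.trans (Subgroup.card_dvd_of_le hNR)
  obtain ⟨k, hk⟩ := IsPGroup.iff_card.mp Q.isPGroup'
  rw [hk] at hcard
  exact hqr ((Nat.prime_dvd_prime_iff_eq hr hq).mp (hr.dvd_of_dvd_pow hcard)).symm

end Cfsg.Agent.S3749
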