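import Cfsg.Statements.S3750
import Cfsg.Agent.Components.Primitive
import Cfsg.Agent.S3747
-- import your own Cfsg.Agent.* helpers here

set_option autoImplicit false
open Cfsg

namespace Cfsg.Agent.S3750

open Cfsg.Agent.Components
open scoped commutatorElement
set_option linter.style.haveILetI false

/-- Call a proper subgroup M of G primitive when M = N_G(N) for every non-trivial normal subgroup N of M. Let M be a primitive subgroup of the finite group G and N a normal subgroup of G with M ∩ F*(N) ≠ 1. Then F(G) = 1 and F*(N) = F*(G) = E(G); in particular every minimal normal subgroup of G is contained in N. -/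
theorem result {G : Type*} [Group G] [Finite G] (M : Subgroup G) (hM : M ≠ ⊤) (hprim : ∀ N : Subgroup G, N ≤ M → M ≤ Subgroup.normalizer (N : Set G) → N ≠ ⊥ → Subgroup.normalizer (N : Set G) = M) (N : Subgroup G) [N.Normal] (hMF : M ⊓ (Cfsg.generalizedFittingSubgroup ↥N).map N.subtype ≠ ⊥) : Cfsg.fittingSubgroup G = ⊥ ∧ (Cfsg.generalizedFittingSubgroup ↥N).map N.subtype = Cfsg.generalizedFittingSubgroup G ∧ Cfsg.generalizedFittingSubgroup G = Cfsg.layer G ∧ ∀ K : Subgroup G, K.Normal → K ≠ ⊥ → (∀ K' : Subgroup G, K'.Normal → K' ≤ K → K' = ⊥ ∨ K' = K) → K ≤ N := by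
  set FN := (Cfsg.generalizedFittingSubgroup ↥N).map N.subtype with hFN
  have hFN' : FN = Cfsg.generalizedFittingSubgroup G ⊓ N :=
    genFitting_subnormal (Subgroup.Normal.isSubnormal inferInstance)
  have hX : FN.Normal := by rw [hFN']; infer_instance
  have hNX := hprim (M ⊓ FN) inf_le_left
    ((le_inf Subgroup.le_normalizer (le_normalizer_of_normal _)).trans
      Subgroup.inf_normalizer_le_normalizer_inf) hMF
  have hcentM : Subgroup.centralizer ((M ⊓ FN : Subgroup G) : Set G) ≤ M :=
    (Subgroup.centralizer_le_normalizer _).trans hNX.le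
  have hF : Cfsg.fittingSubgroup G = ⊥ := by
    by_contra hne
    haveI : Nontrivial ↥(Cfsg.fittingSubgroup G) := (Subgroup.nontrivial_iff_ne_bot _).mpr hne
    obtain ⟨z, hz⟩ := Subgroup.ne_bot_iff_exists_ne_one.mp
      (Group.IsNilpotent.center_ne_bot (G := ↥(Cfsg.fittingSubgroup G)))
    have hzc : ∀ y ∈ Cfsg.generalizedFittingSubgroup G, y * ((z.1 : G)) = (z.1 : G) * y := by
      have h1 : Cfsg.generalizedFittingSubgroup G ≤ Subgroup.centralizer {(z.1 : G)} := by
        refine sup_le ?_ ?_
        · intro y hy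
          exact Subgroup.mem_centralizer_singleton_iff.mpr
            (commute_of_commutator_eq_bot layer_commutator_fitting hy z.1.2)
        · intro y hy
          exact Subgroup.mem_centralizer_singleton_iff.mpr
            (congrArg Subtype.val (Subgroup.mem_center_iff.mp z.2 ⟨y, hy⟩))
      exact fun y hy => Subgroup.mem_centralizer_singleton_iff.mp (h1 hy)
    apply hz
    have hzM : (z.1 : G) ∈ M ⊓ Cfsg.fittingSubgroup G :=
      ⟨hcentM (Subgroup.mem_centralizer_iff.mpr fun y hy => hzc y (by
        have := (hFN'.le hy.2).1; exact this)), z.1.2⟩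
    rw [primitive_inf_nilpotent hM hprim] at hzM
    exact Subtype.ext (Subtype.ext hzM)
  have hFE : Cfsg.generalizedFittingSubgroup G = Cfsg.layer G := by
    rw [genFitting_eq_sup, hF, sup_bot_eq]
  have hEN : Cfsg.layer G ≤ N := by
    refine layer_le_iff.mpr fun L hL => ?_
    refine (component_le_or_commutator_eq_bot_normal hL N).resolve_right fun h => ?_
    refine primitive_no_component hM hprim hL (le_trans ?_ hcentM)
    exact (Subgroup.commutator_eq_bot_iff_le_centralizer.mp h).trans
      (Subgroup.centralizer_le fun x hx => (hFN'.le hx.2).2)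
  refine ⟨hF, by rw [hFN', inf_eq_left, hFE]; exact hEN, hFE, fun K hK hK1 hKmin => ?_⟩
  exact ((le_sSup (show K ∈ {N : Subgroup G | N ≠ ⊥ ∧ N.Normal ∧ ∀ N' : Subgroup G, N'.Normal → N' ≤ N → N' = ⊥ ∨ N' = N} from ⟨hK1, hK, hKmin⟩)).trans
    ((Cfsg.Agent.S3747.result (G := G)).2 hF).le).trans hEN

end Cfsg.Agent.S3750
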