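import Cfsg.Statements.S3751
import Cfsg.Agent.H60.Basic
import Cfsg.Agent.Cores.PCore

set_option autoImplicit false
open Cfsg

namespace Cfsg.Agent.S3751

open Subgroup Cfsg.Agent Cfsg.Agent.H60

section

variable {G : Type*} [Group G] [Finite G] {p : ℕ} [Fact p.Prime]

/-- `p`-local subgroups. -/
def IsLoc (p : ℕ) (M : Subgroup G) : Prop :=
  ∃ T : Subgroup G, IsPGroup p T ∧ T ≠ ⊥ ∧ M = normalizer (T : Set G)

/-- maximal `p`-local subgroups. -/
def IsMax (p : ℕ) (M : Subgroup G) : Prop := IsLoc p M ∧ ∀ L, IsLoc p L → M ≤ L → L = M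

theorem exists_isMax {M : Subgroup G} (h : IsLoc p M) : ∃ L, IsMax p L ∧ M ≤ L := by
  obtain ⟨L, ⟨hL, hML⟩, hmax⟩ := wellFounded_gt.has_min {L | IsLoc p L ∧ M ≤ L} ⟨M, h, le_rfl⟩
  exact ⟨L, ⟨hL, fun K hK hLK => by
    by_contra hne
    exact hmax K ⟨hK, hML.trans hLK⟩ (lt_of_le_of_ne hLK fun e => hne e.symm)⟩, hML⟩

theorem IsLoc.charP (hloc : Cfsg.IsOfLocalCharacteristic p G) {M : Subgroup G} (hM : IsLoc p M) :
    centralizer (Cfsg.pCore p M : Set M) ≤ Cfsg.pCore p M := by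
  obtain ⟨T, hT, hne, rfl⟩ := hM
  exact hloc.2 T hT hne

theorem IsLoc.pCoreOf_ne_bot {M : Subgroup G} (hM : IsLoc p M) : Cfsg.pCoreOf p M ≠ ⊥ := by
  obtain ⟨T, hT, hne, rfl⟩ := hM
  intro h
  exact hne (le_bot_iff.mp (h ▸ le_pCoreOf le_normalizer le_rfl hT))

theorem IsLoc.conj {M : Subgroup G} (hM : IsLoc p M) (g : G) : IsLoc p (cj M g) := by
  obtain ⟨T, hT, hne, rfl⟩ := hM
  exact ⟨cj T g, isPGroup_cj hT g, fun h => hne (cj_eq_bot_iff.mp h), cj_normalizer T g⟩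

theorem IsMax.conj {M : Subgroup G} (hM : IsMax p M) (g : G) : IsMax p (cj M g) := by
  refine ⟨hM.1.conj g, fun L hL h => ?_⟩
  rw [cj_le_iff] at h
  have := congrArg (fun X => cj X g) (hM.2 _ (hL.conj g⁻¹) h)
  simpa only [cj_cj, mul_inv_cancel, cj_one] using this

theorem IsMax.normalizer_eq {M : Subgroup G} (hM : IsMax p M) : normalizer (M : Set G) = M := by
  refine le_antisymm ?_ le_normalizer
  have h := hM.2 (normalizer (Cfsg.pCoreOf p M : Set G))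
    ⟨_, pCoreOf_isPGroup M, hM.1.pCoreOf_ne_bot, rfl⟩ (le_normalizer_pCoreOf M)
  exact (normalizer_le_normalizer_pCoreOf M).trans h.le

theorem IsMax.normalizer_le (hloc : Cfsg.IsOfLocalCharacteristic p G) {M A : Subgroup G}
    (hM : IsMax p M) (hA : A ≠ ⊥) (hAM : A ≤ M) (hn : M ≤ normalizer (A : Set G)) :
    normalizer (A : Set G) ≤ M := by
  have hne : A ⊓ Cfsg.pCoreOf p M ≠ ⊥ := by
    intro h
    apply hA
    have hd : Disjoint (A.subgroupOf M) (Cfsg.pCore p M) := by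
      rw [disjoint_iff, eq_bot_iff]
      rintro x ⟨hx1, hx2⟩
      have : (x : G) ∈ A ⊓ Cfsg.pCoreOf p M := ⟨hx1, x, hx2, rfl⟩
      rw [h, mem_bot] at this
      exact mem_bot.mpr (Subtype.ext this)
    haveI : (A.subgroupOf M).Normal := (normal_subgroupOf_iff_le_normalizer hAM).mpr hn
    have hcent : A.subgroupOf M ≤ centralizer (Cfsg.pCore p M : Set M) := fun x hx =>
      mem_centralizer_iff.mpr fun y hy => (Subgroup.commute_of_normal_of_disjoint _ _ ‹_›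
        (Cfsg.pCore_normal p M) hd x y hx hy).eq.symm
    have hle : A.subgroupOf M ≤ Cfsg.pCore p M := hcent.trans (hM.1.charP hloc)
    rw [← h, eq_comm, inf_eq_left]
    intro a ha
    exact ⟨⟨a, hAM ha⟩, hle (mem_subgroupOf.mpr ha), rfl⟩
  have hQ : A ⊓ Cfsg.pCoreOf p M ≤ Cfsg.pCoreOf p A :=
    le_pCoreOf inf_le_left ((le_inf le_normalizer (hAM.trans (le_normalizer_pCoreOf M))).trans
      (fun x hx => by
        rw [← cj_eq_self_iff, cj_inf, cj_eq_self_iff.mpr hx.1, cj_eq_self_iff.mpr hx.2]))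
      ((pCoreOf_isPGroup M).to_le inf_le_right)
  have h := hM.2 (normalizer (Cfsg.pCoreOf p A : Set G))
    ⟨_, pCoreOf_isPGroup A, fun h => hne (le_bot_iff.mp (h ▸ hQ)), rfl⟩
    (hn.trans (normalizer_le_normalizer_pCoreOf A))
  exact (normalizer_le_normalizer_pCoreOf A).trans h.le

theorem exists_normalizer_gt {T P : Subgroup G} (hP : IsPGroup p P) (h : T < P) :
    ∃ g ∈ P, g ∉ T ∧ g ∈ normalizer (T : Set G) := by
  have hne : T.subgroupOf P ≠ ⊤ := fun e => not_le_of_gt h (subgroupOf_eq_top.mp e)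
  obtain ⟨x, hx, hxn⟩ := SetLike.exists_of_lt (PGroups.lt_normalizer hP hne)
  refine ⟨x, x.2, hxn, mem_normalizer_iff.mpr fun y => ?_⟩
  constructor
  · intro hy
    exact (mem_normalizer_iff.mp hx ⟨y, h.le hy⟩).mp hy
  · intro hy
    have hyP : y ∈ P := by
      have := mul_mem (mul_mem (inv_mem x.2) (h.le hy)) x.2
      simpa [mul_assoc] using this
    exact (mem_normalizer_iff.mp hx ⟨y, hyP⟩).mpr hy

/-- the pair produced by two distinct maximal local subgroups. -/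
theorem pair (hloc : Cfsg.IsOfLocalCharacteristic p G) {M₁ M₂ : Subgroup G} (h1 : IsMax p M₁)
    (h2 : IsMax p M₂) (hne : M₁ ≠ M₂) (h12 : Cfsg.pCoreOf p M₁ ≤ M₂) (h21 : Cfsg.pCoreOf p M₂ ≤ M₁) :
    ∃ M₁ M₂ : Subgroup G, M₁ ≠ M₂ ∧ (∀ A : Subgroup G, A ≠ ⊥ → A ≤ M₁ ⊓ M₂ →
      (M₁ ≤ normalizer (A : Set G) → M₂ ⊓ normalizer (A : Set G) = M₁ ⊓ M₂) ∧
      (M₂ ≤ normalizer (A : Set G) → M₁ ⊓ normalizer (A : Set G) = M₁ ⊓ M₂)) ∧
      centralizer (Cfsg.pCore p M₁ : Set M₁) ≤ Cfsg.pCore p M₁ ∧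
      centralizer (Cfsg.pCore p M₂ : Set M₂) ≤ Cfsg.pCore p M₂ ∧
      (Cfsg.pCore p M₁).map M₁.subtype ⊔ (Cfsg.pCore p M₂).map M₂.subtype ≤ M₁ ⊓ M₂ := by
  refine ⟨M₁, M₂, hne, fun A hA hle => ⟨fun hn => ?_, fun hn => ?_⟩, h1.1.charP hloc,
    h2.1.charP hloc, sup_le (le_inf (pCoreOf_le M₁) h12) (le_inf h21 (pCoreOf_le M₂))⟩
  · rw [le_antisymm (h1.normalizer_le hloc hA (hle.trans inf_le_left) hn) hn, inf_comm]
  · rw [le_antisymm (h2.normalizer_le hloc hA (hle.trans inf_le_right) hn) hn]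

theorem pCoreOf_le_of_maximal {M T : Subgroup G} (hT : IsPGroup p T) (hTM : T ≤ M)
    (hmax : ∀ Q : Subgroup G, IsPGroup p Q → T ≤ Q → Q ≤ M → Q = T) : Cfsg.pCoreOf p M ≤ T := by
  have h := hmax (Cfsg.pCoreOf p M ⊔ T) ((pCoreOf_isPGroup M).to_sup_of_normal_left' hT
    (hTM.trans (le_normalizer_pCoreOf M))) le_sup_right (sup_le (pCoreOf_le M) hTM)
  exact h ▸ le_sup_left

end

/-- Two distinct subgroups M₁, M₂ of G form a primitive pair when, for {i, j} = {1, 2}, every non-trivial normal subgroup A of M_i contained in M₁ ∩ M₂ satisfies N_{M_j}(A) = M₁ ∩ M₂; the pair has characteristic p when moreover C_{M_i}(O_p(M_i)) ≤ O_p(M_i) for both i and O_p(M₁)O_p(M₂) ≤ M₁ ∩ M₂. Let G be a finite group, p a prime dividing its order, with O_p(G) = 1 and every p-local subgroup of characteristic p. Then either G has a primitive pair of characteristic p, or every maximal p-local subgroup M of G is strongly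 p-embedded in G: M is a proper subgroup, p divides its order, and for every g ∉ M the order of M ∩ gMg⁻¹ is prime to p. -/
theorem result {G : Type*} [Group G] [Finite G] {p : ℕ} [Fact p.Prime] (hloc : Cfsg.IsOfLocalCharacteristic p G) (hOp : Cfsg.pCore p G = ⊥) : (∃ M₁ M₂ : Subgroup G, M₁ ≠ M₂ ∧ (∀ A : Subgroup G, A ≠ ⊥ → A ≤ M₁ ⊓ M₂ → (M₁ ≤ Subgroup.normalizer (A : Set G) → M₂ ⊓ Subgroup.normalizer (A : Set G) = M₁ ⊓ M₂) ∧ (M₂ ≤ Subgroup.normalizer (A : Set G) → M₁ ⊓ Subgroup.normalizer (A : Set G) = M₁ ⊓ M₂)) ∧ Subgroup.centralizer (Cfsg.pCore p ↥M₁ : Set ↥M₁) ≤ Cfsg.pCore p ↥M₁ ∧ Subgroup.centralizer (Cfsg.pCore p ↥M₂ : Set ↥M₂) ≤ Cfsg.pCore p ↥M₂ ∧ (Cfsg.pCore p ↥M₁).map M₁.subtype ⊔ (Cfsg.pCore p ↥M₂).map M₂.subtype ≤ M₁ ⊓ M₂) ∨ (∀ M : Subgroup G, (∃ T : Subgroup G, IsPGroup p T ∧ T ≠ ⊥ ∧ M = Subgroup.normalizer (T : Set G)) → (∀ L : Subgroup G, (∃ T : Subgroup G, IsPGroup p T ∧ T ≠ ⊥ ∧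 L = Subgroup.normalizer (T : Set G)) → M ≤ L → L = M) → M ≠ ⊤ ∧ p ∣ Nat.card M ∧ ∀ g : G, g ∉ M → ¬ p ∣ Nat.card ↥(M ⊓ M.map (MulAut.conj g).toMonoidHom)) := by
  by_cases hex : ∃ T M₁ M₂ : Subgroup G,
      IsPGroup p T ∧ T ≠ ⊥ ∧ IsMax p M₁ ∧ IsMax p M₂ ∧ M₁ ≠ M₂ ∧ T ≤ M₁ ∧ T ≤ M₂
  · left
    obtain ⟨T, ⟨M₁, M₂, hT, hT1, h1, h2, hne, hT₁, hT₂⟩, hmax⟩ := wellFounded_gt.has_min
      {T : Subgroup G | ∃ M₁ M₂ : Subgroup G,
        IsPGroup p T ∧ T ≠ ⊥ ∧ IsMax p M₁ ∧ IsMax p M₂ ∧ M₁ ≠ M₂ ∧ T ≤ M₁ ∧ T ≤ M₂} hex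
    obtain ⟨S, hS⟩ := hT.exists_le_sylow
    by_cases hST : (S : Subgroup G) = T
    · have key : ∀ M : Subgroup G, T ≤ M → Cfsg.pCoreOf p M ≤ T := fun M hM =>
        pCoreOf_le_of_maximal hT hM fun Q hQ hTQ _ =>
          (S.is_maximal' hQ (hST.le.trans hTQ)).trans hST
      exact pair hloc h1 h2 hne ((key M₁ hT₁).trans hT₂) ((key M₂ hT₂).trans hT₁)
    · obtain ⟨L, hL, hNL⟩ := exists_isMax (p := p) (M := normalizer (T : Set G)) ⟨T, hT, hT1, rfl⟩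
      obtain ⟨M, hM, hTM, hML⟩ : ∃ M, IsMax p M ∧ T ≤ M ∧ M ≠ L := by
        by_cases h : M₁ = L
        · exact ⟨M₂, h2, hT₂, fun e => hne (h.trans e.symm)⟩
        · exact ⟨M₁, h1, hT₁, h⟩
      have hQ : ∀ Q : Subgroup G, IsPGroup p Q → T ≤ Q → Q ≤ M → Q = T := by
        intro Q hQ hTQ hQM
        by_contra hne'
        obtain ⟨g, hgQ, hgT, hgN⟩ :=
          exists_normalizer_gt hQ (lt_of_le_of_ne hTQ fun e => hne' e.symm)
        have hlt : T < T ⊔ zpowers g := lt_of_le_of_ne le_sup_left fun e =>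
          hgT (e ▸ mem_sup_right (mem_zpowers g))
        exact hmax (T ⊔ zpowers g) ⟨M, L, hQ.to_le (sup_le hTQ (zpowers_le.mpr hgQ)),
          fun e => hT1 (le_bot_iff.mp (e ▸ le_sup_left)), hM, hL, hML,
          sup_le hTM (zpowers_le.mpr (hQM hgQ)),
          sup_le (le_normalizer.trans hNL) (zpowers_le.mpr (hNL hgN))⟩ hlt
      obtain ⟨g, hgS, hgT, hgN⟩ :=
        exists_normalizer_gt S.isPGroup' (lt_of_le_of_ne hS fun e => hST e.symm)
      have hgM : g ∉ M := fun h => hgT ((hQ (T ⊔ zpowers g)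
        (S.isPGroup'.to_le (sup_le hS (zpowers_le.mpr hgS))) le_sup_left
        (sup_le hTM (zpowers_le.mpr h))) ▸ mem_sup_right (mem_zpowers g))
      have hTg : cj T g = T := cj_eq_self_iff.mpr hgN
      have hne' : M ≠ cj M g := fun e => hgM (hM.normalizer_eq.le (cj_eq_self_iff.mp e.symm))
      have hTMg : T ≤ cj M g := hTg ▸ cj_mono hTM g
      refine pair hloc hM (hM.conj g) hne' ((pCoreOf_le_of_maximal hT hTM hQ).trans hTMg)
        (((pCoreOf_le_of_maximal hT hTMg fun Q hQp hTQ hQM => ?_)).trans hTM)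
      have h := hQ (cj Q g⁻¹) (isPGroup_cj hQp _)
        (by rw [le_cj_iff, inv_inv, hTg]; exact hTQ) (by rw [cj_le_iff, inv_inv]; exact hQM)
      have := congrArg (fun X => cj X g) h
      simpa only [cj_cj, mul_inv_cancel, cj_one, hTg] using this
  · right
    intro M hM hmax
    have hMax : IsMax p M := ⟨hM, hmax⟩
    obtain ⟨T, hT, hT1, rfl⟩ := hM
    refine ⟨fun h => ?_, ?_, fun g hg hdvd => ?_⟩
    · haveI : T.Normal := normalizer_eq_top_iff.mp h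
      exact hT1 (le_bot_iff.mp (hOp ▸ Cores.le_pCore hT))
    · obtain ⟨n, hn⟩ := IsPGroup.iff_card.mp hT
      have h0 : n ≠ 0 := fun h => hT1 (Subgroup.card_eq_one.mp (by rw [hn, h, pow_zero]))
      exact ((dvd_pow_self p h0).trans (hn ▸ dvd_rfl)).trans (card_dvd_of_le le_normalizer)
    · obtain ⟨x, hx⟩ := exists_prime_orderOf_dvd_card' p hdvd
      refine hex ⟨zpowers (x : G), normalizer (T : Set G), cj (normalizer (T : Set G)) g,
        IsPGroup.of_card (n := 1) (by rw [Nat.card_zpowers, pow_one, Subgroup.orderOf_coe, hx]),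
        fun h => (Fact.out : p.Prime).ne_one ?_, hMax, hMax.conj g,
        fun e => hg (hMax.normalizer_eq.le (cj_eq_self_iff.mp e.symm)),
        zpowers_le.mpr x.2.1, zpowers_le.mpr x.2.2⟩
      rw [← hx, ← Subgroup.orderOf_coe, ← Nat.card_zpowers, h, card_bot]

end Cfsg.Agent.S3751
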