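import Cfsg.Statements.S3753
import Cfsg.Agent.H25.ThompsonApps
import Cfsg.Agent.Thompson.QdLocal
import Cfsg.Agent.Thompson.Forms

set_option autoImplicit false
open Cfsg

namespace Cfsg.Agent.S3753

universe u

open Subgroup

/-- With abelian Sylow 2-subgroups, 2-elements generating a 2-group commute in every section. -/
theorem comm_of_section {X : Type*} [Group X] [Finite X] (h2 : ∀ S : Sylow 2 X, IsMulCommutative (S : Subgroup X))
    {M : Subgroup X} {Y : Type*} [Group Y] (φ : M →* Y) (hφ : Function.Surjective φ)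
    {T : Subgroup Y} (hT : IsPGroup 2 T) {a b : Y} (ha : a ∈ T) (hb : b ∈ T) : a * b = b * a := by
  haveI : Finite Y := Finite.of_surjective φ hφ
  obtain ⟨T', hTT'⟩ := hT.exists_le_sylow
  obtain ⟨P⟩ : Nonempty (Sylow 2 M) := inferInstance
  obtain ⟨g, hg⟩ := MulAction.exists_smul_eq Y (P.mapSurjective hφ) T'
  obtain ⟨m, rfl⟩ := hφ g
  have hmem : ∀ y ∈ T, ∃ x ∈ ((m • P : Sylow 2 M) : Subgroup M), φ x = y := by
    intro y hy
    have hy' := hTT' hy
    rw [← hg] at hy'
    obtain ⟨_, ⟨x, hx, rfl⟩, rfl⟩ := hy'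
    exact ⟨MulAut.conj m x, ⟨x, hx, rfl⟩, by simp⟩
  obtain ⟨S, hS⟩ := ((m • P : Sylow 2 M).isPGroup'.map M.subtype).exists_le_sylow
  obtain ⟨x, hx, rfl⟩ := hmem a ha
  obtain ⟨y, hy, rfl⟩ := hmem b hb
  haveI := h2 S
  rw [← map_mul, ← map_mul]
  congr 1
  apply Subtype.ext
  simpa using congrArg Subtype.val
    (mul_comm' (⟨x, hS (mem_map_of_mem _ hx)⟩ : (S : Subgroup X)) ⟨y, hS (mem_map_of_mem _ hy)⟩)

/-- `SL₂(p)`, `p` odd, is not a section of a group with abelian Sylow 2-subgroups. -/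
theorem no_sl2 {X : Type*} [Group X] [Finite X] {p : ℕ} [Fact p.Prime] (hp : p ≠ 2)
    (h2 : ∀ S : Sylow 2 X, IsMulCommutative (S : Subgroup X)) :
    ¬ Thompson.HasSection (Matrix.SpecialLinearGroup (Fin 2) (ZMod p)) X := by
  rintro ⟨M, φ, hφ⟩
  obtain ⟨a, b, hab⟩ := ZMod.sq_add_sq p (-1 : ZMod p)
  let i : Matrix.SpecialLinearGroup (Fin 2) (ZMod p) :=
    ⟨!![0, -1; 1, 0], by simp [Matrix.det_fin_two]⟩
  let j : Matrix.SpecialLinearGroup (Fin 2) (ZMod p) :=
    ⟨!![a, b; b, -a], by simp [Matrix.det_fin_two]; linear_combination -hab⟩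
  have hi2 : i * i = -1 := Subtype.ext (by
    rw [Matrix.SpecialLinearGroup.coe_mul, Matrix.SpecialLinearGroup.coe_neg, Matrix.SpecialLinearGroup.coe_one]
    ext r s; fin_cases r <;> fin_cases s <;> simp [i, Matrix.mul_apply, Fin.sum_univ_two])
  have hj2 : j * j = -1 := Subtype.ext (by
    rw [Matrix.SpecialLinearGroup.coe_mul, Matrix.SpecialLinearGroup.coe_neg, Matrix.SpecialLinearGroup.coe_one]
    ext r s; fin_cases r <;> fin_cases s <;> simp [j, Matrix.mul_apply, Fin.sum_univ_two] <;>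
      first | linear_combination hab | ring)
  have hij : j * i = -(i * j) := Subtype.ext (by
    rw [Matrix.SpecialLinearGroup.coe_mul, Matrix.SpecialLinearGroup.coe_neg, Matrix.SpecialLinearGroup.coe_mul]
    ext r s; fin_cases r <;> fin_cases s <;> simp [i, j, Matrix.mul_apply, Fin.sum_univ_two])
  have h4 : ∀ x : Matrix.SpecialLinearGroup (Fin 2) (ZMod p), x * x = -1 → x ^ 2 ^ 2 = 1 := fun x hx => by
    rw [show (2 : ℕ) ^ 2 = 2 * 2 from rfl, pow_mul, pow_two, pow_two, hx]
    exact Subtype.ext (by simp)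
  have hp2 : ∀ x : Matrix.SpecialLinearGroup (Fin 2) (ZMod p), x * x = -1 → IsPGroup 2 (zpowers x) := fun x hx => by
    obtain ⟨k, -, hk⟩ := (Nat.dvd_prime_pow Nat.prime_two).mp (orderOf_dvd_of_pow_eq_one (h4 x hx))
    exact IsPGroup.of_card ((Nat.card_zpowers x).trans hk)
  have hconj : j * i * j⁻¹ = i⁻¹ := by
    rw [mul_inv_eq_iff_eq_mul, hij, inv_eq_of_mul_eq_one_right (show i * -i = 1 by rw [mul_neg, hi2, neg_neg]),
      neg_mul]
  have hT : IsPGroup 2 ↥(zpowers j ⊔ zpowers i) := by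
    refine (hp2 j hj2).to_sup_of_normal_right' (hp2 i hi2) ?_
    rw [zpowers_le]
    refine Coprime.mem_normalizer_of_map_conj ?_
    rw [MonoidHom.map_zpowers]
    show zpowers (j * i * j⁻¹) = zpowers i
    rw [hconj, zpowers_inv]
  have hc := comm_of_section h2 φ hφ hT (mem_sup_left (mem_zpowers j)) (mem_sup_right (mem_zpowers i))
  rw [hij] at hc
  have h1 : (-1 : Matrix.SpecialLinearGroup (Fin 2) (ZMod p)) = 1 := by
    have h3 : -1 * (i * j) = 1 * (i * j) := by rw [one_mul, neg_mul, one_mul, hc]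
    exact mul_right_cancel h3
  have h5 := congrArg (fun x : Matrix.SpecialLinearGroup (Fin 2) (ZMod p) => (x : Matrix (Fin 2) (Fin 2) (ZMod p)) 0 0) h1
  simp at h5
  haveI : Fact (2 < p) := ⟨lt_of_le_of_ne (Fact.out : p.Prime).two_le (Ne.symm hp)⟩
  exact ZMod.neg_one_ne_one h5

/-- The lower K-infinity subgroup of any `p`-subgroup containing `O_p` is normal, for `p` odd, abelian
Sylow 2-subgroups and characteristic `p`. -/
theorem kInf_normal {X : Type u} [Group X] [Finite X] {p : ℕ} [Fact p.Prime] (hp : p ≠ 2)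
    (h2 : ∀ S : Sylow 2 X, IsMulCommutative (S : Subgroup X))
    (hC : centralizer (pCore p X : Set X) ≤ pCore p X) (T : Subgroup X) (hQT : pCore p X ≤ T) :
    (inducedFunctor kInfLower T).Normal := by
  by_contra hn
  set Q := pCore p X with hQ
  have hQp : IsPGroup p Q := Cores.pCore_isPGroup
  obtain ⟨H, hH, -, hHQ, hHC⟩ := PGroups.exists_critical hQp
  have := hH
  set A := H.map Q.subtype with hA
  have hAQ : A ≤ Q := map_subtype_le _
  have hAn : A.Normal := ConjAct.normal_of_characteristic_of_normal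
  have hzc : (H ⊓ centralizer (H : Set Q)).map Q.subtype ≤ H49.zc A := by
    rintro _ ⟨x, ⟨hx, hxc⟩, rfl⟩
    refine ⟨mem_map_of_mem _ hx, mem_centralizer_iff.mpr ?_⟩
    rintro _ ⟨y, hy, rfl⟩
    exact congrArg Subtype.val (mem_centralizer_iff.mp hxc y hy)
  have hTA : ⁅Q, A⁆ ≤ H49.zc A := by
    refine le_trans ?_ hzc
    refine le_trans ?_ (map_mono hHQ)
    rw [map_commutator, ← MonoidHom.range_eq_map, range_subtype, commutator_comm]
  have hA2 : ⁅A, A⁆ ≤ centralizer (A : Set X) :=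
    ((commutator_mono hAQ le_rfl).trans hTA).trans inf_le_right
  obtain ⟨g, hgT, hgQ, -, -, h3⟩ := H49.kInf_main (p := p) T Q A hQT hQp
    (fun N hN hNp => have := hN; Cores.le_pCore hNp) hAQ hTA hA2 (Or.inl hn)
  obtain ⟨U, V, hc, hUA, hq, hnon⟩ := h3
    (fun φ hφ hfix => PGroups.mulAut_eq_one_of_fixed hQp H hHC φ hφ
      fun x hx => hfix x (mem_map_of_mem _ hx)) hC
  haveI := hc.2.2.1
  refine H49.not_pStable_of_quadratic (p := p) hc (hQp.to_le (hUA.trans hAQ)) hq hnon ?_
  intro P hP y hy hquad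
  refine Thompson.isNormalizerPStable_of_qd_free hp (fun hqd => ?_) P hP hy hquad
  obtain ⟨R, -, -, hs⟩ := Thompson.exists_local_sl2_of_qd
    (hqd.of_surjective (QuotientGroup.mk'_surjective V))
  exact no_sl2 hp h2 (hs.of_injective (Subgroup.subtype_injective _))

/-- A nontrivial subgroup of the intersection normalized by the whole of a member. -/
theorem local_normal {G : Type u} [Group G] [Finite G] {p : ℕ} [Fact p.Prime] {M : Subgroup G} (T : Subgroup G)
    (hT : IsPGroup p T) (hTM : T ≤ M) (hQT : (pCore p ↥M).map M.subtype ≤ T)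
    (h2 : ∀ S : Sylow 2 ↥M, IsMulCommutative (S : Subgroup ↥M))
    (hC : centralizer (pCore p ↥M : Set ↥M) ≤ pCore p ↥M) :
    M ≤ normalizer (((if p = 2 then T else inducedFunctor kInfLower T : Subgroup G)) : Set G) := by
  have hQT' : pCore p ↥M ≤ T.subgroupOf M := fun x hx => hQT (mem_map_of_mem _ hx)
  split_ifs with hp
  · subst hp
    obtain ⟨S, hS⟩ := (hT.comap_subtype (K := M)).exists_le_sylow
    have hQS : pCore 2 ↥M ≤ (S : Subgroup ↥M) := hQT'.trans hS
    have hSQ : (S : Subgroup ↥M) ≤ pCore 2 ↥M := fun x hx => hC (mem_centralizer_iff.mpr fun y hy => by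
      haveI := h2 S
      exact congrArg Subtype.val (mul_comm' (⟨y, hQS hy⟩ : (S : Subgroup ↥M)) ⟨x, hx⟩))
    have he : T.subgroupOf M = pCore 2 ↥M := le_antisymm (hS.trans hSQ) hQT'
    haveI : (T.subgroupOf M).Normal := he ▸ inferInstance
    exact (normal_subgroupOf_iff_le_normalizer hTM).mp inferInstance
  · have hW : IsCharPFunctor.{u} p kInfLower := H49.kLike_lower.isCharPFunctor p
    have hN := kInf_normal hp h2 hC (T.subgroupOf M) hQT'
    have e : (inducedFunctor kInfLower (T.subgroupOf M)).map M.subtype = inducedFunctor kInfLower T := by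
      rw [← H25.inducedFunctor_map hW M.subtype (T.subgroupOf M) hT.comap_subtype
        (M.subtype_injective.comp (subtype_injective _)), map_subgroupOf_eq_of_le hTM]
    rw [← e]
    refine le_trans ?_ (le_normalizer_map M.subtype)
    rw [normalizer_eq_top_iff.mpr hN, ← MonoidHom.range_eq_map, range_subtype]

/-- Two distinct subgroups M₁, M₂ of G form a primitive pair when, for {i, j} = {1, 2}, every non-trivial normal subgroup A of M_i contained in M₁ ∩ M₂ satisfies N_{M_j}(A) = M₁ ∩ M₂; the pair has characteristic p when moreover C_{M_i}(O_p(M_i)) ≤ O_p(M_i) for both i and O_p(M₁)O_p(M₂) ≤ M₁ ∩ M₂. If the finite group G has a primitive pair (M₁, M₂) of characteristic p for some prime p, then M₁ or M₂ has non-abelian Sylow 2-subgroups. In particular no group of odd order has a primitive pair of characteristic p. -/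
theorem result {G : Type*} [Group G] [Finite G] {p : ℕ} [Fact p.Prime] (M₁ M₂ : Subgroup G) (hne : M₁ ≠ M₂) (hP : ∀ A : Subgroup G, A ≠ ⊥ → A ≤ M₁ ⊓ M₂ → (M₁ ≤ Subgroup.normalizer (A : Set G) → M₂ ⊓ Subgroup.normalizer (A : Set G) = M₁ ⊓ M₂) ∧ (M₂ ≤ Subgroup.normalizer (A : Set G) → M₁ ⊓ Subgroup.normalizer (A : Set G) = M₁ ⊓ M₂)) (hc₁ : Subgroup.centralizer (Cfsg.pCore p ↥M₁ : Set ↥M₁) ≤ Cfsg.pCore p ↥M₁) (hc₂ : Subgroup.centralizer (Cfsg.pCore p ↥M₂ : Set ↥M₂) ≤ Cfsg.pCore p ↥M₂) (hO : (Cfsg.pCore p ↥M₁).map M₁.subtype ⊔ (Cfsg.pCore p ↥M₂).map M₂.subtype ≤ M₁ ⊓ M₂) : (∃ S : Sylow 2 ↥M₁, ¬ IsMulCommutative (S : Subgroup ↥M₁)) ∨ (∃ S : Sylow 2 ↥M₂, ¬ IsMulCommutative (S : Subgroup ↥M₂)) := by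
  classical
  by_contra hcon
  push Not at hcon
  obtain ⟨h1, h2⟩ := hcon
  set H := M₁ ⊓ M₂
  set Q₁ := (pCore p ↥M₁).map M₁.subtype
  set Q₂ := (pCore p ↥M₂).map M₂.subtype
  obtain ⟨T₀⟩ : Nonempty (Sylow p ↥H) := inferInstance
  set T := (T₀ : Subgroup ↥H).map H.subtype
  have hle : ∀ (M : Subgroup G), H ≤ M → (pCore p ↥M).map M.subtype ≤ H → (pCore p ↥M).map M.subtype ≤ T := by
    intro M hHM hQH
    haveI : (((pCore p ↥M).map M.subtype).subgroupOf H).Normal :=
      (normal_subgroupOf_iff_le_normalizer hQH).mpr (hHM.trans (by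
        refine le_trans ?_ (le_normalizer_map M.subtype)
        rw [normalizer_eq_top_iff.mpr inferInstance, ← MonoidHom.range_eq_map, range_subtype]))
    calc (pCore p ↥M).map M.subtype = (((pCore p ↥M).map M.subtype).subgroupOf H).map H.subtype :=
          (map_subgroupOf_eq_of_le hQH).symm
      _ ≤ T := map_mono ((Cores.le_pCore (p := p) (N := ((pCore p ↥M).map M.subtype).subgroupOf H)
          (((Cores.pCore_isPGroup (p := p)).map M.subtype).comap_subtype (K := H))).trans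
          (Cores.pCore_le_sylow T₀))
  have hQ1T : Q₁ ≤ T := hle M₁ inf_le_left (le_sup_left.trans hO)
  have hQ2T : Q₂ ≤ T := hle M₂ inf_le_right (le_sup_right.trans hO)
  have hTH : T ≤ H := map_subtype_le _
  have hTp : IsPGroup p T := T₀.isPGroup'.map _
  have hTne : T ≠ ⊥ := by
    intro h0
    have htriv : ∀ M : Subgroup G, centralizer (pCore p ↥M : Set ↥M) ≤ pCore p ↥M →
        (pCore p ↥M).map M.subtype ≤ T → M = ⊥ := fun M hC hle => by
      have hb : pCore p ↥M = ⊥ := (map_eq_bot_iff_of_injective _ M.subtype_injective).mp (le_bot_iff.mp (h0 ▸ hle))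
      rw [hb] at hC
      exact (eq_bot_iff_forall M).mpr fun x hx => congrArg Subtype.val
        (mem_bot.mp (hC (mem_centralizer_iff.mpr fun y hy => by simp_all) : (⟨x, hx⟩ : M) ∈ (⊥ : Subgroup M)))
    exact hne ((htriv M₁ hc₁ hQ1T).trans (htriv M₂ hc₂ hQ2T).symm)
  set A : Subgroup G := if p = 2 then T else inducedFunctor kInfLower T
  have hA1 : M₁ ≤ normalizer (A : Set G) := local_normal T hTp (hTH.trans inf_le_left) hQ1T h1 hc₁
  have hA2 : M₂ ≤ normalizer (A : Set G) := local_normal T hTp (hTH.trans inf_le_right) hQ2T h2 hc₂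
  have hAH : A ≤ H := by
    show (if p = 2 then T else inducedFunctor kInfLower T) ≤ H
    split_ifs
    · exact hTH
    · exact (map_subtype_le _).trans hTH
  have hAne : A ≠ ⊥ := by
    show (if p = 2 then T else inducedFunctor kInfLower T) ≠ ⊥
    split_ifs
    · exact hTne
    · exact H25.inducedFunctor_ne_bot (H49.kLike_lower.isCharPFunctor p) hTp hTne
  have e2 := (hP A hAne hAH).1 hA1
  have e1 := (hP A hAne hAH).2 hA2
  rw [inf_eq_left.mpr hA2] at e2
  rw [inf_eq_left.mpr hA1] at e1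
  exact hne (le_antisymm (e1.le.trans inf_le_right) (e2.le.trans inf_le_left))

end Cfsg.Agent.S3753
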