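import Cfsg.Statements.S3754
import Cfsg.Agent.Cores.Constrained
import Cfsg.Agent.Cores.Residual
import Cfsg.Agent.Coprime.Generation
import Cfsg.Agent.PGroups.Basic
import Cfsg.Agent.PGroups.MaxAbelian

set_option autoImplicit false
set_option linter.style.haveILetI false
set_option linter.unusedSectionVars false
set_option maxHeartbeats 1000000
open Cfsg

namespace Cfsg.Agent.S3754

open Subgroup
open scoped commutatorElement

/-- A `p`-subgroup centralising `O_{p'}` of a `p`-solvable group with trivial `O_p` is trivial. -/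
private theorem eq_bot_of_centralizes {G : Type*} [Group G] [Finite G] {p : ℕ} [Fact p.Prime]
    (hs : Cfsg.IsPSolvable p G) (hO : Cfsg.pCore p G = ⊥) {A : Subgroup G} (hA : IsPGroup p A)
    (h : A ≤ centralizer (Cfsg.pPrimeCore p G : Set G)) : A = ⊥ := by
  have hp := (Fact.out : p.Prime)
  set C := centralizer (Cfsg.pPrimeCore p G : Set G) with hC
  haveI : C.Normal := inferInstance
  have hpC : Cfsg.pCore p C = ⊥ := by
    have h1 := Cores.map_pCore_le_of_normal (p := p) C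
    rw [hO, le_bot_iff, Subgroup.map_eq_bot_iff_of_injective _ C.subtype_injective] at h1
    exact h1
  set Z := Cfsg.pPrimeCore p C with hZ
  have hZc : ∀ z ∈ Z, ∀ g : C, g * z = z * g := fun z hz g =>
    Subtype.ext (Subgroup.mem_centralizer_iff.mp g.2 z
      (Cores.map_pPrimeCore_le_of_normal C (Subgroup.mem_map_of_mem C.subtype hz))).symm
  have hQ : Subsingleton (C ⧸ Z) := by
    by_contra hne
    haveI : Nontrivial (C ⧸ Z) := not_subsingleton_iff_nontrivial.mp hne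
    apply Cores.pCore_ne_bot_of_pPrimeCore_eq_bot
      (Cores.isPSolvable_quotient (Cores.isPSolvable_subgroup hs C) Z) Cores.pPrimeCore_quotient_pPrimeCore
    set D := Cfsg.pPrimePCore p C with hD
    obtain ⟨S⟩ : Nonempty (Sylow p D) := inferInstance
    have hmap := Cores.map_sylow_pPrimePCore S
    haveI hSn : (S : Subgroup D).Normal := Subgroup.Normal.mk fun s hs g => by
      have hg : QuotientGroup.mk' Z (g : C) ∈ ((S : Subgroup D).map D.subtype).map (QuotientGroup.mk' Z) :=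
        hmap.symm ▸ g.2
      obtain ⟨_, ⟨t, ht, rfl⟩, htg⟩ := hg
      obtain ⟨z, hz, hz'⟩ := (QuotientGroup.mk'_eq_mk' Z).mp htg
      have e : g * s * g⁻¹ = t * s * t⁻¹ := Subtype.ext (by
        show (g : C) * (s : C) * (g : C)⁻¹ = (t : C) * (s : C) * (t : C)⁻¹
        rw [← hz']
        show (t : C) * z * (s : C) * ((t : C) * z)⁻¹ = _
        rw [mul_assoc (t : C) z, ← hZc z hz (s : C)]
        group)
      rw [e]
      exact (S : Subgroup D).mul_mem ((S : Subgroup D).mul_mem ht hs) ((S : Subgroup D).inv_mem ht)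
    have h2 : (S : Subgroup D).map D.subtype ≤ Cfsg.pCore p C :=
      (Subgroup.map_mono (Cores.le_pCore S.isPGroup')).trans (Cores.map_pCore_le_of_normal D)
    rw [hpC, le_bot_iff] at h2
    rw [h2, Subgroup.map_bot] at hmap
    exact hmap.symm
  have hco : (Nat.card C).Coprime p := by
    have hZtop : Z = ⊤ := eq_top_iff.mpr fun c _ => (QuotientGroup.eq_one_iff c).mp (Subsingleton.elim _ _)
    have h0 := Cores.coprime_card_pPrimeCore (p := p) (G := C)
    rw [← hZ, hZtop, Subgroup.card_top] at h0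
    exact h0
  obtain ⟨k, hk⟩ := IsPGroup.iff_card.mp hA
  refine Subgroup.eq_bot_of_card_eq A (Nat.eq_one_of_dvd_coprimes (hco.coprime_dvd_left (Subgroup.card_dvd_of_le h))
    dvd_rfl ?_)
  rcases Nat.eq_zero_or_pos k with rfl | hkpos
  · rw [hk, pow_zero]; exact one_dvd _
  · exfalso
    have hpd : p ∣ Nat.card A := hk ▸ dvd_pow_self p hkpos.ne'
    exact hp.one_lt.ne' (Nat.eq_one_of_dvd_coprimes hco (hpd.trans (Subgroup.card_dvd_of_le h)) dvd_rfl)


/-- Let M be a finite p-soluble group and A a p-subgroup of M with Φ(A) ≤ O_p(M) but A ≰ O_p(M). Then there is x ∈ O_{p,p'}(M) such that L = ⟨A, xAx⁻¹⟩ satisfies: x ∈ O^p(L) and O^p(L) ≤ O_{p,p'}(M); [O^p(L), A] = O^p(L); A ∩ O_p(L) has index p in A; and [A ∩ O_p(L), L] ≤ O_p(M). Here O^p(L) is the subgroup generated by the p'-elements of L and O_{p,p'}(M) the preimage of O_{p'}(M/O_p(M)). -/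
theorem result {M : Type*} [Group M] [Finite M] {p : ℕ} [Fact p.Prime] (hM : Cfsg.IsPSolvable p M) (A : Subgroup M) (hA : IsPGroup p A) (hΦ : (frattini ↥A).map A.subtype ≤ Cfsg.pCore p M) (hnot : ¬ A ≤ Cfsg.pCore p M) : ∃ x ∈ (Cfsg.pPrimeCore p (M ⧸ Cfsg.pCore p M)).comap (QuotientGroup.mk' (Cfsg.pCore p M)), x ∈ (Cfsg.pResidual p ↥(A ⊔ A.map (MulAut.conj x).toMonoidHom)).map (A ⊔ A.map (MulAut.conj x).toMonoidHom).subtype ∧ (Cfsg.pResidual p ↥(A ⊔ A.map (MulAut.conj x).toMonoidHom)).map (A ⊔ A.map (MulAut.conj x).toMonoidHom).subtype ≤ (Cfsg.pPrimeCore p (M ⧸ Cfsg.pCore p M)).comap (QuotientGroup.mk' (Cfsg.pCore p M)) ∧ ⁅(Cfsg.pResidual p ↥(A ⊔ A.map (MulAut.conj x).toMonoidHom)).map (A ⊔ A.map (MulAut.conj x).toMonoidHom).subtype, A⁆ = (Cfsg.pResidual p ↥(A ⊔ A.map (MulAut.conj x).toMonoidHom)).map (A ⊔ A.map (MulAut.conj x).toMonoidHom).subtype ∧ (A ⊓ (Cfsg.pCore p ↥(A ⊔ A.map (MulAut.conj x).toMonoidHom)).map (A ⊔ A.map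 (MulAut.conj x).toMonoidHom).subtype).relIndex A = p ∧ ⁅A ⊓ (Cfsg.pCore p ↥(A ⊔ A.map (MulAut.conj x).toMonoidHom)).map (A ⊔ A.map (MulAut.conj x).toMonoidHom).subtype, A ⊔ A.map (MulAut.conj x).toMonoidHom⁆ ≤ Cfsg.pCore p M := by
  classical
  have hp := (Fact.out : p.Prime)
  set P := Cfsg.pCore p M with hP
  set π := QuotientGroup.mk' P with hπ
  set Nb := Cfsg.pPrimeCore p (M ⧸ P) with hNb
  set N := Nb.comap π with hN
  haveI : N.Normal := inferInstance
  set Ab := A.map π with hAb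
  have hAb_p : IsPGroup p Ab := hA.map π
  have hfr : ∀ y ∈ frattini A, π (y : M) = 1 := fun y hy =>
    (QuotientGroup.eq_one_iff _).mpr (hΦ ⟨y, hy, rfl⟩)
  have hAbc : ∀ u ∈ Ab, ∀ v ∈ Ab, u * v = v * u := by
    rintro _ ⟨a, ha, rfl⟩ _ ⟨b, hb, rfl⟩
    rw [← commutatorElement_eq_one_iff_mul_comm, ← map_commutatorElement]
    exact hfr ⁅(⟨a, ha⟩ : A), ⟨b, hb⟩⁆
      (PGroups.commutator_le_frattini hA (commutator_mem_commutator (mem_top _) (mem_top _)))
  have hAbe : ∀ u ∈ Ab, u ^ p = 1 := by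
    rintro _ ⟨a, ha, rfl⟩
    rw [← map_pow]
    exact hfr ((⟨a, ha⟩ : A) ^ p) (PGroups.pow_mem_frattini hA _)
  haveI : IsMulCommutative Ab := PGroups.isMulCommutative_of_comm hAbc
  have hNbn : Ab ≤ Subgroup.normalizer (Nb : Set (M ⧸ P)) := by
    rw [Subgroup.normalizer_eq_top_iff.mpr (inferInstance : Nb.Normal)]; exact le_top
  have hcop : (Nat.card Ab).Coprime (Nat.card Nb) := by
    obtain ⟨k, hk⟩ := IsPGroup.iff_card.mp hAb_p
    rw [hk]
    exact Nat.Coprime.pow_left k (Cores.coprime_card_pPrimeCore (p := p)).symm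
  obtain ⟨B, hBA, ⟨a₀, ha₀, hB⟩, hBne⟩ : ∃ B ≤ Ab, (∃ a ∈ Ab, B ⊔ zpowers a = Ab) ∧
      ¬ Nb ⊓ centralizer (B : Set (M ⧸ P)) ≤ centralizer (Ab : Set (M ⧸ P)) := by
    by_contra h
    push Not at h
    have h1 := Coprime.le_of_centralizer_cyclic_quotient_le hNbn hcop h
    have h2 : Ab = ⊥ := eq_bot_of_centralizes (Cores.isPSolvable_quotient hM P) Cores.pCore_quotient_pCore hAb_p
      fun u hu => Subgroup.mem_centralizer_iff.mpr fun v hv => (Subgroup.mem_centralizer_iff.mp (h1 hv) u hu).symm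
    rw [hAb, Subgroup.map_eq_bot_iff, hπ, QuotientGroup.ker_mk'] at h2
    exact hnot h2
  have ha₀B : a₀ ∉ B := fun h => hBne (by
    rw [← hB, sup_eq_left.mpr (zpowers_le.mpr h)]; exact inf_le_right)
  have hrelb : B.relIndex Ab = p := by
    obtain ⟨k, hk⟩ := IsPGroup.iff_card.mp hAb_p
    have hmul : Nat.card B * B.relIndex Ab = Nat.card Ab := by
      rw [← relIndex_bot_left B, relIndex_mul_relIndex ⊥ B Ab bot_le hBA, relIndex_bot_left]
    obtain ⟨i, -, hi⟩ := (Nat.dvd_prime_pow hp).mp (hk ▸ Dvd.intro_left _ hmul)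
    have hi0 : i ≠ 0 := by
      rintro rfl
      rw [pow_zero, Subgroup.relIndex_eq_one] at hi
      exact ha₀B (hi ha₀)
    let K : Subgroup (M ⧸ P) :=
      { carrier := {u | ∃ b ∈ B, ∃ j : Fin p, u = b * a₀ ^ (j : ℕ)}
        one_mem' := ⟨1, B.one_mem, ⟨0, hp.pos⟩, by simp⟩
        mul_mem' := by
          rintro _ _ ⟨b, hb, j, rfl⟩ ⟨b', hb', j', rfl⟩
          refine ⟨b * b', B.mul_mem hb hb', ⟨(j + j' : ℕ) % p, Nat.mod_lt _ hp.pos⟩, ?_⟩
          rw [← pow_eq_pow_mod _ (hAbe _ ha₀), pow_add]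
          have hc : Commute (a₀ ^ (j : ℕ)) b' := hAbc _ (Ab.pow_mem ha₀ _) _ (hBA hb')
          rw [← mul_assoc, mul_assoc b, hc.eq, mul_assoc, mul_assoc, mul_assoc]
        inv_mem' := by
          rintro _ ⟨b, hb, j, rfl⟩
          refine ⟨b⁻¹, B.inv_mem hb, ⟨(p - (j : ℕ)) % p, Nat.mod_lt _ hp.pos⟩, ?_⟩
          have hc : Commute (a₀ ^ (j : ℕ))⁻¹ b⁻¹ := hAbc _ (Ab.inv_mem (Ab.pow_mem ha₀ _)) _ (Ab.inv_mem (hBA hb))
          rw [← pow_eq_pow_mod _ (hAbe _ ha₀), mul_inv_rev, hc.eq]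
          congr 1
          exact inv_eq_of_mul_eq_one_right (by rw [← pow_add, Nat.add_sub_cancel' j.2.le, hAbe _ ha₀]) }
    have hle : Ab ≤ K := hB ▸ sup_le (fun b hb => ⟨b, hb, ⟨0, hp.pos⟩, by simp⟩)
      (zpowers_le.mpr ⟨1, B.one_mem, ⟨1, hp.one_lt⟩, by simp⟩)
    have hcard : Nat.card Ab ≤ Nat.card B * p := by
      have h0 : Nat.card (B × Fin p) = Nat.card B * p := by rw [Nat.card_prod, Nat.card_fin]
      rw [← h0]
      refine Nat.card_le_card_of_surjective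
        (fun x : B × Fin p => (⟨(x.1 : M ⧸ P) * a₀ ^ (x.2 : ℕ), Ab.mul_mem (hBA x.1.2) (Ab.pow_mem ha₀ _)⟩ : Ab)) ?_
      rintro ⟨u, hu⟩
      obtain ⟨b, hb, j, rfl⟩ := hle hu
      exact ⟨(⟨b, hb⟩, j), rfl⟩
    rw [← hmul] at hcard
    have h4 : B.relIndex Ab ≤ p := Nat.le_of_mul_le_mul_left hcard Nat.card_pos
    rw [hi] at h4 ⊢
    have : i ≤ 1 := (Nat.pow_le_pow_iff_right hp.one_lt).mp (h4.trans (pow_one p).ge)
    rw [show i = 1 by omega, pow_one]
  set Bt := A ⊓ B.comap π with hBt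
  have hrel : Bt.relIndex A = p := by
    rw [hBt, Subgroup.inf_relIndex_left, Subgroup.relIndex_comap, hrelb]
  have hNpp : ∀ {S : Subgroup M}, IsPGroup p S → ∀ u : M ⧸ P, u ∈ S.map π → u ∈ Nb → u = 1 := by
    intro S hS u hu hu'
    have h := Cores.disjoint_of_isPGroup_of_coprime (hS.map π) (Cores.coprime_card_pPrimeCore (p := p) (G := M ⧸ P))
    exact Subgroup.mem_bot.mp (h ▸ ⟨hu, hu'⟩ : u ∈ (⊥ : Subgroup (M ⧸ P)))
  -- minimal choice
  let S : Set M := {x | x ∈ N ∧ π x ∈ centralizer (B : Set (M ⧸ P)) ∧ π x ∉ centralizer (Ab : Set (M ⧸ P))}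
  have hSne : S.Nonempty := by
    obtain ⟨u, ⟨huN, huB⟩, huA⟩ := SetLike.not_le_iff_exists.mp hBne
    obtain ⟨y, rfl⟩ := QuotientGroup.mk'_surjective P u
    exact ⟨y, huN, huB, huA⟩
  obtain ⟨x₀, hx₀S, hmin⟩ := Set.exists_min_image S
    (fun x => Nat.card ↥(A ⊔ A.map (MulAut.conj x).toMonoidHom)) (Set.toFinite S) hSne
  have hLB : ∀ x ∈ S, A ⊔ A.map (MulAut.conj x).toMonoidHom ≤ (centralizer (B : Set (M ⧸ P))).comap π := by
    intro x hx
    have hAD : A ≤ (centralizer (B : Set (M ⧸ P))).comap π := fun a ha =>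
      Subgroup.mem_centralizer_iff.mpr fun b hb => hAbc b (hBA hb) _ ⟨a, ha, rfl⟩
    refine sup_le hAD ?_
    rintro _ ⟨a, ha, rfl⟩
    exact Subgroup.mul_mem _ (Subgroup.mul_mem _ hx.2.1 (hAD ha)) (Subgroup.inv_mem _ hx.2.1)
  have hLN : ∀ x ∈ S, (Cfsg.pResidual p ↥(A ⊔ A.map (MulAut.conj x).toMonoidHom)).map
      (A ⊔ A.map (MulAut.conj x).toMonoidHom).subtype ≤ N := by
    intro x hx
    rw [Subgroup.map_le_iff_le_comap]
    refine Cores.pResidual_le fun g hg => ?_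
    have hle : A ⊔ A.map (MulAut.conj x).toMonoidHom ≤ (A.map (QuotientGroup.mk' N)).comap (QuotientGroup.mk' N) := by
      refine sup_le (Subgroup.le_comap_map _ _) ?_
      rintro _ ⟨a, ha, rfl⟩
      refine ⟨a, ha, ?_⟩
      show QuotientGroup.mk' N a = QuotientGroup.mk' N (x * a * x⁻¹)
      rw [map_mul, map_mul, map_inv, show QuotientGroup.mk' N x = 1 from (QuotientGroup.eq_one_iff x).mpr hx.1,
        one_mul, inv_one, mul_one]
    obtain ⟨k, hk⟩ := IsPGroup.iff_orderOf.mp (hA.map (QuotientGroup.mk' N)) ⟨_, hle g.2⟩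
    rw [← Subgroup.orderOf_coe] at hk
    have h1 : orderOf (QuotientGroup.mk' N (g : M)) ∣ orderOf g :=
      (orderOf_map_dvd _ (g : M)).trans (Subgroup.orderOf_coe g).dvd
    have h2 : orderOf (QuotientGroup.mk' N (g : M)) = 1 := by
      refine Nat.eq_one_of_dvd_coprimes (hg.pow_right k) h1 ?_
      rw [show orderOf (QuotientGroup.mk' N (g : M)) = p ^ k from hk]
    have h3 := orderOf_eq_one_iff.mp h2
    exact ((QuotientGroup.eq_one_iff (g : M)).mp h3 : (g : M) ∈ N)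
  -- replace `x₀` by an element of the residual
  obtain ⟨x, hxS, hxK⟩ : ∃ x ∈ S, x ∈ (Cfsg.pResidual p ↥(A ⊔ A.map (MulAut.conj x).toMonoidHom)).map
      (A ⊔ A.map (MulAut.conj x).toMonoidHom).subtype := by
    set L := A ⊔ A.map (MulAut.conj x₀).toMonoidHom with hL
    obtain ⟨S₀, hS₀⟩ := (hA.comap_subtype (K := L)).exists_le_sylow
    obtain ⟨S₁, hS₁⟩ := ((hA.map (MulAut.conj x₀).toMonoidHom).comap_subtype (K := L)).exists_le_sylow
    obtain ⟨k₀, hk₀⟩ := MulAction.exists_smul_eq L S₀ S₁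
    obtain ⟨k, hk, s, hs, hks⟩ : ∃ k ∈ Cfsg.pResidual p L, ∃ s ∈ (S₀ : Subgroup L), k * s = k₀ := by
      have h1 : k₀ ∈ Cfsg.pResidual p L ⊔ (S₀ : Subgroup L) := by
        rw [sup_comm, Cores.sylow_sup_pResidual]; exact mem_top _
      exact Subgroup.mem_sup_of_normal_left.mp h1
    have hkS : (k : M) ∈ S := by
      have hkN : (k : M) ∈ N := hLN x₀ hx₀S ⟨k, hk, rfl⟩
      refine ⟨hkN, hLB x₀ hx₀S k.2, fun hkc => hx₀S.2.2 ?_⟩
      set w := π ((k : M)⁻¹ * x₀) with hw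
      have hwN : w ∈ Nb := N.mul_mem (N.inv_mem hkN) hx₀S.1
      have hwc : w ∈ centralizer (Ab : Set (M ⧸ P)) := by
        refine Subgroup.mem_centralizer_iff.mpr ?_
        rintro _ ⟨a, ha, rfl⟩
        have h1 : (⟨x₀ * a * x₀⁻¹, Subgroup.mem_sup_right ⟨a, ha, rfl⟩⟩ : L) ∈ (S₁ : Subgroup L) :=
          hS₁ ⟨a, ha, rfl⟩
        rw [← hk₀, Sylow.coe_subgroup_smul] at h1
        obtain ⟨t, ht, hte⟩ := h1
        have ht' : s * t * s⁻¹ ∈ (S₀ : Subgroup L) :=
          (S₀ : Subgroup L).mul_mem ((S₀ : Subgroup L).mul_mem hs ht) ((S₀ : Subgroup L).inv_mem hs)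
        have hst : ((s * t * s⁻¹ : L) : M) = (k : M)⁻¹ * x₀ * a * ((k : M)⁻¹ * x₀)⁻¹ := by
          have e : k₀ * t * k₀⁻¹ = ⟨x₀ * a * x₀⁻¹, Subgroup.mem_sup_right ⟨a, ha, rfl⟩⟩ := hte
          rw [← hks] at e
          have e' := congrArg Subtype.val e
          simp only [Subgroup.coe_mul, Subgroup.coe_inv] at e' ⊢
          calc (s : M) * t * (s : M)⁻¹ = (k : M)⁻¹ * ((k : M) * s * t * ((k : M) * s)⁻¹) * k := by group
            _ = _ := by rw [e']; group
        have hc1 : w * π a * w⁻¹ * (π a)⁻¹ = 1 := by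
          refine hNpp ((S₀.isPGroup').map L.subtype) _ ⟨((s * t * s⁻¹ : L) : M) * a⁻¹, ?_, ?_⟩ ?_
          · exact ⟨s * t * s⁻¹ * (⟨a, Subgroup.mem_sup_left ha⟩ : L)⁻¹,
              (S₀ : Subgroup L).mul_mem ht' ((S₀ : Subgroup L).inv_mem (hS₀ (show (⟨a, Subgroup.mem_sup_left ha⟩ : L) ∈ A.subgroupOf L from ha))),
              rfl⟩
          · rw [hst, hw, map_mul, map_mul, map_mul, map_inv, map_inv, map_mul, map_inv]
          · rw [mul_assoc w, mul_assoc w]
            exact Nb.mul_mem hwN ((inferInstance : Nb.Normal).conj_mem _ (Nb.inv_mem hwN) (π a))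
        exact (mul_inv_eq_iff_eq_mul.mp (mul_inv_eq_one.mp hc1)).symm
      rw [show π x₀ = π (k : M) * w by rw [hw, ← map_mul, mul_inv_cancel_left]]
      exact Subgroup.mul_mem _ hkc hwc
    have hle : A ⊔ A.map (MulAut.conj (k : M)).toMonoidHom ≤ L := by
      refine sup_le le_sup_left ?_
      rintro _ ⟨a, ha, rfl⟩
      exact L.mul_mem (L.mul_mem k.2 (Subgroup.mem_sup_left ha)) (L.inv_mem k.2)
    have heq := Subgroup.eq_of_le_of_card_ge hle (hmin _ hkS)
    exact ⟨k, hkS, by rw [heq]; exact ⟨k, hk, rfl⟩⟩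
  set L := A ⊔ A.map (MulAut.conj x).toMonoidHom with hL
  set K := (Cfsg.pResidual p L).map L.subtype with hK
  have hAL : A ≤ L := le_sup_left
  have hKn : L ≤ Subgroup.normalizer (K : Set M) := by
    intro g hg
    refine Subgroup.mem_normalizer_iff.mpr fun u => ⟨?_, ?_⟩
    · rintro ⟨v, hv, rfl⟩
      exact ⟨⟨g, hg⟩ * v * (⟨g, hg⟩ : L)⁻¹, (inferInstance : (Cfsg.pResidual p L).Normal).conj_mem v hv _, rfl⟩
    · rintro ⟨v, hv, hve⟩
      refine ⟨(⟨g, hg⟩ : L)⁻¹ * v * ⟨g, hg⟩,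
        (inferInstance : (Cfsg.pResidual p L).Normal).conj_mem' v hv _, ?_⟩
      show g⁻¹ * (v : M) * g = u
      rw [show (v : M) = g * u * g⁻¹ from hve]; group
  have hKA : ⁅K, A⁆ = K := by
    refine le_antisymm (Subgroup.commutator_le.mpr fun u hu a ha => ?_) ?_
    · rw [commutatorElement_def, show u * a * u⁻¹ * a⁻¹ = u * (a * u⁻¹ * a⁻¹) by group]
      exact K.mul_mem hu ((Subgroup.mem_normalizer_iff.mp (hKn (hAL ha)) _).mp (K.inv_mem hu))
    set W := ⁅K, A⁆ with hW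
    have hWn : L ≤ Subgroup.normalizer (W : Set M) := by
      refine sup_le (Subgroup.normalizer_commutator_ge_right _ _) ?_
      rintro _ ⟨a, ha, rfl⟩
      exact (Subgroup.normalizer (W : Set M)).mul_mem ((Subgroup.normalizer (W : Set M)).mul_mem
        (Subgroup.normalizer_commutator_ge_left _ _ hxK) (Subgroup.normalizer_commutator_ge_right _ _ ha))
        ((Subgroup.normalizer (W : Set M)).inv_mem (Subgroup.normalizer_commutator_ge_left _ _ hxK))
    haveI : (W.subgroupOf L).Normal := Subgroup.normal_subgroupOf_of_le_normalizer hWn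
    rw [hK, Subgroup.map_le_iff_le_comap]
    refine Cores.pResidual_le_of_isPGroup_quotient (W.subgroupOf L) ?_
    have hgen : L ≤ (((A.subgroupOf L).map (QuotientGroup.mk' (W.subgroupOf L))).comap
        (QuotientGroup.mk' (W.subgroupOf L))).map L.subtype := by
      refine sup_le (fun a ha => ⟨⟨a, hAL ha⟩, ⟨⟨a, hAL ha⟩, ha, rfl⟩, rfl⟩) ?_
      rintro _ ⟨a, ha, rfl⟩
      refine ⟨⟨x * a * x⁻¹, Subgroup.mem_sup_right ⟨a, ha, rfl⟩⟩, ⟨⟨a, hAL ha⟩, ha, ?_⟩, rfl⟩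
      refine (QuotientGroup.mk'_eq_mk' _).mpr ⟨⟨a⁻¹ * (x * a * x⁻¹), L.mul_mem (L.inv_mem (hAL ha))
        (Subgroup.mem_sup_right ⟨a, ha, rfl⟩)⟩, ?_, Subtype.ext (mul_inv_cancel_left a _)⟩
      show a⁻¹ * (x * a * x⁻¹) ∈ W
      rw [show a⁻¹ * (x * a * x⁻¹) = a⁻¹ * ⁅x, a⁆ * a⁻¹⁻¹ by rw [commutatorElement_def]; group]
      exact (Subgroup.mem_normalizer_iff.mp (hWn (hAL (A.inv_mem ha))) _).mp
        (Subgroup.commutator_mem_commutator hxK ha)
    refine ((hA.comap_subtype (K := L)).map (QuotientGroup.mk' (W.subgroupOf L))).of_surjective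
      (Subgroup.subtype _) fun q => ?_
    induction q using QuotientGroup.induction_on with | _ g =>
    obtain ⟨g', hg', hgg⟩ := hgen g.2
    rw [show g' = g from Subtype.ext hgg] at hg'
    exact ⟨⟨_, hg'⟩, rfl⟩
  have hBtT : Bt ≤ (Cfsg.pCore p L).map L.subtype := by
    have hcom : ∀ g ∈ L, ∀ b ∈ B, π g * b * (π g)⁻¹ = b := fun g hg b hb => by
      rw [← Subgroup.mem_centralizer_iff.mp (hLB x hxS hg) b hb, mul_inv_cancel_right]
    haveI : ((B.comap π).subgroupOf L).Normal := Subgroup.Normal.mk fun u hu g => by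
      show π ((g * u * g⁻¹ : L) : M) ∈ B
      rw [Subgroup.coe_mul, Subgroup.coe_mul, Subgroup.coe_inv, map_mul, map_mul, map_inv, hcom g g.2 (π (u : M)) hu]
      exact hu
    have hTp : IsPGroup p ((B.comap π).subgroupOf L) := by
      refine IsPGroup.comap_subtype ?_
      refine (hAb_p.to_le hBA).comap_of_ker_isPGroup π ?_
      rw [hπ, QuotientGroup.ker_mk']
      exact Cores.pCore_isPGroup
    exact fun b hb => ⟨⟨b, hAL hb.1⟩, Cores.le_pCore hTp hb.2, rfl⟩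
  have hne : ¬ A ≤ (Cfsg.pCore p L).map L.subtype := by
    intro hAO
    have htop : Cfsg.pCore p L = ⊤ := by
      rw [eq_top_iff]
      have hle : L ≤ (Cfsg.pCore p L).map L.subtype := by
        refine sup_le hAO ?_
        rintro _ ⟨a, ha, rfl⟩
        obtain ⟨v, hv, hve⟩ := hAO ha
        refine ⟨⟨x, Subgroup.map_subtype_le _ hxK⟩ * v * (⟨x, Subgroup.map_subtype_le _ hxK⟩ : L)⁻¹,
          (inferInstance : (Cfsg.pCore p L).Normal).conj_mem v hv _, ?_⟩
        show x * (v : M) * x⁻¹ = x * a * x⁻¹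
        rw [show (v : M) = a from hve]
      intro g _
      obtain ⟨g', hg', hgg⟩ := hle g.2
      rwa [show g' = g from Subtype.ext hgg] at hg'
    have hKbot : Cfsg.pResidual p L = ⊥ := Cores.pResidual_eq_bot_iff.mpr (Cores.pCore_eq_top_iff.mp htop)
    have hxK' := hxK
    rw [hK, hKbot, Subgroup.map_bot, Subgroup.mem_bot] at hxK'
    apply hxS.2.2
    rw [hxK', map_one]
    exact one_mem _
  have hcore : A ⊓ (Cfsg.pCore p L).map L.subtype = Bt := by
    refine le_antisymm ?_ (le_inf inf_le_left hBtT)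
    by_contra hlt
    apply hne
    set T := A ⊓ (Cfsg.pCore p L).map L.subtype with hT
    have hBT : Bt ≤ T := le_inf inf_le_left hBtT
    have hdvd : Bt.relIndex T * T.relIndex A = p := by rw [Subgroup.relIndex_mul_relIndex Bt T A hBT inf_le_left, hrel]
    rcases (Nat.dvd_prime hp).mp (Dvd.intro_left _ hdvd) with h1 | h1
    · exact (Subgroup.relIndex_eq_one.mp h1).trans inf_le_right
    · rw [h1] at hdvd
      have h2 : Bt.relIndex T = 1 := mul_eq_right₀ hp.ne_zero |>.mp hdvd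
      exact absurd (Subgroup.relIndex_eq_one.mp h2) hlt
  refine ⟨x, hxS.1, hxK, hLN x hxS, hKA, ?_, ?_⟩
  · rw [hcore, hrel]
  · rw [hcore, Subgroup.commutator_le]
    intro b hb g hg
    show ⁅b, g⁆ ∈ P
    rw [← QuotientGroup.eq_one_iff]
    show π ⁅b, g⁆ = 1
    rw [map_commutatorElement, commutatorElement_eq_one_iff_mul_comm]
    exact Subgroup.mem_centralizer_iff.mp (hLB x hxS hg) _ hb.2

end Cfsg.Agent.S3754
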