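import Cfsg.Statements.S3755
import Cfsg.Agent.Coprime.Generation
import Cfsg.Agent.Coprime.Abelian
import Cfsg.Agent.Cores.PCore
import Cfsg.Agent.PGroups.Basic
import Cfsg.Agent.H41.InvolAction

set_option autoImplicit false
open Cfsg

namespace Cfsg.Agent.S3755

open Subgroup
open Cfsg.Agent.Coprime

private def toPerm : DihedralGroup 3 → Equiv.Perm (Fin 3)
  | .r i => finRotate 3 ^ i.val
  | .sr i => Equiv.swap 0 1 * finRotate 3 ^ i.val

private theorem nonempty_perm_three : Nonempty (DihedralGroup 3 ≃* Equiv.Perm (Fin 3)) := by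
  have hmul : ∀ a b, toPerm (a * b) = toPerm a * toPerm b := by
    rintro (i | i) (j | j) <;> (revert i j; decide)
  refine ⟨MulEquiv.ofBijective (MonoidHom.mk' toPerm hmul) ?_⟩
  have hinj : Function.Injective toPerm := by
    rintro (i | i) (j | j) <;> (revert i j; decide)
  exact (Fintype.bijective_iff_injective_and_card _).2 ⟨hinj, by simp [Fintype.card_perm]; rfl⟩

variable {X : Type*} [Group X]

private theorem conj_pow_inv {a x : X} (h : a * x * a⁻¹ = x⁻¹) (k : ℕ) :
    a * x ^ k * a⁻¹ = (x ^ k)⁻¹ := by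
  rw [← conj_pow, h, inv_pow]

/-- `|V : C_V(A)| ≥ |A| ^ 2` when no involution of `M` inverts an element of order three. -/
private theorem offender_bound [Finite X] (M Q V : Subgroup X) (hV : Cfsg.IsElementaryAbelian 2 V)
    (hMV : M ≤ normalizer (V : Set X)) (hQM : Q ≤ M) (hMQ : M ≤ normalizer (Q : Set X))
    (hQodd : Odd (Nat.card Q)) (hfaith : Q ⊓ centralizer (V : Set X) = ⊥)
    (hno : ∀ a ∈ M, ∀ x ∈ M, a ^ 2 = 1 → a * x * a⁻¹ = x⁻¹ → orderOf x ≠ 3) :
    ∀ (m : ℕ) (A : Subgroup X), Nat.card A ≤ m → A ≤ M → Cfsg.IsElementaryAbelian 2 A →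
      A ⊓ centralizer (Q : Set X) = ⊥ →
      Nat.card A ^ 2 ≤ (V ⊓ centralizer (A : Set X)).relIndex V := by
  intro m
  induction m with
  | zero => intro A hA; have := Nat.card_pos (α := A); omega
  | succ m ih =>
    intro A hm hAM hA hAQ
    haveI := hA.1
    haveI hVc := hV.1
    rcases eq_or_ne A ⊥ with rfl | hA0
    · simp only [Subgroup.card_bot, one_pow]
      exact Nat.one_le_iff_ne_zero.2 Subgroup.index_ne_zero_of_finite
    have h2A : IsPGroup 2 A := fun a => ⟨1, Subtype.ext (by simpa using hA.2 a a.2)⟩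
    have hcopA : (Nat.card A).Coprime (Nat.card Q) := by
      haveI : Fact (Nat.Prime 2) := ⟨Nat.prime_two⟩
      obtain ⟨k, hk⟩ := IsPGroup.iff_card.1 h2A
      rw [hk]; exact Nat.Coprime.pow_left _ (Nat.coprime_two_left.2 hQodd)
    -- a hyperplane `B` and an element `c` centralized by `B` but not by `A`
    obtain ⟨B, hBA, ⟨a, ha, hBa⟩, c, hcQ, hcB, hac⟩ : ∃ B ≤ A, (∃ a ∈ A, B ⊔ zpowers a = A) ∧
        ∃ c ∈ Q, c ∈ centralizer (B : Set X) ∧ ¬ ∀ b ∈ A, c * b = b * c := by
      by_contra hcon
      push Not at hcon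
      have h1 : ⁅Q, A⁆ = ⊥ := by
        rw [← iSup_commutator_cyclic_quotient (hAM.trans hMQ) hcopA, eq_bot_iff]
        refine iSup₂_le fun B hB => ?_
        rw [commutator_le]
        intro c hc b hb
        rw [mem_bot, commutatorElement_eq_one_iff_mul_comm]
        exact hcon B hB.1 hB.2 c hc.1 hc.2 b hb
      apply hA0
      rw [← hAQ, eq_comm, inf_eq_left, ← commutator_eq_bot_iff_le_centralizer, commutator_comm, h1]
    have hacom : ∀ b ∈ A, Commute a b := fun b hb =>
      congrArg Subtype.val (hA.1.is_comm.comm (⟨a, ha⟩ : A) ⟨b, hb⟩)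
    have ha2 : a ^ 2 = 1 := hA.2 a ha
    have hainv : a⁻¹ = a := inv_eq_of_mul_eq_one_left (by rw [← pow_two, ha2])
    have haa : a * a = 1 := by rw [← pow_two, ha2]
    have hnc : a * c * a⁻¹ ≠ c := by
      intro h
      apply hac
      have hle : A ≤ centralizer ({c} : Set X) := by
        rw [← hBa]
        refine sup_le (fun b hb => ?_) (zpowers_le.2 ?_)
        · exact mem_centralizer_iff.2 (by rintro _ rfl; exact (mem_centralizer_iff.1 hcB b hb).symm)
        · exact mem_centralizer_iff.2 (by rintro _ rfl; exact (mul_inv_eq_iff_eq_mul.1 h).symm)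
      exact fun b hb => mem_centralizer_iff.1 (hle hb) c rfl
    set x₀ := c⁻¹ * (a * c * a⁻¹) with hx₀
    have hx₀Q : x₀ ∈ Q := mul_mem (inv_mem hcQ) (conj_mem (hMQ (hAM ha)) hcQ)
    have hx₀1 : x₀ ≠ 1 := fun h => hnc (inv_mul_eq_one.1 h).symm
    have hx₀inv : a * x₀ * a⁻¹ = x₀⁻¹ := by
      rw [hx₀, hainv]
      simp only [mul_inv_rev, inv_inv, hainv]
      calc a * (c⁻¹ * (a * c * a)) * a = a * c⁻¹ * a * c * (a * a) := by group
        _ = a * (c⁻¹ * a) * c := by rw [haa, mul_one]; group
        _ = _ := by group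
    have hx₀B : x₀ ∈ centralizer (B : Set X) := by
      refine mem_centralizer_iff.2 fun b hb => ?_
      have h1 : Commute b c := mem_centralizer_iff.1 hcB b hb
      have h2 : Commute b a := (hacom b (hBA hb)).symm
      exact h1.inv_right.mul_right ((h2.mul_right h1).mul_right h2.inv_right)
    -- pass to prime order
    obtain ⟨r, hr, hrd⟩ := Nat.exists_prime_and_dvd (fun h => hx₀1 (orderOf_eq_one_iff.1 h))
    set x := x₀ ^ (orderOf x₀ / r) with hx
    have hxo : orderOf x = r := orderOf_pow_orderOf_div (orderOf_pos x₀).ne' hrd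
    have hxQ : x ∈ Q := Q.pow_mem hx₀Q _
    have hxinv : a * x * a⁻¹ = x⁻¹ := conj_pow_inv hx₀inv _
    have hxB : x ∈ centralizer (B : Set X) := Subgroup.pow_mem _ hx₀B _
    have hrodd : Odd r := by
      have h1 : orderOf x ∣ Nat.card Q := by
        rw [← Subgroup.orderOf_mk x hxQ]; exact orderOf_dvd_natCard _
      exact hQodd.of_dvd_nat (hxo ▸ h1)
    have hr3 : r ≠ 3 := fun h => hno a (hAM ha) x (hQM hxQ) ha2 hxinv (hxo.trans h)
    have hr5 : 5 ≤ r := by
      have := hr.two_le
      obtain ⟨q, hq⟩ := hrodd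
      omega
    set V1 := V ⊓ centralizer (B : Set X) with hV1
    have hV1c : IsMulCommutative V1 :=
      ⟨⟨fun u v => Subtype.ext (congrArg (Subtype.val : V → X) (hVc.is_comm.comm (⟨u, u.2.1⟩ : V) ⟨v, v.2.1⟩))⟩⟩
    have hnorm : ∀ g ∈ M, g ∈ centralizer (B : Set X) → g ∈ normalizer (V1 : Set X) := by
      intro g hg hgB
      rw [mem_normalizer_iff]
      intro v
      have hcg : ∀ b ∈ (B : Set X), Commute b g := fun b hb => mem_centralizer_iff.1 hgB b hb
      constructor
      · rintro ⟨hv, hvB⟩
        exact ⟨(mem_normalizer_iff.1 (hMV hg) v).1 hv, mem_centralizer_iff.2 fun b hb =>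
          ((hcg b hb).mul_right (mem_centralizer_iff.1 hvB b hb)).mul_right (hcg b hb).inv_right⟩
      · rintro ⟨hv, hvB⟩
        refine ⟨(mem_normalizer_iff.1 (hMV hg) v).2 hv, mem_centralizer_iff.2 fun b hb => ?_⟩
        have := ((hcg b hb).inv_right.mul_right (mem_centralizer_iff.1 hvB b hb)).mul_right (hcg b hb)
        have e : g⁻¹ * (g * v * g⁻¹) * g = v := by group
        rw [e] at this
        exact this
    have haB : a ∈ centralizer (B : Set X) := mem_centralizer_iff.2 fun b hb => (hacom b (hBA hb)).symm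
    have hxV1 : x ∈ normalizer (V1 : Set X) := hnorm x (hQM hxQ) hxB
    have haV1 : a ∈ normalizer (V1 : Set X) := hnorm a (hAM ha) haB
    set Z := zpowers x with hZ
    have hcopZ : ∀ U : Subgroup X, U ≤ V → (Nat.card Z).Coprime (Nat.card U) := by
      intro U hU
      haveI : Fact (Nat.Prime 2) := ⟨Nat.prime_two⟩
      have hU2 : IsPGroup 2 U := fun u => ⟨1, Subtype.ext (by simpa using hV.2 u (hU u.2))⟩
      obtain ⟨k, hk⟩ := IsPGroup.iff_card.1 hU2
      rw [Nat.card_zpowers, hxo, hk]
      exact Nat.Coprime.pow_right _ (Nat.coprime_two_right.2 hrodd)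
    have hWne : ⁅V1, Z⁆ ≠ ⊥ := by
      intro hW
      have hU0 : ⁅V, Z⁆ = ⊥ := by
        by_contra hU
        set U := ⁅V, Z⁆ with hUdef
        have hUV : U ≤ V := commutator_le_left_of_normalizer (zpowers_le.2 (hMV (hQM hxQ)))
        have hBU : B ≤ normalizer (U : Set X) := fun b hb => by
          apply mem_normalizer_of_map_conj
          rw [hUdef, Subgroup.map_commutator, map_conj_eq (hMV (hAM (hBA hb)))]
          congr 1
          rw [hZ, MonoidHom.map_zpowers]
          congr 1
          show b * x * b⁻¹ = x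
          rw [mul_inv_eq_iff_eq_mul]
          exact mem_centralizer_iff.1 hxB b hb
        haveI : Fact (Nat.Prime 2) := ⟨Nat.prime_two⟩
        have h2U : IsPGroup 2 U := fun u => ⟨1, Subtype.ext (by simpa using hV.2 u (hUV u.2))⟩
        have h2J : IsPGroup 2 (U ⊔ B : Subgroup X) :=
          h2U.to_sup_of_normal_left' (h2A.to_le hBA) hBU
        haveI : (U.subgroupOf (U ⊔ B)).Normal :=
          (normal_subgroupOf_iff_le_normalizer le_sup_left).2 (sup_le le_normalizer hBU)
        have hne : U.subgroupOf (U ⊔ B) ≠ ⊥ := by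
          intro h
          rw [subgroupOf_eq_bot, disjoint_iff, inf_eq_left.2 le_sup_left] at h
          exact hU h
        obtain ⟨⟨u, huJ⟩, ⟨huU, huC⟩, hu1⟩ := (Subgroup.bot_or_exists_ne_one _).resolve_left
          (Cfsg.Agent.PGroups.inf_center_ne_bot h2J (U.subgroupOf (U ⊔ B)) hne)
        have huV1 : u ∈ V1 := ⟨hUV huU, mem_centralizer_iff.2 fun b hb =>
          congrArg Subtype.val (mem_center_iff.1 huC ⟨b, mem_sup_right hb⟩)⟩
        have huZ : u ∈ V ⊓ centralizer (Z : Set X) :=
          ⟨hUV huU, commutator_eq_bot_iff_le_centralizer.1 hW huV1⟩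
        have h0 := (abelian_decomposition (A := Z) (V := V) (zpowers_le.2 (hMV (hQM hxQ))) (hcopZ V le_rfl)).1
        have hu : u ∈ (⊥ : Subgroup X) := h0 ▸ (mem_inf.2 ⟨huZ, huU⟩)
        exact hu1 (Subtype.ext (mem_bot.1 hu))
      have hx1 : x ∈ Q ⊓ centralizer (V : Set X) :=
        ⟨hxQ, commutator_eq_bot_iff_le_centralizer.1 (by rw [commutator_comm]; exact hU0) (mem_zpowers x)⟩
      rw [hfaith, mem_bot] at hx1
      rw [hx1, orderOf_one] at hxo
      exact hr.one_lt.ne hxo
    set W := ⁅V1, Z⁆ with hWdef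
    have hWV1 : W ≤ V1 := commutator_le_left_of_normalizer (zpowers_le.2 hxV1)
    have hxW : x ∈ normalizer (W : Set X) := normalizer_commutator_ge_right V1 Z (mem_zpowers x)
    have haW : a ∈ normalizer (W : Set X) := by
      apply mem_normalizer_of_map_conj
      rw [hWdef, Subgroup.map_commutator, map_conj_eq haV1]
      congr 1
      rw [hZ, MonoidHom.map_zpowers]
      show zpowers (a * x * a⁻¹) = zpowers x
      rw [hxinv, zpowers_inv]
    have hfix : W ⊓ centralizer (Z : Set X) = ⊥ := by
      have h0 := (abelian_decomposition (A := Z) (V := V1) (zpowers_le.2 hxV1) (hcopZ V1 inf_le_left)).1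
      rw [eq_bot_iff]
      intro w hw
      rw [← h0]
      exact ⟨⟨hWV1 hw.1, hw.2⟩, hw.1⟩
    -- the fixed points of `a` on `W` have index at least four
    have hkey : 4 ≤ (W ⊓ centralizer ({a} : Set X)).relIndex W := by
      by_contra hlt
      push Not at hlt
      set k := (r - 1) / 2 with hk
      have hxr : x ^ r = 1 := hxo ▸ pow_orderOf_eq_one x
      have hr2 : 2 * k + 1 = r := by obtain ⟨q, rfl⟩ := hrodd; omega
      have hconj : x ^ k * a * (x ^ k)⁻¹ = a * x := by
        have h1 : x ^ k * a = a * (x ^ k)⁻¹ := by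
          rw [← conj_pow_inv hxinv k, hainv, ← mul_assoc, ← mul_assoc, haa, one_mul]
        rw [h1, mul_assoc, ← mul_inv_rev, ← pow_add]
        congr 1
        refine inv_eq_of_mul_eq_one_left ?_
        rw [← pow_succ', show k + k + 1 = r by omega, hxr]
      have hI2 : W ⊓ centralizer ({a * x} : Set X) =
          (W ⊓ centralizer ({a} : Set X)).map (MulAut.conj (x ^ k)).toMonoidHom := by
        rw [Subgroup.map_inf _ _ _ (MulAut.conj (x ^ k)).injective, map_conj_eq (Subgroup.pow_mem _ hxW k),
          ← hconj]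
        congr 1
        ext y
        simp only [Subgroup.mem_map, mem_centralizer_iff, Set.mem_singleton_iff, forall_eq,
          MulEquiv.coe_toMonoidHom, MulAut.conj_apply]
        constructor
        · intro h
          refine ⟨(x ^ k)⁻¹ * y * x ^ k, ?_, by group⟩
          calc a * ((x ^ k)⁻¹ * y * x ^ k) = (x ^ k)⁻¹ * ((x ^ k * a * (x ^ k)⁻¹) * y) * x ^ k := by group
            _ = (x ^ k)⁻¹ * (y * (x ^ k * a * (x ^ k)⁻¹)) * x ^ k := by rw [h]
            _ = _ := by group
        · rintro ⟨z, hz, rfl⟩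
          calc x ^ k * a * (x ^ k)⁻¹ * (x ^ k * z * (x ^ k)⁻¹) = x ^ k * (a * z) * (x ^ k)⁻¹ := by group
            _ = x ^ k * (z * a) * (x ^ k)⁻¹ := by rw [hz]
            _ = _ := by group
      set I := W ⊓ centralizer ({a} : Set X) with hI
      set J := W ⊓ centralizer ({a * x} : Set X) with hJ
      have hIJ : I ⊓ J = ⊥ := by
        rw [eq_bot_iff]
        rintro w ⟨⟨hw, hwa⟩, -, hwax⟩
        rw [← hfix]
        refine ⟨hw, ?_⟩
        have h1 : Commute a w := mem_centralizer_iff.1 hwa a rfl
        have h2 : Commute (a * x) w := mem_centralizer_iff.1 hwax _ rfl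
        have h3 : Commute x w := by
          have := h1.inv_left.mul_left h2
          rwa [inv_mul_cancel_left] at this
        exact mem_centralizer_iff.2 fun z hz => by
          obtain ⟨i, rfl⟩ := mem_zpowers_iff.1 hz
          exact h3.zpow_left i
      haveI : Fact (Nat.Prime 2) := ⟨Nat.prime_two⟩
      have hW2 : IsPGroup 2 W := fun u => ⟨1, Subtype.ext (by simpa using hV.2 u (hWV1 u.2).1)⟩
      obtain ⟨i, hi⟩ := hW2.index (I.subgroupOf W)
      have hrel : I.relIndex W ≤ 2 := by
        rcases Nat.lt_or_ge i 2 with h | h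
        · exact le_of_eq_of_le hi (by interval_cases i <;> simp)
        · have := Nat.pow_le_pow_right (show 0 < 2 by norm_num) h
          rw [show I.relIndex W = 2 ^ i from hi] at hlt ⊢
          omega
      have hJW : J.relIndex W ≤ 2 := by
        rw [hI2]
        conv_lhs => arg 2; rw [← map_conj_eq (Subgroup.pow_mem _ hxW k)]
        rwa [Subgroup.relIndex_map_map_of_injective _ _ (MulAut.conj (x ^ k)).injective]
      have hcard : Nat.card W ≤ 4 := by
        have h := Subgroup.relIndex_inf_le (H := I) (K := J) (L := W)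
        rw [hIJ, Subgroup.relIndex_bot_left] at h
        exact h.trans (Nat.mul_le_mul hrel hJW)
      -- an element of order `r ≥ 5` permutes `W \ 1` without fixed points
      obtain ⟨w, hw, hw1⟩ := (Subgroup.bot_or_exists_ne_one W).resolve_left hWne
      have horb : r ≤ Nat.card W - 1 := by
        classical
        letI := Fintype.ofFinite X
        have hinj : Set.InjOn (fun i : ℕ => x ^ i * w * (x ^ i)⁻¹) (Finset.range r) := by
          intro i hi j hj he
          simp only [Finset.coe_range, Set.mem_Iio] at hi hj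
          wlog hij : i ≤ j generalizing i j with H
          · exact (H he.symm hj hi (by omega)).symm
          by_contra hne
          have hz : Commute (x ^ (j - i)) w := by
            have e : x ^ j = x ^ i * x ^ (j - i) := by rw [← pow_add]; congr 1; omega
            simp only [e, mul_inv_rev, mul_assoc, mul_right_inj] at he
            have : x ^ (j - i) * w * (x ^ (j - i))⁻¹ = w := by
              apply mul_right_cancel (b := (x ^ i)⁻¹)
              simp only [mul_assoc]; exact he.symm
            exact mul_inv_eq_iff_eq_mul.1 this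
          have hcop : (j - i).Coprime (orderOf x) := by
            rw [hxo]
            exact ((Nat.Prime.coprime_iff_not_dvd hr).2 (Nat.not_dvd_of_pos_of_lt (by omega) (by omega))).symm
          obtain ⟨s, hs⟩ := exists_pow_eq_self_of_coprime hcop
          have hxw : Commute x w := hs ▸ hz.pow_left s
          apply hw1
          rw [← mem_bot, ← hfix]
          exact ⟨hw, mem_centralizer_iff.2 fun z hz => by
            obtain ⟨l, rfl⟩ := mem_zpowers_iff.1 hz
            exact hxw.zpow_left l⟩
        let S : Finset X := Finset.univ.filter (fun y => y ∈ W ∧ y ≠ 1)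
        have hS : S.card = Nat.card W - 1 := by
          have : S = (Finset.univ.filter (fun y => y ∈ W)).erase 1 := by ext y; simp [S, and_comm]
          rw [this, Finset.card_erase_of_mem (by simp), Nat.card_eq_fintype_card, Fintype.card_subtype]
        have := Finset.card_le_card_of_injOn (s := Finset.range r) (t := S) _ ?_ hinj
        · rwa [Finset.card_range, hS] at this
        · intro i _
          simp only [S, Finset.coe_filter, Finset.mem_univ, true_and, Set.mem_setOf_eq]
          exact ⟨(mem_normalizer_iff.1 (Subgroup.pow_mem _ hxW i) w).1 hw, by simpa using hw1⟩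
      omega
    -- collect
    have hCA : V ⊓ centralizer (A : Set X) = V1 ⊓ centralizer ({a} : Set X) := by
      apply le_antisymm
      · rintro v ⟨hv, hvA⟩
        exact ⟨⟨hv, centralizer_le hBA hvA⟩, centralizer_le (by simpa using ha) hvA⟩
      · rintro v ⟨⟨hv, hvB⟩, hva⟩
        refine ⟨hv, ?_⟩
        have hle : A ≤ centralizer ({v} : Set X) := by
          rw [← hBa]
          refine sup_le (fun b hb => ?_) (zpowers_le.2 ?_)
          · exact mem_centralizer_iff.2 (by rintro _ rfl; exact (mem_centralizer_iff.1 hvB b hb).symm)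
          · exact mem_centralizer_iff.2 (by rintro _ rfl; exact (mem_centralizer_iff.1 hva a rfl).symm)
        exact mem_centralizer_iff.2 fun b hb => (mem_centralizer_iff.1 (hle hb) v rfl).symm
    have h4 : 4 ≤ (V ⊓ centralizer (A : Set X)).relIndex V1 := by
      rw [hCA, Subgroup.inf_relIndex_left]
      refine hkey.trans ?_
      rw [Subgroup.inf_relIndex_left]
      exact Subgroup.relIndex_le_of_le_right hWV1 Subgroup.index_ne_zero_of_finite
    have hBc : Nat.card A ≤ Nat.card B * 2 := by
      haveI : (B.subgroupOf A).Normal := inferInstance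
      have hord : orderOf a ∣ 2 := orderOf_dvd_of_pow_eq_one ha2
      calc Nat.card A = Nat.card (B ⊔ zpowers a : Subgroup X) := by rw [hBa]
        _ ≤ Nat.card B * Nat.card (zpowers a) := by
          have hn : zpowers a ≤ normalizer (B : Set X) := zpowers_le.2 (mem_normalizer_iff.2 fun b => by
            constructor
            · intro hb; rw [(hacom b (hBA hb)).eq, mul_inv_cancel_right]; exact hb
            · intro hb
              have := hacom _ (hBA hb)
              have e : a * b * a⁻¹ = b := mul_left_cancel (a := a) (by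
                rw [this.eq]; simp [mul_assoc, hainv, haa])
              rwa [e] at hb)
          have hd : B ⊓ zpowers a = ⊥ := by
            rw [eq_bot_iff]
            rintro z ⟨hzB, hza⟩
            obtain ⟨i, rfl⟩ := mem_zpowers_iff.1 hza
            have h2 : a ^ (2 : ℤ) = 1 := by rw [show (2 : ℤ) = ((2 : ℕ) : ℤ) from rfl, zpow_natCast, ha2]
            rcases Int.even_or_odd' i with ⟨q, rfl | rfl⟩
            · simp [zpow_mul, h2]
            · exfalso
              have haB' : a ∈ B := by simpa [zpow_add, zpow_mul, h2] using hzB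
              apply hac
              intro b hb
              rw [← hBa, sup_eq_left.2 (zpowers_le.2 haB')] at hb
              exact (mem_centralizer_iff.1 hcB b hb).symm
          rw [Cfsg.Agent.Coprime.card_sup hn hd]
        _ ≤ _ := Nat.mul_le_mul_left _ (by rw [Nat.card_zpowers]; exact Nat.le_of_dvd two_pos hord)
    have hBlt : Nat.card B < Nat.card A := by
      refine lt_of_le_of_ne (Subgroup.card_le_of_le hBA) fun h => hac fun b hb => ?_
      have hbB : b ∈ B := (Subgroup.eq_of_le_of_card_ge hBA h.ge) ▸ hb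
      exact (mem_centralizer_iff.1 hcB b hbB).symm
    have hih := ih B (by omega) (hBA.trans hAM)
      ⟨⟨⟨fun u v => Subtype.ext (congrArg (Subtype.val : A → X) (hA.1.is_comm.comm (⟨u, hBA u.2⟩ : A) ⟨v, hBA v.2⟩))⟩⟩,
        fun b hb => hA.2 b (hBA hb)⟩
      (le_bot_iff.1 ((inf_le_inf_right _ hBA).trans hAQ.le))
    rw [← hV1] at hih
    calc Nat.card A ^ 2 ≤ (Nat.card B * 2) ^ 2 := Nat.pow_le_pow_left hBc 2
      _ = 4 * Nat.card B ^ 2 := by ring
      _ ≤ (V ⊓ centralizer (A : Set X)).relIndex V1 * V1.relIndex V := Nat.mul_le_mul h4 hih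
      _ = _ := Subgroup.relIndex_mul_relIndex _ _ _ (by rw [hCA]; exact inf_le_left) inf_le_left


/-- Let M and V be subgroups of a finite group with V an elementary abelian 2-group, M normalizing V and acting faithfully on it (M ∩ C(V) = 1), and C_M(O_{2'}(M)) ≤ O_{2'}(M). If some elementary abelian 2-subgroup A of M satisfies |V : C_V(A)| < |A|², then M has a section isomorphic to the symmetric group of degree 3. -/
theorem result {X : Type*} [Group X] [Finite X] (M V : Subgroup X) (hV : Cfsg.IsElementaryAbelian 2 V) (hMV : M ≤ Subgroup.normalizer (V : Set X)) (hfaith : M ⊓ Subgroup.centralizer (V : Set X) = ⊥) (hcon : Subgroup.centralizer (Cfsg.pPrimeCore 2 ↥M : Set ↥M) ≤ Cfsg.pPrimeCore 2 ↥M) (A : Subgroup X) (hAM : A ≤ M) (hA : Cfsg.IsElementaryAbelian 2 A) (hsmall : (V ⊓ Subgroup.centralizer (A : Set X)).relIndex V < Nat.card A ^ 2) : Cfsg.Involves (Equiv.Perm (Fin 3)) ↥M := by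
  classical
  by_contra hinv
  set Q0 := Cfsg.pPrimeCore 2 ↥M with hQ0
  set Q := Q0.map M.subtype with hQ
  have hQM : Q ≤ M := Subgroup.map_subtype_le _
  have hQodd : Odd (Nat.card Q) := by
    rw [hQ, ← Nat.card_congr (Q0.equivMapOfInjective _ M.subtype_injective).toEquiv]
    exact Cores.odd_card_oddCore
  have hMQ : M ≤ Subgroup.normalizer (Q : Set X) := by
    refine (Subgroup.normal_subgroupOf_iff_le_normalizer hQM).1 ?_
    rw [hQ, Subgroup.subgroupOf, Subgroup.comap_map_eq_self_of_injective M.subtype_injective]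
    infer_instance
  have hfaithQ : Q ⊓ Subgroup.centralizer (V : Set X) = ⊥ :=
    le_bot_iff.1 ((inf_le_inf_right _ hQM).trans hfaith.le)
  have hAQ : A ⊓ Subgroup.centralizer (Q : Set X) = ⊥ := by
    rw [eq_bot_iff]
    rintro a ⟨ha, haQ⟩
    have hmem : (⟨a, hAM ha⟩ : M) ∈ Q0 := hcon (Subgroup.mem_centralizer_iff.2 fun q hq =>
      Subtype.ext (Subgroup.mem_centralizer_iff.1 haQ q ⟨q, hq, rfl⟩))
    have h2 : orderOf (⟨a, hAM ha⟩ : M) ∣ 2 :=
      orderOf_dvd_of_pow_eq_one (Subtype.ext (by simpa using hA.2 a ha))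
    have hcard : orderOf (⟨a, hAM ha⟩ : M) ∣ Nat.card Q0 := by
      rw [← Subgroup.orderOf_mk _ hmem]; exact orderOf_dvd_natCard _
    have hodd : Odd (Nat.card Q0) := Cores.odd_card_oddCore
    have h1 : orderOf (⟨a, hAM ha⟩ : M) = 1 :=
      Nat.dvd_one.1 (Nat.Coprime.gcd_eq_one (Nat.coprime_two_left.2 hodd) ▸ Nat.dvd_gcd h2 hcard)
    exact congrArg Subtype.val (orderOf_eq_one_iff.1 h1)
  have hno : ∀ a ∈ M, ∀ x ∈ M, a ^ 2 = 1 → a * x * a⁻¹ = x⁻¹ → orderOf x ≠ 3 := by
    intro a ha x hx ha2 hax hx3
    apply hinv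
    set a' : M := ⟨a, ha⟩
    set x' : M := ⟨x, hx⟩
    have hx' : orderOf x' = 3 := by rw [Subgroup.orderOf_mk, hx3]
    obtain ⟨e⟩ := H41.nonempty_dihedral_equiv (a := a') (x := x')
      (by rw [← pow_two]; exact Subtype.ext (by simpa [a'] using ha2)) (Subtype.ext hax)
      (by rw [hx']; decide) (fun h => by simp [h] at hx')
    obtain ⟨π⟩ := nonempty_perm_three
    rw [hx'] at e
    have hn : ((⊥ : Subgroup M).subgroupOf (Subgroup.zpowers a' ⊔ Subgroup.zpowers x')).Normal := by
      rw [Subgroup.bot_subgroupOf]; infer_instance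
    exact ⟨_, ⊥, hn, ⟨((QuotientGroup.quotientMulEquivOfEq (Subgroup.bot_subgroupOf _)).trans
      QuotientGroup.quotientBot).trans (e.trans π)⟩⟩
  have := offender_bound M Q V hV hMV hQM hMQ hQodd hfaithQ hno (Nat.card A) A le_rfl hAM hA hAQ
  omega

end Cfsg.Agent.S3755
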