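import Cfsg.Statements.S3758
import Cfsg.Agent.H57.ZN.HighTwo

set_option autoImplicit false
open Cfsg

namespace Cfsg.Agent.S3758

/-- Let G be a finite group of even order in which every 2-local subgroup is solvable and C_G(Ω₁(Z(S))) ≤ N_G(S) for every Sylow 2-subgroup S, and suppose O_{2'}(G) = 1 = O₂(G). Fix a Sylow 2-subgroup S, put Z = Ω₁(Z(S)), H = O²(G) (generated by the elements of odd order) and R = S ∩ H. Then one of the following holds: H has a strongly embedded subgroup; R is dihedral (of order at least 4) or semidihedral; Z ∩ R has order 2 and is weakly closed in R with respect to H; or Z has order 4 and is exactly the subgroup generated by the involutions of R. -/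
theorem result {G : Type*} [Group G] [Finite G] (heven : Even (Nat.card G)) (hN : ∀ L : Subgroup G, Cfsg.IsTwoLocal L → Group.IsSolvable L) (hZ : ∀ S : Sylow 2 G, Subgroup.centralizer (Cfsg.omegaOne 2 ((S : Subgroup G) ⊓ Subgroup.centralizer ((S : Subgroup G) : Set G)) : Set G) ≤ Subgroup.normalizer ((S : Subgroup G) : Set G)) (hO' : Cfsg.pPrimeCore 2 G = ⊥) (hO : Cfsg.pCore 2 G = ⊥) (S : Sylow 2 G) : (∃ M : Subgroup ↥(Cfsg.pResidual 2 G), Cfsg.IsStronglyEmbedded M) ∨ ((∃ n : ℕ, 2 ≤ n ∧ Nonempty (↥((S : Subgroup G) ⊓ Cfsg.pResidual 2 G) ≃* DihedralGroup n)) ∨ Cfsg.IsQuasiDihedral ↥((S : Subgroup G) ⊓ Cfsg.pResidual 2 G)) ∨ (Nat.card ↥(Cfsg.omegaOne 2 ((S : Subgroup G) ⊓ Subgroup.centralizer ((S : Subgroup G) : Set G)) ⊓ Cfsg.pResidual 2 G) = 2 ∧ ∀ h ∈ Cfsg.pResidual 2 G, ∀ z ∈ Cfsg.omegaOne 2 ((S : Subgroup G) ⊓ Subgroup.centralizer ((S : Subgroup G) : Set G)) ⊓ Cfsg.pResidual 2 G, h * z * h⁻¹ ∈ (S : Subgroup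 G) → h * z * h⁻¹ ∈ Cfsg.omegaOne 2 ((S : Subgroup G) ⊓ Subgroup.centralizer ((S : Subgroup G) : Set G))) ∨ (Nat.card ↥(Cfsg.omegaOne 2 ((S : Subgroup G) ⊓ Subgroup.centralizer ((S : Subgroup G) : Set G))) = 4 ∧ Cfsg.omegaOne 2 ((S : Subgroup G) ⊓ Cfsg.pResidual 2 G) = Cfsg.omegaOne 2 ((S : Subgroup G) ⊓ Subgroup.centralizer ((S : Subgroup G) : Set G))) := by
  have c : H57.ZC.Hyp S := ⟨heven, fun t ht => hN _ ⟨Subgroup.zpowers t,
    IsPGroup.of_card (n := 1) (by rw [Nat.card_zpowers, ht, pow_one]),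
    fun h => H57.ZC.ne_one_of_two ht (Subgroup.zpowers_eq_bot.1 h),
    (S3246.normalizer_zpowers_invol ht).symm⟩, hZ S, hO', hO⟩
  by_cases h : ∀ D, ¬ H57.ZC.Eight (S : Subgroup G) D
  · obtain ⟨z, hz, hzH, hzo⟩ := c.exists_central_mem
    by_cases hZ1 : ∀ w ∈ H57.ZC.zOne S, w = 1 ∨ w = z
    · rcases H57.ZN.lowTwo c h hz hzH hzo hZ1 with h1 | h1
      exacts [Or.inl h1, Or.inr (Or.inl h1)]
    · push Not at hZ1
      obtain ⟨w, hw, hw1, hwz⟩ := hZ1
      exact Or.inr (Or.inr (Or.inr (c.low_rank_center h hz hzH hzo hw hw1 hwz)))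
  · push Not at h
    obtain ⟨A, hA⟩ := h
    obtain ⟨E, z, hs⟩ := H57.ZC.exists_setting c hA
    rcases H57.ZN.highTwo hs hN hZ with h1 | h1
    exacts [Or.inl h1, Or.inr (Or.inl h1)]

end Cfsg.Agent.S3758
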