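import Cfsg.Statements.S3760

set_option autoImplicit false
open Cfsg

namespace Cfsg.Agent.S3760

/-- Let the group G act transitively on a set X, let x ∈ X with stabilizer H = G_x, and let K ≤ H. Then N_G(K) acts transitively on the set of fixed points of K if and only if every G-conjugate of K contained in H is already an H-conjugate of K. -/
theorem result {G : Type*} [Group G] {X : Type*} [MulAction G X] (htrans : ∀ a b : X, ∃ g : G, g • a = b) (x : X) (K : Subgroup G) (hK : K ≤ MulAction.stabilizer G x) : (∀ a b : X, (∀ k ∈ K, k • a = a) → (∀ k ∈ K, k • b = b) → ∃ g ∈ Subgroup.normalizer (K : Set G), g • a = b) ↔ ∀ g : G, K.map (MulAut.conj g).toMonoidHom ≤ MulAction.stabilizer G x → ∃ h ∈ MulAction.stabilizer G x, K.map (MulAut.conj g).toMonoidHom = K.map (MulAut.conj h).toMonoidHom := by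
  constructor
  · intro h g hg
    have hfix : ∀ k ∈ K, k • (g⁻¹ • x) = g⁻¹ • x := by
      intro k hk
      have h1 := MulAction.mem_stabilizer_iff.1 (hg ⟨k, hk, rfl⟩)
      simp only [MulEquiv.coe_toMonoidHom, MulAut.conj_apply, mul_smul] at h1
      calc k • g⁻¹ • x = g⁻¹ • g • k • g⁻¹ • x := by rw [inv_smul_smul]
        _ = g⁻¹ • x := by rw [h1]
    obtain ⟨n, hn, hnx⟩ := h x (g⁻¹ • x) (fun k hk => MulAction.mem_stabilizer_iff.1 (hK hk)) hfix
    refine ⟨g * n, ?_, ?_⟩
    · rw [MulAction.mem_stabilizer_iff, mul_smul, hnx, smul_inv_smul]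
    · ext y
      simp only [Subgroup.mem_map, MulEquiv.coe_toMonoidHom, MulAut.conj_apply]
      constructor
      · rintro ⟨k, hk, rfl⟩
        exact ⟨n⁻¹ * k * n, (Subgroup.mem_normalizer_iff''.1 hn k).1 hk, by group⟩
      · rintro ⟨k, hk, rfl⟩
        exact ⟨n * k * n⁻¹, (Subgroup.mem_normalizer_iff.1 hn k).1 hk, by group⟩
  · intro h
    have key : ∀ a : X, (∀ k ∈ K, k • a = a) → ∃ n ∈ Subgroup.normalizer (K : Set G), n • x = a := by
      intro a ha
      obtain ⟨g, rfl⟩ := htrans x a
      have hg : K.map (MulAut.conj g⁻¹).toMonoidHom ≤ MulAction.stabilizer G x := by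
        rintro _ ⟨k, hk, rfl⟩
        rw [MulAction.mem_stabilizer_iff]
        simp only [MulEquiv.coe_toMonoidHom, MulAut.conj_apply, mul_smul, inv_inv]
        rw [ha k hk, inv_smul_smul]
      obtain ⟨s, hs, he⟩ := h g⁻¹ hg
      refine ⟨g * s, ?_, by rw [mul_smul, MulAction.mem_stabilizer_iff.1 hs]⟩
      rw [Subgroup.mem_normalizer_iff]
      intro k
      constructor
      · intro hk
        have h1 : MulAut.conj s k ∈ K.map (MulAut.conj g⁻¹).toMonoidHom := he ▸ ⟨k, hk, rfl⟩
        obtain ⟨k', hk', e⟩ := h1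
        simp only [MulEquiv.coe_toMonoidHom, MulAut.conj_apply, inv_inv] at e
        have : g * s * k * (g * s)⁻¹ = k' := by
          calc g * s * k * (g * s)⁻¹ = g * (s * k * s⁻¹) * g⁻¹ := by group
            _ = g * (g⁻¹ * k' * g) * g⁻¹ := by rw [e]
            _ = k' := by group
        exact this ▸ hk'
      · intro hk
        have h1 : MulAut.conj g⁻¹ (g * s * k * (g * s)⁻¹) ∈ K.map (MulAut.conj s).toMonoidHom :=
          he ▸ ⟨_, hk, rfl⟩
        obtain ⟨k', hk', e⟩ := h1
        simp only [MulEquiv.coe_toMonoidHom, MulAut.conj_apply, inv_inv] at e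
        have : k' = k := by
          calc k' = s⁻¹ * (s * k' * s⁻¹) * s := by group
            _ = s⁻¹ * (g⁻¹ * (g * s * k * (g * s)⁻¹) * g) * s := by rw [e]
            _ = k := by group
        exact this ▸ hk'
    intro a b ha hb
    obtain ⟨n, hn, rfl⟩ := key a ha
    obtain ⟨m, hm, rfl⟩ := key b hb
    exact ⟨m * n⁻¹, mul_mem hm (inv_mem hn), by rw [mul_smul, inv_smul_smul]⟩

end Cfsg.Agent.S3760
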