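import Cfsg.Statements.S3761
import Cfsg.Agent.PGroups.CyclicMaximal
import Cfsg.Agent.PGroups.TwoGroups

set_option autoImplicit false
set_option linter.style.haveILetI false
set_option linter.unusedVariables false
set_option linter.unusedSectionVars false
set_option maxHeartbeats 800000
open Cfsg

namespace Cfsg.Agent.S3761

open Subgroup
open scoped commutatorElement

variable {G : Type*} [Group G] [Finite G]

/-- The semidihedral-or-modular four group: elements of square one in `⟨c, t⟩`. -/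
private theorem omega_two {n : ℕ} {c t : G} (hn : 3 ≤ n) (hc : orderOf c = 2 ^ n) (ht : t ^ 2 = 1)
    (htc : t ∉ zpowers c) (hr : t * c * t⁻¹ = c * c ^ 2 ^ (n - 1)) (M : Subgroup G)
    (hM : ∀ x ∈ M, x ∈ zpowers c ∨ ∃ j : ℤ, x = t * c ^ j) (hcM : c ∈ M) (htM : t ∈ M) :
    IsMulCommutative (Cfsg.omegaOne 2 M) ∧ (∀ a ∈ Cfsg.omegaOne 2 M, a ^ 2 = 1) ∧
      Nat.card (Cfsg.omegaOne 2 M) = 2 ^ 2 := by
  haveI : Fact (Nat.Prime 2) := ⟨Nat.prime_two⟩
  set z := c ^ 2 ^ (n - 1) with hz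
  have hk' : ((2 ^ n : ℕ) : ℤ) = (2 : ℤ) ^ n := by push_cast; rfl
  have hz2 : z ^ 2 = 1 := by
    rw [hz, ← pow_mul, ← pow_succ, Nat.sub_add_cancel (by omega), ← hc, pow_orderOf_eq_one]
  have hz1 : z ≠ 1 := fun h => by
    have := orderOf_dvd_of_pow_eq_one h
    rw [hc, Nat.pow_dvd_pow_iff_le_right (by norm_num)] at this
    omega
  have hzt : Commute z t := by
    have h1 : t * z * t⁻¹ = z := by
      rw [hz, ← conj_pow, hr, ((Commute.refl c).pow_right _).mul_pow]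
      rw [show (c ^ 2 ^ (n - 1)) ^ 2 ^ (n - 1) = 1 by
        rw [← pow_mul, ← pow_add, ← orderOf_dvd_iff_pow_eq_one, hc]; exact pow_dvd_pow 2 (by omega), mul_one]
    exact (mul_inv_eq_iff_eq_mul.mp h1).symm
  have htz : t ∉ zpowers z := fun h => htc (zpowers_le.mpr (pow_mem (mem_zpowers c) _) h)
  have hzz : z * z = 1 := by rw [← pow_two]; exact hz2
  have htt : t * t = 1 := by rw [← pow_two]; exact ht
  have hzne : z ≠ t := fun h => htz (h ▸ mem_zpowers z)
  have htne : t ≠ 1 := fun h => htz (h ▸ one_mem _)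
  have c1 : z * t * z = t := by rw [mul_assoc, ← hzt.eq, ← mul_assoc, hzz, one_mul]
  have c2 : t * (z * t) = z := by rw [← mul_assoc, ← hzt.eq, mul_assoc, htt, mul_one]
  have c3 : z * t * t = z := by rw [mul_assoc, htt, mul_one]
  have c4 : z * (z * t) = t := by rw [← mul_assoc, hzz, one_mul]
  have c5 : z * t * (z * t) = 1 := by rw [← mul_assoc, c1, htt]
  let E : Subgroup G :=
    { carrier := {x | x = 1 ∨ x = z ∨ x = t ∨ x = z * t}
      one_mem' := Or.inl rfl
      mul_mem' := by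
        rintro u u' (rfl | rfl | rfl | rfl) (rfl | rfl | rfl | rfl) <;>
          simp [hzz, htt, c1, c2, c3, c4, c5, hzt.symm.eq]
      inv_mem' := by
        rintro u (rfl | rfl | rfl | rfl)
        · simp
        · exact Or.inr (Or.inl (inv_eq_of_mul_eq_one_left hzz))
        · exact Or.inr (Or.inr (Or.inl (inv_eq_of_mul_eq_one_left htt)))
        · exact Or.inr (Or.inr (Or.inr (inv_eq_of_mul_eq_one_left c5))) }
  have hEexp : ∀ a ∈ E, a ^ 2 = 1 := by
    rintro a (rfl | rfl | rfl | rfl) <;> rw [pow_two] <;> first | exact one_mul 1 | assumption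
  have hEM : ∀ a ∈ E, a ∈ M := by
    have hzM : z ∈ M := M.pow_mem hcM _
    rintro a (rfl | rfl | rfl | rfl)
    exacts [M.one_mem, hzM, htM, M.mul_mem hzM htM]
  have heq : Cfsg.omegaOne 2 M = E := by
    refine le_antisymm ((Subgroup.closure_le E).2 ?_) fun a ha => Subgroup.subset_closure ⟨hEM a ha, hEexp a ha⟩
    rintro x ⟨hx, hx2⟩
    rcases hM x hx with hxc | ⟨j, rfl⟩
    · by_cases hx1 : x = 1
      · exact Or.inl hx1
      · exact Or.inr (Or.inl (PGroups.eq_of_sq_eq_one (H := zpowers c) inferInstance hxc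
          (pow_mem (mem_zpowers c) _) hx2 hz2 hx1 hz1))
    · have hr' : t * c * t⁻¹ = c ^ ((1 : ℤ) + 2 ^ (n - 1)) := by
        rw [hr, zpow_add, zpow_one]; congr 1
        rw [hz, ← zpow_natCast c (2 ^ (n - 1))]; norm_num
      have hsq := PGroups.sq_mul_zpow (s := 0) hr' (by rw [zpow_zero]; exact ht) j
      rw [hx2, eq_comm, PGroups.zpow_eq_one_iff_dvd hc, hk'] at hsq
      obtain ⟨l, rfl⟩ : ∃ l, n = l + 3 := ⟨n - 3, by omega⟩
      rw [show l + 3 - 1 = l + 2 by omega] at hsq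
      obtain ⟨d, rfl⟩ : (2 : ℤ) ^ (l + 2) ∣ j := by
        refine IsCoprime.dvd_of_dvd_mul_right (z := 1 + 2 * 2 ^ l)
          (IsCoprime.pow_left ⟨-2 ^ l, 1, by ring⟩) ?_
        obtain ⟨b, hb⟩ := hsq
        refine ⟨b, mul_left_cancel₀ (two_ne_zero (α := ℤ)) ?_⟩
        linear_combination hb
      have hcd : c ^ ((2 : ℤ) ^ (l + 2) * d) = z ^ d := by
        rw [zpow_mul, hz, ← zpow_natCast c (2 ^ (l + 3 - 1))]; push_cast; rfl
      rw [hcd]
      exact E.mul_mem (Or.inr (Or.inr (Or.inl rfl))) (E.zpow_mem (Or.inr (Or.inl rfl)) d)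
  rw [heq]
  refine ⟨⟨⟨fun a b => Subtype.ext ?_⟩⟩, hEexp, ?_⟩
  · show (a : G) * b = b * a
    calc (a : G) * b = ((a : G) * b)⁻¹ := (inv_eq_of_mul_eq_one_left (by rw [← pow_two]; exact hEexp _ (E.mul_mem a.2 b.2))).symm
      _ = b * a := by
        rw [mul_inv_rev, inv_eq_of_mul_eq_one_left (show (a : G) * a = 1 by rw [← pow_two]; exact hEexp _ a.2),
          inv_eq_of_mul_eq_one_left (show (b : G) * b = 1 by rw [← pow_two]; exact hEexp _ b.2)]
  · show Nat.card ↥(E : Set G) = 2 ^ 2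
    rw [show (E : Set G) = {1, z, t, z * t} from rfl, Nat.card_coe_set_eq]
    have h1 : z * t ≠ 1 := fun h => hzne (by rw [← mul_one z, ← htt, ← mul_assoc, h, one_mul])
    have h2 : z ≠ z * t := fun h => htne (mul_eq_left.1 h.symm)
    have h3 : t ≠ z * t := fun h => hz1 (mul_eq_right.1 h.symm)
    rw [Set.ncard_insert_of_notMem (by simp [hz1.symm, htne.symm, h1.symm]),
      Set.ncard_insert_of_notMem (by simp [hzne, h2]), Set.ncard_pair h3]
    norm_num


/-- Let G be a finite non-abelian p-group with a cyclic normal subgroup U of order p^n such that C_G(U) = U. Then either p = 2 and G is dihedral, generalized quaternion or semidihedral of order 2^(n+1); or, writing U₁ for the subgroup generated by the p-th powers of elements of U and M = C_G(U₁), the subgroup U has index p in M and the subgroup Ω₁(M) generated by the elements of M of order dividing p is elementary abelian of order p² and characteristic in G. -/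
theorem result {G : Type*} [Group G] [Finite G] {p : ℕ} [Fact p.Prime] (hG : IsPGroup p G) (hna : ¬ IsMulCommutative G) (U : Subgroup G) [U.Normal] (hU : IsCyclic U) (n : ℕ) (hUn : Nat.card U = p ^ n) (hC : Subgroup.centralizer (U : Set G) = U) : (p = 2 ∧ Nat.card G = 2 ^ (n + 1) ∧ ((∃ m : ℕ, Nonempty (G ≃* DihedralGroup m)) ∨ (∃ m : ℕ, Nonempty (G ≃* QuaternionGroup m)) ∨ Cfsg.IsQuasiDihedral G)) ∨ (U.relIndex (Subgroup.centralizer (Cfsg.powerClosure p 1 U : Set G)) = p ∧ Cfsg.IsElementaryAbelian p (Cfsg.omegaOne p (Subgroup.centralizer (Cfsg.powerClosure p 1 U : Set G))) ∧ Nat.card ↥(Cfsg.omegaOne p (Subgroup.centralizer (Cfsg.powerClosure p 1 U : Set G))) = p ^ 2 ∧ (Cfsg.omegaOne p (Subgroup.centralizer (Cfsg.powerClosure p 1 U : Set G))).Characteristic) := by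
  classical
  have hp := (Fact.out : p.Prime)
  obtain ⟨c, hc⟩ := U.isCyclic_iff_exists_zpowers_eq_top.mp hU
  have hord : orderOf c = p ^ n := by rw [← Nat.card_zpowers, hc, hUn]
  have hcU : c ∈ U := hc ▸ mem_zpowers c
  have hUc : ∀ u ∈ U, Commute c u := fun u hu => by
    rw [← hc] at hu; obtain ⟨i, rfl⟩ := hu
    exact (Commute.refl c).zpow_right i
  have hmem : ∀ g : G, g * c * g⁻¹ = c → g ∈ U := fun g hg => by
    rw [← hC, Subgroup.mem_centralizer_iff, ← hc]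
    rintro _ ⟨i, rfl⟩
    exact ((show Commute g c from mul_inv_eq_iff_eq_mul.mp hg).zpow_right i).eq.symm
  have hUne : U ≠ ⊤ := fun h => hna (⟨⟨fun a b => by
    have hab : ∀ x ∈ U, ∀ y ∈ U, x * y = y * x := by
      rw [← hc]; rintro _ ⟨i, rfl⟩ _ ⟨j, rfl⟩; exact zpow_mul_comm c i j
    exact hab a (h ▸ mem_top _) b (h ▸ mem_top _)⟩⟩)
  have hconj : ∀ g : G, g * c * g⁻¹ ∈ U := fun g => (inferInstance : U.Normal).conj_mem c hcU g
  have hn2 : 2 ≤ n := by
    by_contra hlt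
    refine hUne (eq_top_iff.2 fun g _ => hmem g ?_)
    rcases Nat.le_one_iff_eq_zero_or_eq_one.mp (by omega : n ≤ 1) with rfl | rfl
    · rw [pow_zero, orderOf_eq_one_iff] at hord; rw [hord]; group
    · rw [mem_center_iff.mp (PGroups.le_center_of_card_eq hG U (by rw [hUn, pow_one]) hcU) g, mul_inv_cancel_right]
  have hUpow : Cfsg.powerClosure p 1 U = zpowers (c ^ p) := by
    refine le_antisymm ((Subgroup.closure_le _).2 ?_) (zpowers_le.2 (Subgroup.subset_closure ⟨c, hcU, by rw [pow_one]⟩))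
    rintro y ⟨x, hx, rfl⟩
    rw [← hc] at hx
    obtain ⟨i, rfl⟩ := hx
    exact ⟨i, by show (c ^ p) ^ i = (c ^ i) ^ (p ^ 1); rw [pow_one]; group⟩
  set M := Subgroup.centralizer (Cfsg.powerClosure p 1 U : Set G) with hM
  have hmemM : ∀ g, g ∈ M ↔ g * c ^ p * g⁻¹ = c ^ p := by
    intro g
    rw [hM, hUpow, Subgroup.mem_centralizer_iff]
    constructor
    · intro h; rw [← h _ (mem_zpowers _), mul_inv_cancel_right]
    · rintro h _ ⟨i, rfl⟩
      exact ((show Commute g (c ^ p) from mul_inv_eq_iff_eq_mul.mp h).zpow_right i).eq.symm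
  have hUM : U ≤ M := fun g hg => (hmemM g).2 (by
    rw [← ((hUc g hg).pow_left p).eq, mul_inv_cancel_right])
  have hcommM : ∀ g, (⁅g, c⁆ ^ p = 1 ↔ g ∈ M) := by
    intro g
    have hcc : Commute (g * c * g⁻¹) c := (hUc _ (hconj g)).symm
    rw [hmemM, ← conj_pow, commutatorElement_def, hcc.inv_right.mul_pow, inv_pow, mul_inv_eq_one]
  have hconjU : ∀ g, ⁅g, c⁆ ∈ U := fun g => by
    rw [commutatorElement_def]; exact U.mul_mem (hconj g) (U.inv_mem hcU)
  -- index
  set z := c ^ p ^ (n - 1) with hz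
  have hzU : ∀ u ∈ U, u ^ p = 1 → u ∈ zpowers z := by
    intro u hu hu1
    rw [← hc] at hu; obtain ⟨i, rfl⟩ := hu
    rw [← zpow_natCast, ← zpow_mul, PGroups.zpow_eq_one_iff_dvd hord] at hu1
    rw [show p ^ n = p ^ (n - 1) * p by rw [← pow_succ, Nat.sub_add_cancel (by omega)], Nat.cast_mul] at hu1
    obtain ⟨d, rfl⟩ := Int.dvd_of_mul_dvd_mul_right (by exact_mod_cast hp.pos.ne') hu1
    exact ⟨d, by show z ^ d = _; rw [hz, ← zpow_natCast c (p ^ (n - 1)), ← zpow_mul]⟩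
  have hzord : orderOf z = p := by
    rw [hz, orderOf_pow, hord, Nat.gcd_eq_right (pow_dvd_pow p (by omega)), Nat.pow_div (by omega) hp.pos,
      show n - (n - 1) = 1 by omega, pow_one]
  have hidx : U.relIndex M ≤ p := by
    rw [← hzord, ← Nat.card_zpowers]
    show Nat.card (M ⧸ U.subgroupOf M) ≤ _
    refine Nat.card_le_card_of_injective (Quotient.lift
      (fun g : M => (⟨⁅(g : G), c⁆, hzU _ (hconjU _) ((hcommM _).2 g.2)⟩ : zpowers z)) ?_) ?_
    · intro g k hgk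
      have h0 : g⁻¹ * k ∈ U.subgroupOf M := QuotientGroup.leftRel_apply.mp hgk
      have h1 : (g : G)⁻¹ * k ∈ U := h0
      apply Subtype.ext
      show ⁅(g : G), c⁆ = ⁅(k : G), c⁆
      have h2 := (hUc _ h1).eq
      rw [commutatorElement_def, commutatorElement_def]
      calc (g : G) * c * (g : G)⁻¹ * c⁻¹
          = (g : G) * (c * ((g : G)⁻¹ * k)) * ((g : G)⁻¹ * k)⁻¹ * (g : G)⁻¹ * c⁻¹ := by group
        _ = _ := by rw [h2]; group
    · intro q q'
      induction q using QuotientGroup.induction_on with | _ g =>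
      induction q' using QuotientGroup.induction_on with | _ k =>
      intro h
      have h1 : ⁅(g : G), c⁆ = ⁅(k : G), c⁆ := congrArg Subtype.val h
      rw [commutatorElement_def, commutatorElement_def, mul_left_inj] at h1
      rw [QuotientGroup.eq, Subgroup.mem_subgroupOf]
      refine hmem _ ?_
      calc ((g⁻¹ * k : M) : G) * c * ((g⁻¹ * k : M) : G)⁻¹ = (g : G)⁻¹ * ((k : G) * c * (k : G)⁻¹) * g := by
            simp only [Subgroup.coe_mul, Subgroup.coe_inv]; group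
        _ = _ := by rw [← h1]; group
  have hroot : ∀ g : G, g ∉ U → ∀ k, g ^ p ^ k ∈ U → ∃ i, g ^ p ^ i ∉ U ∧ (g ^ p ^ i) ^ p ∈ U := by
    intro g hg k hk
    induction k with
    | zero => exact absurd (by rwa [pow_zero, pow_one] at hk) hg
    | succ k ih =>
      by_cases h : g ^ p ^ k ∈ U
      · exact ih h
      · exact ⟨k, h, by rw [← pow_mul, ← pow_succ]; exact hk⟩
  obtain ⟨g₀, hg₀⟩ : ∃ g, g ∉ U := by
    by_contra h
    exact hUne (eq_top_iff.2 fun g _ => by_contra fun hg => h ⟨g, hg⟩)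
  obtain ⟨g₁, hg₁, hg₁p⟩ : ∃ g, g ∉ U ∧ g ^ p ∈ U := by
    obtain ⟨k, hk⟩ := hG g₀
    obtain ⟨i, h1, h2⟩ := hroot g₀ hg₀ k (by rw [hk]; exact U.one_mem)
    exact ⟨_, h1, h2⟩
  have hAn : (zpowers c).Normal := by rw [hc]; infer_instance
  -- the maximal class alternative
  have first : ∀ x : G, x ∉ U → x ^ 2 ∈ U → p = 2 → (∀ g : G, g ∉ U → g * x ∈ U) →
      (∀ r : ℤ, x * c * x⁻¹ = c ^ r → ¬ (3 ≤ n ∧ (2 : ℤ) ^ n ∣ r - 1 - 2 ^ (n - 1))) →
      (p = 2 ∧ Nat.card G = 2 ^ (n + 1) ∧ ((∃ m : ℕ, Nonempty (G ≃* DihedralGroup m)) ∨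
        (∃ m : ℕ, Nonempty (G ≃* QuaternionGroup m)) ∨ Cfsg.IsQuasiDihedral G)) := by
    intro x hx hx2 hp2 hall hno
    subst hp2
    have hidx2 : U.index = 2 := by
      refine Subgroup.index_eq_two_iff.mpr ⟨x, fun b => ?_⟩
      by_cases hb : b ∈ U
      · exact Or.inr ⟨hb, fun h => hx ((mul_mem_cancel_left hb).mp h)⟩
      · exact Or.inl ⟨hall b hb, hb⟩
    have hcard : Nat.card G = 2 ^ (n + 1) := by rw [← U.card_mul_index, hidx2, hUn, pow_succ]
    refine ⟨rfl, hcard, ?_⟩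
    obtain ⟨r, hr⟩ := PGroups.exists_conj_eq_zpow hAn x
    have hk' : ((2 ^ n : ℕ) : ℤ) = (2 : ℤ) ^ n := by push_cast; rfl
    have hy : ∀ i : ℤ, x * c ^ i ∉ zpowers c := fun i h => hx (by
      rw [hc] at h; exact (mul_mem_cancel_right (U.zpow_mem hcU i)).mp h)
    have hyc : ∀ i : ℤ, x * c ^ i * c * (x * c ^ i)⁻¹ = x * c * x⁻¹ := fun i => by group
    rcases (PGroups.standard_generator hord (by rw [hc]; exact hx2) hr (fun h => hx (hmem x h))).2 with
      ⟨h1, i, h2 | h2⟩ | ⟨h3, h1, i, h2⟩ | ⟨h3, h1, -⟩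
    · haveI : NeZero (2 ^ n) := ⟨by positivity⟩
      exact Or.inl ⟨_, PGroups.nonempty_mulEquiv_dihedral hord (hy i) h2 ((hyc i).trans h1)
        (by rw [hcard, pow_succ'])⟩
    · obtain ⟨l, rfl⟩ : ∃ l, n = l + 1 := ⟨n - 1, by omega⟩
      haveI : NeZero (2 ^ l) := ⟨by positivity⟩
      rw [Nat.add_sub_cancel] at h2
      exact Or.inr (Or.inl ⟨_, PGroups.nonempty_mulEquiv_quaternion (by rw [hord, pow_succ']) (hy i) h2
        ((hyc i).trans h1) (by rw [hcard, pow_succ, pow_succ]; ring)⟩)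
    · refine Or.inr (Or.inr ⟨n, h3, hcard, c, x * c ^ i, hord,
        orderOf_eq_prime h2 fun h => hy i (h ▸ one_mem _), ?_⟩)
      rw [hyc i, hr, ← zpow_natCast, PGroups.zpow_eq_zpow_iff_dvd hord, hk', Nat.cast_sub (Nat.one_le_two_pow)]
      push_cast
      rw [show (2 : ℤ) ^ (n - 1) - 1 - r = -(r + 1 - 2 ^ (n - 1)) by ring, dvd_neg]
      exact h1
    · exact absurd ⟨h3, h1⟩ (hno r hr)
  by_cases hMU : M = U
  · -- no automorphism of the modular kind
    left
    have hnotM : ∀ g, g ∉ U → ∀ r : ℤ, g * c * g⁻¹ = c ^ r → ¬ ((p ^ (n - 1) : ℕ) : ℤ) ∣ r - 1 := by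
      intro g hg r hr hd
      refine hg (hMU ▸ (hmemM g).2 ?_)
      rw [← conj_pow, hr, ← zpow_natCast, ← zpow_natCast, ← zpow_mul, eq_comm, PGroups.zpow_eq_zpow_iff_dvd hord,
        show r * (p : ℤ) - (p : ℤ) = (r - 1) * p by ring,
        show ((p ^ n : ℕ) : ℤ) = ((p ^ (n - 1) : ℕ) : ℤ) * p by
          rw [← Nat.cast_mul, ← pow_succ, Nat.sub_add_cancel (by omega)]]
      exact mul_dvd_mul_right hd _
    have hp2 : p = 2 := by
      by_contra hp2
      obtain ⟨r, hr⟩ := PGroups.exists_conj_eq_zpow hAn g₁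
      refine hnotM g₁ hg₁ r hr (PGroups.pow_dvd_sub_one hp hp2 (show 1 ≤ n by omega) ?_).2
      have h1 := PGroups.conj_pow_of_conj_eq_zpow hr p
      rw [← (hUc _ hg₁p).eq, mul_inv_cancel_right] at h1
      exact (PGroups.zpow_eq_zpow_iff_dvd hord 1 (r ^ p)).1 (by rw [zpow_one]; exact h1)
    subst hp2
    have hn3 : 3 ≤ n := by
      by_contra hn3
      obtain rfl : n = 2 := by omega
      obtain ⟨r, hr⟩ := PGroups.exists_conj_eq_zpow hAn g₁
      refine hnotM g₁ hg₁ r hr ?_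
      have hodd : ¬ (2 : ℤ) ∣ r := by
        rintro ⟨t, rfl⟩
        have h2 : g₁ * c ^ 2 * g₁⁻¹ = 1 := by
          rw [← conj_pow, hr, ← zpow_natCast, ← zpow_mul, PGroups.zpow_eq_one_iff_dvd hord]
          exact ⟨t, by norm_num; ring⟩
        rw [conj_eq_one_iff, ← orderOf_dvd_iff_pow_eq_one, hord] at h2
        norm_num at h2
      norm_num
      omega
    have hneg : ∀ g, g ∉ U → g ^ 2 ∈ U → ∀ r : ℤ, g * c * g⁻¹ = c ^ r → (2 : ℤ) ^ (n - 1) ∣ r + 1 := by
      intro g hg hg2 r hr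
      have hnd := hnotM g hg r hr
      push_cast at hnd
      have hkk : (2 : ℤ) ^ (n - 1) ∣ 2 ^ n := pow_dvd_pow 2 (by omega)
      rcases (PGroups.standard_generator hord (by rw [hc]; exact hg2) hr (fun h => hg (hmem g h))).2 with
        ⟨h1, -⟩ | ⟨-, h1, -⟩ | ⟨-, h1, -⟩
      · have h5 := hr.symm.trans h1
        rw [← zpow_neg_one, PGroups.zpow_eq_zpow_iff_dvd hord, show -1 - r = -(r + 1) by ring, dvd_neg] at h5
        push_cast at h5
        exact hkk.trans h5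
      · simpa using dvd_add (hkk.trans h1) (dvd_refl ((2 : ℤ) ^ (n - 1)))
      · exact absurd (by simpa using dvd_add (hkk.trans h1) (dvd_refl ((2 : ℤ) ^ (n - 1)))) hnd
    have hsq : ∀ g : G, g ^ 2 ∈ U := by
      intro g
      by_contra hg
      obtain ⟨k, hk⟩ := hG g
      obtain ⟨i, h1, h2⟩ := hroot _ hg k (by rw [← pow_mul, mul_comm, pow_mul, hk, one_pow]; exact U.one_mem)
      have e : (g ^ 2) ^ 2 ^ i = (g ^ 2 ^ i) ^ 2 := by rw [← pow_mul, ← pow_mul, mul_comm]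
      rw [e] at h1 h2
      obtain ⟨s, hs⟩ := PGroups.exists_conj_eq_zpow hAn (g ^ 2 ^ i)
      have h3 := hneg _ h1 h2 _ (PGroups.conj_pow_of_conj_eq_zpow hs 2)
      have h4 : (4 : ℤ) ∣ s ^ 2 + 1 := (show (4 : ℤ) ∣ 2 ^ (n - 1) by
        rw [show (4 : ℤ) = 2 ^ 2 by norm_num]; exact pow_dvd_pow 2 (by omega)).trans h3
      rcases Int.even_or_odd' s with ⟨t, rfl | rfl⟩
      · rw [show (2 * t) ^ 2 + 1 = 4 * (t * t) + 1 by ring] at h4; omega
      · rw [show (2 * t + 1) ^ 2 + 1 = 4 * (t * t + t) + 2 by ring] at h4; omega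
    refine first g₁ hg₁ (hsq g₁) rfl (fun g hg => ?_) fun r hr hd => ?_
    · obtain ⟨r, hr⟩ := PGroups.exists_conj_eq_zpow hAn g₁
      obtain ⟨s, hs⟩ := PGroups.exists_conj_eq_zpow hAn g
      obtain ⟨a, ha⟩ := hneg g₁ hg₁ (hsq _) r hr
      obtain ⟨b, hb⟩ := hneg g hg (hsq _) s hs
      refine hMU ▸ (hmemM _).2 ?_
      have hrs : g * g₁ * c * (g * g₁)⁻¹ = c ^ (s * r) := by
        rw [show g * g₁ * c * (g * g₁)⁻¹ = g * (g₁ * c * g₁⁻¹) * g⁻¹ by group, hr, ← conj_zpow, hs, ← zpow_mul]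
      rw [← conj_pow, hrs, ← zpow_natCast, ← zpow_natCast, ← zpow_mul, eq_comm, PGroups.zpow_eq_zpow_iff_dvd hord]
      refine ⟨2 ^ (n - 1) * a * b - a - b, ?_⟩
      push_cast
      rw [show (2 : ℤ) ^ n = 2 * 2 ^ (n - 1) by rw [← pow_succ', Nat.sub_add_cancel (by omega)]]
      linear_combination (2 * s) * ha + (2 * (2 ^ (n - 1) * a) - 2) * hb
    · refine hnotM g₁ hg₁ r hr ?_
      push_cast
      have hkk : (2 : ℤ) ^ (n - 1) ∣ 2 ^ n := pow_dvd_pow 2 (by omega)
      simpa using dvd_add (hkk.trans hd.2) (dvd_refl ((2 : ℤ) ^ (n - 1)))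
  obtain ⟨m, hm, hmU⟩ := SetLike.exists_of_lt (lt_of_le_of_ne hUM (Ne.symm hMU))
  have hrel : U.relIndex M = p := by
    obtain ⟨k, hk⟩ := IsPGroup.iff_card.mp ((hG.to_subgroup M).to_quotient (U.subgroupOf M))
    have hk' : U.relIndex M = p ^ k := hk
    rcases k with _ | _ | k
    · rw [pow_zero, Subgroup.relIndex_eq_one] at hk'; exact absurd (hk' hm) hmU
    · rwa [pow_one] at hk'
    · exfalso
      have : p ^ 2 ≤ p ^ (k + 2) := Nat.pow_le_pow_right hp.pos (by omega)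
      rw [hk'] at hidx
      nlinarith [hp.two_le]
  have hMp : ∀ x ∈ M, x ^ p ∈ U := by
    intro x hx
    have h := Subgroup.pow_index_mem (U.subgroupOf M) (⟨x, hx⟩ : M)
    rw [show (U.subgroupOf M).index = p from hrel] at h
    simpa [Subgroup.mem_subgroupOf] using h
  have hUMtwo : p = 2 → ∀ x ∈ M, x ∉ U → ∀ y ∈ M, y ∉ U → x * y ∈ U := by
    intro hp2 x hx hxU y hy hyU
    have hi : (U.subgroupOf M).index = 2 := hrel.trans hp2
    have h := Subgroup.mul_mem_iff_of_index_two hi (a := (⟨x, hx⟩ : M)) (b := ⟨y, hy⟩)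
    have h' : x * y ∈ U ↔ (x ∈ U ↔ y ∈ U) := h
    rw [h']; simp [hxU, hyU]
  -- small exception
  by_cases h8 : p = 2 ∧ n = 2
  · obtain ⟨rfl, rfl⟩ := h8
    left
    have hMtop : ∀ g, g ∈ M := by
      intro g
      rw [hmemM]
      have hz2 : (c ^ 2) ^ 2 = 1 := by rw [← pow_mul, ← orderOf_dvd_iff_pow_eq_one, hord]; norm_num
      have hne : c ^ 2 ≠ 1 := fun h => by
        rw [← orderOf_dvd_iff_pow_eq_one, hord] at h; norm_num at h
      exact PGroups.eq_of_sq_eq_one (H := U) hU (by rw [← conj_pow]; exact U.pow_mem (hconj g) 2)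
        (U.pow_mem hcU 2) (by rw [conj_pow, hz2, mul_one, mul_inv_cancel]) hz2
        (fun h => hne (conj_eq_one_iff.mp h)) hne
    refine first m hmU (hMp m hm) rfl (fun g hg => hUMtwo rfl g (hMtop g) hg m hm hmU) fun r hr h => ?_
    omega
  right
  refine ⟨hrel, ?_⟩
  set Ω := Cfsg.omegaOne p M with hΩ
  suffices hprop : IsMulCommutative Ω ∧ (∀ a ∈ Ω, a ^ p = 1) ∧ Nat.card Ω = p ^ 2 by
    obtain ⟨hΩc, hΩe, hΩcard⟩ := hprop
    refine ⟨⟨hΩc, hΩe⟩, hΩcard, ?_⟩
    haveI hMn : M.Normal := Subgroup.Normal.mk fun x hx g => (hmemM _).2 (by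
      obtain ⟨r, hr⟩ := PGroups.exists_conj_eq_zpow hAn g⁻¹
      have h1 : g⁻¹ * c ^ p * g = (c ^ p) ^ r := by
        rw [show g⁻¹ * c ^ p * g = g⁻¹ * c ^ p * g⁻¹⁻¹ by rw [inv_inv], ← conj_pow, hr]; group
      have h2 := (hmemM x).1 hx
      calc g * x * g⁻¹ * c ^ p * (g * x * g⁻¹)⁻¹ = g * (x * (g⁻¹ * c ^ p * g) * x⁻¹) * g⁻¹ := by group
        _ = g * ((x * c ^ p * x⁻¹) ^ r) * g⁻¹ := by rw [h1, conj_zpow]
        _ = g * (g⁻¹ * c ^ p * g) * g⁻¹ := by rw [h2, h1]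
        _ = c ^ p := by group)
    haveI hΩn : Ω.Normal := by
      refine Subgroup.Normal.mk fun x hx g => ?_
      have h : Ω.map (MulAut.conj g).toMonoidHom ≤ Ω := by
        rw [hΩ, Cfsg.omegaOne, MonoidHom.map_closure]
        refine (Subgroup.closure_le _).2 ?_
        rintro _ ⟨y, ⟨hy, hy1⟩, rfl⟩
        exact Subgroup.subset_closure ⟨hMn.conj_mem y hy g, by
          show (g * y * g⁻¹) ^ p = 1
          rw [conj_pow, hy1, mul_one, mul_inv_cancel]⟩
      exact h ⟨x, hx, rfl⟩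
    refine Subgroup.characteristic_iff_map_eq.mpr fun φ => ?_
    haveI : (Ω.map φ.toMonoidHom).Normal := hΩn.map _ φ.surjective
    refine Subgroup.eq_of_le_of_card_ge ?_ (le_of_eq (Subgroup.card_map_of_injective φ.injective).symm)
    intro x hx
    have hxp : x ^ p = 1 := by
      obtain ⟨y, hy, rfl⟩ := hx
      rw [← map_pow, hΩe y hy, map_one]
    refine Subgroup.subset_closure ⟨(hcommM x).1 ?_, hxp⟩
    obtain ⟨y, hy, hye⟩ := (commutator_le_left (Ω.map φ.toMonoidHom) U) (commutator_mem_commutator hx hcU)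
    rw [← hye, ← map_pow, hΩe y hy, map_one]
  by_cases hp2 : p = 2
  · subst hp2
    have hn3 : 3 ≤ n := by omega
    have hk' : ((2 ^ n : ℕ) : ℤ) = (2 : ℤ) ^ n := by push_cast; rfl
    obtain ⟨r, hr⟩ := PGroups.exists_conj_eq_zpow hAn m
    have hr2 : (2 : ℤ) ^ (n - 1) ∣ r - 1 := by
      have h := (hmemM m).1 hm
      rw [← conj_pow, hr, ← zpow_natCast, ← zpow_natCast, ← zpow_mul, eq_comm,
        PGroups.zpow_eq_zpow_iff_dvd hord, hk', show r * ((2 : ℕ) : ℤ) - ((2 : ℕ) : ℤ) = (r - 1) * 2 by push_cast; ring,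
        show (2 : ℤ) ^ n = 2 ^ (n - 1) * 2 by rw [← pow_succ, Nat.sub_add_cancel (by omega)]] at h
      exact Int.dvd_of_mul_dvd_mul_right (by norm_num) h
    have hkk : (2 : ℤ) ^ (n - 1) ∣ 2 ^ n := pow_dvd_pow 2 (by omega)
    have h2not : ¬ (2 : ℤ) ^ (n - 1) ∣ r + 1 := fun h => by
      have h' := (show (4 : ℤ) ∣ 2 ^ (n - 1) by
        rw [show (4 : ℤ) = 2 ^ 2 by norm_num]; exact pow_dvd_pow 2 (by omega)).trans (dvd_sub h hr2)
      rw [show r + 1 - (r - 1) = 2 by ring] at h'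
      norm_num at h'
    rcases (PGroups.standard_generator hord (by rw [hc]; exact hMp m hm) hr (fun h => hmU (hmem m h))).2 with
      ⟨h1, -⟩ | ⟨-, h1, -⟩ | ⟨-, h1, i, h2⟩
    · exfalso
      have h5 := hr.symm.trans h1
      rw [← zpow_neg_one, PGroups.zpow_eq_zpow_iff_dvd hord, show -1 - r = -(r + 1) by ring, dvd_neg, hk'] at h5
      exact h2not (hkk.trans h5)
    · exact absurd (by simpa using dvd_add (hkk.trans h1) (dvd_refl ((2 : ℤ) ^ (n - 1)))) h2not
    set t := m * c ^ i with ht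
    have htU : t ∉ zpowers c := fun h => hmU (by
      rw [hc] at h; exact (mul_mem_cancel_right (U.zpow_mem hcU i)).mp h)
    have htM : t ∈ M := M.mul_mem hm (hUM (U.zpow_mem hcU i))
    have htc : t * c * t⁻¹ = c * c ^ 2 ^ (n - 1) := by
      rw [show t * c * t⁻¹ = m * c * m⁻¹ by rw [ht]; group, hr, ← pow_succ', ← zpow_natCast,
        PGroups.zpow_eq_zpow_iff_dvd hord, hk']
      push_cast
      rw [show (2 : ℤ) ^ (n - 1) + 1 - r = -(r - 1 - 2 ^ (n - 1)) by ring, dvd_neg]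
      exact h1
    exact omega_two hn3 hord h2 htU htc M (fun x hx => by
      by_cases hxU : x ∈ U
      · exact Or.inl (hc ▸ hxU)
      · refine Or.inr ?_
        have hxt : t⁻¹ * x ∈ U := hUMtwo rfl _ (M.inv_mem htM) (fun h => htU (hc.symm ▸ by simpa using U.inv_mem h)) x hx hxU
        rw [← hc] at hxt
        obtain ⟨j, hj⟩ := hxt
        exact ⟨j, by rw [show c ^ j = t⁻¹ * x from hj, mul_inv_cancel_left]⟩) (hUM hcU) htM
  · have hMnc : ¬ IsCyclic M := fun h => by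
      haveI := h
      exact hmU (hmem m (by
        have h' : (⟨m, hm⟩ : M) * ⟨c, hUM hcU⟩ = ⟨c, hUM hcU⟩ * ⟨m, hm⟩ := IsCyclic.isMulCommutative.is_comm.comm _ _
        rw [show m * c = c * m from congrArg Subtype.val h', mul_inv_cancel_right]))
    haveI : IsCyclic (U.subgroupOf M) := isCyclic_of_surjective _ (Subgroup.subgroupOfEquivOfLe hUM).symm.surjective
    obtain ⟨h1, h2, h3⟩ := PGroups.omega_of_cyclic_max (hG.to_subgroup M) hp2 hMnc (C := U.subgroupOf M) inferInstance hrel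
    have he : Ω = (Subgroup.closure {x : M | x ^ p = 1}).map M.subtype := by
      rw [hΩ, Cfsg.omegaOne, MonoidHom.map_closure]
      congr 1
      ext x
      constructor
      · rintro ⟨hx, hx1⟩; exact ⟨⟨x, hx⟩, Subtype.ext hx1, rfl⟩
      · rintro ⟨y, hy, rfl⟩; exact ⟨y.2, congrArg Subtype.val hy⟩
    refine ⟨?_, ?_, ?_⟩
    · rw [he]
      exact ⟨⟨fun a b => by
        obtain ⟨_, x, hx, rfl⟩ := a
        obtain ⟨_, y, hy, rfl⟩ := b
        exact Subtype.ext (congrArg Subtype.val (PGroups.comm_of_isMulCommutative h1 hx hy) :)⟩⟩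
    · rw [he]
      rintro _ ⟨x, hx, rfl⟩
      exact congrArg Subtype.val (h3 x hx)
    · rw [he, Subgroup.card_map_of_injective M.subtype_injective, h2]

end Cfsg.Agent.S3761
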