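import Cfsg.Statements.S3762
import Cfsg.Agent.PGroups.Critical
import Cfsg.Agent.PGroups.Extraspecial
import Cfsg.Agent.H92.ExtraIso
import Cfsg.Agent.S3761

set_option autoImplicit false
set_option linter.style.haveILetI false
set_option linter.unusedSectionVars false
set_option maxHeartbeats 1000000
open Cfsg

namespace Cfsg.Agent.S3762

open Subgroup
open scoped commutatorElement

/-- A nonabelian group with centre, commutators and `p`-th powers inside a central subgroup of order `p`
is extraspecial. -/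
private theorem extraspecial_of {G : Type*} [Group G] [Finite G] {p : ℕ} [Fact p.Prime] (hG : IsPGroup p G)
    (Z : Subgroup G) (hZ : Nat.card Z = p) (hcen : center G ≤ Z) (hcomm : ∀ a b : G, ⁅a, b⁆ ∈ Z)
    (hpow : ∀ a : G, a ^ p ∈ Z) (hZc : Z ≤ center G) (hna : ¬ IsMulCommutative G) :
    Cfsg.IsExtraspecial p G := by
  obtain rfl : Z = center G := le_antisymm hZc hcen
  have hle : commutator G ≤ center G := by
    rw [commutator_eq_closure, Subgroup.closure_le]
    rintro _ ⟨a, b, rfl⟩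
    exact hcomm a b
  obtain ⟨a, b, hab⟩ : ∃ a b : G, ⁅a, b⁆ ≠ 1 := by
    by_contra h
    push Not at h
    exact hna ⟨⟨fun a b => commutatorElement_eq_one_iff_mul_comm.mp (h a b)⟩⟩
  have heq : commutator G = center G := by
    refine le_antisymm hle ?_
    rw [← PGroups.zpowers_eq_of_card_eq hZ (hcomm a b) hab]
    exact zpowers_le.mpr (commutator_mem_commutator (mem_top a) (mem_top b))
  exact ⟨⟨hG, le_antisymm (PGroups.frattini_le_of_commutator_le _ hle hpow)
    (heq ▸ PGroups.commutator_le_frattini hG), heq⟩, hZ⟩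

/-- In a cyclic subgroup, an element killed by the order of `c` lies in `⟨c⟩`. -/
private theorem mem_zpowers_of_cyclic {G : Type*} [Group G] [Finite G] {A : Subgroup G} (hA : IsCyclic A)
    {c y : G} (hc : c ∈ A) (hy : y ∈ A) (h : y ^ orderOf c = 1) : y ∈ zpowers c := by
  classical
  haveI := hA
  haveI := Fintype.ofFinite A
  have h0 : 0 < orderOf c := orderOf_pos c
  have hle := IsCyclic.card_pow_eq_one_le (α := A) h0
  let S := Finset.univ.filter (fun a : A => a ^ orderOf c = 1)
  let T := Finset.univ.filter (fun a : A => (a : G) ∈ zpowers c)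
  have hTS : T ⊆ S := fun a ha => by
    obtain ⟨i, hi⟩ := (Finset.mem_filter.mp ha).2
    refine Finset.mem_filter.mpr ⟨Finset.mem_univ _, Subtype.ext ?_⟩
    show (a : G) ^ orderOf c = 1
    rw [← show c ^ i = (a : G) from hi, ← zpow_natCast, ← zpow_mul, mul_comm, zpow_mul, zpow_natCast,
      pow_orderOf_eq_one, one_zpow]
  have hTc : T.card = orderOf c := by
    have e : Nat.card {a : A // (a : G) ∈ zpowers c} = orderOf c := by
      rw [← Nat.card_zpowers]
      exact Nat.card_congr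
        { toFun := fun a => ⟨a.1, a.2⟩
          invFun := fun g => ⟨⟨g, zpowers_le.mpr hc g.2⟩, g.2⟩
          left_inv := fun a => rfl
          right_inv := fun g => rfl }
    rwa [Nat.card_eq_fintype_card, Fintype.card_subtype] at e
  have hST : T = S := Finset.eq_of_subset_of_card_le hTS (le_of_le_of_eq hle hTc.symm)
  have hyS : (⟨y, hy⟩ : A) ∈ T := hST ▸ Finset.mem_filter.mpr ⟨Finset.mem_univ _, Subtype.ext h⟩
  exact (Finset.mem_filter.mp hyS).2



/-- Let G be a finite p-group of symplectic type: every characteristic abelian subgroup of G is cyclic. Then G = E ∗ R is a central product of subgroups E and R (they commute elementwise and generate G) where E is extraspecial or trivial, and R is cyclic, or p = 2 and R is dihedral, semidihedral or generalized quaternion of order at least 16. -/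
theorem result {G : Type*} [Group G] [Finite G] {p : ℕ} [Fact p.Prime] (hG : IsPGroup p G) (hsymp : ∀ A : Subgroup G, A.Characteristic → IsMulCommutative A → IsCyclic A) : ∃ E R : Subgroup G, (∀ e ∈ E, ∀ r ∈ R, e * r = r * e) ∧ E ⊔ R = ⊤ ∧ (E = ⊥ ∨ Cfsg.IsExtraspecial p ↥E) ∧ (IsCyclic R ∨ (p = 2 ∧ 16 ≤ Nat.card R ∧ ((∃ m : ℕ, Nonempty (↥R ≃* DihedralGroup m)) ∨ (∃ m : ℕ, Nonempty (↥R ≃* QuaternionGroup m)) ∨ Cfsg.IsQuasiDihedral ↥R))) := by
  classical
  have hp := (Fact.out : p.Prime)
  obtain ⟨H, hHc, hHfr, hHcomm, hCH⟩ := PGroups.exists_critical hG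
  set U := centralizer (H : Set G) with hU
  haveI hUchar : U.Characteristic := by
    have := PGroups.characteristic_inf_centralizer hHc
    rwa [inf_eq_right.mpr hCH] at this
  have hUH : ∀ u ∈ U, ∀ x ∈ H, Commute u x := fun u hu x hx => (Subgroup.mem_centralizer_iff.mp hu x hx).symm
  have hUcyc : IsCyclic U := hsymp U hUchar (PGroups.isMulCommutative_of_comm fun x hx y hy => (hUH x hx y (hCH hy)).eq)
  obtain ⟨c, hc⟩ := U.isCyclic_iff_exists_zpowers_eq_top.mp hUcyc
  obtain ⟨n, hord⟩ := IsPGroup.iff_orderOf.mp hG c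
  have hcU : c ∈ U := hc ▸ mem_zpowers c
  have hUn : Nat.card U = p ^ n := by rw [← hc, Nat.card_zpowers, hord]
  have hUexp : ∀ u ∈ U, u ^ p ^ n = 1 := by
    intro u hu
    rw [← hc] at hu
    obtain ⟨i, rfl⟩ := hu
    show (c ^ i) ^ p ^ n = 1
    rw [← zpow_natCast, ← zpow_mul, mul_comm, zpow_mul, zpow_natCast, ← hord, pow_orderOf_eq_one, one_zpow]
  have hpU : ∀ x ∈ H, x ^ p ∈ U := fun x hx =>
    hHfr ⟨⟨x, hx⟩ ^ p, PGroups.pow_mem_frattini (hG.to_subgroup H) _, rfl⟩
  have hgU : ∀ (g : G), ∀ x ∈ H, ⁅g, x⁆ ∈ U := fun g x hx => by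
    rw [← commutatorElement_inv]
    exact U.inv_mem (hHcomm (commutator_mem_commutator hx (mem_top g))).2
  rcases Nat.eq_zero_or_pos n with hn0 | hn1
  · subst hn0
    have hUbot : U = ⊥ := by rw [← hc, zpowers_eq_bot]; exact orderOf_eq_one_iff.mp (by rw [hord, pow_zero])
    have hcen : center G = ⊥ := eq_bot_iff.mpr ((Subgroup.center_le_centralizer _).trans hUbot.le)
    haveI hsub : Subsingleton G := by
      by_contra h
      haveI : Nontrivial G := not_subsingleton_iff_nontrivial.mp h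
      haveI := hG.center_nontrivial
      exact (Subgroup.nontrivial_iff_ne_bot _).mp this hcen
    exact ⟨⊥, ⊤, fun e _ r _ => Subsingleton.elim _ _, bot_sup_eq _, Or.inl rfl, Or.inl inferInstance⟩
  set Z := zpowers (c ^ p ^ (n - 1)) with hZ
  have hZord : orderOf (c ^ p ^ (n - 1)) = p := by
    rw [orderOf_pow, hord, Nat.gcd_eq_right (pow_dvd_pow p (by omega)), Nat.pow_div (by omega) hp.pos,
      show n - (n - 1) = 1 by omega, pow_one]
  have hZcard : Nat.card Z = p := by rw [hZ, Nat.card_zpowers, hZord]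
  have hZU : Z ≤ U := zpowers_le.mpr (U.pow_mem hcU _)
  have hUZ : ∀ u ∈ U, u ^ p = 1 → u ∈ Z := fun u hu h1 =>
    mem_zpowers_of_cyclic hUcyc (U.pow_mem hcU _) hu (by rw [hZord]; exact h1)
  haveI hZn : Z.Normal := Subgroup.Normal.mk fun x hx g => hUZ _ ((inferInstance : U.Normal).conj_mem x (hZU hx) g) (by
    obtain ⟨i, rfl⟩ := hx
    show (g * (c ^ p ^ (n - 1)) ^ i * g⁻¹) ^ p = 1
    rw [conj_pow, ← zpow_natCast, ← zpow_mul, mul_comm i, zpow_mul, zpow_natCast, orderOf_dvd_iff_pow_eq_one.mp hZord.dvd,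
      one_zpow, mul_one, mul_inv_cancel])
  have hZc : Z ≤ center G := PGroups.le_center_of_card_eq hG Z hZcard
  have key : ∀ g x : G, x ∈ H → g * x ^ p * g⁻¹ = x ^ p → ⁅g, x⁆ ∈ Z := by
    intro g x hx hg
    have hu := hgU g x hx
    refine hUZ _ hu ?_
    have h1 : (⁅g, x⁆ * x) ^ p = x ^ p := by
      rw [show ⁅g, x⁆ * x = g * x * g⁻¹ by rw [commutatorElement_def]; group, conj_pow]; exact hg
    rw [(hUH _ hu x hx).mul_pow] at h1
    exact mul_eq_right.mp h1
  have hHZ : ∀ x ∈ H, ∀ y ∈ H, ⁅x, y⁆ ∈ Z := fun x hx y hy =>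
    key x y hy (by rw [← (hUH _ (hpU y hy) x hx).eq, mul_inv_cancel_right])
  have hadd : ∀ a ∈ H, ∀ b ∈ H, ∀ y ∈ H, ⁅a * b, y⁆ = ⁅a, y⁆ * ⁅b, y⁆ := fun a _ b hb y hy =>
    PGroups.commutatorElement_mul_left_of_mem_center (hZc (hHZ b hb y hy))
  have hpowmul : ∀ x ∈ H, ∀ y ∈ H, ∀ k : ℕ, p ∣ k.choose 2 → (x * y) ^ k = x ^ k * y ^ k := by
    intro x hx y hy k hk
    obtain ⟨d, hd⟩ := hk
    have h1 := hHZ y hy x hx
    rw [PGroups.mul_pow_of_commutator_mem_center (hZc h1), hd, pow_mul, ← hZcard,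
      show ⁅y, x⁆ ^ Nat.card Z = 1 from congrArg Subtype.val (pow_card_eq_one' (x := (⟨_, h1⟩ : Z))),
      one_pow, mul_one]
  -- elements of `H` have `p ^ n`-th power one when `2 ≤ n`
  have hexp : 2 ≤ n → ∀ x ∈ H, x ^ p ^ n = 1 := by
    intro hn2
    have hdvd : p ∣ (p ^ n).choose 2 := hp.dvd_choose_pow two_ne_zero fun h => by
      have h4 : p ^ 2 ≤ p ^ n := Nat.pow_le_pow_right hp.pos hn2
      have h5 := Nat.mul_le_mul hp.two_le hp.two_le
      rw [← h, sq] at h4
      omega
    haveI hUH' : (U.subgroupOf H).Normal := Subgroup.Normal.subgroupOf inferInstance H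
    have hφmem : ∀ x ∈ H, x ^ p ^ n ∈ Z := by
      intro x hx
      obtain ⟨m, rfl⟩ : ∃ m, n = m + 1 := ⟨n - 1, by omega⟩
      refine hUZ _ ?_ ?_
      · rw [pow_succ', pow_mul]; exact U.pow_mem (hpU x hx) _
      · rw [← pow_mul, mul_comm, pow_mul]; exact hUexp _ (hpU x hx)
    let φ : H →* Z := MonoidHom.mk' (fun x => ⟨(x : G) ^ p ^ n, hφmem x x.2⟩)
      fun a b => Subtype.ext (hpowmul a a.2 b b.2 _ hdvd)
    let f : H → (H →* Z) := fun y => MonoidHom.mk' (fun x => ⟨⁅(x : G), (y : G)⁆, hHZ x x.2 y y.2⟩)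
      fun a b => Subtype.ext (hadd a a.2 b b.2 y y.2)
    have hfU : ∀ y : H, U.subgroupOf H ≤ (f y).ker := fun y x hx => MonoidHom.mem_ker.mpr
      (Subtype.ext (commutatorElement_eq_one_iff_commute.mpr (hUH _ hx y y.2)))
    have hφU : U.subgroupOf H ≤ φ.ker := fun x hx => MonoidHom.mem_ker.mpr (Subtype.ext (hUexp _ hx))
    let F : H ⧸ U.subgroupOf H → (H ⧸ U.subgroupOf H →* Z) := Quotient.lift
      (fun y => QuotientGroup.lift _ (f y) (hfU y)) fun y k hyk => by
        have hu0 : y⁻¹ * k ∈ U.subgroupOf H := QuotientGroup.leftRel_apply.mp hyk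
        have hu : (y : G)⁻¹ * k ∈ U := hu0
        refine MonoidHom.ext fun q => ?_
        induction q using QuotientGroup.induction_on with | _ x =>
        apply Subtype.ext
        show ⁅(x : G), (y : G)⁆ = ⁅(x : G), (k : G)⁆
        rw [show (k : G) = y * ((y : G)⁻¹ * k) by group,
          PGroups.commutatorElement_mul_right_of_mem_center (hZc (hHZ x x.2 _ (H.mul_mem (H.inv_mem y.2) k.2))),
          commutatorElement_eq_one_iff_commute.mpr (hUH _ hu x x.2).symm, mul_one]
    have hFinj : Function.Injective F := by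
      intro q q'
      induction q using QuotientGroup.induction_on with | _ y =>
      induction q' using QuotientGroup.induction_on with | _ k =>
      intro hF
      rw [QuotientGroup.eq, Subgroup.mem_subgroupOf, hU, Subgroup.mem_centralizer_iff]
      intro x hx
      have h1 : ⁅x, (y : G)⁆ = ⁅x, (k : G)⁆ :=
        congrArg Subtype.val (DFunLike.congr_fun hF (QuotientGroup.mk (⟨x, hx⟩ : H)))
      have h2 : ⁅x, (y : G)⁻¹ * k⁆ = 1 := by
        have h3 := PGroups.commutatorElement_mul_right_of_mem_center (b := (y : G)) (c := (y : G)⁻¹ * k)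
          (hZc (hHZ x hx _ (H.mul_mem (H.inv_mem y.2) k.2)))
        rw [mul_inv_cancel_left, ← h1] at h3
        exact left_eq_mul.mp h3
      simpa using commutatorElement_eq_one_iff_mul_comm.mp h2
    haveI : Finite (H ⧸ U.subgroupOf H →* Z) := Finite.of_injective _ DFunLike.coe_injective
    have hle : Nat.card (H ⧸ U.subgroupOf H →* Z) ≤ Nat.card (H ⧸ U.subgroupOf H) :=
      (PGroups.card_hom_le ((hG.to_subgroup H).to_quotient _) hZcard).trans
        (Nat.le_of_dvd Nat.card_pos (Subgroup.index_dvd_card _))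
    obtain ⟨q, hq⟩ := (hFinj.bijective_of_nat_card_le hle).2 (QuotientGroup.lift _ φ hφU)
    induction q using QuotientGroup.induction_on with | _ y =>
    have hy : ∀ x ∈ H, ⁅x, (y : G)⁆ = x ^ p ^ n := fun x hx =>
      congrArg Subtype.val (DFunLike.congr_fun hq (QuotientGroup.mk (⟨x, hx⟩ : H)))
    set W := Subgroup.closure {x : G | x ∈ H ∧ x ^ p ^ n = 1} with hW
    have hWchar : W.Characteristic := by
      rw [Subgroup.characteristic_iff_le_comap]
      intro α
      rw [hW, Subgroup.closure_le]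
      rintro x ⟨hx, hx1⟩
      exact Subgroup.subset_closure ⟨(PGroups.apply_mem_iff_of_characteristic hHc α).mpr hx,
        (map_pow α x _).symm.trans (by rw [hx1, map_one])⟩
    have hWH : W ≤ H := (Subgroup.closure_le H).mpr fun x hx => hx.1
    have hAc := hsymp _ (PGroups.characteristic_inf_centralizer hWchar) (PGroups.isMulCommutative_inf_centralizer W)
    have hyW : (y : G) ∈ W ⊓ centralizer (W : Set G) := by
      refine ⟨Subgroup.subset_closure ⟨y.2, by rw [← hy y y.2, commutatorElement_self]⟩, ?_⟩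
      show (y : G) ∈ centralizer (W : Set G)
      rw [hW, Subgroup.centralizer_closure, Subgroup.mem_centralizer_iff]
      rintro x ⟨hx, hx1⟩
      exact commutatorElement_eq_one_iff_mul_comm.mp ((hy x hx).trans hx1)
    have hcW : c ∈ W ⊓ centralizer (W : Set G) := ⟨Subgroup.subset_closure ⟨hCH hcU, hUexp c hcU⟩,
      Subgroup.mem_centralizer_iff.mpr fun x hx => (hUH c hcU x (hWH hx)).eq.symm⟩
    have hyU : (y : G) ∈ U := hc ▸ mem_zpowers_of_cyclic hAc hcW hyW
      (by rw [hord, ← hy y y.2, commutatorElement_self])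
    intro x hx
    rw [← hy x hx, commutatorElement_eq_one_iff_commute]
    exact (hUH _ hyU x hx).symm
  have hadj : ∀ x ∈ H, ∃ u ∈ U, (x * u) ^ p ∈ Z := by
    intro x hx
    rcases Nat.lt_or_ge n 2 with hn2 | hn2
    · obtain rfl : n = 1 := by omega
      exact ⟨1, U.one_mem, by rw [mul_one]; exact hUZ _ (hpU x hx) (by simpa using hUexp _ (hpU x hx))⟩
    obtain ⟨i, hi⟩ := Subgroup.mem_zpowers_iff.mp (hc.symm ▸ hpU x hx : x ^ p ∈ zpowers c)
    have h1 : (x ^ p) ^ p ^ (n - 1) = 1 := by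
      rw [← pow_mul, ← pow_succ', Nat.sub_add_cancel hn1]; exact hexp hn2 x hx
    rw [← hi, ← zpow_natCast, ← zpow_mul, PGroups.zpow_eq_one_iff_dvd hord,
      show p ^ n = p * p ^ (n - 1) by rw [← pow_succ', Nat.sub_add_cancel hn1], Nat.cast_mul] at h1
    obtain ⟨k, rfl⟩ := Int.dvd_of_mul_dvd_mul_right (by exact_mod_cast (pow_pos hp.pos _).ne') h1
    refine ⟨c ^ (-k), U.zpow_mem hcU _, ?_⟩
    rw [((hUH _ (U.zpow_mem hcU (-k)) x hx).symm).mul_pow, ← hi, ← zpow_natCast (c ^ (-k)) p, ← zpow_mul,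
      ← zpow_add, show (p : ℤ) * k + -k * (p : ℤ) = 0 by ring, zpow_zero]
    exact Z.one_mem
  -- the extraspecial factor
  obtain ⟨E, hEH, hEcase, hEUH, hEpow⟩ : ∃ E : Subgroup G, E ≤ H ∧
      (E = ⊥ ∨ (Cfsg.IsExtraspecial p E ∧ ⁅(⊤ : Subgroup G), E⁆ ≤ E ⊓ centralizer (E : Set G))) ∧
      H ≤ E ⊔ U ∧ ∀ e ∈ E, e ^ p ∈ Z := by
    by_cases hHU : H ≤ U
    · exact ⟨⊥, bot_le, Or.inl rfl, hHU.trans le_sup_right, fun e he => by
        rw [Subgroup.mem_bot.mp he, one_pow]; exact Z.one_mem⟩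
    obtain ⟨E, hE⟩ := (Set.toFinite {K : Subgroup G | Z ≤ K ∧ K ≤ H ∧ K ⊓ U ≤ Z}).exists_maximal
      ⟨Z, le_rfl, hZU.trans hCH, inf_le_left⟩
    obtain ⟨⟨hZE, hEH, hEU⟩, hmax⟩ := hE
    have hHE : H ≤ E ⊔ U := by
      intro x hx
      by_contra hxn
      obtain ⟨u, hu, hxu⟩ := hadj x hx
      set x₁ := x * u with hx₁
      have hx₁H : x₁ ∈ H := H.mul_mem hx (hCH hu)
      have hx₁n : x₁ ∉ E ⊔ U := fun h => hxn (by
        have := (E ⊔ U).mul_mem h (Subgroup.mem_sup_right (U.inv_mem hu))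
        rwa [hx₁, mul_inv_cancel_right] at this)
      have hnz : zpowers x₁ ≤ Subgroup.normalizer (E : Set G) := by
        intro w hw
        have hwH : w ∈ H := zpowers_le.mpr hx₁H hw
        rw [Subgroup.mem_normalizer_iff]
        intro e
        constructor
        · intro he
          rw [show w * e * w⁻¹ = ⁅w, e⁆ * e by rw [commutatorElement_def]; group]
          exact E.mul_mem (hZE (hHZ w hwH e (hEH he))) he
        · intro he
          rw [show e = ⁅w⁻¹, w * e * w⁻¹⁆ * (w * e * w⁻¹) by rw [commutatorElement_def]; group]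
          exact E.mul_mem (hZE (hHZ _ (H.inv_mem hwH) _ (hEH he))) he
      have hK : E ⊔ zpowers x₁ ≤ E := by
        refine hmax ⟨hZE.trans le_sup_left, sup_le hEH (zpowers_le.mpr hx₁H), ?_⟩ le_sup_left
        rintro w ⟨hw, hwU⟩
        change w ∈ ((E ⊔ zpowers x₁ : Subgroup G) : Set G) at hw
        rw [Subgroup.coe_mul_of_right_le_normalizer_left _ _ hnz] at hw
        obtain ⟨e, he, _, ⟨i, rfl⟩, rfl⟩ := Set.mem_mul.mp hw
        by_cases hpi : (p : ℤ) ∣ i
        · obtain ⟨k, rfl⟩ := hpi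
          have hxi : x₁ ^ ((p : ℤ) * k) ∈ E := by
            rw [zpow_mul, zpow_natCast]; exact E.zpow_mem (hZE hxu) k
          exact hEU ⟨E.mul_mem he hxi, hwU⟩
        · exfalso
          apply hx₁n
          have hi : x₁ ^ i ∈ E ⊔ U := by
            have := (E ⊔ U).mul_mem (Subgroup.mem_sup_left (E.inv_mem he)) (Subgroup.mem_sup_right hwU)
            rwa [show e⁻¹ * (e * x₁ ^ i) = x₁ ^ i from inv_mul_cancel_left _ _] at this
          have hpx : x₁ ^ (p : ℤ) ∈ E ⊔ U := by
            rw [zpow_natCast]; exact Subgroup.mem_sup_left (hZE hxu)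
          obtain ⟨a, b, hab⟩ := Int.isCoprime_iff_gcd_eq_one.mpr (show Int.gcd (p : ℤ) i = 1 from
            (Nat.Prime.coprime_iff_not_dvd hp).mpr fun h => hpi (Int.natCast_dvd.mpr h))
          rw [← zpow_one x₁, ← hab, zpow_add, mul_comm a, mul_comm b, zpow_mul, zpow_mul]
          exact (E ⊔ U).mul_mem ((E ⊔ U).zpow_mem hpx a) ((E ⊔ U).zpow_mem hi b)
      exact hx₁n (Subgroup.mem_sup_left (hK (Subgroup.mem_sup_right (mem_zpowers x₁))))
    have hEp : ∀ e ∈ E, e ^ p ∈ Z := fun e he => hEU ⟨E.pow_mem he p, hpU e (hEH he)⟩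
    refine ⟨E, hEH, Or.inr ⟨?_, ?_⟩, hHE, hEp⟩
    · have hcenE : ∀ e ∈ E, (∀ e' ∈ E, e' * e = e * e') → e ∈ Z := by
        intro e he hce
        refine hEU ⟨he, Subgroup.mem_centralizer_iff.mpr fun x hx => ?_⟩
        have hle : E ⊔ U ≤ centralizer {e} := sup_le
          (fun e' he' => Subgroup.mem_centralizer_singleton_iff.mpr (hce e' he'))
          (fun v hv => Subgroup.mem_centralizer_singleton_iff.mpr (hUH v hv e (hEH he)).eq)
        exact Subgroup.mem_centralizer_singleton_iff.mp (hle (hHE hx))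
      refine extraspecial_of (hG.to_subgroup E) (Z.subgroupOf E) ?_ ?_ ?_ (fun e => hEp e e.2) ?_ ?_
      · rw [Nat.card_congr (Subgroup.subgroupOfEquivOfLe hZE).toEquiv, hZcard]
      · intro e he
        exact hcenE e e.2 fun e' he' => congrArg Subtype.val (Subgroup.mem_center_iff.mp he ⟨e', he'⟩)
      · exact fun a b => hHZ a (hEH a.2) b (hEH b.2)
      · intro e he
        exact Subgroup.mem_center_iff.mpr fun e' => Subtype.ext (Subgroup.mem_center_iff.mp (hZc he) e')
      · intro hab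
        apply hHU
        refine hHE.trans (sup_le (fun e he => ?_) le_rfl)
        exact hZU (hcenE e he fun e' he' => PGroups.comm_of_isMulCommutative hab he' he)
    · rw [Subgroup.commutator_le]
      intro g _ e he
      have h1 : ⁅g, e⁆ ∈ Z := key g e (hEH he) (by
        rw [Subgroup.mem_center_iff.mp (hZc (hEp e he)) g, mul_inv_cancel_right])
      exact ⟨hZE h1, Subgroup.mem_centralizer_iff.mpr fun x _ => Subgroup.mem_center_iff.mp (hZc h1) x⟩
  set R := centralizer (E : Set G) with hR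
  have hER : ∀ e ∈ E, ∀ r ∈ R, e * r = r * e := fun e he r hr => Subgroup.mem_centralizer_iff.mp hr e he
  have hsup : E ⊔ R = ⊤ := by
    rcases hEcase with rfl | ⟨hEx, hEc⟩
    · refine eq_top_iff.mpr fun g _ => Subgroup.mem_sup_right (Subgroup.mem_centralizer_iff.mpr ?_)
      intro x hx
      rw [Subgroup.mem_bot.mp hx, one_mul, mul_one]
    · exact PGroups.sup_centralizer_eq_top E hEx hEc
  have hEcase' : E = ⊥ ∨ Cfsg.IsExtraspecial p E := hEcase.imp id And.left
  have hUR : U ≤ R := fun u hu => Subgroup.mem_centralizer_iff.mpr fun e he => (hUH u hu e (hEH he)).eq.symm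
  have hRC : ∀ r ∈ R, (∀ v ∈ U, v * r = r * v) → r ∈ U := by
    intro r hr hv
    refine Subgroup.mem_centralizer_iff.mpr fun x hx => ?_
    have hle : E ⊔ U ≤ centralizer {r} := sup_le
      (fun e he => Subgroup.mem_centralizer_singleton_iff.mpr (hER e he r hr))
      (fun v hv' => Subgroup.mem_centralizer_singleton_iff.mpr (hv v hv'))
    exact Subgroup.mem_centralizer_singleton_iff.mp (hle (hEUH hx))
  by_cases hRab : IsMulCommutative R
  · have hRU : R = U := le_antisymm
      (fun r hr => hRC r hr fun v hv => PGroups.comm_of_isMulCommutative hRab (hUR hv) hr) hUR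
    exact ⟨E, R, hER, hsup, hEcase', Or.inl (hRU ▸ hUcyc)⟩
  set U' := U.subgroupOf R with hU'
  haveI : U'.Normal := Subgroup.Normal.subgroupOf inferInstance R
  haveI := hUcyc
  have hU'c : IsCyclic U' := isCyclic_of_surjective _ (Subgroup.subgroupOfEquivOfLe hUR).symm.surjective
  have hU'n : Nat.card U' = p ^ n := by rw [Nat.card_congr (Subgroup.subgroupOfEquivOfLe hUR).toEquiv, hUn]
  have hU'C : centralizer (U' : Set R) = U' := by
    ext r
    rw [Subgroup.mem_centralizer_iff]
    constructor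
    · exact fun h => hRC r r.2 fun v hv => congrArg Subtype.val (h ⟨v, hUR hv⟩ hv)
    · exact fun hr v hv => Subtype.ext (hUH _ hv _ (hCH hr)).eq
  -- `R` of order `p ^ 3`
  have small : Nat.card R = p ^ 3 → ∃ E R : Subgroup G, (∀ e ∈ E, ∀ r ∈ R, e * r = r * e) ∧ E ⊔ R = ⊤ ∧
      (E = ⊥ ∨ Cfsg.IsExtraspecial p ↥E) ∧ (IsCyclic R ∨ (p = 2 ∧ 16 ≤ Nat.card R ∧
      ((∃ m : ℕ, Nonempty (↥R ≃* DihedralGroup m)) ∨ (∃ m : ℕ, Nonempty (↥R ≃* QuaternionGroup m)) ∨
        Cfsg.IsQuasiDihedral ↥R))) := by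
    intro hR3
    have hn2 : n ≤ 2 := by
      have hle : p ^ n ≤ p ^ 3 := by
        rw [← hU'n, ← hR3]; exact Subgroup.card_le_card_group U'
      have h3 : n ≤ 3 := (Nat.pow_le_pow_iff_right hp.one_lt).mp hle
      by_contra h
      obtain rfl : n = 3 := by omega
      exact hRab (by
        rw [← Subgroup.eq_of_le_of_card_ge hUR (le_of_eq (hR3.trans hUn.symm))]
        exact PGroups.isMulCommutative_of_comm fun x hx y hy => (hUH x hx y (hCH hy)).eq)
    have hUpZ : ∀ u ∈ U, u ^ p ∈ Z := fun u hu => hUZ _ (U.pow_mem hu p) (by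
      rw [← pow_mul, ← sq]
      exact orderOf_dvd_iff_pow_eq_one.mp ((orderOf_dvd_iff_pow_eq_one.mpr (hUexp u hu)).trans (pow_dvd_pow p hn2)))
    have hZR : Z ≤ R := hZU.trans hUR
    haveI : (Z.subgroupOf R).Normal := Subgroup.Normal.subgroupOf inferInstance R
    have hq : Nat.card (R ⧸ Z.subgroupOf R) = p ^ 2 := by
      have h := Subgroup.card_mul_index (Z.subgroupOf R)
      rw [Nat.card_congr (Subgroup.subgroupOfEquivOfLe hZR).toEquiv, hZcard, Subgroup.index_eq_card, hR3,
        show p ^ 3 = p * p ^ 2 by ring] at h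
      exact Nat.eq_of_mul_eq_mul_left hp.pos h
    have hqab := IsPGroup.isMulCommutative_of_card_eq_prime_sq hq
    have hRZ : ∀ a ∈ R, ∀ b ∈ R, ⁅a, b⁆ ∈ Z := by
      intro a ha b hb
      have h : QuotientGroup.mk' (Z.subgroupOf R) ⁅(⟨a, ha⟩ : R), ⟨b, hb⟩⁆ = 1 := by
        rw [map_commutatorElement, commutatorElement_eq_one_iff_mul_comm]
        exact hqab.is_comm.comm _ _
      exact (QuotientGroup.eq_one_iff (N := Z.subgroupOf R) ⁅(⟨a, ha⟩ : R), (⟨b, hb⟩ : R)⁆).mp h
    have hRp : ∀ r ∈ R, r ^ p ∈ Z := by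
      intro r hr
      by_cases hrU : r ∈ U
      · exact hUpZ r hrU
      have hrpU : r ^ p ∈ U := by
        refine hRC _ (R.pow_mem hr p) fun v hv => ?_
        have h1 : ⁅r, v⁆ ∈ center G := hZc (hRZ r hr v (hUR hv))
        refine (commutatorElement_eq_one_iff_mul_comm.mp ?_).symm
        rw [PGroups.commutatorElement_pow_left_of_mem_center h1, ← hZcard]
        exact congrArg Subtype.val (pow_card_eq_one' (x := (⟨_, hRZ r hr v (hUR hv)⟩ : Z)))
      by_contra hnZ
      apply hrU
      refine hRC r hr fun v hv => ?_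
      have hgen : zpowers (r ^ p) = U := by
        refine Subgroup.eq_of_le_of_card_ge (zpowers_le.mpr hrpU) ?_
        rw [hUn, Nat.card_zpowers]
        obtain ⟨k, hk⟩ := IsPGroup.iff_orderOf.mp hG (r ^ p)
        rw [hk]
        refine Nat.pow_le_pow_right hp.pos ?_
        by_contra hkn
        refine hnZ (hUZ _ hrpU ?_)
        rw [← orderOf_dvd_iff_pow_eq_one, hk]
        exact (pow_dvd_pow p (show k ≤ 1 by omega)).trans (pow_one p).dvd
      rw [← hgen] at hv
      obtain ⟨i, rfl⟩ := hv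
      exact (((Commute.refl r).pow_right p).zpow_right i).eq.symm
    have hdec : ∀ g : G, ∃ e ∈ E, ∃ r ∈ R, g = e * r := by
      intro g
      have hg : g ∈ ((E ⊔ R : Subgroup G) : Set G) := hsup ▸ Subgroup.mem_top g
      rw [Subgroup.coe_mul_of_right_le_normalizer_left _ _ (fun r hr => by
        rw [Subgroup.mem_normalizer_iff]
        intro e
        constructor
        · intro he
          rwa [show r * e * r⁻¹ = e by rw [← hER e he r hr, mul_inv_cancel_right]]
        · intro he
          rwa [show e = r * e * r⁻¹ from by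
            have := hER _ he r hr
            calc e = r⁻¹ * ((r * e * r⁻¹) * r) := by group
              _ = r * e * r⁻¹ := by rw [this, inv_mul_cancel_left]])] at hg
      obtain ⟨e, he, r, hr, h⟩ := Set.mem_mul.mp hg
      exact ⟨e, he, r, hr, h.symm⟩
    have hGx : Cfsg.IsExtraspecial p G := by
      refine extraspecial_of hG Z hZcard ?_ ?_ ?_ hZc (fun h => hRab
        (PGroups.isMulCommutative_of_comm fun x _ y _ => h.is_comm.comm x y))
      · intro g hg
        have hgU : g ∈ U := Subgroup.mem_centralizer_iff.mpr fun x _ => Subgroup.mem_center_iff.mp hg x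
        by_contra hgZ
        apply hRab
        have hgen : zpowers g = U := by
          refine Subgroup.eq_of_le_of_card_ge (zpowers_le.mpr hgU) ?_
          rw [hUn, Nat.card_zpowers]
          obtain ⟨k, hk⟩ := IsPGroup.iff_orderOf.mp hG g
          rw [hk]
          refine Nat.pow_le_pow_right hp.pos ?_
          by_contra hkn
          refine hgZ (hUZ _ hgU ?_)
          rw [← orderOf_dvd_iff_pow_eq_one, hk]
          exact (pow_dvd_pow p (show k ≤ 1 by omega)).trans (pow_one p).dvd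
        have hRU : R ≤ U := fun r hr => hRC r hr fun v hv => by
          rw [← hgen] at hv
          exact (Subgroup.mem_center_iff.mp (zpowers_le.mpr hg hv) r).symm
        exact PGroups.isMulCommutative_of_comm fun x hx y hy => (hUH x (hRU hx) y (hCH (hRU hy))).eq
      · intro a b
        obtain ⟨e, he, r, hr, rfl⟩ := hdec a
        obtain ⟨e', he', r', hr', rfl⟩ := hdec b
        have h1 : ⁅r, e'⁆ = 1 := commutatorElement_eq_one_iff_mul_comm.mpr (hER e' he' r hr).symm
        have h2 : ⁅e, r'⁆ = 1 := commutatorElement_eq_one_iff_mul_comm.mpr (hER e he r' hr')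
        have h3 := hRZ r hr r' hr'
        have h4 := hHZ e (hEH he) e' (hEH he')
        have h5 : ⁅r, e' * r'⁆ = ⁅r, r'⁆ := by
          rw [PGroups.commutatorElement_mul_right_of_mem_center (hZc h3), h1, one_mul]
        have h6 : ⁅e, e' * r'⁆ = ⁅e, e'⁆ := by
          rw [PGroups.commutatorElement_mul_right_of_mem_center (h2 ▸ (center G).one_mem), h2, mul_one]
        rw [PGroups.commutatorElement_mul_left_of_mem_center (h5 ▸ hZc h3), h5, h6]
        exact Z.mul_mem h4 h3
      · intro a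
        obtain ⟨e, he, r, hr, rfl⟩ := hdec a
        rw [(show Commute e r from hER e he r hr).mul_pow]
        exact Z.mul_mem (hEpow e he) (hRp r hr)
    exact ⟨⊤, ⊥, fun e _ r hr => by rw [Subgroup.mem_bot.mp hr, mul_one, one_mul], sup_bot_eq _,
      Or.inr (H92.isExtraspecial_of_mulEquiv Subgroup.topEquiv.symm hGx), Or.inl inferInstance⟩
  rcases S3761.result (hG.to_subgroup R) hRab U' hU'c n hU'n hU'C with ⟨hp2, hcard, htype⟩ | ⟨hidx, ⟨hΩc, hΩe⟩, hΩcard, -⟩
  · subst hp2
    rcases Nat.lt_or_ge n 3 with hn3 | hn3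
    · rcases Nat.lt_or_ge n 2 with hn2 | hn2
      · obtain rfl : n = 1 := by omega
        exact absurd (IsPGroup.isMulCommutative_of_card_eq_prime_sq hcard) hRab
      · obtain rfl : n = 2 := by omega
        exact small hcard
    · exact ⟨E, R, hER, hsup, hEcase', Or.inr ⟨rfl,
        (show 16 = 2 ^ 4 from rfl).le.trans (hcard ▸ Nat.pow_le_pow_right two_pos (by omega)), htype⟩⟩
  set M := centralizer (Cfsg.powerClosure p 1 U' : Set R) with hM
  have hMmem : ∀ r : R, r ∈ M ↔ ∀ v ∈ U, (v ^ p) * (r : G) = r * v ^ p := by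
    intro r
    rw [hM, Cfsg.powerClosure, Subgroup.centralizer_closure, Subgroup.mem_centralizer_iff]
    constructor
    · intro h v hv
      exact congrArg Subtype.val (h (⟨v, hUR hv⟩ ^ p) ⟨⟨v, hUR hv⟩, hv, by rw [pow_one]⟩)
    · rintro h _ ⟨w, hw, rfl⟩
      rw [pow_one]
      exact Subtype.ext (h w hw)
  rcases Nat.lt_or_ge n 3 with hn3 | hn3
  · -- the centraliser is everything
    have hMtop : M = ⊤ := eq_top_iff.mpr fun r _ => (hMmem r).mpr fun v hv => by
      refine (Subgroup.mem_center_iff.mp (hZc (hUZ _ (U.pow_mem hv p) ?_)) _).symm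
      rw [← pow_mul, ← sq]
      exact orderOf_dvd_iff_pow_eq_one.mp ((orderOf_dvd_iff_pow_eq_one.mpr (hUexp v hv)).trans
        (pow_dvd_pow p (show n ≤ 2 by omega)))
    rw [hMtop, Subgroup.relIndex_top_right] at hidx
    have hcard : Nat.card R = p ^ (n + 1) := by rw [← U'.card_mul_index, hidx, hU'n, pow_succ]
    rcases Nat.lt_or_ge n 2 with hn2 | hn2
    · obtain rfl : n = 1 := by omega
      exact absurd (IsPGroup.isMulCommutative_of_card_eq_prime_sq hcard) hRab
    · obtain rfl : n = 2 := by omega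
      exact small hcard
  exfalso
  set Ω := Cfsg.omegaOne p M with hΩ
  have hΩM : Ω ≤ M := (Subgroup.closure_le M).mpr fun x hx => hx.1
  set S := {x : G | (∃ u ∈ U, x ^ p = u ^ (p ^ 2)) ∧ ∀ v ∈ U, v ^ p * x = x * v ^ p} with hS
  have hNchar : (Subgroup.closure S).Characteristic := by
    rw [Subgroup.characteristic_iff_le_comap]
    intro α
    rw [Subgroup.closure_le]
    rintro x ⟨⟨u, hu, hux⟩, hx⟩
    refine Subgroup.subset_closure ⟨⟨α u, (PGroups.apply_mem_iff_of_characteristic hUchar α).mpr hu, ?_⟩, ?_⟩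
    · show α x ^ p = α u ^ (p ^ 2)
      rw [← map_pow, hux, map_pow]
    · intro v hv
      have := congrArg α (hx (α.symm v) ((PGroups.apply_mem_iff_of_characteristic hUchar α.symm).mpr hv))
      simpa using this
  have hdec : ∀ g : G, ∃ e ∈ E, ∃ r ∈ R, g = e * r := by
    intro g
    have hg : g ∈ ((E ⊔ R : Subgroup G) : Set G) := hsup ▸ Subgroup.mem_top g
    rw [Subgroup.coe_mul_of_left_le_normalizer_right _ _ (fun e he => by
      rw [Subgroup.mem_normalizer_iff]
      intro r
      have hfix : ∀ r' ∈ R, e * r' * e⁻¹ = r' := fun r' hr' => by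
        rw [hER e he r' hr', mul_inv_cancel_right]
      constructor
      · intro hr; rwa [hfix r hr]
      · intro hr
        have := hfix _ hr
        rwa [show r = e * r * e⁻¹ from ((MulAut.conj e).injective this).symm])] at hg
    obtain ⟨e, he, r, hr, h⟩ := Set.mem_mul.mp hg
    exact ⟨e, he, r, hr, h.symm⟩
  have hΩA : Ω.map R.subtype ≤ Subgroup.closure S ⊓ centralizer (Subgroup.closure S : Set G) := by
    rintro _ ⟨a, ha, rfl⟩
    refine ⟨Subgroup.subset_closure ⟨⟨1, U.one_mem, ?_⟩, (hMmem a).mp (hΩM ha)⟩, ?_⟩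
    · rw [one_pow, ← map_pow, hΩe a ha, map_one]
    show R.subtype a ∈ centralizer (Subgroup.closure S : Set G)
    rw [Subgroup.centralizer_closure, Subgroup.mem_centralizer_iff]
    rintro x ⟨⟨u, hu, hux⟩, hx⟩
    obtain ⟨e, he, r, hr, rfl⟩ := hdec x
    have her : Commute e r := hER e he r hr
    obtain ⟨v, hv, hve⟩ : ∃ v ∈ U, e ^ p = v ^ (p ^ 2) := by
      obtain ⟨k, hk⟩ := Subgroup.mem_zpowers_iff.mp (hEpow e he)
      refine ⟨(c ^ p ^ (n - 3)) ^ k, U.zpow_mem (U.pow_mem hcU _) k, ?_⟩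
      rw [← hk, ← zpow_natCast ((c ^ p ^ (n - 3)) ^ k), ← zpow_mul, mul_comm, zpow_mul, zpow_natCast,
        ← pow_mul, ← pow_add, show n - 3 + 2 = n - 1 by omega]
    set w := (v⁻¹ * u) ^ p with hw
    have hwU' : v⁻¹ * u ∈ U := U.mul_mem (U.inv_mem hv) hu
    have hrw : ∀ t ∈ U, t ^ p * r = r * t ^ p := fun t ht => by
      have h1 : Commute (t ^ p) e := (hUH t ht e (hEH he)).pow_left p
      have h2 : Commute (t ^ p) (e * r) := hx t ht
      have h3 := (h1.inv_right.mul_right h2)
      rw [inv_mul_cancel_left] at h3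
      exact h3.eq
    have hwr : Commute w r := hrw _ hwU'
    have hrp : r ^ p = w ^ p := by
      have h1 : e ^ p * r ^ p = u ^ (p ^ 2) := by rw [← her.mul_pow]; exact hux
      have h2 : Commute v⁻¹ u := (hUH _ (U.inv_mem hv) u (hCH hu))
      rw [hw, ← pow_mul, ← sq, h2.mul_pow, inv_pow, ← hve, ← h1, inv_mul_cancel_left]
    have hwR : w ∈ R := R.pow_mem (hUR hwU') p
    set r₀ : R := ⟨r * w⁻¹, R.mul_mem hr (R.inv_mem hwR)⟩ with hr₀
    have hr₀M : r₀ ∈ M := (hMmem r₀).mpr fun t ht => by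
      have h1 : Commute (t ^ p) r := hrw t ht
      have h2 : Commute (t ^ p) w := (hUH _ (U.pow_mem ht p) w (hCH (U.pow_mem hwU' p)))
      exact (h1.mul_right h2.inv_right).eq
    have hr₀1 : r₀ ^ p = 1 := Subtype.ext (by
      show (r * w⁻¹) ^ p = 1
      rw [hwr.symm.inv_right.mul_pow, hrp, inv_pow, mul_inv_cancel])
    have hc1 : Commute (a : G) (r * w⁻¹) :=
      congrArg Subtype.val (PGroups.comm_of_isMulCommutative hΩc ha (Subgroup.subset_closure ⟨hr₀M, hr₀1⟩))
    have hc2 : Commute (a : G) w := ((hMmem a).mp (hΩM ha) _ hwU').symm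
    have hc3 : Commute (a : G) r := by
      have := hc1.mul_right hc2
      rwa [inv_mul_cancel_right] at this
    have hc4 : Commute (a : G) e := (hER e he a a.2).symm
    exact ((hc4.mul_right hc3).eq).symm
  have hAc := hsymp _ (PGroups.characteristic_inf_centralizer hNchar)
    (PGroups.isMulCommutative_inf_centralizer (Subgroup.closure S))
  haveI := hAc
  have hΩcyc : IsCyclic (Ω.map R.subtype) :=
    isCyclic_of_surjective _ (Subgroup.subgroupOfEquivOfLe hΩA).surjective
  obtain ⟨g, hg⟩ := (Ω.map R.subtype).isCyclic_iff_exists_zpowers_eq_top.mp hΩcyc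
  have hgmem : g ∈ Ω.map R.subtype := hg ▸ mem_zpowers g
  obtain ⟨a, ha, rfl⟩ := hgmem
  have h1 : orderOf (R.subtype a) ∣ p := orderOf_dvd_of_pow_eq_one (by rw [← map_pow, hΩe a ha, map_one])
  rw [← Nat.card_zpowers, hg, Subgroup.card_map_of_injective R.subtype_injective, hΩcard] at h1
  have := Nat.le_of_dvd hp.pos h1
  nlinarith [hp.two_le]

end Cfsg.Agent.S3762
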