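import Cfsg.Statements.S3763
import Cfsg.Agent.H71.FormIso

set_option autoImplicit false
set_option linter.style.haveILetI false
set_option linter.unusedVariables false
open Cfsg

namespace Cfsg.Agent.S3763

open QuadraticMap Cfsg.Agent.Orthogonal Cfsg.Agent.H92.ExtraForm

private theorem plus_rank {E : Type*} [Group E] [Finite E] {n : ℕ}
    (F : FormMap E (Fin n ⊕ Fin n → ZMod 2) (formPlus (ZMod 2) n)) :
    Cfsg.PRankLE 2 (n + 1) E ∧ ¬ Cfsg.PRankLE 2 n E := by
  refine ⟨fun A hA1 hA2 => ?_, fun h => ?_⟩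
  · obtain ⟨w, hw, hw2⟩ := H71.FormIso.exists_le_of_elementary F (formPlus_nondeg _ _) (A := A) ⟨hA1, hA2⟩
    rw [Nat.card_fun, Nat.card_zmod, Nat.card_sum, Nat.card_fin, show n + n = n * 2 by ring, pow_mul] at hw2
    have := (Nat.pow_le_pow_iff_left (by norm_num)).1 hw2
    rw [pow_succ']
    omega
  · obtain ⟨A, hA, hAc⟩ := exists_elementary F
    have := h A hA.1 hA.2
    rw [hAc, pow_succ'] at this
    have := Nat.one_le_two_pow (n := n)
    omega

private theorem minus_rank {E : Type*} [Group E] [Finite E] {m : ℕ}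
    (F : FormMap E ((Fin m ⊕ Fin m) ⊕ Fin 2 → ZMod 2) (formMinus (ZMod 2) m 1 1)) :
    Cfsg.PRankLE 2 (m + 1) E ∧ ¬ Cfsg.PRankLE 2 m E := by
  classical
  refine ⟨fun A hA1 hA2 => ?_, fun h => ?_⟩
  · haveI := hA1
    haveI : Fact (Nat.Prime 2) := ⟨Nat.prime_two⟩
    obtain ⟨k, hk⟩ := IsPGroup.iff_card.1 (show IsPGroup 2 A from fun a => ⟨1, Subtype.ext (hA2 a a.2)⟩)
    by_contra hlt
    rw [hk, not_le, Nat.pow_lt_pow_iff_right (by norm_num)] at hlt
    obtain ⟨B, hB⟩ := Sylow.exists_subgroup_card_pow_prime (G := A) 2 (n := m + 1 + 1) (hk ▸ pow_dvd_pow 2 hlt)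
    refine not_exists_elementary F ⟨B.map A.subtype, ⟨?_, ?_⟩, ?_⟩
    · exact ⟨⟨by
        rintro ⟨_, a, -, rfl⟩ ⟨_, b, -, rfl⟩
        have hab : ((a * b : A) : E) = ((b * a : A) : E) := congrArg Subtype.val (hA1.is_comm.comm a b)
        exact Subtype.ext hab⟩⟩
    · rintro _ ⟨a, -, rfl⟩; exact hA2 a a.2
    · rw [Subgroup.card_map_of_injective A.subtype_injective, hB]
  · let f : (Fin m → ZMod 2) →+ ((Fin m ⊕ Fin m) ⊕ Fin 2 → ZMod 2) :=
      AddMonoidHom.mk' (fun v => Sum.elim (Sum.elim v 0) 0) fun v w => by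
        funext i; rcases i with (i | i) | i <;> simp
    have hf : Function.Injective f := fun v w h => funext fun i => congrFun h (.inl (.inl i))
    obtain ⟨A, hA, hAc⟩ := H71.FormIso.exists_elementary_of F f.range (by
      rintro u ⟨v, rfl⟩
      rw [formMinus_coe]
      simp [Cfsg.quadFormMinus, f])
    have := h A hA.1 hA.2
    rw [hAc, show Nat.card f.range = Nat.card (Set.range f) from rfl, ← Nat.card_congr (Equiv.ofInjective f hf), Nat.card_fun, Nat.card_zmod,
      Nat.card_fin] at this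
    have := Nat.one_le_two_pow (n := m)
    omega


/-- Let E be an extraspecial 2-group of order 2^(2n+1). Then the largest elementary abelian subgroups of E have order 2^n or 2^(n+1); and two extraspecial 2-groups of the same order whose largest elementary abelian subgroups have the same order are isomorphic. -/
theorem result {E : Type*} [Group E] [Finite E] (hE : Cfsg.IsExtraspecial 2 E) (n : ℕ) (hn : Nat.card E = 2 ^ (2 * n + 1)) : ((Cfsg.PRankLE 2 n E ∧ ¬ Cfsg.PRankLE 2 (n - 1) E) ∨ (Cfsg.PRankLE 2 (n + 1) E ∧ ¬ Cfsg.PRankLE 2 n E)) ∧ ∀ (E' : Type*) [Group E'] [Finite E'], Cfsg.IsExtraspecial 2 E' → Nat.card E' = Nat.card E → (∀ k : ℕ, Cfsg.PRankLE 2 k E ↔ Cfsg.PRankLE 2 k E') → Nonempty (E ≃* E') := by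
  classical
  rcases Nat.eq_zero_or_pos n with rfl | hn0
  · have h2 : Nat.card E = 2 := by simpa using hn
    refine ⟨Or.inr ⟨fun A _ _ => ?_, fun h => ?_⟩, fun E' _ _ _ hc _ => ?_⟩
    · exact (Subgroup.card_le_card_group A).trans (by rw [h2]; norm_num)
    · have := h ⊤ ⟨⟨fun a b => ?_⟩⟩ (fun a _ => by rw [← h2]; exact pow_card_eq_one')
      · rw [Subgroup.card_top, h2] at this; norm_num at this
      · haveI : Fact (Nat.Prime 2) := ⟨Nat.prime_two⟩
        haveI := isCyclic_of_prime_card h2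
        exact Subtype.ext (IsCyclic.isMulCommutative.is_comm.comm (a : E) b)
    · haveI : Fact (Nat.Prime 2) := ⟨Nat.prime_two⟩
      exact ⟨mulEquivOfPrimeCardEq h2 (hc.trans h2)⟩
  obtain ⟨m, rfl⟩ : ∃ m, n = m + 1 := ⟨n - 1, by omega⟩
  refine ⟨?_, fun E' _ _ hE' hc hr => ?_⟩
  · rcases exists_formMap hE (m + 1) hn0 hn with F | F <;> obtain ⟨F⟩ := F
    · exact Or.inr (plus_rank F)
    · exact Or.inl (minus_rank (m := m + 1 - 1) F)
  · rcases exists_formMap hE (m + 1) hn0 hn with F | F <;>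
      rcases exists_formMap hE' (m + 1) hn0 (hc.trans hn) with F' | F' <;>
      obtain ⟨F⟩ := F <;> obtain ⟨F'⟩ := F'
    · exact H71.FormIso.nonempty_mulEquiv F F'
    · exact absurd ((hr (m + 1)).2 (minus_rank (m := m + 1 - 1) F').1) (plus_rank F).2
    · exact absurd ((hr (m + 1)).1 (minus_rank (m := m + 1 - 1) F).1) (plus_rank F').2
    · exact H71.FormIso.nonempty_mulEquiv F F'

end Cfsg.Agent.S3763
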