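import Cfsg.Statements.S3766
import Cfsg.Agent.Cores.Fitting
import Cfsg.Agent.Coprime.SchurZassenhaus

set_option autoImplicit false
set_option linter.style.haveILetI false
set_option linter.unusedVariables false
set_option linter.unusedSectionVars false
open Cfsg

namespace Cfsg.Agent.S3766

open Subgroup
open scoped commutatorElement

variable {G : Type*} [Group G]

private theorem three_subgroup {A B C N : Subgroup G} [N.Normal] (h1 : ⁅⁅B, C⁆, A⁆ ≤ N) (h2 : ⁅⁅C, A⁆, B⁆ ≤ N) :
    ⁅⁅A, B⁆, C⁆ ≤ N := by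
  have key : ∀ X Y Z : Subgroup G, ⁅⁅X, Y⁆, Z⁆ ≤ N ↔
      ⁅⁅X.map (QuotientGroup.mk' N), Y.map (QuotientGroup.mk' N)⁆, Z.map (QuotientGroup.mk' N)⁆ = ⊥ := by
    intro X Y Z
    rw [← map_commutator, ← map_commutator, Subgroup.map_eq_bot_iff, QuotientGroup.ker_mk']
  exact (key _ _ _).2 (commutator_commutator_eq_bot_of_rotate ((key _ _ _).1 h1) ((key _ _ _).1 h2))

/-- A nilpotent normal subgroup centralizes every minimal normal subgroup. -/
private theorem centralizes_minimal {F M : Subgroup G} [F.Normal] [hF : Group.IsNilpotent F] [M.Normal]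
    (hmin : ∀ W : Subgroup G, W.Normal → W ≤ M → W = ⊥ ∨ W = M) : ⁅M, F⁆ = ⊥ := by
  rcases hmin (M ⊓ F) inferInstance inf_le_left with h | h
  · exact le_bot_iff.1 (h ▸ commutator_le_inf M F)
  · have hMF : M ≤ F := inf_eq_left.1 h
    rcases eq_or_ne M ⊥ with rfl | hM
    · exact commutator_bot_left F
    obtain ⟨n, hn⟩ := (Subgroup.isNilpotent_iff_lowerCentralSeries F).1 hF
    obtain ⟨k, hk, hk'⟩ : ∃ k, M ⊓ F.lowerCentralSeries k ≠ ⊥ ∧ M ⊓ F.lowerCentralSeries (k + 1) = ⊥ := by
      by_contra hcon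
      simp only [not_exists, not_and] at hcon
      have h0 : ∀ k, M ⊓ F.lowerCentralSeries k ≠ ⊥ := by
        intro k
        induction k with
        | zero => simpa [inf_eq_left.2 hMF] using hM
        | succ k ih => exact hcon k ih
      exact h0 n (by rw [hn, inf_bot_eq])
    haveI : (F.lowerCentralSeries k).Normal := inferInstance
    have he := (hmin (M ⊓ F.lowerCentralSeries k) inferInstance inf_le_left).resolve_left hk
    refine le_bot_iff.1 (hk' ▸ le_inf (commutator_le_left M F) ?_)
    rw [Subgroup.lowerCentralSeries_succ]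
    exact commutator_mono (inf_eq_left.1 he) le_rfl

private theorem forward [Finite G] {g : G} (hg : g ∈ Cfsg.fittingSubgroup G) {U V : Subgroup G}
    (h : U.Normal ∧ V.Normal ∧ V < U ∧ ∀ W : Subgroup G, W.Normal → V ≤ W → W ≤ U → W = V ∨ W = U) :
    ∀ u ∈ U, u * g * u⁻¹ * g⁻¹ ∈ V := by
  obtain ⟨hU, hV, hlt, hmin⟩ := h
  intro u hu
  let f := QuotientGroup.mk' V
  have hf : Function.Surjective f := QuotientGroup.mk'_surjective V
  haveI : (U.map f).Normal := hU.map f hf
  haveI : Group.IsNilpotent (Cfsg.fittingSubgroup (G ⧸ V)) := Cores.fittingSubgroup_isNilpotent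
  have hbot : ⁅U.map f, Cfsg.fittingSubgroup (G ⧸ V)⁆ = ⊥ := by
    refine centralizes_minimal fun W hW hWle => ?_
    haveI := hW
    have hVW : V ≤ W.comap f := fun x hx => by
      rw [Subgroup.mem_comap, show f x = 1 from (QuotientGroup.eq_one_iff x).2 hx]; exact one_mem _
    rcases hmin (W.comap f) inferInstance hVW
      ((Subgroup.comap_mono hWle).trans (by
        rw [Subgroup.comap_map_eq, QuotientGroup.ker_mk', sup_le_iff]
        exact ⟨le_rfl, le_of_lt hlt⟩)) with h | h
    · left
      rw [← map_comap_eq_self_of_surjective hf W, h, Subgroup.map_eq_bot_iff, QuotientGroup.ker_mk']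
    · exact Or.inr (by rw [← h, map_comap_eq_self_of_surjective hf])
  refine (QuotientGroup.eq_one_iff _).1 (Subgroup.mem_bot.1 (hbot ▸ ?_))
  show f (u * g * u⁻¹ * g⁻¹) ∈ _
  rw [← commutatorElement_def, map_commutatorElement]
  exact commutator_mem_commutator (mem_map_of_mem f hu) (Cores.fittingSubgroup_map_le hf (mem_map_of_mem f hg))


/-- Let G be a finite solvable group and N a normal subgroup of G. Call a pair V < U of normal subgroups of G a chief factor of G when no normal subgroup of G lies strictly between them; an element g centralizes the chief factor U/V when u g u⁻¹ g⁻¹ ∈ V for all u ∈ U. Then an element of G lies in the Fitting subgroup F(N) if and only if it lies in N and centralizes every chief factor of G; and also if and only if it lies in N and centralizes every chief factor U/V of G with U ≤ F(N). -/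
theorem result {G : Type*} [Group G] [Finite G] (hG : Group.IsSolvable G) (N : Subgroup G) [N.Normal] (g : G) : (g ∈ (Cfsg.fittingSubgroup ↥N).map N.subtype ↔ g ∈ N ∧ ∀ U V : Subgroup G, (U.Normal ∧ V.Normal ∧ V < U ∧ ∀ W : Subgroup G, W.Normal → V ≤ W → W ≤ U → W = V ∨ W = U) → ∀ u ∈ U, u * g * u⁻¹ * g⁻¹ ∈ V) ∧ (g ∈ (Cfsg.fittingSubgroup ↥N).map N.subtype ↔ g ∈ N ∧ ∀ U V : Subgroup G, (U.Normal ∧ V.Normal ∧ V < U ∧ ∀ W : Subgroup G, W.Normal → V ≤ W → W ≤ U → W = V ∨ W = U) → U ≤ (Cfsg.fittingSubgroup ↥N).map N.subtype → ∀ u ∈ U, u * g * u⁻¹ * g⁻¹ ∈ V) := by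
  classical
  haveI := hG
  rw [Cores.map_fittingSubgroup_of_normal N]
  set F := Cfsg.fittingSubgroup G ⊓ N with hF
  haveI hFn : F.Normal := by rw [hF]; infer_instance
  have fwd : g ∈ F → g ∈ N ∧ ∀ U V : Subgroup G,
      (U.Normal ∧ V.Normal ∧ V < U ∧ ∀ W : Subgroup G, W.Normal → V ≤ W → W ≤ U → W = V ∨ W = U) →
        ∀ u ∈ U, u * g * u⁻¹ * g⁻¹ ∈ V := fun h => ⟨h.2, fun U V hUV => forward h.1 hUV⟩
  have bwd : g ∈ N → (∀ U V : Subgroup G,
      (U.Normal ∧ V.Normal ∧ V < U ∧ ∀ W : Subgroup G, W.Normal → V ≤ W → W ≤ U → W = V ∨ W = U) →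
        U ≤ F → ∀ u ∈ U, u * g * u⁻¹ * g⁻¹ ∈ V) → g ∈ F := by
    intro hgN hg
    set S : Set G := {c | c ∈ N ∧ ∀ U V : Subgroup G,
      (U.Normal ∧ V.Normal ∧ V < U ∧ ∀ W : Subgroup G, W.Normal → V ≤ W → W ≤ U → W = V ∨ W = U) →
        U ≤ F → ∀ u ∈ U, u * c * u⁻¹ * c⁻¹ ∈ V} with hS
    set C := Subgroup.closure S with hC
    have hCN : C ≤ N := (Subgroup.closure_le N).2 fun c hc => hc.1
    haveI hCn : C.Normal := by
      refine Subgroup.normalizer_eq_top_iff.1 (top_le_iff.1 fun y _ => ?_)
      refine Coprime.mem_normalizer_of_map_conj ?_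
      rw [hC, MonoidHom.map_closure]
      congr 1
      have hstab : ∀ z : G, ∀ c ∈ S, z * c * z⁻¹ ∈ S := by
        rintro z c ⟨hcN, hc⟩
        refine ⟨(inferInstance : N.Normal).conj_mem c hcN z, fun U V h hUF u hu => ?_⟩
        have h1 := h.2.1.conj_mem _ (hc U V h hUF (z⁻¹ * u * z) (h.1.conj_mem' u hu z)) z
        simpa [mul_assoc] using h1
      ext x
      constructor
      · rintro ⟨c, hc, rfl⟩; exact hstab y c hc
      · intro hx; exact ⟨y⁻¹ * x * y, by simpa using hstab y⁻¹ x hx, by simp [mul_assoc]⟩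
    have hkill : ∀ U V : Subgroup G,
      (U.Normal ∧ V.Normal ∧ V < U ∧ ∀ W : Subgroup G, W.Normal → V ≤ W → W ≤ U → W = V ∨ W = U) →
        U ≤ F → ⁅U, C⁆ ≤ V := by
      intro U V h hUF
      haveI := h.2.1
      have h1 : C.map (QuotientGroup.mk' V) ≤ centralizer (U.map (QuotientGroup.mk' V) : Set (G ⧸ V)) := by
        rw [hC, MonoidHom.map_closure, Subgroup.closure_le]
        rintro _ ⟨c, hc, rfl⟩
        refine mem_centralizer_iff.2 ?_
        rintro _ ⟨u, hu, rfl⟩
        rw [← commutatorElement_eq_one_iff_mul_comm, ← map_commutatorElement]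
        exact (QuotientGroup.eq_one_iff _).2 (by rw [commutatorElement_def]; exact hc.2 U V h hUF u hu)
      rw [← commutator_eq_bot_iff_le_centralizer, ← map_commutator, Subgroup.map_eq_bot_iff,
        QuotientGroup.ker_mk', commutator_comm] at h1
      exact h1
    -- iterated commutators of `F` with `C` reach the identity
    obtain ⟨T, hT0, hTs⟩ : ∃ T : ℕ → Subgroup G, T 0 = F ∧ ∀ i, T (i + 1) = ⁅T i, C⁆ :=
      ⟨fun i => Nat.rec F (fun _ X => ⁅X, C⁆) i, rfl, fun i => rfl⟩
    have hTn : ∀ i, (T i).Normal := by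
      intro i
      induction i with
      | zero => rw [hT0]; exact hFn
      | succ i ih => rw [hTs i]; exact @Subgroup.commutator_normal _ _ _ _ ih hCn
    have hTF : ∀ i, T i ≤ F := by
      intro i
      induction i with
      | zero => exact hT0.le
      | succ i ih => haveI := hTn i; rw [hTs]; exact (commutator_le_left (T i) C).trans ih
    have hdrop : ∀ i, T i ≠ ⊥ → T (i + 1) < T i := by
      intro i hi
      haveI := hTn i
      obtain ⟨V, hV⟩ := (Set.toFinite {V : Subgroup G | V.Normal ∧ V < T i}).exists_maximal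
        ⟨⊥, inferInstance, bot_lt_iff_ne_bot.2 hi⟩
      rw [hTs i]
      refine lt_of_le_of_lt (hkill (T i) V ⟨hTn i, hV.1.1, hV.1.2, fun W hW hVW hWT => ?_⟩ (hTF i)) hV.1.2
      rcases hWT.lt_or_eq with hlt | heq
      · exact Or.inl (le_antisymm (hV.2 ⟨hW, hlt⟩ hVW) hVW)
      · exact Or.inr heq
    obtain ⟨n, hn⟩ : ∃ n, T n = ⊥ := by
      by_contra hcon
      simp only [not_exists] at hcon
      have hlt : ∀ i, Nat.card (T i) + i ≤ Nat.card (T 0) := by
        intro i
        induction i with
        | zero => simp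
        | succ i ih =>
          have : Nat.card (T (i + 1)) < Nat.card (T i) := by
            by_contra hge
            exact (hdrop i (hcon i)).ne (Subgroup.eq_of_le_of_card_ge (hdrop i (hcon i)).le (not_lt.1 hge))
          omega
      have h1 := hlt (Nat.card (T 0) + 1)
      omega
    have hmono : ∀ i j, i ≤ j → T j ≤ T i := by
      intro i j hij
      induction hij with
      | refl => exact le_rfl
      | @step j _ ih => haveI := hTn j; rw [hTs]; exact (commutator_le_left (T j) C).trans ih
    have h3 : ∀ j i, ⁅T i, C.lowerCentralSeries j⁆ ≤ T (i + j + 1) := by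
      intro j
      induction j with
      | zero => intro i; rw [Subgroup.lowerCentralSeries_zero, Nat.add_zero, hTs]
      | succ j ih =>
        intro i
        haveI := hTn (i + (j + 1) + 1)
        rw [Subgroup.lowerCentralSeries_succ, commutator_comm]
        refine three_subgroup (N := T (i + (j + 1) + 1)) ?_ ?_
        · rw [commutator_comm C (T i), ← hTs]
          exact (ih (i + 1)).trans (hmono _ _ (by omega))
        · refine (commutator_mono (ih i) le_rfl).trans ?_
          rw [← hTs]
          exact hmono _ _ (by omega)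
    have hcen : C.lowerCentralSeries n ≤ centralizer (F : Set G) := by
      rw [← commutator_eq_bot_iff_le_centralizer, commutator_comm, ← le_bot_iff, ← hn, ← hT0]
      exact (h3 n 0).trans (hmono n (0 + n + 1) (by omega))
    have hin : C.lowerCentralSeries n ≤ F := by
      intro x hx
      have hxN : x ∈ N := hCN (C.lowerCentralSeries_antitone (Nat.zero_le n) hx)
      refine ⟨?_, hxN⟩
      haveI : Group.IsSolvable N := inferInstance
      have h := Cores.centralizer_fittingSubgroup_le (G := N) (show (⟨x, hxN⟩ : N) ∈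
          centralizer (Cfsg.fittingSubgroup N : Set N) from mem_centralizer_iff.2 fun y hy => Subtype.ext
            (mem_centralizer_iff.1 (hcen hx) y ((Cores.map_fittingSubgroup_of_normal N) ▸ mem_map_of_mem N.subtype hy :
              (y : G) ∈ Cfsg.fittingSubgroup G ⊓ N)))
      exact Cores.map_fittingSubgroup_le_of_normal N ⟨_, h, rfl⟩
    have hnil : Group.IsNilpotent C := by
      rw [Subgroup.isNilpotent_iff_lowerCentralSeries]
      refine ⟨n + n, ?_⟩
      have h4 : ∀ i, C.lowerCentralSeries (n + i) ≤ T i := by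
        intro i
        induction i with
        | zero => rw [hT0]; exact hin
        | succ i ih => rw [← Nat.add_assoc, Subgroup.lowerCentralSeries_succ, hTs]; exact commutator_mono ih le_rfl
      exact le_bot_iff.1 (hn ▸ h4 n)
    exact ⟨Cores.le_fittingSubgroup hnil (Subgroup.subset_closure ⟨hgN, hg⟩), hgN⟩
  exact ⟨⟨fwd, fun h => bwd h.1 fun U V hUV _ => h.2 U V hUV⟩,
    ⟨fun h => ⟨h.2, fun U V hUV _ => forward h.1 hUV⟩, fun h => bwd h.1 h.2⟩⟩

end Cfsg.Agent.S3766
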