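import Cfsg.Statements.S3767
import Cfsg.Agent.PGroups.Extraspecial
import Cfsg.Agent.Coprime.Action
import Cfsg.Agent.Coprime.Abelian
import Cfsg.Agent.H86.SelfDualField

set_option autoImplicit false
set_option linter.style.haveILetI false
set_option linter.unusedVariables false
set_option linter.unusedSectionVars false
set_option maxHeartbeats 800000
open Cfsg

namespace Cfsg.Agent.S3767

open Subgroup
open scoped commutatorElement

/-- `|C(K)| |K|` is constant above the centre. -/
private theorem card_centralizer_mono {P : Type*} [Group P] [Finite P] {p : ℕ} [hp : Fact p.Prime]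
    (hP : IsPGroup p P) (hc : commutator P ≤ center P) (hZ : Nat.card (center P) = p) :
    ∀ K L : Subgroup P, K ≤ L → Nat.card ↥(centralizer (K : Set P)) * Nat.card K ≤
      Nat.card ↥(centralizer (L : Set P)) * Nat.card L := by
  intro K
  induction K using WellFoundedGT.induction with
  | _ K ih =>
    intro L hL
    rcases hL.lt_or_eq with hlt | rfl
    swap
    · exact le_rfl
    obtain ⟨x, hxL, hxK⟩ := SetLike.exists_of_lt hlt
    set K' := K ⊔ zpowers x with hK'
    refine le_trans ?_ (ih K' (left_lt_sup.mpr fun hle => hxK (hle (mem_zpowers x))) L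
      (sup_le hL (zpowers_le.mpr hxL)))
    set C := centralizer (K : Set P) with hC
    set C' := centralizer (K' : Set P) with hC'
    have hKlt : p * Nat.card K ≤ Nat.card K' := by
      have hKK : K < K' := left_lt_sup.mpr fun hle => hxK (hle (mem_zpowers x))
      obtain ⟨a, ha⟩ := IsPGroup.iff_card.1 (hP.to_subgroup K)
      obtain ⟨b, hb⟩ := IsPGroup.iff_card.1 (hP.to_subgroup K')
      rw [ha, hb, ← pow_succ']
      refine Nat.pow_le_pow_right hp.out.pos ?_
      by_contra hba
      exact hKK.ne (Subgroup.eq_of_le_of_card_ge hKK.le (by rw [ha, hb]; exact Nat.pow_le_pow_right hp.out.pos (by omega)))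
    have hC'C : Nat.card C ≤ p * Nat.card C' := by
      let f : C →* center P := MonoidHom.mk' (fun a => ⟨⁅(a : P), x⁆, PGroups.commutatorElement_mem_center hc _ x⟩)
        fun a b => Subtype.ext (PGroups.commutatorElement_mul_left_of_mem_center
          (PGroups.commutatorElement_mem_center hc _ x))
      have hker : Nat.card f.ker ≤ Nat.card C' := by
        refine Nat.card_le_card_of_injective (fun a => (⟨((a : C) : P), ?_⟩ : C')) fun a b h =>
          Subtype.ext (Subtype.ext (congrArg (fun z : C' => (z : P)) h))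
        have hax : Commute ((a : C) : P) x := commutatorElement_eq_one_iff_commute.1 (congrArg Subtype.val a.2)
        have hle : K' ≤ centralizer ({((a : C) : P)} : Set P) := by
          refine sup_le (fun k hk => mem_centralizer_singleton_iff.mpr ?_)
            (zpowers_le.mpr (mem_centralizer_singleton_iff.mpr hax.eq.symm))
          exact mem_centralizer_iff.mp (a : C).2 k hk
        exact mem_centralizer_iff.mpr fun k hk => mem_centralizer_singleton_iff.mp (hle hk)
      calc Nat.card C = Nat.card f.ker * f.ker.index := (Subgroup.card_mul_index _).symm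
        _ ≤ Nat.card C' * p := Nat.mul_le_mul hker (by
            rw [Subgroup.index_ker, ← hZ]
            exact Nat.le_of_dvd Nat.card_pos (Subgroup.card_subgroup_dvd_card _))
        _ = _ := mul_comm _ _
    calc Nat.card C * Nat.card K ≤ p * Nat.card C' * Nat.card K := Nat.mul_le_mul_right _ hC'C
      _ = Nat.card C' * (p * Nat.card K) := by ring
      _ ≤ _ := Nat.mul_le_mul_left _ hKlt

private theorem card_centralizer_eq {P : Type*} [Group P] [Finite P] {p : ℕ} [hp : Fact p.Prime]
    (hP : IsPGroup p P) (hc : commutator P ≤ center P) (hZ : Nat.card (center P) = p) (K : Subgroup P)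
    (hK : center P ≤ K) : Nat.card ↥(centralizer (K : Set P)) * Nat.card K = Nat.card P * p := by
  refine le_antisymm ?_ ?_
  · have := card_centralizer_mono hP hc hZ K ⊤ le_top
    rw [Subgroup.coe_top, centralizer_univ, card_top, hZ, mul_comm p] at this
    exact this
  · have := card_centralizer_mono hP hc hZ (center P) K hK
    rwa [centralizer_eq_top_iff_subset.mpr le_rfl, card_top, hZ] at this

/-- A group acting freely on a set has order dividing its size. -/
private theorem card_dvd_of_free {H X : Type*} [Group H] [Finite H] [Finite X] [MulAction H X]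
    (h : ∀ (g : H) (x : X), g • x = x → g = 1) : Nat.card H ∣ Nat.card X := by
  have hs : ∀ x : X, MulAction.stabilizer H x = ⊥ := fun x =>
    (Subgroup.eq_bot_iff_forall _).2 fun g hg => h g x hg
  have hr : ∀ x : X, Nat.card (MulAction.orbit H x) = Nat.card H := fun x => by
    rw [← MulAction.index_stabilizer H x |>.trans (Nat.card_coe_set_eq _).symm, hs, Subgroup.index_bot]
  classical
  have := Fintype.ofFinite (MulAction.orbitRel.Quotient H X)
  rw [Nat.card_congr (MulAction.selfEquivSigmaOrbits H X), Nat.card_sigma]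
  exact Finset.dvd_sum fun ω _ => (hr _).symm.dvd

/-- The key number theory. -/
private theorem arith {p h n k : ℕ} (hdvd : h ∣ p ^ k + 1) (h2n : h ∣ p ^ (2 * n) - 1) (hp : 0 < p) :
    h ∣ p ^ n + 1 ∨ h ∣ p ^ n - 1 := by
  have hk : (p : ZMod h) ^ k = -1 := by
    have := (ZMod.natCast_eq_zero_iff (p ^ k + 1) h).2 hdvd
    push_cast at this
    exact eq_neg_of_add_eq_zero_left this
  have hn : (p : ZMod h) ^ (2 * n) = 1 := by
    have := (ZMod.natCast_eq_zero_iff (p ^ (2 * n) - 1) h).2 h2n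
    rw [Nat.cast_sub (Nat.one_le_pow _ _ hp)] at this
    push_cast at this
    exact sub_eq_zero.1 this
  set x := (p : ZMod h)
  have hg : x ^ Nat.gcd (2 * k) (2 * n) = 1 := pow_gcd_eq_one.2 ⟨by rw [mul_comm, pow_mul, hk]; ring, hn⟩
  rw [Nat.gcd_mul_left] at hg
  obtain ⟨a, ha⟩ := Nat.gcd_dvd_left k n
  obtain ⟨b, hb⟩ := Nat.gcd_dvd_right k n
  set g := Nat.gcd k n
  have hx : x ^ n = 1 ∨ x ^ n = -1 := by
    rcases Nat.even_or_odd' a with ⟨c, rfl | rfl⟩
    · -- `-1 = 1`
      rw [ha, show g * (2 * c) = 2 * g * c by ring, pow_mul, hg, one_pow] at hk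
      left
      have h2 : (h : ℕ) ∣ 2 := by
        refine (ZMod.natCast_eq_zero_iff 2 h).1 ?_
        rw [show ((2 : ℕ) : ZMod h) = 1 + 1 by norm_num]
        nth_rewrite 2 [hk]
        ring
      rcases (Nat.dvd_prime Nat.prime_two).1 h2 with rfl | rfl
      · exact Subsingleton.elim _ _
      · have : ∀ y : ZMod 2, y ^ (2 * g) = 1 → y = 1 ∨ g = 0 := by
          intro y hy
          rcases Nat.eq_zero_or_pos g with h0 | h0
          · exact Or.inr h0
          · refine Or.inl ?_
            have : ∀ y : ZMod 2, y = 0 ∨ y = 1 := by decide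
            rcases this y with rfl | rfl
            · rw [zero_pow (by omega)] at hy; exact absurd hy (by decide)
            · rfl
        rcases this x hg with h1 | h1
        · rw [h1, one_pow]
        · rw [hb, h1, zero_mul, pow_zero]
    · have hgk : x ^ g = -1 := by
        rw [ha, show g * (2 * c + 1) = 2 * g * c + g by ring, pow_add, pow_mul, hg, one_pow, one_mul] at hk
        exact hk
      rw [hb, pow_mul, hgk]
      exact neg_one_pow_eq_or _ b
  rcases hx with h1 | h1
  · right
    refine (ZMod.natCast_eq_zero_iff (p ^ n - 1) h).1 ?_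
    rw [Nat.cast_sub (Nat.one_le_pow _ _ hp)]
    push_cast
    exact sub_eq_zero.2 h1
  · left
    refine (ZMod.natCast_eq_zero_iff (p ^ n + 1) h).1 ?_
    push_cast
    rw [show (p : ZMod h) ^ n = -1 from h1, neg_add_cancel]

/-- An irreducible symplectic module of a cyclic group. -/
private theorem module_case {A : Type*} [CommGroup A] [Finite A] [Nontrivial A] {p : ℕ} [hp : Fact p.Prime]
    (hexp : ∀ a : A, a ^ p = 1) {H : Type*} [Group H] [Finite H] [hH : IsCyclic H] (φ : H →* MulAut A)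
    (hφ : Function.Injective φ)
    (hirr : ∀ S : Subgroup A, (∀ h, ∀ a ∈ S, φ h a ∈ S) → S = ⊥ ∨ S = ⊤)
    (β : A → A → ZMod p) (hl : ∀ a a' b, β (a * a') b = β a b + β a' b)
    (hr : ∀ a b b', β a (b * b') = β a b + β a b')
    (hndl : ∀ a, (∀ b, β a b = 0) → a = 1) (hndr : ∀ b, (∀ a, β a b = 0) → b = 1)
    (hinv : ∀ h a b, β (φ h a) (φ h b) = β a b) :
    Nat.card H ≤ 2 ∨ ∃ k, Nat.card H ∣ p ^ k + 1 := by
  have h0 : ∀ v : Additive A, p • v = 0 := fun v => congrArg Additive.ofMul (hexp (Additive.toMul v))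
  obtain ⟨iM⟩ : Nonempty (Module (ZMod p) (Additive A)) := ⟨AddCommGroup.zmodModule h0⟩
  let _ : CommGroup H := IsCyclic.commGroup (α := H)
  let ρ : Representation (ZMod p) H (Additive A) :=
    { toFun := fun g => (MonoidHom.toAdditive (φ g).toMonoidHom).toZModLinearMap p
      map_one' := LinearMap.ext fun v => congrArg Additive.ofMul (show φ 1 (Additive.toMul v) = _ by rw [map_one]; rfl)
      map_mul' := fun g g' => LinearMap.ext fun v => congrArg Additive.ofMul
        (show φ (g * g') (Additive.toMul v) = φ g (φ g' (Additive.toMul v)) by rw [map_mul]; rfl) }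
  have hρ : ∀ (g : H) (v : Additive A), ρ g v = Additive.ofMul (φ g (Additive.toMul v)) := fun g v => rfl
  have hfaith : Function.Injective ρ := fun g g' h => hφ (MulEquiv.ext fun a =>
    congrArg Additive.toMul ((hρ g (Additive.ofMul a)).symm.trans
      ((LinearMap.congr_fun h (Additive.ofMul a)).trans (hρ g' (Additive.ofMul a)))))
  have hirr' : ∀ S : Submodule (ZMod p) (Additive A), (∀ g : H, ∀ v ∈ S, ρ g v ∈ S) → S = ⊥ ∨ S = ⊤ := by
    intro S hS
    let S' : Subgroup A :=
      { carrier := {a | Additive.ofMul a ∈ S}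
        one_mem' := S.zero_mem
        mul_mem' := fun ha hb => S.add_mem ha hb
        inv_mem' := fun ha => S.neg_mem ha }
    rcases hirr S' (fun g a ha => hS g _ ha) with h | h
    · refine Or.inl ((Submodule.eq_bot_iff S).2 fun v hv => ?_)
      have h' : Additive.toMul v ∈ S' := hv
      rw [h, mem_bot] at h'
      exact congrArg Additive.ofMul h'
    · exact Or.inr (eq_top_iff.2 fun v _ => (h ▸ mem_top (Additive.toMul v) : Additive.toMul v ∈ S'))
  let B : LinearMap.BilinForm (ZMod p) (Additive A) :=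
    (AddMonoidHom.mk' (fun a => (AddMonoidHom.mk' (fun b => β (Additive.toMul a) (Additive.toMul b))
      fun b b' => hr _ _ _).toZModLinearMap p) fun a a' => LinearMap.ext fun b => hl _ _ _).toZModLinearMap p
  have hB : B.Nondegenerate :=
    ⟨fun a ha => congrArg Additive.ofMul (hndl (Additive.toMul a) fun b => ha (Additive.ofMul b)),
     fun b hb => congrArg Additive.ofMul (hndr (Additive.toMul b) fun a => hb (Additive.ofMul a))⟩
  have hBi : ∀ g : H, ∀ a b : Additive A, B (ρ g a) (ρ g b) = B a b := fun g a b => hinv g _ _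
  haveI : FiniteDimensional (ZMod p) (Additive A) := Module.Finite.of_finite
  haveI : CharP (ZMod p) p := ZMod.charP p
  have hmain := H86.selfDual_iff p ρ hfaith hirr'
  haveI : Nontrivial (Additive A) := inferInstanceAs (Nontrivial A)
  have hpos : 0 < Module.finrank (ZMod p) (Additive A) := Module.finrank_pos
  rcases Nat.lt_or_ge (Module.finrank (ZMod p) (Additive A)) 2 with h1 | h2
  · exact Or.inl (hmain.1 (by omega) ⟨B, hB, hBi⟩)
  · obtain ⟨-, hd⟩ := (hmain.2 h2).1 ⟨B, hB, hBi⟩
    rw [ZMod.card] at hd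
    exact Or.inr ⟨_, hd⟩


/-- Let P be an extraspecial p-group of order p^(2n+1) and H a cyclic group of order h prime to p acting on P (inside a common finite group: H normalizes P) so that C_P(x) = Z(P) for every non-identity x ∈ H. Then h divides p^n + 1 or h divides p^n − 1. -/
theorem result {G : Type*} [Group G] [Finite G] {p : ℕ} [Fact p.Prime] (P H : Subgroup G) (hP : Cfsg.IsExtraspecial p ↥P) (n : ℕ) (hn : Nat.card P = p ^ (2 * n + 1)) (hH : IsCyclic H) (hcop : (Nat.card H).Coprime p) (hHP : H ≤ Subgroup.normalizer (P : Set G)) (hfix : ∀ x ∈ H, x ≠ 1 → P ⊓ Subgroup.centralizer {x} = (Subgroup.center ↥P).map P.subtype) : Nat.card H ∣ p ^ n + 1 ∨ Nat.card H ∣ p ^ n - 1 := by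
  classical
  have hp := (Fact.out : p.Prime)
  haveI := hH
  set Z := (center ↥P).map P.subtype with hZdef
  have hcomm : ∀ a ∈ P, ∀ b ∈ P, ⁅a, b⁆ ∈ Z := fun a ha b hb =>
    ⟨⁅(⟨a, ha⟩ : P), ⟨b, hb⟩⁆, PGroups.commutatorElement_mem_center (PGroups.isSpecial_commutator_le hP.1) _ _, rfl⟩
  have hZcard : Nat.card Z = p := by rw [hZdef, Subgroup.card_map_of_injective P.subtype_injective]; exact hP.2
  have hZP : Z ≤ P := map_subtype_le _
  have hPp : IsPGroup p P := hP.1.1
  have hhP : ∀ y ∈ H, ∀ w ∈ P, y * w * y⁻¹ ∈ P := fun y hy w hw => (mem_normalizer_iff.1 (hHP hy) w).1 hw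
  have hcp : (Nat.card H).Coprime (Nat.card P) := by
    rw [hn]; exact Nat.Coprime.pow_right _ hcop
  by_cases hh1 : Nat.card H ≤ 1
  · rw [show Nat.card H = 1 from le_antisymm hh1 Nat.card_pos]; exact Or.inl (one_dvd _)
  -- the centre is fixed by `H`
  have hHne : ∃ y ∈ H, y ≠ 1 := by
    by_contra hcon
    simp only [not_exists, not_and, not_not] at hcon
    exact hh1 (le_of_eq (Subgroup.card_eq_one.2 ((Subgroup.eq_bot_iff_forall _).2 hcon)))
  have hZH : ∀ y ∈ H, ∀ z ∈ Z, y * z * y⁻¹ = z := by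
    intro y hy z hz
    by_cases hy1 : y = 1
    · simp [hy1]
    · have h1 : z ∈ P ⊓ centralizer {y} := by rw [hfix y hy hy1]; exact hz
      have h2 := mem_centralizer_iff.1 h1.2 y rfl
      rw [h2, mul_inv_cancel_right]
  -- semiregularity
  have hfree : ∀ W : Subgroup G, Z ≤ W → W ≤ P → (∀ y ∈ H, ∀ w ∈ W, y * w * y⁻¹ ∈ W) →
      Nat.card H ∣ Nat.card W - p := by
    intro W hZW hWP hW
    let X := {w : W // (w : G) ∉ Z}
    let _ : MulAction H X :=
      { smul := fun y w => ⟨⟨(y : G) * (w : W) * (y : G)⁻¹, hW y y.2 _ (w : W).2⟩, fun hz => w.2 (by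
          have hz' : (y : G) * ((w : W) : G) * (y : G)⁻¹ ∈ Z := hz
          have h := hZH _ (H.inv_mem y.2) _ hz'
          rw [show (y : G)⁻¹ * ((y : G) * ((w : W) : G) * (y : G)⁻¹) * (y : G)⁻¹⁻¹ = ((w : W) : G) by group] at h
          exact h ▸ hz')⟩
        one_smul := fun w => Subtype.ext (Subtype.ext (show (1 : G) * (w : W) * (1 : G)⁻¹ = _ by simp))
        mul_smul := fun a b w => Subtype.ext (Subtype.ext (show ((a * b : H) : G) * (w : W) * ((a * b : H) : G)⁻¹
            = (a : G) * ((b : G) * (w : W) * (b : G)⁻¹) * (a : G)⁻¹ by simp [mul_assoc])) }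
    have hd : Nat.card H ∣ Nat.card X := card_dvd_of_free fun y w hyw => by
      by_contra hy1
      refine w.2 ?_
      have h1 : (y : G) * (w : W) * (y : G)⁻¹ = (w : W) := congrArg (fun v : X => ((v : W) : G)) hyw
      refine (hfix y y.2 (fun e => hy1 (Subtype.ext e))).le ⟨hWP (w : W).2, mem_centralizer_iff.2 ?_⟩
      rintro _ rfl
      exact mul_inv_eq_iff_eq_mul.1 h1
    convert hd using 1
    have e := Nat.card_congr (Equiv.sumCompl fun w : W => (w : G) ∈ Z)
    have hZc : Nat.card {w : W // (w : G) ∈ Z} = p :=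
      (Nat.card_congr (Equiv.subtypeSubtypeEquivSubtype (p := fun g => g ∈ W) (q := fun g => g ∈ Z)
        (fun {g} (h : g ∈ Z) => hZW h))).trans hZcard
    rw [Nat.card_sum, hZc] at e
    show Nat.card W - p = Nat.card {w : W // ¬ (w : G) ∈ Z}
    rw [← e, Nat.add_sub_cancel_left]
  have hsub : ∀ W : Subgroup G, Z ≤ W → W ≤ P → (∀ y ∈ H, ∀ w ∈ W, y * w * y⁻¹ ∈ W) →
      ∀ m, Nat.card W = p ^ (m + 1) → Nat.card H ∣ p ^ m - 1 := by
    intro W h1 h2 h3 m hm
    have := hfree W h1 h2 h3
    rw [hm, show p ^ (m + 1) - p = p * (p ^ m - 1) by rw [Nat.mul_sub, mul_one, pow_succ']] at this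
    exact hcop.dvd_of_dvd_mul_left this
  have h2n : Nat.card H ∣ p ^ (2 * n) - 1 := hsub P hZP le_rfl hhP (2 * n) hn
  -- a maximal invariant abelian subgroup
  obtain ⟨W, hW⟩ := (Set.toFinite {W : Subgroup G | Z ≤ W ∧ W ≤ P ∧ (∀ y ∈ H, ∀ w ∈ W, y * w * y⁻¹ ∈ W) ∧
      ∀ a ∈ W, ∀ b ∈ W, Commute a b}).exists_maximal ⟨Z, le_rfl, hZP,
        fun y hy z hz => by rw [hZH y hy z hz]; exact hz,
        by
          rintro _ ⟨a, ha, rfl⟩ _ ⟨b, hb, rfl⟩
          exact congrArg Subtype.val (mem_center_iff.1 hb a)⟩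
  obtain ⟨hZW, hWP, hWH, hWc⟩ := hW.1
  set C := P ⊓ centralizer (W : Set G) with hC
  have hWC : W ≤ C := le_inf hWP fun a ha => mem_centralizer_iff.2 fun b hb => hWc b hb a ha
  have hCH : ∀ y ∈ H, ∀ c ∈ C, y * c * y⁻¹ ∈ C := by
    intro y hy c hc
    refine ⟨hhP y hy c hc.1, mem_centralizer_iff.2 fun w hw => ?_⟩
    have hw' : y⁻¹ * w * y ∈ W := by simpa using hWH y⁻¹ (H.inv_mem hy) w hw
    have h := mem_centralizer_iff.1 hc.2 _ hw'
    calc w * (y * c * y⁻¹) = y * ((y⁻¹ * w * y) * c) * y⁻¹ := by group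
      _ = y * (c * (y⁻¹ * w * y)) * y⁻¹ := by rw [h]
      _ = _ := by group
  rcases hWC.eq_or_lt with hWCeq | hWClt
  · -- totally isotropic of half dimension
    right
    obtain ⟨m, hm⟩ : ∃ m, Nat.card W = p ^ (m + 1) := by
      obtain ⟨a, ha⟩ := IsPGroup.iff_card.1 (hPp.of_injective (Subgroup.inclusion hWP) (Subgroup.inclusion_injective hWP))
      have hpd : p ∣ p ^ a := ha ▸ hZcard ▸ Subgroup.card_dvd_of_le hZW
      rcases a with _ | a
      · rw [pow_zero] at hpd; exact absurd hpd hp.not_dvd_one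
      · exact ⟨a, ha⟩
    have hK := card_centralizer_eq hPp (PGroups.isSpecial_commutator_le hP.1) hP.2 (W.subgroupOf P) (by
      intro z hz; exact hZW ⟨z, hz, rfl⟩)
    have hce : centralizer ((W.subgroupOf P : Subgroup P) : Set P) = W.subgroupOf P := by
      ext c
      constructor
      · intro hc
        show (c : G) ∈ W
        rw [hWCeq]
        exact ⟨c.2, mem_centralizer_iff.2 fun w hw => congrArg Subtype.val (mem_centralizer_iff.1 hc ⟨w, hWP hw⟩ hw)⟩
      · intro hc
        exact mem_centralizer_iff.2 fun w hw => Subtype.ext (hWc _ hw _ hc)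
    rw [hce, Nat.card_congr (subgroupOfEquivOfLe hWP).toEquiv, hm, hn, ← pow_add, ← pow_succ] at hK
    have := Nat.pow_right_injective hp.two_le hK
    have hmn : m = n := by omega
    exact hmn ▸ hsub W hZW hWP hWH m hm
  -- an irreducible anisotropic piece
  obtain ⟨U, hU⟩ := (Set.toFinite {U : Subgroup G | W < U ∧ U ≤ C ∧ (∀ y ∈ H, ∀ u ∈ U, y * u * y⁻¹ ∈ U)}).exists_minimal
    ⟨C, hWClt, le_rfl, hCH⟩
  obtain ⟨hWU, hUC, hUH⟩ := hU.1
  have hUP : U ≤ P := hUC.trans inf_le_left
  have hrad : ∀ u ∈ U, (∀ v ∈ U, Commute u v) → u ∈ W := by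
    intro u hu huc
    set R : Subgroup G := U ⊓ centralizer (U : Set G) with hR
    have hWR : W ≤ R := le_inf hWU.le fun a ha => mem_centralizer_iff.2 fun v hv =>
      (mem_centralizer_iff.1 (hUC hv).2 a ha).symm
    have hRS : R ∈ {W : Subgroup G | Z ≤ W ∧ W ≤ P ∧ (∀ y ∈ H, ∀ w ∈ W, y * w * y⁻¹ ∈ W) ∧
        ∀ a ∈ W, ∀ b ∈ W, Commute a b} := by
      refine ⟨hZW.trans hWR, inf_le_left.trans hUP, fun y hy c hc => ⟨hUH y hy c hc.1, ?_⟩,
        fun a ha b hb => (mem_centralizer_iff.1 ha.2 b hb.1).symm⟩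
      refine mem_centralizer_iff.2 fun v hv => ?_
      have hv' : y⁻¹ * v * y ∈ U := by simpa using hUH y⁻¹ (H.inv_mem hy) v hv
      have h := mem_centralizer_iff.1 hc.2 _ hv'
      calc v * (y * c * y⁻¹) = y * ((y⁻¹ * v * y) * c) * y⁻¹ := by group
        _ = y * (c * (y⁻¹ * v * y)) * y⁻¹ := by rw [h]
        _ = _ := by group
    exact hW.2 hRS hWR ⟨hu, mem_centralizer_iff.2 fun v hv => (huc v hv).symm⟩
  -- the module
  set W' := W.subgroupOf U with hW'
  haveI hW'n : W'.Normal := Subgroup.Normal.mk fun w hw u => by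
    show (u : G) * w * (u : G)⁻¹ ∈ W
    have h : ((w : U) : G) * (u : G) = (u : G) * (w : U) := mem_centralizer_iff.1 (hUC u.2).2 w hw
    rw [← h, mul_inv_cancel_right]; exact hw
  letI : CommGroup (U ⧸ W') :=
    { (inferInstance : Group (U ⧸ W')) with
      mul_comm := fun a b => by
        induction a using QuotientGroup.induction_on with | _ a =>
        induction b using QuotientGroup.induction_on with | _ b =>
        refine QuotientGroup.eq.2 ?_
        show ((a * b)⁻¹ * (b * a) : U).1 ∈ W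
        refine hZW ?_
        have : ((a * b)⁻¹ * (b * a) : U).1 = ⁅(b : G)⁻¹, (a : G)⁻¹⁆ := by
          rw [commutatorElement_def]; simp [mul_assoc]
        rw [this]
        exact hcomm _ (P.inv_mem (hUP b.2)) _ (P.inv_mem (hUP a.2)) }
  have hexp : ∀ q : U ⧸ W', q ^ p = 1 := by
    intro q
    induction q using QuotientGroup.induction_on with | _ a =>
    rw [← QuotientGroup.mk_pow]
    refine (QuotientGroup.eq_one_iff _).2 (?_ : ((a ^ p : U) : G) ∈ W)
    refine hZW ⟨(⟨a, hUP a.2⟩ : P) ^ p, PGroups.isSpecial_pow_mem_center hP.1 _, ?_⟩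
    simp
  haveI : Nontrivial (U ⧸ W') := by
    obtain ⟨u, hu, hnu⟩ := SetLike.exists_of_lt hWU
    refine ⟨((⟨u, hu⟩ : U) : U ⧸ W'), 1, fun h => hnu ?_⟩
    exact (QuotientGroup.eq_one_iff (N := W') (⟨u, hu⟩ : U)).1 h
  let cU : H →* MulAut U := Coprime.conjOn (fun y hy => Coprime.mem_normalizer_of_map_conj
    (Subgroup.eq_of_le_of_card_ge (by rintro _ ⟨u, hu, rfl⟩; exact hUH y hy u hu)
      (le_of_eq (Coprime.card_map_conj _ _).symm)))
  have hcU : ∀ (y : H) (u : U), ((cU y u : U) : G) = y * u * (y : G)⁻¹ := fun y u => rfl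
  let act : H → (U ⧸ W') →* (U ⧸ W') := fun y =>
    QuotientGroup.map W' W' (cU y).toMonoidHom fun w hw => hWH y y.2 _ hw
  have hact : ∀ (y : H) (u : U), act y (u : U ⧸ W') = ((cU y u : U) : U ⧸ W') := fun _ _ => rfl
  have hact1 : ∀ q, act 1 q = q := fun q => by
    induction q using QuotientGroup.induction_on with | _ u =>
    rw [hact, map_one]; rfl
  have hactm : ∀ g g' q, act (g * g') q = act g (act g' q) := fun g g' q => by
    induction q using QuotientGroup.induction_on with | _ u =>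
    rw [hact, hact, hact, map_mul]; rfl
  let φ : H →* MulAut (U ⧸ W') :=
    MonoidHom.mk' (fun y =>
      { toFun := act y
        invFun := act y⁻¹
        left_inv := fun q => by rw [← hactm, inv_mul_cancel, hact1]
        right_inv := fun q => by rw [← hactm, mul_inv_cancel, hact1]
        map_mul' := map_mul (act y) }) fun g g' => MulEquiv.ext fun q => hactm g g' q
  have hφ : ∀ (y : H) (u : U), φ y (u : U ⧸ W') = ((cU y u : U) : U ⧸ W') := fun _ _ => rfl
  have hfaith : Function.Injective φ := by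
    intro a b hab
    by_contra hne
    set y := a⁻¹ * b with hy
    have hy1 : (y : G) ≠ 1 := fun e => hne (inv_mul_eq_one.1 (Subtype.ext e : y = 1))
    have hρy : φ y = 1 := by rw [hy, map_mul, ← hab, ← map_mul, inv_mul_cancel, map_one]
    obtain ⟨u, huU, huW⟩ := SetLike.exists_of_lt hWU
    set A := zpowers (y : G) with hA
    have hAH : A ≤ H := zpowers_le.2 y.2
    have hAU : A ≤ normalizer (U : Set G) := fun g hg => Coprime.mem_normalizer_of_map_conj
      (Subgroup.eq_of_le_of_card_ge (by rintro _ ⟨v, hv, rfl⟩; exact hUH g (hAH hg) v hv)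
        (le_of_eq (Coprime.card_map_conj _ _).symm))
    have hAW : A ≤ normalizer (W : Set G) := fun g hg => Coprime.mem_normalizer_of_map_conj
      (Subgroup.eq_of_le_of_card_ge (by rintro _ ⟨v, hv, rfl⟩; exact hWH g (hAH hg) v hv)
        (le_of_eq (Coprime.card_map_conj _ _).symm))
    obtain ⟨c, hc, hcw⟩ := Coprime.exists_centralizer_mem_coset hAU
      (Nat.Coprime.coprime_dvd_right (Subgroup.card_dvd_of_le hUP)
        (hcp.coprime_dvd_left (Subgroup.card_dvd_of_le hAH)))
      (Or.inl inferInstance) hWU.le hAW huU (fun g hg => by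
        obtain ⟨i, rfl⟩ := hg
        have h1 : φ (y ^ i) ((⟨u, huU⟩ : U) : U ⧸ W') = ((⟨u, huU⟩ : U) : U ⧸ W') := by
          rw [map_zpow, hρy, one_zpow]; rfl
        rw [hφ] at h1
        have h2 : ((⟨u, huU⟩ : U)⁻¹ * cU (y ^ i) ⟨u, huU⟩ : U) ∈ W' := QuotientGroup.eq.1 h1.symm
        exact h2)
    refine huW ?_
    have hcZ : c ∈ Z := (hfix y y.2 hy1).le ⟨hUP hc.1, mem_centralizer_iff.2 fun g hg => by
      rw [Set.mem_singleton_iff.1 hg]; exact mem_centralizer_iff.1 hc.2 _ (mem_zpowers _)⟩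
    have := W.mul_mem (hZW hcZ) (W.inv_mem hcw)
    simpa using this
  have hirr : ∀ S : Subgroup (U ⧸ W'), (∀ y, ∀ q ∈ S, φ y q ∈ S) → S = ⊥ ∨ S = ⊤ := by
    intro S hS
    set U₁ := (S.comap (QuotientGroup.mk' W')).map U.subtype with hU₁
    have hWU₁' : W ≤ U₁ := fun w hw => ⟨⟨w, hWU.le hw⟩, by
      show ((⟨w, hWU.le hw⟩ : U) : U ⧸ W') ∈ S
      rw [(QuotientGroup.eq_one_iff _).2 (show (⟨w, hWU.le hw⟩ : U) ∈ W' from hw)]; exact S.one_mem, rfl⟩
    rcases hWU₁'.eq_or_lt with he | hlt
    · left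
      rw [Subgroup.eq_bot_iff_forall]
      intro q hq
      induction q using QuotientGroup.induction_on with | _ u =>
      refine (QuotientGroup.eq_one_iff u).2 (show (u : G) ∈ W from ?_)
      rw [he]; exact ⟨u, hq, rfl⟩
    · right
      have hle := hU.2 (y := U₁) ⟨hlt, (map_subtype_le _).trans hUC, by
        rintro y hy _ ⟨u, hu, rfl⟩
        exact ⟨cU ⟨y, hy⟩ u, hS ⟨y, hy⟩ _ hu, rfl⟩⟩ (map_subtype_le _)
      refine eq_top_iff.2 fun q _ => ?_
      induction q using QuotientGroup.induction_on with | _ u =>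
      obtain ⟨u', hu', he⟩ := hle u.2
      exact (Subtype.ext he : u' = u) ▸ hu'
  -- the commutator form
  have hZc : IsCyclic Z := isCyclic_of_prime_card hZcard
  obtain ⟨z₀, hz₀⟩ := IsCyclic.exists_generator (α := Z)
  have hz₀o : orderOf z₀ = p := by rw [orderOf_eq_card_of_forall_mem_zpowers hz₀, hZcard]
  let ι : Z ≃* Multiplicative (ZMod p) := mulEquivOfPrimeCardEq (p := p) hZcard (by
    rw [Nat.card_congr Multiplicative.toAdd, Nat.card_zmod])
  have hcm : ∀ u v : U, ⁅(u : G), (v : G)⁆ ∈ Z := fun u v => hcomm _ (hUP u.2) _ (hUP v.2)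
  have hZc' : ∀ z ∈ Z, ∀ u ∈ P, Commute z u := by
    rintro _ ⟨z, hz, rfl⟩ u hu
    exact (congrArg Subtype.val (mem_center_iff.1 hz ⟨u, hu⟩)).symm
  have hml : ∀ u u' v : U, ⁅((u * u' : U) : G), (v : G)⁆ = ⁅(u : G), (v : G)⁆ * ⁅(u' : G), (v : G)⁆ := by
    intro u u' v
    rw [Subgroup.coe_mul, commutatorElement_mul_left_eq_conj_mul]
    rw [← (hZc' _ (hcm u' v) _ (hUP u.2)).eq, mul_inv_cancel_right]
    exact (hZc' _ (hcm u' v) _ (hZP (hcm u v))).eq
  let β : U → U → ZMod p := fun u v => Multiplicative.toAdd (ι ⟨⁅(u : G), (v : G)⁆, hcm u v⟩)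
  have hβl : ∀ u u' v, β (u * u') v = β u v + β u' v := by
    intro u u' v
    show Multiplicative.toAdd (ι _) = Multiplicative.toAdd (ι _) + Multiplicative.toAdd (ι _)
    rw [← toAdd_mul, ← map_mul]
    exact congrArg (fun z => Multiplicative.toAdd (ι z)) (Subtype.ext (hml u u' v))
  have hβs : ∀ u v, β v u = - β u v := by
    intro u v
    show Multiplicative.toAdd (ι _) = - Multiplicative.toAdd (ι _)
    rw [← toAdd_inv, ← map_inv]
    exact congrArg (fun z => Multiplicative.toAdd (ι z)) (Subtype.ext (commutatorElement_inv (u : G) (v : G)).symm)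
  have hβr : ∀ u v v', β u (v * v') = β u v + β u v' := fun u v v' => by
    rw [hβs, hβl, hβs v, hβs v', neg_add]
  have hβW : ∀ u v : U, (u : G) ∈ W → β u v = 0 := by
    intro u v hu
    show Multiplicative.toAdd (ι _) = 0
    have : ⁅(u : G), (v : G)⁆ = 1 := commutatorElement_eq_one_iff_mul_comm.2 (mem_centralizer_iff.1 (hUC v.2).2 u hu)
    rw [show (⟨⁅(u : G), (v : G)⁆, hcm u v⟩ : Z) = 1 from Subtype.ext this, map_one]; rfl
  have hβz : ∀ u v, β u v = 0 → Commute (u : G) v := by
    intro u v h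
    rw [← commutatorElement_eq_one_iff_commute]
    have : ι ⟨⁅(u : G), (v : G)⁆, hcm u v⟩ = 1 := h
    exact congrArg Subtype.val ((map_eq_one_iff ι ι.injective).1 this)
  have hβ1 : ∀ (u u' v : U), (u : U ⧸ W') = u' → β u v = β u' v := by
    intro u u' v he
    have h := hβW (u⁻¹ * u') v ((QuotientGroup.eq (s := W')).1 he)
    rw [show u' = u * (u⁻¹ * u') by rw [mul_inv_cancel_left], hβl, h, add_zero]
  have hβ2 : ∀ (u v v' : U), (v : U ⧸ W') = v' → β u v = β u v' := fun u v v' he => by
    rw [hβs, hβs v', hβ1 v v' u he]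
  have hs : ∀ q : U ⧸ W', ∃ u : U, (u : U ⧸ W') = q := QuotientGroup.mk_surjective
  choose s hs using hs
  let B : U ⧸ W' → U ⧸ W' → ZMod p := fun a b => β (s a) (s b)
  have hB : ∀ u v : U, B (u : U ⧸ W') (v : U ⧸ W') = β u v := fun u v => by
    show β (s _) (s _) = _
    rw [hβ1 _ _ _ (hs _), hβ2 _ _ _ (hs _)]
  have hmain := module_case hexp φ hfaith hirr B
    (fun a a' b => by
      obtain ⟨u, rfl⟩ := QuotientGroup.mk_surjective a
      obtain ⟨u', rfl⟩ := QuotientGroup.mk_surjective a'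
      obtain ⟨v, rfl⟩ := QuotientGroup.mk_surjective b
      rw [← QuotientGroup.mk_mul, hB, hB, hB, hβl])
    (fun a b b' => by
      obtain ⟨u, rfl⟩ := QuotientGroup.mk_surjective a
      obtain ⟨v', rfl⟩ := QuotientGroup.mk_surjective b'
      obtain ⟨v, rfl⟩ := QuotientGroup.mk_surjective b
      rw [← QuotientGroup.mk_mul, hB, hB, hB, hβr])
    (fun a ha => by
      obtain ⟨u, rfl⟩ := QuotientGroup.mk_surjective a
      exact (QuotientGroup.eq_one_iff u).2 (hrad u u.2 fun v hv => hβz u ⟨v, hv⟩ (hB u ⟨v, hv⟩ ▸ ha _)))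
    (fun a ha => by
      obtain ⟨u, rfl⟩ := QuotientGroup.mk_surjective a
      exact (QuotientGroup.eq_one_iff u).2 (hrad u u.2 fun v hv => (hβz ⟨v, hv⟩ u (hB ⟨v, hv⟩ u ▸ ha _)).symm))
    (fun y a b => by
      obtain ⟨u, rfl⟩ := QuotientGroup.mk_surjective a
      obtain ⟨v, rfl⟩ := QuotientGroup.mk_surjective b
      rw [hφ, hφ, hB, hB]
      refine congrArg (fun z => Multiplicative.toAdd (ι z)) (Subtype.ext ?_)
      show ⁅((cU y u : U) : G), ((cU y v : U) : G)⁆ = ⁅(u : G), (v : G)⁆
      rw [hcU, hcU, ← conjugate_commutatorElement]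
      exact hZH y y.2 _ (hcm u v))
  rcases hmain with h | ⟨k, hk⟩
  · have h2' : Nat.card H = 2 := by omega
    have hp2 : p ≠ 2 := by rintro rfl; rw [h2'] at hcop; norm_num at hcop
    left
    rw [h2']
    exact (Nat.even_add_one.2 (Nat.not_even_iff_odd.2 ((hp.odd_of_ne_two hp2).pow))).two_dvd
  · exact arith hk h2n hp.pos

end Cfsg.Agent.S3767
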