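import Cfsg.Statements.S3769
import Cfsg.Agent.Coprime.Basic
import Cfsg.Agent.Coprime.FpfElem
-- import your own Cfsg.Agent.* helpers here

set_option autoImplicit false
open Cfsg
open Cfsg.Agent.Coprime

namespace Cfsg.Agent.S3769

/-- Let G and V be subgroups of a finite group with G solvable of odd order normalizing V, V an elementary abelian ℓ-group for a prime ℓ not dividing the order of G, and suppose G has a normal Hall subgroup K with a complement R of prime order. If C_V(R) = 1, then [R, K] centralizes V. -/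
theorem result {X : Type*} [Group X] [Finite X] (G : Subgroup X) (hsolv : Group.IsSolvable G) (hodd : Odd (Nat.card G)) (V : Subgroup X) {ℓ : ℕ} (hℓ : ℓ.Prime) (hV : Cfsg.IsElementaryAbelian ℓ V) (hℓG : ¬ ℓ ∣ Nat.card G) (hGV : G ≤ Subgroup.normalizer (V : Set X)) (K R : Subgroup X) (hKG : K ≤ G) (hKn : G ≤ Subgroup.normalizer (K : Set X)) (hHall : (Nat.card K).Coprime (K.relIndex G)) (hRG : R ≤ G) (hR : (Nat.card R).Prime) (hKR : K ⊓ R = ⊥) (hKRG : K ⊔ R = G) (hCV : V ⊓ Subgroup.centralizer (R : Set X) = ⊥) : ⁅R, K⁆ ≤ Subgroup.centralizer (V : Set X) := by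
  classical
  have := hV.1
  have : Fact ℓ.Prime := ⟨hℓ⟩
  set r := Nat.card R with hr
  have : Fact r.Prime := ⟨hR⟩
  obtain ⟨t, ht⟩ := (isCyclic_of_prime_card (α := R) hr.symm).exists_generator
  have hRt : R = Subgroup.zpowers (t : X) := by
    refine le_antisymm (fun x hx => ?_) (Subgroup.zpowers_le.mpr t.2)
    obtain ⟨i, hi⟩ := Subgroup.mem_zpowers_iff.mp (ht ⟨x, hx⟩)
    exact ⟨i, congrArg Subtype.val hi⟩
  have hrel : K.relIndex G = r := by
    have h1 : Nat.card G = Nat.card K * r := by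
      rw [← hKRG, card_sup (hRG.trans hKn) hKR, hr]
    have h2 := Subgroup.relIndex_mul_relIndex ⊥ K G bot_le hKG
    rw [Subgroup.relIndex_bot_left, Subgroup.relIndex_bot_left, h1] at h2
    exact Nat.eq_of_mul_eq_mul_left Nat.card_pos h2
  rw [hrel] at hHall
  have hrG : r ∣ Nat.card G := Subgroup.card_dvd_of_le hRG
  rw [hRt]
  refine FpfElem.commutator_le_centralizer (l := ℓ) (r := r) V hV.2 (t : X) ?_ ?_ (hGV (hRG t.2)) ?_ K
    (hKG.trans hGV) (hKn (hRG t.2)) ?_
  · rw [← SubmonoidClass.coe_pow, hr, pow_card_eq_one']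
    rfl
  · rintro rfl
    exact hℓG hrG
  · intro v hv hc
    have h1 : v ∈ V ⊓ Subgroup.centralizer (R : Set X) := by
      refine ⟨hv, Subgroup.mem_centralizer_iff.mpr fun x hx => ?_⟩
      obtain ⟨i, rfl⟩ := Subgroup.mem_zpowers_iff.mp (hRt ▸ hx : x ∈ Subgroup.zpowers (t : X))
      exact (Commute.zpow_left (show Commute (t : X) v from hc) i).eq
    rw [hCV] at h1
    exact Subgroup.mem_bot.mp h1
  · intro s hs hsK
    have hsG : s ∣ Nat.card G := hsK.trans (Subgroup.card_dvd_of_le hKG)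
    refine ⟨fun h => hℓG (h ▸ hsG), fun h => ?_, fun h => ?_⟩
    · subst h
      exact hs.ne_one (Nat.eq_one_of_dvd_coprimes hHall hsK dvd_rfl)
    · exact (Nat.not_even_iff_odd.mpr hodd) (even_iff_two_dvd.mpr (h.1 ▸ hsG))

end Cfsg.Agent.S3769
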