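import Cfsg.Statements.S3770
import Cfsg.Agent.Components.FrobModule

set_option autoImplicit false
open Cfsg
open Cfsg.Agent.Components

namespace Cfsg.Agent.S3770

/-- Let G and V be subgroups of a finite group with G a Frobenius group with complement R of prime order and kernel K, G normalizing V, and V an elementary abelian ℓ-group for a prime ℓ not dividing the order of G. If C_V(R) has order ℓ, then the derived subgroup of K centralizes V. -/
theorem result {X : Type*} [Group X] [Finite X] (G : Subgroup X) (V : Subgroup X) {ℓ : ℕ} (hℓ : ℓ.Prime) (hV : Cfsg.IsElementaryAbelian ℓ V) (hℓG : ¬ ℓ ∣ Nat.card G) (hGV : G ≤ Subgroup.normalizer (V : Set X)) (R : Subgroup ↥G) (hR : Cfsg.IsFrobeniusComplement R) (hRp : (Nat.card R).Prime) (hCV : Nat.card ↥(V ⊓ Subgroup.centralizer ((R.map G.subtype : Subgroup X) : Set X)) = ℓ) : ⁅Subgroup.closure (Subtype.val '' Cfsg.frobeniusKernel R), Subgroup.closure (Subtype.val '' Cfsg.frobeniusKernel R)⁆ ≤ Subgroup.centralizer (V : Set X) := by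
  obtain ⟨hcomm, hexp⟩ := hV
  let _ : CommGroup V := { (inferInstance : Group V) with mul_comm := hcomm.is_comm.comm }
  have hKn := Frobenius.kernel_normal hR
  have hc := Frobenius.kernel_isComplement hR
  set K := Frobenius.kernel hR with hK
  let φ : ↥G →* MulAut V :=
    { toFun := fun g =>
        { toFun := fun w => ⟨(g : X) * w * (g : X)⁻¹,
            (Subgroup.mem_normalizer_iff.1 (hGV g.2) _).1 w.2⟩
          invFun := fun w => ⟨((g⁻¹ : G) : X) * w * ((g⁻¹ : G) : X)⁻¹,
            (Subgroup.mem_normalizer_iff.1 (hGV (g⁻¹).2) _).1 w.2⟩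
          left_inv := fun w => Subtype.ext (by simp; group)
          right_inv := fun w => Subtype.ext (by simp; group)
          map_mul' := fun a b => Subtype.ext (by simp) }
      map_one' := MulEquiv.ext fun w => Subtype.ext (by simp)
      map_mul' := fun a b => MulEquiv.ext fun w => Subtype.ext (by simp; group) }
  have := Fact.mk hℓ
  obtain ⟨m, hm⟩ : ∃ m, Nat.card V = ℓ ^ m := by
    refine IsPGroup.iff_card.1 fun w => ⟨1, ?_⟩
    rw [pow_one]; exact Subtype.ext (hexp w w.2)
  have hcop : ∀ n, n ∣ Nat.card G → n.Coprime (Nat.card V) := fun n hn => by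
    rw [hm]
    exact Nat.Coprime.pow_right _ ((hℓ.coprime_iff_not_dvd.2 fun h => hℓG (h.trans hn)).symm)
  have := Fact.mk hRp
  have := isCyclic_of_prime_card (α := R) rfl
  obtain ⟨y, hy⟩ := IsCyclic.exists_generator (α := R)
  have hq : 0 < Nat.card R := hRp.pos
  have hord : orderOf (y : G) = Nat.card R := by
    rw [Subgroup.orderOf_coe, orderOf_eq_card_of_forall_mem_zpowers hy]
  have key := commutator_act_trivial φ K (Frobenius.kernel_isNilpotent hR)
    (hcop _ (Subgroup.card_subgroup_dvd_card _)) (y := (y : G)) hq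
    (hord ▸ pow_orderOf_eq_one _) (hcop _ (Subgroup.card_subgroup_dvd_card _))
    (fun i h1 h2 k hk h => Frobenius.fixedPointFree hR hc (pow_mem y.2 i)
      (fun e => by
        have := orderOf_dvd_of_pow_eq_one e
        rw [hord] at this
        exact Nat.not_dvd_of_pos_of_lt h1 h2 this) hk h.symm)
    (fun v w hv hv1 hw => by
      have hfix : ∀ u : V, φ (y : G) u = u →
          (u : X) ∈ V ⊓ Subgroup.centralizer ((R.map G.subtype : Subgroup X) : Set X) := by
        refine fun u hu => ⟨u.2, ?_⟩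
        rintro _ ⟨r, hr, rfl⟩
        obtain ⟨n, hn⟩ := Subgroup.mem_zpowers_iff.1 (hy ⟨r, hr⟩)
        have h : Commute ((y : G) : X) u :=
          mul_inv_eq_iff_eq_mul.1 (congrArg Subtype.val hu)
        have e : r = (y : G) ^ n := by rw [← Subgroup.coe_zpow, hn]
        rw [e, map_zpow]
        exact (h.zpow_left n).eq
      obtain ⟨n, hn⟩ := Subgroup.mem_zpowers_iff.1 (mem_zpowers_of_prime_card hCV
        (g := ⟨v, hfix v hv⟩) (g' := ⟨w, hfix w hw⟩)
        (fun e => hv1 (Subtype.ext (congrArg Subtype.val e : (v : X) = 1))))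
      have hn' := congrArg Subtype.val hn
      rw [Subgroup.coe_zpow] at hn'
      exact ⟨n, Subtype.ext ((Subgroup.coe_zpow _ _ _).trans hn')⟩)
  have hcl : Subgroup.closure (Subtype.val '' Cfsg.frobeniusKernel R) = K.map G.subtype := by
    rw [hK, ← Frobenius.coe_kernel hR, ← Subgroup.coe_subtype, ← MonoidHom.map_closure,
      Subgroup.closure_eq]
  rw [hcl, Subgroup.commutator_le]
  rintro _ ⟨a, ha, rfl⟩ _ ⟨b, hb, rfl⟩
  refine Subgroup.mem_centralizer_iff.2 fun x hx => ?_
  have h1 := congrArg Subtype.val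
    (DFunLike.congr_fun (key a ha b hb) ((φ b⁻¹ * φ a⁻¹) ⟨x, hx⟩))
  simp only [← MulAut.mul_apply, ← map_mul] at h1
  change ((a * b * (b⁻¹ * a⁻¹) : G) : X) * x * ((a * b * (b⁻¹ * a⁻¹) : G) : X)⁻¹ =
    ((b * a * (b⁻¹ * a⁻¹) : G) : X) * x * ((b * a * (b⁻¹ * a⁻¹) : G) : X)⁻¹ at h1
  simp [commutatorElement_def] at h1 ⊢
  conv_rhs => rw [h1]
  group

end Cfsg.Agent.S3770
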