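import Cfsg.Statements.S3772
import Cfsg.Agent.PGroups.Basic

set_option autoImplicit false
open Cfsg

namespace Cfsg.Agent.S3772

open scoped commutatorElement

variable {G : Type*} [Group G]

open Classical in
/-- `1` on solutions of `x ^ 2 = 1`, `-1` elsewhere. -/
private noncomputable def sgn (x : G) : ℤ := if x ^ 2 = 1 then 1 else -1

open Classical in
/-- `1` on commuting pairs, `-1` elsewhere. -/
private noncomputable def cm (x z : G) : ℤ := if Commute x z then 1 else -1

private theorem setup [Finite G] (hG : IsPGroup 2 G) (hΦ : Nat.card (frattini G) = 2) :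
    ∃ e : G, e ≠ 1 ∧ e ∈ Subgroup.center G ∧ e * e = 1 ∧ (∀ x : G, x ∈ frattini G ↔ x = 1 ∨ x = e) := by
  obtain ⟨⟨e, he⟩, he1⟩ : ∃ e : frattini G, e ≠ 1 := by
    haveI : Nontrivial (frattini G) := Finite.one_lt_card_iff_nontrivial.1 (by omega)
    exact exists_ne 1
  have hmem : ∀ x : G, x ∈ frattini G ↔ x = 1 ∨ x = e := by
    intro x
    refine ⟨fun hx => ?_, by rintro (rfl | rfl); exacts [one_mem _, he]⟩
    by_contra hc
    push Not at hc
    letI := Fintype.ofFinite (frattini G)
    classical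
    have h3 : ({1, ⟨e, he⟩, ⟨x, hx⟩} : Finset (frattini G)).card = 3 := by
      rw [Finset.card_insert_of_notMem (by simp [Ne.symm he1, Ne.symm hc.1, Subtype.ext_iff] at *),
        Finset.card_pair (fun h => hc.2 (congrArg Subtype.val h).symm)]
    have := Finset.card_le_univ ({1, ⟨e, he⟩, ⟨x, hx⟩} : Finset (frattini G))
    rw [h3, ← Nat.card_eq_fintype_card, hΦ] at this
    omega
  have hne : e ≠ 1 := fun h => he1 (Subtype.ext h)
  refine ⟨e, hne, ?_, ?_, hmem⟩
  · exact PGroups.le_center_of_card_eq (p := 2) hG (frattini G) hΦ he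
  · rcases (hmem (e * e)).1 (mul_mem he he) with h | h
    · exact h
    · exact absurd (mul_eq_left.1 h) hne

variable {e : G}

private theorem sgn_mul [Finite G] (hG : IsPGroup 2 G) (hne : e ≠ 1) (hec : e ∈ Subgroup.center G)
    (hee : e * e = 1) (hmem : ∀ x : G, x ∈ frattini G ↔ x = 1 ∨ x = e) (x z : G) :
    sgn (x * z) = sgn x * sgn z * cm x z := by
  classical
  have hpow : ∀ y : G, y ^ 2 = 1 ∨ y ^ 2 = e := fun y => (hmem _).1 (PGroups.pow_mem_frattini hG y)
  have hc : ⁅x⁻¹, z⁆ = 1 ∨ ⁅x⁻¹, z⁆ = e := (hmem _).1 (PGroups.commutator_le_frattini hG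
    (Subgroup.commutator_mem_commutator (Subgroup.mem_top _) (Subgroup.mem_top _)))
  have hexp : (x * z) ^ 2 = x ^ 2 * ⁅x⁻¹, z⁆ * z ^ 2 := by
    simp only [commutatorElement_def, pow_two]; group
  have hcomm : Commute x z ↔ ⁅x⁻¹, z⁆ = 1 := by
    rw [commutatorElement_eq_one_iff_commute]
    exact Commute.inv_left_iff.symm
  have hc2 : ∀ y : G, e * y = y * e := fun y => (Subgroup.mem_center_iff.1 hec y).symm
  unfold sgn cm
  simp only [hcomm, hexp]
  rcases hpow x with hx | hx <;> rcases hpow z with hz | hz <;> rcases hc with hk | hk <;>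
    simp [hx, hz, hk, hne, hee]

private theorem sum_cm [Finite G] [Fintype G] (hG : IsPGroup 2 G) (hne : e ≠ 1) (hec : e ∈ Subgroup.center G)
    (hee : e * e = 1) (hmem : ∀ x : G, x ∈ frattini G ↔ x = 1 ∨ x = e) (z : G)
    [Decidable (z ∈ Subgroup.center G)] :
    ∑ x : G, cm x z = if z ∈ Subgroup.center G then (Fintype.card G : ℤ) else 0 := by
  classical
  split_ifs with hz
  · have : ∀ x : G, cm x z = 1 := fun x => by
      simp [cm, show Commute x z from Subgroup.mem_center_iff.1 hz x]
    simp [this]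
  · obtain ⟨x₀, hx₀⟩ : ∃ x₀, ¬ Commute x₀ z := by
      by_contra h
      push Not at h
      exact hz (Subgroup.mem_center_iff.2 h)
    have hc : ∀ x : G, ⁅x, z⁆ = 1 ∨ ⁅x, z⁆ = e := fun x => (hmem _).1 (PGroups.commutator_le_frattini hG
      (Subgroup.commutator_mem_commutator (Subgroup.mem_top _) (Subgroup.mem_top _)))
    have h0 : ⁅x₀, z⁆ = e := (hc x₀).resolve_left fun h => hx₀ (commutatorElement_eq_one_iff_commute.1 h)
    have hflip : ∀ x, cm (x₀ * x) z = - cm x z := by
      intro x
      have e1 : ⁅x₀ * x, z⁆ = x₀ * ⁅x, z⁆ * x₀⁻¹ * ⁅x₀, z⁆ := by simp only [commutatorElement_def]; group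
      have hcc : x₀ * e * x₀⁻¹ = e := by
        rw [Subgroup.mem_center_iff.1 hec x₀, mul_inv_cancel_right]
      simp only [cm, ← commutatorElement_eq_one_iff_commute, e1]
      rcases hc x with h | h <;> simp [h, h0, hne, hcc, hee]
    have h1 : ∑ x : G, cm (x₀ * x) z = ∑ x : G, cm x z :=
      Equiv.sum_comp (Equiv.mulLeft x₀) fun x => cm x z
    simp only [hflip, Finset.sum_neg_distrib] at h1
    omega

open Classical in
/-- The square of the signed count. -/
private theorem sum_sq [Finite G] [Fintype G] (hG : IsPGroup 2 G) (hne : e ≠ 1) (hec : e ∈ Subgroup.center G)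
    (hee : e * e = 1) (hmem : ∀ x : G, x ∈ frattini G ↔ x = 1 ∨ x = e) :
    (∑ x : G, sgn x) ^ 2 = (Fintype.card G : ℤ) * ∑ z : Subgroup.center G, sgn (z : G) := by
  have hs : ∀ x : G, sgn x * sgn x = 1 := fun x => by unfold sgn; split_ifs <;> simp
  calc (∑ x : G, sgn x) ^ 2 = ∑ x : G, ∑ z : G, sgn x * sgn (x * z) := by
        rw [sq, Finset.sum_mul]
        refine Finset.sum_congr rfl fun x _ => ?_
        rw [Finset.mul_sum]
        exact (Equiv.sum_comp (Equiv.mulLeft x) fun y => sgn x * sgn y).symm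
    _ = ∑ x : G, ∑ z : G, sgn z * cm x z := by
        refine Finset.sum_congr rfl fun x _ => Finset.sum_congr rfl fun z _ => ?_
        rw [sgn_mul hG hne hec hee hmem, ← mul_assoc, ← mul_assoc, hs, one_mul]
    _ = ∑ z : G, sgn z * ∑ x : G, cm x z := by
        rw [Finset.sum_comm]
        exact Finset.sum_congr rfl fun z _ => (Finset.mul_sum _ _ _).symm
    _ = ∑ z ∈ Finset.univ.filter (· ∈ Subgroup.center G), sgn z * (Fintype.card G : ℤ) := by
        rw [Finset.sum_filter]
        refine Finset.sum_congr rfl fun z _ => ?_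
        rw [sum_cm hG hne hec hee hmem, mul_ite, mul_zero]
    _ = _ := by
        rw [← Finset.sum_mul, mul_comm]
        congr 1
        exact (Finset.sum_subtype _ (fun x => by simp) sgn)


/-- Let G be a finite 2-group whose Frattini subgroup Φ(G) has order 2, with |G : Φ(G)| = 2^d, and let j be the number of elements x of G with x² = 1. Then j = 2^d, or j = 2^d + 2^(d−r) or j = 2^d − 2^(d−r) for some positive integer r with 2r ≤ d. Moreover if d = 2r and j is 2^d + 2^r or 2^d − 2^r, then G is extraspecial. -/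
theorem result {G : Type*} [Group G] [Finite G] (hG : IsPGroup 2 G) (hΦ : Nat.card (frattini G) = 2) (d : ℕ) (hd : (frattini G).index = 2 ^ d) : (Nat.card {x : G // x ^ 2 = 1} = 2 ^ d ∨ ∃ r : ℕ, 1 ≤ r ∧ 2 * r ≤ d ∧ (Nat.card {x : G // x ^ 2 = 1} = 2 ^ d + 2 ^ (d - r) ∨ Nat.card {x : G // x ^ 2 = 1} + 2 ^ (d - r) = 2 ^ d)) ∧ (∀ r : ℕ, d = 2 * r → (Nat.card {x : G // x ^ 2 = 1} = 2 ^ d + 2 ^ r ∨ Nat.card {x : G // x ^ 2 = 1} + 2 ^ r = 2 ^ d) → Cfsg.IsExtraspecial 2 G) := by
  classical
  obtain ⟨e, hne, hec, hee, hmem⟩ := setup hG hΦ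
  letI := Fintype.ofFinite G
  set Z := Subgroup.center G with hZdef
  obtain ⟨k, hk⟩ := IsPGroup.iff_card.1 (hG.to_subgroup Z)
  have hcardG : Fintype.card G = 2 ^ (d + 1) := by
    rw [← Nat.card_eq_fintype_card, ← (frattini G).index_mul_card, hd, hΦ, pow_succ]
  set j := Nat.card {x : G // x ^ 2 = 1} with hj
  set σ := ∑ x : G, sgn x with hσdef
  have hσ : σ = 2 * (j : ℤ) - 2 ^ (d + 1) := by
    have h : ∀ x : G, sgn x = 2 * (if x ^ 2 = 1 then (1 : ℤ) else 0) - 1 := fun x => by
      unfold sgn; split_ifs <;> simp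
    rw [hσdef, Finset.sum_congr rfl fun x _ => h x, Finset.sum_sub_distrib, ← Finset.mul_sum,
      Finset.sum_boole, Finset.sum_const, Finset.card_univ, hcardG, hj, Nat.card_eq_fintype_card,
      Fintype.card_subtype, nsmul_eq_mul, mul_one]
    push_cast
    rfl
  have hsq := sum_sq hG hne hec hee hmem
  have hdich : (σ = 0) ∨ ((σ ^ 2 = 2 ^ (d + 1) * 2 ^ k) ∧ ∀ z ∈ Z, z ^ 2 = 1) := by
    by_cases hall : ∀ z ∈ Z, z ^ 2 = 1
    · right
      refine ⟨?_, hall⟩
      rw [hsq, hcardG]
      have : ∀ z : Z, sgn (z : G) = 1 := fun z => if_pos (hall z z.2)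
      have hcZ : Fintype.card Z = 2 ^ k := by rw [← Nat.card_eq_fintype_card, hk]
      simp only [this, Finset.sum_const, Finset.card_univ, nsmul_eq_mul, mul_one]
      rw [show Fintype.card (Subgroup.center G) = 2 ^ k from hcZ]
      push_cast
      rfl
    · left
      push Not at hall
      obtain ⟨w, hw, hw2⟩ := hall
      have hflip : ∀ z : Z, sgn ((⟨w, hw⟩ * z : Z) : G) = - sgn (z : G) := fun z => by
        rw [Subgroup.coe_mul, sgn_mul hG hne hec hee hmem]
        have h1 : sgn w = -1 := if_neg hw2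
        have h2 : cm w (z : G) = 1 := if_pos (Subgroup.mem_center_iff.1 z.2 w)
        rw [h1, h2]; ring
      have h := Equiv.sum_comp (Equiv.mulLeft (⟨w, hw⟩ : Z)) (fun z => sgn (z : G))
      simp only [Equiv.coe_mulLeft, hflip, Finset.sum_neg_distrib] at h
      have h0 : ∑ z : Z, sgn (z : G) = 0 := by omega
      rw [h0, mul_zero] at hsq
      exact pow_eq_zero_iff two_ne_zero |>.1 hsq
  have heZ : frattini G ≤ Z := fun x hx => by
    rcases (hmem x).1 hx with rfl | rfl
    exacts [one_mem _, hec]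
  have hk1 : 1 ≤ k := by
    by_contra h
    have h1 := Subgroup.card_le_of_le heZ
    rw [hΦ, hk, show k = 0 by omega] at h1
    simp at h1
  rcases hdich with h0 | ⟨h2, hall⟩
  · refine ⟨Or.inl ?_, ?_⟩
    · have hj' : (j : ℤ) = 2 ^ d := by rw [hσ, pow_succ] at h0; linarith
      exact_mod_cast hj'
    · intro r _ hr
      exfalso
      have hj' : (j : ℤ) = 2 ^ d := by rw [hσ, pow_succ] at h0; linarith
      have hr0 : (0 : ℕ) < 2 ^ r := by positivity
      have : j = 2 ^ d := by exact_mod_cast hj'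
      omega
  · have hkd : k + 1 ≤ d := by
      have hne' : Z ≠ ⊤ := by
        intro htop
        apply hne
        have hle : frattini G ≤ (⊥ : Subgroup G) := by
          refine PGroups.frattini_le_of_commutator_le (p := 2) ⊥ ?_ fun x => ?_
          · rw [commutator, Subgroup.commutator_le]
            intro a _ b _
            rw [Subgroup.mem_bot, commutatorElement_eq_one_iff_mul_comm]
            exact Subgroup.mem_center_iff.1 (hZdef ▸ htop ▸ Subgroup.mem_top b) a
          · rw [Subgroup.mem_bot]; exact hall x (htop ▸ Subgroup.mem_top x)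
        exact Subgroup.mem_bot.1 (hle ((hmem e).2 (Or.inr rfl)))
      obtain ⟨c, hc⟩ := hG.index Z
      have h1 := Z.index_mul_card
      rw [hc, hk, Nat.card_eq_fintype_card, hcardG, ← pow_add] at h1
      have h4 := Nat.pow_right_injective le_rfl h1
      have hc1 : c ≠ 0 := fun h => hne' (Subgroup.index_eq_one.1 (by rw [hc, h, pow_zero]))
      have h3 : c ≠ 1 := fun h => PGroups.center_index_ne_prime (p := 2) (G := G) (by rw [← hZdef, hc, h, pow_one])
      omega
    have hN : σ.natAbs ^ 2 = 2 ^ (d + 1 + k) := by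
      have h : ((σ.natAbs ^ 2 : ℕ) : ℤ) = ((2 ^ (d + 1 + k) : ℕ) : ℤ) := by
        push_cast
        rw [sq_abs, h2, ← pow_add]
      exact_mod_cast h
    obtain ⟨s, hs⟩ : ∃ s, σ.natAbs = 2 ^ s := by
      have hd2 : σ.natAbs ∣ 2 ^ (d + 1 + k) := ⟨σ.natAbs, by rw [← hN, sq]⟩
      obtain ⟨s, -, hs⟩ := (Nat.dvd_prime_pow Nat.prime_two).1 hd2
      exact ⟨s, hs⟩
    have h2s : 2 * s = d + 1 + k := by
      have h' : (2 : ℕ) ^ (s * 2) = 2 ^ (d + 1 + k) := by rw [← hN, hs, ← pow_mul]
      have := Nat.pow_right_injective le_rfl h'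
      omega
    obtain ⟨s, rfl⟩ : ∃ s', s = s' + 1 := ⟨s - 1, by omega⟩
    have hcases : j = 2 ^ d + 2 ^ s ∨ j + 2 ^ s = 2 ^ d := by
      rcases Int.natAbs_eq σ with h | h <;> rw [hs, hσ] at h <;> push_cast at h <;> rw [pow_succ, pow_succ] at h
      · left
        have : (j : ℤ) = 2 ^ d + 2 ^ s := by linarith
        exact_mod_cast this
      · right
        have : (j : ℤ) + 2 ^ s = 2 ^ d := by linarith
        exact_mod_cast this
    have hsd : s ≤ d := by omega
    constructor
    · right
      refine ⟨d - s, by omega, by omega, ?_⟩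
      rwa [show d - (d - s) = s by omega]
    · intro r hdr hr
      have hsr : s = r := by
        have : (2 : ℕ) ^ s = 2 ^ r := by
          have := Nat.pow_le_pow_right (show 0 < 2 by norm_num) (show r ≤ d by omega)
          have hp2 : 0 < (2 : ℕ) ^ r := by positivity
          omega
        exact Nat.pow_right_injective le_rfl this
      have hk' : k = 1 := by omega
      have hZΦ : frattini G = Z := Subgroup.eq_of_le_of_card_ge heZ (by rw [hk, hk', hΦ, pow_one])
      refine ⟨⟨hG, hZΦ, le_antisymm ?_ ?_⟩, by rw [hk, hk', pow_one]⟩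
      · exact (PGroups.commutator_le_frattini hG).trans hZΦ.le
      · intro z hz
        rcases (hmem z).1 (hZΦ.ge hz) with rfl | rfl
        · exact one_mem _
        · by_contra hzc
          have htop : Subgroup.center G = ⊤ := by
            rw [eq_top_iff]
            intro a _
            rw [Subgroup.mem_center_iff]
            intro b
            refine commutatorElement_eq_one_iff_mul_comm.1 ?_
            rcases (hmem ⁅b, a⁆).1 (PGroups.commutator_le_frattini hG
              (Subgroup.commutator_mem_commutator (Subgroup.mem_top _) (Subgroup.mem_top _))) with h | h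
            · exact h
            · exact absurd (h ▸ Subgroup.commutator_mem_commutator (Subgroup.mem_top b) (Subgroup.mem_top a)) hzc
          have : k = d + 1 := by
            have h1 := congrArg (fun H : Subgroup G => Nat.card H) htop
            simp only [Subgroup.card_top] at h1
            rw [← hZdef, hk, Nat.card_eq_fintype_card, hcardG] at h1
            exact Nat.pow_right_injective le_rfl h1
          omega

end Cfsg.Agent.S3772
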