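import Cfsg.Statements.S3773
import Cfsg.Agent.H71.DegreeTwo
import Cfsg.Agent.PGroups.Basic

set_option autoImplicit false
open Cfsg

namespace Cfsg.Agent.S3773

open scoped commutatorElement

variable {G : Type*} [Group G]

private theorem card_mul_relIndex {H K : Subgroup G} (h : H ≤ K) :
    H.relIndex K * Nat.card H = Nat.card K := by
  have := (H.subgroupOf K).index_mul_card
  rwa [Nat.card_congr (Subgroup.subgroupOfEquivOfLe h).toEquiv] at this

private theorem structure_facts (hcl : (⊤ : Subgroup G).lowerCentralSeries 2 = ⊥) (hexp : ∀ x : G, x ^ 4 = 1) :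
    (∀ x : G, x ^ 2 ∈ Subgroup.center G) ∧ (∀ a b : G, ⁅a, b⁆ ∈ Subgroup.center G ∧ ⁅a, b⁆ ^ 2 = 1) := by
  have hC : ∀ a b : G, ⁅a, b⁆ ∈ Subgroup.center G := by
    intro a b
    rw [Subgroup.mem_center_iff]
    intro g
    have h : ⁅⁅a, b⁆, g⁆ ∈ (⊤ : Subgroup G).lowerCentralSeries 2 :=
      Subgroup.commutator_mem_commutator
        (Subgroup.commutator_mem_commutator (Subgroup.mem_top a) (Subgroup.mem_top b)) (Subgroup.mem_top g)
    rw [hcl, Subgroup.mem_bot] at h
    exact (commutatorElement_eq_one_iff_mul_comm.1 h).symm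
  have hz : ∀ a b g : G, ⁅a, b⁆ * g = g * ⁅a, b⁆ := fun a b g => (Subgroup.mem_center_iff.1 (hC a b) g).symm
  have hmul : ∀ a a' b : G, ⁅a * a', b⁆ = ⁅a, b⁆ * ⁅a', b⁆ := by
    intro a a' b
    have e : ⁅a * a', b⁆ = a * ⁅a', b⁆ * a⁻¹ * ⁅a, b⁆ := by simp only [commutatorElement_def]; group
    rw [e, ← hz a' b a, mul_inv_cancel_right, hz]
  have hpow : ∀ (n : ℕ) (a b : G), ⁅a ^ n, b⁆ = ⁅a, b⁆ ^ n := by
    intro n a b
    induction n with
    | zero => simp
    | succ n ih => rw [pow_succ, hmul, ih, pow_succ]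
  have hexpand : ∀ a b : G, (a * b) ^ 2 = a ^ 2 * b ^ 2 * ⁅a⁻¹, b⁆ := by
    intro a b
    have e : (a * b) ^ 2 = a ^ 2 * ⁅a⁻¹, b⁆ * b ^ 2 := by simp only [commutatorElement_def, pow_two]; group
    rw [e, mul_assoc, hz, mul_assoc]
  have h2 : ∀ a b : G, ⁅a, b⁆ ^ 2 = 1 := by
    intro a b
    have h4 : ∀ c d : G, ⁅c, d⁆ ^ 4 = 1 := fun c d => by rw [← hpow, hexp, commutatorElement_one_left]
    have h0 : 1 = a⁻¹ ^ 4 * b ^ 4 * ⁅(a⁻¹ ^ 2)⁻¹, b ^ 2⁆ * ⁅a⁻¹⁻¹, b⁆ ^ 2 := by
      rw [← hexp (a⁻¹ * b), show 4 = 2 * 2 from rfl, pow_mul, hexpand a⁻¹ b,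
        Commute.mul_pow (a := a⁻¹ ^ 2 * b ^ 2) (hz _ _ _).symm, hexpand, ← pow_mul, ← pow_mul]
    have hzero : ⁅(a⁻¹ ^ 2)⁻¹, b ^ 2⁆ = 1 := by
      have hl : ∀ c d : G, ⁅c, d ^ 2⁆ = ⁅c, d⁆ ^ 2 := by
        intro c d
        rw [← commutatorElement_inv, hpow, ← inv_pow, commutatorElement_inv]
      rw [inv_pow, inv_inv, hl, hpow, ← pow_mul, h4]
    rw [inv_inv, hexp, hexp, hzero, one_mul, one_mul, one_mul] at h0
    exact h0.symm
  refine ⟨fun x => ?_, fun a b => ⟨hC a b, h2 a b⟩⟩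
  rw [Subgroup.mem_center_iff]
  intro g
  refine (commutatorElement_eq_one_iff_mul_comm.1 ?_).symm
  rw [hpow, h2]

open Classical in
/-- The key counting bound. -/
private theorem main_bound [Finite G] (hG : IsPGroup 2 G) (M C : Subgroup G) [M.Normal]
    (f : G → ZMod 2) (hfM : ∀ x y, (x⁻¹ * y) ∈ M → f x = f y) (hf1 : f 1 = 1)
    (hCM : M ≤ C) (hCf : ∀ x ∈ C, f x ≠ 0 → x ∈ M)
    {n : ℕ} (hdeg : H71.DegLE n f) : Nat.card C ≤ 2 ^ n * Nat.card M := by
  by_contra hc
  push Not at hc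
  let F : G ⧸ M → ZMod 2 := fun q => f q.out
  have hF : ∀ x : G, F (QuotientGroup.mk' M x) = f x := by
    intro x
    apply hfM
    rw [← QuotientGroup.eq, QuotientGroup.out_eq']
    rfl
  have hdegF : H71.DegLE n F := H71.degLE_of_comp (QuotientGroup.mk'_surjective M) (by simpa only [hF] using hdeg)
  have hcard : Nat.card C = Nat.card (C.map (QuotientGroup.mk' M)) * Nat.card M := by
    have h := Subgroup.index_ker ((QuotientGroup.mk' M).comp C.subtype)
    rw [MonoidHom.range_comp, C.range_subtype, ← MonoidHom.comap_ker, QuotientGroup.ker_mk'] at h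
    have h2 := (Subgroup.comap C.subtype M).index_mul_card
    rw [h, show Subgroup.comap C.subtype M = M.subgroupOf C from rfl,
      Nat.card_congr (Subgroup.subgroupOfEquivOfLe hCM).toEquiv] at h2
    exact h2.symm
  rw [hcard] at hc
  obtain ⟨q, hqC, hq1, hq⟩ := H71.exists_ne_one_ne_zero hdegF
    (by rw [show (1 : G ⧸ M) = QuotientGroup.mk' M 1 from rfl, hF, hf1])
    ((hG.to_quotient M).to_subgroup _) (Nat.lt_of_mul_lt_mul_right hc)
  obtain ⟨x, hx, rfl⟩ := hqC
  rw [hF] at hq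
  exact hq1 ((QuotientGroup.eq_one_iff x).2 (hCf x hx hq))

private theorem mem_zpowers_iff_of_sq {c : G} (hc : c ^ 2 = 1) (x : G) :
    x ∈ Subgroup.zpowers c ↔ x = 1 ∨ x = c := by
  constructor
  · rintro ⟨i, rfl⟩
    have h2 : c ^ (2 : ℤ) = 1 := by rw [show (2 : ℤ) = ((2 : ℕ) : ℤ) from rfl, zpow_natCast]; exact hc
    rcases Int.even_or_odd' i with ⟨q, rfl | rfl⟩
    · left; simp [zpow_mul, h2]
    · right; simp [zpow_add, zpow_mul, h2]
  · rintro (rfl | rfl)
    exacts [one_mem _, Subgroup.mem_zpowers _]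


/-- Let G be a finite 2-group of nilpotency class at most 2 and exponent dividing 4 in which the elements x with x² = 1 form a subgroup N. Then |G| ≤ |N|³, and |G| < |N|³ unless G is special. -/
theorem result {G : Type*} [Group G] [Finite G] (hG : IsPGroup 2 G) (hcl : (⊤ : Subgroup G).lowerCentralSeries 2 = ⊥) (hexp : ∀ x : G, x ^ 4 = 1) (hN : ∀ x y : G, x ^ 2 = 1 → y ^ 2 = 1 → (x * y) ^ 2 = 1) : Nat.card G ≤ Nat.card {x : G // x ^ 2 = 1} ^ 3 ∧ (¬ Cfsg.IsSpecial 2 G → Nat.card G < Nat.card {x : G // x ^ 2 = 1} ^ 3) := by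
  classical
  obtain ⟨hsqZ, hcomm⟩ := structure_facts hcl hexp
  let N : Subgroup G :=
    { carrier := {x | x ^ 2 = 1}
      one_mem' := one_pow 2
      mul_mem' := fun {a b} ha hb => hN a b ha hb
      inv_mem' := fun {a} ha => by simp only [Set.mem_setOf_eq] at *; rw [inv_pow, ha, inv_one] }
  have hNmem : ∀ x, x ∈ N ↔ x ^ 2 = 1 := fun x => Iff.rfl
  rw [show Nat.card {x : G // x ^ 2 = 1} = Nat.card N from rfl]
  let M : Subgroup G := Subgroup.closure (Set.range fun x : G => x ^ 2)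
  have hsq : ∀ x : G, x ^ 2 ∈ M := fun x => Subgroup.subset_closure ⟨x, rfl⟩
  have hMc : M ≤ Subgroup.center G := (Subgroup.closure_le _).2 (by rintro _ ⟨x, rfl⟩; exact hsqZ x)
  have hMN : M ≤ N := (Subgroup.closure_le _).2 (by
    rintro _ ⟨x, rfl⟩; show (x ^ 2) ^ 2 = 1; rw [← pow_mul]; exact hexp x)
  have hM2 : ∀ m ∈ M, m ^ 2 = 1 := fun m hm => hMN hm
  haveI hMn : M.Normal := Subgroup.Normal.mk fun m hm g => by
    rw [Subgroup.mem_center_iff.1 (hMc hm) g, mul_inv_cancel_right]; exact hm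
  have hcM : ∀ a b : G, ⁅a, b⁆ ∈ M := by
    intro x y
    have e : ⁅x, y⁆ = x ^ 2 * (x⁻¹ * y) ^ 2 * (y ^ 2)⁻¹ := by
      simp only [commutatorElement_def, pow_two]; group
    rw [e]; exact mul_mem (mul_mem (hsq x) (hsq _)) (inv_mem (hsq y))
  haveI hNn : N.Normal := Subgroup.Normal.mk fun n hn g => by
    show (g * n * g⁻¹) ^ 2 = 1
    rw [conj_pow, (hNmem n).1 hn, mul_one, mul_inv_cancel]
  obtain ⟨w, hw⟩ := IsPGroup.iff_card.1 (hG.to_subgroup M)
  obtain ⟨C, ⟨hMC, hCN⟩, hmax⟩ := (Set.toFinite {C : Subgroup G | M ≤ C ∧ ∀ x ∈ C, x ∈ N → x ∈ M}).exists_maximal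
    ⟨M, le_rfl, fun x hx _ => hx⟩
  haveI hCn : C.Normal := Subgroup.Normal.mk fun c hc g => by
    have e : g * c * g⁻¹ = ⁅g, c⁆ * c := by simp only [commutatorElement_def]; group
    rw [e]; exact mul_mem (hMC (hcM g c)) hc
  have htop : C ⊔ N = ⊤ := by
    rw [eq_top_iff]
    intro x _
    by_contra hx
    have hxC : x ∉ C := fun h => hx (Subgroup.mem_sup_left h)
    refine hxC (hmax (y := C ⊔ Subgroup.zpowers x) ⟨hMC.trans le_sup_left, ?_⟩ le_sup_left
      (Subgroup.mem_sup_right (Subgroup.mem_zpowers x)))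
    intro y hy hyN
    obtain ⟨c, hc, z, hz, rfl⟩ := Subgroup.mem_sup_of_normal_left.1 hy
    obtain ⟨i, rfl⟩ := Subgroup.mem_zpowers_iff.1 hz
    have hx2 : x ^ (2 : ℤ) ∈ M := by rw [show (2 : ℤ) = ((2 : ℕ) : ℤ) from rfl, zpow_natCast]; exact hsq x
    rcases Int.even_or_odd' i with ⟨q, rfl | rfl⟩
    · exact hCN _ (mul_mem hc (hMC (by rw [zpow_mul]; exact M.zpow_mem hx2 q))) hyN
    · exfalso
      apply hx
      rw [zpow_add, zpow_mul, zpow_one] at hyN
      have : x = (c * (x ^ (2 : ℤ)) ^ q)⁻¹ * (c * ((x ^ (2 : ℤ)) ^ q * x)) := by group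
      rw [this]
      exact mul_mem (inv_mem (Subgroup.mem_sup_left (mul_mem hc (hMC (M.zpow_mem hx2 q))))) (Subgroup.mem_sup_right hyN)
  have hinf : C ⊓ N = M := le_antisymm (fun x hx => hCN x hx.1 hx.2) (le_inf hMC hMN)
  have hcards : Nat.card C * Nat.card N = Nat.card G * Nat.card M := by
    have h1 : N.relIndex C = N.relIndex (C ⊔ N) := (Subgroup.relIndex_sup_right C N).symm
    rw [htop, Subgroup.relIndex_top_right, ← Subgroup.inf_relIndex_left, hinf] at h1
    have h2 := card_mul_relIndex hMC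
    rw [h1] at h2
    rw [← h2, ← N.index_mul_card]; ring
  let δ : G → ZMod 2 := fun x => if x ^ 2 ∈ (⊥ : Subgroup G) then 1 else 0
  have hδM : ∀ x y, (x⁻¹ * y) ∈ M → ∀ K : Subgroup G, (x ^ 2 ∈ K ↔ y ^ 2 ∈ K) := by
    intro x y h K
    obtain ⟨m, hm, rfl⟩ : ∃ m ∈ M, y = x * m := ⟨x⁻¹ * y, h, by simp⟩
    rw [Commute.mul_pow (show Commute x m from Subgroup.mem_center_iff.1 (hMc hm) x), hM2 m hm, mul_one]
  have hdeg := H71.degLE_sq_mem hMc hsq hM2 w ⊥ bot_le (by simp [hw])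
  have hz : ∀ x, δ x ≠ 0 → x ∈ N := fun x hx => by
    by_contra hxN
    exact hx (if_neg (fun h => hxN (Subgroup.mem_bot.1 h)))
  have hC := main_bound hG M C δ (fun x y h => by simp only [δ, hδM x y h]) (by simp [δ]) hMC
    (fun x hx h => hCN x hx (hz x h)) hdeg
  have hMNle := Subgroup.card_le_of_le hMN
  have hNpos : 0 < Nat.card N := Nat.card_pos
  have hMpos : 0 < Nat.card M := Nat.card_pos
  have hw2 : 2 ^ (2 * w) = Nat.card M * Nat.card M := by rw [hw, two_mul, pow_add]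
  rw [hw2] at hC
  have hGle : Nat.card G ≤ Nat.card M * Nat.card M * Nat.card N := by
    refine Nat.le_of_mul_le_mul_right ?_ hMpos
    calc Nat.card G * Nat.card M = Nat.card C * Nat.card N := hcards.symm
      _ ≤ Nat.card M * Nat.card M * Nat.card M * Nat.card N := Nat.mul_le_mul_right _ hC
      _ = Nat.card M * Nat.card M * Nat.card N * Nat.card M := by ring
  have hle : Nat.card G ≤ Nat.card N ^ 3 := by
    refine hGle.trans ?_
    rw [show Nat.card N ^ 3 = Nat.card N * Nat.card N * Nat.card N by ring]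
    exact Nat.mul_le_mul_right _ (Nat.mul_le_mul hMNle hMNle)
  refine ⟨hle, fun hns => ?_⟩
  refine lt_of_le_of_ne hle fun heq => hns ?_
  -- equality forces `N = M` and `C` to be everything
  have hMeq : M = N := by
    refine Subgroup.eq_of_le_of_card_ge hMN ?_
    by_contra hlt
    push Not at hlt
    have h1 : Nat.card M * Nat.card M * Nat.card N < Nat.card N * Nat.card N * Nat.card N :=
      (Nat.mul_lt_mul_right hNpos).2 (Nat.mul_lt_mul'' hlt hlt)
    rw [show Nat.card N * Nat.card N * Nat.card N = Nat.card N ^ 3 by ring, ← heq] at h1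
    omega
  have hG3 : Nat.card G = 2 ^ (2 * w) * Nat.card M := by rw [hw2, heq, ← hMeq]; ring
  have hkey : ∀ (n : ℕ) (K : Subgroup G) (D : Subgroup G),
      H71.DegLE n (fun x : G => if x ^ 2 ∈ K then (1 : ZMod 2) else 0) →
      (∀ x ∈ D, x ^ 2 ∈ K → x ∈ M) → M ≤ D → Nat.card D ≤ 2 ^ n * Nat.card M := by
    intro n K D hd hDK hMD
    exact main_bound hG M D _ (fun x y h => by simp only [hδM x y h]) (by simp) hMD
      (fun x hx h => hDK x hx (by by_contra h'; exact h (if_neg h'))) hd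
  have hKcard : ∀ z ∈ M, z ≠ 1 → Nat.card M ≤ 2 ^ (w - 1) * Nat.card (Subgroup.zpowers z) ∧ 1 ≤ w := by
    intro z hzM hz1
    have ho : orderOf z = 2 := orderOf_eq_prime (hM2 z hzM) hz1
    have hw1 : 1 ≤ w := by
      by_contra h
      have : M = ⊥ := Subgroup.card_eq_one.1 (by rw [hw, show w = 0 by omega, pow_zero])
      exact hz1 (Subgroup.mem_bot.1 (this ▸ hzM))
    rw [Nat.card_zpowers, ho, ← pow_succ, show w - 1 + 1 = w by omega, hw]
    exact ⟨le_rfl, hw1⟩
  have hΦ : frattini G = M := by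
    refine le_antisymm (PGroups.frattini_le_of_commutator_le (p := 2) M ?_ hsq) ((Subgroup.closure_le _).2 ?_)
    · rw [commutator, Subgroup.commutator_le]; exact fun a _ b _ => hcM a b
    · rintro _ ⟨x, rfl⟩; exact PGroups.pow_mem_frattini hG x
  have hZM : Subgroup.center G = M := by
    refine le_antisymm (fun z hz => ?_) hMc
    by_contra hzM
    set c := z ^ 2 with hc
    have hc1 : c ≠ 1 := fun h => hzM (hMeq ▸ h)
    obtain ⟨hK, hw1⟩ := hKcard c (hsq z) hc1
    have hd := H71.degLE_sq_mem hMc hsq hM2 (w - 1) (Subgroup.zpowers c) (Subgroup.zpowers_le.2 (hsq z)) hK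
    -- a subgroup of index two through `M` avoiding `z`
    have hQ2 : ∀ m : G ⧸ M, m ^ 2 = 1 := fun m => by
      induction m using QuotientGroup.induction_on with
      | H m => exact (QuotientGroup.eq_one_iff _).2 (hsq m)
    have hQc : (⊤ : Subgroup (G ⧸ M)) ≤ Subgroup.center (G ⧸ M) := fun a _ => by
      rw [Subgroup.mem_center_iff]
      intro b
      induction a using QuotientGroup.induction_on with
      | H a =>
        induction b using QuotientGroup.induction_on with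
        | H b =>
          rw [← commutatorElement_eq_one_iff_mul_comm]
          show QuotientGroup.mk' M b * QuotientGroup.mk' M a * (QuotientGroup.mk' M b)⁻¹ *
            (QuotientGroup.mk' M a)⁻¹ = 1
          rw [← map_inv, ← map_inv, ← map_mul, ← map_mul, ← map_mul]
          exact (QuotientGroup.eq_one_iff _).2 (hcM b a)
    obtain ⟨L, -, -, hzL, hL2⟩ := H71.exists_index_two hQc (fun m _ => hQ2 m) (K := ⊥) bot_le
      (z := (z : G ⧸ M)) trivial (fun h => hzM ((QuotientGroup.eq_one_iff z).1 h))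
    set D := L.comap (QuotientGroup.mk' M) with hD
    have hDidx : D.index = 2 := by
      rw [hD, L.index_comap_of_surjective (QuotientGroup.mk'_surjective M)]
      rw [← L.relIndex_top_right]; exact hL2
    have hMD : M ≤ D := fun m hm => by
      show (m : G ⧸ M) ∈ L
      rw [(QuotientGroup.eq_one_iff m).2 hm]; exact one_mem L
    have hb := hkey _ _ D hd ?_ hMD
    · have hcd := D.index_mul_card
      rw [hDidx, hG3, show 2 * w = 2 * (w - 1) + 1 + 1 by omega, pow_succ, pow_succ] at hcd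
      have : 0 < 2 ^ (2 * (w - 1)) * Nat.card M := Nat.mul_pos (by positivity) hMpos
      linarith
    · intro x hxD hx
      rcases (mem_zpowers_iff_of_sq (hM2 c (hsq z)) (x ^ 2)).1 hx with h | h
      · exact hMeq ▸ h
      · exfalso
        have h1 : x * z ∈ M := by
          rw [hMeq]
          show (x * z) ^ 2 = 1
          rw [Commute.mul_pow (show Commute x z from Subgroup.mem_center_iff.1 hz x), h]
          rw [← hc, ← pow_two, hM2 c (hsq z)]
        have : (z : G) ∈ D := by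
          have := mul_mem (inv_mem hxD) (hMD h1)
          rwa [inv_mul_cancel_left] at this
        exact hzL this
  refine ⟨hG, hΦ.trans hZM.symm, le_antisymm ?_ ?_⟩
  · rw [hZM, commutator, Subgroup.commutator_le]; exact fun a _ b _ => hcM a b
  · rw [hZM]
    intro z hzM
    by_contra hzD
    have hDM : commutator G ≤ M := by rw [commutator, Subgroup.commutator_le]; exact fun a _ b _ => hcM a b
    have hz1 : z ≠ 1 := fun h => hzD (h ▸ one_mem _)
    obtain ⟨L, hKL, hLM, hzL, hL2⟩ := H71.exists_index_two hMc hM2 hDM hzM hzD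
    obtain ⟨hK, hw1⟩ := hKcard z hzM hz1
    have h2 := H71.degLE_sq_mem hMc hsq hM2 (w - 1) (Subgroup.zpowers z) (Subgroup.zpowers_le.2 hzM) hK
    have h1 := H71.degLE_sq_mem_of_index_two hMc hsq hLM hL2 (n := 1) (Or.inr ⟨rfl, hKL⟩)
    have e : (fun x : G => if x ^ 2 ∈ (⊥ : Subgroup G) then (1 : ZMod 2) else 0) =
        fun x => (if x ^ 2 ∈ L then 1 else 0) * (if x ^ 2 ∈ Subgroup.zpowers z then 1 else 0) := by
      funext x
      by_cases h : x ^ 2 = 1
      · simp [h]
      · have : ¬ (x ^ 2 ∈ L ∧ x ^ 2 ∈ Subgroup.zpowers z) := by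
          rintro ⟨hl, hp⟩
          rcases (mem_zpowers_iff_of_sq (hM2 z hzM) (x ^ 2)).1 hp with h' | h'
          · exact h h'
          · exact hzL (h' ▸ hl)
        rw [Subgroup.mem_bot, if_neg h]
        by_cases hl : x ^ 2 ∈ L
        · rw [if_neg (fun hp => this ⟨hl, hp⟩), mul_zero]
        · rw [if_neg hl, zero_mul]
    have hb := hkey _ ⊥ ⊤ (e ▸ h1.mul h2) (fun x _ hx => hMeq ▸ (Subgroup.mem_bot.1 hx)) le_top
    rw [Subgroup.card_top, hG3, show 2 * w = 1 + 2 * (w - 1) + 1 by omega, pow_succ] at hb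
    have : 0 < 2 ^ (1 + 2 * (w - 1)) * Nat.card M := Nat.mul_pos (by positivity) hMpos
    linarith

end Cfsg.Agent.S3773
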