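import Cfsg.Statements.S3774
-- import your own Cfsg.Agent.* helpers here

set_option autoImplicit false
open Cfsg

namespace Cfsg.Agent.S3774

/-- Let G be a nontrivial finite 2-group whose automorphism group permutes the involutions of G transitively. Then every involution of G is central, so that the involutions together with 1 form the subgroup Ω₁(Z(G)), and if this subgroup has order q then |G| is a power of q. -/
theorem result {G : Type*} [Group G] [Finite G] [Nontrivial G] (hG : IsPGroup 2 G) (htrans : ∀ x y : G, x ≠ 1 → x ^ 2 = 1 → y ≠ 1 → y ^ 2 = 1 → ∃ a : MulAut G, a x = y) : (∀ x : G, x ^ 2 = 1 → x ∈ Subgroup.center G) ∧ ∃ m : ℕ, Nat.card G = Nat.card {z : G // z ^ 2 = 1} ^ m := by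
  classical
  obtain ⟨z₀, hz₀⟩ : ∃ z : G, z ∈ Subgroup.center G ∧ z ≠ 1 ∧ z ^ 2 = 1 := by
    haveI := hG.center_nontrivial
    obtain ⟨k, hk⟩ := IsPGroup.iff_card.1 (hG.to_subgroup (Subgroup.center G))
    have h2 : 2 ∣ Nat.card (Subgroup.center G) := by
      have h1 : 1 < Nat.card (Subgroup.center G) := Finite.one_lt_card
      rw [hk] at h1 ⊢
      exact dvd_pow_self 2 (fun h0 => by simp [h0] at h1)
    haveI : Fact (Nat.Prime 2) := ⟨Nat.prime_two⟩
    obtain ⟨z, hz⟩ := exists_prime_orderOf_dvd_card' 2 h2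
    obtain ⟨h2', h1'⟩ := orderOf_eq_prime_iff.1 hz
    exact ⟨z, z.2, fun h => h1' (Subtype.ext h), by exact_mod_cast h2'⟩
  have hcen : ∀ x : G, x ^ 2 = 1 → x ∈ Subgroup.center G := by
    intro x hx
    by_cases hx1 : x = 1
    · rw [hx1]; exact one_mem _
    · obtain ⟨a, ha⟩ := htrans z₀ x hz₀.2.1 hz₀.2.2 hx1 hx
      rw [← ha, Subgroup.mem_center_iff]
      intro g
      obtain ⟨g', rfl⟩ := a.surjective g
      rw [← map_mul, ← map_mul, Subgroup.mem_center_iff.1 hz₀.1 g']
  refine ⟨hcen, ?_⟩
  let E : Subgroup G :=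
    { carrier := {z | z ^ 2 = 1}
      one_mem' := one_pow 2
      mul_mem' := fun {a b} ha hb => by
        simp only [Set.mem_setOf_eq] at *
        rw [Commute.mul_pow (show Commute a b from (Subgroup.mem_center_iff.1 (hcen b hb) a)), ha, hb, one_mul]
      inv_mem' := fun {a} ha => by
        simp only [Set.mem_setOf_eq] at *
        rw [inv_pow, ha, inv_one] }
  have hcardE : Nat.card {z : G // z ^ 2 = 1} = Nat.card E := rfl
  rw [hcardE]
  obtain ⟨m, hm⟩ := IsPGroup.iff_card.1 (hG.to_subgroup E)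
  obtain ⟨n, hn⟩ := IsPGroup.iff_card.1 hG
  have key : 2 ^ m - 1 ∣ 2 ^ n - 1 := by
    -- each automorphism orbit on non-identity elements has size divisible by `#E - 1`
    let A := MulAut G
    have orbitE : MulAction.orbit A z₀ = (E : Set G) \ {1} := by
      ext e
      constructor
      · rintro ⟨a, rfl⟩
        refine ⟨?_, ?_⟩
        · show (a z₀) ^ 2 = 1
          rw [← map_pow, hz₀.2.2, map_one]
        · show a z₀ ≠ 1
          simpa using hz₀.2.1
      · rintro ⟨he, he1⟩
        obtain ⟨a, ha⟩ := htrans z₀ e hz₀.2.1 hz₀.2.2 he1 he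
        exact ⟨a, ha⟩
    have hindex : (MulAction.stabilizer A z₀).index = 2 ^ m - 1 := by
      rw [MulAction.index_stabilizer, orbitE, Set.ncard_sdiff (by simpa using E.one_mem),
        Set.ncard_singleton, Set.ncard, ← hm]
      rfl
    have hdvd : ∀ x : G, x ≠ 1 → 2 ^ m - 1 ∣ Nat.card (MulAction.orbit A x) := by
      intro x hx
      obtain ⟨e, he1, he2, hfix⟩ : ∃ e : G, e ≠ 1 ∧ e ^ 2 = 1 ∧ ∀ a : A, a x = x → a e = e := by
        obtain ⟨k, hk⟩ := IsPGroup.iff_orderOf.1 hG x
        obtain ⟨k, rfl⟩ : ∃ j, k = j + 1 := ⟨k - 1, by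
          rcases k with _ | k
          · exact absurd (orderOf_eq_one_iff.1 (by simpa using hk)) hx
          · rfl⟩
        refine ⟨x ^ 2 ^ k, ?_, ?_, fun a ha => by rw [map_pow, ha]⟩
        · exact pow_ne_one_of_lt_orderOf (by positivity)
            (by rw [hk]; exact Nat.pow_lt_pow_right (by norm_num) (by omega))
        · rw [← pow_mul, ← pow_succ, ← hk, pow_orderOf_eq_one]
      obtain ⟨a, ha⟩ := htrans z₀ e hz₀.2.1 hz₀.2.2 he1 he2
      have hidx : (MulAction.stabilizer A e).index = 2 ^ m - 1 := by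
        rw [MulAction.index_stabilizer]
        have : MulAction.orbit A e = MulAction.orbit A z₀ := MulAction.orbit_eq_iff.2 ⟨a, ha⟩
        rw [this, ← MulAction.index_stabilizer, hindex]
      rw [← hidx, Nat.card_coe_set_eq, ← MulAction.index_stabilizer]
      exact Subgroup.index_dvd_of_le fun a ha => hfix a ha
    haveI : Finite A := Finite.of_injective (fun a : A => (a : G → G)) DFunLike.coe_injective
    letI := Fintype.ofFinite G
    let Ω := Quotient (MulAction.orbitRel A G)
    letI : Fintype Ω := Fintype.ofFinite Ω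
    have hsum : Nat.card G = ∑ ω : Ω, Nat.card (MulAction.orbitRel.Quotient.orbit ω) := by
      rw [← Nat.card_sigma]
      exact Nat.card_congr (MulAction.selfEquivSigmaOrbits' A G)
    have h1 : MulAction.orbitRel.Quotient.orbit (⟦(1 : G)⟧ : Ω) = ({1} : Set G) := by
      rw [MulAction.orbitRel.Quotient.orbit_mk]
      ext y
      simp [MulAction.mem_orbit_iff, eq_comm]
    rw [← Finset.add_sum_erase _ _ (Finset.mem_univ (⟦(1 : G)⟧ : Ω)), h1] at hsum
    simp only [Nat.card_coe_set_eq, Set.ncard_singleton] at hsum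
    rw [← hn, hsum, Nat.add_sub_cancel_left]
    refine Finset.dvd_sum fun ω hω => ?_
    induction ω using Quotient.inductionOn with
    | h x =>
      rw [MulAction.orbitRel.Quotient.orbit_mk, ← Nat.card_coe_set_eq]
      exact hdvd x fun h => (Finset.mem_erase.1 hω).1 (by rw [h])
  refine ⟨n / m, ?_⟩
  rw [hn, hm, ← pow_mul, Nat.mul_div_cancel']
  have := Nat.pow_sub_one_gcd_pow_sub_one 2 m n
  rw [Nat.gcd_eq_left key] at this
  have h2 : (2 : ℕ) ^ m = 2 ^ (m.gcd n) := by
    have := Nat.one_le_two_pow (n := m)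
    have := Nat.one_le_two_pow (n := m.gcd n)
    omega
  exact Nat.gcd_eq_left_iff_dvd.1 (Nat.pow_right_injective le_rfl h2).symm

end Cfsg.Agent.S3774
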