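import Cfsg.Statements.S3775
import Mathlib.GroupTheory.Sylow
import Mathlib.RingTheory.Coprime.Basic

set_option autoImplicit false
set_option linter.style.haveILetI false
set_option linter.unusedVariables false
set_option linter.unusedSectionVars false
open Cfsg

namespace Cfsg.Agent.S3775

open Subgroup

variable {A : Type*} [CommGroup A] [Finite A] {p : ℕ} [hp : Fact p.Prime]

private def Inv (X : Subgroup (MulAut A)) (B : Subgroup A) : Prop := ∀ x ∈ X, ∀ a ∈ B, x a ∈ B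

omit [Finite A] in
private theorem inv_iff {X : Subgroup (MulAut A)} {B : Subgroup A} :
    Inv X B ↔ ∀ x ∈ X, B.map x.toMonoidHom = B := by
  refine ⟨fun h x hx => le_antisymm (by rintro _ ⟨a, ha, rfl⟩; exact h x hx a ha) fun a ha => ?_,
    fun h x hx a ha => h x hx ▸ mem_map_of_mem _ ha⟩
  exact ⟨x⁻¹ a, h x⁻¹ (X.inv_mem hx) a ha, MulAut.apply_inv_self A x a⟩

/-- A maximal subgroup avoiding `K` modulo `N` is a complement. -/
private theorem exists_compl (H K N : Subgroup A) (hNK : N ≤ K) (hKH : K ≤ H)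
    (hadj : ∀ C : Subgroup A, N ≤ C → C ≤ H → ∀ h ∈ H, h ^ p ∈ C ⊔ K → h ∉ C ⊔ K →
      C ⊓ K = N → ∃ g ∈ H, g ∉ C ⊔ K ∧ g ^ p ∈ C)
    (hA : IsPGroup p A) :
    ∃ C : Subgroup A, N ≤ C ∧ C ≤ H ∧ C ⊓ K = N ∧ C ⊔ K = H := by
  obtain ⟨C, hC⟩ := (Set.toFinite {C : Subgroup A | N ≤ C ∧ C ≤ H ∧ C ⊓ K = N}).exists_maximal
    ⟨N, le_rfl, hNK.trans hKH, inf_eq_left.2 hNK⟩
  obtain ⟨hNC, hCH, hCK⟩ := hC.1
  refine ⟨C, hNC, hCH, hCK, le_antisymm (sup_le hCH hKH) ?_⟩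
  by_contra hle
  obtain ⟨h, hh, hhn⟩ := SetLike.not_le_iff_exists.1 hle
  obtain ⟨h', hh', hn', hp'⟩ : ∃ h' ∈ H, h' ∉ C ⊔ K ∧ h' ^ p ∈ C ⊔ K := by
    obtain ⟨k, hk⟩ := hA h
    induction k generalizing h with
    | zero => rw [pow_zero, pow_one] at hk; exact absurd (hk ▸ one_mem _) hhn
    | succ k ih =>
      by_cases hc : h ^ p ∈ C ⊔ K
      · exact ⟨h, hh, hhn, hc⟩
      · exact ih (h ^ p) (H.pow_mem hh p) hc (by rw [← pow_mul, ← pow_succ']; exact hk)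
  obtain ⟨g, hgH, hgn, hgp⟩ := hadj C hNC hCH h' hh' hp' hn' hCK
  have hbig : (C ⊔ zpowers g) ⊓ K = N := by
    refine le_antisymm (fun k hk => ?_) (le_inf (hNC.trans le_sup_left) hNK)
    obtain ⟨hk1, hk2⟩ := mem_inf.1 hk
    obtain ⟨c, hc, w, ⟨i, rfl⟩, rfl⟩ := mem_sup.1 hk1
    by_cases hi : (p : ℤ) ∣ i
    · obtain ⟨j, rfl⟩ := hi
      refine hCK ▸ ⟨C.mul_mem hc ?_, hk2⟩
      show g ^ ((p : ℤ) * j) ∈ C
      rw [zpow_mul, zpow_natCast]
      exact C.zpow_mem hgp j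
    · exfalso
      obtain ⟨u, v, huv⟩ := ((Nat.prime_iff_prime_int.1 hp.out).coprime_iff_not_dvd).2 hi
      refine hgn ?_
      have hi' : g ^ i ∈ C ⊔ K := by
        have := (C ⊔ K).mul_mem (mem_sup_left (C.inv_mem hc)) (mem_sup_right hk2)
        simpa using this
      rw [show g = (g ^ p) ^ u * (g ^ i) ^ v by
        rw [← zpow_natCast g p, ← zpow_mul, ← zpow_mul, ← zpow_add, mul_comm (p : ℤ), mul_comm i, huv, zpow_one]]
      exact (C ⊔ K).mul_mem ((C ⊔ K).zpow_mem (mem_sup_left hgp) u) ((C ⊔ K).zpow_mem hi' v)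
  have := hC.2 ⟨hNC.trans le_sup_left, sup_le hCH (zpowers_le.2 hgH), hbig⟩ le_sup_left
  exact hgn (mem_sup_left (this (mem_sup_right (mem_zpowers g))))

/-- Averaging a complement. -/
private theorem exists_inv_compl (hA : IsPGroup p A) {X : Subgroup (MulAut A)} (hX : (Nat.card X).Coprime p)
    {H K N C : Subgroup A} (hH : Inv X H) (hK : Inv X K) (hN : Inv X N) (hNK : N ≤ K) (hKH : K ≤ H)
    (hNC : N ≤ C) (hCH : C ≤ H) (hCK : C ⊓ K = N) (hsup : C ⊔ K = H) :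
    ∃ C' : Subgroup A, Inv X C' ∧ C' ≤ H ∧ N ≤ C' ∧ C' ⊓ K = N ∧ C' ⊔ K = H := by
  classical
  have := Fintype.ofFinite X
  have hex : ∀ h : A, ∃ k ∈ K, h ∈ H → k⁻¹ * h ∈ C := by
    intro h
    by_cases hh : h ∈ H
    · rw [← hsup] at hh
      obtain ⟨c, hc, k, hk, rfl⟩ := mem_sup.1 hh
      exact ⟨k, hk, fun _ => by rwa [mul_comm c k, inv_mul_cancel_left]⟩
    · exact ⟨1, K.one_mem, fun h' => absurd h' hh⟩
  choose sel hselK hselC using hex
  let m : A →* A ⧸ N := QuotientGroup.mk' N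
  have huniq : ∀ {h k : A}, h ∈ H → k ∈ K → k⁻¹ * h ∈ C → m (sel h) = m k := by
    intro h k hh hk hkc
    refine (QuotientGroup.eq (s := N)).2 (hCK ▸ ⟨?_, K.mul_mem (K.inv_mem (hselK h)) hk⟩)
    have := C.mul_mem (hselC h hh) (C.inv_mem hkc)
    have e : (sel h)⁻¹ * h * (k⁻¹ * h)⁻¹ = (sel h)⁻¹ * k := by
      rw [mul_inv_rev, inv_inv, mul_assoc, mul_inv_cancel_left]
    rwa [e] at this
  let Φ : A → A ⧸ N := fun h => m (∏ x : X, (x : MulAut A) (sel ((x : MulAut A)⁻¹ h)))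
  have hmx : ∀ (x : X) {u v : A}, m u = m v → m ((x : MulAut A) u) = m ((x : MulAut A) v) := by
    intro x u v huv
    refine (QuotientGroup.eq (s := N)).2 ?_
    rw [← map_inv, ← map_mul]
    exact hN x x.2 _ ((QuotientGroup.eq (s := N)).1 huv)
  have hxH : ∀ (x : X) {h : A}, h ∈ H → (x : MulAut A)⁻¹ h ∈ H := fun x h hh => hH _ (X.inv_mem x.2) h hh
  have hΦmul : ∀ {h g : A}, h ∈ H → g ∈ H → Φ (h * g) = Φ h * Φ g := by
    intro h g hh hg
    show m _ = m _ * m _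
    rw [map_prod, map_prod, map_prod, ← Finset.prod_mul_distrib]
    refine Finset.prod_congr rfl fun x _ => ?_
    rw [← map_mul, ← map_mul]
    refine hmx x ?_
    rw [map_mul ((x : MulAut A)⁻¹)]
    refine huniq (H.mul_mem (hxH x hh) (hxH x hg)) (K.mul_mem (hselK _) (hselK _)) ?_
    rw [mul_inv, mul_mul_mul_comm]
    exact C.mul_mem (hselC _ (hxH x hh)) (hselC _ (hxH x hg))
  have hΦK : ∀ {k : A}, k ∈ K → Φ k = m k ^ Nat.card X := by
    intro k hk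
    show m _ = _
    rw [map_prod, Nat.card_eq_fintype_card]
    calc ∏ x : X, m ((x : MulAut A) (sel ((x : MulAut A)⁻¹ k))) = ∏ _x : X, m k := by
          refine Finset.prod_congr rfl fun x _ => ?_
          rw [hmx x (huniq (hxH x (hKH hk)) (hK _ (X.inv_mem x.2) k hk) (by rw [inv_mul_cancel]; exact C.one_mem)),
            MulAut.apply_inv_self]
      _ = _ := by simp
  have hΦmemK : ∀ h : A, ∏ x : X, (x : MulAut A) (sel ((x : MulAut A)⁻¹ h)) ∈ K :=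
    fun h => K.prod_mem fun x _ => hK x x.2 _ (hselK _)
  have hΦ1 : Φ 1 = 1 := by rw [hΦK K.one_mem, map_one, one_pow]
  let C' : Subgroup A :=
    { carrier := {h | h ∈ H ∧ Φ h = 1}
      one_mem' := ⟨H.one_mem, hΦ1⟩
      mul_mem' := fun {a b} ha hb => ⟨H.mul_mem ha.1 hb.1, by rw [hΦmul ha.1 hb.1, ha.2, hb.2, one_mul]⟩
      inv_mem' := fun {a} ha => ⟨H.inv_mem ha.1, by
        have := hΦmul ha.1 (H.inv_mem ha.1)
        rw [mul_inv_cancel, hΦ1, ha.2, one_mul] at this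
        exact this.symm⟩ }
  have hmem : ∀ h, h ∈ C' ↔ h ∈ H ∧ Φ h = 1 := fun h => Iff.rfl
  obtain ⟨j, hj⟩ := IsPGroup.iff_card.1 hA
  have hQ : ∀ z : A, m z ^ p ^ j = 1 := fun z => by rw [← map_pow, ← hj, pow_card_eq_one', map_one]
  obtain ⟨u, v, huv⟩ : IsCoprime (Nat.card X : ℤ) ((p : ℤ) ^ j) := by
    rw [← Nat.cast_pow, Nat.isCoprime_iff_coprime]; exact Nat.Coprime.pow_right _ hX
  have hroot : ∀ z : A, (m z ^ Nat.card X) ^ u = m z := by
    intro z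
    rw [← zpow_natCast, ← zpow_mul, show (Nat.card X : ℤ) * u = 1 - ((p ^ j : ℕ) : ℤ) * v by push_cast; linarith,
      zpow_sub, zpow_one, zpow_mul, zpow_natCast, hQ, one_zpow, inv_one, mul_one]
  refine ⟨C', fun y hy h hh => (hmem _).2 ⟨hH y hy h hh.1, ?_⟩, fun h hh => hh.1,
    fun h hh => (hmem _).2 ⟨hKH (hNK hh), ?_⟩, le_antisymm (fun k hk => ?_) (le_inf ?_ hNK), ?_⟩
  · have h0 : ∏ x : X, (x : MulAut A) (sel ((x : MulAut A)⁻¹ h)) ∈ N := (QuotientGroup.eq_one_iff _).1 hh.2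
    refine (QuotientGroup.eq_one_iff _).2 ?_
    convert hN y hy _ h0 using 1
    rw [map_prod, ← Equiv.prod_comp (Equiv.mulLeft (⟨y, hy⟩ : X))]
    refine Finset.prod_congr rfl fun x _ => ?_
    simp only [Equiv.coe_mulLeft, Subgroup.coe_mul, MulAut.mul_apply, mul_inv_rev]
    rw [MulAut.inv_apply_self]
  · rw [hΦK (hNK hh), show m h = 1 from (QuotientGroup.eq_one_iff h).2 hh, one_pow]
  · obtain ⟨hk1, hk2⟩ := mem_inf.1 hk
    refine (QuotientGroup.eq_one_iff k).1 ?_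
    rw [show (k : A ⧸ N) = m k from rfl, ← hroot, ← hΦK hk2, ((hmem k).1 hk1).2, one_zpow]
  · exact fun h hh => (hmem _).2 ⟨hKH (hNK hh), by
      rw [hΦK (hNK hh), show m h = 1 from (QuotientGroup.eq_one_iff h).2 hh, one_pow]⟩
  · refine le_antisymm (sup_le (fun h hh => hh.1) hKH) fun h hh => ?_
    set P := ∏ x : X, (x : MulAut A) (sel ((x : MulAut A)⁻¹ h))
    have hPu : P ^ u ∈ K := K.zpow_mem (hΦmemK h) u
    refine mem_sup.2 ⟨h * (P ^ u)⁻¹, (hmem _).2 ⟨H.mul_mem hh (H.inv_mem (hKH hPu)), ?_⟩, _, hPu, by simp⟩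
    rw [hΦmul hh (H.inv_mem (hKH hPu)), hΦK (K.inv_mem hPu), map_inv, inv_pow, map_zpow]
    show m P * ((m P ^ u) ^ Nat.card X)⁻¹ = 1
    rw [← zpow_natCast (m P ^ u), ← zpow_mul, mul_comm u, zpow_mul, zpow_natCast, hroot, mul_inv_cancel]

/-- Decomposition from a proper invariant subgroup of the socle. -/
private theorem decompose (hA : IsPGroup p A) {X : Subgroup (MulAut A)} (hX : (Nat.card X).Coprime p)
    {B : Subgroup A} (hB : Inv X B) (hB1 : B ≠ ⊥) (hBp : ∀ b ∈ B, b ^ p = 1)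
    {a₀ : A} (ha₀ : a₀ ^ p = 1) (ha₀B : a₀ ∉ B) :
    ∃ H C : Subgroup A, H ≠ ⊥ ∧ C ≠ ⊥ ∧ Inv X H ∧ Inv X C ∧ H ⊓ C = ⊥ ∧ H ⊔ C = ⊤ := by
  classical
  -- the exponent
  have hexj : ∃ j, ∀ a : A, a ^ p ^ j = 1 := by
    obtain ⟨j, hj⟩ := IsPGroup.iff_card.1 hA
    exact ⟨j, fun a => by rw [← hj, pow_card_eq_one']⟩
  set e := Nat.find hexj with hedef
  have he : ∀ a : A, a ^ p ^ e = 1 := Nat.find_spec hexj
  have he1 : 1 ≤ e := by
    by_contra h0
    exact ha₀B (by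
      have := he a₀
      rw [show e = 0 by omega, pow_zero, pow_one] at this
      exact this ▸ B.one_mem)
  set W : Subgroup A := (powMonoidHom (p ^ (e - 1))).range with hW
  have hWne : W ≠ ⊥ := by
    intro h
    refine Nat.find_min hexj (show e - 1 < e by omega) fun a => ?_
    exact mem_bot.1 (h ▸ ⟨a, rfl⟩ : a ^ p ^ (e - 1) ∈ (⊥ : Subgroup A))
  have hWI : Inv X W := by
    rintro x - _ ⟨a, rfl⟩
    exact ⟨x a, (map_pow x a _).symm⟩
  have hWp : ∀ w ∈ W, w ^ p = 1 := by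
    rintro _ ⟨a, rfl⟩
    show (a ^ p ^ (e - 1)) ^ p = 1
    rw [← pow_mul, ← pow_succ, Nat.sub_add_cancel he1, he]
  -- a nontrivial invariant subgroup of `W`, proper in the socle
  obtain ⟨B₁, hB₁, hB₁W, hB₁ne, a₁, ha₁, ha₁B⟩ :
      ∃ B₁, Inv X B₁ ∧ B₁ ≤ W ∧ B₁ ≠ ⊥ ∧ ∃ a, a ^ p = 1 ∧ a ∉ B₁ := by
    by_cases hWB : B ≤ W
    · exact ⟨B, hB, hWB, hB1, a₀, ha₀, ha₀B⟩
    · obtain ⟨b, hb, hbW⟩ := SetLike.not_le_iff_exists.1 hWB
      exact ⟨W, hWI, le_rfl, hWne, b, hBp b hb, hbW⟩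
  obtain ⟨H, hH⟩ := (Set.toFinite {H : Subgroup A | Inv X H ∧ B₁ ≤ H.map (powMonoidHom (p ^ (e - 1)))}).exists_minimal
    ⟨⊤, fun x _ a _ => mem_top _, by rw [← MonoidHom.range_eq_map]; exact hB₁W⟩
  obtain ⟨hHI, hHB⟩ := hH.1
  have hHeq : ∀ h ∈ H, h ^ p ^ (e - 1) ∈ B₁ := by
    intro h hh
    have hmin := hH.2 (y := H ⊓ B₁.comap (powMonoidHom (p ^ (e - 1))))
      ⟨fun x hx a ha => ⟨hHI x hx a ha.1, by
          show (x a) ^ p ^ (e - 1) ∈ B₁
          rw [← map_pow]; exact hB₁ x hx _ ha.2⟩,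
        fun b hb => by
          obtain ⟨h, hh, rfl⟩ := hHB hb
          exact ⟨h, ⟨hh, hb⟩, rfl⟩⟩ inf_le_left
    exact (hmin hh).2
  -- `h ^ p ^ (e - 1) = 1` forces `h` to be a `p`th power
  set N : Subgroup A := H.map (powMonoidHom p) with hN
  set K : Subgroup A := H ⊓ (powMonoidHom (p ^ (e - 1))).ker with hK
  have hNI : Inv X N := by
    rintro x hx _ ⟨a, ha, rfl⟩
    exact ⟨x a, hHI x hx a ha, (map_pow x a _).symm⟩
  have hKI : Inv X K := fun x hx a ha => ⟨hHI x hx a ha.1, MonoidHom.mem_ker.2 (by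
    show (x a) ^ p ^ (e - 1) = 1
    rw [← map_pow, show a ^ p ^ (e - 1) = 1 from ha.2, map_one])⟩
  have hNK : N ≤ K := by
    rintro _ ⟨a, ha, rfl⟩
    refine ⟨H.pow_mem ha p, MonoidHom.mem_ker.2 ?_⟩
    show (a ^ p) ^ p ^ (e - 1) = 1
    rw [← pow_mul, ← pow_succ', Nat.sub_add_cancel he1, he]
  obtain ⟨C₀, hNC, hCH, hCK, hsup⟩ := exists_compl H K N hNK inf_le_left
    (fun C hNC _ h hh _ hn _ => ⟨h, hh, hn, hNC ⟨h, hh, rfl⟩⟩) hA
  obtain ⟨L, hLI, hLH, hNL, hLK, hLsup⟩ :=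
    exists_inv_compl hA hX hHI hKI hNI hNK inf_le_left hNC hCH hCK hsup
  have hLeq : H ≤ L := hH.2 ⟨hLI, fun b hb => by
    obtain ⟨h, hh, rfl⟩ := hHB hb
    rw [← hLsup] at hh
    obtain ⟨l, hl, k, hk, rfl⟩ := mem_sup.1 hh
    exact ⟨l, hl, by rw [map_mul, show powMonoidHom (p ^ (e - 1)) k = 1 from hk.2, mul_one]⟩⟩ hLH
  have hdiv : ∀ h ∈ H, h ^ p ^ (e - 1) = 1 → ∃ k ∈ H, k ^ p = h := by
    intro h hh h1
    have : h ∈ N := hLK ▸ ⟨hLeq hh, hh, h1⟩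
    exact this
  -- elements of order `p` of `H` lie in `B₁`
  have hsoc : ∀ h ∈ H, h ^ p = 1 → h ∈ B₁ := by
    intro h hh h1
    have hm : ∀ m ≤ e - 1, ∃ k ∈ H, k ^ p ^ m = h := by
      intro m
      induction m with
      | zero => exact fun _ => ⟨h, hh, by rw [pow_zero, pow_one]⟩
      | succ m ih =>
        intro hm
        obtain ⟨k, hk, rfl⟩ := ih (by omega)
        rw [← pow_mul, ← pow_succ] at h1
        obtain ⟨l, hl, rfl⟩ := hdiv k hk (by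
          rw [show e - 1 = (m + 1) + (e - 1 - (m + 1)) by omega, pow_add, pow_mul, h1, one_pow])
        exact ⟨l, hl, by rw [pow_succ', pow_mul]⟩
    obtain ⟨k, hk, rfl⟩ := hm (e - 1) le_rfl
    exact hHeq k hk
  -- a complement
  obtain ⟨C₁, -, -, hCH1, hsup1⟩ := exists_compl (⊤ : Subgroup A) H ⊥ bot_le le_top
    (fun C _ _ h _ hp' hn hCK => by
      obtain ⟨c, hc, k, hk, hck⟩ := mem_sup.1 hp'
      have h1 : c ^ p ^ (e - 1) * k ^ p ^ (e - 1) = 1 := by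
        rw [← mul_pow, hck, ← pow_mul, ← pow_succ', Nat.sub_add_cancel he1, he]
      have h2 : k ^ p ^ (e - 1) ∈ C := by
        rw [eq_inv_of_mul_eq_one_right h1]; exact C.inv_mem (C.pow_mem hc _)
      obtain ⟨l, hl, rfl⟩ := hdiv k hk (mem_bot.1 (hCK ▸ ⟨h2, H.pow_mem hk _⟩))
      refine ⟨h * l⁻¹, mem_top _, fun hmem => hn ?_, ?_⟩
      · have := (C ⊔ H).mul_mem hmem (mem_sup_right hl)
        rwa [inv_mul_cancel_right] at this
      · rw [mul_pow, ← hck, inv_pow, mul_inv_cancel_right]; exact hc) hA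
  obtain ⟨C, hCI, -, -, hCH', hCsup⟩ := exists_inv_compl hA hX (fun x _ a _ => mem_top _) hHI
    (fun x _ a ha => by rw [mem_bot.1 ha, map_one]; exact one_mem _) bot_le le_top bot_le le_top hCH1 hsup1
  refine ⟨H, C, ?_, ?_, hHI, hCI, by rw [inf_comm]; exact hCH', by rw [sup_comm]; exact hCsup⟩
  · intro h; exact hB₁ne (le_bot_iff.1 (hHB.trans (by rw [h, Subgroup.map_bot])))
  · intro h
    rw [h, bot_sup_eq] at hCsup
    exact ha₁B (hsoc a₁ (hCsup ▸ mem_top _) ha₁)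


/-- Let A be a finite abelian p-group and X a group of automorphisms of A of order prime to p. Call a subgroup of A invariant when every element of X maps it onto itself. Then the following are equivalent: (i) A is not the direct product of two nontrivial invariant subgroups; (ii) every invariant subgroup of A is one of the subgroups Ω_i(A) = {a : a^(p^i) = 1}; (iii) the subgroup Ω₁(A) of elements of order dividing p has no invariant subgroups other than 1 and itself. -/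
theorem result {A : Type*} [CommGroup A] [Finite A] {p : ℕ} [Fact p.Prime] (hA : IsPGroup p A) (X : Subgroup (MulAut A)) (hX : (Nat.card X).Coprime p) : ((¬ ∃ B C : Subgroup A, B ≠ ⊥ ∧ C ≠ ⊥ ∧ (∀ x ∈ X, B.map x.toMonoidHom = B) ∧ (∀ x ∈ X, C.map x.toMonoidHom = C) ∧ B ⊓ C = ⊥ ∧ B ⊔ C = ⊤) ↔ (∀ B : Subgroup A, (∀ x ∈ X, B.map x.toMonoidHom = B) → ∃ i : ℕ, ∀ a : A, a ∈ B ↔ a ^ p ^ i = 1)) ∧ ((∀ B : Subgroup A, (∀ x ∈ X, B.map x.toMonoidHom = B) → ∃ i : ℕ, ∀ a : A, a ∈ B ↔ a ^ p ^ i = 1) ↔ (∀ B : Subgroup A, (∀ x ∈ X, B.map x.toMonoidHom = B) → (∀ b ∈ B, b ^ p = 1) → B = ⊥ ∨ ∀ a : A, a ∈ B ↔ a ^ p = 1)) := by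
  classical
  simp only [← inv_iff]
  have step1 : (∀ B : Subgroup A, Inv X B → ∃ i : ℕ, ∀ a : A, a ∈ B ↔ a ^ p ^ i = 1) →
      (∀ B : Subgroup A, Inv X B → (∀ b ∈ B, b ^ p = 1) → B = ⊥ ∨ ∀ a : A, a ∈ B ↔ a ^ p = 1) := by
    intro h B hB hBp
    obtain ⟨i, hi⟩ := h B hB
    rcases Nat.eq_zero_or_pos i with rfl | hi0
    · exact Or.inl ((Subgroup.eq_bot_iff_forall _).2 fun a ha => by simpa using (hi a).1 ha)
    · refine Or.inr fun a => ⟨hBp a, fun ha => (hi a).2 ?_⟩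
      rw [show i = 1 + (i - 1) by omega, pow_add, pow_one, pow_mul, ha, one_pow]
  have step2 : (∀ B : Subgroup A, Inv X B → (∀ b ∈ B, b ^ p = 1) → B = ⊥ ∨ ∀ a : A, a ∈ B ↔ a ^ p = 1) →
      (∀ B : Subgroup A, Inv X B → ∃ i : ℕ, ∀ a : A, a ∈ B ↔ a ^ p ^ i = 1) := by
    intro h B hB
    obtain ⟨j, hj⟩ := IsPGroup.iff_card.1 hA
    by_contra hne
    simp only [not_exists, not_forall] at hne
    have key : ∀ i, ∀ a : A, a ^ p ^ i = 1 → a ∈ B := by
      intro i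
      induction i with
      | zero => intro a ha; rw [pow_zero, pow_one] at ha; exact ha ▸ B.one_mem
      | succ i ih =>
        obtain ⟨b, hb⟩ := hne i
        have hbB : b ∈ B ∧ b ^ p ^ i ≠ 1 := by
          by_cases hbB : b ∈ B
          · exact ⟨hbB, fun h1 => hb ⟨fun _ => h1, fun _ => hbB⟩⟩
          · exact absurd ⟨fun h1 => absurd h1 hbB, fun h1 => absurd (ih b h1) hbB⟩ hb
        set U : Subgroup A := (B ⊓ (powMonoidHom (p ^ (i + 1))).ker).map (powMonoidHom (p ^ i)) with hU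
        have hUI : Inv X U := by
          rintro x hx _ ⟨c, hc, rfl⟩
          refine ⟨x c, ⟨hB x hx c hc.1, MonoidHom.mem_ker.2 ?_⟩, (map_pow x c _).symm⟩
          show (x c) ^ p ^ (i + 1) = 1
          rw [← map_pow, show c ^ p ^ (i + 1) = 1 from hc.2, map_one]
        have hUp : ∀ u ∈ U, u ^ p = 1 := by
          rintro _ ⟨c, hc, rfl⟩
          show (c ^ p ^ i) ^ p = 1
          rw [← pow_mul, ← pow_succ]; exact hc.2
        have hUne : U ≠ ⊥ := by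
          obtain ⟨k, hk⟩ := IsPGroup.iff_orderOf.1 hA b
          have hik : i < k := by
            by_contra hle
            exact hbB.2 (orderOf_dvd_iff_pow_eq_one.1 (hk ▸ pow_dvd_pow p (by omega)))
          intro hbot
          have hc : b ^ p ^ (k - 1) ∈ U := by
            refine ⟨b ^ p ^ (k - 1 - i), ⟨B.pow_mem hbB.1 _, MonoidHom.mem_ker.2 ?_⟩, ?_⟩
            · show (b ^ p ^ (k - 1 - i)) ^ p ^ (i + 1) = 1
              rw [← pow_mul, ← pow_add, show k - 1 - i + (i + 1) = k by omega, ← hk, pow_orderOf_eq_one]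
            · show (b ^ p ^ (k - 1 - i)) ^ p ^ i = _
              rw [← pow_mul, ← pow_add, show k - 1 - i + i = k - 1 by omega]
          rw [hbot, Subgroup.mem_bot, ← orderOf_dvd_iff_pow_eq_one, hk,
            Nat.pow_dvd_pow_iff_le_right (Fact.out : p.Prime).one_lt] at hc
          omega
        intro a ha
        have hau : a ^ p ^ i ∈ U := (((h U hUI hUp).resolve_left hUne) _).2 (by rw [← pow_mul, ← pow_succ, ha])
        obtain ⟨c, hc, hca⟩ := hau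
        have h2 : (a * c⁻¹) ^ p ^ i = 1 := by
          rw [mul_pow, inv_pow, show c ^ p ^ i = a ^ p ^ i from hca, mul_inv_cancel]
        simpa using B.mul_mem (ih _ h2) hc.1
    obtain ⟨a, ha⟩ := hne j
    have h1 : a ^ p ^ j = 1 := by rw [← hj, pow_card_eq_one']
    exact ha ⟨fun _ => h1, fun _ => key j a h1⟩
  have step3 : (∀ B : Subgroup A, Inv X B → (∀ b ∈ B, b ^ p = 1) → B = ⊥ ∨ ∀ a : A, a ∈ B ↔ a ^ p = 1) →
      ¬ ∃ B C : Subgroup A, B ≠ ⊥ ∧ C ≠ ⊥ ∧ Inv X B ∧ Inv X C ∧ B ⊓ C = ⊥ ∧ B ⊔ C = ⊤ := by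
    rintro h ⟨B, C, hB, hC, hBI, hCI, hBC, -⟩
    have key : ∀ D : Subgroup A, Inv X D → D ≠ ⊥ → ∀ a : A, a ^ p = 1 → a ∈ D := by
      intro D hDI hD a ha
      obtain ⟨i, hi⟩ := step2 h D hDI
      refine (hi a).2 ?_
      rcases Nat.eq_zero_or_pos i with rfl | hi0
      · exact absurd ((Subgroup.eq_bot_iff_forall _).2 fun d hd => by simpa using (hi d).1 hd) hD
      · rw [show i = 1 + (i - 1) by omega, pow_add, pow_one, pow_mul, ha, one_pow]
    obtain ⟨c, hc⟩ := exists_prime_orderOf_dvd_card' (G := B) p (by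
      obtain ⟨k, hk⟩ := IsPGroup.iff_card.1 (hA.to_subgroup B)
      rw [hk]
      exact dvd_pow_self p fun hk0 => hB (Subgroup.card_eq_one.1 (by rw [hk, hk0, pow_zero])))
    have hcp : (c : A) ^ p = 1 := by rw [← hc, ← Subgroup.coe_pow, pow_orderOf_eq_one, Subgroup.coe_one]
    have h0 : (c : A) ∈ B ⊓ C := ⟨c.2, key C hCI hC _ hcp⟩
    rw [hBC, Subgroup.mem_bot] at h0
    exact (Fact.out : p.Prime).one_lt.ne' (by rw [← hc, orderOf_eq_one_iff]; exact Subtype.ext h0)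
  refine ⟨⟨fun h => step2 fun B hB hBp => ?_, fun h => step3 (step1 h)⟩, ⟨step1, step2⟩⟩
  by_contra hcon
  simp only [not_or, not_forall] at hcon
  obtain ⟨hB1, a, ha⟩ := hcon
  have ha' : a ^ p = 1 ∧ a ∉ B := by
    by_cases haB : a ∈ B
    · exact absurd ⟨fun _ => hBp a haB, fun _ => haB⟩ ha
    · exact ⟨by_contra fun h1 => ha ⟨fun x => absurd x haB, fun x => absurd x h1⟩, haB⟩
  obtain ⟨H, C, h1, h2, h3, h4, h5, h6⟩ := decompose hA hX hB hB1 hBp ha'.1 ha'.2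
  exact h ⟨H, C, h1, h2, h3, h4, h5, h6⟩

end Cfsg.Agent.S3775
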