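import Cfsg.Statements.S3776
-- import your own Cfsg.Agent.* helpers here
import Cfsg.Agent.H19.Suz.Main
import Cfsg.Agent.H19.Suz.Setup

set_option autoImplicit false
open Cfsg

namespace Cfsg.Agent.S3776

/-- Let G be a finite non-abelian 2-group with more than one involution admitting a solvable group of automorphisms that permutes its involutions transitively. Then the derived subgroup, the Frattini subgroup and the centre of G coincide and consist exactly of the elements x with x² = 1. -/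
theorem result {G : Type*} [Group G] [Finite G] (hG : IsPGroup 2 G) (hna : ¬ IsMulCommutative G) (htwo : ∃ x y : G, x ≠ y ∧ x ≠ 1 ∧ x ^ 2 = 1 ∧ y ≠ 1 ∧ y ^ 2 = 1) (hY : ∃ Y : Subgroup (MulAut G), Group.IsSolvable Y ∧ ∀ x y : G, x ≠ 1 → x ^ 2 = 1 → y ≠ 1 → y ^ 2 = 1 → ∃ a ∈ Y, a x = y) : commutator G = frattini G ∧ frattini G = Subgroup.center G ∧ ∀ x : G, x ∈ Subgroup.center G ↔ x ^ 2 = 1 := by
  obtain ⟨x₀, y₀, hxy, hx1, hx2, hy1, hy2⟩ := htwo
  rw [pow_two] at hx2 hy2
  obtain ⟨Y, hsol, htr⟩ := hY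
  obtain ⟨σ, h⟩ := Cfsg.Agent.H19.Suz.exists_shyp hG ⟨x₀, y₀, hxy, hx1, hx2, hy1, hy2⟩ Y hsol
    (fun x y h1 h2 h3 h4 => htr x y h1 (by rw [pow_two, h2]) h3 (by rw [pow_two, h4]))
  haveI : Fact (Nat.Prime 2) := ⟨Nat.prime_two⟩
  have hnc : ∃ x y : G, x * y ≠ y * x := by
    by_contra hh
    push Not at hh
    exact hna ⟨⟨hh⟩⟩
  have hiff : ∀ x : G, x ∈ Subgroup.center G ↔ x ^ 2 = 1 := by
    intro x
    rw [pow_two]
    by_cases hx : x = 1
    · simp [hx]
    · exact ⟨fun hc => Cfsg.Agent.H19.Suz.center_sq_eq_one h hnc x hc,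
        fun hs => ((Cfsg.Agent.H19.Suz.invol_iff_central h hnc x).mp ⟨hx, hs⟩).1⟩
  have hΦZ : frattini G ≤ Subgroup.center G := by
    refine PGroups.frattini_le_of_commutator_le (p := 2) (Subgroup.center G) ?_ fun x => ?_
    · rw [commutator_def, Subgroup.commutator_le]
      intro a _ b _
      rw [commutatorElement_def]
      exact Cfsg.Agent.H19.Suz.class_two h hnc a b
    · rw [pow_two]
      exact Cfsg.Agent.H19.Suz.sq_mem_center h hnc x
  have hcne : commutator G ≠ ⊥ := fun e => by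
    obtain ⟨a, b, hab⟩ := hnc
    have h1 := Cfsg.Agent.H38.commutator_mem' a b
    rw [e, Subgroup.mem_bot, mul_inv_eq_one, mul_inv_eq_iff_eq_mul] at h1
    exact hab h1
  have hZc : Subgroup.center G ≤ commutator G := fun z hz =>
    h.invol_mem (Cfsg.Agent.H38.char_invariant σ _) hcne (by
      rw [← pow_two]; exact (hiff z).mp hz)
  have hcΦ : commutator G ≤ frattini G := PGroups.commutator_le_frattini hG
  exact ⟨le_antisymm hcΦ (hΦZ.trans hZc), le_antisymm hΦZ (hZc.trans hcΦ), hiff⟩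

end Cfsg.Agent.S3776
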