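import Cfsg.Statements.S3778

set_option autoImplicit false
open Cfsg

namespace Cfsg.Agent.S3778

open scoped commutatorElement
open Finset

variable {G : Type*} [Group G]

private theorem card_mul_le_of_lt [Finite G] {p : ℕ} [Fact p.Prime] (hG : IsPGroup p G)
    {B A : Subgroup G} (h : B < A) : p * Nat.card B ≤ Nat.card A := by
  obtain ⟨a, ha⟩ := IsPGroup.iff_card.1 (hG.to_subgroup A)
  obtain ⟨b, hb⟩ := IsPGroup.iff_card.1 (hG.to_subgroup B)
  have hlt : Nat.card B < Nat.card A := by
    by_contra hc
    exact h.ne (Subgroup.eq_of_le_of_card_ge h.le (Nat.le_of_not_lt hc))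
  rw [ha, hb] at hlt ⊢
  rw [← pow_succ']
  exact Nat.pow_le_pow_right (Fact.out : p.Prime).pos
    ((Nat.pow_lt_pow_iff_right (Fact.out : p.Prime).one_lt).1 hlt)

/-- The `i`-th term of the lower central series. -/
private def gam (G : Type*) [Group G] (i : ℕ) : Subgroup G := (⊤ : Subgroup G).lowerCentralSeries i

private instance gam_normal (i : ℕ) : (gam G i).Normal := by unfold gam; infer_instance

/-- The kernel of the action on two consecutive layers. -/
private def layerKer (G : Type*) [Group G] (i : ℕ) : Subgroup G :=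
  (Subgroup.centralizer
    (((gam G i).map (QuotientGroup.mk' (gam G (i + 2))) : Subgroup (G ⧸ gam G (i + 2))) :
      Set (G ⧸ gam G (i + 2)))).comap (QuotientGroup.mk' (gam G (i + 2)))

private theorem mem_layerKer {i : ℕ} {x : G} :
    x ∈ layerKer G i ↔ ∀ y ∈ gam G i, ⁅y, x⁆ ∈ gam G (i + 2) := by
  constructor
  · intro hx y hy
    rw [← QuotientGroup.eq_one_iff]
    have h := Subgroup.mem_centralizer_iff.1 (Subgroup.mem_comap.1 hx) _ ⟨y, hy, rfl⟩
    show QuotientGroup.mk' _ ⁅y, x⁆ = 1
    rw [map_commutatorElement]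
    exact commutatorElement_eq_one_iff_mul_comm.2 h
  · intro h
    refine Subgroup.mem_comap.2 (Subgroup.mem_centralizer_iff.2 ?_)
    rintro _ ⟨y, hy, rfl⟩
    refine commutatorElement_eq_one_iff_mul_comm.1 ?_
    rw [← map_commutatorElement]
    exact (QuotientGroup.eq_one_iff _).2 (h y hy)

private theorem layerKer_ne_top [Group.IsNilpotent G] {i : ℕ}
    (hi : i + 1 < Group.nilpotencyClass G) : layerKer G i ≠ ⊤ := by
  intro he
  have h : gam G (i + 1) ≤ gam G (i + 2) := by
    show ⁅gam G i, (⊤ : Subgroup G)⁆ ≤ _
    rw [Subgroup.commutator_le]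
    intro y hy g _
    exact (mem_layerKer.1 (he ▸ Subgroup.mem_top g)) y hy
  have hall : ∀ j, gam G (i + 1) ≤ gam G (i + 1 + j) := by
    intro j
    induction j with
    | zero => exact le_rfl
    | succ j ih =>
      refine h.trans ?_
      show ⁅gam G (i + 1), (⊤ : Subgroup G)⁆ ≤ ⁅gam G (i + 1 + j), (⊤ : Subgroup G)⁆
      exact Subgroup.commutator_mono ih le_rfl
  have hbot : gam G (i + 1) = ⊥ := le_bot_iff.1 ((hall (Group.nilpotencyClass G)).trans
    ((Subgroup.lowerCentralSeries_antitone (⊤ : Subgroup G) (Nat.le_add_left _ _)).trans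
      Subgroup.lowerCentralSeries_nilpotencyClass.le))
  have := Subgroup.lowerCentralSeries_eq_bot_iff_nilpotencyClass_le.1 hbot
  omega

open Classical in
private theorem pow_count_le_index [Finite G] {p : ℕ} [Fact p.Prime] (hG : IsPGroup p G) (x : G) (m : ℕ) :
    p ^ ((Finset.range m).filter fun i => x ∉ layerKer G i).card ≤
      (Subgroup.centralizer ({x} : Set G)).index := by
  set C := Subgroup.centralizer ({x} : Set G) with hC
  let H : ℕ → Subgroup G := fun i => gam G i ⊔ C
  have hmono : ∀ i, H (i + 1) ≤ H i := fun i =>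
    sup_le_sup_right (Subgroup.lowerCentralSeries_antitone _ (Nat.le_succ i)) C
  have hstep : ∀ i, x ∉ layerKer G i → H (i + 1) < H i := by
    intro i hi
    refine lt_of_le_of_ne (hmono i) fun he => hi (mem_layerKer.2 fun y hy => ?_)
    have hy' : y ∈ H (i + 1) := he ▸ Subgroup.mem_sup_left hy
    obtain ⟨z, hz, c, hc, rfl⟩ := Subgroup.mem_sup_of_normal_left.1 hy'
    have hcx : ⁅c, x⁆ = 1 := commutatorElement_eq_one_iff_mul_comm.2
      (Subgroup.mem_centralizer_iff.1 hc x rfl).symm
    have : ⁅z * c, x⁆ = z * ⁅c, x⁆ * z⁻¹ * ⁅z, x⁆ := by simp only [commutatorElement_def]; group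
    rw [this, hcx, mul_one, mul_inv_cancel, one_mul]
    exact Subgroup.commutator_mem_commutator hz (Subgroup.mem_top x)
  have hind : ∀ j, p ^ ((Finset.range j).filter fun i => x ∉ layerKer G i).card * Nat.card (H j) ≤
      Nat.card G := by
    intro j
    induction j with
    | zero => simpa using Subgroup.card_le_card_group _
    | succ j ih =>
      rw [Finset.range_add_one, Finset.filter_insert]
      by_cases hj : x ∈ layerKer G j
      · rw [if_neg (not_not_intro hj)]
        exact le_trans (Nat.mul_le_mul_left _ (Subgroup.card_le_of_le (hmono j))) ih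
      · rw [if_pos hj, Finset.card_insert_of_notMem (by simp), pow_succ, mul_assoc]
        exact le_trans (Nat.mul_le_mul_left _ (card_mul_le_of_lt hG (hstep j hj))) ih
  have h1 := hind m
  have h2 : Nat.card C ≤ Nat.card (H m) := Subgroup.card_le_of_le le_sup_right
  have h3 := C.index_mul_card
  have h4 : 0 < Nat.card C := Nat.card_pos
  nlinarith


/-- If G is a finite p-group in which every conjugacy class has at most p^b elements (every element has centralizer of index at most p^b), then G is abelian when b = 0, and when b ≥ 1 its nilpotency class c satisfies (c − 1)(p − 1) < bp, that is c < bp/(p − 1) + 1, and hence c ≤ 2b. -/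
theorem result {G : Type*} [Group G] [Finite G] {p : ℕ} [Fact p.Prime] (hG : IsPGroup p G) (b : ℕ) (hb : ∀ x : G, (Subgroup.centralizer ({x} : Set G)).index ≤ p ^ b) : ∃ c : ℕ, (⊤ : Subgroup G).lowerCentralSeries c = ⊥ ∧ (b ≠ 0 → (c - 1) * (p - 1) < b * p ∧ c ≤ 2 * b) ∧ (b = 0 → c ≤ 1) := by
  classical
  have hnil : Group.IsNilpotent G := hG.isNilpotent
  set c := Group.nilpotencyClass G with hcdef
  have hbot : (⊤ : Subgroup G).lowerCentralSeries c = ⊥ := Subgroup.lowerCentralSeries_nilpotencyClass
  have hp := (Fact.out : p.Prime)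
  rcases Nat.eq_zero_or_pos b with rfl | hb0
  · have hab : (⊤ : Subgroup G).lowerCentralSeries 1 = ⊥ := by
      rw [Subgroup.lowerCentralSeries_succ, Subgroup.lowerCentralSeries_zero,
        Subgroup.commutator_eq_bot_iff_le_centralizer]
      intro g _
      refine Subgroup.mem_centralizer_iff.2 fun h _ => ?_
      have hC : Subgroup.centralizer ({g} : Set G) = ⊤ := by
        rw [← Subgroup.index_eq_one]
        have h5 : (Subgroup.centralizer ({g} : Set G)).index ≤ 1 := by simpa using hb g
        have h6 := (Subgroup.centralizer ({g} : Set G)).index_ne_zero_of_finite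
        omega
      have hh : h ∈ Subgroup.centralizer ({g} : Set G) := by rw [hC]; trivial
      exact (Subgroup.mem_centralizer_iff.1 hh g rfl).symm
    exact ⟨1, hab, fun h => absurd rfl h, fun _ => le_rfl⟩
  letI := Fintype.ofFinite G
  have main : (c - 1) * (p - 1) < b * p := by
    let cnt : G → ℕ := fun x => ((Finset.range (c - 1)).filter fun i => x ∉ layerKer G i).card
    have hle : ∀ x, cnt x ≤ b := fun x =>
      (Nat.pow_le_pow_iff_right hp.one_lt).1 ((pow_count_le_index hG x (c - 1)).trans (hb x))
    have h1 : cnt 1 = 0 := by simp [cnt, one_mem]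
    have hup : ∑ x : G, cnt x < b * Fintype.card G := by
      have : ∑ x : G, cnt x < ∑ _x : G, b :=
        Finset.sum_lt_sum (fun x _ => hle x) ⟨1, Finset.mem_univ _, by rw [h1]; exact hb0⟩
      simpa [Finset.card_univ, mul_comm] using this
    have hlow : (c - 1) * ((p - 1) * Fintype.card G) ≤ p * ∑ x : G, cnt x := by
      have hswap : ∑ x : G, cnt x =
          ∑ i ∈ Finset.range (c - 1), (Finset.univ.filter fun x : G => x ∉ layerKer G i).card := by
        simp only [cnt, Finset.card_filter]
        exact Finset.sum_comm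
      rw [hswap, Finset.mul_sum]
      have hi : ∀ i ∈ Finset.range (c - 1), (p - 1) * Fintype.card G ≤
          p * (Finset.univ.filter fun x : G => x ∉ layerKer G i).card := by
        intro i hi
        rw [Finset.mem_range] at hi
        have hlt : layerKer G i < ⊤ := lt_top_iff_ne_top.2 (layerKer_ne_top (G := G) (by omega))
        have hK := card_mul_le_of_lt hG hlt
        rw [Subgroup.card_top, Nat.card_eq_fintype_card (α := G)] at hK
        have hcardK : (Finset.univ.filter fun x : G => x ∈ layerKer G i).card = Nat.card (layerKer G i) := by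
          rw [Nat.card_eq_fintype_card, Fintype.card_subtype]
        have hsplit := Finset.card_filter_add_card_filter_not (s := (Finset.univ : Finset G))
          (fun x : G => x ∈ layerKer G i)
        rw [Finset.card_univ, hcardK] at hsplit
        obtain ⟨q, rfl⟩ : ∃ q, p = q + 1 := ⟨p - 1, by have := hp.one_lt; omega⟩
        simp only [Nat.add_sub_cancel]
        nlinarith
      calc (c - 1) * ((p - 1) * Fintype.card G)
          = ∑ _i ∈ Finset.range (c - 1), (p - 1) * Fintype.card G := by simp
        _ ≤ _ := Finset.sum_le_sum hi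
    have hpos : 0 < Fintype.card G := Fintype.card_pos
    have h2 := Nat.mul_lt_mul_of_pos_left hup hp.pos
    refine Nat.lt_of_mul_lt_mul_right (a := Fintype.card G) ?_
    calc (c - 1) * (p - 1) * Fintype.card G = (c - 1) * ((p - 1) * Fintype.card G) := by ring
      _ ≤ _ := hlow
      _ < p * (b * Fintype.card G) := h2
      _ = b * p * Fintype.card G := by ring
  refine ⟨c, hbot, fun _ => ⟨main, ?_⟩, fun h => absurd h (by omega)⟩
  by_contra hc
  push Not at hc
  have h3 : 2 * b * (p - 1) ≤ (c - 1) * (p - 1) := Nat.mul_le_mul_right _ (by omega)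
  obtain ⟨q, rfl⟩ : ∃ q, p = q + 2 := ⟨p - 2, by have := hp.two_le; omega⟩
  simp only [show q + 2 - 1 = q + 1 by omega] at main h3
  nlinarith

end Cfsg.Agent.S3778
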