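import Cfsg.Statements.S3783
import Cfsg.Agent.H71.HallHigmanAbelian
import Cfsg.Agent.H71.PLength
import Cfsg.Agent.Coprime.Action
import Cfsg.Agent.Coprime.Generation
import Cfsg.Agent.PGroups.MaxAbelian

set_option autoImplicit false
set_option linter.style.haveILetI false
set_option linter.unusedSectionVars false
set_option maxHeartbeats 1000000
open Cfsg

namespace Cfsg.Agent.S3783

open Subgroup

universe u

private theorem hyp_of_surjective {G : Type u} [Group G] [Finite G] {H : Type u} [Group H] [Finite H] {p : ℕ}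
    [Fact p.Prime] {f : G →* H} (hf : Function.Surjective f)
    (hab : ∀ (q : ℕ) [Fact q.Prime], q ≠ p → ∀ Q : Sylow q G, IsMulCommutative (Q : Subgroup G))
    (q : ℕ) [Fact q.Prime] (hq : q ≠ p) (Q : Sylow q H) : IsMulCommutative (Q : Subgroup H) := by
  obtain ⟨P, rfl⟩ := Sylow.mapSurjective_surjective hf q Q
  refine PGroups.isMulCommutative_of_comm ?_
  rintro _ ⟨a, ha, rfl⟩ _ ⟨b, hb, rfl⟩
  rw [← map_mul, ← map_mul, PGroups.comm_of_isMulCommutative (hab q hq P) ha hb]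

/-- Modulo `O_p`, the exponent of a Sylow `p`-subgroup drops. -/
private theorem exp_step (p : ℕ) [Fact p.Prime] (n : ℕ) {G : Type u} [Group G] [Finite G]
    (hs : Cfsg.IsPSolvable p G)
    (hab : ∀ (q : ℕ) [Fact q.Prime], q ≠ p → ∀ Q : Sylow q G, IsMulCommutative (Q : Subgroup G))
    (hexp : ∀ (P : Sylow p G), ∀ x ∈ (P : Subgroup G), x ^ p ^ (n + 1) = 1)
    (hK : Cfsg.pPrimeCore p G = ⊥) :
    ∀ (P : Sylow p (G ⧸ Cfsg.pCore p G)), ∀ x ∈ (P : Subgroup (G ⧸ Cfsg.pCore p G)), x ^ p ^ n = 1 := by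
  have hp := (Fact.out : p.Prime)
  set P₀ := Cfsg.pCore p G with hP₀
  have hP₀p : IsPGroup p P₀ := Cores.pCore_isPGroup
  intro P xb hxb
  obtain ⟨S, rfl⟩ := Sylow.mapSurjective_surjective (QuotientGroup.mk'_surjective P₀) p P
  obtain ⟨x, hx, rfl⟩ := hxb
  by_contra hne
  -- the Frattini quotient of `O_p` is faithful modulo `O_p`
  have hfaith : ∀ g : G, (∀ w ∈ P₀, g * w * g⁻¹ * w⁻¹ ∈ (frattini P₀).map P₀.subtype) → g ∈ P₀ := by
    have hNmem : ∀ g w : G, w ∈ (frattini P₀).map P₀.subtype → g * w * g⁻¹ ∈ (frattini P₀).map P₀.subtype := by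
      rintro g _ ⟨u, hu, rfl⟩
      have hm : (frattini P₀).map (MulAut.conjNormal g : MulAut P₀).toMonoidHom = frattini P₀ :=
        Subgroup.characteristic_iff_map_eq.mp inferInstance _
      exact ⟨(MulAut.conjNormal g : MulAut P₀) u, hm.le ⟨u, hu, rfl⟩, by simp⟩
    let C : Subgroup G :=
      { carrier := {g | ∀ w ∈ P₀, g * w * g⁻¹ * w⁻¹ ∈ (frattini P₀).map P₀.subtype}
        one_mem' := fun w _ => by simp
        mul_mem' := fun {g h} hg hh w hw => by
          rw [show g * h * w * (g * h)⁻¹ * w⁻¹ = g * (h * w * h⁻¹ * w⁻¹) * g⁻¹ * (g * w * g⁻¹ * w⁻¹) by group]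
          exact Subgroup.mul_mem _ (hNmem g _ (hh w hw)) (hg w hw)
        inv_mem' := fun {g} hg w hw => by
          rw [show g⁻¹ * w * g⁻¹⁻¹ * w⁻¹ = g⁻¹ * (g * w * g⁻¹ * w⁻¹)⁻¹ * g⁻¹⁻¹ by group]
          exact hNmem _ _ (Subgroup.inv_mem _ (hg w hw)) }
    haveI : C.Normal := Subgroup.Normal.mk fun g hg h w hw => by
      have hw' : h⁻¹ * w * h ∈ P₀ := (inferInstance : P₀.Normal).conj_mem' w hw h
      rw [show h * g * h⁻¹ * w * (h * g * h⁻¹)⁻¹ * w⁻¹ = h * (g * (h⁻¹ * w * h) * g⁻¹ * (h⁻¹ * w * h)⁻¹) * h⁻¹ by group]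
      exact hNmem h _ (hg _ hw')
    have hCp : IsPGroup p C := by
      rw [IsPGroup.iff_orderOf]
      intro g
      obtain ⟨k, m, hm, hkm⟩ := Nat.exists_eq_pow_mul_and_not_dvd (orderOf_pos g).ne' p hp.ne_one
      refine ⟨k, ?_⟩
      suffices hg : (g : G) ^ p ^ k = 1 by
        refine Nat.dvd_antisymm (orderOf_dvd_of_pow_eq_one (Subtype.ext hg)) ?_
        rw [hkm]; exact Dvd.intro _ rfl
      set y := (g : G) ^ p ^ k with hy
      have hyC : y ∈ C := C.pow_mem g.2 _
      have hyo : orderOf y ∣ m := by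
        apply orderOf_dvd_of_pow_eq_one
        rw [hy, ← pow_mul, ← hkm, ← Subgroup.coe_pow, pow_orderOf_eq_one, Subgroup.coe_one]
      have hcop : (Nat.card (zpowers y)).Coprime (Nat.card (frattini P₀)) := by
        obtain ⟨j, hj⟩ := IsPGroup.iff_card.mp (hP₀p.to_subgroup (frattini P₀))
        rw [hj, Nat.card_zpowers]
        exact Nat.Coprime.pow_right j (((hp.coprime_iff_not_dvd.mpr hm).symm).coprime_dvd_left hyo)
      have hyc := Coprime.le_centralizer_of_frattini (A := zpowers y) (K := P₀)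
        (by rw [Subgroup.normalizer_eq_top_iff.mpr inferInstance]; exact le_top) hcop
        (fun a ha w hw => (zpowers_le.mpr hyC ha) w hw) (mem_zpowers y)
      obtain ⟨j, hj⟩ := IsPGroup.iff_orderOf.mp hP₀p ⟨y, Cores.centralizer_pCore_le hs hK hyc⟩
      rw [← Subgroup.orderOf_coe] at hj
      rw [← orderOf_eq_one_iff]
      exact Nat.eq_one_of_dvd_coprimes (((hp.coprime_iff_not_dvd.mpr hm).symm).pow_right j) hyo hj.dvd
    exact fun g hg => Cores.le_pCore hCp hg
  set xb : G ⧸ P₀ := QuotientGroup.mk' P₀ x with hxb'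
  set F := Cfsg.pPrimeCore p (G ⧸ P₀) with hF
  set z := xb ^ p ^ n with hz
  have hxp : IsPGroup p (zpowers xb) := (S.isPGroup'.map _).to_le (zpowers_le.mpr ⟨x, hx, rfl⟩)
  have hzn : ¬ F ≤ centralizer ({z} : Set (G ⧸ P₀)) := fun h => hne (by
    have h1 := H71.eq_bot_of_centralizes (Cores.isPSolvable_quotient hs P₀) Cores.pCore_quotient_pCore
      (A := zpowers z) (hxp.to_le (zpowers_le.mpr (pow_mem (mem_zpowers _) _))) (zpowers_le.mpr
        (Subgroup.mem_centralizer_iff.mpr fun f hf => (Subgroup.mem_centralizer_singleton_iff.mp (h hf))))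
    exact Subgroup.zpowers_eq_bot.mp h1)
  have hAF : zpowers xb ≤ Subgroup.normalizer (F : Set (G ⧸ P₀)) := by
    rw [Subgroup.normalizer_eq_top_iff.mpr inferInstance]; exact le_top
  have hcopF : (Nat.card (zpowers xb)).Coprime (Nat.card F) := by
    obtain ⟨j, hj⟩ := IsPGroup.iff_card.mp hxp
    rw [hj]
    exact Nat.Coprime.pow_left j (Cores.coprime_card_pPrimeCore (p := p)).symm
  obtain ⟨q, hq, Q₀, hQn, hQz⟩ : ∃ q : ℕ, q.Prime ∧ ∃ Q₀ : Sylow q F,
      zpowers xb ≤ Subgroup.normalizer (((Q₀ : Subgroup F).map F.subtype : Subgroup (G ⧸ P₀)) : Set (G ⧸ P₀)) ∧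
      ¬ (Q₀ : Subgroup F).map F.subtype ≤ centralizer ({z} : Set (G ⧸ P₀)) := by
    by_contra h
    push Not at h
    refine hzn (Coprime.le_of_exists_sylow_le fun q hq => ?_)
    haveI : Fact q.Prime := ⟨hq⟩
    obtain ⟨Q₀, hQ₀⟩ := Coprime.exists_invariant_sylow hAF hcopF
      (Or.inl (Group.isSolvable_of_comm fun a b => IsCyclic.isMulCommutative.is_comm.comm a b)) q
    exact ⟨Q₀, h q hq Q₀ hQ₀⟩
  haveI : Fact q.Prime := ⟨hq⟩
  set Q := (Q₀ : Subgroup F).map F.subtype with hQdef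
  have hQcop : (Nat.card Q).Coprime p :=
    (Cores.coprime_card_pPrimeCore (p := p) (G := G ⧸ P₀)).coprime_dvd_left
      (Subgroup.card_dvd_of_le (map_subtype_le _))
  have hqp : q ≠ p := by
    rintro rfl
    apply hQz
    obtain ⟨j, hj⟩ := IsPGroup.iff_card.mp (Q₀.isPGroup'.map F.subtype)
    rw [← hQdef] at hj
    have h1 : Nat.card Q = 1 := by
      rcases j with _ | j
      · rw [hj, pow_zero]
      · rw [hj] at hQcop
        exact absurd (Nat.eq_one_of_dvd_coprimes hQcop (dvd_pow_self q j.succ_ne_zero) dvd_rfl) hq.ne_one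
    rw [Subgroup.eq_bot_of_card_eq Q h1]
    exact bot_le
  obtain ⟨R, hR⟩ := (Q₀.isPGroup'.map F.subtype).exists_le_sylow
  have hQc : ∀ a ∈ Q, ∀ b ∈ Q, a * b = b * a := fun a ha b hb =>
    PGroups.comm_of_isMulCommutative (hyp_of_surjective (QuotientGroup.mk'_surjective P₀) hab q hqp R) (hR ha) (hR hb)
  obtain ⟨y, hy, hne'⟩ := H71.exists_pow_ne_one P₀ hP₀p hfaith Q hQc hQcop x (hQn (mem_zpowers _)) (n := n + 1)
    (by rw [hexp S x hx]; exact P₀.one_mem) (by
      obtain ⟨w, hw, hwz⟩ := SetLike.not_le_iff_exists.mp hQz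
      refine ⟨w, hw, fun h => hwz (Subgroup.mem_centralizer_singleton_iff.mpr ?_)⟩
      exact h.symm)
  exact hne' (hexp S _ ((S : Subgroup G).mul_mem (Cores.pCore_le_sylow S hy) hx))

private theorem main (p : ℕ) [Fact p.Prime] : ∀ (n : ℕ) (G : Type u) [Group G] [Finite G],
    Cfsg.IsPSolvable p G →
    (∀ (q : ℕ) [Fact q.Prime], q ≠ p → ∀ Q : Sylow q G, IsMulCommutative (Q : Subgroup G)) →
    (∀ (P : Sylow p G), ∀ x ∈ (P : Subgroup G), x ^ p ^ n = 1) → Cfsg.PLengthLE p n G := by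
  have hp := (Fact.out : p.Prime)
  intro n
  induction n with
  | zero =>
    intro G _ _ _ _ hexp
    rw [Cores.pLengthLE_zero_iff, Nat.coprime_comm, hp.coprime_iff_not_dvd]
    intro hd
    obtain ⟨P⟩ : Nonempty (Sylow p G) := inferInstance
    have h1 : (P : Subgroup G) = ⊥ := (Subgroup.eq_bot_iff_forall _).mpr fun x hx => by simpa using hexp P x hx
    exact P.not_dvd_index (by rw [h1, Subgroup.index_bot]; exact hd)
  | succ n ih =>
    intro G _ _ hs hab hexp
    set K := Cfsg.pPrimeCore p G with hK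
    refine H71.pLengthLE_of_quotient_coprime K Cores.coprime_card_pPrimeCore ?_
    have hf := QuotientGroup.mk'_surjective K
    have hs1 : Cfsg.IsPSolvable p (G ⧸ K) := Cores.isPSolvable_quotient hs K
    have hab1 : ∀ (q : ℕ) [Fact q.Prime], q ≠ p → ∀ Q : Sylow q (G ⧸ K), IsMulCommutative (Q : Subgroup (G ⧸ K)) :=
      fun q _ hq Q => hyp_of_surjective hf hab q hq Q
    have hexp1 : ∀ (P : Sylow p (G ⧸ K)), ∀ x ∈ (P : Subgroup (G ⧸ K)), x ^ p ^ (n + 1) = 1 := by
      intro P x hx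
      obtain ⟨P', rfl⟩ := Sylow.mapSurjective_surjective hf p P
      obtain ⟨y, hy, rfl⟩ := hx
      rw [← map_pow, hexp P' y hy, map_one]
    have hK1 : Cfsg.pPrimeCore p (G ⧸ K) = ⊥ := Cores.pPrimeCore_quotient_pPrimeCore
    rw [H71.pLengthLE_succ_iff hK1]
    refine ih _ (Cores.isPSolvable_quotient hs1 _)
      (fun q _ hq Q => hyp_of_surjective (QuotientGroup.mk'_surjective _) hab1 q hq Q)
      (exp_step p n hs1 hab1 hexp1 hK1)


/-- Let G be a finite p-soluble group in which, for every prime q ≠ p, the Sylow q-subgroups are abelian. If the Sylow p-subgroups of G have exponent dividing p^n, then G has p-length at most n. -/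
theorem result {G : Type*} [Group G] [Finite G] {p : ℕ} [Fact p.Prime] (hG : Cfsg.IsPSolvable p G) (hab : ∀ (q : ℕ) [Fact q.Prime], q ≠ p → ∀ Q : Sylow q G, IsMulCommutative (Q : Subgroup G)) (n : ℕ) (hexp : ∀ (P : Sylow p G), ∀ x ∈ (P : Subgroup G), x ^ p ^ n = 1) : Cfsg.PLengthLE p n G := by
  exact main p n G hG hab hexp

end Cfsg.Agent.S3783
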