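import Cfsg.Statements.S3785
import Cfsg.Agent.Cores.Fitting
import Cfsg.Agent.H77.Subnormal
import Cfsg.Agent.H90.Odd
import Cfsg.Agent.Coprime.Generation

set_option autoImplicit false
open Cfsg

namespace Cfsg.Agent.S3785

open Subgroup
open scoped commutatorElement

variable {G : Type*} [Group G] [Finite G]

/-- An element of prime power order in `F(G)` lies in the corresponding core. -/
private theorem mem_pCore_of_mem_fitting {q : ℕ} [Fact q.Prime] {z : G} (hz : z ∈ Cfsg.fittingSubgroup G)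
    {k : ℕ} (hzq : z ^ q ^ k = 1) : z ∈ Cfsg.pCore q G := by
  have hF : Group.IsNilpotent (Cfsg.fittingSubgroup G) := Cores.fittingSubgroup_isNilpotent
  have hsn : (zpowers z).IsSubnormal := by
    refine Subgroup.IsSubnormal.trans (zpowers_le.2 hz) ?_ (Normal.isSubnormal inferInstance)
    exact H77.isSubnormal_of_isNilpotent hF _
  have hp : IsPGroup q (zpowers z) := by
    intro a
    obtain ⟨i, hi⟩ := mem_zpowers_iff.1 a.2
    refine ⟨k, Subtype.ext ?_⟩
    rw [SubgroupClass.coe_pow, ← hi, ← zpow_natCast, ← zpow_mul, mul_comm, zpow_mul, zpow_natCast, hzq,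
      one_zpow]
    rfl
  exact Cores.le_pCore_of_isSubnormal hsn hp (mem_zpowers z)

/-- A `p'`-element fixing the prime order elements of `F(G)` centralizes `O_p(G)`. -/
private theorem centralizes_pCore (hodd : Odd (Nat.card (Cfsg.fittingSubgroup G))) {p : ℕ} [hp : Fact p.Prime]
    {a : G} (ha : (orderOf a).Coprime p)
    (hfix : ∀ x ∈ Cfsg.fittingSubgroup G, (orderOf x).Prime → a * x = x * a) :
    ∀ z ∈ Cfsg.pCore p G, Commute a z := by
  intro z hz
  by_cases hz1 : z = 1
  · rw [hz1]; exact Commute.one_right a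
  have hPF : Cfsg.pCore p G ≤ Cfsg.fittingSubgroup G := Cores.pCore_le_fittingSubgroup hp.out
  have hP : IsPGroup p (Cfsg.pCore p G) := Cores.pCore_isPGroup
  have hp2 : p ≠ 2 := by
    rintro rfl
    obtain ⟨y, hy, hyo⟩ := PGroups.exists_orderOf_eq hP (H := (⊤ : Subgroup ↥(Cfsg.pCore 2 G))) (by
      intro h
      have h' : (⟨z, hz⟩ : ↥(Cfsg.pCore 2 G)) ∈ (⊥ : Subgroup ↥(Cfsg.pCore 2 G)) := h ▸ mem_top _
      exact hz1 (congrArg Subtype.val (mem_bot.1 h')))
    have h1 : (2 : ℕ) ∣ Nat.card (Cfsg.fittingSubgroup G) := by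
      rw [← hyo, ← Subgroup.orderOf_coe y, ← Subgroup.orderOf_mk _ (hPF y.2)]
      exact orderOf_dvd_natCard _
    exact absurd (even_iff_two_dvd.2 h1) (Nat.not_even_iff_odd.2 hodd)
  let β : MulAut (Cfsg.pCore p G) := MulAut.conjNormal a
  have hord : (orderOf β).Coprime p := ha.coprime_dvd_left (orderOf_map_dvd _ a)
  have h := H90.fix_of_fix_order_p hp2 hP β hord (fun x hx => ?_) ⟨z, hz⟩
  · have h' : a * z * a⁻¹ = z := congrArg Subtype.val h
    exact mul_inv_eq_iff_eq_mul.1 h'
  · apply Subtype.ext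
    show a * (x : G) * a⁻¹ = x
    by_cases hx1 : x = 1
    · simp [hx1]
    · rw [mul_inv_eq_iff_eq_mul]
      refine hfix x (hPF x.2) ?_
      rw [Subgroup.orderOf_coe, orderOf_eq_prime hx hx1]
      exact hp.out


/-- Let G be a finite solvable group whose Fitting subgroup F(G) has odd order. If an element g of G commutes with every element of prime order of F(G), then g ∈ F(G). -/
theorem result {G : Type*} [Group G] [Finite G] (hG : Group.IsSolvable G) (hodd : Odd (Nat.card (Cfsg.fittingSubgroup G))) (g : G) (hg : ∀ x ∈ Cfsg.fittingSubgroup G, (orderOf x).Prime → g * x = x * g) : g ∈ Cfsg.fittingSubgroup G := by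
  classical
  haveI := hG
  set F := Cfsg.fittingSubgroup G with hFdef
  let D : Subgroup G := Subgroup.centralizer {x : G | x ∈ F ∧ (orderOf x).Prime}
  have hgD : g ∈ D := Subgroup.mem_centralizer_iff.2 fun x hx => (hg x hx.1 hx.2).symm
  haveI hDn : D.Normal := Subgroup.Normal.mk fun d hd y => Subgroup.mem_centralizer_iff.2 fun x hx => by
    have h1 : Commute (y⁻¹ * x * y) d := Subgroup.mem_centralizer_iff.1 hd _
      ⟨(inferInstance : F.Normal).conj_mem' x hx.1 y, by
        rw [show orderOf (y⁻¹ * x * y) = orderOf x by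
          simpa using (MulAut.conj y⁻¹).orderOf_eq x]
        exact hx.2⟩
    calc x * (y * d * y⁻¹) = y * ((y⁻¹ * x * y) * d) * y⁻¹ := by group
      _ = y * (d * (y⁻¹ * x * y)) * y⁻¹ := by rw [h1.eq]
      _ = _ := by group
  have hkey : ∀ {p q : ℕ} [Fact p.Prime] [Fact q.Prime], p ≠ q → ∀ (a b : D) (m k : ℕ),
      a ^ p ^ m = 1 → b ^ q ^ k = 1 → Commute a b := by
    intro p q _ _ hpq a b m k ha hb
    have hp := (Fact.out : p.Prime)
    have hq := (Fact.out : q.Prime)
    have hcent : ∀ (r : ℕ) [Fact r.Prime] (d : D) (s : ℕ) (j : ℕ), s.Prime → s ≠ r → d ^ s ^ j = 1 →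
        ∀ z ∈ Cfsg.pCore r G, Commute (d : G) z := by
      intro r _ d s j hs hsr hd
      refine centralizes_pCore hodd ?_ fun x hx hxo => ?_
      · refine Nat.Coprime.coprime_dvd_left (orderOf_dvd_of_pow_eq_one (by simpa using congrArg Subtype.val hd)) ?_
        exact Nat.Coprime.pow_left _ ((Nat.coprime_primes hs Fact.out).2 hsr)
      · exact (Subgroup.mem_centralizer_iff.1 d.2 x ⟨hx, hxo⟩).symm
    set c : G := ⁅(a : G), (b : G)⁆ with hc
    -- `c` centralizes every core, hence lies in `F`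
    have hcF : c ∈ Subgroup.centralizer (F : Set G) := by
      have hle : F ≤ Subgroup.centralizer ({c} : Set G) := by
        rw [hFdef, Cores.iSup_pCore_eq_fittingSubgroup]
        refine iSup_le fun r => ?_
        intro z hz
        refine Subgroup.mem_centralizer_iff.2 ?_
        rintro _ rfl
        haveI := Fact.mk r.2
        have hzn : ∀ y : G, y * z * y⁻¹ ∈ Cfsg.pCore r G := fun y =>
          (inferInstance : (Cfsg.pCore (r : ℕ) G).Normal).conj_mem z hz y
        have hbi : ∀ {d : G}, (∀ z ∈ Cfsg.pCore (r : ℕ) G, Commute d z) → ∀ y : G,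
            ∀ z ∈ Cfsg.pCore (r : ℕ) G, Commute (y * d * y⁻¹) z := by
          intro d hd y z hz
          have h := hd _ ((inferInstance : (Cfsg.pCore (r : ℕ) G).Normal).conj_mem' z hz y)
          calc y * d * y⁻¹ * z = y * (d * (y⁻¹ * z * y)) * y⁻¹ := by group
            _ = y * ((y⁻¹ * z * y) * d) * y⁻¹ := by rw [h.eq]
            _ = _ := by group
        by_cases hrp : (r : ℕ) = p
        · have hb' := hcent (r : ℕ) b q k hq (by omega) hb
          have e : c = ((a : G) * b * (a : G)⁻¹) * (b : G)⁻¹ := by simp only [hc, commutatorElement_def]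
          rw [e]
          exact ((hbi hb' a z hz).mul_left (hb' z hz).inv_left).eq
        · have ha' := hcent (r : ℕ) a p m hp (fun h => hrp h.symm) ha
          have e : c = (a : G) * ((b : G) * (a : G)⁻¹ * (b : G)⁻¹) := by
            simp only [hc, commutatorElement_def]; group
          rw [e]
          exact ((ha' z hz).mul_left (hbi (fun z hz => (ha' z hz).inv_left) b z hz)).eq
      exact Subgroup.mem_centralizer_iff.2 fun z hz => (Subgroup.mem_centralizer_iff.1 (hle hz) c rfl).symm
    have hcF' : c ∈ F := Cores.centralizer_fittingSubgroup_le hcF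
    -- split `c` into its `q`-part and the rest
    obtain ⟨i, n, hn, hon⟩ := Nat.exists_eq_pow_mul_and_not_dvd (orderOf_pos c).ne' q hq.ne_one
    obtain ⟨u, v, huv⟩ : ∃ u v : ℤ, u * (n : ℤ) + v * (q : ℤ) ^ i = 1 := by
      have hcop : IsCoprime (n : ℤ) ((q : ℤ) ^ i) := by
        rw [← Nat.cast_pow, Nat.isCoprime_iff_coprime]
        exact Nat.Coprime.pow_right _ ((hq.coprime_iff_not_dvd).2 hn).symm
      exact hcop
    set c₁ := c ^ (u * (n : ℤ)) with hc₁
    set c₂ := c ^ (v * (q : ℤ) ^ i) with hc₂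
    have hc12 : c = c₁ * c₂ := by rw [hc₁, hc₂, ← zpow_add, huv, zpow_one]
    have hord : c ^ ((q : ℤ) ^ i * (n : ℤ)) = 1 := by
      rw [show (q : ℤ) ^ i * (n : ℤ) = ((q ^ i * n : ℕ) : ℤ) by push_cast; ring, zpow_natCast, ← hon,
        pow_orderOf_eq_one]
    have hc1q : c₁ ^ q ^ i = 1 := by
      rw [hc₁, ← zpow_natCast, ← zpow_mul, show u * (n : ℤ) * ((q ^ i : ℕ) : ℤ) = ((q : ℤ) ^ i * n) * u by
        push_cast; ring, zpow_mul, hord, one_zpow]
    have hc2n : c₂ ^ n = 1 := by
      rw [hc₂, ← zpow_natCast, ← zpow_mul, show v * (q : ℤ) ^ i * (n : ℤ) = ((q : ℤ) ^ i * n) * v by ring,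
        zpow_mul, hord, one_zpow]
    have hc2F : c₂ ∈ F := F.zpow_mem hcF' _
    -- `b` centralizes the `q'`-part
    have hbc2 : Commute (b : G) c₂ := by
      have hle : Subgroup.zpowers c₂ ≤ Subgroup.centralizer ({(b : G)} : Set G) := by
        refine Coprime.le_of_exists_sylow_le fun r hr => ?_
        haveI := Fact.mk hr
        obtain ⟨R⟩ := (inferInstance : Nonempty (Sylow r (Subgroup.zpowers c₂)))
        refine ⟨R, ?_⟩
        rintro _ ⟨z, hz, rfl⟩
        refine Subgroup.mem_centralizer_iff.2 ?_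
        rintro _ rfl
        by_cases hrq : r = q
        · subst hrq
          have hz1 : z = 1 := by
            obtain ⟨j, hj⟩ := IsPGroup.iff_orderOf.1 R.2 ⟨z, hz⟩
            rw [Subgroup.orderOf_mk] at hj
            have hd : orderOf z ∣ n := by
              refine (orderOf_dvd_natCard z).trans ?_
              rw [Nat.card_zpowers]; exact orderOf_dvd_of_pow_eq_one hc2n
            rw [← orderOf_eq_one_iff, hj]
            rcases Nat.eq_zero_or_pos j with rfl | hj0
            · rfl
            · exact absurd ((dvd_pow_self r (by omega)).trans (hj ▸ hd)) hn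
          simp [hz1]
        · obtain ⟨j, hj⟩ := R.2 ⟨z, hz⟩
          have hzF : ((z : Subgroup.zpowers c₂) : G) ∈ F := Subgroup.zpowers_le.2 hc2F z.2
          exact (hcent r b q k hq (Ne.symm hrq) hb _ (mem_pCore_of_mem_fitting hzF (k := j)
            (by simpa [Subtype.ext_iff] using hj))).eq
      exact (Subgroup.mem_centralizer_iff.1 (hle (Subgroup.mem_zpowers c₂)) _ rfl)
    have hac1 : Commute (a : G) c₁ := hcent q a p m hp hpq ha _ (mem_pCore_of_mem_fitting (F.zpow_mem hcF' _) hc1q)
    have hbq : (b : G) ^ q ^ k = 1 := by simpa using congrArg Subtype.val hb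
    have hap : (a : G) ^ p ^ m = 1 := by simpa using congrArg Subtype.val ha
    have hconj : (a : G) * b * (a : G)⁻¹ = c * b := by simp only [hc, commutatorElement_def]; group
    -- the `q'`-part vanishes
    have hc₂1 : c₂ = 1 := by
      have h12 : Commute c₁ c₂ := Commute.zpow_zpow (Commute.refl c) _ _
      have h1 : (c * (b : G)) ^ q ^ k = 1 := by rw [← hconj, conj_pow, hbq, mul_one, mul_inv_cancel]
      rw [hc12, h12.eq, mul_assoc, (h12.symm.mul_right hbc2.symm).mul_pow] at h1
      set N := q ^ k with hN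
      -- the second factor is a `q`-element
      have h2 : ((c₁ * (b : G)) ^ N) ^ n = 1 := by
        rw [eq_inv_of_mul_eq_one_right h1, inv_pow, ← pow_mul, mul_comm, pow_mul, hc2n, one_pow, inv_one]
      have hbn : (b : G) ∈ Subgroup.normalizer (Cfsg.pCore q G : Set G) :=
        (Subgroup.normalizer_eq_top (Cfsg.pCore q G)).symm ▸ Subgroup.mem_top _
      have h3 : (c₁ * (b : G)) ^ N ∈ Cfsg.pCore q G := by
        rw [← QuotientGroup.eq_one_iff, QuotientGroup.mk_pow, QuotientGroup.mk_mul,
          (QuotientGroup.eq_one_iff c₁).2 (mem_pCore_of_mem_fitting (F.zpow_mem hcF' _) hc1q), one_mul,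
          ← QuotientGroup.mk_pow, hbq, QuotientGroup.mk_one]
      obtain ⟨j, hj⟩ := Cores.pCore_isPGroup (p := q) (G := G) ⟨_, h3⟩
      have hj' : ((c₁ * (b : G)) ^ N) ^ q ^ j = 1 := by simpa using congrArg Subtype.val hj
      have h4 : (c₁ * (b : G)) ^ N = 1 := by
        have := pow_gcd_eq_one.2 ⟨h2, hj'⟩
        rwa [(Nat.Coprime.pow_right _ ((hq.coprime_iff_not_dvd).2 hn).symm).gcd_eq_one, pow_one] at this
      rw [h4, mul_one] at h1
      have := pow_gcd_eq_one.2 ⟨hc2n, h1⟩
      rwa [(Nat.Coprime.pow_right _ ((hq.coprime_iff_not_dvd).2 hn).symm).gcd_eq_one, pow_one] at this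
    rw [hc₂1, mul_one] at hc12
    have hiter : ∀ r : ℕ, (a : G) ^ r * b * ((a : G) ^ r)⁻¹ = c ^ r * b := by
      intro r
      induction r with
      | zero => simp
      | succ r ih =>
        calc (a : G) ^ (r + 1) * b * ((a : G) ^ (r + 1))⁻¹
            = (a : G) * ((a : G) ^ r * b * ((a : G) ^ r)⁻¹) * (a : G)⁻¹ := by rw [pow_succ']; group
          _ = (a : G) * c ^ r * ((a : G)⁻¹ * ((a : G) * b * (a : G)⁻¹)) := by rw [ih]; group
          _ = c ^ r * ((a : G) * (a : G)⁻¹) * (c * b) := by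
              rw [hconj, ((hc12 ▸ hac1 : Commute (a : G) c).pow_right r).eq]; group
          _ = _ := by rw [mul_inv_cancel, mul_one, pow_succ, mul_assoc]
    have h1 : c ^ p ^ m = 1 := by
      have h := hiter (p ^ m)
      rw [hap, one_mul, inv_one, mul_one] at h
      exact mul_eq_right.1 h.symm
    have h2 : c ^ q ^ i = 1 := hc12 ▸ hc1q
    have hc1 : c = 1 := by
      have h := pow_gcd_eq_one.2 ⟨h1, h2⟩
      rwa [(Nat.Coprime.pow _ _ ((Nat.coprime_primes hp hq).2 hpq)).gcd_eq_one, pow_one] at h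
    exact Subtype.ext (commutatorElement_eq_one_iff_mul_comm.1 hc1)
  have hnil : Group.IsNilpotent D := by
    refine (Group.isNilpotent_of_finite_tfae.out 0 3 rfl rfl).2 fun p hp P => ?_
    rw [← Subgroup.normalizer_eq_top_iff, eq_top_iff]
    refine Coprime.le_of_exists_sylow_le fun q hq => ?_
    haveI := Fact.mk hq
    by_cases hqp : q = p
    · subst hqp
      refine ⟨P.mapSurjective (f := (Subgroup.topEquiv (G := D)).symm.toMonoidHom) (MulEquiv.surjective _), ?_⟩
      rintro _ ⟨_, ⟨z, hz, rfl⟩, rfl⟩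
      exact Subgroup.le_normalizer hz
    · obtain ⟨Q⟩ := (inferInstance : Nonempty (Sylow q (⊤ : Subgroup D)))
      refine ⟨Q, ?_⟩
      rintro _ ⟨z, hz, rfl⟩
      obtain ⟨j, hj⟩ := Q.2 ⟨z, hz⟩
      have hzq : ((z : (⊤ : Subgroup D)) : D) ^ q ^ j = 1 := by
        simpa [Subtype.ext_iff] using hj
      refine Subgroup.centralizer_le_normalizer _ (Subgroup.mem_centralizer_iff.2 fun y hy => ?_)
      obtain ⟨l, hl⟩ := P.2 ⟨y, hy⟩
      exact (hkey (p := p) (q := q) (Ne.symm hqp) y _ l j (by simpa using congrArg Subtype.val hl) hzq).eq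
  exact Cores.le_fittingSubgroup hnil hgD

end Cfsg.Agent.S3785
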