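import Cfsg.Statements.S3786
import Cfsg.Agent.H71.HallHigmanStep
import Cfsg.Agent.H71.ExceptionalCommute
import Cfsg.Agent.H71.PLength
import Cfsg.Agent.H71.MinimalAction
import Cfsg.Agent.PGroups.Critical

set_option autoImplicit false
set_option linter.style.haveILetI false
set_option linter.unusedSectionVars false
set_option maxHeartbeats 1000000
open Cfsg

namespace Cfsg.Agent.S3786

open Subgroup
open scoped IsMulCommutative commutatorElement
open Cfsg.Agent.Coprime

universe u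

variable {p : ℕ} [Fact p.Prime]

/-- A `p`-element centralising every invariant Sylow subgroup of `O_p'` is trivial when `O_p = 1`. -/
private theorem eq_one_of_centralizes_invariant {Y : Type u} [Group Y] [Finite Y] (hs : Cfsg.IsPSolvable p Y)
    (hO : Cfsg.pCore p Y = ⊥) {A : Subgroup Y} (hA : IsPGroup p A) {c : Y} (hc : c ∈ A)
    (h : ∀ q : ℕ, Fact q.Prime → q ≠ p → ∀ Q : Subgroup Y, IsPGroup q Q → A ≤ normalizer (Q : Set Y) →
      c ∈ centralizer (Q : Set Y)) : c = 1 := by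
  have hp : p.Prime := Fact.out
  set F := Cfsg.pPrimeCore p Y with hF
  haveI : Group.IsNilpotent A := hA.isNilpotent
  have hAsol : Group.IsSolvable A := inferInstance
  have hAF : A ≤ normalizer (F : Set Y) := by
    rw [Subgroup.normalizer_eq_top_iff.mpr inferInstance]; exact le_top
  have hcop : (Nat.card A).Coprime (Nat.card F) := by
    obtain ⟨j, hj⟩ := IsPGroup.iff_card.mp hA
    rw [hj]
    exact Nat.Coprime.pow_left j (Cores.coprime_card_pPrimeCore (p := p)).symm
  have hFc : F ≤ centralizer ({c} : Set Y) := Coprime.le_of_exists_sylow_le fun q hq => by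
    haveI : Fact q.Prime := ⟨hq⟩
    obtain ⟨Q₀, hQ₀⟩ := Coprime.exists_invariant_sylow hAF hcop (Or.inl hAsol) q
    refine ⟨Q₀, fun w hw => ?_⟩
    by_cases hqp : q = p
    · subst hqp
      have h1 : (Q₀ : Subgroup F).map F.subtype = ⊥ := by
        obtain ⟨j, hj⟩ := IsPGroup.iff_card.mp (Q₀.isPGroup'.map F.subtype)
        refine Subgroup.eq_bot_of_card_eq _ ?_
        have h2 := (Cores.coprime_card_pPrimeCore (p := q) (G := Y)).coprime_dvd_left
          (Subgroup.card_dvd_of_le (map_subtype_le (Q₀ : Subgroup F)))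
        rcases j with _ | j
        · rw [hj, pow_zero]
        · rw [hj] at h2
          exact absurd (Nat.eq_one_of_dvd_coprimes h2 (dvd_pow_self q j.succ_ne_zero) dvd_rfl) hq.ne_one
      rw [h1, mem_bot] at hw
      rw [hw]; exact one_mem _
    · exact mem_centralizer_singleton_iff.mpr
        (mem_centralizer_iff.mp (h q ⟨hq⟩ hqp _ (Q₀.isPGroup'.map F.subtype) hQ₀) w hw)
  have h1 := H71.eq_bot_of_centralizes hs hO (A := zpowers c) (hA.to_le (zpowers_le.mpr hc))
    (zpowers_le.mpr (mem_centralizer_iff.mpr fun f hf => mem_centralizer_singleton_iff.mp (hFc hf)))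
  exact zpowers_eq_bot.mp h1

/-- It is enough to centralise every invariant 2-subgroup of class two. -/
private theorem mem_centralizer_of_classTwo {Y : Type u} [Group Y] [Finite Y] (hp2 : p ≠ 2) {A : Subgroup Y}
    (hA : IsPGroup p A) {c : Y} (hc : c ∈ A)
    (h : ∀ D : Subgroup Y, H71.ClassTwo D → IsPGroup 2 D → A ≤ normalizer (D : Set Y) →
      c ∈ centralizer (D : Set Y)) (Q : Subgroup Y) (hQ : IsPGroup 2 Q) (hAQ : A ≤ normalizer (Q : Set Y)) :
    c ∈ centralizer (Q : Set Y) := by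
  haveI : Fact (Nat.Prime 2) := ⟨Nat.prime_two⟩
  obtain ⟨H, hH, hfr, -, hCH⟩ := PGroups.exists_critical hQ
  haveI := hH
  have hHp := hQ.to_subgroup H
  set D := H.map Q.subtype with hD
  have hzc : ∀ w : H, w ∈ frattini H → ((w : Q) : Y) ∈ H71.zc D := by
    intro w hw
    refine ⟨mem_map_of_mem _ w.2, mem_centralizer_iff.mpr ?_⟩
    rintro _ ⟨v, hv, rfl⟩
    exact congrArg Subtype.val (mem_centralizer_iff.mp (hfr (mem_map_of_mem H.subtype hw)) v hv)
  have hct : H71.ClassTwo D := by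
    refine ⟨?_, ?_⟩
    · rintro _ ⟨a, ha, rfl⟩ _ ⟨b, hb, rfl⟩
      exact hzc ⁅(⟨a, ha⟩ : H), ⟨b, hb⟩⁆ (PGroups.commutator_le_frattini hHp
        (Subgroup.commutator_mem_commutator (mem_top _) (mem_top _)))
    · rintro _ ⟨a, ha, rfl⟩
      have h2 := hzc _ (PGroups.pow_mem_frattini hHp (⟨a, ha⟩ : H))
      rw [SubmonoidClass.coe_pow, SubmonoidClass.coe_pow, pow_two] at h2
      exact h2
  have hD2 : IsPGroup 2 D := hHp.map Q.subtype
  have hcD := h D hct hD2 (H71.le_normalizer_map_of_characteristic H hAQ)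
  let a : MulAut Q := Subgroup.normalizerMonoidHom Q ⟨c, hAQ hc⟩
  have ha : Nat.Coprime (orderOf a) 2 := by
    obtain ⟨j, hj⟩ := hA ⟨c, hc⟩
    have hcj : (⟨c, hAQ hc⟩ : normalizer (Q : Set Y)) ^ p ^ j = 1 :=
      Subtype.ext (congrArg Subtype.val hj : c ^ p ^ j = 1)
    exact Nat.Coprime.coprime_dvd_left (orderOf_dvd_of_pow_eq_one (by rw [← map_pow, hcj, map_one]))
      (((Nat.coprime_primes (Fact.out : p.Prime) Nat.prime_two).mpr hp2).pow_left j)
  have h1 := PGroups.mulAut_eq_one_of_fixed hQ H hCH a ha fun x hx => Subtype.ext (by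
    show c * (x : Y) * c⁻¹ = x
    rw [← mem_centralizer_iff.mp hcD (x : Y) (mem_map_of_mem Q.subtype hx), mul_inv_cancel_right])
  refine mem_centralizer_iff.mpr fun w hw => ?_
  have h2 : c * w * c⁻¹ = w := congrArg Subtype.val (MulEquiv.congr_fun h1 ⟨w, hw⟩)
  exact (mul_inv_eq_iff_eq_mul.mp h2).symm

variable {G : Type u} [Group G] [Finite G]

/-- The representation of `G ⧸ O_p(G)` on the dual of the Frattini quotient of `O_p(G)`. -/
private noncomputable def layerRep (p : ℕ) [Fact p.Prime] (G : Type u) [Group G] [Finite G] :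
    G ⧸ Cfsg.pCore p G →* Module.End (LinRep.Coeff p) (LinRep.Sp (H71.layer p G) p) :=
  QuotientGroup.lift (Cfsg.pCore p G) ((LinRep.rep (H71.layer p G) p).comp (QuotientGroup.mk' (H71.phi p G)))
    fun w hw => (LinRep.rep_eq_one_iff (H71.layer p G) p H71.pow_eq_one_of_mem_layer _).mpr
      (Subgroup.le_centralizer _ (mem_map_of_mem _ hw))

private theorem layerRep_injective (hs : Cfsg.IsPSolvable p G) (hK : Cfsg.pPrimeCore p G = ⊥) :
    Function.Injective (layerRep p G) := by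
  refine (injective_iff_map_eq_one' (layerRep p G)).mpr fun v => ⟨fun hv => ?_, fun hv => by rw [hv, map_one]⟩
  obtain ⟨w, rfl⟩ := QuotientGroup.mk_surjective v
  have h1 : w ∈ (H71.layer p G).comap (QuotientGroup.mk' (H71.phi p G)) :=
    H71.centralizer_layer_le hs hK ((LinRep.rep_eq_one_iff (H71.layer p G) p H71.pow_eq_one_of_mem_layer _).mp hv)
  rw [H71.comap_layer] at h1
  exact (QuotientGroup.eq_one_iff _).mpr h1

private theorem layerRep_pow_apply (x : G) (i : ℕ) (f : LinRep.Sp (H71.layer p G) p) (u : H71.layer p G) :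
    (layerRep p G ((x : G) : G ⧸ Cfsg.pCore p G) ^ i) f (Additive.ofMul u) =
      f (Additive.ofMul ((MulAut.conjNormal (((x⁻¹ : G) : G ⧸ H71.phi p G) ^ i) : MulAut (H71.layer p G)) u)) := by
  rw [← map_pow, ← QuotientGroup.mk_pow]
  show LinRep.rep (H71.layer p G) p ((x ^ i : G) : G ⧸ H71.phi p G) f _ = _
  rw [LinRep.rep_apply, QuotientGroup.mk_pow, QuotientGroup.mk_inv, inv_pow]

private theorem norm_eq {m : ℕ} (S : Sylow p G) (hexp : ∀ y ∈ (S : Subgroup G), y ^ p ^ m = 1) {x : G}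
    (hx : x ∈ (S : Subgroup G)) (u : H71.layer p G) :
    ∏ i ∈ Finset.range (p ^ m), (MulAut.conjNormal ((x : G ⧸ H71.phi p G) ^ i) : MulAut (H71.layer p G)) u = 1 := by
  obtain ⟨w, hw, hwu⟩ := u.2
  have h1 := H71.mul_pow_eq_prod_conj (H71.layer p G) (x : G ⧸ H71.phi p G) u (p ^ m)
  rw [← QuotientGroup.mk_pow, hexp x hx, QuotientGroup.mk_one, mul_one, ← hwu, QuotientGroup.mk'_apply,
    ← QuotientGroup.mk_mul, ← QuotientGroup.mk_pow,
    hexp _ ((S : Subgroup G).mul_mem (Cores.pCore_le_sylow S hw) hx), QuotientGroup.mk_one] at h1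
  exact Subtype.ext h1.symm

private theorem sum_eq_zero {m : ℕ} (S : Sylow p G) (hexp : ∀ y ∈ (S : Subgroup G), y ^ p ^ m = 1) {x : G}
    (hx : x ∈ (S : Subgroup G)) :
    ∑ i ∈ Finset.range (p ^ m), layerRep p G (x : G ⧸ Cfsg.pCore p G) ^ i = 0 := by
  refine LinearMap.ext fun f => AddMonoidHom.ext fun v => ?_
  induction v using Additive.rec with
  | _ u =>
    simp only [LinearMap.sum_apply, AddMonoidHom.finsetSum_apply, LinearMap.zero_apply, AddMonoidHom.zero_apply]
    rw [Finset.sum_congr rfl fun i _ => layerRep_pow_apply x i f u, ← map_sum, ← ofMul_prod,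
      norm_eq S hexp (inv_mem hx), ofMul_one, map_zero]

private theorem coeff_two_ne_zero (hp2 : p ≠ 2) : (2 : LinRep.Coeff p) ≠ 0 := fun h =>
  hp2 ((Nat.prime_dvd_prime_iff_eq (Fact.out : p.Prime) Nat.prime_two).mp
    ((CharP.cast_eq_zero_iff (LinRep.Coeff p) p 2).mp (by exact_mod_cast h)))

private theorem coeff_prime_ne_zero {q : ℕ} (hq : q.Prime) (hqp : q ≠ p) : (q : LinRep.Coeff p) ≠ 0 := fun h =>
  hqp ((Nat.prime_dvd_prime_iff_eq (Fact.out : p.Prime) hq).mp
    ((CharP.cast_eq_zero_iff (LinRep.Coeff p) p q).mp h)).symm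

/-- The `p ^ n`-th powers of a Sylow `p`-subgroup commute modulo `O_p`. -/
private theorem comm_step (hp2 : p ≠ 2) (hs : Cfsg.IsPSolvable p G) (hK : Cfsg.pPrimeCore p G = ⊥) (n : ℕ)
    (S : Sylow p G) (hexp : ∀ y ∈ (S : Subgroup G), y ^ p ^ (n + 1) = 1) {x x' : G}
    (hx : x ∈ (S : Subgroup G)) (hx' : x' ∈ (S : Subgroup G)) :
    ⁅(x : G ⧸ Cfsg.pCore p G) ^ p ^ n, (x' : G ⧸ Cfsg.pCore p G) ^ p ^ n⁆ = 1 := by
  have hp : p.Prime := Fact.out
  set π := QuotientGroup.mk' (Cfsg.pCore p G) with hπ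
  set A := (S : Subgroup G).map π with hA
  have hAp : IsPGroup p A := S.isPGroup'.map π
  have hxA : (x : G ⧸ Cfsg.pCore p G) ∈ A := mem_map_of_mem π hx
  have hxA' : (x' : G ⧸ Cfsg.pCore p G) ∈ A := mem_map_of_mem π hx'
  have hord : ∀ z ∈ (S : Subgroup G), (z : G ⧸ Cfsg.pCore p G) ^ p ^ (n + 1) = 1 := fun z hz => by
    rw [← QuotientGroup.mk_pow, hexp z hz, QuotientGroup.mk_one]
  have hcA : ⁅(x : G ⧸ Cfsg.pCore p G) ^ p ^ n, (x' : G ⧸ Cfsg.pCore p G) ^ p ^ n⁆ ∈ A := by
    rw [commutatorElement_def]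
    exact mul_mem (mul_mem (mul_mem (pow_mem hxA _) (pow_mem hxA' _)) (inv_mem (pow_mem hxA _)))
      (inv_mem (pow_mem hxA' _))
  refine eq_one_of_centralizes_invariant (Cores.isPSolvable_quotient hs _) Cores.pCore_quotient_pCore hAp hcA
    fun q hqf hqp Q hQ hAQ => ?_
  haveI := hqf
  have hq : q.Prime := Fact.out
  -- outside the exception the powers centralise `Q`
  have hout : (¬ (q = 2 ∧ ∃ m, 0 < m ∧ p = 2 ^ m + 1)) → ∀ z ∈ (S : Subgroup G),
      (z : G ⧸ Cfsg.pCore p G) ^ p ^ n ∈ centralizer (Q : Set (G ⧸ Cfsg.pCore p G)) := fun hne z hz => by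
    have h := H71.hall_higman_B (s := q) hqp hp2 (coeff_prime_ne_zero hq hqp) (layerRep_injective hs hK)
      (Nat.succ_pos n) Q hQ _ (hAQ (mem_map_of_mem π hz)) (hord z hz) (Or.inl hne) (sum_eq_zero S hexp hz)
      (mem_zpowers _)
    exact h
  by_cases hexc : q = 2 ∧ ∃ m, 0 < m ∧ p = 2 ^ m + 1
  swap
  · rw [commutatorElement_def]
    exact mul_mem (mul_mem (mul_mem (hout hexc x hx) (hout hexc x' hx')) (inv_mem (hout hexc x hx)))
      (inv_mem (hout hexc x' hx'))
  obtain ⟨rfl, m, hm, hpm⟩ := hexc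
  exact mem_centralizer_of_classTwo hp2 hAp hcA (fun D hD hD2 hAD =>
    H71.commutator_mem_centralizer (n := n) hm hpm (coeff_two_ne_zero hp2) (layerRep_injective hs hK) hD hD2 A hAp
      hAD hxA hxA' (hord x hx) (hord x' hx') (sum_eq_zero S hexp hx) (sum_eq_zero S hexp hx')) Q hQ hAQ

/-- Commuting powers lie in `O_p`, modulo it. -/
private theorem pow_eq_one_step (hp2 : p ≠ 2) (hs : Cfsg.IsPSolvable p G) (hK : Cfsg.pPrimeCore p G = ⊥) (n : ℕ)
    (S : Sylow p G) (hexp : ∀ y ∈ (S : Subgroup G), y ^ p ^ (n + 1) = 1)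
    (hcomm : ∀ a ∈ (S : Subgroup G), ∀ b ∈ (S : Subgroup G), Commute (a ^ p ^ n) (b ^ p ^ n))
    {x : G} (hx : x ∈ (S : Subgroup G)) : (x : G ⧸ Cfsg.pCore p G) ^ p ^ n = 1 := by
  have hp : p.Prime := Fact.out
  set π := QuotientGroup.mk' (Cfsg.pCore p G) with hπ
  set A := (S : Subgroup G).map π with hA
  have hAp : IsPGroup p A := S.isPGroup'.map π
  have hxA : (x : G ⧸ Cfsg.pCore p G) ∈ A := mem_map_of_mem π hx
  have hord : (x : G ⧸ Cfsg.pCore p G) ^ p ^ (n + 1) = 1 := by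
    rw [← QuotientGroup.mk_pow, hexp x hx, QuotientGroup.mk_one]
  have hsum := sum_eq_zero S hexp hx
  refine eq_one_of_centralizes_invariant (Cores.isPSolvable_quotient hs _) Cores.pCore_quotient_pCore hAp
    (pow_mem hxA _) fun q hqf hqp Q hQ hAQ => ?_
  haveI := hqf
  have hq : q.Prime := Fact.out
  by_cases hq2 : q = 2
  swap
  · have h := H71.hall_higman_B (s := q) hqp hp2 (coeff_prime_ne_zero hq hqp) (layerRep_injective hs hK)
      (Nat.succ_pos n) Q hQ _ (hAQ hxA) hord (Or.inl fun h => hq2 h.1) hsum (mem_zpowers _)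
    simpa using h
  subst hq2
  refine mem_centralizer_of_classTwo hp2 hAp (pow_mem hxA _) (fun D hD hD2 hAD =>
    H71.pow_mem_centralizer_of_mul_eq_zero hp2 (coeff_two_ne_zero hp2) (layerRep_injective hs hK) hD hD2
      (hAD hxA) hord hsum (CharP.cast_eq_zero (LinRep.Coeff p) p) ?_) Q hQ hAQ
  -- the quadratic identity
  refine LinearMap.ext fun f => AddMonoidHom.ext fun v => ?_
  induction v using Additive.rec with
  | _ u =>
    simp only [Module.End.mul_apply, LinearMap.sub_apply, Module.End.one_apply, AddMonoidHom.sub_apply,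
      LinearMap.zero_apply, AddMonoidHom.zero_apply, layerRep_pow_apply]
    simp only [LinearMap.sum_apply, AddMonoidHom.finsetSum_apply, layerRep_pow_apply]
    rw [← map_sum f, ← map_sum f, ← ofMul_prod, ← ofMul_prod]
    set y := (((x⁻¹ : G)) : G ⧸ H71.phi p G) with hy
    set N := ∏ i ∈ Finset.range (p ^ n), (MulAut.conjNormal (y ^ i) : MulAut (H71.layer p G)) u with hN
    have e1 : ∏ i ∈ Finset.range (p ^ n), (MulAut.conjNormal (y ^ i) : MulAut (H71.layer p G))
        ((MulAut.conjNormal (y ^ p ^ n) : MulAut (H71.layer p G)) u) =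
        (MulAut.conjNormal (y ^ p ^ n) : MulAut (H71.layer p G)) N := by
      rw [hN, map_prod]
      refine Finset.prod_congr rfl fun i _ => ?_
      rw [← MulAut.mul_apply, ← MulAut.mul_apply, ← map_mul, ← map_mul, (Commute.pow_pow_self y i _).eq]
    have e2 : (MulAut.conjNormal (y ^ p ^ n) : MulAut (H71.layer p G)) N = N := by
      obtain ⟨w, hw, hwu⟩ := u.2
      have hc : Commute ((w * x⁻¹) ^ p ^ n) ((x⁻¹) ^ p ^ n) :=
        hcomm _ ((S : Subgroup G).mul_mem (Cores.pCore_le_sylow S hw) (inv_mem hx)) _ (inv_mem hx)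
      have h2 := hc.map (QuotientGroup.mk' (H71.phi p G))
      rw [map_pow, map_pow, map_mul, hwu, QuotientGroup.mk'_apply, ← hy,
        H71.mul_pow_eq_prod_conj (H71.layer p G) y u (p ^ n), ← hN] at h2
      have h3 : Commute ((N : G ⧸ H71.phi p G)) (y ^ p ^ n) := by
        have h4 := h2.mul_left ((Commute.refl (y ^ p ^ n)).inv_left)
        rwa [mul_inv_cancel_right] at h4
      exact Subtype.ext (by rw [MulAut.conjNormal_apply, ← h3.eq, mul_inv_cancel_right])
    rw [e1, e2, sub_self]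

private theorem exp_quotient {N : Subgroup G} [N.Normal] {m : ℕ}
    (hexp : ∀ (P : Sylow p G), ∀ x ∈ (P : Subgroup G), x ^ p ^ m = 1) (P : Sylow p (G ⧸ N)) :
    ∀ x ∈ (P : Subgroup (G ⧸ N)), x ^ p ^ m = 1 := by
  intro x hx
  obtain ⟨P', rfl⟩ := Sylow.mapSurjective_surjective (QuotientGroup.mk'_surjective N) p P
  obtain ⟨y, hy, rfl⟩ := hx
  rw [← map_pow, hexp P' y hy, map_one]

private theorem main_a (hp2 : p ≠ 2) : ∀ (n : ℕ) (G : Type u) [Group G] [Finite G],
    Cfsg.IsPSolvable p G →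
    ((¬ ∃ k : ℕ, p = 2 ^ k + 1) ∨ ∀ S : Sylow 2 G, IsMulCommutative (S : Subgroup G)) →
    (∀ (P : Sylow p G), ∀ x ∈ (P : Subgroup G), x ^ p ^ n = 1) → Cfsg.PLengthLE p n G := by
  have hp := (Fact.out : p.Prime)
  intro n
  induction n with
  | zero =>
    intro G _ _ _ _ hexp
    rw [Cores.pLengthLE_zero_iff, Nat.coprime_comm, hp.coprime_iff_not_dvd]
    intro hd
    obtain ⟨P⟩ : Nonempty (Sylow p G) := inferInstance
    have h1 : (P : Subgroup G) = ⊥ := (Subgroup.eq_bot_iff_forall _).mpr fun x hx => by simpa using hexp P x hx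
    exact P.not_dvd_index (by rw [h1, Subgroup.index_bot]; exact hd)
  | succ n ih =>
    intro G _ _ hs hexc hexp
    have htrans : ∀ {X : Type u} [Group X] [Finite X] (M : Subgroup X) [M.Normal],
        ((¬ ∃ k : ℕ, p = 2 ^ k + 1) ∨ ∀ S : Sylow 2 X, IsMulCommutative (S : Subgroup X)) →
        ((¬ ∃ k : ℕ, p = 2 ^ k + 1) ∨ ∀ S : Sylow 2 (X ⧸ M), IsMulCommutative (S : Subgroup (X ⧸ M))) := by
      intro X _ _ M _ h
      refine h.imp_right fun hab S => ?_
      obtain ⟨S', rfl⟩ := Sylow.mapSurjective_surjective (QuotientGroup.mk'_surjective M) 2 S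
      refine PGroups.isMulCommutative_of_comm ?_
      rintro _ ⟨a, ha, rfl⟩ _ ⟨b, hb, rfl⟩
      rw [← map_mul, ← map_mul, PGroups.comm_of_isMulCommutative (hab S') ha hb]
    set K := Cfsg.pPrimeCore p G with hK
    refine H71.pLengthLE_of_quotient_coprime K Cores.coprime_card_pPrimeCore ?_
    have hs1 : Cfsg.IsPSolvable p (G ⧸ K) := Cores.isPSolvable_quotient hs K
    have hexp1 := fun P => exp_quotient (N := K) hexp P
    have hK1 : Cfsg.pPrimeCore p (G ⧸ K) = ⊥ := Cores.pPrimeCore_quotient_pPrimeCore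
    rw [H71.pLengthLE_succ_iff hK1]
    refine ih _ (Cores.isPSolvable_quotient hs1 _) (htrans _ (htrans _ hexc)) fun P xb hxb => ?_
    obtain ⟨S, rfl⟩ := Sylow.mapSurjective_surjective (QuotientGroup.mk'_surjective _) p P
    obtain ⟨x, hx, rfl⟩ := hxb
    by_contra hne
    obtain ⟨u, hu⟩ := H71.exists_layer_norm_ne_one hp2 hs1 hK1 (htrans _ hexc) S x hx n
      (by rw [hexp1 S x hx]; exact one_mem _)
      (fun h => hne (by rw [← map_pow]; exact (QuotientGroup.eq_one_iff _).mpr h))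
    exact hu (norm_eq S (hexp1 S) hx u)

private theorem main_b (hp2 : p ≠ 2) : ∀ (n : ℕ) (G : Type u) [Group G] [Finite G],
    Cfsg.IsPSolvable p G →
    (∀ (P : Sylow p G), ∀ x ∈ (P : Subgroup G), x ^ p ^ n = 1) → Cfsg.PLengthLE p (2 * n) G := by
  have hp := (Fact.out : p.Prime)
  intro n
  induction n with
  | zero =>
    intro G _ _ _ hexp
    rw [mul_zero, Cores.pLengthLE_zero_iff, Nat.coprime_comm, hp.coprime_iff_not_dvd]
    intro hd
    obtain ⟨P⟩ : Nonempty (Sylow p G) := inferInstance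
    have h1 : (P : Subgroup G) = ⊥ := (Subgroup.eq_bot_iff_forall _).mpr fun x hx => by simpa using hexp P x hx
    exact P.not_dvd_index (by rw [h1, Subgroup.index_bot]; exact hd)
  | succ n ih =>
    intro G _ _ hs hexp
    set K := Cfsg.pPrimeCore p G with hK
    refine H71.pLengthLE_of_quotient_coprime K Cores.coprime_card_pPrimeCore ?_
    have hs1 : Cfsg.IsPSolvable p (G ⧸ K) := Cores.isPSolvable_quotient hs K
    have hexp1 := fun P => exp_quotient (N := K) hexp P
    have hK1 : Cfsg.pPrimeCore p (G ⧸ K) = ⊥ := Cores.pPrimeCore_quotient_pPrimeCore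
    rw [show 2 * (n + 1) = 2 * n + 1 + 1 by ring, H71.pLengthLE_succ_iff hK1]
    set G1 := (G ⧸ K) ⧸ Cfsg.pCore p (G ⧸ K)
    set F := Cfsg.pPrimeCore p G1 with hF
    refine H71.pLengthLE_of_quotient_coprime F Cores.coprime_card_pPrimeCore ?_
    have hsG1 : Cfsg.IsPSolvable p G1 := Cores.isPSolvable_quotient hs1 _
    have hs2 : Cfsg.IsPSolvable p (G1 ⧸ F) := Cores.isPSolvable_quotient hsG1 F
    have hK2 : Cfsg.pPrimeCore p (G1 ⧸ F) = ⊥ := Cores.pPrimeCore_quotient_pPrimeCore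
    rw [H71.pLengthLE_succ_iff hK2]
    refine ih _ (Cores.isPSolvable_quotient hs2 _) fun P xb hxb => ?_
    obtain ⟨S2, rfl⟩ := Sylow.mapSurjective_surjective (QuotientGroup.mk'_surjective _) p P
    obtain ⟨x, hx, rfl⟩ := hxb
    have hexp2 := exp_quotient (N := F) (fun Q => exp_quotient (N := Cfsg.pCore p (G ⧸ K)) hexp1 Q) S2
    refine pow_eq_one_step hp2 hs2 hK2 n S2 hexp2 (fun a ha b hb => ?_) hx
    obtain ⟨S1, rfl⟩ := Sylow.mapSurjective_surjective (QuotientGroup.mk'_surjective F) p S2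
    obtain ⟨S0, rfl⟩ := Sylow.mapSurjective_surjective (QuotientGroup.mk'_surjective _) p S1
    obtain ⟨_, ⟨a, ha, rfl⟩, rfl⟩ := ha
    obtain ⟨_, ⟨b, hb, rfl⟩, rfl⟩ := hb
    rw [← map_pow, ← map_pow]
    refine Commute.map ?_ (QuotientGroup.mk' F)
    exact commutatorElement_eq_one_iff_commute.mp (comm_step hp2 hs1 hK1 n S0 (hexp1 S0) ha hb)

/-- The Hall–Higman bound on p-length. Let p be an odd prime and G a finite p-soluble group whose Sylow p-subgroups have exponent dividing p^e. (a) If p is not of the form 2^k + 1, or if the Sylow 2-subgroups of G are abelian, then G has p-length at most e. (b) In every case G has p-length at most 2e. -/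
theorem result {G : Type*} [Group G] [Finite G] {p : ℕ} [Fact p.Prime] (hp : p ≠ 2) (hG : Cfsg.IsPSolvable p G) (e : ℕ) (hexp : ∀ (P : Sylow p G), ∀ x ∈ (P : Subgroup G), x ^ p ^ e = 1) : (((¬ ∃ k : ℕ, p = 2 ^ k + 1) ∨ ∀ S : Sylow 2 G, IsMulCommutative (S : Subgroup G)) → Cfsg.PLengthLE p e G) ∧ Cfsg.PLengthLE p (2 * e) G := by
  exact ⟨fun h => main_a hp e G hG h hexp, main_b hp e G hG hexp⟩

end Cfsg.Agent.S3786
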