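import Cfsg.Statements.S3787
import Cfsg.Agent.H71.HallHigmanStep
import Cfsg.Agent.H71.WreathSection
import Cfsg.Agent.H71.PLength

set_option autoImplicit false
set_option linter.style.haveILetI false
set_option maxHeartbeats 1000000
open Cfsg

namespace Cfsg.Agent.S3787

open scoped IsMulCommutative

/-- Let G be a finite p-soluble group, p an odd prime not of the form 2^k + 1, and suppose the wreath product C_p ≀ C_p (of order p^(p+1)) is not involved in a Sylow p-subgroup of G: no section of a Sylow p-subgroup is isomorphic to it. Then G has p-length at most 1. -/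
theorem result {G : Type*} [Group G] [Finite G] {p : ℕ} [Fact p.Prime] (hp2 : p ≠ 2) (hnf : (¬ ∃ k : ℕ, p = 2 ^ k + 1)) (hG : Cfsg.IsPSolvable p G) (P : Sylow p G) (hwr : ∀ (W : Type) [Group W] [Finite W], (∃ (B : Subgroup W) (t : W), B.Normal ∧ IsMulCommutative B ∧ (∀ b ∈ B, b ^ p = 1) ∧ Nat.card B = p ^ p ∧ orderOf t = p ∧ t ∉ B ∧ Nat.card W = p ^ (p + 1) ∧ Nat.card ↥(B ⊓ Subgroup.centralizer ({t} : Set W)) = p) → ¬ Cfsg.Involves W ↥(P : Subgroup G)) : Cfsg.PLengthLE p 1 G := by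
  have hp := (Fact.out : p.Prime)
  set K := Cfsg.pPrimeCore p G with hK
  refine H71.pLengthLE_of_quotient_coprime K Cores.coprime_card_pPrimeCore ?_
  have hs1 : Cfsg.IsPSolvable p (G ⧸ K) := Cores.isPSolvable_quotient hG K
  have hK1 : Cfsg.pPrimeCore p (G ⧸ K) = ⊥ := Cores.pPrimeCore_quotient_pPrimeCore
  rw [H71.pLengthLE_succ_iff hK1, Cores.pLengthLE_zero_iff, Nat.coprime_comm, hp.coprime_iff_not_dvd]
  intro hd
  set P₀ := Cfsg.pCore p (G ⧸ K) with hP₀
  let π := QuotientGroup.mk' K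
  let P' : Sylow p (G ⧸ K) := P.mapSurjective (QuotientGroup.mk'_surjective K)
  -- an element of order `p` modulo the core
  obtain ⟨y, hy⟩ := exists_prime_orderOf_dvd_card' p hd
  obtain ⟨R, hR⟩ := (IsPGroup.of_card (n := 1) (by rw [Nat.card_zpowers, hy, pow_one]) :
    IsPGroup p (Subgroup.zpowers y)).exists_le_sylow
  obtain ⟨g, hg⟩ := MulAction.exists_smul_eq ((G ⧸ K) ⧸ P₀) R (P'.mapSurjective (QuotientGroup.mk'_surjective P₀))
  have hgy : g * y * g⁻¹ ∈ (P' : Subgroup (G ⧸ K)).map (QuotientGroup.mk' P₀) := by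
    have h : g * y * g⁻¹ ∈ ((g • R : Sylow p _) : Subgroup _) :=
      ⟨y, hR (Subgroup.mem_zpowers y), rfl⟩
    rw [hg] at h
    exact h
  obtain ⟨x, hx, hxy⟩ := hgy
  have hord : orderOf ((x : G ⧸ K) : (G ⧸ K) ⧸ P₀) = p := by
    rw [show ((x : G ⧸ K) : (G ⧸ K) ⧸ P₀) = MulAut.conj g y from hxy,
      MulEquiv.orderOf_eq, hy]
  have hxn : x ^ p ^ (0 + 1) ∈ P₀ := by
    rw [zero_add, pow_one, ← QuotientGroup.eq_one_iff, QuotientGroup.mk_pow, ← orderOf_dvd_iff_pow_eq_one, hord]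
  have hz : x ^ p ^ 0 ∉ P₀ := by
    rw [pow_zero, pow_one, ← QuotientGroup.eq_one_iff]
    intro h
    rw [h, orderOf_one] at hord
    exact hp.ne_one hord.symm
  obtain ⟨u, hu⟩ := H71.exists_layer_norm_ne_one hp2 hs1 hK1 (Or.inl hnf) P' x hx 0 hxn hz
  rw [zero_add, pow_one] at hu
  rw [zero_add, pow_one] at hxn
  rw [pow_zero, pow_one] at hz
  -- the section
  let mk := QuotientGroup.mk' (H71.phi p (G ⧸ K))
  set xb := mk x with hxb
  set T := (H71.layer p (G ⧸ K)) ⊔ Subgroup.zpowers xb with hT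
  haveI : ((H71.layer p (G ⧸ K)).subgroupOf T).Normal := Subgroup.Normal.comap inferInstance _
  haveI : IsMulCommutative ((H71.layer p (G ⧸ K)).subgroupOf T) := PGroups.isMulCommutative_of_comm fun a ha b hb =>
    Subtype.ext (PGroups.comm_of_isMulCommutative inferInstance
      (show (a : (G ⧸ K) ⧸ H71.phi p (G ⧸ K)) ∈ (H71.layer p (G ⧸ K)) from ha) hb)
  have hxT : xb ∈ T := Subgroup.mem_sup_right (Subgroup.mem_zpowers _)
  have huT : (u : (G ⧸ K) ⧸ H71.phi p (G ⧸ K)) ∈ T := Subgroup.mem_sup_left u.2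
  have hcoe : ∀ s : Finset ℕ,
      (((∏ i ∈ s, (MulAut.conjNormal ((⟨xb, hxT⟩ : T) ^ i) : MulAut ((H71.layer p (G ⧸ K)).subgroupOf T)) ⟨⟨u, huT⟩, u.2⟩ :
        (H71.layer p (G ⧸ K)).subgroupOf T) : T) : (G ⧸ K) ⧸ H71.phi p (G ⧸ K)) =
      ((∏ i ∈ s, (MulAut.conjNormal (xb ^ i) : MulAut (H71.layer p (G ⧸ K))) u : (H71.layer p (G ⧸ K))) : (G ⧸ K) ⧸ H71.phi p (G ⧸ K)) := by
    intro s
    induction s using Finset.induction_on with
    | empty => rfl
    | @insert i s hi ih =>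
      rw [Finset.prod_insert hi, Finset.prod_insert hi]
      simp only [Subgroup.coe_mul, ih]
      rfl
  obtain ⟨W, iW, iF, f, hshape, hf⟩ := H71.exists_wreath_section (H := T) ((H71.layer p (G ⧸ K)).subgroupOf T)
    (fun v hv => Subtype.ext (H71.pow_eq_one_of_mem_layer _ hv)) ⟨xb, hxT⟩
    (by
      refine Subgroup.map_injective T.subtype_injective ?_
      rw [Subgroup.map_sup, Subgroup.map_subgroupOf_eq_of_le le_sup_left, MonoidHom.map_zpowers,
        ← MonoidHom.range_eq_map, Subgroup.range_subtype]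
      rfl)
    (fun h => by
      have h1 : x ∈ (H71.layer p (G ⧸ K)).comap mk := h
      rw [H71.comap_layer] at h1
      exact hz h1)
    (by
      show xb ^ p ∈ (H71.layer p (G ⧸ K))
      rw [hxb, ← map_pow]
      exact Subgroup.mem_map_of_mem _ hxn)
    ⟨⟨u, huT⟩, u.2⟩ (fun h => hu (Subtype.ext (by
      rw [show ((x : G ⧸ K) : (G ⧸ K) ⧸ H71.phi p (G ⧸ K)) = xb from rfl, ← hcoe, h]
      rfl)))
  -- lift it to `P`
  let F : ↥(P : Subgroup G) →* (G ⧸ K) ⧸ H71.phi p (G ⧸ K) := (mk.comp π).comp (P : Subgroup G).subtype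
  have hFT : T ≤ F.range := by
    have hr : F.range = (P' : Subgroup (G ⧸ K)).map mk := by
      rw [MonoidHom.range_comp, Subgroup.range_subtype, ← Subgroup.map_map]
      rfl
    rw [hr, hT, sup_le_iff, Subgroup.zpowers_le]
    exact ⟨Subgroup.map_mono (Cores.pCore_le_sylow P'), Subgroup.mem_map_of_mem _ hx⟩
  have hFs : Function.Surjective (F.subgroupComap T) := by
    rintro ⟨t, ht⟩
    obtain ⟨v, rfl⟩ := hFT ht
    exact ⟨⟨v, ht⟩, rfl⟩
  exact hwr W hshape (H71.involves_of_surjective _ (f.comp (F.subgroupComap T)) (hf.comp hFs))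

end Cfsg.Agent.S3787
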