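import Cfsg.Statements.S3788
import Cfsg.Agent.Cores.Constrained
import Cfsg.Agent.Cores.PSolvable
import Cfsg.Agent.Coprime.Centralize
import Cfsg.Agent.Coprime.Abelian
import Cfsg.Agent.H59.S4Section
import Cfsg.Agent.H58.Involve
import Cfsg.Agent.PGroups.MaxAbelian

set_option autoImplicit false
set_option linter.style.haveILetI false
set_option linter.unusedVariables false
set_option linter.unusedSectionVars false
open Cfsg

namespace Cfsg.Agent.S3788

open Subgroup
open scoped commutatorElement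

variable {G : Type*} [Group G] [Finite G] {p : ℕ} [hp : Fact p.Prime]

/-- Hall–Higman with the roles of `p` and `p'` exchanged. -/
private theorem centralizer_pPrimeCore_le (hs : Cfsg.IsPSolvable p G) (h : Cfsg.pCore p G = ⊥) :
    centralizer (Cfsg.pPrimeCore p G : Set G) ≤ Cfsg.pPrimeCore p G := by
  set R := Cfsg.pPrimeCore p G with hR
  set C := centralizer (R : Set G) with hC
  let f := QuotientGroup.mk' R
  have hf : Function.Surjective f := QuotientGroup.mk'_surjective R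
  rw [show (C ≤ R) ↔ C.map f = ⊥ by rw [Subgroup.map_eq_bot_iff, QuotientGroup.ker_mk']]
  set Q := C.map f with hQ
  by_contra hne
  haveI : Q.Normal := (inferInstance : C.Normal).map f hf
  haveI : Nontrivial Q := (Subgroup.nontrivial_iff_ne_bot Q).mpr hne
  have hQs : Cfsg.IsPSolvable p Q := Cores.isPSolvable_of_surjective (Cores.isPSolvable_subgroup hs C)
    (f.subgroupMap C) (MonoidHom.subgroupMap_surjective _ C)
  rcases Cores.pCore_ne_bot_or_pPrimeCore_ne_bot hQs with h' | h'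
  swap
  · have h1 : (Cfsg.pPrimeCore p Q).map Q.subtype ≤ Cfsg.pPrimeCore p (G ⧸ R) :=
      Cores.map_pPrimeCore_le_of_normal Q
    rw [Cores.pPrimeCore_quotient_pPrimeCore, le_bot_iff,
      Subgroup.map_eq_bot_iff_of_injective _ Q.subtype_injective] at h1
    exact h' h1
  apply h'
  rw [← Subgroup.map_eq_bot_iff_of_injective _ Q.subtype_injective]
  set K := (Cfsg.pCore p Q).map Q.subtype with hK
  set D := K.comap f ⊓ C with hD
  have hmapD : D.map f = K := by
    refine le_antisymm (Subgroup.map_le_iff_le_comap.mpr inf_le_left) fun z hz => ?_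
    obtain ⟨c, hc, rfl⟩ : z ∈ Q := Subgroup.map_subtype_le _ hz
    exact ⟨c, ⟨hz, hc⟩, rfl⟩
  haveI : D.Normal := inferInstance
  have hKp : IsPGroup p K := (Cores.pCore_isPGroup (p := p) (G := Q)).map _
  haveI : Group.IsNilpotent K := hKp.isNilpotent
  let g : D →* K := (f.comp D.subtype).codRestrict K fun d => hmapD ▸ mem_map_of_mem f d.2
  have hnil : Group.IsNilpotent D := by
    refine Subgroup.isNilpotent_of_ker_le_center g ?_
    intro d hd
    have hdR : (d : G) ∈ R := (QuotientGroup.eq_one_iff _).1 (congrArg Subtype.val (MonoidHom.mem_ker.1 hd))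
    exact mem_center_iff.2 fun e => Subtype.ext ((mem_centralizer_iff.1 e.2.2 _ hdR).symm)
  obtain ⟨S⟩ := (inferInstance : Nonempty (Sylow p D))
  haveI : (S : Subgroup D).Normal := (Group.isNilpotent_of_finite_tfae.out 0 3 rfl rfl).1 hnil p hp S
  have hS : (S : Subgroup D) = ⊥ := by
    have h1 := (Subgroup.map_mono (Cores.le_pCore S.isPGroup')).trans (Cores.map_pCore_le_of_normal (p := p) D)
    rwa [h, le_bot_iff, Subgroup.map_eq_bot_iff_of_injective _ D.subtype_injective] at h1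
  have hDR : D ≤ R := by
    refine Cores.le_pPrimeCore ((hp.out.coprime_iff_not_dvd).2 fun hd => ?_).symm
    exact S.ne_bot_of_dvd_card hd hS
  show K = ⊥
  rw [← hmapD, Subgroup.map_eq_bot_iff, QuotientGroup.ker_mk']
  exact hDR

omit hp in
/-- Transvection-like elements: an element moving `V` into a line of fixed points. -/
private theorem pow_mul_formula {v b w : G} (hbv : b * v * b⁻¹ = w * v) (hbw : Commute b w) (hvw : Commute v w) :
    ∀ n : ℕ, (v * b) ^ n = v ^ n * w ^ n.choose 2 * b ^ n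
  | 0 => by simp
  | n + 1 => by
    have e : ∀ i : ℕ, b ^ i * v * (b ^ i)⁻¹ = w ^ i * v := by
      intro i
      induction i with
      | zero => simp
      | succ i ih =>
        calc b ^ (i + 1) * v * (b ^ (i + 1))⁻¹ = b * (b ^ i * v * (b ^ i)⁻¹) * b⁻¹ := by rw [pow_succ']; group
          _ = (b * w ^ i) * v * b⁻¹ := by rw [ih]; group
          _ = (w ^ i * b) * v * b⁻¹ := by rw [(hbw.pow_right i).eq]
          _ = w ^ i * (b * v * b⁻¹) := by group
          _ = _ := by rw [hbv, pow_succ]; group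
    rw [pow_succ, pow_mul_formula hbv hbw hvw n, Nat.choose_succ_succ', Nat.choose_one_right]
    calc v ^ n * w ^ n.choose 2 * b ^ n * (v * b) = v ^ n * w ^ n.choose 2 * (b ^ n * v * (b ^ n)⁻¹) * b ^ (n + 1) := by
          rw [pow_succ b]; group
      _ = v ^ n * (w ^ (n + n.choose 2) * v) * b ^ (n + 1) := by
          rw [e, Nat.add_comm n (n.choose 2), pow_add]; group
      _ = _ := by rw [← (hvw.pow_right _).eq, pow_succ v]; group

/-- The core configuration. -/
private theorem core (V : Subgroup G) [V.Normal] (hVc : IsMulCommutative V) (hVe : ∀ v ∈ V, v ^ p = 1)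
    (hCV : centralizer (V : Set G) ≤ V) (hs : Cfsg.IsPSolvable p (G ⧸ V)) (hO : Cfsg.pCore p (G ⧸ V) = ⊥)
    (a : G) (haV : a ∉ V) (hap : a ^ p ∈ V) (hmov : ∀ v ∈ V, ⁅a, v⁆ ∈ zpowers (a ^ p)) :
    p = 2 ∧ Cfsg.Involves (Equiv.Perm (Fin 4)) G := by
  classical
  have hp' := hp.out
  have hcomm : ∀ u ∈ V, ∀ v ∈ V, Commute u v := fun u hu v hv => congrArg Subtype.val (hVc.is_comm.comm ⟨u, hu⟩ ⟨v, hv⟩)
  have hVp : IsPGroup p V := fun v => ⟨1, Subtype.ext (by rw [pow_one]; exact hVe v v.2)⟩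
  let f := QuotientGroup.mk' V
  have hf : Function.Surjective f := QuotientGroup.mk'_surjective V
  -- a complement
  set M := (Cfsg.pPrimeCore p (G ⧸ V)).comap f with hM
  haveI : M.Normal := (inferInstance : (Cfsg.pPrimeCore p (G ⧸ V)).Normal).comap f
  have hVM : V ≤ M := fun x hx => by
    rw [hM, Subgroup.mem_comap, show f x = 1 from (QuotientGroup.eq_one_iff x).2 hx]; exact one_mem _
  have hrel : (V.relIndex M).Coprime p := by
    rw [← Cores.card_map_mk', hM, map_comap_eq_self_of_surjective hf]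
    exact Cores.coprime_card_pPrimeCore
  obtain ⟨j, hj⟩ := IsPGroup.iff_card.1 hVp
  obtain ⟨K₀, hK₀⟩ := Subgroup.exists_right_complement'_of_coprime (N := V.subgroupOf M) (by
    rw [Nat.card_congr (subgroupOfEquivOfLe hVM).toEquiv, hj]
    exact Nat.Coprime.pow_left _ hrel.symm)
  set K := K₀.map M.subtype with hK
  have hKM : K ≤ M := map_subtype_le _
  have hKcard : Nat.card K = V.relIndex M := by
    rw [hK, Subgroup.card_map_of_injective M.subtype_injective]
    exact (Subgroup.IsComplement'.index_eq_card hK₀.symm).symm.trans (by rw [Subgroup.relIndex]) 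
  have hKV : (Nat.card K).Coprime (Nat.card V) := by
    rw [hKcard, hj]; exact Nat.Coprime.pow_right _ hrel
  have hVK : V ⊓ K = ⊥ := by
    rw [inf_comm]; exact Coprime.inf_eq_bot hKV
  have hsupK : V ⊔ K = M := by
    have := congrArg (Subgroup.map M.subtype) hK₀.sup_eq_top
    rwa [Subgroup.map_sup, map_subgroupOf_eq_of_le hVM, ← MonoidHom.range_eq_map, range_subtype] at this
  -- Frattini argument
  haveI : IsMulCommutative V := hVc
  have hfr : ∀ g : G, ∃ v ∈ V, v⁻¹ * g ∈ normalizer (K : Set G) := by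
    intro g
    have hle : K.map (MulAut.conj g).toMonoidHom ≤ V ⊔ K := by
      rw [hsupK]
      rintro _ ⟨k, hk, rfl⟩
      exact (inferInstance : M.Normal).conj_mem k (hKM hk) g
    obtain ⟨n, hn, hne⟩ := Coprime.exists_conj_of_le_sup_comm (H₁ := K) le_normalizer_of_normal hle
      (Coprime.card_map_conj _ _) hKV
    refine ⟨n, hn, Coprime.mem_normalizer_of_map_conj ?_⟩
    rw [← Coprime.map_conj_map_conj, hne, Coprime.map_conj_map_conj, inv_mul_cancel, Coprime.map_conj_one]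
  obtain ⟨v, hv, hb⟩ := hfr a
  set b := v⁻¹ * a with hb_def
  have hab : a = v * b := by rw [hb_def, mul_inv_cancel_left]
  have hconjK : ∀ {g k : G}, g ∈ normalizer (K : Set G) → k ∈ K → g * k * g⁻¹ ∈ K := fun hg hk =>
    (mem_normalizer_iff.1 hg _).1 hk
  -- `b` moves `V` as `a` does
  have hba : ∀ u ∈ V, ⁅b, u⁆ = ⁅a, u⁆ := by
    intro u hu
    have hu' : b * u * b⁻¹ ∈ V := (inferInstance : V.Normal).conj_mem u hu b
    rw [hab, commutatorElement_def, commutatorElement_def]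
    calc b * u * b⁻¹ * u⁻¹ = (b * u * b⁻¹) * v * v⁻¹ * u⁻¹ := by group
      _ = v * (b * u * b⁻¹) * v⁻¹ * u⁻¹ := by rw [(hcomm _ hu' v hv).eq]
      _ = _ := by group
  set L := zpowers (a ^ p) with hL
  have hLV : L ≤ V := zpowers_le.2 hap
  have hbL : ∀ l ∈ L, Commute b l := by
    rintro _ ⟨i, rfl⟩
    refine Commute.zpow_right ?_ i
    rw [← commutatorElement_eq_one_iff_commute, hba _ hap, commutatorElement_eq_one_iff_commute]
    exact (Commute.refl a).pow_right p
  set w := ⁅b, v⁆ with hw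
  have hwL : w ∈ L := by rw [hw, hba v hv]; exact hmov v hv
  have hpow := fun n : ℕ => pow_mul_formula (v := v) (b := b) (w := w)
    (by rw [hw, commutatorElement_def]; group) (hbL w hwL) (hcomm v hv w (hLV hwL)) n
  have hapb : a ^ p = w ^ p.choose 2 * b ^ p := by rw [hab, hpow p, hVe v hv, one_mul]
  have hbpV : b ^ p ∈ V := by
    have : b ^ p = (w ^ p.choose 2)⁻¹ * a ^ p := by rw [hapb, inv_mul_cancel_left]
    rw [this]
    exact V.mul_mem (V.inv_mem (V.pow_mem (hLV hwL) _)) hap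
  -- `b` does not centralize `K`
  have hbK : ¬ b ∈ centralizer (K : Set G) := by
    intro hbc
    refine haV ?_
    have h1 : f b ∈ centralizer (Cfsg.pPrimeCore p (G ⧸ V) : Set (G ⧸ V)) := by
      refine mem_centralizer_iff.2 fun y hy => ?_
      obtain ⟨m, rfl⟩ := hf y
      have hm : m ∈ M := hy
      rw [← hsupK, ← SetLike.mem_coe, Subgroup.normal_mul] at hm
      obtain ⟨u, hu, k, hk, rfl⟩ := Set.mem_mul.1 hm
      rw [map_mul, show f u = 1 from (QuotientGroup.eq_one_iff u).2 hu, one_mul, ← map_mul, ← map_mul,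
        mem_centralizer_iff.1 hbc k hk]
    have h2 := centralizer_pPrimeCore_le hs hO h1
    have h3 : f b ^ p = 1 := by rw [← map_pow]; exact (QuotientGroup.eq_one_iff _).2 hbpV
    have h4 : f b = 1 := by
      rw [← orderOf_eq_one_iff]
      refine Nat.eq_one_of_dvd_coprimes (Cores.coprime_card_pPrimeCore (p := p) (G := G ⧸ V)) ?_
        (orderOf_dvd_of_pow_eq_one h3)
      exact Subgroup.orderOf_dvd_natCard _ h2
    rw [hab]
    exact V.mul_mem hv ((QuotientGroup.eq_one_iff b).1 h4)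
  obtain ⟨k₀, hk₀, hk₀b⟩ : ∃ k ∈ K, b * k ≠ k * b := by
    by_contra hcon
    exact hbK (mem_centralizer_iff.2 fun k hk => by_contra fun hne => hcon ⟨k, hk, fun e => hne e.symm⟩)
  set y := b * k₀ * b⁻¹ * k₀⁻¹ with hy
  have hyK : y ∈ K := K.mul_mem (hconjK hb hk₀) (K.inv_mem hk₀)
  have hy1 : y ≠ 1 := by
    intro h
    rw [hy, mul_inv_eq_one, mul_inv_eq_iff_eq_mul] at h
    exact hk₀b h
  have hyV : y ∉ centralizer (V : Set G) := fun h => hy1 (mem_bot.1 (hVK ▸ ⟨hCV h, hyK⟩))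
  -- if the line is fixed by `K` we are done
  have hline : a ^ p ∈ centralizer (K : Set G) → False := by
    intro haK
    refine hyV ?_
    have hLK : L ≤ centralizer (K : Set G) := zpowers_le.2 haK
    set C := V ⊓ centralizer (K : Set G) with hC
    set T := ⁅V, K⁆ with hT
    obtain ⟨hdis, hsup⟩ := Coprime.abelian_decomposition (A := K) (V := V) le_normalizer_of_normal hKV
    have hTV : T ≤ V := commutator_le_left V K
    have hbT : ∀ t ∈ T, b * t * b⁻¹ ∈ T := by
      intro t ht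
      have h1 : T.map (MulAut.conj b).toMonoidHom ≤ T := by
        rw [hT, map_commutator]
        refine commutator_mono ?_ ?_
        · rintro _ ⟨u, hu, rfl⟩; exact (inferInstance : V.Normal).conj_mem u hu b
        · rintro _ ⟨k, hk, rfl⟩; exact hconjK hb hk
      exact h1 ⟨t, ht, rfl⟩
    have hTfix : ∀ t ∈ T, Commute b t := by
      intro t ht
      rw [← commutatorElement_eq_one_iff_commute]
      refine mem_bot.1 (hdis ▸ ⟨⟨?_, ?_⟩, ?_⟩)
      · rw [commutatorElement_def]; exact V.mul_mem (hTV (hbT t ht)) (V.inv_mem (hTV ht))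
      · exact hLK (hba t (hTV ht) ▸ hmov t (hTV ht))
      · rw [commutatorElement_def]; exact T.mul_mem (hbT t ht) (T.inv_mem ht)
    refine mem_centralizer_iff.2 fun u hu => ?_
    suffices h : V ≤ centralizer ({y} : Set G) from (mem_centralizer_iff.1 (h hu) y rfl).symm
    rw [← hsup]
    refine sup_le (fun c hc => ?_) (fun t ht => ?_)
    · refine mem_centralizer_iff.2 ?_
      rintro _ rfl
      exact mem_centralizer_iff.1 hc.2 y hyK
    · refine mem_centralizer_iff.2 ?_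
      rintro _ rfl
      have hkt : k₀⁻¹ * t * k₀ ∈ T := by
        have hn : k₀⁻¹ ∈ normalizer (T : Set G) := by
          rw [hT]; exact (normalizer_commutator_ge_right (H₁ := V) (H₂ := K)) (K.inv_mem hk₀)
        simpa using (mem_normalizer_iff.1 hn t).1 ht
      have e1 : b⁻¹ * t * b = t := by
        rw [mul_assoc, ← (hTfix t ht).eq, inv_mul_cancel_left]
      have e2 : b * (k₀⁻¹ * t * k₀) * b⁻¹ = k₀⁻¹ * t * k₀ := by
        rw [(hTfix _ hkt).eq, mul_inv_cancel_right]
      calc y * t = b * k₀ * b⁻¹ * (k₀⁻¹ * t * k₀) * k₀⁻¹ := by rw [hy]; group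
        _ = b * k₀ * b⁻¹ * (b * (k₀⁻¹ * t * k₀) * b⁻¹) * k₀⁻¹ := by rw [e2]
        _ = b * (b⁻¹ * (b * t * b⁻¹) * b) * b⁻¹ * (b * k₀ * b⁻¹ * k₀⁻¹) := by group
        _ = t * y := by rw [(hTfix t ht).eq, mul_inv_cancel_right, e1, (hTfix t ht).eq, mul_inv_cancel_right]
  have hbpK : b ^ p ∈ centralizer (K : Set G) := by
    refine mem_centralizer_iff.2 fun k hk => ?_
    have h1 : b ^ p * k * (b ^ p)⁻¹ * k⁻¹ ∈ V ⊓ K := ⟨by
      have h0 : k * (b ^ p)⁻¹ * k⁻¹ ∈ V := (inferInstance : V.Normal).conj_mem _ (V.inv_mem hbpV) k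
      simpa [mul_assoc] using V.mul_mem hbpV h0,
      K.mul_mem (hconjK (pow_mem hb p) hk) (K.inv_mem hk)⟩
    rw [hVK, mem_bot, mul_inv_eq_one, mul_inv_eq_iff_eq_mul] at h1
    exact h1.symm
  have hwp : w ^ p = 1 := hVe w (hLV hwL)
  by_cases hp2 : p = 2
  swap
  · exact (hline (by
      obtain ⟨c, hc⟩ : p ∣ p.choose 2 := by
        simpa using PGroups.dvd_choose_two_pow hp' hp2 1
      rw [hapb, hc, pow_mul, hwp, one_pow, one_mul]; exact hbpK)).elim
  subst hp2
  refine ⟨rfl, ?_⟩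
  rw [Nat.choose_self, pow_one] at hapb
  set z := a ^ 2 with hz
  have hz2 : z * z = 1 := by rw [← pow_two]; exact hVe z hap
  have hLz : ∀ l ∈ L, l = 1 ∨ l = z := by
    rintro _ ⟨i, rfl⟩
    show z ^ i = 1 ∨ z ^ i = z
    rcases Int.even_or_odd' i with ⟨c, rfl | rfl⟩
    · left; rw [zpow_mul, zpow_ofNat, pow_two, hz2, one_zpow]
    · right; rw [zpow_add_one, zpow_mul, zpow_ofNat, pow_two, hz2, one_zpow, one_mul]
  have hzK : z ∉ centralizer (K : Set G) := hline
  have hb2 : b ^ 2 = 1 := by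
    rcases hLz w hwL with h | h
    · exfalso; exact hzK (by rw [hapb, h, one_mul]; exact hbpK)
    · rw [h] at hapb
      calc b ^ 2 = z⁻¹ * (z * b ^ 2) := by group
        _ = 1 := by rw [← hapb, inv_mul_cancel]
  have hbinv : b⁻¹ = b := inv_eq_of_mul_eq_one_left (by rw [← pow_two, hb2])
  have hzL : z ∈ L := mem_zpowers _
  have hbz : b * z * b⁻¹ = z := by rw [(hbL z hzL).eq, mul_inv_cancel_right]
  -- the second transvection
  set z' := k₀ * z * k₀⁻¹ with hz'
  set b' := k₀ * b * k₀⁻¹ with hb'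
  have hz'V : z' ∈ V := (inferInstance : V.Normal).conj_mem z hap k₀
  have hyb : y = b * b' := by rw [hy, hb', hbinv]; group
  have hinv : b * y * b⁻¹ = y⁻¹ := by rw [hy, hbinv]; simp [mul_assoc, hbinv]; rw [← mul_assoc b b, ← pow_two, hb2, one_mul]
  have hmvb : ∀ u ∈ V, b * u * b⁻¹ = u ∨ b * u * b⁻¹ = z * u := fun u hu => by
    rcases hLz _ (hba u hu ▸ hmov u hu) with h | h <;> rw [commutatorElement_def, mul_inv_eq_iff_eq_mul] at h
    · left; rw [h, one_mul]
    · right; exact h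
  have hmvb' : ∀ u ∈ V, b' * u * b'⁻¹ = u ∨ b' * u * b'⁻¹ = z' * u := fun u hu => by
    have hu' : k₀⁻¹ * u * k₀ ∈ V := (inferInstance : V.Normal).conj_mem' u hu k₀
    have e : b' * u * b'⁻¹ = k₀ * (b * (k₀⁻¹ * u * k₀) * b⁻¹) * k₀⁻¹ := by rw [hb']; group
    rcases hmvb _ hu' with h | h <;> rw [e, h]
    · left; group
    · right; rw [hz']; group
  -- the four group
  have hne1 : z ≠ 1 := fun h => hzK (h ▸ one_mem _)
  have hne2 : z' ≠ 1 := fun h => hne1 (by rwa [hz', mul_inv_eq_one, mul_eq_left] at h)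
  have hzz' : Commute z z' := hcomm z hap z' hz'V
  have hz'2 : z' * z' = 1 := by rw [← pow_two]; exact hVe z' hz'V
  let U : Subgroup G :=
    { carrier := {u | u = 1 ∨ u = z ∨ u = z' ∨ u = z * z'}
      one_mem' := Or.inl rfl
      mul_mem' := by
        rintro u u' (rfl | rfl | rfl | rfl) (rfl | rfl | rfl | rfl) <;>
          simp [hz2, hz'2, hzz'.eq, ← mul_assoc] <;>
          simp [mul_assoc, hz2, hz'2, hzz'.symm.eq] <;>
          simp [← mul_assoc, hz2, hz'2]
      inv_mem' := by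
        rintro u (rfl | rfl | rfl | rfl)
        · simp
        · exact Or.inr (Or.inl (inv_eq_of_mul_eq_one_left hz2))
        · exact Or.inr (Or.inr (Or.inl (inv_eq_of_mul_eq_one_left hz'2)))
        · exact Or.inr (Or.inr (Or.inr (by
            rw [mul_inv_rev, inv_eq_of_mul_eq_one_left hz2, inv_eq_of_mul_eq_one_left hz'2, hzz'.eq]))) }
  have hUV : U ≤ V := by rintro u (rfl | rfl | rfl | rfl) <;> [exact one_mem _; exact hap; exact hz'V; exact V.mul_mem hap hz'V]
  have hmem1 : z ∈ U := Or.inr (Or.inl rfl)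
  have hmem2 : z' ∈ U := Or.inr (Or.inr (Or.inl rfl))
  have hbU : ∀ u ∈ U, b * u * b⁻¹ ∈ U := fun u hu => by
    rcases hmvb u (hUV hu) with h | h <;> rw [h] <;> [exact hu; exact U.mul_mem hmem1 hu]
  have hb'U : ∀ u ∈ U, b' * u * b'⁻¹ ∈ U := fun u hu => by
    rcases hmvb' u (hUV hu) with h | h <;> rw [h] <;> [exact hu; exact U.mul_mem hmem2 hu]
  have hyconj : ∀ u, y * u * y⁻¹ = b * (b' * u * b'⁻¹) * b⁻¹ := fun u => by rw [hyb]; group
  have hymod : ∀ u ∈ V, y * u * y⁻¹ * u⁻¹ ∈ U := by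
    intro u hu
    rw [hyconj]
    rcases hmvb' u hu with h | h <;> rw [h]
    · rcases hmvb u hu with h' | h' <;> rw [h']
      · rw [mul_inv_cancel]; exact U.one_mem
      · rw [mul_inv_cancel_right]; exact hmem1
    · rcases hmvb _ (V.mul_mem hz'V hu) with h' | h' <;> rw [h']
      · rw [mul_inv_cancel_right]; exact hmem2
      · rw [← mul_assoc, mul_inv_cancel_right]; exact U.mul_mem hmem1 hmem2
  have hnorm : ∀ g : G, (∀ u ∈ U, g * u * g⁻¹ ∈ U) → g ∈ normalizer (U : Set G) := fun g hg =>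
    Coprime.mem_normalizer_of_map_conj (Subgroup.eq_of_le_of_card_ge
      (by rintro _ ⟨u, hu, rfl⟩; exact hg u hu) (le_of_eq (Coprime.card_map_conj _ _).symm))
  have hbN := hnorm b hbU
  have hb'N := hnorm b' hb'U
  have hyN : y ∈ normalizer (U : Set G) := hyb ▸ mul_mem hbN hb'N
  have hyodd : ∀ s : G, s ∈ K → s ^ 2 = 1 → s = 1 := by
    intro s hsK hs2
    have h1 : (orderOf s) ∣ Nat.card K := Subgroup.orderOf_dvd_natCard _ hsK
    rw [← orderOf_eq_one_iff]
    exact Nat.eq_one_of_dvd_coprimes (hKcard ▸ hrel) h1 (orderOf_dvd_of_pow_eq_one hs2)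
  -- elements of `K` fixing `U` and trivial modulo `U` are trivial
  have hstab : ∀ s ∈ K, (∀ u ∈ U, s * u * s⁻¹ = u) → (∀ u ∈ V, s * u * s⁻¹ * u⁻¹ ∈ U) → s = 1 := by
    intro s hsK hfix hmod
    refine hyodd s hsK ?_
    refine mem_bot.1 (hVK ▸ ⟨hCV (mem_centralizer_iff.2 fun u hu => ?_), K.pow_mem hsK 2⟩)
    obtain ⟨e, he, hse⟩ : ∃ e ∈ U, s * u * s⁻¹ = e * u := ⟨_, hmod u hu, by group⟩
    have he2 : e * e = 1 := by rw [← pow_two]; exact hVe e (hUV he)
    have : s ^ 2 * u * (s ^ 2)⁻¹ = u := by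
      calc s ^ 2 * u * (s ^ 2)⁻¹ = s * (s * u * s⁻¹) * s⁻¹ := by rw [pow_two]; group
        _ = s * (e * u) * s⁻¹ := by rw [hse]
        _ = (s * e * s⁻¹) * (s * u * s⁻¹) := by group

        _ = _ := by rw [hfix e he, hse, ← mul_assoc, he2, one_mul]
    exact (mul_inv_eq_iff_eq_mul.1 this).symm
  have hzz : z ≠ z' := by
    intro h
    refine hy1 (hstab y hyK (fun u hu => ?_) hymod)
    have hu' : u = 1 ∨ u = z := by
      rcases hu with rfl | rfl | rfl | rfl
      · exact Or.inl rfl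
      · exact Or.inr rfl
      · exact Or.inr h.symm
      · exact Or.inl (by rw [← h, hz2])
    rcases hu' with rfl | rfl
    · simp
    · have e : b' * z * b'⁻¹ = z := by
        calc b' * z * b'⁻¹ = k₀ * b * k₀⁻¹ * (k₀ * z * k₀⁻¹) * (k₀ * b * k₀⁻¹)⁻¹ := by rw [← hz', ← h]
          _ = k₀ * (b * z * b⁻¹) * k₀⁻¹ := by group
          _ = _ := by rw [hbz, ← hz', ← h]
      rw [hyconj, e, hbz]
  have hUcard : Nat.card U = 4 := by
    have e : (U : Set G) = {1, z, z', z * z'} := rfl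
    show Nat.card ↥(U : Set G) = 4
    rw [e, Nat.card_coe_set_eq]
    have h1 : z * z' ≠ 1 := fun h => hzz (by
      rw [← mul_one z, ← hz'2, ← mul_assoc, h, one_mul])
    have h2 : z ≠ z * z' := fun h => hne2 (mul_eq_left.1 h.symm)
    have h3 : z' ≠ z * z' := fun h => hne1 (mul_eq_right.1 h.symm)
    rw [Set.ncard_insert_of_notMem (by simp [hne1.symm, hne2.symm, h1.symm]),
      Set.ncard_insert_of_notMem (by simp [hzz, h2]), Set.ncard_pair h3]
  have hby : b * b' = y := hyb.symm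
  -- `b` moves `z'`
  have hbne : b * z' * b⁻¹ ≠ z' := by
    intro h
    refine hy1 (hstab y hyK ?_ hymod)
    have hbfix : ∀ u ∈ U, b * u * b⁻¹ = u := by
      rintro u (rfl | rfl | rfl | rfl)
      · simp
      · exact hbz
      · exact h
      · rw [show b * (z * z') * b⁻¹ = (b * z * b⁻¹) * (b * z' * b⁻¹) by group, hbz, h]
    intro u hu
    -- `y` and `y⁻¹` agree on `U`
    have hyu := hyN
    have h1 : y⁻¹ * u * y = y * u * y⁻¹ := by
      have hu2 : y * u * y⁻¹ ∈ U := (mem_normalizer_iff.1 hyN u).1 hu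
      have hu3 : b⁻¹ * u * b = u := by
        conv_lhs => rw [← hbfix u hu]
        group
      calc y⁻¹ * u * y = (b * y * b⁻¹) * u * (b * y * b⁻¹)⁻¹ := by rw [hinv, inv_inv]
        _ = b * (y * (b⁻¹ * u * b) * y⁻¹) * b⁻¹ := by group
        _ = _ := by rw [hu3, hbfix _ hu2]
    -- so `y ^ 2` fixes `U`, hence so does `y`
    have h2 : y ^ 2 * u * (y ^ 2)⁻¹ = u := by
      calc y ^ 2 * u * (y ^ 2)⁻¹ = y * (y * u * y⁻¹) * y⁻¹ := by rw [pow_two]; group
        _ = y * (y⁻¹ * u * y) * y⁻¹ := by rw [h1]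
        _ = u := by group
    obtain ⟨c, hc⟩ := exists_pow_eq_self_of_coprime (x := y) (n := 2)
      ((hKcard ▸ hrel).coprime_dvd_left (Subgroup.orderOf_dvd_natCard _ hyK)).symm
    rw [← hc]
    have hmem : y ^ 2 ∈ centralizer ({u} : Set G) := mem_centralizer_iff.2 (by
      rintro _ rfl; exact (mul_inv_eq_iff_eq_mul.1 h2).symm)
    exact mul_inv_eq_iff_eq_mul.2 ((mem_centralizer_iff.1 ((centralizer ({u} : Set G)).pow_mem hmem c) u rfl).symm)
  have hbz' : b * z' * b⁻¹ = z * z' := (hmvb z' hz'V).resolve_left hbne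
  have hb'z' : b' * z' * b'⁻¹ = z' := by
    rw [hb', hz', show k₀ * b * k₀⁻¹ * (k₀ * z * k₀⁻¹) * (k₀ * b * k₀⁻¹)⁻¹ = k₀ * (b * z * b⁻¹) * k₀⁻¹ by group, hbz]
  -- `b'` moves `z`, otherwise `y` would be an involution on `U`
  have hb'z : b' * z * b'⁻¹ = z' * z := by
    refine (hmvb' z hap).resolve_left fun h => ?_
    have e1 : y * z * y⁻¹ = z := by rw [hyconj, h, hbz]
    have e2 : y * z' * y⁻¹ = z * z' := by rw [hyconj, hb'z', hbz']
    have h2 : ∀ u ∈ U, y ^ 2 * u * (y ^ 2)⁻¹ = u := by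
      have f2 : ∀ u, y ^ 2 * u * (y ^ 2)⁻¹ = y * (y * u * y⁻¹) * y⁻¹ := fun u => by rw [pow_two]; group
      rintro u (rfl | rfl | rfl | rfl)
      · simp
      · rw [f2, e1, e1]
      · rw [f2, e2, show y * (z * z') * y⁻¹ = (y * z * y⁻¹) * (y * z' * y⁻¹) by group, e1, e2, ← mul_assoc, hz2,
          one_mul]
      · rw [show y ^ 2 * (z * z') * (y ^ 2)⁻¹ = (y ^ 2 * z * (y ^ 2)⁻¹) * (y ^ 2 * z' * (y ^ 2)⁻¹) by group, f2, f2,
          e1, e1, e2, show y * (z * z') * y⁻¹ = (y * z * y⁻¹) * (y * z' * y⁻¹) by group, e1, e2, ← mul_assoc z z,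
          hz2, one_mul]
    have h3 : y ^ 2 = 1 := hstab _ (K.pow_mem hyK 2) h2 fun u hu => by
      have hy' : y * u * y⁻¹ ∈ V := (inferInstance : V.Normal).conj_mem u hu y
      rw [show y ^ 2 * u * (y ^ 2)⁻¹ * u⁻¹ = (y * (y * u * y⁻¹) * y⁻¹ * (y * u * y⁻¹)⁻¹) * (y * u * y⁻¹ * u⁻¹) by
        rw [pow_two]; group]
      exact U.mul_mem (hymod _ hy') (hymod u hu)
    exact hy1 (hyodd y hyK h3)
  -- `y` permutes the three involutions cyclically
  have e1 : y * z * y⁻¹ = z' := by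
    rw [hyconj, hb'z, show b * (z' * z) * b⁻¹ = (b * z' * b⁻¹) * (b * z * b⁻¹) by group, hbz', hbz,
      hzz'.eq, mul_assoc, hz2, mul_one]
  have e2 : y * z' * y⁻¹ = z * z' := by rw [hyconj, hb'z', hbz']
  have e3 : y * (z * z') * y⁻¹ = z := by
    rw [show y * (z * z') * y⁻¹ = (y * z * y⁻¹) * (y * z' * y⁻¹) by group, e1, e2, hzz'.eq, ← mul_assoc,
      hz'2, one_mul]
  refine H59.involves_perm_four U hUcard y b hyN hbN ?_ ?_ hinv ?_ ⟨z', hmem2, hbne⟩
  · refine hstab _ (K.pow_mem hyK 3) ?_ fun u hu => ?_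
    · have f3 : ∀ u, y ^ 3 * u * (y ^ 3)⁻¹ = y * (y * (y * u * y⁻¹) * y⁻¹) * y⁻¹ := fun u => by
        rw [pow_succ, pow_two]; group
      rintro u (rfl | rfl | rfl | rfl)
      · simp
      · rw [f3, e1, e2, e3]
      · rw [f3, e2, e3, e1]
      · rw [f3, e3, e1, e2]
    · set u1 := y * u * y⁻¹ with hu1
      set u2 := y * u1 * y⁻¹ with hu2
      have hu1V : u1 ∈ V := (inferInstance : V.Normal).conj_mem u hu y
      have hu2V : u2 ∈ V := (inferInstance : V.Normal).conj_mem u1 hu1V y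
      rw [show y ^ 3 * u * (y ^ 3)⁻¹ * u⁻¹ = (y * u2 * y⁻¹ * u2⁻¹) * ((y * u1 * y⁻¹ * u1⁻¹) * (y * u * y⁻¹ * u⁻¹)) by
        rw [hu2, hu1, pow_succ, pow_two]; group]
      exact U.mul_mem (hymod _ hu2V) (U.mul_mem (hymod _ hu1V) (hymod u hu))
  · rintro u (rfl | rfl | rfl | rfl) h
    · rfl
    · exact absurd (e1.symm.trans h).symm hzz
    · exact absurd (e2.symm.trans h) (fun h => hne1 (mul_eq_right.1 h))
    · exact absurd (e3.symm.trans h) (fun h => hne2 (mul_eq_left.1 h.symm))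
  · intro u hu
    rw [← pow_two, hb2]; simp


/-- Let G be a finite p-soluble group, P a Sylow p-subgroup of G and A a cyclic normal subgroup of P. If p is odd, or if no section of G is isomorphic to the symmetric group of degree 4, then A ≤ O_{p',p}(G). -/
theorem result {G : Type*} [Group G] [Finite G] {p : ℕ} [Fact p.Prime] (hG : Cfsg.IsPSolvable p G) (P : Sylow p G) (A : Subgroup G) (hAP : A ≤ (P : Subgroup G)) (hAn : (P : Subgroup G) ≤ Subgroup.normalizer (A : Set G)) (hA : IsCyclic A) (h : p ≠ 2 ∨ ¬ Cfsg.Involves (Equiv.Perm (Fin 4)) G) : A ≤ Cfsg.pPrimePCore p G := by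
  classical
  set R := Cfsg.pPrimeCore p G
  let g := QuotientGroup.mk' R
  have hg : Function.Surjective g := QuotientGroup.mk'_surjective R
  set G₁ := G ⧸ R
  set A₁ := A.map g with hA₁
  suffices hmain : A₁ ≤ Cfsg.pCore p G₁ from Subgroup.map_le_iff_le_comap.1 hmain
  have hs₁ : Cfsg.IsPSolvable p G₁ := Cores.isPSolvable_quotient hG R
  have hO₁ : Cfsg.pPrimeCore p G₁ = ⊥ := Cores.pPrimeCore_quotient_pPrimeCore
  set P₁ := P.mapSurjective hg
  set Q := Cfsg.pCore p G₁ with hQdef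
  have hQP : Q ≤ (P₁ : Subgroup G₁) := Cores.pCore_le_sylow P₁
  haveI : IsCyclic A := hA
  obtain ⟨x₀, hx₀⟩ := IsCyclic.exists_generator (α := A)
  set x := g x₀ with hx
  have hgen : A₁ = zpowers x := by
    refine le_antisymm ?_ (zpowers_le.2 (mem_map_of_mem g x₀.2))
    rintro _ ⟨y, hy, rfl⟩
    obtain ⟨i, hi⟩ := hx₀ ⟨y, hy⟩
    exact ⟨i, by rw [hx, show y = ((x₀ : G) ^ i) from (congrArg Subtype.val hi).symm, map_zpow]⟩
  rw [hgen, zpowers_le]
  by_contra hxQ
  -- the last power outside `Q`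
  obtain ⟨n, hn⟩ : ∃ n, x ^ p ^ n = 1 := by
    obtain ⟨n, hn⟩ := P₁.isPGroup' ⟨x, mem_map_of_mem g (hAP x₀.2)⟩
    exact ⟨n, congrArg Subtype.val hn⟩
  have hex : ∃ i, x ^ p ^ i ∈ Q := ⟨n, hn ▸ Q.one_mem⟩
  set i₀ := Nat.find hex with hi₀
  have hi1 : i₀ ≠ 0 := fun h => hxQ (by
    have h' := Nat.find_spec hex
    rwa [← hi₀, h, pow_zero, pow_one] at h')
  obtain ⟨i, hi⟩ : ∃ i, i₀ = i + 1 := ⟨i₀ - 1, by omega⟩
  set a := x ^ p ^ i with ha
  have haQ : a ∉ Q := Nat.find_min hex (show i < i₀ by omega)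
  have hapQ : a ^ p ∈ Q := by rw [ha, ← pow_mul, ← pow_succ, ← hi]; exact Nat.find_spec hex
  have hinter : ∀ y ∈ A₁, y ∈ Q → y ∈ zpowers (a ^ p) := by
    intro y hy hyQ
    rw [hgen] at hy
    obtain ⟨m, rfl⟩ := hy
    suffices hdvd : ((p ^ (i + 1) : ℕ) : ℤ) ∣ m by
      obtain ⟨c, rfl⟩ := hdvd
      refine ⟨c, ?_⟩
      show (a ^ p) ^ c = x ^ (((p ^ (i + 1) : ℕ) : ℤ) * c)
      rw [zpow_mul, zpow_natCast, ha, ← pow_mul, ← pow_succ]
    by_contra hnd
    have hd : x ^ (Int.gcd m (p ^ (i + 1) : ℕ)) ∈ Q := by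
      rw [← zpow_natCast, Int.gcd_eq_gcd_ab, zpow_add, zpow_mul, zpow_mul, zpow_natCast, ← hi]
      exact Q.mul_mem (Q.zpow_mem hyQ _) (Q.zpow_mem (Nat.find_spec hex) _)
    obtain ⟨j, hj, hje⟩ := (Nat.dvd_prime_pow Fact.out).1 (Int.natCast_dvd_natCast.1 (Int.gcd_dvd_right m ((p ^ (i + 1) : ℕ) : ℤ)))
    rw [hje] at hd
    have hj' : j < i₀ := by
      rcases hj.lt_or_eq with h | h
      · omega
      · exact absurd (by have := Int.gcd_dvd_left m ((p ^ (i + 1) : ℕ) : ℤ); rwa [hje, h] at this) hnd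
    exact Nat.find_min hex hj' hd
  have hmov : ∀ y ∈ Q, ⁅a, y⁆ ∈ zpowers (a ^ p) := by
    intro y hy
    have haA : a ∈ A₁ := hgen ▸ ⟨_, zpow_natCast x _⟩
    refine hinter _ ?_ ?_
    · have hyA : y * a⁻¹ * y⁻¹ ∈ A₁ := by
        obtain ⟨y₀, hy₀, rfl⟩ : y ∈ (P : Subgroup G).map g := hQP hy
        obtain ⟨c, hc, hca⟩ : a⁻¹ ∈ A.map g := A₁.inv_mem haA
        refine ⟨y₀ * c * y₀⁻¹, (Subgroup.mem_normalizer_iff.1 (hAn hy₀) c).1 hc, ?_⟩
        rw [map_mul, map_mul, map_inv, hca]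
      rw [commutatorElement_def, mul_assoc a, mul_assoc a]
      exact A₁.mul_mem haA hyA
    · rw [commutatorElement_def]
      exact Q.mul_mem ((inferInstance : Q.Normal).conj_mem y hy a) (Q.inv_mem hy)
  -- pass to `G₁ / Φ(Q)`
  have hQp : IsPGroup p Q := Cores.pCore_isPGroup
  set Φ := (frattini Q).map Q.subtype with hΦ
  haveI : Φ.Normal := Cores.map_subtype_normal
  let f := QuotientGroup.mk' Φ
  have hf : Function.Surjective f := QuotientGroup.mk'_surjective Φ
  set V := Q.map f with hV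
  haveI : V.Normal := (inferInstance : Q.Normal).map f hf
  have hΦQ : Φ ≤ Q := map_subtype_le _
  have hcomapV : V.comap f = Q := by
    rw [hV, Subgroup.comap_map_eq, QuotientGroup.ker_mk', sup_eq_left.2 hΦQ]
  have hVe : ∀ v ∈ V, v ^ p = 1 := by
    rintro _ ⟨y, hy, rfl⟩
    rw [← map_pow]
    exact (QuotientGroup.eq_one_iff _).2 ⟨_, PGroups.pow_mem_frattini hQp ⟨y, hy⟩, rfl⟩
  have hVc : IsMulCommutative V := ⟨⟨by
    rintro ⟨_, y, hy, rfl⟩ ⟨_, y', hy', rfl⟩
    refine Subtype.ext ?_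
    show f y * f y' = f y' * f y
    rw [← commutatorElement_eq_one_iff_mul_comm, ← map_commutatorElement]
    exact (QuotientGroup.eq_one_iff _).2 ⟨⁅(⟨y, hy⟩ : Q), ⟨y', hy'⟩⁆, PGroups.commutator_le_frattini hQp
      (Subgroup.commutator_mem_commutator (Subgroup.mem_top _) (Subgroup.mem_top _)), rfl⟩⟩⟩
  have hCV : centralizer (V : Set (G₁ ⧸ Φ)) ≤ V := by
    set C := (centralizer (V : Set (G₁ ⧸ Φ))).comap f with hC
    suffices hC' : C ≤ Q by
      intro c hc
      obtain ⟨c, rfl⟩ := hf c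
      exact mem_map_of_mem f (hC' hc)
    refine Cores.le_pCore ?_
    refine IsPGroup.of_card (Nat.eq_prime_pow_of_unique_prime_dvd Nat.card_pos.ne' fun {s} hs hsd => ?_) 
    by_contra hsp
    haveI := Fact.mk hs
    obtain ⟨c, hc⟩ := exists_prime_orderOf_dvd_card' (G := C) s hsd
    have hc' : orderOf (c : G₁) = s := by rw [Subgroup.orderOf_coe, hc]
    have hcen : zpowers (c : G₁) ≤ centralizer (Q : Set G₁) := by
      refine Coprime.le_centralizer_of_frattini le_normalizer_of_normal ?_ fun d hd k hk => ?_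
      · obtain ⟨j, hj⟩ := IsPGroup.iff_card.1 (hQp.to_subgroup (frattini Q))
        rw [Nat.card_zpowers, hc', hj]
        exact Nat.Coprime.pow_right _ ((Nat.coprime_primes hs Fact.out).2 hsp)
      · rw [← QuotientGroup.eq_one_iff (N := Φ)]
        show f (d * k * d⁻¹ * k⁻¹) = 1
        rw [← commutatorElement_def, map_commutatorElement, commutatorElement_eq_one_iff_mul_comm]
        exact (Subgroup.mem_centralizer_iff.1 (zpowers_le.2 c.2 hd : d ∈ C) (f k) (mem_map_of_mem f hk)).symm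
    have hcQ : (c : G₁) ∈ Q := Cores.centralizer_pCore_le hs₁ hO₁ (hcen (mem_zpowers _))
    obtain ⟨j, hj⟩ := IsPGroup.iff_orderOf.1 hQp ⟨c, hcQ⟩
    rw [Subgroup.orderOf_mk, hc'] at hj
    rcases Nat.eq_zero_or_pos j with rfl | hj0
    · exact hs.ne_one (by simpa using hj)
    · exact hsp ((Nat.prime_dvd_prime_iff_eq Fact.out hs).1 (hj ▸ dvd_pow_self p (by omega))).symm
  have hO : Cfsg.pCore p ((G₁ ⧸ Φ) ⧸ V) = ⊥ := by
    let h := (QuotientGroup.mk' V).comp f
    have hh : Function.Surjective h := (QuotientGroup.mk'_surjective V).comp hf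
    have hker : h.ker = Q := by
      rw [← MonoidHom.comap_ker, QuotientGroup.ker_mk', hcomapV]
    set T := (Cfsg.pCore p ((G₁ ⧸ Φ) ⧸ V)).comap h with hT
    haveI : T.Normal := (inferInstance : (Cfsg.pCore p ((G₁ ⧸ Φ) ⧸ V)).Normal).comap h
    have hTp : IsPGroup p T :=
      (Cores.pCore_isPGroup (p := p) (G := (G₁ ⧸ Φ) ⧸ V)).comap_of_ker_isPGroup h (hker ▸ hQp)
    rw [← map_comap_eq_self_of_surjective hh (Cfsg.pCore p ((G₁ ⧸ Φ) ⧸ V)), Subgroup.map_eq_bot_iff, hker]
    exact Cores.le_pCore hTp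
  have := core V hVc hVe hCV (Cores.isPSolvable_quotient (Cores.isPSolvable_quotient hs₁ Φ) V) hO (f a)
    (fun hfa => haQ (hcomapV ▸ hfa : a ∈ Q)) (by rw [← map_pow]; exact mem_map_of_mem f hapQ)
    (by
      rintro _ ⟨y, hy, rfl⟩
      rw [← map_commutatorElement, ← map_pow, ← MonoidHom.map_zpowers]
      exact mem_map_of_mem f (hmov y hy))
  rcases h with h | h
  · exact h this.1
  · obtain ⟨K, φ, hφ⟩ := H58.Inv.exists_hom_of_involves this.2
    refine h ?_
    let F := f.comp g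
    have hF : Function.Surjective F := hf.comp hg
    exact H58.Inv.involves_of_hom (φ.comp (F.subgroupComap K))
      (hφ.comp (MonoidHom.subgroupComap_surjective_of_surjective F K hF))

end Cfsg.Agent.S3788
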