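import Cfsg.Statements.S3789
import Cfsg.Agent.H71.LayerRep
import Cfsg.Agent.H71.QuadraticCommutator
import Cfsg.Agent.H71.PLength

set_option autoImplicit false
set_option linter.style.haveILetI false
set_option linter.unusedSectionVars false
set_option maxHeartbeats 1000000
open Cfsg

namespace Cfsg.Agent.S3789

open Subgroup
open scoped IsMulCommutative commutatorElement
open Cfsg.Agent.Coprime Cfsg.Agent.H71.LayerRep

universe u

variable {p : ℕ} [Fact p.Prime]

private theorem derived_quotient {G : Type u} [Group G] [Finite G] (N : Subgroup G) [N.Normal] {d : ℕ}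
    (hd : ∀ P : Sylow p G, derivedSeries ↥(P : Subgroup G) d = ⊥) (P : Sylow p (G ⧸ N)) :
    derivedSeries ↥(P : Subgroup (G ⧸ N)) d = ⊥ := by
  obtain ⟨P', rfl⟩ := Sylow.mapSurjective_surjective (QuotientGroup.mk'_surjective N) p P
  refine le_bot_iff.mp ?_
  have h := derivedSeries_le_map_derivedSeries
    (f := (QuotientGroup.mk' N).subgroupMap (P' : Subgroup G)) (MonoidHom.subgroupMap_surjective _ _) d
  rw [hd P', Subgroup.map_bot] at h
  exact h

variable {G : Type u} [Group G] [Finite G]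

/-- The step: the last derived subgroup lies in `O_p`. -/
private theorem step (hp2 : p ≠ 2) (hs : Cfsg.IsPSolvable p G) (hK : Cfsg.pPrimeCore p G = ⊥) (S : Sylow p G)
    (d : ℕ) (hd : derivedSeries ↥(S : Subgroup G) (d + 1) = ⊥) :
    (derivedSeries ↥(S : Subgroup G) d).map (S : Subgroup G).subtype ≤ Cfsg.pCore p G := by
  have hp : p.Prime := Fact.out
  rcases d with _ | d
  · refine le_trans ?_ (Cores.centralizer_pCore_le hs hK)
    rintro _ ⟨a, -, rfl⟩
    refine mem_centralizer_iff.mpr fun w hw => ?_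
    have h : ⁅(⟨w, Cores.pCore_le_sylow S hw⟩ : (S : Subgroup G)), a⁆ = 1 := by
      rw [← Subgroup.mem_bot, ← hd]
      exact Subgroup.commutator_mem_commutator (mem_top _) (mem_top _)
    exact congrArg Subtype.val (commutatorElement_eq_one_iff_mul_comm.mp h)
  set B := (derivedSeries ↥(S : Subgroup G) d).map (S : Subgroup G).subtype with hB
  set A := (derivedSeries ↥(S : Subgroup G) (d + 1)).map (S : Subgroup G).subtype with hA
  have hAB : A = ⁅B, B⁆ := by rw [hA, derivedSeries_succ, Subgroup.map_commutator]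
  have hBS : B ≤ (S : Subgroup G) := map_subtype_le _
  have hBn : ∀ g ∈ (S : Subgroup G), ∀ b ∈ B, g * b * g⁻¹ ∈ B := by
    rintro g hg _ ⟨b, hb, rfl⟩
    exact ⟨⟨g, hg⟩ * b * ⟨g, hg⟩⁻¹, (derivedSeries_normal _ d).conj_mem b hb _, rfl⟩
  have hAn : ∀ g ∈ (S : Subgroup G), ∀ a ∈ A, g * a * g⁻¹ ∈ A := by
    rintro g hg _ ⟨a, ha, rfl⟩
    exact ⟨⟨g, hg⟩ * a * ⟨g, hg⟩⁻¹, (derivedSeries_normal _ (d + 1)).conj_mem a ha _, rfl⟩
  have hAc : ∀ a ∈ A, ∀ a' ∈ A, ⁅a, a'⁆ = 1 := by
    rintro _ ⟨a, ha, rfl⟩ _ ⟨a', ha', rfl⟩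
    have h : ⁅a, a'⁆ = 1 := by
      rw [← Subgroup.mem_bot, ← hd]
      exact Subgroup.commutator_mem_commutator ha ha'
    rw [← map_commutatorElement, h, map_one]
  set π := QuotientGroup.mk' (Cfsg.pCore p G) with hπ
  set mk := QuotientGroup.mk' (H71.phi p G) with hmk
  set ρ := layerRep p G with hρ
  -- the displacement
  let δ : G → H71.layer p G → H71.layer p G := fun g u =>
    (MulAut.conjNormal (mk g) : MulAut (H71.layer p G)) u * u⁻¹
  have hδ : ∀ (g : G) (f : LinRep.Sp (H71.layer p G) p) (u : H71.layer p G),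
      (ρ (π g) - 1) f (Additive.ofMul u) = f (Additive.ofMul (δ g⁻¹ u)) := by
    intro g f u
    have h1 := layerRep_pow_apply g 1 f u
    rw [pow_one, pow_one] at h1
    simp only [δ, ofMul_mul, ofMul_inv, map_add, map_neg, LinearMap.sub_apply, Module.End.one_apply,
      AddMonoidHom.sub_apply]
    rw [← sub_eq_add_neg]
    exact congrArg (· - f (Additive.ofMul u)) h1
  have hδw : ∀ (g w : G) (u : H71.layer p G), (u : G ⧸ H71.phi p G) = mk w →
      ((δ g u : H71.layer p G) : G ⧸ H71.phi p G) = mk ⁅g, w⁆ := by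
    intro g w u hu
    rw [Subgroup.coe_mul, Subgroup.coe_inv, MulAut.conjNormal_apply, hu, commutatorElement_def, map_mul, map_mul,
      map_mul, map_inv, map_inv]
  have hquad : ∀ a ∈ A.map π, (ρ a - 1) * (ρ a - 1) = 0 := by
    rintro _ ⟨a, ha, rfl⟩
    refine LinearMap.ext fun f => AddMonoidHom.ext fun v => ?_
    induction v using Additive.rec with
    | _ u =>
      obtain ⟨w, hw, hwu⟩ := u.2
      have hwS := Cores.pCore_le_sylow S hw
      rw [Module.End.mul_apply, hδ, hδ]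
      have h1 : ⁅a⁻¹, w⁆ ∈ A := by
        rw [commutatorElement_def, show a⁻¹ * w * a⁻¹⁻¹ * w⁻¹ = a⁻¹ * (w * a * w⁻¹) by group]
        exact A.mul_mem (A.inv_mem ha) (hAn w hwS a ha)
      rw [show δ a⁻¹ (δ a⁻¹ u) = 1 from Subtype.ext (by
        rw [hδw a⁻¹ ⁅a⁻¹, w⁆ _ (hδw a⁻¹ w u hwu.symm), hAc _ (A.inv_mem ha) _ h1, map_one, OneMemClass.coe_one]),
        ofMul_one, map_zero]
      rfl
  have hcube : ∀ a ∈ A.map π, ∀ b ∈ B.map π, (ρ b - 1) * (ρ b - 1) * (ρ a - 1) = 0 := by
    rintro _ ⟨a, ha, rfl⟩ _ ⟨b, hb, rfl⟩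
    refine LinearMap.ext fun f => AddMonoidHom.ext fun v => ?_
    induction v using Additive.rec with
    | _ u =>
      obtain ⟨w, hw, hwu⟩ := u.2
      have hwS := Cores.pCore_le_sylow S hw
      rw [Module.End.mul_apply, Module.End.mul_apply, hδ, hδ, hδ]
      have h1 : ⁅b⁻¹, w⁆ ∈ B := by
        rw [commutatorElement_def, show b⁻¹ * w * b⁻¹⁻¹ * w⁻¹ = b⁻¹ * (w * b * w⁻¹) by group]
        exact B.mul_mem (B.inv_mem hb) (hBn w hwS b hb)
      have h2 : ⁅b⁻¹, ⁅b⁻¹, w⁆⁆ ∈ A := hAB ▸ Subgroup.commutator_mem_commutator (B.inv_mem hb) h1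
      rw [show δ a⁻¹ (δ b⁻¹ (δ b⁻¹ u)) = 1 from Subtype.ext (by
        rw [hδw a⁻¹ _ _ (hδw b⁻¹ _ _ (hδw b⁻¹ w u hwu.symm)), hAc _ (A.inv_mem ha) _ h2, map_one,
          OneMemClass.coe_one]), ofMul_one, map_zero]
      rfl
  intro a ha
  refine (QuotientGroup.eq_one_iff a).mp ?_
  have hAS : A ≤ (S : Subgroup G) := map_subtype_le _
  have hSp : IsPGroup p ((S : Subgroup G).map π) := S.isPGroup'.map π
  refine eq_one_of_centralizes_invariant (Cores.isPSolvable_quotient hs _) Cores.pCore_quotient_pCore hSp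
    (mem_map_of_mem π (hAS ha)) fun q hqf hqp Q hQ hSQ => ?_
  haveI := hqf
  have hq : q.Prime := Fact.out
  have hinj := layerRep_injective hs hK
  by_cases hq2 : q = 2
  · subst hq2
    refine mem_centralizer_of_classTwo hp2 hSp (mem_map_of_mem π (hAS ha)) (fun D hD hD2 hSD => ?_) Q hQ hSQ
    have hmem : π a ∈ ⁅B.map π, B.map π⁆ := by
      rw [← Subgroup.map_commutator, ← hAB]
      exact mem_map_of_mem π ha
    exact H71.commutator_le_centralizer_of_quadratic hp2 (coeff_two_ne_zero hp2)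
      (CharP.cast_eq_zero (LinRep.Coeff p) p) hinj hD hD2 (B.map π) (S.isPGroup'.to_le hBS |>.map π)
      ((Subgroup.map_mono hBS).trans hSD)
      (fun x hx => hquad x (by rwa [hAB, Subgroup.map_commutator]))
      (fun x hx => hcube x (by rwa [hAB, Subgroup.map_commutator])) hmem
  have hsum : ∑ i ∈ Finset.range (p ^ (0 + 1)), ρ (π a) ^ i = 0 := by
    have hp3 : 3 ≤ p := by
      have := hp.two_le
      omega
    have hpoly : ((Polynomial.X : Polynomial (LinRep.Coeff p)) - 1) ^ (p - 1) =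
        ∑ i ∈ Finset.range p, Polynomial.X ^ i := by
      refine mul_right_cancel₀ (b := (Polynomial.X : Polynomial (LinRep.Coeff p)) - 1)
        (Polynomial.X_sub_C_ne_zero 1) ?_
      rw [geom_sum_mul, ← pow_succ, Nat.sub_add_cancel hp.one_le, sub_pow_char, one_pow]
    have h3 := congrArg (Polynomial.aeval (ρ (π a))) hpoly
    simp only [map_pow, map_sub, Polynomial.aeval_X, map_one, map_sum] at h3
    rw [zero_add, pow_one, ← h3, show p - 1 = (p - 3) + 2 by omega, pow_add, pow_two,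
      hquad _ (mem_map_of_mem π ha), mul_zero]
  have hap : π a ^ p ^ (0 + 1) = 1 := by
    refine hinj ?_
    have h1 : (∑ i ∈ Finset.range (p ^ (0 + 1)), ρ (π a) ^ i) * (ρ (π a) - 1) = ρ (π a) ^ p ^ (0 + 1) - 1 :=
      geom_sum_mul (ρ (π a) : Module.End (LinRep.Coeff p) (LinRep.Sp (H71.layer p G) p)) _
    rw [hsum, zero_mul, eq_comm] at h1
    have h2 : ρ (π a) ^ p ^ (0 + 1) = 1 := sub_eq_zero.mp h1
    rw [map_pow, map_one]
    exact h2
  have h := H71.hall_higman_B (s := q) hqp hp2 (coeff_prime_ne_zero hq hqp) hinj Nat.one_pos Q hQ (π a)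
    (hSQ (mem_map_of_mem π (hAS ha))) hap (Or.inl fun h => hq2 h.1) hsum (mem_zpowers _)
  rw [Nat.sub_self, pow_zero, pow_one] at h
  exact h

private theorem main (hp2 : p ≠ 2) : ∀ (d : ℕ) (G : Type u) [Group G] [Finite G], Cfsg.IsPSolvable p G →
    (∀ P : Sylow p G, derivedSeries ↥(P : Subgroup G) d = ⊥) → Cfsg.PLengthLE p d G := by
  have hp := (Fact.out : p.Prime)
  intro d
  induction d with
  | zero =>
    intro G _ _ _ hd
    rw [Cores.pLengthLE_zero_iff, Nat.coprime_comm, hp.coprime_iff_not_dvd]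
    intro hdvd
    obtain ⟨P⟩ : Nonempty (Sylow p G) := inferInstance
    have h1 : (P : Subgroup G) = ⊥ := (Subgroup.eq_bot_iff_forall _).mpr fun x hx => by
      have h : (⟨x, hx⟩ : (P : Subgroup G)) ∈ derivedSeries ↥(P : Subgroup G) 0 := by
        rw [derivedSeries_zero]; exact mem_top _
      rw [hd P, Subgroup.mem_bot] at h
      exact congrArg Subtype.val h
    exact P.not_dvd_index (by rw [h1, Subgroup.index_bot]; exact hdvd)
  | succ d ih =>
    intro G _ _ hs hd
    set K := Cfsg.pPrimeCore p G with hK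
    refine H71.pLengthLE_of_quotient_coprime K Cores.coprime_card_pPrimeCore ?_
    have hs1 : Cfsg.IsPSolvable p (G ⧸ K) := Cores.isPSolvable_quotient hs K
    have hK1 : Cfsg.pPrimeCore p (G ⧸ K) = ⊥ := Cores.pPrimeCore_quotient_pPrimeCore
    rw [H71.pLengthLE_succ_iff hK1]
    refine ih _ (Cores.isPSolvable_quotient hs1 _) fun P => ?_
    obtain ⟨S, rfl⟩ := Sylow.mapSurjective_surjective (QuotientGroup.mk'_surjective _) p P
    refine le_bot_iff.mp (le_trans (derivedSeries_le_map_derivedSeries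
      (f := (QuotientGroup.mk' _).subgroupMap (S : Subgroup (G ⧸ K))) (MonoidHom.subgroupMap_surjective _ _) d) ?_)
    rintro _ ⟨a, ha, rfl⟩
    refine Subtype.ext ?_
    exact (QuotientGroup.eq_one_iff _).mpr
      (step hp2 hs1 hK1 S d (derived_quotient K hd S) (mem_map_of_mem _ ha))

/-- Let p be an odd prime and G a finite p-soluble group whose Sylow p-subgroups have derived length at most d. Then G has p-length at most d. -/
theorem result {G : Type*} [Group G] [Finite G] {p : ℕ} [Fact p.Prime] (hp : p ≠ 2) (hG : Cfsg.IsPSolvable p G) (d : ℕ) (hd : ∀ P : Sylow p G, derivedSeries ↥(P : Subgroup G) d = ⊥) : Cfsg.PLengthLE p d G := by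
  exact main hp d G hG hd

end Cfsg.Agent.S3789
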