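import Cfsg.Statements.S3790
import Cfsg.Agent.H71.PLength

set_option autoImplicit false
set_option linter.style.haveILetI false
open Cfsg

namespace Cfsg.Agent.S3790

open Subgroup

private theorem inf_ker_eq_bot {G : Type*} [Group G] [Finite G] {r : ℕ} (q : Fin r → ℕ) (p : ℕ) [hp : Fact p.Prime]
    (hcover : ∀ s : ℕ, s.Prime → s ∣ Nat.card G → s ≠ p → ∃ i, q i = s) (hq : ∀ i, (q i).Prime)
    (hO : Cfsg.pCore p G = ⊥) (x : G) (hx : ∀ i ∈ (Finset.univ : Finset (Fin r)), x ∈ Cfsg.pPrimeCore (q i) G) :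
    x = 1 := by
  let M : Subgroup G := ⨅ i, Cfsg.pPrimeCore (q i) G
  haveI : M.Normal := Subgroup.normal_iInf_normal fun i => inferInstance
  have hM : IsPGroup p M := by
    obtain ⟨k, hk⟩ : ∃ k, Nat.card M = p ^ k := by
      refine ⟨_, Nat.eq_prime_pow_of_unique_prime_dvd Nat.card_pos.ne' fun {s} hs hsd => ?_⟩
      by_contra hsp
      obtain ⟨i, rfl⟩ := hcover s hs (hsd.trans (Subgroup.card_subgroup_dvd_card M)) hsp
      exact ((hq i).coprime_iff_not_dvd).mp (Cores.coprime_card_pPrimeCore (p := q i) (G := G)).symm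
        (hsd.trans (Subgroup.card_dvd_of_le (iInf_le _ i)))
    exact IsPGroup.of_card hk
  have h1 : x ∈ M := Subgroup.mem_iInf.mpr fun i => hx i (Finset.mem_univ i)
  exact Subgroup.mem_bot.mp (hO ▸ Cores.le_pCore hM h1)

universe u

private theorem aux (p : ℕ) [hp : Fact p.Prime] {r : ℕ} (q : Fin r → ℕ) (hq : ∀ i, (q i).Prime ∧ q i ≠ p) :
    ∀ (n : ℕ) (G : Type u) [Group G] [Finite G], Nat.card G = n → Group.IsSolvable G →
      (∀ s : ℕ, s.Prime → s ∣ Nat.card G → s ≠ p → ∃ i, q i = s) → ∀ l : Fin r → ℕ,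
      (∀ i, Cfsg.PLengthLE (q i) (l i) G) → Cfsg.PLengthLE p (Finset.univ.prod fun i => 1 + l i) G := by
  intro n
  induction n using Nat.strong_induction_on with
  | _ n ih =>
  intro G _ _ hn hG hcover l hl
  haveI := hG
  have hp' : p.Prime := hp.out
  by_cases hN : Cfsg.pPrimeCore p G = ⊥
  swap
  · refine H71.pLengthLE_of_quotient_coprime _ Cores.coprime_card_pPrimeCore
      (ih _ ?_ _ rfl inferInstance (fun s hs hd => hcover s hs (hd.trans (Subgroup.card_quotient_dvd_card _))) l
        fun i => ?_)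
    · rw [← hn, Subgroup.card_eq_card_quotient_mul_card_subgroup (Cfsg.pPrimeCore p G)]
      exact lt_mul_of_one_lt_right Nat.card_pos ((Subgroup.one_lt_card_iff_ne_bot _).2 hN)
    · haveI := Fact.mk (hq i).1
      exact Cores.pLengthLE_of_surjective (hl i) (QuotientGroup.mk'_surjective _)
  set P := Finset.univ.prod fun i => 1 + l i with hP
  have hP1 : 1 ≤ P := Finset.one_le_prod' fun i _ => Nat.le_add_right 1 _
  rcases subsingleton_or_nontrivial G with hs | hs
  · exact H71.pLengthLE_of_card_eq_one (Nat.card_unique) _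
  have hQ : Cfsg.pCore p G ≠ ⊥ := Cores.pCore_ne_bot_of_pPrimeCore_eq_bot Cores.isPSolvable_of_isSolvable hN
  have hlt : Nat.card (G ⧸ Cfsg.pCore p G) < n := by
    rw [← hn, Subgroup.card_eq_card_quotient_mul_card_subgroup (Cfsg.pCore p G)]
    exact lt_mul_of_one_lt_right Nat.card_pos ((Subgroup.one_lt_card_iff_ne_bot _).2 hQ)
  obtain ⟨m, hm⟩ : ∃ m, P = m + 1 := ⟨P - 1, by omega⟩
  rw [hm]
  refine H71.pLengthLE_succ_of_quotient_pCore ?_
  set B := G ⧸ Cfsg.pCore p G
  refine H71.pLengthLE_finset_inf Finset.univ (fun i => Cfsg.pPrimeCore (q i) B) (fun i _ => ?_)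
    (inf_ker_eq_bot q p (fun s hs hd => hcover s hs (hd.trans (Subgroup.card_quotient_dvd_card _)))
      (fun i => (hq i).1) Cores.pCore_quotient_pCore)
  haveI := Fact.mk (hq i).1
  set X := B ⧸ Cfsg.pPrimeCore (q i) B
  have hlX : ∀ j, Cfsg.PLengthLE (q j) (l j) X := fun j => by
    haveI := Fact.mk (hq j).1
    exact Cores.pLengthLE_of_surjective (Cores.pLengthLE_of_surjective (hl j) (QuotientGroup.mk'_surjective _))
      (QuotientGroup.mk'_surjective _)
  have hOX : Cfsg.pPrimeCore (q i) X = ⊥ := Cores.pPrimeCore_quotient_pPrimeCore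
  cases hli : l i with
  | zero =>
    refine H71.pLengthLE_of_card_eq_one ?_ _
    have h0 := Cores.pLengthLE_zero_iff.1 (hli ▸ hlX i)
    rw [← Cores.pPrimeCore_eq_top_iff, hOX] at h0
    rw [← Subgroup.card_top (G := X), ← h0, Subgroup.card_bot]
  | succ b =>
    have hY := (H71.pLengthLE_succ_iff hOX).1 (hli ▸ hlX i)
    set l' := Function.update l i b with hl'
    refine H71.pLengthLE_of_quotient_coprime (Cfsg.pCore (q i) X) ?_ ?_
    · obtain ⟨k, hk⟩ := IsPGroup.iff_card.mp (Cores.pCore_isPGroup (p := q i) (G := X))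
      rw [hk]; exact Nat.Coprime.pow_left _ ((Nat.coprime_primes (hq i).1 hp').2 (hq i).2)
    have hrec : Cfsg.PLengthLE p (Finset.univ.prod fun j => 1 + l' j) (X ⧸ Cfsg.pCore (q i) X) := by
      refine ih _ ((Nat.le_of_dvd Nat.card_pos ((Subgroup.card_quotient_dvd_card _).trans
        (Subgroup.card_quotient_dvd_card _))).trans_lt hlt) _ rfl inferInstance
        (fun s hs hd => hcover s hs (((hd.trans (Subgroup.card_quotient_dvd_card _)).trans
          (Subgroup.card_quotient_dvd_card _)).trans (Subgroup.card_quotient_dvd_card _))) l' fun j => ?_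
      haveI := Fact.mk (hq j).1
      by_cases hji : j = i
      · subst hji; rw [hl', Function.update_self]; exact hY
      · rw [hl', Function.update_of_ne hji]
        exact Cores.pLengthLE_of_surjective (hlX j) (QuotientGroup.mk'_surjective _)
    refine Cores.pLengthLE_mono ?_ hrec
    have e1 : P = (1 + l i) * ∏ j ∈ Finset.univ.erase i, (1 + l j) := by
      rw [hP]; exact (Finset.mul_prod_erase _ (fun j => 1 + l j) (Finset.mem_univ i)).symm
    have e2 : (∏ j, (1 + l' j)) = (1 + b) * ∏ j ∈ Finset.univ.erase i, (1 + l j) := by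
      rw [← Finset.mul_prod_erase _ _ (Finset.mem_univ i), hl', Function.update_self]
      congr 1
      exact Finset.prod_congr rfl fun j hj => by rw [Function.update_of_ne (Finset.ne_of_mem_erase hj)]
    have e3 : 1 ≤ ∏ j ∈ Finset.univ.erase i, (1 + l j) := Finset.one_le_prod' fun j _ => Nat.le_add_right 1 _
    rw [hli] at e1
    rw [e2]
    nlinarith


/-- Let G be a finite solvable group and p a prime. Suppose p₁, …, p_r are distinct primes, all different from p, that include every prime dividing the order of G other than p, and that G has p_i-length at most l_i for each i. Then G has p-length at most the product of the numbers 1 + l_i. -/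
theorem result {G : Type*} [Group G] [Finite G] (hG : Group.IsSolvable G) (p : ℕ) [Fact p.Prime] (r : ℕ) (q : Fin r → ℕ) (hq : ∀ i, (q i).Prime ∧ q i ≠ p) (hinj : Function.Injective q) (hcover : ∀ s : ℕ, s.Prime → s ∣ Nat.card G → s ≠ p → ∃ i, q i = s) (l : Fin r → ℕ) (hl : ∀ i, Cfsg.PLengthLE (q i) (l i) G) : Cfsg.PLengthLE p (Finset.univ.prod fun i => 1 + l i) G := by
  exact aux p q hq _ G rfl hG hcover l hl

end Cfsg.Agent.S3790
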