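import Cfsg.Statements.S3791
import Cfsg.Agent.H71.PLength

set_option autoImplicit false
set_option linter.style.haveILetI false
set_option linter.unusedVariables false
open Cfsg

namespace Cfsg.Agent.S3791

open Subgroup

universe u

private theorem derived_add {G : Type*} [Group G] (Q : Subgroup G) {a : ℕ} (h : derivedSeries G a ≤ Q) :
    ∀ b : ℕ, derivedSeries G (a + b) ≤ (derivedSeries Q b).map Q.subtype
  | 0 => by
    intro x hx
    exact ⟨⟨x, h hx⟩, Subgroup.mem_top _, rfl⟩
  | b + 1 => by
    rw [← Nat.add_assoc, derivedSeries_succ, derivedSeries_succ, Subgroup.map_commutator]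
    exact Subgroup.commutator_mono (derived_add Q h b) (derived_add Q h b)

private theorem derived_anti {G : Type*} [Group G] {a b : ℕ} (h : a ≤ b) (hb : derivedSeries G a = ⊥) :
    derivedSeries G b = ⊥ := le_bot_iff.mp ((derivedSeries_antitone G h).trans hb.le)

private theorem aux {r : ℕ} (q : Fin r → ℕ) (hq : ∀ i, (q i).Prime) (d : Fin r → ℕ) :
    ∀ (n : ℕ) (G : Type u) [Group G] [Finite G], Nat.card G = n → Group.IsSolvable G →
      (∀ s : ℕ, s.Prime → s ∣ Nat.card G → ∃ i, q i = s) → ∀ l : Fin r → ℕ,
      (∀ i, ∃ S : Sylow (q i) G, derivedSeries S (d i) = ⊥) →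
      (∀ i, Cfsg.PLengthLE (q i) (l i) G) → derivedSeries G (Finset.univ.sum fun i => d i * l i) = ⊥ := by
  intro n
  induction n using Nat.strong_induction_on with
  | _ n ih =>
  intro G _ _ hn hG hcover l hd hl
  haveI := hG
  set L := Finset.univ.sum fun i => d i * l i with hL
  have hq' : ∀ i, Fact (q i).Prime := fun i => Fact.mk (hq i)
  have hstep : ∀ i, derivedSeries G L ≤ Cfsg.pPrimeCore (q i) G := by
    intro i
    haveI := hq' i
    let f := QuotientGroup.mk' (Cfsg.pPrimeCore (q i) G)
    have hf : Function.Surjective f := QuotientGroup.mk'_surjective _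
    suffices h : derivedSeries (G ⧸ Cfsg.pPrimeCore (q i) G) L = ⊥ by
      rw [← map_derivedSeries_eq hf, Subgroup.map_eq_bot_iff, QuotientGroup.ker_mk'] at h
      exact h
    set X := G ⧸ Cfsg.pPrimeCore (q i) G
    have hOX : Cfsg.pPrimeCore (q i) X = ⊥ := Cores.pPrimeCore_quotient_pPrimeCore
    have hlX : ∀ j, Cfsg.PLengthLE (q j) (l j) X := fun j => by
      haveI := hq' j
      exact Cores.pLengthLE_of_surjective (hl j) hf
    rcases subsingleton_or_nontrivial X with hs | hs
    · exact Subsingleton.elim _ _
    cases hli : l i with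
    | zero =>
      exfalso
      have h0 := Cores.pLengthLE_zero_iff.1 (hli ▸ hlX i)
      rw [← Cores.pPrimeCore_eq_top_iff, hOX] at h0
      exact bot_ne_top h0
    | succ b =>
      have hY := (H71.pLengthLE_succ_iff hOX).1 (hli ▸ hlX i)
      set Q := Cfsg.pCore (q i) X with hQdef
      have hQ : Q ≠ ⊥ := Cores.pCore_ne_bot_of_pPrimeCore_eq_bot Cores.isPSolvable_of_isSolvable hOX
      set l' := Function.update l i b with hl'
      have hlt : Nat.card (X ⧸ Q) < n := by
        rw [← hn]
        refine lt_of_lt_of_le ?_ (Nat.le_of_dvd Nat.card_pos (Subgroup.card_quotient_dvd_card _) : Nat.card X ≤ _)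
        rw [Subgroup.card_eq_card_quotient_mul_card_subgroup Q]
        exact lt_mul_of_one_lt_right Nat.card_pos ((Subgroup.one_lt_card_iff_ne_bot _).2 hQ)
      have hdX : ∀ j, ∃ S : Sylow (q j) X, derivedSeries S (d j) = ⊥ := fun j => by
        haveI := hq' j
        obtain ⟨S, hS⟩ := hd j
        refine ⟨S.mapSurjective hf, ?_⟩
        have hs' : Function.Surjective (f.subgroupMap (S : Subgroup G)) :=
          f.subgroupMap_surjective _
        have := map_derivedSeries_eq hs' (d j)
        rw [hS, Subgroup.map_bot] at this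
        exact this.symm
      have hrec : derivedSeries (X ⧸ Q) (Finset.univ.sum fun j => d j * l' j) = ⊥ := by
        refine ih _ hlt _ rfl inferInstance (fun s hs hd => hcover s hs ((hd.trans
          (Subgroup.card_quotient_dvd_card _)).trans (Subgroup.card_quotient_dvd_card _))) l' (fun j => ?_)
          fun j => ?_
        · haveI := hq' j
          obtain ⟨S, hS⟩ := hdX j
          refine ⟨S.mapSurjective (QuotientGroup.mk'_surjective Q), ?_⟩
          have := map_derivedSeries_eq ((QuotientGroup.mk' Q).subgroupMap_surjective (S : Subgroup X)) (d j)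
          rw [hS, Subgroup.map_bot] at this
          exact this.symm
        · haveI := hq' j
          by_cases hji : j = i
          · subst hji; rw [hl', Function.update_self]; exact hY
          · rw [hl', Function.update_of_ne hji]
            exact Cores.pLengthLE_of_surjective (hlX j) (QuotientGroup.mk'_surjective _)
      have hQd : derivedSeries Q (d i) = ⊥ := by
        obtain ⟨S, hS⟩ := hdX i
        have hle : Q ≤ S := Cores.pCore_le_sylow S
        have := map_derivedSeries_le_derivedSeries (Subgroup.inclusion hle) (d i)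
        rw [hS, le_bot_iff, Subgroup.map_eq_bot_iff,
          (MonoidHom.ker_eq_bot_iff _).2 (Subgroup.inclusion_injective hle), le_bot_iff] at this
        exact this
      rw [← map_derivedSeries_eq (QuotientGroup.mk'_surjective Q), Subgroup.map_eq_bot_iff,
        QuotientGroup.ker_mk'] at hrec
      have h1 := derived_add Q hrec (d i)
      rw [hQd, Subgroup.map_bot, le_bot_iff] at h1
      refine derived_anti (le_of_eq ?_) h1
      rw [hL, ← Finset.add_sum_erase _ _ (Finset.mem_univ i), ← Finset.add_sum_erase _ _ (Finset.mem_univ i),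
        hl', Function.update_self, hli]
      rw [Finset.sum_congr rfl (fun j hj => show d j * Function.update l i b j = d j * l j by
        rw [Function.update_of_ne (Finset.ne_of_mem_erase hj)])]
      ring
  rw [Subgroup.eq_bot_iff_forall]
  intro x hx
  by_contra hne
  obtain ⟨s, hs, hsd⟩ := Nat.exists_prime_and_dvd (show Nat.card (derivedSeries G L) ≠ 1 by
    intro h
    exact hne (Subgroup.mem_bot.mp ((Subgroup.card_eq_one.1 h) ▸ hx)))
  obtain ⟨i, rfl⟩ := hcover s hs (hsd.trans (Subgroup.card_subgroup_dvd_card _))
  exact ((hq i).coprime_iff_not_dvd).mp (Cores.coprime_card_pPrimeCore (p := q i) (G := G)).symm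
    (hsd.trans (Subgroup.card_dvd_of_le (hstep i)))


/-- The Hall–Higman bound on derived length: let G be a finite solvable group, let p₁, …, p_r be distinct primes that include every prime dividing the order of G, and suppose that for each i the Sylow p_i-subgroups of G have derived length at most d_i and G has p_i-length at most l_i. Then G has derived length at most Σ d_i l_i. -/
theorem result {G : Type*} [Group G] [Finite G] (hG : Group.IsSolvable G) (r : ℕ) (q : Fin r → ℕ) (hq : ∀ i, (q i).Prime) (hinj : Function.Injective q) (hcover : ∀ s : ℕ, s.Prime → s ∣ Nat.card G → ∃ i, q i = s) (d l : Fin r → ℕ) (hd : ∀ i, ∀ P : Subgroup G, (haveI := Fact.mk (hq i); ∃ S : Sylow (q i) G, (S : Subgroup G) = P) → derivedSeries ↥P (d i) = ⊥) (hl : ∀ i, Cfsg.PLengthLE (q i) (l i) G) : derivedSeries G (Finset.univ.sum fun i => d i * l i) = ⊥ := by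
  refine aux q hq d _ G rfl hG hcover l (fun i => ?_) hl
  obtain ⟨S⟩ := (inferInstance : Nonempty (Sylow (q i) G))
  exact ⟨S, hd i S ⟨S, rfl⟩⟩

end Cfsg.Agent.S3791
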