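import Cfsg.Statements.S3796
import Cfsg.Agent.H72.WardTop

set_option autoImplicit false
open Cfsg

namespace Cfsg.Agent.S3796

/-- Ward's Theorem: let G be a finite solvable group and A an elementary abelian group of automorphisms of G of order p² (p a prime) with no non-identity common fixed point. Then G has Fitting height at most 2: G has Fitting height at most m when there is a chain of normal subgroups 1 = F₀ ≤ F₁ ≤ ⋯ ≤ F_m = G with each F_{i+1}/F_i nilpotent. -/
theorem result {G : Type*} [Group G] [Finite G] (hG : Group.IsSolvable G) {p : ℕ} (hp : p.Prime) (A : Subgroup (MulAut G)) (hA : Cfsg.IsElementaryAbelian p A) (hcard : Nat.card A = p ^ 2) (hfpf : ∀ g : G, (∀ a ∈ A, a g = g) → g = 1) : ∃ F : Fin (2 + 1) → Subgroup G, F 0 = ⊥ ∧ F (Fin.last 2) = ⊤ ∧ Monotone F ∧ (∀ i, (F i).Normal) ∧ ∀ i : Fin 2, ∃ k : ℕ, (F i.succ).lowerCentralSeries k ≤ F i.castSucc := by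
  classical
  have := Fact.mk hp
  have hne : A ≠ ⊥ := fun h => by
    rw [h, Subgroup.card_bot] at hcard
    exact absurd hcard.symm (Nat.one_lt_pow (by norm_num) hp.one_lt).ne'
  obtain ⟨a, haA, ha1⟩ := (A.bot_or_exists_ne_one).resolve_left hne
  have hap : a ^ p = 1 := hA.2 a haA
  have hord : orderOf a = p := orderOf_eq_prime hap ha1
  obtain ⟨c, hcA, hc1⟩ : ∃ c ∈ A, c ∉ Subgroup.zpowers a := by
    by_contra h
    push Not at h
    have h2 := Subgroup.card_dvd_of_le h
    rw [hcard, Nat.card_zpowers, hord] at h2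
    have := Nat.le_of_dvd hp.pos h2
    nlinarith [hp.two_le]
  have hcp : c ^ p = 1 := hA.2 c hcA
  have hcommA : ∀ x ∈ A, ∀ y ∈ A, Commute x y := fun x hx y hy =>
    congrArg Subtype.val (hA.1.is_comm.comm ⟨x, hx⟩ ⟨y, hy⟩)
  have hgen : A ≤ Subgroup.closure {a, c} := by
    have hle : Subgroup.closure {a, c} ≤ A :=
      (Subgroup.closure_le _).2 (Set.pair_subset haA hcA)
    refine (Subgroup.eq_of_le_of_card_ge hle ?_).ge
    have h1 : Subgroup.zpowers a ≤ Subgroup.closure {a, c} :=
      Subgroup.zpowers_le.2 (Subgroup.subset_closure (Set.mem_insert _ _))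
    obtain ⟨i, hi2, hi⟩ := (Nat.dvd_prime_pow hp).1 (hcard ▸ Subgroup.card_dvd_of_le hle)
    have hlt : Nat.card (Subgroup.zpowers a) < Nat.card (Subgroup.closure {a, c}) :=
      lt_of_not_ge fun h => hc1 (by
        rw [Subgroup.eq_of_le_of_card_ge h1 h]
        exact Subgroup.subset_closure (Set.mem_insert_of_mem _ rfl))
    rw [Nat.card_zpowers, hord, hi] at hlt
    have h1i : 1 < i := (Nat.pow_lt_pow_iff_right hp.one_lt).1 (by simpa using hlt)
    rw [hcard, hi, show i = 2 by omega]
  have hfpf' : ∀ g, a g = g → c g = g → g = 1 := fun g h1 h2 => hfpf g fun x hx => by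
    have : Subgroup.closure {a, c} ≤ MulAction.stabilizer (MulAut G) g :=
      (Subgroup.closure_le _).2 (Set.pair_subset h1 h2)
    exact this (hgen hx)
  obtain ⟨R, k, l, hRn, hk, hl⟩ :=
    Cfsg.Agent.H72.ward hG a c (hcommA a haA c hcA) hap hcp hfpf'
  refine ⟨![⊥, R, ⊤], rfl, rfl, ?_, ?_, ?_⟩
  · refine Fin.monotone_iff_le_succ.2 ?_
    intro i
    fin_cases i <;> simp
  · intro i
    fin_cases i
    · exact (inferInstance : (⊥ : Subgroup G).Normal)
    · exact hRn
    · exact (inferInstance : (⊤ : Subgroup G).Normal)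
  · intro i
    fin_cases i
    · exact ⟨l, hl⟩
    · exact ⟨k, hk⟩

end Cfsg.Agent.S3796
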