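import Cfsg.Statements.S3797
import Cfsg.Agent.Coprime.OneClassMain
import Cfsg.Agent.Coprime.OneClassHomocyclic
import Cfsg.Agent.H72.PLengthOne

set_option autoImplicit false
open Cfsg

namespace Cfsg.Agent.S3797

open Subgroup

/-- Let G be a finite solvable group of even order whose Sylow 2-subgroups contain more than one involution, and suppose all involutions of G are conjugate. Then G has 2-length at most 1, and a Sylow 2-subgroup S of G is either homocyclic (a direct product of cyclic groups of one common order) or a non-abelian 2-group with more than one involution admitting a solvable group of automorphisms transitive on its involutions. -/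
theorem result {G : Type*} [Group G] [Finite G] (hG : Group.IsSolvable G) (heven : Even (Nat.card G)) (S : Sylow 2 G) (htwo : ∃ x y : G, x ∈ (S : Subgroup G) ∧ y ∈ (S : Subgroup G) ∧ x ≠ y ∧ x ≠ 1 ∧ x ^ 2 = 1 ∧ y ≠ 1 ∧ y ^ 2 = 1) (hconj : ∀ x y : G, x ≠ 1 → x ^ 2 = 1 → y ≠ 1 → y ^ 2 = 1 → IsConj x y) : Cfsg.PLengthLE 2 1 G ∧ ((∃ m r : ℕ, Nonempty (↥(S : Subgroup G) ≃* (Fin r → Multiplicative (ZMod (2 ^ m))))) ∨ (¬ IsMulCommutative (S : Subgroup G) ∧ ∃ Y : Subgroup (MulAut ↥(S : Subgroup G)), Group.IsSolvable Y ∧ ∀ x y : ↥(S : Subgroup G), x ≠ 1 → x ^ 2 = 1 → y ≠ 1 → y ^ 2 = 1 → ∃ a ∈ Y, a x = y)) := by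
  have := heven
  have : Fact (Nat.Prime 2) := ⟨Nat.prime_two⟩
  set O := Cfsg.pPrimeCore 2 G with hO
  set π := QuotientGroup.mk' O with hπ
  have hOodd : Odd (Nat.card O) := Nat.coprime_two_right.mp Cores.coprime_card_pPrimeCore
  -- involutions of the quotient lift
  have hlift : ∀ z : G ⧸ O, z ≠ 1 → z ^ 2 = 1 → ∃ x : G, x ≠ 1 ∧ x ^ 2 = 1 ∧ π x = z := by
    intro z hz hz2
    obtain ⟨g, rfl⟩ := QuotientGroup.mk'_surjective O z
    set m := Nat.card O with hm
    obtain ⟨j, hj⟩ := hOodd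
    have hgm : π (g ^ m) = π g := by
      rw [map_pow, hj, pow_succ, pow_mul, show π g ^ 2 = 1 from hz2, one_pow, one_mul]
    refine ⟨g ^ m, fun e => hz (by rw [← hgm, e, map_one]), ?_, hgm⟩
    have h1 : g ^ 2 ∈ O := by rwa [← QuotientGroup.eq_one_iff]
    have h2 : (⟨g ^ 2, h1⟩ : O) ^ m = 1 := pow_card_eq_one'
    rw [← pow_mul, mul_comm, pow_mul]
    exact congrArg Subtype.val h2
  have hne : ∀ x : G, x ≠ 1 → x ^ 2 = 1 → π x ≠ 1 := by
    intro x hx hx2 e
    have h1 : x ∈ O := (QuotientGroup.eq_one_iff x).mp e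
    have h2 : orderOf (⟨x, h1⟩ : O) = 2 := by
      rw [Subgroup.orderOf_mk]; exact orderOf_eq_prime hx2 hx
    exact hOodd.not_two_dvd_nat (h2 ▸ _root_.orderOf_dvd_natCard _)
  obtain ⟨x, y, hxS, hyS, hxy, hx, hx2, hy, hy2⟩ := htwo
  have H : Coprime.OneClass.Hyp (G ⧸ O) :=
    { solv := Group.isSolvable_of_surjective (QuotientGroup.mk'_surjective O)
      core := Cores.pPrimeCore_quotient_pPrimeCore
      conj := fun a b ha ha2 hb hb2 => by
        obtain ⟨u, hu, hu2, rfl⟩ := hlift a ha ha2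
        obtain ⟨v, hv, hv2, rfl⟩ := hlift b hb hb2
        exact π.map_isConj (hconj u v hu hu2 hv hv2)
      two := ⟨π x, π y, fun e => hxy (by
        have h1 : x⁻¹ * y ∈ O := QuotientGroup.eq.mp e
        exact inv_mul_eq_one.mp (H72.PLengthOne.eq_one_of_mem_mem S h1 (mul_mem (inv_mem hxS) hyS))),
        hne x hx hx2, by rw [← map_pow, hx2, map_one], hne y hy hy2, by rw [← map_pow, hy2, map_one]⟩ }
  have hpl : Cfsg.PLengthLE 2 1 G := by
    rw [Cores.pLengthLE_one_iff, ← Subgroup.index_eq_card]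
    unfold Cfsg.pPrimePCore
    rw [Subgroup.index_comap_of_surjective _ (QuotientGroup.mk'_surjective _)]
    exact Nat.coprime_two_right.mpr (Coprime.OneClass.odd_index H)
  refine ⟨hpl, ?_⟩
  have htr : ∀ u v : (S : Subgroup G), u ≠ 1 → u ^ 2 = 1 → v ≠ 1 → v ^ 2 = 1 →
      ∃ a ∈ ((S : Subgroup G).normalizerMonoidHom).range, a u = v := by
    intro u v hu hu2 hv hv2
    obtain ⟨g, hg⟩ := isConj_iff.mp (hconj u v (fun e => hu (Subtype.ext e))
      (congrArg Subtype.val hu2) (fun e => hv (Subtype.ext e)) (congrArg Subtype.val hv2))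
    obtain ⟨n, hn, c, hc, hnc⟩ := H72.PLengthOne.fusion hpl S {(u : G)} g (by simp) (by simp [hg])
    refine ⟨_, ⟨⟨n, hn⟩, rfl⟩, Subtype.ext ?_⟩
    show n * (u : G) * n⁻¹ = v
    have h1 : (u : G) * c = c * u := mem_centralizer_iff.mp hc _ rfl
    rw [← hg, ← hnc]
    calc n * (u : G) * n⁻¹ = n * ((u : G) * c) * c⁻¹ * n⁻¹ := by group
      _ = n * (c * u) * c⁻¹ * n⁻¹ := by rw [h1]
      _ = n * c * u * (n * c)⁻¹ := by group
  by_cases hab : IsMulCommutative (S : Subgroup G)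
  · exact Or.inl (Coprime.homocyclic_of_transitive S.isPGroup' fun u v hu hu2 hv hv2 =>
      (htr u v hu hu2 hv hv2).imp fun a ha => ha.2)
  · have := hG
    exact Or.inr ⟨hab, _, Group.isSolvable_of_surjective
      (MonoidHom.rangeRestrict_surjective ((S : Subgroup G).normalizerMonoidHom)), htr⟩

end Cfsg.Agent.S3797
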