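import Cfsg.Statements.S3798
import Cfsg.Agent.Hall.GaschutzYen

set_option autoImplicit false
open Cfsg

namespace Cfsg.Agent.S3798

/-- The Gaschütz–Yen Theorem: let G be a finite p-soluble group, p an odd prime dividing its order, such that the automorphism group of G permutes the subgroups of G of order p transitively. Then G has p-length at most 1. -/
theorem result {G : Type*} [Group G] [Finite G] {p : ℕ} [Fact p.Prime] (hp : p ≠ 2) (hdvd : p ∣ Nat.card G) (hG : Cfsg.IsPSolvable p G) (htrans : ∀ U V : Subgroup G, Nat.card U = p → Nat.card V = p → ∃ a : MulAut G, U.map a.toMonoidHom = V) : Cfsg.PLengthLE p 1 G := by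
  have hpp : p.Prime := Fact.out
  set N := Cfsg.pPrimeCore p G with hN
  have : N.Normal := Cfsg.pPrimeCore_normal p G
  have hcop : (Nat.card N).Coprime p := Cores.coprime_card_pPrimeCore
  set π := QuotientGroup.mk' N with hπ
  -- subgroups of order `p` of the quotient lift
  have hlift : ∀ U : Subgroup (G ⧸ N), Nat.card U = p →
      ∃ x : G, orderOf x = p ∧ U = (Subgroup.zpowers x).map π := by
    intro U hU
    obtain ⟨u, hu⟩ := exists_prime_orderOf_dvd_card' (G := U) p (by rw [hU])
    obtain ⟨x, ⟨k, hxk⟩, hxu⟩ := H76.exists_pElement_lift (p := p) N (y := (u : G ⧸ N))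
      ⟨1, by rw [Subgroup.orderOf_coe, hu, pow_one]⟩
    have hxp : x ^ p = 1 := by
      have h1 : x ^ p ∈ N := by
        rw [← QuotientGroup.eq_one_iff, QuotientGroup.mk_pow, hxu, ← hu, ← Subgroup.orderOf_coe,
          pow_orderOf_eq_one]
      have h2 : orderOf (x ^ p) ∣ p ^ k := hxk ▸ orderOf_pow_dvd p
      exact orderOf_eq_one_iff.mp (Nat.eq_one_of_dvd_coprimes (hcop.pow_right k)
        (Subgroup.orderOf_dvd_natCard N h1) h2)
    have hx1 : x ≠ 1 := by
      rintro rfl
      rw [QuotientGroup.mk_one] at hxu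
      rw [← Subgroup.orderOf_coe, ← hxu, orderOf_one] at hu
      exact hpp.one_lt.ne hu
    refine ⟨x, orderOf_eq_prime hxp hx1, ?_⟩
    rw [MonoidHom.map_zpowers, hπ, QuotientGroup.mk'_apply, hxu]
    refine (Subgroup.eq_of_le_of_card_ge (Subgroup.zpowers_le.mpr u.2) ?_).symm
    rw [Nat.card_zpowers, Subgroup.orderOf_coe, hu, hU]
  have htrans' : ∀ U V : Subgroup (G ⧸ N), Nat.card U = p → Nat.card V = p →
      ∃ a : MulAut (G ⧸ N), U.map a.toMonoidHom = V := by
    intro U V hU hV
    obtain ⟨x, hx, rfl⟩ := hlift U hU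
    obtain ⟨y, hy, rfl⟩ := hlift V hV
    obtain ⟨a, ha⟩ := htrans (Subgroup.zpowers x) (Subgroup.zpowers y)
      (by rw [Nat.card_zpowers, hx]) (by rw [Nat.card_zpowers, hy])
    refine ⟨QuotientGroup.congr N N a (Cores.pPrimeCore_map_mulEquiv a), ?_⟩
    rw [← ha, Subgroup.map_map, Subgroup.map_map]
    rfl
  have h := Hall.not_dvd_index_pCore_of_transitive hp (Cores.isPSolvable_quotient hG N)
    Cores.pPrimeCore_quotient_pPrimeCore htrans'
  rw [Cores.pLengthLE_one_iff, ← Subgroup.index_eq_card]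
  refine ((hpp.coprime_iff_not_dvd).mpr ?_).symm
  show ¬ p ∣ ((Cfsg.pCore p (G ⧸ N)).comap π).index
  rwa [Subgroup.index_comap_of_surjective _ (QuotientGroup.mk'_surjective N)]

end Cfsg.Agent.S3798
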