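import Cfsg.Statements.S3800
import Mathlib.GroupTheory.Nilpotent
import Cfsg.Agent.Coprime.SchurZassenhaus
-- import your own Cfsg.Agent.* helpers here

set_option autoImplicit false
open Cfsg
open Cfsg.Agent.Coprime

namespace Cfsg.Agent.S3800

/-- Let G be a finite group, N a normal subgroup of G whose order is prime to p, and P a p-subgroup of G. Then in G/N the normalizer of the image of P is the image of N_G(P), and the centralizer of the image of P is the image of C_G(P). -/
theorem result {G : Type*} [Group G] [Finite G] {p : ℕ} [Fact p.Prime] (N : Subgroup G) [N.Normal] (hN : (Nat.card N).Coprime p) (P : Subgroup G) (hP : IsPGroup p P) : Subgroup.normalizer ((P.map (QuotientGroup.mk' N)) : Set (G ⧸ N)) = (Subgroup.normalizer (P : Set G)).map (QuotientGroup.mk' N) ∧ Subgroup.centralizer ((P.map (QuotientGroup.mk' N)) : Set (G ⧸ N)) = (Subgroup.centralizer (P : Set G)).map (QuotientGroup.mk' N) := by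
  set f := QuotientGroup.mk' N with hf
  have hker : ∀ x, f x = 1 ↔ x ∈ N := fun x => QuotientGroup.eq_one_iff x
  obtain ⟨k, hk⟩ := IsPGroup.iff_card.mp hP
  have hcop : (Nat.card P).Coprime (Nat.card N) := by rw [hk]; exact (hN.symm).pow_left k
  have hsolv : Group.IsSolvable P := by
    have := hP.isNilpotent
    infer_instance
  have hdisj : N ⊓ P = ⊥ := by rw [inf_comm]; exact inf_eq_bot hcop
  have key : ∀ x : G, f x ∈ Subgroup.normalizer (P.map f : Set (G ⧸ N)) →
      ∃ n ∈ N, n * x ∈ Subgroup.normalizer (P : Set G) := by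
    intro x hx
    have hle : P.map (MulAut.conj x).toMonoidHom ≤ N ⊔ P := by
      rintro _ ⟨a, ha, rfl⟩
      obtain ⟨b, hb, hba⟩ : f (x * a * x⁻¹) ∈ P.map f := by
        rw [map_mul, map_mul, map_inv]
        exact conj_mem hx (Subgroup.mem_map_of_mem f ha)
      rw [hf, QuotientGroup.mk'_eq_mk'] at hba
      obtain ⟨z, hz, hz'⟩ := hba
      show x * a * x⁻¹ ∈ N ⊔ P
      rw [← hz']
      exact mul_mem (Subgroup.mem_sup_right hb) (Subgroup.mem_sup_left hz)
    obtain ⟨n, hn, he⟩ := exists_conj_of_le_sup Subgroup.le_normalizer_of_normal hle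
      (card_map_conj _ _) hcop (Or.inl hsolv)
    refine ⟨n⁻¹, N.inv_mem hn, mem_normalizer_of_map_conj ?_⟩
    rw [← map_conj_map_conj, he, map_conj_map_conj, inv_mul_cancel, map_conj_one]
  constructor
  · refine le_antisymm ?_ (Subgroup.le_normalizer_map f)
    intro y hy
    obtain ⟨x, rfl⟩ := QuotientGroup.mk'_surjective N y
    obtain ⟨n, hn, hnx⟩ := key x hy
    exact ⟨n * x, hnx, by rw [map_mul, (hker n).mpr hn, one_mul]⟩
  · refine le_antisymm ?_ ?_
    · intro y hy
      obtain ⟨x, rfl⟩ := QuotientGroup.mk'_surjective N y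
      obtain ⟨n, hn, hnx⟩ := key x (Subgroup.centralizer_le_normalizer _ hy)
      refine ⟨n * x, ?_, by rw [map_mul, (hker n).mpr hn, one_mul]⟩
      refine mem_centralizer_of_conj_eq fun a ha => ?_
      have h1 : f (n * x) = f x := by rw [map_mul, (hker n).mpr hn, one_mul]
      have h2 : (n * x) * a * (n * x)⁻¹ * a⁻¹ ∈ N ⊓ P := by
        refine ⟨(hker _).mp ?_, P.mul_mem (conj_mem hnx ha) (P.inv_mem ha)⟩
        rw [map_mul, map_mul, map_mul, map_inv, map_inv, h1,
          ← (commute_of_mem_centralizer hy (Subgroup.mem_map_of_mem f ha) : f a * f x = f x * f a)]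
        group
      rw [hdisj, Subgroup.mem_bot, mul_inv_eq_one, mul_inv_eq_iff_eq_mul] at h2
      rw [← h2, mul_inv_cancel_right]
    · rintro _ ⟨x, hx, rfl⟩
      rw [Subgroup.mem_centralizer_iff]
      rintro _ ⟨a, ha, rfl⟩
      rw [← map_mul, ← map_mul, Subgroup.mem_centralizer_iff.mp hx a ha]

end Cfsg.Agent.S3800
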