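import Cfsg.Statements.S3802
import Cfsg.Agent.H30.Subnormal
import Cfsg.Agent.Components.Basic

set_option autoImplicit false
open Cfsg

namespace Cfsg.Agent.S3802

/-- Let G be a finite group, M a maximal subgroup of G and N a subnormal subgroup of G contained in M. Then N is contained in every conjugate of M, that is, N lies in the core of M in G. -/
theorem result {G : Type*} [Group G] [Finite G] (M N : Subgroup G) (hM : IsCoatom M) (hN : N.IsSubnormal) (hNM : N ≤ M) :
    N ≤ Subgroup.normalCore M := by
  suffices key : ∀ (k : ℕ) (N : Subgroup G), Nat.card G - Nat.card N ≤ k → N.IsSubnormal → N ≤ M →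
      N ≤ M.normalCore from key _ N le_rfl hN hNM
  intro k
  induction k with
  | zero =>
    intro N hk _ hNM
    have : N = ⊤ := Subgroup.eq_top_of_card_eq N (le_antisymm (Subgroup.card_le_card_group N) (by omega))
    exact absurd (top_le_iff.1 (this ▸ hNM)) hM.1
  | succ k ih =>
    intro N hk hN hNM
    have hlarger : ∀ K : Subgroup G, N < K → K.IsSubnormal → K ≤ M → N ≤ M.normalCore := fun K hNK hK hKM => by
      refine hNK.le.trans (ih K ?_ hK hKM)
      have h1 : Nat.card N < Nat.card K :=
        (Subgroup.card_le_of_le hNK.le).lt_of_ne fun e => hNK.ne (Subgroup.eq_of_le_of_card_ge hNK.le e.ge)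
      omega
    set C : Subgroup G := sSup {U | ∃ m ∈ M, U = N.map (MulAut.conj m).toMonoidHom} with hC
    have hCs : C.IsSubnormal := Cfsg.Agent.H30.isSubnormal_sSup fun U ⟨m, _, hU⟩ =>
      hU ▸ Cfsg.Agent.Components.isSubnormal_map_equiv _ hN
    have hCM : C ≤ M := sSup_le fun U ⟨m, hm, hU⟩ => by
      rw [hU]; rintro _ ⟨x, hx, rfl⟩
      exact M.mul_mem (M.mul_mem hm (hNM hx)) (M.inv_mem hm)
    have hNC : N ≤ C := fun x hx => (le_sSup ⟨1, M.one_mem, rfl⟩ : N.map _ ≤ C) ⟨x, hx, by simp⟩
    rcases hNC.lt_or_eq with h | h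
    · exact hlarger C h hCs hCM
    have hMN : M ≤ Subgroup.normalizer (N : Set G) := by
      have key : ∀ m ∈ M, ∀ x ∈ N, m * x * m⁻¹ ∈ N := fun m hm x hx => by
        rw [h]; exact (le_sSup ⟨m, hm, rfl⟩ : N.map _ ≤ C) ⟨x, hx, rfl⟩
      intro m hm
      rw [Subgroup.mem_normalizer_iff]
      refine fun x => ⟨key m hm x, fun hx => ?_⟩
      simpa [mul_assoc] using key m⁻¹ (M.inv_mem hm) _ hx
    rcases hMN.lt_or_eq with h' | h'
    · have := Subgroup.normalizer_eq_top_iff.1 (hM.2 _ h')
      exact Subgroup.normal_le_normalCore.2 hNM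
    have aux : ∀ B : Subgroup G, B.IsSubnormal → N ≤ B → B ≤ Subgroup.normalizer (N : Set G) → B ≠ N →
        N ≤ M.normalCore := fun B hB hNB hBn hne =>
      hlarger B (lt_of_le_of_ne hNB hne.symm) hB (h' ▸ hBn)
    have walk : ∀ A : Subgroup G, A.IsSubnormal → A = N → N ≤ M.normalCore := by
      intro A hA
      induction hA with
      | top => intro e; exact absurd (top_le_iff.1 (e.symm ▸ hNM)) hM.1
      | step A B hle hB hn ihB =>
        intro e
        subst e
        by_cases hne : B = A
        · exact ihB hne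
        · exact aux B hB hle ((Subgroup.normal_subgroupOf_iff_le_normalizer hle).1 hn) hne
    exact walk N hN rfl

end Cfsg.Agent.S3802
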