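import Cfsg.Statements.S3804
import Cfsg.Agent.H62.CD

set_option autoImplicit false
open Cfsg
open scoped Pointwise

namespace Cfsg.Agent.S3804

/-- Let G and H be subgroups of a finite group with G normalizing H, fix a real number α > 0, and for a subgroup A of G put m(A) = |A|^α · |C_H(A)|. Let A and B be nontrivial subgroups of G at which m attains its maximum over all nontrivial subgroups of G, and assume that A ∩ B ≠ 1 or that this maximum is at least |H|. Then AB = BA is a subgroup at which m is again maximal, C_H(A ∩ B) = C_H(A) C_H(B), and if A ∩ B ≠ 1 then m is maximal at A ∩ B as well. -/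
theorem result {X : Type*} [Group X] [Finite X] (G H : Subgroup X) (hGH : G ≤ Subgroup.normalizer (H : Set X)) (α : ℝ) (hα : 0 < α)
    (A B : Subgroup X) (hA : A ≤ G) (hB : B ≤ G) (hA1 : A ≠ ⊥) (hB1 : B ≠ ⊥)
    (hAmax : ∀ A' : Subgroup X, A' ≤ G → A' ≠ ⊥ → (fun A : Subgroup X => ((Nat.card A : ℝ) ^ α) * (Nat.card ↥(H ⊓ Subgroup.centralizer (A : Set X)) : ℝ)) A' ≤ (fun A : Subgroup X => ((Nat.card A : ℝ) ^ α) * (Nat.card ↥(H ⊓ Subgroup.centralizer (A : Set X)) : ℝ)) A)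
    (hBmax : ∀ A' : Subgroup X, A' ≤ G → A' ≠ ⊥ → (fun A : Subgroup X => ((Nat.card A : ℝ) ^ α) * (Nat.card ↥(H ⊓ Subgroup.centralizer (A : Set X)) : ℝ)) A' ≤ (fun A : Subgroup X => ((Nat.card A : ℝ) ^ α) * (Nat.card ↥(H ⊓ Subgroup.centralizer (A : Set X)) : ℝ)) B)
    (hcase : A ⊓ B ≠ ⊥ ∨ (Nat.card H : ℝ) ≤ (fun A : Subgroup X => ((Nat.card A : ℝ) ^ α) * (Nat.card ↥(H ⊓ Subgroup.centralizer (A : Set X)) : ℝ)) A) :
    (∀ a ∈ A, ∀ b ∈ B, ∃ b' ∈ B, ∃ a' ∈ A, a * b = b' * a') ∧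
    (∀ A' : Subgroup X, A' ≤ G → A' ≠ ⊥ → (fun A : Subgroup X => ((Nat.card A : ℝ) ^ α) * (Nat.card ↥(H ⊓ Subgroup.centralizer (A : Set X)) : ℝ)) A' ≤ (fun A : Subgroup X => ((Nat.card A : ℝ) ^ α) * (Nat.card ↥(H ⊓ Subgroup.centralizer (A : Set X)) : ℝ)) (A ⊔ B)) ∧
    (∀ h ∈ H ⊓ Subgroup.centralizer ((A ⊓ B : Subgroup X) : Set X), ∃ u ∈ H ⊓ Subgroup.centralizer (A : Set X), ∃ v ∈ H ⊓ Subgroup.centralizer (B : Set X), h = u * v) ∧
    (A ⊓ B ≠ ⊥ → ∀ A' : Subgroup X, A' ≤ G → A' ≠ ⊥ → (fun A : Subgroup X => ((Nat.card A : ℝ) ^ α) * (Nat.card ↥(H ⊓ Subgroup.centralizer (A : Set X)) : ℝ)) A' ≤ (fun A : Subgroup X => ((Nat.card A : ℝ) ^ α) * (Nat.card ↥(H ⊓ Subgroup.centralizer (A : Set X)) : ℝ)) (A ⊓ B)) := by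
  set cH : Subgroup X → Subgroup X := fun K => H ⊓ Subgroup.centralizer (K : Set X) with hcH
  set m : Subgroup X → ℝ := fun A : Subgroup X => ((Nat.card A : ℝ) ^ α) * (Nat.card ↥(cH A) : ℝ) with hm
  have hmA : ∀ A', A' ≤ G → A' ≠ ⊥ → m A' ≤ m A := hAmax
  have hmB : m B = m A := le_antisymm (hmA B hB hB1) (hBmax A hA hA1)
  have hsup1 : A ⊔ B ≠ ⊥ := fun h => hA1 (le_bot_iff.1 (h ▸ le_sup_left))
  have hinf : m (A ⊓ B) ≤ m A := by
    by_cases h : A ⊓ B = ⊥
    · rcases hcase with h' | h'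
      · exact absurd h h'
      · refine le_trans (le_of_eq ?_) h'
        have e : cH ⊥ = H := inf_eq_left.2 fun x _ => Subgroup.mem_centralizer_iff.2 fun y hy => by
          rw [Subgroup.mem_bot.1 hy, one_mul, mul_one]
        simp only [hm, h, e, Subgroup.card_bot, Nat.cast_one, Real.one_rpow, one_mul]
    · exact hmA _ (inf_le_left.trans hA) h
  have hsup : m (A ⊔ B) ≤ m A := hmA _ (sup_le hA hB) hsup1
  have hcs : cH A ⊓ cH B = cH (A ⊔ B) := by
    show (H ⊓ H62.cc A) ⊓ (H ⊓ H62.cc B) = H ⊓ H62.cc (A ⊔ B)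
    rw [H62.cc_sup, inf_inf_inf_comm, inf_idem]
  have hle : cH A ⊔ cH B ≤ cH (A ⊓ B) :=
    sup_le (inf_le_inf_left H (H62.cc_anti inf_le_left)) (inf_le_inf_left H (H62.cc_anti inf_le_right))
  set x := Nat.card ↥((A : Set X) * (B : Set X)) with hx
  set d := Nat.card ↥(A ⊓ B)
  set y := Nat.card ↥((cH A : Set X) * (cH B : Set X)) with hy
  set c := Nat.card ↥(cH (A ⊔ B))
  set a := Nat.card ↥(A ⊔ B)
  set b := Nat.card ↥(cH (A ⊓ B))
  have hxd : (x : ℝ) * d = (Nat.card A : ℝ) * Nat.card B := by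
    exact_mod_cast H62.card_prod_mul_card_inf A B
  have hyc : (y : ℝ) * c = (Nat.card ↥(cH A) : ℝ) * Nat.card ↥(cH B) := by
    have := H62.card_prod_mul_card_inf (cH A) (cH B)
    rw [hcs] at this
    exact_mod_cast this
  have hxa : x ≤ a := H62.card_prod_le_sup A B
  have hyb : y ≤ b := (H62.card_prod_le_sup _ _).trans (Subgroup.card_le_of_le hle)
  have hd : (0 : ℝ) < d := by exact_mod_cast Nat.card_pos
  have hc : (0 : ℝ) < c := by exact_mod_cast Nat.card_pos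
  have hMpos : 0 < m A := mul_pos (Real.rpow_pos_of_pos (by exact_mod_cast Nat.card_pos) _)
    (by exact_mod_cast Nat.card_pos)
  have hMM : ((x : ℝ) ^ α * c) * ((d : ℝ) ^ α * y) = m A * m A := by
    nth_rewrite 2 [← hmB]
    simp only [hm]
    calc ((x : ℝ) ^ α * c) * ((d : ℝ) ^ α * y) = ((x : ℝ) ^ α * (d : ℝ) ^ α) * (y * c) := by ring
      _ = _ := by
        rw [← Real.mul_rpow (by positivity) (by positivity), hxd,
          Real.mul_rpow (by positivity) (by positivity), hyc]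
        ring
  have h1 : (x : ℝ) ^ α * c ≤ m (A ⊔ B) :=
    mul_le_mul_of_nonneg_right (Real.rpow_le_rpow (by positivity) (by exact_mod_cast hxa) hα.le) hc.le
  have h2 : (d : ℝ) ^ α * y ≤ m (A ⊓ B) :=
    mul_le_mul_of_nonneg_left (by exact_mod_cast hyb) (by positivity)
  have h2M := h2.trans hinf
  have h1M := h1.trans hsup
  have h2n : 0 ≤ (d : ℝ) ^ α * y := by positivity
  have h1n : 0 ≤ (x : ℝ) ^ α * c := by positivity
  have e1 : (x : ℝ) ^ α * c = m A := by nlinarith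
  have e2 : (d : ℝ) ^ α * y = m A := by nlinarith
  have esup : m (A ⊔ B) = m A := le_antisymm hsup (e1 ▸ h1)
  have einf : m (A ⊓ B) = m A := le_antisymm hinf (e2 ▸ h2)
  have hax : a ≤ x := by
    by_contra hlt
    have := mul_lt_mul_of_pos_right
      (Real.rpow_lt_rpow (by positivity) (show (x : ℝ) < a by exact_mod_cast Nat.lt_of_not_le hlt) hα) hc
    exact absurd (e1.trans esup.symm) this.ne
  have hby : b ≤ y := by
    by_contra hlt
    have := mul_lt_mul_of_pos_left (show (y : ℝ) < b by exact_mod_cast Nat.lt_of_not_le hlt)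
      (Real.rpow_pos_of_pos hd α)
    exact absurd (e2.trans einf.symm) this.ne
  refine ⟨?_, fun A' h h' => (hmA A' h h').trans esup.ge, ?_, fun _ A' h h' => (hmA A' h h').trans einf.ge⟩
  · intro u hu v hv
    have hset := H62.sup_eq_prod_of_card_le hax
    have h := (A ⊔ B).inv_mem (Subgroup.mul_mem_sup hu hv)
    rw [← SetLike.mem_coe, hset] at h
    obtain ⟨a', ha', b', hb', e⟩ := h
    refine ⟨b'⁻¹, B.inv_mem hb', a'⁻¹, A.inv_mem ha', ?_⟩
    simp only at e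
    rw [← mul_inv_rev, e, inv_inv]
  · intro h hh
    have hs : Nat.card ↥(cH A ⊔ cH B) ≤ Nat.card ↥((cH A : Set X) * (cH B : Set X)) :=
      (Subgroup.card_le_of_le hle).trans hby
    have hset := H62.sup_eq_prod_of_card_le hs
    have hall : cH A ⊔ cH B = cH (A ⊓ B) :=
      Subgroup.eq_of_le_of_card_ge hle (hby.trans (H62.card_prod_le_sup _ _))
    have hh' : h ∈ ((cH A ⊔ cH B : Subgroup X) : Set X) := by rw [hall]; exact hh
    rw [hset] at hh'
    obtain ⟨u, hu, v, hv, e⟩ := hh'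
    exact ⟨u, hu, v, hv, e.symm⟩

end Cfsg.Agent.S3804
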