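import Cfsg.Statements.S3806
import Cfsg.Agent.PGroups.MaxClassUniform

set_option autoImplicit false
open Cfsg

namespace Cfsg.Agent.S3806

open PGroups Subgroup
open scoped commutatorElement

/-- Let p be a prime and S a finite p-group of order pⁿ (n ≥ 2) of maximal nilpotency class n − 1 whose sectional p-rank is exactly k (every section has p-rank at most k, and some section has p-rank k). If p ≥ k + 2 then the order of S is at most p^(2k). -/
theorem result {S : Type*} [Group S] [Finite S] (p : ℕ) [Fact p.Prime] (hS : IsPGroup p S) [Group.IsNilpotent S]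
    (n : ℕ) (hn : 2 ≤ n) (hcard : Nat.card S = p ^ n) (hmax : Group.nilpotencyClass S = n - 1)
    (k : ℕ) (hk : 1 ≤ k) (hsr : Cfsg.SectionalPRankLE p k S ∧ ¬ Cfsg.SectionalPRankLE p (k - 1) S)
    (hpk : k + 2 ≤ p) : Nat.card S ≤ p ^ (2 * k) := by
  have hp := (Fact.out : p.Prime)
  by_contra hlt
  rw [hcard, Nat.pow_le_pow_iff_right hp.one_lt, not_le] at hlt
  -- the quotient by the Frattini subgroup has rank two
  have hk2 : 2 ≤ k := by
    by_contra hk1
    have hncyc : ¬ IsCyclic S := fun h => by
      haveI := h
      letI : CommGroup S := IsCyclic.commGroup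
      have := CommGroup.nilpotencyClass_le_one (G := S)
      omega
    set N := (frattini S).subgroupOf (⊤ : Subgroup S)
    have hA : IsMulCommutative (↥(⊤ : Subgroup S) ⧸ N) := ⟨⟨fun a b => by
      induction a using QuotientGroup.induction_on with
      | _ a =>
        induction b using QuotientGroup.induction_on with
        | _ b =>
          rw [← commutatorElement_eq_one_iff_mul_comm]
          show QuotientGroup.mk' N a * QuotientGroup.mk' N b * (QuotientGroup.mk' N a)⁻¹ *
            (QuotientGroup.mk' N b)⁻¹ = 1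
          rw [← map_inv, ← map_inv, ← map_mul, ← map_mul, ← map_mul]
          refine (QuotientGroup.eq_one_iff _).2 (Subgroup.mem_subgroupOf.2 ?_)
          exact commutator_le_frattini hS (commutator_mem_commutator (mem_top _) (mem_top _))⟩⟩
    have h1 := hsr.1 ⊤ N ⊤ ⟨⟨fun a b => Subtype.ext (hA.is_comm.comm _ _)⟩⟩ (fun a _ => by
      induction a using QuotientGroup.induction_on with
      | _ a =>
        rw [← QuotientGroup.mk_pow, QuotientGroup.eq_one_iff, Subgroup.mem_subgroupOf]
        exact pow_mem_frattini hS _)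
    rw [Subgroup.card_top, ← Subgroup.index_eq_card, show k = 1 by omega, pow_one] at h1
    have h2 : N.index = (frattini S).index := by
      show (frattini S).relIndex ⊤ = _
      rw [Subgroup.relIndex_top_right]
    rw [h2] at h1
    obtain ⟨j, hj⟩ := hS.index (frattini S)
    refine hncyc ?_
    haveI : IsCyclic (S ⧸ frattini S) := by
      rw [hj] at h1
      have hj1 : j ≤ 1 := (Nat.pow_le_pow_iff_right hp.one_lt).1 (by simpa using h1)
      rw [Subgroup.index_eq_card] at hj
      rcases Nat.le_one_iff_eq_zero_or_eq_one.mp hj1 with rfl | rfl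
      · haveI : Subsingleton (S ⧸ frattini S) := (Nat.card_eq_one_iff_unique.mp (by simpa using hj)).1
        infer_instance
      · exact isCyclic_of_prime_card (p := p) (by simpa using hj)
    exact isCyclic_of_frattini
  have M : MaxClassGrp S p n := by
    refine ⟨hcard, by omega, fun h => ?_⟩
    rw [Subgroup.lowerCentralSeries_eq_bot_iff_nilpotencyClass_le] at h
    omega
  obtain ⟨x, H⟩ := M.exists_pair (by omega)
  -- an elementary abelian section of order `p ^ (k + 1)`
  set K := lcsFil S k
  set N := (lcsFil S (2 * k + 1)).subgroupOf K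
  have hcomm : ∀ a b : K, ⁅a, b⁆ ∈ N := by
    intro a b
    rw [Subgroup.mem_subgroupOf]
    show ⁅(a : S), (b : S)⁆ ∈ _
    obtain ⟨e, he, he'⟩ := SetLike.exists_of_lt (M.lt_step (i := k) (by omega) (by omega))
    obtain ⟨i, hi⟩ := M.exists_pow_layer hk2 (by omega) he he' a.2
    obtain ⟨j, hj⟩ := M.exists_pow_layer hk2 (by omega) he he' b.2
    set q := QuotientGroup.mk' (lcsFil S (2 * k + 1))
    refine (QuotientGroup.eq_one_iff _).1 ?_
    show q ⁅(a : S), (b : S)⁆ = 1
    have hce : ∀ u ∈ lcsFil S (k + 1), ∀ v ∈ lcsFil S k, Commute (q u) (q v) := fun u hu v hv => by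
      rw [← commutatorElement_eq_one_iff_commute, ← map_commutatorElement]
      refine (QuotientGroup.eq_one_iff _).2 ?_
      have h := commutatorElement_mem_lcsFil hu hv
      rwa [show k + 1 + k = 2 * k + 1 by omega] at h
    rw [← mul_inv_cancel_left (e ^ i) (a : S), ← mul_inv_cancel_left (e ^ j) (b : S), map_commutatorElement,
      commutatorElement_eq_one_iff_commute, map_mul q (e ^ i), map_mul q (e ^ j)]
    refine Commute.mul_left (Commute.mul_right ?_ ?_) (Commute.mul_right ?_ ?_)
    · rw [map_pow, map_pow]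
      exact (Commute.refl (q e)).pow_pow i j
    · exact (hce _ hj _ (pow_mem he i)).symm
    · exact hce _ hi _ (pow_mem he j)
    · exact hce _ hi _ (lcsFil_antitone (by omega) hj)
  have hA : IsMulCommutative (⊤ : Subgroup (K ⧸ N)) := ⟨⟨fun a b => Subtype.ext (by
    show (a : K ⧸ N) * b = b * a
    obtain ⟨a, ha⟩ := QuotientGroup.mk'_surjective N (a : K ⧸ N)
    obtain ⟨b, hb⟩ := QuotientGroup.mk'_surjective N (b : K ⧸ N)
    rw [← ha, ← hb, ← commutatorElement_eq_one_iff_mul_comm, ← map_commutatorElement]
    exact (QuotientGroup.eq_one_iff _).2 (hcomm a b))⟩⟩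
  have h1 := hsr.1 K N ⊤ hA (fun a _ => by
    induction a using QuotientGroup.induction_on with
    | _ a =>
      rw [← QuotientGroup.mk_pow, QuotientGroup.eq_one_iff, Subgroup.mem_subgroupOf, SubmonoidClass.coe_pow]
      exact lcsFil_antitone (by omega) (H.pow_layer k hk2 a a.2).1)
  have h2 := Subgroup.card_eq_card_quotient_mul_card_subgroup N
  rw [Nat.card_congr (Subgroup.subgroupOfEquivOfLe (lcsFil_antitone (show k ≤ 2 * k + 1 by omega))).toEquiv,
    M.card_lcsFil hk2 (by omega), M.card_lcsFil (i := 2 * k + 1) (by omega) (by omega),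
    show n - k = k + 1 + (n - (2 * k + 1)) by omega, pow_add] at h2
  rw [Subgroup.card_top, ← Nat.eq_of_mul_eq_mul_right (pow_pos hp.pos _) h2,
    Nat.pow_le_pow_iff_right hp.one_lt] at h1
  omega

end Cfsg.Agent.S3806
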