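import Cfsg.Statements.S3808
import Cfsg.Agent.PGroups.Extraspecial
import Cfsg.Agent.PGroups.CyclicMaximal
-- import your own Cfsg.Agent.* helpers here

set_option autoImplicit false
open Cfsg

namespace Cfsg.Agent.S3808

open Subgroup

/-- Let S be a finite p-group with an extraspecial subgroup Q of index p. Then either Z(S) = Z(Q), or S = Q·Z(S) and Z(S) has order p². -/
theorem result {S : Type*} [Group S] [Finite S] (p : ℕ) [Fact p.Prime] (hS : IsPGroup p S) (Q : Subgroup S) (hQ : Cfsg.IsExtraspecial p ↥Q) (hQi : Q.index = p) :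
    Subgroup.center S = (Subgroup.center ↥Q).map Q.subtype ∨
      (Q ⊔ Subgroup.center S = ⊤ ∧ Nat.card (Subgroup.center S) = p ^ 2) := by
  haveI hQn := PGroups.normal_of_index_eq hS hQi
  have hZQc : Nat.card ((Subgroup.center ↥Q).map Q.subtype) = p := by
    rw [Subgroup.card_map_of_injective Q.subtype_injective, hQ.2]
  have hle : (Subgroup.center ↥Q).map Q.subtype ≤ Subgroup.center S :=
    PGroups.le_center_of_card_eq hS _ hZQc
  have hinf : Subgroup.center S ⊓ Q ≤ (Subgroup.center ↥Q).map Q.subtype := fun z hz =>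
    ⟨⟨z, hz.2⟩, Subgroup.mem_center_iff.mpr fun g => Subtype.ext (Subgroup.mem_center_iff.mp hz.1 g), rfl⟩
  by_cases hZ : Subgroup.center S ≤ Q
  · exact Or.inl (le_antisymm (fun z hz => hinf ⟨hz, hZ hz⟩) hle)
  obtain ⟨z, hz, hzQ⟩ := SetLike.not_le_iff_exists.mp hZ
  have htop : Q ⊔ Subgroup.center S = ⊤ := top_le_iff.mp
    ((PGroups.sup_zpowers_eq_top hS hQi hzQ).ge.trans (sup_le_sup_left (zpowers_le.mpr hz) _))
  refine Or.inr ⟨htop, ?_⟩
  have heq : (Q.subgroupOf (Subgroup.center S)).map (Subgroup.center S).subtype =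
      (Subgroup.center ↥Q).map Q.subtype := by
    rw [Subgroup.subgroupOf_map_subtype, inf_comm]
    refine le_antisymm hinf (le_inf hle ?_)
    rintro _ ⟨w, -, rfl⟩
    exact w.2
  have h1 : Nat.card (Q.subgroupOf (Subgroup.center S)) = p := by
    rw [← Subgroup.card_map_of_injective (Subgroup.center S).subtype_injective, heq, hZQc]
  have hp : p.Prime := Fact.out
  have h2 : (Q.subgroupOf (Subgroup.center S)).index = p := by
    rcases hp.eq_one_or_self_of_dvd _ (hQi ▸ Subgroup.relIndex_dvd_index_of_normal Q (Subgroup.center S)) with h | h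
    · exact absurd (Subgroup.relIndex_eq_one.mp h) hZ
    · exact h
  rw [← (Q.subgroupOf (Subgroup.center S)).card_mul_index, h1, h2, sq]

end Cfsg.Agent.S3808
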