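import Cfsg.Statements.S3809
import Cfsg.Agent.PGroups.Extraspecial
import Cfsg.Agent.PGroups.CyclicMaximal
-- import your own Cfsg.Agent.* helpers here

set_option autoImplicit false
open Cfsg

namespace Cfsg.Agent.S3809

open Subgroup

/-- Let S be a finite p-group with an extraspecial subgroup of index p. Then S has order p^(2+2n) for some n ≥ 1, derived length at most 3, and exponent dividing p³. -/
theorem result {S : Type*} [Group S] [Finite S] (p : ℕ) [Fact p.Prime] (hS : IsPGroup p S) (Q : Subgroup S) (hQ : Cfsg.IsExtraspecial p ↥Q) (hQi : Q.index = p) :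
    (∃ n : ℕ, 1 ≤ n ∧ Nat.card S = p ^ (2 + 2 * n)) ∧ derivedSeries S 3 = ⊥ ∧ ∀ x : S, x ^ (p ^ 3) = 1 := by
  haveI hQn := PGroups.normal_of_index_eq hS hQi
  have hZQc : Nat.card ((Subgroup.center ↥Q).map Q.subtype) = p := by
    rw [Subgroup.card_map_of_injective Q.subtype_injective, hQ.2]
  obtain ⟨n, hn, hcard⟩ := PGroups.isExtraspecial_card hQ
  have hS' : commutator S ≤ Q := PGroups.commutator_le_of_index_dvd_sq (p := p) Q
    (hQi ▸ dvd_pow_self p two_ne_zero)
  refine ⟨⟨n, hn, ?_⟩, ?_, fun x => ?_⟩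
  · rw [← Q.card_mul_index, hcard, hQi, ← pow_succ]
    ring_nf
  · rw [eq_bot_iff]
    have h1 : derivedSeries S 1 ≤ Q := by rw [derivedSeries_one]; exact hS'
    have h2 : derivedSeries S 2 ≤ (Subgroup.center ↥Q).map Q.subtype := by
      rw [derivedSeries_succ]
      refine (commutator_mono h1 h1).trans (le_of_eq ?_)
      rw [← Q.map_subtype_commutator, hQ.1.2.2]
    rw [derivedSeries_succ]
    refine (commutator_mono h2 h2).trans (commutator_le.mpr ?_)
    rintro _ ⟨a, ha, rfl⟩ _ ⟨b, -, rfl⟩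
    rw [Subgroup.mem_bot, commutatorElement_eq_one_iff_mul_comm]
    exact congrArg Subtype.val (Subgroup.mem_center_iff.mp ha b).symm
  · have hx : x ^ p ∈ Q := hQi ▸ Q.pow_index_mem x
    have h := PGroups.isSpecial_center_pow hQ.1 (PGroups.isSpecial_pow_mem_center hQ.1 ⟨x ^ p, hx⟩)
    have h' : ((x ^ p) ^ p) ^ p = 1 := congrArg Subtype.val h
    rwa [← pow_mul, ← pow_mul, show p * (p * p) = p ^ 3 by ring] at h'

end Cfsg.Agent.S3809
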