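import Cfsg.Statements.S3810
import Cfsg.Agent.PGroups.Extraspecial
import Cfsg.Agent.PGroups.CyclicMaximal
-- import your own Cfsg.Agent.* helpers here

set_option autoImplicit false
open Cfsg

namespace Cfsg.Agent.S3810

open Subgroup
open scoped commutatorElement

/-- Let S be a finite p-group with an extraspecial subgroup of index p. Then S has an abelian subgroup of index p if and only if S has order p⁴. -/
theorem result {S : Type*} [Group S] [Finite S] (p : ℕ) [Fact p.Prime] (hS : IsPGroup p S) (Q : Subgroup S) (hQ : Cfsg.IsExtraspecial p ↥Q) (hQi : Q.index = p) :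
    (∃ A : Subgroup S, IsMulCommutative ↥A ∧ A.index = p) ↔ Nat.card S = p ^ 4 := by
  haveI hQn := PGroups.normal_of_index_eq hS hQi
  have hZQc : Nat.card ((Subgroup.center ↥Q).map Q.subtype) = p := by
    rw [Subgroup.card_map_of_injective Q.subtype_injective, hQ.2]
  have hp : p.Prime := Fact.out
  obtain ⟨n, hn, hcard⟩ := PGroups.isExtraspecial_card hQ
  obtain ⟨x₀, y₀, hxy⟩ := PGroups.isExtraspecial_exists_ne hQ
  have hScard : Nat.card S = p ^ (2 * n + 2) := by
    rw [← Q.card_mul_index, hcard, hQi, ← pow_succ]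
  constructor
  · rintro ⟨A, hA, hAi⟩
    haveI hAn := PGroups.normal_of_index_eq hS hAi
    set B := A.subgroupOf Q with hB
    have hBab : ∀ a ∈ B, ∀ b ∈ B, a * b = b * a := fun a ha b hb =>
      Subtype.ext (PGroups.comm_of_isMulCommutative hA ha hb)
    have hBi : B.index = p := by
      rcases hp.eq_one_or_self_of_dvd _ (hAi ▸ Subgroup.relIndex_dvd_index_of_normal A Q) with h | h
      · exfalso
        have hle := Subgroup.relIndex_eq_one.mp h
        exact hxy (commutatorElement_eq_one_iff_mul_comm.mpr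
          (hBab x₀ (Subgroup.mem_subgroupOf.mpr (hle x₀.2)) y₀ (Subgroup.mem_subgroupOf.mpr (hle y₀.2))))
      · exact h
    obtain ⟨x, -, hx⟩ := SetLike.exists_of_lt (lt_top_iff_ne_top.mpr (fun h : B = ⊤ => by
      rw [h, Subgroup.index_top] at hBi; exact hp.one_lt.ne hBi))
    have hgen : B ⊔ zpowers x = ⊤ := PGroups.sup_zpowers_eq_top hQ.1.1 hBi hx
    set f : B →* Subgroup.center ↥Q :=
      (PGroups.commutatorHom (PGroups.isSpecial_commutator_le hQ.1) x).comp B.subtype
    have hker : Nat.card f.ker ≤ p := by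
      rw [← hQ.2]
      refine Nat.card_le_card_of_injective (fun b => (⟨(b : B), ?_⟩ : Subgroup.center ↥Q))
        (fun b c h => Subtype.ext (Subtype.ext (congrArg Subtype.val h :)))
      have hbx : ⁅((b : B) : ↥Q), x⁆ = 1 := congrArg Subtype.val (MonoidHom.mem_ker.mp b.2)
      have hle : B ⊔ zpowers x ≤ centralizer ({((b : B) : ↥Q)} : Set ↥Q) := by
        refine sup_le (fun a ha => ?_) (zpowers_le.mpr ?_) <;>
          refine Subgroup.mem_centralizer_iff.mpr fun h hh => ?_ <;> rw [Set.mem_singleton_iff.mp hh]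
        · exact hBab _ (b : B).2 a ha
        · exact commutatorElement_eq_one_iff_mul_comm.mp hbx
      rw [hgen] at hle
      exact Subgroup.mem_center_iff.mpr fun g => (Subgroup.mem_centralizer_iff.mp (hle (mem_top g)) _ rfl).symm
    have hidx : f.ker.index ≤ p := by
      rw [Subgroup.index_ker, ← hQ.2]; exact Subgroup.card_le_card_group _
    have hle : Nat.card Q ≤ p ^ 3 := by
      rw [← B.card_mul_index, hBi, ← f.ker.card_mul_index, pow_succ, sq]
      exact Nat.mul_le_mul_right _ (Nat.mul_le_mul hker hidx)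
    have : 2 * n + 1 ≤ 3 := (Nat.pow_le_pow_iff_right hp.one_lt).mp (hcard ▸ hle)
    rw [hScard, show n = 1 by omega]
  · intro h4
    obtain ⟨A, hAn, hA, -, hmax⟩ := PGroups.exists_maximal_normal_abelian (⊥ : Subgroup S)
      (PGroups.isMulCommutative_of_comm fun a ha b hb => by
        rw [Subgroup.mem_bot.mp ha, Subgroup.mem_bot.mp hb])
    haveI := hAn
    obtain ⟨a, ha⟩ := IsPGroup.iff_card.mp (hS.to_subgroup A)
    have hle := PGroups.card_le_of_maximal_normal_abelian hS hA hmax ha
    rw [h4] at hle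
    have ha4 : a ≤ 4 := (Nat.pow_le_pow_iff_right hp.one_lt).mp (ha ▸ h4 ▸ A.card_le_card_group)
    have h3 := (Nat.pow_le_pow_iff_right hp.one_lt).mp hle
    have hne : a ≠ 4 := by
      rintro rfl
      have hAt : A = ⊤ := A.eq_top_of_card_eq (by rw [ha, h4])
      exact hxy (commutatorElement_eq_one_iff_mul_comm.mpr (Subtype.ext
        (PGroups.comm_of_isMulCommutative hA (hAt ▸ mem_top (x₀ : S)) (hAt ▸ mem_top (y₀ : S)))))
    refine ⟨A, hA, ?_⟩
    have h5 := A.card_mul_index
    rw [ha, h4] at h5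
    obtain rfl : a = 3 := by interval_cases a <;> omega
    exact Nat.eq_of_mul_eq_mul_left (pow_pos hp.pos 3) (h5.trans (pow_succ p 3))

end Cfsg.Agent.S3810
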