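import Cfsg.Statements.S3811
import Cfsg.Agent.H72.SoftMain

set_option autoImplicit false
open Cfsg

namespace Cfsg.Agent.S3811

/-- Let P be a finite p-group and E an abelian subgroup of P that contains its centralizer, has index p in its normalizer, and has index at least p² in P. Then the subgroups of P containing E are totally ordered by inclusion, each proper one has index p in its normalizer (so they form the normalizer tower of E, with all steps of index p), and the i-th member of the tower above E has nilpotency class i + 1 whenever it is a proper subgroup of P. -/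
theorem result {P : Type*} [Group P] [Finite P] (p : ℕ) [Fact p.Prime] (hP : IsPGroup p P)
    (E : Subgroup P) (hEab : IsMulCommutative ↥E) (hC : Subgroup.centralizer (E : Set P) ≤ E)
    (hN : (E.subgroupOf (Subgroup.normalizer (E : Set P))).index = p) (hidx : p ^ 2 ≤ E.index) :
    (∀ K L : Subgroup P, E ≤ K → E ≤ L → K ≤ L ∨ L ≤ K) ∧
      (∀ K : Subgroup P, E ≤ K → K ≠ ⊤ → (K.subgroupOf (Subgroup.normalizer (K : Set P))).index = p) ∧
      ∀ (i : ℕ) (K : Subgroup P) [Group.IsNilpotent ↥K], E ≤ K → K ≠ ⊤ → K.index * p ^ i = E.index →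
        Group.nilpotencyClass ↥K = i + 1 := by
  have hE : Cfsg.Agent.H72.Soft.IsSoft p E := ⟨hEab, hC, hN⟩
  refine ⟨fun K L hK hL => ?_, fun K hK hKtop => Cfsg.Agent.H72.Soft.relIndex_normalizer hP hE hK hKtop,
    fun i K _ hK hKtop hi => ?_⟩
  · by_cases h : K ⊓ L = ⊤
    · exact Or.inl ((le_top : K ≤ ⊤).trans (h.symm.le.trans inf_le_right))
    · exact Cfsg.Agent.H72.Soft.chain_of hP
        (Cfsg.Agent.H72.Soft.relIndex_normalizer hP hE (le_inf hK hL) h)
  · have hcard : Nat.card K = p ^ i * Nat.card E := by
      have e1 := K.card_mul_index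
      rw [← E.card_mul_index, ← hi] at e1
      exact Nat.eq_of_mul_eq_mul_right (Nat.pos_of_ne_zero Subgroup.index_ne_zero_of_finite)
        (e1.trans (by ring))
    rcases hK.lt_or_eq with h | h
    · exact (Cfsg.Agent.H72.Soft.step hP hE h hKtop).cls i hcard
    · subst h
      have hp := (Fact.out : p.Prime)
      have hi0 : i = 0 := Nat.pow_right_injective hp.two_le
        ((Nat.eq_of_mul_eq_mul_right Nat.card_pos ((one_mul _).trans hcard)).symm.trans (pow_zero p).symm)
      subst hi0
      have hle : Group.nilpotencyClass ↥E ≤ 1 := by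
        rw [← Subgroup.upperCentralSeries_eq_top_iff_nilpotencyClass_le, Subgroup.upperCentralSeries_one]
        exact eq_top_iff.2 fun x _ => Subgroup.mem_center_iff.2 fun y => hEab.is_comm.comm y x
      have hge : Group.nilpotencyClass ↥E ≠ 0 := fun h0 => by
        have := Group.nilpotencyClass_zero_iff_subsingleton.1 h0
        have hbot : E = ⊥ := Subgroup.eq_bot_of_subsingleton E
        apply hKtop
        rw [eq_top_iff]
        exact fun x _ => hC (Subgroup.mem_centralizer_iff.2 fun y hy => by
          rw [hbot, SetLike.mem_coe, Subgroup.mem_bot] at hy; simp [hy])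
      omega

end Cfsg.Agent.S3811
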