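import Cfsg.Statements.S3814
import Cfsg.Agent.H25.FourPrimes.Main

set_option autoImplicit false
open Cfsg

namespace Cfsg.Agent.S3814

/-- A criterion for nonsolvability from element orders: let G be a finite group and σ a set of at least four primes such that for all distinct p, q ∈ σ the product pq is the order of some element of G, while for all pairwise distinct p, q, r ∈ σ no element of G has order pqr. Then G is not solvable. -/
theorem result {G : Type*} [Group G] [Finite G]
    (σ : Finset ℕ) (hσ : 4 ≤ σ.card) (hprime : ∀ p ∈ σ, p.Prime)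
    (h2 : ∀ p ∈ σ, ∀ q ∈ σ, p ≠ q → ∃ g : G, orderOf g = p * q)
    (h3 : ∀ p ∈ σ, ∀ q ∈ σ, ∀ r ∈ σ, p ≠ q → q ≠ r → p ≠ r → ∀ g : G, orderOf g ≠ p * q * r) :
    ¬ Group.IsSolvable G := by
  intro hsol
  classical
  obtain ⟨σ', hsub, hcard⟩ := Finset.exists_subset_card_eq hσ
  have hp : ∀ p ∈ σ', p.Prime := fun p h => hprime p (hsub h)
  have hD := Hall.hallDom_of_isSolvable (↑σ' : Set ℕ) G
  obtain ⟨L, hL⟩ := hD.1
  refine H25.FourPrimes.four_false (G := L) (σ := σ') hcard hp
    (fun l hl hd => Finset.mem_coe.mp (hL.1 l hl hd)) ?_ ?_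
  · exact H25.FourPrimes.noTriple_of_orders hp fun p hpσ q hqσ r hrσ hpq hqr hpr x hx =>
      h3 p (hsub hpσ) q (hsub hqσ) r (hsub hrσ) hpq hqr hpr x ((Subgroup.orderOf_coe x).trans hx)
  · intro p hpσ q hqσ hpq
    obtain ⟨g, hg⟩ := h2 p (hsub hpσ) q (hsub hqσ) hpq
    obtain ⟨L', hL', hle⟩ := hD.exists_le (U := Subgroup.zpowers g) (by
      rw [Nat.card_zpowers, hg]
      exact (Hall.IsPiNumber.prime (hp p hpσ) hpσ).mul (Hall.IsPiNumber.prime (hp q hqσ) hqσ))
    obtain ⟨c, hc⟩ := hD.conj hL hL'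
    have hgL : c⁻¹ * g * c ∈ L := by
      have := hle (Subgroup.mem_zpowers g)
      rw [← hc] at this
      exact Hall.mem_conj_smul.mp this
    have ho : orderOf (⟨c⁻¹ * g * c, hgL⟩ : L) = p * q := by
      rw [Subgroup.orderOf_mk]
      have := (MulAut.conj c⁻¹).orderOf_eq g
      rw [MulAut.conj_apply, inv_inv] at this
      exact this.trans hg
    exact ⟨_, _, H25.FourPrimes.orderOf_pow_of_mul ho (hp q hqσ).ne_zero,
      H25.FourPrimes.orderOf_pow_of_mul (ho.trans (mul_comm p q)) (hp p hpσ).ne_zero,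
      Commute.pow_pow_self _ q p⟩

end Cfsg.Agent.S3814
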