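import Cfsg.Statements.S3816
import Cfsg.Agent.Hall.FlavellFix

set_option autoImplicit false
open Cfsg

namespace Cfsg.Agent.S3816

/-- Let p be an odd prime, H a finite solvable group of order prime to p, and x an automorphism of H of order p (so P = ⟨x⟩ has prime order p > 2 and acts coprimely on H). For h ∈ H let [h, P] be the subgroup generated by the commutators h⁻¹·xⁱ(h), and let [H, P] be the subgroup generated by all of these. Then the fixed points of x in [H, P] are generated by the fixed points of x in the subgroups [h, P], h ∈ H. -/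
theorem result {H : Type*} [Group H] [Finite H]
    [Group.IsSolvable H] {p : ℕ} [Fact p.Prime] (hp : p ≠ 2) (hcop : (Nat.card H).Coprime p)
    (x : MulAut H) (hx : orderOf x = p) :
    Subgroup.closure {c : H | ∃ h : H, ∃ i : ℕ, c = h⁻¹ * (x ^ i) h} ⊓ (x : H →* H).eqLocus (MonoidHom.id H) =
      ⨆ h : H, Subgroup.closure {c : H | ∃ i : ℕ, c = h⁻¹ * (x ^ i) h} ⊓ (x : H →* H).eqLocus (MonoidHom.id H) := by
  have hp' : p.Prime := Fact.out
  have hcom : Subgroup.closure {c : H | ∃ h : H, ∃ i : ℕ, c = h⁻¹ * (x ^ i) h} =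
      Hall.Flavell.com x ⊤ := by
    refine congrArg Subgroup.closure (Set.ext fun c => ?_)
    exact ⟨fun ⟨h, i, e⟩ => ⟨h, Subgroup.mem_top h, i, e⟩, fun ⟨h, _, i, e⟩ => ⟨h, i, e⟩⟩
  rw [hcom]
  refine le_antisymm (Hall.Flavell.com_inf_fx_le hp' (by have := hp'.two_le; omega)
    (by rw [← hx, pow_orderOf_eq_one]) hcop) (iSup_le fun h => ?_)
  exact inf_le_inf_right _ (Hall.Flavell.br_le_com (Subgroup.mem_top h))

end Cfsg.Agent.S3816
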