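import Cfsg.Statements.S3818
import Cfsg.Agent.H79.FixedHalf

set_option autoImplicit false
open Cfsg

namespace Cfsg.Agent.S3818

/-- Let G be a finite solvable group and P a subgroup of G of prime order p > 3 whose conjugates generate G. Let V be a faithful irreducible representation of G over a field of positive characteristic, finite-dimensional. Then the subspace of V fixed by P has dimension less than half the dimension of V. -/
theorem result {G : Type*} [Group G] [Finite G] [Group.IsSolvable G]
    {p : ℕ} [Fact p.Prime] (hp : 3 < p) (P : Subgroup G) (hP : Nat.card P = p) (hgen : Subgroup.normalClosure (P : Set G) = ⊤)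
    {k : Type*} [Field k] (ℓ : ℕ) [Fact ℓ.Prime] [CharP k ℓ]
    {V : Type*} [AddCommGroup V] [Module k V] [FiniteDimensional k V]
    (ρ : Representation k G V) [ρ.IsIrreducible] (hfaith : Function.Injective ρ) :
    2 * Module.finrank k ↥(⨅ g : ↥P, LinearMap.ker (ρ (g : G) - LinearMap.id)) < Module.finrank k V := by
  classical
  obtain ⟨x₀, hx₀⟩ : ∃ x : ↥P, orderOf x = p := by
    haveI : Fact (Nat.card ↥P).Prime := ⟨hP ▸ Fact.out⟩
    exact exists_prime_orderOf_dvd_card' p (hP ▸ dvd_rfl)
  set x : G := (x₀ : G) with hxdef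
  have hx : orderOf x = p := by rw [hxdef, Subgroup.orderOf_coe, hx₀]
  have hzx : Subgroup.zpowers x = P := by
    refine Subgroup.eq_of_le_of_card_ge (Subgroup.zpowers_le.mpr x₀.2) ?_
    rw [Nat.card_zpowers, hx, hP]
  have hgen' : Subgroup.normalClosure ({x} : Set G) = ⊤ := by
    rw [eq_top_iff, ← hgen]
    refine Subgroup.normalClosure_le_normal fun g hg => ?_
    rw [SetLike.mem_coe, ← hzx] at hg
    exact Subgroup.zpowers_le.mpr (Subgroup.subset_normalClosure (Set.mem_singleton x)) hg
  have hirr : Cfsg.Agent.H79.FixedHalf.Irr ρ := by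
    intro W hW
    rcases IsSimpleOrder.eq_bot_or_eq_top
      (⟨W, fun g v hv => hW g v hv⟩ : Subrepresentation ρ) with h | h
    · exact Or.inl (congrArg Subrepresentation.toSubmodule h)
    · exact Or.inr (congrArg Subrepresentation.toSubmodule h)
  haveI : Nontrivial V := by
    by_contra hn
    rw [not_nontrivial_iff_subsingleton] at hn
    exact bot_ne_top (α := Subrepresentation ρ)
      (Subrepresentation.toSubmodule_injective (Subsingleton.elim _ _))
  have hp5 : 5 ≤ p := by
    have h4 : p ≠ 4 := by
      rintro rfl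
      exact absurd (Fact.out : Nat.Prime 4) (by norm_num)
    omega
  have key := Cfsg.Agent.H79.FixedHalf.two_mul_lt hirr hfaith hp5 hx hgen'
  refine lt_of_le_of_lt (Nat.mul_le_mul_left _ (Submodule.finrank_mono ?_)) key
  intro v hv
  rw [Submodule.mem_iInf] at hv
  rw [Cfsg.Agent.H79.FixedHalf.mem_fixedSub]
  have h := hv x₀
  rw [LinearMap.mem_ker, LinearMap.sub_apply, sub_eq_zero] at h
  exact h

end Cfsg.Agent.S3818
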