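import Cfsg.Statements.S3820
import Cfsg.Agent.Hall.Basic

set_option autoImplicit false
open Cfsg

namespace Cfsg.Agent.S3820

open scoped Pointwise

/-- Call a subgroup H of G pronormal if H and gHg⁻¹ are conjugate inside ⟨H, gHg⁻¹⟩ for every g ∈ G. Let S ≤ H ≤ G be subgroups of a finite group with S pronormal in G (for instance S a Sylow subgroup). Then H is pronormal in G if and only if H and gHg⁻¹ are conjugate inside ⟨H, gHg⁻¹⟩ for every g ∈ N_G(S). In particular H is pronormal whenever N_G(S) ≤ H. -/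
theorem result {G : Type*} [Group G] [Finite G] (S H : Subgroup G) (hSH : S ≤ H)
    (hS : Cfsg.IsPronormal S) :
    Cfsg.IsPronormal H ↔
      ∀ g ∈ Subgroup.normalizer (S : Set G), ∃ w ∈ H ⊔ H.map (MulAut.conj g).toMonoidHom,
        H.map (MulAut.conj g).toMonoidHom = H.map (MulAut.conj w).toMonoidHom := by
  refine ⟨fun h g _ => h g, fun h g => ?_⟩
  simp only [Hall.map_conj_eq_smul] at h ⊢
  obtain ⟨x, hx, he⟩ := hS g
  simp only [Hall.map_conj_eq_smul] at hx he
  set J := H ⊔ MulAut.conj g • H with hJ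
  have hxJ : x ∈ J := sup_le_sup hSH (Hall.conj_smul_mono g hSH) hx
  have hn : x⁻¹ * g ∈ Subgroup.normalizer (S : Set G) := by
    rw [Subgroup.mem_normalizer_iff'']
    intro y
    have hfix : MulAut.conj (x⁻¹ * g) • S = S := by
      rw [Hall.conj_mul_smul, he, Hall.conj_inv_smul_conj_smul]
    conv_lhs => rw [← hfix, Hall.mem_conj_smul]
  obtain ⟨w, hw, hwe⟩ := h (x⁻¹ * g) hn
  refine ⟨x * w, J.mul_mem hxJ ?_, ?_⟩
  · refine (sup_le le_sup_left ?_ : H ⊔ MulAut.conj (x⁻¹ * g) • H ≤ J) hw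
    rw [Hall.conj_mul_smul, ← Hall.conj_smul_eq_self_of_mem (J.inv_mem hxJ)]
    exact Hall.conj_smul_mono _ le_sup_right
  · rw [Hall.conj_mul_smul x w, ← hwe, ← Hall.conj_mul_smul, mul_inv_cancel_left]

end Cfsg.Agent.S3820
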