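import Cfsg.Statements.S3821
import Cfsg.Agent.Hall.CardForms

set_option autoImplicit false
open Cfsg

namespace Cfsg.Agent.S3821

open scoped Pointwise

/-- Let A be a normal subgroup of the finite group G and H a subgroup of A. Then H is pronormal in G (H and gHg⁻¹ conjugate inside ⟨H, gHg⁻¹⟩ for every g ∈ G) if and only if H is pronormal in A and G = A · N_G(H). -/
theorem result {G : Type*} [Group G] [Finite G] (A H : Subgroup G) [A.Normal] (hHA : H ≤ A) :
    Cfsg.IsPronormal H ↔ (Cfsg.IsPronormal (H.subgroupOf A) ∧ A ⊔ Subgroup.normalizer (H : Set G) = ⊤) := by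
  have hmap : ∀ a : A, (H.subgroupOf A ⊔ MulAut.conj a • H.subgroupOf A).map A.subtype =
      H ⊔ MulAut.conj (a : G) • H := fun a => by
    rw [Subgroup.map_sup, Hall.map_conj_smul, Subgroup.map_subgroupOf_eq_of_le hHA]
    rfl
  constructor
  · intro h
    refine ⟨fun a => ?_, Hall.sup_normalizer_eq_top A fun g => ?_⟩
    · simp only [Hall.map_conj_eq_smul]
      obtain ⟨x, hx, he⟩ := h (a : G)
      simp only [Hall.map_conj_eq_smul] at hx he
      rw [← hmap a] at hx
      obtain ⟨x', hx', rfl⟩ := Subgroup.mem_map.mp hx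
      refine ⟨x', hx', Subgroup.map_injective A.subtype_injective ?_⟩
      rw [Hall.map_conj_smul, Hall.map_conj_smul, Subgroup.map_subgroupOf_eq_of_le hHA]
      exact he
    · obtain ⟨x, hx, he⟩ := h g
      simp only [Hall.map_conj_eq_smul] at hx he
      refine ⟨x, sup_le hHA ?_ hx, he.symm⟩
      rw [← Hall.conj_smul_of_normal g A]
      exact Hall.conj_smul_mono _ hHA
  · rintro ⟨hA, hN⟩ g
    simp only [Hall.map_conj_eq_smul]
    obtain ⟨a, ha, n, hn, rfl⟩ := Subgroup.mem_sup_of_normal_left.mp (hN ▸ Subgroup.mem_top g)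
    rw [Hall.conj_mul_smul, Hall.conj_smul_of_le_normalizer le_rfl hn]
    obtain ⟨x, hx, he⟩ := hA ⟨a, ha⟩
    simp only [Hall.map_conj_eq_smul] at hx he
    refine ⟨x, hmap ⟨a, ha⟩ ▸ Subgroup.mem_map_of_mem A.subtype hx, ?_⟩
    have h' := congrArg (Subgroup.map A.subtype) he
    rw [Hall.map_conj_smul, Hall.map_conj_smul, Subgroup.map_subgroupOf_eq_of_le hHA] at h'
    exact h' 

end Cfsg.Agent.S3821
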