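import Cfsg.Statements.S3822
import Cfsg.Agent.H79.TwoGenerated
import Cfsg.Agent.Cores.Fitting

set_option autoImplicit false
open Cfsg

namespace Cfsg.Agent.S3822

/-- Let G be a finite group and P a subgroup of prime order p > 3. Consider the solvable subgroups A of G of the form A = ⟨P, aPa⁻¹⟩ for some a ∈ A, and let A be maximal under inclusion among them. Then for every nilpotent subgroup V of G normalized by A, the subgroup F(A)V generated by the Fitting subgroup of A and V is nilpotent. -/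
theorem result {G : Type*} [Group G] [Finite G]
    {p : ℕ} [Fact p.Prime] (hp : 3 < p) (P : Subgroup G) (hP : Nat.card P = p) (A : Subgroup G)
    (hA : Group.IsSolvable ↥A ∧ ∃ a ∈ A, A = P ⊔ P.map (MulAut.conj a).toMonoidHom)
    (hmax : ∀ B : Subgroup G, A ≤ B → Group.IsSolvable ↥B → (∃ b ∈ B, B = P ⊔ P.map (MulAut.conj b).toMonoidHom) → B = A)
    (V : Subgroup G) (hV : Group.IsNilpotent ↥V) (hAV : A ≤ Subgroup.normalizer (V : Set G)) :
    Group.IsNilpotent ↥((Cfsg.fittingSubgroup ↥A).map A.subtype ⊔ V) := by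
  classical
  obtain ⟨hAsol, a, ha, hAeq⟩ := hA
  obtain ⟨x₀, hx₀⟩ : ∃ x : ↥P, orderOf x = p := exists_prime_orderOf_dvd_card' p (hP ▸ dvd_rfl)
  set x : G := (x₀ : G) with hxdef
  have hx : orderOf x = p := by rw [hxdef, Subgroup.orderOf_coe, hx₀]
  have hzx : Subgroup.zpowers x = P := by
    refine Subgroup.eq_of_le_of_card_ge (Subgroup.zpowers_le.mpr x₀.2) ?_
    rw [Nat.card_zpowers, hx, hP]
  have hpair : ∀ b : G, P ⊔ P.map (MulAut.conj b).toMonoidHom =
      Subgroup.closure {x, b * x * b⁻¹} := by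
    intro b
    rw [← hzx, MonoidHom.map_zpowers, Subgroup.zpowers_eq_closure, Subgroup.zpowers_eq_closure,
      ← Subgroup.closure_union, Set.singleton_union]
    rfl
  have hA' : A = Subgroup.closure {x, a * x * a⁻¹} := hAeq.trans (hpair a)
  have hmax' : ∀ b : G, b ∈ Subgroup.closure {x, b * x * b⁻¹} →
      A ≤ Subgroup.closure {x, b * x * b⁻¹} →
      Group.IsSolvable ↥(Subgroup.closure {x, b * x * b⁻¹}) →
      Subgroup.closure {x, b * x * b⁻¹} = A :=
    fun b hb hle hsol => hmax _ hle hsol ⟨b, hb, (hpair b).symm⟩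
  have hp5 : 5 ≤ p := by
    have h4 : p ≠ 4 := by
      rintro rfl
      exact absurd (Fact.out : Nat.Prime 4) (by norm_num)
    omega
  have hconj : ∀ (L : Subgroup G) (C : Subgroup ↥L), C.Characteristic →
      A ≤ Subgroup.normalizer (L : Set G) → A ≤ Subgroup.normalizer (C.map L.subtype : Set G) := by
    intro L C hC hAL b hb
    have hmem : ∀ b : G, b ∈ Subgroup.normalizer (L : Set G) → ∀ t ∈ C.map L.subtype,
        b * t * b⁻¹ ∈ C.map L.subtype := by
      rintro b hb _ ⟨t, ht, rfl⟩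
      let e : ↥L ≃* ↥L :=
        { toFun := fun l => ⟨b * l * b⁻¹, (Subgroup.mem_normalizer_iff.mp hb l).mp l.2⟩
          invFun := fun l => ⟨b⁻¹ * l * b, by
            simpa using (Subgroup.mem_normalizer_iff.mp (inv_mem hb) l).mp l.2⟩
          left_inv := fun l => Subtype.ext (by simp [mul_assoc])
          right_inv := fun l => Subtype.ext (by simp [mul_assoc])
          map_mul' := fun l m => Subtype.ext (by simp [mul_assoc]) }
      exact ⟨e t, Subgroup.characteristic_iff_map_le.mp hC e ⟨t, ht, rfl⟩, rfl⟩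
    rw [Subgroup.mem_normalizer_iff]
    refine fun t => ⟨hmem b (hAL hb) t, fun h => ?_⟩
    have := hmem b⁻¹ (inv_mem (hAL hb)) _ h
    simpa [mul_assoc] using this
  let RA : Nat.Primes → Subgroup G := fun r => (Cfsg.pCore (r : ℕ) ↥A).map A.subtype
  let RV : Nat.Primes → Subgroup G := fun r => (Cfsg.pCore (r : ℕ) ↥V).map V.subtype
  have hRAp : ∀ r : Nat.Primes, IsPGroup r (RA r) := fun r =>
    IsPGroup.map Cfsg.Agent.Cores.pCore_isPGroup _
  have hRVp : ∀ r : Nat.Primes, IsPGroup r (RV r) := fun r =>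
    IsPGroup.map Cfsg.Agent.Cores.pCore_isPGroup _
  have hRAn : ∀ r, A ≤ Subgroup.normalizer (RA r : Set G) := fun r =>
    hconj A _ inferInstance Subgroup.le_normalizer
  have hRVn : ∀ r, A ≤ Subgroup.normalizer (RV r : Set G) := fun r => hconj V _ inferInstance hAV
  have hcopp : ∀ (r s : Nat.Primes), r ≠ s → ∀ {S T : Subgroup G}, IsPGroup r S → IsPGroup s T →
      S ≤ Subgroup.normalizer (T : Set G) → T ≤ Subgroup.normalizer (S : Set G) →
      ∀ g ∈ S, ∀ h ∈ T, g * h = h * g := by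
    intro r s hrs S T hS hT hST hTS g hg h hh
    haveI : Fact (r : ℕ).Prime := ⟨r.2⟩
    haveI : Fact (s : ℕ).Prime := ⟨s.2⟩
    have hd : Disjoint S T := IsPGroup.disjoint_of_ne (r : ℕ) s (fun e => hrs (Subtype.ext e)) S T hS hT
    have h1 : g * h * g⁻¹ * h⁻¹ ∈ S ⊓ T := by
      refine Subgroup.mem_inf.mpr ⟨?_, T.mul_mem ((Subgroup.mem_normalizer_iff.mp (hST hg) h).mp hh)
        (T.inv_mem hh)⟩
      have h2 := S.mul_mem hg ((Subgroup.mem_normalizer_iff.mp (hTS hh) g⁻¹).mp (S.inv_mem hg))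
      rwa [show g * (h * g⁻¹ * h⁻¹) = g * h * g⁻¹ * h⁻¹ by group] at h2
    rw [disjoint_iff.mp hd, Subgroup.mem_bot, mul_inv_eq_one, mul_inv_eq_iff_eq_mul] at h1
    exact h1
  have hAA : ∀ (r s : Nat.Primes), r ≠ s → ∀ g ∈ RA r, ∀ h ∈ RA s, g * h = h * g :=
    fun r s hrs => hcopp r s hrs (hRAp r) (hRAp s) ((Subgroup.map_subtype_le _).trans (hRAn s))
      ((Subgroup.map_subtype_le _).trans (hRAn r))
  have hVV : ∀ (r s : Nat.Primes), r ≠ s → ∀ g ∈ RV r, ∀ h ∈ RV s, g * h = h * g :=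
    fun r s hrs => hcopp r s hrs (hRVp r) (hRVp s)
      ((Subgroup.map_subtype_le _).trans (fun b hb => by
        rw [Subgroup.mem_normalizer_iff]
        intro t
        constructor
        · rintro ⟨t', ht', rfl⟩
          exact ⟨⟨b, hb⟩ * t' * ⟨b, hb⟩⁻¹, Subgroup.Normal.conj_mem inferInstance t' ht' _, rfl⟩
        · rintro ⟨t', ht', e⟩
          refine ⟨⟨b, hb⟩⁻¹ * t' * (⟨b, hb⟩⁻¹)⁻¹,
            Subgroup.Normal.conj_mem inferInstance t' ht' _, ?_⟩
          show b⁻¹ * (t' : G) * b⁻¹⁻¹ = t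
          rw [show (t' : G) = b * t * b⁻¹ from e]
          group))
      ((Subgroup.map_subtype_le _).trans (fun b hb => by
        rw [Subgroup.mem_normalizer_iff]
        intro t
        constructor
        · rintro ⟨t', ht', rfl⟩
          exact ⟨⟨b, hb⟩ * t' * ⟨b, hb⟩⁻¹, Subgroup.Normal.conj_mem inferInstance t' ht' _, rfl⟩
        · rintro ⟨t', ht', e⟩
          refine ⟨⟨b, hb⟩⁻¹ * t' * (⟨b, hb⟩⁻¹)⁻¹,
            Subgroup.Normal.conj_mem inferInstance t' ht' _, ?_⟩
          show b⁻¹ * (t' : G) * b⁻¹⁻¹ = t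
          rw [show (t' : G) = b * t * b⁻¹ from e]
          group))
  have hAV' : ∀ (r s : Nat.Primes), r ≠ s → ∀ g ∈ RA r, ∀ h ∈ RV s, g * h = h * g := by
    intro r s hrs g hg h hh
    haveI : Fact (r : ℕ).Prime := ⟨r.2⟩
    haveI : Fact (s : ℕ).Prime := ⟨s.2⟩
    exact Cfsg.Agent.H79.TwoGenerated.centralizes hp5 (fun e => hrs (Subtype.ext e)) hAsol hx ha hA'
      hmax' (Subgroup.map_subtype_le _) (hRAn r) (hRAp r) (RV s) (hRVp s) (hRVn s) g hg h hh
  let U : Nat.Primes → Subgroup G := fun r => RA r ⊔ RV r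
  have hUcomm : ∀ r s, r ≠ s → ∀ g ∈ U r, ∀ h ∈ U s, g * h = h * g := by
    intro r s hrs g hg h hh
    have h1 : U r ≤ Subgroup.centralizer (U s : Set G) := by
      refine sup_le ?_ ?_ <;> refine Subgroup.le_centralizer_iff.mp (sup_le ?_ ?_) <;>
        intro t ht <;> rw [Subgroup.mem_centralizer_iff] <;> intro u hu
      · exact hAA r s hrs u hu t ht
      · exact hAV' r s hrs u hu t ht
      · exact (hAV' s r (Ne.symm hrs) t ht u hu).symm
      · exact hVV r s hrs u hu t ht
    exact (Subgroup.mem_centralizer_iff.mp (h1 hg) h hh).symm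
  have hUp : ∀ r : Nat.Primes, IsPGroup r (U r) := fun r =>
    (hRAp r).to_sup_of_normal_right' (hRVp r) ((Subgroup.map_subtype_le _).trans (hRVn r))
  set W := (Cfsg.fittingSubgroup ↥A).map A.subtype ⊔ V
  have hFA : (Cfsg.fittingSubgroup ↥A).map A.subtype = ⨆ r, RA r := by
    rw [Cfsg.Agent.Cores.iSup_pCore_eq_fittingSubgroup, Subgroup.map_iSup]
  have hVsup : V = ⨆ r, RV r := by
    have h : V = (⊤ : Subgroup ↥V).map V.subtype := by
      rw [← MonoidHom.range_eq_map, Subgroup.range_subtype]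
    conv_lhs => rw [h, ← Cfsg.Agent.Cores.fittingSubgroup_eq_top_iff.mpr hV,
      Cfsg.Agent.Cores.iSup_pCore_eq_fittingSubgroup, Subgroup.map_iSup]
  have hW : W = ⨆ r, U r := by
    show _ ⊔ V = ⨆ r, RA r ⊔ RV r
    rw [iSup_sup_eq, hFA, ← hVsup]
  have hUW : ∀ r, U r ≤ W := fun r => hW ▸ le_iSup U r
  rw [← Cfsg.Agent.Cores.fittingSubgroup_eq_top_iff]
  refine eq_top_iff.mpr fun w _ => ?_
  have hle : W ≤ (Cfsg.fittingSubgroup ↥W).map W.subtype := by
    conv_lhs => rw [hW]
    refine iSup_le fun r => ?_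
    haveI : Fact (r : ℕ).Prime := ⟨r.2⟩
    haveI hn : ((U r).subgroupOf W).Normal := by
      rw [Subgroup.normal_subgroupOf_iff_le_normalizer (hUW r)]
      conv_lhs => rw [hW]
      refine iSup_le fun s => ?_
      by_cases hrs : r = s
      · exact hrs ▸ Subgroup.le_normalizer
      · intro g hg
        rw [Subgroup.mem_normalizer_iff]
        intro t
        constructor
        · intro ht
          rwa [← hUcomm r s hrs t ht g hg, mul_inv_cancel_right]
        · intro ht
          have h2 := hUcomm r s hrs _ ht g hg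
          have h3 : g * t * g⁻¹ = t := by
            calc g * t * g⁻¹ = g⁻¹ * (g * (g * t * g⁻¹)) := by group
              _ = g⁻¹ * ((g * t * g⁻¹) * g) := by rw [h2]
              _ = t := by group
          rwa [h3] at ht
    have h4 : (U r).subgroupOf W ≤ Cfsg.fittingSubgroup ↥W :=
      le_trans (Cfsg.Agent.Cores.le_pCore
        ((hUp r).of_equiv (Subgroup.subgroupOfEquivOfLe (hUW r)).symm))
        (Cfsg.Agent.Cores.pCore_le_fittingSubgroup r.2)
    intro g hg
    exact ⟨⟨g, hUW r hg⟩, h4 hg, rfl⟩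
  obtain ⟨w', hw', e⟩ := hle w.2
  rwa [show w = w' from Subtype.ext e.symm]

end Cfsg.Agent.S3822
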