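import Cfsg.Statements.S3825
import Mathlib.GroupTheory.FixedPointFree

set_option autoImplicit false
open Cfsg
open scoped commutatorElement

namespace Cfsg.Agent.S3825

/-- Let U be a subgroup of a finite group H and w an involution of H normalizing U and commuting with exactly two elements of U, the identity and y. If V is a non-cyclic elementary abelian 2-subgroup of U containing y which is normal in U and invariant under w, then V is a Sylow 2-subgroup of U, V has order 4, and U/V is abelian. -/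
theorem result {H : Type*} [Group H] [Finite H] (U : Subgroup H) (w : H) (hw : orderOf w = 2)
    (hwU : w ∈ Subgroup.normalizer (U : Set H)) (y : H) (hy : y ≠ 1) (hyU : y ∈ U)
    (hfix : ∀ u ∈ U, w * u * w⁻¹ = u ↔ (u = 1 ∨ u = y))
    (V : Subgroup H) (hVU : V ≤ U) (hVn : (V.subgroupOf U).Normal) (hVw : ∀ v ∈ V, w * v * w⁻¹ ∈ V)
    (hVe : Cfsg.IsElementaryAbelian 2 V) (hVc : ¬ IsCyclic ↥V) (hyV : y ∈ V) :
    ¬ 2 ∣ V.relIndex U ∧ Nat.card ↥V = 4 ∧ ⁅U, U⁆ ≤ V := by
  classical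
  have hww : w * w = 1 := by rw [← pow_two, ← hw, pow_orderOf_eq_one]
  have hwi : w⁻¹ = w := inv_eq_of_mul_eq_one_right hww
  have hinv : ∀ u : H, w * (w * u * w⁻¹) * w⁻¹ = u := fun u => by
    simp only [← mul_assoc, hww, one_mul, hwi]; rw [mul_assoc, hww, mul_one]
  have hVc' : ∀ a ∈ V, ∀ b ∈ V, a * b = b * a := fun a ha b hb => by
    have := hVe.1
    exact congrArg Subtype.val (mul_comm' (⟨a, ha⟩ : V) ⟨b, hb⟩)
  have hsq : ∀ a ∈ V, a * a = 1 := fun a ha => by rw [← pow_two]; exact hVe.2 a ha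
  let g : V →* V := MonoidHom.mk' (fun v => ⟨v.1 * (w * v.1 * w⁻¹), V.mul_mem v.2 (hVw v.1 v.2)⟩)
    (fun a b => Subtype.ext (by
      show (a.1 * b.1) * (w * (a.1 * b.1) * w⁻¹) = a.1 * (w * a.1 * w⁻¹) * (b.1 * (w * b.1 * w⁻¹))
      calc (a.1 * b.1) * (w * (a.1 * b.1) * w⁻¹) = a.1 * (b.1 * (w * a.1 * w⁻¹)) * (w * b.1 * w⁻¹) := by group
        _ = a.1 * ((w * a.1 * w⁻¹) * b.1) * (w * b.1 * w⁻¹) := by rw [hVc' b.1 b.2 _ (hVw a.1 a.2)]
        _ = _ := by group))
  have hfixV : ∀ v ∈ V, w * v * w⁻¹ = v → v ∈ Subgroup.zpowers y := by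
    intro v hv h
    rcases (hfix v (hVU hv)).1 h with rfl | rfl
    · exact one_mem _
    · exact Subgroup.mem_zpowers _
  have hy2 : y * y = 1 := hsq y hyV
  have hyord : orderOf y = 2 := orderOf_eq_prime (by rw [pow_two]; exact hy2) hy
  have hker : g.ker ≤ (Subgroup.zpowers y).subgroupOf V := fun v hv => by
    have h1 : v.1 * (w * v.1 * w⁻¹) = 1 := congrArg Subtype.val hv
    exact hfixV v.1 v.2 (mul_left_cancel (h1.trans (hsq v.1 v.2).symm))
  have hran : g.range ≤ (Subgroup.zpowers y).subgroupOf V := by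
    rintro _ ⟨v, rfl⟩
    refine hfixV _ (g v).2 ?_
    show w * (v.1 * (w * v.1 * w⁻¹)) * w⁻¹ = v.1 * (w * v.1 * w⁻¹)
    rw [hVc' v.1 v.2 _ (hVw v.1 v.2)]
    calc w * (w * v.1 * w⁻¹ * v.1) * w⁻¹ = (w * (w * v.1 * w⁻¹) * w⁻¹) * (w * v.1 * w⁻¹) := by group
      _ = v.1 * (w * v.1 * w⁻¹) := by rw [hinv]
      _ = _ := hVc' v.1 v.2 _ (hVw v.1 v.2)
  have hz2 : Nat.card ↥((Subgroup.zpowers y).subgroupOf V) = 2 := by
    rw [Nat.card_congr (Subgroup.subgroupOfEquivOfLe (Subgroup.zpowers_le.2 hyV)).toEquiv, Nat.card_zpowers, hyord]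
  have hle4 : Nat.card V ≤ 4 := by
    rw [← g.ker.card_mul_index, Subgroup.index_ker]
    exact le_trans (Nat.mul_le_mul (Subgroup.card_le_of_le hker) (Subgroup.card_le_of_le hran)) (by rw [hz2])
  have h4 : Nat.card ↥V = 4 := by
    obtain ⟨k, hk⟩ := (IsPGroup.iff_card (p := 2) (G := V)).1 (fun v => ⟨1, Subtype.ext (by simpa using hVe.2 v.1 v.2)⟩)
    have hk2 : 2 ≤ k := by
      by_contra h
      apply hVc
      rcases Nat.le_one_iff_eq_zero_or_eq_one.1 (by omega : k ≤ 1) with rfl | rfl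
      · have := (Nat.card_eq_one_iff_unique.1 (hk.trans (pow_zero 2))).1
        infer_instance
      · exact isCyclic_of_prime_card (p := 2) (by simpa using hk)
    have : 2 ^ k ≤ 2 ^ 2 := by rw [← hk]; exact hle4
    have hk3 := (Nat.pow_le_pow_iff_right (by norm_num)).1 this
    rw [hk, show k = 2 by omega]; rfl
  obtain ⟨v, hvV, hv⟩ : ∃ v ∈ V, v ∉ Subgroup.zpowers y := by
    by_contra hall
    push Not at hall
    have := Subgroup.card_le_of_le (show V ≤ Subgroup.zpowers y from hall)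
    rw [h4, Nat.card_zpowers, hyord] at this
    omega
  have hwv : w * v * w⁻¹ = v * y := by
    have hg : v * (w * v * w⁻¹) ∈ Subgroup.zpowers y := hran ⟨⟨v, hvV⟩, rfl⟩
    obtain ⟨i, hi⟩ := Subgroup.mem_zpowers_iff.1 hg
    rw [← zpow_mod_orderOf, hyord] at hi
    rcases Int.emod_two_eq_zero_or_one i with h | h
    · rw [show ((2 : ℕ) : ℤ) = 2 from rfl, h, zpow_zero] at hi
      exact absurd (hfixV v hvV (mul_left_cancel (hi.symm.trans (hsq v hvV).symm))) hv
    · rw [show ((2 : ℕ) : ℤ) = 2 from rfl, h, zpow_one] at hi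
      calc w * v * w⁻¹ = (v * v) * (w * v * w⁻¹) := by rw [hsq v hvV, one_mul]
        _ = v * (v * (w * v * w⁻¹)) := by rw [mul_assoc]
        _ = v * y := by rw [hi]
  let V' : Subgroup U := V.subgroupOf U
  let σ : U →* U := ((Subgroup.normalizerMonoidHom U) ⟨w, hwU⟩).toMonoidHom
  have hσ : ∀ u : U, (σ u : H) = w * u * w⁻¹ := fun u => rfl
  have hσV : V' ≤ V'.comap σ := fun u hu => by
    show (σ u : H) ∈ V
    rw [hσ]; exact hVw _ hu
  let φ : U ⧸ V' →* U ⧸ V' := QuotientGroup.map V' V' σ hσV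
  have hfree : MonoidHom.FixedPointFree φ := by
    intro q hq
    obtain ⟨u, rfl⟩ := QuotientGroup.mk_surjective q
    rw [QuotientGroup.map_mk, eq_comm, QuotientGroup.eq] at hq
    have hc : (u : H)⁻¹ * (w * u * w⁻¹) ∈ V := by
      have h' : ((u⁻¹ * σ u : U) : H) ∈ V := hq
      rwa [Subgroup.coe_mul, Subgroup.coe_inv, hσ] at h'
    set c := (u : H)⁻¹ * (w * u * w⁻¹) with hcdef
    have huc : w * (u : H) * w⁻¹ = u * c := by rw [hcdef, mul_inv_cancel_left]
    have hcfix : w * c * w⁻¹ = c := by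
      have h1 : (u : H) = (u * c) * (w * c * w⁻¹) := by
        calc (u : H) = w * (u * c) * w⁻¹ := by rw [← huc]; exact (hinv u).symm
          _ = (w * u * w⁻¹) * (w * c * w⁻¹) := by group
          _ = _ := by rw [huc]
      rw [mul_assoc, left_eq_mul] at h1
      exact mul_left_cancel (h1.trans (hsq c hc).symm)
    rw [QuotientGroup.eq_one_iff]
    show (u : H) ∈ V
    rcases (hfix c (hVU hc)).1 hcfix with h | h
    · rw [h, mul_one] at huc
      rcases (hfix u u.2).1 huc with h' | h'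
      · rw [h']; exact V.one_mem
      · rw [h']; exact hyV
    · rw [h] at huc
      have h2 : w * ((u : H) * v) * w⁻¹ = u * v := by
        rw [show w * ((u : H) * v) * w⁻¹ = (w * u * w⁻¹) * (w * v * w⁻¹) by group, huc, hwv]
        rw [mul_assoc, ← mul_assoc y v, hVc' y hyV v hvV, mul_assoc v, hy2, mul_one]
      have h3 : (u : H) * v ∈ V := by
        rcases (hfix _ (U.mul_mem u.2 (hVU hvV))).1 h2 with h' | h'
        · rw [h']; exact V.one_mem
        · rw [h']; exact hyV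
      exact (V.mul_mem_cancel_right hvV).1 h3
  have hinvol : Function.Involutive φ := by
    intro q
    obtain ⟨u, rfl⟩ := QuotientGroup.mk_surjective q
    rw [QuotientGroup.map_mk, QuotientGroup.map_mk]
    congr 1
    exact Subtype.ext (by rw [hσ, hσ, hinv])
  have hodd := hfree.odd_card_of_involutive hinvol
  refine ⟨?_, h4, ?_⟩
  · rw [Subgroup.relIndex, Subgroup.index_eq_card, ← even_iff_two_dvd, Nat.not_even_iff_odd]
    exact hodd
  · rw [Subgroup.commutator_le]
    intro a ha b hb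
    have hab := hfree.commute_all_of_involutive hinvol (QuotientGroup.mk (⟨a, ha⟩ : U)) (QuotientGroup.mk (⟨b, hb⟩ : U))
    have : ((⁅(⟨a, ha⟩ : U), ⟨b, hb⟩⁆ : U) : U ⧸ V') = 1 := by
      show QuotientGroup.mk' V' ⁅(⟨a, ha⟩ : U), ⟨b, hb⟩⁆ = 1
      rw [map_commutatorElement, commutatorElement_eq_one_iff_commute]
      exact hab
    rw [QuotientGroup.eq_one_iff] at this
    exact this

end Cfsg.Agent.S3825
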