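import Cfsg.Statements.S3838
import Cfsg.Agent.Fusion.Tate
import Cfsg.Agent.S0081

set_option autoImplicit false
open Cfsg

namespace Cfsg.Agent.S3838

/-- Let G be a finite group with Sylow p-subgroup P such that N_G(P) has a normal p-complement. Then N_G(Q) has a normal p-complement for every subgroup Q with [P, P] ≤ Q ≤ Φ(P). -/
theorem result {G : Type*} [Group G] [Finite G] {p : ℕ} [Fact p.Prime] (P : Sylow p G) (hN : Cfsg.HasNormalPComplement p ↥(Subgroup.normalizer ((P : Subgroup G) : Set G))) (Q : Subgroup G) (h1 : (commutator ↥(P : Subgroup G)).map (P : Subgroup G).subtype ≤ Q) (h2 : Q ≤ (frattini ↥(P : Subgroup G)).map (P : Subgroup G).subtype) : Cfsg.HasNormalPComplement p ↥(Subgroup.normalizer (Q : Set G)) := by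
  set K := Subgroup.normalizer (Q : Set G) with hK
  have hQP : Q ≤ (P : Subgroup G) := h2.trans (Subgroup.map_subtype_le _)
  have h1' : ⁅(P : Subgroup G), (P : Subgroup G)⁆ ≤ Q := by rwa [← Subgroup.map_subtype_commutator]
  have hPK : (P : Subgroup G) ≤ K :=
    Subgroup.le_normalizer_iff_commutator_le_right.mpr ((Subgroup.commutator_mono le_rfl hQP).trans h1')
  have hQK : Q ≤ K := Subgroup.le_normalizer
  set Q' := Q.subgroupOf K with hQ'
  haveI : Q'.Normal := Subgroup.normal_in_normalizer
  let π := QuotientGroup.mk' Q'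
  have hπ : Function.Surjective π := QuotientGroup.mk'_surjective Q'
  let P' : Sylow p K := P.subtype hPK
  let Pb : Sylow p (K ⧸ Q') := P'.mapSurjective hπ
  have hQ'P' : Q' ≤ (P' : Subgroup K) := Subgroup.comap_mono hQP
  have hab : IsMulCommutative (Pb : Subgroup (K ⧸ Q')) := by
    refine Subgroup.commutator_self_eq_bot_iff.mp ?_
    rw [Sylow.coe_mapSurjective, ← Subgroup.map_commutator, Subgroup.map_eq_bot_iff,
      QuotientGroup.ker_mk']
    exact Subgroup.map_le_iff_le_comap.mp (by
      rw [Subgroup.map_commutator, Sylow.coe_subtype, Subgroup.map_subgroupOf_eq_of_le hPK]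
      exact h1')
  -- the normalizer of the Sylow subgroup of `K ⧸ Q'` is a section of `N_G(P)`
  have hNb : Cfsg.HasNormalPComplement p
      (Subgroup.normalizer ((Pb : Subgroup (K ⧸ Q')) : Set (K ⧸ Q'))) := by
    have hcm : ((Pb : Subgroup (K ⧸ Q'))).comap π = (P' : Subgroup K) := by
      rw [Sylow.coe_mapSurjective, Subgroup.comap_map_eq_self]
      rw [QuotientGroup.ker_mk']; exact hQ'P'
    have hN' : Cfsg.HasNormalPComplement p (Subgroup.normalizer ((P' : Subgroup K) : Set K)) := by
      let j : Subgroup.normalizer ((P' : Subgroup K) : Set K) →*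
          Subgroup.normalizer ((P : Subgroup G) : Set G) :=
        { toFun := fun x => ⟨((x : K) : G), Subgroup.mem_normalizer_iff.mpr fun a => by
            constructor
            · intro ha
              exact (Subgroup.mem_normalizer_iff.mp x.2 ⟨a, hPK ha⟩).mp ha
            · intro ha
              have haK : a ∈ K := by
                have := mul_mem (mul_mem (inv_mem (x : K).2) (hPK ha)) (x : K).2
                simpa [mul_assoc] using this
              exact (Subgroup.mem_normalizer_iff.mp x.2 ⟨a, haK⟩).mpr ha⟩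
          map_one' := rfl
          map_mul' := fun _ _ => rfl }
      exact Agent.Fusion.hasNormalPComplement_of_injective hN j
        (fun a b hab => Subtype.ext (Subtype.ext (congrArg Subtype.val hab :)))
    rw [← hcm, ← Subgroup.comap_normalizer_eq_of_surjective _ hπ] at hN'
    exact Agent.Fusion.hasNormalPComplement_of_surjective hN' (π.subgroupComap _)
      (π.subgroupComap_surjective_of_surjective _ hπ)
  have hb : Cfsg.HasNormalPComplement p (K ⧸ Q') :=
    Agent.Fusion.hasNormalPComplement_of_controls Pb Subgroup.le_normalizer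
      (Agent.Fusion.controlsElementFusion_normalizer_of_commutative Pb hab) hNb
  set M := (Cfsg.pResidual p (K ⧸ Q')).comap π with hM
  have hMP : M ⊓ (P' : Subgroup K) ≤ (frattini (P' : Subgroup K)).map (P' : Subgroup K).subtype := by
    intro x hx
    have h3 : π x ∈ (Pb : Subgroup (K ⧸ Q')) ⊓ Cfsg.pResidual p (K ⧸ Q') := ⟨⟨x, hx.2, rfl⟩, hx.1⟩
    rw [(Agent.Fusion.hasNormalPComplement_iff_inf_eq_bot Pb).mp hb] at h3
    have h4 : x ∈ Q' := (QuotientGroup.eq_one_iff x).mp (Subgroup.mem_bot.mp h3)
    obtain ⟨f, hf, hfx⟩ := h2 h4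
    let e : (P : Subgroup G) →* (P' : Subgroup K) :=
      { toFun := fun z => ⟨⟨z, hPK z.2⟩, z.2⟩, map_one' := rfl, map_mul' := fun _ _ => rfl }
    exact ⟨e f, frattini_le_comap_frattini_of_surjective (φ := e)
      (fun z => ⟨⟨((z : K) : G), z.2⟩, rfl⟩) hf, Subtype.ext hfx⟩
  have hMc := Agent.S0081.result P' M hMP
  rw [Agent.Fusion.hasNormalPComplement_iff_pResidual] at hMc ⊢
  have hle : Cfsg.pResidual p K ≤ M := by
    rw [hM, ← Subgroup.map_le_iff_le_comap]; exact Agent.Fusion.map_pResidual_le _
  intro hd
  apply hMc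
  refine hd.trans ?_
  rw [← Agent.Fusion.map_pResidual_pResidual (p := p) (G := K),
    Subgroup.card_map_of_injective (Subgroup.subtype_injective _)]
  exact (Subgroup.card_map_of_injective (Subgroup.inclusion_injective hle)).symm.dvd.trans
    (Subgroup.card_dvd_of_le (Agent.Fusion.map_pResidual_le _))

end Cfsg.Agent.S3838
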