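import Cfsg.Statements.S3839
import Cfsg.Agent.Fusion.Frobenius
import Cfsg.Agent.H41.Basic

set_option autoImplicit false
open Cfsg

namespace Cfsg.Agent.S3839

/-- A Frobenius normal p-complement criterion relative to a strongly closed subgroup. Let G be a finite group, S a Sylow p-subgroup and D a subgroup of S strongly closed in S with respect to G. Then G has a normal p-complement if and only if N_G(U) has a normal p-complement for every subgroup U of D with C_D(U) ≤ U. -/
theorem result {G : Type*} [Group G] [Finite G] {p : ℕ} [Fact p.Prime] (S : Sylow p G) (D : Subgroup G) (hD : Cfsg.IsStronglyClosed D (S : Subgroup G)) : Cfsg.HasNormalPComplement p G ↔ ∀ U : Subgroup G, U ≤ D → D ⊓ Subgroup.centralizer (U : Set G) ≤ U → Cfsg.HasNormalPComplement p ↥(Subgroup.normalizer (U : Set G)) := by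
  refine ⟨fun h U _ _ => Agent.Fusion.hasNormalPComplement_subgroup h _, fun hyp => ?_⟩
  -- every subgroup of `D` has a `p`-nilpotent normalizer, by downward induction
  suffices H : ∀ (n : ℕ) (U : Subgroup G), U ≤ D → Nat.card D - Nat.card U ≤ n →
      Cfsg.HasNormalPComplement p (Subgroup.normalizer (U : Set G)) by
    have h := H _ ⊥ bot_le le_rfl
    rw [Subgroup.normalizer_eq_top] at h
    exact (Agent.Fusion.hasNormalPComplement_congr Subgroup.topEquiv).mp h
  intro n
  induction n using Nat.strong_induction_on with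
  | _ n ih =>
  intro U₀ hU₀ hn
  obtain ⟨g, hgU, -, hext⟩ := Agent.Fusion.exists_extremal S (hU₀.trans hD.1)
  set U := U₀.map (MulAut.conj g).toMonoidHom with hU
  have hUD : U ≤ D := by
    rintro _ ⟨a, ha, rfl⟩
    exact hD.2 a (hU₀ ha) g (hgU ⟨a, ha, rfl⟩)
  set K := Subgroup.normalizer (U : Set G) with hK
  suffices hKc : Cfsg.HasNormalPComplement p K by
    have heq : (Subgroup.normalizer (U₀ : Set G)).map (MulAut.conj g).toMonoidHom = K :=
      Subgroup.map_equiv_normalizer_eq U₀ (MulAut.conj g)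
    exact (Agent.Fusion.hasNormalPComplement_congr
      ((Subgroup.equivMapOfInjective _ _ (MulAut.conj g).injective).trans
        (MulEquiv.subgroupCongr heq))).mpr hKc
  by_cases hcent : D ⊓ Subgroup.centralizer (U : Set G) ≤ U
  · exact hyp U hUD hcent
  have hgood : ∀ V : Subgroup G, V ≤ D → U < V →
      Cfsg.HasNormalPComplement p (Subgroup.normalizer (V : Set G)) := fun V hV hUV => by
    refine ih (Nat.card D - Nat.card V) ?_ V hV le_rfl
    have h1 : Nat.card U < Nat.card V := lt_of_le_of_ne (Subgroup.card_le_of_le hUV.le)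
      fun h => hUV.ne (Subgroup.eq_of_le_of_card_ge hUV.le h.ge)
    have h2 : Nat.card U = Nat.card U₀ :=
      Subgroup.card_map_of_injective (MulAut.conj g).injective
    have h3 := Subgroup.card_le_of_le hV
    omega
  let T : Sylow p K := (S.isPGroup'.to_le
    (inf_le_left : (S : Subgroup G) ⊓ K ≤ S)).comap_subtype.toSylow hext
  have hTmem : ∀ x : K, x ∈ (T : Subgroup K) ↔ (x : G) ∈ (S : Subgroup G) := fun x =>
    ⟨fun h => (show (x : G) ∈ (S : Subgroup G) ⊓ K from h).1, fun h => ⟨h, x.2⟩⟩
  refine Agent.Fusion.hasNormalPComplement_of_tame T fun R hR _ w hw hwp => ?_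
  set H := (T : Subgroup K) ⊓ (R : Subgroup K) with hH
  set W := Subgroup.normalizer (H : Set K) with hW
  have hHG : ∀ x ∈ H, (x : G) ∈ (S : Subgroup G) := fun x hx => (hTmem x).mp hx.1
  by_cases hbig : ∃ x ∈ H, (x : G) ∈ D ∧ (x : G) ∉ U
  · -- `H ∩ D` is a bigger subgroup of `D`
    set V := D ⊓ H.map K.subtype ⊔ U with hV
    have hVD : V ≤ D := sup_le inf_le_left hUD
    have hUV : U < V := lt_of_le_of_ne le_sup_right fun h => by
      obtain ⟨x, hx, hxD, hxU⟩ := hbig
      exact hxU (h ▸ Subgroup.mem_sup_left ⟨hxD, ⟨x, hx, rfl⟩⟩)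
    have hWV : ∀ v : K, v ∈ W → (v : G) ∈ Subgroup.normalizer (V : Set G) := fun v hv => by
      rw [Subgroup.mem_normalizer_iff_map_conj_eq]
      refine Subgroup.eq_of_le_of_card_ge ?_ (Subgroup.card_map_of_injective (MulAut.conj (v : G)).injective).ge
      rw [hV, Subgroup.map_sup]
      refine sup_le_sup ?_ (Subgroup.mem_normalizer_iff_map_conj_eq.mp v.2).le
      rintro _ ⟨a, ⟨haD, x, hx, rfl⟩, rfl⟩
      have h1 : v * x * v⁻¹ ∈ H := (Subgroup.mem_normalizer_iff.mp hv x).mp hx
      have h2 : (v : G) * x * (v : G)⁻¹ ∈ (S : Subgroup G) := hHG _ h1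
      exact ⟨hD.2 _ haD _ h2, ⟨v * x * v⁻¹, h1, rfl⟩⟩
    let j : W →* Subgroup.normalizer (V : Set G) :=
      { toFun := fun x => ⟨((x : K) : G), hWV x x.2⟩, map_one' := rfl, map_mul' := fun _ _ => rfl }
    have hWc : Cfsg.HasNormalPComplement p W :=
      Agent.Fusion.hasNormalPComplement_of_injective (hgood V hVD hUV) j
        (fun a b hab => Subtype.ext (Subtype.ext (congrArg Subtype.val hab :)))
    refine Subgroup.mem_centralizer_iff.mpr fun x hx => ?_
    haveI : (H.subgroupOf W).Normal := Subgroup.normal_in_normalizer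
    have := Agent.Fusion.commute_of_hasNormalPComplement hWc (Q := H.subgroupOf W)
      (hQ := (T.isPGroup'.to_le inf_le_left).comap_subtype)
      (g := ⟨w, hw⟩) (by simpa [Subgroup.orderOf_mk] using hwp)
      (x := ⟨x, Subgroup.le_normalizer hx⟩) hx
    exact (congrArg Subtype.val this).symm
  · simp only [not_exists, not_and, not_not] at hbig
    -- `L` acts trivially on `H / (H ∩ U)` and on `U`
    set U' := U.subgroupOf K with hU'
    haveI : U'.Normal := Subgroup.normal_in_normalizer
    let π := QuotientGroup.mk' U'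
    set L : Subgroup W := ((Subgroup.centralizer ((H.map π : Subgroup _) : Set (K ⧸ U'))).comap π ⊓
      (Subgroup.centralizer (U : Set G)).subgroupOf K).subgroupOf W with hL
    haveI hLn : L.Normal := by
      constructor
      rintro a ⟨ha1, ha2⟩ b
      refine ⟨?_, ?_⟩
      · refine Subgroup.mem_centralizer_iff.mpr ?_
        rintro _ ⟨x, hx, rfl⟩
        have hx' : (b : K)⁻¹ * x * b ∈ H := (Subgroup.mem_normalizer_iff''.mp b.2 x).mp hx
        have h1 := Subgroup.mem_centralizer_iff.mp ha1 (π ((b : K)⁻¹ * x * b)) ⟨_, hx', rfl⟩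
        simp only [map_mul, map_inv, Subgroup.coe_mul, Subgroup.coe_inv, Subgroup.coe_subtype] at h1 ⊢
        calc π x * (π b * π a * (π b)⁻¹) = π b * ((π b)⁻¹ * π x * π b * π a) * (π b)⁻¹ := by group
          _ = π b * (π a * ((π b)⁻¹ * π x * π b)) * (π b)⁻¹ := by rw [h1]
          _ = π b * π a * (π b)⁻¹ * π x := by group
      · refine Subgroup.mem_centralizer_iff.mpr fun u hu => ?_
        have hu' : ((b : K) : G)⁻¹ * u * (b : K) ∈ U :=
          (Subgroup.mem_normalizer_iff''.mp (b : K).2 u).mp hu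
        have h1 := Subgroup.mem_centralizer_iff.mp ha2 _ hu'
        simp only [Subgroup.coe_mul, Subgroup.coe_inv, Subgroup.coe_subtype] at h1 ⊢
        calc u * (((b : K) : G) * ((a : K) : G) * ((b : K) : G)⁻¹) =
              ((b : K) : G) * (((b : K) : G)⁻¹ * u * (b : K) * (a : K)) * ((b : K) : G)⁻¹ := by group
          _ = ((b : K) : G) * (((a : K) : G) * (((b : K) : G)⁻¹ * u * (b : K))) * ((b : K) : G)⁻¹ := by
            rw [h1]
          _ = ((b : K) : G) * ((a : K) : G) * ((b : K) : G)⁻¹ * u := by group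
    -- `p'`-elements of `L` centralise `H`
    have hLc : ∀ a ∈ L, Nat.Coprime (orderOf a) p → ∀ x ∈ H, (a : K) * x = x * a := by
      rintro a ⟨ha1, ha2⟩ hap x hx
      have h1 : π (a : K) * π x = π x * π (a : K) :=
        (Subgroup.mem_centralizer_iff.mp ha1 (π x) ⟨x, hx, rfl⟩).symm
      have hu : (a : K) * x * (a : K)⁻¹ * x⁻¹ ∈ U' := by
        rw [← QuotientGroup.eq_one_iff]
        change π ((a : K) * x * (a : K)⁻¹ * x⁻¹) = 1
        simp only [map_mul, map_inv, h1]
        group
      set u : K := (a : K) * x * (a : K)⁻¹ * x⁻¹ with hudef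
      have hau : (a : K) * u = u * (a : K) :=
        Subtype.ext (Subgroup.mem_centralizer_iff.mp ha2 (u : G) hu).symm
      have hpow : ∀ k : ℕ, (a : K) ^ k * x = u ^ k * x * (a : K) ^ k := by
        intro k
        induction k with
        | zero => simp
        | succ k ih =>
          calc (a : K) ^ (k + 1) * x = (a : K) * ((a : K) ^ k * x) := by rw [pow_succ']; group
            _ = (a : K) * (u ^ k * x * (a : K) ^ k) := by rw [ih]
            _ = ((a : K) * u ^ k) * x * (a : K) ^ k := by group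
            _ = (u ^ k * (a : K)) * x * (a : K) ^ k := by
              rw [((show Commute (a : K) u from hau).pow_right k).eq]
            _ = u ^ (k + 1) * x * (a : K) ^ (k + 1) := by
              rw [pow_succ u, pow_succ' (a : K), hudef]; group
      have hk := hpow (orderOf a)
      have ha1' : (a : K) ^ orderOf a = 1 := by
        rw [← Subgroup.coe_pow, pow_orderOf_eq_one, Subgroup.coe_one]
      rw [ha1', one_mul, mul_one] at hk
      have hu1 : u = 1 := by
        have hd : orderOf u ∣ orderOf a := orderOf_dvd_of_pow_eq_one (mul_eq_right.mp hk.symm)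
        obtain ⟨m, hm⟩ := IsPGroup.iff_orderOf.mp
          ((S.isPGroup'.to_le (hUD.trans hD.1)).comap_subtype (K := K)) ⟨u, hu⟩
        replace hm : orderOf u = p ^ m :=
          (orderOf_injective (U'.subtype) U'.subtype_injective ⟨u, hu⟩).trans hm
        exact orderOf_eq_one_iff.mp (Nat.eq_one_of_dvd_coprimes (hap.pow_right m) hd (hm ▸ dvd_rfl))
      calc (a : K) * x = u * x * a := by rw [hudef]; group
        _ = x * a := by rw [hu1, one_mul]
    -- the Sylow subgroup of `W` meets `D` outside `U` within `L`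
    let TW : Sylow p W := (T.isPGroup'.to_le
      (inf_le_left : (T : Subgroup K) ⊓ W ≤ T)).comap_subtype.toSylow hR.1
    set M : Subgroup W := L ⊔ H.subgroupOf W with hM
    haveI : (H.subgroupOf W).Normal := Subgroup.normal_in_normalizer
    haveI : M.Normal := inferInstance
    set TM : Subgroup W := (TW : Subgroup W) ⊓ M with hTM
    set X : Subgroup G := D ⊓ (TM.map W.subtype).map K.subtype ⊔ U with hX
    have hXD : X ≤ D := sup_le inf_le_left hUD
    have hTMG : ∀ v ∈ TM, ((v : K) : G) ∈ (S : Subgroup G) := fun v hv =>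
      (hTmem v).mp (show (v : K) ∈ (T : Subgroup K) ⊓ W from hv.1).1
    have hUX : U < X := by
      refine lt_of_le_of_ne le_sup_right fun hUXeq => hcent ?_
      intro d hd
      by_contra hdU
      obtain ⟨hdD, hdC⟩ := hd
      set E : Subgroup K := (D ⊓ Subgroup.centralizer (U : Set G)).subgroupOf K with hE
      have hdK : d ∈ K := Subgroup.centralizer_le_normalizer _ hdC
      have hET : E ≤ (T : Subgroup K) := fun e he => (hTmem e).mpr (hD.1 he.1)
      have hEn : (T : Subgroup K) ≤ Subgroup.normalizer (E : Set K) := by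
        refine Subgroup.le_normalizer_iff.mpr fun t ht e he => ⟨?_, ?_⟩
        · exact hD.2 _ he.1 _ (mul_mem (mul_mem ((hTmem t).mp ht) (hD.1 he.1))
            (inv_mem ((hTmem t).mp ht)))
        · refine Subgroup.mem_centralizer_iff.mpr fun u hu => ?_
          have hu' : (t : G)⁻¹ * u * t ∈ U := (Subgroup.mem_normalizer_iff''.mp t.2 u).mp hu
          have h1 := Subgroup.mem_centralizer_iff.mp he.2 _ hu'
          simp only [Subgroup.coe_mul, Subgroup.coe_inv, Subgroup.coe_subtype] at h1 ⊢
          calc u * ((t : G) * (e : G) * (t : G)⁻¹) = (t : G) * ((t : G)⁻¹ * u * t * e) * (t : G)⁻¹ := by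
                group
            _ = (t : G) * ((e : G) * ((t : G)⁻¹ * u * t)) * (t : G)⁻¹ := by rw [h1]
            _ = (t : G) * (e : G) * (t : G)⁻¹ * u := by group
      have hHT : H ≤ (T : Subgroup K) := inf_le_left
      have hEH : H < E ⊔ H := lt_of_le_of_ne le_sup_right fun h => hdU (by
        have hdH : (⟨d, hdK⟩ : K) ∈ H := by
          rw [h]; exact Subgroup.mem_sup_left ⟨hdD, hdC⟩
        exact hbig _ hdH hdD)
      have hlt := Agent.Fusion.ofSubgroupInfLt (E ⊔ H) (T.isPGroup'.to_le (sup_le hET hHT)) hEH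
      obtain ⟨z, ⟨hz, hzN⟩, hzH⟩ := SetLike.exists_of_lt hlt
      rw [sup_comm] at hz
      change z ∈ ((H ⊔ E : Subgroup K) : Set K) at hz
      rw [Subgroup.coe_mul_of_left_le_normalizer_right _ _ (hHT.trans hEn)] at hz
      obtain ⟨h', hh', e, he, hez⟩ := Set.mem_mul.mp hz
      have heW : e ∈ W := by
        have h2 : h'⁻¹ * z ∈ W := mul_mem (inv_mem (Subgroup.le_normalizer hh')) hzN
        rwa [← hez, inv_mul_cancel_left] at h2
      have heD : (e : G) ∈ D := he.1
      have heL : (⟨e, heW⟩ : W) ∈ L := by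
        refine ⟨Subgroup.mem_centralizer_iff.mpr ?_, he.2⟩
        rintro _ ⟨x, hx, rfl⟩
        rw [← map_mul, ← map_mul]
        refine (QuotientGroup.eq (s := U')).mpr ?_
        change (((x * e)⁻¹ * (e * x) : K) : G) ∈ U
        have h3 : (x * e)⁻¹ * (e * x) ∈ H := by
          have h5 : e⁻¹ * x⁻¹ * e ∈ H := (Subgroup.mem_normalizer_iff''.mp heW x⁻¹).mp (inv_mem hx)
          have := mul_mem h5 hx
          convert this using 1
          group
        refine hbig _ h3 ?_
        have h4 : (x : G)⁻¹ * (e : G) * (x : G) ∈ D := by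
          simpa using hD.2 _ heD ((x : G)⁻¹) (by
            simpa using mul_mem (mul_mem (inv_mem (hHG x hx)) (hD.1 heD)) (hHG x hx))
        have := mul_mem (inv_mem heD) h4
        convert this using 1
        simp [mul_assoc]
      have heTM : (⟨e, heW⟩ : W) ∈ TM :=
        ⟨(show e ∈ (T : Subgroup K) ⊓ W from ⟨hET he, heW⟩), Subgroup.mem_sup_left heL⟩
      have heX : (e : G) ∈ X := Subgroup.mem_sup_left ⟨heD, ⟨e, ⟨⟨e, heW⟩, heTM, rfl⟩, rfl⟩⟩
      rw [← hUXeq] at heX
      have hU'p : IsPGroup p U' := ((S.isPGroup'.to_le (hUD.trans hD.1)).comap_subtype (K := K))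
      have heH : e ∈ H := ⟨hU'p.le_sylow_of_normal T heX, hU'p.le_sylow_of_normal R heX⟩
      exact hzH (hez ▸ mul_mem hh' heH)
    -- `W = N_W(T_M) M`
    have hTMs : ∃ Q : Sylow p M, (Q : Subgroup M).map M.subtype = TM :=
      Agent.H41.exists_sylow_map_eq_inf TW M
    obtain ⟨Q, hQ⟩ := hTMs
    have htop := Sylow.normalizer_sup_eq_top Q
    rw [hQ] at htop
    set N₁ : Subgroup W := Subgroup.normalizer (TM : Set W) with hN₁
    have hNX : ∀ v : W, v ∈ N₁ → ((v : K) : G) ∈ Subgroup.normalizer (X : Set G) := fun v hv => by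
      rw [Subgroup.mem_normalizer_iff_map_conj_eq]
      refine Subgroup.eq_of_le_of_card_ge ?_
        (Subgroup.card_map_of_injective (MulAut.conj ((v : K) : G)).injective).ge
      rw [hX, Subgroup.map_sup]
      refine sup_le_sup ?_ (Subgroup.mem_normalizer_iff_map_conj_eq.mp (v : K).2).le
      rintro _ ⟨a, ⟨haD, _, ⟨x, hx, rfl⟩, rfl⟩, rfl⟩
      have h1 : v * x * v⁻¹ ∈ TM := (Subgroup.mem_normalizer_iff.mp hv x).mp hx
      exact ⟨hD.2 _ haD _ (hTMG _ h1), ⟨_, ⟨v * x * v⁻¹, h1, rfl⟩, rfl⟩⟩
    let j : N₁ →* Subgroup.normalizer (X : Set G) :=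
      { toFun := fun x => ⟨(((x : W) : K) : G), hNX x x.2⟩, map_one' := rfl,
        map_mul' := fun _ _ => rfl }
    have hN₁c : Cfsg.HasNormalPComplement p N₁ :=
      Agent.Fusion.hasNormalPComplement_of_injective (hgood X hXD hUX) j
        (fun a b hab => Subtype.ext (Subtype.ext (Subtype.ext (congrArg Subtype.val hab :))))
    set H₁ : Subgroup W := H.subgroupOf W with hH₁
    have hH₁TM : H₁ ≤ TM := fun x hx =>
      ⟨(show (x : K) ∈ (T : Subgroup K) ⊓ W from ⟨hx.1, x.2⟩), Subgroup.mem_sup_right hx⟩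
    have hH₁p : IsPGroup p H₁ := (T.isPGroup'.to_le inf_le_left).comap_subtype
    -- the image of `W` in the automorphisms of `H` is a `p`-group
    set C₀ : Subgroup W := Subgroup.centralizer (H₁ : Set W) with hC₀
    let π₀ := QuotientGroup.mk' C₀
    have himg : ∀ Y : Subgroup W, (∀ a ∈ Y, Nat.Coprime (orderOf a) p → a ∈ C₀) →
        IsPGroup p (Y.map π₀) := by
      rintro Y hY ⟨_, ⟨a, ha, rfl⟩⟩
      obtain ⟨k, hk⟩ := Agent.Fusion.exists_pow_coprime (p := p) a
      exact ⟨k, Subtype.ext (by
        rw [Subgroup.coe_pow, Subgroup.coe_one]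
        change π₀ a ^ p ^ k = 1
        rw [← map_pow]
        exact (QuotientGroup.eq_one_iff _).mpr (hY _ (pow_mem ha _) hk))⟩
    have hLp : IsPGroup p (L.map π₀) := himg L fun a ha hap =>
      Subgroup.mem_centralizer_iff.mpr fun x hx => Subtype.ext (hLc a ha hap (x : K) hx).symm
    have hMp : IsPGroup p (M.map π₀) := by
      rw [hM, Subgroup.map_sup]
      haveI : (L.map π₀).Normal := hLn.map _ (QuotientGroup.mk'_surjective C₀)
      exact hLp.to_sup_of_normal_left (hH₁p.map π₀)
    have hNp : IsPGroup p (N₁.map π₀) := himg N₁ fun a ha hap =>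
      Subgroup.mem_centralizer_iff.mpr fun x hx => by
        haveI : (H₁.subgroupOf N₁).Normal := Subgroup.Normal.comap inferInstance _
        have := Agent.Fusion.commute_of_hasNormalPComplement hN₁c (Q := H₁.subgroupOf N₁)
          (hQ := hH₁p.comap_subtype) (g := ⟨a, ha⟩) (by simpa [Subgroup.orderOf_mk] using hap)
          (x := ⟨x, Subgroup.le_normalizer (hH₁TM hx)⟩) hx
        exact (congrArg Subtype.val this).symm
    have hall : IsPGroup p (W ⧸ C₀) := by
      haveI : (M.map π₀).Normal := Subgroup.Normal.map inferInstance _ (QuotientGroup.mk'_surjective C₀)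
      have h1 : N₁.map π₀ ⊔ M.map π₀ = ⊤ := by
        rw [← Subgroup.map_sup, htop, Subgroup.map_top_of_surjective _ (QuotientGroup.mk'_surjective C₀)]
      have h2 := hNp.to_sup_of_normal_right hMp
      rw [h1] at h2
      exact h2.of_equiv Subgroup.topEquiv
    have hwC := Agent.Fusion.pResidual_le_of_quotient hall
      (Agent.Fusion.mem_pResidual (g := ⟨w, hw⟩) (by rwa [Subgroup.orderOf_mk]))
    refine Subgroup.mem_centralizer_iff.mpr fun x hx => ?_
    exact congrArg Subtype.val (Subgroup.mem_centralizer_iff.mp hwC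
      (⟨x, Subgroup.le_normalizer hx⟩ : W) hx)

end Cfsg.Agent.S3839
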