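import Cfsg.Prelude
import Cfsg.Agent.H87.MaxClassFusion
import Cfsg.Agent.H87.MaxClassExists
import Mathlib.GroupTheory.Transfer

-- A Sylow subgroup of maximal class: a uniform element stays uniform in `G`, or `G` is quasisimple.

set_option autoImplicit false
set_option linter.style.haveILetI false

namespace Cfsg.Agent.S3865

open Subgroup Cfsg.Agent.H87.MaxClassFusion
open scoped commutatorElement

universe u

variable {G : Type u} [Group G] [Finite G] {p : ℕ} [hp : Fact p.Prime]

/-- In a normal subgroup `N` with `P ∩ N = Z` of order `p` in `[P, P]`, the normalizer of `Z` centralizes it. -/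
theorem normalizer_centralizes (P N Z : Subgroup G) [N.Normal] (hZP : Z ≤ P) (hZN : Z ≤ N)
    (hZc : ∀ u ∈ P, ∀ z ∈ Z, u * z = z * u) (hZ : Nat.card Z = p) (hZd : Z ≤ ⁅P, P⁆)
    (hsmall : ∀ Q : Subgroup G, IsPGroup p Q → Q ≤ N → Nat.card Q ≤ p) (hp2 : ¬ p ^ 2 ∣ Nat.card N)
    {h : G} (hh : h ∈ N) (hn : h ∈ normalizer (Z : Set G)) : h ∈ centralizer (Z : Set G) := by
  set M := N ⊓ centralizer (Z : Set G)
  have hZcomm : ∀ a ∈ Z, ∀ b ∈ Z, a * b = b * a := fun a ha b hb => hZc a (hZP ha) b hb
  have hZM : Z ≤ M := le_inf hZN fun z hz => mem_centralizer_iff.2 fun w hw => hZcomm w hw z hz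
  set ZM := Z.subgroupOf M
  have hZMc : ZM ≤ center M := fun v hv => mem_center_iff.2 fun w =>
    Subtype.ext (mem_centralizer_iff.1 (mem_inf.1 w.2).2 _ (mem_subgroupOf.1 hv)).symm
  have hcardZM : Nat.card ZM = p := by rw [Nat.card_congr (subgroupOfEquivOfLe hZM).toEquiv, hZ]
  have hdvd : p ∣ Nat.card (center M) := hcardZM ▸ card_dvd_of_le hZMc
  obtain ⟨r, hr⟩ := hdvd
  set idx := (center M).index
  have hM : Nat.card M = p * (r * idx) := by
    rw [← (center M).card_mul_index, hr, mul_assoc]
  set e := r * idx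
  have hpe : ¬ p ∣ e := by
    intro hd
    exact hp2 ((show p ^ 2 ∣ Nat.card M by rw [hM, sq]; exact Nat.mul_dvd_mul_left p hd).trans
      (card_dvd_of_le (inf_le_left : M ≤ N)))
  have hmul : ∀ a b : M, (a * b) ^ e = a ^ e * b ^ e := by
    intro a b
    have h1 := congrArg Subtype.val (map_mul (MonoidHom.transferCenterPow M) a b)
    simp only [Subgroup.coe_mul, MonoidHom.transferCenterPow_apply] at h1
    have hca : a ^ idx ∈ center M := (center M).pow_index_mem a
    simp only [e, mul_comm r, pow_mul]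
    rw [h1, (Commute.symm (mem_center_iff.1 hca (b ^ idx) : Commute (b ^ idx) (a ^ idx))).mul_pow]
  have hmem : ∀ a : M, ((a ^ e : M) : G) ∈ Z := by
    intro a
    set v := ((a ^ e : M) : G)
    have hv1 : v ^ p = 1 := by
      have h1 := pow_card_eq_one' (x := a)
      rw [hM, mul_comm, pow_mul] at h1
      exact congrArg Subtype.val h1
    have hvM : v ∈ M := (a ^ e).2
    have hle : Z ⊔ zpowers v ≤ N := sup_le hZN (zpowers_le.2 (mem_inf.1 hvM).1)
    have hnorm : zpowers v ≤ normalizer (Z : Set G) := by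
      rw [zpowers_le]
      exact centralizer_le_normalizer _ (mem_inf.1 hvM).2
    have hpg : IsPGroup p ↥(Z ⊔ zpowers v) := by
      rw [sup_comm]
      refine IsPGroup.to_sup_of_normal_right' ?_ (IsPGroup.of_card (n := 1) (by rw [hZ, pow_one])) hnorm
      obtain ⟨i, -, hi⟩ := (Nat.dvd_prime_pow hp.out (m := 1)).1
        (by rw [pow_one, Nat.card_zpowers]; exact orderOf_dvd_of_pow_eq_one hv1 : Nat.card (zpowers v) ∣ p ^ 1)
      exact IsPGroup.of_card hi
    have heq : Z = Z ⊔ zpowers v :=
      Subgroup.eq_of_le_of_card_ge le_sup_left (by rw [hZ]; exact hsmall _ hpg hle)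
    rw [heq]
    exact mem_sup_right (mem_zpowers v)
  have hinv : ∀ a ∈ P, ∀ w ∈ M, a * w * a⁻¹ ∈ M := by
    intro a ha w hw
    refine mem_inf.2 ⟨Subgroup.Normal.conj_mem inferInstance w (mem_inf.1 hw).1 a,
      mem_centralizer_iff.2 fun z hz => ?_⟩
    have hw' := mem_centralizer_iff.1 (mem_inf.1 hw).2 z hz
    calc z * (a * w * a⁻¹) = (z * a) * w * a⁻¹ := by group
      _ = a * (z * w) * a⁻¹ := by rw [← hZc a ha z hz]; group
      _ = a * w * (z * a⁻¹) := by rw [hw']; group
      _ = a * w * (a⁻¹ * z) := by rw [(hZc _ (inv_mem ha) z hz).symm]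
      _ = _ := by group
  have hcomm : ∀ a ∈ P, ⁅a, h⁆ ∈ M := by
    intro a ha
    refine mem_inf.2 ⟨?_, mem_centralizer_iff.2 fun z hz => ?_⟩
    · rw [commutatorElement_def]
      exact mul_mem (Subgroup.Normal.conj_mem inferInstance h hh a) (inv_mem hh)
    · have hz' : h⁻¹ * z * h ∈ Z := (mem_normalizer_iff''.1 hn z).1 hz
      have h1 := hZc _ (inv_mem ha) _ hz'
      have h2 := hZc a ha z hz
      calc z * ⁅a, h⁆ = (z * a) * h * a⁻¹ * h⁻¹ := by simp only [commutatorElement_def]; group
        _ = a * h * ((h⁻¹ * z * h) * a⁻¹) * h⁻¹ := by rw [← h2]; group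
        _ = a * h * (a⁻¹ * (h⁻¹ * z * h)) * h⁻¹ := by rw [h1]
        _ = _ := by simp only [commutatorElement_def]; group
  let χ : P →* Z :=
    { toFun := fun a => ⟨(((⟨⁅(a : G), h⁆, hcomm a a.2⟩ : M) ^ e : M) : G), hmem _⟩
      map_one' := by apply Subtype.ext; simp
      map_mul' := fun a b => by
        apply Subtype.ext
        have hwmem := hinv a a.2 _ (hcomm b b.2)
        have e1 : (⟨⁅((a * b : P) : G), h⁆, hcomm _ (a * b).2⟩ : M) =
            ⟨(a : G) * ⁅(b : G), h⁆ * (a : G)⁻¹, hwmem⟩ * ⟨⁅(a : G), h⁆, hcomm a a.2⟩ := by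
          apply Subtype.ext
          simp only [Subgroup.coe_mul, commutatorElement_def]
          group
        simp only [Subgroup.coe_mul] at e1 ⊢
        rw [e1, hmul]
        simp only [Subgroup.coe_mul, SubmonoidClass.coe_pow]
        rw [conj_pow]
        have hb' : ⁅(b : G), h⁆ ^ e ∈ Z := by simpa using hmem ⟨⁅(b : G), h⁆, hcomm b b.2⟩
        have ha' : ⁅(a : G), h⁆ ^ e ∈ Z := by simpa using hmem ⟨⁅(a : G), h⁆, hcomm a a.2⟩
        rw [hZc a a.2 _ hb', mul_inv_cancel_right, hZcomm _ hb' _ ha'] }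
  refine mem_centralizer_iff.2 fun z hz => ?_
  have hker : (⁅(⊤ : Subgroup P), ⊤⁆ : Subgroup P) ≤ χ.ker := by
    rw [Subgroup.commutator_le]
    intro a _ b _
    rw [MonoidHom.mem_ker, map_commutatorElement, commutatorElement_eq_one_iff_mul_comm]
    exact Subtype.ext (hZcomm _ (χ a).2 _ (χ b).2)
  have hz' : z ∈ (⁅(⊤ : Subgroup P), ⊤⁆ : Subgroup P).map P.subtype := by
    rw [map_commutator, ← MonoidHom.range_eq_map, range_subtype]
    exact hZd hz
  obtain ⟨w, hw, hwz⟩ := hz'
  have h1 := congrArg Subtype.val (hker hw)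
  change (((⟨⁅(w : G), h⁆, hcomm w w.2⟩ : M) ^ e : M) : G) = 1 at h1
  rw [SubmonoidClass.coe_pow] at h1
  simp only [coe_subtype] at hwz
  subst hwz
  have hp' : ⁅(w : G), h⁆ ^ p = 1 := by
    have hc : ⁅(w : G), h⁆ ∈ Z := by
      rw [show ⁅(w : G), h⁆ = (w : G) * (h * (w : G)⁻¹ * h⁻¹) by simp only [commutatorElement_def]; group]
      exact mul_mem hz ((mem_normalizer_iff.1 hn _).1 (inv_mem hz))
    exact hZ ▸ congrArg Subtype.val (pow_card_eq_one' (x := (⟨_, hc⟩ : Z)))
  have h3 := Nat.dvd_gcd (orderOf_dvd_of_pow_eq_one h1) (orderOf_dvd_of_pow_eq_one hp')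
  rw [Nat.Coprime.gcd_eq_one ((hp.out.coprime_iff_not_dvd.2 hpe).symm), Nat.dvd_one, orderOf_eq_one_iff] at h3
  exact commutatorElement_eq_one_iff_mul_comm.1 h3

theorem main (P : Sylow p G) (n : ℕ) (hP : Nat.card P = p ^ n) (hn : 2 ≤ n)
    (hmax : Group.nilpotencyClass ↥(P : Subgroup G) = n - 1) (hcore : Cfsg.pPrimeCore p G = ⊥)
    (hres : ∀ N : Subgroup G, N.Normal → (N.index).Coprime p → N = ⊤)
    (hno : ¬ ∃ x ∈ (P : Subgroup G), (Nat.card (centralizer ({x} : Set G))).factorization p = 2) :
    Cfsg.IsQuasisimple G ∧ Nat.card (center G) ≤ p := by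
  set P0 : Subgroup G := (P : Subgroup G) with hP0
  have hfac : (Nat.card G).factorization p = n := by
    have h := P.card_eq_multiplicity
    rw [hP] at h
    exact (Nat.pow_right_injective hp.out.two_le h).symm
  have hmaxG : ¬ p ^ (n + 1) ∣ Nat.card G := by
    rw [hp.out.pow_dvd_iff_le_factorization Nat.card_pos.ne', hfac]; omega
  have hn3 : 3 ≤ n := by
    by_contra h
    refine hno ⟨1, one_mem _, ?_⟩
    have e : centralizer ({(1 : G)} : Set G) = ⊤ := eq_top_iff.2 fun v _ => mem_centralizer_iff.2 (by simp)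
    rw [e, Subgroup.card_top, hfac]
    omega
  -- uniform elements outside a proper subgroup
  have huni : ∀ R : Subgroup G, R ≤ P0 → R ≠ P0 → ∃ x, x ∉ R ∧ Uni P0 p n x ∧
      p ^ 3 ∣ Nat.card (centralizer ({x} : Set G)) := by
    intro R hR hne
    obtain ⟨x, hxR, hxc⟩ := H87.MaxClassExists.exists_uniform_notMem hn3 hP hmax (M := R.subgroupOf P0)
      (fun h => hne (le_antisymm hR (subgroupOf_eq_top.1 h)))
    have hcard : Nat.card ↥(cen P0 (x : G)) = p ^ 2 := by
      rw [← hxc, ← card_map_of_injective (K := centralizer ({x} : Set P0)) (f := P0.subtype) P0.subtype_injective]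
      congr 2
      ext v
      simp only [mem_cen, Subgroup.mem_map, mem_centralizer_iff, Set.mem_singleton_iff, forall_eq, coe_subtype]
      exact ⟨fun ⟨hv, h⟩ => ⟨⟨v, hv⟩, Subtype.ext h, rfl⟩,
        fun ⟨w, hw, e⟩ => e ▸ ⟨w.2, congrArg Subtype.val hw⟩⟩
    refine ⟨x, fun h => hxR (mem_subgroupOf.2 h), ⟨hP, hn3, x.2, hcard⟩, ?_⟩
    have h2 : p ^ 2 ∣ Nat.card (centralizer ({(x : G)} : Set G)) :=
      hcard ▸ card_dvd_of_le (inf_le_right : cen P0 (x : G) ≤ _)
    rw [hp.out.pow_dvd_iff_le_factorization Nat.card_pos.ne'] at h2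
    rw [hp.out.pow_dvd_iff_le_factorization Nat.card_pos.ne']
    have h5 : (Nat.card (centralizer ({(x : G)} : Set G))).factorization p ≠ 2 := fun h => hno ⟨x, x.2, h⟩
    omega
  obtain ⟨x0, -, U0, -⟩ := huni ⊥ bot_le (fun h => by
    have h1 : Nat.card P0 = p ^ n := hP
    rw [← h, Subgroup.card_bot] at h1
    exact (Nat.one_lt_pow (by omega) hp.out.one_lt).ne h1)
  set Z := ctr P0
  have hZc := U0.card_ctr
  have hZd := U0.ctr_le_commutator
  -- conjugating `p`-subgroups of a normal subgroup into `P`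
  have hinto : ∀ N : Subgroup G, N.Normal → ∀ Q : Subgroup G, IsPGroup p Q → Q ≤ N →
      ∃ g : G, ∀ v ∈ Q, g * v * g⁻¹ ∈ P0 ⊓ N := by
    intro N hN Q hQ hQN
    obtain ⟨S, hS⟩ := hQ.exists_le_sylow
    obtain ⟨g, hg⟩ := MulAction.exists_smul_eq G S P
    refine ⟨g, fun v hv => ⟨?_, hN.conj_mem v (hQN hv) g⟩⟩
    rw [hP0, ← hg, Sylow.smul_def, Sylow.pointwise_smul_def]
    exact ⟨v, hS hv, by simp [MulAut.conj_apply]⟩
  -- a proper nontrivial normal subgroup is the centre of `P`
  have hNZ : ∀ N : Subgroup G, N.Normal → N ≠ ⊤ → N ≠ ⊥ → N = Z := by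
    intro N hN hNt hNb
    haveI := hN
    have hRP : P0 ⊓ N ≠ P0 := fun h => hNt (hres N hN (by
      refine Nat.Coprime.coprime_dvd_left (Subgroup.index_dvd_of_le (inf_eq_left.1 h)) ?_
      exact (hp.out.coprime_iff_not_dvd.2 P.not_dvd_index).symm))
    have hpN : p ∣ Nat.card N := by
      by_contra h
      exact hNb (le_bot_iff.1 (hcore ▸ le_sSup ⟨hN, ((hp.out.coprime_iff_not_dvd).2 h).symm⟩))
    obtain ⟨v, hv⟩ := exists_prime_orderOf_dvd_card' p hpN
    have hvG : orderOf (v : G) = p := by rw [orderOf_coe, hv]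
    obtain ⟨g, hg⟩ := hinto N hN (zpowers (v : G))
      (IsPGroup.of_card (n := 1) (by rw [Nat.card_zpowers, hvG, pow_one])) (zpowers_le.2 v.2)
    have hRne : P0 ⊓ N ≠ ⊥ := fun h => by
      have := hg v (mem_zpowers _)
      rw [h, mem_bot, conj_eq_one_iff] at this
      rw [this, orderOf_one] at hvG
      exact hp.out.one_lt.ne hvG
    haveI : (N.subgroupOf P0).Normal := hN.subgroupOf P0
    have hPp : IsPGroup p P0 := P.2
    have hRne' : N.subgroupOf P0 ≠ ⊥ := fun h => hRne (by
      have := congrArg (Subgroup.map P0.subtype) h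
      rwa [subgroupOf_map_subtype, Subgroup.map_bot, inf_comm] at this)
    obtain ⟨w, hw⟩ := (Subgroup.ne_bot_iff_exists_ne_one).1 (PGroups.inf_center_ne_bot hPp _ hRne')
    obtain ⟨⟨hwN, hwc⟩, hw1⟩ := (⟨w.2, hw⟩ : (w : P0) ∈ N.subgroupOf P0 ⊓ center P0 ∧ w ≠ 1)
    have hwZ : ((w : P0) : G) ∈ Z :=
      mem_ctr.2 ⟨(w : P0).2, fun a ha => congrArg Subtype.val (mem_center_iff.1 hwc ⟨a, ha⟩)⟩
    have hZN : Z ≤ N := by
      show ctr P0 ≤ N
      rw [← U0.zpowers_eq_ctr hwZ (fun h => hw1 (Subtype.ext (Subtype.ext h)))]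
      exact zpowers_le.2 (mem_subgroupOf.1 hwN)
    have hR : P0 ⊓ N = Z := by
      refine le_antisymm ?_ (le_inf (ctr_le _) hZN)
      by_contra hnle
      obtain ⟨x, hxR, U, h3⟩ := huni (P0 ⊓ N) inf_le_left hRP
      obtain ⟨k, b, hb, hk⟩ := conj_into_sec U hmaxG h3
      have hin : k * x ^ b * k⁻¹ ∈ N := by
        rcases hk with hk | ⟨h4, hk⟩
        · exact hZN hk
        · -- the second centre lies in `N`
          haveI hZn : ((ctr P0).subgroupOf P0).Normal :=
            PGroups.normal_of_le_center fun v hv => mem_center_iff.2 fun w =>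
              Subtype.ext ((mem_ctr.1 (mem_subgroupOf.1 hv)).2 w w.2)
          set q := QuotientGroup.mk' ((ctr P0).subgroupOf P0)
          haveI : ((N.subgroupOf P0).map q).Normal :=
            Subgroup.Normal.map inferInstance q (QuotientGroup.mk'_surjective _)
          have hne : (N.subgroupOf P0).map q ≠ ⊥ := by
            rw [Ne, Subgroup.map_eq_bot_iff, QuotientGroup.ker_mk']
            exact fun h => hnle fun v hv => mem_subgroupOf.1 (h (x := ⟨v, hv.1⟩) hv.2)
          obtain ⟨s, hs⟩ := (Subgroup.ne_bot_iff_exists_ne_one).1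
            (PGroups.inf_center_ne_bot (hPp.to_quotient _) _ hne)
          obtain ⟨⟨hsN, hsc⟩, hs1⟩ :=
            (⟨s.2, hs⟩ : (s : P0 ⧸ _) ∈ (N.subgroupOf P0).map q ⊓ center _ ∧ s ≠ 1)
          obtain ⟨t, htN, hts⟩ := hsN
          have htsec : (t : G) ∈ sec P0 := ⟨t.2, fun a ha => by
            have h : ⁅t, (⟨a, ha⟩ : P0)⁆ ∈ (ctr P0).subgroupOf P0 := (QuotientGroup.eq_one_iff _).1 (by
              show q _ = 1
              rw [map_commutatorElement, commutatorElement_eq_one_iff_mul_comm, hts]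
              exact (mem_center_iff.1 hsc _).symm)
            exact mem_subgroupOf.1 h⟩
          have htZ : (t : G) ∉ Z := fun h => hs1 (Subtype.ext (by
            rw [← hts]
            exact (QuotientGroup.eq_one_iff t).2 (mem_subgroupOf.2 h)))
          have hsecN : sec P0 ≤ N := by
            have hle : Z < Z ⊔ zpowers (t : G) := lt_of_le_of_ne le_sup_left fun h =>
              htZ (h ▸ mem_sup_right (mem_zpowers _))
            have hle2 : Z ⊔ zpowers (t : G) ≤ sec P0 := sup_le (ctr_le_sec _) (zpowers_le.2 htsec)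
            have hc2 := (U.card_sec h4).1
            obtain ⟨i, hi, hic⟩ := (Nat.dvd_prime_pow hp.out).1 (hc2 ▸ card_dvd_of_le hle2)
            have h1 : Nat.card Z < Nat.card ↥(Z ⊔ zpowers (t : G)) := by
              by_contra h
              exact hle.ne (Subgroup.eq_of_le_of_card_ge hle.le (not_lt.1 h))
            rw [hZc, hic] at h1
            have hi2 : i = 2 := by
              by_contra h
              exact absurd h1 (not_lt.2 (by simpa using Nat.pow_le_pow_right hp.out.pos (show i ≤ 1 by omega)))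
            rw [← Subgroup.eq_of_le_of_card_ge hle2 (by rw [hic, hc2, hi2])]
            exact sup_le hZN (zpowers_le.2 (mem_subgroupOf.1 htN))
          exact hsecN hk
      have hxb : x ^ b ∈ N := by
        have := hN.conj_mem _ hin k⁻¹
        simpa [mul_assoc] using this
      exact hxR ⟨U.mem, U.pow_x_mem hb hxb⟩
    have hsmall : ∀ Q : Subgroup G, IsPGroup p Q → Q ≤ N → Nat.card Q ≤ p := by
      intro Q hQ hQN
      obtain ⟨k, hk⟩ := hinto N hN Q hQ hQN
      rw [← hZc, ← card_map_of_injective (K := Q) (f := (MulAut.conj k).toMonoidHom) (MulAut.conj k).injective]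
      refine card_le_of_le ?_
      rintro _ ⟨a, ha, rfl⟩
      show _ ∈ Z
      exact hR.le (by simpa [MulAut.conj_apply] using hk a ha)
    have hp2 : ¬ p ^ 2 ∣ Nat.card N := by
      intro h
      obtain ⟨Q, hQ⟩ := Sylow.exists_subgroup_card_pow_prime p h
      have := hsmall (Q.map N.subtype) ((IsPGroup.of_card hQ).map _) (map_subtype_le _)
      rw [card_map_of_injective N.subtype_injective, hQ] at this
      exact absurd this (not_le.2 (by simpa using Nat.pow_lt_pow_right hp.out.one_lt (show 1 < 2 by omega)))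
    -- Burnside transfer in `N`
    have hfN : (Nat.card N).factorization p = 1 := by
      have h1 : 1 ≤ (Nat.card N).factorization p := by
        rw [← hp.out.pow_dvd_iff_le_factorization Nat.card_pos.ne', pow_one]; exact hpN
      rw [hp.out.pow_dvd_iff_le_factorization Nat.card_pos.ne'] at hp2
      omega
    let ZN : Sylow p N := Sylow.ofCard (Z.subgroupOf N) (by
      rw [Nat.card_congr (subgroupOfEquivOfLe hZN).toEquiv, hZc, hfN, pow_one])
    have hnc : normalizer ((ZN : Subgroup N) : Set N) ≤ centralizer ((ZN : Subgroup N) : Set N) := by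
      intro a ha
      have hga : (a : G) ∈ normalizer (Z : Set G) := by
        refine mem_normalizer_iff.2 fun z => ⟨fun hz => ?_, fun hz => ?_⟩
        · exact mem_subgroupOf.1 ((mem_normalizer_iff.1 ha ⟨z, hZN hz⟩).1 (mem_subgroupOf.2 hz))
        · have hzN : z ∈ N := by
            have := mul_mem (mul_mem (inv_mem a.2) (hZN hz)) a.2
            simpa [mul_assoc] using this
          exact mem_subgroupOf.1 ((mem_normalizer_iff.1 ha ⟨z, hzN⟩).2 (mem_subgroupOf.2 hz))
      have := normalizer_centralizes P0 N Z (ctr_le _) hZN (fun u hu z hz => (mem_ctr.1 hz).2 u hu) hZc hZd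
        hsmall hp2 a.2 hga
      exact mem_centralizer_iff.2 fun z hz =>
        Subtype.ext (mem_centralizer_iff.1 this _ (mem_subgroupOf.1 hz))
    set K := (MonoidHom.transferSylow ZN hnc).ker
    have hKd : ¬ p ∣ Nat.card K := MonoidHom.not_dvd_card_ker_transferSylow ZN hnc
    have hKN : (K.map N.subtype).Normal := by
      refine ⟨fun v hv g => ?_⟩
      obtain ⟨a, ha, rfl⟩ := hv
      have hcj : g * (a : G) * g⁻¹ ∈ N := hN.conj_mem a a.2 g
      refine ⟨⟨_, hcj⟩, ?_, rfl⟩
      have hord : (orderOf a).Coprime p :=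
        Nat.Coprime.coprime_dvd_left (Subgroup.orderOf_dvd_natCard K ha) ((hp.out.coprime_iff_not_dvd.2 hKd).symm)
      have hord' : orderOf (⟨_, hcj⟩ : N) = orderOf a := by
        rw [← orderOf_coe, ← orderOf_coe a]
        exact (MulEquiv.orderOf_eq (MulAut.conj g) (a : G))
      set f := MonoidHom.transferSylow ZN hnc
      obtain ⟨i, hi⟩ := (ZN.2 (f ⟨_, hcj⟩))
      have h1 : orderOf (f ⟨_, hcj⟩) ∣ orderOf a := hord' ▸ orderOf_map_dvd f _
      have h2 : orderOf (f ⟨_, hcj⟩) = 1 :=
        Nat.eq_one_of_dvd_coprimes (Nat.Coprime.pow_right i hord) h1 (orderOf_dvd_of_pow_eq_one hi)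
      exact MonoidHom.mem_ker.2 (orderOf_eq_one_iff.1 h2)
    have hKb : K = ⊥ := by
      refine (Subgroup.map_eq_bot_iff_of_injective _ N.subtype_injective).1
        (le_bot_iff.1 (hcore ▸ le_sSup ⟨hKN, ?_⟩))
      rw [card_map_of_injective N.subtype_injective]
      exact ((hp.out.coprime_iff_not_dvd).2 hKd).symm
    have hcomp := MonoidHom.ker_transferSylow_isComplement' ZN hnc
    rw [show (MonoidHom.transferSylow ZN hnc).ker = ⊥ from hKb, Subgroup.isComplement'_bot_left] at hcomp
    exact (le_antisymm hZN (subgroupOf_eq_top.1 hcomp)).symm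
  have hZcen : Z.Normal → Z ≤ center G := by
    intro h
    haveI := h
    have htop := hres (centralizer (Z : Set G)) inferInstance (by
      refine Nat.Coprime.coprime_dvd_left (Subgroup.index_dvd_of_le ?_)
        ((hp.out.coprime_iff_not_dvd.2 P.not_dvd_index).symm)
      exact fun v hv => mem_centralizer_iff.2 fun z hz => ((mem_ctr.1 hz).2 v hv).symm)
    exact Subgroup.centralizer_eq_top_iff_subset.1 htop
  have hnab : center G ≠ ⊤ := fun h => U0.not_mem_ctr (mem_ctr.2 ⟨U0.mem, fun w _ =>
    mem_center_iff.1 (h ▸ mem_top x0) w⟩)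
  have hcen : Nat.card (center G) ≤ p := by
    by_cases hb : center G = ⊥
    · rw [hb, Subgroup.card_bot]; exact hp.out.one_lt.le
    · rw [hNZ _ inferInstance hnab hb, hZc]
  have hprop : ∀ N : Subgroup G, N.Normal → N ≠ ⊤ → N ≤ center G := by
    intro N hN hNt
    by_cases hb : N = ⊥
    · rw [hb]; exact bot_le
    · obtain rfl := hNZ N hN hNt hb
      exact hZcen hN
  refine ⟨⟨?_, ?_⟩, hcen⟩
  · rw [Group.isPerfect_def]
    by_contra hM
    have hMc := hprop (commutator G) inferInstance hM
    set J := (P0.map (QuotientGroup.mk' (commutator G))).comap (QuotientGroup.mk' (commutator G))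
    have hJn : J.Normal := by
      haveI : (P0.map (QuotientGroup.mk' (commutator G))).Normal := ⟨fun a ha g => by
        have hc : g * a = a * g := by
          induction a using QuotientGroup.induction_on with
          | H a =>
            induction g using QuotientGroup.induction_on with
            | H g =>
              rw [← QuotientGroup.mk_mul, ← QuotientGroup.mk_mul, QuotientGroup.eq]
              rw [show (g * a)⁻¹ * (a * g) = ⁅a⁻¹, g⁻¹⁆ by simp only [commutatorElement_def]; group]
              exact commutator_mem_commutator (mem_top _) (mem_top _)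
        rwa [hc, mul_inv_cancel_right]⟩
      exact Subgroup.normal_comap _
    have hJ : J = ⊤ := hres J hJn (Nat.Coprime.coprime_dvd_left (Subgroup.index_dvd_of_le (le_comap_map _ _))
      ((hp.out.coprime_iff_not_dvd.2 P.not_dvd_index).symm))
    by_cases hb : commutator G = ⊥
    · refine hnab (eq_top_iff.2 fun a _ => mem_center_iff.2 fun g => ?_)
      rw [← commutatorElement_eq_one_iff_mul_comm, ← Subgroup.mem_bot, ← hb]
      exact commutator_mem_commutator (mem_top _) (mem_top _)
    · have hZ' := hNZ _ inferInstance hM hb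
      have hP' : P0 = ⊤ := by
        rw [← hJ]
        show P0 = (P0.map _).comap _
        rw [comap_map_eq, QuotientGroup.ker_mk', hZ', sup_eq_left.2 (ctr_le _)]
      refine hno ⟨x0, U0.mem, ?_⟩
      have e : centralizer ({x0} : Set G) = cen P0 x0 := by rw [cen, hP', top_inf_eq]
      rw [e, U0.card_cen, Nat.factorization_pow]
      simp [hp.out.factorization_self]
  · haveI : Nontrivial (G ⧸ center G) := QuotientGroup.nontrivial_iff.2 hnab
    refine ⟨fun H hH => ?_⟩
    by_cases ht : H = ⊤
    · exact Or.inr ht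
    left
    have hc := hprop (H.comap (QuotientGroup.mk' (center G))) inferInstance fun h => ht (by
      rw [← map_comap_eq_self_of_surjective (QuotientGroup.mk'_surjective (center G)) H, h,
        Subgroup.map_top_of_surjective _ (QuotientGroup.mk'_surjective _)])
    rw [← map_comap_eq_self_of_surjective (QuotientGroup.mk'_surjective (center G)) H,
      Subgroup.map_eq_bot_iff, QuotientGroup.ker_mk']
    exact hc

/-- Let G be a finite group whose Sylow p-subgroup P has order p ^ n with n ≥ 2 and nilpotency class n - 1 (maximal class), whose largest normal subgroup of order prime to p is trivial, and which has no proper normal subgroup of index prime to p. Then either some x ∈ P has a centralizer in G whose order has p-part p ^ 2, or G is quasisimple with centre of order at most p. -/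
theorem result {G : Type*} [Group G] [Finite G] (p : ℕ) [Fact p.Prime] (P : Sylow p G) (n : ℕ) (hP : Nat.card P = p ^ n) (hn : 2 ≤ n) (hmax : Group.nilpotencyClass ↥(P : Subgroup G) = n - 1) (hcore : Cfsg.pPrimeCore p G = ⊥) (hres : ∀ N : Subgroup G, N.Normal → (N.index).Coprime p → N = ⊤) : (∃ x ∈ (P : Subgroup G), (Nat.card (Subgroup.centralizer ({x} : Set G))).factorization p = 2) ∨ (Cfsg.IsQuasisimple G ∧ Nat.card (Subgroup.center G) ≤ p) :=
  or_iff_not_imp_left.2 fun h => main P n hP hn hmax hcore hres h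

end Cfsg.Agent.S3865
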