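import Cfsg.Statements.S3867

set_option autoImplicit false
open Cfsg

namespace Cfsg.Agent.S3867

/-- Let M and N be nontrivial normal subgroups of the finite group G with M ⊓ N trivial, and let p be a prime. Writing n(X) for the number of Sylow p-subgroups of a group X, one has n(G) · n(G/MN) = n(G/M) · n(G/N). -/
theorem result {G : Type*} [Group G] [Finite G] (p : ℕ) [Fact p.Prime] (M N : Subgroup G) [M.Normal] [N.Normal] (hM : M ≠ ⊥) (hN : N ≠ ⊥) (hMN : M ⊓ N = ⊥) : Nat.card (Sylow p G) * Nat.card (Sylow p (G ⧸ (M ⊔ N))) = Nat.card (Sylow p (G ⧸ M)) * Nat.card (Sylow p (G ⧸ N)) := by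
  obtain ⟨P⟩ : Nonempty (Sylow p G) := inferInstance
  set A := Subgroup.normalizer ((P : Subgroup G) : Set G) with hA
  have hnorm : ∀ K : Subgroup G, K.Normal →
      Subgroup.normalizer (((P : Subgroup G) ⊔ K : Subgroup G) : Set G) = A ⊔ K := by
    intro K hK
    refine le_antisymm ?_ (sup_le ?_ ?_)
    · set U := Subgroup.normalizer (((P : Subgroup G) ⊔ K : Subgroup G) : Set G)
      have hle : (P : Subgroup G) ⊔ K ≤ U := Subgroup.le_normalizer
      have hPU : (P : Subgroup G) ≤ U := le_sup_left.trans hle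
      haveI : (((P : Subgroup G) ⊔ K).subgroupOf U).Normal := Subgroup.normal_in_normalizer
      have h := Sylow.normalizer_sup_eq_top' (P.subtype hPU) (N := ((P : Subgroup G) ⊔ K).subgroupOf U)
        (fun x hx => Subgroup.mem_sup_left hx)
      intro g hg
      obtain ⟨a, ha, b, hb, hab⟩ := Subgroup.mem_sup_of_normal_right.1 (h ▸ Subgroup.mem_top (⟨g, hg⟩ : U))
      have hg' : (a : G) * (b : G) = g := congrArg Subtype.val hab
      have ha' : (a : G) ∈ A := by
        rw [hA, Subgroup.mem_normalizer_iff]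
        intro x
        constructor
        · intro hx
          exact (Subgroup.mem_normalizer_iff.1 ha ⟨x, hPU hx⟩).1 hx
        · intro hx
          have hxU : x ∈ U := by
            have : (a : G)⁻¹ * ((a : G) * x * (a : G)⁻¹) * (a : G) ∈ U :=
              U.mul_mem (U.mul_mem (U.inv_mem a.2) (hPU hx)) a.2
            simpa [mul_assoc] using this
          exact (Subgroup.mem_normalizer_iff.1 ha ⟨x, hxU⟩).2 hx
      rw [← hg']
      have hb' : (b : G) ∈ A ⊔ K := sup_le_sup_right Subgroup.le_normalizer K hb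
      exact (A ⊔ K).mul_mem (Subgroup.mem_sup_left ha') hb'
    · intro a ha
      rw [Subgroup.mem_normalizer_iff_map_conj_eq]
      rw [Subgroup.map_sup, Subgroup.mem_normalizer_iff_map_conj_eq.1 ha,
        Subgroup.mem_normalizer_iff_map_conj_eq.1 (show a ∈ Subgroup.normalizer (K : Set G) by
          rw [Subgroup.normalizer_eq_top_iff.2 hK]; trivial)]
    · exact le_sup_right.trans Subgroup.le_normalizer
  have hn : ∀ (K : Subgroup G) [K.Normal], Nat.card (Sylow p (G ⧸ K)) = (A ⊔ K).index := by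
    intro K _
    have hs := QuotientGroup.mk'_surjective K
    have e : Nat.card (Sylow p (G ⧸ K)) = (Subgroup.normalizer
        (((P : Subgroup G).map (QuotientGroup.mk' K) : Subgroup (G ⧸ K)) : Set (G ⧸ K))).index := by
      rw [← Sylow.coe_mapSurjective hs P]; exact (P.mapSurjective hs).card_eq_index_normalizer
    rw [e, ← Subgroup.index_comap_of_surjective _ hs,
      Subgroup.comap_normalizer_eq_of_surjective _ hs, Subgroup.comap_map_eq,
      QuotientGroup.ker_mk', hnorm K inferInstance]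
  have hpg : ∀ (K : Subgroup G) [K.Normal], ∀ x ∈ (P : Subgroup G) ⊔ K, ∃ i : ℕ, x ^ p ^ i ∈ K := by
    intro K _ x hx
    have hm : QuotientGroup.mk' K x ∈ (P : Subgroup G).map (QuotientGroup.mk' K) := by
      rw [← Subgroup.mem_comap, Subgroup.comap_map_eq, QuotientGroup.ker_mk']; exact hx
    obtain ⟨i, hi⟩ := (P.2.map (QuotientGroup.mk' K)) ⟨_, hm⟩
    have hi' : QuotientGroup.mk' K x ^ p ^ i = 1 := congrArg Subtype.val hi
    rw [← map_pow, QuotientGroup.mk'_apply, QuotientGroup.eq_one_iff] at hi'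
    exact ⟨i, hi'⟩
  have hD : ((P : Subgroup G) ⊔ M) ⊓ ((P : Subgroup G) ⊔ N) = P := by
    refine P.is_maximal' ?_ (le_inf le_sup_left le_sup_left)
    rintro ⟨x, hxM, hxN⟩
    obtain ⟨i, hi⟩ := hpg M x hxM
    obtain ⟨j, hj⟩ := hpg N x hxN
    refine ⟨i + j, Subtype.ext ?_⟩
    have h1 : x ^ p ^ (i + j) ∈ M := by rw [pow_add, pow_mul]; exact M.pow_mem hi _
    have h2 : x ^ p ^ (i + j) ∈ N := by rw [pow_add, mul_comm, pow_mul]; exact N.pow_mem hj _
    exact Subgroup.mem_bot.1 (hMN ▸ ⟨h1, h2⟩)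
  have hAint : (A ⊔ M) ⊓ (A ⊔ N) = A := by
    refine le_antisymm ?_ (le_inf le_sup_left le_sup_left)
    rintro g ⟨hgM, hgN⟩
    rw [← hnorm M inferInstance] at hgM
    rw [← hnorm N inferInstance] at hgN
    rw [hA, Subgroup.mem_normalizer_iff]
    intro x
    conv_lhs => rw [← hD]
    conv_rhs => rw [← hD]
    exact and_congr (Subgroup.mem_normalizer_iff.1 hgM x) (Subgroup.mem_normalizer_iff.1 hgN x)
  have hrel : ∀ X : Subgroup G, (X.relIndex (X ⊔ M)) * Nat.card X = M.relIndex X * Nat.card M := by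
    intro X
    have h1 : Nat.card ↥(X ⊔ M) = Nat.card M * M.relIndex (X ⊔ M) := by
      rw [← Subgroup.relIndex_bot_left, ← Subgroup.relIndex_bot_left M,
        Subgroup.relIndex_mul_relIndex _ _ _ bot_le le_sup_right]
    have h2 : Nat.card ↥(X ⊔ M) = Nat.card X * X.relIndex (X ⊔ M) := by
      rw [← Subgroup.relIndex_bot_left, ← Subgroup.relIndex_bot_left X,
        Subgroup.relIndex_mul_relIndex _ _ _ bot_le le_sup_left]
    rw [Subgroup.relIndex_sup_right, h2] at h1
    linarith
  have hinf : (A ⊔ N) ⊓ M = A ⊓ M := le_antisymm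
    (le_inf ((le_inf ((inf_le_right).trans le_sup_right) inf_le_left).trans hAint.le) inf_le_right)
    (inf_le_inf_right M le_sup_left)
  have hcard : ∀ X : Subgroup G, Nat.card X = Nat.card ↥(X ⊓ M) * M.relIndex X := by
    intro X
    rw [← Subgroup.relIndex_bot_left, ← Subgroup.relIndex_bot_left (X ⊓ M), inf_comm X M,
      ← Subgroup.inf_relIndex_right M X, Subgroup.relIndex_mul_relIndex _ _ _ bot_le inf_le_right]
  have key : A.relIndex (A ⊔ M) = (A ⊔ N).relIndex (A ⊔ N ⊔ M) := by
    have e : ∀ X : Subgroup G, X.relIndex (X ⊔ M) * Nat.card ↥(X ⊓ M) = Nat.card M := by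
      intro X
      have := hrel X
      rw [hcard X] at this
      have hpos : 0 < M.relIndex X := Nat.pos_of_ne_zero Subgroup.FiniteIndex.index_ne_zero
      nlinarith
    refine Nat.eq_of_mul_eq_mul_right (Nat.card_pos (α := ↥(A ⊓ M))) ?_
    rw [e A, ← hinf, e (A ⊔ N)]
  haveI : (M ⊔ N).Normal := inferInstance
  rw [hn (M ⊔ N), hn M, hn N, show Nat.card (Sylow p G) = A.index from P.card_eq_index_normalizer,
    ← Subgroup.relIndex_mul_index (le_sup_left : A ≤ A ⊔ M),
    ← Subgroup.relIndex_mul_index (show A ⊔ N ≤ A ⊔ N ⊔ M from le_sup_left), key,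
    show A ⊔ (M ⊔ N) = A ⊔ N ⊔ M by rw [sup_assoc, sup_comm M N]]
  ring

end Cfsg.Agent.S3867
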