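import Cfsg.Statements.S3869
import Cfsg.Agent.Arith.IrredCyclic
-- import your own Cfsg.Agent.* helpers here

set_option autoImplicit false
open Cfsg

namespace Cfsg.Agent.S3869

variable {G : Type*} [Group G] [Finite G] {p q : ℕ} [Fact p.Prime]

lemma isPClosed_of_not_dvd {H : Type*} [Group H] [Finite H] (h : ¬ p ∣ Nat.card H) :
    IsPClosed p H := fun P => by
  have : Nat.card P = 1 := by
    obtain ⟨k, hk⟩ := P.isPGroup'.exists_card_eq
    rcases k.eq_zero_or_pos with rfl | hk'
    · simpa using hk
    · exact absurd ((hk ▸ dvd_pow_self p hk'.ne').trans (Subgroup.card_subgroup_dvd_card _)) h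
  rw [Subgroup.eq_bot_of_card_eq _ this]
  infer_instance

lemma isPClosed_of_isPGroup {H : Type*} [Group H] [Finite H] (h : IsPGroup p H) :
    IsPClosed p H := fun P => by
  obtain ⟨k, hk⟩ := h.exists_card_eq
  rw [show (P : Subgroup H) = ⊤ from
    (P.is_maximal' (Q := ⊤) (h.to_subgroup _) le_top).symm]
  infer_instance

lemma main (hq : q.Prime) (hpq : q ≠ p)
    (hna : ¬ IsMulCommutative G) (A : Subgroup G) [A.Normal] (hA : Cfsg.IsElementaryAbelian q A)
    (hidx : A.index = p) (hmin : ∀ B : Subgroup G, B.Normal → B ≤ A → B = ⊥ ∨ B = A) :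
    Nat.card ↥A = q ^ orderOf (q : ZMod p) ∧ ¬ Cfsg.IsPClosed p G ∧
      (∀ H : Subgroup G, H ≠ ⊤ → Cfsg.IsPClosed p ↥H) ∧
      ∀ (N : Subgroup G) [N.Normal], N ≠ ⊥ → Cfsg.IsPClosed p (G ⧸ N) := by
  have hp : p.Prime := Fact.out
  have := Fact.mk hq
  obtain ⟨hAc, hAq⟩ := hA
  have hcomm : ∀ a ∈ A, ∀ b ∈ A, a * b = b * a := fun a ha b hb =>
    congrArg Subtype.val (hAc.is_comm.comm ⟨a, ha⟩ ⟨b, hb⟩)
  have hAcard : Nat.card A * p = Nat.card G := hidx ▸ A.card_mul_index
  -- an element outside `A` generates `G` over `A`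
  have hgen : ∀ y ∉ A, A ⊔ Subgroup.zpowers y = ⊤ := by
    intro y hy
    have h1 : (A ⊔ Subgroup.zpowers y).index ∣ p :=
      hidx ▸ Subgroup.index_dvd_of_le le_sup_left
    rcases (Nat.dvd_prime hp).1 h1 with h | h
    · exact Subgroup.index_eq_one.1 h
    · have heq : A = A ⊔ Subgroup.zpowers y := by
        refine Subgroup.eq_of_le_of_card_ge le_sup_left (le_of_eq ?_)
        have h2 := (A ⊔ Subgroup.zpowers y).card_mul_index
        rw [h, ← hAcard] at h2
        exact Nat.eq_of_mul_eq_mul_right hp.pos h2
      exact absurd (heq ▸ Subgroup.mem_sup_right (Subgroup.mem_zpowers y)) hy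
  -- elements outside `A` act without fixed points
  have hfix : ∀ y ∉ A, ∀ a ∈ A, a * y = y * a → a = 1 := by
    intro y hy a ha hay
    have hcen : ∀ g : G, a * g = g * a := by
      have hle : A ⊔ Subgroup.zpowers y ≤ Subgroup.centralizer {a} := by
        refine sup_le (fun b hb => Subgroup.mem_centralizer_singleton_iff.2 (hcomm b hb a ha)) ?_
        rw [Subgroup.zpowers_le, Subgroup.mem_centralizer_singleton_iff]; exact hay.symm
      intro g
      exact (Subgroup.mem_centralizer_singleton_iff.1 (hle (hgen y hy ▸ Subgroup.mem_top g))).symm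
    have hC : (Subgroup.center G ⊓ A).Normal := inferInstance
    rcases hmin _ hC inf_le_right with h | h
    · exact (Subgroup.mem_bot).1 (h ▸ Subgroup.mem_inf.2
        ⟨Subgroup.mem_center_iff.2 fun g => (hcen g).symm, ha⟩)
    · exfalso
      apply hna
      have hAz : A ≤ Subgroup.center G := h ▸ inf_le_left
      have hle : A ⊔ Subgroup.zpowers y ≤ Subgroup.center G := by
        refine sup_le hAz ?_
        rw [Subgroup.zpowers_le, Subgroup.mem_center_iff]
        intro g
        have hmem : g ∈ A ⊔ Subgroup.zpowers y := hgen y hy ▸ Subgroup.mem_top g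
        have hle2 : A ⊔ Subgroup.zpowers y ≤ Subgroup.centralizer {y} :=
          sup_le (fun b hb => Subgroup.mem_centralizer_singleton_iff.2
            (Subgroup.mem_center_iff.1 (hAz hb) y).symm)
            (Subgroup.zpowers_le.2 (Subgroup.mem_centralizer_singleton_iff.2 rfl))
        exact Subgroup.mem_centralizer_singleton_iff.1 (hle2 hmem)
      exact ⟨⟨fun u v => Subgroup.mem_center_iff.1 (hle (hgen y hy ▸ Subgroup.mem_top v)) u⟩⟩
  have hAnt : A ≠ ⊥ := by
    intro h
    have hc : Nat.card G = p := by rw [← hAcard, h, Subgroup.card_bot, one_mul]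
    have := isCyclic_of_prime_card hc
    exact hna IsCyclic.isMulCommutative
  obtain ⟨x, hx⟩ := exists_prime_orderOf_dvd_card' (G := G) p (hAcard ▸ dvd_mul_left p _)
  have hxA : x ∉ A := by
    intro h
    have hd : p ∣ q := hx ▸ orderOf_dvd_of_pow_eq_one (hAq x h)
    exact hpq ((Nat.prime_dvd_prime_iff_eq hp hq).1 hd).symm
  -- the order of `A`
  have hcard : Nat.card A = q ^ orderOf (q : ZMod p) := by
    have : Nontrivial A := (Subgroup.nontrivial_iff_ne_bot A).2 hAnt
    letI : CommGroup A := { (inferInstance : Group A) with mul_comm := hAc.is_comm.comm }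
    let f : ↥A →* ↥A :=
      { toFun := fun a => ⟨x * a * x⁻¹, ‹A.Normal›.conj_mem _ a.2 x⟩
        map_one' := Subtype.ext (by simp)
        map_mul' := fun a b => Subtype.ext (by simp [mul_assoc]) }
    let T : AddMonoid.End (Additive A) := MonoidHom.toAdditive f
    have hTn : ∀ (n : ℕ) (v : A), (Additive.toMul ((T ^ n) (Additive.ofMul v)) : A).1
        = x ^ n * v * (x ^ n)⁻¹ := by
      intro n
      induction n with
      | zero => intro v; simp
      | succ n ih =>
        intro v
        rw [pow_succ]
        show (Additive.toMul ((T ^ n) (Additive.ofMul (f v))) : A).1 = _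
        rw [ih (f v)]
        show x ^ n * (x * v * x⁻¹) * (x ^ n)⁻¹ = _
        rw [pow_succ]; group
    have hres := Arith.card_eq_pow_orderOf (V := Additive A) (p := p) hq hpq
      (fun v => by
        show Additive.ofMul ((Additive.toMul v) ^ q) = 0
        rw [show (Additive.toMul v : A) ^ q = 1 from Subtype.ext (hAq _ (Additive.toMul v).2)]
        rfl) T ?_ ?_ ?_
    · exact (Nat.card_congr Additive.toMul).symm.trans hres
    · refine DFunLike.ext _ _ fun v => ?_
      apply Additive.toMul.injective
      refine Subtype.ext ((hTn p (Additive.toMul v)).trans ?_)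
      rw [← hx, pow_orderOf_eq_one]; simp
    · intro h
      obtain ⟨a, ha, ha1⟩ := (Subgroup.ne_bot_iff_exists_ne_one.1 hAnt).elim
        (fun a ha => (⟨a.1, a.2, fun h => ha (Subtype.ext h)⟩ : ∃ a, a ∈ A ∧ a ≠ 1))
      apply ha1
      apply hfix x hxA a ha
      have h1 := hTn 1 ⟨a, ha⟩
      rw [pow_one, h] at h1
      simp only [pow_one] at h1
      have h2 : a = x * a * x⁻¹ := h1
      conv_lhs => rw [h2]
      group
    · intro W hW
      let B : Subgroup G := (W.toSubgroup'.map A.subtype)
      have hxB : ∀ b ∈ B, x * b * x⁻¹ ∈ B := by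
        rintro _ ⟨a, ha, rfl⟩
        exact ⟨f a, hW _ ha, rfl⟩
      have hBA : B ≤ A := Subgroup.map_subtype_le _
      have hBn : B.Normal := by
        rw [← Subgroup.normalizer_eq_top_iff, eq_top_iff, ← hgen x hxA]
        refine sup_le (fun a ha => ?_) (Subgroup.zpowers_le.2 ?_)
        · rw [Subgroup.mem_normalizer_iff]
          intro b
          constructor
          · intro hb; rwa [hcomm a ha b (hBA hb), mul_inv_cancel_right]
          · intro hb
            have h1 := hcomm a ha _ (hBA hb)
            have h2 : b = a * b * a⁻¹ := by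
              have : a * (a * b * a⁻¹) = a * b := by rw [h1]; group
              exact (mul_left_cancel this).symm
            rwa [h2]
        · rw [Subgroup.mem_normalizer_iff]
          intro b
          refine ⟨hxB b, fun hb => ?_⟩
          have hinj : Function.Surjective (fun b : B => (⟨x * b * x⁻¹, hxB b b.2⟩ : B)) :=
            Finite.injective_iff_surjective.1 fun u v huv => Subtype.ext (by simpa using huv)
          obtain ⟨c, hc⟩ := hinj ⟨_, hb⟩
          have : (c : G) = b := by simpa using congrArg Subtype.val hc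
          exact this ▸ c.2
      rcases hmin B hBn hBA with h | h
      · left
        rw [eq_bot_iff]
        intro w hw
        have : ((Additive.toMul w : A) : G) ∈ B := ⟨_, hw, rfl⟩
        rw [h, Subgroup.mem_bot, OneMemClass.coe_eq_one] at this
        exact (AddSubgroup.mem_bot).2 this
      · right
        rw [eq_top_iff]
        intro w _
        have : ((Additive.toMul w : A) : G) ∈ B := h.symm ▸ (Additive.toMul w).2
        obtain ⟨a, ha, hae⟩ := this
        obtain rfl : a = Additive.toMul w := Subtype.ext hae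
        exact ha
  refine ⟨hcard, fun hc => ?_, fun H hH => ?_, fun N _ hN => ?_⟩
  · obtain ⟨S, hS⟩ := (IsPGroup.of_card (n := 1) (by rw [Nat.card_zpowers, hx, pow_one]) :
      IsPGroup p (Subgroup.zpowers x)).exists_le_sylow
    obtain ⟨a, ha1⟩ := Subgroup.ne_bot_iff_exists_ne_one.1 hAnt
    have hdis : Disjoint A (S : Subgroup G) := IsPGroup.disjoint_of_ne q p hpq _ _
      (fun b => ⟨1, Subtype.ext (by simpa using hAq b b.2)⟩) S.isPGroup'
    exact ha1 (Subtype.ext (hfix x hxA a a.2
      (Subgroup.commute_of_normal_of_disjoint _ _ ‹_› (hc S) hdis a x a.2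
        (hS (Subgroup.mem_zpowers x)))))
  · by_cases hd : p ∣ Nat.card H
    · obtain ⟨y, hy⟩ := exists_prime_orderOf_dvd_card' (G := H) p hd
      have hyA : (y : G) ∉ A := by
        intro h
        have : orderOf (y : G) ∣ q := orderOf_dvd_of_pow_eq_one (hAq _ h)
        rw [Subgroup.orderOf_coe, hy] at this
        exact hpq ((Nat.prime_dvd_prime_iff_eq hp hq).1 this).symm
      have hn : (H ⊓ A).Normal := by
        rw [← Subgroup.normalizer_eq_top_iff, eq_top_iff, ← hgen _ hyA]
        refine sup_le (fun a ha => ?_) (Subgroup.zpowers_le.2 ?_)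
        · rw [Subgroup.mem_normalizer_iff]
          intro b
          constructor
          · rintro ⟨h1, h2⟩
            rw [hcomm a ha b h2, mul_inv_cancel_right]; exact ⟨h1, h2⟩
          · rintro ⟨h1, h2⟩
            have hb : b ∈ A := by
              have := ‹A.Normal›.conj_mem _ h2 a⁻¹
              simpa [mul_assoc] using this
            rw [hcomm a ha b hb, mul_inv_cancel_right] at h1
            exact ⟨h1, hb⟩
        · rw [Subgroup.mem_normalizer_iff]
          intro b
          constructor
          · rintro ⟨h1, h2⟩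
            exact ⟨H.mul_mem (H.mul_mem y.2 h1) (H.inv_mem y.2), ‹A.Normal›.conj_mem _ h2 _⟩
          · rintro ⟨h1, h2⟩
            refine ⟨?_, by simpa [mul_assoc] using ‹A.Normal›.conj_mem _ h2 (y : G)⁻¹⟩
            simpa [mul_assoc] using H.mul_mem (H.mul_mem (H.inv_mem y.2) h1) y.2
      rcases hmin _ hn inf_le_right with h | h
      · refine isPClosed_of_isPGroup (IsPGroup.of_card (n := 1) ?_)
        rw [pow_one]
        refine Nat.dvd_antisymm ?_ hd
        have hinj : Function.Injective ((QuotientGroup.mk' A).comp H.subtype) := by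
          rw [← MonoidHom.ker_eq_bot_iff, eq_bot_iff]
          intro u hu
          have : (u : G) ∈ H ⊓ A := ⟨u.2, (QuotientGroup.eq_one_iff _).1 hu⟩
          rw [h, Subgroup.mem_bot] at this
          exact Subgroup.mem_bot.2 (Subtype.ext this)
        rw [← hidx, Subgroup.index]
        exact Subgroup.card_dvd_of_injective _ hinj
      · refine absurd (top_le_iff.1 ?_) hH
        rw [← hgen _ hyA]
        exact sup_le (h ▸ inf_le_left) (Subgroup.zpowers_le.2 y.2)
    · exact isPClosed_of_not_dvd hd
  · have hAN : A ≤ N := by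
      rcases hmin _ (inferInstance : (N ⊓ A).Normal) inf_le_right with h | h
      · exfalso
        apply hN
        rw [eq_bot_iff]
        intro n hn
        by_cases hnA : n ∈ A
        · exact h ▸ ⟨hn, hnA⟩
        · obtain ⟨a, ha1⟩ := Subgroup.ne_bot_iff_exists_ne_one.1 hAnt
          exact absurd (Subtype.ext (hfix n hnA a a.2
            (Subgroup.commute_of_normal_of_disjoint A N ‹_› ‹_›
              (disjoint_iff.2 (inf_comm A N ▸ h)) a n a.2 hn))) ha1
      · exact h ▸ inf_le_left
    have hd : Nat.card (G ⧸ N) ∣ p := hidx ▸ Subgroup.index_dvd_of_le hAN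
    obtain ⟨k, -, hk⟩ := (Nat.dvd_prime_pow hp (m := 1)).1 (by simpa using hd)
    exact isPClosed_of_isPGroup (IsPGroup.of_card hk)

/-- Let p and q be distinct primes and G a finite non-abelian group with a normal elementary abelian q-subgroup A that is a minimal normal subgroup of G and has index p. Then A has order q^e with e the multiplicative order of q modulo p, and G is minimal non-p-closed: its Sylow p-subgroups are not normal, while in every proper subgroup and in every proper quotient of G the Sylow p-subgroups are normal. -/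
theorem result {G : Type*} [Group G] [Finite G] {p q : ℕ} [Fact p.Prime] (hq : q.Prime) (hpq : q ≠ p)
    (hna : ¬ IsMulCommutative G) (A : Subgroup G) [A.Normal] (hA : Cfsg.IsElementaryAbelian q A) (hidx : A.index = p)
    (hmin : ∀ B : Subgroup G, B.Normal → B ≤ A → B = ⊥ ∨ B = A) :
    Nat.card ↥A = q ^ orderOf (q : ZMod p) ∧ ¬ Cfsg.IsPClosed p G ∧ (∀ H : Subgroup G, H ≠ ⊤ → Cfsg.IsPClosed p ↥H) ∧
      ∀ (N : Subgroup G) [N.Normal], N ≠ ⊥ → Cfsg.IsPClosed p (G ⧸ N) := by
  exact main hq hpq hna A hA hidx hmin

end Cfsg.Agent.S3869
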