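import Cfsg.Statements.S3868
import Cfsg.Agent.S3869
import Cfsg.Agent.Hall.MinimalNormal
-- import your own Cfsg.Agent.* helpers here

set_option autoImplicit false
open Cfsg

namespace Cfsg.Agent.S3868

open Cfsg.Agent.S3869 in
lemma main {G : Type*} [Group G] [Finite G] {p : ℕ} [Fact p.Prime]
    (hnc : ¬ Cfsg.IsPClosed p G) (hsub : ∀ H : Subgroup G, H ≠ ⊤ → Cfsg.IsPClosed p ↥H)
    (hquo : ∀ (N : Subgroup G) (_ : N ≠ ⊥) [N.Normal], Cfsg.IsPClosed p (G ⧸ N))
    (hns : ¬ IsSimpleGroup G) :
    ∃ q : ℕ, q.Prime ∧ q ≠ p ∧ Nat.card G = p * q ^ orderOf (q : ZMod p) ∧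
      ∃ A : Subgroup G, A.Normal ∧ Nat.card ↥A = q ^ orderOf (q : ZMod p) ∧
        Cfsg.IsElementaryAbelian q A ∧
        ∀ B : Subgroup G, B.Normal → B ≤ A → B = ⊥ ∨ B = A := by
  have hp : p.Prime := Fact.out
  obtain ⟨P⟩ : Nonempty (Sylow p G) := inferInstance
  have hnP : ∀ S : Subgroup G, S.Normal → Nat.card S = p ^ (Nat.card G).factorization p → False := by
    intro S hS hc
    refine hnc fun P' => ?_
    let S' : Sylow p G := Sylow.ofCard S hc
    haveI : Subsingleton (Sylow p G) := @Unique.instSubsingleton _ (Sylow.unique_of_normal S' hS)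
    rw [Subsingleton.elim P' S']; exact hS
  have hnormP : ¬ (P : Subgroup G).Normal := fun h => hnP _ h P.card_eq_multiplicity
  have hnt : Nontrivial G := by
    by_contra h
    rw [not_nontrivial_iff_subsingleton] at h
    exact hnc (isPClosed_of_not_dvd (by rw [Nat.card_unique]; exact hp.not_dvd_one))
  obtain ⟨K, hKn, hKbot, hKtop⟩ : ∃ K : Subgroup G, K.Normal ∧ K ≠ ⊥ ∧ K ≠ ⊤ := by
    by_contra hc
    push Not at hc
    exact hns ⟨fun K hK => (eq_or_ne K ⊥).imp_right (hc K hK)⟩
  obtain ⟨N, hNn, hNbot, hNK, hmin⟩ := Hall.exists_minimal_normal_le K hKbot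
  have hNtop : N ≠ ⊤ := fun h => hKtop (top_le_iff.1 (h ▸ hNK))
  -- `P N = G`
  have hPN : (P : Subgroup G) ⊔ N = ⊤ := by
    by_contra hne
    have hmap : (((P.mapSurjective (f := QuotientGroup.mk' N) (QuotientGroup.mk'_surjective N)) :
        Sylow p (G ⧸ N)) : Subgroup (G ⧸ N)).Normal := hquo N hNbot _
    rw [Sylow.coe_mapSurjective] at hmap
    have hn : ((P : Subgroup G) ⊔ N).Normal := by
      have := hmap.comap (QuotientGroup.mk' N)
      rwa [Subgroup.comap_map_eq, QuotientGroup.ker_mk'] at this
    let P' := P.subtype (le_sup_left : (P : Subgroup G) ≤ (P : Subgroup G) ⊔ N)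
    haveI hP'n : (P' : Subgroup ↥((P : Subgroup G) ⊔ N)).Normal := hsub _ hne P'
    haveI : (P' : Subgroup ↥((P : Subgroup G) ⊔ N)).Characteristic := Sylow.characteristic_of_normal P' hP'n
    apply hnormP
    have := hn
    have h2 : ((P' : Subgroup ↥((P : Subgroup G) ⊔ N)).map ((P : Subgroup G) ⊔ N).subtype).Normal := inferInstance
    rwa [show (P' : Subgroup ↥((P : Subgroup G) ⊔ N)) = (P : Subgroup G).subgroupOf ((P : Subgroup G) ⊔ N) from rfl,
      Subgroup.map_subgroupOf_eq_of_le le_sup_left] at h2
  -- no nontrivial normal `p`-subgroup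
  have hcore : ∀ R : Subgroup G, R.Normal → IsPGroup p R → R = ⊥ := by
    intro R hR hRp
    by_contra hne
    apply hnormP
    have hmap : (((P.mapSurjective (f := QuotientGroup.mk' R) (QuotientGroup.mk'_surjective R)) :
        Sylow p (G ⧸ R)) : Subgroup (G ⧸ R)).Normal := hquo R hne _
    rw [Sylow.coe_mapSurjective] at hmap
    have := hmap.comap (QuotientGroup.mk' R)
    rwa [Subgroup.comap_map_eq, QuotientGroup.ker_mk',
      sup_eq_left.2 (IsPGroup.le_sylow_of_normal hRp P)] at this
  -- proper normal subgroups have order prime to `p`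
  have hprime : ∀ M : Subgroup G, M.Normal → M ≠ ⊤ → ¬ p ∣ Nat.card M := by
    intro M hM hMtop hd
    obtain ⟨S⟩ : Nonempty (Sylow p M) := inferInstance
    haveI hSn : (S : Subgroup M).Normal := hsub M hMtop S
    haveI : (S : Subgroup M).Characteristic := Sylow.characteristic_of_normal S hSn
    have := hcore ((S : Subgroup M).map M.subtype) inferInstance (S.isPGroup'.map _)
    rw [Subgroup.map_eq_bot_iff_of_injective _ M.subtype_injective] at this
    exact S.ne_bot_of_dvd_card hd this
  have hNp : ¬ p ∣ Nat.card N := hprime N hNn hNtop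
  have hdisj : (P : Subgroup G) ⊓ N = ⊥ := Subgroup.inf_eq_bot_of_coprime (by
    obtain ⟨k, hk⟩ := P.isPGroup'.exists_card_eq
    rw [hk]
    exact Nat.Coprime.pow_left k ((hp.coprime_iff_not_dvd).2 hNp))
  -- the index of `N` is `p`
  have hidx : N.index = p := by
    obtain ⟨k, hk⟩ : ∃ k, N.index = p ^ k := by
      obtain ⟨k, hk⟩ := P.isPGroup'.exists_card_eq
      have h1 : Nat.card (G ⧸ N) ∣ Nat.card P := by
        have hsurj : Function.Surjective ((QuotientGroup.mk' N).comp (P : Subgroup G).subtype) := by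
          rw [← MonoidHom.range_eq_top, MonoidHom.range_comp, Subgroup.range_subtype]
          have h2 : ((P : Subgroup G) ⊔ N).map (QuotientGroup.mk' N) = ⊤ := by
            rw [hPN, Subgroup.map_top_of_surjective _ (QuotientGroup.mk'_surjective N)]
          rwa [Subgroup.map_sup, QuotientGroup.map_mk'_self, sup_bot_eq] at h2
        exact Subgroup.card_dvd_of_surjective _ hsurj
      rw [hk] at h1
      obtain ⟨j, -, hj⟩ := (Nat.dvd_prime_pow hp).1 h1
      exact ⟨j, hj⟩
    have hk0 : k ≠ 0 := fun h => hNtop (Subgroup.index_eq_one.1 (by rw [hk, h, pow_zero]))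
    by_contra hne
    -- a normal subgroup of index `p` above `N`
    have hQp : IsPGroup p (G ⧸ N) := IsPGroup.of_card (show Nat.card (G ⧸ N) = p ^ k from hk)
    obtain ⟨M', hM'⟩ := Sylow.exists_subgroup_card_pow_prime (G := G ⧸ N) p (n := k - 1)
      (by rw [show Nat.card (G ⧸ N) = p ^ k from hk]; exact Nat.pow_dvd_pow p (by omega))
    have hM'idx : M'.index = p := by
      have h1 := M'.card_mul_index
      rw [hM', show Nat.card (G ⧸ N) = p ^ k from hk] at h1
      refine Nat.eq_of_mul_eq_mul_left (pow_pos hp.pos (k - 1)) (h1.trans ?_)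
      rw [← pow_succ, Nat.sub_add_cancel (by omega)]
    have hM'n : M'.Normal := by
      refine Subgroup.normal_of_index_eq_minFac_card ?_
      rw [hM'idx, show Nat.card (G ⧸ N) = p ^ k from hk, Nat.pow_minFac hk0, hp.minFac_eq]
    have hidxM : (M'.comap (QuotientGroup.mk' N)).index = p := by
      rw [Subgroup.index_comap_of_surjective _ (QuotientGroup.mk'_surjective N), hM'idx]
    refine hprime (M'.comap (QuotientGroup.mk' N)) (hM'n.comap _) (fun h => ?_) ?_
    · rw [h, Subgroup.index_top] at hidxM; exact hp.one_lt.ne hidxM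
    · have h1 := N.card_mul_index
      have h2 := (M'.comap (QuotientGroup.mk' N)).card_mul_index
      rw [hk, ← h2, hidxM] at h1
      have h3 : Nat.card N * p ^ (k - 1) = Nat.card (M'.comap (QuotientGroup.mk' N)) := by
        refine Nat.eq_of_mul_eq_mul_right hp.pos ?_
        rw [mul_assoc, ← pow_succ, Nat.sub_add_cancel (by omega)]; exact h1
      rw [← h3]
      refine Dvd.dvd.mul_left (dvd_pow_self p ?_) _
      intro h4
      apply hne
      rw [hk, show k = 1 by omega, pow_one]
  -- some Sylow subgroup of `N` generates `G` together with `P`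
  obtain ⟨q, hq, Q, hQ⟩ : ∃ q : ℕ, q.Prime ∧ ∃ Q : Subgroup G, IsPGroup q Q ∧ Q ≤ N ∧
      ¬ (P : Subgroup G) ≤ Subgroup.centralizer (Q : Set G) ∧
      (P : Subgroup G) ≤ Subgroup.normalizer (Q : Set G) := by
    by_contra hc
    push Not at hc
    apply hnormP
    have hNC : N ≤ Subgroup.centralizer ((P : Subgroup G) : Set G) := by
      suffices h : Nat.card N ∣ Nat.card ↥(N ⊓ Subgroup.centralizer ((P : Subgroup G) : Set G)) by
        have := Subgroup.eq_of_le_of_card_ge inf_le_left (Nat.le_of_dvd Nat.card_pos h)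
        exact this ▸ inf_le_right
      refine (Nat.dvd_iff_prime_pow_dvd_dvd _ _).2 fun r k hr hrk => ?_
      rcases k.eq_zero_or_pos with rfl | hk0
      · simp
      have := Fact.mk hr
      obtain ⟨R⟩ : Nonempty (Sylow r N) := inferInstance
      have hfr := Sylow.normalizer_sup_eq_top R
      -- move a Sylow subgroup of the normalizer onto `P`
      let R' : Subgroup G := (R : Subgroup N).map N.subtype
      have hpN : p ∣ Nat.card (Subgroup.normalizer (R' : Set G)) := by
        by_contra hpd
        have h1 : N.relIndex (Subgroup.normalizer (R' : Set G)) = p := by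
          rw [← Subgroup.relIndex_sup_right, hfr, Subgroup.relIndex_top_right, hidx]
        exact hpd (h1 ▸ Subgroup.relIndex_dvd_card _ _)
      obtain ⟨y, hy⟩ := exists_prime_orderOf_dvd_card'
        (G := Subgroup.normalizer (R' : Set G)) p hpN
      have hPp : Nat.card P = p := by
        have h1 : Nat.card P ∣ N.index := by
          have h2 : N.relIndex P * 1 = Nat.card P * 1 := by
            rw [← Subgroup.inf_relIndex_right, inf_comm, hdisj, Subgroup.relIndex_bot_left]
          rw [mul_one, mul_one] at h2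
          rw [← h2]
          exact Subgroup.relIndex_dvd_index_of_normal _ _
        rw [hidx] at h1
        refine ((Nat.dvd_prime hp).1 h1).resolve_left fun h => hnormP ?_
        rw [Subgroup.eq_bot_of_card_eq _ h]; infer_instance
      let Y : Subgroup G := Subgroup.zpowers (y : G)
      have hY : Nat.card Y = p := by rw [Nat.card_zpowers, Subgroup.orderOf_coe, hy]
      let YS : Sylow p G := Sylow.ofCard Y (by rw [hY, ← P.card_eq_multiplicity, hPp])
      obtain ⟨g, hg⟩ := MulAction.exists_smul_eq G YS P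
      let Q : Subgroup G := R'.map (MulAut.conj g).toMonoidHom
      have hQp : IsPGroup r Q := (R.isPGroup'.map _).map _
      have hQN : Q ≤ N := by
        rintro _ ⟨a, ha, rfl⟩
        exact hNn.conj_mem _ (Subgroup.map_subtype_le _ ha) g
      have hPQ : (P : Subgroup G) ≤ Subgroup.normalizer (Q : Set G) := by
        rw [← hg, Sylow.coe_subgroup_smul]
        intro z hz
        obtain ⟨w, hw, rfl⟩ := hz
        have hw' : w ∈ Subgroup.normalizer (R' : Set G) := (Subgroup.zpowers_le.2 y.2) hw
        show (MulAut.conj g) w ∈ Subgroup.normalizer (Q : Set G)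
        have := Subgroup.le_normalizer_map (H := R') (MulAut.conj g).toMonoidHom
          (Subgroup.mem_map_of_mem (MulAut.conj g).toMonoidHom hw')
        exact this
      have hQC : Q ≤ N ⊓ Subgroup.centralizer ((P : Subgroup G) : Set G) := by
        refine le_inf hQN ?_
        rw [Subgroup.le_centralizer_iff]
        by_contra hcc
        exact hc r hr Q hQp hQN hcc hPQ
      refine dvd_trans ?_ (Subgroup.card_dvd_of_le hQC)
      rw [Subgroup.card_map_of_injective (MulAut.conj g).injective,
        Subgroup.card_map_of_injective N.subtype_injective, R.card_eq_multiplicity]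
      exact Nat.pow_dvd_pow r ((hr.pow_dvd_iff_le_factorization Nat.card_pos.ne').1 hrk)
    rw [← Subgroup.normalizer_eq_top_iff, eq_top_iff, ← hPN]
    exact sup_le Subgroup.le_normalizer (hNC.trans (Subgroup.centralizer_le_normalizer _))
  obtain ⟨hQp, hQN, hQC, hPQ⟩ := hQ
  have hH : (P : Subgroup G) ⊔ Q = ⊤ := by
    by_contra hne
    apply hQC
    have hQn : (Q.subgroupOf ((P : Subgroup G) ⊔ Q)).Normal :=
      Subgroup.normal_subgroupOf_iff_le_normalizer le_sup_right |>.2
        (sup_le hPQ Subgroup.le_normalizer)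
    let P' := P.subtype (le_sup_left : (P : Subgroup G) ≤ (P : Subgroup G) ⊔ Q)
    have hP'n : (P' : Subgroup ↥((P : Subgroup G) ⊔ Q)).Normal := hsub _ hne P'
    have hd : Disjoint (P' : Subgroup ↥((P : Subgroup G) ⊔ Q)) (Q.subgroupOf ((P : Subgroup G) ⊔ Q)) := by
      rw [Subgroup.disjoint_def]
      intro u hu hv
      have : (u : G) ∈ (P : Subgroup G) ⊓ N := ⟨hu, hQN hv⟩
      rw [hdisj, Subgroup.mem_bot] at this
      exact Subtype.ext this
    intro z hz
    rw [Subgroup.mem_centralizer_iff]
    intro w hw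
    exact (congrArg Subtype.val (Subgroup.commute_of_normal_of_disjoint _ _ hP'n hQn hd
      ⟨z, le_sup_left (a := (P : Subgroup G)) hz⟩ ⟨w, le_sup_right (b := Q) hw⟩ hz hw)).symm
  have hNQ : N = Q := by
    refine le_antisymm ?_ hQN
    intro z hz
    have hz' : z ∈ (↑((P : Subgroup G) ⊔ Q) : Set G) := by rw [hH]; exact Subgroup.mem_top z
    rw [Subgroup.coe_mul_of_left_le_normalizer_right (P : Subgroup G) Q hPQ] at hz'
    obtain ⟨a, ha, b, hb, rfl⟩ := hz'
    have : a ∈ (P : Subgroup G) ⊓ N := ⟨ha, by simpa using N.mul_mem hz (N.inv_mem (hQN hb))⟩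
    rw [hdisj, Subgroup.mem_bot] at this
    simpa [this] using hb
  subst hNQ
  have := Fact.mk hq
  have hsolv : Group.IsSolvable N := by
    have := hQp.isNilpotent
    infer_instance
  obtain ⟨hNc, q', hq', hNq', hNexp⟩ := Hall.minimal_normal_elementary hNbot hmin hsolv
  have hqq : q' = q := by
    obtain ⟨z, hz⟩ := Subgroup.ne_bot_iff_exists_ne_one.1 hNbot
    have h1 : orderOf z = q' := by
      have := Fact.mk hq'
      exact orderOf_eq_prime (Subtype.ext (by simpa using hNexp z z.2)) hz
    obtain ⟨k, hk⟩ := IsPGroup.iff_orderOf.1 hQp z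
    rw [h1] at hk
    exact (Nat.prime_dvd_prime_iff_eq hq' hq).1 (hq'.dvd_of_dvd_pow (n := k) (hk ▸ dvd_rfl))
  subst hqq
  have hA : Cfsg.IsElementaryAbelian q' N := ⟨hNc, hNexp⟩
  have hqp : q' ≠ p := by
    rintro rfl
    exact hNbot (hcore N hNn hQp)
  have hna : ¬ IsMulCommutative G := fun h => hnormP
    ⟨fun u hu g => by rwa [h.is_comm.comm g u, mul_inv_cancel_right]⟩
  obtain ⟨hcard, -, -, -⟩ := S3869.main hq hqp hna N hA hidx hmin
  exact ⟨q', hq, hqp, by rw [← N.card_mul_index, hidx, hcard, mul_comm],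
    N, hNn, hcard, hA, hmin⟩

/-- Structure of the non-simple minimal non-p-closed groups. Call a finite group p-closed when its Sylow p-subgroups are normal, and minimal non-p-closed when it is not p-closed but every proper subgroup and every proper quotient is. If such a group G is not simple, then there is a prime q ≠ p such that G has order p · q^e, where e is the multiplicative order of q modulo p, and G has a normal subgroup A of order q^e that is elementary abelian and is a minimal normal subgroup of G (so G is the semidirect product of A by a group of order p acting irreducibly). -/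
theorem result {G : Type*} [Group G] [Finite G] {p : ℕ} [Fact p.Prime]
    (hnc : ¬ Cfsg.IsPClosed p G) (hsub : ∀ H : Subgroup G, H ≠ ⊤ → Cfsg.IsPClosed p ↥H)
    (hquo : ∀ (N : Subgroup G) [N.Normal], N ≠ ⊥ → Cfsg.IsPClosed p (G ⧸ N)) (hns : ¬ IsSimpleGroup G) :
    ∃ q : ℕ, q.Prime ∧ q ≠ p ∧ Nat.card G = p * q ^ orderOf (q : ZMod p) ∧
      ∃ A : Subgroup G, A.Normal ∧ Nat.card ↥A = q ^ orderOf (q : ZMod p) ∧ Cfsg.IsElementaryAbelian q A ∧
        ∀ B : Subgroup G, B.Normal → B ≤ A → B = ⊥ ∨ B = A := by
  exact main hnc hsub (fun N hN _ => hquo N hN) hns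

end Cfsg.Agent.S3868
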