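import Cfsg.Statements.S3872
import Cfsg.Agent.PGroups.RankTwo
import Cfsg.Agent.PGroups.Extraspecial
-- import your own Cfsg.Agent.* helpers here

set_option autoImplicit false
open Cfsg

namespace Cfsg.Agent.S3872

open Subgroup

/-- Say that a finite group is p-exponent closed when its elements of order dividing p form a subgroup. Let G be a finite p-group that is not p-exponent closed, but all of whose proper subgroups and proper quotients are. Then G is generated by two elements, has nilpotency class at least p, has exponent p², has cyclic center, and has order at least p^(p+1). -/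
theorem result {G : Type*} [Group G] [Finite G] {p : ℕ} [Fact p.Prime] (hG : IsPGroup p G)
    (hnc : ¬ (∃ H : Subgroup G, (H : Set G) = {g : G | g ^ p = 1})) (hsub : ∀ K : Subgroup G, K ≠ ⊤ → (∃ H : Subgroup ↥K, (H : Set ↥K) = {g : ↥K | g ^ p = 1}))
    (hquo : ∀ (N : Subgroup G) [N.Normal], N ≠ ⊥ → (∃ H : Subgroup (G ⧸ N), (H : Set (G ⧸ N)) = {g : (G ⧸ N) | g ^ p = 1})) :
    (∃ x y : G, Subgroup.closure ({x, y} : Set G) = ⊤) ∧ (⊤ : Subgroup G).lowerCentralSeries (p - 1) ≠ ⊥ ∧
      Monoid.exponent G = p ^ 2 ∧ IsCyclic ↥(Subgroup.center G) ∧ p ^ (p + 1) ≤ Nat.card G := by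
  have hp := (inferInstance : Fact p.Prime).out
  obtain ⟨x, y, hx, hy, hne⟩ : ∃ x y : G, x ^ p = 1 ∧ y ^ p = 1 ∧ (x * y) ^ p ≠ 1 := by
    by_contra hall
    push Not at hall
    exact hnc ⟨{ carrier := {g | g ^ p = 1}
                 one_mem' := one_pow _
                 mul_mem' := fun {a b} ha hb => hall a b ha hb
                 inv_mem' := fun {a} ha => show a⁻¹ ^ p = 1 by rw [inv_pow, show a ^ p = 1 from ha, inv_one] }, rfl⟩
  have hgen : Subgroup.closure ({x, y} : Set G) = ⊤ := by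
    by_contra hK
    obtain ⟨H, hH⟩ := hsub _ hK
    have hxH : (⟨x, Subgroup.subset_closure (by simp)⟩ : Subgroup.closure ({x, y} : Set G)) ∈ H := by
      rw [← SetLike.mem_coe, hH]; exact Subtype.ext hx
    have hyH : (⟨y, Subgroup.subset_closure (by simp)⟩ : Subgroup.closure ({x, y} : Set G)) ∈ H := by
      rw [← SetLike.mem_coe, hH]; exact Subtype.ext hy
    have h := mul_mem hxH hyH
    rw [← SetLike.mem_coe, hH] at h
    exact hne (congrArg Subtype.val h)
  have hquot : ∀ (N : Subgroup G) [N.Normal], N ≠ ⊥ → ∀ g : G, g ^ p ∈ N := by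
    intro N _ hN g
    obtain ⟨H, hH⟩ := hquo N hN
    have hxH : QuotientGroup.mk' N x ∈ H := by
      rw [← SetLike.mem_coe, hH, Set.mem_ofPred_eq, ← map_pow, hx, map_one]
    have hyH : QuotientGroup.mk' N y ∈ H := by
      rw [← SetLike.mem_coe, hH, Set.mem_ofPred_eq, ← map_pow, hy, map_one]
    have hle : Subgroup.closure ({x, y} : Set G) ≤ H.comap (QuotientGroup.mk' N) :=
      PGroups.closure_pair_le hxH hyH
    have hg : QuotientGroup.mk' N g ∈ (H : Set (G ⧸ N)) := hle (hgen ▸ mem_top g)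
    rw [hH, Set.mem_ofPred_eq, ← map_pow] at hg
    exact (QuotientGroup.eq_one_iff _).mp hg
  haveI : Nontrivial G := ⟨⟨x * y, 1, fun h => hne (by rw [h, one_pow])⟩⟩
  obtain ⟨z, -, hzc, hz⟩ := PGroups.exists_mem_center_orderOf_eq hG (⊤ : Subgroup G) top_ne_bot
  have hZn : ∀ c ∈ center G, (zpowers c).Normal := fun c hc => PGroups.normal_of_le_center (zpowers_le.mpr hc)
  have hzne : zpowers z ≠ ⊥ := by
    rw [Ne, zpowers_eq_bot]; intro h; rw [h, orderOf_one] at hz; exact hp.one_lt.ne hz
  have hexp : ∀ g : G, g ^ (p ^ 2) = 1 := by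
    intro g
    haveI := hZn z hzc
    obtain ⟨i, hi⟩ := Subgroup.mem_zpowers_iff.mp (hquot (zpowers z) hzne g)
    rw [pow_two, pow_mul, ← hi, ← zpow_natCast, zpow_comm, zpow_natCast, ← hz, pow_orderOf_eq_one, one_zpow]
  have hclass : (⊤ : Subgroup G).lowerCentralSeries (p - 1) ≠ ⊥ := by
    intro h
    have hR := PGroups.regularAt_of_isRegular (PGroups.isRegular_of_class hG h) 1
    have h' : (x * y) ^ (p ^ 1) = 1 := (PGroups.omegaSubgroup hG hR).mul_mem
      (show x ^ (p ^ 1) = 1 by rwa [pow_one]) (show y ^ (p ^ 1) = 1 by rwa [pow_one])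
    exact hne (by rwa [pow_one] at h')
  refine ⟨⟨x, y, hgen⟩, hclass, ?_, ?_, ?_⟩
  · obtain ⟨k, hk, he⟩ := (Nat.dvd_prime_pow hp).mp (Monoid.exponent_dvd_of_forall_pow_eq_one hexp)
    rcases (show k = 0 ∨ k = 1 ∨ k = 2 by omega) with rfl | rfl | rfl
    · exact absurd (by
        have h := Monoid.pow_exponent_eq_one (x * y)
        rw [he, pow_zero, pow_one] at h
        rw [h, one_pow]) hne
    · exact absurd (by
        have h := Monoid.pow_exponent_eq_one (x * y)
        rwa [he, pow_one] at h) hne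
    · exact he
  · refine PGroups.isCyclic_of_small_omega hG inferInstance (zpowers z) (fun c hc hc1 => ?_)
      (by rw [Nat.card_zpowers, hz])
    by_contra hcz
    haveI := hZn z hzc
    haveI := hZn c hc
    have hcne : zpowers c ≠ ⊥ := by
      rw [Ne, zpowers_eq_bot]; rintro rfl; exact hcz (one_mem _)
    obtain ⟨w, hw⟩ : ∃ w, (x * y) ^ p = w := ⟨_, rfl⟩
    have hwz : w ∈ zpowers z := hw ▸ hquot (zpowers z) hzne (x * y)
    have hwc : w ∈ zpowers c := hw ▸ hquot (zpowers c) hcne (x * y)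
    have hw1 : w ≠ 1 := hw ▸ hne
    have e1 := PGroups.zpowers_eq_of_card_eq (p := p) (H := zpowers z) (by rw [Nat.card_zpowers, hz]) hwz hw1
    have e2 := PGroups.zpowers_eq_of_card_eq (p := p) (H := zpowers c) (by
      rw [Nat.card_zpowers, orderOf_eq_prime hc1 (fun h => hcne (by rw [h, zpowers_one_eq_bot]))]) hwc hw1
    exact hcz (e1.symm.trans e2 ▸ mem_zpowers c)
  · by_contra hlt
    push Not at hlt
    have h2 := hp.two_le
    refine hclass ?_
    have h := PGroups.lowerCentralSeries_eq_bot_of_card hG (p - 2) (by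
      obtain ⟨n, hn⟩ := IsPGroup.iff_card.mp hG
      rw [hn] at hlt ⊢
      have := (Nat.pow_lt_pow_iff_right hp.one_lt).mp hlt
      exact Nat.pow_le_pow_right hp.pos (by omega))
    rwa [show p - 2 + 1 = p - 1 by omega] at h

end Cfsg.Agent.S3872
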