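import Cfsg.Statements.S3873
import Cfsg.Agent.H73.IrreducibleCyclic
import Cfsg.Agent.Hall.MinimalNormal
import Cfsg.Agent.Components.Fitting
import Cfsg.Agent.Cores.Basic

set_option autoImplicit false
open Cfsg

namespace Cfsg.Agent.S3873

open Subgroup
open scoped Pointwise

variable {G : Type*} [Group G] [Finite G]

/-- being `p`-exponent closed -/
def Closed (p : ℕ) (G : Type*) [Group G] : Prop :=
  ∃ H : Subgroup G, (H : Set G) = {g : G | g ^ p = 1}

omit [Finite G] in
theorem pow_closure_eq_one {p : ℕ} {K : Subgroup G} (hK : Closed p ↥K) {s : Set G} (hs : s ⊆ K)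
    (hsp : ∀ x ∈ s, x ^ p = 1) {x : G} (hx : x ∈ closure s) : x ^ p = 1 := by
  obtain ⟨H, hH⟩ := hK
  have hle : closure s ≤ H.map K.subtype := by
    rw [closure_le]
    intro y hy
    refine ⟨⟨y, hs hy⟩, ?_, rfl⟩
    rw [hH]
    exact Subtype.ext (hsp y hy)
  obtain ⟨y, hy, rfl⟩ := hle hx
  rw [hH] at hy
  exact congrArg Subtype.val hy

omit [Finite G] in
theorem sylow_centralizes {p : ℕ} [Fact p.Prime] {N R : Subgroup G} [N.Normal]
    (hN : ¬ p ∣ Nat.card ↥N) (hR : ∀ x ∈ R, x ^ p = 1) {Q : Subgroup G} (hQN : Q ≤ N)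
    (hQR : R ≤ normalizer (Q : Set G)) (hcl : Closed p ↥(Q ⊔ R)) :
    ∀ y ∈ Q, ∀ x ∈ R, y * x = x * y := by
  have hp : p.Prime := Fact.out
  intro y hy x hx
  -- the commutator lies in `Q` and has exponent `p`
  set c := y * x * y⁻¹ * x⁻¹
  have hcQ : c ∈ Q := by
    have h : x * y⁻¹ * x⁻¹ ∈ Q := (mem_normalizer_iff.mp (hQR hx) y⁻¹).mp (inv_mem hy)
    have : c = y * (x * y⁻¹ * x⁻¹) := by simp only [c]; group
    exact this ▸ mul_mem hy h
  have hcp : c ^ p = 1 := by
    refine pow_closure_eq_one hcl (s := ({y * x * y⁻¹, x⁻¹} : Set G)) ?_ ?_ ?_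
    · rintro z (rfl | rfl)
      · exact mul_mem (mul_mem (mem_sup_left hy) (mem_sup_right hx)) (inv_mem (mem_sup_left hy))
      · exact inv_mem (mem_sup_right hx)
    · rintro z (rfl | rfl)
      · rw [conj_pow, hR x hx, mul_one, mul_inv_cancel]
      · rw [inv_pow, hR x hx, inv_one]
    · exact mul_mem (subset_closure (Or.inl rfl)) (subset_closure (Or.inr rfl))
  have hc1 : c = 1 := by
    rw [← orderOf_eq_one_iff]
    exact Nat.eq_one_of_dvd_coprimes (hp.coprime_iff_not_dvd.mpr hN)
      (orderOf_dvd_iff_pow_eq_one.mpr hcp) (Subgroup.orderOf_dvd_natCard N (hQN hcQ))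
  calc y * x = c * (x * y) := by simp only [c]; group
    _ = x * y := by rw [hc1, one_mul]

theorem nonsimple_structure {p : ℕ} [Fact p.Prime] (hnc : ¬ Closed p G)
    (hsub : ∀ K : Subgroup G, K ≠ ⊤ → Closed p ↥K)
    (hquo : ∀ (N : Subgroup G) [N.Normal], N ≠ ⊥ → Closed p (G ⧸ N))
    (hns : ¬ IsSimpleGroup G) (hnp : ¬ IsPGroup p G) :
    ∃ q : ℕ, q.Prime ∧ q ≠ p ∧ Nat.card G = p * q ^ orderOf (q : ZMod p) ∧
      ∃ A : Subgroup G, A.Normal ∧ Nat.card ↥A = q ^ orderOf (q : ZMod p) ∧
        Cfsg.IsElementaryAbelian q A ∧ ∀ B : Subgroup G, B.Normal → B ≤ A → B = ⊥ ∨ B = A := by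
  classical
  have hp : p.Prime := Fact.out
  -- generated by elements of order `p`
  have hgen : closure {g : G | g ^ p = 1} = ⊤ := by
    by_contra h
    refine hnc ⟨closure {g : G | g ^ p = 1}, Set.Subset.antisymm (fun x hx => ?_) subset_closure⟩
    exact pow_closure_eq_one (hsub _ h) subset_closure (fun _ h => h) hx
  have : Nontrivial G := by
    by_contra h
    rw [not_nontrivial_iff_subsingleton] at h
    exact hnp fun g => ⟨0, Subsingleton.elim _ _⟩
  obtain ⟨N₀, hN₀, hN₀b, hN₀t⟩ : ∃ N : Subgroup G, N.Normal ∧ N ≠ ⊥ ∧ N ≠ ⊤ := by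
    by_contra h
    push Not at h
    exact hns ⟨fun H hH => or_iff_not_imp_left.mpr (h H hH)⟩
  obtain ⟨N, hNn, hN, hNle, hNmin⟩ := Hall.exists_minimal_normal_le N₀ hN₀b
  have hNt : N ≠ ⊤ := fun h => hN₀t (top_le_iff.mp (h ▸ hNle))
  have hquoexp : ∀ g : G, g ^ p ∈ N := by
    obtain ⟨H, hH⟩ := hquo N hN
    have : H = ⊤ := by
      rw [eq_top_iff, ← map_top_of_surjective _ (QuotientGroup.mk'_surjective N), ← hgen,
        MonoidHom.map_closure, closure_le]
      rintro _ ⟨g, hg, rfl⟩
      rw [hH]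
      show (QuotientGroup.mk' N g) ^ p = 1
      rw [← map_pow, show g ^ p = 1 from hg, map_one]
    intro g
    have hg : QuotientGroup.mk' N g ∈ (H : Set (G ⧸ N)) := by rw [this]; trivial
    rw [hH] at hg
    exact (QuotientGroup.eq_one_iff _).mp hg
  have hpN : ¬ p ∣ Nat.card ↥N := by
    intro hd
    obtain ⟨H, hH⟩ := hsub N hNt
    have hHn : (H.map N.subtype).Normal := ⟨fun x hx g => by
      obtain ⟨y, hy, rfl⟩ := hx
      refine ⟨⟨g * y * g⁻¹, hNn.conj_mem y y.2 g⟩, ?_, rfl⟩
      rw [hH] at hy ⊢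
      apply Subtype.ext
      show (g * (y : G) * g⁻¹) ^ p = 1
      rw [conj_pow, ← Subgroup.coe_pow, show y ^ p = 1 from hy, Subgroup.coe_one, mul_one,
        mul_inv_cancel]⟩
    rcases hNmin _ hHn (map_subtype_le H) with h | h
    · obtain ⟨y, hy⟩ := exists_prime_orderOf_dvd_card' (G := ↥N) p hd
      have hyH : y ∈ (H : Set ↥N) := by rw [hH]; exact hy ▸ pow_orderOf_eq_one y
      have : (y : G) ∈ H.map N.subtype := mem_map_of_mem _ hyH
      rw [h, mem_bot, OneMemClass.coe_eq_one] at this
      rw [this, orderOf_one] at hy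
      exact hp.ne_one hy.symm
    · apply hnp
      refine fun g => ⟨2, ?_⟩
      obtain ⟨y, hy, hyg⟩ : g ^ p ∈ H.map N.subtype := h.symm ▸ hquoexp g
      rw [sq, pow_mul, ← hyg]
      rw [hH] at hy
      exact congrArg Subtype.val hy
  obtain ⟨P⟩ : Nonempty (Sylow p G) := inferInstance
  have hPexp : ∀ x ∈ (P : Subgroup G), x ^ p = 1 := by
    intro x hx
    obtain ⟨k, hk⟩ := IsPGroup.iff_orderOf.mp P.isPGroup' ⟨x, hx⟩
    rw [Subgroup.orderOf_mk] at hk
    by_contra hne
    have h1 : orderOf (x ^ p) ∣ Nat.card ↥N := Subgroup.orderOf_dvd_natCard N (hquoexp x)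
    have h2 : orderOf (x ^ p) ∣ p ^ k := hk ▸ orderOf_pow_dvd p
    exact hne (orderOf_eq_one_iff.mp (Nat.eq_one_of_dvd_coprimes
      ((hp.coprime_iff_not_dvd.mpr hpN).pow_left k) h2 h1))
  have hsup : (P : Subgroup G) ⊔ N = ⊤ := by
    rw [← index_eq_one]
    by_contra hne
    obtain ⟨r, hr, hrd⟩ := Nat.exists_prime_and_dvd hne
    have hrP : r ≠ p := by
      rintro rfl
      exact P.not_dvd_index (hrd.trans (index_dvd_of_le le_sup_left))
    have hrN : r ∣ Nat.card (G ⧸ N) := index_eq_card N ▸ hrd.trans (index_dvd_of_le le_sup_right)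
    have := Fact.mk hr
    obtain ⟨y, hy⟩ := exists_prime_orderOf_dvd_card' r hrN
    obtain ⟨g, rfl⟩ := QuotientGroup.mk_surjective y
    have h1 : orderOf (g : G ⧸ N) ∣ p := orderOf_dvd_iff_pow_eq_one.mpr (by
      rw [← QuotientGroup.mk_pow]; exact (QuotientGroup.eq_one_iff _).mpr (hquoexp g))
    exact hrP ((Nat.prime_dvd_prime_iff_eq hr hp).mp (hy ▸ h1))
  have hnotcen : ¬ ∀ y ∈ N, ∀ x ∈ (P : Subgroup G), y * x = x * y := by
    intro hcen
    have hPn : (P : Subgroup G).Normal := by
      rw [← normalizer_eq_top_iff, eq_top_iff, ← hsup]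
      refine sup_le le_normalizer fun y hy => mem_normalizer_iff.mpr fun x => ⟨fun hx => ?_, fun hx => ?_⟩
      · rw [hcen y hy x hx, mul_inv_cancel_right]; exact hx
      · have h := hcen y hy _ hx
        have : x = y⁻¹ * ((y * x * y⁻¹) * y) := by group
        rw [this, ← h, inv_mul_cancel_left]; exact hx
    refine hnc ⟨(P : Subgroup G), Set.Subset.antisymm hPexp fun x hx => ?_⟩
    rcases eq_or_ne x 1 with rfl | hx1
    · exact one_mem _
    obtain ⟨S, hS⟩ := (IsPGroup.of_card (G := ↥(zpowers x)) (p := p) (n := 1)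
      (by rw [Nat.card_zpowers, orderOf_eq_prime hx hx1, pow_one])).exists_le_sylow
    have := Sylow.unique_of_normal P hPn
    exact Subsingleton.elim S P ▸ hS (mem_zpowers x)
  -- `P` is cyclic of order `p`
  have hPp : Nat.card ↥(P : Subgroup G) = p := by
    by_contra hne
    apply hnotcen
    intro y hy x hx
    rcases eq_or_ne x 1 with rfl | hx1
    · simp
    have hox : orderOf x = p := orderOf_eq_prime (hPexp x hx) hx1
    have hprop : N ⊔ zpowers x ≠ ⊤ := by
      intro h
      apply hne
      obtain ⟨k, hk⟩ := IsPGroup.iff_card.mp P.isPGroup'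
      have h1 : Nat.card G ∣ Nat.card ↥N * p := by
        rw [← hox, ← Nat.card_zpowers x, ← Nat.card_congr topEquiv.toEquiv, ← h, sup_comm, mul_comm]
        exact Cores.card_sup_dvd _ _
      have h2 : p ^ k ∣ p := by
        have h3 := (hk ▸ card_subgroup_dvd_card (P : Subgroup G)).trans h1
        exact ((hp.coprime_iff_not_dvd.mpr hpN).pow_left k).dvd_of_dvd_mul_left h3
      rcases k with _ | _ | k
      · exfalso
        rw [pow_zero] at hk
        rw [card_eq_one.mp hk, mem_bot] at hx
        exact hx1 hx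
      · rw [hk, pow_one]
      · exfalso
        have := Nat.le_of_dvd hp.pos h2
        have : p ^ 1 < p ^ (k + 1 + 1) := Nat.pow_lt_pow_right hp.one_lt (by omega)
        rw [pow_one] at this
        omega
    exact sylow_centralizes hpN (R := zpowers x) (fun z ⟨i, hi⟩ => by
        rw [← show x ^ i = z from hi, ← zpow_natCast, ← zpow_mul, mul_comm, zpow_mul, zpow_natCast,
          hPexp x hx, one_zpow])
      le_rfl (fun z _ => normalizer_eq_top_iff.mpr hNn ▸ mem_top z) (hsub _ hprop) y hy x (mem_zpowers x)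
  -- `N` is a `q`-group
  obtain ⟨q, hq, hqN, hN_eq⟩ : ∃ q : ℕ, q.Prime ∧ q ≠ p ∧ IsPGroup q ↥N := by
    by_contra hno
    push Not at hno
    apply hnotcen
    intro y hy x hx
    have hle : N ≤ centralizer ({x} : Set G) := by
      have : (centralizer ({x} : Set G)).subgroupOf N = ⊤ := Components.eq_top_of_forall_sylow _ fun q _ => by
        obtain ⟨Q⟩ : Nonempty (Sylow q ↥N) := inferInstance
        rcases eq_or_ne q p with rfl | hqp
        · exact ⟨Q, by rw [card_eq_one.mp (show Nat.card ↥(Q : Subgroup ↥N) = 1 by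
            rw [Q.card_eq_multiplicity, Nat.factorization_eq_zero_of_not_dvd hpN, pow_zero])]; exact bot_le⟩
        set Qg := (Q : Subgroup ↥N).map N.subtype
        have hfr : normalizer (Qg : Set G) ⊔ N = ⊤ := Sylow.normalizer_sup_eq_top Q
        -- a Sylow `p`-subgroup of the normalizer is one of `G`
        obtain ⟨S, hS⟩ : ∃ S : Sylow p G, (S : Subgroup G) ≤ normalizer (Qg : Set G) := by
          obtain ⟨T⟩ : Nonempty (Sylow p ↥(normalizer (Qg : Set G))) := inferInstance
          obtain ⟨S, hS⟩ := (T.isPGroup'.map (normalizer (Qg : Set G)).subtype).exists_le_sylow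
          refine ⟨S, fun z hz => map_subtype_le (T : Subgroup ↥(normalizer (Qg : Set G))) ?_⟩
          refine (eq_of_le_of_card_ge hS ?_).symm ▸ hz
          rw [card_map_of_injective (normalizer (Qg : Set G)).subtype_injective, T.card_eq_multiplicity,
            S.card_eq_multiplicity]
          refine Nat.pow_le_pow_right hp.pos ?_
          have hd : Nat.card G ∣ Nat.card ↥(normalizer (Qg : Set G)) * Nat.card ↥N := by
            rw [← Nat.card_congr topEquiv.toEquiv, ← hfr]
            exact Cores.card_sup_dvd _ _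
          have := (Nat.factorization_le_iff_dvd Nat.card_pos.ne'
            (Nat.mul_ne_zero Nat.card_pos.ne' Nat.card_pos.ne')).mpr hd p
          rw [Nat.factorization_mul Nat.card_pos.ne' Nat.card_pos.ne', Finsupp.add_apply,
            Nat.factorization_eq_zero_of_not_dvd hpN, add_zero] at this
          exact this
        obtain ⟨g, hg⟩ := MulAction.exists_smul_eq G S P
        set Q' := Qg.map (MulAut.conj g).toMonoidHom
        have hQ'N : Q' ≤ N := by
          rintro _ ⟨z, hz, rfl⟩
          exact hNn.conj_mem z (map_subtype_le _ hz) g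
        have hQ'syl : (Q'.subgroupOf N) = ((MulAut.conjNormal g : MulAut ↥N) • Q : Sylow q ↥N) := by
          show _ = (MulAut.conjNormal g : MulAut ↥N) • (Q : Subgroup ↥N)
          rw [Subgroup.pointwise_smul_def]
          ext z
          constructor
          · rintro ⟨w, ⟨w', hw', rfl⟩, hwz⟩
            exact ⟨w', hw', Subtype.ext hwz⟩
          · rintro ⟨w, hw, rfl⟩
            exact ⟨w, ⟨w, hw, rfl⟩, rfl⟩
        refine ⟨(MulAut.conjNormal g : MulAut ↥N) • Q, ?_⟩
        rw [← hQ'syl]
        intro z hz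
        rw [mem_subgroupOf, mem_centralizer_singleton_iff]
        have hPQ : (P : Subgroup G) ≤ normalizer (Q' : Set G) := by
          rw [← hg, Sylow.coe_subgroup_smul, Subgroup.pointwise_smul_def]
          exact (map_mono hS).trans (le_normalizer_map _)
        have hprop : Q' ⊔ (P : Subgroup G) ≠ ⊤ := by
          intro htop
          refine hno q Fact.out hqp ?_
          -- `N = Q'`
          have hQ'p : IsPGroup q ↥Q' := (Q.isPGroup'.map _).map _
          refine hQ'p.to_le ?_
          intro w hw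
          have hw' : w ∈ (((P : Subgroup G) ⊔ Q' : Subgroup G) : Set G) := by
            rw [sup_comm, htop]; trivial
          rw [coe_mul_of_left_le_normalizer_right _ _ hPQ] at hw'
          obtain ⟨a, ha, b, hb, rfl⟩ := hw'
          have haN : a ∈ N := by
            have := mul_mem hw (inv_mem (hQ'N hb))
            rwa [mul_inv_cancel_right] at this
          have ha1 : a = 1 := orderOf_eq_one_iff.mp (Nat.eq_one_of_dvd_coprimes
            (hp.coprime_iff_not_dvd.mpr hpN) (orderOf_dvd_iff_pow_eq_one.mpr (hPexp a ha))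
            (Subgroup.orderOf_dvd_natCard N haN))
          show a * b ∈ Q'
          rw [ha1, one_mul]; exact hb
        exact (sylow_centralizes hpN (R := (P : Subgroup G)) hPexp hQ'N hPQ (hsub _ hprop) z hz x hx)
      exact subgroupOf_eq_top.mp this
    exact (mem_centralizer_singleton_iff.mp (hle hy))
  have := Fact.mk hq
  obtain ⟨hNab, q', hq', -, hNexp'⟩ := Hall.minimal_normal_elementary hN hNmin
    (@IsNilpotent.to_isSolvable _ _ hN_eq.isNilpotent)
  obtain ⟨t, ht⟩ := IsPGroup.iff_card.mp hN_eq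
  have ht0 : t ≠ 0 := by rintro rfl; exact hN (card_eq_one.mp (by rw [ht, pow_zero]))
  have hqq : q' = q := by
    obtain ⟨y, hy⟩ := exists_prime_orderOf_dvd_card' (G := ↥N) q (ht ▸ dvd_pow_self q ht0)
    have h1 : orderOf (y : G) ∣ q' := orderOf_dvd_iff_pow_eq_one.mpr (hNexp' y y.2)
    rw [Subgroup.orderOf_coe, hy] at h1
    exact ((Nat.prime_dvd_prime_iff_eq hq hq').mp h1).symm
  subst hqq
  -- a generator of `P`
  obtain ⟨x, hxP, hox⟩ : ∃ x ∈ (P : Subgroup G), orderOf x = p := by
    obtain ⟨y, hy⟩ := exists_prime_orderOf_dvd_card' (G := ↥(P : Subgroup G)) p hPp.symm.dvd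
    exact ⟨y, y.2, by rw [Subgroup.orderOf_coe, hy]⟩
  have hPx : zpowers x = (P : Subgroup G) :=
    eq_of_le_of_card_ge (zpowers_le.mpr hxP) (by rw [Nat.card_zpowers, hox, hPp])
  have hcard : Nat.card G = p * q' ^ t := by
    have h1 := Subgroup.card_mul_index N
    rw [ht] at h1
    have h2 : N.index = p := by
      rw [← hPp, index_eq_card]
      refine (Nat.card_congr (Equiv.ofBijective (fun z : ↥(P : Subgroup G) => ((z : G) : G ⧸ N)) ⟨?_, ?_⟩)).symm
      · intro a b hab
        have hN' : ((a : G)⁻¹ * b) ∈ N := QuotientGroup.eq.mp hab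
        have hP' : ((a : G)⁻¹ * b) ∈ (P : Subgroup G) := mul_mem (inv_mem a.2) b.2
        have : (a : G)⁻¹ * b = 1 := orderOf_eq_one_iff.mp (Nat.eq_one_of_dvd_coprimes
          (hp.coprime_iff_not_dvd.mpr hpN) (orderOf_dvd_iff_pow_eq_one.mpr (hPexp _ hP'))
          (Subgroup.orderOf_dvd_natCard N hN'))
        exact Subtype.ext (inv_mul_eq_one.mp this)
      · intro z
        obtain ⟨g, rfl⟩ := QuotientGroup.mk_surjective z
        have hg : g ∈ (((P : Subgroup G) ⊔ N : Subgroup G) : Set G) := by rw [hsup]; trivial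
        rw [mul_normal] at hg
        obtain ⟨a, ha, b, hb, rfl⟩ := hg
        refine ⟨⟨a, ha⟩, ?_⟩
        exact QuotientGroup.eq.mpr (by rwa [inv_mul_cancel_left])
    rw [← h1, h2, mul_comm]
  -- the action of `x`
  have hinv : ∀ B : Subgroup G, B ≤ N → (∀ b ∈ B, x * b * x⁻¹ ∈ B) → B = ⊥ ∨ B = N := by
    intro B hB hBx
    refine hNmin B ?_ hB
    rw [← normalizer_eq_top_iff, eq_top_iff, ← hsup, ← hPx]
    refine sup_le (zpowers_le.mpr ?_) fun y hy => ?_
    · exact mem_normalizer_iff_map_conj_eq.mpr (eq_of_le_of_card_ge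
        (by rintro _ ⟨b, hb, rfl⟩; exact hBx b hb)
        (card_map_of_injective (MulAut.conj x).injective).ge)
    · refine mem_normalizer_iff_map_conj_eq.mpr (eq_of_le_of_card_ge ?_
        (card_map_of_injective (MulAut.conj y).injective).ge)
      rintro _ ⟨b, hb, rfl⟩
      show y * b * y⁻¹ ∈ B
      rw [show y * b = b * y from congrArg Subtype.val (hNab.is_comm.comm (⟨y, hy⟩ : ↥N) ⟨b, hB hb⟩),
        mul_inv_cancel_right]
      exact hb
  have hfix : ∀ y ∈ N, x * y = y * x → y = 1 := by
    intro y hy hxy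
    rcases hinv (N ⊓ centralizer ({x} : Set G)) inf_le_left (fun b hb => by
      have h : b * x = x * b := mem_centralizer_singleton_iff.mp hb.2
      rw [← h, mul_inv_cancel_right]; exact hb) with h | h
    · exact mem_bot.mp (h ▸ ⟨hy, mem_centralizer_singleton_iff.mpr hxy.symm⟩)
    · exfalso
      apply hnotcen
      intro w hw z hz
      rw [← hPx] at hz
      obtain ⟨i, rfl⟩ := hz
      have hwx : w * x = x * w := mem_centralizer_singleton_iff.mp (h.symm.le hw).2
      exact ((show Commute w x from hwx).zpow_right i).eq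
  have hqp : q' ≠ p := hqN
  set e := orderOf (q' : ZMod p) with he
  have hq0 : (q' : ZMod p) ≠ 0 := by
    rw [Ne, ZMod.natCast_eq_zero_iff]
    exact fun h => hqp ((Nat.prime_dvd_prime_iff_eq hp hq).mp h).symm
  have he0 : e ≠ 0 := by
    rw [he]
    exact (IsOfFinOrder.orderOf_pos (isOfFinOrder_iff_pow_eq_one.mpr
      ⟨p - 1, by have := hp.two_le; omega, ZMod.pow_card_sub_one_eq_one hq0⟩)).ne'
  -- lower bound
  have hge : e ∣ t := by
    rw [he, orderOf_dvd_iff_pow_eq_one]
    let _ : MulAction ↥(zpowers x) ↥N :=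
      MulAction.compHom ↥N ((MulAut.conjNormal (H := N)).comp (zpowers x).subtype)
    have hmod := (IsPGroup.of_card (G := ↥(zpowers x)) (p := p) (n := 1)
      (by rw [Nat.card_zpowers, hox, pow_one])).card_modEq_card_fixedPoints (↥N)
    have hfp : Nat.card (MulAction.fixedPoints ↥(zpowers x) ↥N) = 1 := by
      rw [Nat.card_eq_one_iff_unique]
      refine ⟨⟨fun a b => ?_⟩, ⟨⟨1, fun z => by
        show MulAut.conjNormal (z : G) (1 : ↥N) = 1
        exact map_one _⟩⟩⟩
      have key : ∀ c : MulAction.fixedPoints ↥(zpowers x) ↥N, (c : ↥N) = 1 := by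
        intro c
        have h : MulAut.conjNormal x (c : ↥N) = c := c.2 ⟨x, mem_zpowers x⟩
        have h' := congrArg Subtype.val h
        rw [MulAut.conjNormal_apply] at h'
        exact Subtype.ext (hfix _ (c : ↥N).2 (mul_inv_eq_iff_eq_mul.mp h'))
      exact Subtype.ext ((key a).trans (key b).symm)
    rw [hfp, ht] at hmod
    have := (ZMod.natCast_eq_natCast_iff _ _ _).mpr hmod
    simpa using this
  -- upper bound
  have hle : q' ^ t ≤ q' ^ e := by
    let _ : CommGroup ↥N := { (inferInstance : Group ↥N) with mul_comm := hNab.is_comm.comm }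
    have : Nontrivial ↥N := (nontrivial_iff_ne_bot N).mpr hN
    let σ : AddMonoid.End (Additive ↥N) :=
      MonoidHom.toAdditive (MulAut.conjNormal (H := N) x).toMonoidHom
    have hσpow : ∀ (i : ℕ) (m : Additive ↥N),
        (σ ^ i) m = Additive.ofMul (MulAut.conjNormal (H := N) (x ^ i) m.toMul) := by
      intro i
      induction i with
      | zero => intro m; simp
      | succ i ih =>
        intro m
        rw [pow_succ', pow_succ']
        show σ ((σ ^ i) m) = _
        rw [ih, map_mul, MulAut.mul_apply]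
        rfl
    have hσ : σ ^ (q' ^ e) = σ := by
      have hmod : q' ^ e % p = 1 := by
        have h := pow_orderOf_eq_one (q' : ZMod p)
        rw [← he, ← Nat.cast_pow, ← Nat.cast_one (R := ZMod p),
          ZMod.natCast_eq_natCast_iff] at h
        rw [h, Nat.mod_eq_of_lt hp.one_lt]
      refine AddMonoidHom.ext fun m => ?_
      refine (hσpow _ m).trans ?_
      rw [← pow_mod_orderOf, hox, hmod, pow_one]
      rfl
    have key := H73.card_le_of_irreducible_end (M := Additive ↥N) he0 (q := q') (fun m => by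
        apply Additive.toMul.injective
        show m.toMul ^ q' = 1
        exact Subtype.ext (hNexp' _ m.toMul.2)) σ hσ
      (fun S hS => by
        let B : Subgroup G := (AddSubgroup.toSubgroup' S).map N.subtype
        rcases hinv B (map_subtype_le _) (fun b hb => by
          obtain ⟨y, hy, rfl⟩ := hb
          exact ⟨MulAut.conjNormal x y, hS (Additive.ofMul y) hy, MulAut.conjNormal_apply _ _⟩) with h | h
        · left
          rw [eq_bot_iff]
          intro m hm
          have : (m.toMul : G) ∈ B := ⟨m.toMul, hm, rfl⟩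
          rw [h, mem_bot, OneMemClass.coe_eq_one] at this
          exact this
        · right
          rw [eq_top_iff]
          intro m _
          obtain ⟨y, hy, hym⟩ : (m.toMul : G) ∈ B := h.symm ▸ m.toMul.2
          have : y = m.toMul := Subtype.ext hym
          show (Additive.ofMul m.toMul) ∈ S
          exact (this ▸ hy : m.toMul ∈ AddSubgroup.toSubgroup' S))
    calc q' ^ t = Nat.card ↥N := ht.symm
      _ = Nat.card (Additive ↥N) := Nat.card_congr Additive.ofMul
      _ ≤ q' ^ e := key
  have het : t = e := le_antisymm ((Nat.pow_le_pow_iff_right hq.one_lt).mp hle)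
    (Nat.le_of_dvd (Nat.pos_of_ne_zero ht0) hge)
  subst het
  exact ⟨q', hq, hqp, hcard, N, hNn, ht, ⟨hNab, hNexp'⟩, hNmin⟩

/-- Say that a finite group is p-exponent closed when its elements of order dividing p form a subgroup. Let G be a finite group that is not p-exponent closed, but all of whose proper subgroups and proper quotients are, and suppose G is neither simple nor a p-group. Then there is a prime q ≠ p such that G has order p · q^e, where e is the multiplicative order of q modulo p, and G has a normal elementary abelian subgroup of order q^e that is a minimal normal subgroup of G. -/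
theorem result {G : Type*} [Group G] [Finite G] {p : ℕ} [Fact p.Prime]
    (hnc : ¬ (∃ H : Subgroup G, (H : Set G) = {g : G | g ^ p = 1})) (hsub : ∀ K : Subgroup G, K ≠ ⊤ → (∃ H : Subgroup ↥K, (H : Set ↥K) = {g : ↥K | g ^ p = 1}))
    (hquo : ∀ (N : Subgroup G) [N.Normal], N ≠ ⊥ → (∃ H : Subgroup (G ⧸ N), (H : Set (G ⧸ N)) = {g : (G ⧸ N) | g ^ p = 1}))
    (hns : ¬ IsSimpleGroup G) (hnp : ¬ IsPGroup p G) :
    ∃ q : ℕ, q.Prime ∧ q ≠ p ∧ Nat.card G = p * q ^ orderOf (q : ZMod p) ∧
      ∃ A : Subgroup G, A.Normal ∧ Nat.card ↥A = q ^ orderOf (q : ZMod p) ∧ Cfsg.IsElementaryAbelian q A ∧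
        ∀ B : Subgroup G, B.Normal → B ≤ A → B = ⊥ ∨ B = A := by
  exact nonsimple_structure hnc hsub hquo hns hnp

end Cfsg.Agent.S3873
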